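import Groth.Statements.S9501
import Mathlib.AlgebraicGeometry.Fiber
import Mathlib.AlgebraicGeometry.Stalk
import Mathlib.AlgebraicGeometry.Morphisms.Preimmersion

set_option autoImplicit false
universe u
open SchMor

namespace Groth.Agent.S9501

open AlgebraicGeometry in
open CategoryTheory in
/-- Let f : X → S be a morphism of schemes, s a point of S and y a point of the fibre X_s = X ×_S Spec
κ(s), mapping to the point x of X (so that f(x) = s). Then the homomorphism of local rings O_{X,x} →
O_{X_s,y} induced by the projection X_s → X is surjective, with kernel the ideal generated by the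
image of the maximal ideal of O_{S,f(x)}; in other words O_{X_s,y} is identified with O_{X,x}/m_s
O_{X,x} = O_{X,x} ⊗_{O_{S,s}} κ(s). -/
theorem result
    {X S : Scheme.{u}} (f : X ⟶ S) (s : S) (y : ↥(f.fiber s)) :
    Function.Surjective ((f.fiberι s).stalkMap y).hom ∧
      RingHom.ker ((f.fiberι s).stalkMap y).hom =
        Ideal.map (f.stalkMap ((f.fiberι s).base y)).hom
          (IsLocalRing.maximalIdeal (S.presheaf.stalk (f.base ((f.fiberι s).base y)))) := by
  set x : X := f.fiberι s y with hx
  have hfx : f x = s := by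
    have : f.fiberι s y ∈ f ⁻¹' {s} := by rw [← Scheme.Hom.range_fiberι]; exact ⟨y, rfl⟩
    exact this
  let τ := S.presheaf.stalkSpecializes (Inseparable.of_eq hfx).specializes
  have hτ : IsIso τ := by
    refine ⟨S.presheaf.stalkSpecializes (Inseparable.of_eq hfx.symm).specializes, ?_, ?_⟩ <;>
      simp [τ]
  have hτS : Spec.map τ ≫ S.fromSpecStalk s = S.fromSpecStalk (f x) :=
    Scheme.SpecMap_stalkSpecializes_fromSpecStalk _
  refine ⟨(f.fiberι s).stalkMap_surjective y, le_antisymm ?_ ?_⟩
  · set I := Ideal.map (f.stalkMap x).hom (IsLocalRing.maximalIdeal (S.presheaf.stalk (f x)))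
    have hI : I ≠ ⊤ := ne_top_of_le_ne_top
      (IsLocalRing.maximalIdeal.isMaximal _).ne_top (Ideal.map_le_iff_le_comap.mpr fun a ha =>
        map_nonunit (f.stalkMap x).hom a ha)
    let Q := CommRingCat.of (X.presheaf.stalk x ⧸ I)
    have : Nontrivial Q := Ideal.Quotient.nontrivial_iff.mpr hI
    let q : X.presheaf.stalk x ⟶ Q := CommRingCat.ofHom (Ideal.Quotient.mk I)
    have : IsLocalRing Q := .of_surjective' q.hom Ideal.Quotient.mk_surjective
    have : IsLocalHom q.hom := IsLocalHom.of_surjective _ Ideal.Quotient.mk_surjective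
    have hker : ∀ a ∈ IsLocalRing.maximalIdeal (S.presheaf.stalk s),
        (τ ≫ f.stalkMap x ≫ q) a = 0 := by
      intro a ha
      refine Ideal.Quotient.eq_zero_iff_mem.mpr (Ideal.mem_map_of_mem _ ?_)
      have : IsLocalHom τ.hom := inferInstance
      exact map_nonunit τ.hom a ha
    let ρ : S.residueField s ⟶ Q := CommRingCat.ofHom
      (Ideal.Quotient.lift (IsLocalRing.maximalIdeal (S.presheaf.stalk s))
        (τ ≫ f.stalkMap x ≫ q).hom hker)
    have w : (Spec.map q ≫ X.fromSpecStalk x) ≫ f = Spec.map ρ ≫ S.fromSpecResidueField s := by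
      rw [Scheme.fromSpecResidueField, ← Spec.map_comp_assoc,
        show S.residue s ≫ ρ = τ ≫ f.stalkMap x ≫ q from rfl, Spec.map_comp, Spec.map_comp,
        Category.assoc, Category.assoc, Category.assoc, hτS, Scheme.SpecMap_stalkMap_fromSpecStalk]
    let h : Spec Q ⟶ f.fiber s := Limits.pullback.lift _ _ w
    have hι : h ≫ f.fiberι s = Spec.map q ≫ X.fromSpecStalk x := Limits.pullback.lift_fst _ _ _
    have hz : h (IsLocalRing.closedPoint Q) = y := by
      refine (f.fiberι s).isEmbedding.injective ?_
      change (h ≫ f.fiberι s) _ = x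
      rw [hι]
      change X.fromSpecStalk x (Spec.map q _) = x
      rw [show Spec.map q (IsLocalRing.closedPoint Q) = IsLocalRing.closedPoint _ from
        IsLocalRing.comap_closedPoint q.hom, Scheme.fromSpecStalk_closedPoint]
    obtain ⟨θ, hθ⟩ : ∃ θ : (f.fiber s).presheaf.stalk y ⟶ Q,
        Spec.map θ ≫ (f.fiber s).fromSpecStalk y = h := by
      rw [← hz]; exact ⟨_, Scheme.Spec_stalkClosedPointTo_fromSpecStalk h⟩
    have hq : (f.fiberι s).stalkMap y ≫ θ = q := by
      apply Spec.map_injective
      rw [← cancel_mono (X.fromSpecStalk x), Spec.map_comp, Category.assoc,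
        Scheme.SpecMap_stalkMap_fromSpecStalk, reassoc_of% hθ, hι]
    intro a ha
    refine Ideal.Quotient.eq_zero_iff_mem.mp ?_
    change q a = 0
    rw [← hq]
    change θ ((f.fiberι s).stalkMap y a) = 0
    rw [RingHom.mem_ker.mp ha, map_zero]
  · rw [Ideal.map_le_iff_le_comap]
    intro a ha
    rw [Ideal.mem_comap, RingHom.mem_ker]
    obtain ⟨ψ, hψ⟩ := Spec.map_surjective
      ((f.fiber s).fromSpecStalk y ≫ f.fiberToSpecResidueField s)
    have h1 : τ ≫ f.stalkMap x ≫ (f.fiberι s).stalkMap y = S.residue s ≫ ψ := by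
      apply Spec.map_injective
      rw [← cancel_mono (S.fromSpecStalk s)]
      simp only [Spec.map_comp, Category.assoc, hτS, hψ]
      have e2 := congrArg (Spec.map ((f.fiberι s).stalkMap y) ≫ ·)
        (Scheme.SpecMap_stalkMap_fromSpecStalk f (x := x))
      simp only at e2
      refine e2.trans ?_
      rw [← Category.assoc]
      have e3 := congrArg (· ≫ f) (Scheme.SpecMap_stalkMap_fromSpecStalk (f.fiberι s) (x := y))
      simp only at e3
      refine e3.trans ?_
      rw [Category.assoc, Scheme.Hom.fiber_fac, Scheme.fromSpecResidueField]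
    obtain ⟨b, rfl⟩ := (ConcreteCategory.bijective_of_isIso τ).2 a
    have hb : b ∈ IsLocalRing.maximalIdeal (S.presheaf.stalk s) := fun hu => ha (hu.map τ.hom)
    change (τ ≫ f.stalkMap x ≫ (f.fiberι s).stalkMap y) b = 0
    rw [h1]
    change ψ (S.residue s b) = 0
    rw [show S.residue s b = 0 from Ideal.Quotient.eq_zero_iff_mem.mpr hb, map_zero]

end Groth.Agent.S9501
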