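import Groth.Statements.S6875
import Mathlib
import Groth.Agent.Calg3.DualTF

set_option autoImplicit false
universe u
open CAlg

namespace Groth.Agent.S6875
open Groth.Calg3


/-- Let `R` be a Noetherian domain, `M` a finite `R`-module and `N` a finite reflexive `R`-module. Then
`Hom_R(M, N)` is reflexive. -/
theorem result (R : Type u) [CommRing R] [IsDomain R] [IsNoetherianRing R]
    (M N : Type u) [AddCommGroup M] [Module R M] [Module.Finite R M] [AddCommGroup N] [Module R N] [Module.Finite R N]
    [Module.IsReflexive R N] : Module.IsReflexive R (M →ₗ[R] N) := by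
  obtain ⟨m, π, hπ⟩ := Module.Finite.exists_fin' R M
  obtain ⟨n, j, hj, hsat⟩ := exists_saturated_embedding (R := R) N
  let f : (M →ₗ[R] N) →ₗ[R] (Fin m → Fin n → R) :=
    { toFun := fun φ i => j (φ (π (Pi.single i 1)))
      map_add' := fun a b => by ext; simp
      map_smul' := fun a b => by ext; simp }
  have hspan : ∀ φ ψ : (Fin m → R) →ₗ[R] N, (∀ i, φ (Pi.single i 1) = ψ (Pi.single i 1)) → φ = ψ :=
    fun φ ψ h => (Pi.basisFun R (Fin m)).ext fun i => by simpa using h i
  refine isReflexive_of_saturated f ?_ ?_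
  · intro a b hab
    ext x
    obtain ⟨v, rfl⟩ := hπ x
    exact LinearMap.congr_fun (hspan (a ∘ₗ π) (b ∘ₗ π) fun i => hj (congrFun hab i)) v
  · rintro c y hc ⟨φ, hφ⟩
    have : ∀ i, ∃ z, j z = y i := fun i => hsat c (y i) hc ⟨φ (π (Pi.single i 1)), congrFun hφ i⟩
    choose z hz using this
    let ψ : (Fin m → R) →ₗ[R] N := Fintype.linearCombination R z
    have hψi : ∀ i, ψ (Pi.single i 1) = z i := fun i => by
      simp [ψ, Fintype.linearCombination_apply_single]
    have hψ : c • ψ = φ ∘ₗ π := hspan _ _ fun i => hj (by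
      simpa [hψi, hz, f] using (congrFun hφ i).symm)
    have hker : LinearMap.ker π ≤ LinearMap.ker ψ := by
      intro v hv
      have h := LinearMap.congr_fun hψ v
      simp [LinearMap.mem_ker.mp hv] at h
      exact h.resolve_left hc
    refine ⟨(LinearMap.ker π).liftQ ψ hker ∘ₗ (π.quotKerEquivOfSurjective hπ).symm.toLinearMap, ?_⟩
    ext i l
    simp [f, LinearMap.quotKerEquivOfSurjective_symm_apply, hψi, hz]

end Groth.Agent.S6875
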