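import Groth.Statements.S9246
import Groth.Agent.Calg4.RegularFlat

set_option autoImplicit false
universe u
open CAlg

namespace Groth.Agent.S9246

/-- Let A → B be an étale ring map and q a prime of B lying over the prime p of A. Then A_p is a regular
local ring if and only if B_q is a regular local ring. -/
theorem result (A B : Type u) [CommRing A] [CommRing B]
    [Algebra A B] [Algebra.Etale A B] (q : Ideal B) [q.IsPrime] :
    IsRegularLocalRing (Localization.AtPrime (Ideal.comap (algebraMap A B) q)) ↔
      IsRegularLocalRing (Localization.AtPrime q) := by
  set p := Ideal.comap (algebraMap A B) q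
  let : Algebra (Localization.AtPrime p) (Localization.AtPrime q) :=
    (Localization.localRingHom p q (algebraMap A B) rfl).toAlgebra
  have : IsScalarTower A (Localization.AtPrime p) (Localization.AtPrime q) :=
    IsScalarTower.of_algebraMap_eq fun a => by
      rw [RingHom.algebraMap_toAlgebra, Localization.localRingHom_to_map,
        IsScalarTower.algebraMap_apply A B (Localization.AtPrime q)]
  have : IsLocalHom (algebraMap (Localization.AtPrime p) (Localization.AtPrime q)) :=
    Localization.isLocalHom_localRingHom p q (algebraMap A B) rfl
  have : Module.Flat A (Localization.AtPrime q) := Module.Flat.trans A B _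
  have : Module.Flat (Localization.AtPrime p) (Localization.AtPrime q) :=
    (Module.flat_iff_of_isLocalization (Localization.AtPrime p) p.primeCompl _).mpr inferInstance
  constructor <;> intro h
  · have : Algebra.EssFiniteType B (Localization.AtPrime q) :=
      Algebra.EssFiniteType.of_isLocalization _ q.primeCompl
    have : Algebra.EssFiniteType A (Localization.AtPrime q) := Algebra.EssFiniteType.comp A B _
    have : Algebra.EssFiniteType (Localization.AtPrime p) (Localization.AtPrime q) :=
      Algebra.EssFiniteType.of_comp A _ _
    have : IsNoetherianRing (Localization.AtPrime q) :=
      Algebra.EssFiniteType.isNoetherianRing (Localization.AtPrime p) _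
    have : Algebra.FormallyUnramified B (Localization.AtPrime q) :=
      Algebra.FormallyUnramified.of_isLocalization q.primeCompl
    have : Algebra.FormallyUnramified A (Localization.AtPrime q) := Algebra.FormallyUnramified.comp A B _
    have : Algebra.FormallyUnramified (Localization.AtPrime p) (Localization.AtPrime q) :=
      Algebra.FormallyUnramified.of_restrictScalars A _ _
    exact Groth.Calg4.isRegularLocalRing_of_flat_of_map_maximalIdeal (Localization.AtPrime p) _
      Algebra.FormallyUnramified.map_maximalIdeal
  · have := Module.FaithfullyFlat.of_flat_of_isLocalHom
      (A := Localization.AtPrime p) (B := Localization.AtPrime q)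
    have : IsNoetherianRing (Localization.AtPrime p) :=
      Groth.Ega4Algebra1.isNoetherianRing_of_faithfullyFlat (Localization.AtPrime p) (Localization.AtPrime q)
    exact Groth.Ega4Algebra1.isRegularLocalRing_of_flat (Localization.AtPrime p) (Localization.AtPrime q)

end Groth.Agent.S9246
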