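import Groth.Statements.S5038
import Groth.Agent.Hensel1.SmoothLift
import Groth.Agent.Hensel1.Pairs

set_option autoImplicit false
open CategoryTheory AlgebraicGeometry
universe u
open Hensel

namespace Groth.Agent.S5038

/-- Let A be a henselian local ring with residue field k, S = Spec A, and f : X ⟶ S a smooth morphism.
Then the map from sections of f to k-points of the closed fibre is surjective: every u₀ : Spec k ⟶ X
lying over the closed point extends to a section u of f. -/
theorem result (A : Type u) [CommRing A] [HenselianLocalRing A]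
    {X : Scheme.{u}} (f : X ⟶ Spec (CommRingCat.of A)) [Smooth f]
    (u₀ : Spec (CommRingCat.of (IsLocalRing.ResidueField A)) ⟶ X)
    (h₀ : u₀ ≫ f = Spec.map (CommRingCat.ofHom (IsLocalRing.residue A))) :
    ∃ u : Spec (CommRingCat.of A) ⟶ X, u ≫ f = 𝟙 _ ∧
      Spec.map (CommRingCat.ofHom (IsLocalRing.residue A)) ≫ u = u₀ := by
  let k := IsLocalRing.ResidueField A
  let x : X := u₀.base (IsLocalRing.closedPoint k)
  obtain ⟨U, hU, hxU, -⟩ := exists_isAffineOpen_mem_and_subset (x := x) (U := ⊤) trivial
  have hrange : Set.range u₀.base ⊆ Set.range hU.fromSpec.base := by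
    rw [hU.range_fromSpec]
    rintro _ ⟨y, rfl⟩
    rw [Subsingleton.elim (α := PrimeSpectrum k) y (IsLocalRing.closedPoint k)]
    exact hxU
  let φ := Spec.preimage (IsOpenImmersion.lift hU.fromSpec u₀ hrange)
  have hφ : Spec.map φ ≫ hU.fromSpec = u₀ := by
    rw [Spec.map_preimage]; exact IsOpenImmersion.lift_fac _ _ hrange
  let ψ := Spec.preimage (hU.fromSpec ≫ f)
  have hψ : ψ.hom.Smooth := by
    refine (HasRingHomProperty.Spec_iff (P := @Smooth)).mp ?_
    rw [Spec.map_preimage]
    infer_instance
  have hcomp : ψ ≫ φ = CommRingCat.ofHom (IsLocalRing.residue A) := Spec.map_injective (by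
    rw [Spec.map_comp, Spec.map_preimage (hU.fromSpec ≫ f), ← Category.assoc, hφ, h₀])
  let := ψ.hom.toAlgebra
  have : Algebra.Smooth A Γ(X, U) := hψ
  let σ : Γ(X, U) →ₐ[A] A ⧸ IsLocalRing.maximalIdeal A :=
    { φ.hom with commutes' := fun a => RingHom.congr_fun (congrArg CommRingCat.Hom.hom hcomp) a }
  have : HenselianRing A (IsLocalRing.maximalIdeal A) := inferInstance
  obtain ⟨t, ht⟩ := Groth.Hensel1.exists_smooth_lift
    (Groth.Hensel1.gabber_of_henselianRing (I := IsLocalRing.maximalIdeal A)) σ
  refine ⟨Spec.map (CommRingCat.ofHom t.toRingHom) ≫ hU.fromSpec, ?_, ?_⟩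
  · rw [Category.assoc, ← Spec.map_preimage (hU.fromSpec ≫ f), ← Spec.map_comp, ← Spec.map_id]
    congr 1
    ext a
    exact t.commutes a
  · rw [← Category.assoc, ← Spec.map_comp, ← hφ]
    congr 2
    ext y
    exact DFunLike.congr_fun ht y

end Groth.Agent.S5038
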