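import Groth.Statements.S4380
import Groth.Agent.Ega2Proj.RelAmple

set_option autoImplicit false
universe u
open CategoryTheory CategoryTheory.Limits AlgebraicGeometry
open EGA2

namespace Groth.Agent.S4380

/-- Let f : X → Y be a quasi-compact morphism, L an O_X-module and (U_i) a cover of Y by open subsets.
Then L is ample relative to f if and only if, for every i, the restriction of L to f⁻¹(U_i) is ample
relative to the restriction f⁻¹(U_i) → U_i of f. -/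
theorem result {X Y : Scheme.{u}} (f : X ⟶ Y) [QuasiCompact f] (L : X.Modules)
    {ι : Type u} (U : ι → Y.Opens) (hU : ⨆ i, U i = ⊤) :
    RelAmple.IsRelAmple f L ↔ ∀ i, RelAmple.IsRelAmple (f ∣_ (U i)) (L.restrict (f ⁻¹ᵁ (U i)).ι) := by
  open Groth.Ega2Proj in
  constructor
  · intro h i
    refine ⟨inferInstance, fun V => ?_⟩
    let Z : (f ⁻¹ᵁ U i).toScheme.Opens := (f ∣_ U i) ⁻¹ᵁ V.1
    have : CompactSpace (Z : Scheme.{u}) :=
      isCompact_iff_compactSpace.mp (QuasiCompact.isCompact_preimage _ V.1.2 V.2.isCompact)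
    refine isAmple_of_iso (restrictRestrictIso Z.ι (f ⁻¹ᵁ U i).ι L) ?_
    refine isAmple_of_isRelAmple h ⟨(U i).ι ''ᵁ V.1, V.2.image_of_isOpenImmersion _⟩ _ ?_
    rintro _ ⟨⟨w, hw⟩, rfl⟩
    exact ⟨_, hw, congr($(morphismRestrict_ι f (U i)) w)⟩
  · intro h
    refine Groth.Ega2Proj.isRelAmple_of_local f fun x => ?_
    obtain ⟨i, hi⟩ := TopologicalSpace.Opens.mem_iSup.mp (hU.ge (Set.mem_univ (f x)))
    obtain ⟨V, hV, hxV, hVU⟩ := exists_isAffineOpen_mem_and_subset hi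
    have hV' : IsAffineOpen ((U i).ι ⁻¹ᵁ V) := by
      rw [← (U i).ι.isAffineOpen_iff_of_isOpenImmersion, Scheme.Hom.image_preimage_eq_opensRange_inf,
        Scheme.Opens.opensRange_ι, inf_eq_right.mpr (show V ≤ U i from hVU)]
      exact hV
    let Z : (f ⁻¹ᵁ U i).toScheme.Opens := (f ∣_ U i) ⁻¹ᵁ ((U i).ι ⁻¹ᵁ V)
    refine ⟨V, Z, Z.ι ≫ (f ⁻¹ᵁ U i).ι, inferInstance, hxV, fun y hy => ?_,
      Groth.Ega2Proj.isAmple_of_iso (Groth.Ega2Proj.restrictRestrictIso Z.ι (f ⁻¹ᵁ U i).ι L).symm ((h i).2 ⟨_, hV'⟩)⟩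
    refine ⟨⟨⟨y, hVU hy⟩, ?_⟩, rfl⟩
    have e := congr($(morphismRestrict_ι f (U i)) (⟨y, hVU hy⟩ : (f ⁻¹ᵁ U i : X.Opens)))
    change (U i).ι ((f ∣_ U i) ⟨y, hVU hy⟩) ∈ V
    exact Eq.mpr (congrArg (fun z => z ∈ V) e) hy

end Groth.Agent.S4380
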