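import Groth.Statements.S9691
import Mathlib
import Groth.Agent.PropsBasic.AmpleSep

set_option autoImplicit false
universe u
open CategoryTheory CategoryTheory.Limits AlgebraicGeometry
open Mor

namespace Groth.Agent.S9691

set_option backward.isDefEq.respectTransparency.types false

/-- Let f : X ⟶ S be a morphism of schemes and L an invertible O_X-module which is ample relative to f.
Then f is separated. -/
theorem result {X S : Scheme.{u}} (f : X ⟶ S) (L : X.Modules)
    (hL : RelAmple.IsRelAmple f L) : IsSeparated f := by
  obtain ⟨-, hA⟩ := hL
  refine (IsZariskiLocalAtTarget.iff_of_iSup_eq_top (P := @IsSeparated)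
    (fun V : S.affineOpens => V.1) (iSup_affineOpens_eq_top S)).mpr fun V => ?_
  obtain ⟨hi, -, hc⟩ := hA V
  have := Groth.PropsBasic.Ample.isSeparated_of_cover hi hc
  have : IsSeparated ((f ∣_ V.1) ≫ Limits.terminal.from _) := by
    rw [Limits.terminal.comp_from]
    exact this.isSeparated_terminal_from
  exact IsSeparated.of_comp (f ∣_ V.1) (Limits.terminal.from _)

end Groth.Agent.S9691
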