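import Groth.Statements.S4442
import Groth.Agent.Variety2.DimTrdeg
import Groth.Agent.Ega2Proj.NormalCurve

set_option autoImplicit false
universe u
open CategoryTheory CategoryTheory.Limits AlgebraicGeometry
attribute [local instance] Curv2.resAlgebra
open EGA2

namespace Groth.Agent.S4442

/-- (a) ⇔ (b): let X be a scheme of finite type over a field k. The residue fields of the generic points
of the irreducible components of X all have transcendence degree one over k if and only if the local
ring of X at every closed point has dimension one. (The published statement has a third equivalent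
condition: the irreducible closed subsets of X other than the irreducible components are exactly the
closed points of X. This row states only the equivalence of the first two.) -/
theorem result (k : Type u) [Field k] (X : Scheme.{u})
    [X.Over (Spec (CommRingCat.of k))] [LocallyOfFiniteType (X ↘ (Spec (CommRingCat.of k)))]
    [QuasiCompact (X ↘ (Spec (CommRingCat.of k)))] :
    (∀ x : X, closure ({x} : Set X) ∈ irreducibleComponents (X : Type u) → Algebra.trdeg k (X.residueField x) = 1) ↔
      ∀ x : X, IsClosed ({x} : Set X) → ringKrullDim (X.presheaf.stalk x) = 1 := by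
  classical
  let str := X ↘ Spec (CommRingCat.of k)
  haveI : JacobsonSpace X := LocallyOfFiniteType.jacobsonSpace str
  have hres : ∀ x : X, Curv2.resMap k X x = Groth.Variety2.Dim.resHom str x := fun x => by
    refine congrArg CommRingCat.Hom.hom (Spec.map_injective (?_ :
      Spec.map (CommRingCat.ofHom (Curv2.resMap k X x)) = Spec.map (CommRingCat.ofHom (Groth.Variety2.Dim.resHom str x))))
    rw [Groth.Variety2.Dim.resHom_spec, show CommRingCat.ofHom (Curv2.resMap k X x) =
      CommRingCat.ofHom (Curv2.stalkMap k X x) ≫ X.residue x from rfl, Spec.map_comp,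
      Groth.Ega2Proj.SpecMap_stalkMap_over]
    exact (Category.assoc _ _ _).symm
  have htr : ∀ x : X, Algebra.trdeg k (X.residueField x) = 1 ↔ Order.height x = 1 := fun x => by
    obtain ⟨n, h1, h2⟩ := Groth.Variety2.Dim.exists_trdegAt_eq_height str x
    have h1' : Algebra.trdeg k (X.residueField x) = n := by
      refine Eq.trans ?_ h1
      show @Algebra.trdeg k (X.residueField x) _ _ (Curv2.resMap k X x).toAlgebra = _
      rw [hres]
      rfl
    rw [h1', h2, Nat.cast_eq_one, Nat.cast_eq_one]
  have hle : ∀ {a b : X}, a ≤ b ↔ b ⤳ a := Iff.rfl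
  have hclosed : ∀ x : X, IsClosed ({x} : Set X) ↔ IsMin x := fun x => by
    refine ⟨fun h b hb => ?_, fun h => isClosed_of_closure_subset fun b hb => ?_⟩
    · have : b ∈ ({x} : Set X) := h.closure_eq ▸ specializes_iff_mem_closure.1 (hle.1 hb)
      exact le_of_eq (Set.mem_singleton_iff.1 this).symm
    · exact Inseparable.eq (Specializes.antisymm (hle.1 (h (hle.2 (specializes_iff_mem_closure.2 hb))))
        (specializes_iff_mem_closure.2 hb))
  have hmax : ∀ x : X, closure ({x} : Set X) ∈ irreducibleComponents X ↔ IsMax x := fun x => by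
    refine ⟨fun h b hb => ?_, fun h => ⟨isIrreducible_singleton.closure, fun t ht hxt => ?_⟩⟩
    · have h1 : closure ({b} : Set X) ⊆ closure {x} :=
        h.2 isIrreducible_singleton.closure (specializes_iff_closure_subset.1 (hle.1 hb))
      exact hle.2 (specializes_iff_closure_subset.2 h1)
    · obtain ⟨z, hz⟩ := QuasiSober.sober ht.closure isClosed_closure
      have hzx : z ⤳ x := hz.specializes (subset_closure (hxt (subset_closure rfl)))
      exact subset_closure.trans (hz.def.symm.subset.trans (specializes_iff_closure_subset.1 (hle.1 (h (hle.2 hzx)))))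
  have hbelow : ∀ b : X, ∃ x : X, x ≤ b ∧ IsMin x := fun b => by
    obtain ⟨x, hx, hxc⟩ := nonempty_inter_closedPoints (Z := closure {b}) ⟨b, subset_closure rfl⟩
      isClosed_closure.isLocallyClosed
    exact ⟨x, hle.2 (specializes_iff_mem_closure.2 hx), (hclosed x).1 hxc⟩
  have habove : ∀ b : X, ∃ η : X, b ≤ η ∧ IsMax η := fun b => by
    obtain ⟨η, hη⟩ := QuasiSober.sober (isIrreducible_irreducibleComponent (x := b)) isClosed_irreducibleComponent
    refine ⟨η, hle.2 (hη.specializes mem_irreducibleComponent), (hmax η).1 ?_⟩
    rw [hη.def]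
    exact irreducibleComponent_mem_irreducibleComponents b
  have hstrict : ∀ {a b : X}, a < b → Order.height a + 1 ≤ Order.height b := fun h => Order.height_add_one_le h
  have hdim : ∀ x : X, ringKrullDim (X.presheaf.stalk x) = 1 ↔ Order.coheight x = 1 := fun x => by
    rw [ringKrullDim_stalk_eq_coheight]
    exact WithBot.coe_inj
  constructor
  · intro H x hx
    have H' : ∀ η : X, IsMax η → Order.height η = 1 := fun η hη => (htr η).1 (H η ((hmax η).2 hη))
    rw [hdim]
    refine le_antisymm ?_ ?_
    · by_contra hc
      obtain ⟨s, hs0, hs⟩ := Order.exists_series_of_le_coheight x (n := 2)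
        (by simpa [one_add_one_eq_two] using Order.add_one_le_of_lt (not_le.1 hc))
      have l1 : s ⟨0, by omega⟩ < s ⟨1, by omega⟩ := s.strictMono (by simp [Fin.lt_def])
      have l2 : s ⟨1, by omega⟩ < s ⟨2, by omega⟩ := s.strictMono (by simp [Fin.lt_def])
      obtain ⟨η, hη, hηmax⟩ := habove (s ⟨2, by omega⟩)
      have a1 := hstrict l1
      have a2 := hstrict l2
      have a3 := Order.height_mono hη
      rw [H' η hηmax] at a3
      have : (2 : ℕ∞) ≤ 1 := by
        calc (2 : ℕ∞) = 0 + 1 + 1 := by norm_num
          _ ≤ Order.height (s ⟨0, by omega⟩) + 1 + 1 := by gcongr; exact zero_le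
          _ ≤ Order.height (s ⟨1, by omega⟩) + 1 := by gcongr
          _ ≤ _ := a2
          _ ≤ 1 := a3
      exact absurd this (by decide)
    · by_contra hc
      have h0 : Order.coheight x = 0 := ENat.lt_one_iff_eq_zero.1 (not_le.1 hc)
      have hm := Order.coheight_eq_zero.1 h0
      have h1 := H' x hm
      rw [Order.height_eq_zero.2 ((hclosed x).1 hx)] at h1
      exact zero_ne_one h1
  · intro H η hη
    have hm := (hmax η).1 hη
    have H' : ∀ x : X, IsMin x → Order.coheight x = 1 := fun x hx => (hdim x).1 (H x ((hclosed x).2 hx))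
    rw [htr]
    refine le_antisymm ?_ ?_
    · by_contra hc
      obtain ⟨s, hs0, hs⟩ := Order.exists_series_of_le_height η (n := 2)
        (by simpa [one_add_one_eq_two] using Order.add_one_le_of_lt (not_le.1 hc))
      have l1 : s ⟨0, by omega⟩ < s ⟨1, by omega⟩ := s.strictMono (by simp [Fin.lt_def])
      have l2 : s ⟨1, by omega⟩ < s ⟨2, by omega⟩ := s.strictMono (by simp [Fin.lt_def])
      obtain ⟨x, hx, hxmin⟩ := hbelow (s ⟨0, by omega⟩)
      have a3 := Order.coheight_anti hx
      rw [H' x hxmin] at a3
      have a1 := Order.coheight_add_one_le l1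
      have a2 := Order.coheight_add_one_le l2
      have : (2 : ℕ∞) ≤ 1 := by
        calc (2 : ℕ∞) = 0 + 1 + 1 := by norm_num
          _ ≤ Order.coheight (s ⟨2, by omega⟩) + 1 + 1 := by gcongr; exact zero_le
          _ ≤ Order.coheight (s ⟨1, by omega⟩) + 1 := by gcongr
          _ ≤ _ := a1
          _ ≤ 1 := a3
      exact absurd this (by decide)
    · by_contra hc
      have h0 : Order.height η = 0 := ENat.lt_one_iff_eq_zero.1 (not_le.1 hc)
      have h1 := H' η (Order.height_eq_zero.1 h0)
      rw [Order.coheight_eq_zero.2 hm] at h1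
      exact zero_ne_one h1

end Groth.Agent.S4442
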