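import Groth.Statements.S4454
import Groth.Agent.Agf.CurveNormalization
-- import your own Groth.Agent.* helpers here

set_option autoImplicit false
universe u
open CategoryTheory CategoryTheory.Limits AlgebraicGeometry
open EGA2

namespace Groth.Agent.S4454

open Groth.Agf.CurveNormalization in
theorem isNagata_section (k : Type u) [Field k] (X : Scheme.{u}) (f : X ⟶ Spec (CommRingCat.of k))
    [LocallyOfFiniteType f] (U : X.Opens) (hU : IsAffineOpen U) : CAlg.IsNagata Γ(X, U) := by
  let h := (Scheme.ΓSpecIso (CommRingCat.of k)).inv ≫ f.appLE ⊤ U le_top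
  letI : Algebra k Γ(X, U) := h.hom.toAlgebra
  haveI : Algebra.FiniteType k Γ(X, U) := by
    have h1 : (f.appLE ⊤ U le_top).hom.FiniteType :=
      HasRingHomProperty.appLE @LocallyOfFiniteType f inferInstance ⟨⊤, isAffineOpen_top _⟩ ⟨U, hU⟩ le_top
    have h2 : ((Scheme.ΓSpecIso (CommRingCat.of k)).inv).hom.FiniteType :=
      RingHom.FiniteType.of_surjective _
        (Scheme.ΓSpecIso (CommRingCat.of k)).commRingCatIsoToRingEquiv.symm.surjective
    exact h1.comp h2
  exact Groth.Calg1.isNagata_of_finiteType (R := k) (isNagata_field k)

/-- Case of an integral curve and a single field: let X be an integral algebraic curve over a field k, K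
a finite extension of its field of rational functions and X' the integral closure of X in K (the
normalization of X along the morphism g : Spec K ⟶ X through the generic point). Then the canonical
morphism X' ⟶ X is finite and X' is a normal algebraic curve over k (local rings integrally closed
domains, of dimension one at closed points). -/
theorem result (k : Type u) [Field k] (X : Scheme.{u})
    [X.Over (Spec (CommRingCat.of k))] [LocallyOfFiniteType (X ↘ (Spec (CommRingCat.of k)))]
    [QuasiCompact (X ↘ (Spec (CommRingCat.of k)))] [IsSeparated (X ↘ (Spec (CommRingCat.of k)))] [IsIntegral X]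
    (hX : ∀ x : X, IsClosed ({x} : Set X) → ringKrullDim (X.presheaf.stalk x) = 1)
    (K : Type u) [Field K] (φ : X.functionField →+* K) (hφ : φ.Finite) (g : Spec (CommRingCat.of K) ⟶ X)
    (hg : g = Spec.map (CommRingCat.ofHom φ) ≫ X.fromSpecStalk (genericPoint X)) [QuasiCompact g] [QuasiSeparated g] :
    IsFinite g.fromNormalization ∧ Pi1.IsNormalScheme g.normalization ∧
      ∀ x' : g.normalization, IsClosed ({x'} : Set g.normalization) → ringKrullDim (g.normalization.presheaf.stalk x') = 1 := by
  open Groth.Agf.CurveNormalization in
  have hfin : IsFinite g.fromNormalization :=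
    isFinite_fromNormalization X K φ g hg hφ fun U hU _ => isNagata_section k X (X ↘ _) U hU
  haveI := hfin
  refine ⟨hfin, Groth.Ega2Proj.isNormalScheme_normalization X K φ g hg, fun x' hx' => ?_⟩
  refine Groth.Agf.CurveNormalization.stalk_dim_one g.fromNormalization (fun U hU => ?_) x'
    (hX _ (by simpa using g.fromNormalization.isClosedMap _ hx'))
  obtain ⟨⟨z, hz⟩⟩ := hU
  have hξ : genericPoint X ∈ U := ((genericPoint_spec X).specializes trivial).mem_open U.2 hz
  haveI : Nonempty (U : Scheme.{u}) := ⟨⟨z, hz⟩⟩
  have hinj : Function.Injective (φ.comp (X.presheaf.germ U (genericPoint X) hξ).hom) :=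
    φ.injective.comp (germ_injective_of_isIntegral X _ _)
  obtain ⟨V, hV, hzV, hVU⟩ := exists_isAffineOpen_mem_and_subset (x := z) (U := U) hz
  have hξV : genericPoint X ∈ V := ((genericPoint_spec X).specializes trivial).mem_open V.2 hzV
  obtain ⟨κ, -, -, hκ⟩ := Groth.Agf.CurveNormalization.exists_injective_hom X K φ g hg hV hξV
  intro a b hab
  apply hinj
  have h := congrArg (fun t => κ ((g.normalization.presheaf.map
    (homOfLE ((TopologicalSpace.Opens.map g.fromNormalization.base).map (homOfLE hVU)).le).op).hom t)) hab
  have nat : ∀ c, (g.normalization.presheaf.map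
      (homOfLE ((TopologicalSpace.Opens.map g.fromNormalization.base).map (homOfLE hVU)).le).op).hom
      ((g.fromNormalization.app U).hom c) =
      (g.fromNormalization.app V).hom ((X.presheaf.map (homOfLE hVU).op).hom c) := fun c =>
    (congrArg (fun m => CommRingCat.Hom.hom m c) (g.fromNormalization.naturality (homOfLE hVU).op)).symm
  simp only [nat] at h
  have e : ∀ c, κ ((g.fromNormalization.app V).hom c) = φ ((X.presheaf.germ V (genericPoint X) hξV).hom c) :=
    fun c => congrArg (fun m : Γ(X, V) →+* K => m c) hκ
  simp only [e] at h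
  have r : ∀ c, (X.presheaf.germ U (genericPoint X) hξ).hom c =
      (X.presheaf.germ V (genericPoint X) hξV).hom ((X.presheaf.map (homOfLE hVU).op).hom c) := fun c =>
    (congrArg (fun m => CommRingCat.Hom.hom m c) (X.presheaf.germ_res (homOfLE hVU) (genericPoint X) hξV)).symm
  change φ _ = φ _
  rw [r, r]
  exact h

end Groth.Agent.S4454
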