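import Groth.Statements.S9673
import Groth.Agent.PropsBasic.NormalizationNormal

set_option autoImplicit false
universe u
open CategoryTheory CategoryTheory.Limits AlgebraicGeometry
open Mor

namespace Groth.Agent.S9673

set_option backward.isDefEq.respectTransparency.types false

/-- Let f : Y ⟶ X be quasi-compact and quasi-separated, with Y normal and the irreducible components of
Y locally finite (equivalently, each quasi-compact open subset of Y meets only finitely many of
them). Let X' be the normalization of X in Y and f' : Y ⟶ X' the canonical morphism. Then X' is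
normal with locally finitely many irreducible components (hence a disjoint union of normal integral
schemes), f' maps generic points of irreducible components of Y to generic points of irreducible
components of X', and over each generic point of a component of X' there lies exactly one generic
point of a component of Y. (Dominance of f' holds for every quasi-compact quasi-separated f and is
not restated.) -/
theorem result {X Y : Scheme.{u}} (f : Y ⟶ X)
    [QuasiCompact f] [QuasiSeparated f] (hY : Pi1.IsNormalScheme Y)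
    (hfin : LocallyFinite (fun Z : ↥(irreducibleComponents ↥Y) => (Z : Set ↥Y))) :
    Pi1.IsNormalScheme f.normalization ∧
    LocallyFinite (fun Z : ↥(irreducibleComponents ↥f.normalization) => (Z : Set ↥f.normalization)) ∧
    (∀ y : Y, closure {y} ∈ irreducibleComponents ↥Y →
      closure {f.toNormalization.base y} ∈ irreducibleComponents ↥f.normalization) ∧
    (∀ x' : ↥f.normalization, closure {x'} ∈ irreducibleComponents ↥f.normalization →
      ∃! y : Y, closure {y} ∈ irreducibleComponents ↥Y ∧ f.toNormalization.base y = x') := by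
  have hbase : ∀ x' : ↥f.normalization, ∃ U : X.Opens, IsAffineOpen U ∧
      x' ∈ f.fromNormalization ⁻¹ᵁ U ∧
      Finite (Groth.PropsBasic.NormalizationNormal.Gen (f ⁻¹ᵁ U)) := fun x' => by
    obtain ⟨U, hU, hxU, -⟩ := TopologicalSpace.Opens.isBasis_iff_nbhd.mp X.isBasis_affineOpens
      (TopologicalSpace.Opens.mem_top (f.fromNormalization.base x'))
    exact ⟨U, hU, hxU,
      Groth.PropsBasic.NormalizationNormal.finite_gen hfin (f.isCompact_preimage hU.isCompact)⟩
  have hmemU : ∀ (U : X.Opens) (y : Y),
      f.toNormalization.base y ∈ f.fromNormalization ⁻¹ᵁ U → y ∈ f ⁻¹ᵁ U := fun U y h => by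
    have h' : y ∈ f.toNormalization ⁻¹ᵁ f.fromNormalization ⁻¹ᵁ U := h
    rwa [← Scheme.Hom.comp_preimage, Scheme.Hom.toNormalization_fromNormalization] at h'
  have hmemV : ∀ (U : X.Opens) (y : Y), y ∈ f ⁻¹ᵁ U →
      f.toNormalization.base y ∈ f.fromNormalization ⁻¹ᵁ U := fun U y h => by
    show y ∈ f.toNormalization ⁻¹ᵁ f.fromNormalization ⁻¹ᵁ U
    rwa [← Scheme.Hom.comp_preimage, Scheme.Hom.toNormalization_fromNormalization]
  refine ⟨fun x' => ?_, fun x' => ?_, fun y hy => ?_, fun x' hx' => ?_⟩
  · obtain ⟨U, hU, hxU, _⟩ := hbase x'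
    exact (Groth.PropsBasic.NormalizationNormal.local_structure f hY hU).1 x' hxU
  · obtain ⟨U, hU, hxU, _⟩ := hbase x'
    obtain ⟨-, -, h3, -⟩ := Groth.PropsBasic.NormalizationNormal.local_structure f hY hU
    refine ⟨f.fromNormalization ⁻¹ᵁ U, (f.fromNormalization ⁻¹ᵁ U).isOpen.mem_nhds hxU, ?_⟩
    refine Set.Finite.of_finite_image (f := fun Z : ↥(irreducibleComponents ↥f.normalization) =>
      (Z : Set ↥f.normalization)) ?_ (fun Z _ Z' _ h => Subtype.ext h)
    refine (Set.finite_range fun η : Groth.PropsBasic.NormalizationNormal.Gen (f ⁻¹ᵁ U) =>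
      closure ({f.toNormalization.base η.1} : Set ↥f.normalization)).subset ?_
    rintro _ ⟨⟨Z, hZ⟩, ⟨z, hzZ, hzV⟩, rfl⟩
    obtain ⟨ξ, hξ⟩ := QuasiSober.sober hZ.1 (isClosed_of_mem_irreducibleComponents Z hZ)
    have hξV := (hξ.specializes hzZ).mem_open (f.fromNormalization ⁻¹ᵁ U).isOpen hzV
    obtain ⟨η, hη⟩ := h3 ξ hξV
    have hξ' := (Groth.PropsBasic2.closure_mem_irreducibleComponents_iff ξ).mp (hξ.def.symm ▸ hZ) _ hη
    exact ⟨η, by simp only [hξ', hξ.def]⟩
  · obtain ⟨U, hU, hxU, _⟩ := hbase (f.toNormalization.base y)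
    obtain ⟨-, h2, -, -⟩ := Groth.PropsBasic.NormalizationNormal.local_structure f hY hU
    exact (Groth.PropsBasic2.closure_mem_irreducibleComponents_iff _).mpr
      (h2 ⟨y, hmemU U y hxU, hy⟩)
  · obtain ⟨U, hU, hxU, _⟩ := hbase x'
    obtain ⟨-, -, h3, h4⟩ := Groth.PropsBasic.NormalizationNormal.local_structure f hY hU
    obtain ⟨η, hη⟩ := h3 x' hxU
    have hηx := (Groth.PropsBasic2.closure_mem_irreducibleComponents_iff x').mp hx' _ hη
    refine ⟨η.1, ⟨η.2.2, hηx⟩, fun y ⟨hy, hyx⟩ => ?_⟩
    exact congrArg Subtype.val (@h4 ⟨y, hmemU U y (hyx.symm ▸ hxU), hy⟩ η (hyx.trans hηx.symm))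

end Groth.Agent.S9673
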