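import Groth.Statements.S6279
import Groth.Agent.Ega4Algebra2.NormalTensor
-- import your own Groth.Agent.* helpers here

set_option autoImplicit false
universe u
open CAlg

namespace Groth.Agent.S6279

/-- A finite product of normal rings is normal (a ring is normal when every localization at a prime is
an integrally closed domain). -/
theorem result {ι : Type u} [Finite ι] (A : ι → Type u) [∀ i, CommRing (A i)] (hA : ∀ i, EGA4.IsNormalRing (A i)) : EGA4.IsNormalRing (∀ i, A i) := by
  classical
  refine Groth.Ega4b.isNormalRing_of_forall fun P hP => ?_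
  obtain ⟨i, hi⟩ : ∃ i, (Pi.single i 1 : ∀ i, A i) ∉ P := by
    by_contra! hall
    have := Fintype.ofFinite ι
    refine hP.ne_top ((Ideal.eq_top_iff_one _).mpr ?_)
    rw [show (1 : ∀ i, A i) = ∑ i, Pi.single i 1 from (Finset.univ_sum_single _).symm]
    exact Ideal.sum_mem _ fun i _ => hall i
  letI : Algebra (∀ i, A i) (A i) := (Pi.evalRingHom A i).toAlgebra
  have hidem : IsIdempotentElem (Pi.single i 1 : ∀ i, A i) := by
    simp [IsIdempotentElem, ← Pi.single_mul_left]
  haveI : IsLocalization.Away (Pi.single i 1 : ∀ i, A i) (A i) :=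
    IsLocalization.away_of_isIdempotentElem hidem (RingHom.ker_evalRingHom _ _) (Pi.evalRingHom A i).surjective
  refine ⟨Submonoid.powers (Pi.single i 1), A i, inferInstance, inferInstance, inferInstance, ?_, hA i⟩
  rw [Set.disjoint_left]
  rintro _ ⟨n, rfl⟩ hn
  exact hi (hP.mem_of_pow_mem n hn)

end Groth.Agent.S6279
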