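import Groth.Statements.S10860
import Groth.Agent.PropsBasic2.Misc

set_option autoImplicit false
universe u
open Mor

namespace Groth.Agent.S10860

open CategoryTheory AlgebraicGeometry in
/-- For a proper morphism f : X → Y, the set V of points of Y with finite fibre is open, and f
restricted over V is finite (stated as the existence of an open subscheme of Y whose underlying set
is exactly V and over which f is finite). -/
theorem result {X Y : Scheme.{u}} (f : X ⟶ Y) [IsProper f] :
    ∃ U : Y.Opens, (U : Set Y) = {y : Y | (f.base ⁻¹' {y}).Finite} ∧ IsFinite (f ∣_ U) := by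
  refine ⟨⨆ V : {V : Y.Opens // IsFinite (f ∣_ V)}, V.1, ?_, ?_⟩
  · ext y
    rw [SetLike.mem_coe, TopologicalSpace.Opens.mem_iSup, Set.mem_ofPred_eq]
    constructor
    · rintro ⟨⟨V, hV⟩, hy⟩
      have h := (f ∣_ V).finite_preimage_singleton ⟨y, hy⟩
      refine (h.image (f ⁻¹ᵁ V).ι).subset fun x hx => ?_
      have hxV : x ∈ f ⁻¹ᵁ V := by
        show f x ∈ V
        rw [show f x = y from hx]; exact hy
      refine ⟨⟨x, hxV⟩, ?_, rfl⟩
      exact Subtype.ext ((morphismRestrict_base_coe f V ⟨x, hxV⟩).trans hx)
    · intro hy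
      obtain ⟨V, hyV, hV⟩ := exists_isFinite_morphismRestrict_of_finite_preimage_singleton f y hy
      exact ⟨⟨V, hV⟩, hyV⟩
  · exact Groth.PropsBasic2.isFinite_morphismRestrict_iSup f (fun V : {V : Y.Opens // IsFinite (f ∣_ V)} => V.1)
      (fun V => V.2)

end Groth.Agent.S10860
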