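import Groth.Statements.S9516
import Groth.Agent.CohTwo.IdealMulPow

set_option autoImplicit false
universe u
open CategoryTheory CategoryTheory.Limits AlgebraicGeometry
attribute [local instance] HasDerivedCategory.standard
open Coherent

namespace Groth.Agent.S9516

/-- Let X be a Noetherian scheme, F a quasi-coherent O_X-module, G a coherent O_X-module and I a
quasi-coherent sheaf of ideals, with U the open complement of the closed subset cut out by I. If a
morphism ψ : I^n G → F restricts to zero on U, then ψ vanishes on I^N G for some N: there is a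
morphism ι : I^N G → I^n G commuting with the inclusions into G and with ι ≫ ψ = 0. (Together with
the surjectivity statement this says that colim_n Hom(I^n G, F) → Hom(G|_U, F|_U) is bijective.) -/
theorem result (X : Scheme.{u}) [IsNoetherian X] (F G : X.Modules)
    (hF : Coh.IsQCoh F) (hG : Coh.IsCoh G) (I : X.IdealSheafData)
    (U : X.Opens) (hU : (U : Set X) = (I.support : Set X)ᶜ) (n : ℕ)
    (ψ : (Dual3.idealMul (I ^ n)).obj G ⟶ F)
    (hψ : (Scheme.Modules.restrictFunctor U.ι).map ψ = 0) :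
    ∃ (N : ℕ) (ι : (Dual3.idealMul (I ^ N)).obj G ⟶ (Dual3.idealMul (I ^ n)).obj G),
      ι ≫ Dual3.idealMulι (I ^ n) G = Dual3.idealMulι (I ^ N) G ∧ ι ≫ ψ = 0 := by
  classical
  haveI : F.IsQuasicoherent := hF
  haveI : G.IsQuasicoherent := hG.1
  haveI := Groth.CohTwo.isQCoh_idealMul (I ^ n) G
  have hH := Groth.CohTwo.isCoh_idealMul (I ^ n) G hG
  obtain ⟨s, hs⟩ := Groth.PropsBasic2.exists_finite_affine_cover X
  have key : ∀ V : X.affineOpens, ∃ m : ℕ, ∀ r ∈ I.ideal V ^ m,
      ∀ h : Γ((Dual3.idealMul (I ^ n)).obj G, V.1), r • ψ.app V.1 h = 0 := by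
    intro V
    haveI := Groth.QCohMod.finite_sections _ hH.2 V.2
    let L := Groth.QCohMod.appₗ ψ V.1
    have hfg : (LinearMap.range L).FG := by
      rw [← Submodule.map_top]
      exact Submodule.FG.map _ Module.Finite.fg_top
    obtain ⟨T, hT⟩ := hfg
    have hrad : I.ideal V ≤ (LinearMap.range L).annihilator.radical := by
      intro f hf
      have : ∀ z ∈ T, ∃ k : ℕ, f ^ k • z = 0 := by
        intro z hz
        obtain ⟨h, rfl⟩ : z ∈ LinearMap.range L := hT ▸ Submodule.subset_span hz
        refine Groth.QCohMod.exists_pow_smul_eq_zero F V.2 f _ ?_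
        have := Groth.CohTwo.app_eq_zero_of_restrict ψ hψ
          (Groth.CohTwo.basicOpen_le_compl_support I hU V.2 hf)
          (Groth.QCohMod.res _ (X.basicOpen_le f) h)
        rwa [← Groth.QCohMod.res_app] at this
      choose k hk using this
      refine ⟨T.attach.sup fun z => k z.1 z.2, ?_⟩
      rw [Submodule.mem_annihilator, ← hT]
      intro z hz
      induction hz using Submodule.span_induction with
      | mem z hz =>
        obtain ⟨e, he⟩ := Nat.exists_eq_add_of_le
          (Finset.le_sup (f := fun z : T => k z.1 z.2) (Finset.mem_attach T ⟨z, hz⟩))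
        rw [he, add_comm, pow_add, mul_smul]
        erw [hk z hz]
        rw [smul_zero]
      | zero => rw [smul_zero]
      | add a b _ _ ha hb => rw [smul_add, ha, hb, add_zero]
      | smul c a _ ha => rw [smul_comm, ha, smul_zero]
    haveI := IsLocallyNoetherian.component_noetherian (X := X) V
    obtain ⟨m, hm⟩ := Ideal.exists_pow_le_of_le_radical_of_fg hrad (IsNoetherian.noetherian _)
    exact ⟨m, fun r hr h => Submodule.mem_annihilator.1 (hm hr) _ ⟨h, rfl⟩⟩
  choose m hm using key
  let M := s.sup m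
  obtain ⟨ι, hι⟩ := Groth.CohTwo.exists_pow_incl I (Nat.le_add_right n M) G
  refine ⟨n + M, ι, hι, ?_⟩
  haveI := Groth.CohTwo.isQCoh_idealMul (I ^ (n + M)) G
  refine Groth.CohTwo.eq_zero_of_affine_cover (ι ≫ ψ) (fun V : s => (V.1 : X.Opens)) (fun V => V.1.2)
    (fun x => TopologicalSpace.Opens.mem_iSup.1 (hs.ge (show x ∈ (⊤ : X.Opens) from trivial))) ?_
  intro V a
  let β := Groth.QCohMod.appₗ (Dual3.idealMulι (I ^ n) G) V.1.1
  let P : Submodule Γ(X, V.1.1) Γ(G, V.1.1) :=
    Submodule.map β (LinearMap.ker (Groth.QCohMod.appₗ ψ V.1.1))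
  have hP : I.ideal V.1 ^ (n + M) • (⊤ : Submodule Γ(X, V.1.1) Γ(G, V.1.1)) ≤ P := by
    rw [add_comm, pow_add, Submodule.mul_smul]
    refine Submodule.smul_le.2 fun r hr z hz => ?_
    obtain ⟨h, rfl⟩ := (Groth.CohTwo.range_idealMulι_pow I n G V.1.2 z).2 hz
    refine ⟨r • h, ?_, (Groth.QCohMod.appₗ _ _).map_smul r h⟩
    have : r ∈ I.ideal V.1 ^ m V.1 := Ideal.pow_le_pow_right (Finset.le_sup V.2) hr
    change ψ.app V.1.1 (r • h) = 0
    rw [ψ.app_smul]
    exact hm V.1 r this h
  obtain ⟨h, hh, hβ⟩ := hP ((Groth.CohTwo.range_idealMulι_pow I (n + M) G V.1.2 _).1 ⟨a, rfl⟩)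
  have : h = ι.app V.1.1 a := Groth.QCohMod.app_injective_of_mono (Dual3.idealMulι (I ^ n) G) _
    (hβ.trans (congr(($hι).app V.1.1 a)).symm)
  change ψ.app V.1.1 (ι.app V.1.1 a) = 0
  rw [← this]
  exact hh

end Groth.Agent.S9516
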