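import Groth.Statements.S9515
import Groth.Agent.CohTwo.CohSub
import Groth.Agent.CohTwo.SubobjectSections
import Groth.Agent.CohTwo.Extend
import Groth.Agent.S9516
import Mathlib.RingTheory.Filtration

set_option autoImplicit false
universe u
open CategoryTheory CategoryTheory.Limits AlgebraicGeometry
attribute [local instance] HasDerivedCategory.standard
open Coherent

namespace Groth.Agent.S9515

open Groth.QCohMod in
/-- A morphism on `U` lands in a coherent submodule. -/
theorem exists_coh_factor {X : Scheme.{u}} [IsNoetherian X] (F G : X.Modules) [F.IsQuasicoherent]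
    (hG : Coh.IsCoh G) (U : X.Opens)
    (φ : (Scheme.Modules.restrictFunctor U.ι).obj G ⟶ (Scheme.Modules.restrictFunctor U.ι).obj F) :
    ∃ (F0 : X.Modules) (i : F0 ⟶ F) (φ0 : (Scheme.Modules.restrictFunctor U.ι).obj G ⟶
        (Scheme.Modules.restrictFunctor U.ι).obj F0),
      Mono i ∧ Coh.IsCoh F0 ∧ φ0 ≫ (Scheme.Modules.restrictFunctor U.ι).map i = φ := by
  classical
  haveI : CompactSpace (U : Scheme.{u}) :=
    isCompact_iff_compactSpace.1 (TopologicalSpace.NoetherianSpace.isCompact (U : Set X))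
  obtain ⟨T, hT⟩ := Groth.PropsBasic2.exists_finite_affine_cover X
  obtain ⟨TU, hTU⟩ := Groth.PropsBasic2.exists_finite_affine_cover (U : Scheme.{u})
  let W : T ⊕ TU → X.Opens := Sum.elim (fun V => V.1.1) (fun V => U.ι ''ᵁ V.1.1)
  have hW : ∀ j, IsAffineOpen (W j) := by
    rintro (V | V)
    · exact V.1.2
    · exact V.1.2.image_of_isOpenImmersion U.ι
  have hfin : ∀ V : TU, ∃ A : Finset Γ(G, U.ι ''ᵁ V.1.1),
      Submodule.span Γ(X, U.ι ''ᵁ V.1.1) (A : Set Γ(G, U.ι ''ᵁ V.1.1)) = ⊤ := fun V => by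
    haveI := hG.1
    exact (finite_sections G hG.2 (V.1.2.image_of_isOpenImmersion U.ι)).fg_top
  choose A hA using hfin
  let S : ∀ j, Finset Γ(F, W j) := fun j => match j with
    | .inl _ => ∅
    | .inr V => (A V).image fun a : Γ(G, U.ι ''ᵁ V.1.1) =>
        (show Γ(F, U.ι ''ᵁ V.1.1) from φ.app V.1.1 a)
  obtain ⟨F0, i, hi, hF0, hS⟩ := Groth.CohTwo.exists_coh_sub F W hW (fun x => by
    obtain ⟨V, hV⟩ := TopologicalSpace.Opens.mem_iSup.1 (hT.ge (show x ∈ (⊤ : X.Opens) from trivial))
    exact ⟨.inl V, hV⟩) S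
  haveI := hG.1
  haveI : ((Scheme.Modules.restrictFunctor U.ι).obj G).IsQuasicoherent :=
    Scheme.Modules.isQuasicoherent_restrictFunctor U.ι G
  haveI : Mono ((Scheme.Modules.restrictFunctor U.ι).map i) := Groth.CohTwo.mono_restrictMap U.ι i
  obtain ⟨φ0, hφ0⟩ := Groth.CohTwo.exists_lift_of_cover φ ((Scheme.Modules.restrictFunctor U.ι).map i)
    (fun V : TU => V.1.1) (fun V => V.1.2)
    (fun x => TopologicalSpace.Opens.mem_iSup.1
      (hTU.ge (show x ∈ (⊤ : (U : Scheme.{u}).Opens) from trivial))) (by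
    intro V
    rintro _ ⟨a, rfl⟩
    have ha : (show Γ(G, U.ι ''ᵁ V.1.1) from a) ∈ Submodule.span Γ(X, U.ι ''ᵁ V.1.1)
        (A V : Set Γ(G, U.ι ''ᵁ V.1.1)) := (hA V).ge trivial
    change φ.app V.1.1 (show Γ(G, U.ι ''ᵁ V.1.1) from a) ∈ Set.range (i.app (U.ι ''ᵁ V.1.1))
    generalize (show Γ(G, U.ι ''ᵁ V.1.1) from a) = z at ha ⊢
    induction ha using Submodule.span_induction with
    | mem z hz => exact hS (.inr V) _ (Finset.mem_image_of_mem _ hz)
    | zero => exact ⟨0, (map_zero _).trans (map_zero (φ.app V.1.1).hom).symm⟩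
    | add y z _ _ hy hz =>
      obtain ⟨a, ha⟩ := hy
      obtain ⟨b, hb⟩ := hz
      exact ⟨a + b, (map_add _ a b).trans
        ((congrArg₂ (· + ·) ha hb).trans (map_add (φ.app V.1.1).hom y z).symm)⟩
    | smul r z _ hz =>
      obtain ⟨a, ha⟩ := hz
      let r' := (U.ι.appIso V.1.1).hom r
      have hr : r = (U.ι.appIso V.1.1).inv r' := ((U.ι.appIso V.1.1).hom_inv_id_apply r).symm
      refine ⟨r • a, (i.app_smul r a).trans ((congrArg (r • ·) ha).trans ?_)⟩
      have h2 := φ.app_smul (U := V.1.1) r' (show Γ((Scheme.Modules.restrictFunctor U.ι).obj G, V.1.1) from z)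
      rw [hr]
      exact h2.symm)
  exact ⟨F0, i, φ0, hi, hF0, hφ0⟩

/-- Let X be a Noetherian scheme, F a quasi-coherent O_X-module, G a coherent O_X-module and I a
quasi-coherent sheaf of ideals, with U the open complement of the closed subset cut out by I. For
every morphism φ : G|_U → F|_U there are an n ≥ 0 and a morphism ψ : I^n G → F whose restriction to
U is the restriction of the inclusion I^n G → G followed by φ. (Here I^n G ⊆ G is the submodule
sheaf Dual3.idealMul (I^n) G.) -/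
theorem result (X : Scheme.{u}) [IsNoetherian X] (F G : X.Modules)
    (hF : Coh.IsQCoh F) (hG : Coh.IsCoh G) (I : X.IdealSheafData)
    (U : X.Opens) (hU : (U : Set X) = (I.support : Set X)ᶜ)
    (φ : (Scheme.Modules.restrictFunctor U.ι).obj G ⟶
      (Scheme.Modules.restrictFunctor U.ι).obj F) :
    ∃ (n : ℕ) (ψ : (Dual3.idealMul (I ^ n)).obj G ⟶ F),
      (Scheme.Modules.restrictFunctor U.ι).map ψ =
        (Scheme.Modules.restrictFunctor U.ι).map (Dual3.idealMulι (I ^ n) G) ≫ φ := by
  classical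
  haveI : F.IsQuasicoherent := hF
  haveI := hG.1
  obtain ⟨F0, i0, φ0, hi0, hF0, hφ0⟩ := exists_coh_factor F G hG U φ
  haveI := hF0.1
  let R := Scheme.Modules.restrictFunctor U.ι
  let adj := Scheme.Modules.restrictAdjunction U.ι
  haveI : PreservesBinaryBiproducts R := preservesBinaryBiproducts_of_preservesBinaryCoproducts R
  haveI : R.Additive := Functor.additive_of_preservesBinaryBiproducts R
  haveI : (R.obj F0).IsQuasicoherent := Scheme.Modules.isQuasicoherent_restrictFunctor U.ι F0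
  haveI : ((Scheme.Modules.pushforward U.ι).obj (R.obj F0)).IsQuasicoherent :=
    Groth.QCohMod.isQCoh_pushforward _ U.ι
  let v : G ⟶ (Scheme.Modules.pushforward U.ι).obj (R.obj F0) := adj.homEquiv _ _ φ0
  let uF := adj.unit.app F0
  let d := biprod.desc v (-uF)
  have hH : Coh.IsCoh (kernel d) :=
    Groth.QCohMod.isCoh_kernel d (Groth.QCohMod.isCoh_biprod hG hF0)
  haveI := hH.1
  let p : kernel d ⟶ G := kernel.ι d ≫ biprod.fst
  let q : kernel d ⟶ F0 := kernel.ι d ≫ biprod.snd
  have hcond : p ≫ v = q ≫ uF := by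
    have h : kernel.ι d ≫ (biprod.fst ≫ v + biprod.snd ≫ (-uF)) = 0 := by
      rw [← biprod.desc_eq]
      exact kernel.condition d
    simp only [Preadditive.comp_neg, Preadditive.comp_add] at h
    rw [← sub_eq_add_neg, sub_eq_zero] at h
    simp only [p, q, Category.assoc]
    exact h
  have hq : R.map q = R.map p ≫ φ0 := by
    apply (adj.homEquiv _ _).injective
    rw [Adjunction.homEquiv_naturality_left, Adjunction.homEquiv_unit]
    exact (adj.unit.naturality q).symm.trans hcond.symm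
  -- the kernel of `p` lives off `U`
  let K := kernel p
  haveI : K.IsQuasicoherent := Groth.QCohMod.isQCoh_kernel p
  have hK : Coh.IsCoh K := Groth.QCohMod.isCoh_kernel p hH
  have hK0 : R.map (kernel.ι p) = 0 := by
    haveI : Mono (R.map (kernel.ι d)) := Groth.CohTwo.mono_restrictMap U.ι _
    rw [← cancel_mono (R.map (kernel.ι d)), zero_comp, ← R.map_comp]
    have h1 : R.map (kernel.ι p ≫ q) = 0 := by
      rw [R.map_comp, hq, ← Category.assoc, ← R.map_comp, kernel.condition, R.map_zero, zero_comp]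
    have h2 : kernel.ι p ≫ kernel.ι d = (kernel.ι p ≫ q) ≫ biprod.inr := by
      refine biprod.hom_ext _ _ ?_ ?_
      · simp only [Category.assoc]
        erw [biprod.inr_fst, comp_zero]
        exact kernel.condition p
      · simp [q]
    rw [h2, R.map_comp, h1, zero_comp]
  -- `p` is onto over `U`
  have hp0 : R.map (cokernel.π p) = 0 := by
    have hv : R.map v = φ0 ≫ R.map uF := by
      rw [← cancel_mono (adj.counit.app (R.obj F0)), Category.assoc,
        adj.left_triangle_components F0]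
      rw [Category.comp_id]
      exact (Adjunction.homEquiv_counit ..).symm.trans ((adj.homEquiv _ _).symm_apply_apply φ0)
    let s : R.obj G ⟶ R.obj (G ⊞ F0) := R.map biprod.inl + φ0 ≫ R.map biprod.inr
    have hs : s ≫ R.map d = 0 := by
      simp only [s, Preadditive.add_comp, Category.assoc, ← R.map_comp, d, biprod.inl_desc,
        biprod.inr_desc, R.map_neg, Preadditive.comp_neg, hv, add_neg_cancel]
    haveI : Mono (R.map (kernel.ι d)) := Groth.CohTwo.mono_restrictMap U.ι _
    obtain ⟨σ, hσ'⟩ := Groth.CohTwo.exists_lift_of_local s (R.map (kernel.ι d)) fun V a x hx => by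
      obtain ⟨z, hz⟩ := Groth.QCohMod.exists_app_eq_of_mono_exact
        (S := ShortComplex.mk _ _ (kernel.condition d))
        (ShortComplex.exact_of_f_is_kernel _ (kernelIsKernel d)) (U.ι ''ᵁ V) (s.app V a)
        (congr(($hs).app V a))
      exact ⟨V, le_rfl, z, hx, hz.trans (Groth.CohTwo.res_rfl _ le_rfl _).symm⟩
    have hσ : σ ≫ R.map p = 𝟙 _ := by
      rw [R.map_comp, ← Category.assoc, hσ', Preadditive.add_comp, Category.assoc, ← R.map_comp,
        ← R.map_comp]
      erw [biprod.inl_fst, biprod.inr_fst]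
      rw [R.map_zero, comp_zero, add_zero, R.map_id]
    rw [← Category.id_comp (R.map (cokernel.π p)), ← hσ, Category.assoc, ← R.map_comp,
      cokernel.condition, R.map_zero, comp_zero]
  obtain ⟨N, ιN, hιN, hN⟩ := Groth.Agent.S9516.result X (cokernel p) G
    (Groth.QCohMod.isQCoh_cokernel p) hG I U hU 0 (Dual3.idealMulι (I ^ 0) G ≫ cokernel.π p) (by
      rw [R.map_comp, hp0, comp_zero])
  rw [← Category.assoc, hιN] at hN
  obtain ⟨m, ιm, hιm, hm⟩ := Groth.Agent.S9516.result X (kernel d) K hH.1 hK I U hU 0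
    (Dual3.idealMulι (I ^ 0) K ≫ kernel.ι p) (by rw [R.map_comp, hK0, comp_zero])
  rw [← Category.assoc, hιm] at hm
  obtain ⟨T, hT⟩ := Groth.PropsBasic2.exists_finite_affine_cover X
  have hcov : ∀ x : X, ∃ V : T, x ∈ (V.1.1 : X.Opens) := fun x =>
    TopologicalSpace.Opens.mem_iSup.1 (hT.ge (show x ∈ (⊤ : X.Opens) from trivial))
  have hKmem : ∀ (V : T) (h : Γ(kernel d, V.1.1)), p.app V.1.1 h = 0 →
      h ∈ LinearMap.range (Groth.QCohMod.appₗ (kernel.ι p) V.1.1) := fun V h hh =>
    Groth.QCohMod.exists_app_eq_of_mono_exact (S := ShortComplex.mk _ _ (kernel.condition p))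
      (ShortComplex.exact_of_f_is_kernel _ (kernelIsKernel p)) _ h hh
  have key : ∀ V : T, ∃ k : ℕ, ∀ n ≥ k,
      I.ideal V.1 ^ n • ⊤ ⊓ LinearMap.range (Groth.QCohMod.appₗ (kernel.ι p) V.1.1) =
        I.ideal V.1 ^ (n - k) •
          (I.ideal V.1 ^ k • ⊤ ⊓ LinearMap.range (Groth.QCohMod.appₗ (kernel.ι p) V.1.1)) :=
    fun V => by
      haveI := Groth.QCohMod.finite_sections _ hH.2 V.1.2
      haveI := IsLocallyNoetherian.component_noetherian (X := X) V.1
      exact Ideal.exists_pow_inf_eq_pow_smul _ _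
  choose k hk using key
  let c := (Finset.univ : Finset T).sup k + m
  have hzero : ∀ (V : T) (h : Γ(kernel d, V.1.1)), h ∈ I.ideal V.1 ^ c • (⊤ : Submodule Γ(X, V.1.1) Γ(kernel d, V.1.1)) →
      p.app V.1.1 h = 0 → h = 0 := by
    intro V h h1 h2
    have hkc : k V ≤ c := (Finset.le_sup (Finset.mem_univ V)).trans (Nat.le_add_right _ _)
    have hmk : m ≤ c - k V := by
      have := Finset.le_sup (f := k) (Finset.mem_univ V)
      omega
    have h3 : h ∈ I.ideal V.1 ^ m •
        LinearMap.range (Groth.QCohMod.appₗ (kernel.ι p) V.1.1) :=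
      Submodule.smul_mono (Ideal.pow_le_pow_right hmk) inf_le_right
        ((hk V c hkc).le ⟨h1, hKmem V h h2⟩)
    rw [← Submodule.map_top (Groth.QCohMod.appₗ (kernel.ι p) V.1.1), ← Submodule.map_smul''] at h3
    obtain ⟨z, hz, rfl⟩ := h3
    obtain ⟨w, rfl⟩ := (Groth.CohTwo.range_idealMulι_pow I m K V.1.2 z).2 hz
    exact congr(($hm).app V.1.1 w)
  haveI := Groth.CohTwo.isQCoh_idealMul (I ^ c) (kernel d)
  haveI := Groth.CohTwo.isQCoh_idealMul (I ^ (c + N)) G
  let α := Dual3.idealMulι (I ^ c) (kernel d) ≫ p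
  haveI : Mono α := Preadditive.mono_of_kernel_zero <| by
    haveI : (kernel α).IsQuasicoherent := Groth.QCohMod.isQCoh_kernel α
    have h0 : kernel.ι α = 0 := Groth.CohTwo.eq_zero_of_affine_cover _
      (fun V : T => (V.1.1 : X.Opens)) (fun V => V.1.2) hcov fun V s => by
        refine Groth.QCohMod.app_injective_of_mono (Dual3.idealMulι (I ^ c) (kernel d)) _ ?_
        rw [map_zero]
        exact hzero V _ ((Groth.CohTwo.range_idealMulι_pow I c _ V.1.2 _).1 ⟨_, rfl⟩)
          (congr(($(kernel.condition α)).app V.1.1 s))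
    exact h0
  obtain ⟨γ, hγ⟩ := Groth.CohTwo.exists_lift_of_cover (Dual3.idealMulι (I ^ (c + N)) G) α
    (fun V : T => (V.1.1 : X.Opens)) (fun V => V.1.2) hcov (by
    rintro V _ ⟨a, rfl⟩
    have hP : I.ideal V.1 ^ (c + N) • (⊤ : Submodule Γ(X, V.1.1) Γ(G, V.1.1)) ≤
        LinearMap.range (Groth.QCohMod.appₗ α V.1.1) := by
      rw [pow_add, Submodule.mul_smul]
      refine Submodule.smul_le.2 fun r hr g hg => ?_
      obtain ⟨g', rfl⟩ := (Groth.CohTwo.range_idealMulι_pow I N G V.1.2 g).2 hg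
      obtain ⟨h, hh⟩ := Groth.QCohMod.exists_app_eq_of_exact
        (S := ShortComplex.mk p (cokernel.π p) (cokernel.condition p))
        (ShortComplex.exact_of_g_is_cokernel _ (cokernelIsCokernel p)) V.1.2
        ((Dual3.idealMulι (I ^ N) G).app V.1.1 g') (congr(($hN).app V.1.1 g'))
      obtain ⟨w, hw⟩ := (Groth.CohTwo.range_idealMulι_pow I c (kernel d) V.1.2 (r • h)).2
        (Submodule.smul_mem_smul hr trivial)
      refine ⟨w, ?_⟩
      change p.app V.1.1 ((Dual3.idealMulι (I ^ c) (kernel d)).app V.1.1 w) = _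
      rw [hw, p.app_smul]
      exact congrArg (r • ·) hh
    exact hP ((Groth.CohTwo.range_idealMulι_pow I (c + N) G V.1.2 _).1 ⟨a, rfl⟩))
  refine ⟨c + N, γ ≫ Dual3.idealMulι (I ^ c) (kernel d) ≫ q ≫ i0, ?_⟩
  rw [R.map_comp, R.map_comp, R.map_comp, hq, Category.assoc, hφ0, ← hγ]
  simp only [α, R, Functor.map_comp, Category.assoc]

end Groth.Agent.S9515
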