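import Groth.Statements.S0386
import Groth.Agent.FlatMorOne.FlatLocusOpen

set_option autoImplicit false
universe u
open FlatMor

namespace Groth.Agent.S0386

open AlgebraicGeometry CategoryTheory Limits in
/-- Openness of the flat locus: for a morphism f : X ⟶ S locally of finite presentation, the set of
points x of X at which the local ring O_{X,x} is flat over O_{S,f(x)} is open in X. (The published
statement also treats the flat locus of a finitely presented quasi-coherent module; stated here for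
the structure sheaf.) -/
theorem result {X S : Scheme.{u}} (f : X ⟶ S) [LocallyOfFinitePresentation f] :
    IsOpen {x : X | (f.stalkMap x).hom.Flat} := by
  rw [isOpen_iff_forall_mem_open]
  intro x hx
  obtain ⟨_, ⟨V : S.Opens, hV, rfl⟩, hxV, -⟩ :=
    S.isBasis_affineOpens.exists_subset_of_mem_open (Set.mem_univ (f x)) isOpen_univ
  obtain ⟨_, ⟨U : X.Opens, hU, rfl⟩, hxU, hle⟩ :=
    X.isBasis_affineOpens.exists_subset_of_mem_open (show x ∈ f ⁻¹ᵁ V from hxV) (f ⁻¹ᵁ V).2
  have e : U ≤ f ⁻¹ᵁ V := hle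
  let := (f.appLE V U e).hom.toAlgebra
  have : Algebra.FinitePresentation Γ(S, V) Γ(X, U) := f.finitePresentation_appLE hV hU e
  have key : ∀ z : U, (f.stalkMap z.1).hom.Flat ↔
      Module.Flat Γ(S, V) (LocalizedModule (hU.primeIdealOf z).asIdeal.primeCompl Γ(X, U)) := by
    intro z
    have hzV : f z.1 ∈ V := e z.2
    let := S.presheaf.algebra_section_stalk (⟨f z.1, hzV⟩ : V)
    have := hV.isLocalization_stalk ⟨f z.1, hzV⟩
    let := X.presheaf.algebra_section_stalk z
    have := hU.isLocalization_stalk z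
    let := (f.stalkMap z.1).hom.toAlgebra
    let : Algebra Γ(S, V) (X.presheaf.stalk z.1) :=
      (S.presheaf.germ V (f z.1) hzV ≫ f.stalkMap z.1).hom.toAlgebra
    have : IsScalarTower Γ(S, V) (S.presheaf.stalk (f z.1)) (X.presheaf.stalk z.1) := .of_algebraMap_eq' rfl
    have : IsScalarTower Γ(S, V) Γ(X, U) (X.presheaf.stalk z.1) := .of_algebraMap_eq' (by
      show (S.presheaf.germ V (f z.1) hzV ≫ f.stalkMap z.1).hom = (f.appLE V U e ≫ X.presheaf.germ U z.1 z.2).hom
      rw [Scheme.Hom.germ_stalkMap, Scheme.Hom.appLE, Category.assoc, TopCat.Presheaf.germ_res])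
    have : IsLocalizedModule (hU.primeIdealOf z).asIdeal.primeCompl
        (IsScalarTower.toAlgHom Γ(X, U) Γ(X, U) (X.presheaf.stalk z.1)).toLinearMap :=
      isLocalizedModule_iff_isLocalization.mpr
        (show IsLocalization (Algebra.algebraMapSubmonoid Γ(X, U) (hU.primeIdealOf z).asIdeal.primeCompl)
          (X.presheaf.stalk z.1) by rw [Algebra.algebraMapSubmonoid_self]; infer_instance)
    let ε := (IsLocalizedModule.iso (hU.primeIdealOf z).asIdeal.primeCompl
      (IsScalarTower.toAlgHom Γ(X, U) Γ(X, U) (X.presheaf.stalk z.1)).toLinearMap).restrictScalars Γ(S, V)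
    refine (Module.flat_iff_of_isLocalization (R := Γ(S, V)) (S := S.presheaf.stalk (f z.1))
      (hV.primeIdealOf ⟨f z.1, hzV⟩).asIdeal.primeCompl (M := X.presheaf.stalk z.1)).trans ?_
    exact ⟨fun _ => Module.Flat.of_linearEquiv ε, fun _ => Module.Flat.of_linearEquiv ε.symm⟩
  refine ⟨Subtype.val '' ((fun z : U => hU.primeIdealOf z) ⁻¹'
    {q : PrimeSpectrum Γ(X, U) | Module.Flat Γ(S, V) (LocalizedModule q.asIdeal.primeCompl Γ(X, U))}), ?_, ?_,
    ⟨⟨x, hxU⟩, (key ⟨x, hxU⟩).mp hx, rfl⟩⟩
  · rintro _ ⟨z, hz, rfl⟩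
    exact (key z).mpr hz
  · refine U.2.isOpenMap_subtype_val _ (IsOpen.preimage ?_
      (Groth.FlatMorOne.isOpen_flatLocus Γ(S, V) Γ(X, U) Γ(X, U)))
    exact hU.isoSpec.hom.continuous

end Groth.Agent.S0386
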