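import Groth.Statements.S9406
import Groth.Agent.Ega4Algebra1.RegularDescent

set_option autoImplicit false
universe u
open CAlg

namespace Groth.Agent.S9406

/-- Regularity descends along faithfully flat ring maps: whenever S is a faithfully flat R-algebra whose
underlying ring is regular, the base ring R is regular as well. -/
theorem result (R : Type u) [CommRing R] (S : Type u) [CommRing S]
    [Algebra R S] [Module.FaithfullyFlat R S] [IsRegularRing S] : IsRegularRing R := by
  have := Groth.Ega4Algebra1.isNoetherianRing_of_faithfullyFlat R S
  refine isRegularRing_iff.mpr fun p _ => ?_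
  obtain ⟨q, hq, hqp⟩ := Ideal.exists_isPrime_liesOver_of_faithfullyFlat (B := S) p
  have := Groth.Ega4Algebra1.isRegularLocalRing_comap_of_flat R S q
  exact Groth.Ega4Algebra1.isRegularLocalRing_of_eq hqp.over.symm this

end Groth.Agent.S9406
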