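import Groth.Statements.S9408
import Groth.Agent.Ega4Algebra1.SmoothRegular

set_option autoImplicit false
universe u
open CAlg

namespace Groth.Agent.S9408


theorem isRegularRing_of_smooth (R S : Type u) [CommRing R] [CommRing S] [Algebra R S]
    [IsRegularRing R] [Algebra.Smooth R S] : IsRegularRing S := by
  have : IsNoetherianRing S := Algebra.FiniteType.isNoetherianRing R S
  refine isRegularRing_iff.mpr fun q _ => ?_
  have : Algebra.IsSmoothAt R q := Algebra.FormallySmooth.comp R S _
  obtain ⟨g, hg, hgs⟩ := Algebra.IsSmoothAt.exists_notMem_isStandardSmooth (R := R) q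
  obtain ⟨Q, hQ⟩ : (⟨q, ‹_›⟩ : PrimeSpectrum S) ∈
      Set.range (PrimeSpectrum.comap (algebraMap S (Localization.Away g))) := by
    rw [PrimeSpectrum.localization_away_comap_range (Localization.Away g) g]
    exact hg
  have h := (Groth.Ega4Algebra1.mem_regLocus_localization_iff _ Q).mp
    (Groth.Ega4Algebra1.mem_regLocus_of_isStandardSmooth (R := R) _ Q
      (inferInstanceAs (IsRegularLocalRing (Localization.AtPrime _))))
  rw [hQ] at h
  exact h

/-- Over a field k, geometric regularity ascends along smooth maps of k-algebras: for A Noetherian and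
geometrically regular over k and B smooth over A, B is geometrically regular over k. -/
theorem result (k : Type u) [Field k] (A : Type u) [CommRing A]
    [Algebra k A] [IsNoetherianRing A] (B : Type u) [CommRing B] [Algebra k B] [Algebra A B]
    [IsScalarTower k A B] [Algebra.Smooth A B] (hA : CAlg.IsGeometricallyRegular k A) :
    CAlg.IsGeometricallyRegular k B := by
  intro k' _ _ hfin
  open TensorProduct in
  have : IsRegularRing (k' ⊗[k] A) := hA k' hfin
  open TensorProduct in
  have : IsRegularRing (A ⊗[k] k') :=
    IsRegularRing.of_ringEquiv (Algebra.TensorProduct.comm k k' A).toRingEquiv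
  open TensorProduct in
  have : IsRegularRing ((A ⊗[k] k') ⊗[A] B) := isRegularRing_of_smooth (A ⊗[k] k') _
  open TensorProduct in
  exact IsRegularRing.of_ringEquiv (((Algebra.TensorProduct.comm A (A ⊗[k] k') B).toRingEquiv.trans
    (Algebra.TensorProduct.cancelBaseChange k A A B k').toRingEquiv).trans
    (Algebra.TensorProduct.comm k B k').toRingEquiv)

end Groth.Agent.S9408
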