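import Groth.Statements.S9250
import Groth.Agent.Calg4.RegularFlat

set_option autoImplicit false
universe u
open CAlg

namespace Groth.Agent.S9250

/-- Let R → S be a regular ring map with S Noetherian and R regular. Then S is regular. -/
theorem result (R S : Type u) [CommRing R] [CommRing S] [Algebra R S]
    [IsRegularRing R] [IsNoetherianRing S] (h : CAlg.IsRegularHom R S) : IsRegularRing S := by
  rw [isRegularRing_iff]
  intro q _
  have := h.1
  have : IsRegularRing ((q.comap (algebraMap R S)).Fiber S) := by
    have h1 := (h.2 (q.comap (algebraMap R S))).2 (q.comap (algebraMap R S)).ResidueField inferInstance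
    exact @IsRegularRing.of_ringEquiv _ _ ((q.comap (algebraMap R S)).Fiber S) _
      (Algebra.TensorProduct.lid (q.comap (algebraMap R S)).ResidueField
        ((q.comap (algebraMap R S)).Fiber S)).toRingEquiv h1
  exact Groth.Calg4.isRegularLocalRing_localization_of_flat_of_fiber R S q

end Groth.Agent.S9250
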