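import Groth.Statements.S9523
import Groth.Agent.CohTwo.IdealMul
import Groth.Agent.CohTwo.SubLift
import Groth.Agent.Divisors.IdealComap

set_option autoImplicit false
universe u
open CategoryTheory CategoryTheory.Limits AlgebraicGeometry
attribute [local instance] HasDerivedCategory.standard
open Coherent

namespace Groth.Agent.S9523

theorem range_eq {Y X : Scheme.{u}} (f : Y ⟶ X) [IsAffineHom f]
    (F : Y.Modules) [F.IsQuasicoherent] (I : X.IdealSheafData) (U : X.Opens) (hU : IsAffineOpen U) :
    Set.range ((Dual3.idealMulι I ((Scheme.Modules.pushforward f).obj F)).app U) =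
      Set.range (((Scheme.Modules.pushforward f).map (Dual3.idealMulι (I.comap f) F)).app U) := by
  haveI : ((Scheme.Modules.pushforward f).obj F).IsQuasicoherent :=
    Groth.QCohMod.isQCoh_pushforward F f
  have hV : IsAffineOpen (f ⁻¹ᵁ U) := hU.preimage f
  have hI : (I.comap f).ideal ⟨f ⁻¹ᵁ U, hV⟩ = (I.ideal ⟨U, hU⟩).map (f.app U).hom := by
    rw [Groth.Divisors.ideal_comap_affine I f ⟨U, hU⟩ ⟨f ⁻¹ᵁ U, hV⟩ le_rfl, Scheme.Hom.appLE_eq_app]
  ext y
  refine (Groth.CohTwo.mem_range_idealMulι_iff I _ hU y).trans ?_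
  refine Iff.trans ?_ (Groth.CohTwo.mem_range_idealMulι_iff (I.comap f) F hV
    (show Γ(F, f ⁻¹ᵁ U) from y)).symm
  constructor
  · intro h
    refine Submodule.smul_induction_on
      (p := fun z : Γ((Scheme.Modules.pushforward f).obj F, U) => (show Γ(F, f ⁻¹ᵁ U) from z) ∈
        (I.comap f).ideal ⟨f ⁻¹ᵁ U, hV⟩ • (⊤ : Submodule Γ(Y, f ⁻¹ᵁ U) Γ(F, f ⁻¹ᵁ U)))
      h (fun r hr m _ => ?_) (fun a b ha hb => Submodule.add_mem _ ha hb)
    change f.app U r • (show Γ(F, f ⁻¹ᵁ U) from m) ∈ _
    exact Submodule.smul_mem_smul (hI ▸ Ideal.mem_map_of_mem _ hr) trivial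
  · intro h
    refine Submodule.smul_induction_on
      (p := fun z : Γ(F, f ⁻¹ᵁ U) => (show Γ((Scheme.Modules.pushforward f).obj F, U) from z) ∈
        I.ideal ⟨U, hU⟩ • (⊤ : Submodule Γ(X, U) Γ((Scheme.Modules.pushforward f).obj F, U)))
      h (fun r hr m _ => ?_) (fun a b ha hb => Submodule.add_mem _ ha hb)
    rw [hI] at hr
    revert m
    induction hr using Submodule.span_induction with
    | mem z hz =>
      obtain ⟨a, ha, rfl⟩ := hz
      intro m _
      change a • (show Γ((Scheme.Modules.pushforward f).obj F, U) from m) ∈ _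
      exact Submodule.smul_mem_smul ha trivial
    | zero => intro m _; rw [zero_smul]; exact Submodule.zero_mem _
    | add a b _ _ ha hb => intro m hm; rw [add_smul]; exact Submodule.add_mem _ (ha m hm) (hb m hm)
    | smul d a _ ha =>
      intro m _
      rw [smul_eq_mul, mul_comm, mul_smul]
      exact ha _ trivial

/-- Let f : Y → X be an affine morphism of schemes, F a quasi-coherent O_Y-module and I a quasi-coherent
sheaf of ideals on X. Then I·f_*F = f_*((f⁻¹I O_Y)·F) as submodules of f_*F: there is an isomorphism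
I·f_*F ≅ f_*((f⁻¹I O_Y)·F) whose composite with f_* of the inclusion (f⁻¹I O_Y)·F → F is the
inclusion I·f_*F → f_*F. (J·M denotes the submodule sheaf Dual3.idealMul J M; f⁻¹I O_Y is the
pulled-back ideal sheaf I.comap f.) -/
theorem result {Y X : Scheme.{u}} (f : Y ⟶ X) [IsAffineHom f]
    (F : Y.Modules) (hF : Coh.IsQCoh F) (I : X.IdealSheafData) :
    ∃ e : (Dual3.idealMul I).obj ((Scheme.Modules.pushforward f).obj F) ≅
        (Scheme.Modules.pushforward f).obj ((Dual3.idealMul (I.comap f)).obj F),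
      e.hom ≫ (Scheme.Modules.pushforward f).map (Dual3.idealMulι (I.comap f) F) =
        Dual3.idealMulι I ((Scheme.Modules.pushforward f).obj F) := by
  haveI : F.IsQuasicoherent := hF
  haveI : Mono ((Scheme.Modules.pushforward f).map (Dual3.idealMulι (I.comap f) F)) :=
    inferInstance
  exact Groth.CohTwo.exists_iso_of_affine_range _ _ fun U hU => range_eq f F I U hU

end Groth.Agent.S9523
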