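import Groth.Statements.S10865
import Groth.Agent.CohTwo.Devissage
-- import your own Groth.Agent.* helpers here

set_option autoImplicit false
universe u
open Coherent

namespace Groth.Agent.S10865

open CategoryTheory CategoryTheory.Limits AlgebraicGeometry in
/-- Let X be a nonempty Noetherian scheme and K an isomorphism-closed class of O_X-modules such that (a)
in a short exact sequence of coherent modules, if the middle and right terms lie in K so does the
left one, and if the two outer terms lie in K so does the middle one; (b) if a coherent F has some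
d-fold direct sum (d ≥ 1) in K then F lies in K. If for every integral closed subscheme i : Z → X
there is a coherent O_Z-module with nonzero stalk at the generic point whose direct image under i
lies in K, then every coherent O_X-module lies in K. (For the empty scheme the hypotheses hold for
the empty class, so X is taken nonempty here.) -/
theorem result (X : Scheme.{u}) [IsNoetherian X] [Nonempty X]
    (K : ObjectProperty X.Modules) [K.IsClosedUnderIsomorphisms]
    (ha : ∀ S : ShortComplex X.Modules, S.ShortExact → Coh.IsCoh S.X₁ → Coh.IsCoh S.X₂ → Coh.IsCoh S.X₃ →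
      (K S.X₂ → K S.X₃ → K S.X₁) ∧ (K S.X₁ → K S.X₃ → K S.X₂))
    (hb : ∀ (F : X.Modules) (d : ℕ), 1 ≤ d → Coh.IsCoh F → K (∐ fun _ : Fin d => F) → K F)
    (hgen : ∀ (Z : Scheme.{u}) (i : Z ⟶ X) [IsClosedImmersion i] [IsIntegral Z],
      ∃ H : Z.Modules, Coh.IsCoh H ∧ Nontrivial (H.presheaf.stalk (genericPoint Z)) ∧
        K ((Scheme.Modules.pushforward i).obj H))
    (F : X.Modules) (hF : Coh.IsCoh F) : K F := by
  have W : ∀ (Y : TopologicalSpace.Closeds X) (ξ : X), (Y : Set X) = closure {ξ} →
      ∃ G : X.Modules, Coh.IsCoh G ∧ CohB1.support G ⊆ Y ∧ Nontrivial ↑(G.presheaf.stalk ξ) ∧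
        (∀ a ∈ IsLocalRing.maximalIdeal (X.presheaf.stalk ξ), ∀ m : ↑(G.presheaf.stalk ξ), a • m = 0) ∧
        K G := fun Y ξ hY => by
    haveI := Groth.CohTwo.isIntegral_closure_subscheme hY
    obtain ⟨H, hH, hne, hK⟩ := hgen _ (Scheme.IdealSheafData.vanishingIdeal Y).subschemeι
    obtain ⟨h1, h2, h3, h4⟩ := Groth.CohTwo.push_closure_witness hY H hH hne
    exact ⟨_, h1, h2, h3, h4, hK⟩
  have h0 : ∀ M : X.Modules, IsZero M → K M := by
    intro M hM
    obtain ⟨x⟩ := ‹Nonempty X›
    obtain ⟨G, hG, -, -, -, hKG⟩ := W ⟨closure {x}, isClosed_closure⟩ x rfl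
    haveI := hG.1
    have hC := Groth.QCohMod.isCoh_cokernel (𝟙 G) hG
    have hz : IsZero (cokernel (𝟙 G)) := isZero_cokernel_of_epi _
    let S := ShortComplex.mk (0 : cokernel (𝟙 G) ⟶ G) (𝟙 G) zero_comp
    have hS : S.ShortExact := ShortComplex.Splitting.shortExact
      { r := 0
        s := 𝟙 G
        f_r := hz.eq_of_src _ _
        s_g := Category.id_comp _
        id := by simp [S] }
    exact K.prop_of_iso (hz.iso hM) ((ha S hS hC hG hG).1 hKG hKG)
  refine Groth.CohTwo.coh_induction (fun M => K M) (fun M N e h => K.prop_of_iso e.some h) h0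
    (fun S hS a b c => (ha S hS a b c).2) Set.univ ?_ isClosed_univ F hF (Set.subset_univ _)
  intro Y ξ hY _ F' hF' hkill hsmall
  haveI := hF'.1
  obtain ⟨G, hG, hGY, hne, hGk, hKG⟩ := W Y ξ hY
  refine Groth.CohTwo.step_two (fun M => K M) h0 ha hb hsmall hG hKG hGY hGk hF'
    (hkill.support_subset.trans ?_) (fun a ha' m => hkill.stalk_maximalIdeal hY a ha' m)
  simp

end Groth.Agent.S10865
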