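import Groth.Statements.S9372
import Groth.Agent.OmegaSheaf.ConormalPull

set_option autoImplicit false
universe u
open OmegaSh

namespace Groth.Agent.S9372

open AlgebraicGeometry CategoryTheory in
/-- In a cartesian square with i : Z → X, i' : Z' → X' quasi-compact immersions, g : X → X', gZ : Z →
Z', the canonical map gZ^* C_{Z'/X'} → C_{Z/X} is surjective, and an isomorphism when g is flat.
(The published statement allows arbitrary immersions; this row assumes i and i' quasi-compact.) -/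
theorem result {Z X Z' X' : Scheme.{u}} (i : Z ⟶ X) (i' : Z' ⟶ X') [IsImmersion i] [IsImmersion i']
    [QuasiCompact i] [QuasiCompact i'] (g : X ⟶ X') (gZ : Z ⟶ Z') (hsq : IsPullback i gZ g i')
    (φ : (Scheme.Modules.pullback gZ).obj (Omega.conormal i') ⟶ Omega.conormal i) (hφ : OmegaSh.IsConormalMap i i' g gZ φ) :
    Epi φ ∧ (Flat g → IsIso φ) := by
  have key : ∀ z : Z, ∃ T : Z.Opens, IsAffineOpen T ∧ z ∈ T ∧
      Function.Surjective (φ.app T) ∧ (Flat g → Function.Injective (φ.app T)) := by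
    intro z
    obtain ⟨W', hW', hzW', -⟩ := Groth.OmegaSheaf.exists_conormalChart i' (gZ z) (W₀ := ⊤) trivial
    have hz : g (i z) ∈ W' := by
      rw [← Scheme.Hom.comp_apply, hsq.w, Scheme.Hom.comp_apply]; exact hzW'
    obtain ⟨W, hW, hzW, hle⟩ := Groth.OmegaSheaf.exists_conormalChart i z (W₀ := g ⁻¹ᵁ W') hz
    have eT : i ⁻¹ᵁ W ≤ gZ ⁻¹ᵁ (i' ⁻¹ᵁ W') := by
      rw [← Scheme.Hom.comp_preimage, ← hsq.w]
      exact i.preimage_mono hle
    have hUY : i ⁻¹ᵁ W = i ⁻¹ᵁ W ⊓ gZ ⁻¹ᵁ (i' ⁻¹ᵁ W') := (inf_eq_left.mpr eT).symm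
    have hpo := ((isIso_pushoutSection_iff (H := hsq) le_rfl hle hUY).mp
      (isIso_pushoutSection_of_isAffineOpen hsq le_rfl hle hUY hW'.affine hW'.affine_preimage
        hW.affine)).flip
    have hker := Groth.OmegaSheaf.ker_le_map_of_isPushout hpo
      (by rw [← Scheme.Hom.app_eq_appLE]; exact hW'.surjective)
    rw [← Scheme.Hom.app_eq_appLE, ← Scheme.Hom.app_eq_appLE] at hker
    obtain ⟨hs, hi⟩ := Groth.OmegaSheaf.conormalMap_app_surjective_and_injective i i' g gZ hφ hW' hW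
      hle hker
    exact ⟨i ⁻¹ᵁ W, hW.affine_preimage, hzW, hs,
      fun hg ↦ hi (g.flat_appLE hW'.affine hW.affine hle)⟩
  refine ⟨Groth.OmegaSheaf.epi_of_affine_cover φ fun z ↦ ?_, fun hg ↦
    Groth.OmegaSheaf.isIso_of_affine_cover φ fun z ↦ ?_⟩
  · obtain ⟨T, hT, hz, hs, -⟩ := key z
    exact ⟨T, hT, hz, hs⟩
  · obtain ⟨T, hT, hz, hs, hi⟩ := key z
    exact ⟨T, hT, hz, hi hg, hs⟩

end Groth.Agent.S9372
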