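import Groth.Statements.S9612
import Mathlib.RingTheory.Jacobson.Ring
import Mathlib.RingTheory.PrincipalIdealDomain
import Mathlib.RingTheory.Int.Basic
import Mathlib.Tactic

set_option autoImplicit false
universe u
open CAlg

namespace Groth.Agent.S9612

/-- A finite type ℤ-algebra is a Jacobson ring. -/
theorem result {S : Type u} [CommRing S] [Algebra.FiniteType ℤ S] :
    IsJacobsonRing S := by
  have : IsJacobsonRing ℤ := by
    rw [isJacobsonRing_iff_prime_eq]
    intro P hP
    rcases eq_or_ne P ⊥ with rfl | h
    · refine le_antisymm (fun x hx => ?_) bot_le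
      have := Ideal.mem_jacobson_bot.mp hx (2 * x)
      rcases Int.isUnit_iff.mp this with h | h <;> simp only [Ideal.mem_bot] <;> nlinarith
    · have := Ideal.IsPrime.isMaximal hP h
      exact Ideal.jacobson_eq_self_of_isMaximal
  exact isJacobsonRing_of_finiteType (A := ℤ) (B := S)

end Groth.Agent.S9612
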