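import Groth.Statements.S9219
import Groth.Agent.Limits.HomDescent

set_option autoImplicit false
universe u
open CategoryTheory CategoryTheory.Limits AlgebraicGeometry
open Lim

namespace Groth.Agent.S9219

/-- Let S = lim S_i be a cofiltered limit of schemes with affine transition morphisms (the S_i are not
assumed quasi-compact or quasi-separated), i an index, and X_i → S_i, Y_i → S_i morphisms locally of
finite presentation with X_i, Y_i quasi-compact and quasi-separated; let X be the base change of X_i
to S (a pullback square). If two S_i-morphisms f_i, g_i : X_i → Y_i have the same base change to S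
(equivalently, the same composite with X → X_i), then for some index j over i their base changes to
S_j agree, i.e. they have the same composite with X_i ×_{S_i} S_j → X_i. This is the faithfulness
part of the equivalence between the colimit of the categories of quasi-compact quasi-separated
schemes locally of finite presentation over the S_i and the corresponding category over S. -/
theorem result {I : Type u} [SmallCategory I] [IsCofiltered I]
    (D : I ⥤ Scheme.{u}) (c : Limits.Cone D) (hc : Limits.IsLimit c)
    [∀ (i j : I) (f : i ⟶ j), IsAffineHom (D.map f)] (i : I)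
    {Xi Yi : Scheme.{u}} (xi : Xi ⟶ D.obj i) (yi : Yi ⟶ D.obj i)
    [CompactSpace Xi] [QuasiSeparatedSpace Xi] [LocallyOfFinitePresentation xi]
    [CompactSpace Yi] [QuasiSeparatedSpace Yi] [LocallyOfFinitePresentation yi]
    {X : Scheme.{u}} (qX : X ⟶ Xi) (pX : X ⟶ c.pt) (hX : IsPullback qX pX xi (c.π.app i))
    (fi gi : Xi ⟶ Yi) (hfi : fi ≫ yi = xi) (hgi : gi ≫ yi = xi) (h : qX ≫ fi = qX ≫ gi) :
    ∃ (j : I) (φ : j ⟶ i), pullback.fst xi (D.map φ) ≫ fi = pullback.fst xi (D.map φ) ≫ gi := by
  let g := hX.isoPullback
  have h₁ : pullback.fst xi (c.π.app i) ≫ fi = pullback.fst xi (c.π.app i) ≫ gi := by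
    rw [← cancel_epi g.hom, ← Category.assoc, ← Category.assoc, hX.isoPullback_hom_fst, h]
  obtain ⟨j, q, hj⟩ := Groth.Limits.exists_stageMap_comp_eq D xi hc yi (𝟙 i)
    (pullback.fst xi (D.map (𝟙 i)) ≫ fi) (pullback.fst xi (D.map (𝟙 i)) ≫ gi)
    (by rw [Category.assoc, hfi]) (by rw [Category.assoc, hgi])
    (by rw [pullback.lift_fst_assoc, pullback.lift_fst_assoc]; exact h₁)
  rw [pullback.lift_fst_assoc, pullback.lift_fst_assoc] at hj
  exact ⟨j, q ≫ 𝟙 i, hj⟩

end Groth.Agent.S9219
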