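import Groth.Statements.S12073
import Groth.Agent.S0591
import Groth.Agent.S9219
import Groth.Agent.Limits.SmoothDescent
import Groth.Agent.Pi1Etale.FEtFaithful

set_option backward.isDefEq.respectTransparency false
set_option backward.defeqAttrib.useBackward true
set_option linter.style.haveILetI false

set_option autoImplicit false
universe u
open CategoryTheory CategoryTheory.Limits AlgebraicGeometry
open Pi1

namespace Groth.Agent.S12073

/-- Let X = lim X_i be the limit of a cofiltered system of quasi-compact quasi-separated schemes with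
affine transition morphisms, given by a limit cone. Then: (1) every finite étale cover of X is
isomorphic, over X, to the base change of a finite étale cover of some X_i; (2) if two morphisms
between finite étale covers of some X_i have the same base change to X, then they have the same base
change to some X_j with j → i. (Fullness — every morphism over X between base changes comes from
some stage — is part of the published statement and is not stated here; nor is the consequence on
fundamental groups.) -/
theorem result {I : Type u} [SmallCategory I] [IsCofiltered I]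
    (D : I ⥤ Scheme.{u}) (c : Limits.Cone D) (hc : Limits.IsLimit c)
    [∀ (i j : I) (f : i ⟶ j), IsAffineHom (D.map f)] [∀ i, CompactSpace (D.obj i)]
    [∀ i, QuasiSeparatedSpace (D.obj i)] :
    (∀ V : FEt.Cat c.pt, ∃ (i : I) (Vi : FEt.Cat (D.obj i)), Nonempty ((FEt.restrict (c.π.app i)).obj Vi ≅ V)) ∧
    (∀ (i : I) (Vi Wi : FEt.Cat (D.obj i)) (φ ψ : Vi ⟶ Wi),
      (FEt.restrict (c.π.app i)).map φ = (FEt.restrict (c.π.app i)).map ψ →
      ∃ (j : I) (a : j ⟶ i), (FEt.restrict (D.map a)).map φ = (FEt.restrict (D.map a)).map ψ) := by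
  refine ⟨fun V => ?_, fun i Vi Wi φ ψ h => ?_⟩
  · haveI : IsFinite V.hom := V.prop.1
    haveI : Etale V.hom := V.prop.2
    obtain ⟨i, Xi, fi, q, hlfp, hqc, hqs, hX⟩ := S0591.result D c hc V.left V.hom
    haveI := hlfp; haveI := hqc; haveI := hqs
    haveI : CompactSpace Xi := QuasiCompact.compactSpace_of_compactSpace fi
    haveI : QuasiSeparatedSpace Xi := quasiSeparatedSpace_of_quasiSeparated fi
    have hY : IsPullback (c.π.app i) (𝟙 c.pt) (𝟙 (D.obj i)) (c.π.app i) :=
      IsPullback.of_id_snd
    obtain ⟨j₁, hj₁⟩ := Groth.Limits.exists_isFinite_stage hc hY hX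
    obtain ⟨j₂, hj₂⟩ := Groth.Limits.exists_prop_stage @Etale Groth.Limits.ringDescends_etale
      (fun _ _ _ h => have : IsOpenImmersion _ := h; inferInstance) hc hY hX
      (inferInstanceAs (Etale V.hom))
    obtain ⟨k, a₁, a₂, -⟩ := IsCofilteredOrEmpty.cone_objs j₁ j₂
    let p := D.map k.hom
    have key : ∀ (P : MorphismProperty Scheme.{u}) [P.IsStableUnderBaseChange] (j : Over i)
        (a : k ⟶ j), P (pullback.snd fi (pullback.snd (D.map j.hom) (𝟙 (D.obj i)))) →
        P (pullback.snd fi p) := fun P _ j a hP =>
      Groth.Limits.prop_snd_comp P fi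
        (pullback.lift (D.map a.left) p (by
          rw [Category.comp_id, ← D.map_comp, Over.w a]))
        _ _ (pullback.lift_snd _ _ _) hP
    let Vk : FEt.Cat (D.obj k.left) := MorphismProperty.Over.mk ⊤ (pullback.snd fi p)
      ⟨key @IsFinite j₁ a₁ hj₁, key @Etale j₂ a₂ hj₂⟩
    have hπ : c.π.app k.left ≫ p = c.π.app i := c.w k.hom
    let r : V.left ⟶ pullback fi p := pullback.lift q (V.hom ≫ c.π.app k.left) (by
      rw [Category.assoc, hπ]; exact hX.w)
    have hr : IsPullback r V.hom (pullback.snd fi p) (c.π.app k.left) :=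
      IsPullback.of_right (by rw [pullback.lift_fst, hπ]; exact hX) (pullback.lift_snd _ _ _)
        (IsPullback.of_hasPullback fi p)
    exact ⟨k.left, Vk, ⟨MorphismProperty.Over.isoMk hr.isoPullback.symm
      hr.isoPullback_inv_snd⟩⟩
  · let vi : Vi.left ⟶ D.obj i := Vi.hom
    let wi : Wi.left ⟶ D.obj i := Wi.hom
    haveI : IsFinite vi := Vi.prop.1
    haveI : Etale vi := Vi.prop.2
    haveI : IsFinite wi := Wi.prop.1
    haveI : Etale wi := Wi.prop.2
    haveI : CompactSpace Vi.left := QuasiCompact.compactSpace_of_compactSpace vi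
    haveI : QuasiSeparatedSpace Vi.left := quasiSeparatedSpace_of_quasiSeparated vi
    haveI : CompactSpace Wi.left := QuasiCompact.compactSpace_of_compactSpace wi
    haveI : QuasiSeparatedSpace Wi.left := quasiSeparatedSpace_of_quasiSeparated wi
    obtain ⟨j, a, hja⟩ := S9219.result D c hc i vi wi
      (pullback.fst vi (c.π.app i)) (pullback.snd vi (c.π.app i))
      (IsPullback.of_hasPullback _ _) φ.left ψ.left (MorphismProperty.Over.w φ)
      (MorphismProperty.Over.w ψ) (Groth.Pi1Etale.fst_comp_eq_of_restrict_map_eq _ h)
    refine ⟨j, a, MorphismProperty.Over.Hom.ext (pullback.hom_ext ?_ ?_)⟩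
    · exact (pullback.lift_fst _ _ _).trans (hja.trans (pullback.lift_fst _ _ _).symm)
    · exact (pullback.lift_snd _ _ _).trans (pullback.lift_snd _ _ _).symm

end Groth.Agent.S12073
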