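import Groth.Statements.S2081
import Mathlib
import Groth.Agent.PropsBasic.GenericFinite

set_option autoImplicit false
universe u
open CategoryTheory AlgebraicGeometry
open Mor

namespace Groth.Agent.S2081

set_option backward.isDefEq.respectTransparency.types false

/-- Let `f : X → Y` be locally of finite type and quasi-compact. Suppose `X` and `Y` have finitely many
irreducible components and that a point of `X` is a generic point of an irreducible component
exactly when its image is one in `Y`. Then `f⁻¹(V) → V` is finite for some dense open `V ⊆ Y`. -/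
theorem result {X Y : Scheme.{u}} (f : X ⟶ Y) [LocallyOfFiniteType f]
    [QuasiCompact f] (hX : (irreducibleComponents (X : Type u)).Finite) (hY : (irreducibleComponents (Y : Type u)).Finite)
    (hgen : ∀ x : X, closure {x} ∈ irreducibleComponents (X : Type u) ↔
      closure {f.base x} ∈ irreducibleComponents (Y : Type u)) :
    ∃ V : Y.Opens, Dense (V : Set Y) ∧ IsFinite (f ∣_ V) := by
  have H : ∀ η : {y : Y | closure {y} ∈ irreducibleComponents (Y : Type u)},
      ∃ V : Y.Opens, IsAffineOpen V ∧ η.1 ∈ V ∧ IsFinite (f ∣_ V) := fun η =>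
    Groth.PropsBasic.GenericFinite.exists_affine_nhd_isFinite_of_gen f η.2 hX hY hgen
  choose V hV hηV hfin using H
  refine ⟨⨆ η, V η, fun z => ?_, ?_⟩
  · obtain ⟨g, hg, hgz⟩ := Groth.PropsBasic2.exists_genericPoint_specializes z
    exact closure_mono (Set.singleton_subset_iff.mpr
      (TopologicalSpace.Opens.mem_iSup.mpr ⟨⟨g, hg⟩, hηV ⟨g, hg⟩⟩)) (specializes_iff_mem_closure.mp hgz)
  · refine IsZariskiLocalAtTarget.of_iSup_eq_top (P := @IsFinite)
      (fun η => (⨆ η, V η : Y.Opens).ι ⁻¹ᵁ V η) ?_ fun η => ?_
    · rw [← Scheme.Hom.preimage_iSup]; exact top_le_iff.mp fun x _ => x.2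
    · refine (MorphismProperty.arrow_mk_iso_iff @IsFinite (morphismRestrictRestrict f _ _)).mpr ?_
      rw [Scheme.Hom.image_preimage_eq_opensRange_inf, Scheme.Opens.opensRange_ι,
        inf_eq_right.mpr (le_iSup V η)]
      exact hfin η

end Groth.Agent.S2081
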