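import Groth.Statements.S2074
import Groth.Agent.Limits.ProperDescent

set_option autoImplicit false
set_option backward.isDefEq.respectTransparency false
set_option backward.defeqAttrib.useBackward true
universe u
open CategoryTheory AlgebraicGeometry
open Lim

namespace Groth.Agent.S2074

/-- Let `S = lim S_i` be a cofiltered limit of schemes with affine transition morphisms, `f₀ : X₀ → Y₀`
a morphism of quasi-compact quasi-separated schemes over a quasi-compact quasi-separated stage
`S_{i₀}`, locally of finite type, and `f : X → Y` its base change to `S`. If `f` is proper then the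
base change `f_i : X_i → Y_i` to some stage `S_i` is proper. (Base changes are expressed by pullback
squares.) -/
theorem result {I : Type u} [SmallCategory I] [IsCofiltered I]
    (D : I ⥤ Scheme.{u}) (c : Limits.Cone D) (hc : Limits.IsLimit c)
    [∀ (i j : I) (f : i ⟶ j), IsAffineHom (D.map f)] (i₀ : I) [CompactSpace (D.obj i₀)]
    [QuasiSeparatedSpace (D.obj i₀)] {X₀ Y₀ : Scheme.{u}} (f₀ : X₀ ⟶ Y₀) (g₀ : Y₀ ⟶ D.obj i₀)
    [CompactSpace X₀] [QuasiSeparatedSpace X₀] [CompactSpace Y₀] [QuasiSeparatedSpace Y₀]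
    {X Y : Scheme.{u}} (f : X ⟶ Y) (g : Y ⟶ c.pt) (qY : Y ⟶ Y₀) (qX : X ⟶ X₀)
    (hY : IsPullback qY g g₀ (c.π.app i₀)) (hX : IsPullback qX f f₀ qY) [LocallyOfFiniteType f₀] [IsProper f] :
    ∃ (i : I) (φ : i ⟶ i₀) (Xi Yi : Scheme.{u}) (fi : Xi ⟶ Yi) (gi : Yi ⟶ D.obj i) (pY : Yi ⟶ Y₀)
      (pX : Xi ⟶ X₀), IsPullback pY gi g₀ (D.map φ) ∧ IsPullback pX fi f₀ pY ∧ IsProper fi := by
  let t := Groth.Limits.pullbackTrans D g₀
  have hτ : ∀ j, (Groth.Limits.pullbackCone D i₀ g₀ c).π.app j ≫ t.app j =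
      Limits.pullback.snd (c.π.app i₀) g₀ := fun j ↦ Limits.pullback.lift_snd _ _ _
  have : QuasiCompact f₀ := inferInstance
  have : IsProper (Limits.pullback.snd f₀ (Limits.pullback.snd (c.π.app i₀) g₀)) :=
    Groth.Limits.prop_snd_of_isPullback @IsProper hY hX inferInstance
  have : ∀ j : Over i₀, IsAffineHom (Limits.pullback.snd (D.map j.hom) g₀) := fun j ↦
    MorphismProperty.pullback_snd _ _ inferInstance
  have : ∀ j, CompactSpace ((Groth.Limits.pullbackDiagram D i₀ g₀).obj j) := fun j ↦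
    QuasiCompact.compactSpace_of_compactSpace (Limits.pullback.snd (D.map j.hom) g₀)
  have : ∀ j, QuasiSeparatedSpace ((Groth.Limits.pullbackDiagram D i₀ g₀).obj j) := fun j ↦
    quasiSeparatedSpace_of_quasiSeparated (Limits.pullback.snd (D.map j.hom) g₀)
  obtain ⟨j, hj⟩ := Groth.Limits.exists_isProper_bcTrans (Groth.Limits.isLimitPullbackCone D i₀ g₀ hc)
    t _ hτ f₀
  exact Groth.Limits.exists_isPullback_of_stage D f₀ g₀ @IsProper j hj

end Groth.Agent.S2074
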