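import Groth.Statements.S14424
import Groth.Agent.LocCohBase.DepthLocal
import Groth.Agent.LocCohBase.CM

set_option autoImplicit false
universe u
open LocCoh

namespace Groth.Agent.S14424

/-- Let R be a Noetherian ring. Then R is Cohen–Macaulay (every localization at a prime ideal is a
Cohen–Macaulay local ring) if and only if for every proper ideal a of R the a-depth of R equals the
height (codimension) of a. (The published statement defines a Cohen–Macaulay ring by its
localizations at maximal ideals; this row uses all prime ideals, an equivalent definition because
Cohen–Macaulayness passes to localizations.) -/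
theorem result (R : Type u) [CommRing R] [IsNoetherianRing R] :
    LocCoh.IsCohenMacaulayRing R ↔ ∀ a : Ideal R, a ≠ ⊤ → LocCoh.idealDepth a R = a.height := by
  have e : ∀ (p : Ideal R) [p.IsPrime],
      LocCoh.depth (Localization.AtPrime p) (LocalizedModule p.primeCompl R) =
        LocCoh.depth (Localization.AtPrime p) (Localization.AtPrime p) := fun p _ =>
    Groth.LocCohBase.idealDepth_congr
      ((IsLocalizedModule.iso p.primeCompl (Algebra.linearMap R (Localization.AtPrime p))
        ).extendScalarsOfIsLocalization p.primeCompl (Localization.AtPrime p))
  constructor
  · intro h a ha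
    have hd : ∀ (p : Ideal R) [p.IsPrime],
        LocCoh.depth (Localization.AtPrime p) (LocalizedModule p.primeCompl R) = p.height := by
      intro p _
      have h1 := (h.isCohenMacaulayLocalRing_localization p).supportDim_eq_depth
      rw [Module.supportDim_self_eq_ringKrullDim,
        IsLocalization.AtPrime.ringKrullDim_eq_height p (Localization.AtPrime p)] at h1
      rw [e p]
      exact (WithBot.coe_inj.1 h1).symm
    rw [Groth.LocCohBase.idealDepth_eq_iInf_depth]
    refine le_antisymm ?_ (le_iInf₂ fun p hp => ?_)
    · rw [Ideal.height_eq_inf_minimalPrimes]
      refine le_iInf₂ fun q hq => ?_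
      have := hq.1.1
      exact iInf₂_le_of_le (⟨q, hq.1.1⟩ : PrimeSpectrum R) hq.1.2 (hd q).le
    · rw [hd p.asIdeal]
      exact Ideal.height_mono hp
  · intro h
    refine { isCohenMacaulayLocalRing_localization := fun p _ => { supportDim_eq_depth := ?_ } }
    refine le_antisymm ?_ (Groth.LocCohBase.depth_le_supportDim (Localization.AtPrime p))
    rw [Module.supportDim_self_eq_ringKrullDim,
      IsLocalization.AtPrime.ringKrullDim_eq_height p (Localization.AtPrime p),
      WithBot.coe_le_coe, ← h p (Ideal.IsPrime.ne_top inferInstance), ← e p]
    exact Groth.LocCohBase.idealDepth_le_depth_localized p p le_rfl R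

end Groth.Agent.S14424
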