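import Groth.Statements.S7613
import Groth.Agent.VarietyBC.GeomReducedGeneric
import Groth.Agent.VarietyBC.Fibre
import Groth.Agent.Ega4Algebra1.RegularNormal

set_option autoImplicit false
universe u
open CategoryTheory CategoryTheory.Limits AlgebraicGeometry
open Variety

namespace Groth.Agent.S7613

/-- Let X be a variety over a field k (integral, separated and of finite type over k) with a k-rational
point x (k → κ(x) onto) such that X → Spec k is smooth at x. Then every base change of X to an
extension field of k is an integral scheme (X is geometrically integral over k). -/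
theorem result (k : Type u) [Field k] (X : Scheme.{u}) [X.Over (Spec (CommRingCat.of k))] [IsIntegral X] [IsSeparated (X ↘ (Spec (CommRingCat.of k)))]
    [LocallyOfFiniteType (X ↘ (Spec (CommRingCat.of k)))] [QuasiCompact (X ↘ (Spec (CommRingCat.of k)))]
    (x : ↥X) (hx : Function.Surjective (Curv2.resMap k X x)) (hsm : x ∈ (X ↘ (Spec (CommRingCat.of k))).smoothLocus) :
    GeometricallyIntegral (X ↘ (Spec (CommRingCat.of k))) := by
  haveI : LocallyOfFinitePresentation (X ↘ (Spec (CommRingCat.of k))) := by
    haveI := LocallyOfFiniteType.isLocallyNoetherian (X ↘ (Spec (CommRingCat.of k)))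
    infer_instance
  haveI : GeometricallyReduced (X ↘ (Spec (CommRingCat.of k))) :=
    Groth.VarietyBC.geometricallyReduced_of_dense_smooth _
      ((X ↘ (Spec (CommRingCat.of k))).smoothLocus.isOpen.dense ⟨x, hsm⟩) le_rfl
  haveI : GeometricallyIrreducible (X ↘ (Spec (CommRingCat.of k))) := by
    refine Groth.VarietyBC.geometricallyIrreducible_of_sepClosedAt ?_
    letI := Curv2.resAlgebra k X (genericPoint X)
    intro a ha
    haveI := Groth.VarietyBC.isRegularLocalRing_of_mem_smoothLocus (k := k) hsm
    haveI := Groth.Ega4Algebra1.isIntegrallyClosed_of_isRegularLocalRing (X.presheaf.stalk x)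
    letI := Curv2.stalkAlgebra k X x
    let s : X.presheaf.stalk x →+* X.functionField := algebraMap _ _
    let r : X.functionField →+* X.residueField (genericPoint X) := (X.residue (genericPoint X)).hom
    letI : Algebra k X.functionField := (s.comp (Curv2.stalkMap k X x)).toAlgebra
    haveI : IsScalarTower k (X.presheaf.stalk x) X.functionField := IsScalarTower.of_algebraMap_eq' rfl
    have hk : Curv2.stalkMap k X (genericPoint X) = s.comp (Curv2.stalkMap k X x) := by
      have h : X.presheaf.germ ⊤ x trivial ≫
          X.presheaf.stalkSpecializes ((genericPoint_spec X).specializes (Set.mem_univ x)) =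
            X.presheaf.germ ⊤ (genericPoint X) trivial := X.presheaf.germ_stalkSpecializes _ _
      refine RingHom.ext fun c => ?_
      exact (congr(($h) (Coh.toGlobal (X ↘ Spec (CommRingCat.of k)) c))).symm
    let r' : X.functionField →ₐ[k] X.residueField (genericPoint X) :=
      { r with
        commutes' := fun c => by
          show r (s (Curv2.stalkMap k X x c)) = r (Curv2.stalkMap k X (genericPoint X) c)
          rw [hk]; rfl }
    have hrinj : Function.Injective r' := r'.toRingHom.injective
    obtain ⟨b, hb⟩ := IsLocalRing.residue_surjective (R := X.presheaf.stalk (genericPoint X)) a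
    have hba : r' b = a := hb
    have hint : IsIntegral k b := (isIntegral_algHom_iff r' hrinj).1 (hba ▸ ha.isIntegral)
    obtain ⟨c, hc⟩ := IsIntegrallyClosed.algebraMap_eq_of_integral
      (hint.tower_top (A := X.presheaf.stalk x))
    obtain ⟨l, hl⟩ := hx ((X.residue x).hom c)
    letI := Curv2.resAlgebra k X x
    let rx : X.presheaf.stalk x →ₐ[k] X.residueField x :=
      { (X.residue x).hom with commutes' := fun _ => rfl }
    have h0 : Polynomial.aeval c (minpoly k a) = 0 := by
      apply IsFractionRing.injective (X.presheaf.stalk x) X.functionField
      rw [map_zero, ← Polynomial.aeval_algebraMap_apply, hc]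
      apply hrinj
      rw [map_zero, ← Polynomial.aeval_algHom_apply, hba, minpoly.aeval]
    have hroot : (minpoly k a).IsRoot l := by
      have h1 := Polynomial.aeval_algHom_apply rx c (minpoly k a)
      rw [h0, map_zero] at h1
      change Polynomial.aeval ((X.residue x).hom c) (minpoly k a) = 0 at h1
      rw [← hl] at h1
      change Polynomial.aeval (algebraMap k (X.residueField x) l) (minpoly k a) = 0 at h1
      rw [Polynomial.aeval_algebraMap_apply, map_eq_zero] at h1
      exact h1
    exact minpoly.mem_range_of_degree_eq_one k a
      (Polynomial.degree_eq_one_of_irreducible_of_root (minpoly.irreducible ha.isIntegral) hroot)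
  exact GeometricallyIntegral.of_geometricallyReduced_of_geometricallyIrreducible _

end Groth.Agent.S7613
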