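import Groth.Statements.S2328
import Groth.Agent.Ega2Proj.AmpleBasic

set_option autoImplicit false
universe u
open CategoryTheory CategoryTheory.Limits AlgebraicGeometry
open EGA2

namespace Groth.Agent.S2328

/-- Let X be a quasi-compact separated scheme, L an ample invertible module and L' an invertible module
such that every point of X lies in the generating locus X_{s'} of some global section s' of some
positive power of L'. Then L ⊗ L' is ample. -/
theorem result (X : Scheme.{u}) [CompactSpace X] [X.IsSeparated] (L L' : X.Modules) (hL : CohB1.IsAmple L) (hL' : PicF.IsInvertible L')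
    (h : ∀ x : X, ∃ (n : ℕ) (s' : Coh.structureModule X ⟶ CohB1.tensorPow L' (n + 1)), x ∈ CohB1.genLocus _ s') :
    CohB1.IsAmple (CohB1.tensorMod L L') := by
  open Groth.PicAux Groth.PropsBasic.Ample in
  refine ⟨isInvertible_tensorMod hL.1 hL', inferInstance, fun x => ?_⟩
  obtain ⟨m, s', hxs'⟩ := h x
  rw [Groth.PropsBasic.Ample.genLocus_eq_gloc] at hxs'
  obtain ⟨n, s, hs, hxs, hsle⟩ := Groth.Ega2Proj.exists_affine_gloc_between_of_isAmple hL
    (Groth.PropsBasic.Ample.gloc (Groth.PicAux.gsec s')) {x} (fun y hy => by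
      rw [Finset.mem_singleton.mp hy]; exact hxs')
  have hpos : 0 < (n + 1) * (m + 1) := Nat.mul_pos (Nat.succ_pos _) (Nat.succ_pos _)
  let N := (n + 1) * (m + 1) - 1
  obtain ⟨a, ha⟩ := Groth.Ega2Proj.exists_gloc_pow hL.1 s (Nat.succ_pos m) (N := N + 1) (Nat.sub_add_cancel hpos).symm
  obtain ⟨b, hb⟩ := Groth.Ega2Proj.exists_gloc_pow hL' (Groth.PicAux.gsec s') (Nat.succ_pos n) (N := N + 1)
    ((mul_comm _ _).trans (Nat.sub_add_cancel hpos).symm)
  obtain ⟨e⟩ := Groth.PicAux.tensorPow_tensorMod L L' (N + 1)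
  open Groth.PicAux Groth.PropsBasic.Ample in
  have key : ∃ t : Γ(CohB1.tensorPow (CohB1.tensorMod L L') (N + 1), ⊤), gloc t = gloc s := by
    refine ⟨e.inv.app ⊤ (tmulSec a b), ?_⟩
    rw [gloc_map e.inv, gloc_tmulSec (isInvertible_tensorPow hL.1 _) (isInvertible_tensorPow hL' _), ha, hb,
      inf_eq_left.mpr hsle]
  obtain ⟨t, ht⟩ := key
  refine ⟨N, Groth.PicAux.homOfSection t, ?_, ?_⟩
  · exact ht.ge (hxs x (Finset.mem_singleton_self x))
  · change IsAffineOpen (Groth.PropsBasic.Ample.gloc t)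
    rw [ht]; exact hs

end Groth.Agent.S2328
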