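import Groth.Statements.S1525
import Groth.Agent.VarietyBC.EulerPush
-- import your own Groth.Agent.* helpers here

set_option autoImplicit false
universe u
open CategoryTheory CategoryTheory.Limits AlgebraicGeometry
open Variety

namespace Groth.Agent.S1525

/-- For a morphism f : Y → X of proper schemes over a field and a coherent module G on Y, χ(Y, G) equals
the alternating sum over i of χ(X, R^i f_* G) (a finite sum, written here as a finitary sum). -/
theorem result (k : Type u) [Field k] (X Y : Scheme.{u})
    [X.Over (Spec (CommRingCat.of k))] [Y.Over (Spec (CommRingCat.of k))] [IsProper (X ↘ (Spec (CommRingCat.of k)))] [IsProper (Y ↘ (Spec (CommRingCat.of k)))]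
    (f : Y ⟶ X) (hf : f ≫ (X ↘ (Spec (CommRingCat.of k))) = Y ↘ (Spec (CommRingCat.of k))) [HasInjectiveResolutions Y.Modules]
    (G : Y.Modules) (hG : Coh.IsCoh G) :
    Curv2.euler k Y G = ∑ᶠ i : ℕ, (-1 : ℤ) ^ i * Curv2.euler k X ((Coh.Rpush f i).obj G) := by
  haveI : IsProper (f ≫ (X ↘ Spec (CommRingCat.of k))) := by rw [hf]; infer_instance
  haveI : IsProper f := IsProper.of_comp f (X ↘ Spec (CommRingCat.of k))
  have hNX : IsNoetherian X := Groth.Inter.isNoetherian k
  obtain ⟨N, hN⟩ := Groth.Misc4.QCohCd.exists_isZero_Rpush f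
  have hz : ∀ (M : Y.Modules), Coh.IsCoh M → ∀ p, N < p → IsZero ((Coh.Rpush f p).obj M) :=
    fun M hM p hp => hN M hM.1 p (by exact_mod_cast hp)
  rw [finsum_eq_sum_of_support_subset _ (s := Finset.range (N + 1)) (fun i hi => by
    simp only [Function.mem_support, ne_eq, Finset.coe_range, Set.mem_Iio] at hi ⊢
    by_contra h
    exact hi (by rw [Groth.Inter.euler_of_isZero k (hz G hG i (by omega)), mul_zero]))]
  exact Groth.VarietyBC.EulerPush.euler_eq_sum_Rpush k f hf N
    (fun M hM => hz M hM (N + 1) (Nat.lt_succ_self N)) hG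

end Groth.Agent.S1525
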