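import Groth.Statements.S9693
import Mathlib

set_option autoImplicit false
universe u
open CategoryTheory CategoryTheory.Limits AlgebraicGeometry
open Mor

namespace Groth.Agent.S9693

open CategoryTheory.Limits

/-- A base change of an H-projective morphism (a closed immersion into some P^n over the base followed
by the projection) is H-projective. -/
theorem result {X S S' : Scheme.{u}} (f : X ⟶ S) (hf : RelProj.IsHProjective f)
    (g : S' ⟶ S) : RelProj.IsHProjective (pullback.snd f g) := by
  obtain ⟨n, i, hi, rfl⟩ := hf
  let t := CohB1.ProjSpace.toSpec n (ULift.{u} ℤ)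
  let F : CohB1.ProjSpaceOver n S' ⟶ CohB1.ProjSpaceOver n S :=
    pullback.lift (pullback.fst t (specULiftZIsTerminal.from S'))
      (CohB1.ProjSpaceOver.toBase n S' ≫ g) (specULiftZIsTerminal.hom_ext _ _)
  have hF₁ : F ≫ pullback.fst t (specULiftZIsTerminal.from S) =
      pullback.fst t (specULiftZIsTerminal.from S') := pullback.lift_fst _ _ _
  have hF₂ : F ≫ CohB1.ProjSpaceOver.toBase n S = CohB1.ProjSpaceOver.toBase n S' ≫ g :=
    pullback.lift_snd _ _ _
  have big : IsPullback (F ≫ pullback.fst t (specULiftZIsTerminal.from S))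
      (CohB1.ProjSpaceOver.toBase n S') t (g ≫ specULiftZIsTerminal.from S) := by
    rw [hF₁, show g ≫ specULiftZIsTerminal.from S = specULiftZIsTerminal.from S' from
      specULiftZIsTerminal.hom_ext _ _]
    exact IsPullback.of_hasPullback _ _
  have sq : IsPullback F (CohB1.ProjSpaceOver.toBase n S') (CohB1.ProjSpaceOver.toBase n S) g :=
    IsPullback.of_right big hF₂ (IsPullback.of_hasPullback _ _)
  let k := sq.lift (pullback.fst (i ≫ CohB1.ProjSpaceOver.toBase n S) g ≫ i) (pullback.snd _ g)
    (by rw [Category.assoc, pullback.condition])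
  refine ⟨n, k, ?_, sq.lift_snd _ _ _⟩
  have top : IsPullback (pullback.fst (i ≫ CohB1.ProjSpaceOver.toBase n S) g) k i F := by
    refine IsPullback.of_bot ?_ (sq.lift_fst _ _ _).symm sq
    rw [sq.lift_snd]
    exact IsPullback.of_hasPullback _ _
  exact MorphismProperty.of_isPullback top hi

end Groth.Agent.S9693
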