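import Groth.Statements.S1664
import Groth.Agent.VarietyBC.GGen
import Groth.Agent.PicAux.Tensor

set_option autoImplicit false
universe u
open CategoryTheory CategoryTheory.Limits AlgebraicGeometry
open Variety

namespace Groth.Agent.S1664

open Groth.PicAux Groth.PropsBasic.Ample

/-- Let X be quasi-compact. Suppose every point of X lies in the locus where some global section s of
some globally generated invertible module L generates L, with that locus affine. Then X has an ample
invertible module. -/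
theorem result (X : Scheme.{u}) [CompactSpace X]
    (h : ∀ x : X, ∃ (L : X.Modules) (s : Coh.structureModule X ⟶ L), PicF.IsInvertible L ∧ Curv2.IsGloballyGenerated L ∧
      x ∈ CohB1.genLocus L s ∧ IsAffineOpen (CohB1.genLocus L s)) :
    ∃ M : X.Modules, CohB1.IsAmple M := by
  classical
  choose L s hL hg hx hA using h
  obtain ⟨F, hF⟩ := CompactSpace.isCompact_univ.elim_finite_subcover
    (fun x => (CohB1.genLocus (L x) (s x) : Set X)) (fun x => (CohB1.genLocus (L x) (s x)).isOpen)
    (fun x _ => Set.mem_iUnion.2 ⟨x, hx x⟩)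
  have key : ∀ T : Finset X, ∃ M : X.Modules, PicF.IsInvertible M ∧
      (∀ x : X, ∃ t : Γ(M, (⊤ : X.Opens)), x ∈ gloc t) ∧
      ∀ i ∈ T, ∀ x ∈ CohB1.genLocus (L i) (s i), ∃ t : Γ(M, (⊤ : X.Opens)),
        x ∈ gloc t ∧ IsAffineOpen (gloc t) := by
    intro T
    induction T using Finset.induction with
    | empty =>
      exact ⟨Coh.structureModule X,
        (isInvertible_iff_exists_gen _).2 fun x => ⟨⊤, oneSec X ⊤, trivial, gen_oneSec ⊤⟩,
        fun x => ⟨oneSec X ⊤, le_gloc (V := ⊤) (by rw [res_self]; exact gen_oneSec ⊤) trivial⟩,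
        fun i hi => absurd hi (Finset.notMem_empty i)⟩
    | insert a T ha ih =>
      obtain ⟨M, hM, hMg, hMa⟩ := ih
      refine ⟨CohB1.tensorMod M (L a), isInvertible_tensorMod hM (hL a), fun x => ?_,
        fun i hi x hxi => ?_⟩
      · obtain ⟨t, ht⟩ := hMg x
        obtain ⟨t', ht'⟩ := Groth.VarietyBC.GGen.exists_mem_gloc (hL a) (hg a) x
        exact ⟨tmulSec t t', by rw [gloc_tmulSec hM (hL a)]; exact ⟨ht, ht'⟩⟩
      · rcases Finset.mem_insert.1 hi with rfl | hi
        · obtain ⟨t, ht⟩ := hMg x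
          refine ⟨tmulSec t (gsec (s i)), ?_, ?_⟩
          · rw [gloc_tmulSec hM (hL i), ← genLocus_eq_gloc]; exact ⟨ht, hxi⟩
          · rw [gloc_tmulSec hM (hL i), ← genLocus_eq_gloc]
            exact isAffineOpen_gloc_inf hM (homOfSection t) (hA i)
        · obtain ⟨t, ht, htA⟩ := hMa i hi x hxi
          obtain ⟨t', ht'⟩ := Groth.VarietyBC.GGen.exists_mem_gloc (hL a) (hg a) x
          refine ⟨tmulSec t t', ?_, ?_⟩
          · rw [gloc_tmulSec hM (hL a)]; exact ⟨ht, ht'⟩
          · rw [gloc_tmulSec hM (hL a), inf_comm]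
            exact isAffineOpen_gloc_inf (hL a) (homOfSection t') htA
  obtain ⟨M, hM, -, hMa⟩ := key F
  refine ⟨M, hM, inferInstance, fun x => ?_⟩
  obtain ⟨i, hi, hxi⟩ := Set.mem_iUnion₂.1 (hF (Set.mem_univ x))
  obtain ⟨t, ht, htA⟩ := hMa i hi x hxi
  obtain ⟨e⟩ := tensorPow_one M
  exact ⟨0, homOfSection (e.inv.app ⊤ t), (gloc_map e.inv t).ge ht, by
    change IsAffineOpen (gloc (e.inv.app ⊤ t)); rw [gloc_map]; exact htA⟩

end Groth.Agent.S1664
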