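import Groth.Statements.S9126
import Mathlib
import Groth.Agent.Calg1.CatenaryLocal

set_option autoImplicit false
universe u
open CAlg

namespace Groth.Agent.S9126

/-- An algebra essentially of finite type over a Noetherian universally catenary ring is universally
catenary. -/
theorem result (A : Type u) [CommRing A] (B : Type u) [CommRing B]
    [Algebra A B] [Algebra.EssFiniteType A B]
    (hA : CAlg.IsUniversallyCatenary A) : CAlg.IsUniversallyCatenary B := by
  have hN := hA.1
  rw [Groth.Calg1.isUniversallyCatenary_iff_mvPolynomial]
  refine ⟨Algebra.EssFiniteType.isNoetherianRing A B, fun n => ?_⟩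
  let B₀ := Algebra.EssFiniteType.subalgebra A B
  let M := Algebra.EssFiniteType.submonoid A B
  have h0 : CAlg.IsCatenary (MvPolynomial (Fin n) B₀) := hA.2 _ inferInstance
  letI := MvPolynomial.algebraMvPolynomial (σ := Fin n) (R := B₀) (S := B)
  exact Groth.Calg1.catOrd_localization (R := MvPolynomial (Fin n) B₀)
    (M.map (MvPolynomial.C (σ := Fin n))) (MvPolynomial (Fin n) B) h0

end Groth.Agent.S9126
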