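import Groth.Statements.S0791
import Groth.Agent.CohProper.Image
import Groth.Agent.HTopHyper.SigmaProper
import Groth.Agent.Pi1Quot.SigmaFinite
-- import your own Groth.Agent.* helpers here

set_option autoImplicit false
universe u
open Coherent

namespace Groth.Agent.S0791

open CategoryTheory AlgebraicGeometry in
/-- Let f : X → S be locally of finite type. A finite union of closed subsets of X that are proper over
S is again proper over S. -/
theorem result {X S : Scheme.{u}} (f : X ⟶ S) [LocallyOfFiniteType f]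
    (ι : Type) [Finite ι] (Z : ι → Set X) (hZ : ∀ i, ClSub.IsProperOver f (Z i)) :
    ClSub.IsProperOver f (Set.iUnion Z) := by

  let W : ULift.{u} ι → Scheme.{u} := fun i =>
    (Scheme.IdealSheafData.vanishingIdeal ⟨Z i.down, (hZ i.down).1⟩).subscheme
  let j : ∀ i, W i ⟶ X := fun i => Scheme.IdealSheafData.subschemeι _
  have hfin : IsFinite (Limits.Sigma.desc j) := Groth.Pi1Quot.isFinite_sigmaDesc j
  have hfold : IsFinite (Limits.Sigma.desc fun _ : ULift.{u} ι => 𝟙 S) :=
    Groth.Pi1Quot.isFinite_sigmaDesc _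
  have hmap : IsProper (Limits.Sigma.map fun i => j i ≫ f) :=
    Groth.HTopHyper.isProper_sigmaMap _ fun i => (hZ i.down).2
  have : IsProper (Limits.Sigma.desc j ≫ f) := by
    have e : Limits.Sigma.desc j ≫ f =
        Limits.Sigma.map (fun i => j i ≫ f) ≫ Limits.Sigma.desc fun _ : ULift.{u} ι => 𝟙 S :=
      Limits.Sigma.hom_ext _ _ fun i => by simp
    rw [e]; infer_instance
  have h := Groth.CohProper.isProperOver_range (Limits.Sigma.desc j) f
  have he : Set.range (Limits.Sigma.desc j) = Set.iUnion Z := by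
    ext x
    constructor
    · rintro ⟨y, rfl⟩
      obtain ⟨i, z, rfl⟩ := (sigmaOpenCover W).exists_eq y
      have : Limits.Sigma.desc j (Limits.Sigma.ι W i z) = j i z :=
        congrArg (fun q : W i ⟶ X => q z) (Limits.Sigma.ι_desc j i)
      refine Set.mem_iUnion.mpr ⟨i.down, ?_⟩
      erw [this]
      have h2 := Set.mem_range_self (f := j i) z
      rw [Scheme.IdealSheafData.range_subschemeι, Scheme.IdealSheafData.coe_support_vanishingIdeal] at h2
      exact h2
    · intro hx
      obtain ⟨i, hx⟩ := Set.mem_iUnion.mp hx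
      have h2 : x ∈ Set.range (j ⟨i⟩) := by
        rw [Scheme.IdealSheafData.range_subschemeι, Scheme.IdealSheafData.coe_support_vanishingIdeal]
        exact hx
      obtain ⟨z, rfl⟩ := h2
      exact ⟨Limits.Sigma.ι W ⟨i⟩ z,
        congrArg (fun q : W ⟨i⟩ ⟶ X => q z) (Limits.Sigma.ι_desc j ⟨i⟩)⟩
  rwa [he] at h

end Groth.Agent.S0791
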