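import Groth.Statements.S9069
import Groth.Agent.DerivedAdj.Devissage

set_option autoImplicit false
universe u
open CategoryTheory CategoryTheory.Limits Opposite
attribute [local instance] HasDerivedCategory.standard
open SiteCmp

namespace Groth.Agent.S9069

/-- Let f be a flat morphism from the ringed site (C, O_C) to the ringed site (D, O_D) and A ⊂ Mod(O_C),
A' ⊂ Mod(O_D) weak Serre subcategories such that f^* induces an equivalence of categories A' → A and
F' → Rf_*f^*F' is an isomorphism for every F' ∈ A'. Then f^* : D^+_{A'}(O_D) → D^+_A(O_C) is an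
equivalence with quasi-inverse Rf_*: on bounded below objects with cohomology sheaves in A' (resp.
A) the functor f^* (resp. Rf_*) lands in bounded below objects with cohomology sheaves in A (resp.
A'), and the unit (resp. counit) of the adjunction is an isomorphism there. The adjunction f^* ⊣
Rf_* on unbounded derived categories is a hypothesis; f^* is exact, so it is its own derived
functor. Stated for ringed sites; the published statement is for ringed topoi. -/
theorem result
    {C : Type u} [SmallCategory C] {J : GrothendieckTopology C} {O_C : Sheaf J CommRingCat.{u}}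
    {D : Type u} [SmallCategory D] {K : GrothendieckTopology D} {O_D : Sheaf K CommRingCat.{u}}
    (f : ModSite.RMor O_C O_D) [PreservesFiniteLimits f.pull] [SiteCmp.HasRpushD f]
    (adj : SiteCmp.pullD f ⊣ SiteCmp.RpushD f)
    (A : ObjectProperty (ModSite.Mod O_C)) [WSerre.IsWeakSerre A]
    (A' : ObjectProperty (ModSite.Mod O_D)) [WSerre.IsWeakSerre A']
    (h2a : ∀ F' : ModSite.Mod O_D, A' F' → A (f.pull.obj F'))
    (h2b : ∀ F' G' : ModSite.Mod O_D, A' F' → A' G' →
      Function.Bijective (fun φ : F' ⟶ G' => f.pull.map φ))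
    (h2c : ∀ F : ModSite.Mod O_C, A F → ∃ F' : ModSite.Mod O_D, A' F' ∧ Nonempty (f.pull.obj F' ≅ F))
    (h3 : ∀ F' : ModSite.Mod O_D, A' F' → IsIso (adj.unit.app (SiteCmp.inD O_D F'))) :
    (∀ Y : DerivedCategory (ModSite.Mod O_D), WSerre.cohInPlus A' Y →
      WSerre.cohInPlus A ((SiteCmp.pullD f).obj Y) ∧ IsIso (adj.unit.app Y)) ∧
    (∀ X : DerivedCategory (ModSite.Mod O_C), WSerre.cohInPlus A X →
      WSerre.cohInPlus A' ((SiteCmp.RpushD f).obj X) ∧ IsIso (adj.counit.app X)) := by
  letI := adj.rightAdjointCommShift ℤ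
  haveI := adj.commShift_of_leftAdjoint ℤ
  haveI : (SiteCmp.RpushD f).IsTriangulated := adj.isTriangulated_rightAdjoint
  have hR := Groth.DerivedAdj.leftExact_rightAdjoint f.pull (SiteCmp.RpushD f) adj
  have hL := Groth.DerivedAdj.leftExact_mapDerivedCategory f.pull
  have hunit : ∀ Y n, DerivedCategory.TStructure.t.IsGE Y n → WSerre.cohIn A' Y → IsIso (adj.unit.app Y) :=
    fun Y n hn hY => Groth.DerivedAdj.isIso_app_of_isGE adj.unit Groth.DerivedAdj.LeftExact.id
      (fun Z n hZ => hR _ n (hL Z n hZ)) Y n fun q => h3 _ (hY q)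
  refine ⟨fun Y hY => ?_, fun X hX => ?_⟩
  · obtain ⟨hY, n, hn⟩ := hY
    exact ⟨⟨fun q => A.prop_of_iso (Groth.DerivedAdj.homologyMapDerivedIso f.pull Y q).symm (h2a _ (hY q)),
      n, hL Y n hn⟩, hunit Y n hn hY⟩
  · obtain ⟨hX, n, hn⟩ := hX
    have key : ∀ F, A F → WSerre.cohIn A' ((SiteCmp.RpushD f).obj (SiteCmp.inD O_C F)) ∧
        IsIso (adj.counit.app (SiteCmp.inD O_C F)) := by
      intro F hF
      obtain ⟨F', hF', ⟨e⟩⟩ := h2c F hF
      have := h3 F' hF'
      let e' : (SiteCmp.pullD f).obj (SiteCmp.inD O_D F') ≅ SiteCmp.inD O_C F :=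
        (f.pull.mapDerivedCategorySingleFunctor 0).app F' ≪≫ (DerivedCategory.singleFunctor _ 0).mapIso e
      refine ⟨Groth.DerivedAdj.cohIn_of_iso A' (asIso (adj.unit.app (SiteCmp.inD O_D F')) ≪≫
        (SiteCmp.RpushD f).mapIso e') fun q => ?_, ?_⟩
      · by_cases hq : q = 0
        · subst hq
          exact A'.prop_of_iso ((DerivedCategory.singleFunctorCompHomologyFunctorIso _ 0).app F').symm hF'
        · refine A'.prop_of_isZero ?_
          rcases lt_or_gt_of_ne hq with h | h
          · exact DerivedCategory.isZero_of_isGE ((DerivedCategory.singleFunctor (ModSite.Mod O_D) 0).obj F') 0 q h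
          · exact DerivedCategory.isZero_of_isLE ((DerivedCategory.singleFunctor (ModSite.Mod O_D) 0).obj F') 0 q h
      · rw [← NatTrans.isIso_app_iff_of_iso adj.counit e']
        rw [IsIso.eq_inv_of_hom_inv_id (adj.left_triangle_components (SiteCmp.inD O_D F'))]
        infer_instance
    exact ⟨⟨Groth.DerivedAdj.cohIn_obj_of_isGE A' A (SiteCmp.RpushD f) hR (fun F hF => (key F hF).1) X n hX,
      n, hR X n hn⟩, Groth.DerivedAdj.isIso_app_of_isGE adj.counit (fun Z n hZ => hL _ n (hR Z n hZ))
        Groth.DerivedAdj.LeftExact.id X n fun q => (key _ (hX q)).2⟩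

end Groth.Agent.S9069
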