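import Groth.Statements.S3869
import Groth.Agent.AdicLinTop.CompletionMap

set_option autoImplicit false
universe u
open FCompl

namespace Groth.Agent.S3869

/-- For a ring A, an ideal J and a prime ideal 𝔭, let A{S⁻¹}, S = A ∖ 𝔭, be the completion of A_𝔭 for
the topology defined by the extension of J, and for f ∉ 𝔭 let A_{f} be the completion of A_f for the
topology defined by the extension of J. Consider the subring A_{S} of A{S⁻¹} generated by the images
of all the A_{f}, f ∉ 𝔭 (when A is adic Noetherian and 𝔭 is open, this is the inductive limit of the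
A_{f}, i.e. the stalk at 𝔭 of the structure sheaf of Spf(A) as a plain ring). If J ⊆ 𝔭, then A_{S}
is a local ring and its inclusion into A{S⁻¹} is a local homomorphism. -/
theorem result (A : Type u) [CommRing A] (J : Ideal A) (𝔭 : Ideal A) [𝔭.IsPrime]
    (hJ : J ≤ 𝔭) :
    IsLocalRing (FSch.stalkSubring A J 𝔭) ∧ IsLocalHom (FSch.stalkSubring A J 𝔭).subtype := by
  haveI : IsLocalRing (FSch.cAtPrime A J 𝔭) := Groth.AdicLinTop.CompletionMap.isLocalRing _
    (Groth.AdicLinTop.CompletionMap.map_ne_top A J 𝔭 hJ)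
  have key : ∀ x : FSch.stalkSubring A J 𝔭, IsUnit (x : FSch.cAtPrime A J 𝔭) → IsUnit x := fun x hx =>
    Groth.AdicLinTop.CompletionMap.isUnit_of_isUnit A J 𝔭 hJ x hx
  refine ⟨?_, ⟨fun x hx => key x hx⟩⟩
  haveI : Nontrivial (FSch.stalkSubring A J 𝔭) :=
    ⟨⟨0, 1, fun h => zero_ne_one (α := FSch.cAtPrime A J 𝔭) (congrArg Subtype.val h)⟩⟩
  refine IsLocalRing.of_isUnit_or_isUnit_one_sub_self fun x => ?_
  rcases IsLocalRing.isUnit_or_isUnit_one_sub_self (x : FSch.cAtPrime A J 𝔭) with h | h
  · exact Or.inl (key x h)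
  · exact Or.inr (key (1 - x) h)

end Groth.Agent.S3869
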