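import Groth.Statements.S4347
import Groth.Agent.AdicLinTop.CompletionQuot
import Groth.Agent.Calg1.Completion
import Groth.Agent.Calg6.FlatAdic

set_option autoImplicit false
universe u
open AdicRing

namespace Groth.Agent.S4347

/-- The completed ring of fractions of A with denominators in a multiplicative subset being the J-adic
completion of the localization of A at that subset: Let A be a Noetherian ring with the J-adic
topology and S' a multiplicative subset contained in the multiplicative subset S. Then the canonical
map from the completed ring of fractions of A with denominators in S' to the one with denominators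
in S is flat. (The published statement assumes A adic, i.e. also separated and complete; that is not
needed for this assertion.) -/
theorem result
    (A : Type u) [CommRing A] [IsNoetherianRing A] (J : Ideal A) (S' S : Submonoid A) (hS : S' ≤ S)
    (g : Localization S' →+* Localization S)
    (hg : g.comp (algebraMap A (Localization S')) = algebraMap A (Localization S))
    (hJ : (J.map (algebraMap A (Localization S'))).map g ≤ J.map (algebraMap A (Localization S))) :
    (FSch.complMap (J.map (algebraMap A (Localization S'))) (J.map (algebraMap A (Localization S)))
      g hJ).Flat := by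
  letI : Algebra (Localization S') (Localization S) := g.toAlgebra
  haveI : IsScalarTower A (Localization S') (Localization S) := IsScalarTower.of_algebraMap_eq'  hg.symm
  haveI : IsLocalization (S.map (algebraMap A (Localization S'))) (Localization S) :=
    IsLocalization.isLocalization_of_submonoid_le (Localization S') (Localization S) S' S hS
  haveI hflat : Module.Flat (Localization S') (Localization S) :=
    IsLocalization.flat _ (S.map (algebraMap A (Localization S')))
  set I := J.map (algebraMap A (Localization S')) with hIdef
  set K := J.map (algebraMap A (Localization S)) with hKdef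
  have hIK : I.map g = K := by rw [hIdef, hKdef, Ideal.map_map, hg]
  haveI : IsNoetherianRing (Localization S') := IsLocalization.isNoetherianRing S' _ inferInstance
  haveI : IsNoetherianRing (Localization S) := IsLocalization.isNoetherianRing S _ inferInstance
  have hIfg : I.FG := IsNoetherian.noetherian I
  have hKfg : K.FG := IsNoetherian.noetherian K
  haveI := Groth.Calg1.isNoetherianRing_adicCompletion I hIfg
  haveI := Groth.Calg1.isNoetherianRing_adicCompletion K hKfg
  let φ := FSch.complMap I K g hJ
  show @Module.Flat (AdicCompletion I (Localization S')) (AdicCompletion K (Localization S)) _ _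
    φ.toAlgebra.toModule
  letI := φ.toAlgebra
  have hev : ∀ (n : ℕ) x, AdicCompletion.evalₐ K n (φ x) =
      Ideal.quotientMap (K ^ n) g (FSch.pow_le_comap_pow_of_map_le I K g hJ n)
        (AdicCompletion.evalₐ I n x) := fun n x => by
    show AdicCompletion.evalₐ K n (FSch.complMap I K g hJ x) = _
    unfold FSch.complMap
    refine (AdicCompletion.factor_eval_eq_evalₐ _ _ (le_of_eq (Ideal.mul_top _))).symm.trans ?_
    simp [AdicCompletion.liftRingHom, AdicCompletion.eval]
  have hof : ∀ b, φ (algebraMap _ _ b) = algebraMap _ _ (g b) := fun b => by
    refine AdicCompletion.ext_evalₐ fun n => ?_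
    rw [hev, Groth.AdicLinTop.CompletionQuot.evalₐ_algebraMap,
      Groth.AdicLinTop.CompletionQuot.evalₐ_algebraMap, Ideal.quotientMap_mk]
  set J' := I.map (algebraMap (Localization S') (AdicCompletion I (Localization S'))) with hJ'
  have hJ'map : J'.map φ = K.map (algebraMap (Localization S) (AdicCompletion K (Localization S))) := by
    calc J'.map φ = I.map (φ.comp (algebraMap _ _)) := by rw [hJ', Ideal.map_map]
      _ = I.map ((algebraMap (Localization S) (AdicCompletion K (Localization S))).comp g) :=
        congrArg (I.map ·) (RingHom.ext hof)
      _ = (I.map g).map (algebraMap (Localization S) (AdicCompletion K (Localization S))) :=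
        (Ideal.map_map _ _).symm
      _ = _ := by rw [hIK]
  refine Groth.Calg6.flat_of_flat_quotient_base J' ?_ (fun n hn => ?_)
  · show J'.map φ ≤ _
    haveI := Groth.AdicLinTop.CompletionQuot.isAdicComplete_map K hKfg
    rw [hJ'map]
    exact IsAdicComplete.le_jacobson_bot _
  · let qI : AdicCompletion I (Localization S') ⧸ J' ^ n →+* Localization S' ⧸ I ^ n :=
      Ideal.Quotient.lift _ (AdicCompletion.evalₐ I n).toRingHom (fun x hx => by
        rwa [hJ', ← Groth.AdicLinTop.CompletionQuot.ker_evalₐ I hIfg n] at hx)
    have hqI : Function.Bijective qI := by
      constructor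
      · refine RingHom.lift_injective_of_ker_le_ideal _ _ ?_
        rw [Groth.AdicLinTop.CompletionQuot.ker_evalₐ I hIfg n]
      · exact Ideal.Quotient.lift_surjective_of_surjective _ _ (AdicCompletion.surjective_evalₐ I n)
    have hq : (Ideal.quotientMap (K ^ n) g (FSch.pow_le_comap_pow_of_map_le I K g hJ n)).Flat :=
      Groth.AdicLinTop.CompletionQuot.flat_of_flat (I ^ n) _ (Ideal.Quotient.mk (K ^ n))
        Ideal.Quotient.mk_surjective (by rw [Ideal.mk_ker, ← hIK, ← Ideal.map_pow]; rfl)
        (fun r => (Ideal.quotientMap_mk).symm)
    refine Groth.AdicLinTop.CompletionQuot.flat_tensor_of_flat (J' ^ n)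
      ((Ideal.quotientMap (K ^ n) g (FSch.pow_le_comap_pow_of_map_le I K g hJ n)).comp qI)
      (AdicCompletion.evalₐ K n).toRingHom (AdicCompletion.surjective_evalₐ K n) ?_ (fun r => ?_)
      ((RingHom.Flat.of_bijective hqI).comp hq)
    · rw [Groth.AdicLinTop.CompletionQuot.ker_evalₐ K hKfg n, ← hJ'map, ← Ideal.map_pow]
      rfl
    · exact hev n r

end Groth.Agent.S4347
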