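import Groth.Statements.S6906
import Groth.Agent.DAlg.KFlatOps


set_option autoImplicit false
universe u
open CategoryTheory CategoryTheory.Limits MonoidalCategory
open DRing

namespace Groth.Agent.S6906

/-- For a ring map `φ : R → R'` and a K-flat complex `K•` of `R`-modules, the degreewise base change `K•
⊗_R R'` is K-flat over `R'`. -/
theorem result (R R' : Type u) [CommRing R] [CommRing R'] (φ : R →+* R') (K : DRing.Cx R)
    (hK : (∀ L : DRing.Cx R, (∀ i : ℤ, IsZero (L.homology i)) → ∀ i : ℤ, IsZero ((L ⊗ K).homology i))) :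
    ∀ L : DRing.Cx R', (∀ i : ℤ, IsZero (L.homology i)) →
      ∀ i : ℤ, IsZero ((L ⊗ ((ModuleCat.extendScalars φ).mapHomologicalComplex (ComplexShape.up ℤ)).obj K).homology i) := by
  exact DAlg.KFlatMod.isKFlatCx_extCx φ hK

end Groth.Agent.S6906
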