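import Groth.Statements.S1121
import Groth.Agent.DerivedCoh.KFlat.StalkCriterion
import Groth.Agent.S6906

set_option autoImplicit false
universe u
open CategoryTheory CategoryTheory.Limits AlgebraicGeometry Opposite
attribute [local instance] HasDerivedCategory.standard
open Perf

namespace Groth.Agent.S1121

open MonoidalCategory

/-- `R → O_x`. -/
noncomputable def toStalkRing {R : CommRingCat.{u}} (x : Spec R) : R ⟶ (Spec R).presheaf.stalk x :=
  (Scheme.ΓSpecIso R).inv ≫ (Spec R).presheaf.germ ⊤ x trivial

/-- Global sections of a skyscraper. -/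
noncomputable def skyΓIso {R : CommRingCat.{u}} (x : Spec R) :
    Groth.DerivedCoh.KFlat.skyF x ⋙ moduleSpecΓFunctor (R := R) ≅
      ModuleCat.restrictScalars (toStalkRing x).hom :=
  NatIso.ofComponents (fun N =>
    (show (moduleSpecΓFunctor.obj ((Groth.DerivedCoh.KFlat.skyF x).obj N) : ModuleCat R) ≃ₗ[R]
        ((ModuleCat.restrictScalars (toStalkRing x).hom).obj N : ModuleCat R) from
      { toFun := fun s => (show Groth.QCohMod.SkyObj x N ⊤ from s) ⟨trivial⟩
        invFun := fun n => (show Groth.QCohMod.SkyObj x N ⊤ from fun _ => n)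
        left_inv := fun s => rfl
        right_inv := fun n => rfl
        map_add' := fun _ _ => rfl
        map_smul' := fun r s => by
          change (show Groth.QCohMod.SkyObj x N ⊤ from
            ((r • (show Γ((Groth.DerivedCoh.KFlat.skyF x).obj N, ⊤) from s)) :)) ⟨trivial⟩ = _
          rw [Scheme.Modules.smul_Spec_def, Subsingleton.elim (⊤ : (Spec R).Opens).leTop (𝟙 _),
            op_id, CategoryTheory.Functor.map_id]
          rfl }).toModuleIso) (fun _ => rfl)

/-- The stalk of `~M` is the base change of `M`. -/
noncomputable def tildeStkIso {R : CommRingCat.{u}} (x : Spec R) :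
    tilde.functor R ⋙ Groth.DerivedCoh.KFlat.stk x ≅
      ModuleCat.extendScalars (toStalkRing x).hom :=
  (((tilde.adjunction (R := R)).comp (Groth.DerivedCoh.KFlat.skyAdj x))).leftAdjointUniq
    ((ModuleCat.extendRestrictScalarsAdj (toStalkRing x).hom).ofNatIsoRight (skyΓIso x).symm)


open MonoidalCategory in
/-- Let R be a ring and K a K-flat cochain complex of R-modules (tensoring with K preserves acyclic
complexes). Then the associated complex K~ of O_{Spec R}-modules is K-flat: for every acyclic
complex L of O_{Spec R}-modules the total tensor complex L ⊗ K~ is acyclic. -/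
theorem result (R : CommRingCat.{u}) (K : DRing.Cx R)
    (hK : ∀ L : DRing.Cx R, (∀ i : ℤ, IsZero (L.homology i)) → ∀ i : ℤ, IsZero (((tensorRight K).obj L).homology i)) :
    DCoh.IsKFlat (((tilde.functor R).mapHomologicalComplex (ComplexShape.up ℤ)).obj K) := by
  rw [Groth.DerivedCoh.KFlat.isKFlat_iff_stalk]
  intro x M hM i
  have h1 := Groth.Agent.S6906.result R ((Spec R).presheaf.stalk x) (toStalkRing x).hom K hK M hM i
  let e : ((Groth.DerivedCoh.KFlat.stk x).mapHomologicalComplex (ComplexShape.up ℤ)).obj
      (((tilde.functor R).mapHomologicalComplex (ComplexShape.up ℤ)).obj K) ≅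
        ((ModuleCat.extendScalars (toStalkRing x).hom).mapHomologicalComplex (ComplexShape.up ℤ)).obj K :=
    (Functor.mapHomologicalComplexCompIso (tildeStkIso x) (ComplexShape.up ℤ)).app K
  exact IsZero.of_iso h1 ((HomologicalComplex.homologyFunctor _ _ i).mapIso
    ((tensorLeft M).mapIso e))

end Groth.Agent.S1121
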