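import Groth.Statements.S12451
import Mathlib
import Groth.Agent.PropsBasic.LocFree

set_option autoImplicit false
universe u
open CategoryTheory AlgebraicGeometry
open Props

namespace Groth.Agent.S12451

/-- For a commutative ring R and an R-module M, the associated quasi-coherent module M~ on Spec R is a
finite locally free O-module exactly when M is finitely generated and projective over R
(equivalently, a finite locally free R-module). -/
theorem result {R : CommRingCat.{u}} (M : ModuleCat.{u} R) :
    FlatMod.IsFinLocFree (tilde M) ↔ Module.Finite R M ∧ Module.Projective R M := by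
  rw [Groth.PropsBasic.LocFree.isFinLocFree_iff (tilde M), Groth.PropsBasic.FPSections.isFP_tilde_iff]
  let e := Groth.PropsBasic.FPSections.topLinearEquiv M
  let σ : R ≃+* Γ(Spec R, (⊤ : (Spec R).Opens)) :=
    RingEquiv.ofBijective (algebraMap R _) (Groth.PropsBasic.FPSections.bijective_algebraMap_Γ R)
  haveI : IsLocalization (⊥ : Submonoid R) Γ(Spec R, (⊤ : (Spec R).Opens)) :=
    (IsLocalization.isLocalization_iff_of_algEquiv _
      (AlgEquiv.ofBijective (Algebra.ofId R _)
        (Groth.PropsBasic.FPSections.bijective_algebraMap_Γ R))).mp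
      (IsLocalization.self (by simp))
  constructor
  · rintro ⟨hfp, hst⟩
    refine ⟨inferInstance, ?_⟩
    have hfpΓ : Module.FinitePresentation Γ(Spec R, (⊤ : (Spec R).Opens))
        Γ(tilde M, (⊤ : (Spec R).Opens)) :=
      Groth.PropsBasic.FPSections.finitePresentation_sections (tilde M)
        (Groth.PropsBasic.FPSections.isFP_tilde M) (isAffineOpen_top _)
    have hΓ : Module.Projective Γ(Spec R, (⊤ : (Spec R).Opens))
        Γ(tilde M, (⊤ : (Spec R).Opens)) := by
      rw [← Module.freeLocus_eq_univ_iff, Set.eq_univ_iff_forall]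
      intro p
      let x : (Spec R : Scheme.{u}) := (isAffineOpen_top (Spec R)).fromSpec p
      have hp : (isAffineOpen_top (Spec R)).primeIdealOf ⟨x, trivial⟩ = p := by
        haveI := (isAffineOpen_top (Spec R)).isOpenImmersion_fromSpec
        exact (isAffineOpen_top (Spec R)).fromSpec.isOpenEmbedding.injective
          ((isAffineOpen_top (Spec R)).fromSpec_primeIdealOf _)
      exact hp ▸ (Groth.PropsBasic.LocFree.free_stalk_iff (tilde M) (isAffineOpen_top _) x trivial).mp
        (hst x)
    haveI : Module.Flat R Γ(tilde M, (⊤ : (Spec R).Opens)) :=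
      (Module.flat_iff_of_isLocalization Γ(Spec R, (⊤ : (Spec R).Opens))
        (⊥ : Submonoid R) _).mp inferInstance
    haveI : Module.Flat R M := Module.Flat.of_linearEquiv e
    exact Module.Flat.projective_of_finitePresentation
  · rintro ⟨hfin, hproj⟩
    have hfp := Module.finitePresentation_of_projective R M
    refine ⟨hfp, fun x => ?_⟩
    refine (Groth.PropsBasic.LocFree.free_stalk_iff (tilde M) (isAffineOpen_top _) x trivial).mpr ?_
    haveI : Module.Finite R Γ(tilde M, (⊤ : (Spec R).Opens)) := Module.Finite.equiv e
    haveI : Module.Finite Γ(Spec R, (⊤ : (Spec R).Opens)) Γ(tilde M, (⊤ : (Spec R).Opens)) :=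
      Module.Finite.of_restrictScalars_finite R _ _
    haveI : Module.Flat R Γ(tilde M, (⊤ : (Spec R).Opens)) := Module.Flat.of_linearEquiv e.symm
    haveI : Module.Flat Γ(Spec R, (⊤ : (Spec R).Opens)) Γ(tilde M, (⊤ : (Spec R).Opens)) :=
      (Module.flat_iff_of_isLocalization Γ(Spec R, (⊤ : (Spec R).Opens))
        (⊥ : Submonoid R) _).mpr inferInstance
    rw [Module.freeLocus_eq_univ]
    trivial

end Groth.Agent.S12451
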