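import Groth.Statements.S6942
import Groth.Agent.DAlg.PCoh


set_option autoImplicit false
universe u
open CategoryTheory CategoryTheory.Limits
attribute [local instance] HasDerivedCategory.standard
open DRing

namespace Groth.Agent.S6942

/-- Let R be a Noetherian commutative ring and m an integer. An object K of D(R) is m-pseudo-coherent
exactly when H^i(K) = 0 for all large i and H^i(K) is a finitely generated R-module for each i ≥ m.
Every finitely generated R-module M is pseudo-coherent, and conversely. -/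
theorem result (R : Type u) [CommRing R]
    [IsNoetherianRing R] (m : ℤ) (K : Dual.D R) (M : Type u) [AddCommGroup M] [Module R M] :
    (DRing.IsPseudoCoherent R m K ↔
      (∃ b : ℤ, ∀ i : ℤ, b < i → Subsingleton (Dual.HD R K i)) ∧ ∀ i : ℤ, m ≤ i → Module.Finite R (Dual.HD R K i)) ∧
      (DRing.IsPseudoCoherentModule' R M ↔ Module.Finite R M) := by
  have hA := DAlg.isAdditiveSub_finFree R
  have hqs := DAlg.isQuasiStable_finFree R
  have hql := DAlg.isQuasiLiftable_finFree R
  refine ⟨⟨fun h => ⟨?_, fun i hi => DAlg.finite_HD_of_isPseudoCoherent h hi⟩, ?_⟩, ⟨fun h => ?_, fun h => ?_⟩⟩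
  · obtain ⟨b, hb⟩ := (DAlg.isPseudoCoherent_iff.1 h).bddAbove
    exact ⟨b, fun i hi => ModuleCat.subsingleton_of_isZero (hb i hi)⟩
  · rintro ⟨⟨b, hb⟩, hf⟩
    exact DAlg.isPseudoCoherent_iff.2 (PCohPunctual.pcn_of_homology hA hqs hql K b
      (fun i hi => ModuleCat.isZero_iff_subsingleton.2 (hb i hi))
      fun i hi => DAlg.isPC_single_of_finite R _ (hf i hi) (m - i))
  · exact (DAlg.pcn_zero_mD_iff (ModuleCat.of R M)).1
      (DAlg.isPseudoCoherent'_iff_isPC.1 h 0)
  · exact DAlg.isPseudoCoherent'_iff_isPC.2 (DAlg.isPC_single_of_finite R (ModuleCat.of R M) h)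

end Groth.Agent.S6942
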