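import Groth.Statements.S11158
import Groth.Agent.CohTwo.Ideals
import Groth.Agent.CohTwo.ExtZero
import Groth.Agent.CohTwo.LocalSurj

set_option autoImplicit false
universe u
open CategoryTheory CategoryTheory.Limits AlgebraicGeometry
attribute [local instance] HasDerivedCategory.standard
open Coherent

namespace Groth.Agent.S11158

/-- Let X be a locally Noetherian scheme and j : U ⟶ X an open immersion from an affine scheme. Then the
O_X-module j_! O_U (extension by zero of the structure sheaf of U) is a Noetherian object: every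
increasing sequence of subobjects of j_! O_U in the category of O_X-modules is eventually constant. -/
theorem result {U X : Scheme.{u}} [IsLocallyNoetherian X]
    [IsAffine U] (j : U ⟶ X) [IsOpenImmersion j]
    (c : ℕ →o Subobject (CxOX.extZeroUnit j)) :
    ∃ n : ℕ, ∀ m : ℕ, n ≤ m → c n = c m := by
  classical
  let V : X.Opens := j.opensRange
  have hV : IsAffineOpen V := isAffineOpen_opensRange j
  haveI hR : IsNoetherianRing Γ(X, V) := IsLocallyNoetherian.component_noetherian ⟨V, hV⟩
  let G : ℕ → X.Modules := fun n => (c n : X.Modules)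
  let ι : ∀ n, G n ⟶ Coh.structureModule X := fun n =>
    (c n).arrow ≫ Groth.CohTwo.extZeroUnitIncl j
  have hι : ∀ n, Mono (ι n) := fun n => by
    change Mono ((c n).arrow ≫ Groth.CohTwo.extZeroUnitIncl j); infer_instance
  have hle : ∀ {n m : ℕ} (h : n ≤ m), Subobject.ofLE _ _ (c.monotone h) ≫ ι m = ι n := fun h => by
    change Subobject.ofLE _ _ _ ≫ (c _).arrow ≫ _ = _
    rw [Subobject.ofLE_arrow_assoc]
  let I : ∀ η : V, ℕ →o Ideal Γ(X, V) := fun η =>
    ⟨fun n => Groth.CohTwo.nearIdeal (ι n) V η.1 η.2, fun n m h b ⟨W, hW, g, hη, e⟩ =>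
      ⟨W, hW, (Subobject.ofLE _ _ (c.monotone h)).app W g, hη, by
        rw [← e]; exact congr(($(hle h)).app W g)⟩⟩
  choose n₀ hn₀ using fun η : V => monotone_stabilizes_iff_noetherian.2 hR (I η)
  choose U k s hηU _ hs using fun η : V =>
    Groth.CohTwo.exists_local_generators hV η.1 η.2 (ι (n₀ η))
  haveI := noetherianSpace_of_isAffineOpen V hV
  obtain ⟨S, hS⟩ := Groth.CohTwo.exists_finset_cover (α := (V : Scheme.{u}))
    (fun η : V => (⟨Subtype.val ⁻¹' (U η : Set X), (U η).2.preimage continuous_subtype_val⟩ :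
      TopologicalSpace.Opens (V : Scheme.{u}))) hηU
  refine ⟨S.sup n₀, fun m hm => ?_⟩
  have hiso : IsIso (Subobject.ofLE _ _ (c.monotone hm)) := by
    refine Groth.CohTwo.isIso_of_mono_of_locally_surjective _ fun W t x hxW => ?_
    by_cases hxV : x ∈ V
    · obtain ⟨η, hηS, hxU, hηx⟩ := hS ⟨x, hxV⟩
      have hη : n₀ η ≤ S.sup n₀ := Finset.le_sup hηS
      have hI : Groth.CohTwo.nearIdeal (ι m) V η.1 η.2 ≤
          Groth.CohTwo.nearIdeal (ι (n₀ η)) V η.1 η.2 := (hn₀ η m (hη.trans hm)).ge
      obtain ⟨W', hW, hU', a, hxW', e⟩ := hs η (ι m) hI x hxU (hηx.map continuous_subtype_val) W t hxW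
      refine ⟨W', hW, (Subobject.ofLE _ _ (c.monotone hη)).app W'
        (∑ i, a i • Groth.CohTwo.res (G (n₀ η)) hU' (s η i)), hxW', ?_⟩
      haveI := hι m
      apply Groth.CohTwo.toFun_injective (ι m) W'
      rw [e]
      change (ι m).app W' _ = (ι (n₀ η)).app W' _
      rw [← hle (hη.trans hm), ← Subobject.ofLE_comp_ofLE _ _ _ (c.monotone hη) (c.monotone hm)]
      rfl
    · let w := (c m).arrow ≫ (Groth.CohTwo.extZeroUnitIso j).hom
      obtain ⟨A, hA, hxA, h0⟩ := Groth.CohTwo.vanishOff_below (w.app W t) x hxW hxV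
      refine ⟨A, hA, 0, hxA, Groth.CohTwo.app_injective w A ?_⟩
      rw [map_zero, map_zero, Groth.CohTwo.app_res, h0]
  exact le_antisymm (c.monotone hm)
    (Subobject.le_of_comm (inv (Subobject.ofLE _ _ (c.monotone hm)))
      (by rw [IsIso.inv_comp_eq, Subobject.ofLE_arrow]))

end Groth.Agent.S11158
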