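import Groth.Statements.S11157
import Groth.Agent.CohTwo.NoetherianCoprod
import Groth.Agent.CohTwo.NoetherianGen
import Groth.Agent.S11158

set_option autoImplicit false
universe u
open CategoryTheory CategoryTheory.Limits AlgebraicGeometry
open Coherent

namespace Groth.Agent.S11157

/-- On a locally Noetherian scheme X, any direct sum of injective O_X-modules (injective objects of the
category of all O_X-modules) is injective. -/
theorem result {X : Scheme.{u}} [IsLocallyNoetherian X]
    {ι : Type u} (I : ι → X.Modules) (hI : ∀ j, Injective (I j)) :
    Injective (∐ I) := by
  refine Groth.CohTwo.injective_of_extension_extZeroUnit _ fun U S i _ φ => ?_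
  have : IsAffine U.1 := U.2
  have : IsNoetherianObject (CxOX.extZeroUnit U.1.ι) :=
    (isNoetherianObject_iff_monotone_chain_condition _).2 fun c =>
      Groth.Agent.S11158.result U.1.ι c
  have : IsNoetherianObject S := isNoetherianObject_of_mono i
  exact Groth.CohTwo.exists_extension_of_noetherian I hI i φ

end Groth.Agent.S11157
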