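import Groth.Statements.S1819
import Groth.Agent.DualCore.BidualityCx

set_option autoImplicit false
universe u
open CategoryTheory
attribute [local instance] HasDerivedCategory.standard
open Dual

namespace Groth.Agent.S1819

/-- Let A be a Noetherian ring with a dualizing complex ω and K a complex of A-modules all of whose
cohomology modules are finite; assume RHom(K, −) exists. Then every cohomology module of RHom_A(K,
ω) is finite, and for every complex E representing RHom_A(K, ω) (with RHom(E, −) existing) there is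
an isomorphism RHom_A(E, ω) ≅ K in D(A). -/
theorem result (A : Type u) [CommRing A] [IsNoetherianRing A] (ω : Dual.D A) (hω : Dual.IsDualizing A ω) (K : DRing.Cx A) [DRing.HasRHomCx K] (hK : ∀ i : ℤ, Module.Finite A (Dual.HD A (DRing.toD K) i)) : (∀ i : ℤ, Module.Finite A (Dual.HD A ((DRing.RHomCx K).obj ω) i)) ∧ ∀ (E : DRing.Cx A) [DRing.HasRHomCx E], Nonempty (DRing.toD E ≅ (DRing.RHomCx K).obj ω) → Nonempty ((DRing.RHomCx E).obj ω ≅ DRing.toD K) := by
  obtain ⟨a, b, h⟩ := hω.finite_injective_dimension
  obtain ⟨r⟩ := Groth.DualCore.exists_injRep ω a b h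
  let F := DRing.homCx K r.I
  let eF : DRing.toD F ≅ (DRing.RHomCx K).obj ω :=
    Groth.DAlg.RHomCx.objIso K r.I ≪≫ (DRing.RHomCx K).mapIso r.iso
  have hK' : ∀ i : ℤ, Module.Finite A (K.homology i) := fun i =>
    haveI : Module.Finite A ((DerivedCategory.Q ⋙ DerivedCategory.homologyFunctor (ModuleCat.{u} A) i).obj K) := hK i
    Module.Finite.equiv ((DerivedCategory.homologyFunctorFactors (ModuleCat.{u} A) i).app K).toLinearEquiv
  refine ⟨fun i => ?_, fun E _ hE => ?_⟩
  · haveI : Module.Finite A ((HomologicalComplex.homologyFunctor (ModuleCat.{u} A) (ComplexShape.up ℤ) i).obj F) :=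
      Groth.DualCore.BidualityCx.finite_homology_homCx r hω.finite_cohomology K hK' i
    exact Module.Finite.equiv ((((DerivedCategory.homologyFunctorFactors (ModuleCat.{u} A) i).app F).symm ≪≫
      (DerivedCategory.homologyFunctor (ModuleCat.{u} A) i).mapIso eF).toLinearEquiv)
  · obtain ⟨eE⟩ := hE
    haveI := Groth.DualCore.BidualityCx.quasiIso_δC r hω K hK'
    haveI : IsIso (DerivedCategory.Q.map (Groth.DualCore.DoubleDual.δC r.I K)) :=
      (DerivedCategory.isIso_Q_map_iff_quasiIso _ _).2 inferInstance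
    obtain ⟨c⟩ := Groth.LocCohTransform.RHomDual.nonempty_rhom_congr (eE ≪≫ eF.symm) ω
    exact ⟨c ≪≫ ((Groth.DAlg.RHomCx.objIso F r.I ≪≫ (DRing.RHomCx F).mapIso r.iso).symm ≪≫
      (asIso (DerivedCategory.Q.map (Groth.DualCore.DoubleDual.δC r.I K))).symm)⟩

end Groth.Agent.S1819
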