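import Groth.Statements.S5375
import Groth.Agent.Hopf.Coeff
import Groth.Agent.Misc12.AntipodeComul

set_option autoImplicit false
universe u
open CategoryTheory CategoryTheory.Limits MonoidalCategory CartesianMonoidalCategory MonObj GrpObj AlgebraicGeometry
open SGA3

namespace Groth.Agent.S5375

lemma comul_antipode (k : Type u) [Field k] (A : Type u) [CommRing A] [HopfAlgebra k A] (a : A) :
    Coalgebra.comul (R := k) (HopfAlgebra.antipode k a) =
      TensorProduct.map (HopfAlgebra.antipode k (A := A)) (HopfAlgebra.antipode k (A := A))
        (TensorProduct.comm k A A (Coalgebra.comul (R := k) a)) :=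
  Groth.Misc12.comul_antipode_eq a

lemma antipode_antipode (k : Type u) [Field k] (A : Type u) [CommRing A] [HopfAlgebra k A] (a : A) :
    HopfAlgebra.antipode k (HopfAlgebra.antipode k a) = a :=
  congrArg (fun f : WithConv (A →ₐ[k] A) => f.ofConv a) (inv_inv (WithConv.toConv (AlgHom.id k A)))


/-- Let A be a commutative Hopf algebra over a field k (an affine k-group, not necessarily of finite
type) and x an element of A. Then there is a subalgebra B of A of finite type over k containing x
which is a sub-Hopf-algebra: the comultiplication sends B into B ⊗ B and the antipode preserves B. -/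
theorem result (k : Type u) [Field k] (A : Type u) [CommRing A] [HopfAlgebra k A] (x : A) :
    ∃ B : Subalgebra k A, x ∈ B ∧ B.FG ∧ SGA3.IsHopfSubalgebra k A B := by
  classical
  obtain ⟨D, hDfin, hxD, hD⟩ :=
    Groth.ComodLib.exists_finite_subcoalg (k := k) (A := A) (Set.finite_singleton x)
  obtain ⟨t, ht⟩ := (Module.Finite.iff_fg (N := D)).1 hDfin
  let Sa := HopfAlgebra.antipodeAlgHom k A
  let B : Subalgebra k A := Algebra.adjoin k ((t : Set A) ∪ Sa '' t)
  have htB : (t : Set A) ⊆ B := fun a ha => Algebra.subset_adjoin (Or.inl ha)
  have hDB : D ≤ B.toSubmodule := by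
    rw [← ht, Submodule.span_le]
    exact htB
  have hSD : ∀ d ∈ D, Sa d ∈ B := by
    have : D ≤ B.toSubmodule.comap Sa.toLinearMap := by
      rw [← ht, Submodule.span_le]
      exact fun a ha => Algebra.subset_adjoin (Or.inr ⟨a, ha, rfl⟩)
    exact fun d hd => this hd
  refine ⟨B, hDB (hxD rfl), Subalgebra.fg_def.2
    ⟨_, t.finite_toSet.union (t.finite_toSet.image _), rfl⟩, ?_, ?_⟩
  · have hle : B ≤ (Algebra.TensorProduct.map B.val B.val).range.comap (Bialgebra.comulAlgHom k A) := by
      refine Algebra.adjoin_le ?_
      rintro a (ha | ⟨a, ha, rfl⟩)
      · obtain ⟨z, hz⟩ := hD a (ht ▸ Submodule.subset_span ha)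
        refine ⟨TensorProduct.map (Submodule.inclusion hDB) (Submodule.inclusion hDB) z, ?_⟩
        change _ = Coalgebra.comul (R := k) a
        rw [← hz]
        induction z using TensorProduct.induction_on with
        | zero => simp
        | tmul p q => rfl
        | add p q hp hq =>
          have key : ∀ w : TensorProduct k D D, (Algebra.TensorProduct.map B.val B.val)
              (TensorProduct.map (Submodule.inclusion hDB) (Submodule.inclusion hDB) w) =
              TensorProduct.map D.subtype D.subtype w := by
            intro w
            induction w using TensorProduct.induction_on with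
            | zero => simp
            | tmul p q => rfl
            | add p q hp hq => simp only [map_add] at hp hq ⊢; rw [hp, hq]
          exact key _
      · obtain ⟨z, hz⟩ := hD a (ht ▸ Submodule.subset_span ha)
        change Coalgebra.comul (R := k) (Sa a) ∈ (Algebra.TensorProduct.map B.val B.val).range
        rw [show Coalgebra.comul (R := k) (Sa a) = TensorProduct.map Sa.toLinearMap Sa.toLinearMap
            (TensorProduct.comm k A A (Coalgebra.comul (R := k) a)) from comul_antipode k A a, ← hz]
        clear hz
        induction z using TensorProduct.induction_on with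
        | zero => simp
        | tmul p q =>
          exact ⟨(⟨Sa q.1, hSD _ q.2⟩ : B) ⊗ₜ (⟨Sa p.1, hSD _ p.2⟩ : B), rfl⟩
        | add p q hp hq => simp only [map_add]; exact add_mem hp hq
    intro b hb
    exact hle hb
  · have hle : B ≤ B.comap Sa := by
      refine Algebra.adjoin_le ?_
      rintro a (ha | ⟨a, ha, rfl⟩)
      · exact hSD a (ht ▸ Submodule.subset_span ha)
      · change Sa (Sa a) ∈ B
        rw [show Sa (Sa a) = a from antipode_antipode k A a]
        exact htB ha
    exact fun b hb => hle hb

end Groth.Agent.S5375
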