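import Groth.Statements.S2351
import Groth.Agent.Ega2Proj.FieldNormalization

set_option autoImplicit false
universe u
open CategoryTheory CategoryTheory.Limits AlgebraicGeometry
open EGA2

namespace Groth.Agent.S2351

/-- Let X be an integral scheme and X' → X its normalization (integral closure of X in its function
field). Then X' is integral with integrally closed local rings, the morphism X' → X is surjective,
maps the generic point to the generic point and induces a bijection between the residue fields of
the generic points. (The quasi-compactness/quasi-separatedness binders on Spec K(X) → X always hold;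
they are only needed to form Mathlib's relative normalization.) -/
theorem result (X : Scheme.{u}) [IsIntegral X]
    [QuasiCompact (X.fromSpecStalk (genericPoint X))] [QuasiSeparated (X.fromSpecStalk (genericPoint X))] :
    ∃ (_ : IsIntegral (Curv2.normalization X)), Pi1.IsNormalScheme (Curv2.normalization X) ∧ Surjective (Curv2.normalizationι X) ∧
      ∃ hgen : (Curv2.normalizationι X).base (genericPoint (Curv2.normalization X)) = genericPoint X,
        Function.Bijective ((Curv2.normalizationι X).residueFieldMap (genericPoint (Curv2.normalization X))).hom := by
  let g := X.fromSpecStalk (genericPoint X)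
  let φ := RingHom.id X.functionField
  have hg : g = Spec.map (CommRingCat.ofHom φ) ≫ X.fromSpecStalk (genericPoint X) := by
    change X.fromSpecStalk (genericPoint X) = Spec.map (𝟙 _) ≫ _
    rw [Spec.map_id, Category.id_comp]
  haveI hi : IsIntegral (Curv2.normalization X) := inferInstanceAs (IsIntegral g.normalization)
  have hgen : (Curv2.normalizationι X).base (genericPoint (Curv2.normalization X)) = genericPoint X :=
    Groth.Ega2Proj.fromNormalization_genericPoint X X.functionField φ g hg
  refine ⟨hi, Groth.Ega2Proj.isNormalScheme_normalization X X.functionField φ g hg, ?_, hgen, ?_⟩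
  · haveI : IsIntegralHom (Curv2.normalizationι X) := inferInstanceAs (IsIntegralHom g.fromNormalization)
    refine ⟨fun z => ?_⟩
    have hc : IsClosed (Set.range (Curv2.normalizationι X).base) := (Curv2.normalizationι X).isClosedMap.isClosed_range
    exact hc.closure_subset_iff.mpr (Set.singleton_subset_iff.mpr ⟨_, hgen⟩)
      ((genericPoint_spec X).specializes trivial).mem_closure
  · let η := g.toNormalization.base (IsLocalRing.closedPoint X.functionField)
    suffices h : Function.Bijective (g.fromNormalization.residueFieldMap η).hom by
      have key : ∀ (w : g.normalization), w = η →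
          Function.Bijective (g.fromNormalization.residueFieldMap w).hom := by
        rintro _ rfl; exact h
      exact key _ (Groth.Ega2Proj.toNormalization_closedPoint X X.functionField g).symm
    refine ⟨(g.fromNormalization.residueFieldMap η).hom.injective, fun z => ?_⟩
    obtain ⟨a, rfl⟩ := g.normalization.residue_surjective η z
    let j := Scheme.stalkClosedPointTo g.toNormalization
    let ψ := g.fromNormalization.stalkMap η ≫ j
    obtain ⟨b, hb⟩ : ∃ b, ψ.hom b = j.hom a := by
      let hξ := Groth.Ega2Proj.fromNormalization_toNormalization_closedPoint X X.functionField φ g hg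
      have e : ∀ (U : X.Opens) (hy : g.fromNormalization.base η ∈ U) (hz : genericPoint X ∈ U),
          X.presheaf.germ U _ hy ≫ ψ = X.presheaf.germ U _ hz := fun U hy hz => by
        refine (Groth.Ega2Proj.germ_comp_eq_of_SpecMap_eq hξ ψ (CommRingCat.ofHom φ) ?_ U hy hz).trans
          (Category.comp_id _)
        rw [Spec.map_comp, Category.assoc, Scheme.SpecMap_stalkMap_fromSpecStalk,
          Scheme.Spec_stalkClosedPointTo_fromSpecStalk_assoc, g.toNormalization_fromNormalization]
        exact hg
      obtain ⟨U, hU, r, hr⟩ := X.presheaf.germ_exist (j.hom a : X.functionField)
      have hy : g.fromNormalization.base η ∈ U := hξ.symm ▸ hU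
      exact ⟨(X.presheaf.germ U _ hy).hom r,
        (congrArg (fun m => CommRingCat.Hom.hom m r) (e U hy hU)).trans hr⟩
    refine ⟨(X.residue _).hom b, ?_⟩
    have hinj := Groth.Ega2Proj.stalkClosedPointTo_toNormalization_injective X X.functionField g
    have hba : (g.fromNormalization.stalkMap η).hom b = a := hinj hb
    rw [← hba]
    exact congrArg (fun m => CommRingCat.Hom.hom m b) (Scheme.residue_residueFieldMap g.fromNormalization η)

end Groth.Agent.S2351
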