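import Groth.Statements.S9688
import Mathlib
import Groth.Agent.Calg4.Japanese

set_option autoImplicit false
universe u
open CategoryTheory CategoryTheory.Limits AlgebraicGeometry
open Mor

namespace Groth.Agent.S9688

set_option backward.isDefEq.respectTransparency.types false

/-- Let X be an integral Japanese scheme (every nonempty affine open has Japanese, i.e. N-2, coordinate
ring). Then the normalization morphism X^ν ⟶ X is finite. (The quasi-compactness and
quasi-separatedness binders on Spec K(X) ⟶ X always hold; they are only needed to form the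
normalization.) -/
theorem result (X : Scheme.{u}) [IsIntegral X] [QuasiCompact (X.fromSpecStalk (genericPoint ↥X))] [QuasiSeparated (X.fromSpecStalk (genericPoint ↥X))]
    (hJ : ∀ (U : X.Opens), IsAffineOpen U → ∀ (hne : Nonempty ↥U),
      @CAlg.IsN2 ↑Γ(X, U) _ (@IsIntegral.component_integral X _ U hne)) :
    IsFinite (Curv2.normalizationι X) := by
  set f := X.fromSpecStalk (genericPoint ↥X)
  have : IsIntegralHom (Curv2.normalizationι X) :=
    inferInstanceAs (IsIntegralHom f.fromNormalization)
  refine { finite_app := fun U hU => ?_ }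
  rcases isEmpty_or_nonempty U with hemp | hne
  · have hsub : Subsingleton Γ(Curv2.normalization X, (Curv2.normalizationι X) ⁻¹ᵁ U) := by
      rw [show (Curv2.normalizationι X) ⁻¹ᵁ U = ⊥ from eq_bot_iff.2 fun z hz =>
        (hemp.false ⟨(Curv2.normalizationι X) z, hz⟩).elim]
      infer_instance
    exact RingHom.Finite.of_surjective _ fun b => ⟨0, Subsingleton.elim _ _⟩
  · letI := (f.app U).hom.toAlgebra
    let ξ := genericPoint ↥X
    have hξ : ξ ∈ U := ((genericPoint_spec X).mem_open_set_iff U.isOpen).mpr (by simpa using hne)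
    have htop : f ⁻¹ᵁ U = ⊤ := top_le_iff.mp fun p _ => by
      have : f p ∈ Set.range f := ⟨p, rfl⟩
      rw [Scheme.range_fromSpecStalk] at this
      exact (this : f p ⤳ ξ).mem_open U.2 hξ
    have : IsIso (homOfLE (le_top : f ⁻¹ᵁ U ≤ ⊤)) :=
      ⟨⟨homOfLE htop.ge, Subsingleton.elim _ _, Subsingleton.elim _ _⟩⟩
    let e := (Scheme.ΓSpecIso (X.presheaf.stalk ξ)).inv ≫
      (Spec _).presheaf.map (homOfLE (le_top : f ⁻¹ᵁ U ≤ ⊤)).op
    have he : Function.Bijective e := ConcreteCategory.bijective_of_isIso e
    have hfU : f.app U = X.germToFunctionField U ≫ e := Scheme.fromSpecStalk_app hξ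
    let φ : X.functionField ≃ₐ[Γ(X, U)] Γ(Spec (X.presheaf.stalk ξ), f ⁻¹ᵁ U) :=
      AlgEquiv.ofRingEquiv (f := RingEquiv.ofBijective e.hom he) fun a =>
        (congr($hfU a)).symm
    have := functionField_isFractionRing_of_isAffineOpen X U hU
    have hfin := Groth.Calg4.finite_ic_of_algEquiv Γ(X, U) φ
      (Groth.Calg4.finite_ic_of_isN2 (hJ U hU hne) X.functionField X.functionField)
    have h2 : (f.fromNormalization.app U).hom.Finite := by
      rw [f.fromNormalization_app hU, CommRingCat.hom_comp]
      exact RingHom.Finite.comp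
        (RingHom.Finite.of_surjective _
          (ConcreteCategory.bijective_of_isIso (f.normalizationObjIso hU).inv).2)
        (RingHom.finite_algebraMap.mpr hfin)
    exact h2

end Groth.Agent.S9688
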