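import Groth.Statements.S1585
import Groth.Agent.S9688
import Groth.Agent.S2625
import Groth.Agent.Calg4.Japanese
import Groth.Agent.Agf.CurveNormalization
import Groth.Agent.Calg4.NormalizationChar

set_option autoImplicit false
universe u
open CategoryTheory CategoryTheory.Limits AlgebraicGeometry
open Variety

namespace Groth.Agent.S1585

/-- Part (1): and (4), for an integral scheme locally of finite type over a field: the normalization
morphism ν (normalization of X in its function field) is finite, dominant and an isomorphism over a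
nonempty open, and the normalization is an integral scheme all of whose local rings are integrally
closed domains. (The quasi-compactness/quasi-separatedness binders on Spec K(X) → X always hold;
they are needed only to form Mathlib's relative normalization.) -/
theorem result (k : Type u) [Field k] (X : Scheme.{u}) [X.Over (Spec (CommRingCat.of k))] [IsIntegral X] [LocallyOfFiniteType (X ↘ (Spec (CommRingCat.of k)))]
    [QuasiCompact (X.fromSpecStalk (genericPoint X))] [QuasiSeparated (X.fromSpecStalk (genericPoint X))] :
    IsFinite (Curv2.normalizationι X) ∧ IsDominant (Curv2.normalizationι X) ∧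
      (∃ V : X.Opens, (V : Set X).Nonempty ∧ IsIso (Curv2.normalizationι X ∣_ V)) ∧
      IsIntegral (Curv2.normalization X) ∧ Pi1.IsNormalScheme (Curv2.normalization X) := by
  have hN2 : ∀ (U : X.Opens), IsAffineOpen U → ∀ (_ : Nonempty U), CAlg.IsNagata Γ(X, U) := by
    intro U hU _
    let φ := (Scheme.ΓSpecIso (CommRingCat.of k)).inv ≫ (X ↘ Spec (CommRingCat.of k)).appLE ⊤ U le_top
    let := φ.hom.toAlgebra
    have : Algebra.FiniteType k Γ(X, U) := by
      have h := (X ↘ Spec (CommRingCat.of k)).finiteType_appLE (isAffineOpen_top _) hU le_top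
      exact RingHom.finiteType_algebraMap.mp (h.comp
        (RingHom.FiniteType.of_surjective _ (ConcreteCategory.bijective_of_isIso
          (Scheme.ΓSpecIso (CommRingCat.of k)).inv).2))
    exact Groth.Calg1.isNagata_of_finiteType (R := k) (Groth.Agf.CurveNormalization.isNagata_field k)
  obtain ⟨hNi, hNN, hsurj, -, -⟩ := Groth.Agent.S2351.result X
  refine ⟨Groth.Agent.S9688.result X fun U hU hne => by
    have := @IsIntegral.component_integral X _ U hne
    exact Groth.Calg1.isN2_self_of_isNagata (hN2 U hU hne),
    inferInstance, ?_, hNi, hNN⟩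
  obtain ⟨_, ⟨U, hU, rfl⟩, hξU, -⟩ :=
    X.isBasis_affineOpens.exists_subset_of_mem_open (Set.mem_univ (genericPoint X)) isOpen_univ
  have : Nonempty U := ⟨⟨_, hξU⟩⟩
  have := IsIntegral.component_integral (X := X) U
  have : IsNoetherianRing Γ(X, U) := (hN2 U hU ‹_›).1
  have hfin : Module.Finite Γ(X, U) (integralClosure Γ(X, U) (FractionRing Γ(X, U))) :=
    Groth.Calg4.finite_ic_of_isN2 (Groth.Calg1.isN2_self_of_isNagata (hN2 U hU ‹_›))
      (FractionRing Γ(X, U)) (FractionRing Γ(X, U))
  have hopen := Groth.Agent.S2625.result Γ(X, U) hfin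
  let V : X.Opens := ⟨hU.fromSpec '' EGA4.norLocus Γ(X, U), hU.fromSpec.isOpenEmbedding.isOpenMap _ hopen⟩
  let b : PrimeSpectrum Γ(X, U) := ⟨⊥, Ideal.isPrime_bot⟩
  have hb : b ∈ EGA4.norLocus Γ(X, U) := by
    have : IsFractionRing Γ(X, U) (Localization.AtPrime b.asIdeal) := by
      have h : b.asIdeal.primeCompl = nonZeroDivisors Γ(X, U) := by
        ext a
        simp [b, mem_nonZeroDivisors_iff_ne_zero]
      show IsLocalization _ _
      rw [← h]
      exact Localization.isLocalization
    let := IsFractionRing.toField Γ(X, U) (K := Localization.AtPrime b.asIdeal)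
    exact ⟨inferInstance, inferInstance⟩
  have hVne : (V : Set X).Nonempty := ⟨_, b, hb, rfl⟩
  refine ⟨V, hVne, Groth.Calg4.NormChar.isIso_restrict V hVne ?_⟩
  rintro _ ⟨y, hy, rfl⟩
  have hmem : hU.fromSpec y ∈ U := by rw [← SetLike.mem_coe, ← hU.range_fromSpec]; exact ⟨y, rfl⟩
  let := TopCat.Presheaf.algebra_section_stalk X.presheaf (⟨hU.fromSpec y, hmem⟩ : U)
  have : IsLocalization.AtPrime (X.presheaf.stalk (hU.fromSpec y)) y.asIdeal :=
    hU.isLocalization_stalk' y hmem
  exact @IsIntegrallyClosed.of_equiv _ _ _ _ (IsLocalization.algEquiv y.asIdeal.primeCompl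
    (Localization.AtPrime y.asIdeal) (X.presheaf.stalk (hU.fromSpec y))).toRingEquiv hy.2

end Groth.Agent.S1585
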