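import Groth.Statements.S9436
import Mathlib

set_option autoImplicit false
universe u
open CAlg

namespace Groth.Agent.S9436

open TensorProduct in
/-- Étale algebras lift along surjections: for an ideal I of R and an étale (R/I)-algebra S̄ there is an
étale R-algebra S with (R/I) ⊗_R S ≅ S̄ over R/I. -/
theorem result (R : Type u) [CommRing R] (I : Ideal R) (Sb : Type u)
    [CommRing Sb] [Algebra (R ⧸ I) Sb] [Algebra.Etale (R ⧸ I) Sb] :
    ∃ (S : Type u) (_ : CommRing S) (_ : Algebra R S), Algebra.Etale R S ∧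
      Nonempty (((R ⧸ I) ⊗[R] S) ≃ₐ[R ⧸ I] Sb) := by
  classical
  let _ : Algebra R Sb := Algebra.compHom Sb (Ideal.Quotient.mk I)
  have : IsScalarTower R (R ⧸ I) Sb := IsScalarTower.of_algebraMap_eq fun r => rfl
  obtain ⟨ι, σ, hσ, hι, P, hdim⟩ :=
    (Algebra.Etale.iff_isStandardSmoothOfRelativeDimension_zero
      (R := R ⧸ I) (S := Sb)).mp inferInstance |>.out
  cases nonempty_fintype σ
  cases nonempty_fintype ι
  have hsurj : Function.Surjective (MvPolynomial.map (σ := ι) (Ideal.Quotient.mk I)) :=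
    MvPolynomial.map_surjective _ Ideal.Quotient.mk_surjective
  choose v hv using fun j => hsurj (P.relation j)
  let A := MvPolynomial ι R ⧸ Ideal.span (Set.range v)
  let Q0 : Algebra.PreSubmersivePresentation R A ι σ :=
    Algebra.PreSubmersivePresentation.naive (v := v) P.map P.map_inj
  let φ : A →ₐ[R] Sb := Ideal.Quotient.liftₐ _ (MvPolynomial.aeval P.val) (by
    suffices Ideal.span (Set.range v) ≤ RingHom.ker (MvPolynomial.aeval (R := R) P.val) from
      fun a ha => this ha
    rw [Ideal.span_le]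
    rintro _ ⟨j, rfl⟩
    rw [SetLike.mem_coe, RingHom.mem_ker, ← MvPolynomial.aeval_map_algebraMap (R ⧸ I)]
    rw [show algebraMap R (R ⧸ I) = Ideal.Quotient.mk I from rfl, hv]
    exact P.aeval_val_relation j)
  have hφ : ∀ p, φ (Ideal.Quotient.mk _ p) = MvPolynomial.aeval P.val p := fun p => rfl
  -- the Jacobian maps to a unit
  have hjac : φ Q0.jacobian = P.jacobian := by
    rw [Algebra.PreSubmersivePresentation.jacobian_eq_jacobiMatrix_det,
      Algebra.PreSubmersivePresentation.jacobian_eq_jacobiMatrix_det,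
      Algebra.Generators.algebraMap_eq, Algebra.Generators.algebraMap_eq,
      RingHom.map_det, RingHom.map_det]
    erw [AlgHom.map_det φ]
    congr 1
    ext i j
    simp only [AlgHom.mapMatrix_apply, RingHom.mapMatrix_apply, Matrix.map_apply,
      Algebra.PreSubmersivePresentation.jacobiMatrix_apply, RingHom.coe_coe]
    change φ (MvPolynomial.aeval (fun i => Ideal.Quotient.mk _ (MvPolynomial.X i))
      (MvPolynomial.pderiv (P.map i) (v j))) = _
    rw [MvPolynomial.comp_aeval_apply]
    simp only [hφ, MvPolynomial.aeval_X]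
    rw [← hv j, MvPolynomial.pderiv_map, ← show algebraMap R (R ⧸ I) = Ideal.Quotient.mk I from rfl,
      MvPolynomial.aeval_map_algebraMap]
  let S := Localization.Away Q0.jacobian
  -- `S` is standard smooth of relative dimension zero
  have hstd : Algebra.IsStandardSmoothOfRelativeDimension 0 R S := by
    let Q1 := Algebra.SubmersivePresentation.localizationAway S Q0.jacobian
    let Q : Algebra.SubmersivePresentation R S (Unit ⊕ ι) (Unit ⊕ σ) :=
      { Q1.toPreSubmersivePresentation.comp Q0 with
        jacobian_isUnit := by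
          rw [Algebra.PreSubmersivePresentation.comp_jacobian_eq_jacobian_smul_jacobian,
            Algebra.smul_def, IsUnit.mul_iff]
          exact ⟨IsLocalization.Away.algebraMap_isUnit Q0.jacobian, Q1.jacobian_isUnit⟩ }
    refine Q.isStandardSmoothOfRelativeDimension ?_
    simp only [Algebra.Presentation.dimension, Nat.card_sum] at hdim ⊢
    omega
  have hu : IsUnit (φ Q0.jacobian) := hjac ▸ P.jacobian_isUnit
  let ψ : S →ₐ[R] Sb := IsLocalization.liftAlgHom (M := Submonoid.powers Q0.jacobian) (f := φ) (by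
    rintro ⟨_, n, rfl⟩; simpa using hu.pow n)
  have hψ : ∀ a, ψ (algebraMap A S a) = φ a := fun a => IsLocalization.lift_eq _ a
  let F : (R ⧸ I) ⊗[R] S →ₐ[R ⧸ I] Sb :=
    Algebra.TensorProduct.lift (Algebra.ofId _ _) ψ fun a b => Commute.all _ _
  let x : ι → (R ⧸ I) ⊗[R] S := fun i =>
    1 ⊗ₜ algebraMap A S (Ideal.Quotient.mk _ (MvPolynomial.X i))
  have hker : ∀ p ∈ RingHom.ker (MvPolynomial.aeval (R := R ⧸ I) P.val),
      MvPolynomial.aeval x p = 0 := by
    rw [← Algebra.Generators.ker_eq_ker_aeval_val, ← P.span_range_relation_eq_ker]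
    suffices Ideal.span (Set.range P.relation) ≤ RingHom.ker (MvPolynomial.aeval (R := R ⧸ I) x) from
      fun a ha => this ha
    rw [Ideal.span_le]
    rintro _ ⟨j, rfl⟩
    rw [SetLike.mem_coe, RingHom.mem_ker, ← hv j,
      ← show algebraMap R (R ⧸ I) = Ideal.Quotient.mk I from rfl,
      MvPolynomial.aeval_map_algebraMap]
    let G : MvPolynomial ι R →ₐ[R] (R ⧸ I) ⊗[R] S :=
      Algebra.TensorProduct.includeRight.comp ((IsScalarTower.toAlgHom R A S).comp
        (Ideal.Quotient.mkₐ R _))
    have : MvPolynomial.aeval x = G := MvPolynomial.algHom_ext fun i => by simp [G, x]; rfl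
    rw [this]
    change (1 : R ⧸ I) ⊗ₜ[R] algebraMap A S (Ideal.Quotient.mk _ (v j)) = 0
    rw [Ideal.Quotient.eq_zero_iff_mem.mpr (Ideal.subset_span (Set.mem_range_self j))]
    simp
  let e := Ideal.quotientKerAlgEquivOfSurjective (f := MvPolynomial.aeval (R := R ⧸ I) P.val)
    P.aeval_val_surjective
  let G : Sb →ₐ[R ⧸ I] (R ⧸ I) ⊗[R] S :=
    (Ideal.Quotient.liftₐ _ (MvPolynomial.aeval x) hker).comp e.symm.toAlgHom
  have hG : ∀ p : MvPolynomial ι (R ⧸ I), G (MvPolynomial.aeval P.val p) = MvPolynomial.aeval x p := by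
    intro p
    have : e.symm (MvPolynomial.aeval P.val p) = Ideal.Quotient.mk _ p := by
      rw [AlgEquiv.symm_apply_eq]; rfl
    simp [G, this]
    try rfl
  refine ⟨S, inferInstance, inferInstance,
    Algebra.Etale.iff_isStandardSmoothOfRelativeDimension_zero.mpr hstd,
    ⟨AlgEquiv.ofAlgHom F G ?_ ?_⟩⟩
  · ext z
    obtain ⟨p, rfl⟩ := P.aeval_val_surjective z
    simp only [AlgHom.comp_apply, hG, AlgHom.id_apply]
    rw [MvPolynomial.comp_aeval_apply]
    simp [F, x, hψ, hφ]
  · refine Algebra.TensorProduct.ext (Subsingleton.elim _ _) ?_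
    refine IsLocalization.algHom_ext (Submonoid.powers Q0.jacobian) ?_
    refine Ideal.Quotient.algHom_ext _ (MvPolynomial.algHom_ext fun i => ?_)
    have hFX : F (x i) = MvPolynomial.aeval (R := R ⧸ I) P.val (MvPolynomial.X i) := by
      simp [F, x, hψ, hφ]
    change G (F (x i)) = x i
    rw [hFX, hG]; simp

end Groth.Agent.S9436
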