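import Groth.Statements.S3006
import Groth.Agent.Reductive.MTClosedLocus
import Groth.Agent.Reductive.TorusMT
import Groth.Agent.SpectralTopology.FpCancel
-- import your own Groth.Agent.* helpers here

set_option autoImplicit false
universe u
open CategoryTheory MonoidalCategory CartesianMonoidalCategory MonObj GrpObj AlgebraicGeometry
open Red

namespace Groth.Agent.S3006

/-- Let S be a scheme, G an S-group scheme smooth and of finite presentation over S, and q : Q → G a
closed subgroup scheme which is a torus. Then the centralizer and the normalizer of Q in G exist as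
closed subgroup schemes of G (characterized on points as in `Red.IsCentralizerOf` /
`Red.IsNormalizerOf`) and are smooth over S. -/
theorem result (S : Scheme.{u}) (G Q : Over S) [GrpObj G] [GrpObj Q] [Smooth G.hom] [LocallyOfFinitePresentation G.hom] [QuasiCompact G.hom] [QuasiSeparated G.hom] (q : Q ⟶ G) [IsMonHom q] (hq : IsClosedImmersion q.left) (hQ : Red.IsTorus Q) : (∃ (Z : Over S) (_ : GrpObj Z) (z : Z ⟶ G), Red.IsCentralizerOf q z ∧ IsClosedImmersion z.left ∧ Smooth Z.hom) ∧ ∃ (N : Over S) (_ : GrpObj N) (n : N ⟶ G), Red.IsNormalizerOf q n ∧ IsClosedImmersion n.left ∧ Smooth N.hom := by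
  have hQ' := Groth.Reductive.FreeDiag.isMultTypeFT_of_isTorus hQ
  have hl := Groth.Reductive.MTInt.locTriv_of_multTypeFT hQ'
  haveI := hl.1
  haveI := hq
  haveI : IsSeparated G.hom := by
    refine Groth.Reductive.MTInt.isSeparated_of_unit ?_
    rw [← MonObj.one_comp q, Over.comp_left]
    haveI : IsClosedImmersion (1 : 𝟙_ (Over S) ⟶ Q).left :=
      haveI : IsClosedImmersion ((1 : 𝟙_ (Over S) ⟶ Q).left ≫ Q.hom) := by
        rw [Over.w]
        exact inferInstanceAs (IsClosedImmersion (𝟙 S))
      IsClosedImmersion.of_comp _ Q.hom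
    infer_instance
  haveI : LocallyOfFinitePresentation q.left := by
    haveI : LocallyOfFinitePresentation (q.left ≫ G.hom) := by
      rw [Over.w]
      exact (Groth.Reductive.flat_lfp_of_multTypeFT Q hQ' Groth.AlgSp2.flat_descendsAlong
        inferInstance).2
    exact Groth.SpectralTopology.lfp_of_comp q.left G.hom
  constructor
  · obtain ⟨Z, inst, z, hz1, hz2, hz3, hz4, hz5⟩ :=
      Groth.Reductive.MTInt.exists_centralizerSep hl ‹_› q
    exact ⟨Z, inst, z, ⟨hz1, hz2, hz3⟩, hz4, hz5⟩
  · exact Groth.Reductive.MTInt.exists_normalizerSep hl ‹_› q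

end Groth.Agent.S3006
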