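import Groth.Statements.S8431
import Groth.Agent.Reductive2.TorusPairing
import Groth.Agent.Reductive2.TorusBasic

set_option autoImplicit false
universe u
open CategoryTheory MonoidalCategory CartesianMonoidalCategory MonObj GrpObj AlgebraicGeometry
open SGA3x

namespace Groth.Agent.S8431

/-- The commutator of two elements. -/
def comm' {M : Type*} [Group M] (a b : M) : M := a * b * a⁻¹ * b⁻¹

theorem comm'_mul_left {M : Type*} [Group M] (a a' b : M) (hc : ∀ g, comm' a' b * g = g * comm' a' b) :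
    comm' (a * a') b = comm' a b * comm' a' b := by
  have h : comm' (a * a') b = a * comm' a' b * b * a⁻¹ * b⁻¹ := by
    simp only [comm']; group
  rw [h, ← hc a, ← hc (comm' a b)]
  simp only [comm']; group

theorem comm'_mul_right {M : Type*} [Group M] (a b b' : M) (hc : ∀ g, comm' a b' * g = g * comm' a b') :
    comm' a (b * b') = comm' a b * comm' a b' := by
  have h : comm' a (b * b') = a * b * a⁻¹ * comm' a b' * b⁻¹ := by
    simp only [comm']; group
  rw [h, _root_.mul_assoc (a * b * a⁻¹), hc b⁻¹]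
  simp only [comm']; group

theorem comm'_central {M : Type*} [Group M] (a b c d : M) (hc : ∀ g, c * g = g * c) (hd : ∀ g, d * g = g * d) :
    comm' (a * c) (b * d) = comm' a b := by
  have h : comm' (a * c) (b * d) = a * (c * b) * (d * c⁻¹) * a⁻¹ * d⁻¹ * b⁻¹ := by
    simp only [comm']; group
  rw [h, hc b, hd c⁻¹]
  have h2 : a * (b * c) * (c⁻¹ * d) * a⁻¹ * d⁻¹ * b⁻¹ = a * b * (d * a⁻¹) * d⁻¹ * b⁻¹ := by group
  rw [h2, hd a⁻¹]
  simp only [comm']; group

/-- Let G be an algebraic group over a field k and Z a central algebraic subgroup such that G′ = G/Z is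
a torus. Then G is commutative. Here q : G → G′ is a homomorphism representing the fppf quotient of
G by Z, and G′ is a k-torus. -/
theorem result (k : Type u) [Field k]
    (G : Over (Spec (CommRingCat.of k))) [GrpObj G] [QuasiCompact G.hom] [LocallyOfFiniteType G.hom]
    (Z : Over (Spec (CommRingCat.of k))) [GrpObj Z] (z : Z ⟶ G) [IsMonHom z] [Mono z]
    (hz : ∀ (X : Over (Spec (CommRingCat.of k))) (x : X ⟶ Z) (g : X ⟶ G), (x ≫ z) * g = g * (x ≫ z))
    (G' : Over (Spec (CommRingCat.of k))) [GrpObj G'] (q : G ⟶ G') [IsMonHom q] (hq : RedSub.IsQuotient z q) (hT : Red.IsTorus G') :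
    ∀ (X : Over (Spec (CommRingCat.of k))) (g h : X ⟶ G), g * h = h * g := by
  have hcov : Groth.AlgGrp1.IsCover q := ⟨hq.2.1, hq.1, hq.2.2.1⟩
  have hfib : ∀ {X : Over (Spec (CommRingCat.of k))} (a a' : X ⟶ G), a ≫ q = a' ≫ q →
      ∃ c : X ⟶ G, (∀ g, c * g = g * c) ∧ a' = a * c := by
    intro X a a' h
    refine ⟨(hq.2.2.2.lift a a' h ≫ snd G Z) ≫ z, fun g => hz _ _ g, ?_⟩
    have h1 := hq.2.2.2.lift_fst a a' h
    have h2 := hq.2.2.2.lift_snd a a' h
    conv_lhs => rw [← h2]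
    rw [Hom.mul_def, ← Category.assoc]
    congr 1
    ext1 <;> simp [h1]
  have hker : ∀ {X : Over (Spec (CommRingCat.of k))} (x : X ⟶ G), x ≫ q = 1 → ∀ g, x * g = g * x := by
    intro X x hx
    obtain ⟨c, hc, rfl⟩ := hfib 1 x (by rw [MonObj.one_comp, hx])
    simpa using hc
  have hcomm : ∀ {X : Over (Spec (CommRingCat.of k))} (a b : X ⟶ G) (g : X ⟶ G),
      comm' a b * g = g * comm' a b := by
    intro X a b g
    refine hker _ ?_ g
    simp only [comm', MonObj.mul_comp, GrpObj.inv_comp]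
    rw [Groth.Reductive2.torus_mul_comm hT (a ≫ q) (b ≫ q)]
    group
  let qq : G ⊗ G ⟶ G' ⊗ G' := (q ▷ G) ≫ (G' ◁ q)
  have hqq : Groth.AlgGrp1.IsCover qq := (hcov.whiskerRight G).comp (hcov.whiskerLeft G')
  have hl : ∀ {X : Over (Spec (CommRingCat.of k))} (a b : X ⟶ G), lift a b ≫ qq = lift (a ≫ q) (b ≫ q) :=
    fun a b => by simp [qq, lift_whiskerRight_assoc, lift_whiskerLeft]
  have hC : ∀ {X : Over (Spec (CommRingCat.of k))} (u : X ⟶ G ⊗ G),
      u ≫ comm' (fst G G) (snd G G) = comm' (u ≫ fst G G) (u ≫ snd G G) := fun u => by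
    simp only [comm', MonObj.comp_mul, GrpObj.comp_inv]
  obtain ⟨c, hc⟩ := hqq.exists_desc (comm' (fst G G) (snd G G)) (fun T u v huv => by
    have e : ∀ w : T ⟶ G ⊗ G, w ≫ qq = lift ((w ≫ fst G G) ≫ q) ((w ≫ snd G G) ≫ q) := fun w => by
      rw [← hl, lift_comp_fst_snd]
    rw [e, e] at huv
    obtain ⟨x, hx, hx'⟩ := hfib (u ≫ fst G G) (v ≫ fst G G) (by simpa using congr($huv ≫ fst G' G'))
    obtain ⟨y, hy, hy'⟩ := hfib (u ≫ snd G G) (v ≫ snd G G) (by simpa using congr($huv ≫ snd G' G'))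
    rw [hC, hC, hx', hy', comm'_central _ _ _ _ hx hy])
  have hc' : ∀ {X : Over (Spec (CommRingCat.of k))} (a b : X ⟶ G),
      lift (a ≫ q) (b ≫ q) ≫ c = comm' a b := fun a b => by
    rw [← hl, Category.assoc, hc, hC, lift_fst, lift_snd]
  have h1 : c = 1 := by
    refine Groth.Reductive2.Pairing.eq_one hT c ⟨fun X a a' b => ?_, fun X a b b' => ?_⟩
    · obtain ⟨T1, c1, A, A', hc1, hA, hA'⟩ := hcov.exists_lift₂ a a'
      obtain ⟨T2, c2, B, hc2, hB⟩ := hcov.exists_lift (c1 ≫ b)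
      apply (hc2.comp hc1).cancel
      have e : ∀ {u : X ⟶ G'} {U : T1 ⟶ G}, U ≫ q = c1 ≫ u → (c2 ≫ c1) ≫ u = (c2 ≫ U) ≫ q :=
        fun h => by rw [Category.assoc, ← h, Category.assoc]
      simp only [MonObj.comp_mul, comp_lift_assoc, e hA, e hA']
      rw [Category.assoc c2 c1 b, ← hB, ← MonObj.mul_comp, hc', hc', hc',
        comm'_mul_left _ _ _ (hcomm _ _)]
    · obtain ⟨T1, c1, B, B', hc1, hB, hB'⟩ := hcov.exists_lift₂ b b'
      obtain ⟨T2, c2, A, hc2, hA⟩ := hcov.exists_lift (c1 ≫ a)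
      apply (hc2.comp hc1).cancel
      have e : ∀ {u : X ⟶ G'} {U : T1 ⟶ G}, U ≫ q = c1 ≫ u → (c2 ≫ c1) ≫ u = (c2 ≫ U) ≫ q :=
        fun h => by rw [Category.assoc, ← h, Category.assoc]
      simp only [MonObj.comp_mul, comp_lift_assoc, e hB, e hB']
      rw [Category.assoc c2 c1 a, ← hA, ← MonObj.mul_comp, hc', hc', hc',
        comm'_mul_right _ _ _ (hcomm _ _)]
  intro X g h
  have := hc' g h
  rw [h1, MonObj.comp_one] at this
  rw [← mul_inv_eq_one, _root_.mul_inv_rev, ← _root_.mul_assoc]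
  exact this.symm

end Groth.Agent.S8431
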