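import Groth.Statements.S11416
import Groth.Agent.AlgGrp1.AffineCrit
import Groth.Agent.Agf.GMod

set_option autoImplicit false
universe u
open CategoryTheory MonoidalCategory CartesianMonoidalCategory MonObj GrpObj AlgebraicGeometry CategoryTheory.Limits
open AlgGrp

namespace Groth.Agent.S11416

open Groth.Agf (Fn pull evalPt contract)
open scoped Groth.Agf TensorProduct

/-- A family of values at rational points which is locally given by functions on affine opens is given
by a global function. -/
theorem exists_fn {k : Type u} [Field k] [IsAlgClosed k] (X : Over (Spec (CommRingCat.of k)))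
    [LocallyOfFiniteType X.hom] [IsReduced X.left] (val : (VecGrp.pt k k ⟶ X) → k)
    (h : ∀ U : X.left.affineOpens, ∃ c : Fn (Over.mk (U.1.ι ≫ X.hom)),
      ∀ y : VecGrp.pt k k ⟶ Over.mk (U.1.ι ≫ X.hom),
        evalPt y c = val (y ≫ (Over.homMk U.1.ι rfl : Over.mk (U.1.ι ≫ X.hom) ⟶ X))) :
    ∃ F : Fn X, ∀ g, evalPt g F = val g := by
  choose c hc using h
  let sf : ∀ U : X.left.affineOpens, Γ(X.left, U.1) := fun U => U.1.topIso.hom (c U)
  have hmap : ∀ {A B : (TopologicalSpace.Opens X.left)ᵒᵖ} (p q : A ⟶ B),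
      X.left.presheaf.map p = X.left.presheaf.map q := fun p q => by rw [Subsingleton.elim p q]
  have hcompat : TopCat.Presheaf.IsCompatible X.left.presheaf (fun U : X.left.affineOpens => U.1) sf := by
    intro U V
    let W : X.left.Opens := U.1 ⊓ V.1
    have hlfW : LocallyOfFiniteType (Over.mk (W.ι ≫ X.hom)).hom :=
      inferInstanceAs (LocallyOfFiniteType (W.ι ≫ X.hom))
    have hrW : IsReduced (Over.mk (W.ι ≫ X.hom)).left := inferInstanceAs (IsReduced W.toScheme)
    have key : ∀ (A : X.left.affineOpens) (hA : W ≤ A.1) (y : VecGrp.pt k k ⟶ Over.mk (W.ι ≫ X.hom)),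
        evalPt y (W.topIso.inv (X.left.presheaf.map (homOfLE hA).op (sf A))) =
          val (y ≫ (Over.homMk W.ι rfl : Over.mk (W.ι ≫ X.hom) ⟶ X)) := by
      intro A hA y
      let j : Over.mk (W.ι ≫ X.hom) ⟶ Over.mk (A.1.ι ≫ X.hom) :=
        Over.homMk (X.left.homOfLE hA) (by simp)
      have hj : y ≫ (Over.homMk W.ι rfl : Over.mk (W.ι ≫ X.hom) ⟶ X) =
          (y ≫ j) ≫ (Over.homMk A.1.ι rfl : Over.mk (A.1.ι ≫ X.hom) ⟶ X) := by
        apply Over.OverMorphism.ext
        simp [j]
      rw [hj, ← hc A, Groth.Agf.evalPt_comp_apply]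
      congr 1
      show _ = (X.left.homOfLE hA).appTop (c A)
      rw [Scheme.homOfLE_appTop]
      simp only [sf, Scheme.Opens.topIso, Functor.mapIso_inv, Functor.mapIso_hom, ← ConcreteCategory.comp_apply]
      erw [← Functor.map_comp, ← Functor.map_comp]
      exact ConcreteCategory.congr_hom (hmap _ _) _
    exact W.topIso.symm.commRingCatIsoToRingEquiv.injective (Groth.AlgGrp1.fn_ext_points fun y =>
      (key U inf_le_left y).trans (key V inf_le_right y).symm)
  obtain ⟨F, hF, -⟩ := TopCat.Sheaf.existsUnique_gluing' X.left.sheaf (fun U : X.left.affineOpens => U.1) ⊤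
    (fun U => homOfLE le_top) (fun p _ => by
      obtain ⟨U, hU, hpU, -⟩ := X.left.isBasis_affineOpens.exists_subset_of_mem_open
        (Set.mem_univ p) isOpen_univ
      obtain ⟨U, hU', rfl⟩ := hU
      exact TopologicalSpace.Opens.mem_iSup.2 ⟨⟨U, hU'⟩, hpU⟩) sf hcompat
  refine ⟨F, fun g => ?_⟩
  obtain ⟨U, hU, hgU, -⟩ := X.left.isBasis_affineOpens.exists_subset_of_mem_open
    (Set.mem_univ (g.left.base (IsLocalRing.closedPoint k))) isOpen_univ
  obtain ⟨(U : X.left.Opens), hU', rfl⟩ := hU
  have hr : Set.range g.left ⊆ Set.range U.ι := by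
    rintro _ ⟨p, rfl⟩
    rw [Scheme.Opens.range_ι]
    rwa [Subsingleton.elim (α := ↥(Spec (CommRingCat.of k))) p (IsLocalRing.closedPoint k)]
  let y : VecGrp.pt k k ⟶ Over.mk (U.ι ≫ X.hom) := Over.homMk (IsOpenImmersion.lift U.ι g.left hr) (by
    show IsOpenImmersion.lift U.ι g.left hr ≫ U.ι ≫ X.hom = _
    rw [IsOpenImmersion.lift_fac_assoc, Over.w g])
  have hy : y ≫ (Over.homMk U.ι rfl : Over.mk (U.ι ≫ X.hom) ⟶ X) = g :=
    Over.OverMorphism.ext (IsOpenImmersion.lift_fac _ _ _)
  rw [← hy, ← hc ⟨U, hU'⟩, Groth.Agf.evalPt_comp_apply]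
  congr 1
  show U.ι.appTop F = _
  have h1 : U.topIso.inv (X.left.presheaf.map (homOfLE le_top).op F) = c ⟨U, hU'⟩ :=
    (congrArg U.topIso.inv (hF ⟨U, hU'⟩)).trans (Iso.hom_inv_id_apply U.topIso (c ⟨U, hU'⟩))
  rw [← h1, Scheme.Opens.ι_appTop]
  simp only [Scheme.Opens.topIso, Functor.mapIso_inv, ← ConcreteCategory.comp_apply]
  erw [← Functor.map_comp]
  exact ConcreteCategory.congr_hom (hmap _ _) _


/-- Over an algebraically closed field k, let G be an algebraic group (a smooth k-group scheme of finite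
type) and M a rational G-module, not necessarily finite-dimensional: a k-vector space with a
G-module structure (points of G with values in a k-algebra B act B-linearly on B ⊗ M, naturally in
B) such that every vector lies in a finite-dimensional subspace N with B ⊗ N stable under all
B-points of G. If the representation is faithful, in the sense that every rational point of G acting
as the identity on M is the identity element, then G is affine. -/
theorem result (k : Type u) [Field k] [IsAlgClosed k]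
    (G : Over (Spec (CommRingCat.of k))) [GrpObj G] [Smooth G.hom] [QuasiCompact G.hom]
    (M : Type u) [AddCommGroup M] [Module k M] (m : VecGrp.GMod G M)
    (hlf : ∀ v : M, ∃ N : Submodule k M, v ∈ N ∧ Module.Finite k ↥N ∧
      ∀ (B : Type u) [CommRing B] [Algebra k B] (g : VecGrp.pt k B ⟶ G) (x : VecGrp.W k M B),
        x ∈ Submodule.baseChange B N → m.ρ B g x ∈ Submodule.baseChange B N)
    (hfaith : ∀ g : VecGrp.pt k k ⟶ G, m.ρ k g = 1 → g = 1) :
    IsAffine G.left := by
  classical
  have := Groth.AlgGrp1.geometricallyReduced_of_smooth_hom G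
  have := Groth.AlgGrp1.isReduced_left G
  refine Groth.AlgGrp1.isAffine_of_separated_points k G fun g hg => hfaith g ?_
  refine LinearEquiv.ext fun z => ?_
  refine z.induction_on ?_ (fun b v => ?_) fun a b ha hb => ?_
  · simp
  swap
  · rw [map_add, ha, hb, map_add]
  rw [Groth.Agf.rho_tmul, show b ⊗ₜ[k] v = b • ((1 : k) ⊗ₜ[k] v) by
    rw [TensorProduct.smul_tmul', smul_eq_mul, _root_.mul_one], map_smul]
  congr 1
  refine Groth.Agf.eq_of_contract fun ψ => ?_
  obtain ⟨F, hF⟩ := exists_fn G (fun y => contract ψ k (m.ρ k y ((1 : k) ⊗ₜ[k] v))) fun U => by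
    let V : Over (Spec (CommRingCat.of k)) := Over.mk (U.1.ι ≫ G.hom)
    let inc : V ⟶ G := Over.homMk U.1.ι rfl
    have : IsAffine V.left := U.2
    refine ⟨contract ψ (Fn V) (m.ρ (Fn V) (Groth.Agf.univ V ≫ inc) ((1 : Fn V) ⊗ₜ[k] v)), fun y => ?_⟩
    rw [← Groth.Agf.contract_Wmap, m.naturality, ← Category.assoc, Groth.Agf.ptMap_univ, VecGrp.Wmap_tmul, map_one]
  rw [← hF g, hg F, hF 1, map_one]

end Groth.Agent.S11416
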