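import Groth.Statements.S3019
import Groth.Agent.AlgGrp1.ChevalleyMat
import Mathlib.LinearAlgebra.Basis.VectorSpace
import Mathlib.LinearAlgebra.Projection

set_option autoImplicit false
universe u
open CategoryTheory MonoidalCategory CartesianMonoidalCategory MonObj GrpObj AlgebraicGeometry TensorProduct
open SGA3

namespace Groth.Agent.S3019

open Groth Groth.AlgGrp1

theorem lslice_comul_mem {k A : Type u} [Field k] [CommRing A] [HopfAlgebra k A] (I : Ideal A) [I.IsHopfIdeal k]
    (ψ : A →ₗ[k] k) (hψ : ∀ x ∈ I, ψ x = 0) {x : A} (hx : x ∈ I) :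
    ComodLib.lslice ψ (Coalgebra.comul (R := k) x) ∈ I := by
  let J := I.restrictScalars k
  have h0 := Submodule.IsCoideal.map_mkQ_comul_eq_zero (R := k) (I := J) hx
  let χ : (A ⧸ J) →ₗ[k] k := J.liftQ ψ fun y hy => hψ y hy
  have h1 : ∀ z : A ⊗[k] A, J.mkQ (ComodLib.lslice ψ z) = ComodLib.lslice χ (TensorProduct.map J.mkQ J.mkQ z) := by
    intro z
    induction z using TensorProduct.induction_on with
    | zero => simp
    | tmul a b => simp [χ]
    | add a b ha hb => simp only [map_add, ha, hb]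
  have h2 : J.mkQ (ComodLib.lslice ψ (Coalgebra.comul (R := k) x)) = 0 := by
    rw [h1, h0, map_zero]
  rwa [Submodule.mkQ_apply, Submodule.Quotient.mk_eq_zero] at h2


/-- a basis of `V0` adapted to `J`, with functionals -/
theorem exists_adapted {k : Type u} [Field k] {M : Type u} [AddCommGroup M] [Module k M] (V0 J : Submodule k M)
    [Module.Finite k V0] :
    ∃ (d e : ℕ) (b : Fin d ⊕ Fin e → M) (ψ : Fin d ⊕ Fin e → (M →ₗ[k] k)),
      (∀ i, b i ∈ V0) ∧ (∀ j, b (Sum.inl j) ∈ J) ∧ (∀ i, ∀ x ∈ J, ψ (Sum.inr i) x = 0) ∧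
      (∀ l j, ψ l (b j) = (1 : Matrix _ _ k) l j) ∧
      (∀ x ∈ V0, ∃ a : Fin d ⊕ Fin e → k, x = ∑ l, a l • b l) ∧
      (∀ x ∈ V0, x ∈ J → ∃ a : Fin d → k, x = ∑ j, a j • b (Sum.inl j)) := by
  classical
  let f : V0 →ₗ[k] (M ⧸ J) := J.mkQ ∘ₗ V0.subtype
  let W : Submodule k V0 := LinearMap.ker f
  obtain ⟨U, hU⟩ := Submodule.exists_isCompl W
  let bW := Module.finBasis k W
  let bU := Module.finBasis k U
  let B : Module.Basis _ k V0 := (bW.prod bU).map (Submodule.prodEquivOfIsCompl W U hU)
  let b : Fin (Module.finrank k W) ⊕ Fin (Module.finrank k U) → M := fun i => (B i : M)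
  have hbl : ∀ j, b (Sum.inl j) = ((bW j : V0) : M) := fun j => by
    simp [b, B, Module.Basis.prod_apply]
  have hbr : ∀ i, b (Sum.inr i) = ((bU i : V0) : M) := fun i => by
    simp [b, B, Module.Basis.prod_apply]
  have hblI : ∀ j, b (Sum.inl j) ∈ J := fun j => by
    have h := LinearMap.mem_ker.1 (bW j).2
    rw [hbl]
    exact (Submodule.Quotient.mk_eq_zero J).1 h
  have hinj : Function.Injective (f ∘ₗ U.subtype) := by
    rw [← LinearMap.ker_eq_bot, Submodule.eq_bot_iff]
    intro x hx
    exact Subtype.ext ((Submodule.disjoint_def.1 hU.disjoint) _ (LinearMap.mem_ker.2 hx) x.2)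
  obtain ⟨g, hg⟩ := (f ∘ₗ U.subtype).exists_leftInverse_of_injective (LinearMap.ker_eq_bot.2 hinj)
  obtain ⟨p, hp⟩ := V0.subtype.exists_leftInverse_of_injective V0.ker_subtype
  let ψ : Fin (Module.finrank k W) ⊕ Fin (Module.finrank k U) → (M →ₗ[k] k) :=
    Sum.elim (fun j => B.coord (Sum.inl j) ∘ₗ p) (fun i => bU.coord i ∘ₗ g ∘ₗ J.mkQ)
  have hψI : ∀ i, ∀ x ∈ J, ψ (Sum.inr i) x = 0 := fun i x hx => by
    simp [ψ, (Submodule.Quotient.mk_eq_zero J).2 hx]
  refine ⟨_, _, b, ψ, fun i => (B i).2, hblI, hψI, ?_, fun x hx => ?_, fun x hx hxJ => ?_⟩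
  · intro l j
    rcases l with l | l
    · have : p (b j) = B j := LinearMap.congr_fun hp (B j)
      simp [ψ, this, Finsupp.single_apply, Matrix.one_apply, eq_comm]
    · rcases j with j | j
      · rw [hψI l _ (hblI j), Matrix.one_apply_ne Sum.inr_ne_inl]
      · have : g (J.mkQ ((bU j : V0) : M)) = bU j := LinearMap.congr_fun hg (bU j)
        simp only [ψ, Sum.elim_inr, LinearMap.comp_apply, hbr, this]
        simp [Finsupp.single_apply, Matrix.one_apply, eq_comm]
  · refine ⟨fun l => B.repr ⟨x, hx⟩ l, ?_⟩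
    have := congrArg V0.subtype (B.sum_repr ⟨x, hx⟩)
    rw [map_sum] at this
    exact this.symm
  · let x' : W := ⟨⟨x, hx⟩, LinearMap.mem_ker.2 ((Submodule.Quotient.mk_eq_zero J).2 hxJ)⟩
    refine ⟨fun j => bW.repr x' j, ?_⟩
    have := congrArg (V0.subtype ∘ₗ W.subtype) (bW.sum_repr x')
    rw [map_sum] at this
    refine this.symm.trans (Finset.sum_congr rfl fun j _ => ?_)
    rw [hbl]
    rfl

/-- matrix data for Chevalley's theorem -/
theorem exists_mat (k : Type u) [Field k] (A : Type u) [CommRing A] [HopfAlgebra k A]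
    [Algebra.FiniteType k A] (I : Ideal A) [I.IsHopfIdeal k] :
    ∃ (d e : ℕ) (b : Fin d ⊕ Fin e → A) (m : Matrix (Fin d ⊕ Fin e) (Fin d ⊕ Fin e) A),
      (∀ i j, Coalgebra.comul (R := k) (m i j) = ∑ l, m i l ⊗ₜ[k] m l j) ∧
      (∀ i j, Coalgebra.counit (R := k) (m i j) = (1 : Matrix _ _ k) i j) ∧
      (∀ i j, m (Sum.inr i) (Sum.inl j) ∈ I) ∧
      (∀ j, b (Sum.inl j) = ∑ l, Coalgebra.counit (R := k) (b l) • m l (Sum.inl j)) ∧
      (∀ j, b (Sum.inl j) ∈ I) ∧ Ideal.span (Set.range fun j => b (Sum.inl j)) = I := by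
  classical
  have : IsNoetherianRing A := Algebra.FiniteType.isNoetherianRing k A
  obtain ⟨s, hs⟩ := IsNoetherian.noetherian I
  obtain ⟨V0, hfin, hsV, hV⟩ := ComodLib.exists_finite_subcomod_span (k := k) (A := A) (V := A) s.finite_toSet
  obtain ⟨d, e, b, ψ, hbV, hblI, hψI, hψb, hspanV, hspanW⟩ := exists_adapted V0 (I.restrictScalars k)
  let m : Matrix _ _ A := Matrix.of fun i j => ComodLib.lslice (ψ i) (Coalgebra.comul (R := k) (b j))
  have hco : ∀ j, Coalgebra.comul (R := k) (b j) = ∑ l, b l ⊗ₜ[k] m l j := by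
    intro j
    obtain ⟨z, hz⟩ := hV _ (hbV j)
    obtain ⟨c, hc⟩ : ∃ c : _ → A, V0.subtype.rTensor A z = ∑ l, b l ⊗ₜ[k] c l := by
      clear hz
      induction z using TensorProduct.induction_on with
      | zero => exact ⟨0, by simp⟩
      | tmul x y =>
        obtain ⟨a, ha⟩ := hspanV x x.2
        exact ⟨fun l => a l • y, by
          rw [LinearMap.rTensor_tmul, Submodule.subtype_apply, ha, TensorProduct.sum_tmul]
          exact Finset.sum_congr rfl fun l _ => TensorProduct.smul_tmul _ _ _⟩
      | add x y hx hy =>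
        obtain ⟨c, hx⟩ := hx
        obtain ⟨c', hy⟩ := hy
        exact ⟨c + c', by simp [hx, hy, TensorProduct.tmul_add, Finset.sum_add_distrib]⟩
    have hbj : Coalgebra.comul (R := k) (b j) = ∑ l, b l ⊗ₜ[k] c l := by
      change HopfRep.Comod.coact (k := k) (A := A) (b j) = _
      rw [← hz, hc]
    have hm : ∀ l, m l j = c l := fun l => by
      simp only [m, Matrix.of_apply, hbj, map_sum, ComodLib.lslice_tmul, hψb]
      rw [Finset.sum_eq_single l (fun x _ hx => by rw [Matrix.one_apply_ne hx.symm, zero_smul])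
        (by simp), Matrix.one_apply_eq, one_smul]
    simp only [hm, hbj]
  refine ⟨_, _, b, m, fun i j => ?_, fun i j => ?_, fun i j => ?_, fun j => ?_, hblI, ?_⟩
  · rw [show m i j = ComodLib.cf (A := A) (ψ i) (b j) from rfl, ComodLib.comul_cf]
    change (ComodLib.cf (A := A) (ψ i)).rTensor A (Coalgebra.comul (R := k) (b j)) = _
    rw [hco, map_sum]
    rfl
  · rw [show m i j = ComodLib.cf (A := A) (ψ i) (b j) from rfl, ComodLib.apply_cf, ComodLib.op_counit, hψb]
  · exact lslice_comul_mem I _ (hψI i) (hblI j)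
  · have h := LinearMap.congr_fun (Coalgebra.rTensor_counit_comp_comul (R := k) (A := A)) (b (Sum.inl j))
    simp only [LinearMap.comp_apply, hco, map_sum, LinearMap.rTensor_tmul, TensorProduct.mk_apply] at h
    have h' := congrArg (TensorProduct.lid k A) h
    simpa using h'.symm
  · refine le_antisymm (Ideal.span_le.2 (Set.range_subset_iff.2 hblI)) ?_
    rw [← hs, Ideal.submodule_span_eq, Ideal.span_le]
    intro x hx
    have hxI : x ∈ I := by rw [← hs]; exact Submodule.subset_span hx
    obtain ⟨a, e⟩ := hspanW x (hsV hx) hxI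
    rw [SetLike.mem_coe, e]
    exact Submodule.sum_mem _ fun j _ => Submodule.smul_of_tower_mem _ _ (Ideal.subset_span ⟨j, rfl⟩)

/-- Let A be a finitely generated commutative Hopf algebra over a field k (an affine algebraic k-group
G) and I a Hopf ideal (a closed subgroup scheme H). Then there are a finite-dimensional A-comodule V
and a nonzero vector v ∈ V such that, for every k-algebra R, an R-point of G kills I exactly when it
carries v to an R-multiple of v: H is the stabilizer of the line through v. -/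
theorem result (k : Type u) [Field k] (A : Type u) [CommRing A] [HopfAlgebra k A]
    [Algebra.FiniteType k A] (I : Ideal A) [I.IsHopfIdeal k] :
    ∃ (V : Type u) (_ : AddCommGroup V) (_ : Module k V) (_ : HopfRep.Comod k A V) (_ : Module.Finite k V) (v : V),
      v ≠ 0 ∧ Dyn.Represents k A I (fun R _ _ g => SGA3.StabilizesLine k A v R g) := by
  classical
  obtain ⟨d, e, b, m, hc, he, hmI, hb, hbI, hspan⟩ := exists_mat k A I
  let M := Chev.tpow m d
  have hMc := Chev.comul_tpow m hc d
  have hMe := Chev.counit_tpow m he d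
  let v : (Fin d → Fin d ⊕ Fin e) → k := fun h => ((1 : Matrix (Fin d ⊕ Fin e) (Fin d ⊕ Fin e) k).submatrix h Sum.inl).det
  refine ⟨(Fin d → Fin d ⊕ Fin e) → k, inferInstance, inferInstance, Chev.comodOfMat M hMc hMe,
    inferInstance, v, fun hv => ?_, ?_⟩
  · have h1 := congrFun hv Sum.inl
    simp only [v, Matrix.submatrix_one Sum.inl Sum.inl_injective, Matrix.det_one, Pi.zero_apply] at h1
    exact one_ne_zero h1
  intro R _ _ g
  let N : Matrix _ _ R := m.map g
  let N' : Matrix _ _ R := m.map (g.comp (HopfAlgebra.antipodeAlgHom k A))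
  have hinv : N' * N = 1 := by
    ext i j
    have h := congrArg g (HopfAlgebra.mul_antipode_rTensor_comul_apply (R := k) (m i j))
    rw [hc] at h
    simp only [map_sum, LinearMap.rTensor_tmul, LinearMap.mul'_apply, map_mul] at h
    rw [Matrix.mul_apply]
    refine h.trans ?_
    rw [AlgHom.commutes, he]
    by_cases hij : i = j
    · subst hij; simp
    · simp [Matrix.one_apply_ne hij]
  have hkill : (∀ a ∈ I, g a = 0) ↔ ∀ i, i ∉ Set.range (Sum.inl : Fin d → Fin d ⊕ Fin e) →
      ∀ j, N i (Sum.inl j) = 0 := by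
    constructor
    · rintro h (i | i) hi j
      · exact absurd ⟨i, rfl⟩ hi
      · exact h _ (hmI i j)
    · intro h
      suffices h' : I ≤ RingHom.ker g from fun a ha => h' ha
      rw [← hspan, Ideal.span_le]
      rintro _ ⟨j, rfl⟩
      rw [SetLike.mem_coe, RingHom.mem_ker]
      change g (b (Sum.inl j)) = 0
      rw [hb j, map_sum, Fintype.sum_sum_type]
      have h2 : ∀ l, g (m (Sum.inr l) (Sum.inl j)) = 0 := fun l => h _ (by simp) j
      have h3 : ∀ l, Coalgebra.counit (R := k) (b (Sum.inl l)) = 0 := fun l =>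
        Submodule.IsCoideal.counit_eq_zero (I := I.restrictScalars k) (hbI l)
      simp [h2, h3]
  refine hkill.trans ((Chev.exists_det_iff N N' hinv Sum.inl Sum.inl_injective).symm.trans ?_)
  refine exists_congr fun c => ?_
  let F := Fin d → Fin d ⊕ Fin e
  -- coordinates on `V ⊗ R`
  let ev : F → ((F → k) ⊗[k] R →ₗ[k] R) := fun h =>
    (TensorProduct.lid k R).toLinearMap ∘ₗ (LinearMap.proj h).rTensor R
  have hev : ∀ x : (F → k) ⊗[k] R, x = ∑ h, Pi.single h (1 : k) ⊗ₜ[k] ev h x := by
    intro x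
    induction x using TensorProduct.induction_on with
    | zero => simp
    | tmul x r =>
      conv_lhs => rw [pi_eq_sum_univ' x, TensorProduct.sum_tmul]
      refine Finset.sum_congr rfl fun h _ => ?_
      simp [ev, TensorProduct.smul_tmul']
    | add x y hx hy => simp only [map_add, TensorProduct.tmul_add, Finset.sum_add_distrib, ← hx, ← hy]
  have hl : ∀ h : F, ev h (LinearMap.lTensor (F → k) g.toLinearMap
      ((Chev.comodOfMat M hMc hMe).coact v)) = (N.submatrix h Sum.inl).det := by
    intro h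
    change ev h (LinearMap.lTensor (F → k) g.toLinearMap (Chev.coactOfMat M v)) = _
    conv_lhs => rw [pi_eq_sum_univ' v]
    simp only [map_sum, map_smul, Chev.coactOfMat_single, LinearMap.lTensor_tmul, ev, LinearMap.comp_apply,
      LinearMap.rTensor_tmul, LinearMap.proj_apply, LinearEquiv.coe_coe, TensorProduct.lid_tmul]
    rw [Chev.det_submatrix_expand]
    refine Finset.sum_congr rfl fun f _ => ?_
    rw [Finset.sum_eq_single h (fun x _ hx => by rw [Pi.single_eq_of_ne hx.symm, zero_smul]) (by simp),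
      Pi.single_eq_same, one_smul]
    have e1 : ((Chev.incl R Sum.inl).submatrix f id).det = algebraMap k R (v f) := by
      simp only [v]
      rw [RingHom.map_det]
      congr 1
      ext x y
      simp only [Chev.incl, RingHom.mapMatrix_apply, Matrix.map_apply, Matrix.submatrix_apply, Matrix.one_apply, id_eq]
      split_ifs <;> simp
    rw [e1, Algebra.smul_def, mul_comm]
    congr 1
    simp [M, Chev.tpow, N, map_prod]
  have hr : ∀ h : F, ev h (v ⊗ₜ[k] c) = c * ((Chev.incl R Sum.inl).submatrix h id).det := by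
    intro h
    simp only [ev, LinearMap.comp_apply, LinearMap.rTensor_tmul, LinearMap.proj_apply, LinearEquiv.coe_coe,
      TensorProduct.lid_tmul, Algebra.smul_def, mul_comm c]
    congr 1
    simp only [v]
    rw [RingHom.map_det]
    congr 1
    ext x y
    simp only [Chev.incl, RingHom.mapMatrix_apply, Matrix.map_apply, Matrix.submatrix_apply, Matrix.one_apply, id_eq]
    split_ifs <;> simp
  constructor
  · intro h
    rw [hev (LinearMap.lTensor _ _ _), hev (v ⊗ₜ[k] c)]
    exact Finset.sum_congr rfl fun x _ => by rw [hl, hr, h]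
  · intro h x
    rw [← hl, ← hr]
    exact congrArg (ev x) h

end Groth.Agent.S3019
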