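import Groth.Statements.S18812
import Groth.Agent.Hopf.Integral
import Groth.Agent.Hopf.Semisimple

set_option autoImplicit false
universe u v w
open TensorProduct
open HopfRep

namespace Groth.Agent.S18812

/-- Let k be a field and A a commutative Hopf algebra over k, the coordinate ring of an affine group
scheme G. Suppose the inclusion of constants k → A splits as a map of G-representations: there is a
k-linear map α : A → k which is a comodule map from the regular comodule A to the trivial comodule k
and satisfies α(1) = 1. Then every A-comodule, of any dimension, is semisimple: every subcomodule
has a complementary subcomodule. (The source works with left comodules; this is the right-comodule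
form. The converse implication is the easy one and is not part of this row.) -/
theorem result (k : Type u) [Field k] (A : Type v) [CommRing A] [HopfAlgebra k A]
    (α : A →ₗ[k] k) (hα : @Hoch.IsComodHom k _ A _ _ _ A _ _ _ k _ _ (HopfRep.Comod.trivial k A k) α)
    (h1 : α 1 = 1)
    (V : Type w) [AddCommGroup V] [Module k V] [HopfRep.Comod k A V] :
    HopfRep.IsSemisimpleComod k A V := by
  intro W hW
  let c : HopfRep.Comod k A V := inferInstance
  let := ComodSub.Comod.restr c W hW
  obtain ⟨π, hπ⟩ := W.subtype.exists_leftInverse_of_injective W.ker_subtype
  obtain ⟨P, hP, hid⟩ := ComodLib.exists_average (V := V) (W := W) α hα π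
  have hfix : ∀ w : W, P w = w := hid W.subtype (ComodSub.isComodHom_subtype c W hW) hπ h1
  exact ⟨LinearMap.ker P, ComodLib.isSubcomod_ker hP, LinearMap.isCompl_of_proj hfix⟩

end Groth.Agent.S18812
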