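import Groth.Statements.S4128
import Groth.Agent.Sga3.UnipotentExt

set_option autoImplicit false
universe u
open TensorProduct
open SGA3

namespace Groth.Agent.S4128

/-- In Hopf-algebra form: let k be an algebraically closed field, A a finitely generated commutative
Hopf algebra over k (an algebraic group E) and ψ : B → A an injective bialgebra map from a
diagonalizable Hopf algebra B (a quotient H = Spec B of E of multiplicative type). Let J be the Hopf
ideal of A generated by the image of the augmentation ideal of B (the kernel U of E → H) and suppose
U = Spec (A/J) is unipotent (every nonzero finite-dimensional representation has a nonzero fixed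
vector, the representation-theoretic form of unipotence). Then the extension 1 → U → E → H → 1 is
trivial: there is a bialgebra map r : A → B with r ∘ ψ = id (a group section H → E). -/
theorem result (k : Type u) [Field k] [IsAlgClosed k]
    (A B : Type u) [CommRing A] [HopfAlgebra k A] [Algebra.FiniteType k A] [CommRing B] [HopfAlgebra k B]
    (hB : SGA3b.IsDiag k B) (ψ : B →ₐc[k] A) (hψ : Function.Injective ψ)
    (J : Ideal A) [J.IsHopfIdeal k] (hJ : J = Ideal.map (ψ : B →+* A) (RingHom.ker (Bialgebra.counitAlgHom k B)))
    (hU : HopfRep.IsUnipotent k (A ⧸ J)) :
    ∃ r : A →ₐc[k] B, r.comp ψ = BialgHom.id k B := by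
  exact Groth.Sga3.UnipotentExt.exists_retraction A B hB ψ hψ J hJ hU

end Groth.Agent.S4128
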