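import Groth.Statements.S7669
import Groth.Agent.VarietyBC.PicGlue
-- import your own Groth.Agent.* helpers here

set_option autoImplicit false
universe u
open CategoryTheory CategoryTheory.Limits AlgebraicGeometry
open Variety


namespace Groth.Agent.S7669
open CategoryTheory AlgebraicGeometry TopologicalSpace Groth.PicAux Groth.VarietyBC

/-- A point of a discrete set is isolated in it. -/
theorem exists_isolating {X : Type*} [TopologicalSpace X] {D : Set X} (hD : DiscreteTopology D) {x : X}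
    (hx : x ∈ D) : ∃ U : Set X, IsOpen U ∧ x ∈ U ∧ ∀ z ∈ U, z ∈ D → z = x := by
  have h : IsOpen ({⟨x, hx⟩} : Set D) := isOpen_discrete _
  obtain ⟨U, hU, hUeq⟩ := isOpen_induced_iff.1 h
  exact ⟨U, hU, (Set.ext_iff.1 hUeq ⟨x, hx⟩).2 rfl,
    fun z hzU hzD => congrArg Subtype.val ((Set.ext_iff.1 hUeq ⟨z, hzD⟩).1 hzU)⟩

theorem mem_minimalPrimes_of_ne_closedPoint {R : Type*} [CommRing R] [IsLocalRing R]
    (hdim : ringKrullDim R ≤ 1) (q : PrimeSpectrum R) (hq : q ≠ IsLocalRing.closedPoint R) :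
    q.asIdeal ∈ minimalPrimes R := by
  by_contra hnot
  obtain ⟨P, hP, hPQ⟩ := Ideal.exists_minimalPrimes_le (bot_le : ⊥ ≤ q.asIdeal)
  have hPQ' : P < q.asIdeal := lt_of_le_of_ne hPQ fun h => hnot (h ▸ hP)
  have hlt : q.asIdeal < IsLocalRing.maximalIdeal R :=
    lt_of_le_of_ne (IsLocalRing.le_maximalIdeal q.2.ne_top) fun h => hq (PrimeSpectrum.ext h)
  let c : LTSeries (PrimeSpectrum R) :=
    ((RelSeries.singleton _ ⟨P, hP.1.1⟩).snoc q (by simp; exact hPQ')).snoc
      (IsLocalRing.closedPoint _) (by simp; exact hlt)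
  have h2 := (Order.LTSeries.length_le_krullDim c).trans hdim
  simp [c] at h2

/-- The proper generalisations of a point with one dimensional noetherian local ring. -/
theorem generalisations {X : Scheme.{u}} (x : X) [IsNoetherianRing (X.presheaf.stalk x)]
    (hdim : ringKrullDim (X.presheaf.stalk x) ≤ 1) :
    {z : X | z ⤳ x ∧ z ≠ x}.Finite ∧
      ∀ s t : X, s ⤳ x → s ≠ x → t ⤳ x → t ≠ x → s ⤳ t → s = t := by
  have hmem : ∀ z : X, z ⤳ x → z ≠ x →
      ∃ q : PrimeSpectrum (X.presheaf.stalk x), q.asIdeal ∈ minimalPrimes _ ∧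
        X.fromSpecStalk x q = z := by
    intro z hz hne
    obtain ⟨q, hq⟩ := (X.range_fromSpecStalk (x := x)).ge hz
    refine ⟨q, mem_minimalPrimes_of_ne_closedPoint hdim q fun h => hne ?_, hq⟩
    rw [← hq, h, X.fromSpecStalk_closedPoint]
  constructor
  · refine ((Set.Finite.preimage (fun _ _ _ _ h => PrimeSpectrum.ext h)
      (minimalPrimes.finite_of_isNoetherianRing (X.presheaf.stalk x))).image
      (X.fromSpecStalk x)).subset ?_
    rintro z ⟨hz, hne⟩
    obtain ⟨q, hq, rfl⟩ := hmem z hz hne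
    exact ⟨q, hq, rfl⟩
  · intro s t hs hs' ht ht' hst
    obtain ⟨q, hq, rfl⟩ := hmem s hs hs'
    obtain ⟨q', hq', rfl⟩ := hmem t ht ht'
    have h := (X.fromSpecStalk x).isEmbedding.isInducing.specializes_iff.1 hst
    have h' : q.asIdeal ≤ q'.asIdeal := (PrimeSpectrum.le_iff_specializes q q').2 h
    exact congrArg _ (PrimeSpectrum.ext (le_antisymm h' (hq'.2 hq.1 h')))

theorem isUnit_resX_basicOpen {X : Scheme.{u}} {U V : X.Opens} (c : Γ(X, U)) (h : V ≤ U)
    (hV : V ≤ X.basicOpen c) : IsUnit (resX X h c) := by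
  rw [show resX X h c = resX X hV (resX X (X.basicOpen_le c) c) from (resX_resX _ _ c).symm]
  exact (RingedSpace.isUnit_res_basicOpen _ c).map _

end Groth.Agent.S7669

namespace Groth.Agent.S7669

open TopologicalSpace Groth.PicAux Groth.VarietyBC

/-- Let X be a scheme and U ⊆ X a retrocompact open such that X ∖ U is discrete and O_{X,x} is
Noetherian of dimension ≤ 1 for every x ∈ X ∖ U. Then (1) there are an invertible module L and a
global section s with U = X_s, and (2) Pic(X) → Pic(U) is surjective. -/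
theorem result (X : Scheme.{u}) (U : X.Opens)
    [QuasiCompact U.ι] (hdisc : DiscreteTopology ↥((U : Set X)ᶜ))
    (hloc : ∀ x : X, x ∉ U → IsNoetherianRing (X.presheaf.stalk x) ∧ ringKrullDim (X.presheaf.stalk x) ≤ 1) :
    (∃ (L : X.Modules) (s : Coh.structureModule X ⟶ L), PicF.IsInvertible L ∧ CohB1.genLocus L s = U) ∧
      ∀ N : (↑U : Scheme.{u}).Modules, PicF.IsInvertible N →
        ∃ L : X.Modules, PicF.IsInvertible L ∧ Nonempty (L.restrict U.ι ≅ N) := by
  classical
  have hcpt : ∀ W : X.Opens, IsAffineOpen W → IsCompact ((W ⊓ U : X.Opens) : Set X) := by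
    intro W hW
    have h := (QuasiCompact.isCompact_preimage (f := U.ι) _ W.isOpen hW.isCompact).image
      U.ι.continuous
    have e : ((W ⊓ U : X.Opens) : Set X) = U.ι '' (U.ι ⁻¹' (W : Set X)) := by
      change _ = ((U.ι ''ᵁ (U.ι ⁻¹ᵁ W) : X.Opens) : Set X)
      rw [Scheme.Hom.image_preimage_eq_opensRange_inf, Scheme.Opens.opensRange_ι, inf_comm]
    rw [e]; exact h
  have hW0 : ∀ x : {x : X // x ∉ U}, ∃ W : X.Opens, x.1 ∈ W ∧ ∀ z ∈ W, z ∉ U → z = x.1 := by
    intro x
    obtain ⟨W, hW, hxW, h⟩ := exists_isolating hdisc (show x.1 ∈ (U : Set X)ᶜ from x.2)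
    exact ⟨⟨W, hW⟩, hxW, fun z hz hzU => h z hz hzU⟩
  choose W₀ hxW₀ hW₀ using hW0
  have hch : ∀ x : {x : X // x ∉ U}, ∃ (W : X.Opens) (f : Γ(X, W)), IsAffineOpen W ∧ x.1 ∈ W ∧
      W ≤ W₀ x ∧ X.basicOpen f = W ⊓ U := fun x => by
    haveI := (hloc x.1 x.2).1
    exact PicGlue.exists_chart U x.1 x.2 (hloc x.1 x.2).2 (W₀ x) (hxW₀ x) (hW₀ x) hcpt
  choose W f hW hxW hWle hf using hch
  have hover : ∀ x y, x ≠ y → W x ⊓ W y ≤ U := fun x y hxy z hz => by
    by_contra hzU
    exact hxy (Subtype.ext ((hW₀ x z (hWle x hz.1) hzU).symm.trans (hW₀ y z (hWle y hz.2) hzU)))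
  refine ⟨?_, fun N hN => ?_⟩
  · let O : Option {x : X // x ∉ U} → X.Opens := fun a => a.elim U W
    have hO : iSup O = ⊤ := top_le_iff.1 fun z _ => by
      by_cases hz : z ∈ U
      · exact Opens.mem_iSup.2 ⟨none, hz⟩
      · exact Opens.mem_iSup.2 ⟨some ⟨z, hz⟩, hxW _⟩
    let c : ∀ a, Γ(X, O a) := fun a => match a with
      | none => 1
      | some x => f x
    have hc : ∀ a, X.basicOpen (c a) = O a ⊓ U := by
      intro a
      cases a with
      | none => exact (Scheme.basicOpen_of_isUnit _ isUnit_one).trans (inf_idem _).symm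
      | some x => exact hf x
    have hover' : ∀ a b, a ≠ b → O a ⊓ O b ≤ U := by
      intro a b hab
      cases a with
      | none => exact inf_le_left
      | some x =>
        cases b with
        | none => exact inf_le_right
        | some y => exact hover x y fun h => hab (h ▸ rfl)
    have hu : ∀ (a : Option {x : X // x ∉ U}) (V : X.Opens) (h : V ≤ O a), V ≤ U →
        IsUnit (resX X h (c a)) := fun a V h hVU =>
      isUnit_resX_basicOpen _ h ((hc a).symm ▸ le_inf h hVU)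
    have hex : ∀ a b, ∃ η : Γ(X, O a ⊓ O b), IsUnit η ∧ (a = b → η = 1) ∧
        resX X inf_le_left (c a) * η = resX X inf_le_right (c b) := by
      intro a b
      by_cases hab : a = b
      · subst hab
        exact ⟨1, isUnit_one, fun _ => rfl, mul_one _⟩
      · obtain ⟨u₁, hu₁⟩ := hu a _ inf_le_left (hover' a b hab)
        obtain ⟨u₂, hu₂⟩ := hu b _ inf_le_right (hover' a b hab)
        refine ⟨↑(u₁⁻¹ * u₂), Units.isUnit _, fun h => absurd h hab, ?_⟩
        rw [← hu₁, ← hu₂, ← Units.val_mul, mul_inv_cancel_left]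
    choose η hηu hη1 hηc using hex
    obtain ⟨L, s, hs, hinv, hrel⟩ := exists_module_of_cocycle O η hO hηu fun a b d => by
      by_cases hab : a = b
      · subst hab
        rw [hη1 a a rfl, map_one, one_mul]
      have hVa : O a ⊓ O b ⊓ O d ≤ O a := inf_le_left.trans inf_le_left
      refine (hu a _ hVa (inf_le_left.trans (hover' a b hab))).mul_left_cancel ?_
      have h1 := congrArg (resX X
        (inf_le_inf_right (O d) inf_le_left : O a ⊓ O b ⊓ O d ≤ O a ⊓ O d)) (hηc a d)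
      have h2 := congrArg (resX X (inf_le_left : O a ⊓ O b ⊓ O d ≤ O a ⊓ O b)) (hηc a b)
      have h3 := congrArg (resX X
        (inf_le_inf_right (O d) inf_le_right : O a ⊓ O b ⊓ O d ≤ O b ⊓ O d)) (hηc b d)
      simp only [map_mul, resX_resX] at h1 h2 h3
      rw [← mul_assoc, h1, h2, h3]
    obtain ⟨S, hS, -⟩ := res_glue (M := L) O (fun _ => le_top) hO.ge (fun a => c a • s a) fun a b => by
      rw [res_smul, res_smul, hrel, smul_smul, hηc]
    refine ⟨L, homOfSection S, hinv, ?_⟩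
    have hloc' : ∀ a, CohB1.genLocus L (homOfSection S) ⊓ O a = O a ⊓ U := fun a => by
      rw [genLocus_inf_eq_basicOpen (hs a) (c := c a) (by rw [gsec_homOfSection]; exact hS a), hc]
    refine le_antisymm (fun z hz => ?_) (fun z hz => ?_)
    · obtain ⟨a, ha⟩ := Opens.mem_iSup.1 (hO.ge (Opens.mem_top z))
      exact ((hloc' a).le ⟨hz, ha⟩).2
    · obtain ⟨a, ha⟩ := Opens.mem_iSup.1 (hO.ge (Opens.mem_top z))
      exact ((hloc' a).ge ⟨ha, hz⟩).1
  · have hpt : ∀ z : X, ∃ (O : X.Opens) (e : Γ(N, U.ι ⁻¹ᵁ O)), z ∈ O ∧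
        (z ∈ U → O ≤ U) ∧ (∀ hz : z ∉ U, O ≤ W ⟨z, hz⟩) ∧ Gen N (U.ι ⁻¹ᵁ O) e := by
      intro z
      by_cases hz : z ∈ U
      · obtain ⟨A, e, hzA, he⟩ := (isInvertible_iff_exists_gen N).1 hN ⟨z, hz⟩
        refine ⟨U.ι ''ᵁ A, res N (le_of_eq (U.ι.preimage_image_eq A)) e, ⟨_, hzA, rfl⟩,
          fun _ => Scheme.Opens.ι_image_le U A, fun h => absurd hz h, he.res _⟩
      · let x : {x : X // x ∉ U} := ⟨z, hz⟩
        haveI := (hloc z hz).1
        obtain ⟨hfin, hinc⟩ := generalisations z (hloc z hz).2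
        let T : Set (U : Scheme.{u}) := {w | U.ι w ⤳ z}
        have hne : ∀ w : (U : Scheme.{u}), U.ι w ≠ z := fun w h => hz (h ▸ w.2)
        have hT : T.Finite :=
          (hfin.preimage U.ι.isOpenEmbedding.injective.injOn).subset fun w hw => ⟨hw, hne w⟩
        have hA : IsAffineOpen (U.ι ⁻¹ᵁ W x) := by
          rw [← U.ι.isAffineOpen_iff_of_isOpenImmersion,
            Scheme.Hom.image_preimage_eq_opensRange_inf, Scheme.Opens.opensRange_ι, inf_comm, ← hf]
          exact (hW x).basicOpen _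
        have hTA : T ⊆ (U.ι ⁻¹ᵁ W x : (U : Scheme.{u}).Opens) := fun w hw =>
          hw.mem_open (W x).isOpen (hxW x)
        obtain ⟨O', e, hTO, hOA, he⟩ := PicGlue.exists_gen_finite hN hA T hT hTA
          fun s hs t ht hst => U.ι.isOpenEmbedding.injective
            (hinc _ _ hs (hne s) ht (hne t) (hst.map U.ι.continuous))
        obtain ⟨g, hzg, hg⟩ := PicGlue.exists_basicOpen_avoid (hW x) (hxW x) (W x ⊓ U) inf_le_left
          (hcpt _ (hW x)) ((U.ι ''ᵁ O' : X.Opens) : Set X)ᶜ (U.ι ''ᵁ O').isOpen.isClosed_compl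
          fun w hwz hwU hwO => hwO ⟨⟨w, hwU.2⟩, hTO hwz, rfl⟩
        have hle : U.ι ⁻¹ᵁ X.basicOpen g ≤ O' := fun w hw => by
          obtain ⟨w', hw', he⟩ := not_not.1 (hg (U.ι w) hw ⟨X.basicOpen_le g hw, w.2⟩)
          exact U.ι.isOpenEmbedding.injective he ▸ hw'
        exact ⟨X.basicOpen g, res N hle e, hzg, fun h => absurd h hz,
          fun _ => X.basicOpen_le g, he.res hle⟩
    choose O e hzO hOU hOW he using hpt
    have hover' : ∀ a b, a ≠ b → O a ⊓ O b ≤ U := fun a b hab => by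
      by_cases ha : a ∈ U
      · exact inf_le_left.trans (hOU a ha)
      by_cases hb : b ∈ U
      · exact inf_le_right.trans (hOU b hb)
      exact (inf_le_inf (hOW a ha) (hOW b hb)).trans
        (hover ⟨a, ha⟩ ⟨b, hb⟩ fun h => hab (congrArg Subtype.val h))
    obtain ⟨L, hL, hiso⟩ := PicGlue.exists_glue_bijective O (κ := PUnit.{u + 1}) (fun _ => U.ι)
      (fun _ => N) (fun a _ => e a) (fun a _ => he a)
      (top_le_iff.1 fun z _ => Opens.mem_iSup.2 ⟨z, hzO z⟩) fun a b hab V hV => by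
        haveI : IsIso (U.ι.app V) := U.ι.isIso_app V
          (by rw [Scheme.Opens.opensRange_ι]; exact hV.trans (hover' a b hab))
        have hb : Function.Bijective (U.ι.app V) := ConcreteCategory.bijective_of_isIso _
        exact ⟨fun r r' h => hb.1 (congrFun h PUnit.unit), fun d =>
          ⟨(hb.2 (d PUnit.unit)).choose, funext fun _ => (hb.2 (d PUnit.unit)).choose_spec⟩⟩
    obtain ⟨φ⟩ := hiso PUnit.unit
    exact ⟨L, hL, ⟨(Scheme.Modules.restrictFunctorIsoPullback U.ι).app L ≪≫ φ⟩⟩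

end Groth.Agent.S7669
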