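import Groth.Statements.S1627
import Groth.Agent.VarietyBC.CurveProj
import Groth.Agent.VarietyBC.CurveAffine
import Groth.Agent.S7669
-- import your own Groth.Agent.* helpers here

set_option autoImplicit false
universe u
open CategoryTheory CategoryTheory.Limits AlgebraicGeometry
open Variety

namespace Groth.Agent.S1627

open TopologicalSpace

/-- A curve X over k (integral, separated, of finite type, of dimension one) is either affine or
H-projective, i.e. admits a closed immersion into some P^d_k over k. -/
theorem result (k : Type u) [Field k] (X : Scheme.{u}) [X.Over (Spec (CommRingCat.of k))] [IsIntegral X] [IsSeparated (X ↘ (Spec (CommRingCat.of k)))] [LocallyOfFiniteType (X ↘ (Spec (CommRingCat.of k)))] [QuasiCompact (X ↘ (Spec (CommRingCat.of k)))] (hdim : topologicalKrullDim X = 1) :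
    IsAffine X ∨ ∃ (d : ℕ) (c : X ⟶ CohB1.ProjSpace d k), IsClosedImmersion c ∧ c ≫ CohB1.ProjSpace.toSpec d k = X ↘ (Spec (CommRingCat.of k)) := by
  obtain ⟨d, Y, c, j, hc, hj, hjc, hdense, -, hfin, hclosed⟩ :=
    Groth.VarietyBC.CurveProj.exists_completion k (X ↘ Spec (CommRingCat.of k)) hdim.le
  by_cases hsurj : Set.range j.base = Set.univ
  · right
    haveI : Surjective j := ⟨fun y => hsurj.ge trivial⟩
    haveI : IsIso j := (isIso_iff_isOpenImmersion_and_surjective j).mpr ⟨hj, inferInstance⟩
    exact ⟨d, j ≫ c, inferInstance, by rw [Category.assoc, hjc]⟩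
  left
  let g : Y ⟶ Spec (CommRingCat.of k) := c ≫ CohB1.ProjSpace.toSpec d k
  letI : Y.Over (Spec (CommRingCat.of k)) := ⟨g⟩
  haveI := Groth.Variety2.isProper_projSpace_toSpec d k
  haveI : IsProper (Y ↘ Spec (CommRingCat.of k)) :=
    inferInstanceAs (IsProper (c ≫ CohB1.ProjSpace.toSpec d k))
  haveI : IsNoetherian Y := Groth.EulerDeg.isNoetherian_of_proper k Y
  have hη : closure {j (genericPoint X)} = (Set.univ : Set Y) := by
    refine Set.eq_univ_iff_forall.2 fun y => ?_
    refine closure_minimal ?_ isClosed_closure (hdense y)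
    rintro _ ⟨x, rfl⟩
    exact ((genericPoint_specializes x).map j.continuous).mem_closure
  haveI : IrreducibleSpace Y :=
    (irreducibleSpace_def Y).2 (by rw [Set.top_eq_univ, ← hη]; exact isIrreducible_singleton.closure)
  have hgen : j (genericPoint X) = genericPoint Y :=
    IsGenericPoint.eq (show IsGenericPoint (j (genericPoint X)) Set.univ from hη) (genericPoint_spec Y)
  haveI : LocallyOfFiniteType g := inferInstanceAs (LocallyOfFiniteType (c ≫ CohB1.ProjSpace.toSpec d k))
  have hdimY : topologicalKrullDim Y ≤ 1 := by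
    rw [Groth.Variety2.Dim.dim_eq_height_genericPoint, ← hgen,
      Groth.Variety2.Dim.height_eq_of_isPreimmersion (X ↘ Spec (CommRingCat.of k)) g j hjc,
      ← Groth.Variety2.Dim.dim_eq_height_genericPoint]
    exact hdim.le
  let U : Y.Opens := j.opensRange
  have hUset : (U : Set Y) = Set.range j.base := j.coe_opensRange
  have hdisc : DiscreteTopology ↥((U : Set Y)ᶜ) := by
    rw [hUset]
    haveI : Finite ↥((Set.range j.base)ᶜ) := hfin.to_subtype
    haveI : T1Space ↥((Set.range j.base)ᶜ) := ⟨fun y => by
      have h := (hclosed y.1 y.2).preimage (continuous_subtype_val : Continuous (Subtype.val : ↥((Set.range j.base)ᶜ) → Y))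
      convert h using 1
      ext z
      exact Subtype.ext_iff⟩
    infer_instance
  haveI : QuasiCompact U.ι := ⟨fun V _ hV => by
    haveI : NoetherianSpace U.toScheme := U.ι.isOpenEmbedding.isInducing.noetherianSpace
    exact NoetherianSpace.isCompact _⟩
  obtain ⟨⟨L, s, hL, hs⟩, -⟩ := Groth.Agent.S7669.result Y U hdisc fun y _ =>
    ⟨inferInstance, Groth.VarietyBC.CurveProj.stalk_dim_le hdimY y⟩
  rw [Groth.PropsBasic.Ample.genLocus_eq_gloc] at hs
  have hU : IsAffineOpen U := by
    rw [← hs]
    refine Groth.VarietyBC.CurveAffine.isAffineOpen_gloc k hdimY hL _ ?_ ?_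
    · rw [hs, ← hgen]
      exact ⟨_, rfl⟩
    · intro htop
      refine hsurj ?_
      rw [← hUset, ← hs, htop]
      rfl
  haveI : IsAffine j.opensRange.toScheme := hU
  exact IsAffine.of_isIso j.isoOpensRange.hom

end Groth.Agent.S1627
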