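import Groth.Statements.S12500
import Groth.Agent.S1627
import Groth.Agent.Abvar.AlgClosedAux
import Groth.Agent.AbvarAlb.MaxAbelian
import Groth.Agent.GrpschAbsch.AbVarEtale
import Groth.Agent.Misc7.AffineGroupPoints
import Groth.Agent.AlgGrp2.DiagBaseChange
import Groth.Agent.Misc1.Unip.DimOne.Classify
import Groth.Agent.NeronArea.GaCoord

open scoped CategoryTheory.Obj TensorProduct

set_option autoImplicit false
set_option linter.style.haveILetI false
universe u
open CategoryTheory AlgebraicGeometry
open Neron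

namespace Groth.Agent.S12500

open Groth.NeronArea.GaCoord Groth.Reductive

theorem fn_pt {k A B : Type u} [Field k] [CommRing A] [Algebra k A] [CommRing B] [Algebra k B] (φ : A →ₐ[k] B) (a : A) :
    (CoactBr.pt φ).left.appTop ((Scheme.ΓSpecIso (CommRingCat.of A)).inv a) =
      (Scheme.ΓSpecIso (CommRingCat.of B)).inv (φ a) := by
  exact (congrArg (fun m => m a) (Scheme.ΓSpecIso_inv_naturality (CommRingCat.ofHom φ.toRingHom))).symm

/-- A bialgebra map gives a homomorphism of groups. -/
theorem isMonHom_bialg {k A C : Type u} [Field k] [CommRing A] [HopfAlgebra k A] [CommRing C] [HopfAlgebra k C]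
    (φ : A →ₐc[k] C) : IsMonHom (CoactBr.pt (φ : A →ₐ[k] C)) := by
  refine Groth.AlgGrp2.isMonHom_of_pt _ fun g h => ?_
  obtain ⟨g, rfl⟩ := Groth.AlgGrp2.pt_surjective g
  obtain ⟨h, rfl⟩ := Groth.AlgGrp2.pt_surjective h
  rw [CoactBr.pt_mul_pt, ← CoactBr.pt_comp, ← CoactBr.pt_comp, ← CoactBr.pt_comp, CoactBr.pt_mul_pt]
  refine congrArg CoactBr.pt (AlgHom.ext fun a => ?_)
  simp only [AlgHom.comp_apply, Bialgebra.comulAlgHom_apply, BialgHom.coe_toAlgHom]
  rw [← CoalgHomClass.map_comp_comul_apply φ a]
  generalize Coalgebra.comul (R := k) a = z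
  induction z using TensorProduct.induction_on with
  | zero => simp
  | tmul x y => simp
  | add x y hx hy => simp only [map_add, hx, hy]

/-- An affine group of finite type is the spectrum of a Hopf algebra of finite type. -/
theorem exists_hopf_iso {k : Type u} [Field k] (G : Over (Spec (CommRingCat.of k))) [GrpObj G] [IsAffine G.left]
    [LocallyOfFiniteType G.hom] :
    ∃ (A : Type u) (_ : CommRing A) (_ : HopfAlgebra k A) (_ : Algebra.FiniteType k A)
      (e : CoactBr.sp k A ≅ G), IsMonHom e.hom := by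
  obtain ⟨A, ⟨f⟩⟩ := Groth.Misc7.AffineGroupPoints.exists_hopf G
  let e : CoactBr.sp k A ≅ G := (Grp.forget _).mapIso f
  refine ⟨A, inferInstance, inferInstance, ?_, e, inferInstanceAs (IsMonHom f.hom.hom.hom)⟩
  have : IsIso e.hom.left := inferInstanceAs (IsIso ((Over.forget _).map e.hom))
  have h : LocallyOfFiniteType (CoactBr.sp k A).hom := by
    rw [← Over.w e.hom]; infer_instance
  exact RingHom.finiteType_algebraMap.1 ((HasRingHomProperty.Spec_iff (P := @LocallyOfFiniteType)).1 h)

/-- A Hopf algebra isomorphic to the symmetric algebra gives the additive group. -/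
theorem iso_Ga {k A : Type u} [Field k] [CommRing A] [HopfAlgebra k A]
    (e : A ≃ₐc[k] SymmetricAlgebra k k) :
    ∃ i : CoactBr.sp k A ≅ Red.Ga (Spec (CommRingCat.of k)), IsMonHom i.hom := by
  let X := CoactBr.sp k A
  let a : A := e.symm (SymmetricAlgebra.ι k k 1)
  have ha : Coalgebra.comul (R := k) a = a ⊗ₜ[k] (1 : A) + (1 : A) ⊗ₜ[k] a := by
    have h := (CoalgHomClass.map_comp_comul_apply e.symm (SymmetricAlgebra.ι k k 1)).symm
    rw [show e.symm (SymmetricAlgebra.ι k k 1) = a from rfl, SymmetricAlgebra.comul_ι] at h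
    simpa [a] using h
  let T : Γ(X.left, ⊤) := (Scheme.ΓSpecIso (CommRingCat.of A)).inv a
  haveI : IsMonHom (gaMk X T) := by
    refine Groth.AlgGrp2.isMonHom_of_pt (R := k) (A := A) (gaMk X T) fun g h => ?_
    obtain ⟨φ, rfl⟩ := Groth.AlgGrp2.pt_surjective g
    obtain ⟨ψ, rfl⟩ := Groth.AlgGrp2.pt_surjective h
    apply gaFn_injective
    rw [gaFn_mul, gaFn_comp, gaFn_comp, gaFn_comp, gaFn_gaMk, fn_pt, fn_pt, CoactBr.pt_mul_pt, fn_pt]
    refine (congrArg _ ?_).trans (map_add (Scheme.ΓSpecIso (CommRingCat.of (A ⊗[k] A))).inv.hom (φ a) (ψ a))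
    simp only [AlgHom.comp_apply, Bialgebra.comulAlgHom_apply, ha, map_add,
      Algebra.TensorProduct.lift_tmul, map_one, _root_.mul_one, _root_.one_mul]
  let Φ : SymmetricAlgebra k k →ₐ[k] Polynomial k :=
    SymmetricAlgebra.lift ((LinearMap.id : k →ₗ[k] k).smulRight (Polynomial.X : Polynomial k))
  let P : Polynomial k →ₐ[k] SymmetricAlgebra k k := Polynomial.aeval (SymmetricAlgebra.ι k k 1)
  have hP : Function.Bijective P := Function.bijective_iff_has_inverse.2 ⟨Φ,
    fun p => DFunLike.congr_fun (show Φ.comp P = AlgHom.id k _ from Polynomial.algHom_ext (by simp [P, Φ])) p,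
    fun s => DFunLike.congr_fun (show P.comp Φ = AlgHom.id k _ from
      SymmetricAlgebra.algHom_ext (LinearMap.ext_ring (by simp [P, Φ]))) s⟩
  have hev : ∀ p, ev X T p = (Scheme.ΓSpecIso (CommRingCat.of A)).inv (e.symm (P p)) := by
    intro p
    have h1 : e.symm (P p) = Polynomial.aeval a p :=
      DFunLike.congr_fun (Polynomial.algHom_ext (f := (e.symm : SymmetricAlgebra k k →ₐ[k] A).comp P)
        (g := Polynomial.aeval a) (by simp [P, a])) p
    rw [h1, Polynomial.aeval_def]
    show Polynomial.eval₂ (cst X) T p = (Scheme.ΓSpecIso (CommRingCat.of A)).inv.hom _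
    rw [Polynomial.hom_eval₂]
    congr 1
    refine RingHom.ext fun r => ?_
    show (Spec.map _).appTop ((Scheme.ΓSpecIso (CommRingCat.of k)).inv r) = _
    rw [← CommRingCat.comp_apply, ← Scheme.ΓSpecIso_inv_naturality, CommRingCat.comp_apply]
    rfl
  haveI : IsAffine X.left := inferInstanceAs (IsAffine (Spec (CommRingCat.of A)))
  haveI := isIso_gaMk X T (by
    rw [funext hev]
    exact (ConcreteCategory.bijective_of_isIso (Scheme.ΓSpecIso (CommRingCat.of A)).inv).comp
      (e.symm.bijective.comp hP))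
  exact ⟨asIso (gaMk X T), ‹IsMonHom (gaMk X T)›⟩

/-- A Hopf algebra isomorphic to the group algebra of the integers gives the multiplicative group. -/
theorem iso_Gm {k A : Type u} [Field k] [CommRing A] [HopfAlgebra k A]
    (e : A ≃ₐc[k] MonoidAlgebra k (Multiplicative ℤ)) :
    ∃ i : CoactBr.sp k A ≅ Red.Gm (Spec (CommRingCat.of k)), IsMonHom i.hom := by
  let i₀ : CoactBr.sp k A ≅ Red.diag k ℤ :=
    { hom := CoactBr.pt (e.symm : MonoidAlgebra k (Multiplicative ℤ) →ₐ[k] A)
      inv := CoactBr.pt (e : A →ₐ[k] MonoidAlgebra k (Multiplicative ℤ))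
      hom_inv_id := by
        rw [← CoactBr.pt_comp, ← CoactBr.pt_id]
        congr 1
        ext x
        simp
      inv_hom_id := by
        rw [← CoactBr.pt_comp, ← CoactBr.pt_id]
        congr 1
        exact AlgHom.ext fun x => e.apply_symm_apply x }
  haveI : IsMonHom i₀.hom := isMonHom_bialg (e.symm : MonoidAlgebra k (Multiplicative ℤ) →ₐc[k] A)
  refine ⟨i₀ ≪≫ Groth.AlgGrp2.diagIsoDS k ℤ, ?_⟩
  rw [Iso.trans_hom]
  infer_instance

/-- Let k be an algebraically closed field and G a k-group scheme whose underlying scheme is integral,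
separated and of finite type over k and has dimension one. Then either G is isomorphic to G_a as a
k-group scheme, or G is isomorphic to G_m as a k-group scheme, or G is proper over k and its group
law is commutative. (The published third alternative says G is an elliptic curve, i.e. a smooth
proper curve of genus one whose group-variety law is the elliptic-curve addition with origin the
identity; this row records properness and the commutativity that the printed proof establishes.) -/
theorem result (k : Type u) [Field k] [IsAlgClosed k]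
    (G : Over (Spec (CommRingCat.of k))) [GrpObj G] [IsIntegral G.left]
    [IsSeparated G.hom] [LocallyOfFiniteType G.hom] [QuasiCompact G.hom]
    (hdim : topologicalKrullDim ↥G.left = 1) :
    Nonempty (Grp.mk G ≅ Grp.mk (Red.Ga (Spec (CommRingCat.of k)))) ∨
      Nonempty (Grp.mk G ≅ Grp.mk (Red.Gm (Spec (CommRingCat.of k)))) ∨
      (IsProper G.hom ∧ IsCommMonObj G) := by
  haveI : GeometricallyReduced G.hom := Groth.Abvar.geometricallyReduced_of_isAlgClosed G
  haveI : GeometricallyIntegral G.hom := Groth.AbvarAlb.geometricallyIntegral_of_connected G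
  letI : G.left.Over (Spec (CommRingCat.of k)) := ⟨G.hom⟩
  haveI : IsSeparated (G.left ↘ Spec (CommRingCat.of k)) := ‹IsSeparated G.hom›
  haveI : LocallyOfFiniteType (G.left ↘ Spec (CommRingCat.of k)) := ‹LocallyOfFiniteType G.hom›
  haveI : QuasiCompact (G.left ↘ Spec (CommRingCat.of k)) := ‹QuasiCompact G.hom›
  rcases Groth.Agent.S1627.result k G.left hdim with hA | ⟨d, c, hc, hcG⟩
  · obtain ⟨A, iA, iH, iF, e, he⟩ := exists_hopf_iso G
    let E : Spec (CommRingCat.of A) ≅ G.left := (Over.forget _).mapIso e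
    haveI : Nonempty (Spec (CommRingCat.of A)) := ⟨E.inv (genericPoint G.left)⟩
    haveI : IsIntegral (Spec (CommRingCat.of A)) := isIntegral_of_isOpenImmersion E.hom
    haveI : IsDomain A := (affine_isIntegral_iff (CommRingCat.of A)).1 inferInstance
    have hdA : ringKrullDim A = 1 := by
      rw [← PrimeSpectrum.topologicalKrullDim_eq_ringKrullDim, ← hdim]
      exact IsHomeomorph.topologicalKrullDim_eq _ E.hom.homeomorph.isHomeomorph
    haveI : IsMonHom e.inv := inferInstance
    rcases Groth.Misc1.Unip.DimOne.classify (k := k) (A := A) hdA with ⟨⟨ψ⟩⟩ | ⟨⟨ψ⟩⟩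
    · obtain ⟨i, hi⟩ := iso_Gm ψ
      haveI : IsMonHom (e.symm ≪≫ i).hom := by rw [Iso.trans_hom, Iso.symm_hom]; infer_instance
      exact Or.inr (Or.inl ⟨Grp.mkIso' (e.symm ≪≫ i)⟩)
    · obtain ⟨i, hi⟩ := iso_Ga ψ
      haveI : IsMonHom (e.symm ≪≫ i).hom := by rw [Iso.trans_hom, Iso.symm_hom]; infer_instance
      exact Or.inl ⟨Grp.mkIso' (e.symm ≪≫ i)⟩
  · haveI := Groth.Variety2.isProper_projSpace_toSpec d k
    haveI : IsProper G.hom := by
      rw [show G.hom = c ≫ CohB1.ProjSpace.toSpec d k from hcG.symm]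
      infer_instance
    exact Or.inr (Or.inr ⟨inferInstance, Groth.GrpschAbsch.isCommMonObj_of_isProper G⟩)

end Groth.Agent.S12500
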