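import Groth.Statements.S17100
import Groth.Agent.AlgGrp1.CentInter

set_option autoImplicit false
universe u
open CategoryTheory MonoidalCategory CartesianMonoidalCategory MonObj GrpObj AlgebraicGeometry
open AGF

namespace Groth.Agent.S17100

/-- General assertion made in its proof: let k be an algebraically closed field, G an affine, smooth,
connected k-group scheme, S a subtorus of G with centralizer c : C ⟶ G, and j : H ⟶ G a closed
subgroup scheme which is smooth and connected and is normalised by S (conjugates of points of H by
points of S are points of H). Then the scheme-theoretic intersection C ∩ H (the fibre product of C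
and H over G) is smooth over k and connected. -/
theorem result (k : Type u) [Field k] [IsAlgClosed k]
    (G : Over (Spec (CommRingCat.of k))) [GrpObj G] [IsAffine G.left] [Smooth G.hom] [ConnectedSpace ↥G.left]
    (S : Over (Spec (CommRingCat.of k))) [GrpObj S] (iS : S ⟶ G) [IsMonHom iS] [Mono iS] (hS : Red.IsTorus S)
    (C : Over (Spec (CommRingCat.of k))) [GrpObj C] (c : C ⟶ G) (hc : Red.IsCentralizerOf iS c)
    (H : Over (Spec (CommRingCat.of k))) [GrpObj H] (j : H ⟶ G) [IsMonHom j] (hj : IsClosedImmersion j.left)
    [Smooth H.hom] [ConnectedSpace ↥H.left]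
    (hnorm : ∀ (X : Over (Spec (CommRingCat.of k))) (s : X ⟶ S) (h : X ⟶ H), ∃ h' : X ⟶ H,
      (s ≫ iS) * (h ≫ j) * (s ≫ iS)⁻¹ = h' ≫ j)
    (I : Over (Spec (CommRingCat.of k))) (p : I ⟶ C) (q : I ⟶ H) (hI : IsPullback p q c j) :
    Smooth I.hom ∧ ConnectedSpace ↥I.left := by
  exact Groth.AlgGrp1.smooth_connected_centralizer_inter iS hS c hc j hnorm p q hI

end Groth.Agent.S17100
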