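import Groth.Statements.S5423
import Groth.Agent.Hopf.Unipotent
import Groth.Agent.Hopf.Burnside
import Groth.Agent.Misc7.HopfPointsExtend
-- import your own Groth.Agent.* helpers here

set_option autoImplicit false
universe u
open TensorProduct
open SGA3t2b
open Groth.ComodLib WithConv

namespace Groth.Agent.S5423

/-- Let k be an algebraically closed field and A a reduced finitely generated commutative Hopf algebra
over k (a smooth affine algebraic k-group G). Then G is unipotent (every non-zero finite-dimensional
representation has a non-zero fixed vector) if and only if every element of G(k) is unipotent, i.e.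
every k-point g : A → k acts on every finite-dimensional comodule V by an endomorphism g_V with g_V
− 1 nilpotent. -/
theorem result (k : Type u) [Field k] [IsAlgClosed k] (A : Type u) [CommRing A] [HopfAlgebra k A] [Algebra.FiniteType k A]
    [IsReduced A] :
    HopfRep.IsUnipotent k A ↔
      ∀ (g : A →ₐ[k] k) (V : Type u) [AddCommGroup V] [Module k V] [HopfRep.Comod k A V],
        Module.Finite k V → IsNilpotent (HopfRep.Comod.act k A V g - LinearMap.id) := by
  constructor
  · intro hU g V _ _ _ hfin
    obtain ⟨m, hm⟩ := exists_fixSeries_eq_top hU V
    exact isNilpotent_op_sub_one (φ := g.toLinearMap) (map_one g) hm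
  · intro h V _ _ _ hfin _
    let T : WithConv (A →ₐ[k] k) →* Module.End k V :=
      { toFun := fun g => rho k A V (toConv g.ofConv.toLinearMap)
        map_one' := by
          rw [← map_one (rho k A V)]
          exact congrArg _ AlgHom.toLinearMap_convOne
        map_mul' := fun g g' => by
          rw [← map_mul]
          exact congrArg _ (AlgHom.toLinearMap_convMul g g') }
    obtain ⟨v, hv0, hv⟩ := exists_fixed_of_unipotent T fun g => h g.ofConv V hfin
    refine (Submodule.ne_bot_iff _).2 ⟨v, ?_, hv0⟩
    change HopfRep.Comod.coact (k := k) (A := A) v = v ⊗ₜ[k] 1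
    rw [← sub_eq_zero]
    refine eq_zero_of_lslice fun ψ => ?_
    by_contra hne
    obtain ⟨q, hq⟩ := Groth.Misc7.HopfPoints.exists_point_ne_zero (k := k)
      (fun hn : IsNilpotent (lslice ψ (HopfRep.Comod.coact (k := k) (A := A) v - v ⊗ₜ[k] 1)) => hne hn.eq_zero)
    refine hq ?_
    have hv' : op q.toLinearMap v = v := hv (toConv q)
    have := apply_cf (A := A) q.toLinearMap ψ v
    rw [hv'] at this
    rw [map_sub, map_sub, lslice_tmul, map_smul, map_one, smul_eq_mul, mul_one]
    exact sub_eq_zero.2 this

end Groth.Agent.S5423
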