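import Groth.Agent.Reductive.MultGa
import Groth.Agent.PropsBasic2.StalkFlat
import Groth.Statements.S8392

set_option autoImplicit false
universe u
open CategoryTheory MonoidalCategory CartesianMonoidalCategory MonObj GrpObj AlgebraicGeometry
open SGA3x

namespace Groth.Agent.S8392

/-- Let H be an S-group scheme of multiplicative type. Then every homomorphism of S-groups H → 𝔾_a is
trivial. (Stated for H of multiplicative type and of finite type, the class of multiplicative groups
available here; the published statement allows any group of multiplicative type.) -/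
theorem result (S : Scheme.{u}) (H : Over S) [GrpObj H] (hH : SGA3x.IsMultTypeFT H)
    (u : H ⟶ Red.Ga S) [IsMonHom u] : u = 1 := by
  obtain ⟨S', f, hflat, hsurj, -, hloc⟩ := hH
  apply Groth.Reductive.gaFn_injective
  rw [Groth.Reductive.gaFn_one]
  refine TopCat.Presheaf.section_ext H.left.sheaf _ _ _ fun h hh ↦ ?_
  refine Eq.trans ?_ (map_zero _).symm
  change H.left.presheaf.germ ⊤ h hh (Red.gaFn u) = 0
  obtain ⟨s', hs'⟩ := hsurj.surj (H.hom.base h)
  obtain ⟨U, hU, M, _, -, ⟨e⟩⟩ := hloc s'
  haveI := hflat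
  obtain ⟨p, hp, -⟩ := Scheme.Pullback.exists_preimage_pullback (f := H.hom) (g := U.ι ≫ f) h
    (⟨s', hU⟩ : U) (by simpa using hs'.symm)
  subst hp
  -- the composite of `u` with the points of the diagonalisable group
  let F : ∀ X : Over (U : Scheme.{u}), (X ⟶ Red.DS (U : Scheme.{u}) M) → Γ(X.left, ⊤) :=
    fun X x ↦ Red.gaFn (S := S) (X := (Over.map (U.ι ≫ f)).obj X) (Groth.Reductive.bcPointEquiv (U.ι ≫ f) H X (x ≫ e.inv.hom.hom) ≫ u)
  have hF := Groth.Reductive.eq_zero_of_additive F
    (fun {X Y} g x ↦ by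
      show Red.gaFn _ = _
      rw [Category.assoc, Groth.Reductive.bcPointEquiv_comp, Category.assoc,
        Groth.Reductive.gaFn_comp]
      rfl)
    (fun X x y ↦ by
      show Red.gaFn _ = _
      rw [MonObj.mul_comp, map_mul]
      exact (congrArg Red.gaFn (@MonObj.mul_comp _ _ _ _ _ _ _ _ _ _ u (by infer_instance))).trans
        (Groth.Reductive.gaFn_mul _ _))
    (Red.bc (U.ι ≫ f) H) e.hom.hom.hom
  have hid : e.hom.hom.hom ≫ e.inv.hom.hom = 𝟙 (Red.bc (U.ι ≫ f) H) :=
    congrArg (fun z ↦ z.hom.hom) e.hom_inv_id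
  simp only [F, hid] at hF
  replace hF : (Limits.pullback.fst H.hom (U.ι ≫ f)).appTop (Red.gaFn u) = 0 := by
    rw [Groth.Reductive.gaFn_comp] at hF
    exact hF
  apply Groth.PropsBasic2.stalkMap_injective_of_flat (Limits.pullback.fst H.hom (U.ι ≫ f)) p
  rw [map_zero, Scheme.Hom.germ_stalkMap_apply]
  erw [hF, map_zero]

end Groth.Agent.S8392
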