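import Groth.Statements.S1582
import Groth.Agent.VarietyBC.Reduced
import Mathlib.AlgebraicGeometry.Geometrically.Integral

set_option backward.isDefEq.respectTransparency false

set_option autoImplicit false
universe u
open CategoryTheory CategoryTheory.Limits AlgebraicGeometry
open Variety

namespace Groth.Agent.S1582

open Groth.VarietyBC


/-- Let k be algebraically closed and X, Y varieties over k (integral, separated, of finite type). Then
the fibre product X ×_k Y is integral (and so again a variety over k). -/
theorem result (k : Type u) [Field k] [IsAlgClosed k] (X Y : Scheme.{u})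
    (f : X ⟶ Spec (CommRingCat.of k)) (g : Y ⟶ Spec (CommRingCat.of k))
    [IsIntegral X] [IsIntegral Y] [IsSeparated f] [IsSeparated g]
    [LocallyOfFiniteType f] [LocallyOfFiniteType g] [QuasiCompact f] [QuasiCompact g] :
    IsIntegral (pullback f g) := by
  letI : X.Over (Spec (CommRingCat.of k)) := ⟨f⟩
  have hirr : GeometricallyIrreducible f := by
    refine geometricallyIrreducible_of_sepClosedAt (k := k) (X := X) fun a ha => ?_
    letI := Curv2.resAlgebra k X (genericPoint X)
    exact ⟨_, (minpoly.degree_eq_one_iff.mp
      (IsAlgClosed.degree_eq_one_of_irreducible k (minpoly.irreducible ha.isIntegral))).choose_spec⟩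
  have hred : GeometricallyReduced f := by
    refine (geometricallyReduced_iff_forall (k := k) (X := X)).mpr fun x => ?_
    letI := Curv2.stalkAlgebra k X x
    exact (isGeomReducedAt_iff x).mpr (isGeometricallyReduced_of_perfectField _)
  have := GeometricallyIntegral.of_geometricallyReduced_of_geometricallyIrreducible f
  have : IsLocallyNoetherian Y := LocallyOfFiniteType.isLocallyNoetherian g
  infer_instance

end Groth.Agent.S1582
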