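import Groth.Statements.S7552
-- import your own Groth.Agent.* helpers here

set_option autoImplicit false
universe u
open PtTop TopologicalSpace

namespace Groth.Agent.S7552

/-- Let f : X → Y be a continuous surjective map of topological spaces with Y sober, and assume that
specializations lift along f or that generalizations lift along f. Then dim X ≥ dim Y (Krull
dimensions as suprema of lengths of chains of irreducible closed subsets). -/
theorem result {X Y : Type u}
    [TopologicalSpace X] [TopologicalSpace Y] [QuasiSober Y] [T0Space Y]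
    (f : X → Y) (hf : Continuous f) (hsurj : Function.Surjective f)
    (hlift : SpecializingMap f ∨ GeneralizingMap f) :
    topologicalKrullDim Y ≤ topologicalKrullDim X := by
  refine iSup_le fun s => ?_
  -- lift a chain of irreducible closed subsets, controlling the generic point of the extremity
  let g : IrreducibleCloseds Y → Y := fun Z => irreducibleSetEquivPoints Z
  have hg : ∀ Z : IrreducibleCloseds Y, closure {g Z} = (Z : Set Y) := fun Z => Z.isIrreducible.isGenericPoint_genericPoint Z.isClosed
  let pt : X → IrreducibleCloseds X := fun x => ⟨closure {x}, isIrreducible_singleton.closure, isClosed_closure⟩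
  have hlt : ∀ (x x' : X) (A B : IrreducibleCloseds Y), x' ⤳ x → f x = g A → f x' = g B → A < B → pt x < pt x' := by
    intro x x' A B hxx hA hB hAB
    refine lt_of_le_of_ne (specializes_iff_closure_subset.1 hxx) fun h => ?_
    have he : g A = g B := hA ▸ hB ▸ ((inseparable_iff_closure_eq.2 (congrArg (fun Z : IrreducibleCloseds X => (Z : Set X)) h)).map hf).eq
    refine hAB.ne (IrreducibleCloseds.ext ?_)
    rw [← hg A, ← hg B, he]
  have hle : ∀ {A B : IrreducibleCloseds Y}, A < B → g B ⤳ g A := fun {A B} h => by
    rw [specializes_iff_closure_subset, hg, hg]; exact h.le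
  rcases hlift with hsp | hge
  · suffices ∀ s : LTSeries (IrreducibleCloseds Y), ∃ t : LTSeries (IrreducibleCloseds X), t.length = s.length ∧
        ∃ x, t.head = pt x ∧ f x = g s.head by
      obtain ⟨t, ht, -⟩ := this s
      rw [← ht]
      exact Order.LTSeries.length_le_krullDim t
    intro s
    induction s using RelSeries.inductionOn with
    | singleton A =>
      obtain ⟨x, hx⟩ := hsurj (g A)
      exact ⟨RelSeries.singleton _ (pt x), rfl, x, rfl, hx⟩
    | cons s A hA ih =>
      obtain ⟨t, ht, x, htx, hx⟩ := ih
      obtain ⟨x', hx', hfx'⟩ := hsp (hx ▸ hle hA : f x ⤳ g A)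
      exact ⟨t.cons (pt x') (htx ▸ hlt x' x _ _ hx' hfx' hx hA), by simp [ht], x', by simp, by simpa using hfx'⟩
  · suffices ∀ s : LTSeries (IrreducibleCloseds Y), ∃ t : LTSeries (IrreducibleCloseds X), t.length = s.length ∧
        ∃ x, t.last = pt x ∧ f x = g s.last by
      obtain ⟨t, ht, -⟩ := this s
      rw [← ht]
      exact Order.LTSeries.length_le_krullDim t
    intro s
    induction s using RelSeries.inductionOn' with
    | singleton A =>
      obtain ⟨x, hx⟩ := hsurj (g A)
      exact ⟨RelSeries.singleton _ (pt x), rfl, x, rfl, hx⟩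
    | snoc s A hA ih =>
      obtain ⟨t, ht, x, htx, hx⟩ := ih
      obtain ⟨x', hx', hfx'⟩ := hge (hx ▸ hle hA : g A ⤳ f x)
      exact ⟨t.snoc (pt x') (htx ▸ hlt x x' _ _ hx' hx hfx' hA), by simp [ht], x', by simp, by simpa using hfx'⟩

end Groth.Agent.S7552
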