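import Groth.Statements.S9683
import Mathlib
import Groth.Agent.S7552

set_option autoImplicit false
universe u
open CategoryTheory CategoryTheory.Limits AlgebraicGeometry
open Mor

namespace Groth.Agent.S9683

theorem eq_of_specializes {X Y : Scheme.{u}} (f : X ⟶ Y) [IsIntegralHom f] {x y : X} (h : x ⤳ y)
    (he : f x = f y) : x = y := by
  obtain ⟨V, hV, hyV, -⟩ := TopologicalSpace.Opens.isBasis_iff_nbhd.mp Y.isBasis_affineOpens
    (TopologicalSpace.Opens.mem_top (f y))
  have hW : IsAffineOpen (f ⁻¹ᵁ V) := hV.preimage f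
  obtain ⟨q, rfl⟩ : y ∈ Set.range hW.fromSpec := hW.range_fromSpec ▸ hyV
  obtain ⟨p, rfl⟩ : x ∈ Set.range hW.fromSpec := hW.range_fromSpec ▸ show f x ∈ V from he ▸ hyV
  haveI := IsAffineOpen.isOpenImmersion_fromSpec hW
  have hpq : p ⤳ q := hW.fromSpec.isOpenEmbedding.isInducing.specializes_iff.mp h
  have hc := IsAffineOpen.SpecMap_appLE_fromSpec f hV hW le_rfl
  haveI := IsAffineOpen.isOpenImmersion_fromSpec hV
  have hcomap : Spec.map (f.appLE V (f ⁻¹ᵁ V) le_rfl) p = Spec.map (f.appLE V (f ⁻¹ᵁ V) le_rfl) q := by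
    apply hV.fromSpec.isOpenEmbedding.injective
    rw [← Scheme.Hom.comp_apply, ← Scheme.Hom.comp_apply, hc]
    exact he
  have hint : (f.appLE V (f ⁻¹ᵁ V) le_rfl).hom.IsIntegral := by
    rw [← Scheme.Hom.app_eq_appLE]
    exact IsIntegralHom.isIntegral_app f V hV
  algebraize [(f.appLE V (f ⁻¹ᵁ V) le_rfl).hom]
  rcases eq_or_lt_of_le ((PrimeSpectrum.le_iff_specializes p q).mpr hpq) with e | e
  · rw [e]
  · haveI := p.isPrime
    exact absurd (congrArg PrimeSpectrum.asIdeal hcomap)
      (Ideal.IsIntegral.comap_lt_comap (R := Γ(Y, V)) e).ne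

/-- For any integral morphism of schemes f : X ⟶ Y, the dimension of X is at most that of Y, and if f is
surjective then dim X = dim Y (dimensions of the underlying topological spaces). -/
theorem result {X Y : Scheme.{u}} (f : X ⟶ Y) [IsIntegralHom f] :
    topologicalKrullDim ↥X ≤ topologicalKrullDim ↥Y ∧
      (Surjective f → topologicalKrullDim ↥X = topologicalKrullDim ↥Y) := by
  have h1 : topologicalKrullDim X ≤ topologicalKrullDim Y := by
    let c : TopologicalSpace.IrreducibleCloseds X → TopologicalSpace.IrreducibleCloseds Y :=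
      fun Z => ⟨f '' (Z : Set X), Z.isIrreducible.image f f.continuous.continuousOn,
        f.isClosedMap _ Z.isClosed⟩
    refine Order.krullDim_le_of_strictMono c fun Z Z' hlt => ?_
    refine lt_of_le_of_ne (Set.image_mono hlt.le) fun e => hlt.ne ?_
    obtain ⟨η, hη⟩ := QuasiSober.sober Z.isIrreducible Z.isClosed
    obtain ⟨η', hη'⟩ := QuasiSober.sober Z'.isIrreducible Z'.isClosed
    have hm : f η' ∈ f '' (Z : Set X) := by
      rw [show f '' (Z : Set X) = f '' (Z' : Set X) from congrArg SetLike.coe e]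
      exact ⟨η', hη'.mem, rfl⟩
    obtain ⟨z, hz, hze⟩ := hm
    have : η' = z := eq_of_specializes f (hη'.specializes (hlt.le hz)) hze.symm
    refine le_antisymm hlt.le fun w hw => ?_
    exact Z.isClosed.closure_subset_iff.mpr (Set.singleton_subset_iff.mpr (this ▸ hz))
      (hη'.specializes hw).mem_closure
  exact ⟨h1, fun _ => le_antisymm h1 (Groth.Agent.S7552.result f f.continuous f.surjective
    (Or.inl f.isClosedMap.specializingMap))⟩

end Groth.Agent.S9683
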