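import Groth.Statements.S5784
import Groth.Agent.EGA41Two.RegularLift
import Mathlib.RingTheory.MvPowerSeries.Equiv
import Mathlib.RingTheory.PowerSeries.Ideal
import Mathlib.RingTheory.PowerSeries.Inverse
import Mathlib.RingTheory.PowerSeries.Basic

set_option autoImplicit false
universe u
open EGA41

namespace Groth.Agent.S5784

theorem powerSeries (R : Type u) [CommRing R] [IsRegularRing R] : IsRegularRing (PowerSeries R) := by
  refine Groth.EGA41Two.isRegularRing_of_surjective (PowerSeries.constantCoeff (R := R))
    (fun r => ⟨PowerSeries.C r, PowerSeries.constantCoeff_C r⟩) (x := PowerSeries.X) ?_ ?_ ?_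
  · ext φ
    rw [RingHom.mem_ker, Ideal.mem_span_singleton, PowerSeries.X_dvd_iff]
  · rw [mem_nonZeroDivisors_iff_right]
    intro y hy
    ext n
    simpa [PowerSeries.coeff_succ_mul_X] using congrArg (PowerSeries.coeff (n + 1)) hy
  · rw [Ideal.mem_jacobson_bot]
    intro y
    rw [PowerSeries.isUnit_iff_constantCoeff]
    simp


/-- If A is a regular ring, then the formal power series ring A[[T_1, ..., T_n]] is regular, for every
n. -/
theorem result (A : Type u) [CommRing A] [IsRegularRing A] (n : ℕ) :
    IsRegularRing (MvPowerSeries (Fin n) A) := by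
  induction n with
  | zero =>
    exact IsRegularRing.of_ringEquiv (MvPowerSeries.isEmptyEquiv (Fin 0) A).toRingEquiv.symm
  | succ n ih =>
    have := powerSeries (MvPowerSeries (Fin n) A)
    exact IsRegularRing.of_ringEquiv (MvPowerSeries.finSuccEquiv A n).toRingEquiv.symm

end Groth.Agent.S5784
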