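import Groth.Statements.S2030
import Groth.Agent.NeronArea.JacobianCriterion


set_option autoImplicit false
universe u
open Smoothing

open Groth.NeronArea

namespace Groth.Agent.S2030

/-- If `a` is strictly standard in the finitely presented `R`-algebra `A`, then the localization `A_a`
is smooth over `R` and its module of Kaehler differentials over `R` is stably free (free after
adding a finite free module). -/
theorem result {R A : Type u} [CommRing R] [CommRing A]
    [Algebra R A] (a : A) (ha : Smoothing.IsStrictlyStandard R A a) :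
    Algebra.Smooth R (Localization.Away a) ∧
      ∃ p q : ℕ, Nonempty ((Ω[Localization.Away a⁄R] × (Fin p → Localization.Away a)) ≃ₗ[Localization.Away a]
        (Fin q → Localization.Away a)) := by
  classical
  obtain ⟨P, hspan, hkill⟩ := ha
  let d := fun cols : Fin P.c → Fin P.n => Smoothing.jacobianMinor P.rel (Fin.castLE P.hcm) cols
  obtain ⟨e, he⟩ := (Submodule.mem_span_range_iff_exists_fun A).1 hspan
  choose e' he' using fun cols => P.surj (e cols)
  let a' := ∑ cols, e' cols * d cols
  have ha' : P.hom a' = a := by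
    rw [map_sum, ← he]
    refine Finset.sum_congr rfl fun cols _ => ?_
    rw [map_mul, he', smul_eq_mul]
  let I := Ideal.span (Set.range P.rel)
  let Jv : Fin P.c → MvPolynomial (Fin P.n) R := fun j => P.rel (Fin.castLE P.hcm j)
  have hI : ∀ x, P.hom x = 0 ↔ x ∈ I := fun x => by
    show _ ↔ x ∈ Ideal.span _
    rw [← P.ker_eq]; exact RingHom.mem_ker.symm
  have hJ : ∀ j : Fin P.m, (j : ℕ) < P.c → P.rel j ∈ Ideal.span (Set.range Jv) := fun j hj =>
    Ideal.subset_span ⟨⟨j, hj⟩, by simp [Jv]⟩
  have hall : ∀ i ∈ I, a' * i ∈ Ideal.span (Set.range Jv) ⊔ I ^ 2 := by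
    intro i hi
    induction hi using Submodule.span_induction with
    | mem x hx =>
      obtain ⟨j, rfl⟩ := hx
      by_cases hj : (j : ℕ) < P.c
      · exact Ideal.mem_sup_left (Ideal.mul_mem_left _ _ (hJ j hj))
      · have hle : Ideal.span (P.rel '' {j' : Fin P.m | (j' : ℕ) < P.c}) ≤ Ideal.span (Set.range Jv) := by
          rw [Ideal.span_le]
          rintro _ ⟨j', hj', rfl⟩
          exact hJ j' hj'
        exact (sup_le_sup hle le_rfl : _ ≤ Ideal.span (Set.range Jv) ⊔ I ^ 2) (hkill _ ha' j (not_lt.1 hj))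
    | zero => simp
    | add x y _ _ hx hy => rw [mul_add]; exact add_mem hx hy
    | smul r x _ hx => rw [smul_eq_mul, mul_left_comm]; exact Ideal.mul_mem_left _ r hx
  obtain ⟨g, k, hgk, hg⟩ := Jacobian.det_trick I _ ⟨Finset.univ.image P.rel, by simp [I]⟩ a' hall
  have hga : P.hom g = a ^ k := by
    rw [← sub_eq_zero, ← ha', ← map_pow, ← map_sub]
    exact (hI _).2 hgk
  let G := a' * g
  have hker : ∀ i, P.hom i = 0 → G * i ∈ Ideal.span (Set.range Jv) := fun i hi => by
    rw [mul_assoc]; exact Ideal.mul_mem_left _ _ (hg i ((hI i).1 hi))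
  have hJ0 : ∀ j, P.hom (Jv j) = 0 := fun j => (hI _).2 (Ideal.subset_span ⟨_, rfl⟩)
  have hGa : P.hom G = a ^ (k + 1) := by rw [map_mul, ha', hga, pow_succ']
  obtain ⟨Φ⟩ := Jacobian.nonempty_presentation_away (L := Localization.Away a) P.hom P.surj Jv hJ0 G a
    hker (k + 1) hGa a' ha' (dvd_mul_right _ _)
  let r : MvPolynomial (Fin P.n) R →ₐ[R] MvPolynomial (Fin P.n ⊕ Unit) R := MvPolynomial.rename Sum.inl
  let v : Fin P.c ⊕ Unit → MvPolynomial (Fin P.n ⊕ Unit) R :=
    Sum.elim (fun j => r (Jv j)) (fun _ => r G * MvPolynomial.X (Sum.inr ()) - 1)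
  let Pr : Algebra.Presentation R (Localization.Away a) (Fin P.n ⊕ Unit) (Fin P.c ⊕ Unit) :=
    (Algebra.Presentation.naive (v := v)).ofAlgEquiv Φ
  let ev := MvPolynomial.aeval (R := R) Pr.val
  let M : Matrix (Fin P.n) (Fin P.c) (Localization.Away a) :=
    Matrix.of fun i j => ev (r (MvPolynomial.pderiv i (Jv j)))
  have hGu : IsUnit (ev (r G)) := by
    refine IsUnit.of_mul_eq_one (ev (MvPolynomial.X (Sum.inr ()))) ?_
    rw [← map_mul, ← sub_eq_zero, ← map_one ev, ← map_sub]
    exact Pr.aeval_val_relation (Sum.inr ())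
  have ha'u : IsUnit (ev (r a')) := by
    rw [map_mul r, map_mul ev] at hGu
    exact isUnit_of_mul_isUnit_left hGu
  obtain ⟨u, hu⟩ := hGu
  obtain ⟨w, hw⟩ := ha'u
  let Sel : (Fin P.c → Fin P.n) → Matrix (Fin P.c) (Fin P.n) (Localization.Away a) := fun cols =>
    (1 : Matrix (Fin P.n) (Fin P.n) (Localization.Away a)).submatrix cols id
  let L0 : Matrix (Fin P.c) (Fin P.n) (Localization.Away a) :=
    ((w⁻¹ : (Localization.Away a)ˣ) : Localization.Away a) •
      ∑ cols, ev (r (e' cols)) • ((M.submatrix cols id).adjugate * Sel cols)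
  have hL0 : L0 * M = 1 := by
    have h1 : ∀ cols, (M.submatrix cols id).adjugate * Sel cols * M =
        ev (r (d cols)) • (1 : Matrix (Fin P.c) (Fin P.c) _) := by
      intro cols
      rw [Matrix.mul_assoc]
      have : Sel cols * M = M.submatrix cols id := by
        ext i j; simp [Sel, Matrix.mul_apply, Matrix.one_apply]
      rw [this, Matrix.adjugate_mul]
      congr 1
      have e1 : d cols = (Matrix.of fun i j => MvPolynomial.pderiv (cols i) (Jv j)).det := by
        rw [← Matrix.det_transpose]; rfl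
      rw [e1, AlgHom.map_det, AlgHom.map_det]
      rfl
    rw [Matrix.smul_mul, Matrix.sum_mul]
    simp only [Matrix.smul_mul, h1, smul_smul]
    rw [← Finset.sum_smul, smul_smul]
    have : ∑ cols, ev (r (e' cols)) * ev (r (d cols)) = w := by
      rw [hw]; simp [a', map_sum]
    rw [this, Units.inv_mul, one_smul]
  let B : Matrix (Fin P.n) Unit (Localization.Away a) :=
    Matrix.of fun i _ => ev (MvPolynomial.pderiv (Sum.inl i) (v (Sum.inr ())))
  let U : Matrix Unit Unit (Localization.Away a) := Matrix.of fun _ _ => ((u⁻¹ : (Localization.Away a)ˣ) : Localization.Away a)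
  let Lt : Matrix (Fin P.c ⊕ Unit) (Fin P.n ⊕ Unit) (Localization.Away a) :=
    Matrix.fromBlocks L0 (-(L0 * B * U)) 0 U
  have hpd0 : ∀ q, MvPolynomial.pderiv (Sum.inr () : Fin P.n ⊕ Unit) (r q) = 0 := fun q => by
    refine MvPolynomial.pderiv_eq_zero_of_notMem_vars fun hh => ?_
    have := MvPolynomial.vars_rename (Sum.inl : Fin P.n → Fin P.n ⊕ Unit) q hh
    simp at this
  have hJM : (Matrix.of fun i j => MvPolynomial.aeval Pr.val (MvPolynomial.pderiv i (Pr.relation j))) =
      Matrix.fromBlocks M B 0 (Matrix.of fun _ _ => ev (r G)) := by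
    ext i j
    rcases i with i | i <;> rcases j with j | j
    · show ev (MvPolynomial.pderiv (Sum.inl i) (r (Jv j))) = ev (r _)
      rw [MvPolynomial.pderiv_rename Sum.inl_injective]
    · rfl
    · show ev (MvPolynomial.pderiv (Sum.inr i) (r (Jv j))) = 0
      rw [hpd0, map_zero]
    · show ev (MvPolynomial.pderiv (Sum.inr i) (r G * MvPolynomial.X (Sum.inr ()) - 1)) = ev (r G)
      simp [hpd0]
  have hLt : Lt * (Matrix.of fun i j => MvPolynomial.aeval Pr.val (MvPolynomial.pderiv i (Pr.relation j))) = 1 := by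
    have hU : U * (Matrix.of fun (_ _ : Unit) => ev (r G)) = 1 := by
      ext i j; simp [U, Matrix.mul_apply, ← hu]
    rw [hJM, Matrix.fromBlocks_multiply, hL0, Matrix.mul_zero, add_zero, Matrix.zero_mul, zero_add,
      Matrix.neg_mul, Matrix.mul_assoc (L0 * B), hU, Matrix.mul_one, add_neg_cancel, Matrix.zero_mul,
      Matrix.mul_zero, zero_add, Matrix.fromBlocks_one]
  obtain ⟨hfs, ⟨eq⟩⟩ := Jacobian.formallySmooth_and_stablyFree Pr Lt hLt
  have : Algebra.FinitePresentation R (Localization.Away a) := Pr.finitePresentation_of_isFinite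
  refine ⟨⟨hfs, inferInstance⟩, P.c + 1, P.n + 1, ⟨?_⟩⟩
  exact (LinearEquiv.prodCongr (.refl _ _)
      (LinearEquiv.funCongrLeft _ _ ((Equiv.sumCongr (.refl _) (Fintype.equivFinOfCardEq (by simp) : Unit ≃ Fin 1)).trans finSumFinEquiv))) ≪≫ₗ eq ≪≫ₗ
    LinearEquiv.funCongrLeft _ _ ((Equiv.sumCongr (.refl _) (Fintype.equivFinOfCardEq (by simp) : Unit ≃ Fin 1)).trans finSumFinEquiv).symm

end Groth.Agent.S2030
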