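import Groth.Statements.S16120
import Groth.Agent.VerticalTriv.Product

set_option autoImplicit false
universe u
open CategoryTheory MonoidalCategory CartesianMonoidalCategory MonObj GrpObj AlgebraicGeometry CategoryTheory.Limits
open PicGrp

namespace Groth.Agent.S16120

/-- Over an algebraically closed field k, let X and Y be normal irreducible varieties (integral normal
separated k-schemes of finite type) and assume X rational: some nonempty open subscheme of X is
isomorphic over k to an open subscheme of an affine space 𝔸ⁿ_k. Assume the Picard group laws on X, Y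
and X × Y, with pullback along the two projections multiplicative. Then the map Pic(X) × Pic(Y) →
Pic(X × Y), (c, d) ↦ p₁^*(c) · p₂^*(d), is bijective. (The published companion assertion on divisor
class groups is not stated here.) -/
theorem result (k : Type u) [Field k] [IsAlgClosed k]
    (X Y : Over (Spec (CommRingCat.of k))) [IsIntegral X.left] [IsSeparated X.hom] [LocallyOfFiniteType X.hom] [QuasiCompact X.hom]
    [IsIntegral Y.left] [IsSeparated Y.hom] [LocallyOfFiniteType Y.hom] [QuasiCompact Y.hom]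
    (hX : Pi1.IsNormalScheme X.left) (hY : Pi1.IsNormalScheme Y.left)
    (hrat : ∃ (U : X.left.Opens) (n : ℕ) (V : (𝔸(ULift.{u} (Fin n); Spec (CommRingCat.of k))).Opens)
      (e : (U : Scheme.{u}) ≅ (V : Scheme.{u})), (U : Set ↥X.left).Nonempty ∧
        e.hom ≫ V.ι ≫ (𝔸(ULift.{u} (Fin n); Spec (CommRingCat.of k)) ↘ Spec (CommRingCat.of k)) = U.ι ≫ X.hom)
    [PicGrp.Law X.left] [PicGrp.Law Y.left] [PicGrp.Law (X ⊗ Y).left]
    (h₁ : PicGrp.PullMul (fst X Y).left) (h₂ : PicGrp.PullMul (snd X Y).left) :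
    Function.Bijective (fun cd : PicLoc.PicSet X.left × PicLoc.PicSet Y.left =>
      PicGrp.pullHom (fst X Y).left h₁ cd.1 * PicGrp.pullHom (snd X Y).left h₂ cd.2) := by
  classical
  obtain ⟨U, n, V, e, hU, he⟩ := hrat
  let f := X.hom
  let g := Y.hom
  obtain ⟨x, hx⟩ := Groth.VerticalTriv.exists_point X.hom U hU
  obtain ⟨y, hy⟩ := Groth.VerticalTriv.exists_point Y.hom ⊤ ⟨genericPoint Y.left, trivial⟩
  let L0 : PicGrp.Law (Spec (CommRingCat.of k)) := Groth.PicAux.picLaw _
  let x₀ : Spec (CommRingCat.of k) ⟶ X.left := x ≫ U.ι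
  let y₀ : Spec (CommRingCat.of k) ⟶ Y.left := y ≫ (⊤ : Y.left.Opens).ι
  have hx₀ : x₀ ≫ X.hom = 𝟙 _ := by simp only [x₀, Category.assoc]; exact hx
  have hy₀ : y₀ ≫ Y.hom = 𝟙 _ := by simp only [y₀, Category.assoc]; exact hy
  let σ : X.left ⟶ (X ⊗ Y).left := pullback.lift (𝟙 _) (X.hom ≫ y₀) (by
    rw [Category.assoc, hy₀, Category.comp_id, Category.id_comp])
  let τ : Y.left ⟶ (X ⊗ Y).left := pullback.lift (Y.hom ≫ x₀) (𝟙 _) (by
    rw [Category.assoc, hx₀, Category.comp_id, Category.id_comp])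
  have hσ₁ : σ ≫ (fst X Y).left = 𝟙 _ := pullback.lift_fst _ _ _
  have hσ₂ : σ ≫ (snd X Y).left = X.hom ≫ y₀ := pullback.lift_snd _ _ _
  have hτ₁ : τ ≫ (fst X Y).left = Y.hom ≫ x₀ := pullback.lift_fst _ _ _
  have hτ₂ : τ ≫ (snd X Y).left = 𝟙 _ := pullback.lift_snd _ _ _
  have hm : ∀ {A B : Scheme.{u}} (m : A ⟶ B), PicGrp.PullMul m := fun m => Groth.Abvar.PicCalc.pullMulCl m
  have hpt : ∀ c : PicLoc.PicSet (Spec (CommRingCat.of k)), c = 1 := by
    intro c
    obtain ⟨L, hL, rfl⟩ := exists_eq_cls c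
    have : Subsingleton (Spec (CommRingCat.of k)) := inferInstanceAs (Subsingleton (PrimeSpectrum k))
    exact (cls_eq_one_iff hL).2 (Groth.VerticalTriv.nonempty_iso_of_subsingleton hL)
  -- restriction of the two factors to the axes
  have hσp : ∀ c, pullHom σ (hm _) (pullHom (fst X Y).left h₁ c) = c := fun c => by
    rw [← pullHom_comp_apply σ (fst X Y).left _ _ (hm _) c]
    exact Subtype.ext (by rw [pullHom_apply_val, hσ₁, PicLoc.pullCl_id])
  have hσq : ∀ d, pullHom σ (hm _) (pullHom (snd X Y).left h₂ d) = 1 := fun d => by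
    have e : pullHom (X.hom ≫ y₀) (hm _) d = 1 := by
      rw [pullHom_comp_apply X.hom y₀ (hm _) (hm _) (hm _) d, hpt (pullHom y₀ (hm _) d), map_one]
    rw [← e, ← pullHom_comp_apply σ (snd X Y).left _ _ (hm _) d]
    exact Subtype.ext (by rw [pullHom_apply_val, pullHom_apply_val, hσ₂])
  have hτq : ∀ d, pullHom τ (hm _) (pullHom (snd X Y).left h₂ d) = d := fun d => by
    rw [← pullHom_comp_apply τ (snd X Y).left _ _ (hm _) d]
    exact Subtype.ext (by rw [pullHom_apply_val, hτ₂, PicLoc.pullCl_id])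
  have hτp : ∀ c, pullHom τ (hm _) (pullHom (fst X Y).left h₁ c) = 1 := fun c => by
    have e : pullHom (Y.hom ≫ x₀) (hm _) c = 1 := by
      rw [pullHom_comp_apply Y.hom x₀ (hm _) (hm _) (hm _) c, hpt (pullHom x₀ (hm _) c), map_one]
    rw [← e, ← pullHom_comp_apply τ (fst X Y).left _ _ (hm _) c]
    exact Subtype.ext (by rw [pullHom_apply_val, pullHom_apply_val, hτ₁])
  refine ⟨fun a b hab => ?_, fun z => ?_⟩
  · have ha := congrArg (pullHom σ (hm _)) hab
    have hb := congrArg (pullHom τ (hm _)) hab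
    simp only [map_mul, hσp, hσq, _root_.mul_one] at ha
    simp only [map_mul, hτp, hτq, _root_.one_mul] at hb
    exact Prod.ext ha hb
  · refine ⟨(pullHom σ (hm _) z, pullHom τ (hm _) z), ?_⟩
    set w := pullHom (fst X Y).left h₁ (pullHom σ (hm _) z) * pullHom (snd X Y).left h₂ (pullHom τ (hm _) z)
    obtain ⟨L, hL, hLz⟩ := exists_eq_cls (z * w⁻¹)
    have hs : pullHom σ (hm _) (z * w⁻¹) = 1 := by
      simp only [w, map_mul, map_inv, hσp, hσq, _root_.mul_one, mul_inv_cancel]
    have ht : pullHom τ (hm _) (z * w⁻¹) = 1 := by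
      simp only [w, map_mul, map_inv, hτp, hτq, _root_.one_mul, mul_inv_cancel]
    rw [hLz, pullHom_cls, cls_eq_one_iff] at hs ht
    have htriv := Groth.VerticalTriv.trivial_of_axes X.hom Y.hom hX hY U V e he hU x hx σ hσ₁ τ hτ₁ hτ₂ L hL hs ht
    have h : cls L hL = 1 := (cls_eq_one_iff hL).2 htriv
    rw [← hLz, mul_inv_eq_one] at h
    exact h.symm

end Groth.Agent.S16120
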