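import Groth.Statements.S16121
import Groth.Agent.AlgGrpRat.Linear

set_option autoImplicit false
universe u
open CategoryTheory MonoidalCategory CartesianMonoidalCategory MonObj GrpObj AlgebraicGeometry CategoryTheory.Limits
open AlgGrp

namespace Groth.Agent.S16121

/-- Over an algebraically closed field k, a connected linear algebraic group G (an affine, smooth,
connected k-group scheme) is a rational variety: there are a nonempty open subscheme U of G, an n,
an open subscheme V of the affine space 𝔸ⁿ_k and an isomorphism U ≅ V compatible with the structure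
morphisms to Spec k. -/
theorem result (k : Type u) [Field k] [IsAlgClosed k]
    (G : Over (Spec (CommRingCat.of k))) [GrpObj G] [IsAffine G.left] [Smooth G.hom] [ConnectedSpace ↥G.left] :
    ∃ (U : G.left.Opens) (n : ℕ) (V : (𝔸(ULift.{u} (Fin n); Spec (CommRingCat.of k))).Opens)
      (e : (U : Scheme.{u}) ≅ (V : Scheme.{u})), (U : Set ↥G.left).Nonempty ∧
        e.hom ≫ V.ι ≫ (𝔸(ULift.{u} (Fin n); Spec (CommRingCat.of k)) ↘ Spec (CommRingCat.of k)) = U.ι ≫ G.hom := by
  obtain ⟨n, W, a, b, ha, hb, hW⟩ := Groth.AlgGrpRat.isRat_linear G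
  have := ha; have := hb
  refine ⟨a.left.opensRange, n, b.left.opensRange, a.left.isoOpensRange.symm ≪≫ b.left.isoOpensRange,
    hW.elim fun w => ⟨a.left w, w, rfl⟩, ?_⟩
  rw [← cancel_epi a.left.isoOpensRange.hom]
  simp only [Iso.trans_hom, Iso.symm_hom, Category.assoc, Iso.hom_inv_id_assoc,
    Scheme.Hom.isoOpensRange_hom_ι_assoc]
  exact ((Category.assoc _ _ _).symm.trans (congrArg (· ≫ _) (Scheme.Hom.isoOpensRange_hom_ι b.left))).trans
    ((Over.w b).trans (Over.w a).symm)

end Groth.Agent.S16121
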