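import Groth.Statements.S5337
import Groth.Agent.GrpschLoci.LfpDescend
import Mathlib.AlgebraicGeometry.Noetherian

set_option autoImplicit false
universe u
open CategoryTheory CategoryTheory.Limits MonoidalCategory CartesianMonoidalCategory MonObj GrpObj AlgebraicGeometry
open SGA3

namespace Groth.Agent.S5337

/-- Quasi-finite, unramified, smooth and etale cases: let A be a local artinian ring, G an A-group
scheme which is flat and locally of finite type over A, and u : G → H a homomorphism of A-group
schemes. If u is locally quasi-finite (resp. unramified, that is formally unramified and locally of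
finite presentation, resp. smooth, resp. etale) on some nonempty open subscheme of G, then u is
locally quasi-finite (resp. unramified, resp. smooth, resp. etale). (Here u is automatically locally
of finite type.) -/
theorem result (A : Type u) [CommRing A] [IsArtinianRing A] [IsLocalRing A] (G H : Over (Spec (CommRingCat.of A))) [GrpObj G] [GrpObj H]
    [Flat G.hom] [LocallyOfFiniteType G.hom] (u : G ⟶ H) [IsMonHom u] (W : G.left.Opens) (hW : (W : Set G.left).Nonempty) :
    (LocallyQuasiFinite (W.ι ≫ u.left) → LocallyQuasiFinite u.left) ∧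
    (FormallyUnramified (W.ι ≫ u.left) → LocallyOfFinitePresentation (W.ι ≫ u.left) →
      FormallyUnramified u.left ∧ LocallyOfFinitePresentation u.left) ∧
    (Smooth (W.ι ≫ u.left) → Smooth u.left) ∧ (Etale (W.ι ≫ u.left) → Etale u.left) := by
  haveI : IsNoetherianRing ↑(CommRingCat.of A) := inferInstanceAs (IsNoetherianRing A)
  haveI : LocallyOfFinitePresentation G.hom := by
    rw [HasRingHomProperty.iff_appLE (P := @LocallyOfFinitePresentation)]
    intro U V e
    have := IsLocallyNoetherian.component_noetherian U
    exact RingHom.FinitePresentation.of_finiteType.1 (G.hom.finiteType_appLE U.2 V.2 e)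
  haveI : LocallyOfFiniteType u.left :=
    haveI : LocallyOfFiniteType (u.left ≫ H.hom) := by rw [Over.w]; infer_instance
    locallyOfFiniteType_of_comp u.left H.hom
  haveI : Subsingleton ↥(Spec (CommRingCat.of A)) := inferInstanceAs (Subsingleton (PrimeSpectrum A))
  haveI : Flat (fst H G).left :=
    MorphismProperty.of_isPullback (P := @Flat) (Groth.AlgGrp2.isPullback_fst_snd H G).flip ‹Flat G.hom›
  haveI : LocallyOfFinitePresentation (fst H G).left :=
    MorphismProperty.of_isPullback (P := @LocallyOfFinitePresentation)
      (Groth.AlgGrp2.isPullback_fst_snd H G).flip ‹LocallyOfFinitePresentation G.hom›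
  obtain ⟨g, hg⟩ := hW
  have spread : ∀ (P : MorphismProperty Scheme.{u}) [P.IsStableUnderBaseChange],
      (∀ z : (G ⊗ G).left, Groth.GrpschLoci.Near P (u ▷ G).left z →
        Groth.GrpschLoci.Near P u.left ((fst G G).left z)) →
      P (W.ι ≫ u.left) → ∀ x, Groth.GrpschLoci.Near P u.left x := fun P _ hd hP x =>
    Groth.GrpschLoci.invariant u (fun _ _ f x ↦ Groth.GrpschLoci.Near P f x)
      (fun _ _ _ _ _ _ _ _ H x' h ↦ h.bc H) hd (Subsingleton.elim (G.hom g) (G.hom x)) ⟨W, hg, hP⟩
  have lfp : LocallyOfFinitePresentation (W.ι ≫ u.left) → LocallyOfFinitePresentation u.left :=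
    fun h => Groth.GrpschLoci.all_iff.mpr (spread @LocallyOfFinitePresentation
      (fun z hz => hz.lfp_descend (Groth.AlgGrp2.isPullback_whiskerRight_fst G u).flip) h)
  refine ⟨fun h => ?_, fun h h' => ⟨?_, lfp h'⟩, fun h => ?_, fun h => ?_⟩
  · exact Groth.GrpschLoci.all_iff.mpr (spread @LocallyQuasiFinite
      (fun z hz => Groth.GrpschLoci.Near.lqf_descend
        (Groth.AlgGrp2.isPullback_whiskerRight_fst G u).flip hz) h)
  · exact Groth.GrpschLoci.all_iff.mpr (spread @FormallyUnramified
      (fun z hz => Groth.GrpschLoci.Near.unramified_descend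
        (Groth.AlgGrp2.isPullback_whiskerRight_fst G u).flip hz) h)
  · haveI := lfp inferInstance
    exact Groth.GrpschLoci.all_iff.mpr (spread @Smooth
      (fun z hz => Groth.GrpschLoci.Near.smooth_descend
        (Groth.AlgGrp2.isPullback_whiskerRight_fst G u).flip hz) h)
  · haveI := lfp inferInstance
    exact Groth.GrpschLoci.all_iff.mpr (spread @Etale
      (fun z hz => Groth.GrpschLoci.Near.etale_descend
        (Groth.AlgGrp2.isPullback_whiskerRight_fst G u).flip hz) h)

end Groth.Agent.S5337
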