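import Groth.Statements.S7389
import Groth.Agent.PropsBasic.FiniteInAffine

set_option autoImplicit false
universe u
open CategoryTheory AlgebraicGeometry
open Mor

namespace Groth.Agent.S7389

open Groth.PropsBasic.ZD

/-- Let `X` be a scheme admitting an immersion into an affine scheme. Then any finite set of points of
`X` is contained in an affine open of `X`. -/
theorem result {X Y : Scheme.{u}} [IsAffine Y] (ι : X ⟶ Y)
    [IsImmersion ι] (E : Set X) (hE : E.Finite) :
    ∃ U : X.Opens, IsAffineOpen U ∧ E ⊆ U := by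
  have hd : Disjoint (ι.base '' E) (closure (Set.range ι.base) \ Set.range ι.base) :=
    Set.disjoint_left.mpr fun y ⟨x, _, hx⟩ hy => hy.2 ⟨x, hx⟩
  let g := Y.isoSpec.hom
  obtain ⟨f, hEf, hf⟩ := exists_basicOpen_avoid (g '' (closure (Set.range ι.base) \ Set.range ι.base))
    (g.homeomorph.isClosedMap _ (isClosed_boundary ι)) (g '' (ι.base '' E))
    ((hE.image _).image _) (Set.disjoint_image_of_injective g.homeomorph.injective hd)
  have hA : IsAffineOpen (g ⁻¹ᵁ (PrimeSpectrum.basicOpen f)) :=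
    IsAffineOpen.preimage (IsAffineOpen.Spec_basicOpen f) g
  refine ⟨ι ⁻¹ᵁ (g ⁻¹ᵁ PrimeSpectrum.basicOpen f), isAffineOpen_preimage_of_immersion ι hA
    (Set.disjoint_left.mpr fun y hy hy' => Set.disjoint_left.mp hf hy ⟨y, hy', rfl⟩), fun x hx => ?_⟩
  exact hEf ⟨ι x, ⟨x, hx, rfl⟩, rfl⟩

end Groth.Agent.S7389
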