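import Groth.Statements.S9798
import Groth.Agent.SpectralTopology.Dim
import Mathlib

set_option autoImplicit false
universe u
open CategoryTheory AlgebraicGeometry TopologicalSpace
open Props

namespace Groth.Agent.S9798

/-- A point of a locally Noetherian scheme has local dimension zero exactly when it is isolated. -/
theorem result (X : Scheme.{u}) [IsLocallyNoetherian X] (x : X) :
    FlatMor.localDim X x = 0 ↔ IsOpen ({x} : Set X) := by
  constructor
  · intro h
    obtain ⟨U, hxU, hdim⟩ := Groth.SpectralTopology.exists_localDim_eq x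
    obtain ⟨V, hV, hxV, hVU⟩ := TopologicalSpace.Opens.isBasis_iff_nbhd.mp X.isBasis_affineOpens hxU
    haveI : IsAffine (V : Scheme.{u}) := hV
    haveI : AlgebraicGeometry.IsNoetherian (V : Scheme.{u}) := ⟨⟩
    have hV0 : topologicalKrullDim (V : Scheme.{u}) ≤ 0 :=
      (Groth.SpectralTopology.dim_le_of_subset (A := (V : Set X)) (B := (U : Set X)) hVU).trans
        (hdim.trans h).le
    obtain ⟨-, hdisc⟩ := Groth.SpectralTopology.finite_discrete_of_dim_nonpos (X := (V : Scheme.{u})) hV0
    have := (V : X.Opens).isOpen.isOpenMap_subtype_val {⟨x, hxV⟩} (isOpen_discrete (α := (V : Scheme.{u})) _)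
    simpa using this
  · intro h
    refine le_antisymm ((Groth.SpectralTopology.localDim_le_of_mem (U := ⟨{x}, h⟩) rfl).trans ?_)
      (Groth.SpectralTopology.localDim_nonneg x)
    rw [Groth.SpectralTopology.topologicalKrullDim_le_iff]
    intro l
    by_contra hl
    have hpos : 0 < l.length := Nat.pos_of_ne_zero fun h0 => hl (by rw [h0]; simp)
    have hlt : l ⟨0, by omega⟩ < l ⟨1, by omega⟩ := l.step ⟨0, hpos⟩
    obtain ⟨y, hy⟩ := (l ⟨1, by omega⟩).isIrreducible.nonempty
    obtain ⟨z, hz⟩ := (l ⟨0, by omega⟩).isIrreducible.nonempty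
    refine hlt.not_ge fun w _ => ?_
    have : w = z := Subtype.ext (w.2.trans z.2.symm)
    exact this ▸ hz

end Groth.Agent.S9798
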