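import Groth.Statements.S10277
import Groth.Agent.AlgSpBasic.Proper

set_option autoImplicit false
universe u
open CategoryTheory CategoryTheory.Limits AlgebraicGeometry
open AlgSp Groth.AlgSpBasic

namespace Groth.Agent.S10277

/-- A closed immersion of algebraic spaces is proper. -/
theorem result {S : Scheme.{u}} {X Y : AlgSp.Space S} (i : X ⟶ Y)
    (hi : AlgSp.RepWith @IsClosedImmersion i.hom) : AlgSp.IsProperMor i.hom := by
  have : Mono i.hom := mono_of_repWith (fun _ _ g (_ : IsClosedImmersion g) => inferInstance) hi
  refine ⟨repWith_isIso _, ⟨locP_of_repWith (repWith_mono (fun _ _ g (_ : IsClosedImmersion g) =>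
    (inferInstance : LocallyOfFiniteType g)) hi),
    isQuasiCompactMor_of_repWith X.property Y.property (repWith_mono
      (fun _ _ g (_ : IsClosedImmersion g) => (inferInstance : QuasiCompact g)) hi)⟩, ?_⟩
  exact univSp_of_repWith (fun _ _ k hk => isClosedMap_map_of_repWith
    (fun _ _ φ (_ : IsClosedImmersion φ) => φ.isClosedEmbedding.isClosedMap) hk) hi

end Groth.Agent.S10277
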