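import Groth.Statements.S1240
import Groth.Agent.FibreDim.Constructible
import Groth.Agent.DescentBase.ClosureRange

set_option autoImplicit false
universe u
open FlatMor

namespace Groth.Agent.S1240

open AlgebraicGeometry CategoryTheory in
/-- Let f : X → S be flat and locally of finite type and U ⊆ S a dense open such that the fibres of f at
points over U have local dimension at most e everywhere. If f is locally of finite presentation, or
U is retrocompact in S, then every fibre of f has local dimension at most e at every point. -/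
theorem result {X S : Scheme.{u}} (f : X ⟶ S) [Flat f] [LocallyOfFiniteType f]
    (U : S.Opens) (hU : Dense (U : Set S)) (e : ℕ)
    (hle : ∀ x : X, f.base x ∈ U → FlatMor.fibreDimAt f x ≤ e)
    (h : LocallyOfFinitePresentation f ∨ IsRetrocompact (U : Set S)) (x : X) :
    FlatMor.fibreDimAt f x ≤ e := by
  open Groth.FibreDim TopologicalSpace Topology in
    have hdim : ∀ s ∈ U, topologicalKrullDim ↥(f.fiber s) ≤ e := fun s hs => by
      rw [dim_fiber_eq_iSup]
      refine iSup_le fun z => ?_
      rw [← fibreDimAt_fiberι]
      exact hle _ (by rw [apply_fiberι]; exact hs)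
    rcases h with h | h
    · by_contra hx
      obtain ⟨W, hW, hxW, -⟩ := exists_isAffineOpen_mem_and_subset (U := ⊤) (Set.mem_univ (f.base x))
      obtain ⟨V, hV, hxV, hVW⟩ := exists_isAffineOpen_mem_and_subset (U := f ⁻¹ᵁ W) hxW
      have hVW' : V ≤ f ⁻¹ᵁ W := hVW
      have : IsAffine W := hW
      have : IsAffine V := hV
      let g := f.resLE W V hVW'
      have hg : ∀ v, FlatMor.fibreDimAt g v = FlatMor.fibreDimAt f (V.ι v) := fun v => by
        rw [← fibreDimAt_comp_injective g W.ι W.ι.isEmbedding.injective, Scheme.Hom.resLE_comp_ι,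
          fibreDimAt_openImmersion_comp]
      have hxg : (e : WithBot ℕ∞) < topologicalKrullDim ↥(g.fiber (g.base ⟨x, hxV⟩)) :=
        lt_of_lt_of_le ((hg ⟨x, hxV⟩).symm ▸ not_le.1 hx)
          (Groth.SpectralTopology.localDim_le_dim _)
      obtain ⟨w, hwlt, hw⟩ := (hU.preimage W.ι.isOpenEmbedding.isOpenMap).inter_open_nonempty _
        (isOpen_lt_dim_fiber g e) ⟨_, hxg⟩
      refine absurd (hwlt : _ < _) (not_lt (α := WithBot ℕ∞) |>.2 ?_)
      rw [dim_fiber_eq_iSup]
      refine iSup_le fun z => ?_
      rw [← fibreDimAt_fiberι, hg]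
      refine hle _ ?_
      rw [← Scheme.Hom.comp_apply, ← Scheme.Hom.resLE_comp_ι f (e := hVW'), Scheme.Hom.comp_apply,
        apply_fiberι]
      exact hw
    · have : QuasiCompact U.ι := ⟨fun V hVo hVc => by
        rw [U.ι.isEmbedding.isCompact_iff, Set.image_preimage_eq_inter_range, Scheme.Opens.range_ι,
          Set.inter_comm]
        exact h hVc hVo⟩
      obtain ⟨u, hu⟩ := Groth.DescentBase.exists_specializes_of_mem_closure_range U.ι
        (z := f.base x) (by rw [Scheme.Opens.range_ι]; exact hU _)
      refine (Groth.SpectralTopology.localDim_le_dim _).trans ?_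
      exact (dim_fiber_le_of_specializes f hu).trans (hdim _ u.2)

end Groth.Agent.S1240
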