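import Groth.Statements.S9969
import Groth.Agent.AlgSp3.Density

set_option autoImplicit false
set_option backward.isDefEq.respectTransparency.types false
universe u
open CategoryTheory CategoryTheory.Limits AlgebraicGeometry
open AlgSp

namespace Groth.Agent.S9969

open CategoryTheory CategoryTheory.Limits AlgebraicGeometry Groth.AlgSpBasic

/-- For a quasi-compact open subspace, scheme theoretic density is equivalent to the scheme theoretic
closure being everything. -/
theorem result {S : Scheme.{u}} {U X : AlgSp.Space S} (j : U ⟶ X)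
    (hj : AlgSp.RepWith @IsOpenImmersion j.hom) (hq : AlgSp.IsQuasiCompactMor j.hom) :
    AlgSp.IsSchDense j.hom ↔ AlgSp.IsSchImage j.hom (𝟙 X.obj) := by
  obtain ⟨Uc, p, hp, hps⟩ := X.property.atlas
  obtain ⟨fst, sq⟩ := Groth.AlgSp3.exists_isPullback_preimageOpens hj p
  have hqc := Groth.AlgSp3.quasiCompact_preimageOpens_ι hj hq p
  let C : Groth.AlgSp3.PullbackChart j.hom p := ⟨_, fst, _, sq, _, 𝟙 _,
    Over.homMk (Groth.AlgSp3.preimageOpens hj p).ι, repWith_isIso _, repWith_isIso _,
    Category.id_comp _⟩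
  have : QuasiCompact C.α.left := hqc
  have hid : AlgSp.RepWith @IsClosedImmersion (𝟙 X.obj) := repWith_isIso _
  have sq₁ : IsPullback p ((AlgSp.yon S).map (𝟙 Uc)) (𝟙 X.obj) p := by
    rw [CategoryTheory.Functor.map_id]; exact IsPullback.of_vert_isIso ⟨by simp⟩
  constructor
  · intro h
    refine Groth.AlgSp3.isSchImage_of_ker_eq hp hps (C.etale_chart hp) (C.surjective_chart hps)
      C.fac_chart hid sq₁ ?_
    rw [Groth.AlgSp3.imageIdeal_eq_ker (C.isInvIdeal_ker X.property U.property hp)]
    have := Groth.GrpschAbsch.isSchemeTheoreticallyDominant_ι _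
      (Groth.AlgSp3.isSchematicallyDense_preimageOpens X.property h hp)
    exact (Scheme.Hom.ker_eq_bot_of_isIso (𝟙 Uc.left)).trans
      (Scheme.Hom.ker_eq_bot (Groth.AlgSp3.preimageOpens hj p).ι).symm
  · intro h
    have e := Groth.AlgSp3.ker_eq_of_isSchImage X.property U.property hp hps C X.property h sq₁
    have : IsSchemeTheoreticallyDominant (Groth.AlgSp3.preimageOpens hj p).ι :=
      ⟨e.symm.trans (Scheme.Hom.ker_eq_bot_of_isIso (𝟙 Uc.left))⟩
    exact Groth.AlgSp3.isSchDense_of_chart hj hp hps
      (Groth.Rat20Dense.dense_of_isSchemeTheoreticallyDominant _)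

end Groth.Agent.S9969
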