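import Groth.Statements.S9972
import Groth.Agent.AlgSp3.ClosedSub

set_option autoImplicit false
set_option backward.isDefEq.respectTransparency.types false
universe u
open CategoryTheory CategoryTheory.Limits AlgebraicGeometry
open AlgSp

namespace Groth.Agent.S9972

open CategoryTheory CategoryTheory.Limits AlgebraicGeometry Groth.AlgSpBasic

/-- Two morphisms to an algebraic space separated over B that agree on an open subspace whose scheme
theoretic closure is everything are equal. -/
theorem result {S : Scheme.{u}} {U X Y B : AlgSp.Space S} (q : Y ⟶ B)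
    (hq : AlgSp.IsSeparatedMor q.hom) (f g : X ⟶ Y) (hfg : f ≫ q = g ≫ q) (j : U ⟶ X)
    (hj : AlgSp.RepWith @IsOpenImmersion j.hom) (hcl : AlgSp.IsSchImage j.hom (𝟙 X.obj)) (heq : j ≫ f = j ≫ g) :
    f = g := by
  have hfg' : f.hom ≫ q.hom = g.hom ≫ q.hom := congrArg (fun φ => φ.hom) hfg
  have heq' : j.hom ≫ f.hom = j.hom ≫ g.hom := congrArg (fun φ => φ.hom) heq
  let t : X.obj ⟶ pullback q.hom q.hom := pullback.lift f.hom g.hom hfg'
  have sq := IsPullback.of_hasPullback (pullback.diagonal q.hom) t
  have he : AlgSp.RepWith @IsClosedImmersion (pullback.snd (pullback.diagonal q.hom) t) :=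
    repWith_of_isPullback sq hq
  obtain ⟨k, hk⟩ := hcl.2.2 _ (isAlgSpace_of_representable X.property _ he.rep) he
    ⟨sq.lift (j.hom ≫ f.hom) j.hom (by
      apply pullback.hom_ext <;> simp only [t, Category.assoc, pullback.diagonal_fst, pullback.diagonal_snd, pullback.lift_fst, pullback.lift_snd, Category.comp_id, heq']), sq.lift_snd _ _ _⟩
  have hw := k ≫= sq.w
  rw [reassoc_of% hk] at hw
  have h₁ := hw =≫ pullback.fst q.hom q.hom
  have h₂ := hw =≫ pullback.snd q.hom q.hom
  simp only [Category.assoc, pullback.diagonal_fst, pullback.diagonal_snd, Category.comp_id, t,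
    pullback.lift_fst, pullback.lift_snd] at h₁ h₂
  exact ObjectProperty.hom_ext _ (h₁.symm.trans h₂)

end Groth.Agent.S9972
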