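import Groth.Statements.S9973
import Groth.Agent.AlgSp3.Density

set_option autoImplicit false
set_option backward.isDefEq.respectTransparency.types false
universe u
open CategoryTheory CategoryTheory.Limits AlgebraicGeometry
open AlgSp

namespace Groth.Agent.S9973

open CategoryTheory CategoryTheory.Limits AlgebraicGeometry Groth.AlgSpBasic

/-- The inverse image of a quasi-compact scheme theoretically dense open under a flat morphism of
algebraic spaces is scheme theoretically dense. -/
theorem result {S : Scheme.{u}} {X Y V V' : AlgSp.Space S} (f : X ⟶ Y)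
    (hf : AlgSp.LocP @Flat f.hom) (j : V ⟶ Y) (hj : AlgSp.IsSchDense j.hom) (hjq : AlgSp.IsQuasiCompactMor j.hom)
    (fst : V' ⟶ V) (jX : V' ⟶ X) (sq : IsPullback fst.hom jX.hom j.hom f.hom) : AlgSp.IsSchDense jX.hom := by
  have hjX : AlgSp.RepWith @IsOpenImmersion jX.hom := repWith_of_isPullback sq hj.1
  obtain ⟨U, p, hp, hps⟩ := Y.property.atlas
  obtain ⟨W, a, c, ha, has, hc⟩ := exists_chart_over X.property Y.property.diag f.hom p hp hps
  refine Groth.AlgSp3.isSchDense_of_chart hjX ha has ?_
  have : Flat c.left := hf a p c ha hp hc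
  have := Groth.AlgSp3.quasiCompact_preimageOpens_ι hj.1 hjq p
  have h := Groth.Rat20Dense.dense_preimage_of_flat c.left _
    (Groth.AlgSp3.isSchematicallyDense_preimageOpens Y.property hj hp)
  convert h using 1
  rw [← Groth.AlgSp3.preimageOpens_comp, ← hc]
  ext v
  show AlgSp.Points.ofPt a v ∈ Set.range (AlgSp.Points.map jX.hom) ↔
    AlgSp.Points.ofPt (a ≫ f.hom) v ∈ Set.range (AlgSp.Points.map j.hom)
  rw [← AlgSp.Points.map_ofPt]
  constructor
  · rintro ⟨z, hz⟩
    exact ⟨AlgSp.Points.map fst.hom z, by rw [← AlgSp.Points.map_comp, sq.w, AlgSp.Points.map_comp, hz]⟩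
  · rintro ⟨y, hy⟩
    obtain ⟨z, -, hz⟩ := exists_point_of_isPullback sq y _ hy
    exact ⟨z, hz⟩

end Groth.Agent.S9973
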