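import Groth.Statements.S1486
import Groth.Agent.FlatmorThree.SmoothLift
import Groth.Agent.FlatmorThree.ProjLocal

set_option autoImplicit false
universe u
open FlatMor

namespace Groth.Agent.S1486

open AlgebraicGeometry CategoryTheory Limits in
/-- (1) ⇔ (3): a morphism f : X → Y is formally smooth (lifting against first order thickenings of
affine schemes, rings in the same universe) if and only if for all affine opens U ⊆ f⁻¹(V) the ring
map O_Y(V) → O_X(U) is formally smooth. -/
theorem result {X Y : Scheme.{u}} (f : X ⟶ Y) :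
    MoreMor.IsFormallySmoothHom f ↔ ∀ (U : X.Opens) (V : Y.Opens) (hU : IsAffineOpen U) (hV : IsAffineOpen V) (hUV : U ≤ f ⁻¹ᵁ V),
      letI := (f.appLE V U hUV).hom.toAlgebra
      Algebra.FormallySmooth Γ(Y, V) Γ(X, U) := by
  refine ⟨fun hf U V hU hV hUV =>
    Groth.FlatmorThree.FormalLift.formallySmooth_appLE hf hU hV hUV, fun h => ?_⟩
  intro A _ I hI a b w
  refine Groth.FlatmorThree.SmoothLift.exists_lift f a b w hI (fun x => ?_)
    fun d s hs _ hP => Groth.FlatmorThree.projective_of_localized_span d.T.Coker s hs hP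
  obtain ⟨V, hV, hfx, -⟩ := TopologicalSpace.Opens.isBasis_iff_nbhd.mp Y.isBasis_affineOpens
    (TopologicalSpace.Opens.mem_top (f x))
  obtain ⟨U, hU, hx, e⟩ := TopologicalSpace.Opens.isBasis_iff_nbhd.mp X.isBasis_affineOpens
    (show x ∈ f ⁻¹ᵁ V from hfx)
  exact ⟨U, V, hU, hV, e, hx, h U V hU hV e⟩

end Groth.Agent.S1486
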