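import Groth.Statements.S7621
import Groth.Agent.VarietyBC.QcOpen
import Groth.Agent.VarietyBC.BCMaps

set_option autoImplicit false
universe u
open CategoryTheory CategoryTheory.Limits AlgebraicGeometry
open Variety

namespace Groth.Agent.S7621

/-- Let K be a (possibly infinite) Galois extension of a field k, X a scheme over k and V a
quasi-compact open subset of X_K. Then there is a subextension k'/k of K, finite over k, such that
every k-automorphism of K fixing k' pointwise maps V onto itself under its action on X_K (an open
subgroup of the Galois group stabilises V). -/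
theorem result (k : Type u) [Field k] (K : Type u) [Field K] [Algebra k K] [IsGalois k K]
    (X : Scheme.{u}) [X.Over (Spec (CommRingCat.of k))] (V : Set ↥(Curv2.bc k X K)) (hV : IsOpen V) (hVc : IsCompact V) :
    ∃ E : IntermediateField k K, FiniteDimensional k ↥E ∧
      ∀ σ : K ≃ₐ[k] K, (∀ a : K, a ∈ E → σ a = a) → (Curv2.galAct k X K σ).base '' V = V := by
  obtain ⟨A', ⟨s, hs⟩, V', -, -, hπ⟩ := Groth.VarietyBC.exists_fg_descend_open (k := k) K V hV hVc
  let E : IntermediateField k K := IntermediateField.adjoin k (s : Set K)
  have : FiniteDimensional k E :=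
    IntermediateField.finiteDimensional_adjoin fun x _ => (Algebra.IsAlgebraic.isAlgebraic x).isIntegral
  refine ⟨E, this, fun σ hσ => ?_⟩
  have hfix : (σ : K →ₐ[k] K).comp A'.val = A'.val := AlgHom.ext fun a =>
    hσ a ((hs ▸ Algebra.adjoin_le (IntermediateField.subset_adjoin k _) : A' ≤ E.toSubalgebra) a.2)
  let π : Groth.VarietyBC.ringBC k X K ⟶ Groth.VarietyBC.ringBC k X A' :=
    pullback.lift (pullback.fst _ _) (pullback.snd _ _ ≫ Spec.map (CommRingCat.ofHom A'.val.toRingHom)) (by
      rw [Category.assoc, ← Spec.map_comp, ← CommRingCat.ofHom_comp, AlgHom.toRingHom_eq_coe,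
        AlgHom.comp_algebraMap]
      exact pullback.condition)
  have hcomp : Curv2.galAct k X K σ ≫ π = π := by
    refine pullback.hom_ext ?_ ?_
    · rw [Category.assoc, pullback.lift_fst]
      exact Groth.VarietyBC.galAct_fst σ
    · rw [Category.assoc, pullback.lift_snd, ← Category.assoc, Groth.VarietyBC.galAct_eq_bcMap]
      refine (congrArg (· ≫ _) (Groth.VarietyBC.bcMap_snd _)).trans ?_
      rw [Category.assoc, ← Spec.map_comp, ← CommRingCat.ofHom_comp]
      congr 3
      exact congrArg AlgHom.toRingHom hfix
  have hV' : π.base ⁻¹' V' = V := hπ π (pullback.lift_fst ..) (pullback.lift_snd ..)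
  have hpre : (Curv2.galAct k X K σ).base ⁻¹' V = V := by
    conv_lhs => rw [← hV', ← Set.preimage_comp]
    rw [show π.base ∘ (Curv2.galAct k X K σ).base = π.base from funext fun y => congr($hcomp y), hV']
  conv_lhs => rw [← hpre]
  exact Set.image_preimage_eq _ (Groth.VarietyBC.galHomeo (X := X) σ).surjective

end Groth.Agent.S7621
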