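import Groth.Agent.AlgSp2.GeomReducedFibre
-- import your own Groth.Agent.* helpers here

set_option autoImplicit false
universe u
open CategoryTheory CategoryTheory.Limits AlgebraicGeometry
open AlgSp

namespace Groth.Agent.S10686

/-- For a morphism f : X ⟶ Y between algebraic spaces over S and a point y of |Y|, write X_k for the
fibre (pullback in fppf sheaves) over a field point k of Y and call X_k geometrically reduced when
for every field homomorphism k ⟶ k' the base change X_{k'} is reduced (some etale surjective scheme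
chart reduced). The following are equivalent: (1) X_k is geometrically reduced for some k in the
class of y; (2) X_k is geometrically reduced for every k in the class of y; (3) X_k is reduced for
every k in the class of y. -/
theorem result {S : Scheme.{u}} {X Y : AlgSp.Space S} (f : X ⟶ Y) (y : AlgSp.Points Y.obj) :
    [∃ (k : AlgSp.FieldPt Y.obj), AlgSp.Points.mk k = y ∧
        ∀ (k' : Type u) [Field k'] (φ : k.K →+* k') (Xk' : AlgSp.Sp S) (a : Xk' ⟶ X.obj)
          (b : Xk' ⟶ (AlgSp.yon S).obj (Over.mk (Spec.map (CommRingCat.ofHom φ) ≫ k.str))),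
          IsPullback a b f.hom ((AlgSp.yon S).map (Over.homMk (Spec.map (CommRingCat.ofHom φ)) rfl :
            Over.mk (Spec.map (CommRingCat.ofHom φ) ≫ k.str) ⟶ k.pt) ≫ k.toHom) →
          AlgSp.EtaleLocally (fun U => IsReduced U) Xk',
      ∀ (k : AlgSp.FieldPt Y.obj), AlgSp.Points.mk k = y →
        ∀ (k' : Type u) [Field k'] (φ : k.K →+* k') (Xk' : AlgSp.Sp S) (a : Xk' ⟶ X.obj)
          (b : Xk' ⟶ (AlgSp.yon S).obj (Over.mk (Spec.map (CommRingCat.ofHom φ) ≫ k.str))),
          IsPullback a b f.hom ((AlgSp.yon S).map (Over.homMk (Spec.map (CommRingCat.ofHom φ)) rfl :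
            Over.mk (Spec.map (CommRingCat.ofHom φ) ≫ k.str) ⟶ k.pt) ≫ k.toHom) →
          AlgSp.EtaleLocally (fun U => IsReduced U) Xk',
      ∀ (k : AlgSp.FieldPt Y.obj), AlgSp.Points.mk k = y →
        ∀ (Xk : AlgSp.Sp S) (a : Xk ⟶ X.obj) (b : Xk ⟶ (AlgSp.yon S).obj k.pt), IsPullback a b f.hom k.toHom →
          AlgSp.EtaleLocally (fun U => IsReduced U) Xk].TFAE := by
  tfae_have 2 → 1 := fun h => by
    obtain ⟨k, hk⟩ := AlgSp.Points.mk_surjective y
    exact ⟨k, hk, h k hk⟩
  tfae_have 2 → 3 := fun h k hk Xk a b hab => by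
    let φ := RingHom.id k.K
    let i : Over.mk (Spec.map (CommRingCat.ofHom φ) ≫ k.str) ⟶ k.pt := Over.homMk (Spec.map (CommRingCat.ofHom φ)) rfl
    have : IsIso (CommRingCat.ofHom φ) := inferInstanceAs (IsIso (𝟙 (CommRingCat.of k.K)))
    have : IsIso ((Over.forget S).map i) := inferInstanceAs (IsIso (Spec.map (CommRingCat.ofHom φ)))
    have : IsIso i := isIso_of_reflects_iso i (Over.forget S)
    exact h k hk k.K φ Xk a (b ≫ (AlgSp.yon S).map (inv i))
      (hab.of_iso (Iso.refl _) (Iso.refl _) ((AlgSp.yon S).mapIso (asIso i).symm) (Iso.refl _) (by simp) (by simp)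
        (by simp) (by
          simp only [Functor.mapIso_hom, Iso.symm_hom, asIso_inv, Iso.refl_hom, Category.comp_id]
          rw [← Category.assoc, ← Functor.map_comp, IsIso.inv_hom_id, CategoryTheory.Functor.map_id, Category.id_comp]))
  tfae_have 3 → 2 := fun h k hk k' _ φ Xk' a b hab => by
    let i : Over.mk (Spec.map (CommRingCat.ofHom φ) ≫ k.str) ⟶ k.pt := Over.homMk (Spec.map (CommRingCat.ofHom φ)) rfl
    refine h (Groth.AlgSp2.ofHom ((AlgSp.yon S).map i ≫ k.toHom))
      ((Groth.AlgSp2.mk_ofHom_precomp k i).trans hk) Xk' a b ?_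
    rw [Groth.AlgSp2.toHom_ofHom]
    exact hab
  tfae_have 1 → 3 := by
    rintro ⟨k₁, hk₁, h₁⟩ k hk Xk a b hab
    obtain ⟨Ω, _, w, i, j, e⟩ := (Groth.AlgSp2.rel_iff k₁ k).1 (AlgSp.Points.mk_eq_mk_iff.1 (hk₁.trans hk.symm))
    let φ := (Spec.preimage i.left).hom
    have hφ : Spec.map (CommRingCat.ofHom φ) = i.left := Spec.map_preimage i.left
    let t : Over.mk w ⟶ Over.mk (Spec.map (CommRingCat.ofHom φ) ≫ k₁.str) :=
      Over.homMk (𝟙 _) (by
        show 𝟙 _ ≫ Spec.map (CommRingCat.ofHom φ) ≫ k₁.str = w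
        rw [Category.id_comp, hφ]; exact Over.w i)
    have : IsIso t := by
      have : IsIso ((Over.forget S).map t) := inferInstanceAs (IsIso (𝟙 (Spec (CommRingCat.of Ω))))
      exact isIso_of_reflects_iso t (Over.forget S)
    have hB := IsPullback.of_hasPullback f.hom ((AlgSp.yon S).map j ≫ k.toHom)
    have hti : t ≫ (Over.homMk (Spec.map (CommRingCat.ofHom φ)) rfl :
        Over.mk (Spec.map (CommRingCat.ofHom φ) ≫ k₁.str) ⟶ k₁.pt) = i :=
      Over.OverMorphism.ext ((Category.id_comp _).trans hφ)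
    refine Groth.AlgSp2.GeomReducedFibre.reduced_of_extension X.property Y.property f.hom k.toHom j hab hB
      (h₁ Ω φ _ (pullback.fst _ _) (pullback.snd _ _ ≫ (AlgSp.yon S).map t) ?_)
    refine hB.of_iso (Iso.refl _) (Iso.refl _) ((AlgSp.yon S).mapIso (asIso t)) (Iso.refl _) (by simp) (by simp)
      (by simp) ?_
    simp only [Functor.mapIso_hom, asIso_hom, Iso.refl_hom, Category.comp_id]
    rw [← Category.assoc ((AlgSp.yon S).map t), ← Functor.map_comp, hti, e]
  tfae_finish

end Groth.Agent.S10686
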