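import Groth.Statements.S5766
import Groth.Agent.EGA41Two.DimIntegral
import Mathlib.RingTheory.Ideal.Quotient.Operations
import Mathlib.RingTheory.IntegralClosure.IsIntegralClosure.Basic

set_option autoImplicit false
universe u
open EGA41

namespace Groth.Agent.S5766

/-- Let A be a Noetherian ring, ρ : A → B a ring homomorphism and M a B-module which is finitely
generated as an A-module via ρ. Then the dimension of M as an A-module equals its dimension as a
B-module. -/
theorem result (A B : Type u) [CommRing A] [CommRing B] [IsNoetherianRing A]
    [Algebra A B] (M : Type u) [AddCommGroup M] [Module B M] [Module A M] [IsScalarTower A B M]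
    [Module.Finite A M] : Module.supportDim A M = Module.supportDim B M := by
  have : Module.Finite B M := Module.Finite.of_restrictScalars_finite A B M
  rw [Module.supportDim_eq_ringKrullDim_quotient_annihilator, Module.supportDim_eq_ringKrullDim_quotient_annihilator]
  have hc : Module.annihilator A M = (Module.annihilator B M).comap (algebraMap A B) := by
    ext a
    simp [Ideal.mem_comap, Module.mem_annihilator]
  letI : Algebra (A ⧸ Module.annihilator A M) (B ⧸ Module.annihilator B M) :=
    (Ideal.quotientMap (Module.annihilator B M) (algebraMap A B) hc.le).toAlgebra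
  have : IsScalarTower A (A ⧸ Module.annihilator A M) (B ⧸ Module.annihilator B M) :=
    IsScalarTower.of_algebraMap_eq fun _ => rfl
  let φ : B →ₗ[A] Module.End A M := (Algebra.lsmul A A M).toLinearMap
  have hφ : LinearMap.ker φ = (Module.annihilator B M).restrictScalars A := by
    ext b
    rw [LinearMap.mem_ker, Submodule.restrictScalars_mem, Module.mem_annihilator]
    exact ⟨fun h m => LinearMap.congr_fun h m, fun h => LinearMap.ext h⟩
  have : Module.Finite A (B ⧸ Module.annihilator B M) := by
    let ψ : (B ⧸ (Module.annihilator B M).restrictScalars A) →ₗ[A] Module.End A M :=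
      Submodule.liftQ _ φ hφ.ge
    have hψ : Function.Injective ψ := by
      rw [← LinearMap.ker_eq_bot]
      exact Submodule.ker_liftQ_eq_bot _ _ _ hφ.le
    have := Module.Finite.of_injective ψ hψ
    exact Module.Finite.equiv (Submodule.Quotient.restrictScalarsEquiv A (Module.annihilator B M))
  have : Module.Finite (A ⧸ Module.annihilator A M) (B ⧸ Module.annihilator B M) :=
    Module.Finite.of_restrictScalars_finite A _ _
  exact Groth.EGA41Two.ringKrullDim_eq_of_isIntegral_of_injective
    (Ideal.quotientMap_injective' hc.ge)

end Groth.Agent.S5766
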