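import Groth.Statements.S1542
import Groth.Agent.VarietyBC.Reduced

set_option backward.isDefEq.respectTransparency false

set_option autoImplicit false
universe u
open CategoryTheory CategoryTheory.Limits AlgebraicGeometry
open Variety

namespace Groth.Agent.S1542

open Groth.VarietyBC
open TensorProduct


/-- Geometric reducedness at a point passes to every generisation of that point. -/
theorem result (k : Type u) [Field k] (X : Scheme.{u}) [X.Over (Spec (CommRingCat.of k))] (x x' : X) (h : x' ⤳ x)
    (hx : Curv2.IsGeomReducedAt k X x) : Curv2.IsGeomReducedAt k X x' := by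
  rw [isGeomReducedAt_iff] at hx ⊢
  letI := Curv2.stalkAlgebra k X x
  letI := Curv2.stalkAlgebra k X x'
  rw [Algebra.isGeometricallyReduced_field_iff]
  have hP : ∀ z : Curv2.bc k X (AlgebraicClosure k), Curv2.bcFst k X (AlgebraicClosure k) z = x' →
      IsReduced ((Curv2.bc k X (AlgebraicClosure k)).presheaf.stalk z) := fun z hz => by
    obtain ⟨P, -, ⟨e⟩⟩ := exists_stalkEquiv (AlgebraicClosure k) x z (hz ▸ h)
    have : IsReduced (X.presheaf.stalk x ⊗[k] AlgebraicClosure k) :=
      isReduced_tensor_of_isGeometricallyReduced
    exact isReduced_of_injective e e.injective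
  have h' : Curv2.IsGeomReducedAt k X x' := fun K _ _ z hz => by
    obtain ⟨P, -, ⟨e⟩⟩ := exists_stalkEquiv K x z (hz ▸ h)
    have : IsReduced (X.presheaf.stalk x ⊗[k] K) := isReduced_tensor_of_isGeometricallyReduced
    exact isReduced_of_injective e e.injective
  exact (Algebra.isGeometricallyReduced_field_iff _ _).mp ((isGeomReducedAt_iff x').mp h')

end Groth.Agent.S1542
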