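import Groth.Statements.S2463
import Groth.Agent.Ega41Jac.Localization
import Mathlib.RingTheory.Spectrum.Prime.Topology
open Groth.Ega41Adic Groth.Ega41Jac

set_option autoImplicit false
universe u
open EGA41

namespace Groth.Agent.S2463

open TensorProduct KaehlerDifferential in
/-- Let B be a formally smooth A-algebra (discrete topologies), B → C a surjection with kernel J such
that J/J² is a finitely generated module (over B, equivalently over C), and p a prime of C. The
following are equivalent: the local ring C_p is formally smooth over A; the map κ(p) ⊗ J/J² → κ(p) ⊗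
(C ⊗_B Ω_{B/A}) induced by d is injective (tensor products over B, which agree with those over C =
B/J); there is f ∈ C outside p with C_f formally smooth over A. -/
theorem result {A B C : Type u} [CommRing A] [CommRing B] [CommRing C] [Algebra A B] [Algebra B C] [Algebra A C]
    [IsScalarTower A B C] [Algebra.FormallySmooth A B] (hsurj : Function.Surjective (algebraMap B C))
    [Module.Finite B (RingHom.ker (algebraMap B C)).Cotangent] (p : Ideal C) [p.IsPrime] :
    [Algebra.FormallySmooth A (Localization.AtPrime p),
     Function.Injective ((kerCotangentToTensor A B C).lTensor p.ResidueField),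
     ∃ f : C, f ∉ p ∧ Algebra.FormallySmooth A (Localization.Away f)].TFAE := by
  let P := extOfSurjective (A := A) hsurj
  haveI : Algebra.FormallySmooth A P.Ring := inferInstanceAs (Algebra.FormallySmooth A B)
  haveI : Module.Finite C P.Cotangent := finite_cotangent hsurj
  haveI : Module.Projective C P.CotangentSpace := inferInstance
  have hp := formallySmooth_iff_splitBy P p.primeCompl (Localization.AtPrime p)
  tfae_have 1 ↔ 2 := by
    rw [hp, show (∃ a ∈ p.primeCompl, SplitBy P.cotangentComplex a) ↔ ∃ a ∉ p, SplitBy P.cotangentComplex a from Iff.rfl,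
      exists_splitBy_iff_injective P.cotangentComplex p]
    exact injective_lTensor_iff hsurj p.ResidueField
  tfae_have 3 → 1 := fun ⟨f, hf, h⟩ => by
    obtain ⟨a, ⟨k, rfl⟩, hs⟩ := (formallySmooth_iff_splitBy P (Submonoid.powers f) (Localization.Away f)).mp h
    exact hp.mpr ⟨_, fun hk => hf (Ideal.IsPrime.mem_of_pow_mem ‹p.IsPrime› k hk), hs⟩
  tfae_have 1 → 3 := fun h => by
    obtain ⟨a, ha, hs⟩ := hp.mp h
    exact ⟨a, ha, (formallySmooth_iff_splitBy P (Submonoid.powers a) (Localization.Away a)).mpr ⟨a, ⟨1, pow_one a⟩, hs⟩⟩
  tfae_finish

end Groth.Agent.S2463
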