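import Groth.Statements.S4606
import Groth.Agent.EGA41Two.AdicQuotient
import Groth.Agent.Ega41Jac.Localization
import Mathlib.RingTheory.Localization.Ideal
import Mathlib.RingTheory.Localization.Module

set_option autoImplicit false
universe u
open TensorProduct KaehlerDifferential IsLocalRing
open EGA41

namespace Groth.Agent.S4606

open Groth.Ega41Jac Groth.Ega41Adic in
theorem formallySmooth_of_injective {A B C : Type u} [CommRing A] [CommRing B] [CommRing C] [Algebra A B]
    [Algebra B C] [Algebra A C] [IsScalarTower A B C] [IsNoetherianRing B] [Algebra.FormallySmooth A B]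
    (hsurj : Function.Surjective (algebraMap B C)) (p : Ideal C) [p.IsPrime]
    (h : Function.Injective ((kerCotangentToTensor A B C).lTensor p.ResidueField)) :
    Algebra.FormallySmooth A (Localization.AtPrime p) := by
  haveI : Module.Finite B (RingHom.ker (algebraMap B C)).Cotangent :=
    Module.Finite.of_surjective _ (RingHom.ker (algebraMap B C)).toCotangent_surjective
  have := finite_cotangent (A := A) hsurj
  haveI : Algebra.FormallySmooth A (extOfSurjective (A := A) hsurj).Ring := ‹Algebra.FormallySmooth A B›
  refine (formallySmooth_iff_splitBy (extOfSurjective hsurj) p.primeCompl (Localization.AtPrime p)).mpr ?_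
  exact (exists_splitBy_iff_injective _ p).mpr ((injective_lTensor_iff hsurj _).mpr h)

/-- Passing from `A_q` to `A`. -/
theorem isAdicFormallySmooth_base {A Aq S : Type u} [CommRing A] [CommRing Aq] [CommRing S] [Algebra A Aq]
    (M : Submonoid A) [IsLocalization M Aq] [Algebra A S] [Algebra Aq S] [IsScalarTower A Aq S] (n : Ideal S)
    (h : CAlgX.IsAdicFormallySmooth Aq S n) : CAlgX.IsAdicFormallySmooth A S n := by
  intro E _ _ N hN ψ hψ
  have hunit : ∀ s : M, IsUnit (algebraMap A E s) := fun s => by
    have h1 : IsUnit (Ideal.Quotient.mk N (algebraMap A E s)) := by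
      rw [show Ideal.Quotient.mk N (algebraMap A E s) = ψ (algebraMap A S s) from (ψ.commutes _).symm,
        IsScalarTower.algebraMap_apply A Aq S]
      exact ((IsLocalization.map_units Aq s).map _).map _
    obtain ⟨v, hv⟩ := h1.exists_right_inv
    obtain ⟨w, rfl⟩ := Ideal.Quotient.mk_surjective v
    rw [← map_mul, ← map_one (Ideal.Quotient.mk N), Ideal.Quotient.eq] at hv
    have h2 : (algebraMap A E s * w - 1) ^ 2 = 0 := by
      simpa [hN] using Ideal.pow_mem_pow hv 2
    refine isUnit_of_mul_isUnit_left (y := w) ?_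
    simpa using IsNilpotent.isUnit_add_left_of_commute ⟨2, h2⟩ isUnit_one (Commute.one_right _)
  letI : Algebra Aq E := (IsLocalization.lift hunit).toAlgebra
  haveI : IsScalarTower A Aq E := IsScalarTower.of_algebraMap_eq fun a => (IsLocalization.lift_eq hunit a).symm
  have hcomm : ψ.toRingHom.comp (algebraMap Aq S) = algebraMap Aq (E ⧸ N) := by
    refine IsLocalization.ringHom_ext M (RingHom.ext fun a => ?_)
    show ψ (algebraMap Aq S (algebraMap A Aq a)) = algebraMap Aq (E ⧸ N) (algebraMap A Aq a)
    rw [← IsScalarTower.algebraMap_apply, ← IsScalarTower.algebraMap_apply, ψ.commutes]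
  let ψ' : S →ₐ[Aq] E ⧸ N := { ψ.toRingHom with commutes' := fun x => RingHom.congr_fun hcomm x }
  obtain ⟨χ, hχ⟩ := h E N hN ψ' hψ
  exact ⟨χ.restrictScalars A, AlgHom.ext fun x => AlgHom.congr_fun hχ x⟩

theorem injective_of_isAdicFormallySmooth {A B C : Type u} [CommRing A] [CommRing B] [CommRing C] [Algebra A B]
    [Algebra B C] [Algebra A C] [IsScalarTower A B C] [IsNoetherianRing B]
    (hsurj : Function.Surjective (algebraMap B C)) (p : Ideal C) [p.IsPrime]
    (h : CAlgX.IsAdicFormallySmooth A (Localization.AtPrime p) (maximalIdeal (Localization.AtPrime p))) :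
    Function.Injective ((kerCotangentToTensor A B C).lTensor p.ResidueField) := by
  classical
  let K := RingHom.ker (algebraMap B C)
  let P := p.comap (algebraMap B C)
  let B' := Localization.AtPrime P
  let C' := Localization.AtPrime p
  haveI : IsNoetherianRing B' := IsLocalization.isNoetherianRing P.primeCompl B' inferInstance
  have hmap : P.primeCompl.map (algebraMap B C) = p.primeCompl := by
    ext c
    constructor
    · rintro ⟨b, hb, rfl⟩; exact hb
    · intro hc
      obtain ⟨b, rfl⟩ := hsurj c
      exact ⟨b, hc, rfl⟩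
  let f : B' →ₐ[A] C' :=
    { Localization.localRingHom P p (algebraMap B C) rfl with
      commutes' := fun a => by
        show Localization.localRingHom P p (algebraMap B C) rfl (algebraMap A B' a) = algebraMap A C' a
        rw [IsScalarTower.algebraMap_apply A B B', Localization.localRingHom_to_map,
          ← IsScalarTower.algebraMap_apply A B C, ← IsScalarTower.algebraMap_apply A C C'] }
  have hf : Function.Surjective f := by
    intro x
    obtain ⟨c, ⟨t, ht⟩, rfl⟩ := IsLocalization.exists_mk'_eq p.primeCompl x
    obtain ⟨b, rfl⟩ := hsurj c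
    obtain ⟨s, rfl⟩ := hsurj t
    exact ⟨IsLocalization.mk' B' b (⟨s, ht⟩ : P.primeCompl), Localization.localRingHom_mk' P p _ rfl b _⟩
  let J' : Ideal B' := K.map (algebraMap B B')
  have hker : RingHom.ker f = J' := IsLocalization.ker_map (S := B') (Q := C') (g := algebraMap B C) hmap
  have hJm : J' ≤ maximalIdeal B' := by
    rw [← hker]
    exact IsLocalRing.le_maximalIdeal fun htop => one_ne_zero (α := C')
      ((map_one f).symm.trans (RingHom.mem_ker.mp (htop ▸ Submodule.mem_top)))
  let e : (B' ⧸ J') →ₐ[A] C' := Ideal.Quotient.liftₐ J' f fun x hx => by rwa [← hker, RingHom.mem_ker] at hx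
  have hebij : Function.Bijective e :=
    ⟨(Ideal.injective_lift_iff _).mpr hker, fun y => ⟨Ideal.Quotient.mk J' (hf y).choose, (hf y).choose_spec⟩⟩
  let E' := AlgEquiv.ofBijective e hebij
  have hquot : CAlgX.IsAdicFormallySmooth A (B' ⧸ J') ((maximalIdeal B').map (Ideal.Quotient.mk J')) := by
    intro T _ _ N hN ψ hψ
    obtain ⟨k, hk⟩ := hψ
    obtain ⟨χ, hχ⟩ := h T N hN (ψ.comp E'.symm.toAlgHom) ⟨k, fun x hx => by
      have hle : maximalIdeal C' ≤ (maximalIdeal B').map f := fun y hy => by
        obtain ⟨z, rfl⟩ := hf y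
        exact Ideal.mem_map_of_mem f ((IsLocalRing.mem_maximalIdeal z).mpr fun hu => hy (hu.map f))
      have hx' := Ideal.pow_right_mono hle k hx
      rw [← Ideal.map_pow, Ideal.mem_map_iff_of_surjective f hf] at hx'
      obtain ⟨z, hz, rfl⟩ := hx'
      show ψ (E'.symm (f z)) = 0
      rw [show f z = E' (Ideal.Quotient.mk J' z) from rfl, E'.symm_apply_apply]
      exact hk _ (by rw [← Ideal.map_pow]; exact Ideal.mem_map_of_mem _ hz)⟩
    exact ⟨χ.comp E'.toAlgHom, AlgHom.ext fun x =>
      (AlgHom.congr_fun hχ (E' x)).trans (congrArg ψ (E'.symm_apply_apply x))⟩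
  obtain ⟨r, hr⟩ := Groth.EGA41Two.AdicQuotient.hasRetract_of_smooth (A := A) (maximalIdeal B') J'
    (maximalIdeal B') hJm ⟨1, (pow_one _).le⟩ hquot
  let T := p.ResidueField ⊗[B] K.Cotangent
  have hunit : ∀ s : P.primeCompl, IsUnit (algebraMap B (Module.End B T) s) := fun s => by
    have hs : algebraMap B p.ResidueField s ≠ 0 := by
      rw [IsScalarTower.algebraMap_apply B C p.ResidueField]
      exact fun h0 => s.2 ((Ideal.algebraMap_residueField_eq_zero (I := p)).mp h0)
    rw [Module.End.isUnit_iff]
    refine ⟨fun x y hxy => ?_, fun y => ⟨(algebraMap B p.ResidueField s)⁻¹ • y, ?_⟩⟩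
    · simp only [Module.algebraMap_end_apply, ← algebraMap_smul p.ResidueField (s : B)] at hxy
      exact smul_right_injective T hs hxy
    · rw [Module.algebraMap_end_apply, ← algebraMap_smul p.ResidueField (s : B), smul_inv_smul₀ hs]
  let g0 : ↥K →ₗ[B] T := (TensorProduct.mk B p.ResidueField K.Cotangent 1) ∘ₗ K.toCotangent
  let L : ↥J' →ₗ[B] T := IsLocalizedModule.lift P.primeCompl (Algebra.idealMap B' K) g0 hunit
  have hL : ∀ k, L (Algebra.idealMap B' K k) = g0 k := fun k => IsLocalizedModule.lift_apply _ _ _ hunit k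
  have hkill : maximalIdeal B' • (⊤ : Submodule B' ↥J') ≤ ⊤ ∧
      ∀ x ∈ maximalIdeal B' • (⊤ : Submodule B' ↥J'), L x = 0 := by
    refine ⟨le_top, fun x hx => ?_⟩
    refine Submodule.smul_induction_on hx (fun a ha y _ => ?_) (fun y z hy hz => by rw [map_add, hy, hz, add_zero])
    obtain ⟨b, s, rfl⟩ := IsLocalization.exists_mk'_eq P.primeCompl a
    rw [IsLocalization.AtPrime.mk'_mem_maximal_iff B' P] at ha
    refine ((Module.End.isUnit_iff _).mp (hunit s)).injective ?_
    show (s : B) • L (IsLocalization.mk' B' b s • y) = (s : B) • (0 : T)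
    rw [← map_smul, ← algebraMap_smul B' (s : B) (IsLocalization.mk' B' b s • y), smul_smul,
      mul_comm, IsLocalization.mk'_spec, algebraMap_smul, map_smul, smul_zero,
      ← algebraMap_smul p.ResidueField b, IsScalarTower.algebraMap_apply B C p.ResidueField,
      (Ideal.algebraMap_residueField_eq_zero (I := p)).mpr ha, zero_smul]
  let L' : Groth.EGA41Two.AdicQuotient.Mq (maximalIdeal B') J' →ₗ[B] T :=
    (Submodule.liftQ ((maximalIdeal B' • (⊤ : Submodule B' ↥J')).restrictScalars B) L fun x hx => hkill.2 x hx) ∘ₗ
      (Submodule.Quotient.restrictScalarsEquiv B (maximalIdeal B' • (⊤ : Submodule B' ↥J'))).symm.toLinearMap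
  let Ψ : Ω[B⁄A] →ₗ[B] T := L' ∘ₗ (r.restrictScalars B) ∘ₗ KaehlerDifferential.map A A B B'
  let g1 : C ⊗[B] Ω[B⁄A] →ₗ[B] T := (Ψ.liftBaseChange C).restrictScalars B
  let g2 : p.ResidueField ⊗[B] (C ⊗[B] Ω[B⁄A]) →ₗ[B] T :=
    (g1.liftBaseChange p.ResidueField).restrictScalars B
  refine Function.LeftInverse.injective (g := g2) fun x => ?_
  induction x using TensorProduct.induction_on with
  | zero => rw [map_zero, map_zero]
  | add a b ha hb => rw [map_add, map_add, ha, hb]
  | tmul a z =>
    obtain ⟨⟨j, hj⟩, rfl⟩ := K.toCotangent_surjective z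
    rw [LinearMap.lTensor_tmul, kerCotangentToTensor_toCotangent]
    show a • (((1 : C) • L' (r (KaehlerDifferential.map A A B B' (D A B j))))) = _
    rw [KaehlerDifferential.map_D, one_smul,
      show r (D A B' (algebraMap B B' j)) = _ from hr (Algebra.idealMap B' K ⟨j, hj⟩)]
    show a • L (Algebra.idealMap B' K ⟨j, hj⟩) = _
    rw [hL]
    show a • ((1 : p.ResidueField) ⊗ₜ[B] K.toCotangent ⟨j, hj⟩) = _
    rw [TensorProduct.smul_tmul', smul_eq_mul, mul_one]


/-- Let B be a Noetherian A-algebra formally smooth for the discrete topologies, B → C a surjection with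
kernel J, p a prime of C and q its contraction to A. Then C_p is formally smooth over A_q (A_q
discrete, C_p with the adic topology of its maximal ideal) if and only if κ(p) ⊗ J/J² → κ(p) ⊗ (C
⊗_B Ω_{B/A}) is injective. (The equivalent variant with the q-adic topology on A_q is not stated.) -/
theorem result {A B C : Type u} [CommRing A]
    [CommRing B] [CommRing C] [Algebra A B] [Algebra B C] [Algebra A C] [IsScalarTower A B C] [IsNoetherianRing B]
    [Algebra.FormallySmooth A B] (hsurj : Function.Surjective (algebraMap B C)) (p : Ideal C) [p.IsPrime]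
    [Algebra (Localization.AtPrime (p.comap (algebraMap A C))) (Localization.AtPrime p)]
    [IsScalarTower A (Localization.AtPrime (p.comap (algebraMap A C))) (Localization.AtPrime p)] :
    CAlgX.IsAdicFormallySmooth (Localization.AtPrime (p.comap (algebraMap A C))) (Localization.AtPrime p)
        (maximalIdeal (Localization.AtPrime p)) ↔
      Function.Injective ((kerCotangentToTensor A B C).lTensor p.ResidueField) := by
  constructor
  · intro h
    exact injective_of_isAdicFormallySmooth hsurj p
      (isAdicFormallySmooth_base (p.comap (algebraMap A C)).primeCompl _ h)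
  · intro h
    haveI := formallySmooth_of_injective (A := A) hsurj p h
    haveI : Algebra.FormallySmooth (Localization.AtPrime (p.comap (algebraMap A C))) (Localization.AtPrime p) :=
      Algebra.FormallySmooth.localization_base (R := A) (p.comap (algebraMap A C)).primeCompl
    intro E _ _ N hN ψ _
    exact Algebra.FormallySmooth.exists_lift N ⟨2, hN⟩ ψ

end Groth.Agent.S4606
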