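import Groth.Statements.S4578
import Groth.Agent.S2463
import Groth.Agent.S4606
import Groth.Agent.Ega41Exist.Geometric

set_option autoImplicit false
universe u
open IsLocalRing
open EGA41

namespace Groth.Agent.S4578

/-- Discrete, adic formal smoothness and geometric regularity agree at a prime. -/
theorem aux {k₀ k C : Type u} [Field k₀] [Field k] [Algebra k₀ k] [Algebra.FormallySmooth k₀ k]
    [CommRing C] [Algebra k C] [Algebra k₀ C] [IsScalarTower k₀ k C] [Algebra.FiniteType k C]
    (p : Ideal C) [p.IsPrime] :
    [Algebra.FormallySmooth k₀ (Localization.AtPrime p),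
     CAlgX.IsAdicFormallySmooth k₀ (Localization.AtPrime p) (IsLocalRing.maximalIdeal (Localization.AtPrime p)),
     ∃ f : C, f ∉ p ∧ Algebra.FormallySmooth k₀ (Localization.Away f),
     CAlg.IsGeometricallyRegular k₀ (Localization.AtPrime p)].TFAE := by
  have : IsNoetherianRing C := Algebra.FiniteType.isNoetherianRing k C
  obtain ⟨n, π, hπ⟩ := Algebra.FiniteType.iff_quotient_mvPolynomial''.mp ‹Algebra.FiniteType k C›
  let B := MvPolynomial (Fin n) k
  let : Algebra B C := π.toRingHom.toAlgebra
  have : IsScalarTower k₀ B C := IsScalarTower.of_algebraMap_eq fun a => by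
    rw [RingHom.algebraMap_toAlgebra, IsScalarTower.algebraMap_apply k₀ k B,
      IsScalarTower.algebraMap_apply k₀ k C]
    exact (π.commutes _).symm
  have : Algebra.FormallySmooth k₀ B := Algebra.FormallySmooth.comp k₀ k B
  have : Module.Finite B (RingHom.ker (algebraMap B C)) := inferInstance
  have : Module.Finite B (RingHom.ker (algebraMap B C)).Cotangent :=
    Module.Finite.of_surjective _ (Ideal.toCotangent_surjective _)
  have h63 := Groth.Agent.S2463.result (A := k₀) (B := B) (C := C) hπ p
  tfae_have 1 → 2 := fun h _ _ _ J hJ ψ _ => Algebra.FormallySmooth.exists_lift J ⟨2, hJ⟩ ψ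
  tfae_have 2 → 1 := by
    intro h
    let p₀ := p.comap (algebraMap k₀ C)
    let : Algebra (Localization.AtPrime p₀) (Localization.AtPrime p) :=
      (Localization.localRingHom p₀ p (algebraMap k₀ C) rfl).toAlgebra
    have : IsScalarTower k₀ (Localization.AtPrime p₀) (Localization.AtPrime p) :=
      IsScalarTower.of_algebraMap_eq fun a => by
        rw [RingHom.algebraMap_toAlgebra, Localization.localRingHom_to_map,
          IsScalarTower.algebraMap_apply k₀ C (Localization.AtPrime p)]
    have h' : CAlgX.IsAdicFormallySmooth (Localization.AtPrime p₀) (Localization.AtPrime p)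
        (IsLocalRing.maximalIdeal (Localization.AtPrime p)) := by
      intro E _ _ J hJ ψ hψ
      let : Algebra k₀ E := ((algebraMap (Localization.AtPrime p₀) E).comp
        (algebraMap k₀ (Localization.AtPrime p₀))).toAlgebra
      have : IsScalarTower k₀ (Localization.AtPrime p₀) E := IsScalarTower.of_algebraMap_eq fun _ => rfl
      obtain ⟨χ, hχ⟩ := h E J hJ (ψ.restrictScalars k₀) hψ
      refine ⟨{ χ.toRingHom with commutes' := fun x => RingHom.congr_fun (?_ :
        χ.toRingHom.comp (algebraMap (Localization.AtPrime p₀) (Localization.AtPrime p)) =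
          algebraMap (Localization.AtPrime p₀) E) x }, AlgHom.ext fun y => AlgHom.congr_fun hχ y⟩
      refine IsLocalization.ringHom_ext p₀.primeCompl (RingHom.ext fun a => ?_)
      simp only [RingHom.comp_apply, ← IsScalarTower.algebraMap_apply]
      exact χ.commutes a
    exact (h63.out 0 1).mpr ((Groth.Agent.S4606.result (A := k₀) (B := B) (C := C) hπ p).mp h')
  tfae_have 1 ↔ 3 := h63.out 0 2
  tfae_have 2 → 4 := fun h k' _ _ _ => Groth.Ega41Exist.isRegularRing_tensor_finite h
  tfae_have 4 → 2 := fun h => by
    obtain ⟨e, _⟩ := ExpChar.exists k₀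
    exact (Groth.Ega41Exist.isAdicFormallySmooth_iff_regular_baseChange e).mpr fun k' _ _ hf _ => h k' hf
  tfae_finish

/-- Let k₀ be a field, k an extension field of k₀ which is separable (formally smooth) over k₀, C a
k-algebra of finite type and p a prime ideal of C. The following are equivalent: C_p is formally
smooth over k₀ (discrete topologies); C_p is formally smooth over k₀ for the adic topology of its
maximal ideal; C_f is formally smooth over k₀ for some f ∉ p; C_p is geometrically regular over k₀.
(The published statement adds that the set of primes p having these properties is open in Spec C;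
that openness is not stated here.) -/
theorem result {k₀ k C : Type u} [Field k₀] [Field k] [Algebra k₀ k]
    [Algebra.FormallySmooth k₀ k] [CommRing C] [Algebra k C] [Algebra k₀ C] [IsScalarTower k₀ k C]
    [Algebra.FiniteType k C]
    (p : Ideal C) [p.IsPrime] :
    [Algebra.FormallySmooth k₀ (Localization.AtPrime p),
     CAlgX.IsAdicFormallySmooth k₀ (Localization.AtPrime p) (maximalIdeal (Localization.AtPrime p)),
     ∃ f : C, f ∉ p ∧ Algebra.FormallySmooth k₀ (Localization.Away f),
     CAlg.IsGeometricallyRegular k₀ (Localization.AtPrime p)].TFAE := by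
  exact aux (k := k) p

end Groth.Agent.S4578
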