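import Groth.Statements.S7606
import Groth.Agent.VarietyBC.Reduced
import Groth.Agent.Calg4.GeomRegularCrit
import Groth.Agent.S2672

set_option autoImplicit false
universe u
open CategoryTheory CategoryTheory.Limits AlgebraicGeometry
attribute [local instance] Curv2.stalkAlgebra
open Variety

namespace Groth.Agent.S7606

open TensorProduct

set_option backward.isDefEq.respectTransparency false

theorem aux (k : Type u) [Field k] (X : Scheme.{u}) [X.Over (Spec (CommRingCat.of k))] (x : X)
    [IsNoetherianRing (X.presheaf.stalk x)] (K : Type u) [Field K] [Algebra k K] [Module.Finite k K]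
    (h : ∀ x' : Curv2.bc k X K, Curv2.bcFst k X K x' = x →
      IsRegularLocalRing ((Curv2.bc k X K).presheaf.stalk x')) :
    IsRegularRing (X.presheaf.stalk x ⊗[k] K) := by
  let S := X.presheaf.stalk x
  have : IsNoetherianRing (S ⊗[k] K) := IsNoetherianRing.of_finite S (S ⊗[k] K)
  refine Groth.Calg4.isRegularRing_of_forall_exists_localization fun P _ => ?_
  obtain ⟨M, hM, hPM⟩ := P.exists_le_maximal (Ideal.IsPrime.ne_top ‹_›)
  have hmax : (M.comap (algebraMap S (S ⊗[k] K))).IsMaximal := Ideal.isMaximal_comap_of_isIntegral_of_isMaximal M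
  let P' : Spec (CommRingCat.of (X.presheaf.stalk x ⊗[k] K)) := ⟨M, hM.isPrime⟩
  have hx : Curv2.bcFst k X K (Groth.VarietyBC.tensorTo K (Groth.VarietyBC.overSpec_stalk (k := k) x) P') = x := by
    rw [Groth.VarietyBC.tensorTo_fst_apply]
    have : Spec.map (CommRingCat.ofHom Algebra.TensorProduct.includeLeftRingHom) P' =
        IsLocalRing.closedPoint S :=
      PrimeSpectrum.ext (IsLocalRing.eq_maximalIdeal hmax)
    rw [this]
    exact Scheme.fromSpecStalk_closedPoint
  have : IsPreimmersion (X.fromSpecStalk x) := inferInstance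
  have := Groth.VarietyBC.flat_fromSpecStalk X x
  obtain ⟨e⟩ := Groth.VarietyBC.nonempty_stalkEquiv_tensorTo K (Groth.VarietyBC.overSpec_stalk (k := k) x) P'
  have := h _ hx
  have : IsRegularLocalRing (Localization.AtPrime M) := IsRegularLocalRing.of_ringEquiv e
  have : IsRegularRing (Localization.AtPrime M) := isRegularRing_iff.mpr fun q _ =>
    Groth.Ega4Algebra1.isRegularLocalRing_localization_atPrime _ q
  refine ⟨M.primeCompl, Localization.AtPrime M, inferInstance, inferInstance, inferInstance, ?_, inferInstance⟩
  exact Set.disjoint_left.mpr fun a ha ha' => ha (hPM ha')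

/-- Let X be a locally Noetherian scheme over a field k and x a point of X. These conditions are
equivalent: (1) the scheme X is geometrically regular at x; (2) whenever k'/k is finite and purely
inseparable, the local ring O_{X_{k'}, x'} is regular at each point x' of X_{k'} lying over x; (3)
the local ring O_{X, x} is geometrically regular over k (k' ⊗_k O_{X, x} is a regular ring for every
finite extension k' of k). Stated as (1) ↔ (2) together with (2) ↔ (3). -/
theorem result (k : Type u) [Field k] (X : Scheme.{u}) [X.Over (Spec (CommRingCat.of k))] [IsLocallyNoetherian X] (x : ↥X) :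
    (Curv2.IsGeomRegularAt k X x ↔
      ∀ (k' : Type u) [Field k'] [Algebra k k'] [FiniteDimensional k k'] [IsPurelyInseparable k k'] (x' : ↥(Curv2.bc k X k')),
        Curv2.bcFst k X k' x' = x → IsRegularLocalRing ↥((Curv2.bc k X k').presheaf.stalk x')) ∧
    ((∀ (k' : Type u) [Field k'] [Algebra k k'] [FiniteDimensional k k'] [IsPurelyInseparable k k'] (x' : ↥(Curv2.bc k X k')),
        Curv2.bcFst k X k' x' = x → IsRegularLocalRing ↥((Curv2.bc k X k').presheaf.stalk x')) ↔
      CAlg.IsGeometricallyRegular k ↥(X.presheaf.stalk x)) := by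
  have h12 : Curv2.IsGeomRegularAt k X x → ∀ (k' : Type u) [Field k'] [Algebra k k']
      [FiniteDimensional k k'] [IsPurelyInseparable k k'] (x' : ↥(Curv2.bc k X k')),
      Curv2.bcFst k X k' x' = x → IsRegularLocalRing ↥((Curv2.bc k X k').presheaf.stalk x') :=
    fun h k' _ _ _ _ x' hx' => h k' (IntermediateField.fg_of_noetherian _) x' hx'
  have h23 : (∀ (k' : Type u) [Field k'] [Algebra k k'] [FiniteDimensional k k'] [IsPurelyInseparable k k']
      (x' : ↥(Curv2.bc k X k')),
      Curv2.bcFst k X k' x' = x → IsRegularLocalRing ↥((Curv2.bc k X k').presheaf.stalk x')) →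
      CAlg.IsGeometricallyRegular k ↥(X.presheaf.stalk x) := fun h =>
    (Groth.Agent.S2672.result k ↥(X.presheaf.stalk x)).1.mpr fun K _ _ hfin hpi =>
      have := aux k X x K (h K)
      IsRegularRing.of_ringEquiv (Algebra.TensorProduct.comm k _ K).toRingEquiv
  have h31 : CAlg.IsGeometricallyRegular k ↥(X.presheaf.stalk x) → Curv2.IsGeomRegularAt k X x := by
    intro h K _ _ hK x' hx'
    have : Algebra.EssFiniteType k K :=
      have : Algebra.EssFiniteType k (⊤ : IntermediateField k K) := IntermediateField.essFiniteType_iff.mpr hK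
      Algebra.EssFiniteType.of_surjective (IntermediateField.topEquiv (F := k) (E := K)).toAlgHom
        (IntermediateField.topEquiv (F := k) (E := K)).surjective
    have : IsRegularRing (K ⊗[k] ↥(X.presheaf.stalk x)) :=
      Groth.Calg4.isRegularRing_tensor_of_isGeometricallyRegular h K
    have : IsRegularRing (↥(X.presheaf.stalk x) ⊗[k] K) :=
      IsRegularRing.of_ringEquiv (Algebra.TensorProduct.comm k K _).toRingEquiv
    obtain ⟨P, -, ⟨e⟩⟩ := Groth.VarietyBC.exists_stalkEquiv K x x' (specializes_of_eq hx')
    have := isRegularRing_iff.mp (inferInstance : IsRegularRing (↥(X.presheaf.stalk x) ⊗[k] K)) P.asIdeal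
    exact IsRegularLocalRing.of_ringEquiv e.symm
  exact ⟨⟨h12, fun h => h31 (h23 h)⟩, ⟨h23, fun h => h12 (h31 h)⟩⟩

end Groth.Agent.S7606
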