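import Groth.Statements.S1562
import Groth.Agent.S7606
import Groth.Agent.S4578
import Groth.Agent.VarietyBC.SmoothChart
import Groth.Agent.Calg4.GeomRegular

set_option autoImplicit false
universe u
open CategoryTheory CategoryTheory.Limits AlgebraicGeometry
open Variety

namespace Groth.Agent.S1562

/-- Let X be locally of finite type over a field k and x a point of X. Then X is geometrically regular
at x (regular local rings at all points over x after every finitely generated field extension) if
and only if x lies in the smooth locus of X → Spec k. -/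
theorem result (k : Type u) [Field k] (X : Scheme.{u}) [X.Over (Spec (CommRingCat.of k))] [LocallyOfFinitePresentation (X ↘ (Spec (CommRingCat.of k)))] (x : X) :
    Curv2.IsGeomRegularAt k X x ↔ x ∈ (X ↘ (Spec (CommRingCat.of k))).smoothLocus := by
  have : IsLocallyNoetherian X := LocallyOfFiniteType.isLocallyNoetherian (X ↘ (Spec (CommRingCat.of k)))
  obtain ⟨h12, h23⟩ := Groth.Agent.S7606.result k X x
  rw [h12.trans h23]
  obtain ⟨_, ⟨U, hU, rfl⟩, hx, -⟩ := X.isBasis_affineOpens.exists_subset_of_mem_open
    (Set.mem_univ x) isOpen_univ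
  letI := (Groth.VarietyBC.openMap (k := k) hU).toAlgebra
  letI := Curv2.stalkAlgebra k X x
  haveI := Groth.VarietyBC.finiteType_openMap (k := k) hU
  obtain ⟨e⟩ := Groth.VarietyBC.nonempty_stalkAlgEquiv (k := k) hU hx
  have htfae := (Groth.Agent.S4578.result (k₀ := k) (k := k) (hU.primeIdealOf ⟨x, hx⟩).asIdeal).out 0 3
  rw [Groth.VarietyBC.mem_smoothLocus_iff hU hx]
  exact ⟨fun h => htfae.mpr (Groth.Calg4.isGeometricallyRegular_of_algEquiv e.symm h),
    fun h => Groth.Calg4.isGeometricallyRegular_of_algEquiv e (htfae.mp h)⟩

end Groth.Agent.S1562
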