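import Groth.Statements.S1545
import Groth.Agent.VarietyBC.Reduced

set_option backward.isDefEq.respectTransparency false

set_option autoImplicit false
universe u
open CategoryTheory CategoryTheory.Limits AlgebraicGeometry
open Variety

namespace Groth.Agent.S1545

open Groth.VarietyBC


/-- For a field extension k' of k, a point x of X and a point x' of X_{k'} over x, X is geometrically
reduced at x if and only if X_{k'} is geometrically reduced at x' (over k'). -/
theorem result (k : Type u) [Field k] (X : Scheme.{u}) [X.Over (Spec (CommRingCat.of k))] (k' : Type u) [Field k'] [Algebra k k']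
    (x : X) (x' : Curv2.bc k X k') (hx : Curv2.bcFst k X k' x' = x) :
    Curv2.IsGeomReducedAt k X x ↔
      @Curv2.IsGeomReducedAt k' _ (Curv2.bc k X k') ⟨Curv2.bcSnd k X k'⟩ x' := by
  letI : (Curv2.bc k X k').Over (Spec (CommRingCat.of k')) := ⟨Curv2.bcSnd k X k'⟩
  constructor
  · intro h K _ _ x'' hx''
    let : Algebra k K := Algebra.compHom K (algebraMap k k')
    have : IsScalarTower k k' K := .of_algebraMap_eq fun _ => rfl
    let e := towerIso (k := k) (X := X) (K := k') (L := K)
    have he : Curv2.bcFst k X K (e.hom x'') = x := by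
      rw [← hx, ← hx'', ← Scheme.Hom.comp_apply, ← Scheme.Hom.comp_apply]
      exact congr($(towerIso_hom_fst (k := k) (X := X) (K := k') (L := K)) x'')
    have := h K (e.hom x'') he
    exact isReduced_of_injective (inv (e.hom.stalkMap x'')).hom
      (ConcreteCategory.bijective_of_isIso (inv (e.hom.stalkMap x''))).1
  · intro h K _ _ y hy
    obtain ⟨Ω, _, _, i, j, ω, hy', hx'⟩ := exists_common_extension (K := K) (L := k') y x' (hy.trans hx.symm)
    let : Algebra k' Ω := j.toRingHom.toAlgebra
    have : IsScalarTower k k' Ω := .of_algebraMap_eq fun c => (j.commutes c).symm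
    let e := towerIso (k := k) (X := X) (K := k') (L := Ω)
    have hω : e.hom (e.inv ω) = ω := by rw [← Scheme.Hom.comp_apply, Iso.inv_hom_id]; rfl
    have hz : Curv2.bcFst k' (Curv2.bc k X k') Ω (e.inv ω) = x' := by
      rw [← hx', ← towerIso_hom_bcMap (k := k) (X := X) (K := k') (L := Ω), Scheme.Hom.comp_apply, hω]
      rfl
    have := h Ω (e.inv ω) hz
    have : IsReduced ((Curv2.bc k X Ω).presheaf.stalk ω) :=
      isReduced_stalk_of_flat e.hom (e.inv ω) hω
    have := flat_bcMap (X := X) i
    exact isReduced_stalk_of_flat (bcMap i) ω hy'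

end Groth.Agent.S1545
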