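import Groth.Statements.S10494
import Groth.Agent.AlgSp3.ImmersionImage
import Groth.Agent.AlgSpBasic.AlgSpace
-- import your own Groth.Agent.* helpers here

set_option autoImplicit false
set_option backward.isDefEq.respectTransparency.types false
universe u
open CategoryTheory CategoryTheory.Limits AlgebraicGeometry Topology TopologicalSpace
open AlgSp

namespace Groth.Agent.S10494

/-- Let X be an integral algebraic space over a scheme S. Then Γ(X, O_X) is a domain. -/
theorem result {S : Scheme.{u}} (X : AlgSp.Space S)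
    (hX : AlgSp.IsIntegralSp X.obj) : IsDomain ↥(AlgSp.gsectEt (AlgSp.OEt X.obj)) := by
  obtain ⟨hred, -, hirr⟩ := hX
  have hA := X.property
  set π : ∀ E : AlgSp.EtOver X.obj, ↥(AlgSp.gsectEt (AlgSp.OEt X.obj)) → Γ(E.obj.left.left, ⊤) :=
    fun E s => (limit.π (AlgSp.OEt X.obj).obj (Opposite.op E) s).down with hπ
  have hnat : ∀ {E E' : AlgSp.EtOver X.obj} (g : E ⟶ E') (s), π E s = g.hom.left.left.appTop.hom (π E' s) := by
    intro E E' g s
    have h := ConcreteCategory.congr_hom (limit.w (AlgSp.OEt X.obj).obj g.op) s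
    exact (congrArg ULift.down h).symm
  have hinv : ∀ (E E' : AlgSp.EtOver X.obj) (s) (v : ↥E.obj.left.left) (v' : ↥E'.obj.left.left),
      AlgSp.Points.ofPt E.obj.hom v = AlgSp.Points.ofPt E'.obj.hom v' →
      (v ∈ E.obj.left.left.basicOpen (π E s) ↔ v' ∈ E'.obj.left.left.basicOpen (π E' s)) := by
    intro E E' s v v' h
    obtain ⟨M, m, n, sq⟩ := Groth.AlgSpBasic.exists_pullback_of_diag hA.diag E.obj.hom E'.obj.hom
    obtain ⟨w, rfl, rfl⟩ := (Groth.AlgSpBasic.ofPt_eq_ofPt_iff sq v v').1 h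
    have hM : AlgSp.RepWith @Etale ((AlgSp.yon S).map m ≫ E.obj.hom) :=
      Groth.AlgSpBasic.repWith_comp (Groth.AlgSpBasic.repWith_of_isPullback sq.flip E'.property) E.property
    let P := AlgSp.EtOver.mk _ hM
    let g : P ⟶ E := AlgSp.EtOver.homMk m rfl
    let g' : P ⟶ E' := AlgSp.EtOver.homMk n sq.w.symm
    have e₁ := hnat g s
    have e₂ := hnat g' s
    change w ∈ g.hom.left.left ⁻¹ᵁ E.obj.left.left.basicOpen (π E s) ↔
      w ∈ g'.hom.left.left ⁻¹ᵁ E'.obj.left.left.basicOpen (π E' s)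
    rw [Scheme.preimage_basicOpen_top, Scheme.preimage_basicOpen_top]
    exact (congrArg (fun r => w ∈ P.obj.left.left.basicOpen r) (e₁.symm.trans e₂)).to_iff
  obtain ⟨U, a, ha, hs⟩ := hA.atlas
  let A := AlgSp.EtOver.mk a ha
  have hzero : ∀ s, AlgSp.Points.ofPt a '' (U.left.basicOpen (π A s) : Set ↥U.left) = ∅ → s = 0 := by
    intro s h
    refine Limits.Concrete.limit_ext _ _ _ fun j => ?_
    obtain ⟨E⟩ := j
    rw [map_zero]
    refine ULift.ext _ _ ?_
    change π E s = 0
    have := Groth.AlgSp3.isReduced_etale_chart hA hred E.property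
    refine (basicOpen_eq_bot_iff _).1 (eq_bot_iff.2 fun v hv => ?_)
    obtain ⟨z, hz⟩ := Groth.AlgSpBasic.surjective_ofPt_of_repWith hs (AlgSp.Points.ofPt E.obj.hom v)
    exact (h.le ⟨z, (hinv E A s v z hz.symm).1 hv, rfl⟩).elim
  have hnt : Nontrivial ↥(AlgSp.gsectEt (AlgSp.OEt X.obj)) := by
    obtain ⟨x⟩ := hirr.toNonempty
    obtain ⟨z, -⟩ := Groth.AlgSpBasic.surjective_ofPt_of_repWith hs x
    have : Nonempty ↥(⊤ : U.left.Opens) := ⟨⟨z, trivial⟩⟩
    have : Nontrivial Γ(U.left, ⊤) := @Scheme.component_nontrivial U.left ⊤ this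
    have : Nontrivial ↥((AlgSp.OEt X.obj).obj.obj (Opposite.op A)) :=
      (inferInstance : Nontrivial (ULift.{u + 1} Γ(U.left, ⊤)))
    exact (limit.π (AlgSp.OEt X.obj).obj (Opposite.op A)).hom.domain_nontrivial
  have hnz : NoZeroDivisors ↥(AlgSp.gsectEt (AlgSp.OEt X.obj)) := ⟨fun {s t} hst => by
    by_contra hne
    rw [not_or] at hne
    have ho := fun r => Groth.AlgSpBasic.isOpenMap_ofPt_of_etale ha _ (U.left.basicOpen (π A r)).2
    have hn := fun r (hr : r ≠ 0) => Set.nonempty_iff_ne_empty.2 fun h => hr (hzero r h)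
    obtain ⟨_, ⟨z, hz, rfl⟩, z', hz', e⟩ :=
      nonempty_preirreducible_inter (ho s) (ho t) (hn s hne.1) (hn t hne.2)
    have hz'' : z ∈ U.left.basicOpen (π A t) := (hinv A A t z' z e).1 hz'
    have hm : z ∈ U.left.basicOpen (π A s * π A t) := by
      rw [Scheme.basicOpen_mul]
      exact ⟨hz, hz''⟩
    have : π A s * π A t = 0 := by
      rw [hπ]
      show (limit.π (AlgSp.OEt X.obj).obj (Opposite.op A) s * limit.π (AlgSp.OEt X.obj).obj (Opposite.op A) t).down = 0
      rw [← map_mul, hst, map_zero]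
      rfl
    rw [this, Scheme.basicOpen_zero] at hm
    exact hm.elim⟩
  exact @NoZeroDivisors.to_isDomain _ _ hnt hnz

end Groth.Agent.S10494
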