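import Groth.Statements.S10482
import Groth.Agent.AlgSp3.DimFacts
import Groth.Agent.AlgSp2.FiniteImage
-- import your own Groth.Agent.* helpers here

set_option autoImplicit false
set_option backward.isDefEq.respectTransparency.types false
universe u
open CategoryTheory CategoryTheory.Limits AlgebraicGeometry Topology TopologicalSpace
open AlgSp

namespace Groth.Agent.S10482

/-- (1) ⇔ (2): let k be a field and X an algebraic space over k. Then X is locally quasi-finite over k
if and only if X is locally of finite type over k of dimension at most 0. (The published statement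
says dimension 0; dimension at most 0 is used so that the empty space, whose dimension is the bottom
element, is covered by both sides.) -/
theorem result (k : Type u) [Field k] (X : AlgSp.Space (Spec (CommRingCat.of k))) (p : X.obj ⟶ (AlgSp.yon (Spec (CommRingCat.of k))).obj (Over.mk (𝟙 _))) :
    AlgSp.LocP (@LocallyQuasiFinite ⊓ @LocallyOfFiniteType : MorphismProperty Scheme.{u}) p ↔ AlgSp.LocP @LocallyOfFiniteType p ∧ AlgSp.dim X.obj ≤ 0 := by
  obtain ⟨U, a, ha, has⟩ := X.property.atlas
  obtain ⟨h, hh⟩ := (AlgSp.yon (Spec (CommRingCat.of k))).map_surjective (a ≫ p)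
  have comm : a ≫ p = (AlgSp.yon (Spec (CommRingCat.of k))).map h ≫ 𝟙 _ := by
    rw [hh, Category.comp_id]
  have hb : AlgSp.RepWith @Etale (𝟙 ((AlgSp.yon (Spec (CommRingCat.of k))).obj (Over.mk (𝟙 _)))) :=
    AlgSp.repWith_id _ _
  have : IsLocallyArtinian (Over.mk (𝟙 (Spec (CommRingCat.of k)))).left :=
    inferInstanceAs (IsLocallyArtinian (Spec (CommRingCat.of k)))
  rw [Groth.AlgSp3.dim_eq_of_chart X.property ha has]
  constructor
  · intro hq
    obtain ⟨h1, h2⟩ := hq a (𝟙 _) h ha hb comm
    refine ⟨fun U V a b h x y z => (hq a b h x y z).2, ?_⟩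
    have := h1
    have : IsLocallyArtinian U.left := IsLocallyArtinian.of_locallyQuasiFinite h.left
    have : DiscreteTopology ↥U.left := inferInstance
    exact topologicalKrullDim_zero_of_discreteTopology _
  · rintro ⟨hl, hd⟩
    have : LocallyOfFiniteType h.left := hl a (𝟙 _) h ha hb comm
    have : IsLocallyNoetherian U.left := LocallyOfFiniteType.isLocallyNoetherian h.left
    have : IsLocallyArtinian U.left := IsLocallyArtinian.of_topologicalKrullDim_le_zero hd
    have : DiscreteTopology ↥U.left := inferInstance
    refine Groth.AlgSpBasic.locP_of_chart X.property.diag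
      (AlgSp.IsAlgSpace.yon_obj _).diag ha has hb comm ⟨?_, ‹_›⟩
    exact locallyQuasiFinite_iff_isDiscrete_preimage_singleton.2 fun v =>
      isDiscrete_iff_discreteTopology.2 inferInstance

end Groth.Agent.S10482
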