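import Groth.Statements.S9821
import Mathlib
import Groth.Agent.Variety2.Normal

set_option autoImplicit false
universe u
open CategoryTheory CategoryTheory.Limits AlgebraicGeometry TopologicalSpace Opposite
open Props

namespace Groth.Agent.S9821

/-- An integral scheme is normal if and only if the coordinate ring of every nonempty affine open is an
integrally closed domain. -/
theorem result (X : Scheme.{u}) [IsIntegral X] :
    Pi1.IsNormalScheme X ↔ ∀ (U : X.Opens) [Nonempty U], IsAffineOpen U → IsIntegrallyClosed Γ(X, U) := by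
  refine ⟨fun h U _ _ => Groth.Variety2.isIntegrallyClosed_Γ (fun x => (h x).2) U, fun h x => ?_⟩
  obtain ⟨U, hU, hxU, -⟩ := TopologicalSpace.Opens.isBasis_iff_nbhd.mp X.isBasis_affineOpens
    (TopologicalSpace.Opens.mem_top x)
  haveI : Nonempty U := ⟨⟨x, hxU⟩⟩
  letI := TopCat.Presheaf.algebra_section_stalk X.presheaf ⟨x, hxU⟩
  haveI := IsAffineOpen.isLocalization_stalk hU ⟨x, hxU⟩
  haveI := h U hU
  refine ⟨inferInstance, isIntegrallyClosed_of_isLocalization (R := Γ(X, U)) (S := X.presheaf.stalk x)
    (IsAffineOpen.primeIdealOf hU ⟨x, hxU⟩).asIdeal.primeCompl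
    (Ideal.primeCompl_le_nonZeroDivisors _)⟩

end Groth.Agent.S9821
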