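import Groth.Statements.S9454
import Mathlib
import Groth.Agent.Calg5.SplitCover

set_option autoImplicit false
universe u
open CAlg

namespace Groth.Agent.S9454

/-- For an étale ring map R → S which is surjective on spectra there is a finite, finitely presented,
flat R-algebra S' with Spec S' → Spec R surjective such that, Zariski locally on S', the structure
map factors through S: every prime q' of S' has some g' ∉ q' and an R-algebra map S → S'_{g'}. -/
theorem result (R : Type u) [CommRing R]
    (S : Type u) [CommRing S] [Algebra R S] [Algebra.Etale R S]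
    (hs : Function.Surjective (PrimeSpectrum.comap (algebraMap R S))) :
    ∃ (S' : Type u) (_ : CommRing S') (_ : Algebra R S'),
      Module.Finite R S' ∧ Algebra.FinitePresentation R S' ∧ Module.Flat R S' ∧
        Function.Surjective (PrimeSpectrum.comap (algebraMap R S')) ∧
        ∀ (q' : Ideal S') [q'.IsPrime], ∃ (g' : S') (_ : g' ∉ q'),
          Nonempty (S →ₐ[R] Localization.Away g') := by
  classical
  have key : ∀ Q : PrimeSpectrum S, ∃ f, f ∉ Q.asIdeal ∧ Algebra.IsStandardEtale R (Localization.Away f) :=
    fun Q => Algebra.IsEtaleAt.exists_isStandardEtale (R := R) Q.asIdeal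
  choose f hf hstd using key
  obtain ⟨T, hT⟩ := (isCompact_univ (X := PrimeSpectrum S)).elim_finite_subcover
    (fun Q => (PrimeSpectrum.basicOpen (f Q) : Set (PrimeSpectrum S))) (fun Q => (PrimeSpectrum.basicOpen (f Q)).isOpen)
    (fun Q _ => Set.mem_iUnion.2 ⟨Q, hf Q⟩)
  let P : ∀ Q, StandardEtalePresentation R (Localization.Away (f Q)) := fun Q =>
    (hstd Q).nonempty_standardEtalePresentation.some
  obtain ⟨S', _, _, h1, h2, h3, h4⟩ := Groth.Calg5.SplitCover.exists_split_list R (T.toList.map fun Q => (P Q).f)
    (by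
      intro g hg
      obtain ⟨Q, -, rfl⟩ := List.mem_map.1 hg
      exact (P Q).monic_f)
  refine ⟨S', inferInstance, inferInstance, h1, ?_, inferInstance, ?_, ?_⟩
  · haveI : Module.FinitePresentation R S' := Module.finitePresentation_of_projective R S'
    infer_instance
  · exact PrimeSpectrum.comap_surjective_iff_injective_of_finite.2 h3
  intro q' _
  obtain ⟨q, hq⟩ := hs ⟨q'.comap (algebraMap R S'), inferInstance⟩
  obtain ⟨Q, hQT, hqQ⟩ := Set.mem_iUnion₂.1 (hT (Set.mem_univ q))
  let g := f Q
  have hd : Disjoint (Submonoid.powers g : Set S) q.asIdeal := by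
    rw [Set.disjoint_left]
    rintro _ ⟨n, rfl⟩ hn
    exact hqQ (q.isPrime.mem_of_pow_mem n hn)
  let q₁ : Ideal (Localization.Away g) := q.asIdeal.map (algebraMap S _)
  haveI : q₁.IsPrime := IsLocalization.isPrime_of_isPrime_disjoint (Submonoid.powers g) _ q.asIdeal q.isPrime hd
  obtain ⟨s, hs'⟩ := h4 (P Q).f (List.mem_map.2 ⟨Q, Finset.mem_toList.2 hQT, rfl⟩)
  have hu : q'.under R = q₁.under R := by
    have e : (q₁.comap (algebraMap S (Localization.Away g))) = q.asIdeal :=
      IsLocalization.under_map_of_isPrime_disjoint (Submonoid.powers g) _ q.isPrime hd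
    show q'.comap (algebraMap R S') = q₁.comap (algebraMap R _)
    rw [IsScalarTower.algebraMap_eq R S (Localization.Away g), ← Ideal.comap_comap, e]
    exact (congrArg PrimeSpectrum.asIdeal hq).symm
  obtain ⟨g', hg', φ, -⟩ := Groth.Calg5.SplitCover.exists_lift (P Q) s hs' q₁ q' hu
  exact ⟨g', hg', ⟨φ.comp (IsScalarTower.toAlgHom R S (Localization.Away g))⟩⟩

end Groth.Agent.S9454
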