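import Groth.Statements.S0395
import Groth.Agent.FlatMorOne.FlatnessCriteria

set_option autoImplicit false
universe u
open FlatMor

namespace Groth.Agent.S0395

open TensorProduct nonZeroDivisors in
/-- For a flat local homomorphism R → S of Noetherian local rings and an element f of S that is regular
on the fibre ring S/mS, the quotient of S by f is again R-flat and f is regular on S. -/
theorem result {R S : Type u} [CommRing R] [CommRing S] [IsLocalRing R] [IsLocalRing S] [IsNoetherianRing R] [IsNoetherianRing S] [Algebra R S] [IsLocalHom (algebraMap R S)] [Module.Flat R S]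
    (f : S) (hf : Ideal.Quotient.mk ((IsLocalRing.maximalIdeal R).map (algebraMap R S)) f ∈ nonZeroDivisors (S ⧸ ((IsLocalRing.maximalIdeal R).map (algebraMap R S)))) :
    Module.Flat R (S ⧸ Ideal.span {f}) ∧ f ∈ nonZeroDivisors S := by
  let mR := IsLocalRing.maximalIdeal R
  let u : S →ₗ[R] S := (LinearMap.lsmul S S f).restrictScalars R
  have hu : Function.Injective (u.lTensor (IsLocalRing.ResidueField R)) := by
    let e : (IsLocalRing.ResidueField R) ⊗[R] S ≃ₗ[R] S ⧸ (mR • (⊤ : Submodule R S)) :=
      TensorProduct.quotTensorEquivQuotSMul S mR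
    rw [injective_iff_map_eq_zero]
    intro z hz
    obtain ⟨s, rfl⟩ : ∃ s, (1 : IsLocalRing.ResidueField R) ⊗ₜ[R] s = z :=
      TensorProduct.mk_surjective R S _ IsLocalRing.residue_surjective z
    have h0 : ∀ x : S, (1 : IsLocalRing.ResidueField R) ⊗ₜ[R] x = 0 ↔
        x ∈ mR.map (algebraMap R S) := fun x => by
      have h1 : (1 : IsLocalRing.ResidueField R) ⊗ₜ[R] x = 0 ↔ x ∈ mR • (⊤ : Submodule R S) := by
        rw [← LinearMap.ker_tensorProductMk, LinearMap.mem_ker]; rfl
      rw [h1, Ideal.smul_top_eq_map]; rfl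
    rw [LinearMap.lTensor_tmul, h0] at hz
    rw [h0, ← Ideal.Quotient.eq_zero_iff_mem]
    refine mem_nonZeroDivisors_iff.mp hf |>.1 _ ?_
    rw [← map_mul, Ideal.Quotient.eq_zero_iff_mem]
    exact hz
  obtain ⟨hi, hq⟩ := Groth.FlatMorOne.injective_and_flat_coker S u hu
  refine ⟨?_, ?_⟩
  · refine @Module.Flat.of_linearEquiv R (S ⧸ LinearMap.range u) (S ⧸ Ideal.span {f}) _ _ _ _ _ hq ?_
    exact ((Submodule.quotEquivOfEq _ ((Ideal.span {f}).restrictScalars R) (by
      ext x
      simp [u, Ideal.mem_span_singleton', mul_comm f, eq_comm])).trans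
      (Submodule.Quotient.restrictScalarsEquiv R _)).symm
  · rw [mem_nonZeroDivisors_iff_right]
    intro x hx
    exact hi (show f * x = f * 0 by rw [mul_zero, mul_comm]; exact hx)

end Groth.Agent.S0395
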