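import Groth.Statements.S9598
import Mathlib.RingTheory.Ideal.AssociatedPrime.Finiteness
import Mathlib.RingTheory.Jacobson.Ring
import Mathlib.RingTheory.FiniteType
import Mathlib.RingTheory.KrullDimension.Zero
import Mathlib.RingTheory.KrullDimension.Basic
import Mathlib.Tactic

set_option autoImplicit false
universe u
open CAlg

namespace Groth.Agent.S9598

/-- For a field k and a finite type k-algebra S with dim S > 0, some element of S is a nonzerodivisor
and a nonunit. -/
theorem result {k S : Type u} [Field k] [CommRing S] [Algebra k S] [Algebra.FiniteType k S] (hdim : 0 < ringKrullDim S) :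
    ∃ f : S, f ∈ nonZeroDivisors S ∧ ¬ IsUnit f := by
  have hN : IsNoetherianRing S := Algebra.FiniteType.isNoetherianRing k S
  have hJ : IsJacobsonRing S := isJacobsonRing_of_finiteType (A := k) (B := S)
  by_contra hc
  push Not at hc
  have hne : Nontrivial S := by
    by_contra hsub
    rw [not_nontrivial_iff_subsingleton] at hsub
    rw [ringKrullDim_eq_bot_of_subsingleton] at hdim
    exact not_lt_bot hdim
  have hfin : (associatedPrimes S S).Finite := associatedPrimes.finite S S
  have hmax : ∀ m : Ideal S, m.IsMaximal → m ∈ associatedPrimes S S := by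
    intro m hm
    have hsub : (m : Set S) ⊆ ⋃ q ∈ (↑hfin.toFinset : Set (Ideal S)), (q : Set S) := by
      intro x hx
      rw [hfin.coe_toFinset, biUnion_associatedPrimes_eq_compl_nonZeroDivisors]
      exact fun hx' => hm.ne_top (Ideal.eq_top_of_isUnit_mem _ hx (hc x hx'))
    obtain ⟨q, hq, hle⟩ := (Ideal.subset_union_prime ⊥ ⊥ (fun q hq _ _ =>
      IsAssociatedPrime.isPrime (hfin.mem_toFinset.mp hq))).mp hsub
    have hq' := hfin.mem_toFinset.mp hq
    rwa [hm.eq_of_le (IsAssociatedPrime.isPrime hq').ne_top hle]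
  have hprime : ∀ P : Ideal S, P.IsPrime → P.IsMaximal := by
    intro P hP
    have hset : {m : Ideal S | P ≤ m ∧ m.IsMaximal}.Finite :=
      hfin.subset fun m hm => hmax m hm.2
    have hPJ : P = hset.toFinset.inf id := by
      rw [Finset.inf_id_eq_sInf, hset.coe_toFinset]
      exact (isJacobsonRing_iff_prime_eq.mp hJ P hP).symm
    obtain ⟨m, hm, hmle⟩ := (hP.inf_le' (s := hset.toFinset) (f := id)).mp hPJ.ge
    obtain ⟨hPm, hmmax⟩ := hset.mem_toFinset.mp hm
    rwa [le_antisymm hPm hmle]
  have : Ring.KrullDimLE 0 S := Ring.KrullDimLE.mk₀ hprime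
  rw [Ring.krullDimLE_iff] at this
  exact absurd (lt_of_lt_of_le hdim this) (lt_irrefl _)

end Groth.Agent.S9598
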