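import Groth.Statements.S9432
import Groth.Agent.Calg4.QuasiFiniteSection

set_option autoImplicit false
universe u
open CAlg

namespace Groth.Agent.S9432


open TensorProduct Groth.FlatMorOne in
/-- A quasi-finite flat algebra of finite presentation under `S` through a given prime. -/
theorem exists_point (R : Type u) [CommRing R] (S : Type u) [CommRing S] [Algebra R S]
    [Module.FaithfullyFlat R S] [Algebra.FinitePresentation R S] (p : PrimeSpectrum R) :
    ∃ (S' : Type u) (_ : CommRing S') (_ : Algebra R S'),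
      Algebra.FinitePresentation R S' ∧ Module.Flat R S' ∧ Algebra.QuasiFinite R S' ∧
        p ∈ Set.range (PrimeSpectrum.comap (algebraMap R S')) ∧ Nonempty (S →ₐ[R] S') := by
  obtain ⟨R₀, hR₀, S₀, _, _, _, _, hS₀, hpush, -⟩ := exists_models R S S
  have : IsNoetherianRing R₀ := Algebra.FiniteType.isNoetherianRing ℤ R₀
  obtain ⟨A, hA, hflatA⟩ := exists_stage_flat_global (R₀ := R₀) (R := R) (S₀ := S₀) (S := S)
    (M₀ := S₀) (M := S) (IsBaseChange.linearMap S₀ S)
  have : IsNoetherianRing A := isNoetherianRing_of_fg hA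
  let T := SOf R₀ S₀ A
  let : Algebra S₀ T := Algebra.TensorProduct.rightAlgebra
  have : Module.Flat A T := by
    have := hflatA A hA le_rfl
    let f : MOf R₀ S₀ S₀ A →+ T := (TensorProduct.rid S₀ T).toLinearMap.toAddMonoidHom
    refine Module.Flat.of_linearEquiv (LinearEquiv.ofBijective
      ({ f with map_smul' := fun a x => ?_ } : MOf R₀ S₀ S₀ A →ₗ[A] T)
      (TensorProduct.rid S₀ T).bijective).symm
    show TensorProduct.rid S₀ T (a • x) = a • TensorProduct.rid S₀ T x
    induction x using TensorProduct.induction_on with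
    | zero => simp
    | tmul y s => simp [smul_tmul', smul_comm a s]
    | add y z hy hz => simp only [smul_add, map_add, hy, hz]
  let σ : T →ₐ[R₀] S := Algebra.TensorProduct.lift
    (((Algebra.ofId R S).restrictScalars R₀).comp A.val) (IsScalarTower.toAlgHom R₀ S₀ S)
    fun _ _ => .all _ _
  obtain ⟨Q, rfl⟩ := PrimeSpectrum.comap_surjective_of_faithfullyFlat (B := S) p
  let p₀ := (Q.comap (algebraMap R S)).comap (algebraMap A R)
  have hQ₀ : (Q.comap σ.toRingHom).comap (algebraMap A T) = p₀ := by
    show _ = PrimeSpectrum.comap (algebraMap A R) _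
    rw [← PrimeSpectrum.comap_comp_apply, ← PrimeSpectrum.comap_comp_apply]
    refine congrArg (fun f => PrimeSpectrum.comap f Q) (RingHom.ext fun a => ?_)
    simp [σ, T]
  have : Nontrivial (p₀.asIdeal.Fiber T) :=
    (PrimeSpectrum.preimageEquivFiber A T p₀ ⟨Q.comap σ.toRingHom, hQ₀⟩).nontrivial
  obtain ⟨T', _, _, hft, hfl, hqf, hnt, ⟨χ⟩⟩ := Groth.Calg4.exists_quasiFinite_flat_point' p₀ T
  let : Algebra R₀ T' := ((algebraMap A T').comp (algebraMap R₀ A)).toAlgebra
  have : IsScalarTower R₀ A T' := IsScalarTower.of_algebraMap_eq fun _ => rfl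
  have : Algebra.FinitePresentation A T' := Algebra.FinitePresentation.of_finiteType.mp hft
  set p := Q.comap (algebraMap R S)
  have hne : p ∈ Set.range (PrimeSpectrum.comap (algebraMap R (R ⊗[A] T'))) := by
    let φ : p₀.asIdeal.ResidueField →+* p.asIdeal.ResidueField :=
      Ideal.ResidueField.map p₀.asIdeal p.asIdeal (algebraMap A R) rfl
    let : Algebra p₀.asIdeal.ResidueField p.asIdeal.ResidueField := φ.toAlgebra
    have : IsScalarTower A p₀.asIdeal.ResidueField p.asIdeal.ResidueField :=
      IsScalarTower.of_algebraMap_eq fun a => (Ideal.ResidueField.map_algebraMap _ _ _ rfl a).symm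
    have h1 : Nontrivial (p.asIdeal.ResidueField ⊗[p₀.asIdeal.ResidueField] p₀.asIdeal.Fiber T') :=
      inferInstance
    let e1 := (Algebra.TensorProduct.cancelBaseChange A p₀.asIdeal.ResidueField
      p.asIdeal.ResidueField p.asIdeal.ResidueField T').toEquiv
    let e2 := (Algebra.TensorProduct.cancelBaseChange A R
      p.asIdeal.ResidueField p.asIdeal.ResidueField T').toEquiv
    have : Nontrivial (p.asIdeal.Fiber (R ⊗[A] T')) := (e1.trans e2.symm).symm.nontrivial
    obtain ⟨P⟩ := (inferInstance : Nonempty (PrimeSpectrum (p.asIdeal.Fiber (R ⊗[A] T'))))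
    exact ⟨_, ((PrimeSpectrum.preimageEquivFiber R (R ⊗[A] T') p).symm P).2⟩
  let ι : T' →ₐ[R₀] R ⊗[A] T' :=
    { (Algebra.TensorProduct.includeRight : T' →ₐ[A] R ⊗[A] T').toRingHom with
      commutes' := fun r =>
        ((Algebra.TensorProduct.includeRight : T' →ₐ[A] R ⊗[A] T').commutes
          (algebraMap R₀ A r)).trans rfl }
  let ψ : R ⊗[R₀] S₀ →ₐ[R] R ⊗[A] T' := Algebra.TensorProduct.lift (Algebra.ofId R _)
    (ι.comp (((χ.restrictScalars R₀)).comp (Algebra.TensorProduct.includeRight : S₀ →ₐ[R₀] T)))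
    fun _ _ => .all _ _
  exact ⟨R ⊗[A] T', inferInstance, inferInstance, inferInstance, inferInstance, inferInstance, hne,
    ⟨ψ.comp (Algebra.IsPushout.equiv R₀ R S₀ S).symm.toAlgHom⟩⟩

/-- For a faithfully flat ring map R → S of finite presentation there is a quasi-finite (of finite type
with finite fibres), faithfully flat, finitely presented R-algebra S' together with an R-algebra map
S → S'. -/
theorem result (R : Type u) [CommRing R]
    (S : Type u) [CommRing S] [Algebra R S] [Module.FaithfullyFlat R S]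
    [Algebra.FinitePresentation R S] :
    ∃ (S' : Type u) (_ : CommRing S') (_ : Algebra R S'),
      Algebra.QuasiFinite R S' ∧ Algebra.FiniteType R S' ∧ Module.FaithfullyFlat R S' ∧
        Algebra.FinitePresentation R S' ∧ Nonempty (S →ₐ[R] S') := by
  classical
  have key : ∀ p : PrimeSpectrum R, ∃ (S' : Type u) (_ : CommRing S') (_ : Algebra R S'),
      Algebra.FinitePresentation R S' ∧ Module.Flat R S' ∧ Algebra.QuasiFinite R S' ∧
        p ∈ Set.range (PrimeSpectrum.comap (algebraMap R S')) ∧ Nonempty (S →ₐ[R] S') :=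
    exists_point R S
  choose T hT1 hT2 hfp hfl hqf hp hφ using key
  obtain ⟨t, ht⟩ := isCompact_univ.elim_finite_subcover
    (fun p => Set.range (PrimeSpectrum.comap (algebraMap R (T p))))
    (fun p => (PrimeSpectrum.isOpenMap_comap_of_hasGoingDown_of_finitePresentation
      (R := R) (S := T p)).isOpen_range) (fun p _ => Set.mem_iUnion.mpr ⟨p, hp p⟩)
  let S' := ∀ p : t, T p
  have hflat : Module.Flat R S' := Module.Flat.of_linearEquiv
    (DirectSum.linearEquivFunOnFintype R t (fun p => T p)).symm
  have hfp' : Algebra.FinitePresentation R S' := inferInstance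
  have : Algebra.FiniteType R S' := inferInstance
  have hrange : ∀ x : PrimeSpectrum R, x ∈ Set.range (PrimeSpectrum.comap (algebraMap R S')) := by
    intro x
    obtain ⟨p, hpt, Q, rfl⟩ := Set.mem_iUnion₂.mp (ht (Set.mem_univ x))
    exact ⟨Q.comap (Pi.evalRingHom (fun p : t => T p) ⟨p, hpt⟩), by
      rw [← PrimeSpectrum.comap_comp_apply]; rfl⟩
  refine ⟨S', inferInstance, inferInstance, ?_, inferInstance,
    Module.FaithfullyFlat.of_comap_surjective hrange, hfp',
    ⟨AlgHom.pi fun p => (hφ p).some⟩⟩
  rw [Algebra.QuasiFinite.iff_finite_comap_preimage_singleton]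
  intro x
  refine Set.Finite.subset (Set.finite_iUnion fun p : t => (Algebra.QuasiFinite.finite_comap_preimage_singleton
    (R := R) (S := T p) x).image (PrimeSpectrum.comap (Pi.evalRingHom (fun p : t => T p) p))) ?_
  intro Q hQ
  obtain ⟨p, P, rfl⟩ := PrimeSpectrum.exists_comap_evalRingHom_eq Q
  refine Set.mem_iUnion.mpr ⟨p, P, ?_, rfl⟩
  rw [Set.mem_preimage, Set.mem_singleton_iff] at hQ ⊢
  rw [← hQ, ← PrimeSpectrum.comap_comp_apply]
  rfl

end Groth.Agent.S9432
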