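import Groth.Statements.S7190
import Groth.Agent.LocImm.FppfRefine
-- import your own Groth.Agent.* helpers here

set_option autoImplicit false
universe w u
open FlatMor

namespace Groth.Agent.S7190


open AlgebraicGeometry CategoryTheory Limits in
/-- An fppf covering {T_i → T} of schemes (flat, locally of finite presentation, jointly surjective) is
a ph covering. -/
theorem result {T : Scheme.{u}} (E : PreZeroHypercover.{w} T)
    (hflat : ∀ i, Flat (E.f i)) (hfp : ∀ i, LocallyOfFinitePresentation (E.f i))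
    (hsurj : ∀ t : T, ∃ (i : E.I₀) (x : E.X i), E.f i x = t) : HTop.IsPhCover E := by
  refine ⟨fun i => have := hfp i; inferInstance, fun U => ?_⟩
  have : CompactSpace (U.1 : Scheme.{u}) := isCompact_iff_compactSpace.mp U.2.isCompact
  have : IsAffine (U.1 : Scheme.{u}) := U.2
  obtain ⟨V, g, _, _, _, hlift⟩ := Groth.LocImmersion.FppfRefine.exists_single E hflat hfp hsurj
  obtain ⟨Y, π, hs, hf, hp, hl⟩ :=
    Groth.LocImmersion.FppfDominate.exists_dominating_fppf (pullback.snd g U.1.ι)
  have hl' : ∀ y, Groth.LocImmersion.EtaleDominate.Lifts g (π ≫ U.1.ι) y := fun y =>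
    Groth.LocImmersion.FppfDominate.lifts_of_lifts_pullback g U.1.ι π y (hl y)
  choose O i h hO hy heq using fun y => hlift Y (π ≫ U.1.ι) y (hl' y)
  have : CompactSpace Y := QuasiCompact.compactSpace_of_compactSpace π
  obtain ⟨t, ht⟩ := isCompact_univ.elim_finite_subcover (fun y => (O y : Set Y)) (fun y => (O y).2)
    (fun y _ => Set.mem_iUnion.mpr ⟨y, hy y⟩)
  let σ : Fin t.card → Y := fun k => (t.equivFin.symm k).1
  refine ⟨⟨Fin t.card, fun k => (O (σ k) : Scheme.{u}), fun k => (O (σ k)).ι ≫ π⟩,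
    ⟨U.2, inferInstanceAs (Finite (Fin t.card)), fun k => hO (σ k),
      ⟨Y, π, fun k => (O (σ k)).ι, inferInstance, hs, fun k => inferInstance, fun k => rfl,
        fun y => ?_⟩⟩, fun k => ⟨i (σ k), h (σ k), ?_⟩⟩
  · obtain ⟨z, hz, hyz⟩ := Set.mem_iUnion₂.mp (ht (Set.mem_univ y))
    refine ⟨t.equivFin ⟨z, hz⟩, ⟨y, ?_⟩, rfl⟩
    simpa [σ] using hyz
  · exact (heq (σ k)).trans (Category.assoc _ _ _).symm

end Groth.Agent.S7190
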