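import Groth.Statements.S3432
import Groth.Agent.Calg2.IsolatedPoint
import Groth.Agent.S7547


set_option autoImplicit false
open CategoryTheory AlgebraicGeometry
universe u
open EGA43

namespace Groth.Agent.S3432

/-- Let X be a locally Noetherian scheme and Y a closed subset of X such that every nonempty closed
subset of X meets Y. Then the open subscheme X ∖ Y (equivalently, the subspace X ∖ Y) is a Jacobson
space. -/
theorem result (X : Scheme.{u}) [IsLocallyNoetherian X] (Y : Set X)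
    (hY : IsClosed Y) (hmeet : ∀ Z : Set X, IsClosed Z → Z.Nonempty → (Z ∩ Y).Nonempty) :
    JacobsonSpace ↥(Yᶜ) := by
  let U : X.Opens := ⟨Yᶜ, hY.isOpen_compl⟩
  change JacobsonSpace U.toScheme
  by_contra hJ
  obtain ⟨x, hxcl, hxlc⟩ := Groth.Agent.S7547.result hJ
  have hne : ∃ y : U.toScheme, x ⤳ y ∧ y ≠ x := by
    by_contra H
    push Not at H
    refine hxcl ?_
    have h1 : closure ({x} : Set U.toScheme) = {x} := by
      refine Set.Subset.antisymm (fun y hy => ?_) subset_closure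
      exact H y (specializes_iff_mem_closure.2 hy)
    exact h1 ▸ isClosed_closure
  obtain ⟨y, hxy, hyx⟩ := hne
  obtain ⟨z, hz, hzY⟩ := hmeet (closure {U.ι y}) isClosed_closure ⟨_, subset_closure rfl⟩
  have hxy' : U.ι x ⤳ U.ι y := hxy.map U.ι.continuous
  have hyz : U.ι y ⤳ z := specializes_iff_mem_closure.2 hz
  have hyzne : U.ι y ≠ z := fun h => y.2 (h ▸ hzY : U.ι y ∈ Y)
  have hxyne : U.ι x ≠ U.ι y := fun h => hyx (U.ι.isOpenEmbedding.injective h).symm
  have hxlc' : IsLocallyClosed ({U.ι x} : Set X) := by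
    rw [← Set.image_singleton]
    exact hxlc.image U.ι.isOpenEmbedding.isInducing U.ι.isOpenEmbedding.isOpen_range.isLocallyClosed
  obtain ⟨W, hW, hzW, -⟩ :=
    AlgebraicGeometry.exists_isAffineOpen_mem_and_subset (U := ⊤) (Set.mem_univ z)
  have hyW : U.ι y ∈ W := hyz.mem_open W.isOpen hzW
  have hxW : U.ι x ∈ W := hxy'.mem_open W.isOpen hyW
  obtain ⟨p, hp, -, hd⟩ := Groth.Calg2.IsolatedPoint.krullDimLE_one hxlc' W hW hxW
  obtain ⟨q, hq⟩ : U.ι y ∈ Set.range hW.fromSpec := by rw [hW.range_fromSpec]; exact hyW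
  obtain ⟨r, hr⟩ : z ∈ Set.range hW.fromSpec := by rw [hW.range_fromSpec]; exact hzW
  have hpq := Groth.Calg2.IsolatedPoint.lt_of_specializes hW p q
    (by rw [hp, hq]; exact hxy') (by rw [hp, hq]; exact hxyne)
  have hqr := Groth.Calg2.IsolatedPoint.lt_of_specializes hW q r
    (by rw [hr, hq]; exact hyz) (by rw [hr, hq]; exact hyzne)
  let mk := Ideal.Quotient.mk p.asIdeal
  have hsurj : Function.Surjective mk := Ideal.Quotient.mk_surjective
  have hcm : ∀ I : Ideal Γ(X, W), p.asIdeal ≤ I → (I.map mk).comap mk = I := fun I hI => by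
    rw [Ideal.comap_map_of_surjective _ hsurj, ← RingHom.ker_eq_comap_bot, Ideal.mk_ker]
    exact sup_eq_left.2 hI
  have hQ : (q.asIdeal.map mk).IsPrime :=
    Ideal.map_isPrime_of_surjective hsurj (by rw [Ideal.mk_ker]; exact hpq.le)
  have hQne : q.asIdeal.map mk ≠ ⊥ := fun h => hpq.ne (by
    rw [← hcm _ hpq.le, h, ← RingHom.ker_eq_comap_bot, Ideal.mk_ker])
  have hmax := hQ.isMaximal_of_ne_bot hQne
  have hR : (r.asIdeal.map mk).IsPrime :=
    Ideal.map_isPrime_of_surjective hsurj (by rw [Ideal.mk_ker]; exact (hpq.trans hqr).le)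
  have := hmax.eq_of_le hR.ne_top (Ideal.map_mono hqr.le)
  exact hqr.ne (by rw [← hcm _ hpq.le, this, hcm _ (hpq.trans hqr).le])

end Groth.Agent.S3432
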