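import Groth.Statements.S3433
import Groth.Agent.Calg2.IsolatedPoint
import Groth.Agent.S7547
import Mathlib.RingTheory.KrullDimension.Field
import Groth.Agent.S3432


set_option autoImplicit false
universe u
open EGA43

namespace Groth.Agent.S3433

/-- Let A be a Noetherian local ring with maximal ideal m and let Y be the punctured spectrum Spec A ∖
{m}. Then Y is a Jacobson space, and a point p of Y is closed in Y if and only if dim A/p = 1. -/
theorem result (A : Type u) [CommRing A] [IsNoetherianRing A] [IsLocalRing A] :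
    JacobsonSpace ↥({IsLocalRing.closedPoint A}ᶜ : Set (PrimeSpectrum A)) ∧
      ∀ p : ↥({IsLocalRing.closedPoint A}ᶜ : Set (PrimeSpectrum A)),
        IsClosed ({p} : Set ↥({IsLocalRing.closedPoint A}ᶜ : Set (PrimeSpectrum A))) ↔
          ringKrullDim (A ⧸ p.1.asIdeal) = 1 := by
  refine ⟨Groth.Agent.S3432.result (AlgebraicGeometry.Spec (CommRingCat.of A)) {IsLocalRing.closedPoint A}
    (IsLocalRing.isClosed_singleton_closedPoint A) fun Z hZ ⟨z, hz⟩ => ⟨IsLocalRing.closedPoint A,
      (IsLocalRing.specializes_closedPoint z).mem_closed hZ hz, rfl⟩, fun p => ?_⟩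
  have hne : p.1.asIdeal ≠ IsLocalRing.maximalIdeal A := fun h => p.2 (PrimeSpectrum.ext h)
  have hle : p.1.asIdeal ≤ IsLocalRing.maximalIdeal A := IsLocalRing.le_maximalIdeal p.1.2.ne_top
  rw [show (ringKrullDim (A ⧸ p.1.asIdeal) = 1) ↔ Ring.KrullDimLE 1 (A ⧸ p.1.asIdeal) from ⟨fun h => by
    rw [Ring.krullDimLE_iff, h]; rfl, fun hd => ?_⟩]
  · rw [Ring.krullDimLE_one_iff_of_noZeroDivisors]
    constructor
    · intro hcl Q hQne hQ
      let q : PrimeSpectrum A := ⟨Q.comap (Ideal.Quotient.mk p.1.asIdeal), hQ.comap _⟩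
      have hpq : p.1.asIdeal ≤ q.asIdeal := fun x hx => by
        show Ideal.Quotient.mk p.1.asIdeal x ∈ Q
        rw [Ideal.Quotient.eq_zero_iff_mem.2 hx]
        exact Q.zero_mem
      by_cases hqm : q = IsLocalRing.closedPoint A
      · have h1 : q.asIdeal.IsMaximal := by rw [hqm]; exact IsLocalRing.maximalIdeal.isMaximal A
        have h2 := Ideal.map_eq_top_or_isMaximal_of_surjective (Ideal.Quotient.mk p.1.asIdeal)
          Ideal.Quotient.mk_surjective h1
        rw [show q.asIdeal.map (Ideal.Quotient.mk p.1.asIdeal) = Q from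
          Ideal.map_comap_of_surjective _ Ideal.Quotient.mk_surjective Q] at h2
        exact h2.resolve_left hQ.ne_top
      · have h1 : (⟨q, hqm⟩ : ↥({IsLocalRing.closedPoint A}ᶜ : Set (PrimeSpectrum A))) = p :=
          (show p ⤳ ⟨q, hqm⟩ from (subtype_specializes_iff _ _).2
            ((PrimeSpectrum.le_iff_specializes p.1 q).1 hpq)).mem_closed hcl rfl
        refine absurd ?_ hQne
        rw [← Ideal.map_comap_of_surjective _ Ideal.Quotient.mk_surjective Q,
          show Q.comap (Ideal.Quotient.mk p.1.asIdeal) = p.1.asIdeal from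
            congrArg (fun y => y.1.asIdeal) h1, Ideal.map_quotient_self]
    · intro H
      rw [← closure_eq_iff_isClosed]
      refine Set.Subset.antisymm (fun y hy => ?_) subset_closure
      have hpy : p.1.asIdeal ≤ y.1.asIdeal := (PrimeSpectrum.le_iff_specializes _ _).2
        ((subtype_specializes_iff _ _).1 (specializes_iff_mem_closure.2 hy))
      by_contra hyp
      have hlt : p.1.asIdeal < y.1.asIdeal :=
        lt_of_le_of_ne hpy fun h => hyp (Subtype.ext (PrimeSpectrum.ext h.symm))
      have hcm : (y.1.asIdeal.map (Ideal.Quotient.mk p.1.asIdeal)).comap (Ideal.Quotient.mk p.1.asIdeal) = y.1.asIdeal := by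
        rw [Ideal.comap_map_of_surjective _ Ideal.Quotient.mk_surjective, ← RingHom.ker_eq_comap_bot,
          Ideal.mk_ker]
        exact sup_eq_left.2 hpy
      have hY : (y.1.asIdeal.map (Ideal.Quotient.mk p.1.asIdeal)).IsPrime :=
        Ideal.map_isPrime_of_surjective Ideal.Quotient.mk_surjective (by rw [Ideal.mk_ker]; exact hpy)
      have hYne : y.1.asIdeal.map (Ideal.Quotient.mk p.1.asIdeal) ≠ ⊥ := fun h => hlt.ne (by
        rw [← hcm, h, ← RingHom.ker_eq_comap_bot, Ideal.mk_ker])
      have := H _ hYne hY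
      have hmax : y.1.asIdeal.IsMaximal := hcm ▸ Ideal.comap_isMaximal_of_surjective _ Ideal.Quotient.mk_surjective
      exact y.2 (PrimeSpectrum.ext (IsLocalRing.eq_maximalIdeal hmax))
  · refine le_antisymm (by exact_mod_cast (Ring.krullDimLE_iff (n := 1)).1 hd) ?_
    by_contra hlt
    have h0 : Ring.KrullDimLE 0 (A ⧸ p.1.asIdeal) := by
      rw [Ring.krullDimLE_iff, Nat.cast_zero]
      cases hd' : ringKrullDim (A ⧸ p.1.asIdeal) with
      | bot => exact bot_le
      | coe n =>
        rw [hd'] at hlt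
        have hn : n < 1 := by exact_mod_cast not_le.1 hlt
        rw [Order.lt_one_iff.1 hn]
        rfl
    have hF : IsField (A ⧸ p.1.asIdeal) := Ring.KrullDimLE.isField_of_isDomain
    exact hne (IsLocalRing.eq_maximalIdeal (Ideal.Quotient.maximal_of_isField _ hF))

end Groth.Agent.S3433
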