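import Groth.Statements.S9812
import Mathlib
-- import your own Groth.Agent.* helpers here

set_option autoImplicit false
universe u
open CAlg2

namespace Groth.Agent.S9812

/-- At the level of the local ring: an integrally closed local domain is geometrically unibranch.
Consequently a normal scheme is geometrically unibranch. -/
theorem result (A : Type u) [CommRing A] [IsLocalRing A]
    [IsDomain A] [IsIntegrallyClosed A] : CAlg2.IsGeomUnibranch A := by
  have hbij : Function.Bijective (Ideal.Quotient.mk (nilradical A)) :=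
    ⟨(RingHom.injective_iff_ker_eq_bot _).2 (by rw [Ideal.mk_ker]; exact nilradical_eq_zero A),
      Ideal.Quotient.mk_surjective⟩
  let e : A ≃+* CAlg2.red A := RingEquiv.ofBijective _ hbij
  have : IsDomain (CAlg2.red A) := e.symm.toMulEquiv.isDomain _
  have : IsIntegrallyClosed (CAlg2.red A) := IsIntegrallyClosed.of_equiv e
  have hs : Function.Surjective (algebraMap (CAlg2.red A) (CAlg2.normRed A)) := by
    rintro ⟨x, hx⟩
    obtain ⟨y, hy⟩ := IsIntegrallyClosed.isIntegral_iff.1 hx
    exact ⟨y, Subtype.ext hy⟩
  refine ⟨⟨inferInstance, ?_⟩, ?_⟩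
  · exact IsLocalRing.of_surjective' ((algebraMap (CAlg2.red A) (CAlg2.normRed A)).comp e.toRingHom)
      (hs.comp e.surjective)
  · intro m hm x
    obtain ⟨x, rfl⟩ := Ideal.Quotient.mk_surjective x
    obtain ⟨y, rfl⟩ := hs x
    obtain ⟨a, rfl⟩ := Ideal.Quotient.mk_surjective y
    exact ⟨0, a, by simp⟩

end Groth.Agent.S9812
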