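import Groth.Statements.S1683
import Groth.Agent.Divisors.EffCartierMore

set_option autoImplicit false
universe u
open CategoryTheory CategoryTheory.Limits AlgebraicGeometry TopologicalSpace
open SDiv

namespace Groth.Agent.S1683

/-- Let 𝓘, 𝓙 be quasi-coherent ideal sheaves on X, b : X' ⟶ X a blowing-up along 𝓘 and b' : X'' ⟶ X' a
blowing-up along the inverse image ideal of 𝓙. Then b' ≫ b : X'' ⟶ X is a blowing-up of X along the
product ideal 𝓘𝓙. -/
theorem result {X X' X'' : Scheme.{u}} (𝓘 𝓙 : X.IdealSheafData) (b : X' ⟶ X) (hb : BlowUp.IsBlowUp b 𝓘)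
    (b' : X'' ⟶ X') (hb' : BlowUp.IsBlowUp b' (𝓙.comap b)) : BlowUp.IsBlowUp (b' ≫ b) (𝓘 * 𝓙) := by
  refine ⟨?_, fun Y g hg => ?_⟩
  · rw [Groth.Divisors.comap_mul, Scheme.IdealSheafData.comap_comp, Scheme.IdealSheafData.comap_comp]
    exact Groth.Divisors.isEffCartierIdeal_mul
      (Groth.Divisors.isEffCartierIdeal_comap_blowUp hb' hb.1) hb'.1
  · rw [Groth.Divisors.comap_mul] at hg
    obtain ⟨hI, hJ⟩ := Groth.Divisors.isEffCartierIdeal_factors hg
    obtain ⟨h, hh, hu⟩ := hb.2 Y g hI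
    have hJ' : BlowUp.IsEffCartierIdeal ((𝓙.comap b).comap h) := by
      rw [← Scheme.IdealSheafData.comap_comp, hh]; exact hJ
    obtain ⟨h', hh', hu'⟩ := hb'.2 Y h hJ'
    refine ⟨h', by change _ ≫ _ = g; rw [← Category.assoc, hh', hh], fun k hk => hu' k (hu _ ?_)⟩
    change (k ≫ b') ≫ b = g
    rw [Category.assoc]; exact hk

end Groth.Agent.S1683
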