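import Groth.Statements.S12447
import Groth.Agent.PropsBasic.Catenary

set_option autoImplicit false
universe u
open CategoryTheory AlgebraicGeometry
open Props

namespace Groth.Agent.S12447

open Groth.PropsBasic.Cat

/-- Let S be a locally Noetherian scheme. Then the underlying topological space of S is catenary if and
only if locally in the Zariski topology there is a dimension function, i.e. every point has an open
neighbourhood U carrying a function δ : U → ℤ which strictly decreases along nontrivial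
specializations and drops by exactly one along immediate specializations. -/
theorem result (S : Scheme.{u}) [IsLocallyNoetherian S] :
    PtTop.IsCatenarySpace S ↔
      ∀ s : S, ∃ U : S.Opens, s ∈ U ∧ ∃ δ : U → ℤ, PtTop.IsDimensionFunction δ := by
  refine ⟨fun h s => ?_, fun h => ?_⟩
  · obtain ⟨U, hU, hsU, -⟩ := TopologicalSpace.Opens.isBasis_iff_nbhd.mp S.isBasis_affineOpens
      (TopologicalSpace.Opens.mem_top s)
    haveI : IsAffine (U : Scheme.{u}) := hU
    haveI : AlgebraicGeometry.IsNoetherian (U : Scheme.{u}) := ⟨⟩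
    have hUcat : PtTop.IsCatenarySpace (U : Scheme.{u}) :=
      Groth.SitesTopoi.isCatenarySpace_iff_local.2 h _ U.isOpen.isLocallyClosed
    obtain ⟨V, hsV, δ, hδ⟩ := exists_dimensionFunction (X := (U : Scheme.{u})) hUcat ⟨s, hsU⟩
    have hopen : IsOpen (Subtype.val '' (V : Set (U : Scheme.{u})) : Set S) :=
      U.isOpen.isOpenMap_subtype_val _ V.isOpen
    refine ⟨⟨_, hopen⟩, ⟨⟨s, hsU⟩, hsV, rfl⟩, ?_⟩
    have hm : ∀ x : (⟨_, hopen⟩ : S.Opens), (x : S) ∈ U ∧ ∀ h : (x : S) ∈ U, (⟨x, h⟩ : U) ∈ V :=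
      fun x => by
        obtain ⟨⟨y, hy⟩, hyV, e⟩ := x.2
        exact ⟨e ▸ hy, fun h => by
          have : (⟨x, h⟩ : U) = ⟨y, hy⟩ := Subtype.ext e.symm
          exact this ▸ hyV⟩
    let g : (⟨_, hopen⟩ : S.Opens) → V := fun x => ⟨⟨x, (hm x).1⟩, (hm x).2 _⟩
    have hg : ∀ x y, g x ⤳ g y ↔ x ⤳ y := fun x y => by
      erw [subtype_specializes_iff, subtype_specializes_iff, subtype_specializes_iff]
    refine ⟨fun x => δ (g x), fun x y hxy hne => hδ.1 _ _ ((hg x y).mpr hxy)
      (fun e => hne (Subtype.ext (congrArg (fun z : V => (z.1.1 : S)) e))),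
      fun x y hxy => hδ.2 _ _ ⟨(hg x y).mpr hxy.1,
        fun e => hxy.2.1 (Subtype.ext (congrArg (fun z : V => (z.1.1 : S)) e)), fun z h1 h2 => ?_⟩⟩
    obtain ⟨z', rfl⟩ : ∃ z', g z' = z := ⟨⟨z.1.1, ⟨z.1, z.2, rfl⟩⟩, rfl⟩
    exact (hxy.2.2 z' ((hg _ _).mp h1) ((hg _ _).mp h2)).imp (congrArg g) (congrArg g)
  · refine Groth.SitesTopoi.isCatenarySpace_iff_local.1.mpr fun s => ?_
    obtain ⟨U, hsU, δ, hδ⟩ := h s
    haveI : QuasiSober U := U.isOpenEmbedding'.quasiSober
    exact ⟨U, hsU, fun T T' hTT' => (@Groth.SitesTopoi.catAt_of_dimensionFunction U _ U.isOpenEmbedding'.quasiSober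
      (U.isOpenEmbedding'.isEmbedding.t0Space) δ hδ T T' hTT').1⟩

end Groth.Agent.S12447
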