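import Groth.Statements.S12459
import Groth.Agent.PropsBasic.Catenary

set_option autoImplicit false
universe u
open CategoryTheory AlgebraicGeometry
open Props

namespace Groth.Agent.S12459

open Groth.PropsBasic.Cat

/-- For a locally Noetherian scheme S, the scheme S is universally catenary — every scheme X locally of
finite type over S has catenary underlying topological space — if and only if all local rings
O_{S,s} are universally catenary rings. (Schemes X over S are taken in the universe of S.) -/
theorem result (S : Scheme.{u}) [IsLocallyNoetherian S] :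
    (∀ (X : Scheme.{u}) (f : X ⟶ S), LocallyOfFiniteType f → PtTop.IsCatenarySpace X) ↔
      ∀ s : S, CAlg.IsUniversallyCatenary (S.presheaf.stalk s) := by
  refine ⟨fun h s => ?_, fun h X f hf => ?_⟩
  · obtain ⟨U, hU, hsU, -⟩ := TopologicalSpace.Opens.isBasis_iff_nbhd.mp S.isBasis_affineOpens
      (TopologicalSpace.Opens.mem_top s)
    have hUC : CAlg.IsUniversallyCatenary Γ(S, U) := by
      refine ⟨IsLocallyNoetherian.component_noetherian ⟨U, hU⟩, fun A _ _ hA => ?_⟩
      let φ : Γ(S, U) ⟶ CommRingCat.of A := CommRingCat.ofHom (algebraMap Γ(S, U) A)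
      haveI : LocallyOfFiniteType (Spec.map φ) :=
        (HasRingHomProperty.Spec_iff (P := @LocallyOfFiniteType)).mpr
          (RingHom.finiteType_algebraMap.mpr hA)
      have := h (Spec (CommRingCat.of A)) (Spec.map φ ≫ hU.fromSpec)
        (MorphismProperty.comp_mem (W := @LocallyOfFiniteType) _ _ ‹_›
          (haveI := IsAffineOpen.isOpenImmersion_fromSpec hU; locallyOfFiniteType_of_isOpenImmersion _))
      exact (isCatenarySpace_primeSpectrum A).mp this
    letI := S.presheaf.algebra_section_stalk (U := U) ⟨s, hsU⟩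
    haveI := hU.isLocalization_stalk ⟨s, hsU⟩
    exact isUniversallyCatenary_atPrime (hU.primeIdealOf ⟨s, hsU⟩).asIdeal hUC _
  · refine isCatenarySpace_of_cover fun x => ?_
    obtain ⟨U, hU, hfxU, -⟩ := TopologicalSpace.Opens.isBasis_iff_nbhd.mp S.isBasis_affineOpens
      (TopologicalSpace.Opens.mem_top (f.base x))
    obtain ⟨V, hV, hxV, hVU⟩ := TopologicalSpace.Opens.isBasis_iff_nbhd.mp X.isBasis_affineOpens
      (show x ∈ f ⁻¹ᵁ U from hfxU)
    refine ⟨⟨V, hV⟩, hxV, ?_⟩
    haveI := IsLocallyNoetherian.component_noetherian ⟨U, hU⟩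
    have hUC : CAlg.IsUniversallyCatenary Γ(S, U) := by
      refine (Groth.Calg1.isUniversallyCatenary_iff_localization _).mpr fun m hm => ?_
      let y := hU.fromSpec ⟨m, hm.isPrime⟩
      have hyU : y ∈ U := by
        have : y ∈ Set.range hU.fromSpec := ⟨_, rfl⟩
        rwa [hU.range_fromSpec] at this
      letI := S.presheaf.algebra_section_stalk (U := U) ⟨y, hyU⟩
      haveI : IsLocalization m.primeCompl (S.presheaf.stalk y) :=
      hU.isLocalization_stalk' ⟨m, hm.isPrime⟩ hyU
      refine isUniversallyCatenary_congr (IsLocalization.algEquiv m.primeCompl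
        (S.presheaf.stalk y) (Localization.AtPrime m)).toRingEquiv (h y)
    letI := (f.appLE U V hVU).hom.toAlgebra
    exact hUC.2 Γ(X, V) (LocallyOfFiniteType.finiteType_appLE f hU hV hVU)

end Groth.Agent.S12459
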