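import Groth.Statements.S10727
import Groth.Agent.EtaleAlgebra.GlueDescent
import Mathlib.RingTheory.Localization.Module

set_option autoImplicit false
universe u
open TensorProduct
open EtAlg

namespace Groth.Agent.S10727

/-- Glueing affine schemes along a glueing pair, stated for their coordinate rings. Let `(R → R', f)` be
a glueing pair, `A₁` an `R`-algebra in which `f` is invertible, `A'` an `R'`-algebra and `φ : A'_f ≅
R' ⊗_R A₁` an isomorphism of `R'`-algebras. Then there is an `R`-algebra `A`, glueable as an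
`R`-module, with isomorphisms `A_f ≅ A₁` of `R`-algebras and `R' ⊗_R A ≅ A'` of `R'`-algebras under
which `φ` is the canonical identification `(R' ⊗_R A)_f = R' ⊗_R A_f`. (The published statement is
that base change is an equivalence between affine schemes over `Spec R` that are glueable and
triples of affine schemes over `Spec R_f`, `Spec R'_f`, `Spec R'` with cartesian squares; this row
states only that every such triple arises, on coordinate rings.) -/
theorem result (R : Type u) [CommRing R] (R' : Type u) [CommRing R'] [Algebra R R']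
    (f : R) (hRR' : EtGlue.IsGlueingPair R R' f) (A₁ : Type u) [CommRing A₁] [Algebra R A₁]
    (h₁ : IsUnit (algebraMap R A₁ f)) (A' : Type u) [CommRing A'] [Algebra R A'] [Algebra R' A']
    [IsScalarTower R R' A'] (φ : Localization.Away (algebraMap R A' f) ≃ₐ[R'] R' ⊗[R] A₁) :
    ∃ (A : Type u) (_ : CommRing A) (_ : Algebra R A) (_ : EtGlue.IsGlueable R R' f A)
      (e₁ : Localization.Away (algebraMap R A f) ≃ₐ[R] A₁) (e' : R' ⊗[R] A ≃ₐ[R'] A'),
      ∀ a : A, φ (algebraMap A' (Localization.Away (algebraMap R A' f)) (e' ((1 : R') ⊗ₜ[R] a))) =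
        (1 : R') ⊗ₜ[R] e₁ (algebraMap A (Localization.Away (algebraMap R A f)) a) := by
  let f' := algebraMap R A' f
  let g : A' →ₗ[R'] R' ⊗[R] A₁ :=
    φ.toLinearMap ∘ₗ (IsScalarTower.toAlgHom R' A' (Localization.Away f')).toLinearMap
  let gA : A' →ₐ[R] R' ⊗[R] A₁ :=
    (φ.toAlgHom.comp (IsScalarTower.toAlgHom R' A' (Localization.Away f'))).restrictScalars R
  let P₁ := AlgHom.fst R A' A₁
  let P₂ := AlgHom.snd R A' A₁
  let S : Subalgebra R (A' × A₁) :=
    AlgHom.equalizer (gA.comp P₁) (Algebra.TensorProduct.includeRight.comp P₂)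
  let p₁ : S →ₐ[R] A' := P₁.comp S.val
  let p₂ : S →ₐ[R] A₁ := P₂.comp S.val
  have hd : Groth.EtaleAlgebra.Glue.IsDatum f g p₁.toLinearMap p₂.toLinearMap := by
    refine ⟨?_, fun z => ?_, fun w hw => ?_, fun m h1 h2 => Subtype.ext (Prod.ext h1 h2),
      fun x y hxy => ⟨⟨(x, y), hxy⟩, rfl, rfl⟩, fun m => m.2⟩
    · obtain ⟨u, hu⟩ := h₁
      refine ⟨fun a b hab => ?_, fun b => ⟨(↑u⁻¹ : A₁) * b, ?_⟩⟩
      · simpa [Algebra.smul_def, ← hu] using hab
      · simp [Algebra.smul_def, ← hu]
    · obtain ⟨n, w, hw⟩ := IsLocalization.Away.surj f' (φ.symm z)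
      refine ⟨n, w, ?_⟩
      show f ^ n • z = φ (algebraMap A' (Localization.Away f') w)
      rw [← hw, map_mul, AlgEquiv.apply_symm_apply, Algebra.smul_def,
        map_pow, map_pow, mul_comm]
      congr 2
      rw [← IsScalarTower.algebraMap_apply R A' (Localization.Away f'),
        IsScalarTower.algebraMap_apply R R' (Localization.Away f'), AlgEquiv.commutes,
        ← IsScalarTower.algebraMap_apply]
    · obtain ⟨n, hn⟩ := Groth.EtaleAlgebra.Glue.away_eq_zero_iff.1 (φ.map_eq_zero_iff.1 hw)
      exact ⟨n, by rw [Algebra.smul_def, map_pow]; exact hn⟩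
  let : Algebra S A₁ := p₂.toRingHom.toAlgebra
  have : IsScalarTower R S A₁ := IsScalarTower.of_algebraMap_eq fun r => (p₂.commutes r).symm
  have hloc : IsLocalizedModule (Submonoid.powers f) (IsScalarTower.toAlgHom R S A₁).toLinearMap :=
    hd.isLocalizedModule
  have hL : IsLocalization.Away (algebraMap R S f) A₁ := by
    have := isLocalizedModule_iff_isLocalization.1 hloc
    rwa [Algebra.algebraMapSubmonoid_powers] at this
  let e₁ : Localization.Away (algebraMap R S f) ≃ₐ[R] A₁ :=
    (IsLocalization.algEquiv (Submonoid.powers (algebraMap R S f)) _ _).restrictScalars R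
  let ψ : R' ⊗[R] S →ₐ[R'] A' :=
    Algebra.TensorProduct.lift (Algebra.ofId R' A') p₁ (fun _ _ => Commute.all _ _)
  have hψ : ∀ z, ψ z = p₁.toLinearMap.liftBaseChange R' z := by
    intro z
    induction z with
    | zero => simp
    | tmul s m => simp [ψ, Algebra.smul_def]
    | add x y hx hy => simp only [map_add, hx, hy]
  have hbij : Function.Bijective ψ := by
    rw [show ⇑ψ = ⇑(p₁.toLinearMap.liftBaseChange R') from funext hψ]
    exact hd.bijective_liftBaseChange hRR'
  refine ⟨S, inferInstance, inferInstance, hd.isGlueable hRR', e₁, AlgEquiv.ofBijective ψ hbij, fun a => ?_⟩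
  have h2 : e₁ (algebraMap S (Localization.Away (algebraMap R S f)) a) = p₂ a :=
    (IsLocalization.algEquiv (Submonoid.powers (algebraMap R S f)) _ _).commutes a
  rw [h2, AlgEquiv.ofBijective_apply]
  simp only [ψ, Algebra.TensorProduct.lift_tmul, map_one, one_mul]
  exact hd.comp a

end Groth.Agent.S10727
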