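import Groth.Statements.S10721
import Groth.Agent.EtaleAlgebra.GlueMaps
import Mathlib.RingTheory.RingHom.Surjective
import Mathlib.RingTheory.RingHom.Finite
import Mathlib.RingTheory.RingHom.FiniteType

set_option autoImplicit false
universe u
open TensorProduct
open EtAlg
attribute [local instance] Algebra.TensorProduct.rightAlgebra

namespace Groth.Agent.S10721

/-- Glueing along a glueing pair detects closed immersions of affine schemes, stated for coordinate
rings. Let `(R → R', f)` be a glueing pair and `φ : A → B` a homomorphism of `R`-algebras with `A`,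
`B` glueable as `R`-modules (so `Spec A`, `Spec B` are affine and glueable over `Spec R`). Then `φ`
is surjective (a closed immersion on spectra) if and only if `A_f → B_f` and `R' ⊗_R A → R' ⊗_R B`
are surjective. -/
theorem result (R : Type u) [CommRing R] (R' : Type u) [CommRing R'] [Algebra R R'] (f : R)
    (hRR' : EtGlue.IsGlueingPair R R' f) (A B : Type u) [CommRing A] [Algebra R A] [CommRing B] [Algebra R B]
    (hA : EtGlue.IsGlueable R R' f A) (hB : EtGlue.IsGlueable R R' f B) (φ : A →ₐ[R] B) :
    Function.Surjective φ ↔
      Function.Surjective (Localization.awayMap φ.toRingHom (algebraMap R A f)) ∧ Function.Surjective (Algebra.TensorProduct.map (AlgHom.id R R') φ).toRingHom := by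
  let : Algebra A B := φ.toRingHom.toAlgebra
  have : IsScalarTower R A B := IsScalarTower.of_algebraMap_eq (fun r => (φ.commutes r).symm)
  have hφ : φ = IsScalarTower.toAlgHom R A B := AlgHom.ext fun _ => rfl
  have h1 := Groth.EtaleAlgebra.Glue.away_iff A B (P := fun {S T} [CommRing S] [CommRing T] (g : S →+* T) => Function.Surjective g) RingHom.surjective_respectsIso (algebraMap R A f)
  have h2 := Groth.EtaleAlgebra.Glue.map_iff (R := R) (R' := R') A B (P := fun {S T} [CommRing S] [CommRing T] (g : S →+* T) => Function.Surjective g) RingHom.surjective_respectsIso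
  rw [hφ, h2]
  erw [h1]
  exact ((Groth.EtaleAlgebra.Glue.surjective_iff (Groth.EtaleAlgebra.Glue.quotPow_algebra A hRR'.1) B)).trans and_comm

end Groth.Agent.S10721
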