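import Groth.Statements.S10103
import Groth.Agent.AlgSpFppf.QuotSpace

set_option autoImplicit false
set_option backward.isDefEq.respectTransparency false
set_option backward.isDefEq.respectTransparency.types false
universe u
open CategoryTheory CategoryTheory.Limits AlgebraicGeometry
open AlgSp

namespace Groth.Agent.S10103

/-- Let `s, t : R ⟶ U` be an equivalence relation of schemes over `S` (the case of a groupoid scheme
whose `j = (t, s)` is an equivalence relation; the composition is determined by it) with `s` and `t`
flat and locally of finite presentation. Then the fppf quotient sheaf `U/R` is an algebraic space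
over `S`. -/
theorem result (S : Scheme.{u}) {R U : Over S} (s t : R ⟶ U)
    (h : AlgSp.IsEqvRel s t) [Flat s.left] [LocallyOfFinitePresentation s.left]
    [Flat t.left] [LocallyOfFinitePresentation t.left] :
    AlgSp.IsAlgSpace (QuotSh.quot Scheme.fppfPrecoverage s t) := by
  have := Groth.AlgSpBasic.isLocallySurjective_yonQuotπ s t
  exact Groth.FppfBoot.isAlgSpace_of_fppf_cover (X := ⟨_, AlgSp.IsAlgSpace.yon_obj U⟩)
    (Groth.AlgSpFppf.repBySpWith_quotient (AlgSp.IsAlgSpace.yon_obj R) (AlgSp.IsAlgSpace.yon_obj U)
      (Groth.AlgSpFppf.isEqvRelSp_yon h)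
      (Groth.AlgSpBasic.locP_of_repWith ((AlgSp.repWith_yon_map_iff _ s).2 (inferInstance : Flat s.left)))
      (Groth.AlgSpBasic.locP_of_repWith
        ((AlgSp.repWith_yon_map_iff _ s).2 (inferInstance : LocallyOfFinitePresentation s.left)))
      (Groth.AlgSpBasic.isPullback_yonQuot h))

end Groth.Agent.S10103
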