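import Groth.Statements.S10033
import Groth.Agent.AlgSp2.Approx.IntegralApprox
-- import your own Groth.Agent.* helpers here

set_option autoImplicit false
set_option backward.isDefEq.respectTransparency.types false
universe u
open CategoryTheory CategoryTheory.Limits AlgebraicGeometry
open AlgSp

namespace Groth.Agent.S10033

/-- Let `Y` be an algebraic space, quasi-compact and quasi-separated over the scheme `S`, and `f : X ⟶
Y` an integral morphism from another algebraic space. Then `X` is the limit of a directed system of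
algebraic spaces `X_i`, each finite and of finite presentation over `Y` (limit in fppf sheaves,
indexed by a nonempty directed preorder, affine transition maps, compatible with `f`). (The
published statement allows any base scheme and uses absolute quasi-separatedness; this row assumes
the base quasi-separated, over which quasi-separatedness relative to the base is the absolute
notion.) -/
theorem result (S : Scheme.{u}) [QuasiSeparatedSpace S]
    {X Y : AlgSp.Space S} (f : X ⟶ Y) (hf : AlgSp.IsIntegralMor f.hom) (hYqc : AlgSp.IsQuasiCompactSp Y.obj) (hYqs : AlgSp.IsQuasiSeparatedSp Y.obj) :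
    ∃ (I : Type u) (_ : Preorder I) (_ : IsDirected I (fun a b => a ≤ b)) (_ : Nonempty I) (D : Iᵒᵖ ⥤ AlgSp.Sp S)
      (t : D ⟶ (Functor.const Iᵒᵖ).obj Y.obj) (c : Cone D) (_ : IsLimit c) (e : c.pt ≅ X.obj),
      (∀ i, AlgSp.IsAlgSpace (D.obj i)) ∧ (∀ (i j : Iᵒᵖ) (φ : i ⟶ j), AlgSp.IsAffineMor (D.map φ)) ∧
      (∀ i, AlgSp.IsFiniteMor (t.app i) ∧ AlgSp.IsFinitePresentationMor (t.app i)) ∧ (∀ i, e.inv ≫ c.π.app i ≫ t.app i = f.hom) := by
  have hE : IsAlgSpace (Groth.AlgSpBasic.openSub Y.obj ∅) :=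
    Groth.AlgSpBasic.isAlgSpace_openSub Y.property isOpen_empty
  have hjE := Groth.AlgSpBasic.repWith_openSubι (X := Y.obj) (W := ∅) isOpen_empty
  have hqc : AlgSp.IsQuasiCompactSp (Groth.AlgSpBasic.openSub Y.obj ∅) := by
    rw [Groth.AlgSpBasic.isQuasiCompactSp_iff_compactSpace hE]
    have : IsEmpty (AlgSp.Points (Groth.AlgSpBasic.openSub Y.obj ∅)) := ⟨fun x => by
      have hx : AlgSp.Points.map (Groth.AlgSpBasic.openSubι Y.obj ∅) x ∈
          Set.range (AlgSp.Points.map (Groth.AlgSpBasic.openSubι Y.obj ∅)) := ⟨x, rfl⟩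
      exact (Set.ext_iff.1 (Groth.AlgSpBasic.range_map_openSubι (X := Y.obj) (W := ∅)) _).1 hx⟩
    infer_instance
  have hempty : ∀ (W : Over S), ((yon S).obj W ⟶ Groth.AlgSpBasic.openSub Y.obj ∅) →
      IsEmpty ↥W.left := fun W g => ⟨fun t =>
    (Groth.AlgSpBasic.openSub_exists_lift_iff Y.obj ∅ (g ≫ Groth.AlgSpBasic.openSubι Y.obj ∅)).1
      ⟨g, rfl⟩ t⟩
  have : IsIso (pullback.snd f.hom (Groth.AlgSpBasic.openSubι Y.obj ∅)) := by
    refine Groth.AlgSp2.isIso_of_bijective_comp _ fun W => ⟨fun z z' _ => ?_, fun w₀ => ?_⟩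
    · have := hempty W (z ≫ pullback.snd _ _)
      have := Groth.AlgSp2.subsingleton_of_isEmpty (pullback f.hom (Groth.AlgSpBasic.openSubι Y.obj ∅)) W
      exact Groth.AlgSpBasic.yEquiv.injective (Subsingleton.elim _ _)
    · have := hempty W w₀
      have hbot := Groth.AlgSp2.bot_mem_of_isEmpty W
      have hs := ((isSheaf_iff_isSheaf_of_type _ _).1
        (pullback f.hom (Groth.AlgSpBasic.openSubι Y.obj ∅)).property) ⊥ hbot
      obtain ⟨x, -⟩ := hs (fun Z k hk => hk.elim) (fun _ _ _ _ _ _ _ hk => hk.elim)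
      refine ⟨Groth.AlgSpBasic.yEquiv.symm x, ?_⟩
      have := Groth.AlgSp2.subsingleton_of_isEmpty (Groth.AlgSpBasic.openSub Y.obj ∅) W
      exact Groth.AlgSpBasic.yEquiv.injective (Subsingleton.elim _ _)
  have hfin : AlgSp.IsFiniteMor (pullback.snd f.hom (Groth.AlgSpBasic.openSubι Y.obj ∅)) :=
    Groth.AlgSpBasic.affWith_of_repWith (fun _ _ k (_ : IsFinite k) => inferInstance)
      (Groth.AlgSpBasic.repWith_isIso (P := @IsFinite) _)
  have hfp : AlgSp.LocP @LocallyOfFinitePresentation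
      (pullback.snd f.hom (Groth.AlgSpBasic.openSubι Y.obj ∅)) :=
    Groth.AlgSpBasic.locP_of_repWith (Groth.AlgSpBasic.repWith_mono (P := @IsOpenImmersion)
      (fun _ _ k (_ : IsOpenImmersion k) => (inferInstance : LocallyOfFinitePresentation k))
      (Groth.AlgSpBasic.repWith_isIso _))
  obtain ⟨I, _, h₁, h₂, D, t, c, hc, e, a₁, a₂, a₃, a₄, -⟩ :=
    Groth.AlgSp2.Approx.exists_limit_integral X.property Y.property hYqc hYqs hf hE hjE hqc
      (IsPullback.of_hasPullback f.hom (Groth.AlgSpBasic.openSubι Y.obj ∅)) hfin hfp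
  exact ⟨I, _, h₁, h₂, D, t, c, hc, e, a₁, a₂, a₃, a₄⟩

end Groth.Agent.S10033
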