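import Groth.Statements.S10048
import Groth.Agent.AlgSp2.Approx.SchemeCover
import Groth.Agent.S10033
-- import your own Groth.Agent.* helpers here

set_option autoImplicit false
set_option backward.isDefEq.respectTransparency.types false
universe u
open CategoryTheory CategoryTheory.Limits AlgebraicGeometry
open AlgSp

namespace Groth.Agent.S10048

/-- Let `X` be an algebraic space, quasi-compact and quasi-separated over the scheme `S`, and `U ⟶ X` a
surjective etale morphism from a scheme. Then there are a scheme `Y` and a finite surjective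
morphism `Y ⟶ X` of finite presentation such that every point of `Y` has an open neighbourhood whose
map to `X` factors through `U`. (The published statement lets `U` be any algebraic space; this row
takes `U` a scheme, which is equivalent after composing with an etale atlas of `U`; its part (1), a
finite surjective finitely presented cover of `X` by a scheme, is the case where `U` is an etale
atlas of `X`.) (The published statement allows any base scheme and uses absolute
quasi-separatedness; this row assumes the base quasi-separated, over which quasi-separatedness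
relative to the base is the absolute notion.) -/
theorem result (S : Scheme.{u}) [QuasiSeparatedSpace S]
    (X : AlgSp.Space S) (hXqc : AlgSp.IsQuasiCompactSp X.obj) (hXqs : AlgSp.IsQuasiSeparatedSp X.obj)
    (U : Over S) (p : (AlgSp.yon S).obj U ⟶ X.obj) (hpe : AlgSp.RepWith @Etale p) (hps : AlgSp.RepWith @Surjective p) :
    ∃ (Y : Over S) (g : (AlgSp.yon S).obj Y ⟶ X.obj),
      AlgSp.IsFiniteMor g ∧ AlgSp.IsSurjectiveMor g ∧ AlgSp.IsFinitePresentationMor g ∧
      ∀ y : ↥Y.left, ∃ (V : Y.left.Opens), y ∈ V ∧
        ∃ k : Over.mk (V.ι ≫ Y.hom) ⟶ U, (AlgSp.yon S).map k ≫ p = (AlgSp.yon S).map (Over.homMk V.ι) ≫ g := by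
  obtain ⟨Y₀, g₀, hg₀, hs₀, hf₀⟩ := Groth.AlgSpBasic.exists_integral_cover X.property hXqc hXqs hpe hps
  obtain ⟨I, _, _, _, D, t, c, hc, e, hD, hDa, ht, he⟩ := Groth.Agent.S10033.result S
    (X := ⟨(AlgSp.yon S).obj Y₀, IsAlgSpace.yon_obj Y₀⟩) (Y := X) (ObjectProperty.homMk g₀)
    ((Groth.AlgSp2.isIntegralMor_iff (IsAlgSpace.yon_obj Y₀) X.property).2 hg₀) hXqc hXqs
  obtain ⟨i, Y, e', h₁, h₂, h₃, h₄⟩ := Groth.AlgSp2.Approx.exists_cover_stage X.property hXqc hXqs
    D t hc hD hDa ht e he hpe hf₀ hs₀
  refine ⟨Y, e'.hom ≫ t.app i, h₁, h₂, h₃, fun y => ?_⟩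
  obtain ⟨V, k, hy, hk⟩ := Groth.AlgSpBasic.localFactor_opens h₄ y
  exact ⟨V, hy, k, hk⟩

end Groth.Agent.S10048
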