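import Groth.Statements.S0116
import Mathlib.AlgebraicGeometry.Morphisms.FlatDescent
import Mathlib.AlgebraicGeometry.Morphisms.LocalIso
import Mathlib.AlgebraicGeometry.Morphisms.Descent
import Mathlib.RingTheory.Flat.FaithfullyFlat.Algebra
-- import your own Groth.Agent.* helpers here

set_option autoImplicit false
open CategoryTheory CategoryTheory.Limits AlgebraicGeometry Opposite
universe u
open EtBase

namespace Groth.Agent.S0116

set_option backward.isDefEq.respectTransparency.types false in
/-- If f : X → Y is surjective, flat and locally of finite presentation and X is locally Noetherian,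
then Y is locally Noetherian. (This is the descent half of the statement that, for such f, X is
locally Noetherian if and only if Y is; the ascent half is the fact that a scheme locally of finite
type over a locally Noetherian scheme is locally Noetherian, and is not stated here.) -/
theorem result {X Y : Scheme.{u}} (f : X ⟶ Y) [Surjective f] [Flat f] [LocallyOfFinitePresentation f]
    [IsLocallyNoetherian X] : IsLocallyNoetherian Y := by
  refine ⟨fun U => ?_⟩
  have : IsAffine (U.1 : Scheme.{u}) := U.2
  have : Surjective (f ∣_ U.1) := IsZariskiLocalAtTarget.restrict (P := @Surjective) ‹Surjective f› U.1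
  obtain ⟨(V : (f ⁻¹ᵁ U.1 : Scheme.{u}).Opens), hV, e⟩ := (f ∣_ U.1).isOpenMap.exists_opens_image_eq_of_prespectralSpace
    (f ∣_ U.1).continuous (U := Set.univ) (by simp [(f ∣_ U.1).surjective.range_eq]) isOpen_univ
    isCompact_univ
  have : CompactSpace (V : Scheme.{u}) := isCompact_iff_compactSpace.mp hV
  obtain ⟨T, p, hp, hpl, hT⟩ :=
    Scheme.exists_hom_isAffine_of_isZariskiLocalAtSource @IsLocalIso (V : Scheme.{u})
  have : IsLocalIso p := hpl
  have hsurj : Surjective (p ≫ V.ι ≫ f ∣_ U.1) := by
    refine ⟨fun z => ?_⟩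
    obtain ⟨v, hv, rfl⟩ := e.ge (Set.mem_univ z)
    obtain ⟨t, ht⟩ := p.surjective ⟨v, hv⟩
    exact ⟨t, by simp [ht]⟩
  have : Flat p := IsLocalIso.le_of_isZariskiLocalAtSource @Flat _ _ _ hpl
  have : LocallyOfFiniteType p := IsLocalIso.le_of_isZariskiLocalAtSource @LocallyOfFiniteType _ _ _ hpl
  have : IsLocallyNoetherian T :=
    LocallyOfFiniteType.isLocallyNoetherian (p ≫ V.ι ≫ (f ⁻¹ᵁ U.1).ι)
  have : IsNoetherianRing Γ(T, ⊤) := IsLocallyNoetherian.component_noetherian ⟨⊤, isAffineOpen_top T⟩
  have hff : (p ≫ V.ι ≫ f ∣_ U.1).appTop.hom.FaithfullyFlat :=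
    (Flat.flat_and_surjective_iff_faithfullyFlat_of_isAffine _).1 ⟨inferInstance, hsurj⟩
  suffices h : IsNoetherianRing Γ(U.1, ⊤) from
    isNoetherianRing_of_ringEquiv Γ(U.1, ⊤) U.1.topIso.commRingCatIsoToRingEquiv
  algebraize [(p ≫ V.ι ≫ f ∣_ U.1).appTop.hom]
  refine (isNoetherianRing_iff_ideal_fg _).2 fun I => ?_
  have hinj : Function.Injective (Ideal.map (algebraMap Γ(U.1, ⊤) Γ(T, ⊤))) :=
    Function.LeftInverse.injective fun I => Ideal.comap_map_eq_self_of_faithfullyFlat I
  have hwf : WellFoundedGT (Ideal Γ(U.1, ⊤)) :=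
    (StrictMono.wellFoundedGT (Monotone.strictMono_of_injective (fun _ _ => Ideal.map_mono) hinj))
  have : IsNoetherianRing Γ(U.1, ⊤) := isNoetherian_mk hwf
  exact IsNoetherian.noetherian I

end Groth.Agent.S0116
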