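import Groth.Statements.S12080
import Mathlib

set_option autoImplicit false
universe u
open TensorProduct
open CAlg

namespace Groth.Agent.S12080

/-- (1) ⇒ (2): let `M` be a finite locally free `R`-module of rank `1`, i.e. there is a set `s ⊆ R`
generating the unit ideal with `M_f ≅ R_f` as `R_f`-modules for every `f ∈ s`. Then the evaluation
map `Hom_R(M, R) ⊗_R M → R` is bijective, so `M` is invertible with inverse its dual. -/
theorem result (R : Type u) [CommRing R] (M : Type u) [AddCommGroup M]
    [Module R M] (s : Set R) (hs : Ideal.span s = ⊤)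
    (hfree : ∀ f ∈ s, Nonempty (LocalizedModule.Away f M ≃ₗ[Localization.Away f] Localization.Away f)) :
    Module.Invertible R M := by
  classical
  have hfree' : ∀ f : s, Module.Free (Localization.Away f.1) (LocalizedModule.Away f.1 M) ∧
      Module.Finite (Localization.Away f.1) (LocalizedModule.Away f.1 M) := fun f =>
    let e := (hfree f.1 f.2).some.symm
    ⟨Module.Free.of_equiv e, Module.Finite.equiv e⟩
  haveI : Module.Flat R M := Module.flat_of_localized_span R M s hs (fun f : s => by
    haveI := (hfree' f).1
    exact Module.Flat.trans R (Localization.Away f.1) _)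
  haveI : Module.FinitePresentation R M := Module.FinitePresentation.of_localizationSpan s hs fun f => by
    haveI := (hfree' f).1
    haveI := (hfree' f).2
    exact Module.finitePresentation_of_projective _ _
  haveI : Module.Projective R M := Module.Flat.projective_of_finitePresentation
  obtain ⟨n, p, q, -, -, hpq⟩ := Module.Finite.exists_comp_eq_id_of_projective R M
  let e : Fin n → M := fun j => p (Pi.single j 1)
  let d : Fin n → Module.Dual R M := fun j => (LinearMap.proj j).comp q
  have hdual : ∀ x : M, ∑ j, d j x • e j = x := fun x => by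
    conv_rhs => rw [← show p (q x) = x from LinearMap.congr_fun hpq x]
    simp only [d, e, ← map_smul, ← map_sum]
    congr 1
    conv_rhs => rw [pi_eq_sum_univ' (q x)]
    simp
  have ext_dual : ∀ (f : s) (φ : Module.Dual R M), ∃ φ' : LocalizedModule.Away f.1 M →ₗ[Localization.Away f.1] Localization.Away f.1,
      ∀ x, φ' (LocalizedModule.mkLinearMap _ M x) = algebraMap R _ (φ x) := fun f φ =>
    ⟨LinearMap.extendScalarsOfIsLocalization (.powers f.1) _ <| IsLocalizedModule.map
      (.powers f.1) (LocalizedModule.mkLinearMap _ M) (Algebra.linearMap R _) φ,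
      fun x => IsLocalizedModule.map_apply (.powers f.1) (LocalizedModule.mkLinearMap _ M) (Algebra.linearMap R _) φ x⟩
  have swap : ∀ (φ : Module.Dual R M) (x y : M), φ x • y = φ y • x := by
    intro φ x y
    rw [← sub_eq_zero]
    refine Module.eq_zero_of_isLocalized_span s hs (fun f : s => LocalizedModule.Away f.1 M)
      (fun f : s => LocalizedModule.mkLinearMap _ M) _ fun f => ?_
    obtain ⟨φ', hφ'⟩ := ext_dual f φ
    let E := (hfree f.1 f.2).some
    set a := LocalizedModule.mkLinearMap (Submonoid.powers f.1) M x
    set b := LocalizedModule.mkLinearMap (Submonoid.powers f.1) M y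
    have ha : ∀ z, φ' z = E z * φ' (E.symm 1) := fun z => by
      rw [← smul_eq_mul, ← map_smul, ← map_smul, smul_eq_mul, mul_one, LinearEquiv.symm_apply_apply]
    rw [map_sub, map_smul, map_smul, sub_eq_zero]
    apply E.injective
    rw [← algebraMap_smul (Localization.Away f.1) (φ x), ← algebraMap_smul (Localization.Away f.1) (φ y), map_smul, map_smul, ← hφ', ← hφ', ha a, ha b, smul_eq_mul, smul_eq_mul]
    ring
  have hsurj : Function.Surjective (contractLeft R M) := by
    rw [← LinearMap.range_eq_top]
    by_contra hne
    obtain ⟨m, hm, hle⟩ := Ideal.exists_le_maximal (LinearMap.range (contractLeft R M)) hne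
    obtain ⟨f, hfs, hfm⟩ : ∃ f ∈ s, f ∉ m := by
      by_contra hc; push Not at hc
      exact hm.ne_top (top_le_iff.1 (hs ▸ Ideal.span_le.2 hc))
    let E := (hfree f hfs).some
    let ψ : M →ₗ[R] Localization.Away f := (E.toLinearMap.restrictScalars R).comp (LocalizedModule.mkLinearMap _ M)
    have hall : ∀ z, ψ z ∈ m.map (algebraMap R (Localization.Away f)) := fun z => by
      rw [← hdual z, map_sum]
      refine Ideal.sum_mem _ fun j _ => ?_
      rw [map_smul, Algebra.smul_def]
      refine Ideal.mul_mem_right _ _ (Ideal.mem_map_of_mem _ (hle ⟨d j ⊗ₜ z, ?_⟩))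
      exact contractLeft_apply _ _
    obtain ⟨⟨z, u⟩, hz⟩ := IsLocalizedModule.surj (Submonoid.powers f) (LocalizedModule.mkLinearMap (Submonoid.powers f) M) (E.symm 1)
    have h1 := hall z
    change E (LocalizedModule.mkLinearMap (Submonoid.powers f) M z) ∈ _ at h1
    rw [← hz, show u • E.symm (1 : Localization.Away f) = algebraMap R (Localization.Away f) (u : R) • E.symm 1 from
      (algebraMap_smul _ (u : R) (E.symm 1)).symm, map_smul, LinearEquiv.apply_symm_apply, smul_eq_mul, mul_one] at h1
    have htop := Ideal.eq_top_of_isUnit_mem _ h1 (IsLocalization.map_units _ u)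
    refine (IsLocalization.map_algebraMap_ne_top_iff_disjoint (Submonoid.powers f) (Localization.Away f) m).2 ?_ htop
    rw [Set.disjoint_left]
    rintro _ ⟨k, rfl⟩ hk
    exact hfm (hm.isPrime.mem_of_pow_mem k hk)
  have hinj : Function.Injective (contractLeft R M) := by
    rw [injective_iff_map_eq_zero]
    intro t ht
    have expand : t = ∑ j, (TensorProduct.lift ((LinearMap.lsmul R (Module.Dual R M)).flip.compl₂ (d j))) t ⊗ₜ e j := by
      clear ht
      induction t using TensorProduct.induction_on with
      | zero => simp
      | tmul φ x =>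
        simp only [TensorProduct.lift.tmul, LinearMap.compl₂_apply, LinearMap.flip_apply, LinearMap.lsmul_apply]
        simp_rw [TensorProduct.smul_tmul, ← TensorProduct.tmul_sum, hdual]
      | add a b ha hb =>
        simp only [map_add, TensorProduct.add_tmul, Finset.sum_add_distrib, ← ha, ← hb]
    have zero : ∀ j, (TensorProduct.lift ((LinearMap.lsmul R (Module.Dual R M)).flip.compl₂ (d j))) t = contractLeft R M t • d j := by
      intro j
      clear ht expand
      induction t using TensorProduct.induction_on with
      | zero => simp
      | tmul φ x =>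
        refine LinearMap.ext fun y => ?_
        simp only [TensorProduct.lift.tmul, LinearMap.compl₂_apply, LinearMap.flip_apply, LinearMap.lsmul_apply,
          contractLeft_apply, LinearMap.smul_apply, smul_eq_mul]
        have := congrArg (d j) (swap φ y x)
        rw [map_smul, map_smul, smul_eq_mul, smul_eq_mul] at this
        rw [mul_comm, this]
      | add a b ha hb => simp only [map_add, add_smul, ha, hb]
    rw [expand]
    simp [zero, ht]
  exact ⟨⟨hinj, hsurj⟩⟩

end Groth.Agent.S12080
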