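import Groth.Statements.S1216
import Groth.Agent.RaynaudGruson.FreeEmbedding
import Groth.Agent.EtaleAlgebra.ValuationEtale

set_option autoImplicit false
universe u
open FlatMor

namespace Groth.Agent.S1216

/-- Let A → B be a local homomorphism of local rings which is essentially of finite type, with A a
valuation ring, and N a finite B-module flat over A. Then every element x of N has a content ideal,
that is a smallest ideal I of A with x ∈ IN, and this ideal is principal. -/
theorem result {A B : Type u} [CommRing A] [IsDomain A] [ValuationRing A] [CommRing B] [IsLocalRing B] [Algebra A B]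
    [IsLocalHom (algebraMap A B)] [Algebra.EssFiniteType A B]
    (N : Type u) [AddCommGroup N] [Module B N] [Module A N] [IsScalarTower A B N] [Module.Finite B N] [Module.Flat A N] (x : N) :
    ∃ I : Ideal A, I.IsPrincipal ∧ x ∈ I • (⊤ : Submodule A N) ∧ ∀ J : Ideal A, x ∈ J • (⊤ : Submodule A N) → I ≤ J := by
  classical
  obtain ⟨R', _, _, p', _, hnhd, C, _, _, _, _, F, _, _, _, _, _, _, _, U, hfree, hreg, j, hj⟩ :=
    Groth.RaynaudGruson.FreeEmbedding.exists_embedding (A := A) (B := B) N
  haveI := hfree
  obtain ⟨het, hover, -⟩ := hnhd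
  haveI := het
  let A' := Localization.AtPrime p'
  obtain ⟨-, hloc, hval⟩ := Groth.EtaleAlgebra.ValuationEtale.content_atPrime A R' p' hover.over.symm
  haveI : Module.Flat R' A' := IsLocalization.flat A' p'.primeCompl
  haveI : Module.Flat A A' := Module.Flat.trans A R' A'
  haveI := hloc
  haveI : Module.FaithfullyFlat A A' := Module.FaithfullyFlat.of_flat_of_isLocalHom
  have hval' : ∀ c : A', ∃ a : A, Ideal.span {c} = Ideal.span {algebraMap A A' a} := fun c => by
    rcases eq_or_ne c 0 with rfl | hc
    · exact ⟨0, by rw [map_zero]⟩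
    · obtain ⟨a, w, rfl⟩ := hval c hc
      exact ⟨a, Ideal.span_singleton_mul_left_unit w.isUnit _⟩
  choose ca hca using hval'
  let G := LocalizedModule U F
  obtain ⟨⟨f, v⟩, hfv⟩ := IsLocalizedModule.surj U (LocalizedModule.mkLinearMap U F) (j x)
  let b := Module.Free.chooseBasis A' F
  let I : Ideal A := Ideal.span ↑((b.repr f).support.image fun i => ca (b.repr f i))
  have hI : I.FG := ⟨_, rfl⟩
  have hmemI : ∀ i, algebraMap A A' (ca (b.repr f i)) ∈ I.map (algebraMap A A') := fun i => by
    by_cases hi : b.repr f i = 0
    · have h0 := hca (b.repr f i)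
      rw [hi, Ideal.span_singleton_eq_bot.mpr rfl] at h0
      rw [hi, Ideal.span_singleton_eq_bot.mp h0.symm]
      exact zero_mem _
    · exact Ideal.mem_map_of_mem _ (Ideal.subset_span (Finset.mem_coe.mpr
        (Finset.mem_image.mpr ⟨i, Finsupp.mem_support_iff.mpr hi, rfl⟩)))
  refine ⟨I, (IsBezout.isPrincipal_of_FG I hI), ?_, fun J hJ => ?_⟩
  · have hf : f ∈ I.map (algebraMap A A') • (⊤ : Submodule A' F) := by
      rw [← b.linearCombination_repr f, Finsupp.linearCombination_apply]
      refine Submodule.sum_mem _ fun i _ => Submodule.smul_mem_smul ?_ trivial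
      have h1 : b.repr f i ∈ Ideal.span {algebraMap A A' (ca (b.repr f i))} := by
        rw [← hca]; exact Ideal.mem_span_singleton_self _
      obtain ⟨c, hc⟩ := Ideal.mem_span_singleton'.mp h1
      rw [← hc]
      exact Ideal.mul_mem_left _ _ (hmemI i)
    rw [← Submodule.restrictScalars_mem A, Ideal.smul_restrictScalars, Submodule.restrictScalars_top] at hf
    have h2 := Submodule.mem_map_of_mem (f := (LocalizedModule.mkLinearMap U F).restrictScalars A) hf
    rw [Submodule.map_smul''] at h2
    have h3 : v • j x ∈ I • (⊤ : Submodule A G) := hfv ▸ Submodule.smul_mono le_rfl le_top h2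
    refine Groth.RaynaudGruson.LocalizedFree.mem_smul_top_of_univInj hj ?_
    obtain ⟨w, hw⟩ := IsLocalization.map_units (Localization U) v
    have h4 : (↑w⁻¹ : Localization U) • (v • j x) = j x := by
      rw [Submonoid.smul_def, ← algebraMap_smul (Localization U) (v : C) (j x), smul_smul, ← hw, w.inv_mul, one_smul]
    rw [← h4]
    refine Submodule.smul_induction_on h3 (fun a ha y _ => ?_) fun y z hy hz => ?_
    · rw [smul_comm]; exact Submodule.smul_mem_smul ha trivial
    · rw [smul_add]; exact add_mem hy hz
  · have h1 := Submodule.mem_map_of_mem (f := j) hJ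
    rw [Submodule.map_smul''] at h1
    have h2 : v • j x ∈ J • (⊤ : Submodule A G) := by
      refine Submodule.smul_induction_on (Submodule.smul_mono le_rfl le_top h1 : j x ∈ J • (⊤ : Submodule A G))
        (fun a ha y _ => ?_) fun y z hy hz => ?_
      · rw [smul_comm]; exact Submodule.smul_mem_smul ha trivial
      · rw [smul_add]; exact add_mem hy hz
    rw [hfv, ← Submodule.restrictScalars_top A A' G, ← Ideal.smul_restrictScalars, Submodule.restrictScalars_mem] at h2
    have h3 : f ∈ J.map (algebraMap A A') • (⊤ : Submodule A' F) :=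
      Groth.RaynaudGruson.LocalizedFree.mem_smul_top_of_univInj
        (Groth.RaynaudGruson.LocalizedFree.univInj_mk U hreg) h2
    rw [Ideal.span_le]
    intro a ha
    obtain ⟨i, -, rfl⟩ := Finset.mem_image.mp (Finset.mem_coe.mp ha)
    have h4 : b.repr f i ∈ J.map (algebraMap A A') := by
      have h5 := Submodule.mem_map_of_mem (f := b.coord i) h3
      rw [Submodule.map_smul''] at h5
      have h6 := Submodule.smul_mono le_rfl le_top h5
      rwa [smul_eq_mul, Ideal.mul_top] at h6
    have h7 : algebraMap A A' (ca (b.repr f i)) ∈ J.map (algebraMap A A') := by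
      refine (Ideal.span_singleton_le_iff_mem _).mp ?_
      rw [← hca]
      exact (Ideal.span_singleton_le_iff_mem _).mpr h4
    rw [← Ideal.comap_map_eq_self_of_faithfullyFlat (B := A') J]
    exact h7

end Groth.Agent.S1216
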