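import Groth.Statements.S1351
import Groth.Agent.Misc8.ValRingFP

set_option autoImplicit false
universe u
open FlatMor IsLocalRing

namespace Groth.Agent.S1351

/-- Let A be a valuation ring, A → B a local homomorphism of local rings essentially of finite type, and
u : N → M a B-linear map of finite B-modules with M flat over A. If u is injective after tensoring
with the residue field of A (that is, modulo the maximal ideal of A), then u is injective and its
cokernel is flat over A. -/
theorem result {A B : Type u} [CommRing A] [IsDomain A] [ValuationRing A] [CommRing B] [IsLocalRing B]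
    [Algebra A B] [IsLocalHom (algebraMap A B)] [Algebra.EssFiniteType A B]
    {N M : Type u} [AddCommGroup N] [Module B N] [Module A N] [IsScalarTower A B N] [Module.Finite B N]
    [AddCommGroup M] [Module B M] [Module A M] [IsScalarTower A B M] [Module.Finite B M] [Module.Flat A M]
    (u : N →ₗ[B] M)
    (hu : Function.Injective (Submodule.mapQ (IsLocalRing.maximalIdeal A • ⊤ : Submodule A N) (IsLocalRing.maximalIdeal A • ⊤ : Submodule A M) (u.restrictScalars A)
      (fun n hn => Submodule.smul_top_le_comap_smul_top _ _ hn))) :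
    Function.Injective u ∧ Module.Flat A (M ⧸ LinearMap.range u) := by
  classical
  obtain ⟨n, φ, hφ⟩ := Groth.Misc8.ValFP.exists_cover (A := A) B
  let q : Ideal (MvPolynomial (Fin n) A) := (maximalIdeal B).comap φ.toRingHom
  haveI : q.IsPrime := Ideal.comap_isPrime _ _
  let S := Localization.AtPrime q
  have hu' : ∀ y : q.primeCompl, IsUnit (φ y) := fun y => by
    by_contra h
    exact y.2 h
  let ψ : S →ₐ[A] B := IsLocalization.liftAlgHom (M := q.primeCompl) (f := φ) hu'
  have hψ : ∀ p, ψ (algebraMap (MvPolynomial (Fin n) A) S p) = φ p := fun p => IsLocalization.lift_eq _ p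
  have hsurj : Function.Surjective ψ := fun b => by
    obtain ⟨x, t, ht, hbt⟩ := hφ b
    have htq : t ∈ q.primeCompl := fun h => h ht
    refine ⟨IsLocalization.mk' S x ⟨t, htq⟩, ht.mul_right_cancel ?_⟩
    rw [hbt, ← hψ t, ← map_mul, IsLocalization.mk'_spec' S x ⟨t, htq⟩ |> (fun h => (mul_comm _ _).trans h),
      hψ]
  letI : Algebra S B := ψ.toRingHom.toAlgebra
  letI : Module S N := Module.compHom N ψ.toRingHom
  letI : Module S M := Module.compHom M ψ.toRingHom
  haveI : IsScalarTower S B N := IsScalarTower.of_algebraMap_smul fun _ _ => rfl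
  haveI : IsScalarTower S B M := IsScalarTower.of_algebraMap_smul fun _ _ => rfl
  haveI : IsScalarTower A S N := IsScalarTower.of_algebraMap_smul fun a x => by
    show ψ (algebraMap A S a) • x = a • x
    rw [ψ.commutes, algebraMap_smul]
  haveI : IsScalarTower A S M := IsScalarTower.of_algebraMap_smul fun a x => by
    show ψ (algebraMap A S a) • x = a • x
    rw [ψ.commutes, algebraMap_smul]
  haveI : Module.Finite S B := Module.Finite.of_surjective (Algebra.linearMap S B) hsurj
  haveI : Module.Finite S N := Module.Finite.trans B N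
  haveI : Module.Finite S M := Module.Finite.trans B M
  haveI : IsLocalHom (algebraMap A S) := ⟨fun a ha => IsUnit.of_map (algebraMap A B) a (by
    rw [← ψ.commutes]; exact ha.map ψ)⟩
  have key : ∀ (L : Type u) [AddCommGroup L] [Module S L] [Module A L] [IsScalarTower A S L] (x : L),
      x ∈ (maximalIdeal A).map (algebraMap A S) • (⊤ : Submodule S L) ↔
        x ∈ (maximalIdeal A • ⊤ : Submodule A L) := fun L _ _ _ _ x => by
    rw [← Submodule.restrictScalars_mem A, Ideal.smul_restrictScalars, Submodule.restrictScalars_top]
  obtain ⟨hinj, hsat⟩ := Groth.Misc8.ValFP.injective_saturated q (u.restrictScalars S) fun x hx => by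
    rw [key] at hx ⊢
    rw [← Submodule.Quotient.mk_eq_zero]
    apply hu
    rw [Submodule.mapQ_apply, map_zero, Submodule.Quotient.mk_eq_zero]
    exact hx
  refine ⟨hinj, ?_⟩
  haveI := Groth.Misc8.SatFG.isBezout_of_semilocal (R := A) Groth.Misc8.ValFP.localization_valuationRing
  rw [Module.Flat.flat_iff_torsion_eq_bot_of_isBezout, eq_bot_iff]
  rintro x ⟨⟨a, ha⟩, hax⟩
  obtain ⟨m, rfl⟩ := Submodule.Quotient.mk_surjective _ x
  change a • (Submodule.Quotient.mk m : M ⧸ LinearMap.range u) = 0 at hax
  rw [← Submodule.Quotient.mk_smul, Submodule.Quotient.mk_eq_zero] at hax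
  rw [Submodule.mem_bot, Submodule.Quotient.mk_eq_zero]
  exact hsat a m (nonZeroDivisors.ne_zero ha) hax

end Groth.Agent.S1351
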