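import Groth.Statements.S8654
import Groth.Agent.KoszulReg.Immersion
-- import your own Groth.Agent.* helpers here

set_option autoImplicit false
universe u
open CategoryTheory CategoryTheory.Limits AlgebraicGeometry
open RegImm

namespace Groth.Agent.S8654

/-- Let i : Y ⟶ X and j : Z ⟶ Y be Koszul-regular immersions (not necessarily closed). Then the
composite Z ⟶ X is a Koszul-regular immersion. -/
theorem result {X Y Z : Scheme.{u}} (i : Y ⟶ X) (j : Z ⟶ Y)
    (hi : RegImm.IsRegularImmersion .koszul i) (hj : RegImm.IsRegularImmersion .koszul j) :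
    RegImm.IsRegularImmersion .koszul (j ≫ i) := by
  obtain ⟨himmi, hi⟩ := hi
  obtain ⟨himmj, hj⟩ := hj
  refine ⟨inferInstance, fun z => ?_⟩
  obtain ⟨U, hzU, hciU, rs, hrs, hkeri⟩ := hi (j z)
  obtain ⟨V, hzV, hciV, ss, hss, hkerj⟩ := hj z
  obtain ⟨U', hz, hci, ts, -, hts, hker⟩ :=
    Groth.KoszulReg.chart_comp i j z U.2 hzU rs hrs hkeri V.2 hzV ss hss hkerj
  exact ⟨U', hz, hci, ts, hts, hker⟩

end Groth.Agent.S8654
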