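import Groth.Statements.S2104
import Groth.Agent.Calg1.QuasiRegularAppend

set_option autoImplicit false
universe u
open CAlg

namespace Groth.Agent.S2104

/-- Appending to a quasi-regular sequence `f` a sequence `g` whose image modulo the ideal `(f)` is
`H_1`-regular yields a quasi-regular sequence. -/
theorem result {A : Type u} [CommRing A] {n m : ℕ} (f : Fin n → A)
    (g : Fin m → A) (hf : CAlgX.IsQuasiRegular f)
    (hg : CAlgX.IsH1Regular (fun j => Ideal.Quotient.mk (Ideal.span (Set.range f)) (g j))) :
    CAlgX.IsQuasiRegular (Fin.append f g) := by
  exact Groth.Calg1.isQuasiRegular_append f g hf hg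

end Groth.Agent.S2104
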