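import Groth.Statements.S10096
import Groth.Agent.AlgSpBasic.Topology
import Groth.Agent.AlgSpBasic.Points

set_option autoImplicit false
set_option backward.isDefEq.respectTransparency false
set_option backward.isDefEq.respectTransparency.types false
universe u
open CategoryTheory CategoryTheory.Limits AlgebraicGeometry
open AlgSp

namespace Groth.Agent.S10096

/-- Let `a : F ⟶ G` be a map of fppf sheaves of sets over `S` that is flat, surjective, locally of
finite presentation and representable by algebraic spaces (every base change `h_U ×_G F ⟶ h_U` to a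
scheme is such a morphism of algebraic spaces). Then `a` is surjective as a map of sheaves (an
epimorphism of fppf sheaves). -/
theorem result (S : Scheme.{u}) (F G : AlgSp.Sp S) (a : F ⟶ G)
    (ha : AlgSp.RepBySpWith (AlgSp.IsSurjectiveMor ⊓ AlgSp.LocP @Flat ⊓ AlgSp.LocP @LocallyOfFinitePresentation) a.hom) :
    Epi a := by
  open Opposite Groth.AlgSpBasic in
  have : Sheaf.IsLocallySurjective a := by
    constructor
    intro U x
    let g : (yon S).obj U ⟶ G := yEquiv.symm x
    have sq := IsPullback.of_hasPullback a g
    obtain ⟨hA, ⟨hs, hf⟩, hp⟩ := (repBySpWith_hom_iff _ a).1 ha g _ _ sq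
    obtain ⟨W, q, hqe, hqs⟩ := hA.atlas
    obtain ⟨h, hh⟩ := (yon S).map_surjective (q ≫ pullback.snd a g)
    have e : q ≫ pullback.snd a g = (yon S).map h ≫ 𝟙 _ := by simp [hh]
    have : Flat h.left := hf q (𝟙 _) h hqe (repWith_id _ U) e
    have : LocallyOfFinitePresentation h.left := hp q (𝟙 _) h hqe (repWith_id _ U) e
    have : Surjective h.left := by
      refine ⟨fun y => ?_⟩
      obtain ⟨z, hz⟩ := hs (Points.schemeHomeo U y)
      obtain ⟨w, hw⟩ := surjective_map_of_repWith hqs z
      obtain ⟨t, rfl⟩ := (Points.schemeHomeo W).surjective w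
      refine ⟨t, (Points.schemeHomeo U).injective ?_⟩
      rw [← Points.map_yon_map_apply, hh, Points.map_comp]
      exact (congrArg _ hw).trans hz
    refine mem_of_fppf h ⟨yEquiv (q ≫ pullback.fst a g), ?_⟩
    have hx : x = yEquiv g := (Equiv.apply_symm_apply _ _).symm
    rw [hx]
    refine Eq.trans ?_ ((J S).uliftYonedaEquiv_naturality g h).symm
    rw [show (J S).uliftYoneda.map h ≫ g = (q ≫ pullback.fst a g) ≫ a by
      show (yon S).map h ≫ g = _
      rw [hh, Category.assoc, Category.assoc, sq.w]]
    exact ((J S).uliftYonedaEquiv_comp _ a).symm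
  infer_instance

end Groth.Agent.S10096
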