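import Groth.Statements.S10117
import Groth.Agent.AlgSp2.AffineDescent
import Mathlib.CategoryTheory.Monoidal.Cartesian.Grp
-- import your own Groth.Agent.* helpers here

set_option autoImplicit false
set_option backward.isDefEq.respectTransparency.types false
universe u
open CategoryTheory CategoryTheory.Limits AlgebraicGeometry MonoidalCategory MonObj
open AlgSp AlgSp.GAction CategoryTheory.CartesianMonoidalCategory

namespace Groth.Agent.S10117

/-- If a group algebraic space `G` over `B` acts freely on an algebraic space `X` over `B`, then `G ×_B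
X ⟶ X ×_B X`, `(g, x) ↦ (g x, x)`, is a monomorphism. (The published statement is an equivalence;
this row states only the direction from free to monomorphism.) -/
theorem result (S : Scheme.{u}) (B : AlgSp.Sp S) (hB : AlgSp.IsAlgSpace B)
    (G X : Over B) [GrpObj G] (hG : AlgSp.IsAlgSpace G.left) (hX : AlgSp.IsAlgSpace X.left)
    (a : AlgSp.GAction G X) (ha : a.IsFree) :
    Mono (CartesianMonoidalCategory.lift a.act (CartesianMonoidalCategory.snd G X)).left := by
  let sh := CartesianMonoidalCategory.lift a.act (CartesianMonoidalCategory.snd G X)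
  have act_mul : ∀ {T : Over B} (g h : T ⟶ G) (x : T ⟶ X),
      lift (g * h) x ≫ a.act = lift g (lift h x ≫ a.act) ≫ a.act := by
    intro T g h x
    have := congrArg (lift (lift g h) x ≫ ·) a.mul_act
    simpa [Hom.mul_def] using this
  have act_one : ∀ {T : Over B} (x : T ⟶ X), lift (1 : T ⟶ G) x ≫ a.act = x := by
    intro T x
    have := congrArg (lift (toUnit T) x ≫ ·) a.one_act
    simpa [Hom.one_def] using this
  refine ⟨fun {Z} p q h => Groth.AlgSp2.hom_ext_yon fun T z => ?_⟩
  have hw : (z ≫ q) ≫ (G ⊗ X).hom = (z ≫ p) ≫ (G ⊗ X).hom := by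
    have := congrArg (fun k => z ≫ k ≫ (X ⊗ X).hom) h
    simp only [Category.assoc, Over.w] at this ⊢
    exact this.symm
  let β := (z ≫ p) ≫ (G ⊗ X).hom
  let P : Over.mk β ⟶ G ⊗ X := Over.homMk (z ≫ p) rfl
  let Q : Over.mk β ⟶ G ⊗ X := Over.homMk (z ≫ q) hw
  have hPQ : P ≫ sh = Q ≫ sh := Over.OverMorphism.ext (by
    show (z ≫ p) ≫ sh.left = (z ≫ q) ≫ sh.left
    rw [Category.assoc, Category.assoc, h])
  have h₂ : P ≫ CartesianMonoidalCategory.snd G X = Q ≫ CartesianMonoidalCategory.snd G X := by
    have := hPQ =≫ CartesianMonoidalCategory.snd X X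
    simpa [sh] using this
  have h₁ : P ≫ a.act = Q ≫ a.act := by
    have := hPQ =≫ CartesianMonoidalCategory.fst X X
    simpa [sh] using this
  let g := P ≫ CartesianMonoidalCategory.fst G X
  let g' := Q ≫ CartesianMonoidalCategory.fst G X
  let x := P ≫ CartesianMonoidalCategory.snd G X
  have eP : lift g x = P := by simp [g, x]
  have eQ : lift g' x = Q := by simp [g', x, h₂]
  have hfix : lift (g'⁻¹ * g) x ≫ a.act = x := by
    rw [act_mul, eP, h₁, ← eQ, ← act_mul, inv_mul_cancel, act_one]
  have hg : g'⁻¹ * g = 1 := ha β _ x hfix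
  have hgg : g' = g := inv_mul_eq_one.1 hg
  have : P = Q := by rw [← eP, ← eQ, hgg]
  exact congrArg (fun k => k.left) this

end Groth.Agent.S10117
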