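import Groth.Statements.S4860
import Mathlib.RingTheory.Spectrum.Prime.Topology
import Mathlib.RingTheory.Jacobson.Ring
import Mathlib.RingTheory.Localization.Integral
import Mathlib.Tactic.TFAE
import Mathlib.RingTheory.RingHom.FiniteType
-- import your own Groth.Agent.* helpers here

set_option autoImplicit false
universe u
open EGA43

namespace Groth.Agent.S4860

/-- For an integral domain B the following are equivalent: a) the localization B_f is a field for some
nonzero f; b) the fraction field of B is a finitely generated B-algebra; c) there is a field
containing B (an injective algebra map from B) which is a finitely generated B-algebra; d) the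
generic point of Spec B is open. -/
theorem result (B : Type u) [CommRing B] [IsDomain B] :
    [∃ f : B, f ≠ 0 ∧ IsField (Localization.Away f),
      Algebra.FiniteType B (FractionRing B),
      ∃ (K : Type u) (_ : Field K) (_ : Algebra B K), Function.Injective (algebraMap B K) ∧ Algebra.FiniteType B K,
      IsOpen ({⟨⊥, Ideal.bot_prime⟩} : Set (PrimeSpectrum B))].TFAE := by
  classical
  tfae_have 1 → 2 := by
    rintro ⟨f, hf, hF⟩
    have : IsFractionRing B (Localization.Away f) := by
      have h0 : Submonoid.powers f ≤ nonZeroDivisors B := powers_le_nonZeroDivisors_of_noZeroDivisors hf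
      let := hF.toField
      have hinj : Function.Injective (algebraMap B (Localization.Away f)) := IsLocalization.injective _ h0
      have : FaithfulSMul B (Localization.Away f) := (faithfulSMul_iff_algebraMap_injective _ _).2 hinj
      refine IsFractionRing.of_field (R := B) (K := Localization.Away f) fun z => ?_
      obtain ⟨a, s, rfl⟩ := IsLocalization.exists_mk'_eq (Submonoid.powers f) z
      refine ⟨a, s, ?_⟩
      rw [eq_div_iff ((IsLocalization.map_units (Localization.Away f) s).ne_zero), IsLocalization.mk'_spec]
    exact Algebra.FiniteType.equiv (IsLocalization.finiteType_of_monoid_fg (Submonoid.powers f) (Localization.Away f))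
      (IsLocalization.algEquiv (nonZeroDivisors B) (Localization.Away f) (FractionRing B))
  tfae_have 2 → 3 := fun h =>
    ⟨FractionRing B, inferInstance, inferInstance, IsFractionRing.injective B _, h⟩
  tfae_have 3 → 1 := by
    rintro ⟨K, _, _, hinj, hft⟩
    have : FaithfulSMul B K := (faithfulSMul_iff_algebraMap_injective B K).2 hinj
    let := FractionRing.liftAlgebra B K
    have : Algebra.FiniteType (FractionRing B) K := Algebra.FiniteType.of_restrictScalars_finiteType B _ _
    have : Module.Finite (FractionRing B) K := finite_of_finite_type_of_isJacobsonRing _ _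
    have halg : ∀ x : K, IsAlgebraic B x := fun x =>
      (IsFractionRing.isAlgebraic_iff B (FractionRing B) K).2 (IsAlgebraic.of_finite _ x)
    choose a ha hint using fun x => (halg x).exists_integral_multiple
    obtain ⟨s, hs⟩ := hft.out
    refine ⟨∏ x ∈ s, a x, Finset.prod_ne_zero_iff.2 fun x _ => ha x, ?_⟩
    let f := ∏ x ∈ s, a x
    have hf : IsUnit (algebraMap B K f) :=
      ((map_ne_zero_iff _ hinj).2 (Finset.prod_ne_zero_iff.2 fun x _ => ha x)).isUnit
    let : Algebra (Localization.Away f) K := (IsLocalization.Away.lift f hf).toAlgebra
    have : IsScalarTower B (Localization.Away f) K :=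
      IsScalarTower.of_algebraMap_eq fun b => (IsLocalization.Away.lift_eq f hf b).symm
    have hinj' : Function.Injective (algebraMap (Localization.Away f) K) := by
      refine IsLocalization.injective_of_map_algebraMap_zero (M := Submonoid.powers f) (S := Localization.Away f)
        (algebraMap _ K) fun b hb => ?_
      rw [← IsScalarTower.algebraMap_apply, map_eq_zero_iff _ hinj] at hb
      rw [hb, map_zero]
    have hI : ∀ x ∈ s, IsIntegral (Localization.Away f) x := by
      intro x hx
      obtain ⟨c, hc⟩ := Finset.dvd_prod_of_mem a hx
      have hu : IsUnit (algebraMap B (Localization.Away f) (a x)) :=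
        isUnit_of_dvd_unit ⟨_, by rw [← map_mul, ← hc]⟩ (IsLocalization.Away.algebraMap_isUnit f)
      obtain ⟨u, hu⟩ := hu
      have h1 : IsIntegral (Localization.Away f) (a x • x) := (hint x).tower_top
      have := h1.smul ((u⁻¹ : (Localization.Away f)ˣ) : Localization.Away f)
      rwa [← algebraMap_smul (Localization.Away f) (a x) x, ← hu, smul_smul, Units.inv_mul, one_smul] at this
    have : Algebra.IsIntegral (Localization.Away f) K := by
      refine ⟨fun x => ?_⟩
      have hx : x ∈ Algebra.adjoin B (s : Set K) := hs ▸ Algebra.mem_top
      have hle : Algebra.adjoin B (s : Set K) ≤ (integralClosure (Localization.Away f) K).restrictScalars B :=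
        Algebra.adjoin_le fun y hy => hI y hy
      exact hle hx
    exact isField_of_isIntegral_of_isField hinj' (Field.toIsField K)
  tfae_have 1 → 4 := by
    rintro ⟨f, hf, hF⟩
    convert (PrimeSpectrum.basicOpen f).2 using 1
    ext q
    constructor
    · rintro rfl
      exact fun h => hf h
    · intro hq
      obtain ⟨r, rfl⟩ : q ∈ Set.range (PrimeSpectrum.comap (algebraMap B (Localization.Away f))) := by
        rw [PrimeSpectrum.localization_away_comap_range (Localization.Away f) f]; exact hq
      let := hF.toField
      have hr : r.asIdeal = ⊥ := (Ideal.eq_bot_or_top r.asIdeal).resolve_right r.isPrime.ne_top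
      apply Set.mem_singleton_iff.2 (PrimeSpectrum.ext ?_)
      rw [PrimeSpectrum.comap_asIdeal, hr]
      exact (RingHom.injective_iff_ker_eq_bot _).1
        (IsLocalization.injective _ (powers_le_nonZeroDivisors_of_noZeroDivisors hf))
  tfae_have 4 → 1 := by
    intro h
    obtain ⟨_, ⟨f, rfl⟩, h0, hsub⟩ := PrimeSpectrum.isTopologicalBasis_basic_opens.exists_subset_of_mem_open
      (Set.mem_singleton (⟨⊥, Ideal.bot_prime⟩ : PrimeSpectrum B)) h
    have hf : f ≠ 0 := fun h => h0 (by simp [h])
    refine ⟨f, hf, ?_⟩
    have hinj := IsLocalization.injective (Localization.Away f)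
      (powers_le_nonZeroDivisors_of_noZeroDivisors (M₀ := B) hf)
    have : Nontrivial (Localization.Away f) := hinj.nontrivial
    by_contra hnf
    obtain ⟨P, hP0, hP⟩ := Ring.not_isField_iff_exists_prime.1 hnf
    have hmem : PrimeSpectrum.comap (algebraMap B (Localization.Away f)) ⟨P, hP⟩ ∈
        (PrimeSpectrum.basicOpen f : Set (PrimeSpectrum B)) := by
      rw [← PrimeSpectrum.localization_away_comap_range (Localization.Away f) f]; exact ⟨_, rfl⟩
    have h2 := congrArg PrimeSpectrum.asIdeal (Set.mem_singleton_iff.1 (hsub hmem))
    replace h2 : Ideal.under B P = ⊥ := h2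
    apply hP0
    rw [← IsLocalization.map_under (Submonoid.powers f) (Localization.Away f) P, h2, Ideal.map_bot]
  tfae_finish

end Groth.Agent.S4860
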