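import Groth.Statements.S6075
import Mathlib.AlgebraicGeometry.AlgClosed.Basic
import Mathlib.CategoryTheory.Monoidal.Cartesian.Grp

set_option autoImplicit false
universe u
open CategoryTheory CategoryTheory.Limits MonoidalCategory CartesianMonoidalCategory MonObj GrpObj AlgebraicGeometry
open SGA3

namespace Groth.Agent.S6075

section

variable {k : Type u} [Field k] [IsAlgClosed k]

/-- a word in `f` -/
noncomputable def word {G X T : Over (Spec (CommRingCat.of k))} [GrpObj G] (f : X ⟶ G) {n : ℕ}
    (x : Fin n → (T ⟶ X)) (ε : Fin n → Bool) : T ⟶ G :=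
  (List.ofFn fun j : Fin n => if ε j then x j ≫ f else (x j ≫ f)⁻¹).prod

omit [IsAlgClosed k] in
theorem comp_word {G X T T' : Over (Spec (CommRingCat.of k))} [GrpObj G] (f : X ⟶ G) {n : ℕ}
    (t : T' ⟶ T) (x : Fin n → (T ⟶ X)) (ε : Fin n → Bool) :
    t ≫ word f x ε = word f (fun j => t ≫ x j) ε := by
  induction n with
  | zero => simp [word, MonObj.comp_one]
  | succ n ih =>
    have h := ih (fun j => x j.succ) (fun j => ε j.succ)
    unfold word at h ⊢
    rw [List.ofFn_succ, List.ofFn_succ, List.prod_cons, List.prod_cons, MonObj.comp_mul, h]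
    congr 1
    split <;> simp [GrpObj.comp_inv]

omit [IsAlgClosed k] in
/-- finite powers -/
theorem exists_power (X : Over (Spec (CommRingCat.of k))) [LocallyOfFiniteType X.hom] (n : ℕ) :
    ∃ (Q : Over (Spec (CommRingCat.of k))) (π : Fin n → (Q ⟶ X)), LocallyOfFiniteType Q.hom ∧
      ∀ (T : Over (Spec (CommRingCat.of k))) (x : Fin n → (T ⟶ X)), ∃ t : T ⟶ Q, ∀ j, t ≫ π j = x j := by
  induction n with
  | zero =>
    exact ⟨𝟙_ _, Fin.elim0, inferInstanceAs (LocallyOfFiniteType (𝟙 _)),
      fun T x => ⟨toUnit T, fun j => j.elim0⟩⟩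
  | succ n ih =>
    obtain ⟨Q, π, hQ, h⟩ := ih
    refine ⟨X ⊗ Q, Fin.cons (fst X Q) (fun j => snd X Q ≫ π j), ?_, fun T x => ?_⟩
    · show LocallyOfFiniteType (pullback.fst X.hom Q.hom ≫ X.hom)
      infer_instance
    · obtain ⟨t, ht⟩ := h T (fun j => x j.succ)
      refine ⟨lift (x 0) t, fun j => Fin.cases ?_ (fun i => ?_) j⟩
      · simp
      · simp [ht i]

/-- a point lying over a closed set can be replaced by a rational point -/
theorem exists_point {Q G : Over (Spec (CommRingCat.of k))} [LocallyOfFiniteType Q.hom]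
    [LocallyOfFiniteType G.hom] (w : Q ⟶ G) (g : 𝟙_ (Over (Spec (CommRingCat.of k))) ⟶ G)
    (p₀ : (𝟙_ (Over (Spec (CommRingCat.of k)))).left) (q : Q.left) (hq : w.left.base q = g.left.base p₀) :
    ∃ a : 𝟙_ (Over (Spec (CommRingCat.of k))) ⟶ Q, a ≫ w = g := by
  have hg : g.left ≫ G.hom = 𝟙 _ := Over.w g
  let p : Spec (CommRingCat.of k) := p₀
  have hp : p = IsLocalRing.closedPoint k := Subsingleton.elim _ _
  have hz : IsClosed {g.left.base p₀} := by
    have := (pointEquivClosedPoint G.hom ⟨g.left, hg⟩).2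
    rw [show p₀ = (IsLocalRing.closedPoint k : Spec (CommRingCat.of k)) from hp]
    exact this
  have : JacobsonSpace Q.left := LocallyOfFiniteType.jacobsonSpace Q.hom
  obtain ⟨q₀, hq₀, hc⟩ := nonempty_inter_closedPoints (X := Q.left) (Z := w.left.base ⁻¹' {g.left.base p₀})
    ⟨q, hq⟩ (hz.preimage w.left.continuous).isLocallyClosed
  refine ⟨Over.homMk (pointOfClosedPoint Q.hom q₀ hc) (pointOfClosedPoint_comp _ _ _), Over.OverMorphism.ext ?_⟩
  refine ext_of_apply_closedPoint_eq G.hom ?_ hg ?_
  · exact Over.w (Over.homMk (pointOfClosedPoint Q.hom q₀ hc) (pointOfClosedPoint_comp _ _ _) ≫ w :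
      𝟙_ (Over (Spec (CommRingCat.of k))) ⟶ G)
  · show w.left (pointOfClosedPoint Q.hom q₀ hc (IsLocalRing.closedPoint k)) = _
    rw [pointOfClosedPoint_apply, ← hp]
    exact hq₀

end

/-- Let k be an algebraically closed field, G a group scheme locally of finite type over k, X a
geometrically reduced k-scheme locally of finite type, and f : X → G a k-morphism. Consider the
k-points g of G whose underlying point lies under a word in f: there are a k-scheme T, a point p of
T, n ≥ 0, T-valued points x_1, …, x_n of X and signs such that the T-valued point f(x_1)^{±1} ⋯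
f(x_n)^{±1} of G maps p to the point of g. These k-points form exactly the subgroup of G(k)
generated by the k-points of G whose underlying point lies in the image of f. (Words of length zero
are allowed here, so that the unit is on both sides when X is empty; for nonempty X this changes
nothing, while the published statement, with words of positive length only, fails for empty X.) -/
theorem result (k : Type u) [Field k] [IsAlgClosed k]
    (G X : Over (Spec (CommRingCat.of k))) [GrpObj G] [LocallyOfFiniteType G.hom]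
    [LocallyOfFiniteType X.hom] [GeometricallyReduced X.hom] (f : X ⟶ G) :
    {g : 𝟙_ (Over (Spec (CommRingCat.of k))) ⟶ G | ∃ (n : ℕ) (T : Over (Spec (CommRingCat.of k))) (p : T.left) (p₀ : (𝟙_ (Over (Spec (CommRingCat.of k)))).left)
        (x : Fin n → (T ⟶ X)) (ε : Fin n → Bool), ((List.ofFn fun j : Fin n => if ε j then x j ≫ f else (x j ≫ f)⁻¹).prod : T ⟶ G).left.base p = g.left.base p₀} =
      ((Subgroup.closure {g : 𝟙_ (Over (Spec (CommRingCat.of k))) ⟶ G | ∃ p₀ : (𝟙_ (Over (Spec (CommRingCat.of k)))).left, g.left.base p₀ ∈ Set.range f.left.base} :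
        Subgroup (𝟙_ (Over (Spec (CommRingCat.of k))) ⟶ G)) : Set (𝟙_ (Over (Spec (CommRingCat.of k))) ⟶ G)) := by
  ext g
  constructor
  · rintro ⟨n, T, p, p₀, x, ε, h⟩
    obtain ⟨Q, π, hQ, hu⟩ := exists_power X n
    obtain ⟨t, ht⟩ := hu T x
    have e : t ≫ word f π ε = word f x ε := by rw [comp_word]; simp only [ht]
    obtain ⟨a, ha⟩ := exists_point (word f π ε) g p₀ (t.left.base p) (by
      rw [← h]
      exact congrArg (fun φ : T ⟶ G => φ.left.base p) e)
    rw [comp_word] at ha
    rw [← ha]
    refine list_prod_mem fun y hy => ?_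
    obtain ⟨j, rfl⟩ := List.mem_ofFn.1 hy
    have hj : (a ≫ π j) ≫ f ∈ Subgroup.closure {g : 𝟙_ (Over (Spec (CommRingCat.of k))) ⟶ G |
        ∃ p₀ : (𝟙_ (Over (Spec (CommRingCat.of k)))).left, g.left.base p₀ ∈ Set.range f.left.base} :=
      Subgroup.subset_closure ⟨p₀, (a ≫ π j).left.base p₀, rfl⟩
    dsimp only
    split
    · exact hj
    · exact inv_mem hj
  · intro hg
    let p₀ : (𝟙_ (Over (Spec (CommRingCat.of k)))).left := IsLocalRing.closedPoint k
    let v : Bool × (𝟙_ (Over (Spec (CommRingCat.of k))) ⟶ X) → (𝟙_ (Over (Spec (CommRingCat.of k))) ⟶ G) :=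
      fun b => if b.1 then b.2 ≫ f else (b.2 ≫ f)⁻¹
    suffices ∃ l, (List.map v l).prod = g by
      obtain ⟨l, hl⟩ := this
      refine ⟨l.length, 𝟙_ _, p₀, p₀, fun j => (l.get j).2, fun j => (l.get j).1, ?_⟩
      have e : (List.ofFn fun j : Fin l.length => v (l.get j)) = l.map v := by
        rw [show (fun j : Fin l.length => v (l.get j)) = v ∘ l.get from rfl, ← List.map_ofFn, List.ofFn_get]
      exact congrArg (fun φ : 𝟙_ (Over (Spec (CommRingCat.of k))) ⟶ G => φ.left.base p₀)
        ((congrArg List.prod e).trans hl)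
    induction hg using Subgroup.closure_induction with
    | mem g hg =>
      obtain ⟨q₀, y, hy⟩ := hg
      obtain ⟨a, ha⟩ := exists_point f g q₀ y hy
      exact ⟨[(true, a)], by simp [v, ha]⟩
    | one => exact ⟨[], rfl⟩
    | mul a b _ _ ha hb =>
      obtain ⟨l, rfl⟩ := ha
      obtain ⟨l', rfl⟩ := hb
      exact ⟨l ++ l', by simp⟩
    | inv a _ ha =>
      obtain ⟨l, rfl⟩ := ha
      refine ⟨(l.map fun b => (!b.1, b.2)).reverse, ?_⟩
      rw [List.prod_inv_reverse, List.map_reverse, List.map_map, List.map_map]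
      congr 2
      refine List.map_congr_left fun b _ => ?_
      rcases b with ⟨_ | _, b⟩ <;> simp [v]

end Groth.Agent.S6075
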