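import Groth.Statements.S19409
import Groth.Agent.AlgGrp1.Orbit
import Groth.Agent.S6075

set_option autoImplicit false
universe u
open CategoryTheory MonoidalCategory CartesianMonoidalCategory MonObj AlgebraicGeometry Topology
open NRQuot

namespace Groth.Agent.S19409

/-- rational points are closed immersions -/
theorem isClosedImmersion_point {k : Type u} [Field k] {Y : Over (Spec (CommRingCat.of k))}
    (y : 𝟙_ (Over (Spec (CommRingCat.of k))) ⟶ Y) : IsClosedImmersion y.left := by
  let p : Y.left := y.left.base (IsLocalRing.closedPoint k : Spec (CommRingCat.of k))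
  have hsing : Set.range y.left.base = {p} := by
    refine Set.eq_singleton_iff_unique_mem.2 ⟨⟨_, rfl⟩, ?_⟩
    rintro _ ⟨s, rfl⟩
    exact congrArg y.left.base (Subsingleton.elim (α := Spec (CommRingCat.of k)) _ _)
  have hy : y.left ≫ Y.hom = 𝟙 _ := Over.w y
  have : IsImmersion (y.left ≫ Y.hom) := hy ▸ inferInstanceAs (IsImmersion (𝟙 _))
  have : IsImmersion y.left := IsImmersion.of_comp y.left Y.hom
  refine IsClosedImmersion.of_isPreimmersion y.left ?_
  rw [hsing, ← closure_subset_iff_isClosed]
  intro z hz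
  obtain ⟨_, ⟨W, hW, rfl⟩, hzW, -⟩ := Y.left.isBasis_affineOpens.exists_subset_of_mem_open
    (Set.mem_univ z) isOpen_univ
  have hpW : p ∈ W := by
    obtain ⟨q, hq, hq'⟩ := mem_closure_iff.1 hz W W.2 hzW
    exact (Set.mem_singleton_iff.1 hq') ▸ hq
  have hsub : Set.range y.left.base ⊆ Set.range (Scheme.Opens.ι W).base := by
    rw [Scheme.Opens.range_ι, hsing]
    exact Set.singleton_subset_iff.2 hpW
  have : IsAffine (Scheme.Opens.toScheme W) := hW
  have := isClosedImmersion_of_comp_eq_id ((Scheme.Opens.ι W) ≫ Y.hom) (IsOpenImmersion.lift (Scheme.Opens.ι W) y.left hsub) (by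
    rw [IsOpenImmersion.lift_fac_assoc]; exact hy)
  have hcl := (IsOpenImmersion.lift (Scheme.Opens.ι W) y.left hsub).isClosedEmbedding.isClosed_range
  obtain ⟨C, hC, hCe⟩ := (Topology.IsInducing.subtypeVal (t := (W : Set Y.left))).isClosed_iff.1 hcl
  have hpC : p ∈ C := by
    have : (⟨p, hpW⟩ : W) ∈ Subtype.val ⁻¹' C := hCe ▸ ⟨IsLocalRing.closedPoint k, Subtype.ext
      (congrArg (fun m : Spec (CommRingCat.of k) ⟶ Y.left => m.base (IsLocalRing.closedPoint k))
        (IsOpenImmersion.lift_fac (Scheme.Opens.ι W) y.left hsub))⟩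
    exact this
  have hzC : (⟨z, hzW⟩ : W) ∈ Subtype.val ⁻¹' C :=
    closure_minimal (Set.singleton_subset_iff.2 hpC) hC hz
  obtain ⟨s, hs⟩ := (Set.ext_iff.1 hCe ⟨z, hzW⟩).1 hzC
  have e : y.left.base s = z := (congrArg (fun m : Spec (CommRingCat.of k) ⟶ Y.left => m.base s)
    (IsOpenImmersion.lift_fac (Scheme.Opens.ι W) y.left hsub)).symm.trans (congrArg Subtype.val hs)
  exact hsing ▸ ⟨s, e⟩

/-- Suppose k is a field that is algebraically closed (its characteristic is arbitrary, since
characteristic zero plays no role in the argument). Consider an algebraic group G over k, i.e. an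
affine group scheme of finite type over k, together with an action of G on a k-scheme X that is
locally of finite type, and assume φ : X → Y is a good quotient (meaning φ is affine and invariant,
on each open of Y the functions are precisely the invariant functions on its preimage, closed
invariant subsets are sent to closed subsets, and taking images commutes with intersecting families
of closed invariant subsets). Given any k-point y of Y, one can find a k-point x of X lying over y
whose orbit (the image of the orbit morphism G → X) is a closed subset of X; moreover, whenever x'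
is a k-point of X over y with closed orbit, x' is obtained from x by acting with some k-point of G.
In other words, each fibre of φ over a k-point contains a unique closed orbit. -/
theorem result
    (k : Type u) [Field k] [IsAlgClosed k]
    (G X Y : Over (Spec (CommRingCat.of k))) [GrpObj G] [IsAffine G.left] [LocallyOfFiniteType G.hom]
    [LocallyOfFiniteType X.hom]
    (a : AlgGrp.Action G X) (φ : X ⟶ Y) (h : NRQuot.IsGoodQuot a φ)
    (y : 𝟙_ (Over (Spec (CommRingCat.of k))) ⟶ Y) :
    ∃ x : 𝟙_ (Over (Spec (CommRingCat.of k))) ⟶ X, x ≫ φ = y ∧ IsClosed (Set.range (a.orbitMap x).left.base) ∧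
      ∀ x' : 𝟙_ (Over (Spec (CommRingCat.of k))) ⟶ X, x' ≫ φ = y → IsClosed (Set.range (a.orbitMap x').left.base) →
        ∃ g : 𝟙_ (Over (Spec (CommRingCat.of k))) ⟶ G, lift g x ≫ a.act = x' := by
  have := h.affine
  have : QuasiCompact G.hom := (quasiCompact_iff_compactSpace G.hom).2 inferInstance
  have := isClosedImmersion_point y
  let p₀ : (𝟙_ (Over (Spec (CommRingCat.of k)))).left := (IsLocalRing.closedPoint k : Spec (CommRingCat.of k))
  -- the fibre
  obtain ⟨F, jF, π, sq⟩ : ∃ (F : Over (Spec (CommRingCat.of k))) (jF : F ⟶ X) (π : F ⟶ 𝟙_ _),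
      IsPullback jF π φ y := ⟨_, _, _, IsPullback.of_hasPullback φ y⟩
  have hmy : Mono y := Over.mono_of_mono_left y
  have sql : IsPullback jF.left π.left φ.left y.left := sq.map (Over.forget _)
  have hjF : IsClosedImmersion jF.left := MorphismProperty.of_isPullback sql.flip inferInstance
  have hmjF : Mono jF := Over.mono_of_mono_left jF
  have hπ : IsAffineHom π.left := MorphismProperty.of_isPullback sql h.affine
  have : LocallyOfFiniteType F.hom := by rw [← Over.w jF]; infer_instance
  have : QuasiCompact F.hom := by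
    rw [← Over.w π]
    exact inferInstanceAs (QuasiCompact (π.left ≫ 𝟙 _))
  have hact : ((G ◁ jF) ≫ a.act) ≫ φ = toUnit _ ≫ y := by
    rw [Category.assoc, h.inv, whiskerLeft_snd_assoc, sq.w, ← Category.assoc, toUnit_unique (snd G F ≫ π) (toUnit _)]
  let m : G ⊗ F ⟶ F := sq.lift ((G ◁ jF) ≫ a.act) (toUnit _) hact
  have hm : m ≫ jF = (G ◁ jF) ≫ a.act := sq.lift_fst _ _ _
  let b : AlgGrp.Action G F :=
    { act := m
      one_act := by
        rw [← cancel_mono jF, Category.assoc, hm, ← whisker_exchange_assoc, a.one_act]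
        simp
      mul_act := by
        rw [← cancel_mono jF, Category.assoc, hm, ← whisker_exchange_assoc, a.mul_act,
          Category.assoc, Category.assoc, hm, ← MonoidalCategory.whiskerLeft_comp_assoc, hm]
        simp }
  have : Nonempty F.left := by
    have hs := h.inter PEmpty.{u + 1} PEmpty.elim (fun i => i.elim) (fun i => i.elim)
    simp only [Set.iInter_of_empty, Set.image_univ] at hs
    obtain ⟨q, hq⟩ : y.left.base p₀ ∈ Set.range φ.left.base := hs ▸ trivial
    obtain ⟨r, -, -⟩ := Scheme.exists_preimage_of_isPullback sql q p₀ hq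
    exact ⟨r⟩
  obtain ⟨x₁, hx₁⟩ := Groth.AlgGrp1.exists_isClosed_range_orbitMap b
  have horb : b.orbitMap x₁ ≫ jF = a.orbitMap (x₁ ≫ jF) := by
    show (lift (𝟙 G) (toUnit G ≫ x₁) ≫ m) ≫ jF = lift (𝟙 G) (toUnit G ≫ x₁ ≫ jF) ≫ a.act
    rw [Category.assoc, hm, lift_whiskerLeft_assoc, Category.assoc]
  have hxφ : (x₁ ≫ jF) ≫ φ = y := by
    rw [Category.assoc, sq.w, ← Category.assoc, toUnit_unique (x₁ ≫ π) (𝟙 _), Category.id_comp]
  have hclosed : IsClosed (Set.range (a.orbitMap (x₁ ≫ jF)).left.base) := by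
    rw [← horb, Over.comp_left, Scheme.Hom.comp_base, TopCat.coe_comp, Set.range_comp]
    exact jF.left.isClosedEmbedding.isClosedMap _ hx₁
  refine ⟨x₁ ≫ jF, hxφ, hclosed, fun x' hx' hc' => ?_⟩
  let x := x₁ ≫ jF
  -- orbits are invariant
  have hinv : ∀ z : 𝟙_ _ ⟶ X, Groth.AlgGrp1.IsInvariant a (Set.range (a.orbitMap z).left.base) := fun z =>
    Groth.AlgGrp1.isInvariant_range (Groth.AlgGrp1.regularAction G) a _ (Groth.AlgGrp1.orbitMap_equivariant a z)
  have hset : ∀ z : 𝟙_ _ ⟶ X, IsInvariantSet a (Set.range (a.orbitMap z).left.base) := fun z q hq =>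
    (hinv z).ge hq
  have hmem : ∀ z : 𝟙_ _ ⟶ X, z.left.base p₀ ∈ Set.range (a.orbitMap z).left.base := by
    intro z
    have e : η[G] ≫ a.orbitMap z = z := by
      rw [Groth.AlgGrp1.comp_orbit, toUnit_unique (toUnit _) (𝟙 _), Category.id_comp,
      show η[G] = (1 : 𝟙_ _ ⟶ G) from MonObj.one_eq_one G, a.lift_one_act]
    exact ⟨η[G].left.base p₀, congrArg (fun w : 𝟙_ (Over (Spec (CommRingCat.of k))) ⟶ X => w.left.base p₀) e⟩
  let Wf : ULift.{u} Bool → Set X.left := fun i => if i.down then Set.range (a.orbitMap x).left.base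
    else Set.range (a.orbitMap x').left.base
  have hW := h.inter _ Wf (fun i => by rcases i with ⟨_ | _⟩ <;> assumption)
    (fun i => by rcases i with ⟨_ | _⟩ <;> exact hset _)
  obtain ⟨q, hq, -⟩ : y.left.base p₀ ∈ φ.left.base '' (⋂ i, Wf i) := by
    rw [hW, Set.mem_iInter]
    rintro ⟨_ | _⟩
    · exact ⟨_, hmem x', congrArg (fun w : 𝟙_ _ ⟶ Y => w.left.base p₀) hx'⟩
    · exact ⟨_, hmem x, congrArg (fun w : 𝟙_ _ ⟶ Y => w.left.base p₀) hxφ⟩
  have hq1 : q ∈ Set.range (a.orbitMap x).left.base := Set.mem_iInter.1 hq ⟨true⟩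
  have hq2 : q ∈ Set.range (a.orbitMap x').left.base := Set.mem_iInter.1 hq ⟨false⟩
  obtain ⟨w, hw⟩ := hq2
  have huniv := ((hinv x).preimage_orbitMap x').eq_univ_regular ⟨w, by rw [Set.mem_preimage, hw]; exact hq1⟩
  obtain ⟨w', hw'⟩ := hmem x'
  obtain ⟨g₀, hg₀⟩ : x'.left.base p₀ ∈ Set.range (a.orbitMap x).left.base := by
    rw [← hw']
    exact huniv.ge (Set.mem_univ w')
  obtain ⟨g, hg⟩ := Groth.Agent.S6075.exists_point (a.orbitMap x) x' p₀ g₀ hg₀
  refine ⟨g, ?_⟩
  rw [← hg, Groth.AlgGrp1.comp_orbit, toUnit_unique (toUnit _) (𝟙 _), Category.id_comp]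

end Groth.Agent.S19409
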