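import Groth.Statements.S15349
import Groth.Agent.AlgSp2.MonoPoint

set_option autoImplicit false
universe u
open CategoryTheory CategoryTheory.Limits AlgebraicGeometry
open Mor

namespace Groth.Agent.S15349

/-- The residue field extensions of a monomorphism are trivial. -/
theorem isIso_residueFieldMap_of_mono {X Y : Scheme.{u}} (f : Y ⟶ X) [Mono f] (y : Y) :
    IsIso (f.residueFieldMap y) := by
  have : Mono (Spec.map (f.residueFieldMap y)) := by
    have : Mono (Spec.map (f.residueFieldMap y) ≫ X.fromSpecResidueField (f y)) := by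
      rw [Scheme.Hom.SpecMap_residueFieldMap_fromSpecResidueField]; infer_instance
    exact mono_of_mono _ (X.fromSpecResidueField (f y))
  have : IsIso (Spec.map (f.residueFieldMap y)) :=
    Groth.AlgSp2.isIso_of_mono_to_field (K := X.residueField (f y)) _
  exact (ConcreteCategory.isIso_iff_bijective _).2 ((isIso_SpecMap_iff).1 ‹_›)

/-- A point lifts over its residue field as soon as its image lies in the image of the monomorphism. -/
theorem exists_lift_residue {X Y T : Scheme.{u}} (f : Y ⟶ X) [Mono f] (s : T ⟶ X) (p : T) (y : Y)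
    (hy : f y = s p) :
    ∃ l : Spec (T.residueField p) ⟶ Y, l ≫ f = T.fromSpecResidueField p ≫ s := by
  have := isIso_residueFieldMap_of_mono f y
  refine ⟨Spec.map (s.residueFieldMap p) ≫ Spec.map (X.residueFieldCongr hy).hom ≫
    Spec.map (inv (f.residueFieldMap y)) ≫ Y.fromSpecResidueField y, ?_⟩
  simp only [Category.assoc]
  rw [← Scheme.Hom.SpecMap_residueFieldMap_fromSpecResidueField (f := f) y,
    ← Spec.map_comp_assoc (f.residueFieldMap y) (inv (f.residueFieldMap y)),
    IsIso.hom_inv_id, Spec.map_id, Category.id_comp,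
    Scheme.residueFieldCongr_fromSpecResidueField hy,
    Scheme.Hom.SpecMap_residueFieldMap_fromSpecResidueField]

/-- Noetherian induction: the preimage of every closed subset of an affine open is compact. -/
theorem isCompact_preimage_of_denseLift {X Y : Scheme.{u}} (f : Y ⟶ X) [Mono f]
    (hc : ∀ (A : Type u) [CommRing A] [IsDomain A] (s : Spec (CommRingCat.of A) ⟶ X) (D : Set ↥(Spec (CommRingCat.of A))),
        Dense D →
        (∀ p ∈ D, ∃ l : Spec ((Spec (CommRingCat.of A)).residueField p) ⟶ Y,
            l ≫ f = (Spec (CommRingCat.of A)).fromSpecResidueField p ≫ s) →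
          ∃ U : (Spec (CommRingCat.of A)).Opens, (U : Set ↥(Spec (CommRingCat.of A))).Nonempty ∧
            ∃ l : (U : Scheme.{u}) ⟶ Y, l ≫ f = U.ι ≫ s)
    (R : CommRingCat.{u}) [IsNoetherianRing R] (j : Spec R ⟶ X)
    (Z : TopologicalSpace.Closeds ↥(Spec R)) :
    IsCompact (f ⁻¹' (j '' (Z : Set ↥(Spec R))) : Set Y) := by
  have : TopologicalSpace.NoetherianSpace ↥(Spec R) :=
    (inferInstance : TopologicalSpace.NoetherianSpace (PrimeSpectrum R))
  induction Z using WellFoundedLT.induction with
  | ind Z ih =>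
    rcases Set.eq_empty_or_nonempty (Z : Set ↥(Spec R)) with hZ | hZ
    · simp [hZ]
    by_cases hirr : IsPreirreducible (Z : Set ↥(Spec R))
    swap
    · rw [isPreirreducible_iff_isClosed_union_isClosed] at hirr
      push Not at hirr
      obtain ⟨z₁, z₂, hz₁, hz₂, hsub, h₁, h₂⟩ := hirr
      let Z₁ : TopologicalSpace.Closeds ↥(Spec R) := ⟨↑Z ∩ z₁, Z.isClosed.inter hz₁⟩
      let Z₂ : TopologicalSpace.Closeds ↥(Spec R) := ⟨↑Z ∩ z₂, Z.isClosed.inter hz₂⟩
      have hlt₁ : Z₁ < Z := lt_of_le_of_ne (fun x hx => hx.1)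
        (fun e => h₁ fun x hx => ((e ▸ hx : x ∈ Z₁) : x ∈ (Z : Set _) ∩ z₁).2)
      have hlt₂ : Z₂ < Z := lt_of_le_of_ne (fun x hx => hx.1)
        (fun e => h₂ fun x hx => ((e ▸ hx : x ∈ Z₂) : x ∈ (Z : Set _) ∩ z₂).2)
      have e : (Z : Set ↥(Spec R)) = (↑Z ∩ z₁) ∪ (↑Z ∩ z₂) := by
        rw [← Set.inter_union_distrib_left, Set.inter_eq_left.2 hsub]
      rw [e, Set.image_union, Set.preimage_union]
      exact (ih Z₁ hlt₁).union (ih Z₂ hlt₂)
    -- the part of `Z` met by the image
    let E : Set ↥(Spec R) := (Z : Set ↥(Spec R)) ∩ j ⁻¹' Set.range f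
    by_cases hd : closure E = (Z : Set ↥(Spec R))
    swap
    · let Z' : TopologicalSpace.Closeds ↥(Spec R) := ⟨closure E, isClosed_closure⟩
      have hle : closure E ⊆ (Z : Set ↥(Spec R)) := closure_minimal Set.inter_subset_left Z.isClosed
      have hlt : Z' < Z := lt_of_le_of_ne hle (fun e => hd (congrArg SetLike.coe e))
      have e : (f ⁻¹' (j '' (Z : Set ↥(Spec R))) : Set Y) = f ⁻¹' (j '' closure E) := by
        refine Set.Subset.antisymm ?_ (Set.preimage_mono (Set.image_mono hle))
        rintro y ⟨z, hz, hzy⟩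
        exact ⟨z, subset_closure ⟨hz, ⟨y, hzy.symm⟩⟩, hzy⟩
      rw [e]
      exact ih Z' hlt
    -- `Z` is the spectrum of a domain
    have hp : (PrimeSpectrum.vanishingIdeal (SetLike.coe Z : Set ↥(Spec R))).IsPrime :=
      PrimeSpectrum.isIrreducible_iff_vanishingIdeal_isPrime.1 ⟨hZ, hirr⟩
    let p : Ideal R := PrimeSpectrum.vanishingIdeal (SetLike.coe Z : Set ↥(Spec R))
    have : p.IsPrime := hp
    let A : Type u := R ⧸ p
    let i : Spec (CommRingCat.of A) ⟶ Spec R := Spec.map (CommRingCat.ofHom (Ideal.Quotient.mk p))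
    have hri : Set.range i = (Z : Set ↥(Spec R)) := by
      refine ((range_comap_of_surjective _ (Ideal.Quotient.mk p)
        Ideal.Quotient.mk_surjective).trans ?_)
      rw [Ideal.mk_ker, PrimeSpectrum.zeroLocus_vanishingIdeal_eq_closure]; exact Z.isClosed.closure_eq
    have hie : Topology.IsClosedEmbedding i :=
      PrimeSpectrum.isClosedEmbedding_comap_of_surjective _ _ Ideal.Quotient.mk_surjective
    have hD : Dense (i ⁻¹' E) := by
      rw [dense_iff_closure_eq, hie.isInducing.closure_eq_preimage_closure_image]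
      rw [Set.image_preimage_eq_of_subset (by rw [hri]; exact Set.inter_subset_left), hd, ← hri,
        Set.preimage_range]
    obtain ⟨U, hU, l, hl⟩ := hc A (i ≫ j) (i ⁻¹' E) hD fun q hq => by
      obtain ⟨y, hy⟩ := hq.2
      exact exists_lift_residue f (i ≫ j) q y (by rw [hy, Scheme.Hom.comp_apply])
    obtain ⟨q, hq⟩ := hU
    obtain ⟨V, hV, hqV, hVU⟩ := exists_isAffineOpen_mem_and_subset (X := Spec (CommRingCat.of A))
      (x := q) (U := U) hq
    -- the closed complement of the open piece that lifts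
    obtain ⟨W, hW, hWV⟩ := hie.isInducing.isOpen_iff.1 V.2
    let Z' : TopologicalSpace.Closeds ↥(Spec R) :=
      ⟨↑Z ∩ Wᶜ, Z.isClosed.inter hW.isClosed_compl⟩
    have hlt : Z' < Z := by
      refine lt_of_le_of_ne (fun x hx => hx.1) (fun e => ?_)
      have h1 : i q ∈ Z' := by rw [e]; exact SetLike.mem_coe.1 (hri.le (Set.mem_range_self q))
      exact h1.2 ((hWV.symm ▸ hqV : q ∈ i ⁻¹' W))
    let C : Set Y := l '' (U.ι ⁻¹' (V : Set ↥(Spec (CommRingCat.of A))))
    have hC : IsCompact C := by
      refine IsCompact.image ?_ l.continuous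
      exact (U.ι.isOpenEmbedding.isInducing.isCompact_preimage_iff
        (by rw [Scheme.Opens.range_ι]; exact hVU)).2 hV.isCompact
    have hfl : ∀ t, f (l t) = j (i (U.ι t)) := fun t => by
      rw [← Scheme.Hom.comp_apply, hl]; rfl
    have e : (f ⁻¹' (j '' (Z : Set ↥(Spec R))) : Set Y) =
        C ∪ f ⁻¹' (j '' ((Z : Set ↥(Spec R)) ∩ Wᶜ)) := by
      refine Set.Subset.antisymm ?_ (Set.union_subset ?_
        (Set.preimage_mono (Set.image_mono Set.inter_subset_left)))
      · rintro y ⟨z, hz, hzy⟩
        by_cases hzW : z ∈ W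
        · obtain ⟨t, rfl⟩ := hri.symm ▸ hz
          have htV : t ∈ V := (hWV.le hzW :)
          refine Or.inl ⟨⟨t, hVU htV⟩, htV, ?_⟩
          refine f.injective ?_
          rw [hfl, ← hzy]; rfl
        · exact Or.inr ⟨z, ⟨hz, hzW⟩, hzy⟩
      · rintro y ⟨t, -, rfl⟩
        exact ⟨i (U.ι t), hri.le (Set.mem_range_self _), (hfl t).symm⟩
    rw [e]
    exact hC.union (ih Z' hlt)


/-- Let X be a locally Noetherian scheme and f : Y ⟶ X a monomorphism locally of finite presentation
such that, for every integral domain A and every morphism s : Spec A ⟶ X for which the points of a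
dense subset of Spec A lift to Y (the residue field of each such point maps to Y over s), some
nonempty open subscheme of Spec A maps to Y over s. Then f is quasi-compact. (The published remark
is for a representable morphism of algebraic stacks; this row is the case of schemes.) -/
theorem result {X Y : Scheme.{u}} [IsLocallyNoetherian X]
    (f : Y ⟶ X) [LocallyOfFinitePresentation f] [Mono f]
    (hc : ∀ (A : Type u) [CommRing A] [IsDomain A] (s : Spec (CommRingCat.of A) ⟶ X) (D : Set ↥(Spec (CommRingCat.of A))),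
        Dense D →
        (∀ p ∈ D, ∃ l : Spec ((Spec (CommRingCat.of A)).residueField p) ⟶ Y,
            l ≫ f = (Spec (CommRingCat.of A)).fromSpecResidueField p ≫ s) →
          ∃ U : (Spec (CommRingCat.of A)).Opens, (U : Set ↥(Spec (CommRingCat.of A))).Nonempty ∧
            ∃ l : (U : Scheme.{u}) ⟶ Y, l ≫ f = U.ι ≫ s) :
    QuasiCompact f := by
  rw [quasiCompact_iff_forall_isAffineOpen]
  intro U hU
  have : IsNoetherianRing Γ(X, U) := IsLocallyNoetherian.component_noetherian ⟨U, hU⟩
  have h := isCompact_preimage_of_denseLift f hc Γ(X, U) hU.fromSpec ⊤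
  rwa [TopologicalSpace.Closeds.coe_top, Set.image_univ, hU.range_fromSpec] at h

end Groth.Agent.S15349
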