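import Groth.Statements.S15344
import Groth.Agent.S15349

set_option autoImplicit false
universe u
open CategoryTheory CategoryTheory.Limits AlgebraicGeometry
open Mor

namespace Groth.Agent.S15344

open IsLocalRing

/-- A morphism from the spectrum of a field lifts along a monomorphism as soon as its image does. -/
theorem exists_lift_field {P T : Scheme.{u}} (q : P ⟶ T) [Mono q] {K : Type u} [Field K]
    (k : Spec (CommRingCat.of K) ⟶ T) (y : P) (hy : q y = k (closedPoint K)) :
    ∃ l : Spec (CommRingCat.of K) ⟶ P, l ≫ q = k := by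
  obtain ⟨l, hl⟩ := Groth.Agent.S15349.exists_lift_residue q k (closedPoint K) y hy
  refine ⟨Spec.map (Scheme.descResidueField (Scheme.stalkClosedPointTo
    (𝟙 (Spec (CommRingCat.of K))))) ≫ l, ?_⟩
  rw [Category.assoc]
  refine (congrArg _ hl).trans ?_
  refine (Category.assoc _ _ _).symm.trans ?_
  exact (congrArg (· ≫ k) (Scheme.descResidueField_stalkClosedPointTo_fromSpecResidueField K
    (Spec (CommRingCat.of K)) (𝟙 _))).trans (Category.id_comp k)

set_option backward.isDefEq.respectTransparency.types false in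
/-- Reflection of specializations after base change follows from the valuative lifting property. -/
theorem reflects_of_lift {X Y : Scheme.{u}} (f : Y ⟶ X) [Mono f]
    (H : ∀ S : ValuativeCommSq f,
        (∃ l₀ : Spec (CommRingCat.of (IsLocalRing.ResidueField S.R)) ⟶ Y,
            l₀ ≫ f = Spec.map (CommRingCat.ofHom (IsLocalRing.residue S.R)) ≫ S.i₂) →
          S.commSq.HasLift)
    (X' : Scheme.{u}) (g : X' ⟶ X) (y₀ y₁ : ↥(pullback f g))
    (h : (pullback.snd f g).base y₁ ⤳ (pullback.snd f g).base y₀) : y₁ ⤳ y₀ := by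
  let q := pullback.snd f g
  let ψ : X'.presheaf.stalk (q y₀) ⟶ (pullback f g).residueField y₁ :=
    X'.presheaf.stalkSpecializes h ≫ q.stalkMap y₁ ≫ (pullback f g).residue y₁
  obtain ⟨A, hA, hA_local⟩ := exists_factor_valuationRing ψ.hom
  let ψA : X'.presheaf.stalk (q y₀) ⟶ .of A :=
    CommRingCat.ofHom (ψ.hom.codRestrict _ hA)
  let k : Spec (CommRingCat.of A) ⟶ X' := Spec.map ψA ≫ X'.fromSpecStalk (q y₀)
  have w : (pullback f g).fromSpecResidueField y₁ ≫ q =
      Spec.map (CommRingCat.ofHom (algebraMap A ((pullback f g).residueField y₁))) ≫ k := by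
    rw [Scheme.fromSpecResidueField, Category.assoc, ← Scheme.SpecMap_stalkMap_fromSpecStalk,
      ← Scheme.SpecMap_stalkSpecializes_fromSpecStalk h]
    simp_rw [k, ← Spec.map_comp_assoc]
    rfl
  have hk : k (closedPoint A) = q y₀ := by
    have : Spec.map ψA (closedPoint A) = closedPoint (X'.presheaf.stalk (q y₀)) :=
      comap_closedPoint (S := A) (ψ.hom.codRestrict A.toSubring hA)
    rw [Scheme.Hom.comp_apply, this, X'.fromSpecStalk_closedPoint]
  obtain ⟨l₀, hl₀⟩ := exists_lift_field q
    (Spec.map (CommRingCat.ofHom (IsLocalRing.residue A)) ≫ k) y₀ (by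
      have : Spec.map (CommRingCat.ofHom (IsLocalRing.residue A))
          (closedPoint (IsLocalRing.ResidueField A)) = closedPoint A :=
        comap_closedPoint (IsLocalRing.residue A)
      rw [Scheme.Hom.comp_apply]
      exact hk.symm.trans (congrArg k this.symm))
  let S : ValuativeCommSq f :=
    { R := A, K := (pullback f g).residueField y₁,
      i₁ := (pullback f g).fromSpecResidueField y₁ ≫ pullback.fst f g, i₂ := k ≫ g,
      commSq := ⟨by rw [Category.assoc, pullback.condition, reassoc_of% w]⟩ }
  obtain ⟨l, hl₁, hl₂⟩ := (H S ⟨l₀ ≫ pullback.fst f g, by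
    rw [Category.assoc, pullback.condition, reassoc_of% hl₀]⟩).exists_lift
  dsimp only [S] at hl₁ hl₂
  let m : Spec (CommRingCat.of A) ⟶ pullback f g := pullback.lift l k hl₂
  have hm₀ : m (closedPoint A) = y₀ := q.injective (by
    rw [← Scheme.Hom.comp_apply, pullback.lift_snd, hk])
  have hm₁ : m (Spec.map (CommRingCat.ofHom (algebraMap A ((pullback f g).residueField y₁)))
      (closedPoint ((pullback f g).residueField y₁))) = y₁ := q.injective (by
    rw [← Scheme.Hom.comp_apply, ← Scheme.Hom.comp_apply, pullback.lift_snd, ← w,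
      Scheme.Hom.comp_apply, Scheme.fromSpecResidueField_apply])
  exact (specializes_of_eq hm₁.symm).trans
    (((specializes_closedPoint _).map m.continuous).trans (specializes_of_eq hm₀))

set_option backward.isDefEq.respectTransparency false in
set_option backward.isDefEq.respectTransparency.types false in
/-- Lifting from a point over the closed point which is a specialization of the generic lift. -/
theorem hasLift_of_specializes {X Y : Scheme.{u}} (f : X ⟶ Y) (S : ValuativeCommSq f)
    (x : ↥(pullback S.i₂ f))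
    (h₁ : pullback.lift (Spec.map (CommRingCat.ofHom (algebraMap S.R S.K))) S.i₁ S.commSq.w.symm
      (closedPoint S.K) ⤳ x)
    (h₂ : pullback.fst S.i₂ f x = closedPoint S.R) : S.commSq.HasLift := by
  obtain ⟨R, K, i₁, i₂, ⟨w⟩⟩ := S
  dsimp only at x h₁ h₂ ⊢
  have : IsDomain (CommRingCat.of R) := ‹_›
  have : ValuationRing (CommRingCat.of R) := ‹_›
  let : Field (CommRingCat.of K) := ‹_›
  let lft := pullback.lift (Spec.map (CommRingCat.ofHom (algebraMap R K))) i₁ w.symm
  let e : CommRingCat.of R ≅ (Spec <| .of R).presheaf.stalk (pullback.fst i₂ f x) :=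
    (stalkClosedPointIso (.of R)).symm ≪≫
      (Spec <| .of R).presheaf.stalkCongr (.of_eq h₂.symm)
  let α := e.hom ≫ (pullback.fst i₂ f).stalkMap x
  have : IsLocalHom e.hom.hom := isLocalHom_of_isIso e.hom
  have : IsLocalHom α.hom := inferInstanceAs
    (IsLocalHom (((pullback.fst i₂ f).stalkMap x).hom.comp e.hom.hom))
  let β := (pullback i₂ f).presheaf.stalkSpecializes h₁ ≫ Scheme.stalkClosedPointTo lft
  have hαβ : α ≫ β = CommRingCat.ofHom (algebraMap R K) := by
    simp only [CommRingCat.coe_of, Iso.trans_hom, Iso.symm_hom, TopCat.Presheaf.stalkCongr_hom,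
      Category.assoc, α, e, β, stalkClosedPointIso_inv, StructureSheaf.toStalk]
    change (Scheme.ΓSpecIso (.of R)).inv ≫ (Spec <| .of R).presheaf.germ _ _ _ ≫ _ = _
    simp only [TopCat.Presheaf.germ_stalkSpecializes_assoc, Scheme.Hom.germ_stalkMap_assoc]
    simp only [TopologicalSpace.Opens.map_top]
    rw [Scheme.germ_stalkClosedPointTo lft ⊤ trivial]
    erw [← Scheme.Hom.comp_app_assoc lft (pullback.fst i₂ f)]
    rw [pullback.lift_fst]
    simp
  have hbij := (bijective_rangeRestrict_comp_of_valuationRing (R := R) (K := K) α.hom β.hom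
    (CommRingCat.hom_ext_iff.mp hαβ))
  let φ : (pullback i₂ f).presheaf.stalk x ⟶ CommRingCat.of R := CommRingCat.ofHom <|
    (RingEquiv.ofBijective _ hbij).symm.toRingHom.comp β.hom.rangeRestrict
  have hαφ : α ≫ φ = 𝟙 _ := by ext x; exact (RingEquiv.ofBijective _ hbij).symm_apply_apply x
  have hαφ' : (pullback.fst i₂ f).stalkMap x ≫ φ = e.inv := by
    rw [← cancel_epi e.hom, ← Category.assoc, hαφ, e.hom_inv_id]
  have hφβ : φ ≫ CommRingCat.ofHom (algebraMap R K) = β :=
    hαβ ▸ CommRingCat.hom_ext (RingHom.ext fun x ↦ congr_arg Subtype.val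
      ((RingEquiv.ofBijective _ hbij).apply_symm_apply (β.hom.rangeRestrict x)))
  refine ⟨⟨⟨Spec.map ((pullback.snd i₂ f).stalkMap x ≫ φ) ≫ X.fromSpecStalk _, ?_, ?_⟩⟩⟩
  · simp only [← Spec.map_comp_assoc, Category.assoc, hφβ]
    simp only [Spec.map_comp, Category.assoc, Scheme.SpecMap_stalkMap_fromSpecStalk,
      Scheme.SpecMap_stalkSpecializes_fromSpecStalk_assoc, β]
    rw [Scheme.Spec_stalkClosedPointTo_fromSpecStalk_assoc]
    simp [lft]
  · simp only [Spec.map_comp, Category.assoc, Scheme.SpecMap_stalkMap_fromSpecStalk,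
      ← pullback.condition]
    rw [← Scheme.SpecMap_stalkMap_fromSpecStalk_assoc, ← Spec.map_comp_assoc, hαφ']
    simp only [Iso.trans_inv, TopCat.Presheaf.stalkCongr_inv, Iso.symm_inv, Spec.map_comp,
      Category.assoc, Scheme.SpecMap_stalkSpecializes_fromSpecStalk_assoc, e]
    rw [← Spec_stalkClosedPointIso, ← Spec.map_comp_assoc,
      Iso.inv_hom_id, Spec.map_id, Category.id_comp]


/-- Let f : Y ⟶ X be a monomorphism of schemes, X quasi-separated. Then the projection Y ×_X X' ⟶ X'
reflects specializations (if the image of y₁ specializes to the image of y₀ then y₁ specializes to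
y₀) after every base change X' ⟶ X if and only if, for every valuation ring A with fraction field K
and every commutative square Spec K ⟶ Y, Spec A ⟶ X over f such that, in addition, some morphism
from the spectrum of the residue field of A to Y lies over Spec A ⟶ X, the square admits a lift Spec
A ⟶ Y. -/
theorem result {X Y : Scheme.{u}} [QuasiSeparatedSpace ↥X]
    (f : Y ⟶ X) [Mono f] :
    (∀ (X' : Scheme.{u}) (g : X' ⟶ X) (y₀ y₁ : ↥(pullback f g)),
        (pullback.snd f g).base y₁ ⤳ (pullback.snd f g).base y₀ → y₁ ⤳ y₀) ↔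
      ∀ S : ValuativeCommSq f,
        (∃ l₀ : Spec (CommRingCat.of (IsLocalRing.ResidueField S.R)) ⟶ Y,
            l₀ ≫ f = Spec.map (CommRingCat.ofHom (IsLocalRing.residue S.R)) ≫ S.i₂) →
          S.commSq.HasLift := by
  refine ⟨fun h S hl₀ => ?_, fun H X' g y₀ y₁ hy => reflects_of_lift f H X' g y₀ y₁ hy⟩
  obtain ⟨l₀, hl₀⟩ := hl₀
  let p₀ := pullback.lift l₀ (Spec.map (CommRingCat.ofHom (IsLocalRing.residue S.R))) hl₀
  let p₁ := pullback.lift S.i₁ (Spec.map (CommRingCat.ofHom (algebraMap S.R S.K))) S.commSq.w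
  have h₀ : pullback.snd f S.i₂ (p₀ (closedPoint _)) = closedPoint S.R := by
    rw [← Scheme.Hom.comp_apply, pullback.lift_snd]
    exact comap_closedPoint (IsLocalRing.residue S.R)
  have hs : p₁ (closedPoint S.K) ⤳ p₀ (closedPoint _) := h _ S.i₂ _ _ (by
    rw [h₀, ← Scheme.Hom.comp_apply, pullback.lift_snd]
    exact specializes_closedPoint _)
  refine hasLift_of_specializes f S ((pullbackSymmetry f S.i₂).hom (p₀ (closedPoint _))) ?_ ?_
  · have e : p₁ ≫ (pullbackSymmetry f S.i₂).hom =
        pullback.lift (Spec.map (CommRingCat.ofHom (algebraMap S.R S.K))) S.i₁ S.commSq.w.symm := by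
      apply pullback.hom_ext
      · rw [Category.assoc, pullbackSymmetry_hom_comp_fst]
        exact (pullback.lift_snd _ _ _).trans (pullback.lift_fst _ _ _).symm
      · rw [Category.assoc, pullbackSymmetry_hom_comp_snd]
        exact (pullback.lift_fst _ _ _).trans (pullback.lift_snd _ _ _).symm
    rw [← e]
    exact hs.map (pullbackSymmetry f S.i₂).hom.continuous
  · rw [← Scheme.Hom.comp_apply, pullbackSymmetry_hom_comp_fst]
    exact h₀

end Groth.Agent.S15344
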