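import Groth.Statements.S15348
import Groth.Agent.S15349
import Groth.Agent.S15344
import Groth.Agent.EGA43Valuative.DominatingDVR
import Mathlib.AlgebraicGeometry.ZariskisMainTheorem

set_option autoImplicit false
universe u
open CategoryTheory CategoryTheory.Limits AlgebraicGeometry
open Mor

namespace Groth.Agent.S15348

open IsLocalRing

/-- The lifting property for discrete valuation rings. -/
def DVRLift {X Y : Scheme.{u}} (f : Y ⟶ X) : Prop :=
  ∀ S : ValuativeCommSq f, IsDiscreteValuationRing S.R →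
    (∃ l₀ : Spec (CommRingCat.of (IsLocalRing.ResidueField S.R)) ⟶ Y,
        l₀ ≫ f = Spec.map (CommRingCat.ofHom (IsLocalRing.residue S.R)) ≫ S.i₂) →
      S.commSq.HasLift

/-- The lifting property for discrete valuation rings is stable under base change. -/
theorem DVRLift.of_isPullback {P Y W X : Scheme.{u}} {f : Y ⟶ X} {f' : P ⟶ W} {p : P ⟶ Y}
    {a : W ⟶ X} (h : IsPullback p f' f a) (hb : DVRLift f) : DVRLift f' := by
  intro S hS hl₀
  obtain ⟨l₀, hl₀⟩ := hl₀
  let S' : ValuativeCommSq f :=
    { R := S.R, K := S.K, i₁ := S.i₁ ≫ p, i₂ := S.i₂ ≫ a,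
      commSq := ⟨by rw [Category.assoc, h.w, reassoc_of% S.commSq.w]⟩ }
  obtain ⟨l, hl₁, hl₂⟩ := (hb S' hS ⟨l₀ ≫ p, by
    rw [Category.assoc, h.w, reassoc_of% hl₀]⟩).exists_lift
  refine ⟨⟨⟨h.lift l S.i₂ hl₂, ?_, h.lift_snd _ _ _⟩⟩⟩
  apply h.hom_ext
  · rw [Category.assoc, h.lift_fst]; exact hl₁
  · rw [Category.assoc, h.lift_snd, S.commSq.w]

/-- A dense quasi-compact open of an affine scheme contains every minimal prime. -/
theorem mem_of_isMin {B : Type u} [CommRing B] {U : Set (PrimeSpectrum B)} (hUo : IsOpen U)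
    (hUc : IsCompact U) (hUd : Dense U) (p : PrimeSpectrum B) (hp : IsMin p) : p ∈ U := by
  by_contra hpU
  obtain ⟨s, rfl⟩ := PrimeSpectrum.isCompact_isOpen_iff.1 ⟨hUc, hUo⟩
  rw [Set.mem_compl_iff, not_not, PrimeSpectrum.mem_zeroLocus] at hpU
  classical
  have hpm : p.asIdeal ∈ minimalPrimes B := PrimeSpectrum.isMin_iff.1 hp
  -- every element of `p` is killed, up to nilpotents, by an element outside `p`
  have hk : ∀ b ∈ p.asIdeal, ∃ c ∉ p.asIdeal, IsNilpotent (c * b) := by
    intro b hb
    have : IsNilpotent (algebraMap B (Localization.AtPrime p.asIdeal) b) := by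
      rw [← mem_nilradical]
      have h := IsLocalization.AtPrime.radical_map_of_mem_minimalPrimes
        (A := Localization.AtPrime p.asIdeal) p.asIdeal (⊥ : Ideal B) hpm
      rw [Ideal.map_bot] at h
      exact h.ge (Ideal.mem_map_of_mem _ hb)
    obtain ⟨n, hn⟩ := this
    rw [← map_pow] at hn
    obtain ⟨⟨c, hc⟩, hcb⟩ := (IsLocalization.map_eq_zero_iff p.asIdeal.primeCompl _ _).1 hn
    exact ⟨c, hc, n + 1, by
      rw [mul_pow, pow_succ c, pow_succ b]; linear_combination (c ^ n * b) * hcb⟩
  choose c hc hcn using fun b : s => hk b (hpU b.2)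
  let d := ∏ b : s, c b
  have hd : d ∉ p.asIdeal := fun h => by
    obtain ⟨b, -, hb⟩ := (Ideal.IsPrime.prod_mem_iff (p := p.asIdeal)).1 h
    exact hc b hb
  obtain ⟨q, hqd, hqU⟩ := hUd.exists_mem_open (PrimeSpectrum.basicOpen d).isOpen ⟨p, hd⟩
  refine hqd ?_
  rw [PrimeSpectrum.mem_zeroLocus]
  intro b hb
  have h₁ : c ⟨b, hb⟩ ∉ q.asIdeal := fun h =>
    hqU (q.asIdeal.mem_of_dvd (Finset.dvd_prod_of_mem c (Finset.mem_univ _)) h)
  exact (q.isPrime.mem_or_mem (nilradical_le_prime q.asIdeal (hcn ⟨b, hb⟩))).resolve_left h₁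

/-- An element of the residue field of a point of `Y` is a fraction of elements of the base. -/
theorem exists_fraction {A B : CommRingCat.{u}} (c : A ⟶ B) {Y : Scheme.{u}} (j : Y ⟶ Spec B)
    [IsOpenImmersion j] [Mono (j ≫ Spec.map c)] (η : PrimeSpectrum B) (yη : Y) (hη : j yη = η)
    (t : B) : ∃ a b : A, c b ∉ η.asIdeal ∧ c b * t - c a ∈ η.asIdeal := by
  let f := j ≫ Spec.map c
  have := η.isPrime
  let p : Ideal A := η.asIdeal.comap c.hom
  let L := FractionRing (B ⧸ η.asIdeal)
  let g : B →+* L := (algebraMap _ L).comp (Ideal.Quotient.mk η.asIdeal)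
  let K₀ := FractionRing (A ⧸ p)
  let e : K₀ →+* L := IsFractionRing.lift (K := K₀)
    (g := (algebraMap _ L).comp (Ideal.quotientMap η.asIdeal c.hom le_rfl))
    ((IsFractionRing.injective _ L).comp Ideal.quotientMap_injective)
  let g₀ : A →+* K₀ := (algebraMap _ K₀).comp (Ideal.Quotient.mk p)
  have he : e.comp g₀ = g.comp c.hom := by
    ext a
    simp only [e, g₀, g, RingHom.comp_apply]
    erw [IsFractionRing.lift_algebraMap]
    rw [RingHom.comp_apply, Ideal.quotientMap_mk]
  let s := Spec.map (CommRingCat.ofHom g₀)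
  have hs : s (closedPoint K₀) = f yη := by
    rw [Scheme.Hom.comp_apply, hη]
    refine PrimeSpectrum.ext ?_
    show (IsLocalRing.maximalIdeal K₀).comap g₀ = η.asIdeal.comap c.hom
    rw [IsLocalRing.maximalIdeal_eq_bot, ← RingHom.ker_eq_comap_bot,
      RingHom.ker_comp_of_injective _ (IsFractionRing.injective _ _), Ideal.mk_ker]
  obtain ⟨v, hv⟩ := Groth.Agent.S15344.exists_lift_field f s yη hs.symm
  have hgη : Spec.map (CommRingCat.ofHom g) (closedPoint L) = η := by
    refine PrimeSpectrum.ext ?_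
    show (IsLocalRing.maximalIdeal L).comap g = η.asIdeal
    rw [IsLocalRing.maximalIdeal_eq_bot, ← RingHom.ker_eq_comap_bot,
      RingHom.ker_comp_of_injective _ (IsFractionRing.injective _ _), Ideal.mk_ker]
  let v' : Spec (CommRingCat.of L) ⟶ Y := IsOpenImmersion.lift j (Spec.map (CommRingCat.ofHom g))
    (by
      rintro _ ⟨z, rfl⟩
      obtain rfl : z = closedPoint L := Subsingleton.elim _ _
      exact ⟨yη, hη.trans hgη.symm⟩)
  have hv' : v' ≫ j = Spec.map (CommRingCat.ofHom g) := IsOpenImmersion.lift_fac _ _ _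
  have hvv : Spec.map (CommRingCat.ofHom e) ≫ v = v' := by
    rw [← cancel_mono f, Category.assoc, hv]
    show _ = v' ≫ j ≫ Spec.map c
    rw [reassoc_of% hv', ← Spec.map_comp, ← Spec.map_comp]
    exact congrArg (fun φ => Spec.map (CommRingCat.ofHom φ)) he
  have hψ : e ((Spec.preimage (v ≫ j)).hom t) = g t := by
    have : Spec.preimage (v ≫ j) ≫ CommRingCat.ofHom e = CommRingCat.ofHom g := Spec.map_injective
      (by rw [Spec.map_comp, Spec.map_preimage, ← hv', ← hvv, Category.assoc])
    exact congrArg (fun φ : B ⟶ CommRingCat.of L => φ t) this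
  obtain ⟨a, b, hb', hab⟩ :=
    IsFractionRing.div_surjective (A := A ⧸ p) ((Spec.preimage (v ≫ j)).hom t)
  obtain ⟨a, rfl⟩ := Ideal.Quotient.mk_surjective a
  obtain ⟨b, rfl⟩ := Ideal.Quotient.mk_surjective b
  have hb0 : g (c b) ≠ 0 := by
    intro h
    refine nonZeroDivisors.ne_zero hb' ?_
    rw [Ideal.Quotient.eq_zero_iff_mem]
    exact (Ideal.Quotient.eq_zero_iff_mem.1
      ((IsFractionRing.to_map_eq_zero_iff (K := L) (R := B ⧸ η.asIdeal)).1 h) :
        c b ∈ η.asIdeal)
  refine ⟨a, b, fun h => hb0 ?_, ?_⟩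
  · simp [g, Ideal.Quotient.eq_zero_iff_mem.2 h]
  · rw [← hab, map_div₀] at hψ
    have h1 : e (g₀ a) = g (c a) := RingHom.congr_fun he a
    have h2 : e (g₀ b) = g (c b) := RingHom.congr_fun he b
    have h3 : g (c b * t - c a) = 0 := by
      rw [map_sub, map_mul, ← hψ]
      change g (c b) * (e (g₀ a) / e (g₀ b)) - g (c a) = 0
      rw [h1, h2, mul_div_cancel₀ _ hb0, sub_self]
    exact Ideal.Quotient.eq_zero_iff_mem.1 ((IsFractionRing.to_map_eq_zero_iff (K := L)).1 h3)

/-- Zariski's main theorem: a monomorphism with the lifting property meets every fibre of its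
normalization only once. -/
theorem eq_of_same_image {A B : CommRingCat.{u}} [IsNoetherianRing A] (c : A ⟶ B)
    (hc : c.hom.IsIntegral) {Y : Scheme.{u}} (j : Y ⟶ Spec B) [IsOpenImmersion j] [QuasiCompact j]
    (hj : DenseRange j) [Mono (j ≫ Spec.map c)] (hb : DVRLift (j ≫ Spec.map c)) (y : Y) (q' : Spec B)
    (hq : Spec.map c q' = Spec.map c (j y)) : q' = j y := by
  by_contra hne
  let f := j ≫ Spec.map c
  let _ : Algebra A B := c.hom.toAlgebra
  have : Algebra.IsIntegral A B := ⟨hc⟩
  -- an element of `q'` outside of `j y`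
  obtain ⟨t, ht', ht⟩ : ∃ t, t ∈ q'.asIdeal ∧ t ∉ (j y).asIdeal := by
    by_contra! hle
    rcases eq_or_lt_of_le (show q'.asIdeal ≤ (j y).asIdeal from hle) with h | h
    · exact hne (PrimeSpectrum.ext h)
    · obtain ⟨x, hx, hx'⟩ := Set.exists_of_ssubset h
      exact (Ideal.comap_lt_comap_of_integral_mem_sdiff (R := A) h.le ⟨hx, hx'⟩
        (Algebra.IsIntegral.isIntegral x)).ne (congrArg PrimeSpectrum.asIdeal hq)
  -- a generization of `q'` in the image of `Y`
  obtain ⟨m, hm, hmq⟩ := Ideal.exists_minimalPrimes_le (J := q'.asIdeal) (I := (⊥ : Ideal B)) bot_le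
  let η : PrimeSpectrum B := ⟨m, hm.1.1⟩
  obtain ⟨yη, hη⟩ : η ∈ Set.range j :=
    mem_of_isMin j.isOpenEmbedding.isOpen_range
      (by
        have : CompactSpace Y := QuasiCompact.compactSpace_of_compactSpace j
        exact isCompact_range j.continuous) hj η (PrimeSpectrum.isMin_iff.2 hm)
  have := η.isPrime
  -- the residue field of the generization comes from the base
  obtain ⟨a, b, hbη, hab⟩ := exists_fraction c j η yη hη t
  -- a discrete valuation ring dominating `q'` on the subring generated by `t`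
  let π := Ideal.Quotient.mkₐ A η.asIdeal
  let D : Subalgebra A (B ⧸ η.asIdeal) := Algebra.adjoin A {π t}
  have : Algebra.FiniteType A D :=
    (Subalgebra.fg_iff_finiteType D).1 (Subalgebra.fg_adjoin_finset {π t} |> fun h => by simpa using h)
  have : IsNoetherianRing D := Algebra.FiniteType.isNoetherianRing A D
  let Q : Ideal (B ⧸ η.asIdeal) := q'.asIdeal.map (Ideal.Quotient.mk η.asIdeal)
  have hηq : η.asIdeal ≤ q'.asIdeal := hmq
  have : Q.IsPrime := Ideal.map_isPrime_of_surjective Ideal.Quotient.mk_surjective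
    (by rw [Ideal.mk_ker]; exact hηq)
  have hQ : ∀ x, Ideal.Quotient.mk η.asIdeal x ∈ Q ↔ x ∈ q'.asIdeal := fun x => by
    rw [← Ideal.mem_comap, Ideal.comap_map_of_surjective' _ Ideal.Quotient.mk_surjective,
      Ideal.mk_ker, sup_eq_left.2 hηq]
  let P₀ : Ideal D := Q.comap D.val
  let R := Localization.AtPrime P₀
  have : IsNoetherianRing R := IsLocalization.isNoetherianRing P₀.primeCompl R inferInstance
  have hinjR : Function.Injective (algebraMap D R) :=
    IsLocalization.injective R P₀.primeCompl_le_nonZeroDivisors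
  have : IsDomain R := IsLocalization.isDomain_localization P₀.primeCompl_le_nonZeroDivisors
  let tD : D := ⟨π t, Algebra.subset_adjoin rfl⟩
  by_cases hR : IsField R
  · -- then `q'` is the generization, which is in the image of `Y`
    have hP₀ : P₀ = ⊥ := by
      have := IsLocalization.AtPrime.under_maximalIdeal R P₀
      rw [(IsLocalRing.isField_iff_maximalIdeal_eq).1 hR] at this
      exact this.symm.trans (Ideal.comap_bot_of_injective _ hinjR)
    have htη : t ∈ η.asIdeal := by
      have : tD ∈ P₀ := (hQ t).2 ht'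
      rw [hP₀, Ideal.mem_bot, ← Subtype.coe_inj] at this
      exact Ideal.Quotient.eq_zero_iff_mem.1 this
    have hpq : Spec.map c q' = Spec.map c η := by
      refine PrimeSpectrum.ext (le_antisymm (fun x hx => ?_) (Ideal.comap_mono hηq))
      have : algebraMap A D x ∈ P₀ := (hQ (c x)).2 hx
      rw [hP₀, Ideal.mem_bot, ← Subtype.coe_inj] at this
      exact (Ideal.Quotient.eq_zero_iff_mem.1 this : c x ∈ η.asIdeal)
    have : yη = y := f.injective (by
      rw [Scheme.Hom.comp_apply, Scheme.Hom.comp_apply, hη, ← hpq, hq])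
    exact ht (this ▸ hη.symm ▸ htη)
  obtain ⟨V, _, _, _, φ, hφ, hφl⟩ := Groth.EGA43Val.exists_dvr_dominating R hR
  let K := FractionRing V
  let γ : D →+* V := φ.comp (algebraMap D R)
  have hγ : ∀ x : D, γ x ∈ IsLocalRing.maximalIdeal V ↔ x ∈ P₀ := fun x => by
    rw [IsLocalRing.mem_maximalIdeal, mem_nonunits_iff, RingHom.comp_apply,
      isUnit_map_iff, IsLocalization.AtPrime.isUnit_to_map_iff R P₀, Ideal.mem_primeCompl_iff,
      not_not]
  let δ : A →+* V := γ.comp (algebraMap A D)
  have hδb : δ b ≠ 0 := by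
    intro h
    have h' : algebraMap A D b = 0 := hinjR (hφ (by simpa [δ, γ] using h))
    exact hbη (Ideal.Quotient.eq_zero_iff_mem.1 (congrArg Subtype.val h'))
  let s := Spec.map (CommRingCat.ofHom δ)
  let gen : Spec (CommRingCat.of K) ⟶ Spec (CommRingCat.of V) :=
    Spec.map (CommRingCat.ofHom (algebraMap V K))
  have hgen : (gen ≫ s) (closedPoint K) = f yη := by
    rw [show f yη = Spec.map c η by rw [← hη]; rfl, ← Spec.map_comp]
    refine PrimeSpectrum.ext (Ideal.ext fun x => ?_)
    show (algebraMap V K (δ x)) ∈ IsLocalRing.maximalIdeal K ↔ c x ∈ η.asIdeal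
    rw [IsLocalRing.maximalIdeal_eq_bot, Ideal.mem_bot, IsFractionRing.to_map_eq_zero_iff,
      RingHom.comp_apply, RingHom.comp_apply, map_eq_zero_iff φ hφ, map_eq_zero_iff _ hinjR,
      ← Subtype.coe_inj]
    exact Ideal.Quotient.eq_zero_iff_mem
  obtain ⟨i₁, hi₁⟩ := Groth.Agent.S15344.exists_lift_field f (gen ≫ s) yη hgen.symm
  have hclosed : s (closedPoint V) = f y := by
    rw [Scheme.Hom.comp_apply, ← hq]
    refine PrimeSpectrum.ext (Ideal.ext fun x => ?_)
    show δ x ∈ IsLocalRing.maximalIdeal V ↔ c x ∈ q'.asIdeal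
    rw [RingHom.comp_apply, hγ]
    exact hQ (c x)
  obtain ⟨l₀, hl₀⟩ := Groth.Agent.S15344.exists_lift_field f
    (Spec.map (CommRingCat.ofHom (IsLocalRing.residue V)) ≫ s) y (by
      have : Spec.map (CommRingCat.ofHom (IsLocalRing.residue V))
          (closedPoint (IsLocalRing.ResidueField V)) = closedPoint V :=
        comap_closedPoint (IsLocalRing.residue V)
      rw [Scheme.Hom.comp_apply]
      exact hclosed.symm.trans (congrArg s this.symm))
  let S : ValuativeCommSq f := { R := V, K := K, i₁ := i₁, i₂ := s, commSq := ⟨hi₁⟩ }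
  obtain ⟨l, hl₁, hl₂⟩ := (hb S ‹_› ⟨l₀, hl₀⟩).exists_lift
  -- compare the two values of `t`
  let ψ : B ⟶ CommRingCat.of V := Spec.preimage (l ≫ j)
  have hψc : c ≫ ψ = CommRingCat.ofHom δ := Spec.map_injective (by
    rw [Spec.map_comp, Spec.map_preimage, Category.assoc]; exact hl₂)
  have hψt : (Spec.map ψ) (closedPoint V) = j y := by
    rw [Spec.map_preimage, Scheme.Hom.comp_apply]
    refine congrArg j (f.injective ?_)
    rw [← Scheme.Hom.comp_apply]
    exact (congrArg (fun k : Spec (CommRingCat.of V) ⟶ Spec A => k (closedPoint V)) hl₂).trans hclosed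
  have hψη : ∀ x ∈ η.asIdeal, ψ x = 0 := fun x hx => by
    have h1 : (gen ≫ Spec.map ψ) (closedPoint K) = η := by
      rw [Spec.map_preimage, ← Category.assoc, show gen ≫ l = i₁ from hl₁, Scheme.Hom.comp_apply,
        ← hη]
      refine congrArg j (f.injective ?_)
      rw [← Scheme.Hom.comp_apply, hi₁, hgen]
    rw [← Spec.map_comp] at h1
    have h2 : algebraMap V K (ψ x) ∈ IsLocalRing.maximalIdeal K :=
      (congrArg PrimeSpectrum.asIdeal h1).ge hx
    rwa [IsLocalRing.maximalIdeal_eq_bot, Ideal.mem_bot, IsFractionRing.to_map_eq_zero_iff] at h2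
  have htV : ψ t = γ tD := by
    refine mul_left_cancel₀ hδb ?_
    have h1 : ψ (c b) * ψ t = ψ (c a) := by
      rw [← map_mul, ← sub_eq_zero, ← map_sub]; exact hψη _ hab
    have h2 : γ (algebraMap A D b) * γ tD = γ (algebraMap A D a) := by
      rw [← map_mul]
      refine congrArg γ (Subtype.ext ?_)
      show Ideal.Quotient.mk η.asIdeal (c b) * Ideal.Quotient.mk η.asIdeal t =
        Ideal.Quotient.mk η.asIdeal (c a)
      rw [← map_mul, Ideal.Quotient.mk_eq_mk_iff_sub_mem]
      exact hab
    have e : ∀ x, ψ (c x) = δ x := fun x => congrArg (fun k : A ⟶ CommRingCat.of V => k x) hψc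
    rw [e, e] at h1
    exact h1.trans h2.symm
  refine ht ?_
  rw [← hψt]
  show ψ t ∈ IsLocalRing.maximalIdeal V
  rw [htV, hγ]
  exact (hQ t).2 ht'

/-- The affine case of the immersion criterion. -/
theorem isImmersion_of_dvrLift {A : CommRingCat.{u}} [IsNoetherianRing A] {Y : Scheme.{u}}
    (f : Y ⟶ Spec A) [LocallyOfFiniteType f] [Mono f] [QuasiCompact f] (hb : DVRLift f) :
    IsImmersion f := by
  let ν := f.fromNormalization
  have : IsAffine f.normalization := isAffine_of_isAffineHom ν
  let c : A ⟶ Γ(f.normalization, ⊤) := Spec.preimage (f.normalization.isoSpec.inv ≫ ν)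
  let j := f.toNormalization ≫ f.normalization.isoSpec.hom
  have hjc : j ≫ Spec.map c = f := by
    simp [j, c, ν]
  have hc : c.hom.IsIntegral := IsIntegralHom.SpecMap_iff.1 (by rw [Spec.map_preimage]; infer_instance)
  have hdense : DenseRange j := (inferInstance : IsDominant j).denseRange
  have key : ∀ y (q' : Spec Γ(f.normalization, ⊤)), Spec.map c q' = f y → q' = j y := fun y q' hq => by
    have : Mono (j ≫ Spec.map c) := hjc.symm ▸ inferInstance
    exact eq_of_same_image c hc j hdense (hjc.symm ▸ hb) y q'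
      (hq.trans (congrArg (fun k : Y ⟶ Spec A => k y) hjc.symm))
  have : IsIntegralHom (Spec.map c) := IsIntegralHom.SpecMap_iff.2 hc
  let U : (Spec A).Opens :=
    ⟨(Spec.map c '' (Set.range j)ᶜ)ᶜ,
      ((Spec.map c).isClosedMap _ j.isOpenEmbedding.isOpen_range.isClosed_compl).isOpen_compl⟩
  have hU : f ⁻¹ᵁ U = ⊤ := by
    refine top_le_iff.1 fun y _ => ?_
    rintro ⟨q', hq', hqy⟩
    exact hq' ⟨y, (key y q' hqy).symm⟩
  have hsur : Surjective (j ∣_ (Spec.map c ⁻¹ᵁ U)) := ⟨fun z => by
    obtain ⟨y, hy⟩ : (z.1 : Spec Γ(f.normalization, ⊤)) ∈ Set.range j := by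
      by_contra h
      exact z.2 ⟨_, h, rfl⟩
    exact ⟨⟨y, show j y ∈ Spec.map c ⁻¹ᵁ U from hy.symm ▸ z.2⟩, Subtype.ext
      ((morphismRestrict_base_coe j _ _).trans hy)⟩⟩
  have hiso : IsIso (j ∣_ (Spec.map c ⁻¹ᵁ U)) := IsOpenImmersion.isIso _
  have hint : IsIntegralHom (f ∣_ U) := by
    have aux : ∀ g : Y ⟶ Spec A, g = f → IsIntegralHom (g ∣_ U) → IsIntegralHom (f ∣_ U) :=
      fun g e h => e ▸ h
    refine aux _ hjc ?_
    rw [morphismRestrict_comp]
    have hν : IsIntegralHom (Spec.map c ∣_ U) := IsZariskiLocalAtTarget.restrict ‹_› _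
    exact (@MorphismProperty.cancel_left_of_respectsIso _ _ @IsIntegralHom _ _ _ _ _ _ hiso).2 hν
  have : LocallyOfFiniteType (f ∣_ U) := inferInstance
  have : IsFinite (f ∣_ U) := (IsFinite.iff_isIntegralHom_and_locallyOfFiniteType _).2 ⟨hint, this⟩
  have : Mono (f ∣_ U) := MorphismProperty.of_isPullback (P := MorphismProperty.monomorphisms Scheme)
    (isPullback_morphismRestrict f U).flip (.infer_property f)
  have : IsClosedImmersion (f ∣_ U) := (IsClosedImmersion.iff_isProper_and_mono _).2 ⟨inferInstance, this⟩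
  have e : f = Y.topIso.inv ≫ (Y.isoOfEq hU).inv ≫ (f ∣_ U) ≫ U.ι := by
    simp
  rw [e]
  infer_instance


/-- Let X be a locally Noetherian scheme and f : Y ⟶ X a monomorphism locally of finite presentation.
Assume: for every discrete valuation ring A with fraction field K and every commutative square Spec
K ⟶ Y, Spec A ⟶ X over f such that some morphism from the spectrum of the residue field of A to Y
lies over Spec A ⟶ X, the square admits a lift; and for every integral domain A and every morphism s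
: Spec A ⟶ X such that the points of a dense subset of Spec A lift to Y (the residue field of each
such point maps to Y over s), some nonempty open subscheme of Spec A maps to Y over s. Then f is an
immersion (f is then also quasi-compact; that is not part of this statement). (The published
statement is for a representable morphism of algebraic stacks; this row is the case of schemes.) -/
theorem result {X Y : Scheme.{u}} [IsLocallyNoetherian X]
    (f : Y ⟶ X) [LocallyOfFinitePresentation f] [Mono f]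
    (hb : ∀ S : ValuativeCommSq f, IsDiscreteValuationRing S.R →
        (∃ l₀ : Spec (CommRingCat.of (IsLocalRing.ResidueField S.R)) ⟶ Y,
            l₀ ≫ f = Spec.map (CommRingCat.ofHom (IsLocalRing.residue S.R)) ≫ S.i₂) →
          S.commSq.HasLift)
    (hc : ∀ (A : Type u) [CommRing A] [IsDomain A] (s : Spec (CommRingCat.of A) ⟶ X) (D : Set ↥(Spec (CommRingCat.of A))),
        Dense D →
        (∀ p ∈ D, ∃ l : Spec ((Spec (CommRingCat.of A)).residueField p) ⟶ Y,
            l ≫ f = (Spec (CommRingCat.of A)).fromSpecResidueField p ≫ s) →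
          ∃ U : (Spec (CommRingCat.of A)).Opens, (U : Set ↥(Spec (CommRingCat.of A))).Nonempty ∧
            ∃ l : (U : Scheme.{u}) ⟶ Y, l ≫ f = U.ι ≫ s) :
    IsImmersion f := by
  have : QuasiCompact f := Groth.Agent.S15349.result f hc
  rw [IsZariskiLocalAtTarget.iff_of_openCover (P := @IsImmersion) X.affineCover]
  intro i
  have : IsNoetherianRing (X.affineOpenCover.X i) := by
    have : IsLocallyNoetherian (X.affineCover.X i) := isLocallyNoetherian_of_isOpenImmersion (X.affineCover.f i)
    exact isLocallyNoetherian_Spec.1 this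
  have : LocallyOfFiniteType f := inferInstance
  have : LocallyOfFiniteType (pullback.snd f (X.affineCover.f i)) :=
    MorphismProperty.pullback_snd _ _ this
  have hm : Mono (pullback.snd f (X.affineCover.f i)) := inferInstance
  have hq : QuasiCompact (pullback.snd f (X.affineCover.f i)) := inferInstance
  exact @isImmersion_of_dvrLift (X.affineOpenCover.X i) ‹_› _ (pullback.snd f (X.affineCover.f i))
    ‹_› hm hq (DVRLift.of_isPullback (IsPullback.of_hasPullback f (X.affineCover.f i)) hb)

end Groth.Agent.S15348
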