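import Groth.Statements.S2348
import Groth.Agent.Divisors.BlowUpBasic

set_option autoImplicit false
universe u
open CategoryTheory CategoryTheory.Limits AlgebraicGeometry
open EGA2

namespace Groth.Agent.S2348

/-- For an ideal of O_Y: let Y be an integral scheme, I a nonzero quasi-coherent ideal sheaf and b : X →
Y a blowing up of Y in I (characterised by its universal property). Then X is integral, b sends the
generic point of X to that of Y and induces a bijection on their residue fields (b is birational).
The printed statement also asserts that b is surjective; the proof does not show this and it fails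
when I is not of finite type, so it is left out. -/
theorem result {X Y : Scheme.{u}} [IsIntegral Y] (I : Y.IdealSheafData) (hI : I ≠ ⊥)
    (b : X ⟶ Y) (hb : BlowUp.IsBlowUp b I) :
    ∃ (_ : IsIntegral X), ∃ hgen : b.base (genericPoint X) = genericPoint Y,
      Function.Bijective (b.residueFieldMap (genericPoint X)).hom := by
  classical
  open Groth.Divisors in
  have hgenI : genericPoint Y ∉ I.support := fun h => by
    have htop : (⊤ : TopologicalSpace.Closeds Y) ≤ I.support := fun y _ =>
      ((genericPoint_spec Y).specializes (y := y) trivial).mem_closed I.support.isClosed h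
    have := Scheme.IdealSheafData.le_support_iff_le_vanishingIdeal.mp htop
    rw [Scheme.IdealSheafData.vanishingIdeal_top] at this
    refine hI (le_bot_iff.mp (this.trans (le_of_eq ?_)))
    exact Scheme.nilradical_eq_bot
  haveI : IsReduced X := Groth.Divisors.isReduced_blowUp hb
  obtain ⟨hmaps, hinjOn, hsurjOn⟩ := Groth.Divisors.maximalPoints_bijOn hb
  have hmaxY : ∀ y : Y, (∀ z : Y, z ⤳ y → z = y) → y = genericPoint Y := fun y hy =>
    (hy _ ((genericPoint_spec Y).specializes trivial)).symm
  obtain ⟨η, hη, hbη⟩ := hsurjOn (show genericPoint Y ∈ _ from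
    ⟨fun z hz => hz.antisymm ((genericPoint_spec Y).specializes trivial) |>.eq, hgenI⟩)
  have hall : ∀ y : X, η ⤳ y := by
    intro y
    obtain ⟨m, hm⟩ := QuasiSober.sober (α := X) isIrreducible_irreducibleComponent (isClosed_irreducibleComponent (x := y))
    have hmax : ∀ z : X, z ⤳ m → z = m := fun z hz => by
      have h1 : irreducibleComponent y ⊆ closure {z} := by
        rw [← hm.def]
        exact closure_minimal (Set.singleton_subset_iff.mpr hz.mem_closure) isClosed_closure
      have h2 : closure {z} ⊆ irreducibleComponent y :=
        ((irreducibleComponent_property y).2.2 _ isIrreducible_singleton.closure.2 h1).subset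
      exact hz.antisymm (specializes_iff_mem_closure.mpr (hm.def ▸ h2 (subset_closure rfl))) |>.eq
    have : m = η := hinjOn hmax hη ((hmaxY _ (hmaps hmax).1).trans hbη.symm)
    exact this ▸ hm.specializes mem_irreducibleComponent
  haveI : Nonempty X := ⟨η⟩
  haveI : IrreducibleSpace X := {
    isPreirreducible_univ := by
      rintro U V hU hV ⟨a, -, ha⟩ ⟨c, -, hc⟩
      exact ⟨η, trivial, (hall a).mem_open hU ha, (hall c).mem_open hV hc⟩
    toNonempty := ⟨η⟩ }
  haveI hXint : IsIntegral X := isIntegral_of_irreducibleSpace_of_isReduced X
  have hgX : genericPoint X = η :=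
    (((genericPoint_spec X).specializes trivial).antisymm (hall _)).eq
  refine ⟨hXint, hgX ▸ hbη, ?_⟩
  have hs : IsIso (b.stalkMap (genericPoint X)) :=
    Groth.Divisors.isIso_stalkMap_off hb _ (by rw [hgX]; exact (hmaps hη).2)
  refine ⟨RingHom.injective _, fun r => ?_⟩
  obtain ⟨s, rfl⟩ : ∃ s, X.residue (genericPoint X) s = r := X.residue_surjective _ r
  obtain ⟨t, rfl⟩ := (ConcreteCategory.bijective_of_isIso (b.stalkMap (genericPoint X))).2 s
  exact ⟨Y.residue _ t, congr($(Scheme.residue_residueFieldMap b (genericPoint X)) t)⟩

end Groth.Agent.S2348
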