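import Groth.Statements.S1622
import Groth.Agent.BlowUpBasics.AtlasOf
import Groth.Agent.PointBlowUp.Algebra
import Groth.Agent.Divisors.EffCartierMore
-- import your own Groth.Agent.* helpers here

set_option autoImplicit false
universe u
open CategoryTheory CategoryTheory.Limits AlgebraicGeometry
open Resolve

namespace Groth.Agent.S1622

open CategoryTheory AlgebraicGeometry in
lemma isRegularLocalRing_stalk_Spec (R : Type u) [CommRing R]
    (h : ∀ P : Ideal R, ∀ _ : P.IsPrime, IsRegularLocalRing (Localization.AtPrime P))
    (y : PrimeSpectrum R) :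
    IsRegularLocalRing ((Spec (CommRingCat.of R)).presheaf.stalk y) := by
  have := h y.asIdeal y.isPrime
  exact IsRegularLocalRing.of_ringEquiv
    (IsLocalization.algEquiv y.asIdeal.primeCompl (Localization.AtPrime y.asIdeal)
      ((Spec.structureSheaf R).presheaf.stalk y)).toRingEquiv


/-- Let A be a regular local ring of dimension two and b : X → Spec A a blowing up of Spec A in the
maximal ideal (characterised by its universal property). Then X is irreducible and all of its local
rings are regular. -/
theorem result (A : Type u) [CommRing A] [IsRegularLocalRing A] (hA : ringKrullDim A = 2)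
    (X : Scheme.{u}) (b : X ⟶ Spec (CommRingCat.of A)) (hb : BlowUp.IsBlowUp b (Curv2.idealSheaf A (IsLocalRing.maximalIdeal A))) :
    IrreducibleSpace X ∧ ∀ x : X, IsRegularLocalRing (X.presheaf.stalk x) := by
  haveI : IsDomain A := Groth.Ega4Algebra1.isDomain_of_isRegularLocalRing A
  obtain ⟨T⟩ := Groth.BlowUpBasics.nonempty_atlas_of_isBlowUp (I := IsLocalRing.maximalIdeal A) hb
  refine ⟨?_, fun x ↦ ?_⟩
  · set I := Curv2.idealSheaf A (IsLocalRing.maximalIdeal A)
    set U : (Spec (CommRingCat.of A)).Opens := I.support.compl
    haveI := Groth.Divisors.isIso_morphismRestrict_compl hb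
    haveI hdom : IsSchemeTheoreticallyDominant (Scheme.Opens.ι (X := X) (I.comap b).support.compl) :=
      Groth.BlowUpBasics.isSchemeTheoreticallyDominant_compl hb.1
    haveI : IsAffineHom (Scheme.Opens.ι (X := X) (I.comap b).support.compl) :=
      Groth.Divisors.isAffineHom_compl (Groth.Divisors.isLocPrincipal_of_isEffCartier hb.1)
    have hdense : Dense ((I.comap b).support.compl : Set X) := by
      have := (Scheme.Opens.ι (X := X) (I.comap b).support.compl).denseRange
      rwa [DenseRange, Scheme.Opens.range_ι] at this
    have hUirr : IsPreirreducible ((I.comap b).support.compl : Set X) := by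
      have hV : IsPreirreducible (Set.univ : Set (U : Scheme.{u})) := by
        have : IrreducibleSpace (Spec (CommRingCat.of A)) :=
          inferInstanceAs (IrreducibleSpace (PrimeSpectrum A))
        haveI : PreirreducibleSpace U :=
          ⟨(PreirreducibleSpace.isPreirreducible_univ (X := Spec (CommRingCat.of A))).preimage
            U.isOpen.isOpenEmbedding_subtypeVal⟩
        exact PreirreducibleSpace.isPreirreducible_univ
      have := hV.image (fun u ↦ (b ⁻¹ᵁ U).ι ((CategoryTheory.inv (b ∣_ U)) u))
        (((b ⁻¹ᵁ U).ι.continuous.comp (CategoryTheory.inv (b ∣_ U)).continuous).continuousOn)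
      have himg : (fun u ↦ (b ⁻¹ᵁ U).ι ((CategoryTheory.inv (b ∣_ U)) u)) '' Set.univ =
          ((I.comap b).support.compl : Set X) := by
        rw [Set.image_univ]
        ext z
        constructor
        · rintro ⟨u, rfl⟩
          intro hz
          rw [Scheme.IdealSheafData.support_comap] at hz
          exact ((CategoryTheory.inv (b ∣_ U)) u).2 hz
        · intro hz
          have hz' : b z ∈ U := by
            intro h
            apply hz
            rw [Scheme.IdealSheafData.support_comap]
            exact h
          refine ⟨(b ∣_ U) ⟨z, hz'⟩, ?_⟩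
          show ((b ∣_ U) ≫ CategoryTheory.inv (b ∣_ U) ≫ (b ⁻¹ᵁ U).ι) _ = z
          rw [IsIso.hom_inv_id_assoc]
          rfl
      rwa [himg] at this
    haveI : PreirreducibleSpace X := ⟨by
      have := hUirr.closure
      rwa [hdense.closure_eq] at this⟩
    have hbot : (⟨⊥, Ideal.isPrime_bot⟩ : Spec (CommRingCat.of A)) ∈ U := by
      intro h
      have h1 : (⟨⊥, Ideal.isPrime_bot⟩ : PrimeSpectrum A) ∈ PrimeSpectrum.zeroLocus (IsLocalRing.maximalIdeal A : Set A) := by
        have h2 := (Scheme.IdealSheafData.mem_support_iff_of_mem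
          (U := ⟨⊤, isAffineOpen_top (Spec (CommRingCat.of A))⟩) (I := I) trivial).mp h
        rw [PrimeSpectrum.mem_zeroLocus]
        intro a ha
        by_contra hne
        have ha' : (Scheme.ΓSpecIso (CommRingCat.of A)).inv.hom a ∈ I.ideal ⟨⊤, isAffineOpen_top _⟩ :=
          (Groth.BlowUpBasics.sheafOf_ideal_top (IsLocalRing.maximalIdeal A)).ge (Ideal.mem_map_of_mem _ ha)
        refine (Scheme.mem_zeroLocus_iff _ _ _).mp h2 _ ha' ?_
        rw [basicOpen_eq_of_affine]
        exact hne
      obtain ⟨a, b', hab⟩ := Groth.PointBlowUp.exists_param (hA := hA) (A := A)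
      exact hab.ne_zero (h1 hab.mem_left)
    obtain ⟨z, -⟩ := (b ∣_ U).homeomorph.surjective ⟨_, hbot⟩
    exact { toNonempty := ⟨z.1⟩ }
  · obtain ⟨a, y, rfl⟩ := T.covers x
    haveI := isRegularLocalRing_stalk_Spec (Groth.PointBlowUp.Chart (a : A))
      (fun P hP ↦ @Groth.PointBlowUp.isRegularLocalRing_chart A _ _ hA _ a.2 P hP) y
    exact IsRegularLocalRing.of_ringEquiv (asIso ((T.j a).stalkMap y)).commRingCatIsoToRingEquiv.symm

end Groth.Agent.S1622
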