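import Groth.Statements.S4420
import Groth.Agent.S4414
import Groth.Agent.Ega2Proj.RelProjAmple
import Groth.Agent.Chow.Projective
import Groth.Agent.Chow.LocProjective
import Mathlib.AlgebraicGeometry.ZariskisMainTheorem

set_option autoImplicit false
universe u
open CategoryTheory CategoryTheory.Limits AlgebraicGeometry
open EGA2

namespace Groth.Agent.S4420

/-- Let Y be a quasi-compact separated scheme possessing an ample invertible O_Y-module and f : X → Y a
morphism. Then f is projective if and only if there are r ≥ 0 and a closed immersion of X into
projective r-space over Y compatible with the projections (f is H-projective). -/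
theorem result {X Y : Scheme.{u}} [CompactSpace Y] [Y.IsSeparated]
    (hY : ∃ M : Y.Modules, CohB1.IsAmple M) (f : X ⟶ Y) :
    RelProj.IsProjective f ↔ RelProj.IsHProjective f := by
  refine ⟨fun hf => ?_, Groth.Chow.isProjective_of_isHProjective⟩
  obtain ⟨-, -, r, i, hi, hif⟩ := (Groth.Agent.S4414.result hY f).1
    (Groth.Ega2Proj.isQuasiProjective_of_isProjective hf)
  have : IsProper f := Groth.Chow.isProper_of_isProjective hf
  have : IsProper (i ≫ CohB1.ProjSpaceOver.toBase r Y) := hif ▸ inferInstance
  have : IsProper i := IsProper.of_comp i (CohB1.ProjSpaceOver.toBase r Y)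
  exact ⟨r, i, (IsClosedImmersion.iff_isProper_and_mono _).2 ⟨inferInstance, inferInstance⟩, hif⟩

end Groth.Agent.S4420
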