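import Groth.Statements.S2331
import Groth.Agent.Ega2Proj.RelAmpleComp

set_option autoImplicit false
universe u
open CategoryTheory CategoryTheory.Limits AlgebraicGeometry
open EGA2

namespace Groth.Agent.S2331

/-- Let Z be quasi-compact, f : X → Y and g : Y → Z quasi-compact morphisms, L an O_X-module ample
relative to f and K an O_Y-module ample relative to g. Then there is n₀ > 0 such that L ⊗
f^*(K^{⊗n}) is ample relative to g ∘ f for every n ≥ n₀. -/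
theorem result {X Y Z : Scheme.{u}} [CompactSpace Z] (f : X ⟶ Y) (g : Y ⟶ Z)
    [QuasiCompact f] [QuasiCompact g] (L : X.Modules) (K : Y.Modules)
    (hL : RelAmple.IsRelAmple f L) (hK : RelAmple.IsRelAmple g K) :
    ∃ n₀ : ℕ, 0 < n₀ ∧ ∀ n, n₀ ≤ n →
      RelAmple.IsRelAmple (f ≫ g) (CohB1.tensorMod L ((Scheme.Modules.pullback f).obj (CohB1.tensorPow K n))) := by
  have hex : ∀ z : Z, ∃ (V : Z.Opens) (n₀ : ℕ), z ∈ V ∧ ∀ n, n₀ ≤ n → CohB1.IsAmple
      ((CohB1.tensorMod L ((Scheme.Modules.pullback f).obj (CohB1.tensorPow K n))).restrict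
        (f ⁻¹ᵁ (g ⁻¹ᵁ V)).ι) := by
    intro z
    obtain ⟨V, hV, hzV, -⟩ := exists_isAffineOpen_mem_and_subset (x := z) (U := (⊤ : Z.Opens)) trivial
    let W : Y.Opens := g ⁻¹ᵁ V
    have : QuasiCompact (f ∣_ W) :=
      MorphismProperty.of_isPullback (P := @QuasiCompact) (isPullback_morphismRestrict f W).flip ‹_›
    obtain ⟨n₀, hn₀⟩ := Groth.Ega2Proj.exists_isAmple_tensor_pullback (f ∣_ W)
      (Groth.Ega2Proj.isRelAmple_morphismRestrict hL W) (hK.2 ⟨V, hV⟩)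
    refine ⟨V, n₀, hzV, fun n hn => ?_⟩
    obtain ⟨e⟩ := Groth.Ega2Proj.exists_tensorMod_restrict (L := L)
      (M := (Scheme.Modules.pullback f).obj (CohB1.tensorPow K n)) (f ⁻¹ᵁ W).ι
    obtain ⟨φ⟩ := Groth.Ega2Proj.exists_tensorPow_restrict (L := K) W.ι n
    exact Groth.Ega2Proj.isAmple_of_iso (PicGrp.tensorModIso (Iso.refl _)
      ((Scheme.Modules.pullback (f ∣_ W)).mapIso φ.symm ≪≫ Groth.Ega2Proj.restrictPullbackSquare f W.ι
        (f ⁻¹ᵁ W).ι (f ∣_ W) (morphismRestrict_ι f W) (CohB1.tensorPow K n)) ≪≫ e.symm) (hn₀ n hn)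
  choose V n₀ hzV hA using hex
  obtain ⟨fin, hfin⟩ := isCompact_univ.elim_finite_subcover (fun z => (V z : Set Z))
    (fun z => (V z).isOpen) (fun z _ => Set.mem_iUnion.2 ⟨z, hzV z⟩)
  refine ⟨fin.sup n₀ + 1, Nat.succ_pos _, fun n hn => Groth.Ega2Proj.isRelAmple_of_local _ fun x => ?_⟩
  obtain ⟨z, hz, hx⟩ := Set.mem_iUnion₂.1 (hfin (Set.mem_univ (g (f x))))
  exact ⟨V z, _, (f ⁻¹ᵁ (g ⁻¹ᵁ V z)).ι, inferInstance, hx, fun y hy => ⟨⟨y, hy⟩, rfl⟩,
    hA z n (((Finset.le_sup hz).trans (Nat.le_succ _)).trans hn)⟩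

end Groth.Agent.S2331
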