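import Groth.Statements.S10830
import Groth.Agent.SpectralTopology.Dim

set_option autoImplicit false
universe u
open Topology TopologicalSpace
open TopDim

namespace Groth.Agent.S10830
open Groth.SpectralTopology Topology TopologicalSpace

/-- In an irreducible topological space X of finite Krull dimension, every proper closed subset Y has
strictly smaller Krull dimension than X. -/
theorem result (X : Type u) [TopologicalSpace X]
    [IrreducibleSpace X] (hfin : topologicalKrullDim X ≠ ⊤) (Y : Set X) (hY : IsClosed Y) (hYX : Y ≠ Set.univ) :
    topologicalKrullDim ↥Y < topologicalKrullDim X := by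
  have hne : topologicalKrullDim X ≠ ⊥ := fun h ↦ by
    have := topologicalKrullDim_nonneg (X := X); simp [h] at this
  rcases isEmpty_or_nonempty ↥Y with hYe | hYe
  · have : IsEmpty (IrreducibleCloseds Y) := ⟨fun Z ↦ hYe.false Z.isIrreducible.nonempty.some⟩
    rw [topologicalKrullDim, Order.krullDim_eq_bot]
    exact Ne.bot_lt hne
  have hle := topologicalKrullDim_subspace_le X Y
  refine lt_of_le_of_ne hle fun heq ↦ ?_
  obtain ⟨y⟩ := hYe
  have : Nonempty (IrreducibleCloseds Y) :=
    ⟨⟨closure {y}, isIrreducible_singleton.closure, isClosed_closure⟩⟩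
  have : FiniteDimensionalOrder (IrreducibleCloseds Y) := by
    refine Order.finiteDimensionalOrder_iff_krullDim_ne_bot_and_top.2 ⟨?_, ?_⟩
    · exact Order.krullDim_ne_bot_iff.2 this
    · exact fun h ↦ hfin (top_le_iff.1 (h ▸ hle))
  let l := LTSeries.longestOf (IrreducibleCloseds Y)
  let m := l.map (IrreducibleCloseds.map Subtype.val continuous_subtype_val)
    (IrreducibleCloseds.map_strictMono_of_isInducing IsInducing.subtypeVal)
  let t : IrreducibleCloseds X := ⟨Set.univ, IrreducibleSpace.isIrreducible_univ X, isClosed_univ⟩
  have hlt : m.last < t := by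
    refine lt_of_le_of_ne (fun z _ ↦ Set.mem_univ z) fun h ↦ hYX (Set.eq_univ_of_univ_subset ?_)
    have hsub : (m.last : Set X) ⊆ Y := by
      rw [LTSeries.last_map]
      exact closure_minimal (Subtype.coe_image_subset _ _) hY
    rwa [h] at hsub
  have h1 := Order.LTSeries.length_le_krullDim (m.snoc t hlt)
  rw [show Order.krullDim (IrreducibleCloseds X) = topologicalKrullDim X from rfl, ← heq,
    topologicalKrullDim, Order.krullDim_eq_length_of_finiteDimensionalOrder] at h1
  simp [m, l] at h1
  exact absurd h1 (by norm_cast; omega)

end Groth.Agent.S10830
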