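import Groth.Statements.S10834
import Groth.Agent.Calg1.SerreConditions
import Groth.Agent.Calg6.CMSop
import Groth.Agent.LocCohBase.CM
import Groth.Agent.Ega4Algebra2.DepthFlat
import Groth.Agent.Ega4Algebra2.CMEquiv
import Groth.Agent.Ega4Algebra1.RegularLocal
import Groth.Agent.EGA41Two.CMPrime

set_option autoImplicit false
universe u
open CAlg

namespace Groth.Agent.S10834

open IsLocalRing in
/-- A quotient of a regular local ring by a principal ideal is Cohen-Macaulay. -/
theorem depth_eq_dim_of_surjective {B C : Type u} [CommRing B] [CommRing C] [IsRegularLocalRing B]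
    [IsLocalRing C] [Algebra B C] (hs : Function.Surjective (algebraMap B C)) (x : B)
    (hx : RingHom.ker (algebraMap B C) = Ideal.span {x}) :
    ringKrullDim C = ((LocCoh.depth C C : ℕ∞) : WithBot ℕ∞) := by
  have hB := Groth.Calg6.isCohenMacaulayModule_of_isRegularLocalRing B
  haveI : Module.Finite B C := Module.Finite.of_surjective (Algebra.linearMap B C) hs
  have eR : (B ⧸ RingHom.ker (algebraMap B C)) ≃+* C := RingHom.quotientKerEquivOfSurjective hs
  rw [← Groth.Ega4b.depth_eq_of_surjective_algebraMap hs C, ← ringKrullDim_eq_of_ringEquiv eR,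
    ← Module.supportDim_quotient_eq_ringKrullDim]
  by_cases hx0 : x = 0
  · have hbot : RingHom.ker (algebraMap B C) = ⊥ := by rw [hx, hx0]; simp
    let e : B ≃ₗ[B] C := LinearEquiv.ofBijective (Algebra.linearMap B C)
      ⟨(RingHom.injective_iff_ker_eq_bot (algebraMap B C)).mpr hbot, hs⟩
    rw [hbot, Module.supportDim_eq_of_equiv ((Submodule.quotEquivOfEqBot _ rfl).trans e)]
    exact Groth.EGA41Two.isCM_of_equiv e hB
  · haveI := Groth.Ega4Algebra1.isDomain_of_isRegularLocalRing B
    have hxm : x ∈ maximalIdeal B := by
      intro hu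
      have h1 : (1 : B) ∈ RingHom.ker (algebraMap B C) := by
        rw [hx, Ideal.span_singleton_eq_top.mpr hu]; exact Submodule.mem_top
      simp at h1
    have hreg : IsSMulRegular B x := fun a b hab => mul_left_cancel₀ hx0 hab
    have hQ := Groth.LocCohBase.isCM_quotSMulTop hB hxm hreg
    let e1 : QuotSMulTop x B ≃ₗ[B] (B ⧸ RingHom.ker (algebraMap B C)) :=
      Submodule.quotEquivOfEq _ _ (by
        rw [hx]; ext b
        simp [Submodule.mem_smul_pointwise_iff_exists, Ideal.mem_span_singleton, dvd_def, eq_comm])
    let e : (B ⧸ RingHom.ker (algebraMap B C)) ≃ₗ[B] C :=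
      LinearMap.quotKerEquivOfSurjective (Algebra.linearMap B C) hs
    rw [Module.supportDim_eq_of_equiv e]
    exact Groth.EGA41Two.isCM_of_equiv (e1.trans e) hQ

theorem depth_localization_quotient (A : Type u) [CommRing A]
    (hreg : ∀ (p : Ideal A) (_ : p.IsPrime), IsRegularLocalRing (Localization.AtPrime p))
    (f : A) (q : Ideal (A ⧸ Ideal.span ({f} : Set A))) [q.IsPrime] :
    (q.height : WithBot ℕ∞) =
      ((LocCoh.depth (Localization.AtPrime q) (Localization.AtPrime q) : ℕ∞) : WithBot ℕ∞) := by
  rw [← IsLocalization.AtPrime.ringKrullDim_eq_height q (Localization.AtPrime q)]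
  generalize hπ : Ideal.Quotient.mk (Ideal.span ({f} : Set A)) = π
  have hπs : Function.Surjective π := hπ ▸ Ideal.Quotient.mk_surjective
  haveI := hreg (q.comap π) inferInstance
  let φ := Localization.localRingHom (q.comap π) q π rfl
  letI := φ.toAlgebra
  have hM : Submonoid.map π (q.comap π).primeCompl = q.primeCompl :=
    Ideal.map_primeCompl_comap_of_surjective π hπs q
  refine depth_eq_dim_of_surjective (B := Localization.AtPrime (q.comap π)) ?_
    (algebraMap A _ f) ?_
  · intro y
    obtain ⟨d, t, rfl⟩ := IsLocalization.exists_mk'_eq q.primeCompl y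
    obtain ⟨a, rfl⟩ := hπs d
    obtain ⟨s, hs⟩ := hπs t
    refine ⟨IsLocalization.mk' _ a (⟨s, fun hsp => t.2 (hs ▸ (hsp : π s ∈ q))⟩ : (q.comap π).primeCompl), ?_⟩
    change φ _ = _
    rw [Localization.localRingHom_mk']
    congr 1
    exact Subtype.ext hs
  · have hf0 : π f = 0 := by
      rw [← hπ, Ideal.Quotient.eq_zero_iff_mem]; exact Ideal.mem_span_singleton_self f
    refine le_antisymm (fun z hz => ?_) ?_
    · obtain ⟨a, s, rfl⟩ := IsLocalization.exists_mk'_eq (q.comap π).primeCompl z
      rw [RingHom.mem_ker] at hz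
      change φ _ = 0 at hz
      rw [Localization.localRingHom_mk', IsLocalization.mk'_eq_zero_iff] at hz
      obtain ⟨t, ht⟩ := hz
      obtain ⟨u, hu⟩ := hπs t
      have hua : π (u * a) = 0 := by rw [map_mul, hu]; exact ht
      rw [← hπ, Ideal.Quotient.eq_zero_iff_mem, Ideal.mem_span_singleton] at hua
      rw [Ideal.mem_span_singleton]
      have hu' : IsUnit (algebraMap A (Localization.AtPrime (q.comap π)) u) :=
        IsLocalization.map_units (M := (q.comap π).primeCompl) _ ⟨u, fun h => t.2 (hu ▸ h)⟩
      rw [← hu'.dvd_mul_left, IsLocalization.mk'_eq_mul_mk'_one, ← mul_assoc, ← map_mul]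
      exact dvd_mul_of_dvd_left (map_dvd _ hua) _
    · rw [Ideal.span_le, Set.singleton_subset_iff, SetLike.mem_coe, RingHom.mem_ker]
      change φ _ = 0
      rw [Localization.localRingHom_to_map, hf0, map_zero]

/-- Let A be a Noetherian ring whose localizations at all prime ideals are regular local rings, and f an
element of A generating a prime ideal, so that A/(f) is an integral domain (an integral hypersurface
in the regular affine scheme Spec A). Then A/(f) is normal (integrally closed in its fraction field)
if and only if it is regular in codimension 1, i.e. its localization at every prime at which the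
local ring has dimension 1 is a regular local ring. -/
theorem result (A : Type u) [CommRing A]
    [IsNoetherianRing A] (hreg : ∀ (p : Ideal A) (_ : p.IsPrime), IsRegularLocalRing (Localization.AtPrime p))
    (f : A) (hf : (Ideal.span ({f} : Set A)).IsPrime) :
    IsIntegrallyClosed (A ⧸ Ideal.span ({f} : Set A)) ↔
      ∀ q : PrimeSpectrum (A ⧸ Ideal.span ({f} : Set A)),
        ringKrullDim (Localization.AtPrime q.asIdeal) = 1 →
          IsRegularLocalRing (Localization.AtPrime q.asIdeal) := by
  haveI := hf
  haveI : IsDomain (A ⧸ Ideal.span ({f} : Set A)) := Ideal.Quotient.isDomain _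
  have hS : LocCoh.HasSk 2 (A ⧸ Ideal.span ({f} : Set A)) (A ⧸ Ideal.span ({f} : Set A)) := by
    refine (Groth.Calg1.hasSk_self_iff 2).mpr fun q _ => ?_
    have h := depth_localization_quotient A hreg f q
    rw [WithBot.coe_eq_coe] at h
    exact h ▸ min_le_right _ _
  constructor
  · intro hic q hq
    refine ((Groth.Calg1.normal_iff.mp fun p _ => ⟨inferInstance, ?_⟩).1) q.asIdeal ?_
    · exact isIntegrallyClosed_of_isLocalization _ p.primeCompl
        (le_nonZeroDivisors_of_noZeroDivisors (by simp))
    · rw [IsLocalization.AtPrime.ringKrullDim_eq_height q.asIdeal] at hq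
      exact_mod_cast hq.le
  · intro h
    have hR : LocCoh.HasRk 1 (A ⧸ Ideal.span ({f} : Set A)) := by
      intro p _ hp
      rcases Order.le_one_iff.mp hp with h0 | h1
      · exact Groth.Ega4Algebra1.isRegularLocalRing_of_maximalIdeal_eq_bot
          (IsLocalRing.isField_iff_maximalIdeal_eq.mp (Groth.Calg1.isField_of_height_eq_zero p h0))
      · refine h ⟨p, inferInstance⟩ ?_
        rw [IsLocalization.AtPrime.ringKrullDim_eq_height p, h1]; rfl
    exact IsIntegrallyClosed.of_localization_maximal fun p _ _ =>
      ((Groth.Calg1.normal_iff.mpr ⟨hR, hS⟩) p).2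

end Groth.Agent.S10834
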