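import Groth.Statements.S9284
import Mathlib

set_option autoImplicit false
universe u
open CAlgX
open scoped TensorProduct

namespace Groth.Agent.S9284

open scoped TensorProduct in
theorem exists_leftInverse (R : Type u) [CommRing R]
    (hP : ∀ I : Ideal R, I.FG → I ≠ ⊤ → I.annihilator ≠ ⊥) (n : ℕ) :
    ∀ (M : Type u) [AddCommGroup M] [Module R M] [Module.Projective R M] (u : (Fin n → R) →ₗ[R] M),
      Function.Injective u → ∃ ρ : M →ₗ[R] (Fin n → R), ρ ∘ₗ u = LinearMap.id := by
  classical
  induction n with
  | zero => exact fun M _ _ _ u _ => ⟨0, Subsingleton.elim _ _⟩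
  | succ n ih =>
    intro M _ _ _ u hu
    obtain ⟨s, hs⟩ := Module.projective_def'.1 (‹Module.Projective R M›)
    set v := u (Pi.single 0 1) with hv
    let I : Ideal R := Ideal.span ((fun m => s v m) '' ((s v).support : Set M))
    have hI : I = ⊤ := by
      by_contra hne
      refine hP I (Submodule.fg_span ((s v).support.finite_toSet.image _)) hne ?_
      rw [eq_bot_iff]
      intro a ha
      have h1 : a • s v = 0 := Finsupp.ext fun m => by
        by_cases hm : m ∈ (s v).support
        · exact Submodule.mem_annihilator.1 ha _ (Ideal.subset_span ⟨m, hm, rfl⟩)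
        · simp [Finsupp.notMem_support_iff.1 hm]
      have h2 : a • v = 0 := by
        have h := LinearMap.congr_fun hs (a • v)
        rw [LinearMap.comp_apply, LinearMap.map_smul s, h1, map_zero, LinearMap.id_apply] at h
        exact h.symm
      rw [hv, ← map_smul] at h2
      have h3 := congrFun (hu (h2.trans (map_zero u).symm)) 0
      simpa using h3
    obtain ⟨φ, hφ⟩ : ∃ φ : M →ₗ[R] R, φ v = 1 := by
      have h1 : (1 : R) ∈ LinearMap.range (Module.Dual.eval R M v) := by
        have hle : I ≤ LinearMap.range (Module.Dual.eval R M v) := Submodule.span_le.2 (by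
          rintro _ ⟨m, -, rfl⟩
          exact ⟨(Finsupp.lapply m) ∘ₗ s, rfl⟩)
        exact hle (hI ▸ Submodule.mem_top)
      obtain ⟨φ, hφ⟩ := h1
      exact ⟨φ, hφ⟩
    let π : M →ₗ[R] LinearMap.ker φ := (LinearMap.id - LinearMap.toSpanSingleton R M v ∘ₗ φ).codRestrict _
      fun m => by simp [hφ]
    have : Module.Projective R (LinearMap.ker φ) := Module.Projective.of_split (LinearMap.ker φ).subtype π
      (LinearMap.ext fun x => Subtype.ext (by
        show (x : M) - φ (x : M) • v = x
        rw [LinearMap.mem_ker.1 x.2, zero_smul, sub_zero]))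
    let tail : (Fin n → R) →ₗ[R] (Fin (n + 1) → R) :=
      { toFun := fun x => Fin.cons 0 x
        map_add' := fun x y => by funext i; refine Fin.cases ?_ ?_ i <;> simp
        map_smul' := fun c x => by funext i; refine Fin.cases ?_ ?_ i <;> simp }
    have hsplit : ∀ x : Fin (n + 1) → R, u x = x 0 • v + u (tail (Fin.tail x)) := fun x => by
      rw [hv, ← map_smul, ← map_add]
      congr 1
      funext i
      refine Fin.cases ?_ (fun j => ?_) i <;> simp [tail, Fin.tail]
    have hinj : Function.Injective (π ∘ₗ u ∘ₗ tail) := by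
      rw [injective_iff_map_eq_zero]
      intro x hx
      have h1 : u (tail x) - φ (u (tail x)) • v = 0 := congrArg Subtype.val hx
      rw [hv, ← map_smul, ← map_sub] at h1
      funext j
      simpa [tail] using congrFun (hu (h1.trans (map_zero u).symm)) j.succ
    obtain ⟨ρ', hρ'⟩ := ih _ (π ∘ₗ u ∘ₗ tail) hinj
    let first : M →ₗ[R] R := φ - φ ∘ₗ u ∘ₗ tail ∘ₗ ρ' ∘ₗ π
    refine ⟨LinearMap.pi (Fin.cons first fun i => LinearMap.proj i ∘ₗ ρ' ∘ₗ π), LinearMap.ext fun x => ?_⟩
    have h2 : ρ' (π (u x)) = Fin.tail x := by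
      have h3 : π (u x) = π (u (tail (Fin.tail x))) := by
        rw [hsplit x, map_add, map_smul, show π v = 0 from Subtype.ext (by
          show v - φ v • v = 0
          rw [hφ, one_smul, sub_self]), smul_zero, zero_add]
      rw [h3]
      exact LinearMap.congr_fun hρ' _
    funext i
    refine Fin.cases ?_ (fun j => ?_) i
    · show first (u x) = x 0
      simp only [first, LinearMap.sub_apply, LinearMap.comp_apply, h2]
      rw [hsplit x, map_add, map_smul, hφ, smul_eq_mul, mul_one, add_sub_cancel_right]
    · show ρ' (π (u x)) j = _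
      rw [h2]; rfl

/-- Let R be a ring such that every proper finitely generated ideal of R has a nonzero annihilator, and
let u : N → M be an R-linear map between projective R-modules. Then u stays injective after
tensoring with every R-module exactly when u is injective. -/
theorem result (R : Type u) [CommRing R]
    (hP : (∀ I : Ideal R, I.FG → I ≠ ⊤ → I.annihilator ≠ ⊥))
    (N M : Type u) [AddCommGroup N] [Module R N] [Module.Projective R N] [AddCommGroup M]
    [Module R M] [Module.Projective R M] (u : N →ₗ[R] M) :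
    CAlgX.UniversallyInjective R u ↔ Function.Injective u := by
  classical
  refine ⟨fun h => ?_, fun hu Q _ _ => ?_⟩
  · intro x y hxy
    have h1 := h R
    have h2 : u.rTensor R (x ⊗ₜ 1) = u.rTensor R (y ⊗ₜ 1) := by simp [hxy]
    simpa using congrArg (TensorProduct.rid R N) (h1 h2)
  obtain ⟨i, hi⟩ := Module.projective_def'.1 (‹Module.Projective R N›)
  let p : (N →₀ R) →ₗ[R] N := Finsupp.linearCombination R id
  have hpi : ∀ n, p (i n) = n := fun n => LinearMap.congr_fun hi n
  let w : (N →₀ R) →ₗ[R] M × (N →₀ R) := (u ∘ₗ p).prod (LinearMap.id - i ∘ₗ p)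
  have hw : Function.Injective w := by
    rw [injective_iff_map_eq_zero]
    intro x hx
    have h1 : p x = 0 := hu ((congrArg Prod.fst hx).trans (map_zero u).symm)
    simpa [w, h1] using congrArg Prod.snd hx
  have hfin : ∀ z : (N →₀ R) ⊗[R] Q, ∃ S : Finset N, z ∈ LinearMap.range
      ((Finsupp.supported R R (S : Set N)).subtype.rTensor Q) := by
    intro z
    induction z using TensorProduct.induction_on with
    | zero => exact ⟨∅, zero_mem _⟩
    | tmul f q => exact ⟨f.support, ⟨⟨f, by simp [Finsupp.mem_supported]⟩ ⊗ₜ q, rfl⟩⟩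
    | add a b ha hb =>
      obtain ⟨S, hS⟩ := ha
      obtain ⟨T, hT⟩ := hb
      have hmono : ∀ {S T : Finset N}, S ⊆ T → LinearMap.range ((Finsupp.supported R R (S : Set N)).subtype.rTensor Q) ≤
          LinearMap.range ((Finsupp.supported R R (T : Set N)).subtype.rTensor Q) := fun {S T} hST => by
        have h := Finsupp.supported_mono (M := R) (R := R) (Finset.coe_subset.2 hST)
        rw [show (Finsupp.supported R R (S : Set N)).subtype =
          (Finsupp.supported R R (T : Set N)).subtype ∘ₗ Submodule.inclusion h from rfl, LinearMap.rTensor_comp]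
        exact LinearMap.range_comp_le_range _ _
      exact ⟨S ∪ T, add_mem (hmono Finset.subset_union_left hS) (hmono Finset.subset_union_right hT)⟩
  rw [injective_iff_map_eq_zero]
  intro z hz
  obtain ⟨S, y, hy⟩ := hfin (i.rTensor Q z)
  let e : (Fin S.card → R) ≃ₗ[R] Finsupp.supported R R (S : Set N) :=
    (LinearEquiv.funCongrLeft R R S.equivFin).trans
      ((Finsupp.linearEquivFunOnFinite R R S).symm.trans (Finsupp.supportedEquivFinsupp (S : Set N)).symm)
  obtain ⟨ρ, hρ⟩ := exists_leftInverse R hP S.card _
    (w ∘ₗ (Finsupp.supported R R (S : Set N)).subtype ∘ₗ e.toLinearMap)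
    (hw.comp (Subtype.val_injective.comp e.injective))
  have hwz : w.rTensor Q (i.rTensor Q z) = 0 := by
    rw [← LinearMap.rTensor_comp_apply,
      show w ∘ₗ i = LinearMap.inl R M (N →₀ R) ∘ₗ u from LinearMap.ext fun n => by simp [w, hpi],
      LinearMap.rTensor_comp_apply, hz, map_zero]
  have hinjy : Function.Injective ((w ∘ₗ (Finsupp.supported R R (S : Set N)).subtype).rTensor Q) :=
    Function.LeftInverse.injective (g := (e.toLinearMap ∘ₗ ρ).rTensor Q) fun a => by
      rw [← LinearMap.rTensor_comp_apply, show (e.toLinearMap ∘ₗ ρ) ∘ₗ w ∘ₗ (Finsupp.supported R R (S : Set N)).subtype =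
        LinearMap.id from LinearMap.ext fun a => by
          have := LinearMap.congr_fun hρ (e.symm a)
          simp only [LinearMap.comp_apply, LinearEquiv.coe_coe, LinearEquiv.apply_symm_apply, LinearMap.id_apply] at this ⊢
          rw [this, LinearEquiv.apply_symm_apply], LinearMap.rTensor_id, LinearMap.id_apply]
  rw [← hy, ← LinearMap.rTensor_comp_apply] at hwz
  have hy0 : y = 0 := hinjy (hwz.trans (map_zero _).symm)
  rw [hy0, map_zero] at hy
  have : (p ∘ₗ i).rTensor Q z = 0 := by rw [LinearMap.rTensor_comp_apply, ← hy, map_zero]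
  rwa [show p ∘ₗ i = LinearMap.id from LinearMap.ext hpi, LinearMap.rTensor_id] at this

end Groth.Agent.S9284
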