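import Groth.Statements.S12907
import Groth.Agent.Calg8.HilbertBurchNoeth
import Groth.Agent.LocCohBase.Depth
import Mathlib

set_option autoImplicit false
universe u
open CAlgX

namespace Groth.Agent.S12907

/-- Let R be a Noetherian ring and I a nonzero ideal admitting a free resolution 0 → R^m → R^n → I → 0:
an injective matrix Ψ with n rows and m columns, and a linear map π : R^n → R with image I whose
kernel is the image of Ψ. Then n = m + 1; there is a non-zero-divisor a with I = a · I_m(Ψ), where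
I_m(Ψ) is the ideal generated by the m × m minors of Ψ; and the I_m(Ψ)-depth of R is at least 2.
(The published statement also asserts that this depth is exactly 2; only the lower bound is stated
here. The hypothesis that I is nonzero is implicit in the published statement.) -/
theorem result {R : Type u} [CommRing R] [IsNoetherianRing R] (m n : ℕ)
    (Ψ : Matrix (Fin n) (Fin m) R) (π : (Fin n → R) →ₗ[R] R)
    (hΨ : LinearMap.ker Ψ.mulVecLin = ⊥) (hex : LinearMap.ker π = LinearMap.range Ψ.mulVecLin)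
    (hI : LinearMap.range π ≠ ⊥) :
    n = m + 1 ∧
      (∃ a : R, a ∈ nonZeroDivisors R ∧ LinearMap.range π = Ideal.span {a} * CAlgX.minorIdeal Ψ m) ∧
      2 ≤ LocCoh.idealDepth (CAlgX.minorIdeal Ψ m) R := by
  classical
  let πv : Fin n → R := fun i => π (Pi.single i 1)
  have hπv : ∀ z, π z = ∑ i, πv i * z i := fun z => by
    conv_lhs => rw [pi_eq_sum_univ' z]
    rw [map_sum]
    refine Finset.sum_congr rfl fun i _ => ?_
    rw [map_smul, smul_eq_mul, mul_comm]
  have hΨ' : ∀ w, Ψ.mulVec w = 0 → w = 0 := fun w hw => by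
    have : w ∈ LinearMap.ker Ψ.mulVecLin := hw
    rwa [hΨ, Submodule.mem_bot] at this
  have hrel : ∀ j, ∑ i, πv i * Ψ i j = 0 := fun j => by
    have : Ψ.mulVec (Pi.single j 1) ∈ LinearMap.ker π := hex ▸ ⟨_, rfl⟩
    rw [LinearMap.mem_ker, hπv] at this
    simpa using this
  have hker : ∀ z : Fin n → R, ∑ i, πv i * z i = 0 → ∃ w, Ψ.mulVec w = z := fun z hz => by
    have : z ∈ LinearMap.ker π := by rw [LinearMap.mem_ker, hπv, hz]
    rw [hex] at this
    exact this
  have hne : πv ≠ 0 := fun h => hI (LinearMap.range_eq_bot.2 (LinearMap.ext fun z => by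
    rw [hπv, h]; simp))
  obtain rfl := Groth.Calg8.eq_add_one_of_resolution Ψ πv hΨ' hrel hker hne
  obtain ⟨a, d, y, ha, hπa, hd, hy, hdreg, hyd⟩ :=
    Groth.Calg8.hilbertBurch_noetherian Ψ πv hΨ' hrel hker
  refine ⟨rfl, ⟨a, ha, ?_⟩, ?_⟩
  · rw [Groth.Calg8.minorIdeal_eq_span_minorVec, Ideal.span_mul_span', Set.singleton_mul, ← Set.range_comp]
    refine le_antisymm ?_ (Submodule.span_le.2 ?_)
    · rintro _ ⟨z, rfl⟩
      rw [hπv]
      refine sum_mem fun i _ => Ideal.mul_mem_right _ _ (Ideal.subset_span ⟨i, ?_⟩)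
      simp [hπa]
    · rintro _ ⟨i, rfl⟩
      exact ⟨Pi.single i 1, (hπa i)⟩
  · rw [← Groth.Calg8.minorIdeal_eq_span_minorVec] at hd hy
    by_cases htop : CAlgX.minorIdeal Ψ m • (⊤ : Submodule R R) = ⊤
    · rw [LocCohBase.idealDepth_eq_top_of_smul_top_eq_top htop]
      exact le_top
    exact_mod_cast (LocCohBase.le_idealDepth_iff_exists _ htop 2).2 ⟨[d, y], rfl,
      (Groth.Calg8.isWeaklyRegular_pair_iff d y).2 ⟨hdreg, hyd⟩, by simp [hd, hy]⟩

end Groth.Agent.S12907
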