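import Groth.Statements.S12908
import Groth.Agent.Calg8.HilbertBurchNoeth
import Groth.Agent.LocCohBase.Depth
import Mathlib

set_option autoImplicit false
universe u
open CAlgX

namespace Groth.Agent.S12908

/-- Let R be a Noetherian ring, t a natural number, Ψ a (t+1) × t matrix over R such that the
I_t(Ψ)-depth of R is at least 2, where I_t(Ψ) is the ideal generated by the t × t minors of Ψ, and a
a non-zero-divisor of R. Put Δ_i = a · (-1)^i det Ψ_i, where Ψ_i is Ψ with row i deleted. Then 0 →
R^t → R^{t+1} → R, with first map Ψ and second map v ↦ Σ_i Δ_i v_i, is exact: Ψ is injective and the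
kernel of the second map equals the image of Ψ; moreover the image of the second map is the ideal a
· I_t(Ψ). (The published statement adds that this ideal has depth 2 exactly when a is a unit; that
clause is not stated here.) -/
theorem result {R : Type u} [CommRing R] [IsNoetherianRing R] (t : ℕ)
    (Ψ : Matrix (Fin (t + 1)) (Fin t) R) (hdepth : 2 ≤ LocCoh.idealDepth (CAlgX.minorIdeal Ψ t) R)
    (a : R) (ha : a ∈ nonZeroDivisors R) :
    LinearMap.ker Ψ.mulVecLin = ⊥ ∧
      LinearMap.ker (Fintype.linearCombination R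
          (fun i : Fin (t + 1) => a * ((-1 : R) ^ (i : ℕ) * (Ψ.submatrix i.succAbove id).det))) =
        LinearMap.range Ψ.mulVecLin ∧
      LinearMap.range (Fintype.linearCombination R
          (fun i : Fin (t + 1) => a * ((-1 : R) ^ (i : ℕ) * (Ψ.submatrix i.succAbove id).det))) =
        Ideal.span {a} * CAlgX.minorIdeal Ψ t := by
  classical
  let Δ := Groth.Calg8.minorVec Ψ
  show LinearMap.ker Ψ.mulVecLin = ⊥ ∧
      LinearMap.ker (Fintype.linearCombination R (fun i => a * Δ i)) = LinearMap.range Ψ.mulVecLin ∧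
      LinearMap.range (Fintype.linearCombination R (fun i => a * Δ i)) = Ideal.span {a} * CAlgX.minorIdeal Ψ t
  have hrange : LinearMap.range (Fintype.linearCombination R (fun i => a * Δ i)) =
      Ideal.span {a} * CAlgX.minorIdeal Ψ t := by
    rw [Groth.Calg8.minorIdeal_eq_span_minorVec, Ideal.span_mul_span', Set.singleton_mul, ← Set.range_comp,
      Fintype.range_linearCombination]
    rfl
  -- a regular pair in the ideal of minors, or the unit ideal
  obtain ⟨d, y, hd, hy, hdreg, hyd⟩ : ∃ d y, d ∈ CAlgX.minorIdeal Ψ t ∧ y ∈ CAlgX.minorIdeal Ψ t ∧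
      d ∈ nonZeroDivisors R ∧ ∀ r, d ∣ y * r → d ∣ r := by
    by_cases htop : CAlgX.minorIdeal Ψ t • (⊤ : Submodule R R) = ⊤
    · rw [smul_eq_mul, Ideal.mul_top] at htop
      exact ⟨1, 1, by simp [htop], by simp [htop], one_mem _, fun r _ => one_dvd r⟩
    obtain ⟨rs, hlen, hreg, hmem⟩ :=
      (LocCohBase.le_idealDepth_iff_exists _ htop 2).1 (by exact_mod_cast hdepth)
    match rs, hlen with
    | [d, y], _ => exact ⟨d, y, hmem d (by simp), hmem y (by simp),
        ((Groth.Calg8.isWeaklyRegular_pair_iff d y).1 hreg)⟩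
  rw [Groth.Calg8.minorIdeal_eq_span_minorVec] at hd hy
  have hdc := mem_nonZeroDivisors_iff_right.1 hdreg
  have hinj : ∀ w, Ψ.mulVec w = 0 → w = 0 := fun w hw => funext fun j => hdc _ (by
    obtain ⟨c, hc⟩ := (Submodule.mem_span_range_iff_exists_fun R).1 hd
    rw [← hc, Finset.mul_sum]
    refine Finset.sum_eq_zero fun i _ => ?_
    rw [smul_eq_mul, mul_left_comm, mul_comm (w j), Groth.Calg8.minorVec_mul_eq_zero_of_mulVec Ψ w hw,
      mul_zero])
  refine ⟨LinearMap.ker_eq_bot'.2 hinj, le_antisymm ?_ ?_, hrange⟩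
  · intro z hz
    simp only [LinearMap.mem_ker, Fintype.linearCombination_apply, smul_eq_mul] at hz
    have hz' : ∑ i, Δ i * z i = 0 := (mem_nonZeroDivisors_iff_right.1 ha) _ (by
      rw [Finset.sum_mul, ← hz]
      exact Finset.sum_congr rfl fun i _ => by ring)
    have key : ∀ x ∈ Ideal.span (Set.range Δ), ∃ w, Ψ.mulVec w = x • z := by
      intro x hx
      obtain ⟨c, hc⟩ := (Submodule.mem_span_range_iff_exists_fun R).1 hx
      choose w hw using Groth.Calg8.exists_mulVec_eq_minorVec_smul Ψ z hz'
      refine ⟨∑ i, c i • w i, ?_⟩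
      rw [← hc, Matrix.mulVec_sum, Finset.sum_smul]
      exact Finset.sum_congr rfl fun i _ => by rw [Matrix.mulVec_smul, hw, smul_assoc]
    obtain ⟨w, hw⟩ := key d hd
    obtain ⟨v, hv⟩ := key y hy
    have h : y • w = d • v := sub_eq_zero.1 (hinj _ (by
      rw [Matrix.mulVec_sub, Matrix.mulVec_smul, Matrix.mulVec_smul, hw, hv, smul_comm, sub_self]))
    choose w' hw' using fun j => hyd (w j) ⟨v j, congrFun h j⟩
    refine ⟨w', funext fun i => sub_eq_zero.1 (hdc _ ?_)⟩
    have := congrFun hw i
    rw [show w = d • w' from funext hw', Matrix.mulVec_smul] at this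
    simp only [Pi.smul_apply, smul_eq_mul] at this
    simp only [Matrix.mulVecLin_apply]
    linear_combination this
  · rintro _ ⟨w, rfl⟩
    simp only [LinearMap.mem_ker, Fintype.linearCombination_apply, smul_eq_mul, Matrix.mulVecLin_apply,
      Matrix.mulVec, dotProduct, Finset.sum_mul]
    rw [Finset.sum_comm]
    refine Finset.sum_eq_zero fun j _ => ?_
    calc ∑ i, Ψ i j * w j * (a * Δ i) = (w j * a) * ∑ i, Δ i * Ψ i j := by
          rw [Finset.mul_sum]; exact Finset.sum_congr rfl fun i _ => by ring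
      _ = 0 := by rw [Groth.Calg8.sum_minorVec_mul, mul_zero]

end Groth.Agent.S12908
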