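import Groth.Statements.S11449
import Groth.Agent.S12907
import Groth.Agent.S12908
import Groth.Agent.S10834
import Groth.Agent.Smt.GlueLocal
import Groth.Agent.FrobLCI.AusBuch
import Groth.Agent.Ega4Algebra1.RegularLocal
import Mathlib.RingTheory.KrullDimension.Regular

set_option autoImplicit false
universe u
open DefT

namespace Groth.Agent.S11449

/-- Let A be a regular local ring and I an ideal such that A/I is a Cohen–Macaulay local ring whose
Krull dimension is dim A − 2. Then for some r there is an (r+1) × r matrix φ with entries in A such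
that, writing f_i for (−1)^i times the determinant of φ with its i-th row removed (i = 0, …, r), the
elements f_0, …, f_r generate I, no family of fewer than r + 1 elements generates I, multiplication
by φ is an injective map A^r → A^{r+1}, and the image of that map is exactly the kernel of the map
A^{r+1} → A sending v to Σ_i v_i f_i; together with A → A/I this is a free resolution 0 → A^r →
A^{r+1} → A → A/I → 0. -/
theorem result
    (A : Type u) [CommRing A] [IsRegularLocalRing A] (I : Ideal A)
    [LocCoh.IsCohenMacaulayLocalRing (A ⧸ I)]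
    (hcodim : ringKrullDim (A ⧸ I) + 2 = ringKrullDim A) :
    ∃ (r : ℕ) (φ : Matrix (Fin (r + 1)) (Fin r) A),
      Ideal.span (Set.range (fun i : Fin (r + 1) => (-1 : A) ^ (i : ℕ) * (φ.submatrix i.succAbove id).det)) = I ∧
      I.spanFinrank = r + 1 ∧
      Function.Injective φ.mulVecLin ∧
      LinearMap.range φ.mulVecLin =
        LinearMap.ker (Fintype.linearCombination A (fun i : Fin (r + 1) => (-1 : A) ^ (i : ℕ) * (φ.submatrix i.succAbove id).det)) := by
  classical
  have := Groth.Ega4Algebra1.isDomain_of_isRegularLocalRing A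
  have hCM : LocCoh.IsCohenMacaulayLocalRing (A ⧸ I) := inferInstance
  -- the numerical invariants
  obtain ⟨n, hn⟩ : ∃ n : ℕ, (IsLocalRing.maximalIdeal A).spanFinrank = n := ⟨_, rfl⟩
  have hdim : ringKrullDim A = (n : WithBot ℕ∞) := by rw [← hn]; exact IsRegularLocalRing.spanFinrank_maximalIdeal.symm
  have hdA : ringKrullDim A = ((LocCoh.depth A A : ℕ∞) : WithBot ℕ∞) :=
    Groth.Agent.S10834.depth_eq_dim_of_surjective (B := A) (C := A) Function.surjective_id 0 ((RingHom.injective_iff_ker_eq_bot _).1 Function.injective_id |>.trans (by simp))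
  have hdI : ringKrullDim (A ⧸ I) = ((LocCoh.depth A (A ⧸ I) : ℕ∞) : WithBot ℕ∞) := by
    rw [Groth.Smt.depth_eq_of_surjective A (A ⧸ I) Ideal.Quotient.mk_surjective,
      ← hCM.supportDim_eq_depth, Module.supportDim_self_eq_ringKrullDim]
  have hne : I ≠ ⊤ := fun h => not_subsingleton (A ⧸ I) (Ideal.Quotient.subsingleton_iff.2 h)
  -- projective dimension two
  have hex : ∃ e, Groth.Ega4Algebra1.PdLT A (A ⧸ I) (e + 1) :=
    ⟨n, Groth.Ega4Algebra1.pdLT_of_isRegularLocalRing A n hn _⟩
  have hnot : ¬ Groth.Ega4Algebra1.PdLT A (A ⧸ I) (Nat.find hex) := by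
    rcases h : Nat.find hex with _ | e
    · rw [Groth.Ega4Algebra1.PdLT.zero_iff]; exact not_subsingleton _
    · exact Nat.find_min hex (show e < Nat.find hex by omega)
  have hAB := Groth.FrobLCI.auslander_buchsbaum _ _ (Nat.find_spec hex) hnot
  obtain ⟨μ, hμ⟩ := Groth.LocCohBase.exists_depth_eq (R := A) (A ⧸ I)
  rw [hdim] at hdA
  have hA : LocCoh.depth A A = (n : ℕ∞) := (WithBot.coe_inj.1 hdA).symm
  rw [hA, hμ] at hAB
  rw [hdI, hμ, hdim] at hcodim
  have hμn : μ + 2 = n := by
    have h : ((μ + 2 : ℕ) : WithBot ℕ∞) = n := by push_cast; exact hcodim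
    exact_mod_cast h
  have he : Nat.find hex = 2 := by
    have : n = Nat.find hex + μ := by exact_mod_cast hAB
    omega
  have hpd : Groth.Ega4Algebra1.PdLT A (A ⧸ I) 3 := by
    have := Nat.find_spec hex
    rwa [he] at this
  -- a resolution on a minimal set of generators
  have hI2 : Groth.Ega4Algebra1.PdLT A I 2 := by
    have := (Groth.Ega4Algebra1.PdLT.ker_iff I.mkQ I.mkQ_surjective 1).1 hpd
    exact this.of_equiv (LinearEquiv.ofEq _ _ I.ker_mkQ)
  obtain ⟨b, hbI, f, hrange⟩ : ∃ b, b = I.spanFinrank ∧ ∃ f : (Fin b → A) →ₗ[A] I,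
      LinearMap.range (I.subtype.comp f) = I := by
    obtain ⟨s, hs, hspan⟩ := Submodule.FG.exists_span_finset_card_eq_spanFinrank (IsNoetherian.noetherian I)
    refine ⟨s.card, hs, Fintype.linearCombination A fun i : Fin s.card =>
      (⟨(s.equivFin.symm i).1, hspan.le (Submodule.subset_span (s.equivFin.symm i).2)⟩ : I), ?_⟩
    rw [LinearMap.range_comp, Fintype.range_linearCombination, Submodule.map_span, ← Set.range_comp]
    refine Eq.trans ?_ hspan
    refine congrArg (Submodule.span A) (Set.ext fun a => ⟨?_, fun ha => ⟨s.equivFin ⟨a, ha⟩, by simp⟩⟩)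
    rintro ⟨i, rfl⟩
    exact (s.equivFin.symm i).2
  have hf : Function.Surjective f := fun y => by
    obtain ⟨v, hv⟩ := hrange.ge y.2
    exact ⟨v, Subtype.ext hv⟩
  obtain ⟨r, C, hinj, hkerC⟩ : ∃ (r : ℕ) (C : Matrix (Fin b) (Fin r) A),
      Function.Injective C.mulVecLin ∧ LinearMap.ker (I.subtype.comp f) = LinearMap.range C.mulVecLin := by
    have hK : Module.Projective A (LinearMap.ker f) :=
      Groth.Ega4Algebra1.PdLT.one_iff.1 ((Groth.Ega4Algebra1.PdLT.ker_iff f hf 0).1 hI2)
    have : Module.Free A (LinearMap.ker f) := Module.free_of_flat_of_isLocalRing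
    let β := Module.finBasis A (LinearMap.ker f)
    refine ⟨_, Matrix.of fun i j => (β j : Fin b → A) i, ?_⟩
    have hC : (Matrix.of fun i j => (β j : Fin b → A) i).mulVecLin =
        (LinearMap.ker f).subtype.comp β.equivFun.symm.toLinearMap := by
      refine LinearMap.ext fun v => funext fun i => ?_
      simp [Matrix.mulVec, dotProduct, Module.Basis.equivFun_symm_apply, mul_comm]
    rw [hC]
    refine ⟨Subtype.val_injective.comp β.equivFun.symm.injective, ?_⟩
    rw [LinearMap.ker_comp_of_ker_eq_bot f I.ker_subtype, LinearMap.range_comp, LinearEquiv.range,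
      Submodule.map_top, Submodule.range_subtype]
  have hIne : I ≠ ⊥ := by
    rintro rfl
    have e : ringKrullDim (A ⧸ (⊥ : Ideal A)) = ringKrullDim A :=
      ringKrullDim_eq_of_ringEquiv (RingEquiv.quotientBot A)
    rw [hdI, hμ, hdim] at e
    have : μ = n := by exact_mod_cast e
    omega
  obtain ⟨hb, ⟨a, ha, hIa⟩, hdep⟩ := Groth.Agent.S12907.result r b C
    (I.subtype.comp f) (LinearMap.ker_eq_bot.2 hinj) hkerC (by rw [hrange]; exact hIne)
  rw [hrange] at hIa
  subst hb
  -- the scalar is a unit
  have hau : IsUnit a := by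
    by_contra hau
    have hle : I ≤ Ideal.span {a} := hIa.le.trans Ideal.mul_le_left
    have ham : a ∈ IsLocalRing.maximalIdeal A := hau
    have h1 := ringKrullDim_le_of_surjective (Ideal.Quotient.factor hle) (Ideal.Quotient.factor_surjective hle)
    have h2 := ringKrullDim_quotient_span_singleton_succ_eq_ringKrullDim_of_mem_nonZeroDivisors ha ham
    have h3 : ringKrullDim A ≤ ringKrullDim (A ⧸ I) + 1 := by
      rw [← h2]; exact add_le_add_left h1 1
    rw [hdI, hμ, hdim] at h3
    have h4 : ((n : ℕ) : WithBot ℕ∞) ≤ ((μ + 1 : ℕ) : WithBot ℕ∞) := by push_cast; exact h3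
    have : n ≤ μ + 1 := by exact_mod_cast h4
    omega
  rw [Ideal.span_singleton_eq_top.2 hau, Ideal.top_mul] at hIa
  have h8 := Groth.Agent.S12908.result r C hdep 1 (one_mem _)
  simp only [one_mul] at h8
  obtain ⟨-, hker, hran⟩ := h8
  refine ⟨r, C, ?_, hbI.symm, hinj, hker.symm⟩
  rw [hIa, ← Ideal.submodule_span_eq, ← Fintype.range_linearCombination, hran, Ideal.span_singleton_one, Ideal.top_mul]

end Groth.Agent.S11449
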