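import Groth.Statements.S12483
import Groth.Agent.CohTwo.LocFreeExt
import Groth.Agent.CohTwo.ExtStructure

set_option autoImplicit false
universe u
open CategoryTheory CategoryTheory.Limits AlgebraicGeometry
open Coherent

namespace Groth.Agent.S12483

/-- Let `X` be a scheme, `A` an `O_X`-module which is finite locally free (every point has an open
neighbourhood over which `A` is isomorphic to some `O^n`) and for which the internal Hom functor
`Hom_{O_X}(A, -)` exists (right adjoint of `A ⊗ -`), `B` any `O_X`-module and `p ≥ 0`. Then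
`Ext^p_{O_X}(X; A, B)`, the Ext group computed in the category of `O_X`-modules, is isomorphic to
`H^p(X, Hom_{O_X}(A, B))`. (Existence of an isomorphism of abelian groups only; the published
isomorphisms are canonical, the edge maps of the local-to-global spectral sequence for Ext. The
published statement is for an arbitrary ringed space; this row is the case of a scheme.) -/
theorem result (X : Scheme.{u}) [HasExt.{u} X.Modules]
    (A B : X.Modules) (hA : FlatMod.IsFinLocFree A) [DCoh.HasSheafHom A] (p : ℕ) :
    Nonempty (Abelian.Ext A B p ≃+ Coh.HH X ((DCoh.sheafHom A).obj B) p) := by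
  haveI : ModSite.HasSheafHom (O := X.sheaf) A := Groth.SitesTopoi.ModH.hasSheafHom (O := X.sheaf) A
  obtain ⟨e₀⟩ : Nonempty (CohB1.tensorMod (Coh.structureModule X) A ≅ A) :=
    ⟨(Groth.PicAux.exists_leftUnitor A).choose⟩
  obtain ⟨e₁⟩ := Groth.CohTwo.LocFreeExt.nonempty_ext_tensor hA (Coh.structureModule X) B p
  obtain ⟨e⟩ := Groth.CohTwo.LocFreeExt.nonempty_sheafHom_iso_tensor hA
  let j : CohB1.tensorMod B (Groth.CohTwo.LocFreeExt.msDual A) ≅ (DCoh.sheafHom A).obj B :=
    (e.app B).symm ≪≫ (Groth.CohTwo.LocFreeExt.msIso A).app B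
  obtain ⟨e₂⟩ := Groth.CohTwo.ExtStructure.nonempty_ext_structure_equiv X ((DCoh.sheafHom A).obj B) p
  exact ⟨(Groth.SiteCohomology.extIsoLeft e₀ B p).trans
    (e₁.trans ((Groth.SiteCohomology.extIsoRight j (Coh.structureModule X) p).trans e₂))⟩

end Groth.Agent.S12483
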