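import Groth.Statements.S5777
import Groth.Agent.EGA41Two.FlatRegularFibre
import Groth.Agent.Ega4Algebra2.FlatRegular

set_option autoImplicit false
universe u
open EGA41

namespace Groth.Agent.S5777

/-- Let φ : A → B be a local homomorphism of Noetherian local rings, M a finitely generated B-module and
(f_i)_{1 ≤ i ≤ n} an A-regular sequence of elements of the maximal ideal of A, generating the ideal
J. Then M is flat over A if and only if M/JM is flat over A/J and (f_i) is an M-regular sequence. -/
theorem result (A B : Type u) [CommRing A] [CommRing B]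
    [IsLocalRing A] [IsLocalRing B] [IsNoetherianRing A] [IsNoetherianRing B] [Algebra A B]
    [IsLocalHom (algebraMap A B)] (M : Type u) [AddCommGroup M] [Module B M] [Module A M]
    [IsScalarTower A B M] [Module.Finite B M] (fs : List A) (hfs : ∀ f ∈ fs, f ∈ IsLocalRing.maximalIdeal A)
    (hA : RingTheory.Sequence.IsWeaklyRegular A fs) :
    Module.Flat A M ↔
      Module.Flat (A ⧸ Ideal.ofList fs) (M ⧸ (Ideal.ofList fs • (⊤ : Submodule A M))) ∧
        RingTheory.Sequence.IsWeaklyRegular M fs := by
  set J := Ideal.ofList fs with hJdef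
  let e : TensorProduct A (A ⧸ J) M ≃ₗ[A] M ⧸ (J • (⊤ : Submodule A M)) :=
    TensorProduct.quotTensorEquivQuotSMul M J
  let e' : TensorProduct A (A ⧸ J) M ≃ₗ[A ⧸ J] M ⧸ (J • (⊤ : Submodule A M)) :=
    e.extendScalarsOfSurjective Ideal.Quotient.mk_surjective
  constructor
  · intro h
    exact ⟨Module.Flat.of_linearEquiv e'.symm, ((TensorProduct.lid A M).isWeaklyRegular_congr _).mp (hA.isWeaklyRegular_rTensor (M₂ := M))⟩
  · rintro ⟨h1, h2⟩
    haveI : Module.Flat (A ⧸ J) (TensorProduct A (A ⧸ J) M) := Module.Flat.of_linearEquiv e'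
    have hJ : J = Ideal.span (Set.range fun i : Fin fs.length => fs[(i : ℕ)]) := by
      rw [hJdef, Ideal.ofList]
      congr 1
      ext x
      simp [List.mem_iff_getElem, Fin.exists_iff]
    refine Groth.FlatMorOne.flat_of_rTensor_injective (S := B) J
      (Groth.FlatMorOne.map_le_jacobson_of_isLocalHom fun htop => ?_) ?_
    · refine (IsLocalRing.maximalIdeal.isMaximal A).ne_top (top_le_iff.mp (htop.ge.trans ?_))
      rw [hJdef, Ideal.ofList, Ideal.span_le]
      exact fun x hx => hfs x hx
    · have h3 := Groth.Ega4b.rTensor_injective_of_isWeaklyRegular (M := M) (fun i : Fin fs.length => fs[(i : ℕ)])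
        (by rwa [List.ofFn_getElem])
      rw [hJ]
      exact h3

end Groth.Agent.S5777
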