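import Groth.Statements.S2470
import Groth.Agent.S5777
import Groth.Agent.S0565
import Groth.Agent.FibreDim.LocalRing
import Groth.Agent.Calg4.RegularFlat
import Groth.Agent.Ega4Algebra1.RegularParams

set_option autoImplicit false
universe u
open EGA41

namespace Groth.Agent.S2470

open IsLocalRing in
theorem exists_nat_dim (R : Type u) [CommRing R] [IsLocalRing R] [IsNoetherianRing R] :
    ∃ n : ℕ, ringKrullDim R = n := by
  obtain ⟨a, ha⟩ := WithBot.ne_bot_iff_exists.mp (ringKrullDim_ne_bot (R := R))
  obtain ⟨d, hd⟩ := ENat.ne_top_iff_exists.mp (fun h : a = ⊤ => ringKrullDim_ne_top (R := R) (by rw [← ha, h]; rfl))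
  exact ⟨d, by rw [← ha, ← hd]; rfl⟩

open IsLocalRing in
theorem flat_of_params {A B : Type u} [CommRing A] [IsRegularLocalRing A] [CommRing B] [IsRegularLocalRing B]
    [Algebra A B] [IsLocalHom (algebraMap A B)] [IsLocalRing (B ⧸ (maximalIdeal A).map (algebraMap A B))]
    (hcount : (maximalIdeal B).spanFinrank =
      (maximalIdeal A).spanFinrank + (maximalIdeal (B ⧸ (maximalIdeal A).map (algebraMap A B))).spanFinrank) :
    Module.Flat A B := by
  classical
  set I := (maximalIdeal A).map (algebraMap A B) with hI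
  obtain ⟨x, hx⟩ := Groth.Ega4Algebra1.exists_span_eq_maximalIdeal (R := A) rfl
  obtain ⟨y, hy⟩ := Groth.Ega4Algebra1.exists_span_eq_maximalIdeal (R := B ⧸ I) rfl
  choose z hz using fun i => Ideal.Quotient.mk_surjective (y i)
  let w := Fin.append (fun i => algebraMap A B (x i)) z
  have hw : Ideal.span (Set.range w) = maximalIdeal B := by
    have h1 : maximalIdeal B = ((maximalIdeal (B ⧸ I)).comap (Ideal.Quotient.mk I)) :=
      (eq_maximalIdeal (Ideal.comap_isMaximal_of_surjective _ Ideal.Quotient.mk_surjective)).symm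
    have hr : Set.range w = Set.range (fun i => algebraMap A B (x i)) ∪ Set.range z := by
      ext b
      simp only [Set.mem_union, Set.mem_range]
      constructor
      · rintro ⟨i, rfl⟩
        refine Fin.addCases (fun i => Or.inl ⟨i, ?_⟩) (fun i => Or.inr ⟨i, ?_⟩) i <;> simp [w]
      · rintro (⟨i, rfl⟩ | ⟨i, rfl⟩)
        · exact ⟨Fin.castAdd _ i, by simp [w]⟩
        · exact ⟨Fin.natAdd _ i, by simp [w]⟩
    rw [hr, Ideal.span_union, Set.range_comp' (algebraMap A B) x, ← Ideal.map_span, hx, ← hI, h1]
    conv_rhs => rw [← hy]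
    rw [show (y : _ → B ⧸ I) = Ideal.Quotient.mk I ∘ z from funext fun i => (hz i).symm, Set.range_comp,
      ← Ideal.map_span, Ideal.comap_map_of_surjective _ Ideal.Quotient.mk_surjective,
      ← RingHom.ker_eq_comap_bot, Ideal.mk_ker, sup_comm]
  have hreg := Groth.Ega4Algebra1.isWeaklyRegular_of_span_eq _ B hcount w hw
  rw [List.ofFn_fin_append, RingTheory.Sequence.isWeaklyRegular_append_iff] at hreg
  have hB : RingTheory.Sequence.IsWeaklyRegular B (List.ofFn x) := by
    rw [← RingTheory.Sequence.isWeaklyRegular_map_algebraMap_iff B B, List.map_ofFn]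
    exact hreg.1
  have hJ : Ideal.ofList (List.ofFn x) = maximalIdeal A := (Groth.Ega4Algebra1.ofList_ofFn x).trans hx
  refine (Groth.Agent.S5777.result A B B (List.ofFn x) (fun a ha => hJ ▸ Ideal.subset_span ha)
    (Groth.Ega4Algebra1.isWeaklyRegular_of_span_eq _ A rfl x hx)).mpr ⟨?_, hB⟩
  haveI : (Ideal.ofList (List.ofFn x)).IsMaximal := hJ.symm ▸ maximalIdeal.isMaximal A
  letI := Ideal.Quotient.field (Ideal.ofList (List.ofFn x))
  infer_instance

open IsLocalRing in
/-- Let A → B be a local homomorphism of Noetherian local rings with maximal ideals 𝔪, 𝔫 and residue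
fields k, k', and let B₀ = B/𝔪B be the closed fibre. The following are equivalent: (a) B is regular
and the canonical map (𝔪/𝔪²) ⊗_k k' → 𝔫/𝔫² is injective — stated here through dimensions, as
rank_{k'} 𝔫/𝔫² = rank_k 𝔪/𝔪² + rank_{k'} of the cotangent space of B₀, which is equivalent since the
cokernel of that map is the cotangent space of B₀; (c) B and B₀ are regular and B is flat over A;
(d) A and B₀ are regular and B is flat over A; (e) A and B₀ are regular and dim B = dim A + dim B₀.
(Condition (b) of the source, on regular systems of parameters, is not stated.) -/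
theorem result {A B : Type u} [CommRing A] [IsLocalRing A] [IsNoetherianRing A] [CommRing B] [IsLocalRing B] [IsNoetherianRing B]
    [Algebra A B] [IsLocalHom (algebraMap A B)] [IsLocalRing (B ⧸ (maximalIdeal A).map (algebraMap A B))] :
    [IsRegularLocalRing B ∧
       Module.finrank (ResidueField B) (CotangentSpace B) =
         Module.finrank (ResidueField A) (CotangentSpace A) +
           Module.finrank (ResidueField (B ⧸ (maximalIdeal A).map (algebraMap A B))) (CotangentSpace (B ⧸ (maximalIdeal A).map (algebraMap A B))),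
     IsRegularLocalRing B ∧ IsRegularLocalRing (B ⧸ (maximalIdeal A).map (algebraMap A B)) ∧ Module.Flat A B,
     IsRegularLocalRing A ∧ IsRegularLocalRing (B ⧸ (maximalIdeal A).map (algebraMap A B)) ∧ Module.Flat A B,
     IsRegularLocalRing A ∧ IsRegularLocalRing (B ⧸ (maximalIdeal A).map (algebraMap A B)) ∧
       ringKrullDim B = ringKrullDim A + ringKrullDim (B ⧸ (maximalIdeal A).map (algebraMap A B))].TFAE := by
  classical
  let B₀ := B ⧸ (maximalIdeal A).map (algebraMap A B)
  have hub : (maximalIdeal B).spanFinrank ≤ (maximalIdeal A).spanFinrank + (maximalIdeal B₀).spanFinrank := by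
    obtain ⟨x, hx⟩ := Groth.Ega4Algebra1.exists_span_eq_maximalIdeal (R := A) rfl
    obtain ⟨y, hy⟩ := Groth.Ega4Algebra1.exists_span_eq_maximalIdeal (R := B₀) rfl
    choose z hz using fun i => Ideal.Quotient.mk_surjective (y i)
    let T : Finset B := (Finset.univ.image fun i => algebraMap A B (x i)) ∪ Finset.univ.image z
    have hT : maximalIdeal B = Ideal.span (T : Set B) := by
      have h1 : maximalIdeal B = ((maximalIdeal B₀).comap (Ideal.Quotient.mk _)) :=
        (eq_maximalIdeal (Ideal.comap_isMaximal_of_surjective _ Ideal.Quotient.mk_surjective)).symm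
      simp only [T, Finset.coe_union, Finset.coe_image, Finset.coe_univ, Set.image_univ, Ideal.span_union]
      rw [Set.range_comp' (algebraMap A B) x, ← Ideal.map_span, hx, h1]
      conv_lhs => rw [← hy]
      rw [show (y : _ → B₀) = Ideal.Quotient.mk _ ∘ z from funext fun i => (hz i).symm, Set.range_comp,
        ← Ideal.map_span, Ideal.comap_map_of_surjective _ Ideal.Quotient.mk_surjective,
        ← RingHom.ker_eq_comap_bot, Ideal.mk_ker, sup_comm]
    rw [hT]
    refine (Submodule.spanFinrank_span_le_ncard_of_finite T.finite_toSet).trans ?_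
    rw [Set.ncard_coe_finset]
    exact (Finset.card_union_le _ _).trans (add_le_add
      (Finset.card_image_le.trans (Finset.card_fin _).le) (Finset.card_image_le.trans (Finset.card_fin _).le))
  obtain ⟨a, ha⟩ : ∃ a : ℕ, ringKrullDim A = a := by
    obtain ⟨n, hn⟩ := exists_nat_dim A
    exact ⟨n, hn⟩
  obtain ⟨c, hc⟩ : ∃ c : ℕ, ringKrullDim B₀ = c := by
    obtain ⟨n, hn⟩ := exists_nat_dim B₀
    exact ⟨n, hn⟩
  obtain ⟨b, hb⟩ : ∃ b : ℕ, ringKrullDim B = b := by
    obtain ⟨n, hn⟩ := exists_nat_dim B
    exact ⟨n, hn⟩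
  have hA := ringKrullDim_le_spanFinrank_maximalIdeal A
  have hC := ringKrullDim_le_spanFinrank_maximalIdeal B₀
  have hB := ringKrullDim_le_spanFinrank_maximalIdeal B
  have hsum := Groth.FibreDim.ringKrullDim_le_add_fibre A B
  change ringKrullDim B ≤ ringKrullDim A + ringKrullDim B₀ at hsum
  rw [ha] at hA
  rw [hc] at hC
  rw [hb] at hB
  rw [ha, hb, hc] at hsum
  norm_cast at hA hB hC hsum
  have regA : IsRegularLocalRing A ↔ (maximalIdeal A).spanFinrank = a := by
    rw [isRegularLocalRing_iff, ha]; norm_cast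
  have regB : IsRegularLocalRing B ↔ (maximalIdeal B).spanFinrank = b := by
    rw [isRegularLocalRing_iff, hb]; norm_cast
  have regC : IsRegularLocalRing B₀ ↔ (maximalIdeal B₀).spanFinrank = c := by
    rw [isRegularLocalRing_iff, hc]; norm_cast
  tfae_have 1 → 4 := by
    rintro ⟨h1, h2⟩
    rw [← spanFinrank_maximalIdeal_eq_finrank_cotangentSpace, ← spanFinrank_maximalIdeal_eq_finrank_cotangentSpace,
      ← spanFinrank_maximalIdeal_eq_finrank_cotangentSpace] at h2
    change _ = _ + (maximalIdeal B₀).spanFinrank at h2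
    have h3 := regB.mp h1
    refine ⟨regA.mpr (by omega), regC.mpr (by omega), ?_⟩
    change ringKrullDim B = ringKrullDim A + ringKrullDim B₀
    rw [ha, hb, hc]
    norm_cast
    omega
  tfae_have 4 → 1 := by
    rintro ⟨h1, h2, h3⟩
    change ringKrullDim B = ringKrullDim A + ringKrullDim B₀ at h3
    rw [ha, hb, hc] at h3
    norm_cast at h3
    have h4 := regA.mp h1
    have h5 := regC.mp h2
    refine ⟨regB.mpr (by omega), ?_⟩
    rw [← spanFinrank_maximalIdeal_eq_finrank_cotangentSpace, ← spanFinrank_maximalIdeal_eq_finrank_cotangentSpace,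
      ← spanFinrank_maximalIdeal_eq_finrank_cotangentSpace]
    change _ = _ + (maximalIdeal B₀).spanFinrank
    omega
  tfae_have 4 → 2 := by
    rintro ⟨h1, h2, h3⟩
    change ringKrullDim B = ringKrullDim A + ringKrullDim B₀ at h3
    rw [ha, hb, hc] at h3
    norm_cast at h3
    have h4 := regA.mp h1
    have h5 := regC.mp h2
    have h6 : IsRegularLocalRing B := regB.mpr (by omega)
    haveI := h1
    haveI := h6
    refine ⟨h6, h2, flat_of_params ?_⟩
    change _ = _ + (maximalIdeal B₀).spanFinrank
    omega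
  tfae_have 2 → 3 := by
    rintro ⟨h1, h2, h3⟩
    haveI := h1
    haveI := h3
    exact ⟨Groth.Agent.S0565.result A B, h2, h3⟩
  tfae_have 3 → 4 := by
    rintro ⟨h1, h2, h3⟩
    haveI := h3
    exact ⟨h1, h2, Groth.Calg4.ringKrullDim_eq_add_of_flat A B⟩
  tfae_finish

end Groth.Agent.S2470
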