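import Groth.Statements.S2461
import Groth.Agent.Ega41Adic.Basic
import Mathlib.RingTheory.AdicCompletion.Completeness
import Mathlib.RingTheory.AdicCompletion.Algebra
open Groth.Ega41Adic

set_option autoImplicit false
universe u
open EGA41

namespace Groth.Agent.S2461

/-- Let A carry the 𝔞-adic topology and let B be a Noetherian A-algebra with the 𝔟-adic topology. Then B
is formally smooth over A if and only if the 𝔟-adic completion of B, with the adic topology of the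
extended ideal, is formally smooth over A. -/
theorem result {A B : Type u} [CommRing A] (𝔞 : Ideal A) [CommRing B] [IsNoetherianRing B] [Algebra A B] (𝔟 : Ideal B) :
    EGA41.IsFormallySmoothAdic A 𝔞 B 𝔟 ↔
      EGA41.IsFormallySmoothAdic A 𝔞 (AdicCompletion 𝔟 B) (𝔟.map (algebraMap B (AdicCompletion 𝔟 B))) := by
  set Bh := AdicCompletion 𝔟 B
  set of' : B →ₐ[A] Bh := IsScalarTower.toAlgHom A B Bh
  have hof : ∀ (k : ℕ) (b : B), AdicCompletion.evalₐ 𝔟 k (of' b) = Ideal.Quotient.mk (𝔟 ^ k) b := fun k b =>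
    (AdicCompletion.evalₐ 𝔟 k).commutes b
  have hker : ∀ (k : ℕ) (x : Bh), AdicCompletion.evalₐ 𝔟 k x = 0 → x ∈ (𝔟.map (algebraMap B Bh)) ^ k := by
    intro k x hx
    have hx' : x ∈ (AdicCompletion.eval 𝔟 B k).ker := by
      rw [LinearMap.mem_ker]
      have h1 := AdicCompletion.factor_evalₐ_eq_eval 𝔟 (n := k) x (by simp)
      rw [hx, map_zero] at h1
      exact h1.symm
    rw [← AdicCompletion.pow_smul_top_eq_ker_eval (IsNoetherian.noetherian 𝔟), Ideal.smul_top_eq_map] at hx'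
    rw [← Ideal.map_pow]
    exact hx'
  have hdec : ∀ (k : ℕ) (x : Bh), ∃ b, x - of' b ∈ (𝔟.map (algebraMap B Bh)) ^ k := by
    intro k x
    obtain ⟨b, hb⟩ := Ideal.Quotient.mk_surjective (AdicCompletion.evalₐ 𝔟 k x)
    exact ⟨b, hker k _ (by rw [map_sub, hof, hb, sub_self])⟩
  have hevk : ∀ (k : ℕ), ∀ x ∈ (𝔟.map (algebraMap B Bh)) ^ k, AdicCompletion.evalₐ 𝔟 k x = 0 := by
    intro k x hx
    have hle : (𝔟.map (algebraMap B Bh)) ^ k ≤ RingHom.ker (AdicCompletion.evalₐ 𝔟 k).toRingHom := by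
      rw [← Ideal.map_pow, Ideal.map_le_iff_le_comap]
      intro b hb
      show AdicCompletion.evalₐ 𝔟 k (of' b) = 0
      rw [hof]; exact Ideal.Quotient.eq_zero_iff_mem.mpr hb
    exact hle hx
  constructor
  · intro h C _ _ J hJ hA u ⟨k, hk⟩
    have hk0 : ∃ m : ℕ, ∀ x ∈ 𝔟 ^ m, u (of' x) = 0 := ⟨k, fun x hx => hk _ (by
      rw [← Ideal.map_pow]; exact Ideal.mem_map_of_mem _ hx)⟩
    obtain ⟨v, hv⟩ := h C J hJ hA (u.comp of') hk0
    obtain ⟨m, hm⟩ := continuous_of_quotient hJ v 𝔟 (hk0.imp fun m hm x hx => (AlgHom.congr_fun hv x).trans (hm x hx))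
    let w : Bh →ₐ[A] C := (Ideal.Quotient.liftₐ (𝔟 ^ m) v hm).comp ((AdicCompletion.evalₐ 𝔟 m).restrictScalars A)
    have hw : ∀ b, w (of' b) = v b := fun b => by
      show Ideal.Quotient.liftₐ (𝔟 ^ m) v hm (AdicCompletion.evalₐ 𝔟 m (of' b)) = v b
      rw [hof]; rfl
    refine ⟨w, AlgHom.ext fun x => ?_⟩
    obtain ⟨b, hb⟩ := hdec (max k m) x
    show Ideal.Quotient.mk J (w x) = u x
    have h1 : w (x - of' b) = 0 := by
      show Ideal.Quotient.liftₐ (𝔟 ^ m) v hm (AdicCompletion.evalₐ 𝔟 m (x - of' b)) = 0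
      rw [hevk m _ (Ideal.pow_le_pow_right (le_max_right _ _) hb), map_zero]
    have h2 := hk _ (Ideal.pow_le_pow_right (le_max_left _ _) hb)
    rw [map_sub, sub_eq_zero] at h1 h2
    rw [h1, h2, hw]
    exact AlgHom.congr_fun hv b
  · intro h C _ _ J hJ hA u ⟨k, hk⟩
    let u' : Bh →ₐ[A] C ⧸ J :=
      (Ideal.Quotient.liftₐ (𝔟 ^ k) u hk).comp ((AdicCompletion.evalₐ 𝔟 k).restrictScalars A)
    obtain ⟨w, hw⟩ := h C J hJ hA u' ⟨k, fun x hx => by
      show Ideal.Quotient.liftₐ (𝔟 ^ k) u hk (AdicCompletion.evalₐ 𝔟 k x) = 0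
      rw [hevk k x hx, map_zero]⟩
    refine ⟨w.comp of', AlgHom.ext fun b => (AlgHom.congr_fun hw (of' b)).trans ?_⟩
    show Ideal.Quotient.liftₐ (𝔟 ^ k) u hk (AdicCompletion.evalₐ 𝔟 k (of' b)) = u b
    rw [hof]; rfl

end Groth.Agent.S2461
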