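import Groth.Statements.S2038
import Groth.Agent.Ega41Flat.Smooth
import Groth.Agent.S4512
open Groth.Ega41Flat Groth.Ega41Adic IsLocalRing

set_option autoImplicit false
universe u
open CAlg

namespace Groth.Agent.S2038

/-- Let `A → B` be a local homomorphism of Noetherian local rings with residue field `k` of `A`. Then `A
→ B` is flat with special fibre `B ⊗ k` geometrically regular over `k` if and only if `A → B` is
formally smooth for the adic topology of the maximal ideal of `B`. -/
theorem result {A B : Type u} [CommRing A] [CommRing B]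
    [IsLocalRing A] [IsLocalRing B] [IsNoetherianRing A] [IsNoetherianRing B] [Algebra A B]
    [IsLocalHom (algebraMap A B)] :
    (Module.Flat A B ∧ CAlg.IsGeometricallyRegular (IsLocalRing.maximalIdeal A).ResidueField
        ((IsLocalRing.maximalIdeal A).Fiber B)) ↔
      CAlgX.IsAdicFormallySmooth A B (IsLocalRing.maximalIdeal B) := by
  letI : Field (A ⧸ maximalIdeal A) := Ideal.Quotient.field _
  let F := B ⧸ (maximalIdeal A).map (algebraMap A B)
  haveI : Nontrivial F := Ideal.Quotient.nontrivial_iff.mpr fun h =>
    (maximalIdeal.isMaximal B).ne_top (top_le_iff.mp (h ▸ map_maximalIdeal_le (A := A) (B := B)))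
  haveI : IsLocalRing F := IsLocalRing.of_surjective' _ Ideal.Quotient.mk_surjective
  have hm : (maximalIdeal B).map (Ideal.Quotient.mk ((maximalIdeal A).map (algebraMap A B))) = maximalIdeal F :=
    IsLocalRing.map_maximalIdeal_of_surjective _ Ideal.Quotient.mk_surjective
  rw [isGeometricallyRegular_fibre_iff, isAdicFormallySmooth_iff_local]
  constructor
  · rintro ⟨hflat, hgr⟩
    refine isFormallySmoothAdic_of_flat ?_
    rw [hm, ← isAdicFormallySmooth_iff]
    obtain ⟨p, _⟩ := ExpChar.exists (A ⧸ maximalIdeal A)
    exact (Groth.Ega41Exist.isAdicFormallySmooth_iff_regular_baseChange p).mpr fun k' _ _ hfin _ => hgr k' hfin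
  · intro h
    refine ⟨flat_of_formallySmooth h, fun k' _ _ hfin => ?_⟩
    have h0 := isFormallySmoothAdic_quotient h
    rw [hm, ← isAdicFormallySmooth_iff] at h0
    exact (Groth.Agent.S4512.result h0).1 k' hfin

end Groth.Agent.S2038
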