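import Groth.Statements.S9268
import Groth.Agent.Calg4.RegularHomSmooth
import Groth.Agent.Calg4.AdicSmoothPoint
import Groth.Agent.Ega41Flat.Smooth
import Groth.Agent.S2038

set_option autoImplicit false
universe u
open CAlg

namespace Groth.Agent.S9268

open TensorProduct

/-- Suppose A is a Noetherian ring and B is a finitely generated A-algebra, and consider a prime q of B
lying over p in A. Then A → B is smooth at q (meaning some g not in q makes A → B_g smooth) exactly
when the induced map A_p → B_q is formally smooth with respect to the adic topology defined by the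
maximal ideal of B_q. -/
theorem result (A B : Type u) [CommRing A] [IsNoetherianRing A]
    [CommRing B] [Algebra A B] [Algebra.FiniteType A B] (q : Ideal B) [q.IsPrime] :
    (∃ g : B, g ∉ q ∧ Algebra.Smooth A (Localization.Away g)) ↔
      letI := (Localization.localRingHom (Ideal.comap (algebraMap A B) q) q (algebraMap A B) rfl).toAlgebra
      CAlgX.IsAdicFormallySmooth (Localization.AtPrime (Ideal.comap (algebraMap A B) q))
        (Localization.AtPrime q) (IsLocalRing.maximalIdeal (Localization.AtPrime q)) := by
  let p := q.comap (algebraMap A B)
  let f := Localization.localRingHom p q (algebraMap A B) rfl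
  let : Algebra (Localization.AtPrime p) (Localization.AtPrime q) := f.toAlgebra
  have : IsScalarTower A (Localization.AtPrime p) (Localization.AtPrime q) :=
    IsScalarTower.of_algebraMap_eq fun a => (by
      simp [RingHom.algebraMap_toAlgebra, f, Localization.localRingHom_to_map,
        IsScalarTower.algebraMap_apply A B (Localization.AtPrime q)])
  have : IsLocalHom (algebraMap (Localization.AtPrime p) (Localization.AtPrime q)) :=
    Localization.isLocalHom_localRingHom p q (algebraMap A B) rfl
  have : IsNoetherianRing B := Algebra.FiniteType.isNoetherianRing A B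
  refine ⟨fun ⟨g, hg, hs⟩ => ?_, fun h => ?_⟩
  · have h0 := Groth.Calg4.isRegularHom_of_smooth A (Localization.Away g)
    have hu : IsUnit (algebraMap B (Localization.AtPrime q) g) :=
      IsLocalization.map_units (Localization.AtPrime q) (⟨g, hg⟩ : q.primeCompl)
    let : Algebra (Localization.Away g) (Localization.AtPrime q) :=
      (IsLocalization.Away.lift g hu).toAlgebra
    have : IsScalarTower B (Localization.Away g) (Localization.AtPrime q) :=
      IsScalarTower.of_algebraMap_eq fun b => (IsLocalization.Away.lift_eq g hu b).symm
    have : IsScalarTower A (Localization.Away g) (Localization.AtPrime q) :=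
      IsScalarTower.to₁₃₄ A B _ _
    have : IsLocalization (Algebra.algebraMapSubmonoid (Localization.Away g) q.primeCompl)
        (Localization.AtPrime q) :=
      IsLocalization.isLocalization_of_submonoid_le _ _ (Submonoid.powers g) _
        (Submonoid.powers_le.mpr hg)
    have h1 : CAlg.IsRegularHom (Localization.AtPrime p) (Localization.AtPrime q) :=
      Groth.Calg4.IsRegularHom.localization_source p.primeCompl
        (Groth.Calg4.IsRegularHom.localization h0
          (Algebra.algebraMapSubmonoid (Localization.Away g) q.primeCompl) (Localization.AtPrime q))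
    exact Groth.Agent.S2038.result.mp ⟨h1.1, (h1.2 (IsLocalRing.maximalIdeal (Localization.AtPrime p))).2⟩
  · have := Groth.Ega41Flat.flat_of_formallySmooth
      ((Groth.Ega41Flat.isAdicFormallySmooth_iff_local).mp h)
    have : Module.Flat A (Localization.AtPrime q) :=
      Module.Flat.trans A (Localization.AtPrime p) (Localization.AtPrime q)
    have : Algebra.FinitePresentation A B := Algebra.FinitePresentation.of_finiteType.mp inferInstance
    have : q.LiesOver p := ⟨rfl⟩
    let κ := p.ResidueField
    let L := q.ResidueField
    let : Algebra κ L := (Ideal.ResidueField.map p q (algebraMap A B) rfl).toAlgebra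
    have : IsScalarTower A κ L := IsScalarTower.of_algebraMap_eq fun a => by
      simp [RingHom.algebraMap_toAlgebra, κ, L, IsScalarTower.algebraMap_apply A B q.ResidueField]
    have : Algebra.EssFiniteType A L := Algebra.EssFiniteType.comp A B L
    have : IsNoetherianRing (L ⊗[A] B) :=
      have : IsNoetherianRing (B ⊗[A] L) := Algebra.EssFiniteType.isNoetherianRing B (B ⊗[A] L)
      isNoetherianRing_of_ringEquiv (B ⊗[A] L) (Algebra.TensorProduct.comm A B L).toRingEquiv
    let ψ : L ⊗[A] B →ₐ[L] L :=
      Algebra.TensorProduct.lift (AlgHom.id _ _) (IsScalarTower.toAlgHom A B L) fun _ _ => .all _ _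
    have hψ : Function.Surjective ψ := fun x => ⟨x ⊗ₜ 1, by simp [ψ]⟩
    let P := RingHom.ker ψ.toRingHom
    have : P.IsMaximal := RingHom.ker_isMaximal_of_surjective ψ.toRingHom hψ
    have hbij : Function.Bijective (algebraMap L P.ResidueField) := by
      refine ⟨RingHom.injective _, fun x => ?_⟩
      obtain ⟨t, rfl⟩ := P.algebraMap_residueField_surjective x
      refine ⟨ψ t, ?_⟩
      rw [IsScalarTower.algebraMap_apply L (L ⊗[A] B) P.ResidueField,
        eq_comm, ← sub_eq_zero, ← map_sub, Ideal.algebraMap_residueField_eq_zero]
      simp [P, RingHom.mem_ker, ψ]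
    have : Algebra.FormallySmooth L P.ResidueField :=
      Algebra.FormallySmooth.of_equiv (AlgEquiv.ofBijective (Algebra.ofId L P.ResidueField) hbij)
    have hP : P.comap (Algebra.TensorProduct.includeRight (R := A) (A := L) (B := B)).toRingHom = q := by
      ext b
      simp [P, RingHom.mem_ker, ψ, L]
    have : IsRegularLocalRing (Localization.AtPrime P) :=
      Groth.Calg4.isRegularLocalRing_tensor_localization q h L P hP
    have : Algebra.IsSmoothAt L P := Groth.Calg4.isSmoothAt_of_isRegularLocalRing P
    let e := Algebra.TensorProduct.cancelBaseChange A κ L L B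
    have := Groth.PropsBasic.Loci.isSmoothAt_comap_algEquiv e P
    have := Groth.PropsBasic.Loci.isSmoothAt_of_tensorProduct (R := κ) (S := p.Fiber B) (T := L)
      (P.comap e.toRingEquiv)
    let Q := (P.comap e.toRingEquiv).comap
      (Algebra.TensorProduct.includeRight (R := κ) (A := L) (B := p.Fiber B)).toRingHom
    have hQ : Q.comap (Algebra.TensorProduct.includeRight (R := A) (A := κ) (B := B)).toRingHom = q := by
      ext b
      simp [Q, e, P, RingHom.mem_ker, ψ, L, κ]
      rw [Algebra.smul_def, map_one, one_mul]
      exact Ideal.algebraMap_residueField_eq_zero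
    have : Algebra.IsSmoothAt κ Q := this
    have : Algebra.IsSmoothAt A q := Groth.PropsBasic.Loci.isSmoothAt_of_flat_of_fiber p q Q hQ
    exact Algebra.IsSmoothAt.exists_notMem_smooth (R := A) q

end Groth.Agent.S9268
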