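import Groth.Statements.S3436
import Groth.Agent.S9268

set_option autoImplicit false
set_option linter.style.haveILetI false
open CategoryTheory AlgebraicGeometry
universe u
open EGA42

namespace Groth.Agent.S3436

/-- Transport of adic formal smoothness along ring isomorphisms. -/
theorem isAdicFormallySmooth_of_ringEquiv {A B A' B' : Type u} [CommRing A] [CommRing B] [CommRing A']
    [CommRing B'] [Algebra A B] [Algebra A' B'] (eA : A ≃+* A') (eB : B ≃+* B')
    (h : ∀ a, eB (algebraMap A B a) = algebraMap A' B' (eA a)) (𝔫 : Ideal B)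
    (H : CAlgX.IsAdicFormallySmooth A B 𝔫) :
    CAlgX.IsAdicFormallySmooth A' B' (𝔫.map eB.toRingHom) := by
  intro C _ _ J hJ ψ hψ
  letI : Algebra A C := ((algebraMap A' C).comp eA.toRingHom).toAlgebra
  let ψ₀ : B →ₐ[A] C ⧸ J :=
    { ψ.toRingHom.comp eB.toRingHom with
      commutes' := fun a => by
        show ψ (eB (algebraMap A B a)) = _
        rw [h, ψ.commutes]
        rfl }
  obtain ⟨k, hk⟩ := hψ
  obtain ⟨χ, hχ⟩ := H C J hJ ψ₀ ⟨k, fun x hx => hk (eB x) (by
    rw [← Ideal.map_pow]; exact Ideal.mem_map_of_mem eB.toRingHom hx)⟩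
  refine ⟨{ χ.toRingHom.comp eB.symm.toRingHom with
      commutes' := fun a => ?_ }, ?_⟩
  · show χ (eB.symm (algebraMap A' B' a)) = _
    rw [show eB.symm (algebraMap A' B' a) = algebraMap A B (eA.symm a) from
      eB.injective (by rw [eB.apply_symm_apply, h, eA.apply_symm_apply]), χ.commutes]
    show algebraMap A' C (eA (eA.symm a)) = _
    rw [eA.apply_symm_apply]
  · refine AlgHom.ext fun b => ?_
    show Ideal.Quotient.mk J (χ (eB.symm b)) = ψ b
    rw [show Ideal.Quotient.mk J (χ (eB.symm b)) = ψ₀ (eB.symm b) from AlgHom.congr_fun hχ _]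
    show ψ (eB (eB.symm b)) = ψ b
    rw [eB.apply_symm_apply]

/-- The comparison for localizations of a finite type algebra. -/
theorem formallySmooth_iff_adic {A B : Type u} [CommRing A] [IsNoetherianRing A] [CommRing B]
    [Algebra A B] [Algebra.FiniteType A B] (p : Ideal A) [p.IsPrime] (q : Ideal B) [q.IsPrime]
    (Ap Bq : Type u) [CommRing Ap] [IsLocalRing Ap] [CommRing Bq] [IsLocalRing Bq] [Algebra A Ap]
    [Algebra B Bq] [IsLocalization.AtPrime Ap p] [IsLocalization.AtPrime Bq q] [Algebra Ap Bq]
    [IsLocalHom (algebraMap Ap Bq)]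
    (hcomp : ∀ a, algebraMap Ap Bq (algebraMap A Ap a) = algebraMap B Bq (algebraMap A B a)) :
    EGA41.IsFormallySmoothAdic Ap (IsLocalRing.maximalIdeal Ap) Bq (IsLocalRing.maximalIdeal Bq) ↔
      Algebra.FormallySmooth Ap Bq := by
  have hpq : p = q.comap (algebraMap A B) := Ideal.ext fun a => by
    rw [Ideal.mem_comap, ← IsLocalization.AtPrime.to_map_mem_maximal_iff Ap p a,
      ← IsLocalization.AtPrime.to_map_mem_maximal_iff Bq q, ← hcomp,
      IsLocalRing.mem_maximalIdeal, IsLocalRing.mem_maximalIdeal, mem_nonunits_iff, mem_nonunits_iff,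
      isUnit_map_iff (algebraMap Ap Bq)]
  refine ⟨fun h => ?_, fun h C _ _ J hJ _ u _ => Algebra.FormallySmooth.exists_lift J hJ u⟩
  have h1 := Groth.Ega41Flat.isAdicFormallySmooth_iff_local.2 h
  subst hpq
  let p := q.comap (algebraMap A B)
  let eA : Ap ≃+* Localization.AtPrime p :=
    (IsLocalization.algEquiv p.primeCompl Ap (Localization.AtPrime p)).toRingEquiv
  let eB : Bq ≃+* Localization.AtPrime q :=
    (IsLocalization.algEquiv q.primeCompl Bq (Localization.AtPrime q)).toRingEquiv
  letI := (Localization.localRingHom p q (algebraMap A B) rfl).toAlgebra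
  have he : ∀ a, eB (algebraMap Ap Bq a) =
      algebraMap (Localization.AtPrime p) (Localization.AtPrime q) (eA a) := by
    refine fun a => RingHom.congr_fun (IsLocalization.ringHom_ext p.primeCompl
      (j := eB.toRingHom.comp (algebraMap Ap Bq))
      (k := (algebraMap (Localization.AtPrime p) (Localization.AtPrime q)).comp eA.toRingHom) ?_) a
    ext r
    show eB (algebraMap Ap Bq (algebraMap A Ap r)) = Localization.localRingHom p q (algebraMap A B) rfl
      (eA (algebraMap A Ap r))
    rw [hcomp]
    simp [eA, eB, Localization.localRingHom_to_map]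
  have h2 := isAdicFormallySmooth_of_ringEquiv eA eB he _ h1
  rw [show (IsLocalRing.maximalIdeal Bq).map eB.toRingHom =
      IsLocalRing.maximalIdeal (Localization.AtPrime q) from by
    refine IsLocalRing.eq_maximalIdeal ?_
    exact Ideal.map_isMaximal_of_equiv eB (hp := IsLocalRing.maximalIdeal.isMaximal _)] at h2
  obtain ⟨g, hg, hs⟩ := (Groth.Agent.S9268.result A B q).2 h2
  -- formal smoothness of the local ring over `A`
  letI : Algebra A Bq := ((algebraMap B Bq).comp (algebraMap A B)).toAlgebra
  have : IsScalarTower A B Bq := IsScalarTower.of_algebraMap_eq' rfl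
  have : IsScalarTower A Ap Bq := IsScalarTower.of_algebraMap_eq fun a => (hcomp a).symm
  have hu : IsUnit (algebraMap B Bq g) := IsLocalization.map_units Bq (⟨g, hg⟩ : q.primeCompl)
  letI : Algebra (Localization.Away g) Bq := (IsLocalization.Away.lift g hu).toAlgebra
  have : IsScalarTower B (Localization.Away g) Bq :=
    IsScalarTower.of_algebraMap_eq fun b => (IsLocalization.Away.lift_eq g hu b).symm
  have : IsScalarTower A (Localization.Away g) Bq := IsScalarTower.to₁₃₄ A B _ _
  have : IsLocalization (Algebra.algebraMapSubmonoid (Localization.Away g) q.primeCompl) Bq :=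
    IsLocalization.isLocalization_of_submonoid_le _ _ (Submonoid.powers g) _
      (Submonoid.powers_le.mpr hg)
  have : Algebra.FormallySmooth (Localization.Away g) Bq :=
    Algebra.FormallySmooth.of_isLocalization (Algebra.algebraMapSubmonoid (Localization.Away g) q.primeCompl)
  have : Algebra.FormallySmooth A (Localization.Away g) := hs.1
  have : Algebra.FormallySmooth A Bq := Algebra.FormallySmooth.comp A (Localization.Away g) Bq
  exact Algebra.FormallySmooth.localization_base p.primeCompl

/-- Let X and Y be locally Noetherian schemes, f : X ⟶ Y locally of finite type, x a point of X and y =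
f x; give O_{X,x} the O_{Y,y}-algebra structure coming from f. Then O_{X,x} is formally smooth over
O_{Y,y} for the adic topologies of the two local rings (topologies defined by the maximal ideals) if
and only if it is formally smooth for the discrete topologies. -/
theorem result {X Y : Scheme.{u}} [IsLocallyNoetherian X] [IsLocallyNoetherian Y]
    (f : X ⟶ Y) [LocallyOfFiniteType f] (x : X) :
    letI : Algebra (Y.presheaf.stalk (f.base x)) (X.presheaf.stalk x) := (f.stalkMap x).hom.toAlgebra
    EGA41.IsFormallySmoothAdic (Y.presheaf.stalk (f.base x)) (IsLocalRing.maximalIdeal (Y.presheaf.stalk (f.base x)))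
        (X.presheaf.stalk x) (IsLocalRing.maximalIdeal (X.presheaf.stalk x)) ↔
      Algebra.FormallySmooth (Y.presheaf.stalk (f.base x)) (X.presheaf.stalk x) := by
  obtain ⟨U, hU, hfx, -⟩ := exists_isAffineOpen_mem_and_subset (X := Y) (U := ⊤) (x := f.base x) trivial
  obtain ⟨V, hV, hx, hle⟩ := exists_isAffineOpen_mem_and_subset (X := X) (U := f ⁻¹ᵁ U) (x := x) hfx
  have : IsNoetherianRing Γ(Y, U) := IsLocallyNoetherian.component_noetherian ⟨U, hU⟩
  letI : Algebra Γ(Y, U) Γ(X, V) := (f.appLE U V hle).hom.toAlgebra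
  have : Algebra.FiniteType Γ(Y, U) Γ(X, V) :=
    LocallyOfFiniteType.finiteType_appLE f hU hV hle
  letI := Y.presheaf.algebra_section_stalk (⟨f.base x, hfx⟩ : U)
  letI := X.presheaf.algebra_section_stalk (⟨x, hx⟩ : V)
  have h1 := hU.isLocalization_stalk ⟨f.base x, hfx⟩
  have h2 := hV.isLocalization_stalk ⟨x, hx⟩
  letI : Algebra (Y.presheaf.stalk (f.base x)) (X.presheaf.stalk x) := (f.stalkMap x).hom.toAlgebra
  have : IsLocalHom (algebraMap (Y.presheaf.stalk (f.base x)) (X.presheaf.stalk x)) :=
    inferInstanceAs (IsLocalHom (f.stalkMap x).hom)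
  exact formallySmooth_iff_adic (A := Γ(Y, U)) (B := Γ(X, V)) (hU.primeIdealOf ⟨f.base x, hfx⟩).asIdeal
    (hV.primeIdealOf ⟨x, hx⟩).asIdeal (Y.presheaf.stalk (f.base x)) (X.presheaf.stalk x) fun a => by
      show (f.stalkMap x) (Y.presheaf.germ U (f.base x) hfx a) =
        X.presheaf.germ V x hx (f.appLE U V hle a)
      simp [Scheme.Hom.appLE, Scheme.Hom.germ_stalkMap_apply]

end Groth.Agent.S3436
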