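import Groth.Statements.S10112
import Groth.Agent.AlgSpFppf.FreeAction

set_option autoImplicit false
set_option backward.isDefEq.respectTransparency false
set_option backward.isDefEq.respectTransparency.types false
universe u
open CategoryTheory CategoryTheory.Limits AlgebraicGeometry MonoidalCategory
open AlgSp

namespace Groth.Agent.S10112

/-- Let `G` be a group algebraic space over an algebraic space `B`, flat and locally of finite
presentation over `B`, acting freely on an algebraic space `X` over `B`. Then `X/G` is an algebraic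
space, the quotient map `X ⟶ X/G` is flat, surjective and locally of finite presentation, and `(g,
x) ↦ (g x, x)` is an isomorphism `G ×_B X ⟶ X ×_{X/G} X`, so that `X` is an fppf `G`-torsor over
`X/G`. -/
theorem result (S : Scheme.{u}) (B : AlgSp.Sp S) (hB : AlgSp.IsAlgSpace B)
    (G X : Over B) [GrpObj G] (hG : AlgSp.IsAlgSpace G.left) (hX : AlgSp.IsAlgSpace X.left)
    (a : AlgSp.GAction G X) (ha : a.IsFree)
    (hfl : AlgSp.LocP @Flat G.hom ∧ AlgSp.LocP @LocallyOfFinitePresentation G.hom) :
    AlgSp.IsAlgSpace a.quot ∧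
      (AlgSp.IsSurjectiveMor a.quotπ ∧ AlgSp.LocP @Flat a.quotπ ∧ AlgSp.LocP @LocallyOfFinitePresentation a.quotπ) ∧
      IsIso (pullback.lift a.act.left (CartesianMonoidalCategory.snd G X).left
        (AlgSp.quotSp_condition (CartesianMonoidalCategory.snd G X).left a.act.left).symm :
          (G ⊗ X).left ⟶ pullback a.quotπ a.quotπ) := by
  have hj := Groth.AlgSpFppf.isEqvRelSp_of_free a hB hG hX ha
  have hR : AlgSp.IsAlgSpace (G ⊗ X).left :=
    Groth.AlgSpBasic.isAlgSpace_pullback ⟨G.left, hG⟩ ⟨X.left, hX⟩ ⟨B, hB⟩ G.hom X.hom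
  have hsq : IsPullback (CartesianMonoidalCategory.fst G X).left (CartesianMonoidalCategory.snd G X).left
      G.hom X.hom := IsPullback.of_hasPullback G.hom X.hom
  have : Sheaf.IsLocallySurjective a.quotπ := Groth.AlgSpFppf.isLocallySurjective_quotSpπ _ _
  have sq : IsPullback a.act.left (CartesianMonoidalCategory.snd G X).left a.quotπ a.quotπ :=
    Groth.AlgSpFppf.isPullback_quotSp hj
  have hp := Groth.AlgSpFppf.repBySpWith_quotient hR hX hj
    (Groth.AlgSpBasic.locP_of_isPullback hG hB hX hsq hfl.1)
    (Groth.AlgSpBasic.locP_of_isPullback hG hB hX hsq hfl.2) sq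
  have hF : AlgSp.IsAlgSpace a.quot := Groth.FppfBoot.isAlgSpace_of_fppf_cover (X := ⟨X.left, hX⟩) hp
  refine ⟨hF, ⟨Groth.AlgSpFppf.isSurjectiveMor_of_repBySpWith (inf_le_left.trans inf_le_left) hp,
    Groth.AlgSpFppf.locP_of_repBySpWith @Flat (inf_le_left.trans inf_le_right) hX hF hp,
    Groth.AlgSpFppf.locP_of_repBySpWith @LocallyOfFinitePresentation inf_le_right hX hF hp⟩, ?_⟩
  rw [show pullback.lift _ _ _ = sq.isoPullback.hom from
    pullback.hom_ext (by rw [pullback.lift_fst, sq.isoPullback_hom_fst])
      (by rw [pullback.lift_snd, sq.isoPullback_hom_snd])]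
  infer_instance

end Groth.Agent.S10112
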