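import Groth.Statements.S5349
import Groth.Agent.GrpschSep.AnyTypeField

set_option autoImplicit false
universe u
open CategoryTheory CategoryTheory.Limits MonoidalCategory CartesianMonoidalCategory MonObj GrpObj AlgebraicGeometry
open SGA3

namespace Groth.Agent.S5349

/-- Let G be a group scheme over a field k (not assumed of finite type) acting on an irreducible
k-scheme X so that the morphism G ×_k X → X ×_k X, (g, x) ↦ (gx, x), is surjective. Then X is
quasi-compact. -/
theorem result (k : Type u) [Field k] (G X : Over (Spec (CommRingCat.of k))) [GrpObj G] (a : AlgGrp.Action G X) (hΦ : Surjective (lift a.act (snd G X)).left)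
    [IrreducibleSpace X.left] : CompactSpace X.left := by
  haveI : Subsingleton ↥(Spec (CommRingCat.of k)) := inferInstance
  obtain ⟨_, ⟨B : X.left.Opens, hB, rfl⟩, hηB, -⟩ := X.left.isBasis_affineOpens.exists_subset_of_mem_open
    (Set.mem_univ (genericPoint X.left)) isOpen_univ
  let p : ↥(𝟙_ (Over (Spec (CommRingCat.of k)))).left :=
    IsLocalRing.closedPoint k
  obtain ⟨_, ⟨A : G.left.Opens, hA, rfl⟩, heA, -⟩ := G.left.isBasis_affineOpens.exists_subset_of_mem_open
    (Set.mem_univ (η[G].left p)) isOpen_univ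
  haveI : IsAffine A.toScheme := hA
  haveI : IsAffine B.toScheme := hB
  let back : G ⊗ X ⟶ X := lift (fst _ _)⁻¹ (snd _ _) ≫ a.act
  let j : pullback (A.ι ≫ G.hom) (B.ι ≫ X.hom) ⟶ (G ⊗ X).left :=
    pullback.map _ _ G.hom X.hom A.ι B.ι (𝟙 _) (by simp) (by simp)
  refine ⟨?_⟩
  suffices h : Set.univ ⊆ back.left '' Set.range j from
    (Set.univ_subset_iff.mp h).symm ▸ (isCompact_range j.continuous).image back.left.continuous
  intro y _
  obtain ⟨K, _, _, t, x, hx⟩ := Groth.GrpschSep.exists_geomPoint X y
  obtain ⟨m, hme, hm⟩ := Groth.GrpschSep.exists_isMaxPt (Groth.GrpschSep.unitPt G t)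
  obtain ⟨hmax, -⟩ := Groth.GrpschSep.orb_unit_specializes a hΦ x hm hme
  let pair : G ⊗ Over.mk t ⟶ G ⊗ X := lift (fst _ _) (Groth.GrpschSep.orb a x ≫ fst _ _)
  refine ⟨pair.left m, ?_, ?_⟩
  · show _ ∈ Set.range j
    rw [Scheme.Pullback.range_map]
    constructor
    · rw [Set.mem_preimage, Scheme.Opens.range_ι, SetLike.mem_coe]
      show (fst G X).left (pair.left m) ∈ A
      rw [← Scheme.Hom.comp_apply, ← Over.comp_left, show pair ≫ fst _ _ = fst _ _ from lift_fst _ _]
      refine ((hme.map (fst G (Over.mk t)).left.continuous).trans (specializes_of_eq ?_)).mem_open A.2 heA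
      rw [show Groth.GrpschSep.unitPt G t = (lift (1 : Over.mk t ⟶ G) (𝟙 _)).left _ from rfl,
        ← Scheme.Hom.comp_apply, ← Over.comp_left, lift_fst, Hom.one_def, Over.comp_left,
        Scheme.Hom.comp_apply]
      exact congrArg η[G].left (Subsingleton.elim (α := ↥(Spec (CommRingCat.of k))) _ _)
    · rw [Set.mem_preimage, Scheme.Opens.range_ι, SetLike.mem_coe]
      show (snd G X).left (pair.left m) ∈ B
      rw [← Scheme.Hom.comp_apply, ← Over.comp_left,
        show pair ≫ snd _ _ = Groth.GrpschSep.orb a x ≫ fst _ _ from lift_snd _ _, Over.comp_left,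
        Scheme.Hom.comp_apply, ← hmax _ (genericPoint_specializes _)]
      exact hηB
  · have h : pair ≫ back = snd _ _ ≫ x := by
      simp only [pair, back]
      rw [← Category.assoc, comp_lift, GrpObj.comp_inv, lift_fst, lift_snd]
      simp only [Groth.GrpschSep.orb, lift_fst]
      exact Groth.AlgGrp2.lift_inv_act _ _ _
    rw [← Scheme.Hom.comp_apply, ← Over.comp_left, h, ← hx, Over.comp_left, Scheme.Hom.comp_apply]
    exact congrArg x.left (Subsingleton.elim (α := ↥(Spec (CommRingCat.of K))) _ _)

end Groth.Agent.S5349
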