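import Groth.Statements.S5720
import Groth.Agent.Misc1.Azumaya.SplitFamily


set_option autoImplicit false
universe u v
open TensorProduct
open Dix
open Polynomial Groth.Azum

namespace Groth.Agent.S5720

/-- (ii) ⇒ (iii), over an affine base X = Spec R. Let A be an Azumaya algebra over the commutative ring
R and p a prime ideal of R. Then there exist f ∈ R with f ∉ p, a finite étale and faithfully flat
R_f-algebra R' (a finite étale surjective cover of the neighbourhood D(f) of p) and an integer r ≥ 1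
such that R' ⊗_R A is isomorphic as an R'-algebra to the matrix algebra M_r(R'). (Existence of the
isomorphism only.) -/
theorem result (R : Type u) [CommRing R] (A : Type u) [Ring A] [Algebra R A] [IsAzumaya R A] (p : Ideal R) [p.IsPrime] : ∃ f : R, f ∉ p ∧ ∃ (R' : Type u) (_ : CommRing R') (_ : Algebra R R') (_ : Algebra (Localization.Away f) R') (_ : IsScalarTower R (Localization.Away f) R'), Module.Finite (Localization.Away f) R' ∧ Algebra.Etale (Localization.Away f) R' ∧ Module.FaithfullyFlat (Localization.Away f) R' ∧ ∃ r : ℕ, 1 ≤ r ∧ Nonempty ((R' ⊗[R] A) ≃ₐ[R'] Matrix (Fin r) (Fin r) R') := by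
  classical
  obtain ⟨r, a, b, hr, hfr, hsep, hd, hbij⟩ := exists_fibre_data A p
  set K := p.ResidueField
  let M : Fin r × Fin r → A := fun ij => b ij.2 * a ^ (ij.1 : ℕ)
  let L := Fintype.linearCombination R M
  have hL : Function.Bijective (L.lTensor K) := by
    have e : ⇑(L.lTensor K) = ⇑(Fintype.linearCombination K fun ij => (1 : K) ⊗ₜ[R] M ij) ∘
        ⇑(TensorProduct.piScalarRight R K K (Fin r × Fin r)) := funext (lTensor_linearCombination K M)
    rw [e]
    exact hbij.comp (TensorProduct.piScalarRight R K K (Fin r × Fin r)).bijective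
  obtain ⟨SM, hSM⟩ := exists_det_notMem p L hL.1
  obtain ⟨g, hg, hgM⟩ := exists_notMem_surjective p L hL.2
  set G := Fintype.linearCombination R (fun i : Fin r => a ^ (i : ℕ)) with hG
  have hGinj : Function.Injective (G.lTensor K) := by
    have e : ⇑(G.lTensor K) = ⇑(Fintype.linearCombination K fun i : Fin r => (1 : K) ⊗ₜ[R] (a ^ (i : ℕ))) ∘
        ⇑(TensorProduct.piScalarRight R K K (Fin r)) := funext (lTensor_linearCombination K _)
    rw [e]
    refine Function.Injective.comp ?_ (LinearEquiv.injective _)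
    have hrk := (finrank_adjoin_singleton (k := K) ((1 : K) ⊗ₜ[R] a)
      (Module.nontrivial_of_finrank_pos (R := K) (hfr ▸ Nat.pow_pos hr))).trans hd
    have hli := linearIndependent_iff_injective_fintypeLinearCombination.1
      (powers_of_finrank_adjoin ((1 : K) ⊗ₜ[R] a) hrk).1
    have e' : (fun i : Fin r => ((1 : K) ⊗ₜ[R] a) ^ (i : ℕ)) = fun i : Fin r => (1 : K) ⊗ₜ[R] (a ^ (i : ℕ)) :=
      funext fun i => (map_pow (Algebra.TensorProduct.includeRight : A →ₐ[R] K ⊗[R] A) a (i : ℕ)).symm
    exact e' ▸ hli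
  obtain ⟨S, hS⟩ := exists_det_notMem p G hGinj
  obtain ⟨d, t, ht, htz⟩ := exists_relation A p a hfr hsep hd S
  set δ := LinearMap.det (S ∘ₗ G) with hδ
  let G₀ : R[X] := C δ * X ^ r - ∑ i : Fin r, C (d i) * X ^ (i : ℕ)
  have hP : (∑ i : Fin r, C (d i) * X ^ (i : ℕ)).degree < (r : WithBot ℕ) := degree_sum_fin_lt d
  have hdeg : G₀.natDegree ≤ r := by
    refine natDegree_le_iff_degree_le.2 ((degree_sub_le _ _).trans (max_le ?_ hP.le))
    exact degree_C_mul_X_pow_le r δ
  have hcoef : G₀.coeff r = δ := by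
    rw [show G₀ = C δ * X ^ r - ∑ i : Fin r, C (d i) * X ^ (i : ℕ) from rfl, coeff_sub, coeff_C_mul_X_pow,
      if_pos rfl, coeff_eq_zero_of_degree_lt hP, sub_zero]
  have haev : t • aeval a G₀ = 0 := by
    rw [← htz]
    simp [G₀, Algebra.smul_def]
  have hsepG : (G₀.map (algebraMap R K)).Separable := by
    set x := (1 : K) ⊗ₜ[R] a
    have h0 : aeval x (G₀.map (algebraMap R K)) = 0 := by
      rw [aeval_map_algebraMap,
        show x = (Algebra.TensorProduct.includeRight : A →ₐ[R] K ⊗[R] A) a from rfl, aeval_algHom_apply]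
      have h1 : algebraMap R K t • (Algebra.TensorProduct.includeRight : A →ₐ[R] K ⊗[R] A) (aeval a G₀) = 0 := by
        rw [algebraMap_smul, ← map_smul, haev, map_zero]
      exact (smul_eq_zero.1 h1).resolve_left (mt Ideal.algebraMap_residueField_eq_zero.mp ht)
    obtain ⟨q, hq⟩ := minpoly.dvd K x h0
    have hc : (G₀.map (algebraMap R K)).coeff r ≠ 0 := by
      rw [coeff_map, hcoef]
      exact mt Ideal.algebraMap_residueField_eq_zero.mp hS
    have hne : G₀.map (algebraMap R K) ≠ 0 := fun h => hc (by rw [h, coeff_zero])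
    have hd1 : (G₀.map (algebraMap R K)).natDegree = r :=
      natDegree_eq_of_le_of_coeff_ne_zero (natDegree_map_le.trans hdeg) hc
    rw [hq, natDegree_mul (left_ne_zero_of_mul (hq ▸ hne)) (right_ne_zero_of_mul (hq ▸ hne)), hd] at hd1
    have hunit : IsUnit q := isUnit_iff_degree_eq_zero.2 (by
      rw [degree_eq_natDegree (right_ne_zero_of_mul (hq ▸ hne))]
      simp [show q.natDegree = 0 by omega])
    rw [hq, mul_comm]
    exact hsep.unit_mul hunit
  obtain ⟨res, hres, u, v, huv⟩ := exists_bezout p hr G₀ hdeg (hcoef ▸ hS) hsepG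
  let f := LinearMap.det (SM ∘ₗ L) * g * δ * t * res
  have hf : f ∉ p := fun h => by
    rcases ‹p.IsPrime›.mem_or_mem h with h | h
    · rcases ‹p.IsPrime›.mem_or_mem h with h | h
      · rcases ‹p.IsPrime›.mem_or_mem h with h | h
        · rcases ‹p.IsPrime›.mem_or_mem h with h | h
          · exact hSM h
          · exact hg h
        · exact hS h
      · exact ht h
    · exact hres h
  let B := Localization.Away f
  have hfB : IsUnit (algebraMap R B f) := IsLocalization.Away.algebraMap_isUnit f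
  simp only [f, map_mul, IsUnit.mul_iff] at hfB
  obtain ⟨⟨⟨⟨hdetB, hgB⟩, hδB⟩, htB⟩, hresB⟩ := hfB
  have : Nontrivial B :=
    (IsLocalization.Away.lift f (g := algebraMap R K)
      (isUnit_iff_ne_zero.2 (mt Ideal.algebraMap_residueField_eq_zero.mp hf))).domain_nontrivial
  have := baseChange R A B
  let aB : B ⊗[R] A := (1 : B) ⊗ₜ[R] a
  let φ : A →ₐ[R] B ⊗[R] A := Algebra.TensorProduct.includeRight
  let F : B[X] := C ((hδB.unit⁻¹ : Bˣ) : B) * G₀.map (algebraMap R B)
  have hlc : F.coeff r = 1 := by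
    simp only [F, coeff_C_mul, coeff_map, hcoef, IsUnit.val_inv_mul]
  have hFd : F.natDegree ≤ r := (natDegree_C_mul_le _ _).trans (natDegree_map_le.trans hdeg)
  have hm : F.Monic := monic_of_natDegree_le_of_coeff_eq_one r hFd hlc
  have hdF : F.natDegree = r := natDegree_eq_of_le_of_coeff_ne_zero hFd (by rw [hlc]; exact one_ne_zero)
  have hcop : IsCoprime F (derivative F) := by
    have hu : IsUnit (C ((hδB.unit⁻¹ : Bˣ) : B)) := isUnit_C.2 (Units.isUnit _)
    simp only [F, derivative_C_mul]
    refine (isCoprime_mul_unit_left hu _ _).2 ⟨C ((hresB.unit⁻¹ : Bˣ) : B) * u.map (algebraMap R B),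
      C ((hresB.unit⁻¹ : Bˣ) : B) * v.map (algebraMap R B), ?_⟩
    have huv' := congrArg (Polynomial.map (algebraMap R B)) huv
    rw [Polynomial.map_add, Polynomial.map_mul, Polynomial.map_mul, map_C, ← derivative_map] at huv'
    rw [mul_assoc, mul_assoc, ← mul_add, mul_comm (u.map _), mul_comm (v.map _), huv', ← C_mul,
      IsUnit.val_inv_mul, C_1]
  have hFa : aeval aB F = 0 := by
    rw [map_mul, aeval_map_algebraMap, show aB = φ a from rfl, aeval_algHom_apply φ a G₀]
    have h1 : algebraMap R B t • φ (aeval a G₀) = 0 := by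
      rw [algebraMap_smul, ← map_smul, haev, map_zero]
    rw [(IsUnit.smul_eq_zero htB).1 h1, mul_zero]
  have hLB := bijective_lTensor_of_det hgM B hgB hdetB
  have hbB : Function.Bijective (Fintype.linearCombination B
      (fun ij : Fin r × Fin r => ((1 : B) ⊗ₜ[R] b ij.2) * aB ^ (ij.1 : ℕ))) := by
    have e : (fun ij : Fin r × Fin r => ((1 : B) ⊗ₜ[R] b ij.2) * aB ^ (ij.1 : ℕ)) = fun ij => (1 : B) ⊗ₜ[R] M ij :=
      funext fun ij => by
        change φ (b ij.2) * φ a ^ (ij.1 : ℕ) = φ (b ij.2 * a ^ (ij.1 : ℕ))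
        rw [map_mul, map_pow]
    have e2 : ⇑(L.lTensor B) = ⇑(Fintype.linearCombination B fun ij => (1 : B) ⊗ₜ[R] M ij) ∘
        ⇑(TensorProduct.piScalarRight R B B (Fin r × Fin r)) := funext (lTensor_linearCombination B M)
    rw [e, ← Function.Bijective.of_comp_iff _ (TensorProduct.piScalarRight R B B (Fin r × Fin r)).bijective, ← e2]
    exact hLB
  let piB := TensorProduct.piScalarRight R B B (Fin r)
  let SB : B ⊗[R] A →ₗ[B] (Fin r → B) := piB.toLinearMap ∘ₗ S.baseChange B
  have hSB : IsUnit (LinearMap.det (SB ∘ₗ Fintype.linearCombination B (fun i : Fin r => aB ^ (i : ℕ)))) := by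
    have e : SB ∘ₗ Fintype.linearCombination B (fun i : Fin r => aB ^ (i : ℕ)) =
        piB.toLinearMap ∘ₗ (S ∘ₗ G).baseChange B ∘ₗ piB.symm.toLinearMap := by
      refine LinearMap.ext fun w => ?_
      have h1 := lTensor_linearCombination B (fun i : Fin r => a ^ (i : ℕ)) (piB.symm w)
      rw [show (TensorProduct.piScalarRight R B B (Fin r)) (piB.symm w) = w from piB.apply_symm_apply w] at h1
      have e1 : (fun i : Fin r => aB ^ (i : ℕ)) = fun i : Fin r => (1 : B) ⊗ₜ[R] (a ^ (i : ℕ)) :=
        funext fun i => (map_pow φ a (i : ℕ)).symm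
      rw [e1, LinearMap.baseChange_comp]
      simp only [SB, LinearMap.comp_apply, LinearEquiv.coe_toLinearMap]
      rw [← h1]
      rfl
    rw [e, LinearMap.det_conj, LinearMap.det_baseChange]
    exact hδB
  obtain ⟨hfin, het, hff, ⟨ψ⟩⟩ := split_of_data B (B ⊗[R] A) r hr F hm hdF hcop aB hFa
    (fun j => (1 : B) ⊗ₜ[R] b j) hbB SB hSB
  exact ⟨f, hf, AdjoinRoot F, inferInstance, inferInstance, inferInstance, inferInstance, hfin, het, hff,
    r, hr, ⟨(cancelEquiv R A B (AdjoinRoot F)).symm.trans ψ⟩⟩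

end Groth.Agent.S5720
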