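import Groth.Statements.S9392
import Groth.Agent.Calg4.Japanese

set_option autoImplicit false
universe u
open CAlg

namespace Groth.Agent.S9392

/-- A localization of an N-2 (Japanese) domain which is again a domain is N-2. -/
theorem result (R : Type u) [CommRing R] [IsDomain R] (M : Submonoid R)
    (S : Type u) [CommRing S] [IsDomain S] [Algebra R S] [IsLocalization M S]
    (h : CAlg.IsN2 R) : CAlg.IsN2 S := by
  intro L _ _ _ _ hfin
  let : Algebra R L := ((algebraMap S L).comp (algebraMap R S)).toAlgebra
  have : IsScalarTower R S L := IsScalarTower.of_algebraMap_eq fun _ => rfl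
  have : IsScalarTower R (FractionRing S) L := IsScalarTower.of_algebraMap_eq fun r => by
    simp [IsScalarTower.algebraMap_apply R S L, IsScalarTower.algebraMap_apply R S (FractionRing S),
      ← IsScalarTower.algebraMap_apply S (FractionRing S) L]
  have : IsFractionRing R (FractionRing S) := Groth.Calg4.isFractionRing_comp R M S _
  exact Groth.Calg4.finite_ic_of_isLocalization M S _
    (Groth.Calg4.finite_ic_of_isN2 h (FractionRing S) L)

end Groth.Agent.S9392
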