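import Groth.Statements.S9409
import Groth.Agent.Calg4.FieldDescent

set_option autoImplicit false
universe u
open CAlg

namespace Groth.Agent.S9409


open TensorProduct in
theorem key (K k L A : Type u) [Field K] [Field k] [Field L] [CommRing A] [Algebra K k] [Algebra k L]
    [Algebra K L] [IsScalarTower K k L] [Algebra k A] [Algebra K A] [IsScalarTower K k A]
    (L1 : IntermediateField K L) (e : k ⊗[K] L1 ≃ₐ[k] L) (h : IsRegularRing (L1 ⊗[K] A)) :
    IsRegularRing (L ⊗[k] A) :=
  IsRegularRing.of_ringEquiv ((((Algebra.TensorProduct.comm K L1 A).toRingEquiv.trans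
    (Algebra.TensorProduct.cancelBaseChange K k k A L1).toRingEquiv.symm).trans
    (Algebra.TensorProduct.congr (AlgEquiv.refl (R := k) (A₁ := A)) e).toRingEquiv).trans
    (Algebra.TensorProduct.comm k A L).toRingEquiv)

/-- Let k be a field written as a directed union of subfields k_i (given as fields mapping to k whose
images form a directed family covering k) and A a Noetherian k-algebra. Geometric regularity of A
over every one of the k_i implies that A is also geometrically regular as a k-algebra. -/
theorem result (k : Type u) [Field k] {ι : Type u}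
    (K : ι → Type u) [∀ i, Field (K i)] [∀ i, Algebra (K i) k]
    (hdir : ∀ i j, ∃ l, Set.range (algebraMap (K i) k) ⊆ Set.range (algebraMap (K l) k) ∧
      Set.range (algebraMap (K j) k) ⊆ Set.range (algebraMap (K l) k))
    (hcov : ∀ x : k, ∃ i, x ∈ Set.range (algebraMap (K i) k))
    (A : Type u) [CommRing A] [Algebra k A] [IsNoetherianRing A] [∀ i, Algebra (K i) A]
    [∀ i, IsScalarTower (K i) k A] (h : ∀ i, CAlg.IsGeometricallyRegular (K i) A) :
    CAlg.IsGeometricallyRegular k A := by
  classical
  intro L _ _ hfin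
  let b := Module.Free.chooseBasis k L
  have hι : Nonempty ι := ⟨(hcov 0).choose⟩
  have hfs : ∀ s : Finset k, ∃ i, (s : Set k) ⊆ Set.range (algebraMap (K i) k) := by
    intro s
    induction s using Finset.induction_on with
    | empty => exact ⟨hι.some, by simp⟩
    | insert x s _ ih =>
      obtain ⟨i, hi⟩ := ih
      obtain ⟨j, hj⟩ := hcov x
      obtain ⟨l, hil, hjl⟩ := hdir i j
      exact ⟨l, by rw [Finset.coe_insert]; exact Set.insert_subset (hjl hj) (hi.trans hil)⟩
  obtain ⟨i, hi⟩ := hfs ((Finset.univ.image fun x : _ × _ × _ => b.repr (b x.1 * b x.2.1) x.2.2) ∪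
    Finset.univ.image fun l => b.repr 1 l)
  let _ : Algebra (K i) L := ((algebraMap k L).comp (algebraMap (K i) k)).toAlgebra
  have : IsScalarTower (K i) k L := IsScalarTower.of_algebraMap_eq' rfl
  obtain ⟨L1, hL1, ⟨e⟩⟩ := Groth.Calg4.exists_intermediateField_descent (K := K i) b
    (fun a c l => hi (Finset.mem_union_left _ (Finset.mem_image.mpr ⟨(a, c, l), Finset.mem_univ _, rfl⟩)))
    (fun l => hi (Finset.mem_union_right _ (Finset.mem_image.mpr ⟨l, Finset.mem_univ _, rfl⟩)))
  exact key (K i) k L A L1 e (h i L1 hL1)

end Groth.Agent.S9409
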