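import Groth.Statements.S9410
import Groth.Agent.Calg4.RegularProd
import Groth.Agent.S9409
import Groth.Agent.Ega41Sep.Separable

set_option autoImplicit false
universe u
open CAlg

namespace Groth.Agent.S9410

/-- Given a separable algebraic field extension k'/k and a Noetherian k'-algebra A, geometric regularity
of A over k' is equivalent to geometric regularity of A over k. -/
theorem result (k : Type u) [Field k] (k' : Type u)
    [Field k'] [Algebra k k'] [Algebra.IsSeparable k k'] (A : Type u) [CommRing A] [Algebra k' A]
    [Algebra k A] [IsScalarTower k k' A] [IsNoetherianRing A] :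
    CAlg.IsGeometricallyRegular k A ↔ CAlg.IsGeometricallyRegular k' A := by
  constructor
  · intro h L _ _ hfin
    classical
    let b := Module.Free.chooseBasis k' L
    let s : Finset k' := (Finset.univ.image fun x : _ × _ × _ => b.repr (b x.1 * b x.2.1) x.2.2) ∪
      Finset.univ.image fun l => b.repr 1 l
    let k1 : IntermediateField k k' := IntermediateField.adjoin k (↑s : Set k')
    have : FiniteDimensional k k1 :=
      IntermediateField.finiteDimensional_adjoin fun x _ => Algebra.IsIntegral.isIntegral x
    have : Algebra.IsSeparable k k1 := inferInstance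
    have hs : ∀ x ∈ s, x ∈ Set.range (algebraMap k1 k') := fun x hx =>
      ⟨⟨x, IntermediateField.subset_adjoin k _ hx⟩, rfl⟩
    obtain ⟨L1, hL1, ⟨e⟩⟩ := Groth.Calg4.exists_intermediateField_descent (K := k1) b
      (fun a c l => hs _ (Finset.mem_union_left _ (Finset.mem_image.mpr ⟨(a, c, l), Finset.mem_univ _, rfl⟩)))
      (fun l => hs _ (Finset.mem_union_right _ (Finset.mem_image.mpr ⟨l, Finset.mem_univ _, rfl⟩)))
    let _ : Algebra k L1 := ((algebraMap k1 L1).comp (algebraMap k k1)).toAlgebra
    have : IsScalarTower k k1 L1 := IsScalarTower.of_algebraMap_eq' rfl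
    have : IsRegularRing (TensorProduct k L1 A) := h L1 (Module.Finite.trans k1 L1)
    exact Groth.Agent.S9409.key k1 k' L A L1 e
      (Groth.Calg4.isRegularRing_tensor_of_separable k k1 L1 A)
  · intro h L _ _ hfin
    let F := TensorProduct k k' L
    have : Algebra.FormallyEtale k k' := Algebra.FormallyEtale.of_isSeparable k k'
    have : Algebra.IsGeometricallyReduced k k' :=
      (Groth.Ega41Sep.formallySmooth_iff_isGeometricallyReduced k k').mp inferInstance
    have : IsReduced F := isReduced_of_injective
      (Algebra.TensorProduct.comm k k' L).toRingHom (Algebra.TensorProduct.comm k k' L).injective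
    have : IsArtinianRing F := IsArtinianRing.of_finite k' F
    have : Fintype (MaximalSpectrum F) := Fintype.ofFinite _
    let π := (IsArtinianRing.equivPi F).restrictScalars k'
    classical
    let E : TensorProduct k' A F ≃ₐ[k'] ((I : MaximalSpectrum F) → TensorProduct k' A (F ⧸ I.asIdeal)) :=
      (Algebra.TensorProduct.congr AlgEquiv.refl π).trans
        (Algebra.TensorProduct.piRight k' k' A fun I : MaximalSpectrum F => F ⧸ I.asIdeal)
    have : ∀ I : MaximalSpectrum F, IsRegularRing (TensorProduct k' A (F ⧸ I.asIdeal)) := fun I => by
      let _ : Field (F ⧸ I.asIdeal) := Ideal.Quotient.field _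
      have := h (F ⧸ I.asIdeal) inferInstance
      exact IsRegularRing.of_ringEquiv
        (Algebra.TensorProduct.comm k' (F ⧸ I.asIdeal) A).toRingEquiv
    have := Groth.Calg4.isRegularRing_pi fun I : MaximalSpectrum F => TensorProduct k' A (F ⧸ I.asIdeal)
    have : IsRegularRing (TensorProduct k' A F) := IsRegularRing.of_ringEquiv (R := (I : MaximalSpectrum F) → TensorProduct k' A (F ⧸ I.asIdeal)) E.toRingEquiv.symm
    exact IsRegularRing.of_ringEquiv ((Algebra.TensorProduct.cancelBaseChange k k' k' A L).toRingEquiv.trans
      (Algebra.TensorProduct.comm k A L).toRingEquiv)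

end Groth.Agent.S9410
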