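import Groth.Statements.S6361
import Mathlib
import Groth.Agent.Calg2.ML

set_option autoImplicit false
universe u
open CAlg

namespace Groth.Agent.S6361
open scoped TensorProduct

/-- A finitely presented module with a map to `M`. -/
structure Stage (R : Type u) [CommRing R] (M : Type u) [AddCommGroup M] [Module R M] where
  Q : Type u
  [acg : AddCommGroup Q]
  [mdl : Module R Q]
  [fp : Module.FinitePresentation R Q]
  b : Q →ₗ[R] M

instance {R : Type u} [CommRing R] {M : Type u} [AddCommGroup M] [Module R M] (S : Stage R M) :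
    AddCommGroup S.Q := S.acg
instance {R : Type u} [CommRing R] {M : Type u} [AddCommGroup M] [Module R M] (S : Stage R M) :
    Module R S.Q := S.mdl
instance {R : Type u} [CommRing R] {M : Type u} [AddCommGroup M] [Module R M] (S : Stage R M) :
    Module.FinitePresentation R S.Q := S.fp


/-- Let M be a Mittag-Leffler, countably generated module over a commutative ring R, and f : P → M a
linear map with P finitely generated. Then there is an endomorphism a of M which factors through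
some finitely presented module and satisfies a ∘ f = f. -/
theorem result (R : Type u)
    [CommRing R] (M : Type u) [AddCommGroup M] [Module R M] (hML : CAlg.IsMittagLeffler R M)
    (hc : CAlg.IsCountablyGenerated R M) {P : Type u} [AddCommGroup P] [Module R P] [Module.Finite R P]
    (f : P →ₗ[R] M) :
    ∃ (Q : Type u) (_ : AddCommGroup Q) (_ : Module R Q) (_ : Module.FinitePresentation R Q)
      (b : M →ₗ[R] Q) (c : Q →ₗ[R] M), (c ∘ₗ b) ∘ₗ f = f := by
  obtain ⟨s, hsc, hs⟩ := hc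
  obtain ⟨m, hm⟩ := (Set.Countable.insert (0 : M) hsc).exists_eq_range ⟨0, Set.mem_insert _ _⟩
  obtain ⟨n, p, hp⟩ := Module.Finite.exists_fin' R P
  have step : ∀ (k : ℕ) (S : Stage R M), ∃ (S' : Stage R M) (a : S.Q →ₗ[R] S'.Q),
      S'.b ∘ₗ a = S.b ∧ m k ∈ LinearMap.range S'.b ∧
        ∀ (N : Type u) [AddCommGroup N] [Module R N], LinearMap.ker (S.b.rTensor N) = LinearMap.ker (a.rTensor N) := by
    intro k S
    obtain ⟨Q', i1, i2, i3, a, b, hab, hker⟩ :=
      Groth.Calg2.dominated_of_isMittagLeffler hML (S.b.coprod (LinearMap.toSpanSingleton R M (m k)))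
    refine ⟨{ Q := Q', b := b }, a ∘ₗ LinearMap.inl R S.Q R, ?_, ⟨a (0, 1), ?_⟩, fun N _ _ => ?_⟩
    · rw [← LinearMap.comp_assoc, hab, LinearMap.coprod_inl]
    · rw [← LinearMap.comp_apply, hab]; simp
    · conv_lhs => rw [← LinearMap.coprod_inl S.b (LinearMap.toSpanSingleton R M (m k))]
      ext z
      rw [LinearMap.mem_ker, LinearMap.mem_ker, LinearMap.rTensor_comp_apply, LinearMap.rTensor_comp_apply]
      exact SetLike.ext_iff.1 (hker N) _
  choose next a hb hmem hker using step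
  let S₀ : Stage R M := { Q := Fin n → R, b := f ∘ₗ p }
  let S : ℕ → Stage R M := fun k => Nat.rec (motive := fun _ => Stage R M) S₀ next k
  let A : ∀ k, (S k).Q →ₗ[R] (S (k+1)).Q := fun k => a k (S k)
  have hA : ∀ k, (S (k+1)).b ∘ₗ A k = (S k).b := fun k => hb k (S k)
  have hφ : ∀ k, ∃ φ : (S (k+1+1)).Q →ₗ[R] (S (k+1)).Q, φ ∘ₗ (A (k+1) ∘ₗ A k) = A k := by
    intro k
    refine Groth.Calg2.exists_factor_of_ker_rTensor_le _ _ ?_
    intro N _ _ z hz
    rw [← hker k (S k) N, LinearMap.mem_ker]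
    rw [LinearMap.mem_ker] at hz
    have : (S k).b = (S (k+1+1)).b ∘ₗ (A (k+1) ∘ₗ A k) := by
      rw [← LinearMap.comp_assoc, hA, hA]
    rw [this, LinearMap.rTensor_comp_apply, hz, map_zero]
  choose φ hφ using hφ
  let c : ∀ k, (S (k+1)).Q →ₗ[R] (S 1).Q :=
    fun k => Nat.rec (motive := fun k => (S (k+1)).Q →ₗ[R] (S 1).Q) LinearMap.id (fun k ck => ck ∘ₗ φ k) k
  let G : ℕ → Submodule R (M × (S 1).Q) := fun k => LinearMap.range ((S k).b.prod (c k ∘ₗ A k))
  have hd : ∀ k, c (k+1) ∘ₗ A (k+1) ∘ₗ A k = c k ∘ₗ A k := fun k => by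
    show (c k ∘ₗ φ k) ∘ₗ _ = _
    rw [LinearMap.comp_assoc, hφ]
  have hG : Monotone G := monotone_nat_of_le_succ fun k => by
    rintro _ ⟨x, rfl⟩
    refine ⟨A k x, Prod.ext ?_ ?_⟩
    · exact LinearMap.congr_fun (hA k) x
    · exact LinearMap.congr_fun (hd k) x
  have huniq : ∀ y, ((0 : M), y) ∈ ⨆ k, G k → y = 0 := by
    intro y hy
    obtain ⟨k, x, hx⟩ := (Submodule.mem_iSup_of_directed _ hG.directed_le).1 hy
    simp only [LinearMap.prod_apply, Function.prod, Prod.mk.injEq] at hx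
    have : A k x = 0 := by
      have h1 : x ⊗ₜ[R] (1 : R) ∈ LinearMap.ker ((S k).b.rTensor R) := by simp [hx.1]
      rw [hker k (S k) R, LinearMap.mem_ker] at h1
      simpa [A] using congrArg (TensorProduct.rid R _) h1
    rw [← hx.2, LinearMap.comp_apply, this, map_zero]
  have hex : ∀ x : M, ∃ y, (x, y) ∈ ⨆ k, G k := by
    intro x
    have : (⊤ : Submodule R M) ≤ (⨆ k, G k).map (LinearMap.fst R M (S 1).Q) := by
      rw [← hs, Submodule.span_le]
      intro z hz
      obtain ⟨k, rfl⟩ := hm ▸ Set.mem_insert_of_mem (0 : M) hz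
      obtain ⟨q, hq⟩ := hmem k (S k)
      exact ⟨_, Submodule.mem_iSup_of_mem (k+1) ⟨q, rfl⟩, hq⟩
    obtain ⟨⟨x', y⟩, hy, rfl⟩ := this (Submodule.mem_top (x := x))
    exact ⟨y, hy⟩
  choose β hβ using hex
  have hβ' : ∀ x y, (x, y) ∈ ⨆ k, G k → β x = y := fun x y hy =>
    sub_eq_zero.1 (huniq _ (by simpa using Submodule.sub_mem _ (hβ x) hy))
  let B : M →ₗ[R] (S 1).Q :=
    { toFun := β
      map_add' := fun x y => hβ' _ _ (Submodule.add_mem _ (hβ x) (hβ y))
      map_smul' := fun r x => hβ' _ _ (Submodule.smul_mem _ r (hβ x)) }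
  refine ⟨(S 1).Q, inferInstance, inferInstance, inferInstance, B, (S 1).b, ?_⟩
  ext z
  obtain ⟨v, rfl⟩ := hp z
  have : B (f (p v)) = A 0 v := hβ' _ _ (Submodule.mem_iSup_of_mem 0 ⟨v, rfl⟩)
  simp only [LinearMap.comp_apply, this]
  exact LinearMap.congr_fun (hA 0) v

end Groth.Agent.S6361
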