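import Groth.Statements.S6820
import Mathlib.Algebra.Module.Torsion.Basic
import Mathlib.RingTheory.Noetherian.Basic
import Mathlib.Algebra.Module.LocalizedModule.Basic


set_option autoImplicit false
universe u
open Smoothing

namespace Groth.Agent.S6820

/-- Let A be a Noetherian ring, M a finite A-module, S a multiplicative subset of A and π an element of
A such that on the localised module S⁻¹M the kernels of multiplication by π and by π² agree. Then
there is an element s of S such that for every n > 0 the kernels of multiplication by sⁿπ and by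
(sⁿπ)² on M agree. (Kernel equalities are written as implications, the reverse inclusions being
automatic.) -/
theorem result {A : Type u} [CommRing A] [IsNoetherianRing A]
    (M : Type u) [AddCommGroup M] [Module A M] [Module.Finite A M] (S : Submonoid A) (π : A)
    (h : ∀ m : LocalizedModule S M, π ^ 2 • m = 0 → π • m = 0) :
    ∃ s ∈ S, ∀ n : ℕ, 0 < n → ∀ m : M, (s ^ n * π) ^ 2 • m = 0 → (s ^ n * π) • m = 0 := by
  classical
  have : IsNoetherian A M := isNoetherian_of_isNoetherianRing_of_finite A M
  let K : Submodule A M := Submodule.torsionBy A M (π ^ 2)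
  obtain ⟨k, g, hg⟩ := Submodule.fg_iff_exists_fin_generating_family.1 (IsNoetherian.noetherian K)
  have hkill : ∀ i, ∃ t : S, (t : A) • π • g i = 0 := by
    intro i
    have h1 : π ^ 2 • g i = 0 := (Submodule.mem_torsionBy_iff _ _).1 (hg ▸ Submodule.subset_span ⟨i, rfl⟩ : g i ∈ K)
    have h2 := h (LocalizedModule.mkLinearMap S M (g i)) (by rw [← map_smul, h1, map_zero])
    rw [← map_smul] at h2
    exact (IsLocalizedModule.eq_zero_iff S (LocalizedModule.mkLinearMap S M)).1 h2
  choose t ht using hkill
  let s₀ : A := ∏ i, (t i : A)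
  have hs₀ : s₀ ∈ S := Submonoid.prod_mem _ fun i _ => (t i).2
  have hK : ∀ x ∈ K, s₀ • π • x = 0 := by
    intro x hx
    rw [← hg] at hx
    induction hx using Submodule.span_induction with
    | mem x hx =>
      obtain ⟨i, rfl⟩ := hx
      rw [show s₀ = (∏ j ∈ Finset.univ.erase i, (t j : A)) * (t i : A) from
        (Finset.prod_erase_mul _ _ (Finset.mem_univ i)).symm, mul_smul, ht, smul_zero]
    | zero => simp
    | add x y _ _ hx hy => simp [smul_add, hx, hy]
    | smul r x _ hx => rw [smul_comm π r, smul_comm s₀ r, hx, smul_zero]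
  let F : ℕ →o Submodule A M := ⟨fun j => Submodule.torsionBy A M (s₀ ^ j), fun i j hij x hx => by
    simp only [Submodule.mem_torsionBy_iff] at hx ⊢
    obtain ⟨d, rfl⟩ := Nat.exists_eq_add_of_le hij
    rw [add_comm, pow_add, mul_smul, hx, smul_zero]⟩
  obtain ⟨N, hN⟩ := monotone_stabilizes_iff_noetherian.2 inferInstance F
  refine ⟨s₀ ^ (N + 1), S.pow_mem hs₀ _, fun n hn m hm => ?_⟩
  have h1 : ((s₀ ^ (N + 1)) ^ n) ^ 2 • m ∈ K := by
    rw [Submodule.mem_torsionBy_iff, smul_smul, mul_comm, ← mul_pow]
    exact hm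
  have h2 := hK _ h1
  rw [smul_smul π, mul_comm π, mul_smul, smul_smul s₀, ← pow_mul, ← pow_mul, ← pow_succ'] at h2
  have h3 : π • m ∈ F N := by
    rw [hN ((N + 1) * (n * 2) + 1) (by
      have := Nat.mul_le_mul_left (N + 1) (by omega : 1 ≤ n * 2)
      omega)]
    exact (Submodule.mem_torsionBy_iff _ _).2 h2
  have h4 : N ≤ (N + 1) * n := by
    have := Nat.mul_le_mul_left (N + 1) (by omega : 1 ≤ n)
    omega
  have h5 := (Submodule.mem_torsionBy_iff _ _).1 (F.mono h4 h3)
  rw [mul_smul, ← pow_mul]; exact h5

end Groth.Agent.S6820
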