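import Groth.Statements.S7153
import Mathlib

set_option autoImplicit false
universe u
open CAlg

namespace Groth.Agent.S7153

/-- Let A be a Noetherian ring, I an ideal and K → L → M a complex of finite A-modules with maps α, β
and homology H = Ker β / Im α; for n ≥ 0 let H_n be the homology of the induced complex K/IⁿK →
L/IⁿL → M/IⁿM, which is β⁻¹(IⁿM)/(Im α + IⁿL). Then there is c > 0 such that for every n: (i) the
image of H_(n+c) → H_n is contained in, hence equal to, the image of H → H_n; (ii) the kernel and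
the cokernel of H/IⁿH → H_n are annihilated by I^c. Everything is phrased with representatives in L. -/
theorem result (A : Type u) [CommRing A] [IsNoetherianRing A] (I : Ideal A)
    (K L M : Type u) [AddCommGroup K] [Module A K] [Module.Finite A K] [AddCommGroup L] [Module A L]
    [Module.Finite A L] [AddCommGroup M] [Module A M] [Module.Finite A M]
    (α : K →ₗ[A] L) (β : L →ₗ[A] M) (hαβ : β ∘ₗ α = 0) :
    ∃ c : ℕ, 0 < c ∧ ∀ n : ℕ,
      (∀ y ∈ (I ^ (n + c) • ⊤ : Submodule A M).comap β,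
        ∃ z ∈ LinearMap.ker β, y - z ∈ LinearMap.range α ⊔ (I ^ n • ⊤ : Submodule A L)) ∧
      (∀ z ∈ LinearMap.ker β, z ∈ LinearMap.range α ⊔ (I ^ n • ⊤ : Submodule A L) →
        ∀ a ∈ I ^ c, a • z ∈ LinearMap.range α ⊔ I ^ n • LinearMap.ker β) ∧
      (∀ y ∈ (I ^ n • ⊤ : Submodule A M).comap β, ∀ a ∈ I ^ c,
        ∃ z ∈ LinearMap.ker β, a • y - z ∈ LinearMap.range α ⊔ (I ^ n • ⊤ : Submodule A L)) := by
  obtain ⟨c₁, hc₁⟩ := I.exists_pow_inf_eq_pow_smul (LinearMap.range β)
  obtain ⟨c₂, hc₂⟩ := I.exists_pow_inf_eq_pow_smul (LinearMap.ker β)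
  have h1 : ∀ n, ∀ y, β y ∈ I ^ (n + (c₁ + c₂ + 1)) • (⊤ : Submodule A M) →
      ∃ z ∈ LinearMap.ker β, y - z ∈ LinearMap.range α ⊔ (I ^ n • ⊤ : Submodule A L) := by
    intro n y hy
    have h : β y ∈ I ^ (n + (c₁ + c₂ + 1)) • (⊤ : Submodule A M) ⊓ LinearMap.range β := ⟨hy, y, rfl⟩
    rw [hc₁ _ (by omega)] at h
    replace h := Submodule.smul_mono (Ideal.pow_le_pow_right (by omega : n ≤ n + (c₁ + c₂ + 1) - c₁)) inf_le_right h
    rw [← Submodule.map_top, ← Submodule.map_smul''] at h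
    obtain ⟨w, hw, hwy⟩ := h
    exact ⟨y - w, by simp [hwy], by simpa using Submodule.mem_sup_right hw⟩
  refine ⟨c₁ + c₂ + 1, by omega, fun n => ⟨fun y hy => h1 n y hy, ?_, ?_⟩⟩
  · intro z hz hmem a ha
    obtain ⟨_, ⟨x, rfl⟩, l, hl, rfl⟩ := Submodule.mem_sup.1 hmem
    have hl' : l ∈ LinearMap.ker β := by
      simpa [← LinearMap.comp_apply, hαβ] using hz
    rw [smul_add]
    refine Submodule.add_mem_sup (Submodule.smul_mem _ _ ⟨x, rfl⟩) ?_
    by_cases hn : c₂ ≤ n
    · have h : l ∈ I ^ n • (⊤ : Submodule A L) ⊓ LinearMap.ker β := ⟨hl, hl'⟩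
      rw [hc₂ n hn] at h
      replace h := Submodule.smul_mono le_rfl inf_le_right h
      have h2 := Submodule.smul_mem_smul ha h
      rw [← mul_smul, ← pow_add] at h2
      exact Submodule.smul_mono_left (Ideal.pow_le_pow_right (by omega)) h2
    · exact Submodule.smul_mem_smul (Ideal.pow_le_pow_right (by omega) ha) hl'
  · intro y hy a ha
    refine h1 n (a • y) ?_
    rw [map_smul, add_comm, pow_add, mul_smul]
    exact Submodule.smul_mem_smul ha hy

end Groth.Agent.S7153
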