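import Groth.Statements.S1191
import Mathlib

set_option autoImplicit false
universe u
open FlatMor

namespace Groth.Agent.S1191

open TensorProduct in
/-- For a finitely presented algebra S over R, a finitely presented S-module N and a prime q of S over
p, some element of S outside q maps into every associated prime of the fibre module of N over p that
is not contained in the extension of q to the fibre ring. -/
theorem result {R S : Type u} [CommRing R] [CommRing S] [Algebra R S] [Algebra.FinitePresentation R S]
    (N : Type u) [AddCommGroup N] [Module S N] [Module R N] [IsScalarTower R S N] [Module.FinitePresentation S N]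
    (p : Ideal R) [p.IsPrime] (q : Ideal S) [q.IsPrime] [q.LiesOver p] :
    ∃ g : S, g ∉ q ∧ ∀ r ∈ associatedPrimes (p.Fiber S) (FlatCA.fiberMod p S N),
      ¬ r ≤ FlatCA.fiberIdeal p q → (1 : p.ResidueField) ⊗ₜ[R] g ∈ r := by
  classical
  letI : Algebra S (p.Fiber S) := Algebra.TensorProduct.rightAlgebra
  have : IsNoetherianRing (p.Fiber S) := Algebra.FiniteType.isNoetherianRing p.ResidueField _
  have : Module.Finite (p.Fiber S) (FlatCA.fiberMod p S N) :=
    inferInstanceAs (Module.Finite (p.Fiber S) (p.Fiber S ⊗[S] N))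
  have hfin := associatedPrimes.finite (p.Fiber S) (FlatCA.fiberMod p S N)
  -- for each offending associated prime, an element of S
  have hex : ∀ r : Ideal (p.Fiber S), ∃ g : S, g ∉ q ∧
      (¬ r ≤ FlatCA.fiberIdeal p q → (1 : p.ResidueField) ⊗ₜ[R] g ∈ r) := by
    intro r
    by_cases hr : r ≤ FlatCA.fiberIdeal p q
    · exact ⟨1, q.one_notMem, fun h => absurd hr h⟩
    obtain ⟨z, hzr, hzq⟩ := SetLike.not_le_iff_exists.mp hr
    obtain ⟨a, ha, s, hs⟩ := Ideal.Fiber.exists_smul_eq_one_tmul p z
    refine ⟨s, fun hsq => hzq ?_, fun _ => ?_⟩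
    · have hu : IsUnit (algebraMap R (p.Fiber S) a) := by
        rw [IsScalarTower.algebraMap_apply R p.ResidueField (p.Fiber S)]
        refine (IsUnit.mk0 _ ?_).map _
        rwa [ne_eq, Ideal.algebraMap_residueField_eq_zero]
      have : algebraMap R (p.Fiber S) a * z ∈ FlatCA.fiberIdeal p q := by
        rw [← Algebra.smul_def, hs]
        exact Ideal.mem_map_of_mem _ hsq
      exact (Ideal.unit_mul_mem_iff_mem _ hu).mp this
    · rw [← hs, Algebra.smul_def]
      exact r.mul_mem_left _ hzr
  choose g hgq hg using hex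
  refine ⟨∏ r ∈ hfin.toFinset, g r, ?_, fun r hr hnle => ?_⟩
  · exact fun h => by
      obtain ⟨r, _, hr⟩ := (Ideal.IsPrime.prod_mem_iff).mp h
      exact hgq r hr
  · rw [← Finset.mul_prod_erase _ _ (hfin.mem_toFinset.mpr hr),
      show (1 : p.ResidueField) ⊗ₜ[R] (g r * ∏ x ∈ hfin.toFinset.erase r, g x) =
        ((1 : p.ResidueField) ⊗ₜ[R] g r) * ((1 : p.ResidueField) ⊗ₜ[R] ∏ x ∈ hfin.toFinset.erase r, g x) by
        rw [Algebra.TensorProduct.tmul_mul_tmul, one_mul]]
    exact r.mul_mem_right _ (hg r hnle)

end Groth.Agent.S1191
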