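import Groth.Statements.S4611
-- import your own Groth.Agent.* helpers here

set_option autoImplicit false
universe u
open EGA41

namespace Groth.Agent.S4611

/-- A local algebra essentially of finite type over a ring A is A-isomorphic to a quotient of a
localization A[T_1, …, T_n]_q of a polynomial algebra at a prime ideal q; stated as the existence of
a surjective A-algebra map from such a localization. -/
theorem result {A B : Type u} [CommRing A]
    [CommRing B] [IsLocalRing B] [Algebra A B] [Algebra.EssFiniteType A B] :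
    ∃ (n : ℕ) (q : Ideal (MvPolynomial (Fin n) A)) (_ : q.IsPrime)
      (φ : Localization.AtPrime q →ₐ[A] B), Function.Surjective φ := by
  obtain ⟨S, M, hS, h⟩ := (Algebra.essFiniteType_iff_exists_subalgebra A B).mp ‹Algebra.EssFiniteType A B›
  obtain ⟨n, ψ, hψ⟩ := Algebra.FiniteType.iff_quotient_mvPolynomial''.mp hS
  let φ := (Subalgebra.val S).comp ψ
  let q := (IsLocalRing.maximalIdeal B).comap φ
  have hu : ∀ y : q.primeCompl, IsUnit (φ y) := fun y => IsLocalRing.notMem_maximalIdeal.mp y.2
  refine ⟨n, q, inferInstance, IsLocalization.liftAlgHom (M := q.primeCompl) hu, fun b => ?_⟩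
  obtain ⟨⟨s, t⟩, hst⟩ := IsLocalization.surj M b
  obtain ⟨t, ht⟩ := t
  have ht' : IsUnit (algebraMap S B t) := IsLocalization.map_units B (⟨t, ht⟩ : M)
  obtain ⟨x, rfl⟩ := hψ s
  obtain ⟨y, rfl⟩ := hψ t
  refine ⟨IsLocalization.mk' _ x (⟨y, ?_⟩ : q.primeCompl), ?_⟩
  · exact IsLocalRing.notMem_maximalIdeal.mpr ht'
  · rw [IsLocalization.liftAlgHom_apply, IsLocalization.lift_mk'_spec]
    simpa [φ, mul_comm] using hst.symm

end Groth.Agent.S4611
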