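import Groth.Statements.S6312
import Mathlib

set_option autoImplicit false
universe u
open CAlg

namespace Groth.Agent.S6312

/-- Let R be a ring, M an R-module and S ⊆ R a multiplicative subset. Then length_{S⁻¹R}(S⁻¹M) ≤
length_R(M). -/
theorem result {R : Type u} [CommRing R] (S : Submonoid R) (M : Type u) [AddCommGroup M] [Module R M] : Module.length (Localization S) (LocalizedModule S M) ≤ Module.length R M := by
  let F := LocalizedModule.mkLinearMap S M
  have key : ∀ (N : Submodule (Localization S) (LocalizedModule S M)) (m : M) (s : S),
      LocalizedModule.mk m s ∈ N ↔ F m ∈ N := by
    intro N m s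
    have h1 : LocalizedModule.mk m s = Localization.mk (1 : R) s • F m := by
      simp [F, LocalizedModule.mkLinearMap_apply, LocalizedModule.mk_smul_mk]
    have h2 : F m = (s : R) • LocalizedModule.mk m s := by
      simp only [F, LocalizedModule.mkLinearMap_apply, LocalizedModule.smul'_mk]
      exact (LocalizedModule.mk_cancel s m).symm
    constructor
    · intro h; rw [h2]; exact N.smul_of_tower_mem _ h
    · intro h; rw [h1]; exact N.smul_mem _ h
  have hinj : Function.Injective fun N : Submodule (Localization S) (LocalizedModule S M) =>
      (N.restrictScalars R).comap F := by
    intro N N' h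
    ext x
    induction x using LocalizedModule.induction_on with
    | h m s => rw [key, key]; exact SetLike.ext_iff.1 h m
  have hmono : StrictMono fun N : Submodule (Localization S) (LocalizedModule S M) =>
      (N.restrictScalars R).comap F :=
    Monotone.strictMono_of_injective (fun N N' h => Submodule.comap_mono h) hinj
  rw [← WithBot.coe_le_coe, Module.coe_length, Module.coe_length]
  exact Order.krullDim_le_of_strictMono _ hmono

end Groth.Agent.S6312
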