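import Groth.Statements.S2141
import Groth.Agent.FibreDim.BaseChange

set_option autoImplicit false
universe u
open CAlg

namespace Groth.Agent.S2141

/-- Let `S` be of finite type over a field `k` and `𝔭` a prime of `S` whose residue field has
transcendence degree `r` over `k`. Then the local dimension of `Spec S` at `𝔭` equals `dim S_𝔭 + r`. -/
theorem result {k S : Type u} [Field k] [CommRing S] [Algebra k S] [Algebra.FiniteType k S]
    (p : Ideal S) [p.IsPrime] (r : ℕ) (hr : Algebra.trdeg k p.ResidueField = r) :
    FlatMor.localDim (PrimeSpectrum S) ⟨p, inferInstance⟩ = ringKrullDim (Localization.AtPrime p) + (r : WithBot ℕ∞) := by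
  open AlgebraicGeometry CategoryTheory TopologicalSpace in
    let str := Spec.map (CommRingCat.ofHom (algebraMap k S))
    have hstr : LocallyOfFiniteType str := (HasRingHomProperty.Spec_iff (P := @LocallyOfFiniteType)).mpr
      (RingHom.finiteType_algebraMap.mpr ‹_›)
    letI : (Spec (CommRingCat.of S)).Over (Spec (CommRingCat.of k)) := ⟨str⟩
    haveI : LocallyOfFiniteType ((Spec (CommRingCat.of S)) ↘ Spec (CommRingCat.of k)) := hstr
    have h := Groth.VarietyBC.localDim_eq_height_add k (X := Spec (CommRingCat.of S)) ⟨p, inferInstance⟩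
    refine h.trans ?_
    rw [Groth.FibreDim.height_spec_eq (⟨p, inferInstance⟩ : PrimeSpectrum S), add_comm]
    congr 1
    · exact ringKrullDim_eq_of_ringEquiv (StructureSheaf.stalkIso S ⟨p, inferInstance⟩).toRingEquiv.symm
    · obtain ⟨n, hn, hd, -⟩ := Groth.Variety2.Dim.exists_dim (k := k) (A := S ⧸ p)
      have e := ((FractionRing.algEquiv (S ⧸ p) p.ResidueField).restrictScalars k).trdeg_eq
      rw [hn, hr, Nat.cast_inj] at e
      rw [show ringKrullDim (S ⧸ p) = (n : WithBot ℕ∞) from hd, e]

end Groth.Agent.S2141
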