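import Groth.Statements.S5765
import Mathlib.RingTheory.Localization.AtPrime.Basic
import Mathlib.RingTheory.Support
import Mathlib.RingTheory.KrullDimension.Module
import Mathlib.Order.KrullDimension

set_option autoImplicit false
universe u
open EGA41

namespace Groth.Agent.S5765

/-- Let A be a ring, M a finitely generated A-module and p a prime ideal of A. Then dim_{A_p}(M_p) +
dim_A(M/pM) ≤ dim_A(M). -/
theorem result (A : Type u) [CommRing A] (M : Type u)
    [AddCommGroup M] [Module A M] [Module.Finite A M] (p : Ideal A) [p.IsPrime] :
    Module.supportDim (Localization.AtPrime p) (LocalizedModule p.primeCompl M) +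
        Module.supportDim A (M ⧸ (p • (⊤ : Submodule A M))) ≤ Module.supportDim A M := by
  by_cases hp : (⟨p, inferInstance⟩ : PrimeSpectrum A) ∈ Module.support A M
  swap
  · have : Subsingleton (LocalizedModule p.primeCompl M) := Module.notMem_support_iff.mp hp
    rw [Module.supportDim_eq_bot_of_subsingleton, WithBot.bot_add]
    exact bot_le
  let P : Module.support A M := ⟨⟨p, inferInstance⟩, hp⟩
  have hpann : Module.annihilator A M ≤ p := Module.annihilator_le_of_mem_support hp
  have h1 : Module.supportDim (Localization.AtPrime p) (LocalizedModule p.primeCompl M) ≤ (Order.height P : WithBot ℕ∞) := by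
    rw [Module.supportDim, Order.krullDim_eq_iSup_height]
    refine iSup_le fun q => WithBot.coe_le_coe.mpr ?_
    have hmem : ∀ q : Module.support (Localization.AtPrime p) (LocalizedModule p.primeCompl M),
        PrimeSpectrum.comap (algebraMap A _) q.1 ∈ Module.support A M := by
      intro q
      rw [Module.mem_support_iff_of_finite]
      intro r hr
      refine Module.annihilator_le_of_mem_support q.2 (Module.mem_annihilator.2 fun y => ?_)
      induction y using LocalizedModule.induction_on with
      | h m s => rw [algebraMap_smul, LocalizedModule.smul'_mk, Module.mem_annihilator.1 hr, LocalizedModule.zero_mk]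
    let f : Module.support (Localization.AtPrime p) (LocalizedModule p.primeCompl M) → Module.support A M :=
      fun q => ⟨_, hmem q⟩
    have hf : StrictMono f := fun a b hab => by
      have hinj := PrimeSpectrum.localization_comap_injective (R := A) (Localization.AtPrime p) p.primeCompl
      exact lt_of_le_of_ne (Ideal.comap_mono hab.le) fun h => hab.ne (Subtype.ext (hinj (congrArg Subtype.val h)))
    refine (Order.height_le_height_apply_of_strictMono f hf q).trans (Order.height_mono ?_)
    show q.1.asIdeal.comap (algebraMap A _) ≤ p
    exact (Ideal.comap_mono (IsLocalRing.le_maximalIdeal q.1.2.ne_top)).trans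
      Localization.AtPrime.under_maximalIdeal.le
  have h2 : Module.supportDim A (M ⧸ (p • (⊤ : Submodule A M))) ≤ (Order.coheight P : WithBot ℕ∞) := by
    rw [Module.supportDim, Order.krullDim_eq_iSup_coheight]
    refine iSup_le fun q => WithBot.coe_le_coe.mpr ?_
    have hq : q.1 ∈ Module.support A M ∩ PrimeSpectrum.zeroLocus (p : Set A) := by
      rw [← Module.support_quotient]; exact q.2
    let f : Module.support A (M ⧸ (p • (⊤ : Submodule A M))) → Module.support A M :=
      fun q => ⟨q.1, Module.support_subset_of_surjective _ (Submodule.mkQ_surjective _) q.2⟩
    exact (Order.coheight_le_coheight_apply_of_strictMono f (fun a b h => h) q).trans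
      (Order.coheight_anti (show P ≤ f q from hq.2))
  refine (add_le_add h1 h2).trans ?_
  have : Nonempty (Module.support A M) := ⟨P⟩
  rw [Module.supportDim, Order.krullDim_eq_iSup_height_add_coheight_of_nonempty, ← WithBot.coe_add,
    WithBot.coe_le_coe]
  exact le_iSup_of_le P le_rfl

end Groth.Agent.S5765
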