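import Groth.Statements.S4700
import Groth.Agent.Ega4Algebra1.RegularDescent
import Groth.Agent.Ega4Algebra1.RegOpen

set_option autoImplicit false
universe u
open EGA4

namespace Groth.Agent.S4700

/-- Let A be a Noetherian ring. Suppose that for every prime p of A such that A_p is regular, the
regular locus of the domain A/p contains a nonempty open subset of Spec(A/p) (equivalently, is a
neighbourhood of the generic point). Then the regular locus of A is open in Spec A. -/
theorem result (A : Type u) [CommRing A] [IsNoetherianRing A]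
    (h : ∀ p : PrimeSpectrum A, p ∈ EGA4.regLocus A →
      ∃ U : Set (PrimeSpectrum (A ⧸ p.asIdeal)), IsOpen U ∧ U.Nonempty ∧ U ⊆ EGA4.regLocus (A ⧸ p.asIdeal)) :
    IsOpen (EGA4.regLocus A) := by
  refine Groth.Ega4Algebra1.isOpen_of_nagata (fun p q hpq hq => ?_) fun p hp => ?_
  · exact Groth.Ega4Algebra1.isRegularLocalRing_of_le hpq hq
  have : IsRegularLocalRing (Localization.AtPrime p.asIdeal) := hp
  obtain ⟨f, hf, hfreg⟩ := Groth.Ega4Algebra1.exists_regular_of_regular_quotient p.asIdeal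
  obtain ⟨U, hU, ⟨u, hu⟩, hUreg⟩ := h p hp
  obtain ⟨_, ⟨g, rfl⟩, hug, hgU⟩ :=
    PrimeSpectrum.isTopologicalBasis_basic_opens.exists_subset_of_mem_open hu hU
  obtain ⟨g, rfl⟩ := Ideal.Quotient.mk_surjective g
  have hg : g ∉ p.asIdeal := fun hmem => hug (by
    rw [Ideal.Quotient.eq_zero_iff_mem.mpr hmem]; exact zero_mem _)
  refine ⟨f * g, fun hmem => (p.isPrime.mem_or_mem hmem).elim hf hg, fun q hpq hfg => ?_⟩
  let q' : PrimeSpectrum (A ⧸ p.asIdeal) := ⟨q.asIdeal.map (Ideal.Quotient.mk _),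
    Ideal.map_isPrime_of_surjective Ideal.Quotient.mk_surjective (by rw [Ideal.mk_ker]; exact hpq)⟩
  have hq' : PrimeSpectrum.comap (Ideal.Quotient.mk p.asIdeal) q' = q := PrimeSpectrum.ext (by
    rw [PrimeSpectrum.comap_asIdeal, Ideal.comap_map_of_surjective' _ Ideal.Quotient.mk_surjective, Ideal.mk_ker]
    exact sup_eq_left.mpr hpq)
  refine hfreg q.asIdeal hpq (fun hmem => hfg (q.asIdeal.mul_mem_right g hmem)) q' hq' (hUreg (hgU ?_))
  intro hmem
  exact hfg (q.asIdeal.mul_mem_left f (by
    rw [← hq']; exact hmem))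

end Groth.Agent.S4700
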