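import Groth.Statements.S1867
import Groth.Agent.Cycles.DimFun
import Groth.Agent.FibreDim.DimensionFormulaScheme
import Groth.Agent.FibreDim.RelDim
import Groth.Agent.Variety2.DimScheme
-- import your own Groth.Agent.* helpers here

set_option autoImplicit false
universe u
open CategoryTheory AlgebraicGeometry
open Cyc

namespace Groth.Agent.S1867

/-- Let f : X → Y be a proper morphism of integral schemes with Y locally Noetherian, mapping the
generic point to the generic point with finite extension of function fields, and let ξ be a point of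
Y whose local ring has dimension 1. Then f is finite over some open neighbourhood of ξ. -/
theorem result (X Y : Scheme.{u}) [IsIntegral X] [IsIntegral Y] [IsLocallyNoetherian Y] (f : X ⟶ Y) [IsProper f] (hgen : f (genericPoint X) = genericPoint Y) (hfin : (f.residueFieldMap (genericPoint X)).hom.Finite) (ξ : Y) (hξ : ringKrullDim (Y.presheaf.stalk ξ) = 1) : ∃ V : Y.Opens, ξ ∈ V ∧ IsFinite (f ∣_ V) := by
  classical
  have : IsLocallyNoetherian X := LocallyOfFiniteType.isLocallyNoetherian f
  have : IsDominant f := ⟨dense_iff_closure_eq.mpr (Set.eq_univ_of_univ_subset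
    ((genericPoint_spec Y).def.symm.subset.trans
      (closure_mono (Set.singleton_subset_iff.mpr ⟨_, hgen⟩))))⟩
  have key : ∀ z : f.fiber ξ, Order.height z = 0 := by
    suffices h : ∀ x : X, f x = ξ → Order.height (f.asFiber x) = 0 by
      intro z
      obtain ⟨w, hw, rfl⟩ : ∃ w, f w = ξ ∧ f.fiberι ξ z = w := ⟨_, Groth.FibreDim.apply_fiberι f ξ z, rfl⟩
      have h1 := h _ hw
      suffices ∀ (y : Y) (z' : f.fiber y), f (f.fiberι ξ z) = y →
          f.fiberι y z' = f.fiberι ξ z → Order.height z' = 0 from this ξ z hw rfl
      rintro _ z' rfl hz'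
      rw [(f.fiberι _).isEmbedding.injective (hz'.trans (f.fiberι_asFiber _).symm)]
      exact h1
    intro x hx
    obtain ⟨t, t₀, -, ht, ht₀, -, hle, -⟩ := Groth.FibreDim.exists_dim_formula f x
    have h0 : Groth.Variety2.Dim.relTrdeg f (genericPoint X) = 0 := by
      let := (f.residueFieldMap (genericPoint X)).hom.toAlgebra
      have : Module.Finite (Y.residueField (f (genericPoint X))) (X.residueField (genericPoint X)) := hfin
      exact trdeg_eq_zero
    rw [h0] at ht₀
    obtain rfl : t₀ = 0 := by exact_mod_cast ht₀.symm
    have hne : x ≠ genericPoint X := fun e => by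
      subst e
      rw [hgen] at hx
      have := ringKrullDim_stalk_eq_coheight (genericPoint Y)
      rw [Order.coheight_eq_zero.mpr (Groth.Cycles.isMax_iff.mpr fun z hz =>
        (hz.antisymm (genericPoint_specializes z)).eq)] at this
      subst hx
      rw [hξ] at this
      exact one_ne_zero this
    have hx1 : (1 : WithBot ℕ∞) ≤ ringKrullDim (X.presheaf.stalk x) := by
      rw [ringKrullDim_stalk_eq_coheight, ← WithBot.coe_one, WithBot.coe_le_coe,
        Order.one_le_iff_ne_zero, Ne, Order.coheight_eq_zero]
      exact fun hmax => hne ((Groth.Cycles.isMax_iff.mp hmax _ (genericPoint_specializes x)).symm)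
    rw [hx, hξ, Nat.cast_zero, add_zero] at hle
    have h2 : (1 : WithBot ℕ∞) + t ≤ 1 := le_trans (by gcongr) hle
    rw [ht]
    have h3 : 1 + t ≤ 1 := by exact_mod_cast h2
    exact_mod_cast (show t = 0 by omega)
  have : IsLocallyNoetherian (f.fiber ξ) := LocallyOfFiniteType.isLocallyNoetherian (f.fiberToSpecResidueField ξ)
  have : IsNoetherian (f.fiber ξ) := {}
  have hmax : ∀ z : f.fiber ξ, IsMax z := fun z w hzw => by
    by_contra hn
    have hlt : z < w := lt_of_le_not_ge hzw hn
    exact (Order.height_eq_zero.mp (key w)).not_lt hlt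
  have hfinite : (f ⁻¹' {ξ}).Finite := by
    rw [← f.range_fiberι ξ, ← Set.image_univ]
    exact ((Groth.Cycles.finite_setOf_isMax (X := f.fiber ξ)).subset fun z _ => hmax z).image _
  exact exists_isFinite_morphismRestrict_of_finite_preimage_singleton f ξ hfinite

end Groth.Agent.S1867
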