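import Groth.Statements.S6470
import Groth.Agent.Calg6.ChiFormula
import Groth.Agent.Calg6.StalkSupport
import Groth.Agent.ParaFormal.StalkIdeal
import Groth.Agent.EtaleAlgebra.EtaleCriterion
import Groth.Agent.Variety2.DimScheme
import Groth.Agent.QCohMod.SupportPullback

set_option autoImplicit false
universe u
open CategoryTheory CategoryTheory.Limits AlgebraicGeometry
attribute [local instance] HasDerivedCategory.standard
open IntMult

namespace Groth.Agent.S6470

open scoped TensorProduct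

/-- Over a field, the dimension function is the height. -/
theorem delta_eq_height {K : Type u} [Field K] {X : Scheme.{u}} (f : X ⟶ Spec (CommRingCat.of K))
    [LocallyOfFiniteType f] (δ : X → ℤ) (hδ : Cyc.DeltaCompat f δ (fun _ => 0)) (x : X) :
    ∃ h : ℕ, Order.height x = h ∧ δ x = h := by
  obtain ⟨a, ha, ha'⟩ := Groth.Variety2.Dim.exists_trdegAt_eq_height f x
  obtain ⟨b, hb, hb'⟩ := Groth.Variety2.Dim.exists_trdegAt_eq_height (𝟙 (Spec (CommRingCat.of K))) (f x)
  obtain ⟨m, hm, hm'⟩ := hδ x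
  have h0 : Order.height (f x) = 0 := Order.height_eq_zero.2 fun y _ => by rw [Subsingleton.elim (f x) y]
  rw [h0] at hb'
  obtain rfl : b = 0 := by exact_mod_cast hb'.symm
  have hadd := Groth.Variety2.Dim.trdegAt_eq_add f (𝟙 (Spec (CommRingCat.of K))) f (Category.comp_id f) x
  rw [ha, hb, Nat.cast_zero, zero_add] at hadd
  have hma : (a : Cardinal.{u}) = m := hadd.trans hm
  refine ⟨a, ha', ?_⟩
  rw [hm', Nat.cast_inj.1 hma, zero_add]

/-- The prime of a point on an affine open is the prime of the local ring of a specialisation. -/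
theorem comap_genPrime {X : Scheme.{u}} {U : X.Opens} (hU : IsAffineOpen U) {x ξ : X} (hxU : x ∈ U)
    (h : ξ ⤳ x) :
    (Groth.Cycles.genPrime h).asIdeal.comap (X.presheaf.germ U x hxU).hom =
      (hU.primeIdealOf ⟨ξ, h.mem_open U.2 hxU⟩).asIdeal := by
  rw [IsAffineOpen.primeIdealOf_eq_map_closedPoint]
  ext a
  change (X.presheaf.stalkSpecializes h).hom ((X.presheaf.germ U x hxU).hom a) ∈ IsLocalRing.maximalIdeal _ ↔
    (X.presheaf.germ U ξ (h.mem_open U.2 hxU)).hom a ∈ IsLocalRing.maximalIdeal _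
  rw [X.presheaf.germ_stalkSpecializes_apply hxU h a]

set_option backward.isDefEq.respectTransparency false in
/-- The stalk of the ideal of the closure of a point. -/
theorem stalkIdeal_ptIdeal {X : Scheme.{u}} {x ξ : X} (h : ξ ⤳ x) :
    IntMult.stalkIdeal (IntMult.ptIdeal ξ) x = (Groth.Cycles.genPrime h).asIdeal := by
  obtain ⟨U, hU, hxU, -⟩ := exists_isAffineOpen_mem_and_subset (U := (⊤ : X.Opens)) (x := x) trivial
  have hξU : ξ ∈ U := h.mem_open U.2 hxU
  haveI : IsOpenImmersion hU.fromSpec := hU.isOpenImmersion_fromSpec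
  rw [Groth.ParaFormal.stalkIdeal_eq _ ⟨U, hU⟩ hxU]
  have hid : (IntMult.ptIdeal ξ).ideal ⟨U, hU⟩ = (hU.primeIdealOf ⟨ξ, hξU⟩).asIdeal := by
    have hpre : hU.fromSpec ⁻¹' closure ({ξ} : Set X) =
        PrimeSpectrum.zeroLocus ((hU.primeIdealOf ⟨ξ, hξU⟩).asIdeal : Set Γ(X, U)) := by
      ext q
      refine specializes_iff_mem_closure.symm.trans ?_
      have e : ξ = hU.fromSpec (hU.primeIdealOf ⟨ξ, hξU⟩) := (hU.fromSpec_primeIdealOf ⟨ξ, hξU⟩).symm
      conv_lhs => arg 1; rw [e]
      exact hU.fromSpec.isOpenEmbedding.isInducing.specializes_iff.trans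
        (PrimeSpectrum.le_iff_specializes (hU.primeIdealOf ⟨ξ, hξU⟩) q).symm
    change PrimeSpectrum.vanishingIdeal (hU.fromSpec ⁻¹' closure ({ξ} : Set X)) = _
    exact ((congrArg PrimeSpectrum.vanishingIdeal hpre).trans
      (PrimeSpectrum.vanishingIdeal_zeroLocus_eq_radical _)).trans (hU.primeIdealOf ⟨ξ, hξU⟩).isPrime.radical
  rw [hid, ← comap_genPrime hU hxU h]
  letI : Algebra Γ(X, U) (X.presheaf.stalk x) := (X.presheaf.germ U x hxU).hom.toAlgebra
  haveI : IsLocalization.AtPrime (X.presheaf.stalk x) (hU.primeIdealOf ⟨x, hxU⟩).asIdeal :=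
    hU.isLocalization_stalk ⟨x, hxU⟩
  exact IsLocalization.map_under (hU.primeIdealOf ⟨x, hxU⟩).asIdeal.primeCompl (X.presheaf.stalk x) _

/-- Intersection numbers with a zero module vanish. -/
theorem chi_of_subsingleton {S : Type u} [CommRing S] (P Q : Type u) [AddCommGroup P] [Module S P]
    [Subsingleton P] [AddCommGroup Q] [Module S Q] : IntMult.chi S P Q = 0 := by
  haveI : Module.Flat S P := inferInstance
  refine finsum_eq_zero_of_forall_eq_zero fun i => ?_
  have h : Subsingleton (DRing.Tor S i P Q) := by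
    cases i with
    | zero =>
      obtain ⟨e⟩ := Groth.HTorLib.tor_zero_equiv (A := S) P Q
      haveI : Subsingleton (P ⊗[S] Q) := subsingleton_of_forall_eq 0 fun z => by
        induction z using TensorProduct.induction_on with
        | zero => rfl
        | add u v hu hv => rw [hu, hv, add_zero]
        | tmul u v => rw [Subsingleton.elim u 0, TensorProduct.zero_tmul]
      exact e.toEquiv.subsingleton
    | succ i => exact Groth.HTorLib.subsingleton_tor_of_flat_left P Q i
  rw [Module.length_eq_zero_iff.2 h, ENat.toNat_zero, Nat.cast_zero, mul_zero]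


/-- Let X be a nonsingular variety of dimension n and F, G coherent O_X-modules. Suppose the support of
F has dimension at most r, the support of G has dimension at most s, and the two supports meet in a
set whose dimension does not exceed r + s − n. Then [F]_r and [G]_s intersect properly and [F]_r ·
[G]_s = Σ_p (−1)^p [Tor_p^{O_X}(F, G)]_{r+s−n}; the right side is written through stalks: its
coefficient at ζ with δ(ζ) = r + s − n is Σ_p (−1)^p length_{O_{X,ζ}} Tor_p^{O_{X,ζ}}(F_ζ, G_ζ)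
(IntMult.chi), the stalk of the Tor sheaf being the Tor of the stalks. Support bounds are phrased
through nontrivial stalks. Here X is a nonsingular variety over the algebraically closed field K
(smooth, separated, quasi-compact, integral) with dimension function δ (transcendence degree over K,
recorded by Cyc.DeltaCompat to Spec K with value 0, together with Cyc.IsSetup) and n = dim X = δ of
the generic point; cycles are coefficient functions X → ℤ, proper intersection is
IntMult.IntersectProperly and α · β is the Tor-formula intersection product on coefficient functions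
(IntMult.interProd). -/
theorem result (K : Type u) [Field K] [IsAlgClosed K] (X : Scheme.{u}) (f : X ⟶ Spec (CommRingCat.of K)) [Smooth f] [IsSeparated f] [QuasiCompact f] [IsIntegral X] (δ : X → ℤ) (hX : Cyc.IsSetup X δ) (hδ : Cyc.DeltaCompat f δ (fun _ => 0)) (n : ℤ) (hn : δ (genericPoint X) = n) (F G : X.Modules) (hF : Coh.IsCoh F) (hG : Coh.IsCoh G) (r s : ℤ) (hr : ∀ x : X, Nontrivial (F.presheaf.stalk x) → δ x ≤ r) (hs : ∀ x : X, Nontrivial (G.presheaf.stalk x) → δ x ≤ s) (hrs : ∀ x : X, Nontrivial (F.presheaf.stalk x) → Nontrivial (G.presheaf.stalk x) → δ x ≤ r + s - n) : IntMult.IntersectProperly δ n (Cyc.sheafFun δ r F) (Cyc.sheafFun δ s G) ∧ ∀ ζ : X, IntMult.interProd δ n (Cyc.sheafFun δ r F) (Cyc.sheafFun δ s G) ζ = if δ ζ = r + s - n then IntMult.chi ↑(X.presheaf.stalk ζ) ↑(F.presheaf.stalk ζ) ↑(G.presheaf.stalk ζ) else 0 := by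
  classical
  haveI : F.IsQuasicoherent := hF.1
  haveI : G.IsQuasicoherent := hG.1
  have hnz : ∀ (M : X.Modules) (c : ℤ) (ξ : X), Cyc.sheafFun δ c M ξ ≠ 0 →
      δ ξ = c ∧ Nontrivial (M.presheaf.stalk ξ) := by
    intro M c ξ hξ
    by_cases hc : δ ξ = c
    · refine ⟨hc, not_subsingleton_iff_nontrivial.1 fun hsub => hξ ?_⟩
      rw [Cyc.sheafFun, if_pos hc, Module.length_eq_zero_iff.2 hsub, ENat.toNat_zero, Nat.cast_zero]
    · exact absurd (by rw [Cyc.sheafFun, if_neg hc]) hξ
  have hspec : ∀ (M : X.Modules) [M.IsQuasicoherent] {x ξ : X}, ξ ⤳ x →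
      Nontrivial (M.presheaf.stalk ξ) → Nontrivial (M.presheaf.stalk x) := by
    intro M _ x ξ h hξ
    exact (Module.nonempty_support_iff (R := X.presheaf.stalk x)).1
      ⟨_, (Groth.Calg6.StalkSupport.genPrime_mem_support_iff M h).2 hξ⟩
  refine ⟨fun ξ η ζ hξ hη h1 h2 => ?_, fun ζ => ?_⟩
  · obtain ⟨e1, n1⟩ := hnz F r ξ hξ
    obtain ⟨e2, n2⟩ := hnz G s η hη
    rw [e1, e2]
    exact hrs ζ (hspec F h1 n1) (hspec G h2 n2)
  by_cases hζ : δ ζ = r + s - n
  swap
  · rw [if_neg hζ]
    refine finsum_eq_zero_of_forall_eq_zero fun p => ?_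
    by_contra hc
    obtain ⟨e1, -⟩ := hnz F r p.1.1 (left_ne_zero_of_mul (left_ne_zero_of_mul hc))
    obtain ⟨e2, -⟩ := hnz G s p.1.2 (right_ne_zero_of_mul (left_ne_zero_of_mul hc))
    have := p.2.2.2
    rw [e1, e2] at this
    exact hζ this.symm
  rw [if_pos hζ]
  by_cases hboth : Nontrivial (F.presheaf.stalk ζ) ∧ Nontrivial (G.presheaf.stalk ζ)
  swap
  · rw [show IntMult.interProd δ n (Cyc.sheafFun δ r F) (Cyc.sheafFun δ s G) ζ = 0 from
      finsum_eq_zero_of_forall_eq_zero fun p => by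
        by_contra hc
        obtain ⟨-, n1⟩ := hnz F r p.1.1 (left_ne_zero_of_mul (left_ne_zero_of_mul hc))
        obtain ⟨-, n2⟩ := hnz G s p.1.2 (right_ne_zero_of_mul (left_ne_zero_of_mul hc))
        exact hboth ⟨hspec F p.2.1 n1, hspec G p.2.2.1 n2⟩]
    rcases not_and_or.1 hboth with h | h
    · haveI := not_nontrivial_iff_subsingleton.1 h
      exact (chi_of_subsingleton _ _).symm
    · haveI := not_nontrivial_iff_subsingleton.1 h
      rw [Groth.Calg6.Diag.intMult_chi_symm]
      exact (chi_of_subsingleton _ _).symm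
  -- heights
  have hδh := delta_eq_height f δ hδ
  obtain ⟨h, hh, hhδ⟩ := hδh ζ
  have hrζ := hr ζ hboth.1
  have hsζ := hs ζ hboth.2
  -- a chart
  obtain ⟨U₀, hU₀, U, hU, hxU, hle, hstd⟩ := Smooth.exists_isStandardSmooth f ζ
  obtain rfl : U₀ = ⊤ := top_le_iff.1 fun z _ => (Subsingleton.elim (f ζ) z) ▸ hle hxU
  let φ : K →+* Γ(X, U) := (f.appLE ⊤ U hle).hom.comp (Scheme.ΓSpecIso (CommRingCat.of K)).inv.hom
  have hφ : φ.IsStandardSmooth := RingHom.isStandardSmooth_respectsIso.2 _
    (Scheme.ΓSpecIso (CommRingCat.of K)).commRingCatIsoToRingEquiv.symm hstd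
  obtain ⟨n', g, hg, hget⟩ := hφ.exists_etale_mvPolynomial
  letI : Algebra K Γ(X, U) := φ.toAlgebra
  letI : Algebra (MvPolynomial (Fin n') K) Γ(X, U) := g.toAlgebra
  haveI : IsScalarTower K (MvPolynomial (Fin n') K) Γ(X, U) := IsScalarTower.of_algebraMap_eq' hg.symm
  haveI : Algebra.Etale (MvPolynomial (Fin n') K) Γ(X, U) := hget
  haveI : Algebra.FiniteType K Γ(X, U) :=
    Algebra.FiniteType.trans (S := MvPolynomial (Fin n') K) inferInstance inferInstance
  haveI : IsOpenImmersion hU.fromSpec := hU.isOpenImmersion_fromSpec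
  have hht : ∀ (x : X) (hx : x ∈ U), ringKrullDim (Γ(X, U) ⧸ (hU.primeIdealOf ⟨x, hx⟩).asIdeal) =
      ((Order.height x : ℕ∞) : WithBot ℕ∞) := fun x hx => by
    rw [← Groth.FibreDim.height_spec_eq (S := Γ(X, U)) (hU.primeIdealOf ⟨x, hx⟩),
      ← Groth.Variety2.Dim.height_eq_of_isPreimmersion (hU.fromSpec ≫ f) f hU.fromSpec rfl
        (hU.primeIdealOf ⟨x, hx⟩), hU.fromSpec_primeIdealOf]
  have hn' : n ≤ (n' : ℤ) := by
    obtain ⟨N, hN, hNδ⟩ := hδh (genericPoint X)
    have hmem : genericPoint X ∈ U := (genericPoint_specializes ζ).mem_open U.2 hxU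
    have h1 := hht _ hmem
    rw [hN] at h1
    have h2 : ringKrullDim Γ(X, U) ≤ (n' : WithBot ℕ∞) := by
      rw [ringKrullDim_le_iff_isMaximal_height_le]
      intro M hM
      rw [← IsLocalization.AtPrime.ringKrullDim_eq_height M (Localization.AtPrime M),
        Groth.Agent.EtaleAlgebra.EtaleCriterion.ringKrullDim_atPrime_of_etale (k := K) (n := n') M]
    have h3 : (N : WithBot ℕ∞) ≤ (n' : WithBot ℕ∞) := by
      refine le_trans (le_of_eq ?_) ((ringKrullDim_quotient_le (hU.primeIdealOf ⟨genericPoint X, hmem⟩).asIdeal).trans h2)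
      exact h1.symm
    rw [← hn, hNδ]
    exact_mod_cast h3
  letI : Algebra Γ(X, U) (X.presheaf.stalk ζ) := (X.presheaf.germ U ζ hxU).hom.toAlgebra
  haveI : IsLocalization.AtPrime (X.presheaf.stalk ζ) (hU.primeIdealOf ⟨ζ, hxU⟩).asIdeal :=
    hU.isLocalization_stalk ⟨ζ, hxU⟩
  haveI : IsNoetherianRing Γ(X, U) := Algebra.FiniteType.isNoetherianRing K Γ(X, U)
  haveI : IsNoetherianRing (X.presheaf.stalk ζ) :=
    IsLocalization.isNoetherianRing (hU.primeIdealOf ⟨ζ, hxU⟩).asIdeal.primeCompl _ inferInstance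
  haveI := Groth.QCohMod.finite_stalk F hF.2 ζ
  haveI := Groth.QCohMod.finite_stalk G hG.2 ζ
  -- points
  let pt : PrimeSpectrum (X.presheaf.stalk ζ) → X := fun p => X.fromSpecStalk ζ p
  have hpt : ∀ p, pt p ⤳ ζ := fun p => Scheme.range_fromSpecStalk.le ⟨p, rfl⟩
  have hptinj : Function.Injective pt := (X.fromSpecStalk ζ).isEmbedding.injective
  let D : PrimeSpectrum (X.presheaf.stalk ζ) → ℕ := fun p => (δ (pt p)).toNat
  have hDδ : ∀ p, ((D p : ℕ) : ℤ) = δ (pt p) := fun p => by
    obtain ⟨a, -, ha⟩ := hδh (pt p)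
    simp only [D, ha, Int.toNat_natCast]
  have hD : ∀ p q : PrimeSpectrum (X.presheaf.stalk ζ), p < q → D q < D p := fun p q hpq => by
    have hs' : pt p ⤳ pt q := ((PrimeSpectrum.le_iff_specializes p q).1 hpq.le).map (X.fromSpecStalk ζ).continuous
    have := (hX.2.2 (pt p) (pt q) hs' fun e => hpq.ne (hptinj e)).1
    rw [← hDδ, ← hDδ] at this
    exact_mod_cast this
  have hDdim : ∀ p : PrimeSpectrum (X.presheaf.stalk ζ),
      ringKrullDim (Γ(X, U) ⧸ p.asIdeal.comap (algebraMap Γ(X, U) (X.presheaf.stalk ζ))) = D p := fun p => by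
    have hp : p.asIdeal.comap (algebraMap Γ(X, U) (X.presheaf.stalk ζ)) =
        (hU.primeIdealOf ⟨pt p, (hpt p).mem_open U.2 hxU⟩).asIdeal := by
      conv_lhs => rw [← Groth.Cycles.genPrime_fromSpecStalk p (hpt p)]
      exact comap_genPrime hU hxU (hpt p)
    rw [ringKrullDim_eq_of_ringEquiv (Ideal.quotEquivOfEq hp), hht]
    obtain ⟨a, ha, ha'⟩ := hδh (pt p)
    rw [ha, show D p = a by simp only [D, ha', Int.toNat_natCast]]
    rfl
  have hsupp : ∀ (M : X.Modules) [M.IsQuasicoherent] (p : PrimeSpectrum (X.presheaf.stalk ζ)),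
      p ∈ Module.support (X.presheaf.stalk ζ) (M.presheaf.stalk ζ) → Nontrivial (M.presheaf.stalk (pt p)) := by
    intro M _ p hp
    rw [← Groth.Cycles.genPrime_fromSpecStalk p (hpt p)] at hp
    exact (Groth.Calg6.StalkSupport.genPrime_mem_support_iff M (hpt p)).1 hp
  have hr' : (r.toNat : ℤ) = r := Int.toNat_of_nonneg (by omega)
  have hs' : (s.toNat : ℤ) = s := Int.toNat_of_nonneg (by omega)
  rw [Groth.Calg6.Diag.intMult_chi_eq_finsum (k := K) (n := n') (hU.primeIdealOf ⟨ζ, hxU⟩).asIdeal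
    _ _ D hD (h := h) (r := r.toNat) (s := s.toNat) (by rw [hht, hh]; rfl) hDdim (by omega)
    (fun p hp => by have := hr _ (hsupp F p hp); have := hDδ p; omega)
    (fun p hp => by have := hs _ (hsupp G p hp); have := hDδ p; omega)
    (fun p hp hp' => ?_)]
  swap
  · have hle' := hrs _ (hsupp F p hp) (hsupp G p hp')
    by_contra hne
    have hlt : p < IsLocalRing.closedPoint (X.presheaf.stalk ζ) :=
      lt_of_le_of_ne (IsLocalRing.le_maximalIdeal p.isPrime.ne_top) fun e => hne (congrArg PrimeSpectrum.asIdeal e)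
    have := hD _ _ hlt
    have e1 := hDδ p
    have e2 := hDδ (IsLocalRing.closedPoint (X.presheaf.stalk ζ))
    have e3 : pt (IsLocalRing.closedPoint (X.presheaf.stalk ζ)) = ζ := Scheme.fromSpecStalk_closedPoint
    rw [e3] at e2
    omega
  -- the two sums
  let A := X.presheaf.stalk ζ
  let a : PrimeSpectrum A → ℤ := fun p => Groth.Calg6.DevissageSum.F D r.toNat 1 (F.presheaf.stalk ζ) p
  let b : PrimeSpectrum A → ℤ := fun q => Groth.Calg6.DevissageSum.F D s.toNat 1 (G.presheaf.stalk ζ) q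
  let T : PrimeSpectrum A × PrimeSpectrum A → ℤ := fun t =>
    a t.1 * b t.2 * IntMult.chi A (A ⧸ t.2.asIdeal) (A ⧸ t.1.asIdeal)
  have hfa := Groth.Calg6.DevissageSum.finite_support D r.toNat 1 hD (F.presheaf.stalk ζ)
    fun p hp => by have := hr _ (hsupp F p hp); have := hDδ p; omega
  have hfb := Groth.Calg6.DevissageSum.finite_support D s.toNat 1 hD (G.presheaf.stalk ζ)
    fun p hp => by have := hs _ (hsupp G p hp); have := hDδ p; omega
  have hT : (Function.support T).Finite := (hfa.prod hfb).subset fun t ht =>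
    ⟨left_ne_zero_of_mul (left_ne_zero_of_mul ht), right_ne_zero_of_mul (left_ne_zero_of_mul ht)⟩
  trans ∑ᶠ t, T t
  swap
  · rw [finsum_curry T hT]
    refine finsum_congr fun p => ?_
    by_cases hp : D p = r.toNat
    · simp only [T, a, b, Groth.Calg6.DevissageSum.F, if_pos hp, Pi.one_apply, mul_one]
      rw [mul_finsum]
      refine finsum_congr fun q => ?_
      split_ifs <;> ring
    · simp [T, a, Groth.Calg6.DevissageSum.F, hp]
  let Φ : PrimeSpectrum A × PrimeSpectrum A → X × X := fun t => (pt t.1, pt t.2)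
  have hΦ : Function.Injective Φ := fun t t' e =>
    Prod.ext (hptinj (congrArg Prod.fst e)) (hptinj (congrArg Prod.snd e))
  let S : X × X → Prop := fun p => p.1 ⤳ ζ ∧ p.2 ⤳ ζ ∧ δ p.1 + δ p.2 - n = δ ζ
  let g' : X × X → ℤ := fun p =>
    if S p then Cyc.sheafFun δ r F p.1 * Cyc.sheafFun δ s G p.2 *
      IntMult.mult (IntMult.ptIdeal p.1) (IntMult.ptIdeal p.2) ζ else 0
  have hg' : ∀ p, S p → p ∈ Set.range Φ := fun p hp => by
    obtain ⟨u, hu⟩ := Scheme.range_fromSpecStalk.ge hp.1
    obtain ⟨v, hv⟩ := Scheme.range_fromSpecStalk.ge hp.2.1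
    exact ⟨(u, v), Prod.ext hu hv⟩
  have hlhs : IntMult.interProd δ n (Cyc.sheafFun δ r F) (Cyc.sheafFun δ s G) ζ = ∑ᶠ t, g' (Φ t) := by
    rw [IntMult.interProd]
    refine (finsum_subtype_eq_finsum_cond S (f := fun p : X × X =>
      Cyc.sheafFun δ r F p.1 * Cyc.sheafFun δ s G p.2 *
        IntMult.mult (IntMult.ptIdeal p.1) (IntMult.ptIdeal p.2) ζ)).trans ?_
    rw [← finsum_mem_range (f := g') hΦ]
    refine finsum_congr fun p => ?_
    rw [finsum_eq_if, finsum_eq_if]
    by_cases hp : S p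
    · rw [if_pos hp, if_pos (hg' p hp)]
      exact (if_pos hp).symm
    · rw [if_neg hp]
      split_ifs with h'
      · exact (if_neg hp).symm
      · rfl
  rw [hlhs]
  refine finsum_congr fun t => ?_
  have hlq : ∀ (M : X.Modules) [M.IsQuasicoherent] (p : PrimeSpectrum A),
      Groth.MilnorKLambda.Per.lq p.asIdeal (M.presheaf.stalk ζ) =
        Module.length (X.presheaf.stalk (pt p)) (M.presheaf.stalk (pt p)) := by
    intro M _ p
    have := Groth.Calg6.StalkSupport.lq_stalk M (hpt p)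
    rwa [Groth.Cycles.genPrime_fromSpecStalk p (hpt p)] at this
  have hαβ : ∀ (M : X.Modules) [M.IsQuasicoherent] (c : ℤ) (hc : (c.toNat : ℤ) = c) (p : PrimeSpectrum A),
      Cyc.sheafFun δ c M (pt p) = Groth.Calg6.DevissageSum.F D c.toNat 1 (M.presheaf.stalk ζ) p := by
    intro M _ c hc p
    have := hDδ p
    by_cases hp : δ (pt p) = c
    · have hp' : D p = c.toNat := by omega
      simp only [Cyc.sheafFun, Groth.Calg6.DevissageSum.F, if_pos hp, if_pos hp', hlq M p, Pi.one_apply, mul_one]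
    · have hp' : D p ≠ c.toNat := by omega
      simp only [Cyc.sheafFun, Groth.Calg6.DevissageSum.F, if_neg hp, if_neg hp']
  have hmult : IntMult.mult (IntMult.ptIdeal (pt t.1)) (IntMult.ptIdeal (pt t.2)) ζ =
      IntMult.chi A (A ⧸ t.2.asIdeal) (A ⧸ t.1.asIdeal) := by
    rw [IntMult.mult, stalkIdeal_ptIdeal (hpt t.1), stalkIdeal_ptIdeal (hpt t.2),
      Groth.Cycles.genPrime_fromSpecStalk t.1 (hpt t.1), Groth.Cycles.genPrime_fromSpecStalk t.2 (hpt t.2)]
  simp only [g', Φ, T, a, b]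
  split_ifs with hS
  · rw [hαβ F r hr' t.1, hαβ G s hs' t.2, hmult]
  · symm
    by_contra hne
    have h1 := left_ne_zero_of_mul (left_ne_zero_of_mul hne)
    have h2 := right_ne_zero_of_mul (left_ne_zero_of_mul hne)
    rw [← hαβ F r hr' t.1] at h1
    rw [← hαβ G s hs' t.2] at h2
    exact hS ⟨hpt t.1, hpt t.2, by rw [(hnz F r _ h1).1, (hnz G s _ h2).1, hζ]⟩

end Groth.Agent.S6470
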