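import Groth.Statements.S7610
import Groth.Agent.FibreDim.BaseChange
import Groth.Agent.FibreDim.Composition

set_option autoImplicit false
universe u
open CategoryTheory CategoryTheory.Limits AlgebraicGeometry
open Variety

namespace Groth.Agent.S7610

/-- Let X and Y be schemes locally of finite type over a field k and z a point of X ×_k Y lying over x
in X and y in Y. Then dim_z(X ×_k Y) = dim_x X + dim_y Y (local dimensions of the underlying
topological spaces, in WithBot ℕ∞). -/
theorem result (k : Type u) [Field k] (X : Scheme.{u}) [X.Over (Spec (CommRingCat.of k))] [LocallyOfFiniteType (X ↘ (Spec (CommRingCat.of k)))]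
    (Y : Scheme.{u}) [Y.Over (Spec (CommRingCat.of k))] [LocallyOfFiniteType (Y ↘ (Spec (CommRingCat.of k)))]
    (z : ↥(pullback (X ↘ (Spec (CommRingCat.of k))) (Y ↘ (Spec (CommRingCat.of k))))) :
    FlatMor.localDim ↥(pullback (X ↘ (Spec (CommRingCat.of k))) (Y ↘ (Spec (CommRingCat.of k)))) z =
      FlatMor.localDim ↥X (pullback.fst (X ↘ (Spec (CommRingCat.of k))) (Y ↘ (Spec (CommRingCat.of k))) z) +
        FlatMor.localDim ↥Y (pullback.snd (X ↘ (Spec (CommRingCat.of k))) (Y ↘ (Spec (CommRingCat.of k))) z) := by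
  have hadd := (Groth.FibreDim.localDim_add (pullback.fst (X ↘ (Spec (CommRingCat.of k))) (Y ↘ (Spec (CommRingCat.of k))) ≫ (X ↘ (Spec (CommRingCat.of k))))
    (X ↘ (Spec (CommRingCat.of k))) (pullback.fst _ _) rfl z).2 fun w _ y' hy' => ?_
  · rw [hadd, Groth.FibreDim.fibreDimAt_baseChange (Y ↘ (Spec (CommRingCat.of k))) (X ↘ (Spec (CommRingCat.of k)))
      (pullback.fst _ _) (pullback.snd _ _) (IsPullback.of_hasPullback _ _).flip z, add_comm]
    congr 1
    refine (Groth.FibreDim.fibreDimAt_eq_of_range (Y ↘ (Spec (CommRingCat.of k))) default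
      (e := (id : Y → Y)) Topology.IsEmbedding.id ?_ _)
    rw [Set.range_id]
    exact (Set.eq_univ_of_forall fun a => Subsingleton.elim _ _).symm
  · obtain ⟨w', hw, hwe⟩ := Flat.generalizingMap (pullback.fst (X ↘ (Spec (CommRingCat.of k))) (Y ↘ (Spec (CommRingCat.of k)))) hy'
    exact ⟨w', hw, hwe⟩

end Groth.Agent.S7610
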