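import Groth.Statements.S14359
import Mathlib

set_option autoImplicit false
universe u
open CAlg

namespace Groth.Agent.S14359

/-- Let A be a Noetherian integrally closed integral domain and b a nonzero element of A. Then every
associated prime of the A-module A/(b) has height one, so that A/(b) has no embedded associated
primes. -/
theorem result
    (A : Type u) [CommRing A] [IsDomain A] [IsNoetherianRing A] [IsIntegrallyClosed A]
    (b : A) (hb : b ≠ 0) (p : Ideal A) (hp : p ∈ associatedPrimes A (A ⧸ Ideal.span {b})) :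
    p.height = 1 := by
  classical
  let K := FractionRing A
  rw [AssociatedPrimes.mem_iff, isAssociatedPrime_iff] at hp
  obtain ⟨hP, z, hz⟩ := hp
  obtain ⟨x, rfl⟩ := Ideal.Quotient.mk_surjective z
  have hp' : ∀ r, r ∈ p ↔ b ∣ r * x := fun r => by
    rw [hz, Submodule.mem_colon_singleton, Submodule.mem_bot]
    exact Ideal.Quotient.eq_zero_iff_mem.trans Ideal.mem_span_singleton
  have hbp : b ∈ p := (hp' b).2 (dvd_mul_right _ _)
  have hx : ¬ b ∣ x := fun h => hP.ne_top ((Ideal.eq_top_iff_one _).2 ((hp' 1).2 (by simpa using h)))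
  have hbK : algebraMap A K b ≠ 0 := fun h' => hb (IsFractionRing.injective A K (by simpa using h'))
  have hex : ∃ a c : A, a ∈ p ∧ c ∉ p ∧ a * x = b * c := by
    by_contra hne
    push Not at hne
    let y : K := algebraMap A K x / algebraMap A K b
    let N : Submodule A K := Submodule.map (Algebra.linearMap A K) p
    have hy : IsIntegral A y := by
      refine isIntegral_of_smul_mem_submodule N ?_ ((IsNoetherian.noetherian p).map _) y ?_
      · intro h
        have : algebraMap A K b ∈ N := ⟨b, hbp, rfl⟩
        rw [h, Submodule.mem_bot] at this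
        exact hbK this
      · rintro _ ⟨r, hr, rfl⟩
        obtain ⟨c, hc⟩ := (hp' r).1 hr
        refine ⟨c, by_contra fun hcp => hne r c hr hcp hc, ?_⟩
        show algebraMap A K c = y * algebraMap A K r
        rw [div_mul_eq_mul_div, eq_div_iff hbK, ← map_mul, ← map_mul, mul_comm x, hc, mul_comm]
    obtain ⟨c, hc⟩ := IsIntegrallyClosed.isIntegral_iff.1 hy
    refine hx ⟨c, IsFractionRing.injective A K ?_⟩
    rw [map_mul, hc, mul_div_cancel₀ _ hbK]
  obtain ⟨a, c, ha, hc, hac⟩ := hex
  have key : ∀ w ∈ p, c * w ∈ Ideal.span {a} := by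
    intro w hw
    obtain ⟨d, hd⟩ := (hp' w).1 hw
    refine Ideal.mem_span_singleton.2 ⟨d, mul_left_cancel₀ hb ?_⟩
    rw [← mul_assoc, ← hac, mul_assoc, mul_comm x, hd]; ring
  refine le_antisymm (Ideal.height_le_one_of_isPrincipal_of_mem_minimalPrimes (Ideal.span {a}) p ?_) ?_
  · refine ⟨⟨hP, (Ideal.span_singleton_le_iff_mem _).2 ha⟩, fun q hq hqp w hw => ?_⟩
    exact (hq.1.mem_or_mem (hq.2 (key w hw))).resolve_left fun h => hc (hqp h)
  · rw [Order.one_le_iff_pos, pos_iff_ne_zero]
    intro h0
    have := Ideal.height_eq_zero_iff.1 h0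
    rw [IsDomain.minimalPrimes_eq_singleton_bot] at this
    exact hb (by simpa [Set.mem_singleton_iff.1 this] using hbp)

end Groth.Agent.S14359
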