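import Groth.Statements.S1692
import Groth.Agent.RefRank.LocFin

set_option autoImplicit false
universe u
open CategoryTheory CategoryTheory.Limits AlgebraicGeometry TopologicalSpace
open SDiv

namespace Groth.Agent.S1692

/-- Let X be a locally Noetherian integral scheme and f a nonzero rational function. Then the closures
of the codimension-one points at which f has nonzero order of vanishing form a locally finite family
of closed subsets of X. -/
theorem result (X : Scheme.{u}) [IsIntegral X] [IsLocallyNoetherian X] (f : ↑X.functionField) (hf : f ≠ 0) :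
    LocallyFinite (fun ξ : {ξ : ↥X // Order.coheight ξ = 1 ∧ Scheme.ord f ξ ≠ 0} => closure ({ξ.1} : Set ↥X)) := by
    have hw : (show X.presheaf.stalk (genericPoint ↥X) from f) • Groth.RefRank.oneGerm (genericPoint ↥X) ≠ 0 :=
      fun e => hf ((Groth.RefRank.isStalkBasis_oneGerm (genericPoint ↥X)).1
        (a₁ := (show X.presheaf.stalk (genericPoint ↥X) from f)) (a₂ := 0)
        (by dsimp only; rw [e, zero_smul]))
    obtain ⟨W, hW, h⟩ := Groth.RefRank.exists_open_ordSec_eq_zero_of_genInvertible
      Groth.RefRank.isRef1_structure.2.2 hw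
    refine Groth.RefRank.locallyFinite_codim_one_compl hW _ fun x hx => ⟨hx.1, fun hxW => hx.2 ?_⟩
    have hx1 := ((Groth.RefRank.coheight_eq_one_iff x).mp hx.1).le
    rw [Groth.RefRank.ord_eq_ordK hx.1, ← h x hxW hx1]
    exact (Groth.RefRank.ordSec_eq hx1 (Groth.RefRank.isStalkBasis_oneGerm x)
      (φ := (show X.presheaf.stalk (genericPoint ↥X) from f))
      (by rw [Groth.RefRank.mspec_oneGerm])).symm

end Groth.Agent.S1692
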