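import Groth.Statements.S5756
import Groth.Agent.Ega4Algebra2.DepthFlat
import Mathlib.RingTheory.Artinian.Module

set_option autoImplicit false
universe u
open EGA41
open scoped Pointwise

namespace Groth.Agent.S5756

open IsLocalRing in
theorem mem_ass_iff {A B : Type u} [CommRing A] [CommRing B] [IsLocalRing A]
    [IsLocalRing B] [IsNoetherianRing A] [IsNoetherianRing B] [Algebra A B] [IsLocalHom (algebraMap A B)]
    (M : Type u) [AddCommGroup M] [Module B M] [Module A M] [IsScalarTower A B M] [Module.Finite A M] :
    maximalIdeal A ∈ associatedPrimes A M ↔ maximalIdeal B ∈ associatedPrimes B M := by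
  constructor
  · intro h
    let N : Submodule B M :=
      { carrier := {x | ∀ a ∈ maximalIdeal A, a • x = 0}
        add_mem' := fun hx hy a ha => by rw [smul_add, hx a ha, hy a ha, add_zero]
        zero_mem' := fun a _ => smul_zero a
        smul_mem' := fun b x hx a ha => by rw [smul_comm, hx a ha, smul_zero] }
    obtain ⟨-, x, hx⟩ := (isAssociatedPrime_iff).mp h
    have hx0 : x ≠ 0 := fun h0 => (maximalIdeal.isMaximal A).ne_top (by
      rw [hx, h0, Ideal.eq_top_iff_one, Submodule.mem_colon_singleton, smul_zero]
      exact zero_mem _)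
    have hxN : x ∈ N := fun a ha => by
      rw [hx, Submodule.mem_colon_singleton] at ha
      exact ha
    haveI : Nontrivial N := ⟨⟨⟨x, hxN⟩, 0, fun he => hx0 (congrArg Subtype.val he)⟩⟩
    haveI : Module.Finite A N := Module.Finite.of_injective (N.subtype.restrictScalars A) (Submodule.injective_subtype N)
    haveI : IsArtinian B N := by
      have htor : Module.IsTorsionBySet A N (maximalIdeal A : Set A) := fun y a =>
        Subtype.ext (y.2 a.1 a.2)
      letI := htor.module
      haveI : IsScalarTower A (A ⧸ maximalIdeal A) N := htor.isScalarTower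
      haveI : Module.Finite (A ⧸ maximalIdeal A) N := Module.Finite.of_restrictScalars_finite A _ _
      letI := Ideal.Quotient.field (maximalIdeal A)
      haveI : IsArtinian (A ⧸ maximalIdeal A) N := inferInstance
      haveI : IsArtinian A N := isArtinian_of_surjective_algebraMap (Ideal.Quotient.mk_surjective (I := maximalIdeal A))
      exact isArtinian_of_tower A ‹IsArtinian A N›
    obtain ⟨P, hP⟩ := associatedPrimes.nonempty B N
    haveI hPp : P.IsPrime := IsAssociatedPrime.isPrime hP
    obtain ⟨-, g, hg⟩ := (isAssociatedPrime_iff_exists_injective_linearMap P N).mp hP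
    haveI : IsArtinian B (B ⧸ P) := isArtinian_of_injective g hg
    haveI : IsArtinianRing (B ⧸ P) := isArtinian_of_tower B ‹IsArtinian B (B ⧸ P)›
    haveI : P.IsMaximal := Ideal.Quotient.maximal_of_isField P (IsArtinianRing.isField_of_isDomain _)
    rw [← IsLocalRing.eq_maximalIdeal ‹P.IsMaximal›]
    exact associatedPrimes.subset_of_injective (Submodule.injective_subtype N) hP
  · intro h
    obtain ⟨-, y, hy⟩ := (isAssociatedPrime_iff).mp h
    refine (isAssociatedPrime_iff).mpr ⟨(maximalIdeal.isMaximal A).isPrime, y, ?_⟩
    refine (maximalIdeal.isMaximal A).eq_of_le (fun htop => ?_) fun a ha => ?_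
    · have h1 := (Ideal.eq_top_iff_one _).mp htop
      refine (maximalIdeal.isMaximal B).ne_top ?_
      rw [hy, Ideal.eq_top_iff_one, Submodule.mem_colon_singleton, one_smul]
      rwa [Submodule.mem_colon_singleton, one_smul] at h1
    · have hb : algebraMap A B a ∈ maximalIdeal B :=
        ((local_hom_TFAE (algebraMap A B)).out 0 2 rfl rfl).mp ‹_› (Ideal.mem_map_of_mem _ ha)
      rw [hy, Submodule.mem_colon_singleton, algebraMap_smul] at hb
      exact Submodule.mem_colon_singleton.mpr hb

set_option maxHeartbeats 800000 in
open IsLocalRing in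
theorem le_depth_iff {A B : Type u} [CommRing A] [CommRing B] [IsLocalRing A]
    [IsLocalRing B] [IsNoetherianRing A] [IsNoetherianRing B] [Algebra A B] [IsLocalHom (algebraMap A B)] :
    ∀ (n : ℕ) (M : Type u) [AddCommGroup M] [Module B M] [Module A M] [IsScalarTower A B M] [Module.Finite A M],
      (n : ℕ∞) ≤ LocCoh.depth A M ↔ (n : ℕ∞) ≤ LocCoh.depth B M := by
  intro n
  induction n with
  | zero => intro M _ _ _ _ _; simp
  | succ n ih =>
    intro M _ _ _ _ _
    haveI : Module.Finite B M := Module.Finite.of_restrictScalars_finite A B M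
    rcases subsingleton_or_nontrivial M with hs | hn
    · rw [Groth.Ega4b.depth_of_subsingleton, Groth.Ega4b.depth_of_subsingleton]
    by_cases hA : (1 : ℕ∞) ≤ LocCoh.depth A M
    · have hnot : maximalIdeal A ∉ associatedPrimes A M := (Groth.Ega4b.one_le_depth_iff M).mp hA
      obtain ⟨a, ha, hreg⟩ : ∃ a ∈ maximalIdeal A, IsSMulRegular M a := by
        by_contra hcon
        simp only [not_exists, not_and] at hcon
        have hsub : (maximalIdeal A : Set A) ⊆ ⋃ q ∈ associatedPrimes A M, (q : Set A) := fun a ha => by
          rw [biUnion_associatedPrimes_eq_compl_regular]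
          exact hcon a ha
        obtain ⟨q, hq, hle⟩ := (Ideal.subset_union_prime_finite (associatedPrimes.finite A M) ⊥ ⊥
          fun q hq _ _ => IsAssociatedPrime.isPrime hq).mp hsub
        exact hnot ((maximalIdeal.isMaximal A).eq_of_le (IsAssociatedPrime.isPrime hq).ne_top hle ▸ hq)
      set b := algebraMap A B a
      have hb : b ∈ maximalIdeal B :=
        ((local_hom_TFAE (algebraMap A B)).out 0 2 rfl rfl).mp ‹_› (Ideal.mem_map_of_mem _ ha)
      have hregB : IsSMulRegular M b := fun x y hxy => hreg (by
        show a • x = a • y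
        rw [← algebraMap_smul B a x, ← algebraMap_smul B a y]
        exact hxy)
      have hsmulA := Groth.LocCohBase.smul_maximalIdeal_ne_top (R := A) M (maximalIdeal.isMaximal A).ne_top
      have hsmulB := Groth.LocCohBase.smul_maximalIdeal_ne_top (R := B) M (maximalIdeal.isMaximal B).ne_top
      have heq : a • (⊤ : Submodule A M) = (b • (⊤ : Submodule B M)).restrictScalars A := by
        ext x
        simp only [Submodule.restrictScalars_mem, Submodule.mem_smul_pointwise_iff_exists, Submodule.mem_top, true_and, b,
          algebraMap_smul]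
      have e0 : QuotSMulTop a M ≃ₗ[A] QuotSMulTop b M :=
        (Submodule.quotEquivOfEq (a • (⊤ : Submodule A M)) ((b • (⊤ : Submodule B M)).restrictScalars A) heq) ≪≫ₗ
          Submodule.Quotient.restrictScalarsEquiv A (b • (⊤ : Submodule B M))
      have eA : LocCoh.depth A (QuotSMulTop a M) = LocCoh.depth A (QuotSMulTop b M) := Groth.Ega4b.depth_congr' e0
      haveI : Module.Finite A (QuotSMulTop b M) := Module.Finite.equiv e0
      have h1 : LocCoh.depth A M = LocCoh.depth A (QuotSMulTop a M) + 1 :=
        (Groth.LocCohBase.idealDepth_quotSMulTop_add_one (maximalIdeal A) M hsmulA ha hreg).symm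
      have h2 : LocCoh.depth B M = LocCoh.depth B (QuotSMulTop b M) + 1 :=
        (Groth.LocCohBase.idealDepth_quotSMulTop_add_one (maximalIdeal B) M hsmulB hb hregB).symm
      have h3 := ih (QuotSMulTop b M)
      rw [h1, h2, Nat.cast_add, Nat.cast_one, ENat.add_le_add_iff_right ENat.one_ne_top, ENat.add_le_add_iff_right ENat.one_ne_top, eA]
      exact h3
    · have hB : ¬ (1 : ℕ∞) ≤ LocCoh.depth B M := fun h => hA ((Groth.Ega4b.one_le_depth_iff M).mpr
        fun hm => (Groth.Ega4b.one_le_depth_iff M).mp h ((mem_ass_iff M).mp hm))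
      have h1 : (1 : ℕ∞) ≤ ((n + 1 : ℕ) : ℕ∞) := by exact_mod_cast Nat.succ_pos n
      exact ⟨fun h => (hA (h1.trans h)).elim, fun h => (hB (h1.trans h)).elim⟩


/-- Suppose A and B are Noetherian local rings and ρ : A → B is a local homomorphism. Given a B-module M
that, viewed as an A-module through ρ, is finitely generated, the depth of M over A coincides with
the depth of M over B. -/
theorem result (A B : Type u) [CommRing A] [CommRing B] [IsLocalRing A]
    [IsLocalRing B] [IsNoetherianRing A] [IsNoetherianRing B] [Algebra A B] [IsLocalHom (algebraMap A B)]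
    (M : Type u) [AddCommGroup M] [Module B M] [Module A M] [IsScalarTower A B M] [Module.Finite A M] :
    LocCoh.depth A M = LocCoh.depth B M := by
  exact le_antisymm (Groth.LocCohBase.le_iff_forall_nat_le.2 fun n => (le_depth_iff n M).mp)
    (Groth.LocCohBase.le_iff_forall_nat_le.2 fun n => (le_depth_iff n M).mpr)

end Groth.Agent.S5756
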