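import Groth.Statements.S9256
import Groth.Agent.Ega4Algebra1.RegularLocal
import Mathlib

set_option autoImplicit false
universe u
open CAlg

namespace Groth.Agent.S9256

theorem isRegularRing_of_isReduced (T : Type u) [CommRing T] [IsArtinianRing T] [IsReduced T] :
    IsRegularRing T := by
  rw [isRegularRing_iff]
  intro p _
  let := (IsArtinianRing.isField_of_isReduced_of_isLocalRing (Localization.AtPrime p)).toField
  infer_instance

theorem isReduced_of_isRegularRing (T : Type u) [CommRing T] [IsRegularRing T] : IsReduced T :=
  isReduced_ofLocalizationMaximal T fun J _ =>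
    have := Groth.Ega4Algebra1.isDomain_of_isRegularLocalRing (Localization.AtPrime J)
    inferInstance


/-- For a field extension K of k, the ring map k → K is regular exactly when K is separable over k, that
is, geometrically reduced over k. -/
theorem result (k K : Type u) [Field k] [Field K]
    [Algebra k K] : CAlg.IsRegularHom k K ↔ Algebra.IsGeometricallyReduced k K := by
  constructor
  · intro h
    rw [Algebra.isGeometricallyReduced_field_iff]
    refine ⟨fun x hx => ?_⟩
    classical
    obtain ⟨S, hS⟩ := TensorProduct.exists_finset x
    let L : IntermediateField k (AlgebraicClosure k) :=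
      IntermediateField.adjoin k ((S.image Prod.fst : Finset (AlgebraicClosure k)) : Set (AlgebraicClosure k))
    have : FiniteDimensional k L := IntermediateField.finiteDimensional_adjoin
      fun a _ => (Algebra.IsAlgebraic.isAlgebraic (R := k) a).isIntegral
    let e : k ≃ₐ[k] (⊥ : Ideal k).ResidueField := (⊥ : Ideal k).algEquivResidueFieldOfField
    let : Algebra (⊥ : Ideal k).ResidueField L := ((algebraMap k L).comp e.symm.toRingEquiv.toRingHom).toAlgebra
    have : IsScalarTower k (⊥ : Ideal k).ResidueField L := IsScalarTower.of_algebraMap_eq fun r => by
      change algebraMap k L r = algebraMap k L (e.symm (algebraMap k _ r))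
      rw [AlgEquiv.commutes]; rfl
    have : Module.Finite (⊥ : Ideal k).ResidueField L := Module.Finite.of_restrictScalars_finite k _ _
    have hreg := (h.2 ⊥).2 L inferInstance
    have hred := isReduced_of_isRegularRing (TensorProduct (⊥ : Ideal k).ResidueField L
      ((⊥ : Ideal k).Fiber K))
    have hred' : IsReduced (TensorProduct k L K) := isReduced_of_injective
      (Algebra.TensorProduct.cancelBaseChange k (⊥ : Ideal k).ResidueField (⊥ : Ideal k).ResidueField L K).symm
      (AlgEquiv.injective _)
    let j := Algebra.TensorProduct.map L.val (AlgHom.id k K)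
    have hj : Function.Injective j :=
      Module.Flat.rTensor_preserves_injective_linearMap (M := K) L.val.toLinearMap Subtype.val_injective
    obtain ⟨y, rfl⟩ : ∃ y, j y = x := by
      refine (AlgHom.mem_range j).mp ?_
      rw [hS]
      refine Subalgebra.sum_mem _ fun i hi => ?_
      exact ⟨(⟨i.1, IntermediateField.subset_adjoin k _
        (Finset.mem_coe.mpr (Finset.mem_image_of_mem _ hi))⟩ : L) ⊗ₜ i.2, rfl⟩
    obtain ⟨n, hn⟩ := hx
    have : IsNilpotent y := ⟨n, hj (by rw [map_pow, hn, map_zero])⟩
    rw [hred'.eq_zero y this, map_zero]
  · intro h
    refine ⟨inferInstance, fun p _ => ⟨?_, fun k' _ _ hfin => ?_⟩⟩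
    · let e : k ≃ₐ[k] p.ResidueField := p.algEquivResidueFieldOfField
      exact isNoetherianRing_of_ringEquiv K
        ((Algebra.TensorProduct.lid k K).symm.trans (Algebra.TensorProduct.congr e AlgEquiv.refl)).toRingEquiv
    · let : Algebra k k' := ((algebraMap p.ResidueField k').comp (algebraMap k p.ResidueField)).toAlgebra
      have : IsScalarTower k p.ResidueField k' := IsScalarTower.of_algebraMap_eq fun _ => rfl
      have : Module.Finite k p.ResidueField := Module.Finite.equiv p.algEquivResidueFieldOfField.toLinearEquiv
      have : Module.Finite k k' := Module.Finite.trans p.ResidueField k'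
      have : IsReduced (TensorProduct k k' K) := inferInstance
      have : IsArtinianRing (TensorProduct k K k') := IsArtinianRing.of_finite K _
      have : IsArtinianRing (TensorProduct k k' K) :=
        (Algebra.TensorProduct.comm k K k').surjective.isArtinianRing
      have := isRegularRing_of_isReduced (TensorProduct k k' K)
      exact @IsRegularRing.of_ringEquiv (TensorProduct k k' K) _ _ _
        (Algebra.TensorProduct.cancelBaseChange k p.ResidueField p.ResidueField k' K).symm.toRingEquiv this

end Groth.Agent.S9256
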