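import Groth.Statements.S4705
import Groth.Agent.Calg4.FormalFibres
import Groth.Agent.Calg4.RegularAscent
import Groth.Agent.S9256

set_option autoImplicit false
universe u
open EGA4

namespace Groth.Agent.S4705


open TensorProduct in
/-- Geometric reducedness can be tested on finite extensions. -/
theorem isGeometricallyReduced_of_finite {k S : Type u} [Field k] [CommRing S] [Algebra k S]
    (h : ∀ (L : Type u) [Field L] [Algebra k L], Module.Finite k L → IsReduced (L ⊗[k] S)) :
    Algebra.IsGeometricallyReduced k S := by
  rw [Algebra.isGeometricallyReduced_field_iff]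
  refine ⟨fun x hx => ?_⟩
  classical
  obtain ⟨T, hT⟩ := TensorProduct.exists_finset x
  let L : IntermediateField k (AlgebraicClosure k) :=
    IntermediateField.adjoin k ((T.image Prod.fst : Finset (AlgebraicClosure k)) : Set (AlgebraicClosure k))
  have : FiniteDimensional k L := IntermediateField.finiteDimensional_adjoin
    fun a _ => (Algebra.IsAlgebraic.isAlgebraic (R := k) a).isIntegral
  have hred := h L this
  let j := Algebra.TensorProduct.map L.val (AlgHom.id k S)
  have hj : Function.Injective j :=
    Module.Flat.rTensor_preserves_injective_linearMap (M := S) L.val.toLinearMap Subtype.val_injective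
  obtain ⟨y, rfl⟩ : ∃ y, j y = x := by
    refine (AlgHom.mem_range j).mp ?_
    rw [hT]
    refine Subalgebra.sum_mem _ fun i hi => ?_
    exact ⟨(⟨i.1, IntermediateField.subset_adjoin k _
      (Finset.mem_coe.mpr (Finset.mem_image_of_mem _ hi))⟩ : L) ⊗ₜ i.2, rfl⟩
  obtain ⟨n, hn⟩ := hx
  have : IsNilpotent y := ⟨n, hj (by rw [map_pow, hn, map_zero])⟩
  rw [hred.eq_zero y this, map_zero]

/-- Let A → A' be a flat local homomorphism of Noetherian local rings all of whose fibre rings k(p) ⊗_A
A' are geometrically reduced over k(p). If the completion map of A' is regular (the formal fibres of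
A' are geometrically regular), then the formal fibres of A are geometrically reduced. -/
theorem result (A A' : Type u) [CommRing A] [CommRing A']
    [IsNoetherianRing A] [IsNoetherianRing A'] [IsLocalRing A] [IsLocalRing A'] [Algebra A A']
    [IsLocalHom (algebraMap A A')] [Module.Flat A A']
    (hf : ∀ (p : Ideal A) [p.IsPrime], Algebra.IsGeometricallyReduced p.ResidueField (p.Fiber A'))
    (hA' : CAlg.IsRegularHom A' (EGA4.Cpl A')) : EGA4.HasGeomReducedFormalFibres A := by
  intro p _
  refine isGeometricallyReduced_of_finite fun L _ _ hfin => ?_
  open TensorProduct in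
  let : Algebra A L := ((algebraMap p.ResidueField L).comp (algebraMap A p.ResidueField)).toAlgebra
  have : IsScalarTower A p.ResidueField L := IsScalarTower.of_algebraMap_eq fun _ => rfl
  have : Algebra.EssFiniteType A L := Algebra.EssFiniteType.comp A p.ResidueField L
  have := hf p
  have h0 : IsReduced (TensorProduct A L A') := isReduced_of_injective
    (Algebra.TensorProduct.cancelBaseChange A p.ResidueField p.ResidueField L A').symm
    (AlgEquiv.injective _)
  have h1 : IsReduced (TensorProduct A L (EGA4.Cpl A)) := by
    refine Groth.Calg4.formalFibre_of_flat (fun D _ => IsReduced D) ?_ ?_ ?_ A A' hA' L h0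
    · intro D E _ _ e h
      exact isReduced_of_injective e.symm e.symm.injective
    · intro D E _ _ _ _ _ _ hreg h
      refine Groth.Calg4.isReduced_of_flat_of_reduced_fibers D E fun q _ _ => ?_
      have := hreg q
      exact Groth.Agent.S9256.isReduced_of_isRegularRing _
    · intro D E _ _ _ _ _ h
      exact isReduced_of_injective (algebraMap D E) (FaithfulSMul.algebraMap_injective D E)
  exact isReduced_of_injective
    (Algebra.TensorProduct.cancelBaseChange A p.ResidueField p.ResidueField L (EGA4.Cpl A))
    (AlgEquiv.injective _)

end Groth.Agent.S4705
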