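import Groth.Statements.S4706
import Groth.Agent.Calg4.FormalFibres
import Groth.Agent.Calg4.NormalAscent
import Groth.Agent.Ega4Algebra2.NormalDescent

set_option autoImplicit false
universe u
open EGA4

namespace Groth.Agent.S4706

/-- Let A → A' be a local homomorphism of Noetherian local rings which is normal (flat, with
geometrically normal fibres). If the completion map of A' is regular (the formal fibres of A' are
geometrically regular), then the formal fibres of A are geometrically normal. -/
theorem result (A A' : Type u) [CommRing A] [CommRing A']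
    [IsNoetherianRing A] [IsNoetherianRing A'] [IsLocalRing A] [IsLocalRing A'] [Algebra A A']
    [IsLocalHom (algebraMap A A')] (hf : EGA4.IsNormalHom A A') (hA' : CAlg.IsRegularHom A' (EGA4.Cpl A')) :
    EGA4.HasGeomNormalFormalFibres A := by
  intro p _ L _ _ hfin
  let : Algebra A L := ((algebraMap p.ResidueField L).comp (algebraMap A p.ResidueField)).toAlgebra
  have : IsScalarTower A p.ResidueField L := IsScalarTower.of_algebraMap_eq fun _ => rfl
  have : Algebra.EssFiniteType A L := Algebra.EssFiniteType.comp A p.ResidueField L
  have := hf.1
  have h0 : EGA4.IsNormalRing (TensorProduct A L A') := Groth.Ega4b.isNormalRing_of_ringEquiv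
    (Algebra.TensorProduct.cancelBaseChange A p.ResidueField p.ResidueField L A').toRingEquiv
    (hf.2 p L hfin)
  refine Groth.Ega4b.isNormalRing_of_ringEquiv
    (Algebra.TensorProduct.cancelBaseChange A p.ResidueField p.ResidueField L (EGA4.Cpl A)).toRingEquiv.symm ?_
  refine Groth.Calg4.formalFibre_of_flat (fun D _ => EGA4.IsNormalRing D) ?_ ?_ ?_ A A' hA' L h0
  · intro D E _ _ e h
    exact Groth.Ega4b.isNormalRing_of_ringEquiv e h
  · intro D E _ _ _ _ _ _ hreg h
    exact Groth.Calg4.isNormalRing_of_flat_of_regular_fibers D E h hreg
  · intro D E _ _ _ _ _ h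
    exact Groth.Ega4b.isNormalRing_of_faithfullyFlat D E h

end Groth.Agent.S4706
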