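import Groth.Statements.S4744
import Groth.Agent.Calg4.FormalFibres
import Groth.Agent.Calg4.RegularAscent
import Groth.Agent.Ega4Algebra2.CMEquiv

set_option autoImplicit false
universe u
open EGA4

namespace Groth.Agent.S4744

/-- Let A → A' be a flat local homomorphism of Noetherian local rings all of whose fibre rings k(p) ⊗_A
A' are Cohen–Macaulay. If the completion map of A' is regular (the formal fibres of A' are
geometrically regular), then the formal fibres of A are Cohen–Macaulay. -/
theorem result (A A' : Type u) [CommRing A] [CommRing A'] [IsNoetherianRing A]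
    [IsNoetherianRing A'] [IsLocalRing A] [IsLocalRing A'] [Algebra A A'] [IsLocalHom (algebraMap A A')]
    [Module.Flat A A'] (hf : ∀ (p : Ideal A) [p.IsPrime], LocCoh.IsCohenMacaulayRing (p.Fiber A'))
    (hA' : CAlg.IsRegularHom A' (EGA4.Cpl A')) : EGA4.HasCMFormalFibres A := by
  intro p _
  refine Groth.Calg4.formalFibre_of_flat (fun D _ => LocCoh.IsCohenMacaulayRing D) ?_ ?_ ?_ A A' hA'
    p.ResidueField (hf p)
  · intro D E _ _ e h
    exact Groth.Ega4b.isCohenMacaulayRing_of_ringEquiv e h
  · intro D E _ _ _ _ _ _ hreg h
    exact Groth.Calg4.isCohenMacaulayRing_of_flat_of_regular_fibers D E (hR := h) hreg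
  · intro D E _ _ _ _ _ h
    exact Groth.Calg4.isCohenMacaulayRing_of_faithfullyFlat D E (hS := h)

end Groth.Agent.S4744
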