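import Groth.Statements.S9437
import Groth.Agent.Calg4.FlatDepth

set_option autoImplicit false
universe u
open CAlg

namespace Groth.Agent.S9437

/-- Serre's condition (S_k) descends along faithfully flat ring maps: if S is faithfully flat over R,
Noetherian and (S_k), then R is Noetherian and (S_k). -/
theorem result (k : ℕ) (R : Type u) [CommRing R] (S : Type u) [CommRing S]
    [Algebra R S] [Module.FaithfullyFlat R S] [IsNoetherianRing S] (hS : LocCoh.HasSk k S S) :
    IsNoetherianRing R ∧ LocCoh.HasSk k R R := by
  have hN : IsNoetherianRing R := by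
    refine isNoetherianRing_iff.mpr (isNoetherian_mk ⟨?_⟩)
    have hwf : WellFoundedGT (Ideal S) := inferInstance
    exact (OrderEmbedding.ofMapLEIff (fun I : Ideal R => I.map (algebraMap R S)) fun I J =>
      ⟨fun h => by
        have := Ideal.comap_mono (f := algebraMap R S) h
        rwa [Ideal.comap_map_eq_self_of_faithfullyFlat, Ideal.comap_map_eq_self_of_faithfullyFlat] at this,
      fun h => Ideal.map_mono h⟩).wellFoundedGT.wf
  refine ⟨hN, fun p _ => ?_⟩
  obtain ⟨Q, hQ⟩ := PrimeSpectrum.comap_surjective_of_faithfullyFlat (B := S) (⟨p, ‹_›⟩ : PrimeSpectrum R)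
  have hQp : Q.asIdeal.comap (algebraMap R S) = p := congrArg PrimeSpectrum.asIdeal hQ
  obtain ⟨q, hq, hqQ⟩ := Ideal.exists_minimalPrimes_le
    (show p.map (algebraMap R S) ≤ Q.asIdeal from Ideal.map_le_iff_le_comap.mpr hQp.ge)
  have := hq.1.1
  have hqp : q.comap (algebraMap R S) = p :=
    le_antisymm ((Ideal.comap_mono hqQ).trans hQp.le) (Ideal.map_le_iff_le_comap.mp hq.1.2)
  subst hqp
  let A := Localization.AtPrime (q.comap (algebraMap R S))
  let B := Localization.AtPrime q
  let : Algebra A B := (Localization.localRingHom _ q (algebraMap R S) rfl).toAlgebra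
  have : IsScalarTower R A B := IsScalarTower.of_algebraMap_eq fun a => by
    rw [RingHom.algebraMap_toAlgebra, Localization.localRingHom_to_map,
      IsScalarTower.algebraMap_apply R S B]
  have : IsLocalHom (algebraMap A B) :=
    Localization.isLocalHom_localRingHom _ q (algebraMap R S) rfl
  have : Module.Flat R B := Module.Flat.trans R S B
  have : Module.Flat A B :=
    (Module.flat_iff_of_isLocalization A (q.comap (algebraMap R S)).primeCompl B).mpr inferInstance
  have hrad : IsLocalRing.maximalIdeal B ≤
      ((IsLocalRing.maximalIdeal A).map (algebraMap A B)).radical := by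
    rw [← Localization.AtPrime.map_eq_maximalIdeal (I := q.comap (algebraMap R S)), Ideal.map_map,
      ← IsScalarTower.algebraMap_eq, IsScalarTower.algebraMap_eq R S B, ← Ideal.map_map,
      IsLocalization.AtPrime.radical_map_of_mem_minimalPrimes B q _ hq,
      Localization.AtPrime.map_eq_maximalIdeal]
  have : Nontrivial (B ⧸ (IsLocalRing.maximalIdeal A).map (algebraMap A B)) :=
    Ideal.Quotient.nontrivial_iff.mpr (Groth.Calg4.map_maximalIdeal_ne_top (A := A) (B := B))
  have : IsLocalRing (B ⧸ (IsLocalRing.maximalIdeal A).map (algebraMap A B)) :=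
    IsLocalRing.of_surjective' _ Ideal.Quotient.mk_surjective
  have hdim : ringKrullDim A ≤ ringKrullDim B := by
    rw [Groth.Calg4.ringKrullDim_eq_add_of_flat A B]
    exact le_add_of_nonneg_right ringKrullDim_nonneg_of_nontrivial
  have eA : Module.supportDim A (LocalizedModule (q.comap (algebraMap R S)).primeCompl R) = ringKrullDim A :=
    Module.supportDim_self_eq_ringKrullDim A
  have eB : Module.supportDim B (LocalizedModule q.primeCompl S) = ringKrullDim B :=
    Module.supportDim_self_eq_ringKrullDim B
  rw [eA]
  refine (min_le_min le_rfl hdim).trans ?_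
  rw [← eB]
  exact (hS q).trans (WithBot.coe_le_coe.mpr (Groth.Calg4.depth_le_of_flat hrad))

end Groth.Agent.S9437
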