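import Groth.Statements.S15842
import Mathlib

set_option autoImplicit false
universe u
open SprIso

namespace Groth.Agent.S15842

lemma quot_smul {R : Type u} [CommRing R] (I : Ideal R) (f x : R) :
    f • Ideal.Quotient.mk I x = Ideal.Quotient.mk I (f * x) := rfl

open Polynomial in
lemma exists_cyclic {K : Type u} [Field K] {n : ℕ} (g : Matrix (Fin n) (Fin n) K)
    (hreg : Module.finrank K (Subalgebra.centralizer K ({g} : Set (Matrix (Fin n) (Fin n) K))) ≤ n) :
    ∃ v : Fin n → K, (Matrix.of fun r (j : Fin n) => (g ^ (j : ℕ)).mulVec v r).det ≠ 0 := by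
  classical
  let φ := Matrix.toLin' g
  obtain ⟨ι, _, p, hp, e, ⟨E⟩⟩ := Module.equiv_directSum_of_isTorsion
    (Module.AEval.isTorsion_of_finiteDimensional K (Fin n → K) φ)
  let E' : Module.AEval' φ ≃ₗ[K[X]] ((k : ι) → K[X] ⧸ Ideal.span {p k ^ e k}) := E.trans (DirectSum.linearEquivFunOnFintype K[X] ι _)
  let ψ : (Fin n → K) ≃ₗ[K] ((k : ι) → K[X] ⧸ Ideal.span {p k ^ e k}) := (Module.AEval'.of φ).trans (E'.restrictScalars K)
  have hψ : ∀ v, ψ (φ v) = (X : K[X]) • ψ v := fun v => by
    show E' (Module.AEval'.of φ (φ v)) = X • E' (Module.AEval'.of φ v)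
    rw [← map_smul, Module.AEval'.X_smul_of]
  by_cases hco : ∀ i j, i ≠ j → IsCoprime (Ideal.span {p i ^ e i}) (Ideal.span {p j ^ e j})
  · -- cyclic
    have hgen : ∀ z : ((k : ι) → K[X] ⧸ Ideal.span {p k ^ e k}), ∃ f : K[X], f • (1 : ((k : ι) → K[X] ⧸ Ideal.span {p k ^ e k})) = z := fun z => by
      choose q hq using fun i => Ideal.Quotient.mk_surjective (z i)
      obtain ⟨f, hf⟩ := Ideal.exists_forall_sub_mem_ideal (fun i j h => hco i j h) q
      refine ⟨f, funext fun i => ?_⟩
      rw [Pi.smul_apply, Pi.one_apply, ← hq i, ← map_one (Ideal.Quotient.mk _), quot_smul, mul_one]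
      exact Ideal.Quotient.eq.mpr (hf i)
    let v := ψ.symm 1
    have haev : ∀ f : K[X], ψ ((aeval φ f) v) = f • (1 : ((k : ι) → K[X] ⧸ Ideal.span {p k ^ e k})) := fun f => by
      show E' (Module.AEval'.of φ ((aeval φ f) • v)) = _
      rw [show Module.AEval'.of φ ((aeval φ f) • v) = f • Module.AEval'.of φ v from
        Module.AEval.of_aeval_smul (a := φ) (f := f) (m := v), map_smul]
      exact congrArg (f • ·) (ψ.apply_symm_apply 1)
    refine ⟨v, fun hdet => ?_⟩
    set M := Matrix.of fun r (j : Fin n) => (g ^ (j : ℕ)).mulVec v r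
    have hsurj : Function.Surjective M.mulVec := fun w => by
      obtain ⟨f, hf⟩ := hgen (ψ w)
      let r := f %ₘ φ.charpoly
      have hr : (aeval φ r) v = w := by
        have : aeval φ r = aeval φ f := by
          have := modByMonic_add_div f φ.charpoly
          conv_rhs => rw [← this]
          rw [map_add, map_mul, φ.aeval_self_charpoly, zero_mul, add_zero]
        rw [this]
        exact ψ.injective ((haev f).trans hf)
      have hdeg : r.natDegree < n ∨ r = 0 := by
        by_cases h0 : r = 0
        · exact Or.inr h0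
        · left
          have h2 : r.degree < φ.charpoly.degree := degree_modByMonic_lt f φ.charpoly_monic
          rw [degree_eq_natDegree φ.charpoly_monic.ne_zero, degree_eq_natDegree h0,
            LinearMap.charpoly_natDegree, Module.finrank_fin_fun] at h2
          exact_mod_cast h2
      refine ⟨fun j => r.coeff j, ?_⟩
      rcases hdeg with hdeg | h0
      · rw [← hr, aeval_eq_sum_range' hdeg, ← Fin.sum_univ_eq_sum_range, LinearMap.sum_apply]
        ext a
        simp only [Matrix.mulVec, dotProduct, M, Matrix.of_apply, Finset.sum_apply]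
        refine Finset.sum_congr rfl fun j _ => ?_
        have : (φ ^ (j : ℕ)) v = (g ^ (j : ℕ)).mulVec v := by
          rw [← Matrix.toLin'_pow, Matrix.toLin'_apply]
        simp [this, Matrix.mulVec, dotProduct, mul_comm]
      · rw [← hr, h0]
        simp [Matrix.mulVec_zero, show (fun _ : Fin n => (0 : K)) = 0 from rfl]
    exact ((Matrix.isUnit_iff_isUnit_det _).mp
      (Matrix.mulVec_surjective_iff_isUnit.mp hsurj)).ne_zero hdet
  · exfalso
    push Not at hco
    obtain ⟨i, j, hij, hnc⟩ := hco
    rw [Ideal.isCoprime_span_singleton_iff] at hnc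
    have hei : e i ≠ 0 := fun h => hnc (by rw [h, pow_zero]; exact isCoprime_one_left)
    have hej : e j ≠ 0 := fun h => hnc (by rw [h, pow_zero]; exact isCoprime_one_right)
    have hdvd : p j ∣ p i := by
      by_contra h
      exact hnc (((hp j).coprime_iff_not_dvd.mpr h).symm.pow)
    let c : K[X] ⧸ Ideal.span {p j ^ e j} := Ideal.Quotient.mk _ (p j ^ (e j - 1))
    have hc0 : c ≠ 0 := fun h => by
      rw [Ideal.Quotient.eq_zero_iff_mem, Ideal.mem_span_singleton,
        pow_dvd_pow_iff (hp j).ne_zero (hp j).not_isUnit] at h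
      omega
    let hm : K[X] ⧸ Ideal.span {p i ^ e i} →ₗ[K[X]] K[X] ⧸ Ideal.span {p j ^ e j} :=
      Submodule.liftQ _ (LinearMap.toSpanSingleton K[X] _ c) (by
        intro a ha
        obtain ⟨b, rfl⟩ := Ideal.mem_span_singleton.mp ha
        rw [LinearMap.mem_ker, LinearMap.toSpanSingleton_apply, quot_smul,
          Ideal.Quotient.eq_zero_iff_mem, Ideal.mem_span_singleton]
        have h1 : p j ∣ p i ^ e i := hdvd.trans (dvd_pow_self _ hei)
        calc p j ^ e j = p j * p j ^ (e j - 1) := by rw [← pow_succ', Nat.sub_add_cancel (by omega)]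
          _ ∣ _ := mul_dvd_mul_right (h1.mul_right b) _)
    have hm1 : hm 1 = c := by
      show Submodule.liftQ _ _ _ (Submodule.Quotient.mk 1) = c
      rw [Submodule.liftQ_apply, LinearMap.toSpanSingleton_apply, one_smul]
    have hs1 : ∀ (t : K) (y), (Pi.single j (t • y) : ((k : ι) → K[X] ⧸ Ideal.span {p k ^ e k})) = t • (Pi.single j y : ((k : ι) → K[X] ⧸ Ideal.span {p k ^ e k})) := fun t y =>
      (LinearMap.single K (fun k => K[X] ⧸ Ideal.span {p k ^ e k}) j).map_smul t y
    have hs2 : ∀ (f : K[X]) (y), (Pi.single j (f • y) : ((k : ι) → K[X] ⧸ Ideal.span {p k ^ e k})) = f • (Pi.single j y : ((k : ι) → K[X] ⧸ Ideal.span {p k ^ e k})) := fun f y =>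
      (LinearMap.single K[X] (fun k => K[X] ⧸ Ideal.span {p k ^ e k}) j).map_smul f y
    let T : ((k : ι) → K[X] ⧸ Ideal.span {p k ^ e k}) × K →ₗ[K] (((k : ι) → K[X] ⧸ Ideal.span {p k ^ e k}) →ₗ[K] ((k : ι) → K[X] ⧸ Ideal.span {p k ^ e k})) :=
      { toFun := fun w =>
          { toFun := fun x : ((k : ι) → K[X] ⧸ Ideal.span {p k ^ e k}) => w.1 * x + w.2 • (Pi.single j (hm (x i)) : ((k : ι) → K[X] ⧸ Ideal.span {p k ^ e k}))
            map_add' := fun x y => by
              rw [mul_add, Pi.add_apply, map_add, Pi.single_add, smul_add]; abel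
            map_smul' := fun t x => by
              rw [RingHom.id_apply, mul_smul_comm, Pi.smul_apply, LinearMap.map_smul_of_tower,
                hs1, smul_add, smul_comm t w.2] }
        map_add' := fun w w' => by
          refine LinearMap.ext fun x => ?_
          show (w.1 + w'.1) * x + (w.2 + w'.2) • _ = _ + _
          refine (congrArg₂ (· + ·) (add_mul w.1 w'.1 x) (Module.add_smul w.2 w'.2 _)).trans ?_
          exact add_add_add_comm _ _ _ _
        map_smul' := fun t w => by
          refine LinearMap.ext fun x => ?_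
          show (t • w.1) * x + (t • w.2) • _ = t • (_ + _)
          rw [smul_mul_assoc, smul_add, smul_assoc] }
    have hT : ∀ w x, T w ((X : K[X]) • x) = (X : K[X]) • T w x := fun w x => by
      show w.1 * (X • x) + w.2 • _ = X • (w.1 * x + w.2 • _)
      rw [mul_smul_comm, Pi.smul_apply, map_smul, hs2, smul_add, smul_comm w.2]
    let N : ((k : ι) → K[X] ⧸ Ideal.span {p k ^ e k}) × K →ₗ[K] Subalgebra.centralizer K ({g} : Set (Matrix (Fin n) (Fin n) K)) :=
      LinearMap.codRestrict (Subalgebra.centralizer K {g}).toSubmodule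
        ((LinearMap.toMatrix' : ((Fin n → K) →ₗ[K] (Fin n → K)) ≃ₗ[K] _).toLinearMap ∘ₗ
          (LinearEquiv.arrowCongr ψ.symm ψ.symm).toLinearMap ∘ₗ T) fun w => by
        refine (Subalgebra.mem_centralizer_iff K).mpr fun y hy => ?_
        rw [Set.mem_singleton_iff.mp hy]
        apply Matrix.toLin'.injective
        refine LinearMap.ext fun v => ψ.injective ?_
        simp only [LinearMap.coe_comp, LinearEquiv.coe_coe, Function.comp_apply, Matrix.toLin'_mul,
          Matrix.toLin'_toMatrix', LinearEquiv.arrowCongr_apply, LinearEquiv.symm_symm,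
          LinearEquiv.apply_symm_apply]
        show ψ (φ (ψ.symm (T w (ψ v)))) = T w (ψ (φ v))
        rw [hψ, hψ, LinearEquiv.apply_symm_apply, hT]
    have hN : Function.Injective N := by
      intro w w' h
      have hTw : T w = T w' := (LinearEquiv.arrowCongr ψ.symm ψ.symm).injective
        (LinearMap.toMatrix'.injective (congrArg Subtype.val h))
      have h0 := congrFun (LinearMap.congr_fun hTw (Pi.single i 1)) j
      change (w.1 * (Pi.single i 1 : ((k : ι) → K[X] ⧸ Ideal.span {p k ^ e k})) + w.2 • (Pi.single j (hm ((Pi.single i 1 : ((k : ι) → K[X] ⧸ Ideal.span {p k ^ e k})) i)) : ((k : ι) → K[X] ⧸ Ideal.span {p k ^ e k}))) j =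
        (w'.1 * (Pi.single i 1 : ((k : ι) → K[X] ⧸ Ideal.span {p k ^ e k})) + w'.2 • (Pi.single j (hm ((Pi.single i 1 : ((k : ι) → K[X] ⧸ Ideal.span {p k ^ e k})) i)) : ((k : ι) → K[X] ⧸ Ideal.span {p k ^ e k}))) j at h0
      simp only [Pi.single_eq_same, Pi.add_apply, Pi.mul_apply, Pi.smul_apply,
        Pi.single_eq_of_ne hij.symm, mul_zero, zero_add, hm1] at h0
      have h2 : w.2 = w'.2 := by
        by_contra hne
        rw [← sub_eq_zero, ← sub_smul, smul_eq_zero] at h0
        exact h0.elim (sub_ne_zero.mpr hne) hc0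
      have h1 := LinearMap.congr_fun hTw 1
      change w.1 * 1 + w.2 • (Pi.single j (hm ((1 : ((k : ι) → K[X] ⧸ Ideal.span {p k ^ e k})) i)) : ((k : ι) → K[X] ⧸ Ideal.span {p k ^ e k})) =
        w'.1 * 1 + w'.2 • (Pi.single j (hm ((1 : ((k : ι) → K[X] ⧸ Ideal.span {p k ^ e k})) i)) : ((k : ι) → K[X] ⧸ Ideal.span {p k ^ e k})) at h1
      rw [h2, mul_one, mul_one, add_left_inj] at h1
      exact Prod.ext h1 h2
    have h1 := LinearMap.finrank_le_finrank_of_injective hN
    have : Module.Finite K ((k : ι) → K[X] ⧸ Ideal.span {p k ^ e k}) := Module.Finite.equiv ψ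
    rw [Module.finrank_prod, ← ψ.finrank_eq, Module.finrank_fin_fun, Module.finrank_self] at h1
    exact absurd (h1.trans hreg) (by omega)

lemma det_smul_commute {B : Type u} [CommRing B] {n : ℕ} (g x y : Matrix (Fin n) (Fin n) B)
    (v : Fin n → B) (hxg : x * g = g * x) (hyg : y * g = g * y) :
    (Matrix.of fun r (j : Fin n) => (g ^ (j : ℕ)).mulVec v r).det ^ 3 • (x * y - y * x) = 0 := by
  set M := Matrix.of fun r (j : Fin n) => (g ^ (j : ℕ)).mulVec v r with hM
  have hcol : ∀ c : Fin n → B, M.mulVec c = ∑ j : Fin n, c j • (g ^ (j : ℕ)).mulVec v := fun c => by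
    ext a
    simp [hM, Matrix.mulVec, dotProduct, mul_comm]
  -- every element of the commutant is a polynomial in `g` on `v`, up to `det`
  have key : ∀ z : Matrix (Fin n) (Fin n) B, ∃ q : Matrix (Fin n) (Fin n) B,
      M.det • z.mulVec v = q.mulVec v ∧ ∀ w, Commute w g → Commute w q := fun z => by
    let c := M.adjugate.mulVec (z.mulVec v)
    refine ⟨∑ j : Fin n, c j • g ^ (j : ℕ), ?_, fun w hw => ?_⟩
    · rw [Matrix.sum_mulVec]
      simp only [Matrix.smul_mulVec]
      rw [← hcol, Matrix.mulVec_mulVec, Matrix.mul_adjugate, Matrix.smul_mulVec, Matrix.one_mulVec]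
    · exact Commute.sum_right _ _ _ fun j _ => (hw.pow_right _).smul_right _
  obtain ⟨p, hp, hpc⟩ := key x
  obtain ⟨q, hq, hqc⟩ := key y
  have hpq : Commute p q := hqc p ((hpc g (Commute.refl g)).symm)
  have hxq : Commute x q := hqc x hxg
  have hyp : Commute y p := hpc y hyg
  have hv : M.det ^ 2 • (x * y - y * x).mulVec v = 0 := by
    have e1 : M.det ^ 2 • x.mulVec (y.mulVec v) = q.mulVec (p.mulVec v) := by
      rw [sq, mul_smul, ← Matrix.mulVec_smul, hq, Matrix.mulVec_mulVec, hxq.eq,
        ← Matrix.mulVec_mulVec, ← Matrix.mulVec_smul, hp]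
    have e2 : M.det ^ 2 • y.mulVec (x.mulVec v) = p.mulVec (q.mulVec v) := by
      rw [sq, mul_smul, ← Matrix.mulVec_smul, hp, Matrix.mulVec_mulVec, hyp.eq,
        ← Matrix.mulVec_mulVec, ← Matrix.mulVec_smul, hq]
    rw [Matrix.sub_mulVec, smul_sub, ← Matrix.mulVec_mulVec, ← Matrix.mulVec_mulVec, e1, e2,
      Matrix.mulVec_mulVec, Matrix.mulVec_mulVec, hpq.eq, sub_self]
  set D := M.det ^ 2 • (x * y - y * x) with hD
  have hDg : Commute D g := Commute.smul_left
    (((show Commute x g from hxg).mul_left hyg).sub_left ((show Commute y g from hyg).mul_left hxg)) _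
  have hDM : D * M = 0 := by
    ext a j
    have : D.mulVec ((g ^ (j : ℕ)).mulVec v) = 0 := by
      rw [Matrix.mulVec_mulVec, (hDg.pow_right _).eq, ← Matrix.mulVec_mulVec, hD,
        Matrix.smul_mulVec, hv, Matrix.mulVec_zero]
    exact congrFun this a
  have := congrArg (· * M.adjugate) hDM
  simp only [Matrix.mul_assoc, Matrix.mul_adjugate, Matrix.mul_smul, mul_one, Matrix.zero_mul] at this
  rw [hD, smul_smul, ← pow_succ'] at this
  exact this

/-- General linear group case: this is the case G = GL_n (its derived group SL_n is simply connected and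
every prime is good for it, so the hypotheses on the fundamental group and on the characteristic
that the general statement needs hold over every base, and strong regularity is regularity). Let A
be a commutative ring and g an n × n matrix over A — a section of GL_n when invertible, or of its
Lie algebra gl_n = M_n in general, the centralizer being in both cases the invertible matrices
commuting with g — which is fiberwise regular, i.e. at every field-valued point A → K the commutant
of g_K in M_n(K) has dimension n, the rank of GL_n. Then the centralizer of g in GL_n is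
commutative: for every commutative A-algebra B and all invertible x, y ∈ M_n(B) commuting with g_B,
x y = y x. -/
theorem result (A : Type u) [CommRing A] (n : ℕ)
    (g : Matrix (Fin n) (Fin n) A)
    (hreg : ∀ (K : Type u) [Field K] (φ : A →+* K),
      Module.finrank K (Subalgebra.centralizer K ({g.map φ} : Set (Matrix (Fin n) (Fin n) K))) = n)
    (B : Type u) [CommRing B] [Algebra A B] (x y : Matrix (Fin n) (Fin n) B) (hx : IsUnit x) (hy : IsUnit y)
    (hxg : x * g.map (algebraMap A B) = g.map (algebraMap A B) * x)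
    (hyg : y * g.map (algebraMap A B) = g.map (algebraMap A B) * y) :
    x * y = y * x := by
  rw [← sub_eq_zero]
  set D := x * y - y * x
  let I : Ideal A :=
    { carrier := {a | algebraMap A B a • D = 0}
      zero_mem' := by simp
      add_mem' := fun {a b} (ha : _ = _) (hb : _ = _) => by
        show algebraMap A B (a + b) • D = 0
        rw [map_add, add_smul, ha, hb, add_zero]
      smul_mem' := fun c a (ha : _ = _) => by
        show algebraMap A B (c * a) • D = 0
        rw [map_mul, mul_smul, ha, smul_zero] }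
  have hI : I = ⊤ := by
    by_contra hne
    obtain ⟨m, hm, hle⟩ := Ideal.exists_le_maximal I hne
    let φ := algebraMap A (A ⧸ m)
    let := Ideal.Quotient.field m
    obtain ⟨v, hv⟩ := exists_cyclic (g.map φ) (hreg _ φ).le
    choose v' hv' using fun i => Ideal.Quotient.mk_surjective (v i)
    have hM : ∀ {C : Type u} [CommRing C] (ψ : A →+* C) (w : Fin n → A),
        (Matrix.of fun r (j : Fin n) => ((g.map ψ) ^ (j : ℕ)).mulVec (ψ ∘ w) r).det =
          ψ (Matrix.of fun r (j : Fin n) => (g ^ (j : ℕ)).mulVec w r).det := fun ψ w => by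
      rw [RingHom.map_det]
      congr 1
      ext r j
      rw [Matrix.of_apply, RingHom.mapMatrix_apply, Matrix.map_apply, Matrix.of_apply,
        RingHom.map_mulVec, ← RingHom.mapMatrix_apply, ← RingHom.mapMatrix_apply, map_pow]
    set d := (Matrix.of fun r (j : Fin n) => (g ^ (j : ℕ)).mulVec v' r).det
    have hd : d ∉ m := by
      intro h
      apply hv
      rw [show v = φ ∘ v' from funext fun i => (hv' i).symm, hM φ v']
      exact Ideal.Quotient.eq_zero_iff_mem.mpr h
    have h3 : d ^ 3 ∈ I := by
      show algebraMap A B (d ^ 3) • D = 0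
      rw [map_pow, ← hM (algebraMap A B) v']
      exact det_smul_commute _ x y _ hxg hyg
    exact hd (hm.isPrime.mem_of_pow_mem 3 (hle h3))
  have h1 : algebraMap A B 1 • D = 0 := (Ideal.eq_top_iff_one I).mp hI
  rwa [map_one, one_smul] at h1

end Groth.Agent.S15842
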