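import Groth.Statements.S7113
import Mathlib
import Groth.Agent.Calg3.Serre

set_option autoImplicit false
universe u
open CAlg

namespace Groth.Agent.S7113
open Groth.Calg3

theorem indep_of_split {R : Type u} [CommRing R] {M : Type u} [AddCommGroup M] [Module R M]
    [Module.FinitePresentation R M] (x : Ideal R) [x.IsMaximal] {n : ℕ}
    (h : ∃ (f : (Fin n → Localization.AtPrime x) →ₗ[Localization.AtPrime x] LocalizedModule x.primeCompl M)
        (g : LocalizedModule x.primeCompl M →ₗ[Localization.AtPrime x] (Fin n → Localization.AtPrime x)),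
        g ∘ₗ f = LinearMap.id) : ∃ w : Fin n → M, Indep x w := by
  obtain ⟨f, g, hgf⟩ := h
  let j := LocalizedModule.mkLinearMap x.primeCompl M
  choose wu hwu using fun i => IsLocalizedModule.surj x.primeCompl j (f (Pi.single i 1))
  choose φ s hφ using fun i => Module.FinitePresentation.exists_lift_of_isLocalizedModule x.primeCompl
    (Algebra.linearMap R (Localization.AtPrime x))
    (((LinearMap.proj i : (Fin n → Localization.AtPrime x) →ₗ[Localization.AtPrime x] _) ∘ₗ g).restrictScalars R ∘ₗ j)
  refine ⟨fun i => (wu i).1, φ, fun hdet => ?_⟩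
  let a := algebraMap R (Localization.AtPrime x)
  have he : ∀ i k, a (φ i (wu k).1) = a (s i : R) * (a ((wu k).2 : R) * (if k = i then 1 else 0)) := by
    intro i k
    have h1 := LinearMap.congr_fun (hφ i) (wu k).1
    simp only [LinearMap.comp_apply, Algebra.linearMap_apply, LinearMap.smul_apply,
      LinearMap.restrictScalars_apply, LinearMap.proj_apply] at h1
    rw [h1, ← hwu k]
    simp only [Submonoid.smul_def, LinearMap.map_smul_of_tower, ← LinearMap.comp_apply, hgf, LinearMap.id_apply,
      Pi.smul_apply, Pi.single_apply, Algebra.smul_def]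
    by_cases hki : k = i
    · subst hki; simp [a]
    · simp [hki, Ne.symm hki]
  have e : a.mapMatrix (Matrix.of fun i k => φ i (wu k).1) =
      Matrix.diagonal fun i => a (s i) * a (wu i).2 := by
    ext i k
    rw [RingHom.mapMatrix_apply, Matrix.map_apply, Matrix.of_apply, he, Matrix.diagonal_apply]
    by_cases hik : i = k
    · subst hik; simp [a]
    · simp [hik, Ne.symm hik]
  have hu : IsUnit (a (Matrix.of fun i k => φ i (wu k).1).det) := by
    rw [RingHom.map_det, e, Matrix.det_diagonal]
    exact IsUnit.prod_iff.2 fun i _ => (IsLocalization.map_units _ (s i)).mul (IsLocalization.map_units _ (wu i).2)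
  exact ((IsLocalization.AtPrime.isUnit_to_map_iff (Localization.AtPrime x) x _).1 hu) hdet


/-- Let R be a ring whose set of maximal ideals, with the Zariski topology, is a Noetherian topological
space of Krull dimension at most d, and let M be an R-module of finite presentation whose
localization M_m at each maximal ideal m contains a free direct summand of rank d + 1. Then M is
isomorphic to R ⊕ M' for some M': there are s in M and a linear form φ on M with φ(s) = 1. (The
published statement takes the dimension equal to d; a space of smaller dimension satisfies the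
hypothesis for a smaller d, so the bound form is equivalent.) -/
theorem result (R : Type u) [CommRing R] (d : ℕ)
    [TopologicalSpace.NoetherianSpace (MaximalSpectrum R)]
    (hdim : topologicalKrullDim (MaximalSpectrum R) ≤ d)
    (M : Type u) [AddCommGroup M] [Module R M] [Module.FinitePresentation R M]
    (hM : ∀ (m : Ideal R) [m.IsMaximal],
      ∃ (f : (Fin (d + 1) → Localization.AtPrime m) →ₗ[Localization.AtPrime m] LocalizedModule m.primeCompl M)
        (g : LocalizedModule m.primeCompl M →ₗ[Localization.AtPrime m] (Fin (d + 1) → Localization.AtPrime m)),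
        g ∘ₗ f = LinearMap.id) :
    ∃ (s : M) (φ : M →ₗ[R] R), φ s = 1 := by
  classical
  have hdimI : ∀ x : MaximalSpectrum R, ∃ w : Fin (0 + (d + 1)) → M, Indep x.asIdeal w := by
    intro x
    rw [zero_add]
    exact indep_of_split x.asIdeal (hM x.asIdeal)
  have h0 : ∀ x : MaximalSpectrum R, Indep x.asIdeal (Fin.elim0 : Fin 0 → M) := fun x =>
    ⟨Fin.elim0, by simpa [Matrix.det_fin_zero] using x.asIdeal.ne_top_iff_one.1 x.isMaximal.ne_top⟩
  obtain ⟨t, F', -, -, hbad, hk⟩ := exists_general_position (d + 1) (Fin.elim0 : Fin 0 → M) ∅ isClosed_empty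
    (fun x hx => absurd (h0 x) hx) hdimI ∅ (fun x hx => absurd hx (Finset.notMem_empty x)) 0
  have hgood : ∀ x : MaximalSpectrum R, Indep x.asIdeal (Fin.snoc (Fin.elim0 : Fin 0 → M) t) := by
    intro x
    by_contra hx
    rcases hbad x hx with hh | hh
    · exact hh
    obtain ⟨S, hSf, hS, hSc⟩ := exists_pieces (isClosed_setOf_not_indep (R := R) (M := M) (Fin.snoc (Fin.elim0 : Fin 0 → M) t)) ∅
    rcases hSc hx with h' | h'
    · exact h'
    obtain ⟨W, hW, -⟩ := Set.mem_iUnion₂.1 h'
    have hWF : (W : Set (MaximalSpectrum R)) ⊆ F' := fun y hy => (hbad y ((hS W hW).1 hy)).resolve_left id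
    have h1 := hk W hWF
    have h2 : (Order.coheight W : WithBot ℕ∞) ≤ d := le_trans (Order.coheight_le_krullDim W) hdim
    have h3 := (WithBot.coe_le_coe.2 h1).trans h2
    norm_cast at h3
    omega
  let I : Ideal R := LinearMap.range (LinearMap.applyₗ t : (M →ₗ[R] R) →ₗ[R] R)
  have hI : I = ⊤ := by
    by_contra hne
    obtain ⟨m, hm, hle⟩ := Ideal.exists_le_maximal I hne
    obtain ⟨φ, hφ⟩ := hgood ⟨m, hm⟩
    refine hφ (hle ⟨φ 0, ?_⟩)
    simp [Matrix.det_fin_one, Fin.snoc]
  obtain ⟨φ, hφ⟩ := (Ideal.eq_top_iff_one I).1 hI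
  exact ⟨t, φ, hφ⟩

end Groth.Agent.S7113
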