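import Groth.Statements.S6304
import Mathlib

set_option autoImplicit false
universe u
open CAlg

namespace Groth.Agent.S6304

/-- In a short exact sequence 0 → M' → M → M'' → 0 of R-modules whose right-hand term M'' is flat, the
middle term M is flat when M' is, and M' is flat when M is. -/
theorem result {R : Type u} [CommRing R] {M' M M'' : Type u} [AddCommGroup M'] [Module R M'] [AddCommGroup M] [Module R M] [AddCommGroup M''] [Module R M''] (f : M' →ₗ[R] M) (g : M →ₗ[R] M'') (hf : Function.Injective f) (hexact : Function.Exact f g) (hg : Function.Surjective g) [Module.Flat R M''] : (Module.Flat R M' → Module.Flat R M) ∧ (Module.Flat R M → Module.Flat R M') := by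
  constructor
  · intro hM'
    refine Module.Flat.iff_rTensor_injective'.2 fun I => ?_
    refine (injective_iff_map_eq_zero _).2 fun x hx => ?_
    have h1 : g.lTensor R (I.subtype.rTensor M x) = I.subtype.rTensor M'' (g.lTensor I x) :=
      (LinearMap.congr_fun ((LinearMap.lTensor_comp_rTensor _ _ _).trans (LinearMap.rTensor_comp_lTensor _ _ _).symm) x)
    have h2 : g.lTensor I x = 0 := by
      refine Module.Flat.iff_rTensor_injective'.1 inferInstance I ?_
      rw [← h1, hx]; simp
    obtain ⟨y, rfl⟩ := (lTensor_exact I hexact hg x).1 h2
    have h3 : f.lTensor R (I.subtype.rTensor M' y) = I.subtype.rTensor M (f.lTensor I y) :=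
      (LinearMap.congr_fun ((LinearMap.lTensor_comp_rTensor _ _ _).trans (LinearMap.rTensor_comp_lTensor _ _ _).symm) y)
    have h4 : y = 0 := by
      refine Module.Flat.iff_rTensor_injective'.1 hM' I (Module.Flat.lTensor_preserves_injective_linearMap (M := R) f hf ?_)
      rw [h3, hx]; simp
    simp [h4]
  · intro hM
    refine Module.Flat.iff_rTensor_injective'.2 fun I => ?_
    refine (injective_iff_map_eq_zero _).2 fun x hx => ?_
    have h3 : f.lTensor R (I.subtype.rTensor M' x) = I.subtype.rTensor M (f.lTensor I x) :=
      (LinearMap.congr_fun ((LinearMap.lTensor_comp_rTensor _ _ _).trans (LinearMap.rTensor_comp_lTensor _ _ _).symm) x)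
    have h4 : f.lTensor I x = 0 := by
      refine Module.Flat.iff_rTensor_injective'.1 hM I ?_
      rw [← h3, hx]; simp
    exact (injective_iff_map_eq_zero _).1 (LinearMap.lTensor_injective_of_exact_of_flat g hg f hf hexact I) x h4

end Groth.Agent.S6304
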