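import Groth.Statements.S9272
import Groth.Agent.Misc6.FlatInj
import Groth.Agent.S6304

set_option autoImplicit false
universe u
open CAlgX

namespace Groth.Agent.S9272


open TensorProduct

/-- Elements of `J^m` are values of forms of degree `m`. -/
theorem exists_homogeneous_of_mem_pow {B : Type u} [CommRing B] {r : ℕ} (f : Fin r → B) :
    ∀ (m : ℕ) (y : B), y ∈ Ideal.span (Set.range f) ^ m →
      ∃ P : MvPolynomial (Fin r) B, P.IsHomogeneous m ∧ MvPolynomial.eval f P = y := by
  intro m
  induction m with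
  | zero => exact fun y _ => ⟨MvPolynomial.C y, MvPolynomial.isHomogeneous_C _ y, MvPolynomial.eval_C y⟩
  | succ m ih =>
    intro y hy
    rw [pow_succ] at hy
    refine Submodule.mul_induction_on hy (fun a ha b hb => ?_) (fun a b ha hb => ?_)
    · obtain ⟨P, hP, rfl⟩ := ih a ha
      obtain ⟨c, rfl⟩ := Ideal.mem_span_range_iff_exists_fun.mp hb
      refine ⟨P * ∑ i, MvPolynomial.C (c i) * MvPolynomial.X i, hP.mul ?_, by simp⟩
      exact MvPolynomial.IsHomogeneous.sum _ _ _ fun i _ =>
        (MvPolynomial.isHomogeneous_X B i).C_mul (c i)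
    · obtain ⟨P, hP, rfl⟩ := ha
      obtain ⟨Q, hQ, rfl⟩ := hb
      exact ⟨P + Q, hP.add hQ, map_add _ _ _⟩

/-- The graded pieces of a quasi-regular ideal with flat quotient: flatness of all `B/J^n`, and the
exact sequences `(B/J)^mon → B/J^(n+1) → B/J^n`. -/
theorem flat_pow (A B : Type u) [CommRing A] [CommRing B] [Algebra A B] (r : ℕ) (f : Fin r → B)
    (hflat : Module.Flat A (B ⧸ Ideal.span (Set.range f))) (hq : CAlgX.IsQuasiRegular f) (n : ℕ) :
    Module.Flat A (B ⧸ Ideal.span (Set.range f) ^ n) ∧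
      ∃ φ : ({e : Fin r →₀ ℕ // e.degree = n} →₀ B ⧸ Ideal.span (Set.range f)) →ₗ[A]
          (B ⧸ Ideal.span (Set.range f) ^ (n + 1)),
        Function.Injective φ ∧ ((∀ e b, φ (Finsupp.single e (Ideal.Quotient.mk _ b)) =
            Ideal.Quotient.mk _ (b * ∏ i, f i ^ e.1 i)) ∧
          Function.Exact φ ((Submodule.factor (Ideal.pow_le_pow_right (I := Ideal.span (Set.range f)) (Nat.le_succ n))).restrictScalars A) ∧
          True) := by
  classical
  set J := Ideal.span (Set.range f) with hJ
  have hmon : ∀ e : Fin r →₀ ℕ, ∏ i, f i ^ e i ∈ J ^ e.degree := by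
    intro e
    rw [show e.degree = ∑ i, e i by
      rw [Finsupp.degree_apply]
      exact Finset.sum_subset (Finset.subset_univ _) fun i _ hi => Finsupp.notMem_support_iff.mp hi]
    rw [← Finset.prod_pow_eq_pow_sum]
    exact Ideal.prod_mem_prod fun i _ => Ideal.pow_mem_pow
      (hJ ▸ Ideal.subset_span (Set.mem_range_self i)) _
  have piece : ∀ m, ∃ φ : ({e : Fin r →₀ ℕ // e.degree = m} →₀ B ⧸ J) →ₗ[A] (B ⧸ J ^ (m + 1)),
        Function.Injective φ ∧ ((∀ e b, φ (Finsupp.single e (Ideal.Quotient.mk _ b)) =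
            Ideal.Quotient.mk _ (b * ∏ i, f i ^ e.1 i)) ∧
          Function.Exact φ ((Submodule.factor (Ideal.pow_le_pow_right (I := J) (Nat.le_succ m))).restrictScalars A) ∧
          True) := by
    intro m
    let D := {e : Fin r →₀ ℕ // e.degree = m}
    let μ : D → (B ⧸ J) →ₗ[B] (B ⧸ J ^ (m + 1)) := fun e =>
      Submodule.liftQ J ((Submodule.mkQ (J ^ (m + 1))).comp (LinearMap.toSpanSingleton B B (∏ i, f i ^ e.1 i)))
        (fun b hb => by
          rw [LinearMap.mem_ker]
          refine (Submodule.Quotient.mk_eq_zero _).mpr ?_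
          rw [LinearMap.toSpanSingleton_apply, smul_eq_mul, pow_succ']
          refine Ideal.mul_mem_mul hb ?_
          have := hmon e.1
          rwa [e.2] at this)
    let φ : (D →₀ B ⧸ J) →ₗ[B] (B ⧸ J ^ (m + 1)) := Finsupp.lsum B μ
    have hval : ∀ e b, φ (Finsupp.single e (Ideal.Quotient.mk J b)) =
        Ideal.Quotient.mk _ (b * ∏ i, f i ^ e.1 i) := fun e b => by
      simp only [φ, Finsupp.lsum_single]
      rfl
    refine ⟨φ.restrictScalars A, ?_, hval, ?_, trivial⟩
    · show Function.Injective φ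
      rw [injective_iff_map_eq_zero]
      intro c hc
      choose b hb using fun e => Ideal.Quotient.mk_surjective (c e)
      let P : MvPolynomial (Fin r) B := ∑ e ∈ c.support, MvPolynomial.monomial e.1 (b e)
      have hP : P.IsHomogeneous m := MvPolynomial.IsHomogeneous.sum _ _ _ fun e _ =>
        MvPolynomial.isHomogeneous_monomial _ e.2
      have heval : Ideal.Quotient.mk (J ^ (m + 1)) (MvPolynomial.eval f P) = φ c := by
        conv_rhs => rw [← Finsupp.sum_single c, Finsupp.sum, map_sum]
        rw [map_sum, map_sum]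
        refine Finset.sum_congr rfl fun e _ => ?_
        rw [← hb, hval, MvPolynomial.eval_monomial]
        congr 2
        exact Finsupp.prod_fintype _ _ fun i => pow_zero _
      have hmem := hq m P hP (Ideal.Quotient.eq_zero_iff_mem.mp (heval.trans hc))
      ext e
      by_cases he : e ∈ c.support
      · have := hmem e.1
        rw [MvPolynomial.coeff_sum, Finset.sum_eq_single e] at this
        · rw [MvPolynomial.coeff_monomial, if_pos rfl, ← Ideal.Quotient.eq_zero_iff_mem, hb] at this
          exact this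
        · intro e' _ hne
          rw [MvPolynomial.coeff_monomial, if_neg fun h => hne (Subtype.ext h)]
        · exact fun h => absurd he h
      · exact Finsupp.notMem_support_iff.mp he
    · intro y
      refine ⟨fun hy => ?_, ?_⟩
      · obtain ⟨y, rfl⟩ := Ideal.Quotient.mk_surjective y
        have hy' : y ∈ J ^ m := Ideal.Quotient.eq_zero_iff_mem.mp hy
        rw [hJ] at hy'
        obtain ⟨P, hP, rfl⟩ := exists_homogeneous_of_mem_pow f m y hy'
        refine ⟨∑ e ∈ P.support.attach, Finsupp.single (⟨e.1, by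
          rw [Finsupp.degree_eq_weight_one]; exact hP (MvPolynomial.mem_support_iff.mp e.2)⟩ : D)
            (Ideal.Quotient.mk J (P.coeff e.1)), ?_⟩
        show φ _ = _
        rw [map_sum]
        simp only [hval]
        rw [Finset.sum_attach P.support (fun e => Ideal.Quotient.mk (J ^ (m + 1)) (P.coeff e * ∏ i, f i ^ e i)),
          ← map_sum, MvPolynomial.eval_eq']
      · rintro ⟨c, rfl⟩
        show (Submodule.factor (Ideal.pow_le_pow_right (I := J) (Nat.le_succ m))) (φ c) = 0
        induction c using Finsupp.induction_linear with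
        | zero => simp
        | add x y hx hy => simp only [map_add, hx, hy, add_zero]
        | single e b =>
          obtain ⟨b, rfl⟩ := Ideal.Quotient.mk_surjective b
          rw [hval]
          have := hmon e.1
          rw [e.2] at this
          exact Ideal.Quotient.eq_zero_iff_mem.mpr (Ideal.mul_mem_left _ b this)
  refine ⟨?_, piece n⟩
  induction n with
  | zero =>
    have : Subsingleton (B ⧸ J ^ 0) := Ideal.Quotient.subsingleton_iff.mpr (by simp)
    infer_instance
  | succ m ih =>
    obtain ⟨φ, hinj, -, hex, -⟩ := piece m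
    have := hflat
    have : Module.Flat A ({e : Fin r →₀ ℕ // e.degree = m} →₀ B ⧸ J) := Module.Flat.of_linearEquiv
      (TensorProduct.finsuppScalarRight A A (B ⧸ J) {e : Fin r →₀ ℕ // e.degree = m}).symm
    exact (Groth.Agent.S6304.result φ _ hinj hex (Submodule.factor_surjective (Ideal.pow_le_pow_right (I := J) (Nat.le_succ m)))).1 this

/-- Let A → B and A → A' be ring maps and B' = A' ⊗_A B. If f_1, ..., f_r is a quasi-regular sequence in
B with B/(f_1, ..., f_r) flat over A, then the images of the f_i in B' form a quasi-regular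
sequence. -/
theorem result (A B A' : Type u) [CommRing A] [CommRing B]
    [CommRing A'] [Algebra A B] [Algebra A A'] (r : ℕ) (f : Fin r → B)
    (hflat : Module.Flat A (B ⧸ Ideal.span (Set.range f))) (hq : CAlgX.IsQuasiRegular f) :
    CAlgX.IsQuasiRegular (fun i => ((1 : A') ⊗ₜ[A] f i : TensorProduct A A' B)) := by
  classical
  let J : Ideal B := Ideal.span (Set.range f)
  let B' := TensorProduct A A' B
  let f' : Fin r → B' := fun i => (1 : A') ⊗ₜ[A] f i
  let inc : B →+* B' := (Algebra.TensorProduct.includeRight : B →ₐ[A] B').toRingHom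
  have hspan : Ideal.span (Set.range f') = J.map inc := by
    rw [Ideal.map_span, ← Set.range_comp]; rfl
  intro n P hP hPJ d
  let D := {e : Fin r →₀ ℕ // e.degree = n}
  have hflat' : ∀ m, Module.Flat A (B ⧸ J ^ m) := fun m => (flat_pow A B r f hflat hq m).1
  obtain ⟨φ, hinj, hφ⟩ := (flat_pow A B r f hflat hq n).2
  let g : (B ⧸ J ^ (n + 1)) →ₗ[A] (B ⧸ J ^ n) :=
    (Submodule.factor (Ideal.pow_le_pow_right (I := J) (Nat.le_succ n))).restrictScalars A
  have hexact : Function.Exact φ g := hφ.2.1
  have := hflat' n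
  have hT : Function.Injective (φ.lTensor A') :=
    Groth.Misc6.flatInj A' φ g hinj hexact (Submodule.factor_surjective (Ideal.pow_le_pow_right (I := J) (Nat.le_succ n)))
  by_cases hd : d ∈ P.support
  swap
  · rw [MvPolynomial.notMem_support_iff.mp hd]; exact zero_mem _
  let q : ∀ m, B' →ₗ[A] TensorProduct A A' (B ⧸ J ^ m) := fun m =>
    ((Submodule.mkQ (J ^ m)).restrictScalars A).lTensor A'
  let q₁ : B' →ₗ[A] TensorProduct A A' (B ⧸ J) :=
    ((Submodule.mkQ J).restrictScalars A).lTensor A'
  have hdeg : ∀ e ∈ P.support, e.degree = n := fun e he => by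
    rw [Finsupp.degree_eq_weight_one]
    exact hP (MvPolynomial.mem_support_iff.mp he)
  let ι : D → TensorProduct A A' (B ⧸ J) →ₗ[A] TensorProduct A A' (D →₀ B ⧸ J) := fun e =>
    (Finsupp.lsingle e).lTensor A'
  let z := ∑ e ∈ P.support.attach, ι ⟨e.1, hdeg e.1 e.2⟩ (q₁ (P.coeff e.1))
  have hkey : ∀ (e : D) (x : B'), φ.lTensor A' (ι e (q₁ x)) = q (n + 1) (x * inc (∏ i, f i ^ e.1 i)) := by
    intro e x
    induction x using TensorProduct.induction_on with
    | zero => simp [q₁, q, ι]
    | tmul a b =>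
      show φ.lTensor A' (a ⊗ₜ[A] Finsupp.single e (Ideal.Quotient.mk J b)) =
        q (n + 1) ((a ⊗ₜ[A] b) * ((1 : A') ⊗ₜ[A] ∏ i, f i ^ e.1 i))
      rw [Algebra.TensorProduct.tmul_mul_tmul, mul_one, LinearMap.lTensor_tmul, hφ.1]
      rfl
    | add x y hx hy => simp only [map_add, hx, hy, add_mul]
  have hz0 : φ.lTensor A' z = 0 := by
    rw [map_sum]
    simp only [hkey]
    rw [← map_sum]
    have heval : ∑ e ∈ P.support.attach, P.coeff e.1 * inc (∏ i, f i ^ e.1 i) = MvPolynomial.eval f' P := by
      rw [Finset.sum_attach P.support (fun e => P.coeff e * inc (∏ i, f i ^ e i)),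
        MvPolynomial.eval_eq']
      refine Finset.sum_congr rfl fun e _ => ?_
      rw [map_prod]
      simp only [map_pow]
      rfl
    rw [heval]
    have hmem : MvPolynomial.eval f' P ∈
        RingHom.ker (Algebra.TensorProduct.map (AlgHom.id A A') (Ideal.Quotient.mkₐ A (J ^ (n + 1)))) := by
      rw [Algebra.TensorProduct.lTensor_ker _ (Ideal.Quotient.mkₐ_surjective A _)]
      have h2 : MvPolynomial.eval f' P ∈ (J ^ (n + 1)).map inc := by
        rw [Ideal.map_pow, ← hspan]; exact hPJ
      rw [← Ideal.Quotient.mkₐ_ker A (J ^ (n + 1))] at h2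
      exact h2
    exact hmem
  have hz : z = 0 := hT (hz0.trans (map_zero _).symm)
  have hproj := congrArg ((Finsupp.lapply (R := A) (⟨d, hdeg d hd⟩ : D)).lTensor A') hz
  rw [map_zero, map_sum] at hproj
  have hterm : ∀ e : {e // e ∈ P.support}, (Finsupp.lapply (R := A) (⟨d, hdeg d hd⟩ : D)).lTensor A'
      (ι ⟨e.1, hdeg e.1 e.2⟩ (q₁ (P.coeff e.1))) = if e.1 = d then q₁ (P.coeff e.1) else 0 := by
    intro e
    generalize q₁ (P.coeff e.1) = w
    rw [← LinearMap.comp_apply, ← LinearMap.lTensor_comp]
    by_cases h : e.1 = d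
    · subst h
      simp only [if_true]
      rw [show (Finsupp.lapply (R := A) (⟨e.1, hdeg e.1 e.2⟩ : D)).comp (Finsupp.lsingle (⟨e.1, hdeg e.1 e.2⟩ : D)) =
        (LinearMap.id : (B ⧸ J) →ₗ[A] B ⧸ J) from LinearMap.ext fun _ => Finsupp.single_eq_same,
        LinearMap.lTensor_id, LinearMap.id_apply]
    · rw [if_neg h, show (Finsupp.lapply (R := A) (⟨d, hdeg d hd⟩ : D)).comp
          (Finsupp.lsingle (⟨e.1, hdeg e.1 e.2⟩ : D)) = (0 : (B ⧸ J) →ₗ[A] B ⧸ J) from
        LinearMap.ext fun _ => Finsupp.single_eq_of_ne (fun h' => h (congrArg Subtype.val h').symm),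
        LinearMap.lTensor_zero, LinearMap.zero_apply]
  simp only [hterm] at hproj
  rw [Finset.sum_attach P.support (fun e => if e = d then q₁ (P.coeff e) else 0),
    Finset.sum_ite_eq' P.support d, if_pos hd] at hproj
  rw [hspan]
  have h3 : P.coeff d ∈
      RingHom.ker (Algebra.TensorProduct.map (AlgHom.id A A') (Ideal.Quotient.mkₐ A J)) := hproj
  rw [Algebra.TensorProduct.lTensor_ker _ (Ideal.Quotient.mkₐ_surjective A _)] at h3
  rw [← Ideal.Quotient.mkₐ_ker A J]
  exact h3

end Groth.Agent.S9272
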