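import Groth.Statements.S9273
import Mathlib

set_option autoImplicit false
universe u
open CAlgX

open scoped TensorProduct

namespace Groth.Agent.S9273

/-- Let A → B and A → A' be ring maps and B' = A' ⊗_A B. If f_1, ..., f_r is an H_1-regular sequence in
B with B/(f_1, ..., f_r) flat over A, then the images of the f_i in B' form an H_1-regular sequence. -/
theorem result (A B A' : Type u) [CommRing A] [CommRing B]
    [CommRing A'] [Algebra A B] [Algebra A A'] (r : ℕ) (f : Fin r → B)
    (hflat : Module.Flat A (B ⧸ Ideal.span (Set.range f))) (hq : CAlgX.IsH1Regular f) :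
    CAlgX.IsH1Regular (fun i => ((1 : A') ⊗ₜ[A] f i : TensorProduct A A' B)) := by
  classical
  intro v hv
  let B' := TensorProduct A A' B
  let inc : B →+* B' := (Algebra.TensorProduct.includeRight : B →ₐ[A] B').toRingHom
  let f' : Fin r → B' := fun i => (1 : A') ⊗ₜ[A] f i
  let J : Ideal B := Ideal.span (Set.range f)
  let φ₀ : (Fin r → B) →ₗ[B] B := Fintype.linearCombination B f
  have hrange : LinearMap.range φ₀ = J := Fintype.range_linearCombination B f
  let φ : (Fin r → B) →ₗ[A] J := (φ₀.codRestrict J fun x => hrange ▸ LinearMap.mem_range_self φ₀ x).restrictScalars A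
  have hφ : Function.Surjective φ := fun x => by
    obtain ⟨y, hy⟩ : (x : B) ∈ LinearMap.range φ₀ := hrange.symm ▸ x.2
    exact ⟨y, Subtype.ext hy⟩
  let ι : J →ₗ[A] B := (Submodule.subtype J).restrictScalars A
  have := hflat
  have hinj : Function.Injective (ι.lTensor A') := LinearMap.lTensor_injective_of_exact_of_flat
    ((Ideal.Quotient.mkₐ A J).toLinearMap) Ideal.Quotient.mk_surjective ι Subtype.val_injective
    (fun y => by simp [ι, Ideal.Quotient.eq_zero_iff_mem]) A'
  let e := TensorProduct.piRight A A A' (fun _ : Fin r => B)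
  have hval : ∀ w, ι.lTensor A' (φ.lTensor A' w) = ∑ i, e w i * f' i := by
    intro w
    induction w using TensorProduct.induction_on with
    | zero => simp
    | add x y hx hy => simp [map_add, hx, hy, add_mul, Finset.sum_add_distrib]
    | tmul a x =>
      simp [e, f', φ, ι, φ₀, Fintype.linearCombination_apply, TensorProduct.tmul_sum, B',
        Algebra.TensorProduct.tmul_mul_tmul]
  obtain ⟨w, rfl⟩ : ∃ w, e w = v := e.surjective v
  have h0 : φ.lTensor A' w = 0 := hinj (by rw [hval, map_zero]; exact hv)
  obtain ⟨w', rfl⟩ := (lTensor_exact A' (LinearMap.exact_subtype_ker_map φ) hφ w).mp h0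
  clear hv h0
  induction w' using TensorProduct.induction_on with
  | zero => simp
  | add x y hx hy => simpa only [map_add] using add_mem hx hy
  | tmul a x =>
    have hx : φ₀ x.1 = 0 := congrArg Subtype.val x.2
    have hK := hq x.1 (by simpa [φ₀, Fintype.linearCombination_apply] using hx)
    have key : ∀ y ∈ Submodule.span B {v : Fin r → B | ∃ i j : Fin r, v = Pi.single i (f j) - Pi.single j (f i)},
        (fun i => a ⊗ₜ[A] y i) ∈ Submodule.span B' {v : Fin r → B' | ∃ i j : Fin r, v = Pi.single i (f' j) - Pi.single j (f' i)} := by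
      intro y hy
      induction hy using Submodule.span_induction with
      | mem y hy =>
        obtain ⟨i, j, rfl⟩ := hy
        have : (fun k => a ⊗ₜ[A] (Pi.single i (f j) - Pi.single j (f i) : Fin r → B) k) =
            (a ⊗ₜ[A] (1 : B) : B') • (Pi.single i (f' j) - Pi.single j (f' i) : Fin r → B') := by
          funext k
          simp only [Pi.sub_apply, Pi.smul_apply, smul_eq_mul, Pi.single_apply, f']
          split_ifs <;> simp [TensorProduct.tmul_sub, TensorProduct.tmul_neg, mul_sub, Algebra.TensorProduct.tmul_mul_tmul]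
        rw [this]
        exact Submodule.smul_mem _ _ (Submodule.subset_span ⟨i, j, rfl⟩)
      | zero => simp only [Pi.zero_apply, TensorProduct.tmul_zero]; exact zero_mem _
      | add x y _ _ hx hy =>
        simp only [Pi.add_apply, TensorProduct.tmul_add]
        exact add_mem hx hy
      | smul b x _ hx =>
        have : (fun k => a ⊗ₜ[A] (b • x) k) = inc b • (fun k => a ⊗ₜ[A] x k : Fin r → B') := by
          funext k
          show a ⊗ₜ[A] (b * x k) = ((1 : A') ⊗ₜ[A] b : TensorProduct A A' B) * a ⊗ₜ[A] x k
          rw [Algebra.TensorProduct.tmul_mul_tmul, one_mul]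
        rw [this]
        exact Submodule.smul_mem _ _ hx
    exact key x.1 hK

end Groth.Agent.S9273
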