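import Groth.Statements.S11020
import Groth.Agent.FunFld1.Residues

set_option autoImplicit false
open FunFld

namespace Groth.Agent.S11020

/-- In a finite separable extension `K'/K` of function fields of one variable, almost all places `Q` of
`K'` have `e(Q|P) = 1` over the place `P` of `K` below. (The published statement also gives
separability of almost all residue extensions `F_Q/F_P`; only the ramification part is stated here.) -/
theorem result (k K K' : Type*) [Field k] [Field K] [Field K'] [Algebra k K] [Algebra K K'] [Algebra k K']
    [IsScalarTower k K K'] [FiniteDimensional K K'] (hK : FunFld.IsFunctionField k K) [Algebra.IsSeparable K K'] :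
    {Q : FunFld.Place k K' | ¬ Function.Surjective (Q.1.comap (algebraMap K K'))}.Finite := by
  classical
  have hF := Groth.FunFld1.IsFF.of_isFunctionField hK
  obtain ⟨θ, hθ⟩ := Field.exists_primitive_element K K'
  refine (((Groth.FunFld1.finite_not_good hF (Algebra.IsSeparable.isSeparable K θ) hθ).biUnion
    fun P _ => (hF.above P : Finset (FunFld.Place k K')).finite_toSet)).subset fun Q hQ => ?_
  obtain ⟨P, hP⟩ := hF.exists_isOver Q
  refine Set.mem_biUnion ?_ (hF.mem_above.mpr hP)
  rintro ⟨f, hf⟩
  letI : Algebra P.O K' := ((algebraMap K K').comp P.O.subtype).toAlgebra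
  haveI : IsScalarTower P.O K K' := IsScalarTower.of_algebraMap_eq fun _ => rfl
  refine hQ fun a => ?_
  obtain ⟨x, hx⟩ := P.2.2 a
  exact ⟨x, ((hf.isOverWith_one hF hP) x).trans ((pow_one _).trans hx)⟩

end Groth.Agent.S11020
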