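import Groth.Statements.S4445
import Groth.Agent.Ega2Proj.NormalCurve
import Mathlib.AlgebraicGeometry.Morphisms.Finite

set_option autoImplicit false
universe u
open CategoryTheory CategoryTheory.Limits AlgebraicGeometry
attribute [local instance] Curv2.stalkAlgebra
open EGA2

namespace Groth.Agent.S4445

/-- Let X be a normal irreducible algebraic curve over a field k with field of rational functions K, and
Y an integral complete (proper over k) algebraic curve with field of rational functions L. Dominant
k-morphisms X ⟶ Y correspond bijectively to k-embeddings L → K: for every k-algebra homomorphism φ :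
L → K there is exactly one k-morphism u : X ⟶ Y mapping the generic point of X to the generic point
of Y and inducing φ on the stalks at the generic points. -/
theorem result (k : Type u) [Field k] (X Y : Scheme.{u})
    [X.Over (Spec (CommRingCat.of k))] [LocallyOfFiniteType (X ↘ (Spec (CommRingCat.of k)))]
    [QuasiCompact (X ↘ (Spec (CommRingCat.of k)))] [IsSeparated (X ↘ (Spec (CommRingCat.of k)))] [IsIntegral X]
    (hX : ∀ x : X, IsClosed ({x} : Set X) → ringKrullDim (X.presheaf.stalk x) = 1) (hnorm : Pi1.IsNormalScheme X)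
    [Y.Over (Spec (CommRingCat.of k))] [IsProper (Y ↘ (Spec (CommRingCat.of k)))] [IsIntegral Y]
    (hY : ∀ y : Y, IsClosed ({y} : Set Y) → ringKrullDim (Y.presheaf.stalk y) = 1)
    (φ : Y.functionField →ₐ[k] X.functionField) :
    ∃! u : X ⟶ Y, u ≫ (Y ↘ (Spec (CommRingCat.of k))) = X ↘ (Spec (CommRingCat.of k)) ∧
      ∃ hu : u.base (genericPoint X) = genericPoint Y,
        (Y.presheaf.stalkSpecializes (specializes_of_eq hu) ≫ u.stalkMap (genericPoint X)).hom = (φ : Y.functionField →+* X.functionField) := by
  haveI : JacobsonSpace X := LocallyOfFiniteType.jacobsonSpace (X ↘ (Spec (CommRingCat.of k)))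
  haveI : IsLocallyNoetherian X := LocallyOfFiniteType.isLocallyNoetherian (X ↘ (Spec (CommRingCat.of k)))
  let φ' : Y.functionField ⟶ X.functionField := CommRingCat.ofHom (φ : Y.functionField →+* X.functionField)
  let ψ : Spec X.functionField ⟶ Y := Spec.map φ' ≫ Y.fromSpecStalk (genericPoint Y)
  have hψ : ψ ≫ (Y ↘ Spec (CommRingCat.of k)) =
      X.fromSpecStalk (genericPoint X) ≫ (X ↘ Spec (CommRingCat.of k)) := by
    rw [Category.assoc, ← Groth.Ega2Proj.SpecMap_stalkMap_over, ← Groth.Ega2Proj.SpecMap_stalkMap_over,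
      ← Spec.map_comp]
    congr 1
    ext c
    exact φ.commutes c
  haveI : IsLocalHom φ'.hom := ⟨fun a ha => by
    refine isUnit_iff_ne_zero.mpr fun h0 => ?_
    rw [h0, map_zero] at ha
    exact not_isUnit_zero ha⟩
  have hpt : ∀ u : X ⟶ Y, X.fromSpecStalk (genericPoint X) ≫ u = ψ → u.base (genericPoint X) = genericPoint Y := by
    intro u hu
    have h : u.base ((X.fromSpecStalk (genericPoint X)).base (IsLocalRing.closedPoint X.functionField)) =
        (Y.fromSpecStalk (genericPoint Y)).base ((Spec.map φ').base (IsLocalRing.closedPoint X.functionField)) :=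
      congrArg (fun m : Spec X.functionField ⟶ Y => m.base (IsLocalRing.closedPoint X.functionField)) hu
    have e1 : (X.fromSpecStalk (genericPoint X)).base (IsLocalRing.closedPoint X.functionField) = genericPoint X :=
      Scheme.fromSpecStalk_closedPoint
    have e2 : (Y.fromSpecStalk (genericPoint Y)).base ((Spec.map φ').base (IsLocalRing.closedPoint X.functionField)) =
        genericPoint Y :=
      (congrArg (fun z => (Y.fromSpecStalk (genericPoint Y)).base z) (IsLocalRing.comap_closedPoint φ'.hom)).trans
        Scheme.fromSpecStalk_closedPoint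
    exact (congrArg u.base e1.symm).trans (h.trans e2)
  obtain ⟨U, hξU, g, hg1, hg2⟩ := spread_out_of_isGermInjective'
    (sX := X ↘ Spec (CommRingCat.of k)) (sY := Y ↘ Spec (CommRingCat.of k)) ψ hψ
  have hU : Dense (U : Set X) := U.2.dense ⟨_, hξU⟩
  obtain ⟨u, ⟨hu1, hu2⟩, -⟩ := Groth.Ega2Proj.existsUnique_extension hnorm hX
    (Y ↘ Spec (CommRingCat.of k)) (X ↘ Spec (CommRingCat.of k)) U hU g hg2
  have huψ : X.fromSpecStalk (genericPoint X) ≫ u = ψ := by
    rw [hg1, ← hu1, Scheme.Opens.fromSpecStalkOfMem_ι_assoc]
  have hstalk : ∀ (u : X ⟶ Y) (hu : u.base (genericPoint X) = genericPoint Y),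
      Spec.map (Y.presheaf.stalkSpecializes (specializes_of_eq hu) ≫ u.stalkMap (genericPoint X)) ≫
        Y.fromSpecStalk (genericPoint Y) = X.fromSpecStalk (genericPoint X) ≫ u := fun u hu => by
    rw [Spec.map_comp, Category.assoc, Scheme.SpecMap_stalkSpecializes_fromSpecStalk,
      Scheme.SpecMap_stalkMap_fromSpecStalk]
  refine ⟨u, ⟨hu2, hpt u huψ, ?_⟩, ?_⟩
  · have : Y.presheaf.stalkSpecializes (specializes_of_eq (hpt u huψ)) ≫ u.stalkMap (genericPoint X) = φ' := by
      apply Spec.map_injective
      rw [← cancel_mono (Y.fromSpecStalk (genericPoint Y)), hstalk u (hpt u huψ), huψ]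
    exact congrArg CommRingCat.Hom.hom this
  · rintro v ⟨hv1, hv, hvφ⟩
    have hvψ : X.fromSpecStalk (genericPoint X) ≫ v = ψ := by
      rw [← hstalk v hv]
      have : Y.presheaf.stalkSpecializes (specializes_of_eq hv) ≫ v.stalkMap (genericPoint X) = φ' :=
        CommRingCat.hom_ext hvφ
      rw [this]
    haveI : IsDominant (X.fromSpecStalk (genericPoint X)) := by
      refine ⟨fun z => ?_⟩
      have : genericPoint X ∈ Set.range (X.fromSpecStalk (genericPoint X)).base :=
        ⟨IsLocalRing.closedPoint (X.presheaf.stalk (genericPoint X)), Scheme.fromSpecStalk_closedPoint⟩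
      exact closure_mono (Set.singleton_subset_iff.mpr this)
        ((genericPoint_spec X).specializes trivial).mem_closure
    exact ext_of_isDominant_of_isSeparated (Y ↘ Spec (CommRingCat.of k)) (hv1.trans hu2.symm)
      (X.fromSpecStalk (genericPoint X)) (hvψ.trans huψ.symm)

end Groth.Agent.S4445
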