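import Groth.Statements.S10867
import Mathlib.AlgebraicGeometry.AlgClosed.Basic
import Mathlib.AlgebraicGeometry.ZariskisMainTheorem
import Mathlib.AlgebraicGeometry.Morphisms.FormallyUnramified
import Mathlib.RingTheory.Finiteness.Nakayama
import Mathlib.RingTheory.Unramified.Basic

set_option autoImplicit false
universe u
open Mor

namespace Groth.Agent.S10867

section
open CategoryTheory AlgebraicGeometry TopologicalSpace

theorem subsingleton_kaehler {k A B : Type u} [Field k] [IsAlgClosed k] [CommRing A] [CommRing B]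
    [Algebra k A] [Algebra A B] [Algebra k B] [IsScalarTower k A B] [Algebra.FiniteType k B]
    (h : ∀ (n : Ideal B), n.IsMaximal → n ≤ (n.comap (algebraMap A B)).map (algebraMap A B) ⊔ n ^ 2) :
    Subsingleton Ω[B⁄A] := by
  have : Algebra.FiniteType A B := Algebra.FiniteType.of_restrictScalars_finiteType k A B
  rw [Submodule.subsingleton_iff B |>.symm, ← subsingleton_iff_bot_eq_top]
  by_contra hne
  have hann : (⊤ : Submodule B Ω[B⁄A]).annihilator ≠ ⊤ := fun h' => hne ((Submodule.annihilator_eq_top_iff.1 h').symm)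
  obtain ⟨n, hn, hle⟩ := Ideal.exists_le_maximal _ hann
  have hspan : (⊤ : Submodule B Ω[B⁄A]) ≤ n • ⊤ := by
    refine le_of_eq_of_le (KaehlerDifferential.span_range_derivation A B).symm (Submodule.span_le.2 ?_)
    rintro _ ⟨b, rfl⟩
    let := Ideal.Quotient.field n
    have : Algebra.IsIntegral k (B ⧸ n) := by
      have : Module.Finite k (B ⧸ n) := finite_of_finite_type_of_isJacobsonRing k (B ⧸ n)
      infer_instance
    obtain ⟨c, hc⟩ := (IsAlgClosed.algebraMap_bijective_of_isIntegral (k := k) (K := B ⧸ n)).2 (Ideal.Quotient.mk n b)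
    have hb' : b - algebraMap k B c ∈ n := by
      rw [← Ideal.Quotient.mk_eq_mk_iff_sub_mem, ← hc, Ideal.Quotient.mk_algebraMap]
    have hmem : ∀ x ∈ n, ∀ ω : Ω[B⁄A], x • ω ∈ n • (⊤ : Submodule B Ω[B⁄A]) := fun x hx ω =>
      Submodule.smul_mem_smul hx trivial
    have hD : ∀ x ∈ (n.comap (algebraMap A B)).map (algebraMap A B) ⊔ n ^ 2,
        x ∈ n ∧ KaehlerDifferential.D A B x ∈ n • (⊤ : Submodule B Ω[B⁄A]) := by
      intro x hx
      have hle' : (n.comap (algebraMap A B)).map (algebraMap A B) ⊔ n ^ 2 ≤ n :=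
        sup_le Ideal.map_comap_le (Ideal.pow_le_self two_ne_zero)
      refine ⟨hle' hx, ?_⟩
      obtain ⟨y, hy, z, hz, rfl⟩ := Submodule.mem_sup.1 hx
      rw [map_add]
      refine add_mem ?_ ?_
      · clear hx
        induction hy using Submodule.span_induction with
        | mem y hy =>
          obtain ⟨a, -, rfl⟩ := hy
          simp
        | zero => simp
        | add a b _ _ ha hb => rw [map_add]; exact add_mem ha hb
        | smul r y hy' ih =>
          rw [smul_eq_mul, Derivation.leibniz]
          exact add_mem (Submodule.smul_mem _ _ ih) (hmem y (Ideal.map_comap_le hy') _)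
      · clear hx
        rw [pow_two] at hz
        induction hz using Submodule.mul_induction_on' with
        | mem_mul_mem u hu v hv => rw [Derivation.leibniz]; exact add_mem (hmem u hu _) (hmem v hv _)
        | add a _ b _ ha hb => rw [map_add]; exact add_mem ha hb
    have h2 := (hD _ (h n hn hb')).2
    rw [map_sub, IsScalarTower.algebraMap_apply k A B, Derivation.map_algebraMap, sub_zero] at h2
    exact h2
  obtain ⟨r, hr1, hr2⟩ := Submodule.exists_sub_one_mem_and_smul_eq_zero_of_fg_of_le_smul n ⊤
    Module.Finite.fg_top hspan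
  have hrn : r ∈ n := hle (Submodule.mem_annihilator.2 hr2)
  exact hn.ne_top ((Ideal.eq_top_iff_one _).2 (by simpa using sub_mem hrn hr1))

theorem formallyUnramified_of_cotangent (k : Type u) [Field k] [IsAlgClosed k]
    {X Y : Scheme.{u}} (f : X ⟶ Y) (q : Y ⟶ Spec (CommRingCat.of k)) [LocallyOfFiniteType (f ≫ q)]
    (hT : ∀ x : X, IsClosed ({x} : Set X) →
      Ideal.map (f.stalkMap x).hom (IsLocalRing.maximalIdeal (Y.presheaf.stalk (f.base x))) ⊔
        IsLocalRing.maximalIdeal (X.presheaf.stalk x) ^ 2 = IsLocalRing.maximalIdeal (X.presheaf.stalk x)) :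
    FormallyUnramified f := by
  have : JacobsonSpace X := LocallyOfFiniteType.jacobsonSpace (f ≫ q)
  rw [HasRingHomProperty.iff_appLE (P := @FormallyUnramified)]
  intro U V hUV
  obtain ⟨U, hU⟩ := U
  obtain ⟨V, hV⟩ := V
  algebraize [(f.appLE U V hUV).hom]
  let kA : k →+* Γ(Y, U) := (q.appLE ⊤ U le_top).hom.comp (Scheme.ΓSpecIso (CommRingCat.of k)).inv.hom
  let := kA.toAlgebra
  let := ((f.appLE U V hUV).hom.comp kA).toAlgebra
  have : IsScalarTower k Γ(Y, U) Γ(X, V) := IsScalarTower.of_algebraMap_eq fun _ => rfl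
  have : Algebra.FiniteType k Γ(X, V) := by
    have h := (f ≫ q).finiteType_appLE (isAffineOpen_top _) hV (show V ≤ (f ≫ q) ⁻¹ᵁ ⊤ from le_top)
    rw [← Scheme.Hom.appLE_comp_appLE f q ⊤ U V le_top hUV] at h
    exact h.comp (RingHom.FiniteType.of_surjective _
      (ConcreteCategory.bijective_of_isIso (Scheme.ΓSpecIso (CommRingCat.of k)).inv).2)
  refine ⟨subsingleton_kaehler (k := k) fun n hn => ?_⟩
  let P : Spec Γ(X, V) := ⟨n, hn.isPrime⟩
  let x : X := hV.fromSpec P
  have := hV.isOpenImmersion_fromSpec
  have hxV : x ∈ V := hV.range_fromSpec.le ⟨P, rfl⟩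
  have hx : IsClosed ({x} : Set X) := by
    apply isClosed_singleton_of_isLocallyClosed_singleton
    have hP : IsClosed ({P} : Set (Spec Γ(X, V))) := (PrimeSpectrum.isClosed_singleton_iff_isMaximal P).2 hn
    rw [← Set.image_singleton]
    exact hP.isLocallyClosed.image hV.fromSpec.isOpenEmbedding.isInducing
      hV.fromSpec.isOpenEmbedding.isOpen_range.isLocallyClosed
  have hprime : hV.primeIdealOf ⟨x, hxV⟩ = P :=
    hV.fromSpec.isOpenEmbedding.injective (hV.fromSpec_primeIdealOf ⟨x, hxV⟩)
  have hyU : f x ∈ U := hUV hxV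
  have hm : (hU.primeIdealOf ⟨f x, hyU⟩).asIdeal = n.comap (f.appLE U V hUV).hom := by
    rw [← IsAffineOpen.comap_primeIdealOf_appLE U hU V hV hUV hxV, hprime]
    rfl
  let := (X.presheaf.germ V x hxV).hom.toAlgebra
  let := (Y.presheaf.germ U (f x) hyU).hom.toAlgebra
  have : IsLocalization.AtPrime (Y.presheaf.stalk (f x)) (hU.primeIdealOf ⟨f x, hyU⟩).asIdeal :=
    hU.isLocalization_stalk ⟨f x, hyU⟩
  have : IsLocalization.AtPrime (X.presheaf.stalk x) n := by
    have := hV.isLocalization_stalk ⟨x, hxV⟩
    rw [hprime] at this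
    exact this
  have hsq : (f.stalkMap x).hom.comp (algebraMap Γ(Y, U) (Y.presheaf.stalk (f x))) =
      (algebraMap Γ(X, V) (X.presheaf.stalk x)).comp (f.appLE U V hUV).hom := by
    show (Y.presheaf.germ U (f x) hyU ≫ f.stalkMap x).hom = (f.appLE U V hUV ≫ X.presheaf.germ V x hxV).hom
    rw [Scheme.Hom.germ_stalkMap, Scheme.Hom.appLE, Category.assoc, TopCat.Presheaf.germ_res]
  set J : Ideal Γ(X, V) := (n.comap (f.appLE U V hUV).hom).map (f.appLE U V hUV).hom ⊔ n ^ 2 with hJ
  have hmap : J.map (algebraMap Γ(X, V) (X.presheaf.stalk x)) = IsLocalRing.maximalIdeal (X.presheaf.stalk x) := by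
    rw [← hT x hx, ← IsLocalization.AtPrime.map_eq_maximalIdeal (hU.primeIdealOf ⟨f x, hyU⟩).asIdeal
      (Y.presheaf.stalk (f x)), ← IsLocalization.AtPrime.map_eq_maximalIdeal n (X.presheaf.stalk x),
      Ideal.map_map, hm, hJ, Ideal.map_sup, Ideal.map_pow, Ideal.map_map, hsq]
  intro b hb
  show b ∈ J
  have hbJ : algebraMap Γ(X, V) (X.presheaf.stalk x) b ∈ J.map (algebraMap Γ(X, V) (X.presheaf.stalk x)) := by
    rw [hmap, ← IsLocalization.AtPrime.map_eq_maximalIdeal n (X.presheaf.stalk x)]
    exact Ideal.mem_map_of_mem _ hb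
  obtain ⟨s, hs, hsb⟩ := (IsLocalization.algebraMap_mem_map_algebraMap_iff n.primeCompl _ _ _).1 hbJ
  obtain ⟨t, e, he, hte⟩ := hn.exists_inv hs
  rw [← one_mul b, ← hte, add_mul, mul_assoc]
  exact add_mem (J.mul_mem_left _ hsb) (Ideal.mem_sup_right (by rw [pow_two]; exact Ideal.mul_mem_mul he hb))

end

open CategoryTheory AlgebraicGeometry in
/-- In the case of an algebraically closed base field k and K = k: let X, Y be k-schemes of finite type
and f : X → Y a proper k-morphism which is injective on closed points and such that for every closed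
point x of X the ideal generated by the image of the maximal ideal of the local ring at f(x),
together with the square of the maximal ideal at x, is the whole maximal ideal at x (the cotangent
map is surjective, i.e. the tangent map at x is injective). Then f is a closed immersion. (The
published statement allows any field k and tests points and tangent spaces with values in an
algebraically closed extension K of k; this row is the case K = k.) -/
theorem result (k : Type u) [Field k] [IsAlgClosed k]
    {X Y : Scheme.{u}} (f : X ⟶ Y) (q : Y ⟶ Spec (CommRingCat.of k)) [LocallyOfFiniteType q] [QuasiCompact q]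
    [LocallyOfFiniteType (f ≫ q)] [IsProper f]
    (hinj : Set.InjOn f.base {x : X | IsClosed ({x} : Set X)})
    (hT : ∀ x : X, IsClosed ({x} : Set X) →
      Ideal.map (f.stalkMap x).hom (IsLocalRing.maximalIdeal (Y.presheaf.stalk (f.base x))) ⊔
        IsLocalRing.maximalIdeal (X.presheaf.stalk x) ^ 2 = IsLocalRing.maximalIdeal (X.presheaf.stalk x)) :
    IsClosedImmersion f := by
  open CategoryTheory AlgebraicGeometry Limits in
  have : FormallyUnramified f := formallyUnramified_of_cotangent k f q hT
  have : JacobsonSpace X := LocallyOfFiniteType.jacobsonSpace (f ≫ q)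
  have : LocallyOfFiniteType f := inferInstance
  let P := pullback f f
  let π : P ⟶ Spec (CommRingCat.of k) := pullback.fst f f ≫ f ≫ q
  have : LocallyOfFiniteType π := inferInstance
  have : JacobsonSpace P := LocallyOfFiniteType.jacobsonSpace π
  have hsub : closedPoints P ⊆ Set.range (pullback.diagonal f) := by
    intro z hz
    let g : Spec (CommRingCat.of k) ⟶ P := pointOfClosedPoint π z hz
    have hg : g ≫ π = 𝟙 _ := pointOfClosedPoint_comp π z hz
    have hg1 : (g ≫ pullback.fst f f) ≫ f ≫ q = 𝟙 _ := by simpa [π] using hg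
    have hg2 : (g ≫ pullback.snd f f) ≫ f ≫ q = 𝟙 _ := by
      rw [Category.assoc, ← pullback.condition_assoc]; simpa using hg1
    let c1 := pointEquivClosedPoint (f ≫ q) ⟨_, hg1⟩
    let c2 := pointEquivClosedPoint (f ≫ q) ⟨_, hg2⟩
    have he : c1.1 = c2.1 := hinj c1.2 c2.2 (by
      have hh : (g ≫ pullback.fst f f) ≫ f = (g ≫ pullback.snd f f) ≫ f := by
        rw [Category.assoc, Category.assoc, pullback.condition]
      exact congrArg (fun m : Spec (CommRingCat.of k) ⟶ Y => m (IsLocalRing.closedPoint k)) hh)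
    have h12 : g ≫ pullback.fst f f = g ≫ pullback.snd f f := ext_of_apply_closedPoint_eq (f ≫ q) hg1 hg2 he
    have hfac : g = (g ≫ pullback.fst f f) ≫ pullback.diagonal f := by
      apply pullback.hom_ext <;> simp [h12]
    refine ⟨(g ≫ pullback.fst f f) (IsLocalRing.closedPoint k), ?_⟩
    exact (congrArg (fun m : Spec (CommRingCat.of k) ⟶ P => m (IsLocalRing.closedPoint k)) hfac.symm).trans
      (pointOfClosedPoint_apply π z hz _)
  have hcl : IsClosed (Set.range (pullback.diagonal f)) := (pullback.diagonal f).isClosedEmbedding.isClosed_range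
  have hsurj : Function.Surjective (pullback.diagonal f) := by
    rw [← Set.range_eq_univ, Set.eq_univ_iff_forall]
    intro z
    have hmem : z ∈ closure (closedPoints P) := by rw [closure_closedPoints]; trivial
    exact (closure_minimal hsub hcl) hmem
  have : IsIso (pullback.diagonal f) := by
    rw [isIso_iff_isOpenImmersion_and_epi_base]
    exact ⟨inferInstance, (TopCat.epi_iff_surjective _).mpr hsurj⟩
  have : Mono f := (pullback.isIso_diagonal_iff f).mp this
  rw [IsClosedImmersion.iff_isProper_and_mono]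
  exact ⟨inferInstance, inferInstance⟩

end Groth.Agent.S10867
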