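import Groth.Statements.S8355


set_option autoImplicit false
universe v u
open CategoryTheory CategoryTheory.Limits
open SpSeq

namespace Groth.Agent.S8355

/-- Let E be a spectral sequence in an abelian category and suppose E_r^{p,q} = 0. Then E_k^{p,q} = 0
for every k ≥ r, and E_∞^{p,q} = 0: for any abutment data (H^n) of E, the graded piece gr^p H^{p+q},
identified by the abutment with the limit term at (p, q), is zero. -/
theorem result {C : Type u} [Category.{v} C] [Abelian C] {r₀ : ℤ}
    (E : CohomologicalSpectralSequence C r₀) (r : ℤ) (hr : r₀ ≤ r) (pq : ℤ × ℤ)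
    (h : IsZero ((E.page r hr).X pq)) :
    (∀ (k : ℤ) (hk : r ≤ k), IsZero ((E.page k (hr.trans hk)).X pq)) ∧
      ∀ (H : ℤ → C) (a : SpSeq.Abutment E H),
        IsZero (SpSeq.grPiece (a.fil (pq.1 + pq.2)) (a.anti (pq.1 + pq.2)) pq.1) := by
  have step : ∀ (k : ℤ) (hk : r₀ ≤ k), IsZero ((E.page k hk).X pq) → IsZero ((E.page (k + 1) (by omega)).X pq) := by
    intro k hk hz
    exact IsZero.of_iso (ShortComplex.isZero_homology_of_isZero_X₂ ((E.page k hk).sc pq) hz) (E.iso k (k + 1) pq).symm
  have up : ∀ (k : ℤ) (hk : r ≤ k), IsZero ((E.page k (hr.trans hk)).X pq) := by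
    intro k hk
    induction k, hk using Int.le_induction with
    | base => exact h
    | succ k hk ih => exact step k (hr.trans hk) ih
  refine ⟨up, fun H a => IsZero.of_iso ?_ (a.β pq).symm⟩
  obtain ⟨h₀, hd⟩ := a.stat pq
  have key : ∀ (n : ℕ) (k : ℤ) (hk : r₀ ≤ k), a.rk pq ≤ k → r ≤ k + n → IsZero ((E.page k hk).X pq) := by
    intro n
    induction n with
    | zero => exact fun k hk _ hkr => up k (by simpa using hkr)
    | succ n ih =>
      intro k hk hka hkr
      obtain ⟨hin, hout⟩ := hd k hk hka
      have hz := ih (k + 1) (by omega) (by omega) (by push_cast at hkr ⊢; omega)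
      refine IsZero.of_iso hz ?_
      refine Iso.symm ?_ ≪≫ E.iso k (k + 1) pq
      refine (ShortComplex.HomologyData.ofZeros _ ?_ ?_).left.homologyIso
      · have := ((ComplexShape.up' ((k, 1 - k) : ℤ × ℤ)).prev_eq' (show (pq - (k, 1 - k)) + (k, 1 - k) = pq by simp))
        simp only [HomologicalComplex.shortComplexFunctor_obj_f, HomologicalComplex.shortComplexFunctor_obj_g, HomologicalComplex.sc]
        exact (show ∀ a, a = pq - (k, 1 - k) → (E.page k hk).d a pq = 0 from fun a ha => ha ▸ hin) _ this
      · have := ((ComplexShape.up' ((k, 1 - k) : ℤ × ℤ)).next_eq' (show pq + (k, 1 - k) = _ from rfl))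
        simp only [HomologicalComplex.shortComplexFunctor_obj_f, HomologicalComplex.shortComplexFunctor_obj_g, HomologicalComplex.sc]
        exact (show ∀ a, a = pq + (k, 1 - k) → (E.page k hk).d pq a = 0 from fun a ha => ha ▸ hout) _ this
  exact key (r - a.rk pq).toNat _ _ le_rfl (by omega)

end Groth.Agent.S8355
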