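import Groth.Statements.S12582
import Groth.Agent.Funfld2.Residue.Canonical

set_option autoImplicit false
universe u v w
open FunFld

namespace Groth.Agent.S12582

/-- For a geometric function field of one variable `K/k` of genus `g`, the space `Ω_K(0)` of regular
differential forms (non-negative order at every place) has dimension `g` over `k`; written as the
space of `y ∈ K` with `y dx` regular, for a fixed `x` with `dx ≠ 0`, orders read through Laurent
expansions over `k` at every place (all places separable). -/
theorem result (k : Type u) (K : Type v) [Field k] [Field K] [Algebra k K] (hK : FunFld.IsFunctionField k K) (hg : FunFld.IsGeometric k K)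
    (F : FunFld.Place k K → Type w) [∀ P, Field (F P)] [∀ P, Algebra k (F P)] [∀ P, FiniteDimensional k (F P)]
    (φ : ∀ P, K →ₐ[k] LaurentSeries (F P)) (hφ : ∀ P, LocRes.IsExpansionAt P.1 (φ P))
    (x : K) (hx : KaehlerDifferential.D k K x ≠ 0) :
    Module.finrank k (Submodule.span k {y : K | ∀ P, LocRes.vDiff (φ P) y x ≤ 1}) = FunFld.genus k K := by
  obtain ⟨-, C, hC, hCeq⟩ := Groth.Funfld2.Residue.exists_canonical hK φ hφ hg one_ne_zero hx
  have hiff := Groth.Funfld2.Residue.forall_vDiff_le_iff hK φ hφ hg hx hCeq
  have hset : {y : K | ∀ P, LocRes.vDiff (φ P) y x ≤ 1} = (FunFld.L C : Set K) := by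
    ext y
    rw [Set.mem_ofPred_eq, SetLike.mem_coe]
    have := hiff 0 y
    rw [sub_zero] at this
    rw [← this]
    simp
  rw [hset, Submodule.span_eq]
  exact Groth.FunFld1.ell_canonical hK
    ⟨_, Groth.Funfld2.Residue.resForm_ne_zero hK φ hφ hg one_ne_zero hx, hC⟩

end Groth.Agent.S12582
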