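import Groth.Statements.S7662
import Groth.Agent.VarietyBC.AffineUnion

set_option autoImplicit false
universe u
open CategoryTheory CategoryTheory.Limits AlgebraicGeometry
open Variety

namespace Groth.Agent.S7662

open TopologicalSpace Groth.PropsBasic2

/-- An affine open of the reduced piece `C` containing the marked points. -/
def Good {X : Scheme.{u}} (T : Set X) (C : Closeds X) : Prop :=
  ∃ V : (Scheme.IdealSheafData.vanishingIdeal C).subscheme.Opens, IsAffineOpen V ∧
    (Scheme.IdealSheafData.vanishingIdeal C).subschemeι ⁻¹' T ⊆ V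

theorem good_sup {X : Scheme.{u}} (T : Set X) (hT : T.Finite) (C₁ C₂ : Closeds X)
    (h₁ : Good T C₁) (h₂ : Good T C₂) : Good T (C₁ ⊔ C₂) := by
  set I := Scheme.IdealSheafData.vanishingIdeal (C₁ ⊔ C₂) with hI
  haveI : IsReduced I.subscheme := isReduced_vanishingIdeal_subscheme _
  have piece : ∀ C : Closeds X, C ≤ C₁ ⊔ C₂ → Good T C →
      ∃ J : I.subscheme.IdealSheafData, (∀ y, I.subschemeι y ∈ (C : Set X) → y ∈ J.support) ∧
        ∃ U : J.subscheme.Opens, IsAffineOpen U ∧
          J.subschemeι ⁻¹' (I.subschemeι ⁻¹' T) ⊆ U := by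
    intro C hC ⟨V, hV, hVT⟩
    have hle : I ≤ Scheme.IdealSheafData.vanishingIdeal C :=
      Scheme.IdealSheafData.gc.monotone_u hC
    let j := Scheme.IdealSheafData.inclusion hle
    have hj : j ≫ I.subschemeι = (Scheme.IdealSheafData.vanishingIdeal C).subschemeι :=
      Scheme.IdealSheafData.inclusion_subschemeι _
    haveI : IsClosedImmersion j := by
      haveI : IsClosedImmersion (j ≫ I.subschemeι) := by rw [hj]; infer_instance
      exact IsClosedImmersion.of_comp_isClosedImmersion j I.subschemeι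
    refine ⟨j.ker, ?_, j.toImage ''ᵁ V, hV.image_of_isOpenImmersion _, ?_⟩
    · intro y hy
      rw [← range_vanishingIdeal_subschemeι C] at hy
      obtain ⟨w, hw⟩ := hy
      rw [← SetLike.mem_coe, Scheme.Hom.support_ker]
      refine subset_closure ⟨w, I.subschemeι.isClosedEmbedding.injective ?_⟩
      rw [← Scheme.Hom.comp_apply, hj]
      exact hw
    · intro y hy
      obtain ⟨v, rfl⟩ := (Surjective.surj (f := j.toImage)) y
      refine ⟨v, hVT ?_, rfl⟩
      show (Scheme.IdealSheafData.vanishingIdeal C).subschemeι v ∈ T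
      rw [← hj]
      change I.subschemeι (j.imageι (j.toImage v)) ∈ T at hy
      rw [← Scheme.Hom.comp_apply j.toImage j.imageι v, Scheme.Hom.toImage_imageι] at hy
      exact hy
  obtain ⟨I₁, hI₁, U₁, hU₁, hT₁⟩ := piece C₁ le_sup_left h₁
  obtain ⟨I₂, hI₂, U₂, hU₂, hT₂⟩ := piece C₂ le_sup_right h₂
  obtain ⟨U, hU, hTU⟩ := Groth.VarietyBC.AffineUnion.exists_affineOpen_union I₁ I₂ (fun y => by
    have : I.subschemeι y ∈ ((C₁ ⊔ C₂ : Closeds X) : Set X) := by
      rw [← range_vanishingIdeal_subschemeι (C₁ ⊔ C₂)]; exact ⟨y, rfl⟩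
    rw [Closeds.coe_sup] at this
    exact this.imp (hI₁ y) (hI₂ y)) (I.subschemeι ⁻¹' T)
    (hT.preimage I.subschemeι.isClosedEmbedding.injective.injOn) U₁ hU₁ hT₁ U₂ hU₂ hT₂
  exact ⟨U, hU, hTU⟩

theorem good_bot {X : Scheme.{u}} (T : Set X) : Good T (⊥ : Closeds X) := by
  haveI : IsEmpty (Scheme.IdealSheafData.vanishingIdeal (⊥ : Closeds X)).subscheme := by
    rw [Scheme.IdealSheafData.vanishingIdeal_bot]; infer_instance
  exact ⟨⊤, isAffineOpen_top _, fun _ _ => trivial⟩

theorem exists_of_good_top {X : Scheme.{u}} (T : Set X) (h : Good T (⊤ : Closeds X)) :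
    ∃ U : X.Opens, IsAffineOpen U ∧ T ⊆ U := by
  obtain ⟨V, hV, hVT⟩ := h
  let i := (Scheme.IdealSheafData.vanishingIdeal (⊤ : Closeds X)).subschemeι
  have hi : Function.Surjective i := by
    intro x
    have : x ∈ ((⊤ : Closeds X) : Set X) := trivial
    rw [← range_vanishingIdeal_subschemeι (⊤ : Closeds X)] at this
    exact this
  have hinj := i.isClosedEmbedding.injective
  let U : X.Opens := ⟨(i '' (V : Set _)ᶜ)ᶜ,
    (i.isClosedEmbedding.isClosedMap _ V.isOpen.isClosed_compl).isOpen_compl⟩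
  have hU : i ⁻¹ᵁ U = V := by
    refine Opens.ext (Set.ext fun a => ⟨fun ha => ?_, fun ha => ?_⟩)
    · by_contra hne
      exact ha ⟨a, hne, rfl⟩
    · rintro ⟨b, hb, he⟩
      exact hb (hinj he ▸ ha)
  refine ⟨U, ?_, fun t ht => ?_⟩
  · haveI : IsAffine ↑(i ⁻¹ᵁ U) := by rw [hU]; exact hV
    haveI : IsClosedImmersion (i ∣_ U) := MorphismProperty.of_isPullback
      (isPullback_morphismRestrict i U).flip inferInstance
    haveI : Surjective (i ∣_ U) := ⟨fun y => by
      obtain ⟨a, ha⟩ := hi y.1
      exact ⟨⟨a, show i a ∈ U from ha ▸ y.2⟩, Subtype.ext (by rw [morphismRestrict_base]; exact ha)⟩⟩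
    exact Groth.FlatMor2.isAffine_of_surjective_closedImmersion (i ∣_ U)
  · rintro ⟨b, hb, rfl⟩
    exact hb (hVT ht)

theorem main (X : Scheme.{u}) (hX : (irreducibleComponents (X : Type u)).Finite) (T : Set X)
    (hT : T.Finite) (h : ∀ (Z : Set X) (hZ : Z ∈ irreducibleComponents (X : Type u)),
      Good T ⟨Z, isClosed_of_mem_irreducibleComponents Z hZ⟩) :
    ∃ U : X.Opens, IsAffineOpen U ∧ T ⊆ U := by
  classical
  haveI := hX.fintype
  have key : ∀ s : Finset (irreducibleComponents (X : Type u)), Good T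
      (s.sup fun Z => (⟨Z.1, isClosed_of_mem_irreducibleComponents Z.1 Z.2⟩ : Closeds X)) := by
    intro s
    induction s using Finset.induction_on with
    | empty => rw [Finset.sup_empty]; exact good_bot T
    | @insert Z s hZ ih =>
      rw [Finset.sup_insert]
      exact good_sup T hT _ _ (h Z.1 Z.2) ih
  refine exists_of_good_top T ?_
  have htop : (Finset.univ.sup fun Z : irreducibleComponents (X : Type u) =>
      (⟨Z.1, isClosed_of_mem_irreducibleComponents Z.1 Z.2⟩ : Closeds X)) = ⊤ := by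
    refine top_le_iff.1 fun x _ => ?_
    obtain ⟨Z, hZ, hxZ⟩ : x ∈ ⋃₀ irreducibleComponents (X : Type u) := by
      rw [sUnion_irreducibleComponents]; trivial
    exact (Finset.le_sup (f := fun Z : irreducibleComponents (X : Type u) =>
      (⟨Z.1, isClosed_of_mem_irreducibleComponents Z.1 Z.2⟩ : Closeds X))
      (Finset.mem_univ ⟨Z, hZ⟩)) hxZ
  rw [← htop]
  exact key _

end Groth.Agent.S7662

namespace Groth.Agent.S7662

/-- Let X be a scheme with finitely many irreducible components Z_1, …, Z_t and T ⊆ X a finite set of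
points such that, for each i, some affine open of Z_i with its reduced closed subscheme structure
contains the points of T on Z_i. Then some affine open of X contains every point of T. -/
theorem result (X : Scheme.{u})
    (hX : (irreducibleComponents (X : Type u)).Finite) (T : Finset X)
    (h : ∀ (Z : Set X) (hZ : Z ∈ irreducibleComponents (X : Type u)),
      ∃ V : (Scheme.IdealSheafData.vanishingIdeal
          (⟨Z, isClosed_of_mem_irreducibleComponents Z hZ⟩ : TopologicalSpace.Closeds X)).subscheme.Opens,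
        IsAffineOpen V ∧ ∀ t ∈ T, t ∈ Z → t ∈ (Scheme.IdealSheafData.vanishingIdeal
          (⟨Z, isClosed_of_mem_irreducibleComponents Z hZ⟩ : TopologicalSpace.Closeds X)).subschemeι.base '' (V : Set _)) :
    ∃ U : X.Opens, IsAffineOpen U ∧ ∀ t ∈ T, t ∈ U := by
  refine main X hX (T : Set X) T.finite_toSet fun Z hZ => ?_
  obtain ⟨V, hV, hVT⟩ := h Z hZ
  refine ⟨V, hV, fun v hv => ?_⟩
  have hmem : (Scheme.IdealSheafData.vanishingIdeal
      (⟨Z, isClosed_of_mem_irreducibleComponents Z hZ⟩ : TopologicalSpace.Closeds X)).subschemeι v ∈ Z := by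
    have := Set.mem_range_self (f := (Scheme.IdealSheafData.vanishingIdeal
      (⟨Z, isClosed_of_mem_irreducibleComponents Z hZ⟩ : TopologicalSpace.Closeds X)).subschemeι) v
    rw [Groth.PropsBasic2.range_vanishingIdeal_subschemeι] at this
    exact this
  obtain ⟨w, hw, hwv⟩ := hVT _ hv hmem
  exact (Scheme.Hom.isClosedEmbedding _).injective hwv ▸ hw

end Groth.Agent.S7662
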