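import Groth.Statements.S0217
import Groth.Agent.S7662
import Groth.Agent.CodimOneAffine.Main

set_option autoImplicit false
set_option backward.isDefEq.respectTransparency false
set_option backward.isDefEq.respectTransparency.types false
universe u
open CategoryTheory CategoryTheory.Limits AlgebraicGeometry TopologicalSpace
open Curves

namespace Groth.Agent.S0217

/-- On a separated scheme whose quasi-compact opens have finitely many irreducible components, any
finite set of points with Noetherian local rings of dimension at most one lies in a common affine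
open. -/
theorem result (X : Scheme.{u}) [X.IsSeparated]
    (hirr : ∀ U : X.Opens, IsCompact (U : Set X) → (irreducibleComponents (U : Set X)).Finite)
    (s : Finset X) (hs : ∀ x ∈ s, IsNoetherianRing (X.presheaf.stalk x) ∧ ringKrullDim (X.presheaf.stalk x) ≤ 1) :
    ∃ U : X.Opens, IsAffineOpen U ∧ ∀ x ∈ s, x ∈ U := by
  classical
  have hex : ∀ x : s, ∃ W : X.Opens, IsAffineOpen W ∧ (x : X) ∈ W := fun x => by
    obtain ⟨W, hW, hxW, -⟩ := exists_isAffineOpen_mem_and_subset (X := X) (x := (x : X)) (U := ⊤) trivial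
    exact ⟨W, hW, hxW⟩
  choose W hW hxW using hex
  let X' : X.Opens := ⨆ x, W x
  have hsX : ∀ x ∈ s, x ∈ X' := fun x hx => Opens.mem_iSup.2 ⟨⟨x, hx⟩, hxW ⟨x, hx⟩⟩
  have hc : IsCompact (X' : Set X) := by
    show IsCompact ((⨆ x, W x : X.Opens) : Set X)
    rw [Opens.coe_iSup]
    exact isCompact_iUnion fun x => (hW x).isCompact
  have : (X' : Scheme.{u}).IsSeparated :=
    ⟨by rw [← Limits.terminal.comp_from X'.ι]; infer_instance⟩
  let T : Finset (X' : Scheme.{u}) := s.attach.image fun x => ⟨x.1, hsX x.1 x.2⟩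
  have hT : ∀ t ∈ T, IsNoetherianRing ((X' : Scheme.{u}).presheaf.stalk t) ∧
      ringKrullDim ((X' : Scheme.{u}).presheaf.stalk t) ≤ 1 := by
    intro t ht
    obtain ⟨⟨x, hx⟩, -, rfl⟩ := Finset.mem_image.1 ht
    obtain ⟨h1, h2⟩ := hs x hx
    let e := (X'.stalkIso ⟨x, hsX x hx⟩).commRingCatIsoToRingEquiv
    exact ⟨isNoetherianRing_of_ringEquiv _ e.symm, (ringKrullDim_eq_of_ringEquiv e).trans_le h2⟩
  obtain ⟨U, hU, hTU⟩ := Groth.Agent.S7662.result (X' : Scheme.{u}) (hirr X' hc) T fun Z hZ => by
    let Zc : Closeds (X' : Scheme.{u}) := ⟨Z, isClosed_of_mem_irreducibleComponents Z hZ⟩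
    let I := Scheme.IdealSheafData.vanishingIdeal Zc
    have : IsReduced I.subscheme := Groth.PropsBasic2.isReduced_vanishingIdeal_subscheme Zc
    have hrange : Set.range I.subschemeι = Z := Groth.PropsBasic2.range_vanishingIdeal_subschemeι Zc
    have hZi : IsIrreducible Z := hZ.1
    have : IrreducibleSpace ↥I.subscheme := by
      have hZr : IsIrreducible (Set.range I.subschemeι) := hrange.symm ▸ hZi
      have : IrreducibleSpace ↥(Set.range I.subschemeι) := Subtype.irreducibleSpace hZr
      let φ := I.subschemeι.isClosedEmbedding.isEmbedding.toHomeomorph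
      have h := (IrreducibleSpace.isIrreducible_univ ↥(Set.range I.subschemeι)).image φ.symm
        φ.symm.continuous.continuousOn
      rw [Set.image_univ, φ.symm.surjective.range_eq] at h
      exact (irreducibleSpace_def _).2 h
    have : IsIntegral I.subscheme := isIntegral_of_irreducibleSpace_of_isReduced _
    have : I.subscheme.IsSeparated :=
      ⟨by rw [← Limits.terminal.comp_from I.subschemeι]; infer_instance⟩
    have hinj := I.subschemeι.isClosedEmbedding.injective
    obtain ⟨V, hV, hTV⟩ := Groth.CodimOneAffine.exists_affineOpen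
      (T.preimage I.subschemeι hinj.injOn)
      (fun z hz =>
        have := (hT _ (Finset.mem_preimage.1 hz)).1
        isNoetherianRing_of_surjective _ _ (I.subschemeι.stalkMap z).hom
          (I.subschemeι.stalkMap_surjective z))
      (fun z hz => (ringKrullDim_le_of_surjective (I.subschemeι.stalkMap z).hom
          (I.subschemeι.stalkMap_surjective z)).trans (hT _ (Finset.mem_preimage.1 hz)).2)
    refine ⟨V, hV, fun t ht htZ => ?_⟩
    obtain ⟨z, rfl⟩ := hrange.ge htZ
    exact ⟨z, hTV z (Finset.mem_preimage.2 ht), rfl⟩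
  refine ⟨X'.ι ''ᵁ U, hU.image_of_isOpenImmersion X'.ι, fun x hx => ?_⟩
  exact ⟨⟨x, hsX x hx⟩, hTU _ (Finset.mem_image.2 ⟨⟨x, hx⟩, Finset.mem_attach _ _, rfl⟩), rfl⟩

end Groth.Agent.S0217
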