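import Groth.Statements.S1640
import Groth.Agent.VarietyBC.SemiLocal

set_option autoImplicit false
universe u
open Variety

namespace Groth.Agent.S1640

/-- Let K be a field, A ⊆ K a subring with fraction field K, and B_1, …, B_r ⊆ K Noetherian
one-dimensional subrings with finitely many maximal ideals and fraction field K, such that for each
i the subring generated by A and B_i is all of K. Then some nonzero x ∈ A has x⁻¹ lying in B_i and
in the Jacobson radical of B_i for every i. -/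
theorem result (K : Type u) [Field K] (A : Subring K) [IsFractionRing A K]
    (r : ℕ) (B : Fin r → Subring K) [∀ i, IsNoetherianRing (B i)] [∀ i, IsFractionRing (B i) K]
    (hdim : ∀ i, ringKrullDim (B i) = 1) (hsl : ∀ i, Finite (MaximalSpectrum (B i)))
    (hgen : ∀ i, A ⊔ B i = ⊤) :
    ∃ x : K, x ∈ A ∧ x ≠ 0 ∧ ∀ i, ∃ hx : x⁻¹ ∈ B i, (⟨x⁻¹, hx⟩ : B i) ∈ (⊥ : Ideal (B i)).jacobson := by
  classical
  have h : ∀ i, ∃ (ι : Type u) (_ : Finite ι) (V : ι → ValuationSubring K), (∀ j, IsDiscreteValuationRing (V j)) ∧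
      (∀ j, B i ≤ (V j).toSubring) ∧
      ∀ w : K, (∀ j, w ∈ (V j).nonunits) →
        ∃ N : ℕ, ∃ h : w ^ (N + 1) ∈ B i, ∀ M : Ideal (B i), M.IsMaximal → (⟨_, h⟩ : B i) ∈ M := fun i =>
    have : Ring.KrullDimLE 1 (B i) := Ring.krullDimLE_iff.mpr (hdim i).le
    have := hsl i
    Groth.VarietyBC.exists_pow_inv_mem (B i) (hdim i)
  choose ι hfin V hdvr hBV hpow using h
  have : ∀ i, Fintype (ι i) := fun i => @Fintype.ofFinite _ (hfin i)
  have : ∀ p : Σ i, ι i, IsDiscreteValuationRing (V p.1 p.2) := fun p => hdvr p.1 p.2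
  have hA : ∀ p : Σ i, ι i, ∃ u ∈ A, u ∉ V p.1 p.2 := by
    intro p
    by_contra! hcon
    have htop : ∀ z : K, z ∈ V p.1 p.2 := fun z =>
      (sup_le (c := (V p.1 p.2).toSubring) hcon (hBV p.1 p.2)) ((hgen p.1).ge trivial)
    refine (this p).not_a_field' ((IsLocalRing.isField_iff_maximalIdeal_eq).1 ?_)
    exact
      { exists_pair_ne := ⟨0, 1, zero_ne_one⟩
        mul_comm := mul_comm
        mul_inv_cancel := fun {a} ha => ⟨⟨(a : K)⁻¹, htop _⟩, Subtype.ext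
          (mul_inv_cancel₀ fun h => ha (Subtype.ext h))⟩ }
  obtain ⟨s, hsA, hs⟩ := Groth.GlueRings.exists_mul_not_mem A (fun p : Σ i, ι i => V p.1 p.2) hA
    Finset.univ {(1 : K)} (by simp)
  choose N hN hNM using fun i => hpow i s⁻¹ fun j =>
    Groth.GlueRings.mem_max_of_not_mem (V i j) (by simpa using hs ⟨i, j⟩ (Finset.mem_univ _) 1 (by simp))
  let n := ∏ i, (N i + 1)
  have hnpos : 0 < n := Finset.prod_pos fun i _ => Nat.succ_pos _
  by_cases hs0' : s = 0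
  · refine ⟨1, one_mem A, one_ne_zero, fun i => False.elim ?_⟩
    rcases isEmpty_or_nonempty (ι i) with he | ⟨⟨j⟩⟩
    · obtain ⟨N', h', hM'⟩ := hpow i 1 fun j => he.elim j
      obtain ⟨M, hM⟩ := Ideal.exists_maximal (B i)
      refine hM.ne_top ((Ideal.eq_top_iff_one _).2 ?_)
      have h1 : (⟨(1 : K) ^ (N' + 1), h'⟩ : B i) = 1 := Subtype.ext (one_pow _)
      exact h1 ▸ hM' M hM
    · have := hs ⟨i, j⟩ (Finset.mem_univ _) 1 (by simp)
      simp [hs0'] at this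
  refine ⟨s ^ n, pow_mem hsA n, pow_ne_zero _ hs0', fun i => ?_⟩
  obtain ⟨m, hm⟩ : (N i + 1) ∣ n := Finset.dvd_prod_of_mem _ (Finset.mem_univ i)
  have hm0 : m ≠ 0 := fun h => hnpos.ne' (by rw [hm, h, mul_zero])
  have he : (s ^ n)⁻¹ = (s⁻¹ ^ (N i + 1)) ^ m := by rw [← inv_pow, hm, pow_mul]
  refine ⟨he ▸ pow_mem (hN i) m, ?_⟩
  rw [Ideal.jacobson, Submodule.mem_sInf]
  rintro M ⟨-, hM⟩
  have : (⟨(s ^ n)⁻¹, he ▸ pow_mem (hN i) m⟩ : B i) = (⟨_, hN i⟩ : B i) ^ m := Subtype.ext he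
  rw [this]
  exact Ideal.pow_mem_of_mem M (hNM i M hM) m (Nat.pos_of_ne_zero hm0)

end Groth.Agent.S1640
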