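import Groth.Statements.S14448
import Groth.Agent.PicAux.Pullback

set_option autoImplicit false
universe u
open Coherent

namespace Groth.Agent.S14448

open AlgebraicGeometry CategoryTheory Scheme.Modules Groth.PicAux in
theorem symm_pullSec {X Y : Scheme.{u}} (f : X ⟶ Y) {M : Y.Modules} {N : X.Modules}
    (h : M ⟶ (pushforward f).obj N) {U : Y.Opens} (m : Γ(M, U)) :
    (((pullbackPushforwardAdjunction f).homEquiv M N).symm h).app (f ⁻¹ᵁ U) (pullSec f M m) =
      h.app U m := by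
  have e := ((pullbackPushforwardAdjunction f).homEquiv M N).apply_symm_apply h
  rw [Adjunction.homEquiv_unit] at e
  exact congr(($e).app U m)

open AlgebraicGeometry CategoryTheory Scheme.Modules Groth.PicAux in
theorem transpose_app {U V W : Scheme.{u}} (φ : U ⟶ V) (ψ : V ⟶ W) {M : W.Modules} {N : U.Modules}
    (k : (pullback φ).obj ((pullback ψ).obj M) ⟶ N) (O : W.Opens) (m : Γ(M, O)) :
    ((pushforward ψ).map ((pullbackPushforwardAdjunction φ).unit.app ((pullback ψ).obj M) ≫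
      (pushforward φ).map k)).app O (((pullbackPushforwardAdjunction ψ).unit.app M).app O m) =
      k.app (φ ⁻¹ᵁ ψ ⁻¹ᵁ O) (pullSec φ _ (pullSec ψ M m)) := rfl

open AlgebraicGeometry CategoryTheory Scheme.Modules Groth.PicAux in
theorem final_res {X Y Z : Scheme.{u}} (f : X ⟶ Y) (g : Y ⟶ Z) (L : Z.Modules) {O : Z.Opens}
    {A : Y.Opens} {B : X.Opens} (h₁ : A ≤ g ⁻¹ᵁ O) (h₂ : B ≤ f ⁻¹ᵁ A) (h₃ : B ≤ f ⁻¹ᵁ g ⁻¹ᵁ O)
    (m : Γ(L, O)) :
    res _ h₃ (pullSec (f ≫ g) L m) =
      ((pullbackComp f g).hom.app L).app B (res _ h₂ (pullSec f _ (res _ h₁ (pullSec g L m)))) := by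
  rw [← res_pullSec f _ h₁]
  simp only [Functor.comp_obj, res_res]
  refine Eq.trans ?_ (app_res ((pullbackComp f g).hom.app L) h₃
    (pullSec f _ (pullSec g L m))).symm
  exact congrArg (res _ h₃) (pullSec_comp f g L m).symm

open AlgebraicGeometry CategoryTheory Scheme.Modules in
/-- Take two commutative squares of schemes side by side, f : X → Y over φ : U → V (vertical maps ξ : X
→ U and η : Y → V, f ≫ η = ξ ≫ φ) and g : Y → Z over ψ : V → W (vertical map ζ : Z → W, g ≫ ζ = η ≫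
ψ), and an O_Z-module L. For a commutative square the base change map β_{f,φ}(M) : φ^* η_* M → ξ_*
f^* M is the adjoint of η_*(unit) : η_* M → η_* f_* f^* M = φ_* ξ_* f^* M, and α denotes the
composition isomorphisms of module pullbacks. Then the composite of α_{φ,ψ}(ζ_* L) : φ^* ψ^* ζ_* L →
(φ ≫ ψ)^* ζ_* L with β_{f ≫ g, φ ≫ ψ}(L) equals the composite of φ^* β_{g,ψ}(L), β_{f,φ}(g^* L) and
ξ_* α_{f,g}(L), as maps φ^* ψ^* ζ_* L → ξ_* (f ≫ g)^* L. No cartesian or finiteness hypothesis is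
made; the outer square is used through any proof hw of its commutativity. -/
theorem result {X Y Z U V W : Scheme.{u}} (f : X ⟶ Y) (g : Y ⟶ Z)
    (ξ : X ⟶ U) (η : Y ⟶ V) (ζ : Z ⟶ W) (φ : U ⟶ V) (ψ : V ⟶ W)
    (h₁ : f ≫ η = ξ ≫ φ) (h₂ : g ≫ ζ = η ≫ ψ) (hw : (f ≫ g) ≫ ζ = ξ ≫ (φ ≫ ψ)) (L : Z.Modules) :
    (pullbackComp φ ψ).hom.app ((pushforward ζ).obj L) ≫
        (((pullbackPushforwardAdjunction (φ ≫ ψ)).homEquiv ((pushforward ζ).obj L)
            ((pushforward ξ).obj ((pullback (f ≫ g)).obj L))).symm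
          ((pushforward ζ).map ((pullbackPushforwardAdjunction (f ≫ g)).unit.app L) ≫
            (pushforwardComp (f ≫ g) ζ).hom.app ((pullback (f ≫ g)).obj L) ≫
            (pushforwardCongr hw).hom.app ((pullback (f ≫ g)).obj L) ≫
            (pushforwardComp ξ (φ ≫ ψ)).inv.app ((pullback (f ≫ g)).obj L))) =
      (pullback φ).map (((pullbackPushforwardAdjunction ψ).homEquiv ((pushforward ζ).obj L)
            ((pushforward η).obj ((pullback g).obj L))).symm
          ((pushforward ζ).map ((pullbackPushforwardAdjunction g).unit.app L) ≫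
            (pushforwardComp g ζ).hom.app ((pullback g).obj L) ≫
            (pushforwardCongr h₂).hom.app ((pullback g).obj L) ≫
            (pushforwardComp η ψ).inv.app ((pullback g).obj L))) ≫
        (((pullbackPushforwardAdjunction φ).homEquiv ((pushforward η).obj ((pullback g).obj L))
            ((pushforward ξ).obj ((pullback f).obj ((pullback g).obj L)))).symm
          ((pushforward η).map ((pullbackPushforwardAdjunction f).unit.app ((pullback g).obj L)) ≫
            (pushforwardComp f η).hom.app ((pullback f).obj ((pullback g).obj L)) ≫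
            (pushforwardCongr h₁).hom.app ((pullback f).obj ((pullback g).obj L)) ≫
            (pushforwardComp ξ φ).inv.app ((pullback f).obj ((pullback g).obj L)))) ≫
        (pushforward ξ).map ((pullbackComp f g).hom.app L) := by
  apply ((pullbackPushforwardAdjunction φ).homEquiv _ _).injective
  apply ((pullbackPushforwardAdjunction ψ).homEquiv _ _).injective
  simp only [Adjunction.homEquiv_unit]
  ext W m
  have hφψ := Groth.PicAux.pullSec_comp φ ψ ((pushforward ζ).obj L) (U := W) m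
  simp only [Functor.comp_obj, Hom.comp_app, CategoryTheory.comp_apply]
  refine (transpose_app φ ψ _ W m).trans (Eq.trans ?_ (transpose_app φ ψ _ W m).symm)
  simp only [Hom.comp_app, CategoryTheory.comp_apply, Groth.PicAux.pullSec_map]
  rw [hφψ]
  rw [symm_pullSec ψ (N := (pushforward η).obj ((pullback g).obj L))]
  rw [symm_pullSec φ (N := (pushforward ξ).obj ((pullback f).obj ((pullback g).obj L)))]
  refine (symm_pullSec (φ ≫ ψ) (N := (pushforward ξ).obj ((pullback (f ≫ g)).obj L)) _ m).trans ?_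
  simp only [Hom.comp_app, CategoryTheory.comp_apply, pushforwardComp_hom_app_app,
    pushforwardComp_inv_app_app, pushforwardCongr_hom_app_app]
  have e₁ : g ⁻¹ᵁ ζ ⁻¹ᵁ W = η ⁻¹ᵁ ψ ⁻¹ᵁ W := by
    rw [← Scheme.Hom.comp_preimage, h₂, Scheme.Hom.comp_preimage]
  have e₂ : f ⁻¹ᵁ η ⁻¹ᵁ ψ ⁻¹ᵁ W = ξ ⁻¹ᵁ φ ⁻¹ᵁ ψ ⁻¹ᵁ W := by
    rw [← Scheme.Hom.comp_preimage, h₁, Scheme.Hom.comp_preimage]
  have e₃ : f ⁻¹ᵁ g ⁻¹ᵁ ζ ⁻¹ᵁ W = ξ ⁻¹ᵁ φ ⁻¹ᵁ ψ ⁻¹ᵁ W := by rw [e₁, e₂]
  change Groth.PicAux.res _ e₃.ge (Groth.PicAux.pullSec (f ≫ g) L m) =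
    ((pullbackComp f g).hom.app L).app _ (Groth.PicAux.res _ e₂.ge
      (Groth.PicAux.pullSec f _ (Groth.PicAux.res _ e₁.ge (Groth.PicAux.pullSec g L m))))
  exact final_res f g L e₁.ge e₂.ge e₃.ge m

end Groth.Agent.S14448
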