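import Groth.Statements.S6531
import Groth.Agent.CohBase.CechRes

set_option autoImplicit false
universe u
open CategoryTheory
open CechOX

namespace Groth.Agent.S6531

section

open CategoryTheory CategoryTheory.Limits AlgebraicGeometry Opposite TopologicalSpace
open Groth.CohBase
open Groth

variable {X : Scheme.{u}} {ι : Type u} (U : ι → X.Opens) (F : X.Modules)

noncomputable abbrev Wx {n : ℕ} (x : Fin n → ι) : X.Opens := ∏ᶜ (U ∘ x)

theorem image_preimage_le {n : ℕ} (x : Fin (n + 1) → ι) (W : X.Opens) :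
    (Wx U x).ι ''ᵁ ((Wx U x).ι ⁻¹ᵁ W) ≤ W ⊓ tupOpen U x := by
  rw [Scheme.Hom.image_preimage_eq_opensRange_inf, Scheme.Opens.opensRange_ι, inf_comm]
  exact inf_le_inf_left W (pi_eq_inter (X := X.toTopCat) U x).le

theorem inf_le_image_preimage {n : ℕ} (x : Fin (n + 1) → ι) (W : X.Opens) :
    W ⊓ tupOpen U x ≤ (Wx U x).ι ''ᵁ ((Wx U x).ι ⁻¹ᵁ W) := by
  rw [Scheme.Hom.image_preimage_eq_opensRange_inf, Scheme.Opens.opensRange_ι, inf_comm]
  exact inf_le_inf_right W (pi_eq_inter (X := X.toTopCat) U x).ge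

theorem smul_pushRestr (W' : X.Opens) {W : X.Opens} (r : Γ(X, W))
    (h : W'.ι ''ᵁ (W'.ι ⁻¹ᵁ W) ≤ W) :
    (W'.ι.appIso (W'.ι ⁻¹ᵁ W)).inv (W'.ι.app W r) = QCohMod.resFun X h r :=
  (ConcreteCategory.congr_hom (W'.ι.app_appIso_inv W) r)

noncomputable def compAt {n : ℕ} (x : Fin (n + 1) → ι) :
    csMod U F n ⟶ (CechOX.pushRestr (Wx U x)).obj F :=
  ⟨PresheafOfModules.homMk
    { app := fun W => AddCommGrpCat.ofHom (AddMonoidHom.mk'
        (fun (s : CsSec U F n W.unop) => (QCohMod.res F (image_preimage_le U x W.unop) (s x) :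
          Γ(F, (Wx U x).ι ''ᵁ ((Wx U x).ι ⁻¹ᵁ W.unop))))
        fun s t => map_add _ _ _)
      naturality := fun W W' i => by
        refine AddCommGrpCat.ext fun (s : CsSec U F n W.unop) => ?_
        change QCohMod.res F (image_preimage_le U x W'.unop)
            (QCohMod.res F (inf_le_inf_right _ (leOfHom i.unop)) (s x)) =
          QCohMod.res F (leOfHom ((CechOX.interFun (Wx U x)).map i.unop))
            (QCohMod.res F (image_preimage_le U x W.unop) (s x))
        rw [QCohMod.res_res, QCohMod.res_res] }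
    (fun W (r : Γ(X, W.unop)) (s : CsSec U F n W.unop) => by
      change QCohMod.res F (image_preimage_le U x W.unop)
          (QCohMod.resFun X (inf_le_left : W.unop ⊓ tupOpen U x ≤ W.unop) r • s x) =
        ((Wx U x).ι.appIso ((Wx U x).ι ⁻¹ᵁ W.unop)).inv ((Wx U x).ι.app W.unop r) •
          QCohMod.res F (image_preimage_le U x W.unop) (s x)
      rw [QCohMod.res_smul, QCohMod.resFun_resFun,
        smul_pushRestr (Wx U x) r ((image_preimage_le U x W.unop).trans inf_le_left)])⟩

theorem compAt_app {n : ℕ} (x : Fin (n + 1) → ι) (W : X.Opens) (s : Γ(csMod U F n, W)) :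
    (show Γ(F, (Wx U x).ι ''ᵁ ((Wx U x).ι ⁻¹ᵁ W)) from (compAt U F x).app W s) =
      QCohMod.res F (image_preimage_le U x W) ((show CsSec U F n W from s) x) := rfl

noncomputable abbrev term (n : ℕ) : (Fin (n + 1) → ι) → X.Modules :=
  fun x => (CechOX.pushRestr (Wx U x)).obj F

noncomputable def toCech (n : ℕ) : csMod U F n ⟶ (∏ᶜ term U F n : X.Modules) :=
  Pi.lift (f := term U F n) fun x => compAt U F x

/-- sections of a term as sections of `F` -/
noncomputable def toF {n : ℕ} (x : Fin (n + 1) → ι) (W : X.Opens) :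
    Γ(term U F n x, W) →+ Γ(F, (Wx U x).ι ''ᵁ ((Wx U x).ι ⁻¹ᵁ W)) := AddMonoidHom.id _

/-- the components of a section of the product -/
noncomputable def comp {n : ℕ} (x : Fin (n + 1) → ι) {P : X.Modules} (q : P ⟶ term U F n x) (W : X.Opens) :
    Γ(P, W) →+ Γ(F, W ⊓ tupOpen U x) :=
  ((QCohMod.res F (inf_le_image_preimage U x W)).comp (toF U F x W)).comp (q.app W).hom

theorem toF_res {n : ℕ} (x : Fin (n + 1) → ι) {W W' : X.Opens} (h : W' ≤ W) (m : Γ(term U F n x, W)) :
    toF U F x W' (QCohMod.res (term U F n x) h m) =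
      QCohMod.res F (leOfHom ((CechOX.interFun (Wx U x)).map (homOfLE h))) (toF U F x W m) := rfl

theorem toF_smul {n : ℕ} (x : Fin (n + 1) → ι) (W : X.Opens) (r : Γ(X, W)) (m : Γ(term U F n x, W)) :
    toF U F x W (r • m) =
      QCohMod.resFun X ((image_preimage_le U x W).trans inf_le_left) r • toF U F x W m := by
  rw [← smul_pushRestr (Wx U x) r ((image_preimage_le U x W).trans inf_le_left)]
  rfl

theorem comp_res {n : ℕ} (x : Fin (n + 1) → ι) {P : X.Modules} (q : P ⟶ term U F n x) {W W' : X.Opens}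
    (h : W' ≤ W) (s : Γ(P, W)) :
    comp U F x q W' (QCohMod.res P h s) = QCohMod.res F (inf_le_inf_right _ h) (comp U F x q W s) := by
  change QCohMod.res F (inf_le_image_preimage U x W') (toF U F x W' (q.app W' (QCohMod.res P h s))) =
    QCohMod.res F (inf_le_inf_right _ h) (QCohMod.res F (inf_le_image_preimage U x W) (toF U F x W (q.app W s)))
  rw [← QCohMod.res_app, toF_res, QCohMod.res_res, QCohMod.res_res]

theorem comp_smul {n : ℕ} (x : Fin (n + 1) → ι) {P : X.Modules} (q : P ⟶ term U F n x) (W : X.Opens)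
    (r : Γ(X, W)) (s : Γ(P, W)) :
    comp U F x q W (r • s) =
      QCohMod.resFun X (inf_le_left : W ⊓ tupOpen U x ≤ W) r • comp U F x q W s := by
  change QCohMod.res F (inf_le_image_preimage U x W) (toF U F x W (q.app W (r • s))) =
    QCohMod.resFun X (inf_le_left : W ⊓ tupOpen U x ≤ W) r •
      QCohMod.res F (inf_le_image_preimage U x W) (toF U F x W (q.app W s))
  rw [Scheme.Modules.Hom.app_smul, toF_smul, QCohMod.res_smul, QCohMod.resFun_resFun]

noncomputable def fromCech (n : ℕ) : (∏ᶜ term U F n : X.Modules) ⟶ csMod U F n :=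
  ⟨PresheafOfModules.homMk
    { app := fun W => AddCommGrpCat.ofHom (AddMonoidHom.mk'
        (fun (s : Γ((∏ᶜ term U F n : X.Modules), W.unop)) x => comp U F x (Pi.π (term U F n) x) W.unop s)
        fun s t => funext fun x => map_add (comp U F x (Pi.π (term U F n) x) W.unop) s t)
      naturality := fun W W' i => by
        refine AddCommGrpCat.ext fun (s : Γ((∏ᶜ term U F n : X.Modules), W.unop)) => funext fun x => ?_
        exact comp_res U F x (Pi.π (term U F n) x) (leOfHom i.unop) s }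
    (fun W (r : Γ(X, W.unop)) (s : Γ((∏ᶜ term U F n : X.Modules), W.unop)) => funext fun x =>
      comp_smul U F x (Pi.π (term U F n) x) W.unop r s)⟩

theorem toCech_π (n : ℕ) (x : Fin (n + 1) → ι) :
    toCech U F n ≫ Pi.π (term U F n) x = compAt U F x := Pi.lift_π _ _

theorem toCech_fromCech (n : ℕ) : toCech U F n ≫ fromCech U F n = 𝟙 _ := by
  refine CohTwo.hom_ext_app fun W s => funext fun x => ?_
  have e := congrArg (fun q : csMod U F n ⟶ term U F n x => q.app W s) (toCech_π U F n x)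
  change QCohMod.res F (inf_le_image_preimage U x W)
    (toF U F x W ((toCech U F n ≫ Pi.π (term U F n) x).app W s)) = _
  refine (congrArg (fun m => QCohMod.res F (inf_le_image_preimage U x W) (toF U F x W m)) e).trans ?_
  exact (QCohMod.res_res F _ _ _).trans (QCohMod.res_self F _)

theorem fromCech_toCech (n : ℕ) : fromCech U F n ≫ toCech U F n = 𝟙 _ := by
  refine Pi.hom_ext (f := term U F n) _ _ fun x => ?_
  refine CohTwo.hom_ext_app fun W s => ?_
  rw [Category.assoc, toCech_π]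
  change QCohMod.res F (image_preimage_le U x W) (QCohMod.res F (inf_le_image_preimage U x W)
    (toF U F x W ((Pi.π (term U F n) x).app W s))) = _
  exact (QCohMod.res_res F _ _ _).trans ((QCohMod.res_self F _).trans rfl)

/-- the differential of the Čech complex of sheaves, between products -/
noncomputable abbrev cd (n : ℕ) : (∏ᶜ term U F n : X.Modules) ⟶ ∏ᶜ term U F (n + 1) :=
  ((CechOX.cechSh U).obj F).d n (n + 1)

noncomputable abbrev cs (n : ℕ) (a : Fin (n + 2)) : (∏ᶜ term U F n : X.Modules) ⟶ ∏ᶜ term U F (n + 1) :=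
  ((FormalCoproduct.cosimplicialObjectFunctor (FormalCoproduct.mk _ U).cech).obj
      (CechOX.pushRestrFam.flip.obj F)).δ a

theorem toCech_d (n : ℕ) :
    toCech U F n ≫ cd U F n = csD U F n ≫ toCech U F (n + 1) := by
  have hd : cd U F n = ∑ a : Fin (n + 2), ((-1 : ℤ) ^ (a : ℕ)) • cs U F n a :=
    CochainComplex.of_d _ (AlgebraicTopology.AlternatingCofaceMapComplex.objD
      ((FormalCoproduct.cosimplicialObjectFunctor (FormalCoproduct.mk _ U).cech).obj
          (CechOX.pushRestrFam.flip.obj F))) n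
  refine Pi.hom_ext (f := term U F (n + 1)) _ _ fun x => ?_
  have e : (toCech U F (n + 1)) ≫ Pi.π (term U F (n + 1)) x = compAt U F x := toCech_π U F _ x
  rw [hd]
  have e' : (csD U F n ≫ toCech U F (n + 1)) ≫ Pi.π (term U F (n + 1)) x = csD U F n ≫ compAt U F x :=
    (Category.assoc _ _ _).trans (congrArg (csD U F n ≫ ·) e)
  refine (Category.assoc _ _ _).trans (Eq.trans ?_ e'.symm)
  rw [Preadditive.sum_comp, Preadditive.comp_sum]
  refine CohTwo.hom_ext_app fun W s => ?_
  change _ = QCohMod.res F (image_preimage_le U x W) (csd U F n W s x)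
  rw [csd_apply, map_sum]
  refine (map_sum (({ toFun := fun φ => φ.app W s, map_zero' := rfl, map_add' := fun _ _ => rfl } :
    (csMod U F n ⟶ term U F (n + 1) x) →+ Γ(term U F (n + 1) x, W))) _ _).trans
    (Finset.sum_congr rfl fun a _ => ?_)
  have hle := (pi_eq_inter (X := X.toTopCat) U x).le.trans
    ((inter_comp (X := X.toTopCat) U x a.succAbove).trans (pi_eq_inter (X := X.toTopCat) U (x ∘ a.succAbove)).ge)
  have h : cs U F n a ≫ Pi.π (term U F (n + 1)) x =
      Pi.π (term U F n) (x ∘ a.succAbove) ≫ CechOX.pushRestrMapApp hle F := Pi.lift_π _ _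
  rw [Preadditive.zsmul_comp, Preadditive.comp_zsmul, h, ← Category.assoc, toCech_π]
  rw [map_zsmul]
  refine Eq.trans ?_ (map_zsmul (QCohMod.res F (image_preimage_le U x W)) _ _).symm
  refine congrArg (fun m : Γ(F, (Wx U x).ι ''ᵁ ((Wx U x).ι ⁻¹ᵁ W)) => ((-1 : ℤ) ^ (a : ℕ)) • m) ?_
  exact (QCohMod.res_res F (image_preimage_le U (x ∘ a.succAbove) W) (leOfHom ((CechOX.interFunLE hle).app W)) _).trans
    (QCohMod.res_res F (inf_le_inf_left W (inter_comp (X := X.toTopCat) U x a.succAbove))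
      (image_preimage_le U x W) _).symm

noncomputable abbrev caug : F ⟶ (∏ᶜ term U F 0 : X.Modules) :=
  Pi.lift (f := term U F 0) fun x => (Scheme.Modules.restrictAdjunction (Wx U x).ι).unit.app F

theorem caug_eq : caug U F = CechOX.cechShAug U F := rfl

theorem csι_toCech : csι U F ≫ toCech U F 0 = caug U F := by
  refine Pi.hom_ext (f := term U F 0) _ _ fun x => ?_
  rw [Category.assoc, toCech_π, Pi.lift_π]
  refine CohTwo.hom_ext_app fun W s => ?_
  exact (QCohMod.res_res F (inf_le_left : W ⊓ tupOpen U x ≤ W) (image_preimage_le U x W) s).trans rfl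

end

open AlgebraicGeometry CategoryTheory.Limits in
/-- Let X be a scheme, X = ⋃ U_i an open covering and F an O_X-module. The Čech complex of sheaves 𝔠(𝒰,
F), with 𝔠^p the product over (p+1)-tuples of the direct images of the restrictions of F to U_{i_0}
∩ … ∩ U_{i_p}, together with the canonical coaugmentation F → 𝔠^0, is a resolution of F: the
coaugmentation is a monomorphism, its composite with the first differential is zero, it is a kernel
of that differential (every map into 𝔠^0 killed by the differential factors uniquely through it),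
and the cohomology sheaves of 𝔠(𝒰, F) vanish in all positive degrees. (The published statement is
for ringed spaces; this row is for schemes.) -/
theorem result {X : Scheme.{u}} {ι : Type u} (𝒰 : ι → X.Opens) (h𝒰 : ⨆ i, 𝒰 i = ⊤)
    (F : X.Modules) :
    Mono (CechOX.cechShAug 𝒰 F) ∧
    CechOX.cechShAug 𝒰 F ≫ ((CechOX.cechSh 𝒰).obj F).d 0 1 = 0 ∧
    (∀ (G : X.Modules) (g : G ⟶ ((CechOX.cechSh 𝒰).obj F).X 0), g ≫ ((CechOX.cechSh 𝒰).obj F).d 0 1 = 0 →
      ∃! g' : G ⟶ F, g' ≫ CechOX.cechShAug 𝒰 F = g) ∧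
    ∀ p : ℕ, IsZero (((CechOX.cechSh 𝒰).obj F).homology (p + 1)) := by
  have hR := (Groth.CohBase.cechRes 𝒰 F h𝒰).isRes
  let e : ∀ n, Groth.CohBase.csMod 𝒰 F n ≅ ((CechOX.cechSh 𝒰).obj F).X n := fun n =>
    ⟨toCech 𝒰 F n, fromCech 𝒰 F n, toCech_fromCech 𝒰 F n, fromCech_toCech 𝒰 F n⟩
  have haug : CechOX.cechShAug 𝒰 F = Groth.CohBase.csι 𝒰 F ≫ (e 0).hom :=
    ((csι_toCech 𝒰 F).trans (caug_eq 𝒰 F)).symm
  have : ∀ n, Mono (e n).hom := fun n => @IsIso.mono_of_iso _ _ _ _ _ ⟨(e n).inv, (e n).hom_inv_id, (e n).inv_hom_id⟩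
  have hd : ∀ n, (e n).hom ≫ ((CechOX.cechSh 𝒰).obj F).d n (n + 1) =
      Groth.CohBase.csD 𝒰 F n ≫ (e (n + 1)).hom := toCech_d 𝒰 F
  have : Mono (Groth.CohBase.csι 𝒰 F) := hR.mono
  have hz : CechOX.cechShAug 𝒰 F ≫ ((CechOX.cechSh 𝒰).obj F).d 0 1 = 0 := by
    rw [haug, Category.assoc, hd, reassoc_of% (Groth.CohBase.csι_csD 𝒰 F), zero_comp]
  have hm : Mono (CechOX.cechShAug 𝒰 F) := haug ▸ mono_comp _ _
  refine ⟨hm, hz, fun G g hg => ?_, fun p => ?_⟩
  · have hg' : (g ≫ (e 0).inv) ≫ Groth.CohBase.csD 𝒰 F 0 = 0 := by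
      rw [← cancel_mono (e 1).hom, Category.assoc, Category.assoc, ← hd, Iso.inv_hom_id_assoc, hg, zero_comp]
    have hS : (ShortComplex.mk (Groth.CohBase.csι 𝒰 F) (Groth.CohBase.csD 𝒰 F 0)
      (Groth.CohBase.csι_csD 𝒰 F)).Exact := hR.exact₀
    have : Mono (ShortComplex.mk (Groth.CohBase.csι 𝒰 F) (Groth.CohBase.csD 𝒰 F 0)
      (Groth.CohBase.csι_csD 𝒰 F)).f := ‹Mono (Groth.CohBase.csι 𝒰 F)›
    refine ⟨hS.lift _ hg', ?_, fun g' hg'' => ?_⟩
    · show hS.lift _ hg' ≫ _ = g
      rw [haug, reassoc_of% (hS.lift_f _ hg'), Iso.inv_hom_id, Category.comp_id]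
    · rw [← cancel_mono (CechOX.cechShAug 𝒰 F), hg'', haug, reassoc_of% (hS.lift_f _ hg'), Iso.inv_hom_id,
        Category.comp_id]
  · rw [← HomologicalComplex.exactAt_iff_isZero_homology,
      HomologicalComplex.exactAt_iff' _ p (p + 1) (p + 2) (by simp) (by simp)]
    refine (ShortComplex.exact_iff_of_iso ?_).1 (hR.exact p)
    exact ShortComplex.isoMk (e p) (e (p + 1)) (e (p + 2)) (hd p) (hd (p + 1))

end Groth.Agent.S6531
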