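import Groth.Statements.S1153
import Groth.Agent.DescentBase.Descends

set_option autoImplicit false
open CategoryTheory CategoryTheory.Limits AlgebraicGeometry Opposite
universe u
open Desc

namespace Groth.Agent.S1153

set_option backward.isDefEq.respectTransparency false in
/-- A morphism is separated and universally closed if it is so after a surjective closed immersion. -/
theorem of_surjective_isClosedImmersion {E T S : Scheme.{u}} (e : E ⟶ T) (h : T ⟶ S)
    [IsClosedImmersion e] [Surjective e] [IsSeparated (e ≫ h)] [UniversallyClosed (e ≫ h)] :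
    IsSeparated h ∧ UniversallyClosed h := by
  refine ⟨⟨?_⟩, UniversallyClosed.of_comp_surjective (f := e) (g := h)⟩
  refine IsClosedImmersion.of_isPreimmersion _ ?_
  let m : pullback (e ≫ h) (e ≫ h) ⟶ pullback h h :=
    pullback.map _ _ _ _ e e (𝟙 _) (Category.comp_id _) (Category.comp_id _)
  have hsq : pullback.diagonal (e ≫ h) ≫ m = e ≫ pullback.diagonal h := by
    apply pullback.hom_ext <;> simp [m, pullback.map]
  have hm : UniversallyClosed m :=
    MorphismProperty.pullbackMap (P := @UniversallyClosed)
      (inferInstance : UniversallyClosed e) (inferInstance : UniversallyClosed e) rfl rfl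
  have h1 : Set.range (pullback.diagonal h).base = Set.range (e ≫ pullback.diagonal h).base := by
    rw [Scheme.Hom.comp_base, TopCat.coe_comp, e.surjective.range_comp]
  rw [h1, ← hsq, Scheme.Hom.comp_base, TopCat.coe_comp, Set.range_comp]
  exact m.isClosedMap _ (pullback.diagonal (e ≫ h)).isClosedEmbedding.isClosed_range

/-- Let f : X ⟶ Y be locally of finite type, Z a closed subset of X and g : Y' ⟶ Y quasi-compact, flat
and surjective. If the preimage of Z in X ×_Y Y' is proper over Y', then Z is proper over Y. -/
theorem result {X Y Y' : Scheme.{u}} (f : X ⟶ Y) [LocallyOfFiniteType f] (Z : Set X) (hZ : IsClosed Z)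
    (g : Y' ⟶ Y) [QuasiCompact g] [Flat g] [Surjective g]
    (h : ClSub.IsProperOver (pullback.snd f g) ((pullback.fst f g).base ⁻¹' Z)) :
    ClSub.IsProperOver f Z := by
  obtain ⟨hc, hp⟩ := h
  let ι := (Scheme.IdealSheafData.vanishingIdeal ⟨Z, hZ⟩).subschemeι
  let tι := pullback.fst (pullback.fst f g) ι
  have hsq : IsPullback (pullback.snd (pullback.fst f g) ι) (tι ≫ pullback.snd f g) (ι ≫ f) g :=
    (IsPullback.of_hasPullback (pullback.fst f g) ι).flip.paste_vert (IsPullback.of_hasPullback f g)
  have hrange : Set.range tι.base = (pullback.fst f g).base ⁻¹' Z := by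
    rw [Scheme.Pullback.range_fst, Scheme.IdealSheafData.range_subschemeι,
      Scheme.IdealSheafData.coe_support_vanishingIdeal]
    rfl
  let J := Scheme.IdealSheafData.vanishingIdeal (⟨(pullback.fst f g).base ⁻¹' Z, hc⟩ : TopologicalSpace.Closeds _)
  have hle : tι.ker ≤ J.subschemeι.ker := by
    rw [Scheme.IdealSheafData.ker_subschemeι,
      ← Scheme.IdealSheafData.le_support_iff_le_vanishingIdeal]
    intro x (hx : x ∈ (pullback.fst f g).base ⁻¹' Z)
    have : x ∈ (tι.ker.support : Set _) := by
      rw [Scheme.Hom.support_ker]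
      exact subset_closure (hrange.symm ▸ hx)
    exact this
  let e : J.subscheme ⟶ _ := IsClosedImmersion.lift tι J.subschemeι hle
  have he : e ≫ tι = J.subschemeι := IsClosedImmersion.lift_fac _ _ _
  have : IsClosedImmersion (e ≫ tι) := by rw [he]; infer_instance
  have : IsClosedImmersion e := IsClosedImmersion.of_comp e tι
  have : Surjective e := ⟨fun z => by
    have hz : tι.base z ∈ Set.range J.subschemeι.base := by
      rw [Scheme.IdealSheafData.range_subschemeι, Scheme.IdealSheafData.coe_support_vanishingIdeal]
      refine Set.mem_of_mem_of_subset ?_ (le_of_eq hrange)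
      exact Set.mem_range_self z
    obtain ⟨w, hw⟩ := hz
    exact ⟨w, tι.isClosedEmbedding.injective (by rw [← Scheme.Hom.comp_apply, he]; exact hw)⟩⟩
  have hp' : IsProper (e ≫ tι ≫ pullback.snd f g) := by rw [← Category.assoc, he]; exact hp
  obtain ⟨h1, h2⟩ := of_surjective_isClosedImmersion e (tι ≫ pullback.snd f g)
  refine ⟨hZ, ?_⟩
  have hg : Groth.DescentBase.SFQ g := Groth.DescentBase.sfq g
  have : IsSeparated (ι ≫ f) :=
    MorphismProperty.of_isPullback_of_descendsAlong (P := @IsSeparated) hsq.flip hg h1
  have : UniversallyClosed (ι ≫ f) :=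
    MorphismProperty.of_isPullback_of_descendsAlong (P := @UniversallyClosed) hsq.flip hg h2
  exact { }

end Groth.Agent.S1153
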