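import Groth.Statements.S0787
import Groth.Agent.CohProper.Image
import Groth.Agent.S1153
-- import your own Groth.Agent.* helpers here

set_option autoImplicit false
universe u
open Coherent

namespace Groth.Agent.S0787

open CategoryTheory AlgebraicGeometry in
/-- Let f : X → S be locally of finite type and Z ⊆ X a closed subset. Then Z with its reduced induced
structure is proper over S if and only if some closed subscheme of X with underlying set Z is proper
over S, if and only if every closed subscheme of X with underlying set Z is proper over S. -/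
theorem result {X S : Scheme.{u}} (f : X ⟶ S) [LocallyOfFiniteType f]
    (Z : Set X) (hZ : IsClosed Z) :
    (ClSub.IsProperOver f Z ↔ ∃ (T : Scheme.{u}) (i : T ⟶ X), IsClosedImmersion i ∧
        Set.range ⇑i = Z ∧ IsProper (i ≫ f)) ∧
    (ClSub.IsProperOver f Z ↔ ∀ (T : Scheme.{u}) (i : T ⟶ X), IsClosedImmersion i →
        Set.range ⇑i = Z → IsProper (i ≫ f)) := by

  have key : ∀ (T : Scheme.{u}) (i : T ⟶ X), IsClosedImmersion i → Set.range i = Z →
      IsProper (i ≫ f) → ClSub.IsProperOver f Z := by
    intro T i hi hr hp
    have := Groth.CohProper.isProperOver_range i f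
    rwa [hr] at this
  let K := Scheme.IdealSheafData.vanishingIdeal (⟨Z, hZ⟩ : TopologicalSpace.Closeds X)
  have hK : Set.range K.subschemeι = Z := by
    rw [Scheme.IdealSheafData.range_subschemeι, Scheme.IdealSheafData.coe_support_vanishingIdeal]
    rfl
  have hall : ClSub.IsProperOver f Z → ∀ (T : Scheme.{u}) (i : T ⟶ X), IsClosedImmersion i →
      Set.range i = Z → IsProper (i ≫ f) := by
    rintro ⟨_, hp⟩ T i hi hr
    have hle : i.ker ≤ K.subschemeι.ker := by
      rw [Scheme.IdealSheafData.ker_subschemeι,
        ← Scheme.IdealSheafData.le_support_iff_le_vanishingIdeal]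
      intro x (hx : x ∈ Z)
      have : x ∈ (i.ker.support : Set X) := by
        rw [Scheme.Hom.support_ker]
        exact subset_closure (hr.symm ▸ hx)
      exact this
    let e : K.subscheme ⟶ T := IsClosedImmersion.lift i K.subschemeι hle
    have he : e ≫ i = K.subschemeι := IsClosedImmersion.lift_fac _ _ _
    have : IsClosedImmersion (e ≫ i) := by rw [he]; infer_instance
    have : IsClosedImmersion e := IsClosedImmersion.of_comp e i
    have : Surjective e := ⟨fun t => by
      obtain ⟨w, hw⟩ := (hK.trans hr.symm).ge (Set.mem_range_self t)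
      exact ⟨w, i.isClosedEmbedding.injective (by rw [← Scheme.Hom.comp_apply, he]; exact hw)⟩⟩
    have hp' : IsProper (e ≫ i ≫ f) := by rw [← Category.assoc, he]; exact hp
    obtain ⟨h1, h2⟩ := Groth.Agent.S1153.of_surjective_isClosedImmersion e (i ≫ f)
    exact { }
  refine ⟨⟨fun h => ⟨_, K.subschemeι, inferInstance, hK, hall h _ _ inferInstance hK⟩, ?_⟩,
    ⟨hall, fun h => key _ K.subschemeι inferInstance hK (h _ _ inferInstance hK)⟩⟩
  rintro ⟨T, i, hi, hr, hp⟩
  exact key T i hi hr hp

end Groth.Agent.S0787
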