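import Groth.Statements.S0788
import Groth.Agent.CohProper.Image
-- import your own Groth.Agent.* helpers here

set_option autoImplicit false
universe u
open Coherent

namespace Groth.Agent.S0788

open CategoryTheory AlgebraicGeometry in
/-- Let X and Y be schemes locally of finite type over S, with Y separated over S, and f : X → Y a
morphism over S. If Z ⊆ X is closed and proper over S (reduced induced structure), its image f(Z) is
again closed in Y and proper over S. -/
theorem result {X Y S : Scheme.{u}} (p : X ⟶ S) (q : Y ⟶ S)
    [LocallyOfFiniteType p] [LocallyOfFiniteType q] [IsSeparated q] (f : X ⟶ Y) (w : f ≫ q = p)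
    (Z : Set X) (hZ : ClSub.IsProperOver p Z) : ClSub.IsProperOver q (⇑f '' Z) := by

  obtain ⟨hc, hp⟩ := hZ
  let ι := (Scheme.IdealSheafData.vanishingIdeal ⟨Z, hc⟩).subschemeι
  have : IsProper ((ι ≫ f) ≫ q) := by rw [Category.assoc, w]; exact hp
  have : UniversallyClosed (ι ≫ f) := UniversallyClosed.of_comp_of_isSeparated (ι ≫ f) q
  have h := Groth.CohProper.isProperOver_range (ι ≫ f) q
  have he : Set.range (ι ≫ f) = f '' Z := by
    rw [Scheme.Hom.comp_base, TopCat.coe_comp, Set.range_comp,
      Scheme.IdealSheafData.range_subschemeι, Scheme.IdealSheafData.coe_support_vanishingIdeal]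
    rfl
  rwa [he] at h

end Groth.Agent.S0788
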