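import Groth.Statements.S0263
import Groth.Agent.Pi1Depth.Basic

set_option autoImplicit false
universe u
open Pi1

namespace Groth.Agent.S0263

open AlgebraicGeometry CategoryTheory CategoryTheory.Limits in
/-- Let A be a Noetherian local ring of depth at least 2 and V a finite étale cover of the punctured
spectrum of A which is isomorphic to the restriction of some finite étale cover of Spec A. Then the
ring of global sections Γ(V, O_V) is finite and étale over A, via the ring map A → Γ(V, O_V) induced
by the composite V → Spec A. (Only this implication of the published statement is asserted here; its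
converse is not.) -/
theorem result (A : Type u) [CommRing A] [IsNoetherianRing A] [IsLocalRing A] (hA : (2 : ℕ∞) ≤ LocCoh.depth A A)
    (V : FEt.Cat (FEt.puncturedSpec A : Scheme.{u}))
    (hV : ∃ Y : FEt.Cat (Spec (CommRingCat.of A)),
      Nonempty ((FEt.restrict (FEt.puncturedSpec A).ι).obj Y ≅ V)) :
    ((Scheme.ΓSpecIso (CommRingCat.of A)).inv ≫ (V.hom ≫ (FEt.puncturedSpec A).ι).appTop).hom.Finite ∧
    ((Scheme.ΓSpecIso (CommRingCat.of A)).inv ≫ (V.hom ≫ (FEt.puncturedSpec A).ι).appTop).hom.Etale := by
  obtain ⟨Y, ⟨iso⟩⟩ := hV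
  suffices key : ∀ (Z W : Scheme.{u}) (y : Z ⟶ Spec (CommRingCat.of A)) (_ : IsFinite y) (_ : Etale y)
      (g : W ⟶ pullback y (FEt.puncturedSpec A).ι) (_ : IsIso g),
      ((Scheme.ΓSpecIso (CommRingCat.of A)).inv ≫ ((g ≫ pullback.snd y (FEt.puncturedSpec A).ι) ≫
        (FEt.puncturedSpec A).ι).appTop).hom.Finite ∧
      ((Scheme.ΓSpecIso (CommRingCat.of A)).inv ≫ ((g ≫ pullback.snd y (FEt.puncturedSpec A).ι) ≫
        (FEt.puncturedSpec A).ι).appTop).hom.Etale by
    have := key Y.left V.left Y.hom Y.prop.1 Y.prop.2 iso.inv.left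
      ((MorphismProperty.Over.forget _ _ _ ⋙ Over.forget _).mapIso iso.symm).isIso_hom
    rw [show V.hom = iso.inv.left ≫ pullback.snd Y.hom (FEt.puncturedSpec A).ι from
      (MorphismProperty.Over.w iso.inv).symm]
    exact this
  intro Z W y _ _ g _
  let U := FEt.puncturedSpec A
  haveI : IsAffine Z := isAffine_of_isAffineHom y
  have hb : Function.Bijective ((pullback.fst y U.ι).app (y ⁻¹ᵁ ⊤)) :=
    Groth.Pi1FEt.bijective_app_baseChange (IsPullback.of_hasPullback y U.ι) (isAffineOpen_top _)
      (Groth.Pi1Depth.bijective_app_puncturedSpec A hA)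
  have he : Function.Bijective (g ≫ pullback.fst y U.ι).appTop.hom := by
    rw [Scheme.Hom.comp_appTop, CommRingCat.hom_comp]
    haveI : IsIso g.appTop := inferInstanceAs (IsIso (g.app ⊤))
    exact (ConcreteCategory.bijective_of_isIso g.appTop).comp hb
  let φ := (Scheme.ΓSpecIso (CommRingCat.of A)).inv
  have h1 : φ ≫ ((g ≫ pullback.snd y U.ι) ≫ U.ι).appTop = φ ≫ y.appTop ≫ (g ≫ pullback.fst y U.ι).appTop := by
    rw [Category.assoc, ← pullback.condition, ← Category.assoc, Scheme.Hom.comp_appTop]
  have hA1 : Function.Bijective φ.hom := ConcreteCategory.bijective_of_isIso φ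
  rw [h1, CommRingCat.hom_comp, CommRingCat.hom_comp]
  exact ⟨RingHom.Finite.comp (RingHom.Finite.comp (RingHom.Finite.of_surjective _ he.2)
      (IsFinite.finite_app (f := y) ⊤ (isAffineOpen_top _))) (RingHom.Finite.of_surjective _ hA1.2),
    RingHom.Etale.stableUnderComposition _ _ (RingHom.Etale.of_bijective hA1)
      (RingHom.Etale.stableUnderComposition _ _ (HasRingHomProperty.appTop (P := @Etale) y inferInstance)
        (RingHom.Etale.of_bijective he))⟩

end Groth.Agent.S0263
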