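import Groth.Statements.S1185
import Groth.Agent.Pi1Depth.Finite
import Groth.Agent.S0263

set_option autoImplicit false
universe u
open Pi1

namespace Groth.Agent.S1185

open AlgebraicGeometry CategoryTheory CategoryTheory.Limits in
/-- Finiteness of the sections and the extension criterion; the normality of the sections and the
equivalence of categories are not asserted: Let A be a normal Noetherian local domain of Krull
dimension at least 2 with punctured spectrum U, and V a finite etale cover of U. Then the ring of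
global sections of V is finite over A (through the map induced by V ⟶ U ⟶ Spec A), and V is the
restriction of a finite etale cover of Spec A if and only if that ring is etale over A. -/
theorem result (A : Type u) [CommRing A] [IsDomain A] [IsNoetherianRing A]
    [IsLocalRing A] [IsIntegrallyClosed A] (hdim : (2 : WithBot ℕ∞) ≤ ringKrullDim A)
    (V : FEt.Cat (FEt.puncturedSpec A : Scheme.{u})) :
    (((V.hom ≫ (FEt.puncturedSpec A).ι).appTop).hom.comp (Scheme.ΓSpecIso (CommRingCat.of A)).inv.hom).Finite ∧
    ((∃ Y : FEt.Cat (Spec (CommRingCat.of A)), Nonempty ((FEt.restrict (FEt.puncturedSpec A).ι).obj Y ≅ V)) ↔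
      (((V.hom ≫ (FEt.puncturedSpec A).ι).appTop).hom.comp (Scheme.ΓSpecIso (CommRingCat.of A)).inv.hom).Etale) := by
  have hd := Groth.RefRank.two_le_depth_of_normal hdim
  haveI : IsFinite V.hom := V.prop.1
  haveI : Etale V.hom := V.prop.2
  refine ⟨Groth.Pi1Depth.finite_appTop_of_cover hd V.hom, fun hV => (Groth.Agent.S0263.result A hd V hV).2,
    fun het => ?_⟩
  let U := FEt.puncturedSpec A
  let ψ : CommRingCat.of A ⟶ Γ(V.left, ⊤) := (Scheme.ΓSpecIso (CommRingCat.of A)).inv ≫ (V.hom ≫ U.ι).appTop
  have hfin : ψ.hom.Finite := Groth.Pi1Depth.finite_appTop_of_cover hd V.hom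
  have hP : FEt.prop (Spec.map ψ) :=
    ⟨(IsFinite.SpecMap_iff _).2 hfin, (HasRingHomProperty.Spec_iff (P := @Etale)).2 het⟩
  refine ⟨MorphismProperty.Over.mk ⊤ (Spec.map ψ) hP, ⟨?_⟩⟩
  haveI : CompactSpace (U : Scheme.{u}) :=
    isCompact_iff_compactSpace.1 (TopologicalSpace.NoetherianSpace.isCompact _)
  haveI : (U : Scheme.{u}).IsQuasiAffine := Scheme.IsQuasiAffine.of_isImmersion U.ι
  haveI : IsIso U.ι.appTop :=
    (ConcreteCategory.isIso_iff_bijective _).2 (Groth.Pi1Depth.bijective_app_puncturedSpec A hd ⊤)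
  let k : Spec Γ((U : Scheme.{u}), ⊤) ⟶ Spec (CommRingCat.of A) :=
    Spec.map ((Scheme.ΓSpecIso (CommRingCat.of A)).inv ≫ U.ι.appTop)
  have hk : (U : Scheme.{u}).toSpecΓ ≫ k = U.ι := by
    simp only [k, Spec.map_comp]
    rw [← Category.assoc, ← Scheme.toSpecΓ_naturality, Category.assoc, toSpecΓ_SpecMap_ΓSpecIso_inv]
    exact Category.comp_id _
  have hψ : Spec.map V.hom.appTop ≫ k = Spec.map ψ := by
    simp only [k, ψ, ← Spec.map_comp, Scheme.Hom.comp_appTop, Category.assoc]
  haveI : IsIso k := by simp only [k]; infer_instance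
  have H : IsPullback V.hom V.left.toSpecΓ U.ι (Spec.map ψ) :=
    (Scheme.isPullback_toSpecΓ_toSpecΓ (Y := (U : Scheme.{u})) V.hom).of_iso (Iso.refl _) (Iso.refl _)
      (Iso.refl _) (asIso k) ((Category.comp_id _).trans (Category.id_comp _).symm)
      ((Category.comp_id _).trans (Category.id_comp _).symm) (hk.trans (Category.id_comp _).symm)
      (hψ.trans (Category.id_comp _).symm)
  exact MorphismProperty.Over.isoMk H.flip.isoPullback.symm (by
    rw [Iso.symm_hom, Iso.inv_comp_eq]
    exact H.flip.isoPullback_hom_snd.symm)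

end Groth.Agent.S1185
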