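import Groth.Statements.S9831
import Groth.Agent.QCohMod.ExtendCases

set_option autoImplicit false
universe u
open CategoryTheory CategoryTheory.Limits AlgebraicGeometry TopologicalSpace Opposite
open Props

namespace Groth.Agent.S9831

/-- On a quasi-compact quasi-separated scheme, a quasi-coherent module of finite type on a quasi-compact
open U is the restriction of a quasi-coherent module of finite type on the whole scheme. -/
theorem result {X : Scheme.{u}} [CompactSpace X]
    [QuasiSeparatedSpace X] (U : X.Opens) (hU : IsCompact (U : Set X)) (G : (U : Scheme.{u}).Modules)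
    [Coh.IsQCoh G] (hG : CohB1.IsFT G) :
    ∃ G' : X.Modules, Coh.IsQCoh G' ∧ CohB1.IsFT G' ∧ Nonempty (G'.restrict U.ι ≅ G) := by
  have : G.IsQuasicoherent := ‹Coh.IsQCoh G›
  have : CompactSpace U.toScheme := isCompact_iff_compactSpace.mp hU
  have : QuasiCompact U.ι := inferInstance
  let F := (Scheme.Modules.pushforward U.ι).obj G
  have : F.IsQuasicoherent := Groth.QCohMod.isQCoh_pushforward _ U.ι
  let c : F.restrict U.ι ≅ G := asIso ((Scheme.Modules.restrictAdjunction U.ι).counit.app G)
  obtain ⟨n, V, hV, hcov, hW, hc⟩ := Groth.QCohMod.exists_finite_cover (X := X)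
  obtain ⟨G', i', e, -, hq, hft, -⟩ :=
    Groth.QCohMod.exists_extension_subsheaf (F := F) c.inv hG V hV hcov hW (hc U hU)
  exact ⟨G', hq, hft, ⟨e⟩⟩

end Groth.Agent.S9831
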