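import Groth.Statements.S9521
import Groth.Agent.CohTwo.PushStalkModule
-- import your own Groth.Agent.* helpers here

set_option autoImplicit false
universe u
open Coherent

namespace Groth.Agent.S9521

open CategoryTheory CategoryTheory.Limits AlgebraicGeometry in
/-- Let X be a Noetherian scheme, i : Z → X a closed immersion with Z an integral scheme, ξ ∈ X the
image of the generic point of Z, and F a coherent O_X-module whose stalk F_ξ is annihilated by the
maximal ideal of O_{X,ξ}. Then one can find r ≥ 0 together with a coherent ideal sheaf I ⊆ O_Z and a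
monomorphism of O_X-modules i_*(I^⊕r) → F that becomes an isomorphism when restricted to some open
neighbourhood of ξ. -/
theorem result (X Z : Scheme.{u}) [IsNoetherian X]
    (i : Z ⟶ X) [IsClosedImmersion i] [IsIntegral Z] (F : X.Modules) (hF : Coh.IsCoh F)
    (hann : ∀ a ∈ IsLocalRing.maximalIdeal (X.presheaf.stalk (i (genericPoint Z))),
      ∀ m : ↑(F.presheaf.stalk (i (genericPoint Z))), a • m = 0) :
    ∃ (r : ℕ) (I : Z.Modules) (ι : I ⟶ Coh.structureModule Z) (φ : (Coh.push i).obj (∐ fun _ : Fin r => I) ⟶ F),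
      Mono ι ∧ Coh.IsCoh I ∧ Mono φ ∧
      ∃ U : X.Opens, i (genericPoint Z) ∈ U ∧ IsIso ((Scheme.Modules.restrictFunctor U.ι).map φ) := by
  haveI : IsLocallyNoetherian Z := LocallyOfFiniteType.isLocallyNoetherian i
  haveI := hF.1
  have hO : Coh.IsCoh (Coh.structureModule Z) := Groth.QCohMod.isCoh_unit
  haveI := hO.1
  let G := (Scheme.Modules.pushforward i).obj (Coh.structureModule Z)
  have hG : Coh.IsCoh G := Groth.CohTwo.isCoh_push i hO
  haveI := hG.1
  obtain ⟨hne, ⟨g, hg⟩, hk⟩ := Groth.CohTwo.push_unit_stalk i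
  haveI := hne
  haveI := Groth.QCohMod.finite_stalk F hF.2 (i (genericPoint Z))
  obtain ⟨r, ⟨e⟩⟩ := Groth.CohTwo.exists_equiv_pow_cyclic g hg hann hk
  let ψ := (Groth.CohTwo.powStalk G r (i (genericPoint Z))).trans e
  have hGr := Groth.CohTwo.isCoh_powMod hG r
  obtain ⟨J, γ, hξJ, hγ, hbij⟩ :=
    Groth.CohTwo.exists_graft hGr hF (i (genericPoint Z)) ψ.toLinearMap ψ.bijective
  let I := (Dual3.idealMul (J.comap i)).obj (Coh.structureModule Z)
  obtain ⟨e₁, -⟩ := Groth.Agent.S9523.result i (Coh.structureModule Z) hO.1 J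
  have hI : Coh.IsCoh I := Groth.CohTwo.isCoh_idealMul (J.comap i) _ hO
  let P := Scheme.Modules.pushforward i
  let M := Dual3.idealMul J
  let δ : P.obj (Groth.CohTwo.powMod I r) ≅ M.obj (Groth.CohTwo.powMod G r) :=
    { hom := ∑ k, P.map (Groth.CohTwo.powProj I k) ≫ e₁.inv ≫
        M.map (Sigma.ι (fun _ : Fin r => G) k)
      inv := ∑ k, M.map (Groth.CohTwo.powProj G k) ≫ e₁.hom ≫
        P.map (Sigma.ι (fun _ : Fin r => I) k)
      hom_inv_id := by
        rw [Preadditive.sum_comp]
        refine (Finset.sum_congr rfl fun k _ => ?_).trans ((P.map_sum _ _).symm.trans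
          ((congrArg P.map (Groth.CohTwo.powProj_total I r)).trans (P.map_id _)))
        rw [Preadditive.comp_sum, Finset.sum_eq_single k]
        · rw [Category.assoc, Category.assoc, ← M.map_comp_assoc, Groth.CohTwo.ι_powProj, if_pos rfl,
            M.map_id, Category.id_comp, e₁.inv_hom_id_assoc, ← P.map_comp]
        · intro j _ hj
          rw [Category.assoc, Category.assoc, ← M.map_comp_assoc, Groth.CohTwo.ι_powProj,
            if_neg (Ne.symm hj), M.map_zero, zero_comp, comp_zero, comp_zero]
        · simp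
      inv_hom_id := by
        rw [Preadditive.sum_comp]
        refine (Finset.sum_congr rfl fun k _ => ?_).trans ((M.map_sum _ _).symm.trans
          ((congrArg M.map (Groth.CohTwo.powProj_total G r)).trans (M.map_id _)))
        rw [Preadditive.comp_sum, Finset.sum_eq_single k]
        · rw [Category.assoc, Category.assoc, ← P.map_comp_assoc, Groth.CohTwo.ι_powProj, if_pos rfl,
            P.map_id, Category.id_comp, e₁.hom_inv_id_assoc, ← M.map_comp]
        · intro j _ hj
          rw [Category.assoc, Category.assoc, ← P.map_comp_assoc, Groth.CohTwo.ι_powProj,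
            if_neg (Ne.symm hj), P.map_zero, zero_comp, comp_zero, comp_zero]
        · simp }
  haveI : Mono γ := hγ
  haveI : IsIso δ.hom := δ.isIso_hom
  have hb : Function.Bijective ((Groth.QCohMod.stalk (i (genericPoint Z))).map (δ.hom ≫ γ)) := by
    rw [Functor.map_comp, ConcreteCategory.coe_comp]
    exact hbij.comp (ConcreteCategory.bijective_of_isIso
      ((Groth.QCohMod.stalk (i (genericPoint Z))).map δ.hom))
  haveI := hI.1
  obtain ⟨U, hU, hiso⟩ := Groth.CohTwo.exists_isIso_nhd
    (Groth.CohTwo.isCoh_push i (Groth.CohTwo.isCoh_powMod hI r)) hF (δ.hom ≫ γ) _ hb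
  exact ⟨r, I, Dual3.idealMulι (J.comap i) _, δ.hom ≫ γ, inferInstance, hI, mono_comp _ _, U, hU, hiso⟩

end Groth.Agent.S9521
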