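import Groth.Statements.S0792
import Groth.Agent.QCohMod.Killed
import Groth.Agent.QCohMod.PullbackQCoh
import Groth.Agent.CohTwo.PushClosed
import Groth.Agent.S0787
-- import your own Groth.Agent.* helpers here

set_option autoImplicit false
universe u
open Coherent

namespace Groth.Agent.S0792

open CategoryTheory AlgebraicGeometry in
/-- Let f : X → S be locally of finite type and F a quasi-coherent O_X-module of finite type. The
support of F is proper over S if and only if there are a closed subscheme i : Z → X with Z proper
over S and a quasi-coherent O_Z-module G of finite type with i_* G isomorphic to F. (The published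
statement also gives a further equivalent condition, that the scheme-theoretic support of F is
proper over S; it is not used here.) -/
theorem result {X S : Scheme.{u}} (f : X ⟶ S) [LocallyOfFiniteType f]
    (F : X.Modules) (hq : Coh.IsQCoh F) (hft : CohB1.IsFT F) :
    ClSub.IsProperOver f (CohB1.support F) ↔
      ∃ (Z : Scheme.{u}) (i : Z ⟶ X), IsClosedImmersion i ∧ IsProper (i ≫ f) ∧
        ∃ G : Z.Modules, Coh.IsQCoh G ∧ CohB1.IsFT G ∧
          Nonempty ((Scheme.Modules.pushforward i).obj G ≅ F) := by
  haveI : F.IsQuasicoherent := hq
  constructor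
  · intro h
    let J := Groth.QCohMod.annIdeal F hft
    let i := J.subschemeι
    have hr : Set.range i = CohB1.support F := by
      rw [← Groth.QCohMod.support_annIdeal F hft]
      exact J.range_subschemeι
    haveI := (Groth.QCohMod.isIso_unit_closedImmersion_iff i F).2 fun U a ha s => by
      rw [Scheme.IdealSheafData.ker_subschemeι] at ha
      exact Module.mem_annihilator.1 ha s
    exact ⟨_, i, inferInstance, ((Groth.Agent.S0787.result f _ h.1).2.1 h _ i inferInstance hr),
      (Scheme.Modules.pullback i).obj F, Groth.QCohMod.isQCoh_pullback_obj i F,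
      Groth.QCohMod.isFT_pullback i F hft,
      ⟨(asIso ((Scheme.Modules.pullbackPushforwardAdjunction i).unit.app F)).symm⟩⟩
  · rintro ⟨Z, i, hi, hp, G, hG, hGft, ⟨e⟩⟩
    have hc : IsClosed (CohB1.support F) := by
      rw [← Groth.QCohMod.support_annIdeal F hft]
      exact (Groth.QCohMod.annIdeal F hft).support.2
    have hsub : CohB1.support F ⊆ Set.range i :=
      (Groth.CohTwo.support_subset_of_mono e.inv).trans (Groth.CohTwo.support_push_subset i G)
    have hrange : ClSub.IsProperOver f (Set.range i) :=
      (Groth.Agent.S0787.result f _ i.isClosedEmbedding.isClosed_range).1.2 ⟨Z, i, hi, rfl, hp⟩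
    obtain ⟨hc', hp'⟩ := hrange
    refine ⟨hc, ?_⟩
    let K := Scheme.IdealSheafData.vanishingIdeal (⟨CohB1.support F, hc⟩ : TopologicalSpace.Closeds X)
    let L := Scheme.IdealSheafData.vanishingIdeal (⟨Set.range i, hc'⟩ : TopologicalSpace.Closeds X)
    have hle : L.subschemeι.ker ≤ K.subschemeι.ker := by
      rw [Scheme.IdealSheafData.ker_subschemeι, Scheme.IdealSheafData.ker_subschemeι,
        ← Scheme.IdealSheafData.le_support_iff_le_vanishingIdeal]
      intro x (hx : x ∈ CohB1.support F)
      exact (Scheme.IdealSheafData.coe_support_vanishingIdeal _).ge (hsub hx)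
    let j : K.subscheme ⟶ L.subscheme := IsClosedImmersion.lift L.subschemeι K.subschemeι hle
    have hj : j ≫ L.subschemeι = K.subschemeι := IsClosedImmersion.lift_fac _ _ _
    haveI : IsClosedImmersion (j ≫ L.subschemeι) := by rw [hj]; infer_instance
    haveI : IsClosedImmersion j := IsClosedImmersion.of_comp j L.subschemeι
    haveI := hp'
    show IsProper (K.subschemeι ≫ f)
    rw [← hj, Category.assoc]
    infer_instance

end Groth.Agent.S0792
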