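import Groth.Statements.S2359
import Groth.Agent.Ega2Proj.QuasiAffineAmple

set_option autoImplicit false
universe u
open CategoryTheory CategoryTheory.Limits AlgebraicGeometry
open EGA2

namespace Groth.Agent.S2359

/-- Let f : X → Y be quasi-compact, j : X' → X a quasi-compact morphism whose underlying map is a
homeomorphism onto a subspace of X, and L an O_X-module ample relative to f. Then j^* L is ample
relative to j ≫ f. -/
theorem result {X X' Y : Scheme.{u}} (f : X ⟶ Y) [QuasiCompact f] (j : X' ⟶ X) [QuasiCompact j]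
    (hj : Topology.IsEmbedding j.base) (L : X.Modules) (hL : RelAmple.IsRelAmple f L) :
    RelAmple.IsRelAmple (j ≫ f) ((Scheme.Modules.pullback j).obj L) := by
  refine ⟨inferInstance, fun V => ?_⟩
  let W : X.Opens := f ⁻¹ᵁ V.1
  let Z : X'.Opens := (j ≫ f) ⁻¹ᵁ V.1
  have : CompactSpace (Z : Scheme.{u}) :=
    isCompact_iff_compactSpace.mp (QuasiCompact.isCompact_preimage _ V.1.2 V.2.isCompact)
  let h : (Z : Scheme.{u}) ⟶ W := j ∣_ W
  have w : h ≫ W.ι = Z.ι ≫ j := morphismRestrict_ι j W
  refine Groth.Ega2Proj.isAmple_of_iso (Groth.Ega2Proj.restrictPullbackSquare j W.ι Z.ι h w L)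
    (Groth.Ega2Proj.isAmple_pullback h ?_ (hL.2 V))
  refine Topology.IsInducing.of_comp h.continuous W.ι.continuous ?_
  have e : (W.ι ∘ h : Z → X) = (j ∘ Z.ι : Z → X) := funext fun z => congr($w z)
  exact e.symm ▸ hj.isInducing.comp Z.ι.isOpenEmbedding.isInducing

end Groth.Agent.S2359
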