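import Groth.Statements.S0796
import Groth.Agent.CohDev.Steps
import Groth.Agent.CohDev.ProperOver
import Groth.Agent.S0791
import Groth.Agent.CohC3.ProperHelpers
-- import your own Groth.Agent.* helpers here

set_option autoImplicit false
universe u
open Coherent

namespace Groth.Agent.S0796

open CategoryTheory AlgebraicGeometry in
/-- Part (2), through the usual criterion for Serre subcategories. Let S be locally Noetherian and f : X
→ S locally of finite type. For a short exact sequence 0 → F₁ → F₂ → F₃ → 0 of coherent O_X-modules,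
the support of F₂ is proper over S if and only if the supports of F₁ and F₃ are. -/
theorem result {X S : Scheme.{u}} (f : X ⟶ S) [LocallyOfFiniteType f]
    [IsLocallyNoetherian S] (E : ShortComplex X.Modules) (hE : E.ShortExact)
    (h₁ : Coh.IsCoh E.X₁) (h₂ : Coh.IsCoh E.X₂) (h₃ : Coh.IsCoh E.X₃) :
    ClSub.IsProperOver f (CohB1.support E.X₂) ↔
      ClSub.IsProperOver f (CohB1.support E.X₁) ∧ ClSub.IsProperOver f (CohB1.support E.X₃) := by
  haveI : IsLocallyNoetherian X := LocallyOfFiniteType.isLocallyNoetherian f
  haveI := hE.mono_f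
  haveI := hE.epi_g
  have hc1 := Groth.CohC3.isClosed_support_of_isCoh E.X₁ h₁
  have hc2 := Groth.CohC3.isClosed_support_of_isCoh E.X₂ h₂
  have hc3 := Groth.CohC3.isClosed_support_of_isCoh E.X₃ h₃
  constructor
  · intro h
    exact ⟨Groth.CohDev.isProperOver_mono f h hc1 (Groth.CohTwo.support_subset_of_mono E.f),
      Groth.CohDev.isProperOver_mono f h hc3 (Groth.CohTwo.support_subset_of_epi E.g)⟩
  · rintro ⟨h1, h3⟩
    have h := Groth.Agent.S0791.result f Bool
      (fun b => bif b then CohB1.support E.X₁ else CohB1.support E.X₃) (by intro b; cases b <;> assumption)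
    refine Groth.CohDev.isProperOver_mono f h hc2 fun x hx => ?_
    by_contra hxu
    simp only [Set.mem_iUnion, Bool.exists_bool, cond_false, cond_true, not_or] at hxu
    refine hx ?_
    have hS' := hE.map_of_exact (Groth.QCohMod.stalk x)
    haveI : Subsingleton ↑((Groth.QCohMod.stalk x).obj E.X₁) := (Groth.CohTwo.notMem_support_iff _ x).1 hxu.2
    haveI : Subsingleton ↑((Groth.QCohMod.stalk x).obj E.X₃) := (Groth.CohTwo.notMem_support_iff _ x).1 hxu.1
    exact AddCommGrpCat.subsingleton_of_isZero (hS'.exact.isZero_of_both_zeros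
      ((AddCommGrpCat.isZero_of_subsingleton ((Groth.QCohMod.stalk x).obj E.X₁)).eq_of_src _ _)
      ((AddCommGrpCat.isZero_of_subsingleton ((Groth.QCohMod.stalk x).obj E.X₃)).eq_of_tgt _ _))

end Groth.Agent.S0796
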