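import Groth.Statements.S8875
import Groth.Agent.RefRank.FittLocFree

set_option autoImplicit false
universe u
open CategoryTheory CategoryTheory.Limits AlgebraicGeometry TopologicalSpace
open SDiv

namespace Groth.Agent.S8875

/-- (1) ⇔ (3): let S be a scheme, F a quasi-coherent O_S-module of finite type and r ≥ 0. Then F is
finite locally free of rank r if and only if Fit_k(F) = 0 for every k < r and Fit_k(F) = O_S for
every k ≥ r. -/
theorem result (S : Scheme.{u}) (F : S.Modules) (hF : Coh.IsQCoh F) (hft : CohB1.IsFT F)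
    (r : ℕ) :
    FlatMod.IsFinLocFreeOfRank r F ↔
      (∀ k : ℕ, k < r → Fitt.sheafIdeal F k = ⊥) ∧ (∀ k : ℕ, r ≤ k → Fitt.sheafIdeal F k = ⊤) := by
  haveI : F.IsQuasicoherent := hF
  exact Groth.RefRank.FittSheaf.isFinLocFreeOfRank_iff F hft r

end Groth.Agent.S8875
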