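import Groth.Statements.S1152
import Groth.Agent.FBaseGeom.AmpleDescent
import Groth.Agent.Ega2Proj.RelAmple
import Groth.Agent.EtaleBase.FpqcDescent

set_option autoImplicit false
open CategoryTheory CategoryTheory.Limits AlgebraicGeometry Opposite
universe u
open Desc

namespace Groth.Agent.S1152

/-- Single quasi-compact flat surjective cover; the converse direction is base change: Let f : X ⟶ S be
a morphism, L an invertible O_X-module, g : S' ⟶ S quasi-compact, flat and surjective, X' = X ×_S S'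
with projections to X and S', and L' the pullback of L to X'. If L' is ample on X' relative to S',
then L is ample on X relative to S. -/
theorem result {X S S' : Scheme.{u}} (f : X ⟶ S) (L : X.Modules) (hL : PicF.IsInvertible L)
    (g : S' ⟶ S) [QuasiCompact g] [Flat g] [Surjective g]
    (h : RelAmple.IsRelAmple (pullback.snd f g) ((Scheme.Modules.pullback (pullback.fst f g)).obj L)) :
    RelAmple.IsRelAmple f L := by
  haveI : QuasiCompact (pullback.snd f g) := h.1
  have hqc : QuasiCompact f :=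
    MorphismProperty.of_pullback_snd_of_descendsAlong (P := @QuasiCompact) (Q := Groth.EtaleBase.Fpqc)
      (show Groth.EtaleBase.Fpqc g from ⟨⟨inferInstance, inferInstance⟩, inferInstance⟩) h.1
  refine ⟨hqc, fun V => ?_⟩
  haveI : IsAffine V.1.toScheme := V.2
  letI : (f ⁻¹ᵁ V.1).toScheme.Over V.1.toScheme := ⟨f.resLE V.1 (f ⁻¹ᵁ V.1) le_rfl⟩
  obtain ⟨T, hT, hTe⟩ := isCompact_and_isOpen_iff_finite_and_eq_biUnion_affineOpens.mp
    ⟨g.isCompact_preimage V.2.isCompact, (g ⁻¹ᵁ V.1).isOpen⟩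
  haveI := hT.to_subtype
  have hle : ∀ W : T, W.1.1 ≤ g ⁻¹ᵁ V.1 := fun W z hz => by
    rw [← SetLike.mem_coe, hTe]
    exact Set.mem_biUnion W.2 hz
  haveI : ∀ W : T, IsAffine W.1.1.toScheme := fun W => W.1.2
  have hUY : ∀ W : T, pullback.snd f g ⁻¹ᵁ W.1.1 =
      pullback.fst f g ⁻¹ᵁ (f ⁻¹ᵁ V.1) ⊓ pullback.snd f g ⁻¹ᵁ W.1.1 := fun W => by
    refine (inf_eq_right.mpr ?_).symm
    rw [← Scheme.Hom.comp_preimage, pullback.condition, Scheme.Hom.comp_preimage]
    exact (pullback.snd f g).preimage_mono (hle W)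
  haveI : ∀ W : T, Flat (g.resLE V.1 W.1.1 (hle W)) := fun W => by
    rw [Scheme.Hom.resLE]; infer_instance
  refine Groth.FBaseGeom.AmpleDesc.isAmple_of_finite_cover _
    (Groth.Ega2Proj.isInvertible_restrict _ hL) (κ := T) (fun W => g.resLE V.1 W.1.1 (hle W))
    (fun W => (pullback.fst f g).resLE (f ⁻¹ᵁ V.1) (pullback.snd f g ⁻¹ᵁ W.1.1) ((hUY W).le.trans inf_le_left))
    (fun W => (pullback.snd f g).resLE W.1.1 (pullback.snd f g ⁻¹ᵁ W.1.1) le_rfl)
    (fun W => Scheme.Hom.isPullback_resLE (IsPullback.of_hasPullback f g) (hle W) le_rfl (hUY W)) ?_ ?_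
  · rintro ⟨x, hx⟩
    obtain ⟨s', hs'⟩ := g.surjective (f x)
    have hs'V : s' ∈ g ⁻¹ᵁ V.1 := show g s' ∈ V.1 from hs' ▸ hx
    rw [← SetLike.mem_coe, hTe] at hs'V
    obtain ⟨W, hW, hsW⟩ := Set.mem_iUnion₂.mp hs'V
    obtain ⟨z, hz1, hz2⟩ := Scheme.Pullback.exists_preimage_pullback (f := f) (g := g) x s' hs'.symm
    refine ⟨⟨W, hW⟩, ⟨z, show pullback.snd f g z ∈ W.1 from hz2 ▸ hsW⟩, ?_⟩
    apply (f ⁻¹ᵁ V.1).ι.isEmbedding.injective
    rw [← Scheme.Hom.comp_apply, Scheme.Hom.resLE_comp_ι]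
    exact hz1
  · intro W
    refine Groth.Ega2Proj.isAmple_of_iso ?_ (h.2 W.1)
    exact Groth.Ega2Proj.restrictIsoPullback _ _ ≪≫ (Scheme.Modules.pullbackComp _ _).app L ≪≫
      (Scheme.Modules.pullbackCongr (Scheme.Hom.resLE_comp_ι _ _).symm).app L ≪≫
        ((Scheme.Modules.pullbackComp _ _).app L).symm ≪≫
          (Scheme.Modules.pullback _).mapIso (Groth.Ega2Proj.restrictIsoPullback _ L).symm

end Groth.Agent.S1152
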