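import Groth.Statements.S2332
import Groth.Agent.Ega2Proj.QuasiAffineAmple

set_option autoImplicit false
universe u
open CategoryTheory CategoryTheory.Limits AlgebraicGeometry
open EGA2

namespace Groth.Agent.S2332

/-- Let f : X → Y be quasi-compact, g : Y' → Y any morphism, and L an O_X-module ample relative to f.
Then the pullback of L to X ×_Y Y' is ample relative to the base-changed morphism X ×_Y Y' → Y'. -/
theorem result {X Y Y' : Scheme.{u}} (f : X ⟶ Y) [QuasiCompact f] (g : Y' ⟶ Y) (L : X.Modules)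
    (hL : RelAmple.IsRelAmple f L) :
    RelAmple.IsRelAmple (pullback.snd f g) ((Scheme.Modules.pullback (pullback.fst f g)).obj L) := by
  refine Groth.Ega2Proj.isRelAmple_of_local _ fun z => ?_
  obtain ⟨V, hV, hzV, -⟩ := exists_isAffineOpen_mem_and_subset
    (x := g (pullback.snd f g z)) (U := (⊤ : Y.Opens)) trivial
  obtain ⟨V', hV', hzV', hle⟩ := exists_isAffineOpen_mem_and_subset
    (x := pullback.snd f g z) (U := g ⁻¹ᵁ V) hzV
  have : IsAffine V.toScheme := hV
  have : IsAffine V'.toScheme := hV'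
  let W : X.Opens := f ⁻¹ᵁ V
  let Z : (pullback f g).Opens := pullback.snd f g ⁻¹ᵁ V'
  let g' : V'.toScheme ⟶ V.toScheme := g.resLE V V' hle
  have hr : Set.range (Z.ι ≫ pullback.fst f g) ⊆ Set.range W.ι := by
    rintro _ ⟨⟨w, hw⟩, rfl⟩
    refine ⟨⟨pullback.fst f g w, ?_⟩, rfl⟩
    change f (pullback.fst f g w) ∈ V
    rw [show f (pullback.fst f g w) = g (pullback.snd f g w) from congr($(pullback.condition (f := f) (g := g)) w)]
    exact hle hw
  let h : (Z : Scheme.{u}) ⟶ W := IsOpenImmersion.lift W.ι (Z.ι ≫ pullback.fst f g) hr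
  have hw : h ≫ W.ι = Z.ι ≫ pullback.fst f g := IsOpenImmersion.lift_fac _ _ _
  have big : IsPullback (Z.ι ≫ pullback.fst f g) (pullback.snd f g ∣_ V') f (g' ≫ V.ι) := by
    have := (isPullback_morphismRestrict (pullback.snd f g) V').flip.paste_horiz (IsPullback.of_hasPullback f g)
    rw [show g' ≫ V.ι = V'.ι ≫ g from Scheme.Hom.resLE_comp_ι g hle]
    exact this
  rw [← hw] at big
  have h1 : h ≫ (f ∣_ V) = (pullback.snd f g ∣_ V') ≫ g' := by
    rw [← cancel_mono V.ι, Category.assoc, morphismRestrict_ι, Category.assoc, ← Category.assoc h, big.w]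
  have hp := IsPullback.of_right big h1 (isPullback_morphismRestrict f V).flip
  have : IsAffineHom h := MorphismProperty.of_isPullback (P := @IsAffineHom) hp.flip inferInstance
  refine ⟨V', Z, Z.ι, inferInstance, hzV', fun y hy => ⟨⟨y, hy⟩, rfl⟩, ?_⟩
  refine Groth.Ega2Proj.isAmple_of_iso (Groth.Ega2Proj.restrictPullbackSquare _ W.ι Z.ι h hw L)
    (Groth.Ega2Proj.isAmple_pullback_of_quasiAffine h (fun U hU => ?_) (hL.2 ⟨V, hV⟩))
  have : IsAffine (h ⁻¹ᵁ U : Z.toScheme.Opens) := hU.preimage h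
  infer_instance

end Groth.Agent.S2332
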