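import Groth.Statements.S4846
import Groth.Agent.Limits.AmpleStage
import Groth.Agent.Limits.OpenPullback
import Groth.Agent.Ega2Proj.RelAmple

set_option autoImplicit false
universe u
open CategoryTheory AlgebraicGeometry
open Lim8

namespace Groth.Agent.S4846

set_option backward.isDefEq.respectTransparency false
set_option backward.defeqAttrib.useBackward true
set_option backward.isDefEq.respectTransparency.types false

open Groth.Ega2Proj Groth.PicAux

section Piece

variable {X₀ Y₀ B A Y X : Scheme.{u}} {f₀ : X₀ ⟶ Y₀} {g₀ : Y₀ ⟶ B} {h : A ⟶ B} {f : X ⟶ Y}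
  {g : Y ⟶ A} {qY : Y ⟶ Y₀} {qX : X ⟶ X₀}

/-- The structure map of the preimage of an open of `Y₀`. -/
noncomputable abbrev pieceMap (f₀ : X₀ ⟶ Y₀) (g₀ : Y₀ ⟶ B) (W : Y₀.Opens) :
    ((f₀ ⁻¹ᵁ W : X₀.Opens) : Scheme.{u}) ⟶ B :=
  (f₀ ⁻¹ᵁ W).ι ≫ f₀ ≫ g₀

/-- The piece of a base change over an open. -/
theorem exists_piece (hY : IsPullback qY g g₀ h) (hX : IsPullback qX f f₀ qY) (W : Y₀.Opens) :
    ∃ j : Limits.pullback h (pieceMap f₀ g₀ W) ⟶ X, IsOpenImmersion j ∧
      j ≫ qX = Limits.pullback.snd _ _ ≫ (f₀ ⁻¹ᵁ W).ι ∧ Set.range j = f ⁻¹ᵁ (qY ⁻¹ᵁ W) := by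
  have h' : IsPullback qX (f ≫ g) (f₀ ≫ g₀) h := hX.paste_vert hY
  let j := h'.lift (Limits.pullback.snd h (pieceMap f₀ g₀ W) ≫ (f₀ ⁻¹ᵁ W).ι)
    (Limits.pullback.fst h (pieceMap f₀ g₀ W))
    (by rw [Category.assoc]; exact (Limits.pullback.condition).symm)
  have hsq : IsPullback (Limits.pullback.snd h (pieceMap f₀ g₀ W)) j (f₀ ⁻¹ᵁ W).ι qX :=
    IsPullback.of_bot (by rw [h'.lift_snd]; exact (IsPullback.of_hasPullback _ _).flip)
      (h'.lift_fst _ _ _).symm h'
  refine ⟨j, MorphismProperty.of_isPullback (P := @IsOpenImmersion) hsq inferInstance,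
    h'.lift_fst _ _ _, ?_⟩
  have e : qX ⁻¹ᵁ (f₀ ⁻¹ᵁ W) = f ⁻¹ᵁ (qY ⁻¹ᵁ W) := by
    rw [← Scheme.Hom.comp_preimage, hX.w, Scheme.Hom.comp_preimage]
  rw [← hsq.isoPullback_hom_snd, Scheme.Hom.comp_base, TopCat.coe_comp, Set.range_comp,
    (show Function.Surjective hsq.isoPullback.hom from Surjective.surj).range_eq, Set.image_univ,
    Scheme.Pullback.range_snd]
  rw [Scheme.Opens.range_ι, ← e]
  rfl

/-- The restriction to a piece of a base change of a module. -/
noncomputable def pieceIso (L₀ : X₀.Modules) (W : Y₀.Opens)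
    (j : Limits.pullback h (pieceMap f₀ g₀ W) ⟶ X) [IsOpenImmersion j]
    (hj : j ≫ qX = Limits.pullback.snd _ _ ≫ (f₀ ⁻¹ᵁ W).ι) :
    ((Scheme.Modules.pullback qX).obj L₀).restrict j ≅
      (Scheme.Modules.pullback (Limits.pullback.snd h (pieceMap f₀ g₀ W))).obj
        ((Scheme.Modules.pullback (f₀ ⁻¹ᵁ W).ι).obj L₀) :=
  restrictIsoPullback j _ ≪≫ (Scheme.Modules.pullbackComp j qX).app L₀ ≪≫
    (Scheme.Modules.pullbackCongr hj).app L₀ ≪≫ ((Scheme.Modules.pullbackComp _ _).app L₀).symm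

/-- Ampleness on a piece, from relative ampleness. -/
theorem isAmple_piece [IsAffineHom h] (hY : IsPullback qY g g₀ h) (hX : IsPullback qX f f₀ qY)
    (L₀ : X₀.Modules) {W : Y₀.Opens} (hW : IsAffineOpen W) [QuasiCompact f₀]
    (hL : RelAmple.IsRelAmple f ((Scheme.Modules.pullback qX).obj L₀)) :
    CohB1.IsAmple ((Scheme.Modules.pullback (Limits.pullback.snd h (pieceMap f₀ g₀ W))).obj
        ((Scheme.Modules.pullback (f₀ ⁻¹ᵁ W).ι).obj L₀)) := by
  obtain ⟨j, hj, hjq, hr⟩ := exists_piece hY hX W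
  haveI : IsAffineHom qY := MorphismProperty.of_isPullback hY.flip ‹IsAffineHom h›
  haveI : CompactSpace (f₀ ⁻¹ᵁ W : X₀.Opens) :=
    isCompact_iff_compactSpace.mp (f₀.isCompact_preimage hW.isCompact)
  haveI : CompactSpace ↥(Limits.pullback h (pieceMap f₀ g₀ W)) :=
    QuasiCompact.compactSpace_of_compactSpace (Limits.pullback.snd h (pieceMap f₀ g₀ W))
  exact isAmple_of_iso (pieceIso L₀ W j hjq)
    (isAmple_of_isRelAmple hL ⟨qY ⁻¹ᵁ W, hW.preimage qY⟩ j hr.le)

/-- Relative ampleness from ampleness on the pieces of a cover. -/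
theorem isRelAmple_of_pieces (hY : IsPullback qY g g₀ h) (hX : IsPullback qX f f₀ qY)
    (L₀ : X₀.Modules) [QuasiCompact f₀] (W : Y₀ → Y₀.Opens) (S : Finset Y₀)
    (hS : (Set.univ : Set Y₀) ⊆ ⋃ y ∈ S, (W y : Set Y₀))
    (hL : ∀ y ∈ S, CohB1.IsAmple
      ((Scheme.Modules.pullback (Limits.pullback.snd h (pieceMap f₀ g₀ (W y)))).obj
        ((Scheme.Modules.pullback (f₀ ⁻¹ᵁ W y).ι).obj L₀))) :
    RelAmple.IsRelAmple f ((Scheme.Modules.pullback qX).obj L₀) := by
  haveI : QuasiCompact f := MorphismProperty.of_isPullback hX ‹QuasiCompact f₀›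
  refine isRelAmple_of_local f fun x => ?_
  obtain ⟨y, hy, hxy⟩ := Set.mem_iUnion₂.1 (hS (Set.mem_univ (qY (f x))))
  obtain ⟨j, hj, hjq, hr⟩ := exists_piece hY hX (W y)
  exact ⟨qY ⁻¹ᵁ W y, _, j, hj, hxy, hr.ge,
    isAmple_of_iso (pieceIso L₀ (W y) j hjq).symm (hL y hy)⟩

end Piece

/-- Let S = lim S_i be a cofiltered limit of schemes with affine transition maps and S_{i₀} a
quasi-compact stage; let X₀ and Y₀ be schemes of finite presentation over S_{i₀}, f₀ : X₀ ⟶ Y₀ an
S_{i₀}-morphism and L₀ an invertible O_{X₀}-module. Let f : X ⟶ Y be the base change of f₀ along S ⟶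
S_{i₀} and L the pullback of L₀ to X (base changes are expressed by pullback squares). Then L is
ample relative to f if and only if, for some index j over i₀, the pullback L_j of L₀ to X_j is ample
relative to the base change f_j : X_j ⟶ Y_j of f₀ along S_j ⟶ S_{i₀}. This is the case of relative
ampleness (the very ample case is not stated here). -/
theorem result {I : Type u} [SmallCategory I] [IsCofiltered I]
    (D : I ⥤ Scheme.{u}) (c : Limits.Cone D) (hc : Limits.IsLimit c)
    [∀ (i j : I) (f : i ⟶ j), IsAffineHom (D.map f)] (i₀ : I) [CompactSpace (D.obj i₀)]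
    {X₀ Y₀ : Scheme.{u}} (f₀ : X₀ ⟶ Y₀) (g₀ : Y₀ ⟶ D.obj i₀)
    [LocallyOfFinitePresentation g₀] [QuasiCompact g₀] [QuasiSeparated g₀]
    [LocallyOfFinitePresentation (f₀ ≫ g₀)] [QuasiCompact (f₀ ≫ g₀)] [QuasiSeparated (f₀ ≫ g₀)]
    (L₀ : X₀.Modules) (hL₀ : PicF.IsInvertible L₀)
    {X Y : Scheme.{u}} (f : X ⟶ Y) (g : Y ⟶ c.pt) (qY : Y ⟶ Y₀) (qX : X ⟶ X₀)
    (hY : IsPullback qY g g₀ (c.π.app i₀)) (hX : IsPullback qX f f₀ qY) :
    RelAmple.IsRelAmple f ((Scheme.Modules.pullback qX).obj L₀) ↔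
      ∃ (j : I) (φ : j ⟶ i₀) (Xj Yj : Scheme.{u}) (fj : Xj ⟶ Yj) (gj : Yj ⟶ D.obj j) (pY : Yj ⟶ Y₀)
        (pX : Xj ⟶ X₀), IsPullback pY gj g₀ (D.map φ) ∧ IsPullback pX fj f₀ pY ∧
          RelAmple.IsRelAmple fj ((Scheme.Modules.pullback pX).obj L₀) := by
  classical
  have : ∀ {i j : I} (f : i ⟶ j), IsAffineHom (D.map f) := fun {i j} f => inferInstance
  haveI : QuasiCompact f₀ := QuasiCompact.of_comp f₀ g₀
  haveI : QuasiSeparated f₀ := QuasiSeparated.of_comp f₀ g₀
  haveI := isAffineHom_π_app _ _ hc i₀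
  haveI : CompactSpace Y₀ := QuasiCompact.compactSpace_of_compactSpace g₀
  choose W hW hyW using fun y : Y₀ => Groth.QCohMod.exists_affine_mem y
  obtain ⟨S, hS⟩ := isCompact_univ.elim_finite_subcover (fun y => (W y : Set Y₀)) (fun y => (W y).2)
    fun y _ => Set.mem_iUnion.2 ⟨y, hyW y⟩
  have hA : ∀ (y : Y₀), CompactSpace (f₀ ⁻¹ᵁ W y : X₀.Opens) := fun y =>
    isCompact_iff_compactSpace.mp (f₀.isCompact_preimage (hW y).isCompact)
  have hQ : ∀ (y : Y₀), QuasiSeparatedSpace (f₀ ⁻¹ᵁ W y : X₀.Opens) := fun y => by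
    haveI : IsAffine (W y : Scheme.{u}) := hW y
    haveI : QuasiSeparated (f₀ ∣_ W y) :=
      MorphismProperty.of_isPullback (isPullback_morphismRestrict f₀ (W y)).flip ‹QuasiSeparated f₀›
    exact quasiSeparatedSpace_of_quasiSeparated (f₀ ∣_ W y)
  let LT := fun y => (Scheme.Modules.pullback (f₀ ⁻¹ᵁ W y).ι).obj L₀
  constructor
  · intro hrel
    have key : ∀ y, ∃ (j : I) (φ : j ⟶ i₀), CohB1.IsAmple ((Scheme.Modules.pullback
        (Limits.pullback.snd (D.map φ) (pieceMap f₀ g₀ (W y)))).obj (LT y)) := by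
      intro y
      let a := pieceMap f₀ g₀ (W y)
      let D' := Groth.Limits.pullbackDiagram D i₀ a
      let c' := Groth.Limits.pullbackCone D i₀ a c
      haveI : ∀ j : CategoryTheory.Over i₀, IsAffineHom
          (Limits.pullback.snd ((CategoryTheory.Over.post D).obj j).hom a) := fun j =>
        MorphismProperty.of_isPullback (IsPullback.of_hasPullback _ a)
          (inferInstanceAs (IsAffineHom (D.map j.hom)))
      haveI : ∀ j, CompactSpace (D'.obj j) := fun j =>
        haveI := hA y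
        QuasiCompact.compactSpace_of_compactSpace
          (Limits.pullback.snd ((CategoryTheory.Over.post D).obj j).hom a)
      haveI : ∀ j, QuasiSeparatedSpace (D'.obj j) := fun j =>
        haveI := hQ y
        quasiSeparatedSpace_of_quasiSeparated
          (Limits.pullback.snd ((CategoryTheory.Over.post D).obj j).hom a)
      let o : CategoryTheory.Over i₀ := CategoryTheory.Over.mk (𝟙 i₀)
      let s₀ : D'.obj o ⟶ _ := Limits.pullback.snd (D.map (𝟙 i₀)) a
      have hπ : c'.π.app o ≫ s₀ = Limits.pullback.snd (c.π.app i₀) a :=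
        CategoryTheory.Over.w ((CategoryTheory.Over.pullback a).map
          (((CategoryTheory.Over.conePost D i₀).obj c).π.app o))
      have hL' : CohB1.IsAmple ((Scheme.Modules.pullback (c'.π.app o)).obj
          ((Scheme.Modules.pullback s₀).obj (LT y))) :=
        isAmple_of_iso (((Scheme.Modules.pullbackComp (c'.π.app o) s₀).app (LT y) ≪≫
          (Scheme.Modules.pullbackCongr hπ).app (LT y)).symm) (isAmple_piece hY hX L₀ (hW y) hrel)
      obtain ⟨j, φ, hj⟩ := Groth.Limits.AmpleStage.exists_stage_isAmple (D := D')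
        (Groth.Limits.isLimitPullbackCone D i₀ a hc) o _
        (isInvertible_pullback _ (isInvertible_pullback _ hL₀)) hL'
      have hφ : φ = CategoryTheory.Over.homMk j.hom := by
        ext
        simpa [o] using CategoryTheory.Over.w φ
      subst hφ
      exact ⟨j.left, j.hom, isAmple_of_iso ((Scheme.Modules.pullbackComp _ s₀).app (LT y) ≪≫
        (Scheme.Modules.pullbackCongr (Groth.Limits.pullbackDiagram_map_π D i₀ a j)).app (LT y)) hj⟩
    choose j φ hjφ using key
    have common : ∀ T : Finset Y₀, ∃ (k : I) (ψ : k ⟶ i₀), ∀ y ∈ T, ∃ u : k ⟶ j y, u ≫ φ y = ψ := by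
      intro T
      induction T using Finset.induction_on with
      | empty => exact ⟨i₀, 𝟙 _, fun y hy => absurd hy (Finset.notMem_empty y)⟩
      | insert a T ha ih =>
        obtain ⟨k, ψ, hk⟩ := ih
        obtain ⟨m, u, v, huv⟩ := IsCofiltered.cospan (φ a) ψ
        refine ⟨m, v ≫ ψ, fun y hy => ?_⟩
        rcases Finset.mem_insert.1 hy with rfl | hy
        · exact ⟨u, huv⟩
        · obtain ⟨w, hw⟩ := hk y hy
          exact ⟨v ≫ w, by rw [Category.assoc, hw]⟩
    obtain ⟨k, ψ, hk⟩ := common S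
    let pY := Limits.pullback.fst g₀ (D.map ψ)
    have hYk : IsPullback pY (Limits.pullback.snd g₀ (D.map ψ)) g₀ (D.map ψ) :=
      IsPullback.of_hasPullback _ _
    have hXk : IsPullback (Limits.pullback.fst f₀ pY) (Limits.pullback.snd f₀ pY) f₀ pY :=
      IsPullback.of_hasPullback _ _
    refine ⟨k, ψ, _, _, _, _, pY, _, hYk, hXk,
      isRelAmple_of_pieces hYk hXk L₀ W S hS fun y hy => ?_⟩
    obtain ⟨u, hu⟩ := hk y hy
    let a := pieceMap f₀ g₀ (W y)
    have hw : (Limits.pullback.fst (D.map ψ) a ≫ D.map u) ≫ D.map (φ y) =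
        Limits.pullback.snd (D.map ψ) a ≫ a := by
      rw [Category.assoc, ← D.map_comp, hu, Limits.pullback.condition]
    let m : Limits.pullback (D.map ψ) a ⟶ Limits.pullback (D.map (φ y)) a :=
      Limits.pullback.lift _ _ hw
    have hm : m ≫ Limits.pullback.snd _ _ = Limits.pullback.snd (D.map ψ) a :=
      Limits.pullback.lift_snd _ _ _
    haveI : IsAffineHom (Limits.pullback.snd (D.map ψ) a) :=
      MorphismProperty.of_isPullback (IsPullback.of_hasPullback _ a) (inferInstanceAs (IsAffineHom (D.map ψ)))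
    haveI : IsAffineHom (m ≫ Limits.pullback.snd (D.map (φ y)) a) := by rw [hm]; infer_instance
    haveI : IsAffineHom m := .of_comp m (Limits.pullback.snd (D.map (φ y)) a)
    exact isAmple_of_iso ((Scheme.Modules.pullbackComp m _).app (LT y) ≪≫
      (Scheme.Modules.pullbackCongr hm).app (LT y))
        (Groth.Chow.isAmple_pullback_of_isAffineHom m (hjφ y))
  · rintro ⟨j, φ, Xj, Yj, fj, gj, pY, pX, hYj, hXj, hamp⟩
    refine isRelAmple_of_pieces hY hX L₀ W S hS fun y _ => ?_
    let a := pieceMap f₀ g₀ (W y)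
    have hw : (Limits.pullback.fst (c.π.app i₀) a ≫ c.π.app j) ≫ D.map φ =
        Limits.pullback.snd (c.π.app i₀) a ≫ a := by
      rw [Category.assoc, c.w, Limits.pullback.condition]
    let m : Limits.pullback (c.π.app i₀) a ⟶ Limits.pullback (D.map φ) a :=
      Limits.pullback.lift _ _ hw
    have hm : m ≫ Limits.pullback.snd _ _ = Limits.pullback.snd (c.π.app i₀) a :=
      Limits.pullback.lift_snd _ _ _
    haveI : IsAffineHom (Limits.pullback.snd (c.π.app i₀) a) :=
      MorphismProperty.of_isPullback (IsPullback.of_hasPullback _ a) ‹IsAffineHom (c.π.app i₀)›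
    haveI : IsAffineHom (m ≫ Limits.pullback.snd (D.map φ) a) := by rw [hm]; infer_instance
    haveI : IsAffineHom m := .of_comp m (Limits.pullback.snd (D.map φ) a)
    exact isAmple_of_iso ((Scheme.Modules.pullbackComp m _).app (LT y) ≪≫
      (Scheme.Modules.pullbackCongr hm).app (LT y))
        (Groth.Chow.isAmple_pullback_of_isAffineHom m (isAmple_piece hYj hXj L₀ (hW y) hamp))

end Groth.Agent.S4846
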