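import Groth.Statements.S15351
import Groth.Agent.GeomComp.SectionLocal
import Groth.Agent.GrpschAbsch.FibreFlat

set_option autoImplicit false
universe u
open CategoryTheory CategoryTheory.Limits AlgebraicGeometry
open MoreMor

namespace Groth.Agent.S15351

/-- Let f : X ⟶ S be a smooth morphism of schemes, X quasi-separated, with a section e : S ⟶ X, and let
X⁰ ⊆ X be the union over the points s of S of the connected component of e(s) in the fibre f⁻¹(s)
with its subspace topology. Then X⁰ is open in X; no quasi-compactness is assumed. (The published
statement is for an algebraic space X smooth over S; this row is the case of a scheme.) -/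
theorem result {S X : Scheme.{u}} [QuasiSeparatedSpace ↥X] (f : X ⟶ S) [Smooth f]
    (e : S ⟶ X) (he : e ≫ f = 𝟙 S) :
    IsOpen (MoreMor.sectionComponents f e) := by
  refine isOpen_iff_mem_nhds.mpr fun x hx => mem_interior_iff_mem_nhds.mp ?_
  obtain ⟨V₀, hV₀, hy₀, -⟩ := exists_isAffineOpen_mem_and_subset (U := ⊤) (Set.mem_univ (f.base x))
  haveI : GeometricallyReduced f := Groth.GrpschAbsch.FibreFlat.geometricallyReduced_of_smooth f
  exact Groth.GeomComp.component_subset_interior_local f e he (f.base x) V₀ hy₀ hV₀
    (IsQuasiSeparated.of_quasiSeparatedSpace _) (fun c _ => @Groth.GeomComp.isGeomReducedAt_of_geometricallyReduced _ _ _ _ (MorphismProperty.pullback_snd f _ inferInstance) c) hx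

end Groth.Agent.S15351
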