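import Groth.Statements.S5091
import Groth.Agent.S1699
import Groth.Agent.RefRank.Extend
-- import your own Groth.Agent.* helpers here

set_option autoImplicit false
universe u
open CategoryTheory CategoryTheory.Limits AlgebraicGeometry TopologicalSpace
open Div21

namespace Groth.Agent.S5091

theorem one_le_depth_iff (R : Type u) [CommRing R] [IsLocalRing R] [IsNoetherianRing R] :
    (1 : ℕ∞) ≤ LocCoh.depth R R ↔ ¬ IsAssociatedPrime (IsLocalRing.maximalIdeal R) R := by
  have htop := Groth.LocCohBase.smul_maximalIdeal_ne_top (R := R) R (IsLocalRing.maximalIdeal.isMaximal R).ne_top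
  constructor
  · intro h hass
    obtain ⟨x, hx, hreg⟩ := Groth.LocCohBase.exists_regular_of_one_le htop h
    have := Set.mem_biUnion (t := fun p : Ideal R => (p : Set R)) (show IsLocalRing.maximalIdeal R ∈ associatedPrimes R R from hass) hx
    rw [biUnion_associatedPrimes_eq_zero_divisors] at this
    obtain ⟨y, hy, hxy⟩ := this
    exact hy (hreg (by simpa using hxy))
  · intro h
    have hns : ¬ ((IsLocalRing.maximalIdeal R : Set R) ⊆ ⋃ p ∈ associatedPrimes R R, (p : Set R)) := by
      intro hsub
      obtain ⟨p, hp, hle⟩ := (Ideal.subset_union_prime_finite (associatedPrimes.finite R R) ⊥ ⊥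
        (fun p hp _ _ => IsAssociatedPrime.isPrime hp)).1 hsub
      exact h ((IsLocalRing.maximalIdeal.isMaximal R).eq_of_le (IsAssociatedPrime.isPrime hp).ne_top hle ▸ hp)
    obtain ⟨x, hx, hxn⟩ := Set.not_subset.1 hns
    rw [biUnion_associatedPrimes_eq_zero_divisors] at hxn
    exact_mod_cast (Groth.LocCohBase.le_idealDepth_iff_exists _ htop 1).2
      ⟨[x], rfl, (RingTheory.Sequence.isWeaklyRegular_singleton_iff _ _).2
        (isSMulRegular_iff_right_eq_zero_of_smul.2 fun m hm => by
          by_contra hm0
          exact hxn ⟨m, hm0, hm⟩), by simpa using hx⟩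

/-- Let X be a locally Noetherian scheme, Y a closed subset and U = X − Y, with j : U → X the inclusion.
Then O_X → j_*O_U is injective — restriction of functions from every open V to V ∩ U is injective,
i.e. U is schematically dense in X — if and only if the local ring of X at every point of Y has
depth at least 1. -/
theorem result (X : Scheme.{u}) [IsLocallyNoetherian X] (U : X.Opens) :
    CInt.IsSchematicallyDense U ↔
      ∀ x : ↥X, x ∉ U → (1 : ℕ∞) ≤ LocCoh.depth ↑(X.presheaf.stalk x) ↑(X.presheaf.stalk x) := by
  rw [Groth.Agent.S1699.result X U]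
  refine forall_congr' fun x => ?_
  rw [one_le_depth_iff]
  tauto

end Groth.Agent.S5091
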