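import Groth.Statements.S2155
import Mathlib
import Groth.Agent.PropsBasic.LociBaseChange.Scheme

set_option autoImplicit false
universe u
open CategoryTheory AlgebraicGeometry
open Mor

namespace Groth.Agent.S2155

set_option backward.isDefEq.respectTransparency.types false

/-- Consider a cartesian square with `f : X → S` locally of finite presentation, base change `g : S' →
S`, and `f' : X' → S'`, `g' : X' → X` the projections. If `f` is flat, or if `g` is flat, then the
open set of points where `f'` is smooth is the preimage under `g'` of the open set of points where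
`f` is smooth. -/
theorem result {X S X' S' : Scheme.{u}} (f : X ⟶ S) (g : S' ⟶ S) (f' : X' ⟶ S') (g' : X' ⟶ X)
    (h : IsPullback g' f' f g) [LocallyOfFinitePresentation f] [LocallyOfFinitePresentation f'] (hflat : Flat f ∨ Flat g) :
    f'.smoothLocus = g' ⁻¹ᵁ f.smoothLocus := by
  refine le_antisymm (fun x' hx' => ?_) (Groth.PropsBasic.Loci.preimage_smoothLocus_le h)
  show g' x' ∈ f.smoothLocus
  rcases hflat with hf | hg
  swap
  · exact Groth.PropsBasic.Loci.mem_smoothLocus_of_flat h hx'
  set x := g' x'
  let h₀ : Spec (S'.residueField (f' x')) ⟶ S := S'.fromSpecResidueField (f' x') ≫ g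
  have hh : h₀ (IsLocalRing.closedPoint _) = f x := by
    rw [Scheme.Hom.comp_apply, Scheme.fromSpecResidueField_apply, ← Scheme.Hom.comp_apply, ← h.w,
      Scheme.Hom.comp_apply]
  obtain ⟨φ, hφ⟩ : ∃ φ : S.residueField (f x) ⟶ S'.residueField (f' x'),
      Spec.map φ ≫ S.fromSpecResidueField (f x) = h₀ := by
    rw [← hh]
    exact ⟨_, Scheme.descResidueField_stalkClosedPointTo_fromSpecResidueField _ _ h₀⟩
  have H₀ : IsPullback (f'.fiberι (f' x') ≫ g') (f'.fiberToSpecResidueField (f' x')) f h₀ :=
    (IsPullback.of_hasPullback f' (S'.fromSpecResidueField (f' x'))).paste_horiz h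
  let c : f'.fiber (f' x') ⟶ f.fiber (f x) :=
    Limits.pullback.lift (f'.fiberι (f' x') ≫ g') (f'.fiberToSpecResidueField (f' x') ≫ Spec.map φ)
      (by rw [H₀.w, Category.assoc, hφ])
  have hc : IsPullback c (f'.fiberToSpecResidueField (f' x'))
      (f.fiberToSpecResidueField (f x)) (Spec.map φ) := by
    refine IsPullback.of_right ?_ (Limits.pullback.lift_snd _ _ _)
      (IsPullback.of_hasPullback f (S.fromSpecResidueField (f x)))
    convert H₀ using 1
    exact Limits.pullback.lift_fst _ _ _
  have : LocallyOfFinitePresentation (f.fiberToSpecResidueField (f x)) :=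
    MorphismProperty.pullback_snd _ _ ‹_›
  have : LocallyOfFinitePresentation (f'.fiberToSpecResidueField (f' x')) :=
    MorphismProperty.pullback_snd _ _ ‹_›
  have hcx : c (f'.asFiber x') = f.asFiber x := by
    apply (f.fiberι (f x)).isEmbedding.injective
    rw [f.fiberι_asFiber, ← Scheme.Hom.comp_apply]
    refine (congrArg (fun m => m.base (f'.asFiber x'))
      (Limits.pullback.lift_fst _ _ _ : c ≫ f.fiberι (f x) = f'.fiberι (f' x') ≫ g')).trans ?_
    exact congrArg g'.base (f'.fiberι_asFiber x')
  refine Groth.PropsBasic.Loci.mem_smoothLocus_of_fiber (Flat.stalkMap f x) ?_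
  rw [← hcx]
  exact Groth.PropsBasic.Loci.mem_smoothLocus_of_flat hc (Groth.PropsBasic.Loci.preimage_smoothLocus_le
    (IsPullback.of_hasPullback f' (S'.fromSpecResidueField (f' x')))
    (show f'.fiberι (f' x') (f'.asFiber x') ∈ f'.smoothLocus by rw [f'.fiberι_asFiber]; exact hx'))

end Groth.Agent.S2155
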