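import Groth.Statements.S14609
import Groth.Agent.FlatCxBase.Fibre
-- import your own Groth.Agent.* helpers here

set_option autoImplicit false
universe u v
open CAlg

namespace Groth.Agent.S14609

open TensorProduct in
/-- Let A be a Noetherian ring, M a finitely generated A-module, F a finitely generated free A-module
and δ : M → F an A-linear map. Then the function on Spec A sending a prime p with residue field κ(p)
to the κ(p)-dimension of the kernel of δ ⊗ κ(p) : M ⊗ κ(p) → F ⊗ κ(p) is upper semicontinuous. -/
theorem result (A : Type u) [CommRing A]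
    [IsNoetherianRing A] (M : Type v) (F : Type v) [AddCommGroup M] [Module A M] [Module.Finite A M]
    [AddCommGroup F] [Module A F] [Module.Finite A F] [Module.Free A F] (δ : M →ₗ[A] F) :
    UpperSemicontinuous (fun x : PrimeSpectrum A =>
      Module.finrank x.asIdeal.ResidueField
        (LinearMap.ker (δ.baseChange x.asIdeal.ResidueField))) := by
  classical
  rcases subsingleton_or_nontrivial A with hA | hA
  · intro x
    exact absurd (Subsingleton.elim _ _) x.2.ne_top
  obtain ⟨n, π, hπ⟩ := Module.Finite.exists_fin' A M
  let e : ((Fin n → A) ⧸ LinearMap.ker π) ≃ₗ[A] M := π.quotKerEquivOfSurjective hπ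
  let ι := Module.Free.ChooseBasisIndex A F
  let b := Module.Free.chooseBasis A F
  let r := Fintype.card ι
  let eF : F ≃ₗ[A] (Fin r → A) := (b.reindex (Fintype.equivFin ι)).equivFun
  let δ' : ((Fin n → A) ⧸ LinearMap.ker π) →ₗ[A] (Fin r → A) := eF.toLinearMap ∘ₗ δ ∘ₗ e.toLinearMap
  let Q := (Fin r → A) ⧸ LinearMap.range δ'
  let f₁ := Groth.FlatCxBase.fdim (A := A) ((Fin n → A) ⧸ LinearMap.ker π)
  let f₂ := Groth.FlatCxBase.fdim (A := A) Q
  have key : ∀ x : PrimeSpectrum A, Module.finrank x.asIdeal.ResidueField
      (LinearMap.ker (δ.baseChange x.asIdeal.ResidueField)) + r = f₁ x + f₂ x := by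
    intro x
    set K := x.asIdeal.ResidueField
    let f := δ'.baseChange K
    have h1 := f.finrank_range_add_finrank_ker
    let q := (LinearMap.range δ').mkQ.baseChange K
    have hq : Function.Surjective q := LinearMap.baseChange_surjective (R := A) K (Submodule.mkQ_surjective _)
    have hex : LinearMap.range f = LinearMap.ker q := by
      ext y
      exact (lTensor_exact K (LinearMap.exact_map_mkQ_range δ') (Submodule.mkQ_surjective _) y).symm
    have h2 := ((Submodule.quotEquivOfEq _ _ hex).trans (q.quotKerEquivOfSurjective hq)).finrank_eq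
    have h3 := (LinearMap.range f).finrank_quotient_add_finrank
    have h4 : Module.finrank K (TensorProduct A K (Fin r → A)) = r := by
      rw [Module.finrank_baseChange, Module.finrank_fin_fun]
    let eK := e.baseChange A K _ _
    have hker : LinearMap.ker f = (LinearMap.ker (δ.baseChange K)).comap eK.toLinearMap := by
      ext y
      rw [LinearMap.mem_ker, Submodule.mem_comap, LinearMap.mem_ker]
      show (δ'.baseChange K) y = 0 ↔ _
      rw [show δ'.baseChange K = (eF.baseChange A K _ _).toLinearMap ∘ₗ δ.baseChange K ∘ₗ eK.toLinearMap from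
        TensorProduct.AlgebraTensorModule.ext fun a m => rfl]
      simp only [LinearMap.comp_apply, LinearEquiv.coe_coe, LinearEquiv.map_eq_zero_iff]
    have h5 : Module.finrank K (LinearMap.ker f) = Module.finrank K (LinearMap.ker (δ.baseChange K)) := by
      rw [hker]
      exact (eK.ofSubmodule' (LinearMap.ker (δ.baseChange K))).finrank_eq
    show Module.finrank K (LinearMap.ker (δ.baseChange K)) + r =
      Module.finrank K (TensorProduct A K ((Fin n → A) ⧸ LinearMap.ker π)) +
        Module.finrank K (TensorProduct A K ((Fin r → A) ⧸ LinearMap.range δ'))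
    omega
  rw [upperSemicontinuous_iff]
  intro x c hc
  filter_upwards [Groth.FlatCxBase.eventually_fdim_le (A := A) (M := (Fin n → A) ⧸ LinearMap.ker π) x,
    Groth.FlatCxBase.eventually_fdim_le (A := A) (M := Q) x] with z h1 h2
  have hx := key x
  have hz := key z
  simp only [f₁, f₂] at hx hz
  dsimp only at hc ⊢
  omega

end Groth.Agent.S14609
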