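import Groth.Statements.S17807
import Groth.Agent.CurveBridge.SectionPoint
import Groth.Agent.CurveBridge.Canonical
import Groth.Agent.CurveBridge.Clifford
import Groth.Agent.AlgSp3.RedInduced

set_option autoImplicit false
universe u
open CategoryTheory CategoryTheory.Limits AlgebraicGeometry
open JacVar

open Groth.CurveBridge TopologicalSpace

namespace Groth.Agent.S17807

/-- The point of a section is closed, rational and cut out by the kernel. -/
theorem exists_point (k : Type u) [Field k] (C : Scheme.{u}) [C.Over (Spec (CommRingCat.of k))]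
    [IsIntegral C] [IsProper (C ↘ Spec (CommRingCat.of k))] (h : IsRegCurve C)
    (s : Spec (CommRingCat.of k) ⟶ C) (hs : s ≫ (C ↘ Spec (CommRingCat.of k)) = 𝟙 _) :
    ∃ x : Pt C, (∀ p, s.base p = x.1) ∧ (placeAt (k := k) h x).deg = 1 ∧
      s.ker = Scheme.IdealSheafData.vanishingIdeal ⟨{x.1}, x.2⟩ := by
  set x := (C.SpecToEquivOfField k s).1 with hxdef
  set φ := (C.SpecToEquivOfField k s).2
  have hsx : Spec.map φ ≫ C.fromSpecResidueField x = s := (C.SpecToEquivOfField k).symm_apply_apply s
  have hx : ∀ p, s.base p = x := fun p => by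
    rw [← hsx]
    exact C.fromSpecResidueField_apply x _
  have hc : IsClosed ({x} : Set C) := by
    have : IsClosedImmersion (s ≫ (C ↘ Spec (CommRingCat.of k))) := by rw [hs]; infer_instance
    have := IsClosedImmersion.of_comp s (C ↘ Spec (CommRingCat.of k))
    have hr : Set.range s.base = {x} := Set.eq_singleton_iff_unique_mem.2
      ⟨⟨Classical.arbitrary _, hx _⟩, by rintro _ ⟨p, rfl⟩; exact hx p⟩
    rw [← hr]
    exact s.isClosedEmbedding.isClosed_range
  have hres : CommRingCat.ofHom (Curv2.resMap k C x) ≫ φ = 𝟙 _ := by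
    refine Spec.map_injective ?_
    rw [Spec.map_comp, Spec.map_id, ← hs, ← hsx, Category.assoc]
    congr 1
    rw [Scheme.fromSpecResidueField, Category.assoc, fromSpecStalk_over, ← Spec.map_comp]
    rfl
  have hb : Function.Bijective (Curv2.resMap k C x) := by
    refine ⟨(Curv2.resMap k C x).injective, fun w => ⟨φ w, φ.hom.injective ?_⟩⟩
    exact ConcreteCategory.congr_hom hres (φ w)
  refine ⟨⟨x, hc⟩, hx, (bijective_resMap_iff h ⟨x, hc⟩).mp hb, ?_⟩
  rw [Groth.AlgSp3.ker_eq_vanishingIdeal_of_isReduced s]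
  congr 1
  refine Closeds.ext ?_
  have hr : Set.range s = {x} := Set.eq_singleton_iff_unique_mem.2
    ⟨⟨Classical.arbitrary _, hx _⟩, by rintro _ ⟨p, rfl⟩; exact hx p⟩
  change closure (Set.range s) = {x}
  rw [hr, hc.closure_eq]

/-- Let C be a smooth proper geometrically connected curve of genus g > 0 over a field k with a
k-rational point, and let L be an invertible module on C with h¹(C, L) > 0. Under these hypotheses,
C contains some nonempty open U with the following property: whenever Q is a k-rational point of C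
and M is an invertible module satisfying M ⊗ I_Q ≅ L (so M is L(Q)), one has h¹(C, M) = h¹(C, L) − 1
if Q belongs to U, and h¹(C, M) = h¹(C, L) if Q does not. (The published statement is phrased for
all closed points Q; for a closed point of degree d > 1 the drop can exceed one, so this row states
it for k-rational points Q.) -/
theorem result (k : Type u) [Field k]
    (C : Scheme.{u}) [C.Over (Spec (CommRingCat.of k))]
    [IsProper (C ↘ Spec (CommRingCat.of k))] [Smooth (C ↘ Spec (CommRingCat.of k))] [GeometricallyConnected (C ↘ Spec (CommRingCat.of k))]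
    (hdim : topologicalKrullDim ↥C = 1)
    (hg : 0 < Curv2.genus k C)
    (σ₀ : Spec (CommRingCat.of k) ⟶ C) (hσ₀ : σ₀ ≫ (C ↘ Spec (CommRingCat.of k)) = 𝟙 _)
    (L : C.Modules) (hL : PicF.IsInvertible L) (hL1 : 0 < Module.finrank k (Coh.HH C L 1)) :
    ∃ U : C.Opens, (U : Set ↥C).Nonempty ∧
      ∀ (σ : Spec (CommRingCat.of k) ⟶ C) (hσ : σ ≫ (C ↘ Spec (CommRingCat.of k)) = 𝟙 _) (M : C.Modules) (hM : PicF.IsInvertible M)
        (hML : Nonempty (CohB1.tensorMod M (ClSub.idealMod σ.ker) ≅ L)),
        ((∀ p, σ.base p ∈ U) → Module.finrank k (Coh.HH C M 1) = Module.finrank k (Coh.HH C L 1) - 1) ∧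
        ((∀ p, σ.base p ∉ U) → Module.finrank k (Coh.HH C M 1) = Module.finrank k (Coh.HH C L 1)) := by
  classical
  haveI := connectedSpace_of_geometrically C k
  haveI := isIntegral_of_smooth k C
  have h : IsRegCurve C := isRegCurve_of_smooth k C hdim
  have h0 := h0_of_geometrically k C hdim
  have hK := isFunctionField_field k C hdim h0
  have hF := isFF k C hdim
  obtain ⟨hn0, -, hnd⟩ := omega_numerics_field k C hdim h0
  obtain ⟨K, hC⟩ := Groth.FunFld1.exists_isCanonical hK
  obtain ⟨φ, D, hφ, hlD, hdD, -⟩ := exists_divEmb h hK hL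
  have hgF := genus_eq h hK
  have h1num : ∀ (N : C.Modules) (_ : PicF.IsInvertible N) (ψ : N ⟶ constK C)
      (E : FunFld.Divisor k C.functionField), IsDivEmb h ψ E →
      Module.finrank k (Coh.HH C N 1) = FunFld.ell (K - E) := fun N hN ψ E hψ => by
    have e := (numerics_of_divEmb h hK hN hψ).2.2
    have := Groth.FunFld1.riemann_roch hK hC E
    rw [hgF] at e
    omega
  have hLh1 := h1num L hL φ D hφ
  have hne : FunFld.L (K - D) ≠ ⊥ := fun hb => by
    unfold FunFld.ell at hLh1
    rw [hb, finrank_bot] at hLh1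
    omega
  obtain ⟨z, hz, hz0⟩ := hF.exists_effective_of_ne_bot hne
  have hE0 : 0 ≤ K - D + FunFld.div k z := hz0
  let B : Set (FunFld.Place k C.functionField) :=
    {P | FunFld.ell (K - D - Finsupp.single P 1) = FunFld.ell (K - D)}
  have hB : B.Finite := by
    refine (K - D + FunFld.div k z).support.finite_toSet.subset fun P hP => ?_
    rw [Finset.mem_coe, Finsupp.mem_support_iff]
    intro hzero
    have hle : K - D - Finsupp.single P 1 ≤ K - D :=
      sub_le_self _ (Finsupp.single_nonneg.mpr zero_le_one)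
    haveI : FiniteDimensional k (FunFld.L (K - D)) := hF.finiteDimensional_L _
    have heq := Submodule.eq_of_le_of_finrank_eq (Groth.FunFld1.L_mono hle) hP
    have hmem : z ∈ FunFld.L (K - D - Finsupp.single P 1) :=
      heq.symm ▸ (hF.mem_L_iff hz).mpr hz0
    have := (hF.mem_L_iff hz).mp hmem P
    simp only [Finsupp.coe_zero, Pi.zero_apply, Finsupp.add_apply, Finsupp.sub_apply,
      Finsupp.single_eq_same] at this hzero
    omega
  have hBc : IsClosed ((Subtype.val : Pt C → C) '' (placeAt (k := k) h ⁻¹' B)) := by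
    have hfin := (hB.preimage (placeAt_injective (k := k) h).injOn).image (Subtype.val : Pt C → C)
    rw [← Set.biUnion_of_singleton (Subtype.val '' _)]
    exact hfin.isClosed_biUnion fun x hx => by obtain ⟨y, -, rfl⟩ := hx; exact y.2
  refine ⟨⟨_, hBc.isOpen_compl⟩, ⟨genericPoint C, ?_⟩, fun σ hσ M hM hML => ?_⟩
  · rintro ⟨y, -, hy⟩
    exact (isClosed_singleton_iff C hdim _).mp (hy ▸ y.2) rfl
  obtain ⟨x, hx, hxdeg, hker⟩ := exists_point k C h σ hσ
  rw [hker] at hML
  obtain ⟨hI, χ, hχ⟩ := exists_divEmb_pointIdeal (k := k) h x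
  obtain ⟨ψ, E, hψ, -, -, -⟩ := exists_divEmb h hK hM
  obtain ⟨ρ, hρ⟩ := exists_divEmb_tensor h hM hI hψ hχ
  obtain ⟨μ, hμ, he⟩ := linEquiv_of_iso h hK (Groth.PicAux.isInvertible_tensorMod hM hI) hL hρ hφ hML.some
  set P := placeAt (k := k) h x with hPdef
  have hMh1 : Module.finrank k (Coh.HH C M 1) = FunFld.ell (K - D - Finsupp.single P 1) := by
    rw [h1num M hM ψ E hψ, show K - E = K - D - Finsupp.single P 1 + FunFld.div k μ by rw [he]; abel,
      hF.ell_add_div _ hμ]
  have hr1 := Groth.FunFld1.riemann_roch hK hC D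
  have hr2 := Groth.FunFld1.riemann_roch hK hC (D + Finsupp.single P 1)
  have hdeg : (D + Finsupp.single P 1).deg = D.deg + 1 := by
    rw [Groth.FunFld1.deg_add, Groth.FunFld1.deg_single, hxdeg]
    simp
  have hup := ell_mono hF (le_add_of_nonneg_right (a := D)
    (Finsupp.single_nonneg.mpr zero_le_one : (0 : FunFld.Divisor k C.functionField) ≤ Finsupp.single P 1))
  have hdown := ell_mono hF (sub_le_self (K - D)
    (Finsupp.single_nonneg.mpr zero_le_one : (0 : FunFld.Divisor k C.functionField) ≤ Finsupp.single P 1))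
  rw [hdeg, ← sub_sub] at hr2
  refine ⟨fun hU => ?_, fun hU => ?_⟩
  · have hnot : FunFld.ell (K - D - Finsupp.single P 1) ≠ FunFld.ell (K - D) := fun hb =>
      (hx (Classical.arbitrary _) ▸ hU (Classical.arbitrary _) :
        x.1 ∈ ((Subtype.val : Pt C → C) '' (placeAt (k := k) h ⁻¹' B))ᶜ) ⟨x, hb, rfl⟩
    omega
  · have hmem : x.1 ∈ (Subtype.val : Pt C → C) '' (placeAt (k := k) h ⁻¹' B) := by
      have := hU (Classical.arbitrary _)
      rw [hx] at this
      exact not_not.mp this
    obtain ⟨y, hy, hyx⟩ := hmem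
    obtain rfl : y = x := Subtype.ext hyx
    have hy' : FunFld.ell (K - D - Finsupp.single P 1) = FunFld.ell (K - D) := hy
    omega

end Groth.Agent.S17807
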