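import Groth.Statements.S4381
import Groth.Agent.Ega2Proj.RelAmple

set_option autoImplicit false
universe u
open CategoryTheory CategoryTheory.Limits AlgebraicGeometry
open EGA2

namespace Groth.Agent.S4381

/-- Let Y be an affine scheme, f : X → Y a quasi-compact morphism and L an O_X-module. Then L is ample
relative to f if and only if L is an ample O_X-module. -/
theorem result {X Y : Scheme.{u}} [IsAffine Y] (f : X ⟶ Y) [QuasiCompact f] (L : X.Modules) :
    RelAmple.IsRelAmple f L ↔ CohB1.IsAmple L := by
  open Groth.Ega2Proj in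
  constructor
  · intro h
    have : CompactSpace X := QuasiCompact.compactSpace_of_compactSpace f
    exact isAmple_of_iso (Scheme.Modules.restrictFunctorId.app L)
      (isAmple_of_isRelAmple h ⟨⊤, isAffineOpen_top Y⟩ (𝟙 X) (fun _ _ => trivial))
  · intro h
    exact Groth.Ega2Proj.isRelAmple_of_local f fun x => ⟨⊤, X, 𝟙 X, inferInstance, trivial,
      fun y _ => ⟨y, rfl⟩, Groth.Ega2Proj.isAmple_of_iso (Scheme.Modules.restrictFunctorId.app L).symm h⟩

end Groth.Agent.S4381
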