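import Groth.Statements.S9816
import Mathlib
import Groth.Agent.PropsBasic.AmpleBasis
import Groth.Agent.PropsBasic.FibreBox

set_option autoImplicit false
universe u
open CategoryTheory CategoryTheory.Limits AlgebraicGeometry TopologicalSpace
open Props

namespace Groth.Agent.S9816

set_option backward.isDefEq.respectTransparency.types false

/-- Over a quasi-separated base S, if X and Y carry ample invertible modules L and N, then the tensor
product of their pullbacks along the two projections is an ample invertible module on the fibre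
product of X and Y over S. -/
theorem result {X Y S : Scheme.{u}} [QuasiSeparatedSpace S]
    (f : X ⟶ S) (g : Y ⟶ S) (L : X.Modules) (N : Y.Modules) (hL : CohB1.IsAmple L) (hN : CohB1.IsAmple N) :
    CohB1.IsAmple (CohB1.tensorMod ((Scheme.Modules.pullback (pullback.fst f g)).obj L)
      ((Scheme.Modules.pullback (pullback.snd f g)).obj N)) := by
  open Groth.PicAux Groth.PropsBasic.Ample TopologicalSpace in
  have hLb := isBasis_of_isAmple hL
  open Groth.PicAux Groth.PropsBasic.Ample TopologicalSpace in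
  have hNb := isBasis_of_isAmple hN
  obtain ⟨hLi, hXc, -⟩ := hL
  obtain ⟨hNi, hYc, -⟩ := hN
  have : CompactSpace (pullback f g : Scheme.{u}) :=
    QuasiCompact.compactSpace_of_compactSpace (pullback.fst f g)
  have hp := Groth.PicAux.isInvertible_pullback (pullback.fst f g) hLi
  have hq := Groth.PicAux.isInvertible_pullback (pullback.snd f g) hNi
  refine ⟨Groth.PicAux.isInvertible_tensorMod hp hq, inferInstance, fun z => ?_⟩
  open Groth.PicAux Groth.PropsBasic.Ample TopologicalSpace in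
  let x := pullback.fst f g z
  let y := pullback.snd f g z
  have hxy : f x = g y := by
    change (pullback.fst f g ≫ f) z = (pullback.snd f g ≫ g) z
    rw [pullback.condition]
  obtain ⟨V, hV, hxV, -⟩ := exists_isAffineOpen_mem_and_subset
    (x := f x) (U := (⊤ : S.Opens)) trivial
  obtain ⟨A, hA, hxA, hAV⟩ := exists_isAffineOpen_mem_and_subset
    (x := x) (U := f ⁻¹ᵁ V) hxV
  obtain ⟨B, hB, hyB, hBV⟩ := exists_isAffineOpen_mem_and_subset
    (x := y) (U := g ⁻¹ᵁ V) (by change g y ∈ V; exact hxy ▸ hxV)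
  open Groth.PicAux Groth.PropsBasic.Ample TopologicalSpace in
  obtain ⟨_, ⟨n, s, rfl⟩, hxs, hsA⟩ := Opens.isBasis_iff_nbhd.1 hLb hxA
  open Groth.PicAux Groth.PropsBasic.Ample TopologicalSpace in
  obtain ⟨_, ⟨m, t, rfl⟩, hyt, htB⟩ := Opens.isBasis_iff_nbhd.1 hNb hyB
  open Groth.PicAux Groth.PropsBasic.Ample in
  have hs' := isAffineOpen_gloc_inf (isInvertible_tensorPow hLi (n + 1)) s hA
  open Groth.PicAux Groth.PropsBasic.Ample in
  have ht' := isAffineOpen_gloc_inf (isInvertible_tensorPow hNi (m + 1)) t hB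
  rw [inf_eq_left.2 hsA] at hs'
  rw [inf_eq_left.2 htB] at ht'
  open Groth.PicAux Groth.PropsBasic.Ample in
  obtain ⟨a, b, ha, hb⟩ : ∃ (a : Γ(CohB1.tensorPow L ((n + 1) * (m + 1)), ⊤))
      (b : Γ(CohB1.tensorPow N ((n + 1) * (m + 1)), ⊤)),
      gloc a = CohB1.genLocus _ s ∧ gloc b = CohB1.genLocus _ t := by
    obtain ⟨a, ha⟩ := exists_gloc_transport (n + 1) (m + 1) (powSec (gsec s) (m + 1))
    obtain ⟨b, hb⟩ := exists_gloc_transport (m + 1) (n + 1) (powSec (gsec t) (n + 1))
    rw [gloc_powSec (isInvertible_tensorPow hLi _) _ (Nat.succ_pos _), ← genLocus_eq_gloc] at ha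
    rw [gloc_powSec (isInvertible_tensorPow hNi _) _ (Nat.succ_pos _), ← genLocus_eq_gloc] at hb
    have key : ∀ K K' : ℕ, K = K' → ∀ c : Γ(CohB1.tensorPow N K, ⊤),
        ∃ c' : Γ(CohB1.tensorPow N K', ⊤), gloc c' = gloc c := by
      rintro K _ rfl c
      exact ⟨c, rfl⟩
    obtain ⟨b', hb'⟩ := key _ _ (mul_comm (m + 1) (n + 1)) b
    exact ⟨a, b', ha, hb'.trans hb⟩
  open Groth.PicAux in
  obtain ⟨φ⟩ := pullback_tensorPow (pullback.fst f g) L ((n + 1) * (m + 1))
  open Groth.PicAux in
  obtain ⟨ψ⟩ := pullback_tensorPow (pullback.snd f g) N ((n + 1) * (m + 1))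
  open Groth.PicAux in
  obtain ⟨χ⟩ := tensorPow_tensorMod ((Scheme.Modules.pullback (pullback.fst f g)).obj L)
    ((Scheme.Modules.pullback (pullback.snd f g)).obj N) ((n + 1) * (m + 1))
  open Groth.PicAux in
  let a' := φ.hom.app ⊤ (pullSec (pullback.fst f g) _ a)
  open Groth.PicAux in
  let b' := ψ.hom.app ⊤ (pullSec (pullback.snd f g) _ b)
  open Groth.PicAux in
  let c := χ.inv.app ⊤ (tmulSec a' b')
  open Groth.PicAux Groth.PropsBasic.Ample in
  have hc : gloc c = pullback.fst f g ⁻¹ᵁ CohB1.genLocus _ s ⊓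
      pullback.snd f g ⁻¹ᵁ CohB1.genLocus _ t := by
    refine (gloc_map χ.inv _).trans ((gloc_tmulSec (isInvertible_tensorPow hp _)
      (isInvertible_tensorPow hq _) a' b').trans ?_)
    refine congrArg₂ (· ⊓ ·) ((gloc_map φ.hom _).trans ?_) ((gloc_map ψ.hom _).trans ?_)
    · exact (gloc_pullSec _ (isInvertible_tensorPow hLi _) a).trans (by rw [ha])
    · exact (gloc_pullSec _ (isInvertible_tensorPow hNi _) b).trans (by rw [hb])
  refine ⟨(n + 1) * m + n, Groth.PicAux.homOfSection c, hc.ge ⟨hxs, hyt⟩, ?_⟩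
  refine (congrArg IsAffineOpen hc).mpr ?_
  exact Groth.PropsBasic.Ample.isAffineOpen_fibre_box hV hs' ht' (fun w hw => hAV (hsA hw))
    (fun w hw => hBV (htB hw))

end Groth.Agent.S9816
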