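import Groth.Statements.S4428
import Groth.Agent.Ega2Proj.QuasiAffineAmple
import Groth.Agent.S9816

set_option autoImplicit false
universe u
open CategoryTheory CategoryTheory.Limits AlgebraicGeometry
open EGA2

namespace Groth.Agent.S4428

/-- Let a₁ : Y₁ → S and a₂ : Y₂ → S be morphisms, f₁ : X₁ → Y₁ and f₂ : X₂ → Y₂ quasi-compact morphisms
(so X₁, X₂ are S-schemes through f_i ≫ a_i), and L₁, L₂ modules on X₁, X₂ ample relative to f₁, f₂.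
Then the external tensor product p₁^*(L₁) ⊗ p₂^*(L₂) on X₁ ×_S X₂ (p₁, p₂ the projections) is ample
relative to the product morphism f₁ ×_S f₂ : X₁ ×_S X₂ → Y₁ ×_S Y₂. -/
theorem result {X₁ X₂ Y₁ Y₂ S : Scheme.{u}} (a₁ : Y₁ ⟶ S) (a₂ : Y₂ ⟶ S)
    (f₁ : X₁ ⟶ Y₁) (f₂ : X₂ ⟶ Y₂) [QuasiCompact f₁] [QuasiCompact f₂] (L₁ : X₁.Modules) (L₂ : X₂.Modules)
    (hL₁ : RelAmple.IsRelAmple f₁ L₁) (hL₂ : RelAmple.IsRelAmple f₂ L₂) :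
    RelAmple.IsRelAmple
      (pullback.map (f₁ ≫ a₁) (f₂ ≫ a₂) a₁ a₂ f₁ f₂ (𝟙 S) (Category.comp_id (f₁ ≫ a₁)) (Category.comp_id (f₂ ≫ a₂)))
      (CohB1.tensorMod ((Scheme.Modules.pullback (pullback.fst (f₁ ≫ a₁) (f₂ ≫ a₂))).obj L₁)
        ((Scheme.Modules.pullback (pullback.snd (f₁ ≫ a₁) (f₂ ≫ a₂))).obj L₂)) := by
  have hqc : QuasiCompact (pullback.map (f₁ ≫ a₁) (f₂ ≫ a₂) a₁ a₂ f₁ f₂ (𝟙 S)
      (Category.comp_id (f₁ ≫ a₁)) (Category.comp_id (f₂ ≫ a₂))) :=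
    MorphismProperty.pullbackMap (P := @QuasiCompact) (by assumption) (by assumption) rfl rfl
  refine Groth.Ega2Proj.isRelAmple_of_local _ fun z => ?_
  set φ := pullback.map (f₁ ≫ a₁) (f₂ ≫ a₂) a₁ a₂ f₁ f₂ (𝟙 S)
      (Category.comp_id (f₁ ≫ a₁)) (Category.comp_id (f₂ ≫ a₂)) with hφ
  have hfst : φ ≫ pullback.fst a₁ a₂ = pullback.fst _ _ ≫ f₁ := pullback.lift_fst _ _ _
  have hsnd : φ ≫ pullback.snd a₁ a₂ = pullback.snd _ _ ≫ f₂ := pullback.lift_snd _ _ _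
  let y := φ z
  obtain ⟨T, hT, hyT, -⟩ := exists_isAffineOpen_mem_and_subset
    (x := a₁ (pullback.fst a₁ a₂ y)) (U := (⊤ : S.Opens)) trivial
  obtain ⟨V₁, hV₁, hy₁, hle₁⟩ := exists_isAffineOpen_mem_and_subset
    (x := pullback.fst a₁ a₂ y) (U := a₁ ⁻¹ᵁ T) hyT
  obtain ⟨V₂, hV₂, hy₂, hle₂⟩ := exists_isAffineOpen_mem_and_subset
    (x := pullback.snd a₁ a₂ y) (U := a₂ ⁻¹ᵁ T)
      (show a₂ (pullback.snd a₁ a₂ y) ∈ T from congr($(pullback.condition (f := a₁) (g := a₂)) y) ▸ hyT)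
  let A₁ : X₁.Opens := f₁ ⁻¹ᵁ V₁
  let A₂ : X₂.Opens := f₂ ⁻¹ᵁ V₂
  let g₁ : A₁.toScheme ⟶ T.toScheme := (f₁ ≫ a₁).resLE T A₁ fun w hw => hle₁ hw
  let g₂ : A₂.toScheme ⟶ T.toScheme := (f₂ ≫ a₂).resLE T A₂ fun w hw => hle₂ hw
  have e₁ : g₁ ≫ T.ι = A₁.ι ≫ f₁ ≫ a₁ := Scheme.Hom.resLE_comp_ι _ _
  have e₂ : g₂ ≫ T.ι = A₂.ι ≫ f₂ ≫ a₂ := Scheme.Hom.resLE_comp_ι _ _
  let j := pullback.map g₁ g₂ (f₁ ≫ a₁) (f₂ ≫ a₂) A₁.ι A₂.ι T.ι e₁ e₂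
  have hj : IsOpenImmersion j := by
    simp only [j, pullback_map_eq_pullbackFstFstIso_inv]
    infer_instance
  have : IsAffine T.toScheme := hT
  have hA := Groth.Agent.S9816.result g₁ g₂ _ _ (hL₁.2 ⟨V₁, hV₁⟩) (hL₂.2 ⟨V₂, hV₂⟩)
  refine ⟨pullback.fst a₁ a₂ ⁻¹ᵁ V₁ ⊓ pullback.snd a₁ a₂ ⁻¹ᵁ V₂, _, j, hj, ⟨hy₁, hy₂⟩, ?_, ?_⟩
  · intro w hw
    rw [AlgebraicGeometry.Scheme.Pullback.range_map, Scheme.Opens.range_ι, Scheme.Opens.range_ι]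
    refine ⟨?_, ?_⟩
    · change f₁ (pullback.fst (f₁ ≫ a₁) (f₂ ≫ a₂) w) ∈ V₁
      exact congr($hfst w) ▸ hw.1
    · change f₂ (pullback.snd (f₁ ≫ a₁) (f₂ ≫ a₂) w) ∈ V₂
      exact congr($hsnd w) ▸ hw.2
  · refine Groth.Ega2Proj.isAmple_of_iso ?_ hA
    exact PicGrp.tensorModIso
        ((Scheme.Modules.pullback (pullback.fst g₁ g₂)).mapIso (Groth.Ega2Proj.restrictIsoPullback A₁.ι L₁) ≪≫
          (Scheme.Modules.pullbackComp _ _).app L₁ ≪≫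
          (Scheme.Modules.pullbackCongr (pullback.lift_fst _ _ _ : j ≫ pullback.fst _ _ = _).symm).app L₁ ≪≫
          ((Scheme.Modules.pullbackComp _ _).app L₁).symm)
        ((Scheme.Modules.pullback (pullback.snd g₁ g₂)).mapIso (Groth.Ega2Proj.restrictIsoPullback A₂.ι L₂) ≪≫
          (Scheme.Modules.pullbackComp _ _).app L₂ ≪≫
          (Scheme.Modules.pullbackCongr (pullback.lift_snd _ _ _ : j ≫ pullback.snd _ _ = _).symm).app L₂ ≪≫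
          ((Scheme.Modules.pullbackComp _ _).app L₂).symm) ≪≫
      (Groth.PicAux.exists_pullback_tensorMod j _ _).choose.symm ≪≫
      (Groth.Ega2Proj.restrictIsoPullback j _).symm

end Groth.Agent.S4428
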