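import Groth.Statements.S14437
import Mathlib
-- import your own Groth.Agent.* helpers here

set_option autoImplicit false
universe u
open CAlg

namespace Groth.Agent.S14437

/-- Let k be a field and A → B a local homomorphism of Noetherian local k-algebras with residue fields k
(k → A/m_A and k → B/m_B bijective) — for instance the local rings at a closed point x and at its
image y under a morphism of schemes of finite type over an algebraically closed k. Then dim_k
(Ω_{B/A} ⊗_B B/m_B) + rank(m_A/m_A² → m_B/m_B²) = dim_k (m_B/m_B²): the fibre at x of the sheaf of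
relative differentials is dual to the kernel of the tangent map T_x X → T_y Y. (The published
statement is the canonical isomorphism (Ω_{X/Y})_(x)^∨ ≅ ker(df_x); stated here as the resulting
equality of dimensions. Its second assertion, dim (Ω_{X/Y})_(x) ≥ r when the fibre has an
r-dimensional component through x, is not included.) -/
theorem result (k : Type u) [Field k]
    (A B : Type u) [CommRing A] [CommRing B] [IsLocalRing A] [IsLocalRing B] [IsNoetherianRing A] [IsNoetherianRing B]
    [Algebra k A] [Algebra k B] [Algebra A B] [IsScalarTower k A B]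
    (hle : IsLocalRing.maximalIdeal A ≤ Ideal.comap (IsScalarTower.toAlgHom k A B) (IsLocalRing.maximalIdeal B))
    (hA : Function.Bijective (algebraMap k (IsLocalRing.ResidueField A)))
    (hB : Function.Bijective (algebraMap k (IsLocalRing.ResidueField B))) :
    Module.finrank (IsLocalRing.ResidueField B) (TensorProduct B (IsLocalRing.ResidueField B) (Ω[B⁄A])) +
      Module.finrank k ↥(LinearMap.range (Ideal.mapCotangent (IsLocalRing.maximalIdeal A) (IsLocalRing.maximalIdeal B)
        (IsScalarTower.toAlgHom k A B) hle)) =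
      Module.finrank k (IsLocalRing.CotangentSpace B) := by
  classical
  set mB := IsLocalRing.maximalIdeal B
  set mA := IsLocalRing.maximalIdeal A
  set κ := IsLocalRing.ResidueField B
  let f := Ideal.mapCotangent mA mB (IsScalarTower.toAlgHom k A B) hle
  let N : Submodule B mB.Cotangent := Submodule.span B (Set.range f)
  let W := mB.Cotangent ⧸ N
  let ek : k ≃+* κ := RingEquiv.ofBijective (algebraMap k κ) hB
  let c : B → k := fun b => ek.symm (IsLocalRing.residue B b)
  have hc : ∀ b, b - algebraMap k B (c b) ∈ mB := fun b => by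
    rw [← IsLocalRing.residue_eq_zero_iff, map_sub, sub_eq_zero]
    show IsLocalRing.residue B b = ek (c b)
    rw [RingEquiv.apply_symm_apply]
  have hcu : ∀ b (r : k), b - algebraMap k B r ∈ mB → c b = r := fun b r h => by
    show ek.symm (IsLocalRing.residue B b) = r
    rw [RingEquiv.symm_apply_eq, ← sub_eq_zero]
    show IsLocalRing.residue B b - IsLocalRing.residue B (algebraMap k B r) = 0
    rw [← map_sub, IsLocalRing.residue_eq_zero_iff]; exact h
  have hz : ∀ (x : B) (hx : x ∈ mB) (w : W), x • w = 0 := fun x hx w => by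
    obtain ⟨v, rfl⟩ := Submodule.Quotient.mk_surjective N w
    obtain ⟨y, rfl⟩ := mB.toCotangent_surjective v
    rw [← Submodule.Quotient.mk_smul, ← map_smul]
    rw [show mB.toCotangent (x • y) = 0 from (Ideal.toCotangent_eq_zero mB _).2 (by
      rw [pow_two]; exact Ideal.mul_mem_mul hx y.2), Submodule.Quotient.mk_zero]
  have hsm : ∀ (b : B) (w : W), b • w = c b • w := fun b w => by
    rw [← algebraMap_smul B (c b) w, ← sub_eq_zero, ← sub_smul]
    exact hz _ (hc b) w
  let mk : mB →ₗ[B] W := N.mkQ ∘ₗ mB.toCotangent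
  let δ₀ : B → W := fun b => mk ⟨b - algebraMap k B (c b), hc b⟩
  have hδ : ∀ (b : B) (r : k) (h : b - algebraMap k B r ∈ mB), δ₀ b = mk ⟨b - algebraMap k B r, h⟩ := fun b r h => by
    obtain rfl := hcu b r h
    rfl
  have hδA : ∀ a, δ₀ (algebraMap A B a) = 0 := by
    intro a
    obtain ⟨r, hr⟩ := hA.2 (IsLocalRing.residue A a)
    have hm : a - algebraMap k A r ∈ mA := by
      rw [← IsLocalRing.residue_eq_zero_iff, map_sub, sub_eq_zero]; exact hr.symm
    have h2 : algebraMap A B a - algebraMap k B r ∈ mB := by
      have := hle hm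
      rw [Ideal.mem_comap, map_sub] at this
      rwa [show (IsScalarTower.toAlgHom k A B) (algebraMap k A r) = algebraMap k B r from AlgHom.commutes _ r] at this
    rw [hδ _ r h2]
    refine (Submodule.Quotient.mk_eq_zero N).2 (Submodule.subset_span ⟨mA.toCotangent ⟨_, hm⟩, ?_⟩)
    show f (mA.toCotangent ⟨_, hm⟩) = mB.toCotangent _
    rw [Ideal.mapCotangent_toCotangent]
    congr 1
    ext
    show algebraMap A B (a - algebraMap k A r) = algebraMap A B a - algebraMap k B r
    rw [map_sub, ← IsScalarTower.algebraMap_apply]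
  have hadd : ∀ x y, δ₀ (x + y) = δ₀ x + δ₀ y := fun x y => by
    have h : x + y - algebraMap k B (c x + c y) ∈ mB := by
      rw [map_add, add_sub_add_comm]; exact add_mem (hc x) (hc y)
    rw [hδ _ _ h]
    show _ = mk _ + mk _
    refine Eq.trans (congrArg mk ?_) (map_add mk _ _)
    ext
    show x + y - algebraMap k B (c x + c y) = _ + _
    rw [map_add, add_sub_add_comm]
  have hleib : ∀ x y, δ₀ (x * y) = x • δ₀ y + y • δ₀ x := fun x y => by
    have h : x * y - algebraMap k B (c x * c y) ∈ mB := by
      rw [map_mul, show x * y - algebraMap k B (c x) * algebraMap k B (c y) =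
        x * (y - algebraMap k B (c y)) + algebraMap k B (c y) * (x - algebraMap k B (c x)) by ring]
      exact add_mem (mB.mul_mem_left _ (hc y)) (mB.mul_mem_left _ (hc x))
    rw [hδ _ _ h]
    show _ = x • mk _ + y • mk _
    have h0 : (x - algebraMap k B (c x)) • mk ⟨y - algebraMap k B (c y), hc y⟩ = 0 := hz _ (hc x) _
    rw [← add_zero (x • mk _ + y • mk _), ← neg_zero, ← h0, ← map_smul, ← map_smul, ← map_smul, ← map_add, ← map_neg, ← map_add]
    congr 1
    ext
    show x * y - algebraMap k B (c x * c y) = x * _ + y * _ + -((x - algebraMap k B (c x)) * _)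
    rw [map_mul]; ring
  let δl : B →ₗ[A] W :=
    { toFun := δ₀
      map_add' := hadd
      map_smul' := fun a x => by
        show δ₀ (a • x) = a • δ₀ x
        rw [Algebra.smul_def, hleib, hδA, smul_zero, add_zero, algebraMap_smul] }
  let δ : Derivation A B W := Derivation.mk' δl hleib
  let L : Ω[B⁄A] →ₗ[B] W := δ.liftKaehlerDifferential
  have hL : (mB • (⊤ : Submodule B Ω[B⁄A])) ≤ LinearMap.ker L := by
    rw [Submodule.smul_le]
    intro x hx ω _
    rw [LinearMap.mem_ker, map_smul, hz x hx]
  let T := TensorProduct B κ (Ω[B⁄A])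
  let eT : T ≃ₗ[B] (Ω[B⁄A] ⧸ mB • (⊤ : Submodule B Ω[B⁄A])) := TensorProduct.quotTensorEquivQuotSMul (Ω[B⁄A]) mB
  let ψ : T →ₗ[B] W := Submodule.liftQ _ L hL ∘ₗ eT.toLinearMap
  let g₀ : mB →ₗ[B] Ω[B⁄A] ⧸ mB • (⊤ : Submodule B Ω[B⁄A]) :=
    { toFun := fun x => Submodule.Quotient.mk (KaehlerDifferential.D A B (x : B))
      map_add' := fun x y => by simp
      map_smul' := fun b x => by
        simp only [SetLike.val_smul, smul_eq_mul, Derivation.leibniz, Submodule.Quotient.mk_add,
          Submodule.Quotient.mk_smul, RingHom.id_apply]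
        rw [add_eq_left, ← Submodule.Quotient.mk_smul, Submodule.Quotient.mk_eq_zero]
        exact Submodule.smul_mem_smul x.2 Submodule.mem_top }
  have hg₀ : (mB • (⊤ : Submodule B mB)) ≤ LinearMap.ker g₀ := by
    rw [Submodule.smul_le]
    intro x hx y _
    rw [LinearMap.mem_ker, map_smul]
    obtain ⟨w, hw⟩ := Submodule.Quotient.mk_surjective _ (g₀ y)
    rw [← hw, ← Submodule.Quotient.mk_smul, Submodule.Quotient.mk_eq_zero]
    exact Submodule.smul_mem_smul hx Submodule.mem_top
  let g₁ : mB.Cotangent →ₗ[B] Ω[B⁄A] ⧸ mB • (⊤ : Submodule B Ω[B⁄A]) := Submodule.liftQ _ g₀ hg₀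
  have hN : N ≤ LinearMap.ker g₁ := by
    rw [Submodule.span_le]
    rintro _ ⟨v, rfl⟩
    obtain ⟨a, rfl⟩ := mA.toCotangent_surjective v
    show g₁ (f (mA.toCotangent a)) = 0
    rw [Ideal.mapCotangent_toCotangent]
    show Submodule.Quotient.mk (KaehlerDifferential.D A B (algebraMap A B (a : A))) = 0
    rw [Derivation.map_algebraMap, Submodule.Quotient.mk_zero]
  let g : W →ₗ[B] T := eT.symm.toLinearMap ∘ₗ Submodule.liftQ N g₁ hN
  have hgD : ∀ b, g (δ₀ b) = eT.symm (Submodule.Quotient.mk (KaehlerDifferential.D A B b)) := fun b => by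
    show eT.symm (Submodule.Quotient.mk (KaehlerDifferential.D A B (b - algebraMap k B (c b)))) = _
    congr 2
    rw [map_sub, IsScalarTower.algebraMap_apply k A B, Derivation.map_algebraMap, sub_zero]
  have h1 : ∀ w, ψ (g w) = w := by
    intro w
    obtain ⟨v, rfl⟩ := Submodule.Quotient.mk_surjective N w
    obtain ⟨x, rfl⟩ := mB.toCotangent_surjective v
    show Submodule.liftQ _ L hL (eT (eT.symm (Submodule.Quotient.mk (KaehlerDifferential.D A B (x : B))))) = _
    rw [LinearEquiv.apply_symm_apply, Submodule.liftQ_apply, Derivation.liftKaehlerDifferential_comp_D]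
    show δ₀ (x : B) = _
    rw [hδ _ 0 (by simp)]
    show N.mkQ (mB.toCotangent _) = N.mkQ (mB.toCotangent x)
    congr 2
    ext; simp
  have h2 : Function.Surjective g := by
    have htop : (⊤ : Submodule B (Ω[B⁄A])) ≤ (LinearMap.range g).comap (eT.symm.toLinearMap ∘ₗ Submodule.mkQ _) := by
      refine (KaehlerDifferential.span_range_derivation A B).ge.trans (Submodule.span_le.2 ?_)
      rintro _ ⟨b, rfl⟩
      exact ⟨δ₀ b, hgD b⟩
    intro t
    obtain ⟨w, hw⟩ := Submodule.Quotient.mk_surjective _ (eT t)
    obtain ⟨u, hu⟩ := htop (Submodule.mem_top (x := w))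
    refine ⟨u, hu.trans ?_⟩
    show eT.symm (Submodule.Quotient.mk w) = t
    rw [hw, LinearEquiv.symm_apply_apply]
  let eWT : W ≃ₗ[B] T := LinearEquiv.ofBijective g ⟨Function.LeftInverse.injective h1, h2⟩
  -- compare with vector spaces over `k`
  have hW : Module.finrank κ T = Module.finrank k W := by
    have h1 : Module.finrank k κ = 1 := by
      rw [← (LinearEquiv.ofBijective (Algebra.linearMap k κ) hB).finrank_eq, Module.finrank_self]
    rw [(eWT.restrictScalars k).finrank_eq, ← Module.finrank_mul_finrank k κ T, h1, one_mul]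
  have hcot : ∀ (b : B) (x : mB.Cotangent), b • x = c b • x := fun b x => by
    obtain ⟨y, rfl⟩ := mB.toCotangent_surjective x
    rw [← algebraMap_smul B (c b) (mB.toCotangent y), ← sub_eq_zero, ← sub_smul, ← map_smul, Ideal.toCotangent_eq_zero, pow_two]
    exact Ideal.mul_mem_mul (hc b) y.2
  have hNk : (N.restrictScalars k) = LinearMap.range f := by
    refine le_antisymm (fun v hv => ?_) (fun v hv => Submodule.subset_span hv)
    induction hv using Submodule.span_induction with
    | mem x hx => exact hx
    | zero => exact zero_mem _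
    | add x y _ _ hx hy => exact add_mem hx hy
    | smul b x _ hx => rw [hcot]; exact Submodule.smul_mem _ _ hx
  haveI : FiniteDimensional k mB.Cotangent := by
    obtain ⟨s, hs⟩ := (Module.Finite.of_surjective mB.toCotangent mB.toCotangent_surjective : Module.Finite B mB.Cotangent).fg_top
    refine ⟨⟨s, top_le_iff.1 fun v _ => ?_⟩⟩
    have hv : v ∈ Submodule.span B (s : Set mB.Cotangent) := hs ▸ Submodule.mem_top
    induction hv using Submodule.span_induction with
    | mem x hx => exact Submodule.subset_span hx
    | zero => exact zero_mem _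
    | add x y _ _ hx hy => exact add_mem (hx trivial) (hy trivial)
    | smul b x _ hx => rw [hcot]; exact Submodule.smul_mem _ _ (hx trivial)
  rw [hW, show Module.finrank k W = Module.finrank k (mB.Cotangent ⧸ N.restrictScalars k) from
    ((Submodule.Quotient.restrictScalarsEquiv k N).finrank_eq).symm, hNk]
  exact Submodule.finrank_quotient_add_finrank (LinearMap.range f)

end Groth.Agent.S14437
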