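import Groth.Statements.S3322
import Groth.Agent.ModelsGraphs.NumType

set_option autoImplicit false
set_option linter.unusedSimpArgs false
universe u
open CategoryTheory CategoryTheory.Limits AlgebraicGeometry
open Models

namespace Groth.Agent.S3322

/-- In the following situation (R a discrete valuation ring with residue field k, C a smooth proper
curve over its fraction field K with H^0(C, O_C) = K, X a regular proper model, Γ_1, …, Γ_n the
irreducible components of the closed fibre with multiplicities m_i, L_i ⊗ I(Γ_i) ≅ O_X) the data n,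
m_i, a_ij = (Γ_i · Γ_j) = deg_k(L_j|Γ_i), w_i = dim_k H^0(Γ_i, O) and g_i with w_i g_i = dim_k
H^1(Γ_i, O) is a numerical type (n > 0, m_i > 0, (a_ij) symmetric with non-negative off-diagonal
entries, connected, killing m, w_i | a_ij, g_i ≥ 0), and its genus is the genus dim_K H^1(C, O_C) of
C. -/
theorem result (R : Type u) [CommRing R] [IsDomain R] [IsDiscreteValuationRing R]
    (C X : Scheme.{u}) (f : C ⟶ Spec (CommRingCat.of (FractionRing R))) (p : X ⟶ Spec (CommRingCat.of R))
    (hC : Curve.IsSmoothProperCurve (FractionRing R) C f) (hH0 : IsIso f.appTop)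
    (hX : Models.IsRegularProperModel R X p C f)
    {n : ℕ} (Γ : Fin n → ArSurf.VertComp R (Over.mk p)) (hΓ : Models.IsComponentList R (Over.mk p) Γ)
    (L : Fin n → X.Modules) (hL : ∀ i, ClSub.IsInverseOf (L i) (ClSub.idealMod (Γ i).ι.ker)) :
    ∃ T : Models.NumericalType n,
      (∀ i, T.m i = (Models.mult R (Over.mk p) (Γ i) : ℤ)) ∧ (∀ i j, T.a i j = ArSurf.inter R (Over.mk p) (L j) (Γ i)) ∧
      (∀ i, T.w i = (Models.wdeg R (Over.mk p) (Γ i) : ℤ)) ∧
      (∀ i, T.w i * T.g i = (Models.h1 R (Over.mk p) (Γ i) : ℤ)) ∧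
      T.genus = (Models.curveGenus (FractionRing R) C f : ℤ) := by
  obtain ⟨⟨h1, h2, h3, g, hg⟩, h4, hreg⟩ := hX
  haveI : Flat (Over.mk p).hom := h1
  haveI : IsProper (Over.mk p).hom := h4
  haveI : IsProper f := hC.1
  haveI : IsIntegral C := hC.2.2.1
  exact Groth.ModelsGraphs.NumType.exists_numericalType (X := Over.mk p) hreg hΓ hL f (le_of_eq hC.2.2.2) hH0 g hg

end Groth.Agent.S3322
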