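import Groth.Statements.S4932
import Groth.Agent.FibreDim.LowerSemicont
import Groth.Agent.FibreDim.Semicontinuity

set_option autoImplicit false
open CategoryTheory AlgebraicGeometry
universe u v w
open EGA43

namespace Groth.Agent.S4932

/-- Let A be a valuation ring (not necessarily discrete), X an irreducible scheme and f : X ⟶ Spec A a
dominant morphism of finite type. If the fibre X_0 of f over the closed point is nonempty, then dim
X_0 = dim X_1, where X_1 is the fibre over the generic point. -/
theorem result {A : Type u} [CommRing A] [IsDomain A]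
    [ValuationRing A] {X : Scheme.{u}} [IrreducibleSpace X] (f : X ⟶ Spec (CommRingCat.of A))
    [LocallyOfFiniteType f] [QuasiCompact f] [IsDominant f]
    (h0 : Nonempty ↥(f.fiber (IsLocalRing.closedPoint A))) :
    topologicalKrullDim ↥(f.fiber (IsLocalRing.closedPoint A)) =
      topologicalKrullDim ↥(f.fiber (genericPoint (Spec (CommRingCat.of A)))) := by
  have hgenY : genericPoint (Spec (CommRingCat.of A)) = (⟨⊥, Ideal.isPrime_bot⟩ : PrimeSpectrum A) := by
    refine ((genericPoint_spec (Spec (CommRingCat.of A))).eq ?_)
    show IsGenericPoint (⟨⊥, Ideal.isPrime_bot⟩ : PrimeSpectrum A) _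
    rw [isGenericPoint_def, PrimeSpectrum.closure_singleton]
    ext p
    simp only [PrimeSpectrum.mem_zeroLocus, SetLike.coe_subset_coe, bot_le, true_iff]
    trivial
  have hξ : f.base (genericPoint X) = genericPoint (Spec (CommRingCat.of A)) := by
    have h1 : IsGenericPoint (f.base (genericPoint X)) (closure (f.base '' Set.univ)) :=
      (genericPoint_spec X).image f.continuous
    rw [Set.image_univ, f.denseRange.closure_range] at h1
    exact h1.eq (genericPoint_spec _)
  obtain ⟨z₀⟩ := h0
  refine le_antisymm ?_ ?_
  · rw [Groth.Variety2.Dim.dim_eq_iSup_height]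
    refine iSup_le fun z => ?_
    obtain ⟨a, ha, hah⟩ := Groth.FibreDim.exists_relTrdeg_eq_height f ((f.fiberι _).base z)
    obtain ⟨b, hb, hbh⟩ := Groth.FibreDim.exists_relTrdeg_eq_height f (genericPoint X)
    have hle := Groth.FibreDim.relTrdeg_le_of_valuation f
      (genericPoint_specializes ((f.fiberι (IsLocalRing.closedPoint A)).base z)) (hξ.trans hgenY)
      (Groth.FibreDim.apply_fiberι f _ z)
    rw [ha, hb, Nat.cast_le] at hle
    have key : ∀ (x : X) (y : Spec (CommRingCat.of A)) (_ : f.base x = y) (w : f.fiber y),
        (f.fiberι y).base w = x → Order.height w = Order.height (f.asFiber x) := by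
      rintro x _ rfl w hw
      rw [(f.fiberι _).isEmbedding.injective (hw.trans (f.fiberι_asFiber x).symm)]
    rw [key _ _ (Groth.FibreDim.apply_fiberι f _ z) z rfl, hah]
    rw [← hξ]
    refine le_trans ?_ ((Groth.Variety2.Dim.dim_eq_iSup_height (X := f.fiber (f.base (genericPoint X)))).symm ▸
      le_iSup (fun w => ((Order.height w : ℕ∞) : WithBot ℕ∞)) (f.asFiber (genericPoint X)))
    rw [hbh]
    exact_mod_cast hle
  · refine (Groth.FibreDim.dim_generic_fiber_le f ((f.fiberι _).base z₀)).trans ?_
    rw [Groth.FibreDim.fibreDimAt_fiberι]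
    exact Groth.SpectralTopology.localDim_le_dim _

end Groth.Agent.S4932
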