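import Groth.Statements.S18215
import Groth.Agent.NagComp.EssModel

set_option autoImplicit false
universe u
open LocImm

namespace Groth.Agent.S18215

open CategoryTheory AlgebraicGeometry Limits in
/-- Let `S` be a Noetherian scheme, `a : X ⟶ S` separated and essentially of finite type, `b : Y ⟶ S`
proper, with `X, Y` Noetherian, `Z` a Noetherian scheme with a localizing immersion `j : Z ⟶ X`
(localizing and injective on points) whose image is dense, and `f : Z ⟶ Y` a morphism over `S`. Then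
there are a blow-up `c : X̃ ⟶ X` in a quasi-coherent ideal whose closed subscheme misses `j(Z)`, the
lift `e : Z ⟶ X̃` of `j` (`e ≫ c = j`) and a morphism `f' : X̃ ⟶ Y` over `S` extending `f` (`e ≫ f'
= f`): after an admissible blow-up the rational map `f` is defined everywhere. -/
theorem result {S X Y Z : Scheme.{u}} [IsNoetherian S] [IsNoetherian X] [IsNoetherian Y] [IsNoetherian Z]
    (a : X ⟶ S) (b : Y ⟶ S) [IsSeparated a] [EssFT.EssFiniteType a] [IsProper b]
    (j : Z ⟶ X) (hj : LocImm.IsLocImmersion j) (hjd : Dense (Set.range (fun x => j x))) (f : Z ⟶ Y) (hjf : j ≫ a = f ≫ b) :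
    ∃ (𝓘 : X.IdealSheafData) (Xt : Scheme.{u}) (c : Xt ⟶ X) (e : Z ⟶ Xt) (f' : Xt ⟶ Y),
      BlowUp.IsBlowUp c 𝓘 ∧ Disjoint (𝓘.support : Set X) (Set.range (fun x => j x)) ∧
      e ≫ c = j ∧ e ≫ f' = f ∧ c ≫ a = f' ≫ b := by
  obtain ⟨Xm, k, p, hXm, hk, hp, hpt, hpc, rfl⟩ := Groth.LocImmersion.hasFactor a
  haveI : LocallyOfFiniteType b := inferInstance
  obtain ⟨W, kW, gW, -, hkW, hkg, hgW⟩ := Groth.NagComp.exists_open_extension (j ≫ k) f p b
    (Groth.LocImmersion.isLocImmersion_comp hj hk) (by rw [Category.assoc, hjf])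
  obtain ⟨K, T, c, φ, hc, hK, -, -, -, hw, hag⟩ := Groth.NagComp.exists_extend_proper p b W
    (TopologicalSpace.NoetherianSpace.isCompact _) gW hgW
  haveI := Groth.BlowUpBasics.isIso_morphismRestrict hc W hK.2
  let l : Z ⟶ ((c ⁻¹ᵁ W : T.Opens) : Scheme.{u}) := kW ≫ inv (c ∣_ W)
  have hl : l ≫ (c ∣_ W) = kW := by rw [Category.assoc, IsIso.inv_hom_id, Category.comp_id]
  let e : Z ⟶ pullback k c := pullback.lift j (l ≫ (c ⁻¹ᵁ W).ι) (by
    rw [Category.assoc, ← morphismRestrict_ι, reassoc_of% hl, hkW])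
  refine ⟨K.comap k, _, pullback.fst k c, e, pullback.snd k c ≫ φ,
    Groth.NagComp.isBlowUp_pullback hk hc, Groth.NagComp.disjoint_support_comap j k hK ?_,
    pullback.lift_fst _ _ _, ?_, ?_⟩
  · intro z
    have h : (kW z).1 = k (j z) := congr($hkW z)
    exact h ▸ (kW z).2
  · rw [pullback.lift_snd_assoc, Category.assoc, hag, reassoc_of% hl, hkg]
  · rw [Category.assoc, hw, pullback.condition_assoc]

end Groth.Agent.S18215
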