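import Groth.Statements.S2128
import Groth.Agent.QCohMod.FPColimit

set_option autoImplicit false
universe u
open CategoryTheory AlgebraicGeometry
open Mor

namespace Groth.Agent.S2128

set_option backward.isDefEq.respectTransparency.types false

/-- Let `X` be quasi-compact and quasi-separated and `F` a quasi-coherent `O_X`-module. Then `F` is the
colimit of a filtered diagram of finitely presented `O_X`-modules: there are a small filtered
category `I`, a diagram of finitely presented modules and a colimit cocone with vertex `F`. -/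
theorem result (X : Scheme.{u}) [CompactSpace X] [QuasiSeparatedSpace X] (F : X.Modules)
    (hF : Coh.IsQCoh F) :
    ∃ (I : Type u) (_ : SmallCategory I) (_ : IsFiltered I) (D : I ⥤ X.Modules) (c : Limits.Cocone D)
      (_ : Limits.IsColimit c), (∀ i, CohB1.IsFP (D.obj i)) ∧ c.pt = F := by
  classical
  haveI : F.IsQuasicoherent := hF
  let Λ : Type u := Σ A : X.affineOpens, Γ(F, A.1)
  choose G hGq φ a hG ha using fun l : Λ => Groth.QCohMod.exists_fp_hit F l.1.2 l.2
  let Gd : Finset Λ ⥤ X.Modules :=
    { obj := fun S => ∐ fun l : S => G l.1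
      map := fun {S T} h => Limits.Sigma.desc fun l : S =>
        Limits.Sigma.ι (fun l : T => G l.1) ⟨l.1, leOfHom h l.2⟩
      map_id := fun S => Limits.Sigma.hom_ext _ _ fun l => by simp
      map_comp := fun f g => Limits.Sigma.hom_ext _ _ fun l => by simp }
  haveI : ∀ S, (Gd.obj S).IsQuasicoherent := fun S =>
    inferInstanceAs (∐ fun l : S => G l.1 : X.Modules).IsQuasicoherent
  let πd : Gd ⟶ (Functor.const (Finset Λ)).obj F :=
    { app := fun S => Limits.Sigma.desc fun l : S => φ l.1
      naturality := fun S T h => Limits.Sigma.hom_ext _ _ fun l => by simp [Gd] }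
  obtain ⟨hc⟩ := Groth.QCohMod.StageIdx.isColimit (π := πd) fun V hV s => by
    let l : Λ := ⟨⟨V, hV⟩, s⟩
    refine ⟨{l}, (Limits.Sigma.ι (fun k : ({l} : Finset Λ) => G k.1)
      ⟨l, Finset.mem_singleton_self l⟩).app V (a l), ?_⟩
    exact (congr(($(Limits.Sigma.ι_desc (fun k : ({l} : Finset Λ) => φ k.1)
      ⟨l, Finset.mem_singleton_self l⟩)).app V (a l))).trans (ha l)
  exact ⟨_, inferInstance, inferInstance, Groth.QCohMod.StageIdx.diagram Gd πd,
    Limits.Cocone.mk F (Groth.QCohMod.StageIdx.toF Gd πd), hc,
    Groth.QCohMod.StageIdx.isFP_obj fun S => Groth.QCohMod.isFP_sigma _ fun l => hG l.1, rfl⟩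

end Groth.Agent.S2128
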