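import Groth.Statements.S12310
import Groth.Agent.ArtfunDeform.AlgDef.LiftPres
import Groth.Agent.ArtfunDeform.CotT.KoszulReg
import Groth.Agent.ArtfunDeform.CotT.Compare
-- import your own Groth.Agent.* helpers here

set_option autoImplicit false
universe u
open CategoryTheory AlgebraicGeometry
open SGA7

namespace Groth.Agent.S12310

/-- Suppose Λ is a Noetherian local ring, complete for its maximal-ideal-adic topology, whose residue
field is k (so Λ → k is surjective), and work with functors defined on local Artinian Λ-algebras
having residue field k. Take a finite-type k-algebra A₀ that is a local complete intersection over k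
(meaning it admits a presentation as a quotient of a polynomial algebra in finitely many variables
whose kernel is Koszul-regular), and put X₀ = Spec A₀. Then X₀ has a smooth deformation functor (the
functor of isomorphism classes of schemes flat over Spec A whose closed fibre is X₀): given any
surjection A' → A, each deformation over A can be lifted to one over A'. -/
theorem result (Λ k : Type u) [CommRing Λ] [IsLocalRing Λ] [IsNoetherianRing Λ]
    [IsAdicComplete (IsLocalRing.maximalIdeal Λ) Λ] [Field k] [Algebra Λ k]
    (hk : Function.Surjective (algebraMap Λ k))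
    (A₀ : Type u) [CommRing A₀] [Algebra k A₀] (hA : LCI.IsLCI k A₀) :
    ArtFun.IsSmoothFunctor (ArtFun.defFunctor (Λ := Λ) (Spec (CommRingCat.of A₀))
      (Spec.map (CommRingCat.ofHom (algebraMap k A₀)))) := by
  obtain ⟨-, n, f, hf, hreg⟩ := hA
  obtain ⟨T, hT⟩ := IsNoetherian.noetherian (RingHom.ker f.toRingHom)
  have haev : ∀ p, MvPolynomial.aeval (fun i => f (MvPolynomial.X i)) p = f p := fun p =>
    congrArg (fun g : MvPolynomial (Fin n) k →ₐ[k] A₀ => g p) (MvPolynomial.aeval_unique f).symm
  let G : Algebra.Generators k A₀ (Fin n) :=
    Algebra.Generators.ofSurjective (fun i => f (MvPolynomial.X i)) fun b => by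
      obtain ⟨p, rfl⟩ := hf b
      exact ⟨p, haev p⟩
  have hker : G.ker = RingHom.ker f.toRingHom := Ideal.ext fun p => Iff.of_eq (congrArg (· = 0) (haev p))
  let Q : Algebra.Presentation k A₀ (Fin n) (T : Type u) :=
    { toGenerators := G
      relation := fun s => s.1
      span_range_relation_eq_ker := by
        rw [hker, ← hT, show (Set.range fun s : (T : Type u) => s.1) = (T : Set _) from Subtype.range_coe] }
  haveI : IsNoetherianRing Q.toExtension.Ring :=
    inferInstanceAs (IsNoetherianRing (MvPolynomial (Fin n) k))
  have hreg' : LCI.IsKoszulRegularIdeal Q.toExtension.ker := by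
    rw [show Q.toExtension.ker = RingHom.ker f.toRingHom from hker]
    exact hreg
  haveI := Groth.ArtfunDeform.subsingleton_T2_of_locallyRegular Q
    (Groth.ArtfunDeform.locallyRegular_of_isKoszulRegularIdeal Q hreg') A₀
  let Q' := Q.reindex (Equiv.ulift.{u, 0} : ULift.{u} (Fin n) ≃ Fin n) (Equiv.refl (T : Type u))
  obtain ⟨-, -, ⟨e⟩⟩ := Groth.ArtfunDeform.exists_equiv Q' Q A₀
  exact Groth.ArtfunDeform.Pres.isSmoothFunctor
    (Groth.ArtfunDeform.Pres.unobs_of_subsingleton_T2 Q' e.toEquiv.subsingleton)

end Groth.Agent.S12310
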