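import Groth.Statements.S1607
import Groth.Agent.VarietyBC.PicGlue
import Groth.Agent.VarietyBC.AffineNhd
import Groth.Agent.S7669
-- import your own Groth.Agent.* helpers here

set_option autoImplicit false
universe u
open CategoryTheory CategoryTheory.Limits AlgebraicGeometry
open Variety

namespace Groth.Agent.S1607

open TopologicalSpace Groth.PicAux Groth.VarietyBC

/-- If X is affine and each of its local rings is Noetherian of dimension at most one, then every
quasi-compact open subscheme of X is affine. -/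
theorem result (X : Scheme.{u}) [IsAffine X]
    (hX : ∀ x : X, IsNoetherianRing (X.presheaf.stalk x) ∧ ringKrullDim (X.presheaf.stalk x) ≤ 1)
    (U : X.Opens) (hU : IsCompact (U : Set X)) : IsAffineOpen U := by
  classical
  have hA := isAffineOpen_top X
  let P : X → Ideal Γ(X, ⊤) := fun z => (hA.primeIdealOf ⟨z, trivial⟩).asIdeal
  have hsp : ∀ z w : X, P z ≤ P w → z ⤳ w := fun z w h => by
    have h1 := (((PrimeSpectrum.le_iff_specializes (hA.primeIdealOf ⟨z, trivial⟩)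
      (hA.primeIdealOf ⟨w, trivial⟩)).1 h).map hA.fromSpec.continuous)
    rwa [hA.fromSpec_primeIdealOf, hA.fromSpec_primeIdealOf] at h1
  let G : Set Γ(X, ⊤) := {g | IsAffineOpen (U ⊓ X.basicOpen g)}
  have hG : ∀ x : X, ∃ g ∈ G, x ∈ X.basicOpen g := by
    intro x
    by_cases hxU : x ∈ U
    · obtain ⟨g, hg, hxg⟩ := hA.exists_basicOpen_le (V := U) ⟨x, hxU⟩ trivial
      exact ⟨g, show IsAffineOpen _ by rw [inf_eq_right.2 hg]; exact hA.basicOpen g, hxg⟩
    haveI := (hX x).1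
    obtain ⟨hfin, hinc⟩ := Groth.Agent.S7669.generalisations x (hX x).2
    let T₁ : Finset X := hfin.toFinset.filter fun z => z ∉ U
    let J : Ideal Γ(X, ⊤) := P x * ∏ z ∈ T₁, P z
    obtain ⟨f, hfJ, hf⟩ := AffineUnion.exists_add_notMem
      (S := P '' {z | (z ⤳ x ∧ z ≠ x) ∧ z ∈ U})
      ((hfin.subset fun z hz => hz.1).image P) (by rintro _ ⟨z, -, rfl⟩; exact (hA.primeIdealOf _).2) 0 J
      (by
        rintro _ ⟨z, ⟨⟨hzx, hne⟩, hzU⟩, rfl⟩ hle
        rcases (hA.primeIdealOf ⟨z, trivial⟩).2.mul_le.1 hle with h | h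
        · exact hne (((hsp x z h).antisymm hzx).eq.symm)
        · obtain ⟨w, hw, hwz⟩ := (hA.primeIdealOf ⟨z, trivial⟩).2.prod_le.1 h
          obtain ⟨⟨hwx, hwne⟩, hwU⟩ : (w ⤳ x ∧ w ≠ x) ∧ w ∉ U := by
            simpa [T₁] using hw
          exact hwU ((hinc w z hwx hwne hzx hne (hsp w z hwz)).symm ▸ hzU))
    obtain ⟨g₁, hxg₁, hg₁⟩ := PicGlue.exists_basicOpen_avoid hA (x := x) trivial U le_top hU
      ((X.basicOpen f : Set X))ᶜ (X.basicOpen f).isOpen.isClosed_compl fun z hzx hzU hzf => by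
        refine hf _ ⟨z, ⟨⟨hzx, fun h => hxU (h ▸ hzU)⟩, hzU⟩, rfl⟩ ?_
        rw [zero_add]
        exact not_not.1 fun h => hzf ((AffineUnion.mem_basicOpen_iff hA z trivial f).2 h)
    obtain ⟨g₂, hxg₂, hg₂⟩ := PicGlue.exists_basicOpen_avoid hA (x := x) trivial (X.basicOpen f) le_top
      (hA.basicOpen f).isCompact ((U : Set X))ᶜ U.isOpen.isClosed_compl fun z hzx hzf hzU => by
        have hPf : f ∉ P z := (AffineUnion.mem_basicOpen_iff hA z trivial f).1 hzf
        by_cases hzne : z = x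
        · exact hPf (hzne ▸ (Ideal.mul_le_left hfJ : f ∈ P x))
        · have hzT : z ∈ T₁ := Finset.mem_filter.2 ⟨hfin.mem_toFinset.2 ⟨hzx, hzne⟩, hzU⟩
          have h1 : (∏ w ∈ T₁, P w) ≤ P z :=
            (hA.primeIdealOf ⟨z, trivial⟩).2.prod_le.2 ⟨z, hzT, le_rfl⟩
          exact hPf (h1 (Ideal.mul_le_right hfJ))
    refine ⟨g₁ * g₂, ?_, by rw [Scheme.basicOpen_mul]; exact ⟨hxg₁, hxg₂⟩⟩
    have e : U ⊓ X.basicOpen (g₁ * g₂) = X.basicOpen (g₁ * g₂ * f) := by
      rw [Scheme.basicOpen_mul, Scheme.basicOpen_mul, Scheme.basicOpen_mul]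
      exact le_antisymm (fun z hz => ⟨hz.2, not_not.1 (hg₁ z hz.2.1 hz.1)⟩)
        (fun z hz => ⟨not_not.1 (hg₂ z hz.1.2 hz.2), hz.1⟩)
    change IsAffineOpen _
    rw [e]
    exact hA.basicOpen _
  have hspan : Ideal.span G = ⊤ := by
    refine (hA.iSup_basicOpen_eq_self_iff (s := G)).1 (top_le_iff.1 fun z _ => ?_)
    obtain ⟨g, hg, hzg⟩ := hG z
    exact Opens.mem_iSup.2 ⟨⟨g, hg⟩, hzg⟩
  refine AffineNhd.isAffineOpen_of_span U (fun g : G => resX X le_top g.1) ?_ fun g => ?_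
  · have h1 := congrArg (Ideal.map (resX X (le_top : U ≤ ⊤))) hspan
    rw [Ideal.map_span, Ideal.map_top, Set.image_eq_range] at h1
    exact h1
  · rw [resX, Scheme.basicOpen_res]
    exact g.2

end Groth.Agent.S1607
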