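import Groth.Statements.S4435


set_option autoImplicit false
universe u
open CategoryTheory CategoryTheory.Limits AlgebraicGeometry
open EGA2

namespace Groth.Agent.S4435

/-- Let X, S be integral schemes and f : X ⟶ S a dominant morphism. If f is integral, the field of
rational functions of X is algebraic over that of S; if f is finite, it is a finite extension. Here
the extension is given by the stalk map of f at the generic point of X, whose source is the local
ring of S at the generic point of S (f being dominant), i.e. the function field of S. -/
theorem result {X S : Scheme.{u}} [IsIntegral X] [IsIntegral S]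
    (f : X ⟶ S) [IsDominant f] :
    (IsIntegralHom f → (f.stalkMap (genericPoint X)).hom.IsIntegral) ∧
      (IsFinite f → (f.stalkMap (genericPoint X)).hom.Finite) := by
  classical
  have hgp : f.base (genericPoint X) = genericPoint S := by
    have hden : DenseRange f.base := f.denseRange
    apply ((genericPoint_spec S).eq _).symm
    have := (genericPoint_spec X).image f.base.hom.continuous
    rw [Set.image_univ] at this
    unfold IsGenericPoint at this ⊢
    rw [this]; exact hden.closure_range
  have hKfield : IsField (S.presheaf.stalk (f.base (genericPoint X))) := by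
    rw [hgp]; exact Field.toIsField S.functionField
  letI : Field (S.presheaf.stalk (f.base (genericPoint X))) := hKfield.toField
  obtain ⟨V, hV, hξV, -⟩ := exists_isAffineOpen_mem_and_subset
    (x := f.base (genericPoint X)) (U := (⊤ : S.Opens)) trivial
  constructor
  · intro hf
    have hU : IsAffineOpen (f ⁻¹ᵁ V) := hV.preimage f
    have hφ := hf.isIntegral_app V hV
    let U := f ⁻¹ᵁ V
    haveI : Nonempty U := ⟨⟨genericPoint X, hξV⟩⟩
    haveI := functionField_isFractionRing_of_isAffineOpen X U hU
    letI : Algebra (S.presheaf.stalk (f.base (genericPoint X))) X.functionField :=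
      (f.stalkMap (genericPoint X)).hom.toAlgebra
    have key : ∀ a : Γ(X, U), IsIntegral (S.presheaf.stalk (f.base (genericPoint X)))
        (algebraMap Γ(X, U) X.functionField a) := by
      intro a
      obtain ⟨p, hp, hpa⟩ := hφ a
      refine ⟨p.map (S.presheaf.germ V _ hξV).hom, hp.map _, ?_⟩
      have hcomm : (algebraMap (S.presheaf.stalk (f.base (genericPoint X))) X.functionField).comp
          (S.presheaf.germ V _ hξV).hom =
          (algebraMap Γ(X, U) X.functionField).comp (f.app V).hom :=
        congrArg CommRingCat.Hom.hom (f.germ_stalkMap V (genericPoint X) hξV)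
      rw [Polynomial.eval₂_map, hcomm, ← Polynomial.hom_eval₂, hpa, map_zero]
    intro l
    obtain ⟨a, b, -, rfl⟩ := IsFractionRing.div_surjective (A := Γ(X, U)) (l : X.functionField)
    have : IsIntegral (S.presheaf.stalk (f.base (genericPoint X)))
        (algebraMap Γ(X, U) X.functionField a / algebraMap Γ(X, U) X.functionField b) := by
      rw [div_eq_mul_inv]; exact (key a).mul (key b).inv
    exact this
  · intro hf
    have hU : IsAffineOpen (f ⁻¹ᵁ V) := hV.preimage f
    have hφ := hf.finite_app V hV
    let U := f ⁻¹ᵁ V
    haveI : Nonempty U := ⟨⟨genericPoint X, hξV⟩⟩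
    haveI := functionField_isFractionRing_of_isAffineOpen X U hU
    let K := S.presheaf.stalk (f.base (genericPoint X))
    letI : Algebra K X.functionField := (f.stalkMap (genericPoint X)).hom.toAlgebra
    let ρ := (S.presheaf.germ V _ hξV).hom
    let σ := algebraMap Γ(X, U) X.functionField
    have hcomm : (algebraMap K X.functionField).comp ρ = σ.comp (f.app V).hom :=
        congrArg CommRingCat.Hom.hom (f.germ_stalkMap V (genericPoint X) hξV)
    have key : ∀ a : Γ(X, U), IsIntegral K (σ a) := by
      intro a
      obtain ⟨p, hp, hpa⟩ := hφ.to_isIntegral a
      refine ⟨p.map ρ, hp.map _, ?_⟩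
      rw [Polynomial.eval₂_map, hcomm, ← Polynomial.hom_eval₂, hpa, map_zero]
    letI := (f.app V).hom.toAlgebra
    haveI : Module.Finite Γ(S, V) Γ(X, U) := hφ
    obtain ⟨s, hs⟩ := (inferInstance : Module.Finite Γ(S, V) Γ(X, U)).fg_top
    haveI : Finite (σ '' (s : Set Γ(X, U))) := (s.finite_toSet.image σ).to_subtype
    let F := IntermediateField.adjoin K (σ '' (s : Set Γ(X, U)))
    haveI : FiniteDimensional K F := IntermediateField.finiteDimensional_adjoin
      (by rintro x ⟨a, -, rfl⟩; exact key a)
    have hmem : ∀ a, σ a ∈ F := by
      intro a
      have ha : a ∈ Submodule.span Γ(S, V) (s : Set Γ(X, U)) := by rw [hs]; trivial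
      induction ha using Submodule.span_induction with
      | mem x hx => exact IntermediateField.subset_adjoin K _ ⟨x, hx, rfl⟩
      | zero => rw [map_zero]; exact F.zero_mem
      | add x y _ _ hx hy => rw [map_add]; exact F.add_mem hx hy
      | smul r x _ hx =>
        have : σ (r • x) = algebraMap K X.functionField (ρ r) * σ x := by
          rw [show r • x = (f.app V).hom r * x from rfl, map_mul]
          congr 1
          exact (RingHom.congr_fun hcomm r).symm
        rw [this]; exact F.mul_mem (F.algebraMap_mem _) hx
    have htop : F = ⊤ := by
      rw [eq_top_iff]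
      intro l _
      obtain ⟨a, b, -, rfl⟩ := IsFractionRing.div_surjective (A := Γ(X, U)) l
      exact F.div_mem (hmem a) (hmem b)
    have : Module.Finite K X.functionField := by
      haveI : FiniteDimensional K (⊤ : IntermediateField K X.functionField) := htop ▸ inferInstance
      exact Module.Finite.equiv IntermediateField.topEquiv.toLinearEquiv
    exact this

end Groth.Agent.S4435
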