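import Groth.Statements.S9136
import Groth.Agent.Calg4.KrullAkizuki
import Groth.Agent.Calg4.LengthSum

set_option autoImplicit false
universe u
open CAlg

namespace Groth.Agent.S9136


open Pointwise Submodule

variable {A : Type u} [CommRing A]

theorem length_quotient_ne_top [IsDomain A] [IsNoetherianRing A] [Ring.KrullDimLE 1 A]
    {V : Type u} [AddCommGroup V] [Module A V] [Module.Finite A V] (W : Submodule A V) {x : A}
    (hx : x ≠ 0) (h : ∀ v : V, ∃ k : ℕ, x ^ k • v ∈ W) :
    Module.length A (V ⧸ W) ≠ ⊤ := by
  classical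
  obtain ⟨m, s, hs⟩ := Module.Finite.exists_fin (R := A) (M := V ⧸ W)
  choose v hv using fun i => W.mkQ_surjective (s i)
  choose k hk using fun i => h (v i)
  let N := ∑ i, k i
  have hxN : x ^ N ≠ 0 := pow_ne_zero _ hx
  have hN : ∀ i, x ^ N • s i = 0 := fun i => by
    rw [← hv i, ← map_smul, Submodule.mkQ_apply, Submodule.Quotient.mk_eq_zero,
      show N = (N - k i) + k i by
        have : k i ≤ N := Finset.single_le_sum (f := k) (fun _ _ => Nat.zero_le _) (Finset.mem_univ i)
        omega,
      pow_add, mul_smul]
    exact W.smul_mem _ (hk i)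
  let f : (Fin m → A ⧸ Ideal.span {x ^ N}) →ₗ[A] V ⧸ W :=
    ∑ i, (Submodule.liftQ _ (LinearMap.toSpanSingleton A _ (s i)) (by
      rw [Ideal.span, Submodule.span_singleton_le_iff_mem, LinearMap.mem_ker]
      exact hN i)).comp (LinearMap.proj i)
  refine ne_top_of_le_ne_top ?_ (Module.length_le_of_surjective f fun t => ?_)
  · rw [Module.length_pi_of_fintype]
    exact WithTop.sum_ne_top.mpr fun _ _ => Ring.ord_ne_top (mem_nonZeroDivisors_of_ne_zero hxN)
  · obtain ⟨c, hc⟩ := (Submodule.mem_span_range_iff_exists_fun A).mp (hs.symm ▸ Submodule.mem_top : t ∈ _)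
    refine ⟨fun i => Ideal.Quotient.mk _ (c i), ?_⟩
    rw [← hc]
    simp only [f, LinearMap.sum_apply, LinearMap.comp_apply, LinearMap.proj_apply]
    refine Finset.sum_congr rfl fun i _ => ?_
    exact Submodule.liftQ_apply _ _ _

/-- A finite torsion free module containing a lattice `A^ι`: `length (V/xV) = |ι| * ord x`. -/
theorem length_quotient_eq_mul [IsDomain A] [IsNoetherianRing A] [Ring.KrullDimLE 1 A]
    {ι : Type u} [Fintype ι] {V : Type u} [AddCommGroup V] [Module A V] [Module.Finite A V]
    (g : (ι → A) →ₗ[A] V) (hg : Function.Injective g) {x : A} (hx : x ≠ 0)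
    (htf : ∀ v : V, x • v = 0 → v = 0) (h : ∀ v : V, ∃ k : ℕ, x ^ k • v ∈ LinearMap.range g) :
    Module.length A (V ⧸ x • (⊤ : Submodule A V)) = Fintype.card ι * Ring.ord A x := by
  let W := LinearMap.range g
  let X : Submodule A V := x • W
  have hT := length_quotient_ne_top W hx h
  have hXW : X ≤ W := by
    rintro _ hz
    obtain ⟨y, hy, rfl⟩ := (Submodule.mem_smul_pointwise_iff_exists _ _ _).mp hz
    exact W.smul_mem x hy
  have hXtop : X ≤ x • (⊤ : Submodule A V) := by
    rintro _ hz
    obtain ⟨y, -, rfl⟩ := (Submodule.mem_smul_pointwise_iff_exists _ _ _).mp hz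
    exact Submodule.smul_mem_pointwise_smul _ x ⊤ trivial
  have split : ∀ P : Submodule A V, X ≤ P →
      Module.length A (V ⧸ X) = Module.length A (P.map X.mkQ) + Module.length A (V ⧸ P) := fun P hP => by
    rw [Module.length_eq_add_of_exact (P.map X.mkQ).subtype (P.map X.mkQ).mkQ
      (Submodule.injective_subtype _) (Submodule.mkQ_surjective _) (LinearMap.exact_subtype_mkQ _),
      (Submodule.quotientQuotientEquivQuotient X P hP).length_eq]
  let φ : (ι → A) →ₗ[A] (ι → A ⧸ Ideal.span {x}) :=
    LinearMap.pi fun i => (Ideal.span {x}).mkQ.comp (LinearMap.proj i)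
  have hφ : Function.Surjective φ := fun c => by
    choose d hd using fun i => (Ideal.span {x}).mkQ_surjective (c i)
    exact ⟨d, funext hd⟩
  have h1 : Module.length A (W.map X.mkQ) = Fintype.card ι * Ring.ord A x := by
    have hker : LinearMap.ker (X.mkQ.comp g) = LinearMap.ker φ := by
      ext c
      rw [LinearMap.mem_ker, LinearMap.comp_apply, Submodule.mkQ_apply, Submodule.Quotient.mk_eq_zero,
        Submodule.mem_smul_pointwise_iff_exists, LinearMap.mem_ker]
      constructor
      · rintro ⟨_, ⟨d, rfl⟩, hd⟩
        rw [← map_smul] at hd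
        rw [← hg hd]
        funext i
        simp only [φ, LinearMap.pi_apply, LinearMap.comp_apply, LinearMap.proj_apply, Submodule.mkQ_apply,
          Pi.smul_apply, smul_eq_mul, Pi.zero_apply, Submodule.Quotient.mk_eq_zero]
        exact Ideal.mem_span_singleton'.mpr ⟨d i, mul_comm _ _⟩
      · intro hc
        have hc' : ∀ i, ∃ d, d * x = c i := fun i =>
          Ideal.mem_span_singleton'.mp ((Submodule.Quotient.mk_eq_zero _).mp (congrFun hc i))
        choose d hd using hc'
        refine ⟨g d, ⟨d, rfl⟩, ?_⟩
        rw [← map_smul]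
        exact congrArg g (funext fun i => by rw [Pi.smul_apply, smul_eq_mul, mul_comm, hd])
    have hr : W.map X.mkQ = LinearMap.range (X.mkQ.comp g) := (LinearMap.range_comp g X.mkQ).symm
    rw [hr, ← (LinearMap.quotKerEquivRange (X.mkQ.comp g)).length_eq,
      (Submodule.quotEquivOfEq _ _ hker).length_eq, (φ.quotKerEquivOfSurjective hφ).length_eq,
      Module.length_pi_of_fintype, Finset.sum_const, Finset.card_univ, nsmul_eq_mul]
    rfl
  have h2 : Module.length A ((x • (⊤ : Submodule A V)).map X.mkQ) = Module.length A (V ⧸ W) := by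
    let μ : V →ₗ[A] V ⧸ X := X.mkQ.comp (LinearMap.lsmul A V x)
    have hμr : (x • (⊤ : Submodule A V)).map X.mkQ = LinearMap.range μ := by
      rw [LinearMap.range_comp]
      congr 1
      ext v
      rw [Submodule.mem_smul_pointwise_iff_exists]
      exact ⟨fun ⟨y, _, hy⟩ => ⟨y, hy⟩, fun ⟨y, hy⟩ => ⟨y, trivial, hy⟩⟩
    have hμk : LinearMap.ker μ = W := by
      ext v
      rw [LinearMap.mem_ker, LinearMap.comp_apply, Submodule.mkQ_apply, Submodule.Quotient.mk_eq_zero,
        LinearMap.lsmul_apply, Submodule.mem_smul_pointwise_iff_exists]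
      refine ⟨fun ⟨y, hy, hxy⟩ => ?_, fun hv => ⟨v, hv, rfl⟩⟩
      rwa [← sub_eq_zero.mp (htf (y - v) (by rw [smul_sub, hxy, sub_self]))]
    rw [hμr, ← μ.quotKerEquivRange.length_eq, (Submodule.quotEquivOfEq _ _ hμk).length_eq]
  have e := (split W hXW).symm.trans (split _ hXtop)
  rw [h1, h2, add_comm (Module.length A (V ⧸ W))] at e
  exact (ENat.add_left_injective_of_ne_top hT e).symm

/-- `length (B_n / I B_n)` computes the localization of `B ⧸ I`. -/
theorem length_localized_quotient (B : Type u) [CommRing B] (I : Ideal B) (n : Ideal B) [n.IsPrime] :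
    Module.length (Localization.AtPrime n) (LocalizedModule n.primeCompl (B ⧸ I)) =
      Module.length (Localization.AtPrime n)
        (Localization.AtPrime n ⧸ I.map (algebraMap B (Localization.AtPrime n))) :=
  ((LocalizedModule.equivTensorProduct n.primeCompl (B ⧸ I)).trans
    (Algebra.TensorProduct.quotIdealMapEquivTensorQuot (Localization.AtPrime n) I).symm.toLinearEquiv).length_eq

/-- Let A ⊆ B be a finite type extension of domains, A Noetherian local of dimension one, with
compatible fraction fields K ⊆ L and L finite over K. Then B has finitely many maximal ideals, and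
for a nonzero x in the maximal ideal of A the sum over the maximal ideals m of B of (length of B/m
over A, i.e. the residue degree) times (length of B_m / x B_m over B_m) is at most the degree of L
over K times the length of A/xA; equality holds exactly when B is a finite A-module. -/
theorem result (A B K L : Type u)
    [CommRing A] [IsDomain A] [IsNoetherianRing A] [IsLocalRing A] (hdim : ringKrullDim A = 1)
    [CommRing B] [IsDomain B] [Algebra A B] [FaithfulSMul A B] [Algebra.FiniteType A B]
    [Field K] [Field L] [Algebra A K] [IsFractionRing A K] [Algebra B L] [IsFractionRing B L]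
    [Algebra K L] [Algebra A L] [IsScalarTower A K L] [IsScalarTower A B L] [FiniteDimensional K L]
    (x : A) (hx : x ∈ IsLocalRing.maximalIdeal A) (hx0 : x ≠ 0) :
    Finite (MaximalSpectrum B) ∧
      (∑ᶠ m : MaximalSpectrum B,
          Module.length A (B ⧸ m.asIdeal) *
            Module.length (Localization.AtPrime m.asIdeal)
              (Localization.AtPrime m.asIdeal ⧸
                Ideal.span ({algebraMap A (Localization.AtPrime m.asIdeal) x} : Set _)) ≤
        (Module.finrank K L : ℕ∞) * Module.length A (A ⧸ Ideal.span ({x} : Set A))) ∧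
      ((∑ᶠ m : MaximalSpectrum B,
          Module.length A (B ⧸ m.asIdeal) *
            Module.length (Localization.AtPrime m.asIdeal)
              (Localization.AtPrime m.asIdeal ⧸
                Ideal.span ({algebraMap A (Localization.AtPrime m.asIdeal) x} : Set _)) =
        (Module.finrank K L : ℕ∞) * Module.length A (A ⧸ Ideal.span ({x} : Set A))) ↔ Module.Finite A B) := by
  classical
  have : Ring.KrullDimLE 1 A := Order.KrullDimLE.mk hdim.le
  have hinjA : Function.Injective (algebraMap A L) := by
    rw [IsScalarTower.algebraMap_eq A K L]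
    exact (algebraMap K L).injective.comp (IsFractionRing.injective A K)
  have hxB : algebraMap A B x ≠ 0 := fun h => hx0 <| hinjA <| by
    rw [IsScalarTower.algebraMap_apply A B L, h, map_zero, map_zero]
  have hclear : ∀ a : A, a ≠ 0 → ∃ k : ℕ, ∃ c, x ^ k = c * a := fun a ha => by
    have hrad : IsLocalRing.maximalIdeal A ≤ (Ideal.span {a}).radical := by
      rw [Ideal.radical_eq_sInf]
      refine le_sInf fun p hp => ?_
      have := hp.2
      have hp0 : p ≠ ⊥ := fun h => ha (by
        have := hp.1 (Ideal.mem_span_singleton_self a)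
        rwa [h, Ideal.mem_bot] at this)
      have : p.IsMaximal := by
        rcases (Ring.krullDimLE_one_iff.mp ‹Ring.KrullDimLE 1 A› p ‹_›) with h | h
        · refine absurd ?_ hp0
          rw [IsDomain.minimalPrimes_eq_singleton_bot] at h
          exact Set.mem_singleton_iff.mp h
        · exact h
      exact (IsLocalRing.eq_maximalIdeal this).ge
    obtain ⟨k, hk⟩ := hrad hx
    obtain ⟨c, hc⟩ := Ideal.mem_span_singleton'.mp hk
    exact ⟨k, c, hc.symm⟩
  -- the K-span of `B` is everything
  have hspan : (⊤ : Submodule K L) ≤ Submodule.span K (Set.range (algebraMap B L)) := by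
    intro l _
    let S := Algebra.adjoin K (Set.range (algebraMap B L))
    have hS : Subalgebra.toSubmodule S = Submodule.span K (Set.range (algebraMap B L)) := by
      rw [Algebra.adjoin_eq_span_of_subset]
      refine Set.Subset.trans ?_ Submodule.subset_span
      intro z hz
      induction hz using Submonoid.closure_induction with
      | mem _ h => exact h
      | one => exact ⟨1, map_one _⟩
      | mul _ _ _ _ h h' =>
        obtain ⟨a, rfl⟩ := h
        obtain ⟨b, rfl⟩ := h'
        exact ⟨a * b, map_mul _ _ _⟩
    obtain ⟨p, q, hq, rfl⟩ := IsFractionRing.div_surjective B l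
    have hfield : IsField S := isField_of_isIntegral_of_isField' (R := K) (Field.toIsField K)
    let := hfield.toField
    have hpq : ∃ r : S, (r : L) = algebraMap B L p / algebraMap B L q := by
      let P : S := ⟨_, Algebra.subset_adjoin ⟨p, rfl⟩⟩
      let Q : S := ⟨_, Algebra.subset_adjoin ⟨q, rfl⟩⟩
      have hQ : Q ≠ 0 := fun h => nonZeroDivisors.ne_zero hq
        (IsFractionRing.injective B L (by rw [map_zero]; exact congrArg Subtype.val h))
      refine ⟨P * Q⁻¹, ?_⟩
      rw [eq_div_iff (fun h => hQ (Subtype.ext h))]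
      exact congrArg Subtype.val (show P * Q⁻¹ * Q = P by rw [mul_assoc, inv_mul_cancel₀ hQ, mul_one])
    obtain ⟨r, hr⟩ := hpq
    rw [← hS, ← hr]
    exact r.2
  let bas := Module.Basis.ofSpan hspan
  let ι := (linearIndepOn_empty K id).extend (Set.empty_subset (Set.range (algebraMap B L)))
  have : Fintype ι := FiniteDimensional.fintypeBasisIndex bas
  have hcard : Fintype.card ι = Module.finrank K L := (Module.finrank_eq_card_basis bas).symm
  have hb : ∀ i, bas i ∈ Set.range (algebraMap B L) := fun i =>
    Module.Basis.ofSpan_subset hspan ⟨i, rfl⟩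
  choose v hv using hb
  let g : (ι → A) →ₗ[A] B := Fintype.linearCombination A v
  have hgL : ∀ c : ι → A, algebraMap B L (g c) = ∑ i, algebraMap A K (c i) • bas i := fun c => by
    simp only [g, Fintype.linearCombination_apply, map_sum]
    refine Finset.sum_congr rfl fun i _ => ?_
    rw [Algebra.smul_def, map_mul, hv, ← IsScalarTower.algebraMap_apply A B L, Algebra.smul_def,
      ← IsScalarTower.algebraMap_apply A K L]
  have hg : Function.Injective g := by
    rw [injective_iff_map_eq_zero]
    intro c hc
    have h0 := hgL c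
    rw [hc, map_zero, eq_comm] at h0
    funext i
    exact IsFractionRing.injective A K
      ((Fintype.linearIndependent_iff.mp bas.linearIndependent _ h0 i).trans (map_zero _).symm)
  have hdense : ∀ b : B, ∃ k : ℕ, x ^ k • b ∈ LinearMap.range g := fun b => by
    obtain ⟨a, ha⟩ := IsLocalization.exist_integer_multiples_of_finite (nonZeroDivisors A)
      (fun i => bas.repr (algebraMap B L b) i)
    obtain ⟨k, c, hk⟩ := hclear a (nonZeroDivisors.ne_zero a.2)
    choose d hd using ha
    refine ⟨k, c • d, ?_⟩
    rw [hk, mul_smul, map_smul]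
    congr 1
    apply IsFractionRing.injective B L
    rw [hgL]
    conv_rhs => rw [Algebra.smul_def, map_mul, ← IsScalarTower.algebraMap_apply A B L,
      ← bas.sum_repr (algebraMap B L b), Finset.mul_sum]
    refine Finset.sum_congr rfl fun i _ => ?_
    rw [hd, Algebra.smul_def (a : A), Algebra.smul_def, Algebra.smul_def, map_mul,
      ← IsScalarTower.algebraMap_apply A K L, mul_assoc]
  have htf : ∀ b : B, x • b = 0 → b = 0 := fun b hb => by
    rw [Algebra.smul_def] at hb
    exact (mul_eq_zero.mp hb).resolve_left hxB
  let j : B →ₗ[A] (Fin (Fintype.card ι) → K) :=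
    ((((bas.reindex (Fintype.equivFin ι)).equivFun.restrictScalars A).toLinearMap).comp
      (IsScalarTower.toAlgHom A B L).toLinearMap)
  have hj : Function.Injective j :=
    ((bas.reindex (Fintype.equivFin ι)).equivFun.injective).comp (IsFractionRing.injective B L)
  have hbound : Module.length A (B ⧸ x • (⊤ : Submodule A B)) ≤
      (Module.finrank K L : ℕ∞) * Module.length A (A ⧸ Ideal.span ({x} : Set A)) := by
    rw [← hcard]
    exact Groth.Calg4.length_quotient_le_mul K (Fintype.card ι) j hj hx0
  have hord : Module.length A (A ⧸ Ideal.span ({x} : Set A)) ≠ ⊤ :=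
    Ring.ord_ne_top (mem_nonZeroDivisors_of_ne_zero hx0)
  have hfl : Module.length A (B ⧸ x • (⊤ : Submodule A B)) ≠ ⊤ :=
    ne_top_of_le_ne_top (WithTop.mul_ne_top (ENat.natCast_ne_top _) hord) hbound
  let I : Ideal B := Ideal.span {algebraMap A B x}
  have hI : (x • (⊤ : Submodule A B)) = I.restrictScalars A := by
    ext b
    rw [Submodule.mem_smul_pointwise_iff_exists, Submodule.restrictScalars_mem, Ideal.mem_span_singleton']
    exact ⟨fun ⟨y, _, hy⟩ => ⟨y, by rw [← hy, Algebra.smul_def, mul_comm]⟩,
      fun ⟨y, hy⟩ => ⟨y, trivial, by rw [← hy, Algebra.smul_def, mul_comm]⟩⟩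
  let eI : (B ⧸ x • (⊤ : Submodule A B)) ≃ₗ[A] B ⧸ I :=
    (Submodule.quotEquivOfEq _ _ hI).trans (Submodule.Quotient.restrictScalarsEquiv A I)
  have hflB : IsFiniteLength B (B ⧸ I) := by
    have := Module.length_ne_top_iff.mp (eI.length_eq ▸ hfl)
    obtain ⟨hn, ha⟩ := isFiniteLength_iff_isNoetherian_isArtinian.mp this
    exact isFiniteLength_iff_isNoetherian_isArtinian.mpr
      ⟨isNoetherian_of_tower A inferInstance, isArtinian_of_tower A inferInstance⟩
  have hsum : (∑ᶠ m : MaximalSpectrum B, Module.length A (B ⧸ m.asIdeal) *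
      Module.length (Localization.AtPrime m.asIdeal) (Localization.AtPrime m.asIdeal ⧸
        Ideal.span ({algebraMap A (Localization.AtPrime m.asIdeal) x} : Set _))) =
      Module.length A (B ⧸ x • (⊤ : Submodule A B)) := by
    rw [eI.length_eq, Groth.Calg4.length_eq_finsum A B (B ⧸ I) hflB]
    refine finsum_congr fun m => ?_
    rw [length_localized_quotient B I m.asIdeal, Ideal.map_span, Set.image_singleton,
      ← IsScalarTower.algebraMap_apply A B (Localization.AtPrime m.asIdeal)]
  have hfinite : Finite (MaximalSpectrum B) := by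
    have : IsArtinianRing (B ⧸ I) := by
      obtain ⟨hn, ha⟩ := isFiniteLength_iff_isNoetherian_isArtinian.mp hflB
      exact isArtinian_of_tower B ha
    have hfs : ({P : Ideal B | P.IsMaximal ∧ algebraMap A B x ∈ P}).Finite := by
      refine ((IsArtinianRing.setOfPred_isPrime_finite (B ⧸ I)).image
        (Ideal.comap (Ideal.Quotient.mk I))).subset ?_
      rintro P ⟨hP, hxP⟩
      have hle : I ≤ P := (Ideal.span_singleton_le_iff_mem P).mpr hxP
      refine ⟨P.map (Ideal.Quotient.mk I), Ideal.map_isPrime_of_surjective Ideal.Quotient.mk_surjective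
        (Ideal.mk_ker.trans_le hle), ?_⟩
      rw [Ideal.comap_map_of_surjective _ Ideal.Quotient.mk_surjective, ← RingHom.ker_eq_comap_bot,
        Ideal.mk_ker, sup_eq_left.mpr hle]
    have hz : ∀ m : MaximalSpectrum B, algebraMap A B x ∉ m.asIdeal → m.asIdeal = ⊥ := by
      intro m hxm
      rw [eq_bot_iff]
      intro b hbm
      by_contra hb0
      have hb0' : algebraMap B L b ≠ 0 :=
        (map_ne_zero_iff _ (IsFractionRing.injective B L)).mpr hb0
      -- clear the denominators of `b⁻¹`
      obtain ⟨a, ha⟩ := IsLocalization.exist_integer_multiples_of_finite (nonZeroDivisors A)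
        (fun i => bas.repr (algebraMap B L b)⁻¹ i)
      obtain ⟨k, c, hk⟩ := hclear a (nonZeroDivisors.ne_zero a.2)
      choose d hd using ha
      have h1 : algebraMap B L (algebraMap A B c * g d * b) = algebraMap B L (algebraMap A B (x ^ k)) := by
        rw [map_mul, map_mul, hgL, hk, map_mul, map_mul, ← IsScalarTower.algebraMap_apply A B L,
          ← IsScalarTower.algebraMap_apply A B L]
        have h2 : ∑ i, algebraMap A K (d i) • bas i = algebraMap A L a * (algebraMap B L b)⁻¹ := by
          conv_rhs => rw [← bas.sum_repr (algebraMap B L b)⁻¹, Finset.mul_sum]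
          refine Finset.sum_congr rfl fun i _ => ?_
          rw [hd, Algebra.smul_def (a : A), Algebra.smul_def, Algebra.smul_def, map_mul,
            ← IsScalarTower.algebraMap_apply A K L, mul_assoc]
        rw [h2, mul_assoc, mul_assoc, inv_mul_cancel₀ hb0', mul_one]
      refine hxm (m.isMaximal.isPrime.mem_of_pow_mem k ?_)
      rw [← map_pow, ← IsFractionRing.injective B L h1]
      exact Ideal.mul_mem_left _ _ hbm
    have hfin : ({P : Ideal B | P.IsMaximal}).Finite := by
      refine ((hfs.insert ⊥)).subset fun P hP => ?_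
      by_cases hxP : algebraMap A B x ∈ P
      · exact Or.inr ⟨hP, hxP⟩
      · exact Or.inl (hz ⟨P, hP⟩ hxP)
    exact (MaximalSpectrum.equivSubtype B).finite_iff.mpr hfin.to_subtype
  refine ⟨hfinite, hsum.trans_le hbound, fun heq => ?_, fun hfin => ?_⟩
  · rw [hsum] at heq
    -- a finite submodule surjecting onto `B/xB`
    have : IsNoetherian A (B ⧸ x • (⊤ : Submodule A B)) :=
      (isFiniteLength_iff_isNoetherian_isArtinian.mp (Module.length_ne_top_iff.mp hfl)).1
    obtain ⟨m, s, hs⟩ := Module.Finite.exists_fin (R := A) (M := B ⧸ x • (⊤ : Submodule A B))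
    choose w hw using fun i => (x • (⊤ : Submodule A B)).mkQ_surjective (s i)
    let B' : Submodule A B := LinearMap.range g ⊔ Submodule.span A (Set.range w)
    have : Module.Finite A B' := Module.Finite.iff_fg.mpr
      ((Module.Finite.iff_fg.mp (Module.Finite.range g)).sup (Submodule.fg_span (Set.finite_range w)))
    let g' : (ι → A) →ₗ[A] B' := g.codRestrict B' fun c => Submodule.mem_sup_left ⟨c, rfl⟩
    have hlen' : Module.length A (B' ⧸ x • (⊤ : Submodule A B')) =
        (Fintype.card ι : ℕ∞) * Ring.ord A x := by
      refine length_quotient_eq_mul g' (fun c c' h => hg (congrArg Subtype.val h)) hx0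
        (fun v hv => Subtype.ext (htf v (congrArg Subtype.val hv))) fun v => ?_
      obtain ⟨k, c, hc⟩ := hdense v
      exact ⟨k, c, Subtype.ext hc⟩
    let q : (B' ⧸ x • (⊤ : Submodule A B')) →ₗ[A] B ⧸ x • (⊤ : Submodule A B) :=
      Submodule.mapQ _ _ B'.subtype (by
        rintro z hz
        obtain ⟨y, -, rfl⟩ := (Submodule.mem_smul_pointwise_iff_exists _ _ _).mp hz
        exact Submodule.smul_mem_pointwise_smul _ x ⊤ trivial)
    have hq : Function.Surjective q := by
      rw [← LinearMap.range_eq_top, eq_top_iff, ← hs, Submodule.span_le]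
      rintro _ ⟨i, rfl⟩
      exact ⟨Submodule.Quotient.mk ⟨w i, Submodule.mem_sup_right (Submodule.subset_span ⟨i, rfl⟩)⟩,
        (Submodule.mapQ_apply _ _ _ _).trans (hw i)⟩
    have hqinj : Function.Injective q := by
      have h1 := Module.length_eq_add_of_exact (LinearMap.ker q).subtype q
        (Submodule.injective_subtype _) hq (LinearMap.exact_subtype_ker_map q)
      rw [hlen', heq, hcard] at h1
      have hne : (Module.finrank K L : ℕ∞) * Ring.ord A x ≠ ⊤ :=
        WithTop.mul_ne_top (ENat.natCast_ne_top _) hord
      have h2 : Module.length A (LinearMap.ker q) = 0 := by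
        refine ENat.add_left_injective_of_ne_top hne ?_
        simp only
        rw [zero_add]
        exact h1.symm
      rw [Module.length_eq_zero_iff] at h2
      exact LinearMap.ker_eq_bot.mp (Submodule.eq_bot_of_subsingleton)
    have key : ∀ (k : ℕ) (b : B), x ^ k • b ∈ B' → b ∈ B' := by
      intro k
      induction k with
      | zero => intro b hb; rwa [pow_zero, one_smul] at hb
      | succ k ih =>
        intro b hb
        rw [pow_succ', mul_smul] at hb
        have h0 : q (Submodule.Quotient.mk ⟨_, hb⟩) = 0 := by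
          rw [Submodule.mapQ_apply, Submodule.Quotient.mk_eq_zero]
          exact Submodule.smul_mem_pointwise_smul _ x ⊤ trivial
        have h1 : Submodule.Quotient.mk (⟨_, hb⟩ : B') = (0 : B' ⧸ x • (⊤ : Submodule A B')) :=
          hqinj (h0.trans (map_zero q).symm)
        rw [Submodule.Quotient.mk_eq_zero, Submodule.mem_smul_pointwise_iff_exists] at h1
        obtain ⟨y, -, hy⟩ := h1
        refine ih b ?_
        rw [← sub_eq_zero.mp (htf ((y : B) - x ^ k • b) (by
          rw [smul_sub, sub_eq_zero]; exact congrArg Subtype.val hy))]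
        exact y.2
    have htop : B' = ⊤ := eq_top_iff.mpr fun b _ => by
      obtain ⟨k, c, hc⟩ := hdense b
      exact key k b (hc ▸ Submodule.mem_sup_left ⟨c, rfl⟩)
    exact Module.Finite.equiv ((LinearEquiv.ofEq _ _ htop).trans Submodule.topEquiv)
  · rw [hsum, length_quotient_eq_mul g hg hx0 htf hdense, hcard]
    rfl

end Groth.Agent.S9136
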