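import Groth.Statements.S1929
import Groth.Agent.CycInter.GysinComm

set_option autoImplicit false
universe u
open CategoryTheory AlgebraicGeometry
open Cyc

namespace Groth.Agent.S1929

/-- Let (L, s, i : D → X) be an invertible module, a global section and the inclusion of its zero
scheme. If a (k + 1)-cycle α on X is rationally equivalent to zero on X, then i^*α is rationally
equivalent to zero on D. Here i : D → X is the zero scheme of a global section s of the invertible
module L (Cyc.IsZeroSchemeOf), the Gysin map i^* : Z_{k+1}(X) → CH_k(D) is computed on coefficient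
functions as c_1(L) ∩ − with the rational sections taken to be s where it is nonzero
(Cyc.gysinChoice) and restricted to the points of D, and classes on D are compared up to rational
equivalence on D for the restricted dimension function. A pair (X, δ) with Cyc.IsSetup plays the
role of a scheme locally of finite type over a base with a dimension function (X locally Noetherian
with universally catenary local rings, δ a dimension function). -/
theorem result (X D : Scheme.{u}) (δ : X → ℤ) (hX : Cyc.IsSetup X δ) (L : X.Modules) (hL : PicF.IsInvertible L) (s : L.presheaf.obj (Opposite.op ⊤)) (i : D ⟶ X) [IsClosedImmersion i] (hD : Cyc.IsZeroSchemeOf i L s) (k : ℤ) (α : AlgebraicCycle X ℤ) (hα : α ∈ Cyc.Zk X δ (k + 1)) (h0 : Cyc.RatEquivZero δ (k + 1) α) (t : (ξ : X) → Cyc.secFibre L ξ) (ht : ∀ ξ, t ξ ≠ 0) (γ : AlgebraicCycle D ℤ) (hγ : ∀ d : D, γ d = Cyc.c1CapFun δ L ⇑α (Cyc.gysinChoice L s t) (i d)) : Cyc.RatEquivZero (fun d => δ (i d)) k γ := by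
  exact Groth.CycInter.gysin_ratEquivZero hX hL hD h0 ht hγ

end Groth.Agent.S1929
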