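import Groth.Statements.S6482
import Groth.Agent.Cycles.PushCyc
import Groth.Agent.Variety2.DimScheme
-- import your own Groth.Agent.* helpers here

set_option autoImplicit false
universe u
open CategoryTheory AlgebraicGeometry
open CategoryTheory.Limits
open Cyc

namespace Groth.Agent.S6482

/-- Let f : Y → X be an envelope. Then f_* : Z_k(Y) → Z_k(X) is surjective, hence so is f_* : CH_k(Y) →
CH_k(X). An envelope is a proper, completely decomposed morphism (every point of the target has a
point over it with trivial residue field extension; this prelude's Cyc.IsCompletelyDecomposed). Here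
a pair (X, δ) with Cyc.IsSetup plays the role of a scheme locally of finite type over the base (S,
δ) (X locally Noetherian with universally catenary local rings, δ a dimension function), and
Cyc.DeltaCompat records that the dimension function upstairs is the induced one. -/
theorem result (X Y : Scheme.{u}) (δ : X → ℤ) (δY : Y → ℤ) (hX : Cyc.IsSetup X δ) (hY : Cyc.IsSetup Y δY) (f : Y ⟶ X) [IsProper f] (hcd : Cyc.IsCompletelyDecomposed f) (hδ : Cyc.DeltaCompat f δY δ) (k : ℤ) (α : AlgebraicCycle X ℤ) (hα : α ∈ Cyc.Zk X δ k) : ∃ β : AlgebraicCycle Y ℤ, β ∈ Cyc.Zk Y δY k ∧ AlgebraicCycle.map f δY δ β = α := by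
  classical
  have hY' := hY.1
  choose σ hσ hsurj using hcd
  have hbij : ∀ x, Function.Bijective (f.residueFieldMap (σ x)).hom := fun x =>
    ⟨(f.residueFieldMap (σ x)).hom.injective, hsurj x⟩
  have hδσ : ∀ x, δY (σ x) = δ x := fun x => by
    obtain ⟨n, hn, hn'⟩ := hδ (σ x)
    have h0 := Groth.Variety2.Dim.relTrdeg_eq_zero_of_surjective f (σ x) (hsurj x)
    rw [show Groth.Variety2.Dim.relTrdeg f (σ x) = n from hn, Nat.cast_eq_zero] at h0
    rw [hn', hσ, h0]; simp
  have hdeg : ∀ x, f.residueDegree (σ x) = 1 := fun x => by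
    let := (f.residueFieldMap (σ x)).hom.toAlgebra
    exact ((LinearEquiv.ofBijective (Algebra.linearMap _ _) (hbij x)).finrank_eq).symm.trans
      (Module.finrank_self _)
  let b : Y → ℤ := fun y => if σ (f y) = y then α (f y) else 0
  have hlf : ∀ y, ∃ t ∈ nhds y, (t ∩ Function.support b).Finite := fun y => by
    obtain ⟨_, ⟨V, hV, rfl⟩, hyV, -⟩ :=
      X.isBasis_affineOpens.exists_subset_of_mem_open (Set.mem_univ (f y)) isOpen_univ
    refine ⟨f ⁻¹' (V : Set X), f.continuous.continuousAt.preimage_mem_nhds (V.isOpen.mem_nhds hyV), ?_⟩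
    refine ((α.locallyFiniteSupport.finite_inter_support_of_isCompact hV.isCompact).image σ).subset ?_
    rintro w ⟨hwV, hw⟩
    simp only [Function.mem_support, b, ne_eq, ite_eq_right_iff, Classical.not_imp] at hw
    exact ⟨f w, ⟨hwV, hw.2⟩, hw.1⟩
  let β : AlgebraicCycle Y ℤ :=
    ⟨b, Set.subset_univ _, fun y _ => hlf y⟩
  refine ⟨β, fun y hy => ?_, ?_⟩
  · change b y = 0
    simp only [b]
    split_ifs with h
    · exact hα _ fun hk => hy (by rw [← h, hδσ, hk])
    · rfl
  · ext x
    have hval : ∀ y, f y = x → b y ≠ 0 → y = σ x := fun y hy hb => by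
      simp only [b, ne_eq, ite_eq_right_iff, Classical.not_imp] at hb
      rw [← hb.1, hy]
    rw [Groth.Cycles.map_apply_eq_sum f δY δ β x {σ x}
      (fun y hy hb => Finset.mem_singleton.mpr (hval y hy hb)), Finset.sum_singleton, if_pos (hσ x)]
    change b (σ x) * _ = _
    simp [b, AlgebraicCycle.mapCoeff, hσ, hδσ, hdeg]

end Groth.Agent.S6482
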