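import Groth.Statements.S6484
-- import your own Groth.Agent.* helpers here

set_option autoImplicit false
universe u
open CategoryTheory AlgebraicGeometry
open CategoryTheory.Limits
open Cyc

namespace Groth.Agent.S6484

/-- If f : Y → X is completely decomposed (this prelude's Cyc.IsCompletelyDecomposed: over every point
of X lies a point of Y with trivial residue field extension) and g : X' → X is any morphism of
schemes, then the base change Y ×_X X' → X' is completely decomposed. Consequently the base change
of an envelope (a proper completely decomposed morphism) is an envelope, properness being preserved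
by base change. (The published envelope statement takes X′ → X between schemes locally of finite
type over a base; this row allows any g.) -/
theorem result (X X' Y : Scheme.{u}) (f : Y ⟶ X) (g : X' ⟶ X) (hcd : Cyc.IsCompletelyDecomposed f) : Cyc.IsCompletelyDecomposed (pullback.snd f g) := by
  intro x'
  obtain ⟨y, hy, hsurj⟩ := hcd (g x')
  have : IsIso (f.residueFieldMap y) :=
    (ConcreteCategory.isIso_iff_bijective _).mpr ⟨(f.residueFieldMap y).hom.injective, hsurj⟩
  let m : Y.residueField y ⟶ X'.residueField x' :=
    inv (f.residueFieldMap y) ≫ (X.residueFieldCongr hy).hom ≫ g.residueFieldMap x'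
  have hsq : (Spec.map m ≫ Y.fromSpecResidueField y) ≫ f = X'.fromSpecResidueField x' ≫ g := by
    rw [← Scheme.Hom.SpecMap_residueFieldMap_fromSpecResidueField g, Category.assoc,
      ← Scheme.Hom.SpecMap_residueFieldMap_fromSpecResidueField f, ← Spec.map_comp_assoc,
      ← Scheme.residueFieldCongr_fromSpecResidueField hy, ← Spec.map_comp_assoc]
    simp [m]
  let σ := pullback.lift (Spec.map m ≫ Y.fromSpecResidueField y) (X'.fromSpecResidueField x') hsq
  let pt : Spec (X'.residueField x') := default
  have hσ : σ ≫ pullback.snd f g = X'.fromSpecResidueField x' := pullback.lift_snd _ _ _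
  refine ⟨σ pt, ?_, ?_⟩
  · rw [← Scheme.Hom.comp_apply, hσ, Scheme.fromSpecResidueField_apply]
  · have hs : Function.Surjective ((σ ≫ pullback.snd f g).residueFieldMap pt).hom := by
      have : IsPreimmersion (σ ≫ pullback.snd f g) := hσ ▸ inferInstance
      intro b
      obtain ⟨c, rfl⟩ := Scheme.residue_surjective _ pt b
      obtain ⟨a, rfl⟩ := (σ ≫ pullback.snd f g).stalkMap_surjective pt c
      refine ⟨(X'.residue _) a, ?_⟩
      have := congrArg (fun φ => (CommRingCat.Hom.hom φ) a)
        (Scheme.residue_residueFieldMap (σ ≫ pullback.snd f g) pt)
      exact this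
    intro b
    obtain ⟨a, ha⟩ := hs (σ.residueFieldMap pt b)
    refine ⟨a, (σ.residueFieldMap pt).hom.injective ?_⟩
    rw [Scheme.residueFieldMap_comp] at ha
    exact ha

end Groth.Agent.S6484
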