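import Groth.Statements.S6496
import Groth.Agent.CycleLimits.Generic
import Groth.Agent.CycleLimits.Stages

set_option autoImplicit false
universe u
open CategoryTheory AlgebraicGeometry
open Cyc

namespace Groth.Agent.S6496

/-- Injectivity of colim Z_k(X_i) → Z_k(X'): if a k-cycle α on X_i pulls back to the zero cycle on X',
then it pulls back to zero on some stage X_j above X_i. Setting: a directed inverse system (X_i) of
quasi-compact schemes with affine flat transition morphisms and limit X' (a limit cone), each X_i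
and X' carrying a dimension function with Cyc.IsSetup, and every transition map and every projection
X' → X_i shifting the dimension functions by c = 0 at generic points of fibres, so that the
base-change pullbacks g^* are Cyc.pullFun with shift 0. (The published statement takes X_i and X′ to
be the base changes of one quasi-compact scheme of finite type over a base S along S_i → S and lim
S_i → S; this row allows any such inverse system.) -/
theorem result (I : Type u) [Preorder I] [IsDirected I (fun a b => a ≤ b)] [Nonempty I] (D : Iᵒᵖ ⥤ Scheme.{u}) (c : Limits.Cone D) (hc : Limits.IsLimit c) (haff : ∀ (i j : Iᵒᵖ) (f : i ⟶ j), IsAffineHom (D.map f)) (hflat : ∀ (i j : Iᵒᵖ) (f : i ⟶ j), Flat (D.map f)) (hqc : ∀ i, CompactSpace ↥(D.obj i)) (δ : (i : Iᵒᵖ) → ↥(D.obj i) → ℤ) (δ' : ↥c.pt → ℤ) (hset : ∀ i, Cyc.IsSetup (D.obj i) (δ i)) (hset' : Cyc.IsSetup c.pt δ') (hshift : ∀ (i j : Iᵒᵖ) (f : i ⟶ j) (x : ↥(D.obj i)), (∀ y, D.map f y = D.map f x → y ⤳ x → y = x) → δ i x = δ j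 (D.map f x)) (hflat' : ∀ i, Flat (c.π.app i)) (hshift' : ∀ (i : Iᵒᵖ) (x : ↥c.pt), (∀ y, c.π.app i y = c.π.app i x → y ⤳ x → y = x) → δ' x = δ i (c.π.app i x)) (k : ℤ) (i : Iᵒᵖ) (α : AlgebraicCycle (D.obj i) ℤ) (hα : α ∈ Cyc.Zk (D.obj i) (δ i) k) (h0 : Cyc.pullFun (c.π.app i) δ' (δ i) 0 ⇑α = 0) : ∃ (j : Iᵒᵖ) (f : j ⟶ i), Cyc.pullFun (D.map f) (δ j) (δ i) 0 ⇑α = 0 := by
  classical
  have : IsFiltered I := isFiltered_of_directed_le_nonempty I
  have : ∀ {i j : Iᵒᵖ} (f : i ⟶ j), IsAffineHom (D.map f) := fun f => haff _ _ f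
  have : IsLocallyNoetherian c.pt := hset'.1
  have : ∀ j, IsLocallyNoetherian (((CategoryTheory.Functor.const Iᵒᵖ).obj c.pt).obj j) := fun _ => hset'.1
  have := hqc i
  have hfin : (Function.support ⇑α).Finite := by
    have := (Function.locallyFinsupp.locallyFiniteSupport α).finite_inter_support_of_isCompact
      (isCompact_univ (X := ↥(D.obj i)))
    rwa [Set.univ_inter] at this
  have hout : ∀ x : ↥(D.obj i), α x ≠ 0 → x ∉ Set.range (c.π.app i) := by
    rintro x hx ⟨z, rfl⟩
    obtain ⟨y, -, hyz, hgen⟩ := Groth.CycleLimits.exists_isFibreGeneric (c.π.app i) z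
    have hδ : δ' y = δ i (c.π.app i y) + 0 := by
      rw [add_zero]; exact hshift' i y fun w hw hs => hgen w hw hs
    have h := congrFun h0 y
    simp only [Cyc.pullFun, if_pos hδ, Pi.zero_apply, mul_eq_zero, Nat.cast_eq_zero] at h
    rcases h with h | h
    · exact hx (hyz ▸ h)
    · exact Groth.CycleLimits.length_toNat_ne_zero (c.π.app i) y hgen h
  suffices ∀ F : Finset ↥(D.obj i), (∀ x ∈ F, α x ≠ 0) →
      ∃ (j : Iᵒᵖ) (f : j ⟶ i), ∀ x ∈ F, x ∉ Set.range (D.map f) by
    obtain ⟨j, f, hf⟩ := this hfin.toFinset fun x hx => hfin.mem_toFinset.mp hx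
    refine ⟨j, f, funext fun y => ?_⟩
    have hy : α (D.map f y) = 0 := by
      by_contra hne
      exact hf _ (hfin.mem_toFinset.mpr hne) ⟨y, rfl⟩
    simp [Cyc.pullFun, hy]
  intro F hF
  induction F using Finset.induction_on with
  | empty => exact ⟨i, 𝟙 i, fun x hx => absurd hx (Finset.notMem_empty x)⟩
  | insert x F _ ih =>
    obtain ⟨j₁, f₁, h₁⟩ := ih fun y hy => hF y (Finset.mem_insert_of_mem hy)
    obtain ⟨j₂, f₂, h₂⟩ := Groth.CycleLimits.exists_not_mem_range_of_not_mem_range hc x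
      (hout x (hF x (Finset.mem_insert_self _ _)))
    obtain ⟨k, g₁, g₂, e⟩ := IsCofiltered.cospan f₁ f₂
    refine ⟨k, g₁ ≫ f₁, fun y hy => ?_⟩
    rintro ⟨w, hw⟩
    rcases Finset.mem_insert.mp hy with rfl | hy'
    · rw [e, D.map_comp] at hw
      exact h₂ ⟨D.map g₂ w, hw⟩
    · rw [D.map_comp] at hw
      exact h₁ y hy' ⟨D.map g₁ w, hw⟩


end Groth.Agent.S6496
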