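import Groth.Statements.S0450
import Groth.Agent.S1240
import Groth.Agent.FibreDim.Smooth
import Mathlib.AlgebraicGeometry.ZariskisMainTheorem
import Groth.Agent.SchemeMorphisms.Points

set_option autoImplicit false
universe u
open FlatMor

namespace Groth.Agent.S0450

open AlgebraicGeometry CategoryTheory Limits in
/-- A flat proper morphism locally of finite presentation that is finite over a dense open subset of the
target is finite (the source alternatively allows the open to be retrocompact instead of assuming
finite presentation; only this alternative is stated). -/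
theorem result {X S : Scheme.{u}} (f : X ⟶ S) [Flat f] [IsProper f] [LocallyOfFinitePresentation f] (U : S.Opens)
    (hU : Dense (U : Set ↑S)) [IsFinite (f ∣_ U)] : IsFinite f := by
  have hle : ∀ x : X, FlatMor.fibreDimAt f x ≤ ((0 : ℕ) : WithBot ℕ∞) := by
    refine fun x => Groth.Agent.S1240.result f U hU 0 (fun x hx => ?_) (Or.inl inferInstance) x
    let z : (f ⁻¹ᵁ U).toScheme := ⟨x, hx⟩
    have h := Groth.FibreDim.fibreDimAt_eq_zero_of_locallyQuasiFinite (f ∣_ U) z
    rw [← Groth.FibreDim.fibreDimAt_comp_injective (f ∣_ U) U.ι U.ι.isEmbedding.injective,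
      morphismRestrict_ι, Groth.FibreDim.fibreDimAt_openImmersion_comp] at h
    exact h.le
  have : LocallyQuasiFinite f := by
    rw [locallyQuasiFinite_iff_isDiscrete_preimage_singleton]
    intro s
    have hdim : topologicalKrullDim ↥(f.fiber s) ≤ 0 := by
      rw [Groth.FibreDim.dim_fiber_eq_iSup]
      refine iSup_le fun z => ?_
      rw [← Groth.FibreDim.fibreDimAt_fiberι]
      exact (hle _).trans (le_of_eq (by simp))
    have hclosed : ∀ y : f.fiber s, IsClosed ({y} : Set (f.fiber s)) := by
      intro y
      rw [← closure_subset_iff_isClosed]
      intro w hw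
      have hmin := (Order.krullDim_nonpos_iff_forall_isMin.mp hdim)
        ⟨closure {y}, isIrreducible_singleton.closure, isClosed_closure⟩
      have hsub : closure ({w} : Set (f.fiber s)) ⊆ closure {y} :=
        closure_minimal (Set.singleton_subset_iff.mpr hw) isClosed_closure
      have hge := hmin (b := ⟨closure {w}, isIrreducible_singleton.closure, isClosed_closure⟩) hsub
      have h1 : w ⤳ y := specializes_iff_mem_closure.mpr (hge (subset_closure rfl))
      have h2 : y ⤳ w := specializes_iff_mem_closure.mpr hw
      exact (h1.antisymm h2).eq
    have : IsLocallyNoetherian (f.fiber s) := LocallyOfFiniteType.isLocallyNoetherian (f.fiberToSpecResidueField s)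
    have : DiscreteTopology (f.fiber s) := discreteTopology_iff_isOpen_singleton.mpr fun y =>
      Groth.SchemeMorphisms.isOpen_singleton_of_isClosed_of_forall_specializes _ y (hclosed y) fun z hz => by
        simpa [(hclosed z).closure_eq, eq_comm] using hz.mem_closure
    rw [← f.range_fiberι, ← Set.image_univ]
    exact (isDiscrete_univ_iff.mpr this).image (f.fiberι s).isEmbedding.toIsInducing
  exact IsFinite.of_isProper_of_locallyQuasiFinite f

end Groth.Agent.S0450
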