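import Groth.Statements.S7388
import Groth.Agent.PropsBasic.FiniteInAffine

set_option autoImplicit false
universe u
open CategoryTheory AlgebraicGeometry
open Mor

namespace Groth.Agent.S7388

open Groth.PropsBasic.ZD

/-- Let `X` be a scheme admitting an immersion into `Proj S` for some graded ring `S`. Then any finite
set of points of `X` is contained in an affine open of `X`. -/
theorem result {R A : Type u} [CommRing R] [CommRing A] [Algebra R A]
    (𝒜 : ℕ → Submodule R A) [GradedAlgebra 𝒜] {X : Scheme.{u}} (ι : X ⟶ Proj 𝒜) [IsImmersion ι]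
    (E : Set X) (hE : E.Finite) :
    ∃ U : X.Opens, IsAffineOpen U ∧ E ⊆ U := by
  have hd : Disjoint (ι.base '' E) (closure (Set.range ι.base) \ Set.range ι.base) :=
    Set.disjoint_left.mpr fun y ⟨x, _, hx⟩ hy => hy.2 ⟨x, hx⟩
  obtain ⟨d, f, hdpos, hfd, hEf, hf⟩ := exists_homogeneous_avoid 𝒜
    (closure (Set.range ι.base) \ Set.range ι.base) (isClosed_boundary ι) (ι.base '' E)
    (hE.image _) hd
  refine ⟨ι ⁻¹ᵁ Proj.basicOpen 𝒜 f, isAffineOpen_preimage_of_immersion ι
    (Proj.isAffineOpen_basicOpen 𝒜 f hfd hdpos) (Set.disjoint_left.mpr fun y hy hy' =>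
      Set.disjoint_left.mp hf hy hy'), fun x hx => hEf ⟨x, hx, rfl⟩⟩

end Groth.Agent.S7388
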