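import Groth.Statements.S13717
import Groth.Agent.Cycles.PolLawLift

set_option autoImplicit false
universe u
open scoped TensorProduct
open ZeroCyc

namespace Groth.Agent.S13717

/-- Let π : B → B' be a surjective map of commutative A-algebras and let (C, γ) and (C', γ') be the
degree-d divided power algebras Γ^d_A(B) and Γ^d_A(B') with their universal multiplicative laws
homogeneous of degree d. If φ : C → C' is the A-algebra map with φ ∘ γ = γ' ∘ π, then φ is
surjective; geometrically, for a closed subscheme X of an affine Y over an affine S, Γ^d(X/S) →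
Γ^d(Y/S) is a closed immersion. (The published statement is for Y affine over an algebraic space S;
this row is the case of an affine base.) -/
theorem result {A : Type u} [CommRing A] {B : Type u} [CommRing B] [Algebra A B]
    {B' : Type u} [CommRing B'] [Algebra A B'] {C : Type u} [CommRing C] [Algebra A C] {C' : Type u} [CommRing C'] [Algebra A C']
    {d : ℕ} (γ : PolLaw.MulLaw A B C d) (hγ : PolLaw.IsGammaD γ) (γ' : PolLaw.MulLaw A B' C' d) (hγ' : PolLaw.IsGammaD γ')
    (π : B →ₐ[A] B') (hπ : Function.Surjective π) (φ : C →ₐ[A] C')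
    (hφ : PolLaw.postcomp φ.toLinearMap γ.law = (γ'.precomp π).law) :
    Function.Surjective φ := by
  let G : PolLaw.MulLaw A B φ.range d := γ.postcomp φ.rangeRestrict
  have hG : ∀ (S : Type u) [CommSemiring S] [Algebra A S] (x : S ⊗[A] B),
      φ.range.val.toLinearMap.lTensor S (G.law.toFun' S x) = γ'.law.toFun' S (π.toLinearMap.lTensor S x) := by
    intro S _ _ x
    have h := congrArg (fun F : B →ₚₗ[A] C' => F.toFun' S x) hφ
    refine Eq.trans ?_ h
    show φ.range.val.toLinearMap.lTensor S (φ.rangeRestrict.toLinearMap.lTensor S _) = φ.toLinearMap.lTensor S _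
    rw [← LinearMap.comp_apply, ← LinearMap.lTensor_comp]
    rfl
  let F₀ := Groth.Cycles.descendLaw π hπ G (fun S _ _ => Groth.Cycles.law_congr_of_postcomp_injective
    π.toLinearMap hπ G.law φ.range.val.toLinearMap Subtype.val_injective γ'.law hG S)
  obtain ⟨f, hf, -⟩ := hγ' _ F₀
  obtain ⟨e, -, he⟩ := hγ' _ γ'
  have h1 : φ.range.val.comp f = e := by
    refine he _ (PolynomialLaw.ext ?_)
    funext S _ _ z
    obtain ⟨x, rfl⟩ := LinearMap.lTensor_surjective S (g := π.toLinearMap) hπ z
    show (φ.range.val.toLinearMap ∘ₗ f.toLinearMap).lTensor S _ = _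
    rw [LinearMap.lTensor_comp, LinearMap.comp_apply]
    have := congrArg (fun F : B' →ₚₗ[A] φ.range => F.toFun' S (π.toLinearMap.lTensor S x)) hf
    refine (congrArg (φ.range.val.toLinearMap.lTensor S) this).trans ?_
    show φ.range.val.toLinearMap.lTensor S (F₀.law.toFun' S _) = _
    rw [Groth.Cycles.descendLaw_toFun, hG]
  have h2 : AlgHom.id A C' = e := by
    refine he _ (PolynomialLaw.ext ?_)
    funext S _ _ z
    show LinearMap.lTensor S LinearMap.id _ = _
    rw [LinearMap.lTensor_id]
    rfl
  intro c
  obtain ⟨b, hb⟩ := (f c).2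
  exact ⟨b, hb.trans ((congrArg (fun g : C' →ₐ[A] C' => g c) (h1.trans h2.symm)))⟩

end Groth.Agent.S13717
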