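import Groth.Statements.S2137
import Groth.Agent.Calg2.LBaseChangeKProj
import Mathlib.Algebra.Category.ModuleCat.Projective

set_option autoImplicit false
universe u
open CategoryTheory
attribute [local instance] HasDerivedCategory.standard
open CAlg

namespace Groth.Agent.S2137


open CategoryTheory.Limits CategoryTheory.Pretriangulated HomologicalComplex DerivedCategory

variable {R : Type u} [CommRing R]

/-- Isomorphism on cohomology above `m`, epimorphism at `m`. -/
def Good (m : ℤ) {X Y : Dual.D R} (f : X ⟶ Y) : Prop :=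
  (∀ i : ℤ, m < i → IsIso ((DerivedCategory.homologyFunctor (ModuleCat.{u} R) i).map f)) ∧
    Epi ((DerivedCategory.homologyFunctor (ModuleCat.{u} R) m).map f)

lemma Good.comp_iso (m : ℤ) {X Y Z : Dual.D R} {f : X ⟶ Y} (h : Good m f) (e : Y ≅ Z) :
    Good m (f ≫ e.hom) := by
  refine ⟨fun i hi => ?_, ?_⟩
  · haveI := h.1 i hi
    rw [Functor.map_comp]
    infer_instance
  · haveI := h.2
    rw [Functor.map_comp]
    infer_instance

lemma good_iff (m : ℤ) {E P : CochainComplex (ModuleCat.{u} R) ℤ} (g : E ⟶ P) :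
    Good m (Q.map g) ↔
      ∀ i, m ≤ i → IsZero ((CochainComplex.mappingCone g).homology i) := by
  let T := Q.mapTriangle.obj (CochainComplex.mappingCone.triangle g)
  have hT : T ∈ distTriang _ := (mem_distTriang_iff T).2 ⟨_, _, g, ⟨Iso.refl _⟩⟩
  have hi : ∀ i, IsZero ((CochainComplex.mappingCone g).homology i) ↔
      IsZero ((DerivedCategory.homologyFunctor (ModuleCat.{u} R) i).obj T.obj₃) := fun i =>
    ((homologyFunctorFactors (ModuleCat.{u} R) i).app (CochainComplex.mappingCone g)).isZero_iff.symm
  simp only [hi]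
  constructor
  · rintro ⟨h1, h2⟩ i hmi
    have hepi : Epi ((DerivedCategory.homologyFunctor (ModuleCat.{u} R) i).map T.mor₁) := by
      rcases hmi.lt_or_eq with hlt | rfl
      · haveI : IsIso ((DerivedCategory.homologyFunctor (ModuleCat.{u} R) i).map T.mor₁) := h1 i hlt
        infer_instance
      · exact h2
    haveI : IsIso ((DerivedCategory.homologyFunctor (ModuleCat.{u} R) (i + 1)).map T.mor₁) := h1 (i + 1) (by omega)
    exact (HomologySequence.exact₃ T hT i (i + 1) rfl).isZero_of_both_zeros
      ((HomologySequence.epi_homologyMap_mor₁_iff T hT i).1 hepi)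
      ((HomologySequence.mono_homologyMap_mor₁_iff T hT i (i + 1) rfl).1 inferInstance)
  · intro h
    have hepi : ∀ i, m ≤ i → Epi ((DerivedCategory.homologyFunctor (ModuleCat.{u} R) i).map T.mor₁) := fun i hmi =>
      (HomologySequence.epi_homologyMap_mor₁_iff T hT i).2 ((h i hmi).eq_of_tgt _ _)
    refine ⟨fun i hmi => ?_, hepi m le_rfl⟩
    haveI : Epi ((DerivedCategory.homologyFunctor (ModuleCat.{u} R) i).map T.mor₁) := hepi i hmi.le
    haveI : Mono ((DerivedCategory.homologyFunctor (ModuleCat.{u} R) i).map T.mor₁) :=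
      (HomologySequence.mono_homologyMap_mor₁_iff T hT (i - 1) i (by omega)).2
        ((h (i - 1) (by omega)).eq_of_src _ _)
    exact (isIso_of_mono_of_epi _ : IsIso ((DerivedCategory.homologyFunctor (ModuleCat.{u} R) i).map T.mor₁))

lemma isKProjective_mappingCone {E P : CochainComplex (ModuleCat.{u} R) ℤ} [E.IsKProjective]
    [P.IsKProjective] (g : E ⟶ P) : (CochainComplex.mappingCone g).IsKProjective := by
  rw [CochainComplex.isKProjective_iff_leftOrthogonal]
  exact (HomotopyCategory.subcategoryAcyclic (ModuleCat.{u} R)).leftOrthogonal.ext_of_isTriangulatedClosed₃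
    _ (HomotopyCategory.mappingCone_triangleh_distinguished g)
    (CochainComplex.IsKProjective.leftOrthogonal E) (CochainComplex.IsKProjective.leftOrthogonal P)

lemma isZero_homology_ext {A B : Type u} [CommRing A] [CommRing B] (φ : A →+* B)
    (C : CochainComplex (ModuleCat.{u} A) ℤ) [C.IsKProjective] (m : ℤ)
    (h : ∀ i, m ≤ i → IsZero (C.homology i)) (i : ℤ) (hi : m ≤ i) :
    IsZero (((Calg2.KProj.extCx φ).obj C).homology i) := by
  let T := C.truncLE (m - 1)
  let ι : T ⟶ C := C.ιTruncLE (m - 1)
  haveI : C.IsLE (m - 1) := (CochainComplex.isLE_iff C (m - 1)).2 fun j hj =>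
    (exactAt_iff_isZero_homology _ _).2 (h j (by omega))
  haveI : QuasiIso ι := (C.quasiIso_ιTruncLE_iff (m - 1)).2 inferInstance
  obtain ⟨s, hs⟩ := Calg2.KProj.exists_map_eq (P := C) (inv (Q.map ι))
  have hid : (Calg2.KProj.quot A).map (s ≫ ι) = (Calg2.KProj.quot A).map (𝟙 C) := by
    refine (CochainComplex.IsKProjective.Qh_map_bijective C _).1 ?_
    rw [← cancel_mono ((quotientCompQhIso (ModuleCat.{u} A)).hom.app C),
      quotientCompQhIso_hom_naturality, quotientCompQhIso_hom_naturality, Functor.map_comp, hs,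
      IsIso.inv_hom_id, CategoryTheory.Functor.map_id]
  have H := (ModuleCat.extendScalars.{u, u, u} φ).mapHomotopy (HomotopyCategory.homotopyOfEq _ _ hid)
  have h1 : homologyMap ((Calg2.KProj.extCx φ).map (s ≫ ι)) i =
      𝟙 (((Calg2.KProj.extCx φ).obj C).homology i) := by
    rw [H.homologyMap_eq i, CategoryTheory.Functor.map_id, HomologicalComplex.homologyMap_id]
  haveI : T.IsStrictlyLE (m - 1) := inferInstance
  have hz : IsZero (((Calg2.KProj.extCx φ).obj T).homology i) :=
    (exactAt_iff_isZero_homology _ _).1 (ExactAt.of_isZero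
      ((ModuleCat.extendScalars.{u, u, u} φ).map_isZero (T.isZero_of_isStrictlyLE (m - 1) i (by omega))))
  rw [Limits.IsZero.iff_id_eq_zero, ← h1, Functor.map_comp, HomologicalComplex.homologyMap_comp,
    hz.eq_of_src (homologyMap ((Calg2.KProj.extCx φ).map ι) i) 0, comp_zero]

lemma good_ext {A B : Type u} [CommRing A] [CommRing B] (φ : A →+* B) (m : ℤ)
    {E P : CochainComplex (ModuleCat.{u} A) ℤ} [E.IsKProjective] [P.IsKProjective] (g : E ⟶ P)
    (hg : Good m (Q.map g)) : Good m (Q.map ((Calg2.KProj.extCx φ).map g)) := by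
  haveI := isKProjective_mappingCone g
  rw [good_iff]
  intro i hi
  exact (isZero_homology_ext φ (CochainComplex.mappingCone g) m ((good_iff m g).1 hg) i hi).of_iso
    ((HomologicalComplex.homologyFunctor _ _ i).mapIso
      (CochainComplex.mappingCone.mapHomologicalComplexIso g (ModuleCat.extendScalars.{u, u, u} φ))).symm


/-- Let `A → B` be a ring map and `K` an `m`-pseudo-coherent object of `D(A)`. Then `K ⊗^L_A B` is
`m`-pseudo-coherent in `D(B)`. (Stated assuming the total left derived functor of base change exists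
on `D(A)`, a fact not available as a library result here.) -/
theorem result {A B : Type u} [CommRing A] [CommRing B] (φ : A →+* B) [DRing.HasLBaseChange φ]
    (K : Dual.D A) (m : ℤ) (hK : DRing.IsPseudoCoherent A m K) :
    DRing.IsPseudoCoherent B m ((DRing.LBaseChange φ).obj K) := by
  obtain ⟨E, a, b, α, hE, hfree, hiso, hepi⟩ := hK
  obtain ⟨P, hP, -, ⟨e⟩⟩ := Calg2.KProj.exists_kProjective_iso K
  haveI : E.IsStrictlyLE b := (CochainComplex.isStrictlyLE_iff E b).2 fun i hi => hE i (Or.inr hi)
  haveI : ∀ n, Projective (E.X n) := fun n => by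
    have h : Module.Projective A (E.X n) :=
      haveI := (hfree n).2
      Module.Projective.of_free
    exact (IsProjective.iff_projective (E.X n)).1 h
  haveI : E.IsKProjective := CochainComplex.isKProjective_of_projective E b
  obtain ⟨g, hg⟩ := Calg2.KProj.exists_map_eq (P := E) (α ≫ e.inv)
  have hgood : Good m (DerivedCategory.Q.map g) := by
    rw [hg]; exact Good.comp_iso m ⟨hiso, hepi⟩ e.symm
  have hgood' := good_ext φ m g hgood
  refine ⟨(Calg2.KProj.extCx φ).obj E, a, b,
    DerivedCategory.Q.map ((Calg2.KProj.extCx φ).map g) ≫ (Calg2.KProj.lbcIso φ P).inv ≫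
      (DRing.LBaseChange φ).map e.hom, ?_, ?_, ?_⟩
  · exact fun i hi => (ModuleCat.extendScalars.{u, u, u} φ).map_isZero (hE i hi)
  · intro i
    haveI := (hfree i).1
    haveI := (hfree i).2
    letI := φ.toAlgebra
    exact ⟨inferInstanceAs (Module.Finite B (TensorProduct A B (E.X i : Type u))),
      inferInstanceAs (Module.Free B (TensorProduct A B (E.X i : Type u)))⟩
  · exact Good.comp_iso m hgood' ((Calg2.KProj.lbcIso φ P).symm ≪≫ (DRing.LBaseChange φ).mapIso e)

end Groth.Agent.S2137
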