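import Groth.Statements.S7019
import Groth.Agent.DAlg.TorAmp


set_option autoImplicit false
universe u
open CategoryTheory CategoryTheory.Limits
attribute [local instance] HasDerivedCategory.standard
open DRing

namespace Groth.Agent.S7019

/-- Let R be a commutative ring such that the derived tensor product - ⊗^L_R M exists on D(R) for every
R-module M, and let K, L be objects of D(R). If K ⊕ L is perfect, then K and L are perfect. -/
theorem result (R : Type u) [CommRing R] [∀ M : ModuleCat.{u} R, DRing.HasLTensor R M]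
    (K L : Dual.D R) [HasBinaryBiproduct K L] (h : DRing.IsPerfect R (K ⊞ L)) :
    DRing.IsPerfect R K ∧ DRing.IsPerfect R L := by
  obtain ⟨hPC, a, b, ht⟩ := DAlg.isPerfect_iff.1 h
  have h' := fun m => (PCohPunctual.pcn_biprod_iff (DAlg.isAdditiveSub_finFree R) (DAlg.isQuasiStable_finFree R)
    (DAlg.isQuasiLiftable_finFree R) m K L).1 (DAlg.isPseudoCoherent'_iff_isPC.1 hPC m)
  exact ⟨DAlg.isPerfect_iff.2 ⟨DAlg.isPseudoCoherent'_iff_isPC.2 fun m => (h' m).1, a, b,
      DAlg.TorAmp.retract biprod.inl biprod.fst biprod.inl_fst ht⟩,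
    DAlg.isPerfect_iff.2 ⟨DAlg.isPseudoCoherent'_iff_isPC.2 fun m => (h' m).2, a, b,
      DAlg.TorAmp.retract biprod.inr biprod.snd biprod.inr_snd ht⟩⟩

end Groth.Agent.S7019
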