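import Groth.Statements.S7068
import Groth.Agent.FlatMorOne.FlatLocusModelFlat
import Groth.Agent.Flatmor4.PCohBaseChange
import Groth.Agent.HTopHyper.HTor.TorFlat

set_option autoImplicit false
universe u
attribute [local instance] HasDerivedCategory.standard
open MoreMor

namespace Groth.Agent.S7068

/-- If A → B is a flat homomorphism of commutative rings of finite presentation, then A → B is a perfect
ring map: pseudo-coherent, with B of finite tor dimension as an A-module. -/
theorem result (A B : Type u) [CommRing A] [CommRing B] [Algebra A B]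
    [Module.Flat A B] [Algebra.FinitePresentation A B] : MoreMor.IsPerfectHom A B := by
  obtain ⟨R₁, _, _, S₁, _, _, _, _, _, _, hZ, hft, hflat, hpush⟩ :=
    Groth.FlatMorOne.exists_flat_model_algebra A B
  haveI : IsNoetherianRing R₁ := Algebra.FiniteType.isNoetherianRing ℤ R₁
  obtain ⟨n, π, hπ⟩ := Algebra.FiniteType.iff_quotient_mvPolynomial''.mp hft
  let φ : MvPolynomial (Fin n) A →ₐ[A] B :=
    MvPolynomial.aeval fun i => algebraMap S₁ B (π (MvPolynomial.X i))
  have hφπ : ∀ q : MvPolynomial (Fin n) R₁,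
      φ (MvPolynomial.map (algebraMap R₁ A) q) = algebraMap S₁ B (π q) := by
    intro q
    have : (φ.toRingHom.comp (MvPolynomial.map (algebraMap R₁ A))) =
        (algebraMap S₁ B).comp π.toRingHom := by
      refine MvPolynomial.ringHom_ext (fun a => ?_) fun i => ?_
      · show φ (MvPolynomial.map (algebraMap R₁ A) (MvPolynomial.C a)) = algebraMap S₁ B (π (MvPolynomial.C a))
        rw [MvPolynomial.map_C, MvPolynomial.aeval_C, ← IsScalarTower.algebraMap_apply,
          ← MvPolynomial.algebraMap_eq, AlgHom.commutes, ← IsScalarTower.algebraMap_apply]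
      · show φ (MvPolynomial.map (algebraMap R₁ A) (MvPolynomial.X i)) = _
        rw [MvPolynomial.map_X, MvPolynomial.aeval_X]
        rfl
    exact RingHom.congr_fun this q
  have hsurj : Function.Surjective φ := by
    intro b
    obtain ⟨z, rfl⟩ := (Algebra.IsPushout.equiv R₁ A S₁ B).surjective b
    induction z using TensorProduct.induction_on with
    | zero => exact ⟨0, by simp⟩
    | tmul a s =>
      obtain ⟨q, rfl⟩ := hπ s
      refine ⟨MvPolynomial.C a * MvPolynomial.map (algebraMap R₁ A) q, ?_⟩
      rw [map_mul, hφπ, Algebra.IsPushout.equiv_tmul, MvPolynomial.aeval_C]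
    | add x y hx hy =>
      obtain ⟨p, hp⟩ := hx
      obtain ⟨q, hq⟩ := hy
      exact ⟨p + q, by rw [map_add, map_add, hp, hq]⟩
  refine ⟨⟨n, φ, hsurj, ?_⟩, 0, fun N _ _ p hp => ?_⟩
  · letI : Algebra (MvPolynomial (Fin n) A) B := φ.toRingHom.toAlgebra
    letI : Algebra (MvPolynomial (Fin n) R₁) (MvPolynomial (Fin n) A) :=
      MvPolynomial.algebraMvPolynomial
    letI : Algebra (MvPolynomial (Fin n) R₁) S₁ := π.toRingHom.toAlgebra
    letI : Algebra (MvPolynomial (Fin n) R₁) B := ((algebraMap S₁ B).comp π.toRingHom).toAlgebra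
    haveI : IsScalarTower (MvPolynomial (Fin n) R₁) S₁ B := IsScalarTower.of_algebraMap_eq fun _ => rfl
    haveI : IsScalarTower R₁ (MvPolynomial (Fin n) R₁) S₁ :=
      IsScalarTower.of_algebraMap_eq fun a => (π.commutes a).symm
    haveI : IsScalarTower R₁ (MvPolynomial (Fin n) R₁) B := IsScalarTower.of_algebraMap_eq fun a => by
      show _ = algebraMap S₁ B (π (algebraMap R₁ _ a))
      rw [AlgHom.commutes, ← IsScalarTower.algebraMap_apply]
    haveI : IsScalarTower A (MvPolynomial (Fin n) A) B :=
      IsScalarTower.of_algebraMap_eq fun a => (φ.commutes a).symm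
    haveI : IsScalarTower (MvPolynomial (Fin n) R₁) (MvPolynomial (Fin n) A) B :=
      IsScalarTower.of_algebraMap_eq fun q => (hφπ q).symm
    haveI : IsScalarTower R₁ (MvPolynomial (Fin n) A) B := IsScalarTower.of_algebraMap_eq fun a => by
      rw [IsScalarTower.algebraMap_apply R₁ A B, IsScalarTower.algebraMap_apply R₁ A (MvPolynomial (Fin n) A),
        ← IsScalarTower.algebraMap_apply A (MvPolynomial (Fin n) A) B]
    haveI : Module.Finite (MvPolynomial (Fin n) R₁) S₁ :=
      Module.Finite.of_surjective (Algebra.linearMap _ S₁) hπ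
    haveI h2 : Algebra.IsPushout R₁ A S₁ B := hpush
    haveI : Algebra.IsPushout R₁ (MvPolynomial (Fin n) R₁) A (MvPolynomial (Fin n) A) := inferInstance
    haveI : Algebra.IsPushout R₁ A (MvPolynomial (Fin n) R₁) (MvPolynomial (Fin n) A) := inferInstance
    haveI : Algebra.IsPushout (MvPolynomial (Fin n) R₁) S₁ (MvPolynomial (Fin n) A) B :=
      (Algebra.IsPushout.comp_iff R₁ (MvPolynomial (Fin n) R₁) A (MvPolynomial (Fin n) A)).mp
        (Algebra.IsPushout.symm inferInstance)
    haveI : Algebra.IsPushout (MvPolynomial (Fin n) R₁) (MvPolynomial (Fin n) A) S₁ B :=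
      Algebra.IsPushout.symm inferInstance
    exact Groth.Flatmor4.PCohBC.isPseudoCoherentModule'_baseChange R₁ A (MvPolynomial (Fin n) R₁)
      (MvPolynomial (Fin n) A) S₁ B
      (Algebra.IsPushout.equiv (MvPolynomial (Fin n) R₁) (MvPolynomial (Fin n) A) S₁ B).toLinearEquiv
  · obtain ⟨k, rfl⟩ : ∃ k, p = k + 1 := ⟨p - 1, by omega⟩
    exact Groth.HTorLib.subsingleton_tor_of_flat_left B N k

end Groth.Agent.S7068
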