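import Groth.Statements.S7000
import Groth.Agent.DAlg.BaseChange
import Groth.Agent.S2137


set_option autoImplicit false
universe u
open CategoryTheory CategoryTheory.Limits
attribute [local instance] HasDerivedCategory.standard
open DRing

namespace Groth.Agent.S7000

/-- Let A → B be a flat homomorphism of commutative rings, m an integer and M an A-module. If M is
m-pseudo-coherent then the B-module B ⊗_A M is m-pseudo-coherent; if M is pseudo-coherent then B ⊗_A
M is pseudo-coherent. -/
theorem result {A B : Type u} [CommRing A] [CommRing B] [Algebra A B]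
    [Module.Flat A B] (m : ℤ) (M : Type u) [AddCommGroup M] [Module A M] :
    (DRing.IsPseudoCoherentModule A m M → DRing.IsPseudoCoherentModule B m (TensorProduct A B M)) ∧
      (DRing.IsPseudoCoherentModule' A M → DRing.IsPseudoCoherentModule' B (TensorProduct A B M)) := by
  have := DAlg.hasLBaseChange (algebraMap A B)
  obtain ⟨e⟩ := DAlg.nonempty_lBaseChange_mD (algebraMap A B) (RingHom.flat_algebraMap_iff.2 inferInstance)
    (ModuleCat.of A M)
  let e' := e ≪≫ (DerivedCategory.singleFunctor (ModuleCat.{u} B) 0).mapIso
    (FlatCxBase.extendEquiv B (ModuleCat.of A M)).toModuleIso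
  refine ⟨fun h => ?_, fun h => ?_⟩
  · exact DAlg.isPseudoCoherent_iff.2 ((DAlg.isPseudoCoherent_iff.1 (S2137.result (algebraMap A B) _ m h)).of_iso e')
  · exact DAlg.isPseudoCoherent'_iff_forall.2 fun n => DAlg.isPseudoCoherent_iff.2
      ((DAlg.isPseudoCoherent_iff.1 (S2137.result (algebraMap A B) _ n
        (DAlg.isPseudoCoherent'_iff_forall.1 h n))).of_iso e')

end Groth.Agent.S7000
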