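import Groth.Statements.S7004
import Groth.Agent.DAlg.ProjAmp


set_option autoImplicit false
universe u
open CategoryTheory CategoryTheory.Limits
attribute [local instance] HasDerivedCategory.standard
open DRing

namespace Groth.Agent.S7004

/-- Let R be a commutative ring, a an integer and K an object of D(R) whose cohomology vanishes in large
degrees, such that Hom(K, M[-a]) = 0 in D(R) for every R-module M. Then K ≅ τ_(≤ a-1) K ⊕ τ_(≥ a+1)
K by an isomorphism carrying τ_(≤ a-1) K → K to the first inclusion and K → τ_(≥ a+1) K to the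
second projection, and τ_(≥ a+1) K is isomorphic in D(R) to a complex of projective modules
vanishing outside [a+1, b] for some integer b. (The published statement also asserts that the
decomposition is unique; that part is not restated.) -/
theorem result (R : Type u) [CommRing R] (a : ℤ) (K : Dual.D R)
    (hKb : ∃ b : ℤ, ∀ i : ℤ, b < i → Subsingleton (Dual.HD R K i))
    (h : ∀ (M : Type u) [AddCommGroup M] [Module R M],
      Subsingleton (K ⟶ (shiftFunctor (Dual.D R) (-a)).obj (Dual.inD R M)))
    [HasBinaryBiproduct (((DerivedCategory.TStructure.t : Triangulated.TStructure (Dual.D R)).truncLT a).obj K) (((DerivedCategory.TStructure.t : Triangulated.TStructure (Dual.D R)).truncGE (a + 1)).obj K)] :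
    (∃ e : K ≅ ((DerivedCategory.TStructure.t : Triangulated.TStructure (Dual.D R)).truncLT a).obj K ⊞ ((DerivedCategory.TStructure.t : Triangulated.TStructure (Dual.D R)).truncGE (a + 1)).obj K,
      ((DerivedCategory.TStructure.t : Triangulated.TStructure (Dual.D R)).truncLTι a).app K ≫ e.hom = biprod.inl ∧
        e.hom ≫ biprod.snd = ((DerivedCategory.TStructure.t : Triangulated.TStructure (Dual.D R)).truncGEπ (a + 1)).app K) ∧
      ∃ (P : DRing.Cx R) (b : ℤ), DRing.VanishesOutside P (a + 1) b ∧ (∀ i : ℤ, Module.Projective R (P.X i)) ∧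
        Nonempty (DRing.toD P ≅ ((DerivedCategory.TStructure.t : Triangulated.TStructure (Dual.D R)).truncGE (a + 1)).obj K) := by
  obtain ⟨b, hb⟩ := hKb
  have key : ∀ (M : Type u) [AddCommGroup M] [Module R M],
      Subsingleton (((DAlg.tD R).truncGE (a + 1)).obj K ⟶ (shiftFunctor (Dual.D R) (-a)).obj (Dual.inD R M)) :=
    fun M _ _ => subsingleton_of_forall_eq 0 fun x => DAlg.eq_zero_of_π_comp M x ((h M).elim _ _)
  have : HasBinaryBiproducts (Dual.D R) := HasBinaryBiproducts.of_hasBinaryProducts
  obtain ⟨e, he1, he2⟩ := DAlg.exists_splitting hb key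
  obtain ⟨P, hP, hp, hPe⟩ := DAlg.projAmp_truncGE hb key
  let X := ((DAlg.tD R).truncLT (a + 1)).obj K
  have hHa : Subsingleton (Dual.HD R K a) := by
    obtain ⟨F, hF, hfree, ⟨eF⟩⟩ := DAlg.exists_free_rep R hb
    have hproj : ∀ i, Module.Projective R (F.X i) := fun i => have := hfree i; inferInstance
    have := DAlg.isKProjective_of_bounded hF hproj
    exact DAlg.subsingleton_HD_of_retraction eF (DAlg.exists_retraction_of_subsingleton eF (neg_add_cancel a) h)
  have hX : DerivedCategory.IsLE X (a - 1) := DAlg.isLE_of_subsingleton fun i hi => by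
    rcases eq_or_lt_of_le (show a ≤ i by omega) with rfl | hlt
    · exact ModuleCat.subsingleton_of_isZero (PCohPunctual.isZero_homology₁
        ((DAlg.tD R).triangleLTGE_distinguished (a + 1) K) (i := a - 1) (j := a) (by omega)
        (ModuleCat.isZero_iff_subsingleton.2 hHa)
        (ModuleCat.isZero_iff_subsingleton.2 (DAlg.subsingleton_HD_truncGE (K := K) (by omega))))
    · exact DAlg.subsingleton_HD_truncLT i hlt
  have : (DAlg.tD R).IsLE X (a - 1) := hX
  have := ((DAlg.tD R).isLE_iff_isIso_truncLTι_app (a - 1) a (by omega) X).1 inferInstance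
  have := (DAlg.tD R).isIso_truncLT_map_truncLTι_app a (a + 1) (by omega) K
  let e' : ((DAlg.tD R).truncLT a).obj K ≅ X :=
    (asIso (((DAlg.tD R).truncLT a).map (((DAlg.tD R).truncLTι (a + 1)).app K))).symm ≪≫
      asIso (((DAlg.tD R).truncLTι a).app X)
  have he' : e'.hom ≫ ((DAlg.tD R).truncLTι (a + 1)).app K = ((DAlg.tD R).truncLTι a).app K := by
    simp only [e', Iso.trans_hom, Iso.symm_hom, asIso_inv, asIso_hom, Category.assoc, IsIso.inv_comp_eq]
    exact (((DAlg.tD R).truncLTι a).naturality _).symm
  refine ⟨⟨e ≪≫ biprod.mapIso e'.symm (Iso.refl _), ?_, ?_⟩, P, max b a, hP, hp, hPe⟩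
  · rw [← he', Category.assoc]
    simp only [Iso.trans_hom]
    rw [reassoc_of% he1]
    simp
  · simpa using he2

end Groth.Agent.S7004
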