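import Groth.Statements.S4285
import Groth.Agent.Pic13Aux.MRegularBounded
import Groth.Agent.FlatStrata.Hilbert

set_option autoImplicit false
set_option linter.style.haveILetI false
set_option backward.isDefEq.respectTransparency.types false
universe u
open CategoryTheory CategoryTheory.Limits AlgebraicGeometry
open Pic13

namespace Groth.Agent.S4285

open Groth Groth.HilbStab Groth.Pic13Aux

/-- (iii) implies (i), over the base S = Spec k with k algebraically closed: let X ⊆ P^n_k be a closed
subscheme, m an integer and φ a polynomial. The family of coherent O_X-modules F which are m-regular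
(H^q(X, F(m - q)) = 0 for q ≥ 1) and have Hilbert polynomial φ (χ(F(d)) = φ(d) for all integers d)
is bounded. (The source allows a finite set of Hilbert polynomials and a projective X over a
Noetherian base with O_X(1) generated by global sections on the fibres.) -/
theorem result (k : Type u) [Field k] [IsAlgClosed k] (n : ℕ) (X : Scheme.{u}) [X.Over (Spec (CommRingCat.of k))]
    (i : X ⟶ CohB1.ProjSpace n k) [IsClosedImmersion i] (hi : i ≫ CohB1.ProjSpace.toSpec n k = X ↘ Spec (CommRingCat.of k))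
    (m : ℤ) (φ : Polynomial ℚ) :
    Pic13.IsBounded k X (fun F : X.Modules => Coh.IsCoh F ∧ Pic13.IsMRegular k i F m ∧
      ∀ d : ℤ, (FGA.eulerCharLE k X (Pic13.twistOn k i F d) n : ℚ) = φ.eval (d : ℚ)) := by
  haveI hPp : IsProper ((CohB1.ProjSpace n k) ↘ Spec (CommRingCat.of k)) :=
    Groth.Variety2.isProper_projSpace_toSpec n k
  haveI : IsProper (X ↘ Spec (CommRingCat.of k)) := by
    rw [← hi]
    haveI := Groth.Variety2.isProper_projSpace_toSpec n k
    infer_instance
  let b : ℕ := (φ.eval (m : ℚ)).num.toNat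
  let O := fun a : ℤ => Twist.twistProjSpace n k a
  let E₀ := ∐ fun _ : Fin b => O (-m)
  haveI hE₀ : Coh.IsCoh E₀ := PnCoh.isCoh_sigma _ fun _ => PnCoh.isCoh_twist n k _
  let b' : ℕ := Module.finrank k (Coh.HH (CohB1.ProjSpace n k) (Variety2.Reg.fT E₀ (m + 1)) 0)
  let E₁ := ∐ fun _ : Fin b' => O (-(m + 1))
  haveI hE₁ : Coh.IsCoh E₁ := PnCoh.isCoh_sigma _ fun _ => PnCoh.isCoh_twist n k _
  obtain ⟨M, v, hv⟩ := exists_span_hom b' (m + 1) hE₀
  refine isBounded_cokernel (FlatStrata.isCoh_pullback i hE₁) (FlatStrata.isCoh_pullback i hE₀)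
    (fun l => (Scheme.Modules.pullback i).map (v l)) _ fun F hF => ?_
  obtain ⟨hFc, hreg, hφ⟩ := hF
  have := hFc.1
  let G := Variety2.Reg.pF i F
  have hG : Coh.IsCoh G := Variety2.Reg.isCoh_pF i F hFc
  have := hG.1
  have hGreg : Curv2.IsMRegular k n G m := Variety2.Reg.mReg_pF i F hreg
  have hb : Module.finrank k (Coh.HH (CohB1.ProjSpace n k) (Variety2.Reg.fT G m) 0) ≤ b := by
    obtain ⟨e⟩ := PnCoh.nonempty_linearEquiv_push_twist n k i F m 0
    refine le_of_eq ?_
    have h := hφ m
    rw [FlatStrata.eulerCharLE_eq_rank (r := Module.finrank k (Coh.HH X (Pic13.twistOn k i F m) 0))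
      (fun p => ?_) n] at h
    · change _ = (φ.eval (m : ℚ)).num.toNat
      rw [← h]
      norm_cast
      refine e.finrank_eq.trans ?_
      change Module.finrank k (CohFin.HA (i ≫ CohB1.ProjSpace.toSpec n k) _ 0) =
        Module.finrank k (CohFin.HA (X ↘ Spec (CommRingCat.of k)) _ 0)
      rw [hi]
      rfl
    · split_ifs with hp
      · subst hp; rfl
      · haveI : Subsingleton (Coh.HH X (Pic13.twistOn k i F m) p) :=
          (Variety2.Reg.subsingleton_twistOn_iff i F m p).2
            (Variety2.Reg.vanish_of_mReg G hGreg (Nat.one_le_iff_ne_zero.2 hp) (by omega))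
        exact Module.finrank_zero_of_subsingleton
  obtain ⟨φ₀, hepi, hK⟩ := exists_epi_sigma_span hG hGreg hb
  haveI := hepi
  haveI : IsLocallyNoetherian (CohB1.ProjSpace n k) := PnCoh.isLocallyNoetherian_projSpace n k
  haveI : E₀.IsQuasicoherent := hE₀.1
  have hKc : Coh.IsCoh (kernel φ₀) := QCohMod.isCoh_kernel φ₀ hE₀
  have hb' : Module.finrank k (Coh.HH (CohB1.ProjSpace n k) (Variety2.Reg.fT (kernel φ₀) (m + 1)) 0) ≤ b' := by
    haveI := PicAux.isEquivalence_tensorRightMod_of_isInvertible (L := O (m + 1))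
      (Variety2.Reg.isInvertible_tw (m + 1))
    haveI := EulerDeg.finite_HH k _ (Variety2.Reg.isCoh_fT E₀ hE₀ (m + 1)) 0
    exact LinearMap.finrank_le_finrank_of_injective (Curves1.RR.hMap_injective_zero_of_mono k
      ((DCoh.tensorRightMod (O (m + 1))).map (kernel.ι φ₀)))
  obtain ⟨ψ, hψ, -⟩ := exists_epi_sigma_span hKc hK hb'
  haveI := hψ
  obtain ⟨c, hc⟩ := hv (ψ ≫ kernel.ι φ₀)
  refine ⟨c, ⟨?_⟩⟩
  have := QCohMod.isIso_counit_closedImmersion i F
  have hG' : G ≅ cokernel (∑ l, v l ≫ scalar (cst (c l)) E₀) :=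
    (IsColimit.coconePointUniqueUpToIso
      (Abelian.epiIsCokernelOfKernel _ (kernelIsKernel φ₀)) (cokernelIsCokernel (kernel.ι φ₀))) ≪≫
      (cokernelEpiComp ψ (kernel.ι φ₀)).symm ≪≫ cokernelIsoOfEq hc
  haveI := FlatStrata.additive_pullback i
  refine (asIso ((Scheme.Modules.pullbackPushforwardAdjunction i).counit.app F)).symm ≪≫
    (Scheme.Modules.pullback i).mapIso hG' ≪≫ PreservesCokernel.iso (Scheme.Modules.pullback i) _ ≪≫
    cokernelIsoOfEq ?_
  rw [Functor.map_sum]
  refine Finset.sum_congr rfl fun l _ => ?_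
  rw [Functor.map_comp, pullback_map_scalar]
  congr 2
  change i.appTop ((CohB1.ProjSpace.toSpec n k).appTop _) = (X ↘ Spec (CommRingCat.of k)).appTop _
  rw [← hi]
  rfl

end Groth.Agent.S4285
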