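import Groth.Statements.S11503
import Groth.Agent.VBCurves.Sub
import Groth.Agent.Misc1.TorSh
import Groth.Agent.Misc15.P1Stalk
import Groth.Agent.PnCoh.OverAffine
import Groth.Agent.RefRank.Stalk
import Groth.Agent.EulerDeg.LineBundle

set_option autoImplicit false
universe u
open VBPn

open CategoryTheory CategoryTheory.Limits AlgebraicGeometry

namespace Groth.Agent.S11503

variable {X : Scheme.{u}}

theorem isTorsionFree_of_isFinLocFree {M : X.Modules} (h : FlatMod.IsFinLocFree M) :
    _root_.TorSh.IsTorsionFree M := fun x => by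
  have := Groth.KTheory.LocFree.free_stalk h x
  infer_instance

/-- A morphism to a torsion-free module vanishing at the generic point vanishes. -/
theorem hom_eq_zero_of_generic [IsIntegral X] {A B : X.Modules}
    (hB : _root_.TorSh.IsTorsionFree B) [B.IsQuasicoherent] (f : A ⟶ B)
    (h : ∀ v, RefHull.stalkMapₗ f (genericPoint X) v = 0) : f = 0 := by
  ext U a
  show f.app U a = 0
  refine Groth.Misc1.TorSh.eq_zero_of_germ B _ fun y hy => ?_
  refine Groth.Misc1.TorSh.germ_eq_zero_of_generic B hB hy _ ?_
  have h' := h (A.presheaf.germ U _ (Groth.Misc1.TorSh.generic_mem hy) a)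
  rw [RefHull.stalkMapₗ_germ] at h'
  exact h'

open CategoryTheory CategoryTheory.Limits AlgebraicGeometry in
/-- Let k be a characteristic-zero algebraically closed field and E a finite locally free O-module of
rank r > 1 on P^n_k. If E has a nonzero section (a nonzero morphism O → E) and its dual has a
nonzero section (a nonzero morphism E → O), then E is not simple: there is an endomorphism of E
which is not a homothety, i.e. whose underlying map of abelian sheaves is not multiplication by any
scalar c ∈ k. -/
theorem result (k : Type u) [Field k] [IsAlgClosed k] [CharZero k]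
    (n r : ℕ) (hr : 1 < r) (E : (CohB1.ProjSpace n k).Modules) (hE : FlatMod.IsFinLocFreeOfRank r E)
    (s : Coh.structureModule (CohB1.ProjSpace n k) ⟶ E) (hs : s ≠ 0)
    (t : E ⟶ Coh.structureModule (CohB1.ProjSpace n k)) (ht : t ≠ 0) :
    ∃ φ : E ⟶ E, ∀ c : k, (SheafOfModules.toSheaf (CohB1.ProjSpace n k).ringCatSheaf).map φ ≠
      Coh.smulAb E (Coh.toGlobal (CohB1.ProjSpace.toSpec n k) c) := by
  haveI : Nonempty ↥(CohB1.ProjSpace n k) :=
    ⟨(Groth.PnCoh.overIso n k).inv (genericPoint _)⟩
  haveI : IsIntegral (CohB1.ProjSpace n k) :=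
    isIntegral_of_isOpenImmersion (Groth.PnCoh.overIso n k).hom
  have hE' := Groth.LocFree.isFinLocFree_of_rank hE
  haveI := Groth.KTheory.LocFree.isQCoh hE'
  have hO := Groth.LocFree.isInvertible_iff_ofRank_one.mp
    (Groth.EulerDeg.isInvertible_structureModule (CohB1.ProjSpace n k))
  have hO' := Groth.LocFree.isFinLocFree_of_rank hO
  haveI := Groth.KTheory.LocFree.isQCoh hO'
  refine ⟨t ≫ s, fun c hc => ?_⟩
  by_cases hc0 : c = 0
  · rw [hc0, map_zero, Coh.smulAb_zero] at hc
    have hts : t ≫ s = 0 :=
      (SheafOfModules.toSheaf (CohB1.ProjSpace n k).ringCatSheaf).map_injective (hc.trans (Functor.map_zero _ _ _).symm)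
    refine ht (hom_eq_zero_of_generic (isTorsionFree_of_isFinLocFree hO') t fun v => ?_)
    let K := (CohB1.ProjSpace n k).presheaf.stalk (genericPoint (CohB1.ProjSpace n k))
    letI : Field K := inferInstanceAs (Field (CohB1.ProjSpace n k).functionField)
    have hne : RefHull.stalkMapₗ s (genericPoint (CohB1.ProjSpace n k)) ≠ 0 := fun h0 =>
      hs (hom_eq_zero_of_generic (isTorsionFree_of_isFinLocFree hE') s fun w => by rw [h0]; rfl)
    have hrk : Module.finrank K ((Coh.structureModule (CohB1.ProjSpace n k)).presheaf.stalk (genericPoint (CohB1.ProjSpace n k))) = 1 :=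
      Groth.VBCurves.rk_eq hO
    have hinj : Function.Injective (RefHull.stalkMapₗ s (genericPoint (CohB1.ProjSpace n k))) := by
      rw [← LinearMap.ker_eq_bot]
      haveI : Module.Finite K ((Coh.structureModule (CohB1.ProjSpace n k)).presheaf.stalk (genericPoint (CohB1.ProjSpace n k))) :=
        Module.finite_of_finrank_eq_succ hrk
      by_contra hker
      have h1 : LinearMap.ker (RefHull.stalkMapₗ s (genericPoint (CohB1.ProjSpace n k))) = ⊤ := by
        refine Submodule.eq_top_of_finrank_eq (le_antisymm (Submodule.finrank_le _) ?_)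
        rw [hrk]
        exact Submodule.one_le_finrank_iff.2 hker
      exact hne (LinearMap.ker_eq_top.1 h1)
    refine hinj ?_
    rw [map_zero]
    obtain ⟨U, hU, a, rfl⟩ := TopCat.Presheaf.exists_germ_eq E.presheaf v
    rw [RefHull.stalkMapₗ_germ, RefHull.stalkMapₗ_germ]
    have h2 : s.app U (t.app U a) = 0 := by
      show (t ≫ s).app U a = 0
      rw [hts]
      rfl
    rw [h2, map_zero]
  · have hiso' : IsIso (Coh.smulAb E (Coh.toGlobal (CohB1.ProjSpace.toSpec n k) c)) := by
      refine ⟨Coh.smulAb E (Coh.toGlobal (CohB1.ProjSpace.toSpec n k) c⁻¹), ?_, ?_⟩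
      · rw [← Coh.smulAb_mul, ← map_mul, inv_mul_cancel₀ hc0, map_one, Coh.smulAb_one]
      · rw [← Coh.smulAb_mul, ← map_mul, mul_inv_cancel₀ hc0, map_one, Coh.smulAb_one]
    haveI : Mono t := Preadditive.mono_of_cancel_zero t fun {Z} u hu => by
      have hu' : u ≫ t ≫ s = 0 := by
        rw [← Category.assoc, hu, zero_comp]
      have h0 : (SheafOfModules.toSheaf (CohB1.ProjSpace n k).ringCatSheaf).map u ≫
          Coh.smulAb E (Coh.toGlobal (CohB1.ProjSpace.toSpec n k) c) = 0 := by
        refine (congrArg (_ ≫ ·) hc.symm).trans ?_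
        refine (Functor.map_comp _ u (t ≫ s)).symm.trans ?_
        exact (congrArg (SheafOfModules.toSheaf (CohB1.ProjSpace n k).ringCatSheaf).map hu').trans (Functor.map_zero _ _ _)
      haveI := hiso'
      exact (SheafOfModules.toSheaf (CohB1.ProjSpace n k).ringCatSheaf).map_injective
        (((cancel_mono _).1 (h0.trans zero_comp.symm)).trans (Functor.map_zero _ _ _).symm)
    have h1 := Groth.VBCurves.rk_le_of_mono t hO'
    rw [Groth.VBCurves.rk_eq hE, Groth.VBCurves.rk_eq hO] at h1
    omega

end Groth.Agent.S11503
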