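import Groth.Statements.S12232
import Groth.Agent.DerivedAdj.Basic
import Mathlib.CategoryTheory.Monad.Adjunction
import Groth.Agent.DerivedCoh.KInj.Resolution
import Mathlib.CategoryTheory.Abelian.GrothendieckCategory.ModuleEmbedding.GabrielPopescu

set_option autoImplicit false
universe w w' v u
open CategoryTheory CategoryTheory.Limits
open CohDer

namespace Groth.Agent.S12232

/-- Let C be a Grothendieck abelian category, U a generator, R = End(U)ᵒᵖ, G = Hom(U, −) : C → Mod_R and
F : Mod_R → C its left adjoint, which is exact and makes G fully faithful (Gabriel–Popescu). Then on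
derived categories F : D(Mod_R) → D(C) (induced by the exact functor F) is left adjoint to the total
right derived functor RG : D(C) → D(Mod_R), RG is fully faithful, and F ∘ RG ≅ id. Existence of the
adjunction and of the isomorphism is asserted (the derived unit/counit are not named); the existence
of RG and the exactness and additivity of F are carried as instance hypotheses, all of which hold. -/
theorem result {C : Type u} [Category.{v} C] [Abelian C]
    [IsGrothendieckAbelian.{v} C] [HasDerivedCategory.{w} C] (U : C) (hU : IsSeparator U)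
    [HasDerivedCategory.{w'} (ModuleCat.{v} (End U)ᵐᵒᵖ)]
    [(IsGrothendieckAbelian.tensorObj U).Additive] [PreservesFiniteLimits (IsGrothendieckAbelian.tensorObj U)]
    [PreservesFiniteColimits (IsGrothendieckAbelian.tensorObj U)]
    [((preadditiveCoyonedaObj U).mapHomotopyCategory (ComplexShape.up ℤ) ⋙ DerivedCategory.Qh).HasRightDerivedFunctor
      (HomotopyCategory.quasiIso C (ComplexShape.up ℤ))] :
    let RG := ((preadditiveCoyonedaObj U).mapHomotopyCategory (ComplexShape.up ℤ) ⋙ DerivedCategory.Qh).totalRightDerived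
      DerivedCategory.Qh (HomotopyCategory.quasiIso C (ComplexShape.up ℤ))
    let LF := (IsGrothendieckAbelian.tensorObj U).mapDerivedCategory
    Nonempty (LF ⊣ RG) ∧ RG.Full ∧ RG.Faithful ∧
      Nonempty (RG ⋙ LF ≅ 𝟭 (DerivedCategory C)) := by
  intro RG LF
  have hA : Groth.DerivedAdj.EnoughKInj C := fun K => by
    obtain ⟨I, i, -, h1, h2, -⟩ := Groth.DerivedCoh.KInjRes.exists_resolution K
    exact ⟨I, i, h2, h1⟩
  let G := preadditiveCoyonedaObj U
  let F := IsGrothendieckAbelian.tensorObj U
  let adj : F ⊣ G := IsGrothendieckAbelian.tensorObjPreadditiveCoyonedaObjAdjunction U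
  haveI : G.Full := IsGrothendieckAbelian.GabrielPopescu.full U hU
  haveI : G.Faithful := (isSeparator_iff_faithful_preadditiveCoyonedaObj U).1 hU
  haveI : IsIso adj.counit := inferInstance
  let adjK := Groth.DerivedAdj.mapHomotopyCategoryAdj adj (ComplexShape.up ℤ)
  haveI hK : ∀ K, IsIso (adjK.counit.app K) := fun K => by
    change IsIso ((HomotopyCategory.quotient C (ComplexShape.up ℤ)).map _)
    refine @Functor.map_isIso _ _ _ _ _ _ _ _ ?_
    exact @HomologicalComplex.Hom.isIso_of_components _ _ _ _ _ _ _ _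
      (fun i => (inferInstance : IsIso (adj.counit.app (K.as.X i))))
  haveI : IsIso adjK.counit := NatIso.isIso_of_isIso_app _
  let e := F.mapDerivedCategoryFactorsh
  let β := (G.mapHomotopyCategory (ComplexShape.up ℤ) ⋙ DerivedCategory.Qh).totalRightDerivedUnit
    DerivedCategory.Qh (HomotopyCategory.quasiIso C (ComplexShape.up ℤ))
  haveI := Groth.DerivedAdj.isRightDerivedFunctor_comp (HomotopyCategory.quasiIso C (ComplexShape.up ℤ))
    RG β (Groth.DerivedAdj.exists_good hA) LF
  let i₁ : (G.mapHomotopyCategory (ComplexShape.up ℤ) ⋙ DerivedCategory.Qh) ⋙ LF ≅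
      DerivedCategory.Qh ⋙ 𝟭 (DerivedCategory C) :=
    Functor.associator _ _ _ ≪≫ Functor.isoWhiskerLeft (G.mapHomotopyCategory (ComplexShape.up ℤ)) e ≪≫
      (Functor.associator _ _ _).symm ≪≫ Functor.isoWhiskerRight (asIso adjK.counit) DerivedCategory.Qh ≪≫
      Functor.leftUnitor _ ≪≫ (Functor.rightUnitor _).symm
  haveI : (𝟭 (DerivedCategory C)).IsRightDerivedFunctor i₁.hom
      (HomotopyCategory.quasiIso C (ComplexShape.up ℤ)) :=
    Functor.isRightDerivedFunctor_of_inverts _ _ i₁.symm
  let ε : RG ⋙ LF ≅ 𝟭 (DerivedCategory C) := Functor.rightDerivedUnique (RG ⋙ LF) (𝟭 _)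
    (Functor.whiskerRight β LF ≫ (Functor.associator _ _ _).hom) i₁.hom
    (HomotopyCategory.quasiIso C (ComplexShape.up ℤ))
  let adjD : LF ⊣ RG := Groth.DerivedAdj.derivedAdj adj hA
  haveI : IsIso adjD.counit := adjD.isIso_counit_of_iso ε
  exact ⟨⟨adjD⟩, adjD.fullyFaithfulROfIsIsoCounit.full, adjD.fullyFaithfulROfIsIsoCounit.faithful, ⟨ε⟩⟩

end Groth.Agent.S12232
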