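import Groth.Statements.S9824
import Mathlib
import Groth.Agent.PropsBasic.LocFreeRank

set_option autoImplicit false
universe u
open CategoryTheory CategoryTheory.Limits AlgebraicGeometry TopologicalSpace Opposite
open Props

namespace Groth.Agent.S9824

/-- Over a reduced scheme, a quasi-coherent module is finite locally free if and only if it is of finite
type and its fibre rank (the dimension of the stalk tensored with the residue field) is a locally
constant function. -/
theorem result (X : Scheme.{u}) [IsReduced X]
    (M : X.Modules) [Coh.IsQCoh M] :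
    FlatMod.IsFinLocFree M ↔ CohB1.IsFT M ∧
      IsLocallyConstant (fun x : X => Module.finrank (IsLocalRing.ResidueField (X.presheaf.stalk x))
          (TensorProduct (X.presheaf.stalk x) (IsLocalRing.ResidueField (X.presheaf.stalk x)) (M.presheaf.stalk x))) := by
  haveI : M.IsQuasicoherent := ‹Coh.IsQCoh M›
  refine ⟨fun h => ⟨Groth.PropsBasic.LocFree.isFT_of_isFP M (Groth.PropsBasic.LocFree.isFP_of_isFinLocFree M h),
    Groth.PropsBasic.LocFree.isLocallyConstant_fibreRank M h⟩, fun ⟨hft, hlc⟩ x => ?_⟩
  obtain ⟨V, hVo, hxV, hV⟩ := hlc.exists_open x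
  obtain ⟨U, hU, hxU, hUV⟩ := TopologicalSpace.Opens.isBasis_iff_nbhd.mp X.isBasis_affineOpens
    (show x ∈ (⟨V, hVo⟩ : X.Opens) from hxV)
  haveI := Groth.PropsBasic.LocFree.flat_sections_of_isReduced M hft hU _ fun y hy => hV y (hUV hy)
  exact Groth.PropsBasic.LocFree.exists_free_nhd_of_flat M hft hU x hxU fun y hy => hV y (hUV hy)

end Groth.Agent.S9824
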