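import Groth.Statements.S1055
import Groth.Agent.DerivedCoh.KFlat.LpullComp
import Groth.Agent.KTheory.BaseCmpKFlat
import Groth.Agent.DAlg.KFlatOps
import Groth.Agent.DAlg.LeftDerived
import Groth.Agent.PropsBasic2.TildePullback
import Groth.Agent.S1121

set_option autoImplicit false
universe u
open CategoryTheory CategoryTheory.Limits AlgebraicGeometry Opposite
attribute [local instance] HasDerivedCategory.standard
open Perf

namespace Groth.Agent.S1055

open Groth.DerivedCoh.KFlat (L₀ pullCx flatResolution flatResolutionAug)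
open Groth.DAlg.KFlatMod (resFunctor resAug)

local notation "up" => ComplexShape.up ℤ

theorem tilde_additive (R : CommRingCat.{u}) : (tilde.functor R).Additive := inferInstance

theorem tilde_preservesFiniteColimits (R : CommRingCat.{u}) :
    PreservesFiniteColimits (tilde.functor R) :=
  have := (tilde.adjunction (R := R)).leftAdjoint_preservesColimits
  inferInstance

instance (R : Type u) [CommRing R] : (tilde.functor (CommRingCat.of R)).Additive :=
  tilde_additive _

instance (R : Type u) [CommRing R] :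
    PreservesFiniteColimits (tilde.functor (CommRingCat.of R)) :=
  tilde_preservesFiniteColimits _

/-- Termwise tilde. -/
noncomputable abbrev tildeCx (R : CommRingCat.{u}) :
    DRing.Cx R ⥤ CochainComplex (Spec (CommRingCat.of R)).Modules ℤ :=
  (tilde.functor R).mapHomologicalComplex up

variable {A B : Type u} [CommRing A] [CommRing B] (φ : A →+* B)

theorem isKFlat_tilde (K : DRing.Cx A) :
    DCoh.IsKFlat ((tildeCx (CommRingCat.of A)).obj ((resFunctor A).obj K)) :=
  Groth.Agent.S1121.result (CommRingCat.of A) _ (Groth.DAlg.KFlatMod.res_isKFlat K)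

theorem isIso_Q_res (K : DRing.Cx A) : IsIso (DerivedCategory.Q.map ((resAug A).app K)) :=
  (DerivedCategory.isIso_Q_map_iff_quasiIso _ _).2 (Groth.DAlg.KFlatMod.resAug_quasiIso K)

/-- Any functor on `D(A)` is computed on resolutions. -/
noncomputable def resIso {E : Type*} [Category* E] (G : Dual.D A ⥤ E) :
    resFunctor A ⋙ DerivedCategory.Q ⋙ G ≅ DerivedCategory.Q ⋙ G :=
  have h : ∀ K, IsIso ((Functor.whiskerRight (resAug A) (DerivedCategory.Q ⋙ G)).app K) := fun K => by
    have := isIso_Q_res K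
    exact inferInstanceAs (IsIso (G.map (DerivedCategory.Q.map _)))
  have := NatIso.isIso_of_isIso_app (Functor.whiskerRight (resAug A) (DerivedCategory.Q ⋙ G))
  asIso (Functor.whiskerRight (resAug A) (DerivedCategory.Q ⋙ G)) ≪≫ Functor.leftUnitor _

variable [PreservesFiniteLimits (tilde.functor (CommRingCat.of A))]
  [PreservesFiniteLimits (tilde.functor (CommRingCat.of B))]

/-- Derived base change followed by tilde, on resolutions. -/
noncomputable def leftIso [DRing.HasLBaseChange φ] :
    DerivedCategory.Q ⋙ DRing.LBaseChange φ ⋙ DCoh.tildeD (CommRingCat.of B) ≅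
      resFunctor A ⋙ DTen.extCx φ ⋙ tildeCx (CommRingCat.of B) ⋙ DerivedCategory.Q :=
  have : DTen.HasLBase φ := ⟨(Groth.DAlg.lBaseChangeAdj φ).isRightAdjoint⟩
  have h : ∀ K, IsIso ((Functor.whiskerLeft (resFunctor A) (DTen.baseCmp φ)).app K) := fun K =>
    Groth.BaseCmpKFlat.isIso_baseCmp_of_isKFlat φ _ (Groth.DAlg.KFlatMod.res_isKFlat K)
  have := NatIso.isIso_of_isIso_app (Functor.whiskerLeft (resFunctor A) (DTen.baseCmp φ))
  Functor.isoWhiskerLeft DerivedCategory.Q (Functor.isoWhiskerRight
      ((Groth.DAlg.lBaseChangeAdj φ).leftAdjointUniq (DTen.baseAdj φ))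
      (DCoh.tildeD (CommRingCat.of B))) ≪≫
    (resIso (DTen.LBase φ ⋙ DCoh.tildeD (CommRingCat.of B))).symm ≪≫
    Functor.isoWhiskerRight (asIso (Functor.whiskerLeft (resFunctor A) (DTen.baseCmp φ)))
      (DCoh.tildeD (CommRingCat.of B)) ≪≫
    Functor.isoWhiskerLeft (resFunctor A ⋙ DTen.extCx φ)
      (tilde.functor (CommRingCat.of B)).mapDerivedCategoryFactors

/-- Tilde followed by derived inverse image, on resolutions. -/
noncomputable def rightIso [DCoh.HasLpull (Spec.map (CommRingCat.ofHom φ))] :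
    DerivedCategory.Q ⋙ DCoh.tildeD (CommRingCat.of A) ⋙
        DCoh.Lpull (Spec.map (CommRingCat.ofHom φ)) ≅
      resFunctor A ⋙ tildeCx (CommRingCat.of A) ⋙ pullCx (Spec.map (CommRingCat.ofHom φ)) ⋙
        DerivedCategory.Q :=
  let f := Spec.map (CommRingCat.ofHom φ)
  let F := resFunctor A ⋙ tildeCx (CommRingCat.of A)
  have h : ∀ K, IsIso ((Functor.whiskerLeft F
      (Functor.whiskerRight (flatResolutionAug _) (pullCx f ⋙ L₀ _))).app K) := fun K => by
    have := Groth.DerivedCoh.KFlat.flatResolution_quasiIso (F.obj K)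
    have := Groth.DerivedCoh.KFlat.quasiIso_pullCx f
      (Groth.DerivedCoh.KFlat.flatResolution_isKFlat (F.obj K))
      ((Groth.DerivedCoh.KFlat.isKFlat_iff _).1 (isKFlat_tilde K)) ((flatResolutionAug _).app (F.obj K))
    exact Groth.DerivedCoh.KFlat.isIso_L₀_map ((pullCx f).map ((flatResolutionAug _).app (F.obj K)))
  have := NatIso.isIso_of_isIso_app (Functor.whiskerLeft F
      (Functor.whiskerRight (flatResolutionAug _) (pullCx f ⋙ L₀ _)))
  (resIso (DCoh.tildeD (CommRingCat.of A) ⋙ DCoh.Lpull f)).symm ≪≫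
    Functor.isoWhiskerLeft (resFunctor A) (Functor.isoWhiskerRight
      (tilde.functor (CommRingCat.of A)).mapDerivedCategoryFactors (DCoh.Lpull f)) ≪≫
    Functor.isoWhiskerLeft F (Functor.isoWhiskerRight
      (DerivedCategory.quotientCompQhIso _).symm (DCoh.Lpull f)) ≪≫
    Functor.isoWhiskerLeft F (Groth.DerivedCoh.KFlat.LpullResIso f) ≪≫
    asIso (Functor.whiskerLeft F
      (Functor.whiskerRight (flatResolutionAug _) (pullCx f ⋙ L₀ _))) ≪≫
    Functor.isoWhiskerLeft (F ⋙ pullCx f) (DerivedCategory.quotientCompQhIso _)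


/-- Let φ : A → B be a ring map and f : Spec B ⟶ Spec A the corresponding morphism. Assuming the derived
functors involved exist (and tilde is recorded as exact), derived base change - ⊗^L_A B : D(A) ⥤
D(B) followed by M ↦ M~ is isomorphic to M ↦ M~ followed by Lf^*. -/
theorem result {A B : Type u} [CommRing A] [CommRing B] (φ : A →+* B)
    [PreservesFiniteLimits (tilde.functor (CommRingCat.of A))] [PreservesFiniteLimits (tilde.functor (CommRingCat.of B))]
    [DRing.HasLBaseChange φ] [DCoh.HasLpull (Spec.map (CommRingCat.ofHom φ))] :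
    Nonempty (DRing.LBaseChange φ ⋙ DCoh.tildeD (CommRingCat.of B) ≅
      DCoh.tildeD (CommRingCat.of A) ⋙ DCoh.Lpull (Spec.map (CommRingCat.ofHom φ))) := by
  let T : DTen.extCx φ ⋙ tildeCx (CommRingCat.of B) ≅
      tildeCx (CommRingCat.of A) ⋙ pullCx (Spec.map (CommRingCat.ofHom φ)) :=
    NatIso.mapHomologicalComplex
      (Groth.PropsBasic2.TildePullback.iso (CommRingCat.ofHom φ)).symm (ComplexShape.up ℤ)
  exact ⟨Localization.liftNatIso DerivedCategory.Q
    (HomologicalComplex.quasiIso (ModuleCat.{u} A) (ComplexShape.up ℤ))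
    (DerivedCategory.Q ⋙ DRing.LBaseChange φ ⋙ DCoh.tildeD (CommRingCat.of B))
    (DerivedCategory.Q ⋙ DCoh.tildeD (CommRingCat.of A) ⋙
      DCoh.Lpull (Spec.map (CommRingCat.ofHom φ))) _ _
    (leftIso φ ≪≫ Functor.isoWhiskerLeft (Groth.DAlg.KFlatMod.resFunctor A)
      (Functor.isoWhiskerRight T DerivedCategory.Q) ≪≫ (rightIso φ).symm)⟩

end Groth.Agent.S1055
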