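import Groth.Statements.S7075
import Groth.Agent.DAlg.TorAmp
import Groth.Agent.DAlg.BaseChange
import Groth.Agent.DAlg.PushoutRestrict
import Mathlib.RingTheory.Flat.Tensor

set_option autoImplicit false
universe u
attribute [local instance] HasDerivedCategory.standard
open TensorProduct
open Dual2

open CategoryTheory CategoryTheory.Limits HomologicalComplex Groth.DAlg

attribute [local instance] Algebra.TensorProduct.rightAlgebra

namespace Groth.Agent.S7075

theorem aux (R A R' : Type u) [CommRing R] [CommRing A] [Algebra R A] [CommRing R'] [Algebra R R']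
    [Module.Flat R A] [DRing.HasLBaseChange (algebraMap A (R' ⊗[R] A))] (K : Dual.D A)
    (hK : Dual2.IsRelPerfect R A K) :
    Dual2.IsRelPerfect R' (R' ⊗[R] A) ((DRing.LBaseChange (algebraMap A (R' ⊗[R] A))).obj K) := by
  obtain ⟨hpc, a, b, htd⟩ := hK
  haveI : Algebra.IsPushout R R' A (R' ⊗[R] A) := inferInstance
  obtain ⟨G, g, hG, hGF, ⟨eG⟩⟩ := hpc
  have hflat : DRing.TermwiseFlat G := fun i => haveI := (hGF i).2; inferInstance
  obtain ⟨e'⟩ := nonempty_lBaseChangeFlatIso (algebraMap A (R' ⊗[R] A)) G hG hflat
  let e : (DRing.LBaseChange (algebraMap A (R' ⊗[R] A))).obj K ≅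
      DRing.toD (extCx (algebraMap A (R' ⊗[R] A)) G) :=
    (DRing.LBaseChange _).mapIso eG.symm ≪≫ e'
  refine ⟨⟨extCx (algebraMap A (R' ⊗[R] A)) G, g,
    fun i hi => (ModuleCat.extendScalars _).map_isZero (hG i hi), fun i => ?_, ⟨e.symm⟩⟩, a, b, ?_⟩
  · haveI := (hGF i).1
    haveI := (hGF i).2
    let l := (FlatCxBase.extendEquiv (R' ⊗[R] A) (G.X i)).symm
    exact ⟨Module.Finite.equiv l, Module.Free.of_equiv l⟩
  · haveI := hasLBaseChange (algebraMap R R')
    let X := (DRing.restrictCx (algebraMap R A)).obj G
    have hXb : DRing.VanishesAbove X g := fun i hi => (ModuleCat.restrictScalars _).map_isZero (hG i hi)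
    have hXf : DRing.TermwiseFlat X := fun i => by
      haveI := hflat i
      letI : Module R (G.X i) := Module.compHom (G.X i) (algebraMap R A)
      haveI : IsScalarTower R A (G.X i) := IsScalarTower.of_algebraMap_smul fun _ _ => rfl
      exact Module.Flat.trans R A (G.X i)
    obtain ⟨eX⟩ := nonempty_lBaseChangeFlatIso (algebraMap R R') X hXb hXf
    have h := TorAmp.baseChange (algebraMap R R')
      (TorAmp.of_iso htd ((DRing.restrictD (algebraMap R A)).mapIso eG.symm ≪≫ resQIso _ G))
    exact TorAmp.of_iso h (eX ≪≫ DerivedCategory.Q.mapIso (resExtCxIso G) ≪≫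
      (resQIso _ _).symm ≪≫ (DRing.restrictD _).mapIso e.symm)

/-- Let R → A be a flat homomorphism of finite presentation of commutative rings, R → R' any ring map
and A' = R' ⊗_R A. If K in D(A) is R-perfect then its derived base change K ⊗^L_A A' (the total left
derived functor of extension of scalars, assumed to exist) is R'-perfect in D(A'). -/
theorem result (R A R' : Type u) [CommRing R] [CommRing A] [Algebra R A] [CommRing R'] [Algebra R R']
    [Module.Flat R A] [Algebra.FinitePresentation R A]
    [DRing.HasLBaseChange (Algebra.TensorProduct.includeRight.toRingHom : A →+* R' ⊗[R] A)]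
    (K : Dual.D A) (hK : Dual2.IsRelPerfect R A K) :
    Dual2.IsRelPerfect R' (R' ⊗[R] A)
      ((DRing.LBaseChange (Algebra.TensorProduct.includeRight.toRingHom : A →+* R' ⊗[R] A)).obj K) := by
  haveI := hasLBaseChange (algebraMap A (R' ⊗[R] A))
  exact aux R A R' K hK

end Groth.Agent.S7075
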