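import Groth.Statements.S7240
import Groth.Agent.DerivedCoh.PCoh.Basic
import Groth.Agent.PropsBasic.LocFree
import Groth.Agent.QCohMod.Local
import Groth.Agent.KoszShLib.TwistDiv

set_option autoImplicit false
universe u
open CategoryTheory CategoryTheory.Limits AlgebraicGeometry
attribute [local instance] HasDerivedCategory.standard
open Perf

namespace Groth.Agent.S7240

/-- Let X be a scheme, m an integer and E an m-pseudo-coherent object of D(O_X). Then the cohomology
sheaf Hⁱ(E) is quasi-coherent for every i > m, and Hᵐ(E) is, locally on X, a quotient of a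
quasi-coherent module: every point of X has an open neighbourhood V and a quasi-coherent O_V-module
mapping onto Hᵐ(E)|_V. (The published statement says that Hᵐ(E) is a quotient of a quasi-coherent
O_X-module; its proof gives this only locally on X, which is what this row states, and the global
form fails: on the affine plane over ℚ, the direct image of an invertible module over the inverse
image of O_X on a triangle of three lines, twisted by the constant 2 around the cycle, is an
O_X-module of finite type with no nonzero global section, so it is not a quotient of any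
quasi-coherent module.) -/
theorem result {X : Scheme.{u}} (m : ℤ) (E : DCoh.D X)
    (hE : DCoh.IsPseudoCoherentD m E) :
    (∀ i : ℤ, m < i → Coh.IsQCoh (DCoh.HD E i)) ∧
      ∀ x : X, ∃ (V : X.Opens) (Q : (V : Scheme.{u}).Modules)
        (π : Q ⟶ (Scheme.Modules.restrictFunctor V.ι).obj (DCoh.HD E m)), x ∈ V ∧ Coh.IsQCoh Q ∧ Epi π := by
  open Groth.KTheory.Perf Groth.DerivedCoh.PCoh in
  have hq : ∀ {V : X.Opens} (P : CochainComplex (V : Scheme.{u}).Modules ℤ), DCoh.IsStrictlyPerfect P →
      ∀ i, (P.homology i).IsQuasicoherent := by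
    intro V P hP i
    haveI : ∀ j, (P.X j).IsQuasicoherent := fun j =>
      Groth.PropsBasic.LocFree.isQuasicoherent_of_isFinLocFree _ (hP.2 j)
    haveI : (P.cycles i).IsQuasicoherent := Groth.QCohMod.isQCoh_of_mono_exact
      (S := ShortComplex.mk (P.iCycles i) (P.d i (i + 1)) (P.iCycles_d _ _))
      (ShortComplex.exact_of_f_is_kernel _ (P.cyclesIsKernel i (i + 1) (by simp)))
    exact Groth.QCohMod.isQCoh_of_epi_exact
      (S := ShortComplex.mk (P.toCycles (i - 1) i) (P.homologyπ i) (P.toCycles_comp_homologyπ _ _))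
      (ShortComplex.exact_of_g_is_cokernel _ (P.homologyIsCokernel (i - 1) i (by simp)))
  have key : ∀ x : X, ∃ (V : X.Opens) (P : CochainComplex (V : Scheme.{u}).Modules ℤ)
      (β : ∀ i, P.homology i ⟶ (DCoh.HD E i).restrict V.ι), x ∈ V ∧ DCoh.IsStrictlyPerfect P ∧
        (∀ i, m < i → IsIso (β i)) ∧ Epi (β m) := by
    intro x
    obtain ⟨V, hx, P, α, hP, hα⟩ := (isPseudoCoherentD_iff m E).1 hE x
    have h1 := fun i => ((DerivedCategory.homologyFunctorFactors (V : Scheme.{u}).Modules i).app P).isIso_inv
    refine ⟨V, P, fun i => ((DerivedCategory.homologyFunctorFactors _ i).app P).inv ≫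
      (DerivedCategory.homologyFunctor _ i).map α ≫ (nonempty_hdRd V.ι E i).some.hom, hx, hP,
      fun i hi => IsIso.comp_isIso' (h1 i) (IsIso.comp_isIso' (hα.1 i hi) inferInstance),
      epi_comp' (@IsIso.epi_of_iso _ _ _ _ _ (h1 m)) (epi_comp' hα.2 inferInstance)⟩
  refine ⟨fun i hi => Groth.QCohMod.isQCoh_of_forall_exists _ fun x => ?_, fun x => ?_⟩
  · obtain ⟨V, P, β, hx, hP, hβ, -⟩ := key x
    haveI := hβ i hi
    exact ⟨V, hx, (SheafOfModules.isQuasicoherent (R := (V : Scheme.{u}).ringCatSheaf)).prop_of_iso (@asIso _ _ _ _ (β i) (hβ i hi)) (hq P hP i)⟩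
  · obtain ⟨V, P, β, hx, hP, -, hβ⟩ := key x
    exact ⟨V, P.homology m, β m, hx, hq P hP m, hβ⟩

end Groth.Agent.S7240
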