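import Groth.Statements.S7264
import Groth.Agent.DerivedCoh.RelAmpTilde
import Groth.Agent.DerivedCoh.TildeD.Iff
import Groth.Agent.DAlg.Classes


set_option autoImplicit false
universe u
open CategoryTheory CategoryTheory.Limits AlgebraicGeometry
attribute [local instance] HasDerivedCategory.standard
open Perf

namespace Groth.Agent.S7264

/-- (1) ⇔ (2) in the affine case to which the proof reduces: let R → A be flat and of finite
presentation, f : X = Spec A ⟶ S = Spec R, M ∈ D(A) and E = M~ ∈ D(O_X) (tilde recorded as exact),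
so that RΓ(X, E) = M. Then E is S-perfect (pseudo-coherent, and locally on X represented by a
bounded complex of O_X-modules flat over S) if and only if M is R-perfect (pseudo-coherent as a
complex of A-modules and of finite tor dimension as a complex of R-modules). -/
theorem result (R A : Type u) [CommRing R] [CommRing A] [Algebra R A]
    [Module.Flat R A] [Algebra.FinitePresentation R A]
    [PreservesFiniteLimits (tilde.functor (CommRingCat.of A))] (M : Dual.D A) :
    ((∀ m : ℤ, DCoh.IsPseudoCoherentD m ((DCoh.tildeD (CommRingCat.of A)).obj M)) ∧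
      DCoh.LocHasFiniteRelTorDim (Spec.map (CommRingCat.ofHom (algebraMap R A))) ((DCoh.tildeD (CommRingCat.of A)).obj M)) ↔
    Dual2.IsRelPerfect R A M := by
  open Groth.DerivedCoh in
  haveI : Flat (Spec.map (CommRingCat.ofHom (algebraMap R A))) :=
    (HasRingHomProperty.Spec_iff (P := @Flat)).2 (RingHom.flat_algebraMap_iff.2 inferInstance)
  let f := Spec.map (CommRingCat.ofHom (algebraMap R A))
  obtain ⟨F, ⟨e⟩⟩ := Groth.KTheory.Perf.exists_rep ((DCoh.tildeD (CommRingCat.of A)).obj M)
  have hpc : (∀ m : ℤ, DCoh.IsPseudoCoherentD m ((DCoh.tildeD (CommRingCat.of A)).obj M)) ↔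
      DRing.IsPseudoCoherent' A M := by
    rw [Groth.DAlg.isPseudoCoherent'_iff_forall]
    exact forall_congr' fun m => TildeD.isPseudoCoherentD_tildeD_iff M m
  refine and_congr hpc ?_
  rw [RelAmp.locHasFiniteRelTorDim_iff]
  constructor
  · intro h
    choose V a b hxV hV using h
    obtain ⟨t, ht⟩ := isCompact_univ.elim_finite_subcover
      (fun x => (V x : Set (Spec (CommRingCat.of A)))) (fun x => (V x).2)
      (fun x _ => Set.mem_iUnion.2 ⟨x, hxV x⟩)
    obtain ⟨lo, hlo⟩ := (t.image a).bddBelow
    obtain ⟨hi, hhi⟩ := (t.image b).bddAbove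
    refine ⟨lo, hi, (RelAmpTilde.hasTorAmplitude_tildeD_iff (algebraMap R A) M F e lo hi).1 fun y => ?_⟩
    obtain ⟨x, hx, hy⟩ := Set.mem_iUnion₂.1 (ht (Set.mem_univ y))
    exact (RelAmp.ampAt_toD_iff F lo hi y).1 (((hV x y hy).mono
      (hlo (Finset.mem_coe.2 (Finset.mem_image_of_mem a hx)))
      (hhi (Finset.mem_coe.2 (Finset.mem_image_of_mem b hx)))).of_iso e.symm)
  · rintro ⟨lo, hi, h⟩ x
    exact ⟨⊤, lo, hi, trivial, fun y _ => ((RelAmp.ampAt_toD_iff F lo hi y).2
      ((RelAmpTilde.hasTorAmplitude_tildeD_iff (algebraMap R A) M F e lo hi).2 h y)).of_iso e⟩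

end Groth.Agent.S7264
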