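import Groth.Statements.S7094
import Groth.Agent.DAlg.RelPerfectBC
import Groth.Agent.DAlg.RelPerfectPoly
import Groth.Agent.DAlg.FreeLocusAmp
import Groth.Agent.PCohHom.Hom

set_option autoImplicit false
universe u
attribute [local instance] HasDerivedCategory.standard
open CategoryTheory
open Dual2

open CategoryTheory.Limits HomologicalComplex Groth.DAlg

namespace Groth.Agent.S7094

/-- Let R → A be a flat homomorphism of finite presentation of commutative rings and K a pseudo-coherent
object of D(A). Then K is R-perfect if and only if H^i(K) = 0 for all sufficiently negative i and,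
for each prime p of R, H^i(K ⊗^L_R κ(p)) = 0 for all sufficiently negative i; here K is viewed in
D(R) by restriction of scalars and the derived tensor product with the residue field κ(p) is the
total left derived functor, assumed to exist. -/
theorem result (R A : Type u) [CommRing R] [CommRing A] [Algebra R A]
    [Module.Flat R A] [Algebra.FinitePresentation R A]
    [∀ p : PrimeSpectrum R, DRing.HasLTensor R (ModuleCat.of R p.asIdeal.ResidueField)]
    (K : Dual.D A) (hK : DRing.IsPseudoCoherent' A K) :
    Dual2.IsRelPerfect R A K ↔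
      (∃ a : ℤ, ∀ i : ℤ, i < a → Subsingleton (Dual.HD A K i)) ∧
        ∀ p : PrimeSpectrum R, ∃ a : ℤ, ∀ i : ℤ, i < a →
          Subsingleton (Dual.HD R ((DRing.LTensor R (ModuleCat.of R p.asIdeal.ResidueField)).obj
            ((DRing.restrictD (algebraMap R A)).obj K)) i) := by
  constructor
  · rintro ⟨-, a, b, h⟩
    haveI : ∀ M : ModuleCat.{u} R, DRing.HasLTensor R M := hasLTensor
    exact ⟨⟨a, fun i hi => (resHD_subsingleton_iff _ K i).1 (TorAmp.subsingleton_HD h (Or.inl hi))⟩,
      fun p => ⟨a, fun i hi => (hasTorAmplitudeIn_iff _ a b).1 h _ i (Or.inl hi)⟩⟩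
  rintro ⟨⟨a₀, h₀⟩, hp⟩
  refine ⟨hK, ?_⟩
  obtain ⟨d, ψ, hψ⟩ := Algebra.FiniteType.iff_quotient_mvPolynomial''.1
    (inferInstance : Algebra.FiniteType R A)
  letI : Algebra (MvPolynomial (Fin d) R) A := ψ.toRingHom.toAlgebra
  haveI : IsScalarTower R (MvPolynomial (Fin d) R) A :=
    IsScalarTower.of_algebraMap_eq fun r => (ψ.commutes r).symm
  have hA : PCMap (algebraMap (MvPolynomial (Fin d) R) A) := pcMap_algebraMap_iff.2
    (PCohHom.pcAlong_algebraMap.1 ((PCohHom.pcHom_iff ψ hψ).1 (PCohHom.pcHom_of_flat_finitePresentation R A)))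
  obtain ⟨F, B, hB, hFF, ⟨e⟩⟩ : DRing.IsPseudoCoherent' (MvPolynomial (Fin d) R)
      ((DRing.restrictD (algebraMap (MvPolynomial (Fin d) R) A)).obj K) :=
    isPseudoCoherent'_iff_isPC.2 fun n => hA.res (isPseudoCoherent'_iff_isPC.1 hK n)
  have hF : DRing.TermwiseFiniteProjective F := fun i => ⟨(hFF i).1, haveI := (hFF i).2; inferInstance⟩
  have hflat := termwiseFlat_of_finProj F hF
  have hz : ∀ i < a₀, IsZero (F.homology i) := fun i hi => isZero_homology_of_subsingleton (by
    haveI := (resHD_subsingleton_iff (algebraMap (MvPolynomial (Fin d) R) A) K i).2 (h₀ i hi)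
    exact (HDCongr e i).toEquiv.subsingleton)
  obtain ⟨ec⟩ := nonempty_res_comp (algebraMap R (MvPolynomial (Fin d) R))
    (algebraMap (MvPolynomial (Fin d) R) A) K
  rw [← IsScalarTower.algebraMap_eq R (MvPolynomial (Fin d) R) A] at ec
  let eR : DRing.toD ((DRing.restrictCx (algebraMap R (MvPolynomial (Fin d) R))).obj F) ≅
      (DRing.restrictD (algebraMap R A)).obj K :=
    (resQIso _ F).symm ≪≫ (DRing.restrictD (algebraMap R (MvPolynomial (Fin d) R))).mapIso e ≪≫ ec
  have hXb : DRing.VanishesAbove ((DRing.restrictCx (algebraMap R (MvPolynomial (Fin d) R))).obj F) B :=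
    fun i hi => (ModuleCat.restrictScalars _).map_isZero (hB i hi)
  obtain ⟨a, ha⟩ := exists_torAmp_of_forall_prime F hB hF a₀ hz fun y => by
    let p : PrimeSpectrum R := PrimeSpectrum.comap (algebraMap R _) y
    letI : Algebra (Localization.AtPrime p.asIdeal) (Localization.AtPrime y.asIdeal) :=
      (Localization.localRingHom p.asIdeal y.asIdeal (algebraMap R _) rfl).toAlgebra
    haveI : IsScalarTower R (Localization.AtPrime p.asIdeal) (Localization.AtPrime y.asIdeal) :=
      IsScalarTower.of_algebraMap_eq fun r => by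
        rw [RingHom.algebraMap_toAlgebra, Localization.localRingHom_to_map,
          ← IsScalarTower.algebraMap_apply R (MvPolynomial (Fin d) R) (Localization.AtPrime y.asIdeal)]
    obtain ⟨c, hc⟩ := hp p
    refine ⟨c - d, torAmp_atPrime_of_fibre p.asIdeal y.asIdeal rfl F hB hF c B fun i hi => ?_⟩
    rcases hi with hi | hi
    · obtain ⟨et⟩ := nonempty_lTensorFlatIso _ hXb (termwiseFlat_restrictCx hflat)
        (ModuleCat.of R p.asIdeal.ResidueField)
      haveI := hc i hi
      exact isZero_homology_of_subsingleton (HDCongr (et.symm ≪≫ (DRing.LTensor R _).mapIso eR) i).toEquiv.subsingleton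
    · exact isZero_homology_of_isZero_X (isZero_tensorCx_X (hXb i hi) _)
  have hflatP : DRing.HasTorAmplitudeIn R (-((0 : ℕ) : ℤ)) 0 (mD (ModuleCat.of R (MvPolynomial (Fin d) R))) := by
    simpa using torAmp_mD_of_flat (ModuleCat.of R (MvPolynomial (Fin d) R))
  exact ⟨a - ((0 : ℕ) : ℤ), B, TorAmp.of_iso (TorAmp.restrict hflatP (TorAmp.of_iso ha e)) ec⟩

end Groth.Agent.S7094
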