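import Groth.Statements.S0754
import Groth.Agent.HensPair.IndEtale
import Groth.Agent.EtaleDeep.IndEt.Etale
import Groth.Agent.FlatMor2.WeaklyEtaleStalk

set_option autoImplicit false
open CategoryTheory CategoryTheory.Limits AlgebraicGeometry Opposite
universe u
open ProEtS

namespace Groth.Agent.S0754

/-- For a point x of a scheme X and a strict henselization R of the local ring of X at x, the canonical
morphism Spec R -> X is weakly etale, so that Spec R is an object of the small pro-etale site of X. -/
theorem result (X : Scheme.{u}) (x : ↥X) (R : Type u) [CommRing R]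
    [IsLocalRing R] [Algebra (X.presheaf.stalk x) R] [IsLocalHom (algebraMap (X.presheaf.stalk x) R)]
    [Hensel.IsStrictHenselization (X.presheaf.stalk x) R] :
    WeaklyEtale (Hens2.specOf X x R) := by
  obtain ⟨U, hU, hx, -⟩ := TopologicalSpace.Opens.isBasis_iff_nbhd.1 X.isBasis_affineOpens
    (TopologicalSpace.Opens.mem_top x)
  have hR : Algebra.WeaklyEtale (X.presheaf.stalk x) R :=
    Groth.EtaleDeep.IndEt.weaklyEtale (Groth.HensPair.isIndEtale_of_hensModel
      (Groth.Hensel1.hensModel_of_isStrictHenselization (R := X.presheaf.stalk x) (S := R)).some)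
  have h1 : WeaklyEtale (Spec.map (CommRingCat.ofHom (algebraMap (X.presheaf.stalk x) R))) :=
    (Groth.FlatMor2.weaklyEtale_SpecMap_iff _).2 (Groth.FlatMor2.isWeaklyEtaleHom_iff.2 hR)
  have h2 : WeaklyEtale (X.fromSpecStalk x) := by
    rw [← IsAffineOpen.fromSpecStalk_eq_fromSpecStalk hU hx]
    have : WeaklyEtale (Spec.map (X.presheaf.germ U x hx)) := by
      letI := TopCat.Presheaf.algebra_section_stalk X.presheaf (⟨x, hx⟩ : ↥U)
      have := IsAffineOpen.isLocalization_stalk hU ⟨x, hx⟩
      exact (Groth.FlatMor2.weaklyEtale_SpecMap_iff _).2 (Groth.FlatMor2.isWeaklyEtaleHom_iff.2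
        (Groth.FlatMor2.weaklyEtale_localization
          (IsAffineOpen.primeIdealOf hU ⟨x, hx⟩).asIdeal.primeCompl))
    exact inferInstanceAs (WeaklyEtale (Spec.map _ ≫ _))
  exact inferInstanceAs (WeaklyEtale (_ ≫ _))

end Groth.Agent.S0754
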