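import Groth.Statements.S1974
import Groth.Agent.EtaleAlgebra.WeaklyEtaleField
import Mathlib.FieldTheory.SeparableClosure
-- import your own Groth.Agent.* helpers here

set_option autoImplicit false
universe u
open EtAlg

namespace Groth.Agent.S1974

/-- Let A -> B be weakly etale and q a prime of B lying over the prime p of A. Then the residue field of
q is a separable algebraic extension of the residue field of p. -/
theorem result (A B : Type u) [CommRing A] [CommRing B] [Algebra A B]
    [Algebra.WeaklyEtale A B] (p : Ideal A) [p.IsPrime] (q : Ideal B) [q.IsPrime] [q.LiesOver p]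
    [Algebra (Localization.AtPrime p) (Localization.AtPrime q)] [Localization.AtPrime.IsLiesOverAlgebra p q] :
    Algebra.IsSeparable p.ResidueField q.ResidueField := by
  open scoped TensorProduct in
  let φ : p.ResidueField ⊗[A] B →ₐ[p.ResidueField] q.ResidueField :=
    Algebra.TensorProduct.lift (Algebra.ofId _ _) (IsScalarTower.toAlgHom A B q.ResidueField) fun _ _ => .all _ _
  have hsep : ∀ z, IsSeparable p.ResidueField (φ z) := fun z => by
    obtain ⟨f, hf, hz⟩ := (Groth.EtaleAlgebra.isSepElem_of_weaklyEtale (K := p.ResidueField) z).map φ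
    exact hf.of_dvd (minpoly.dvd _ _ hz)
  have hB : ∀ b : B, algebraMap B q.ResidueField b ∈ separableClosure p.ResidueField q.ResidueField := fun b => by
    rw [mem_separableClosure_iff]
    simpa [φ] using hsep (1 ⊗ₜ b)
  refine ⟨fun z => ?_⟩
  obtain ⟨a, s, hs, rfl⟩ := IsFractionRing.div_surjective (B ⧸ q) z
  obtain ⟨a, rfl⟩ := Ideal.Quotient.mk_surjective a
  obtain ⟨s, rfl⟩ := Ideal.Quotient.mk_surjective s
  rw [← mem_separableClosure_iff]
  exact IntermediateField.div_mem _ (hB a) (hB s)

end Groth.Agent.S1974
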