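import Groth.Statements.S9262
import Groth.Agent.Hensel1.Normal
import Groth.Agent.Hensel1.Regular
import Mathlib.RingTheory.DiscreteValuationRing.TFAE
import Mathlib.Algebra.Module.SpanRankOperations

set_option autoImplicit false
universe u
open Hensel

namespace Groth.Agent.S9262

/-- Let R be a Noetherian local ring with henselization S and strict henselization T. Then R is a
discrete valuation ring exactly when S is one, and exactly when T is one. -/
theorem result (R S T : Type u)
    [CommRing R] [IsLocalRing R] [IsNoetherianRing R] [CommRing S] [IsLocalRing S] [Algebra R S]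
    [IsLocalHom (algebraMap R S)] [Hensel.IsHenselization R S] [CommRing T] [IsLocalRing T]
    [Algebra R T] [IsLocalHom (algebraMap R T)] [Hensel.IsStrictHenselization R T] :
    ((∃ _ : IsDomain R, IsDiscreteValuationRing R) ↔ (∃ _ : IsDomain S, IsDiscreteValuationRing S)) ∧
      ((∃ _ : IsDomain R, IsDiscreteValuationRing R) ↔
        (∃ _ : IsDomain T, IsDiscreteValuationRing T)) := by
  obtain ⟨M⟩ := Groth.Hensel1.hensModel_of_isHenselization (R := R) (S := S)
  obtain ⟨N⟩ := Groth.Hensel1.hensModel_of_isStrictHenselization (R := R) (S := T)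
  have key : ∀ (A : Type u) [CommRing A] [IsLocalRing A] [IsNoetherianRing A],
      (∃ _ : IsDomain A, IsDiscreteValuationRing A) ↔
        (IsDomain A ∧ IsIntegrallyClosed A) ∧ (IsLocalRing.maximalIdeal A).spanFinrank = 1 := by
    intro A _ _ _
    rw [IsLocalRing.spanFinrank_maximalIdeal_eq_finrank_cotangentSpace]
    constructor
    · rintro ⟨_, _⟩
      exact ⟨⟨inferInstance, inferInstance⟩,
        IsLocalRing.finrank_CotangentSpace_eq_one_iff.mpr inferInstance⟩
    · rintro ⟨⟨_, _⟩, h⟩
      exact ⟨inferInstance, IsLocalRing.finrank_CotangentSpace_eq_one_iff.mp h⟩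
  have := M.isNoetherianRing_iff.mp inferInstance
  have := N.isNoetherianRing_iff.mp inferInstance
  have := M.flat
  have := N.flat
  rw [key R, key S, key T, M.normal_iff,
    Groth.Hensel1.spanFinrank_maximalIdeal_eq_of_flat M.map_maximalIdeal,
    Groth.Hensel1.spanFinrank_maximalIdeal_eq_of_flat N.map_maximalIdeal, ← N.normal_iff,
    ← M.normal_iff]
  exact ⟨Iff.rfl, Iff.rfl⟩

end Groth.Agent.S9262
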