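import Groth.Statements.S3510
import Groth.Agent.EtCd.AcycCriterion

set_option autoImplicit false
universe u
open CategoryTheory CategoryTheory.Limits AlgebraicGeometry Opposite
open EtAcyc

namespace Groth.Agent.S3510

/-- (i) ⇔ (ii): let g : X → Y be a morphism of schemes, L a set of primes and n a natural number. Then g
is n-acyclic for L (form (ii): for every etale V → Y with projection g' : X ×_Y V → V and every
abelian L-torsion sheaf F on V, H^q(V, F) → H^q(X ×_Y V, g'⁻¹F) is bijective for q ≤ n and injective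
for q = n + 1) if and only if (form (i)) for every such V and F the unit F → g'_* g'⁻¹ F is an
isomorphism and R^q g'_* (g'⁻¹ F) = 0 for 1 ≤ q ≤ n. -/
theorem result {X Y : Scheme.{u}} (g : X ⟶ Y) (L : Set ℕ) (n : ℕ) :
    EtAcyc.IsAcyclicN g L n ↔
      ∀ (V : Y.Etale) (F : EtCoh.Ab V.left), EtAcyc.IsLTorsion L F →
        IsIso ((EtCoh.pullPushAdj (EtAcyc.prj g V)).unit.app F) ∧
          ∀ q : ℕ, 1 ≤ q → q ≤ n →
            IsZero ((EtCoh.Rpush (EtAcyc.prj g V) q).obj ((EtCoh.pull (EtAcyc.prj g V)).obj F)) := by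
    constructor
    · intro hg V F hF
      have hgood : Groth.EtCdCriterion.Good L n (EtAcyc.prj g V) := by
        intro U j _
        haveI : AlgebraicGeometry.Etale V.hom := V.prop
        let e := pullbackSymmetry (EtAcyc.prj g V) j ≪≫ pullbackRightPullbackFstIso V.hom g j
        have he : e.hom ≫ pullback.fst (j ≫ V.hom) g = pullback.snd (EtAcyc.prj g V) j := by
          simp [e]
        rw [← he, Groth.EtCdAcycComp.compN_comp_iff _ _ (Groth.EtCdAcycComp.compN_of_isIso _ L n)]
        exact hg (Scheme.Etale.mk (j ≫ V.hom))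
      exact ⟨hgood.isIso_unit F hF, fun q h1 h2 =>
        Groth.EtCdCriterion.isZero_Rpush_of_good q h1 h2 (EtAcyc.prj g V) hgood F hF⟩
    · intro h V
      exact Groth.EtCdCriterion.compN_of_criterion (EtAcyc.prj g V) n (h V)

end Groth.Agent.S3510
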