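import Groth.Statements.S9722
import Groth.Agent.PropsBasic2.SmoothNhd
import Mathlib.AlgebraicGeometry.Morphisms.Etale
import Mathlib.RingTheory.Unramified.LocalStructure
import Mathlib.RingTheory.RingHom.Etale

set_option autoImplicit false
universe u
open CategoryTheory AlgebraicGeometry
open Mor

namespace Groth.Agent.S9722

/-- Let f : X ⟶ S be a morphism, x a point of X and V an affine open neighbourhood of f(x) in S. Then f
is étale on some open neighbourhood of x if and only if there is an affine open neighbourhood U of x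
with f(U) ⊆ V such that Γ(X, U) is a standard étale algebra over Γ(S, V) through the induced ring
map. -/
theorem result {X S : Scheme.{u}} (f : X ⟶ S) (x : X)
    (V : S.Opens) (hV : IsAffineOpen V) (hxV : f x ∈ V) :
    (∃ W : X.Opens, x ∈ W ∧ Etale (W.ι ≫ f)) ↔
      ∃ (U : X.Opens) (_ : IsAffineOpen U) (_ : x ∈ U) (e : U ≤ f ⁻¹ᵁ V),
        letI := (f.appLE V U e).hom.toAlgebra
        Algebra.IsStandardEtale Γ(S, V) Γ(X, U) := by
  constructor
  · rintro ⟨W, hxW, he⟩
    obtain ⟨_, ⟨U₀ : X.Opens, hU₀, rfl⟩, hxU₀, hle⟩ :=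
      X.isBasis_affineOpens.exists_subset_of_mem_open (show x ∈ W ⊓ f ⁻¹ᵁ V from ⟨hxW, hxV⟩)
        (W ⊓ f ⁻¹ᵁ V).2
    have e₀ : U₀ ≤ f ⁻¹ᵁ V := fun p hp => (hle hp).2
    let O := W.ι ⁻¹ᵁ U₀
    have himg : W.ι ''ᵁ O = U₀ := by
      rw [W.ι.image_preimage_eq_opensRange_inf, Scheme.Opens.opensRange_ι]
      exact inf_eq_right.mpr (fun p hp => (hle hp).1)
    have hO : IsAffineOpen O :=
      (W.ι.isAffineOpen_iff_of_isOpenImmersion).mp (himg.symm ▸ hU₀)
    have e₁ : W.ι ''ᵁ O ≤ f ⁻¹ᵁ V := himg.symm ▸ e₀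
    have e' : O ≤ (W.ι ≫ f) ⁻¹ᵁ V := fun p hp => e₀ hp
    have h1 : ((W.ι ≫ f).appLE V O e').hom.Etale := (W.ι ≫ f).etale_appLE hV hO e'
    rw [← Scheme.Hom.appLE_comp_appLE W.ι f V (W.ι ''ᵁ O) O e₁ (W.ι.preimage_image_eq O).ge] at h1
    have : IsIso (W.ι.appLE (W.ι ''ᵁ O) O (W.ι.preimage_image_eq O).ge) :=
      (ConcreteCategory.isIso_iff_bijective _).mpr (Groth.PropsBasic2.ι_appLE_bijective W O _)
    rw [CommRingCat.hom_comp, RingHom.Etale.respectsIso.cancel_right_isIso] at h1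
    have h2 : ∀ (U' : X.Opens) (_ : W.ι ''ᵁ O = U') (e : U' ≤ f ⁻¹ᵁ V),
        (f.appLE V U' e).hom.Etale := by rintro _ rfl _; exact h1
    replace h1 := h2 U₀ himg e₀
    let := (f.appLE V U₀ e₀).hom.toAlgebra
    have : Algebra.Etale Γ(S, V) Γ(X, U₀) := h1
    let p := (hU₀.primeIdealOf ⟨x, hxU₀⟩).asIdeal
    obtain ⟨g, hg, hstd⟩ := Algebra.IsEtaleAt.exists_isStandardEtale (R := Γ(S, V)) p
    have := hU₀.isLocalization_basicOpen g
    have hxg : x ∈ X.basicOpen g := by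
      have h3 : hU₀.primeIdealOf ⟨x, hxU₀⟩ ∈ PrimeSpectrum.basicOpen g := hg
      rw [← hU₀.fromSpec_preimage_basicOpen g] at h3
      change hU₀.fromSpec (hU₀.primeIdealOf ⟨x, hxU₀⟩) ∈ X.basicOpen g at h3
      rwa [hU₀.fromSpec_primeIdealOf] at h3
    have eg : X.basicOpen g ≤ f ⁻¹ᵁ V := (X.basicOpen_le g).trans e₀
    refine ⟨X.basicOpen g, hU₀.basicOpen g, hxg, eg, ?_⟩
    let := (f.appLE V (X.basicOpen g) eg).hom.toAlgebra
    have : IsScalarTower Γ(S, V) Γ(X, U₀) Γ(X, X.basicOpen g) :=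
      .of_algebraMap_eq' (congrArg CommRingCat.Hom.hom
        (f.appLE_map e₀ (homOfLE (X.basicOpen_le g)).op)).symm
    exact .of_equiv ((IsLocalization.algEquiv (.powers g) (Localization.Away g)
      Γ(X, X.basicOpen g)).restrictScalars Γ(S, V))
  · rintro ⟨U, hU, hxU, e, h⟩
    let := (f.appLE V U e).hom.toAlgebra
    have : Algebra.IsStandardEtale Γ(S, V) Γ(X, U) := h
    have h' : (f.appLE V U e).hom.Etale := (inferInstance : Algebra.Etale Γ(S, V) Γ(X, U))
    have : IsAffine U := hU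
    have : IsAffine V := hV
    refine ⟨U, hxU, ?_⟩
    have : Etale (f.resLE V U e) := by
      rw [HasRingHomProperty.iff_of_isAffine (P := @Etale)]
      rw [show (f.resLE V U e).appTop = V.topIso.hom ≫ f.appLE V U e ≫ U.topIso.inv from
        Scheme.Hom.resLE_app_top f e]
      rw [CommRingCat.hom_comp, RingHom.Etale.respectsIso.cancel_left_isIso, CommRingCat.hom_comp,
        RingHom.Etale.respectsIso.cancel_right_isIso]
      exact h'
    rw [← Scheme.Hom.resLE_comp_ι f e]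
    infer_instance

end Groth.Agent.S9722
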