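import Groth.Statements.S1390
import Mathlib
import Groth.Agent.S9722
import Groth.Agent.S9453
-- import your own Groth.Agent.* helpers here

set_option autoImplicit false
universe u
open FlatMor

namespace Groth.Agent.S1390


open AlgebraicGeometry CategoryTheory Limits in
/-- Let (U, u) be an étale neighbourhood of (S, s), i.e. U → S étale with u over s. Then there are an
affine open neighbourhood V of s and a surjective, finite, flat morphism of finite presentation π :
T → V such that every point t of T over s has an open neighbourhood W_t with an S-morphism W_t → U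
sending t to u. -/
theorem result {U S : Scheme.{u}} (e : U ⟶ S) [Etale e] (u : U) (s : S) (hu : e u = s) :
    ∃ (V : S.Opens) (T : Scheme.{u}) (π : T ⟶ (V : Scheme.{u})), s ∈ V ∧ IsAffineOpen V ∧ Surjective π ∧ IsFinite π ∧ Flat π ∧ LocallyOfFinitePresentation π ∧
      ∀ t : T, V.ι (π t) = s → ∃ (W : T.Opens) (h : (W : Scheme.{u}) ⟶ U), t ∈ W ∧ h ≫ e = W.ι ≫ π ≫ V.ι ∧ ∀ ht : t ∈ W, h ⟨t, ht⟩ = u := by
  obtain ⟨_, ⟨V : S.Opens, hV, rfl⟩, hsV, -⟩ :=
    S.isBasis_affineOpens.exists_subset_of_mem_open (Set.mem_univ s) isOpen_univ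
  obtain ⟨U₁, hU₁, huU₁, eUV, hstd⟩ := (Groth.Agent.S9722.result e u V hV (hu ▸ hsV)).1
    ⟨⊤, trivial, inferInstance⟩
  let := (e.appLE V U₁ eUV).hom.toAlgebra
  have : Algebra.IsStandardEtale Γ(S, V) Γ(U, U₁) := hstd
  obtain ⟨S', _, _, hfin, hfp, hfl, hsurj, hlift⟩ := Groth.Agent.S9453.result Γ(S, V) Γ(U, U₁)
  let a : Γ(S, V) ⟶ CommRingCat.of S' := CommRingCat.ofHom (algebraMap Γ(S, V) S')
  have : IsFinite (Spec.map a) := (IsFinite.SpecMap_iff a).mpr (RingHom.finite_algebraMap.mpr hfin)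
  have : LocallyOfFinitePresentation (Spec.map a) :=
    (LocallyOfFinitePresentation.SpecMap_iff _).mpr (RingHom.finitePresentation_algebraMap.mpr hfp)
  have : Flat (Spec.map a) := Flat.SpecMap_iff.mpr (RingHom.flat_algebraMap_iff.mpr hfl)
  have : Surjective (Spec.map a) := ⟨hsurj⟩
  have : IsAffine V := hV
  refine ⟨V, Spec (CommRingCat.of S'), Spec.map a ≫ hV.isoSpec.inv, hsV, hV, inferInstance,
    inferInstance, inferInstance, inferInstance, fun t ht => ?_⟩
  let q := hU₁.primeIdealOf ⟨u, huU₁⟩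
  have hfs : hV.fromSpec (Spec.map a t) = s := by
    rw [← ht]; rfl
  have hunder : t.asIdeal.under Γ(S, V) = q.asIdeal.under Γ(S, V) := by
    have h2 : Spec.map (e.appLE V U₁ eUV) q = Spec.map a t := by
      apply hV.fromSpec.isOpenEmbedding.injective
      rw [hfs, ← Scheme.Hom.comp_apply, IsAffineOpen.SpecMap_appLE_fromSpec e hV hU₁ eUV,
        Scheme.Hom.comp_apply, hU₁.fromSpec_primeIdealOf]
      exact hu
    exact (congrArg PrimeSpectrum.asIdeal h2).symm
  obtain ⟨c, hc, ψ, hψ⟩ := hlift q.asIdeal t.asIdeal hunder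
  let loc : CommRingCat.of S' ⟶ CommRingCat.of (Localization.Away c) :=
    CommRingCat.ofHom (algebraMap S' (Localization.Away c))
  have : IsOpenImmersion (Spec.map loc) := IsOpenImmersion.of_isLocalization c
  obtain ⟨z, hz⟩ : t ∈ Set.range (Spec.map loc) :=
    (PrimeSpectrum.localization_away_comap_range (Localization.Away c) c).ge hc
  let Φ : Γ(U, U₁) ⟶ CommRingCat.of (Localization.Away c) :=
    CommRingCat.ofHom (ψ : Γ(U, U₁) →+* Localization.Away c)
  let j := Spec.map loc
  let l : Spec (CommRingCat.of (Localization.Away c)) ⟶ U := Spec.map Φ ≫ hU₁.fromSpec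
  have hl : l ≫ e = j ≫ Spec.map a ≫ hV.isoSpec.inv ≫ V.ι := by
    have h1 : e.appLE V U₁ eUV ≫ Φ = a ≫ loc := by
      ext r
      show ψ (algebraMap Γ(S, V) Γ(U, U₁) r) = algebraMap S' (Localization.Away c) (algebraMap Γ(S, V) S' r)
      rw [← IsScalarTower.algebraMap_apply]
      exact ψ.commutes r
    rw [Category.assoc, ← IsAffineOpen.SpecMap_appLE_fromSpec e hV hU₁ eUV, ← Spec.map_comp_assoc, h1,
      Spec.map_comp, Category.assoc, IsAffineOpen.isoSpec_inv_ι]
  refine ⟨j.opensRange, j.isoOpensRange.inv ≫ l, ⟨z, hz⟩, ?_, fun hmem => ?_⟩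
  · rw [Category.assoc, hl, Scheme.Hom.isoOpensRange_inv_comp_assoc, Category.assoc]
  · rw [Scheme.Hom.comp_apply]
    have hz' : j.isoOpensRange.inv ⟨t, hmem⟩ = z := by
      apply j.isOpenEmbedding.injective
      rw [hz, ← Scheme.Hom.comp_apply, Scheme.Hom.isoOpensRange_inv_comp]
      rfl
    rw [hz', Scheme.Hom.comp_apply]
    have hΦ : Spec.map Φ z = q := by
      apply PrimeSpectrum.ext
      have hzI : t.asIdeal.map (algebraMap S' (Localization.Away c)) = z.asIdeal := by
        rw [← hz]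
        exact IsLocalization.map_under (Submonoid.powers c) (Localization.Away c) z.asIdeal
      exact (congrArg (Ideal.comap ψ) hzI).symm.trans hψ
    rw [hΦ, hU₁.fromSpec_primeIdealOf]

end Groth.Agent.S1390
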