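import Groth.Statements.S7198
import Groth.Agent.LocImm.FppfRefine
import Groth.Agent.S1390
-- import your own Groth.Agent.* helpers here

set_option autoImplicit false
universe w u
open FlatMor

namespace Groth.Agent.S7198


open AlgebraicGeometry CategoryTheory Limits in
/-- Any fppf covering {S_i → S} is refined by a family built in four steps — cover S by Zariski opens
U_j; over each U_j take a surjective finite locally free W_j → U_j; cover each W_j by Zariski opens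
W_{j,k}; over each of those take a surjective finite locally free T_{j,k} → W_{j,k} — where every
composite T_{j,k} → S factors through some S_i. Stated pointwise: around every point of S, and then
around every point of the finite locally free cover, such data exist. -/
theorem result {S : Scheme.{u}} (E : PreZeroHypercover.{w} S)
    (hflat : ∀ i, Flat (E.f i)) (hfp : ∀ i, LocallyOfFinitePresentation (E.f i))
    (hsurj : ∀ s : S, ∃ (i : E.I₀) (x : E.X i), E.f i x = s) (s : S) :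
    ∃ (U : S.Opens) (W : Scheme.{u}) (π : W ⟶ U.toScheme), s ∈ U ∧ Mor2.IsFinLocFree π ∧ Surjective π ∧
      ∀ w : W, ∃ (W' : W.Opens) (T : Scheme.{u}) (ρ : T ⟶ W'.toScheme) (i : E.I₀) (r : T ⟶ E.X i),
        w ∈ W' ∧ Mor2.IsFinLocFree ρ ∧ Surjective ρ ∧ r ≫ E.f i = ρ ≫ W'.ι ≫ π ≫ U.ι := by
  classical
  choose i x hx using hsurj
  let F : S → Scheme.{u} := fun t => E.X (i t)
  let g : (∐ F) ⟶ S := Sigma.desc fun t => E.f (i t)
  have : Flat g := IsZariskiLocalAtSource.sigmaDesc (P := @Flat) fun t => hflat (i t)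
  have : LocallyOfFinitePresentation g :=
    IsZariskiLocalAtSource.sigmaDesc (P := @LocallyOfFinitePresentation) fun t => hfp (i t)
  have : Surjective g := ⟨fun t => ⟨Sigma.ι F t (x t), by
    rw [← Scheme.Hom.comp_apply, Sigma.ι_desc]; exact hx t⟩⟩
  obtain ⟨S', V, e, π, r, he, ⟨u, hu⟩, hπs, hπf, hπfl, hπfp, hr⟩ :=
    Groth.LocImmersion.FppfDominate.exists_finite_flat g s
  obtain ⟨U₀, W, πW, hsU₀, hU₀, hs', hf', hfl', hfp', hlift⟩ := Groth.Agent.S1390.result e u s hu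
  choose Wt ht hmem heq hu' using hlift
  let G : Set W := (⋃ (t : W) (h : U₀.ι (πW t) = s), (Wt t h : Set W))
  have hG : IsOpen G := isOpen_iUnion fun t => isOpen_iUnion fun h => (Wt t h).2
  let D' : (U₀ : Scheme.{u}).Opens := ⟨(πW '' Gᶜ)ᶜ, (πW.isClosedMap _ hG.isClosed_compl).isOpen_compl⟩
  have hsD : (⟨s, hsU₀⟩ : U₀) ∈ D' := by
    rintro ⟨t, ht', hts⟩
    exact ht' (Set.mem_iUnion₂.mpr ⟨t, congrArg Subtype.val hts, hmem _ _⟩)
  have hpre : ∀ w : (πW ⁻¹ᵁ D' : W.Opens), w.1 ∈ G := fun w => by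
    by_contra h
    exact w.2 ⟨w.1, h, rfl⟩
  have : Surjective (πW ∣_ D') := IsZariskiLocalAtTarget.restrict hs' D'
  refine ⟨U₀.ι ''ᵁ D', πW ⁻¹ᵁ D', (πW ∣_ D') ≫ (U₀.ι.isoImage D').hom, ⟨_, hsD, rfl⟩,
    ⟨inferInstance, inferInstance, inferInstance⟩, inferInstance, fun w => ?_⟩
  obtain ⟨t, htt, hwt⟩ := Set.mem_iUnion₂.mp (hpre w)
  let h : (Wt t htt : Scheme.{u}) ⟶ S' := ht t htt
  let w' : (Wt t htt : Scheme.{u}) := ⟨w.1, hwt⟩
  obtain ⟨v₁, hv₁⟩ := π.surjective (h w')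
  obtain ⟨v₀, -, hv₀⟩ := Scheme.Pullback.exists_preimage_pullback v₁ w' hv₁
  obtain ⟨O, W', ρ, a, j, k, hO, hρf, hρfl, hρfp, hρs, haρ, hk⟩ :=
    Groth.LocImmersion.FppfRefine.exists_part (pullback.snd π h) F (pullback.fst π h ≫ r) v₀
  rw [hv₀] at hO
  let O₁ : W.Opens := (Wt t htt).ι ''ᵁ O ⊓ πW ⁻¹ᵁ D'
  let O₂ : (πW ⁻¹ᵁ D' : W.Opens).toScheme.Opens := (πW ⁻¹ᵁ D').ι ⁻¹ᵁ ((Wt t htt).ι ''ᵁ O)
  let O₃ : (O : Scheme.{u}).Opens := O.ι ⁻¹ᵁ ((Wt t htt).ι ⁻¹ᵁ (πW ⁻¹ᵁ D'))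
  have hrange : Set.range (O₃.ι ≫ O.ι ≫ (Wt t htt).ι) = Set.range (O₂.ι ≫ (πW ⁻¹ᵁ D').ι) := by
    ext z
    constructor
    · rintro ⟨p, rfl⟩
      exact ⟨⟨⟨p.1.1.1, p.2⟩, ⟨p.1.1, p.1.2, rfl⟩⟩, rfl⟩
    · rintro ⟨⟨⟨p, hp⟩, q, hq, hqp⟩, rfl⟩
      exact ⟨⟨⟨q, hq⟩, show (Wt t htt).ι q ∈ πW ⁻¹ᵁ D' from hqp ▸ hp⟩, hqp⟩
  let eiso := IsOpenImmersion.isoOfRangeEq (O₃.ι ≫ O.ι ≫ (Wt t htt).ι) (O₂.ι ≫ (πW ⁻¹ᵁ D').ι) hrange
  have heiso : eiso.hom ≫ O₂.ι ≫ (πW ⁻¹ᵁ D').ι = O₃.ι ≫ O.ι ≫ (Wt t htt).ι :=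
    IsOpenImmersion.isoOfRangeEq_hom_fac _ _ _
  have : Surjective (ρ ∣_ O₃) := IsZariskiLocalAtTarget.restrict hρs O₃
  refine ⟨O₂, ρ ⁻¹ᵁ O₃, ρ ∣_ O₃ ≫ eiso.hom, i j, (ρ ⁻¹ᵁ O₃).ι ≫ k, ⟨w', hO, rfl⟩,
    ⟨inferInstance, inferInstance, inferInstance⟩, inferInstance, ?_⟩
  have hkg : k ≫ E.f (i j) = a ≫ pullback.fst π h ≫ r ≫ g := by
    rw [← Sigma.ι_desc (f := F) (fun t => E.f (i t)) j, reassoc_of% hk]
  simp only [Category.assoc, hkg, hr]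
  rw [pullback.condition_assoc, reassoc_of% haρ, heq t htt, Scheme.Hom.isoImage_hom_ι,
    morphismRestrict_ι_assoc, reassoc_of% heiso, morphismRestrict_ι_assoc]

end Groth.Agent.S7198
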