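import Groth.Statements.S14389
import Groth.Agent.EtaleBase.Limit.PullOnComp

set_option autoImplicit false
open CategoryTheory CategoryTheory.Limits AlgebraicGeometry Opposite
universe u
open EtLim

namespace Groth.Agent.S14389

/-- For small étale sites of schemes: let g' ≫ f = f' ≫ g be a commutative square of schemes with f : X
→ Y, g : Y' → Y, f' : X' → Y', g' : X' → X, and let F be an abelian sheaf on the small étale site of
X. For every q and every class ζ in H^q(Y_ét, f_*F), the pullback along g' of the image of ζ under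
the canonical map H^q(Y, f_*F) → H^q(X, F) (pull back along f, then apply the counit f⁻¹f_*F → F)
equals the image of g^*ζ ∈ H^q(Y', g⁻¹f_*F) under the map induced by the base-change morphism
g⁻¹f_*F → f'_*g'⁻¹F followed by the canonical map H^q(Y', f'_*g'⁻¹F) → H^q(X', g'⁻¹F). (The
published statement is for a commutative square of topoi with a chosen isomorphism f_*g'_* ≅
g_*f'_*; this row is the square of étale topoi of schemes. Exactness of pullback of abelian sheaves,
which always holds, is carried as instance hypotheses.) -/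
theorem result {X Y X' Y' : Scheme.{u}} (f : X ⟶ Y)
    (g : Y' ⟶ Y) (f' : X' ⟶ Y') (g' : X' ⟶ X) (w : g' ≫ f = f' ≫ g) (F : EtCoh.Ab X) (q : ℕ)
    [PreservesFiniteLimits (EtCoh.pull f)] [PreservesFiniteLimits (EtCoh.pull g)]
    [PreservesFiniteLimits (EtCoh.pull f')] [PreservesFiniteLimits (EtCoh.pull g')]
    (ζ : EtCoh.H Y ((EtCoh.push f).obj F) q) :
    EtCore.Hpull g' F q (EtLim.HofPush f F q ζ) =
      EtLim.HofPush f' ((EtCoh.pull g').obj F) q
        (((EtCoh.HF Y' q).map (EtCoh.baseChange0 f g f' g' w F)).hom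
          (EtCore.Hpull g ((EtCoh.push f).obj F) q ζ)) := by
  haveI : PreservesFiniteLimits (EtCoh.pull (g' ≫ f)) :=
    preservesFiniteLimits_of_natIso (EtCore.pullComp g' f).symm
  haveI : PreservesFiniteLimits (EtCoh.pull (f' ≫ g)) :=
    preservesFiniteLimits_of_natIso (EtCore.pullComp f' g).symm
  let M := (EtCoh.pull g').obj F
  let F' := (EtCoh.push f).obj F
  have hof : ∀ {A B : Scheme.{u}} (v : A ⟶ B) [PreservesFiniteLimits (EtCoh.pull v)] (G : EtCoh.Ab A) (z),
      EtLim.HofPush v G q z = Groth.EtaleBase.EtLimit.pullOn v (𝟙 ((EtCoh.push v).obj G)) q z := by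
    intro A B v _ G z
    show _ = EtLim.HpullThen v _ _ q z
    rw [show ((EtCoh.pullPushAdj v).homEquiv _ G).symm (𝟙 ((EtCoh.push v).obj G)) =
      (EtCoh.pullPushAdj v).counit.app G from ((EtCoh.pullPushAdj v).homEquiv_counit _ _ _).trans
        ((congrArg (· ≫ (EtCoh.pullPushAdj v).counit.app G) ((EtCoh.pull v).map_id _)).trans (Category.id_comp _))]
    rfl
  let η : F ⟶ (EtCoh.push g').obj M := (EtCoh.pullPushAdj g').unit.app F
  have hpull : ∀ z, EtCore.Hpull g' F q z =
      Groth.EtaleBase.EtLimit.pullOn g' η q z := fun z => by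
    rw [Groth.EtaleBase.EtLimit.pullOn_apply,
      show ((EtCoh.pullPushAdj g').homEquiv F M).symm η = 𝟙 M from
        (Equiv.symm_apply_eq _).2 (((EtCoh.pullPushAdj g').homEquiv_unit _ _ _).trans
          ((congrArg (_ ≫ ·) ((EtCoh.push g').map_id _)).trans (Category.comp_id _))).symm,
      Abelian.Ext.comp_mk₀_id]
    rfl
  let δ : F' ⟶ (EtCoh.push g).obj ((EtCoh.push f').obj M) :=
    (EtCoh.push f).map ((EtCoh.pullPushAdj g').unit.app F) ≫ (EtCoh.pushComp f g').hom.app _ ≫
      (EtCoh.pushCongr w).hom.app _ ≫ (EtCoh.pushComp g f').inv.app _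
  have hbc : ((EtCoh.HF Y' q).map (EtCoh.baseChange0 f g f' g' w F)).hom (EtCore.Hpull g F' q ζ) =
      Groth.EtaleBase.EtLimit.pullOn g δ q ζ := rfl
  rw [hpull, hof, hof, hbc, Groth.EtaleBase.EtLimit.pullOn_comp, Groth.EtaleBase.EtLimit.pullOn_comp]
  refine (Groth.EtaleBase.EtLimit.pullOn_congr w _ q ζ).symm.trans ?_
  refine congrArg (fun r => Groth.EtaleBase.EtLimit.pullOn (f' ≫ g) r q ζ) ?_
  simp only [Groth.EtaleBase.EtLimit.compCoeff, δ, η, CategoryTheory.Functor.map_id, Category.id_comp, Category.assoc]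
  refine congrArg (_ ≫ ·) (congrArg (_ ≫ ·) ?_)
  exact ((congrArg (_ ≫ ·) ((EtCoh.pushComp g f').inv_hom_id_app M)).trans (Category.comp_id _)).symm

end Groth.Agent.S14389
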