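import Groth.Statements.S1783
import Groth.Agent.DualCore.SmoothBC
import Groth.Agent.DualCore.CoextPlus
import Groth.Agent.DualCore.Regular
import Mathlib

set_option autoImplicit false
universe u
open CategoryTheory
attribute [local instance] HasDerivedCategory.standard
open Dual2

namespace Groth.Agent.S1783

/-- Let R → A be a ring map of finite type between Noetherian rings, where φ^!(K) is formed from a
presentation ψ : R[x_1, …, x_n] → A as RHom_P(A, K ⊗^L_R P)[n], assuming the derived base change to
P exists and taking for RHom_P(A, −) a right adjoint of restriction of scalars along ψ. If K in D(R)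
has vanishing cohomology below some degree, then so does φ^!(K); if moreover all cohomology modules
of K are finite R-modules, then all cohomology modules of φ^!(K) are finite A-modules. -/
theorem result (R A : Type u) [CommRing R] [CommRing A] [IsNoetherianRing R] [IsNoetherianRing A] [Algebra R A] (n : ℕ) (ψ : MvPolynomial (Fin n) R →ₐ[R] A) (hψ : Function.Surjective ψ) [DRing.HasLBaseChange (algebraMap R (MvPolynomial (Fin n) R))] (Rψ : Dual.D (MvPolynomial (Fin n) R) ⥤ Dual.D A) (adj : DRing.restrictD ψ.toRingHom ⊣ Rψ) (K : Dual.D R) (a : ℤ) (hKa : ∀ i : ℤ, i < a → Subsingleton (Dual.HD R K i)) : (∃ b : ℤ, ∀ i : ℤ, i < b → Subsingleton (Dual.HD A (Dual2.shriekVia n Rψ K) i)) ∧ ((∀ i : ℤ, Module.Finite R (Dual.HD R K i)) → ∀ i : ℤ, Module.Finite A (Dual.HD A (Dual2.shriekVia n Rψ K) i)) := by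
  letI : Algebra (MvPolynomial (Fin n) R) A := ψ.toRingHom.toAlgebra
  haveI : Module.Finite (MvPolynomial (Fin n) R) A :=
    Module.Finite.of_surjective (Algebra.linearMap (MvPolynomial (Fin n) R) A) hψ
  haveI : Algebra.Smooth R (MvPolynomial (Fin n) R) := ⟨inferInstance, inferInstance⟩
  let P := MvPolynomial (Fin n) R
  let W := (DRing.LBaseChange (algebraMap R P)).obj K
  let eW := (Groth.DualCore.LBaseChangeIso R P).app K
  haveI := Groth.DualCore.isGE_of_HD K a hKa
  haveI := Groth.DualCore.isGE_extD (B := P) K a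
  haveI : DerivedCategory.IsGE W a := DerivedCategory.TStructure.t.isGE_of_iso eW.symm a
  haveI : DerivedCategory.IsGE ((CategoryTheory.Functor.id (Dual.D P)).obj W) a := ‹DerivedCategory.IsGE W a›
  obtain ⟨W', ε, hGE, hW'⟩ := Groth.DualCore.exists_represents (algebraMap P A) W a
  have hc := Groth.DualCore.represents_counit (φ := algebraMap P A) Rψ adj W
  obtain ⟨e, -⟩ := hc.exists_iso hW'
  haveI : DerivedCategory.IsGE (Rψ.obj W) a := DerivedCategory.TStructure.t.isGE_of_iso e.symm a
  refine ⟨⟨a - n, fun i hi => ?_⟩, fun hfin i => ?_⟩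
  · haveI : Subsingleton (Dual.HD A (Rψ.obj W) (n + i)) :=
      ModuleCat.isZero_iff_subsingleton.1 (DerivedCategory.isZero_of_isGE _ a _ (by lia))
    exact (Groth.DualCore.HDShiftEquiv (Rψ.obj W) n i (n + i) rfl).toEquiv.subsingleton
  · haveI : Module.Finite A (Dual.HD A (Rψ.obj W) (n + i)) := hc.finite_HD (fun j => by
      haveI := hfin j
      haveI := Groth.DualCore.finite_HD_extD (B := P) K j
      exact Module.Finite.equiv (Groth.DualCore.HDCongr eW j).symm) a (n + i)
    exact Module.Finite.equiv (Groth.DualCore.HDShiftEquiv (Rψ.obj W) n i (n + i) rfl).symm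

end Groth.Agent.S1783
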