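import Groth.Statements.S7073
import Groth.Agent.DAlg.TorAmp
import Groth.Agent.DAlg.TorAmpRestrict

set_option autoImplicit false
universe u
attribute [local instance] HasDerivedCategory.standard
open Dual2

namespace Groth.Agent.S7073

/-- For a flat homomorphism of finite presentation R → A of commutative rings, every perfect object of
D(A) is R-perfect, i.e. pseudo-coherent over A and of finite tor dimension as a complex of
R-modules. -/
theorem result (R A : Type u) [CommRing R] [CommRing A] [Algebra R A]
    [Module.Flat R A] [Algebra.FinitePresentation R A] (K : Dual.D A) (hK : DRing.IsPerfect A K) :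
    Dual2.IsRelPerfect R A K := by
  obtain ⟨hpc, a, b, htd⟩ := Groth.DAlg.isPerfect_iff.1 hK
  have hB : DRing.HasTorAmplitudeIn R (-((0 : ℕ) : ℤ)) 0 (Groth.DAlg.mD (ModuleCat.of R A)) := by
    simpa using Groth.DAlg.torAmp_mD_of_flat (ModuleCat.of R A)
  exact ⟨hpc, a - ((0 : ℕ) : ℤ), b, Groth.DAlg.TorAmp.restrict hB htd⟩

end Groth.Agent.S7073
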