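import Groth.Statements.S17906
import Groth.Agent.Misc13.PicClFunctorial

set_option autoImplicit false
universe u
open CategoryTheory CategoryTheory.Limits AlgebraicGeometry
open PicRel

namespace Groth.Agent.S17906

/-- Let f : X → S be a morphism of schemes, g : S' → S a morphism and X' = X ×_S S'. If the relative
Picard functor of X over S, sheafified and described through a representing S-scheme P with maps φ_T
from classes of modules on X ×_S T to S-morphisms T → P, is represented by P, then the relative
Picard functor of X' over S' is represented by P ×_S S': a class c on (X ×_S S') ×_{S'} T is sent,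
after transport along the canonical isomorphism of this scheme with X ×_S T, to the S'-morphism T →
P ×_S S' whose components are φ(c) and the structure morphism of T. (The published statement is for
the fppf sheafification, asserts the isomorphism of functors Pic_{X/S} ×_S S' ≅ Pic_{X'/S'} in
general, and adds the compatibility of universal bundles and rigidifications; stated here is the
representability consequence for the étale sheafification, to which the same argument applies.) -/
theorem result {X S S' : Scheme.{u}} (f : X ⟶ S) (g : S' ⟶ S)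
    (P : Over S) (φ : ∀ T : Over S, PicF.Cl (PicF.XT f T) → (T ⟶ P)) (hP : PicRel.IsRelPic f P φ) :
    PicRel.IsRelPic (pullback.snd f g) (Over.mk (pullback.snd P.hom g))
      (fun T c => Over.homMk
        (pullback.lift (φ (Over.mk (T.hom ≫ g)) (PicF.pullCl (pullbackLeftPullbackSndIso f g T.hom).inv c)).left T.hom
          (Over.w (φ (Over.mk (T.hom ≫ g)) (PicF.pullCl (pullbackLeftPullbackSndIso f g T.hom).inv c))))
        (pullback.lift_snd _ _ _)) := by
  open Groth.Misc13.PicCl in
  -- the identification of the fibre products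
  let e : ∀ T : Over S', PicF.XT (pullback.snd f g) T ≅ PicF.XT f (Over.mk (T.hom ≫ g)) :=
    fun T => pullbackLeftPullbackSndIso f g T.hom
  have sq : ∀ (T T' : Over S') (h : T' ⟶ T) (k : Over.mk (T'.hom ≫ g) ⟶ Over.mk (T.hom ≫ g)), k.left = h.left →
      (e T').inv ≫ PicF.XTmap (pullback.snd f g) h = PicF.XTmap f k ≫ (e T).inv := by
    intro T T' h k hk
    rw [Iso.inv_comp_eq, ← Category.assoc, Iso.eq_comp_inv]
    exact baseChange_sq f g h k hk
  constructor
  · intro T T' h c hc
    let k : Over.mk (T'.hom ≫ g) ⟶ Over.mk (T.hom ≫ g) := Over.homMk h.left (by simp [Over.w_assoc h])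
    have hn := hP.natural _ _ k _ (isInvertibleCl_pull (e T).inv hc)
    apply Over.OverMorphism.ext
    apply pullback.hom_ext
    · have : PicF.pullCl (e T').inv (PicF.pullCl (PicF.XTmap (pullback.snd f g) h) c) =
          PicF.pullCl (PicF.XTmap f k) (PicF.pullCl (e T).inv c) := by
        rw [pullCl_comp, pullCl_comp, sq T T' h k rfl]
      simp only [Over.comp_left, Over.homMk_left, Category.assoc, pullback.lift_fst]
      change (φ _ (PicF.pullCl (e T').inv _)).left = _
      rw [this, hn]
      rfl
    · simp only [Over.comp_left, Over.homMk_left, Category.assoc, pullback.lift_snd]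
      exact (Over.w h).symm
  · intro T q
    let q0 : Over.mk (T.hom ≫ g) ⟶ P := Over.homMk (q.left ≫ pullback.fst P.hom g) (by
      simp only [Over.mk_hom, Category.assoc, pullback.condition]
      rw [← Category.assoc, show q.left ≫ pullback.snd P.hom g = T.hom from Over.w q])
    obtain ⟨ι, U, hU, hc⟩ := hP.locallySurjective _ q0
    refine ⟨ι, U, hU, fun i => ?_⟩
    obtain ⟨c, hci, hφ⟩ := hc i
    let a : Over.mk ((PicRel.ovr T (U i)).hom ≫ g) ⟶ PicRel.ovr (Over.mk (T.hom ≫ g)) (U i) :=
      Over.homMk (𝟙 _) ((Category.id_comp _).trans (Category.assoc _ _ _).symm)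
    refine ⟨PicF.pullCl (e (PicRel.ovr T (U i))).hom (PicF.pullCl (PicF.XTmap f a) c),
      isInvertibleCl_pull _ (isInvertibleCl_pull _ hci), ?_⟩
    apply Over.OverMorphism.ext
    apply pullback.hom_ext
    · simp only [Over.comp_left, Over.homMk_left, Category.assoc, pullback.lift_fst]
      change (φ _ (PicF.pullCl (e (PicRel.ovr T (U i))).inv _)).left = _
      rw [pullCl_iso_cancel, hP.natural _ _ a c hci, hφ]
      change 𝟙 _ ≫ (U i).hom ≫ q0.left = _
      rw [Category.id_comp]
      rfl
    · simp only [Over.comp_left, Over.homMk_left, Category.assoc, pullback.lift_snd]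
      rw [show q.left ≫ pullback.snd P.hom g = T.hom from Over.w q]
      rfl
  · intro T c c' hc hc' heq
    have h1 : φ _ (PicF.pullCl (e T).inv c) = φ _ (PicF.pullCl (e T).inv c') := by
      apply Over.OverMorphism.ext
      have := congrArg (fun m => m.left ≫ pullback.fst P.hom g) heq
      exact (pullback.lift_fst _ _ _).symm.trans (this.trans (pullback.lift_fst _ _ _))
    obtain ⟨ι, U, hU, hcl⟩ := hP.locallyInjective _ _ _ (isInvertibleCl_pull _ hc) (isInvertibleCl_pull _ hc') h1
    refine ⟨ι, U, hU, fun i => ?_⟩
    let a : Over.mk ((PicRel.ovr T (U i)).hom ≫ g) ⟶ PicRel.ovr (Over.mk (T.hom ≫ g)) (U i) :=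
      Over.homMk (𝟙 _) ((Category.id_comp _).trans (Category.assoc _ _ _).symm)
    have key : ∀ d, PicF.pullCl (PicF.XTmap (pullback.snd f g) (PicRel.ovrHom T (U i))) d =
        PicF.pullCl (e (PicRel.ovr T (U i))).hom (PicF.pullCl (PicF.XTmap f a)
          (PicF.pullCl (PicF.XTmap f (PicRel.ovrHom (Over.mk (T.hom ≫ g)) (U i))) (PicF.pullCl (e T).inv d))) := by
      intro d
      rw [pullCl_comp, pullCl_comp, pullCl_comp]
      refine pullCl_congr ?_ d
      have hm : PicF.XTmap f (a ≫ PicRel.ovrHom (Over.mk (T.hom ≫ g)) (U i)) =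
          PicF.XTmap f a ≫ PicF.XTmap f (PicRel.ovrHom (Over.mk (T.hom ≫ g)) (U i)) := XTmap_comp f _ _
      have := sq T (PicRel.ovr T (U i)) (PicRel.ovrHom T (U i))
        (a ≫ PicRel.ovrHom (Over.mk (T.hom ≫ g)) (U i)) (Category.id_comp _)
      rw [Iso.inv_comp_eq, hm] at this
      rw [this]
      simp only [Category.assoc]
    rw [key, key, hcl i]

end Groth.Agent.S17906
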