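import Groth.Statements.S15848
import Mathlib
import Groth.Agent.KTheory.LFResRegular
import Groth.Agent.FrobLCI.AusBuch
import Groth.Agent.Agf.RegularPoints
import Groth.Agent.Duality.PnPushDepth
import Groth.Agent.CohTwo.PushClosed
import Groth.Agent.Variety2.DimScheme
import Groth.Agent.Duality.PnStalk

set_option autoImplicit false
universe u
open CategoryTheory CategoryTheory.Limits AlgebraicGeometry
open Surf

namespace Groth.Agent.S15848

open Groth.Ega4Algebra1

/-- Smooth schemes over fields are regular. -/
theorem isRegularLocalRing_of_smooth_field {k : Type u} [Field k] {X : Scheme.{u}}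
    (p : X ⟶ Spec (CommRingCat.of k)) [Smooth p] (x : X) :
    IsRegularLocalRing (X.presheaf.stalk x) := by
  let _ : Field ((Spec (CommRingCat.of k)).presheaf.stalk (p x)) :=
    (Groth.Variety2.isField_stalk (Subsingleton.elim (α := PrimeSpectrum k) _ _)).toField
  have : IsRegularLocalRing ((Spec (CommRingCat.of k)).presheaf.stalk (p x)) := inferInstance
  exact Groth.Agf.RegularPoints.isRegularLocalRing_stalk_of_smooth p x

/-- Over a regular surface, the kernel of an epimorphism from a locally free module onto a coherent
module of positive depth at the points of codimension two is locally free. -/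
theorem isFinLocFree_kernel {S : Scheme.{u}} [IsLocallyNoetherian S]
    (hreg : ∀ x : S, IsRegularLocalRing (S.presheaf.stalk x))
    (hdim : topologicalKrullDim S ≤ 2) {F N : S.Modules} (hF : FlatMod.IsFinLocFree F)
    (hN : Coh.IsCoh N) (f : F ⟶ N) [Epi f]
    (hdepth : ∀ x : S, ringKrullDim (S.presheaf.stalk x) = 2 → Nontrivial (N.presheaf.stalk x) →
      LocCoh.depth (S.presheaf.stalk x) (N.presheaf.stalk x) ≠ 0) :
    FlatMod.IsFinLocFree (kernel f) := by
  have hT : (ShortComplex.mk (kernel.ι f) f (kernel.condition f)).ShortExact :=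
    { exact := ShortComplex.exact_of_f_is_kernel _ (kernelIsKernel f) }
  have hFq : F.IsQuasicoherent := Groth.KTheory.LocFree.isQCoh hF
  have := hN.1
  have hFc : Coh.IsCoh F := Groth.KTheory.LocFree.isCoh hF
  have hKq : (kernel f).IsQuasicoherent := Groth.QCohMod.isQCoh_of_mono_exact hT.exact
  have hc : Coh.IsCoh (kernel f) := Groth.QCohMod.isCoh_of_mono (kernel.ι f) hFc
  refine Groth.KTheory.LocFree.isFinLocFree_of_free_stalks hc fun x => ?_
  have := hreg x
  have := Groth.KTheory.LocFree.free_stalk hF x
  set R := S.presheaf.stalk x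
  have := Groth.QCohMod.finite_stalk (kernel f) hc.2 x
  have := Groth.QCohMod.finite_stalk N hN.2 x
  suffices h : PdLT R (N.presheaf.stalk x) 2 by
    have h1 := Groth.KTheory.LFRes.pdLT_stalk_X₁ hT x 1 le_rfl h
    have : Module.Projective R ((kernel f).presheaf.stalk x) :=
      (IsProjective.iff_projective _).mpr (projective_iff_hasProjectiveDimensionLT_one.mpr h1)
    exact Module.free_of_flat_of_isLocalRing
  set d := (IsLocalRing.maximalIdeal R).spanFinrank with hd
  have hdR : ringKrullDim R = d :=
    (IsRegularLocalRing.spanFinrank_maximalIdeal (R := R)).symm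
  have hd2 : d ≤ 2 := by
    have := (Groth.Duality.ringKrullDim_stalk_le x).trans hdim
    rw [show ringKrullDim (S.presheaf.stalk x) = d from hdR] at this
    exact_mod_cast this
  have hall : PdLT R (N.presheaf.stalk x) (d + 1) := pdLT_all_of_isRegularLocalRing R d hdR _
  rcases Nat.lt_or_ge d 2 with hlt | hge
  · exact hall.mono (by omega)
  obtain rfl' : d = 2 := by omega
  rcases subsingleton_or_nontrivial (N.presheaf.stalk x) with hs | hn
  · exact (PdLT.zero_iff.2 hs).mono (Nat.zero_le _)
  by_contra hcon
  have hAB := Groth.FrobLCI.auslander_buchsbaum 2 (N.presheaf.stalk x) (hall.mono (by omega)) hcon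
  have hle : (LocCoh.depth R R : WithBot ℕ∞) ≤ ringKrullDim R :=
    (Groth.LocCohBase.depth_le_supportDim R).trans (Module.supportDim_le_ringKrullDim R R)
  obtain ⟨μ, hμ⟩ := Groth.LocCohBase.exists_depth_eq (R := R) (N.presheaf.stalk x)
  rw [hAB, hdR, rfl', hμ] at hle
  have hμ0 : μ = 0 := by
    have h22 : ((2 : ℕ) : ℕ∞) + (μ : ℕ∞) ≤ ((2 : ℕ) : ℕ∞) := WithBot.coe_le_coe.1 hle
    rw [← Nat.cast_add, Nat.cast_le] at h22
    omega
  exact hdepth x (by rw [show ringKrullDim (S.presheaf.stalk x) = d from hdR, rfl']; rfl) hn
    (by rw [hμ, hμ0]; rfl)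

/-- Torsion-free finite modules over a local domain which is not a field have positive depth. -/
theorem depth_ne_zero_of_torsionFree {R : Type u} [CommRing R] [IsLocalRing R] [IsNoetherianRing R]
    [IsDomain R] (hR : ¬ IsField R) (N : Type u) [AddCommGroup N] [Module R N] [Module.Finite R N]
    [Module.IsTorsionFree R N] : LocCoh.depth R N ≠ 0 := by
  intro h
  obtain ⟨z, hz, hm⟩ := Groth.FrobLCI.exists_socle_of_depth_eq_zero h
  obtain ⟨a, ha, ha0⟩ := Submodule.exists_mem_ne_zero_of_ne_bot
    (mt IsLocalRing.isField_iff_maximalIdeal_eq.2 hR)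
  exact hz ((smul_eq_zero.1 (hm a ha)).resolve_left ha0)

/-- Let k be an algebraically closed field of characteristic zero and S a smooth surface over k (an
integral k-scheme, smooth over k, of dimension two). Let j : C → S be a closed immersion with C
integral of dimension one, M a coherent O_C-module whose stalks are torsion-free modules over the
local rings of C, F a finite locally free O_S-module and f : F → j_*M an epimorphism of O_S-modules.
Then the kernel of f, the elementary transformation of F along f, is a finite locally free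
O_S-module. (The published setting takes S projective; the argument is local on S and projectivity
is not assumed here.) -/
theorem result
    (k : Type u) [Field k] [IsAlgClosed k] [CharZero k]
    (S : Scheme.{u}) [S.Over (Spec (CommRingCat.of k))] [IsIntegral S]
    [Smooth (S ↘ Spec (CommRingCat.of k))] (hdim : topologicalKrullDim S = 2)
    (C : Scheme.{u}) (j : C ⟶ S) [IsClosedImmersion j] [IsIntegral C]
    (hC : topologicalKrullDim C = 1)
    (M : C.Modules) (hM : Coh.IsCoh M) (hMtf : TorSh.IsTorsionFree M)
    (F : S.Modules) (hF : FlatMod.IsFinLocFree F)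
    (f : F ⟶ (Coh.push j).obj M) [Epi f] :
    FlatMod.IsFinLocFree (kernel f) := by
  have : IsLocallyNoetherian S := LocallyOfFiniteType.isLocallyNoetherian (S ↘ Spec (CommRingCat.of k))
  have : IsLocallyNoetherian C :=
    LocallyOfFiniteType.isLocallyNoetherian j
  have hreg : ∀ x : S, IsRegularLocalRing (S.presheaf.stalk x) := fun x =>
    Groth.Agent.S15848.isRegularLocalRing_of_smooth_field (S ↘ Spec (CommRingCat.of k)) x
  refine isFinLocFree_kernel hreg hdim.le hF (Groth.CohTwo.isCoh_push j hM) f fun x hx2 hn => ?_
  by_cases hxr : x ∈ Set.range j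
  swap
  · have : Subsingleton (((Scheme.Modules.pushforward j).obj M).presheaf.stalk x) :=
      not_not.1 fun hs => hxr (Groth.CohTwo.support_push_subset j M hs)
    exact absurd hn (not_nontrivial_iff_subsingleton.2 this)
  obtain ⟨c, rfl⟩ := hxr
  rw [show LocCoh.depth (S.presheaf.stalk (j c)) (((Coh.push j).obj M).presheaf.stalk (j c)) = _
    from Groth.Duality.depth_push_stalk j M c]
  have := hM.1
  have := Groth.QCohMod.finite_stalk M hM.2 c
  have := hMtf c
  refine depth_ne_zero_of_torsionFree (fun hfield => ?_) _
  have h0 : Order.coheight c = 0 := by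
    have h := Groth.Duality.ringKrullDim_stalk_le (X := C) c
    have e : ringKrullDim (C.presheaf.stalk c) = 0 := ringKrullDim_eq_zero_of_isField hfield
    rw [ringKrullDim_stalk_eq_coheight] at e
    exact_mod_cast e
  have hgen : ∀ y : C, y ≤ c := fun y => by
    have h1 : c ≤ genericPoint C := Scheme.le_iff_specializes.2 (genericPoint_specializes c)
    have h2 : genericPoint C ≤ c := Order.coheight_eq_zero.1 h0 h1
    exact le_trans (Scheme.le_iff_specializes.2 (genericPoint_specializes y)) h2
  obtain ⟨y, hy⟩ : ∃ y : C, y < c := by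
    by_contra hcon
    push Not at hcon
    have hmin : ∀ y : C, c ≤ y := fun y =>
      not_not.1 fun hn => hcon y (lt_of_le_not_ge (hgen y) hn)
    have hall : ∀ y : C, Order.height y = 0 := fun y => by
      rw [Order.height_eq_zero]
      exact fun z _ => (hgen y).trans (hmin z)
    have : topologicalKrullDim C ≤ 0 := by
      rw [Groth.Variety2.Dim.dim_eq_iSup_height]
      exact iSup_le fun y => by simp [hall y]
    rw [hC] at this
    norm_num at this
  have hlt : j y < j c := by
    refine lt_of_le_not_ge (Scheme.le_iff_specializes.2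
      ((Scheme.le_iff_specializes.1 hy.le).map j.continuous)) fun h => hy.not_ge ?_
    exact Scheme.le_iff_specializes.2
      (j.isClosedEmbedding.isInducing.specializes_iff.1 (Scheme.le_iff_specializes.1 h))
  have h1 := Groth.Duality.ringKrullDim_stalk_le (X := S) (j y)
  rw [hdim, ringKrullDim_stalk_eq_coheight] at h1
  rw [ringKrullDim_stalk_eq_coheight] at hx2
  have h2 : Order.coheight (j c) + 1 ≤ Order.coheight (j y) := Order.coheight_add_one_le hlt
  have h3 : Order.coheight (j y) ≤ 2 := WithBot.coe_le_coe.1 h1
  have h4 : Order.coheight (j c) = 2 := WithBot.coe_inj.1 hx2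
  rw [h4] at h2
  exact absurd (h2.trans h3) (by decide)

end Groth.Agent.S15848
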