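import Groth.Statements.S5791
import Groth.Agent.Ega4Algebra1.PdBasic
import Mathlib.RingTheory.Flat.Localization
import Mathlib.RingTheory.LocalProperties.Projective

set_option autoImplicit false
universe u
open CategoryTheory
open EGA41

namespace Groth.Agent.S5791

open Groth.Ega4Algebra1 in
theorem aux (A : Type u) [CommRing A] [IsNoetherianRing A] : ∀ (n : ℕ) (M : Type u) [AddCommGroup M]
    [Module A M] [Module.Finite A M],
    (∀ p : PrimeSpectrum A, PdLT (Localization.AtPrime p.asIdeal)
      (TensorProduct A (Localization.AtPrime p.asIdeal) M) (n + 1)) → PdLT A M (n + 1) := by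
  intro n
  induction n with
  | zero =>
    intro M _ _ _ h
    rw [PdLT.one_iff]
    have := Module.finitePresentation_of_finite A M
    refine Module.projective_of_localization_maximal fun m hm => ?_
    have := PdLT.one_iff.mp (h ⟨m, inferInstance⟩)
    exact Module.Projective.of_equiv (LocalizedModule.equivTensorProduct m.primeCompl M).symm
  | succ n ih =>
    intro M _ _ _ h
    obtain ⟨k, f, hf⟩ := exists_surjective_fin A M
    rw [PdLT.ker_iff f hf]
    have := isNoetherian_pi (R := A) (ι := Fin k) (M := fun _ => A)
    refine ih (LinearMap.ker f) fun p => ?_
    have : Module.Flat A (Localization.AtPrime p.asIdeal) := IsLocalization.flat _ p.asIdeal.primeCompl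
    obtain ⟨e⟩ := exists_equiv_ker_baseChange (B := Localization.AtPrime p.asIdeal) f
    exact PdLT.of_equiv e.symm ((PdLT.ker_iff (f.baseChange (Localization.AtPrime p.asIdeal)) (LinearMap.lTensor_surjective _ hf) n).mp (h p))


/-- Let A be a Noetherian ring and M a finitely generated A-module. The projective dimension of M is the
supremum over the prime ideals p of the projective dimensions of M_p over A_p; equivalently, for
every n, M has projective dimension at most n if and only if every M_p has projective dimension at
most n over A_p. -/
theorem result (A : Type u) [CommRing A] [IsNoetherianRing A]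
    (M : Type u) [AddCommGroup M] [Module A M] [Module.Finite A M] (n : ℕ) :
    HasProjectiveDimensionLT (ModuleCat.of A M) (n + 1) ↔
      ∀ p : PrimeSpectrum A, HasProjectiveDimensionLT
        (ModuleCat.of (Localization.AtPrime p.asIdeal) (LocalizedModule p.asIdeal.primeCompl M)) (n + 1) := by
  constructor
  · intro h p
    have : Module.Flat A (Localization.AtPrime p.asIdeal) := IsLocalization.flat _ p.asIdeal.primeCompl
    exact Groth.Ega4Algebra1.PdLT.of_equiv (LocalizedModule.equivTensorProduct p.asIdeal.primeCompl M).symm
      (Groth.Ega4Algebra1.PdLT.baseChange (B := Localization.AtPrime p.asIdeal) (n + 1) h)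
  · intro h
    exact aux A n M fun p =>
      Groth.Ega4Algebra1.PdLT.of_equiv (LocalizedModule.equivTensorProduct p.asIdeal.primeCompl M) (h p)

end Groth.Agent.S5791
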