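import Groth.Statements.S19606
import Groth.Agent.OmegaSheaf.IdealMod
import Groth.Agent.OmegaSheaf.IsoLocal

set_option autoImplicit false
universe u
open CategoryTheory CategoryTheory.Limits AlgebraicGeometry
open ClSub

namespace Groth.Agent.S19606

/-- Let X be a scheme and I₁, I₂ quasi-coherent ideal sheaves with I₁ ⊓ I₂ = 0, cutting out closed
subschemes X₁, X₂ and X₁ ∩ X₂ (ideal I₁ + I₂). Then 0 → O_X → O_X/I₁ ⊕ O_X/I₂ → O_X/(I₁ + I₂) → 0 is
an exact sequence of O_X-modules, the maps being the two restrictions and the difference of the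
restrictions q₁, q₂ (the module maps compatible with the quotient maps from O_X). The published
statement is for a locally free sheaf E on a reduced scheme with two irreducible components X₁, X₂
(whose ideals meet in zero); this row is the case E = O_X for any two ideals with zero intersection,
which is what the local argument uses. -/
theorem result (X : Scheme.{u}) (I₁ I₂ : X.IdealSheafData)
    (h : I₁ ⊓ I₂ = ⊥)
    (q₁ : ClSub.quotMod I₁ ⟶ ClSub.quotMod (I₁ ⊔ I₂)) (q₂ : ClSub.quotMod I₂ ⟶ ClSub.quotMod (I₁ ⊔ I₂))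
    (hq₁ : ClSub.toSubscheme I₁ ≫ q₁ = ClSub.toSubscheme (I₁ ⊔ I₂))
    (hq₂ : ClSub.toSubscheme I₂ ≫ q₂ = ClSub.toSubscheme (I₁ ⊔ I₂)) :
    Epi (biprod.desc q₁ (-q₂)) ∧
      ∃ w : biprod.lift (ClSub.toSubscheme I₁) (ClSub.toSubscheme I₂) ≫ biprod.desc q₁ (-q₂) = 0,
        Nonempty (IsLimit (KernelFork.ofι (biprod.lift (ClSub.toSubscheme I₁) (ClSub.toSubscheme I₂)) w)) := by
  have hsurj : ∀ (I : X.IdealSheafData) (U : X.affineOpens), Function.Surjective ((ClSub.toSubscheme I).app U.1) :=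
    fun I U => I.subschemeι_app_surjective U
  have hzero : ∀ (I : X.IdealSheafData) (U : X.affineOpens) (x : Γ(Coh.structureModule X, U.1)),
      (ClSub.toSubscheme I).app U.1 x = 0 ↔ (show Γ(X, U.1) from x) ∈ I.ideal U := by
    intro I U x
    rw [← Scheme.IdealSheafData.ker_subschemeι_app]
    rfl
  have hsub12 : Epi (ClSub.toSubscheme (I₁ ⊔ I₂)) :=
    Groth.QCohMod.epi_of_affine_surjective _ fun U hU => hsurj _ ⟨U, hU⟩
  haveI : Epi q₁ := by
    have : Epi (ClSub.toSubscheme I₁ ≫ q₁) := hq₁ ▸ hsub12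
    exact epi_of_epi (ClSub.toSubscheme I₁) q₁
  have w : biprod.lift (ClSub.toSubscheme I₁) (ClSub.toSubscheme I₂) ≫ biprod.desc q₁ (-q₂) = 0 := by
    simp [hq₁, hq₂]
  refine ⟨?_, w, ⟨?_⟩⟩
  · have : Epi (biprod.inl ≫ biprod.desc q₁ (-q₂)) := by rw [biprod.inl_desc]; infer_instance
    exact epi_of_epi biprod.inl _
  let L : Coh.structureModule X ⟶ kernel (biprod.desc q₁ (-q₂)) := kernel.lift _ _ w
  have hL : L ≫ kernel.ι _ = biprod.lift (ClSub.toSubscheme I₁) (ClSub.toSubscheme I₂) := kernel.lift_ι _ _ _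
  haveI : IsIso L := by
    refine Groth.OmegaSheaf.isIso_of_affine_cover L fun x => ?_
    obtain ⟨U, hU, hx⟩ := Groth.QCohMod.exists_affine_mem x
    refine ⟨U, hU, hx, (injective_iff_map_eq_zero _).2 fun s hs => ?_, fun z => ?_⟩
    · have h1 : ∀ (Q : X.Modules) (pr : (ClSub.quotMod I₁ ⊞ ClSub.quotMod I₂ : X.Modules) ⟶ Q),
          (biprod.lift (ClSub.toSubscheme I₁) (ClSub.toSubscheme I₂) ≫ pr).app U s = 0 := by
        intro Q pr
        rw [← hL]
        simp only [Category.assoc, Scheme.Modules.Hom.comp_app, AddCommGrpCat.hom_comp, AddMonoidHom.comp_apply, hs, map_zero]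
      have ha := h1 _ biprod.fst
      have hb := h1 _ biprod.snd
      rw [biprod.lift_fst, hzero I₁ ⟨U, hU⟩] at ha
      rw [biprod.lift_snd, hzero I₂ ⟨U, hU⟩] at hb
      have : (show Γ(X, U) from s) ∈ (I₁ ⊓ I₂).ideal ⟨U, hU⟩ := by
        rw [Scheme.IdealSheafData.ideal_inf]; exact ⟨ha, hb⟩
      rw [h, Scheme.IdealSheafData.ideal_bot] at this
      exact this
    · let y := (kernel.ι (biprod.desc q₁ (-q₂))).app U z
      obtain ⟨x₁, hx₁⟩ := hsurj I₁ ⟨U, hU⟩ ((biprod.fst : _ ⟶ ClSub.quotMod I₁).app U y)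
      obtain ⟨x₂, hx₂⟩ := hsurj I₂ ⟨U, hU⟩ ((biprod.snd : _ ⟶ ClSub.quotMod I₂).app U y)
      have hy : (biprod.fst ≫ q₁).app U y - (biprod.snd ≫ q₂).app U y = 0 := by
        have e : (biprod.desc q₁ (-q₂)) = biprod.fst ≫ q₁ - biprod.snd ≫ q₂ := by
          rw [biprod.desc_eq, Preadditive.comp_neg, sub_eq_add_neg]
        have this : (biprod.desc q₁ (-q₂)).app U y = 0 := congr($(kernel.condition (biprod.desc q₁ (-q₂))).app U z)
        rw [e] at this
        exact this
      have hd : (ClSub.toSubscheme (I₁ ⊔ I₂)).app U (x₁ - x₂) = 0 := by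
        rw [map_sub]
        have e1 := congr($(hq₁).app U x₁)
        have e2 := congr($(hq₂).app U x₂)
        rw [← e1, ← e2]
        simp only [Scheme.Modules.Hom.comp_app, AddCommGrpCat.hom_comp, AddMonoidHom.comp_apply, hx₁, hx₂] at hy ⊢
        exact hy
      have hd' := (hzero _ ⟨U, hU⟩ _).1 hd
      rw [Scheme.IdealSheafData.ideal_sup, Pi.sup_apply, Submodule.mem_sup] at hd'
      obtain ⟨i₁, hi₁, i₂, hi₂, he⟩ := hd'
      refine ⟨x₁ - (show Γ(Coh.structureModule X, U) from i₁), Groth.QCohMod.app_injective_of_mono (kernel.ι _) U ?_⟩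
      have e1 : (ClSub.toSubscheme I₁).app U (x₁ - (show Γ(Coh.structureModule X, U) from i₁)) = (biprod.fst : _ ⟶ ClSub.quotMod I₁).app U y := by
        rw [map_sub, (hzero I₁ ⟨U, hU⟩ _).2 hi₁, sub_zero]; exact hx₁
      have e2 : (ClSub.toSubscheme I₂).app U (x₁ - (show Γ(Coh.structureModule X, U) from i₁)) = (biprod.snd : _ ⟶ ClSub.quotMod I₂).app U y := by
        rw [show x₁ - (show Γ(Coh.structureModule X, U) from i₁) = x₂ + (show Γ(Coh.structureModule X, U) from i₂) from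
          eq_add_of_sub_eq' (by rw [sub_sub, add_comm, ← sub_sub]; exact sub_eq_of_eq_add' he.symm),
          map_add, (hzero I₂ ⟨U, hU⟩ _).2 hi₂, add_zero]
        exact hx₂
      show (L ≫ kernel.ι _).app U _ = y
      rw [hL, biprod.lift_eq]
      conv_rhs => rw [show y = ((biprod.fst : _ ⟶ ClSub.quotMod I₁) ≫ biprod.inl + (biprod.snd : _ ⟶ ClSub.quotMod I₂) ≫ biprod.inr).app U y by
        rw [biprod.total]; rfl]
      show (biprod.inl : _ ⟶ ClSub.quotMod I₁ ⊞ ClSub.quotMod I₂).app U ((ClSub.toSubscheme I₁).app U _) + (biprod.inr : _ ⟶ ClSub.quotMod I₁ ⊞ ClSub.quotMod I₂).app U ((ClSub.toSubscheme I₂).app U _) = _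
      rw [e1, e2]
      rfl
  exact IsLimit.ofIsoLimit (kernelIsKernel (biprod.desc q₁ (-q₂))) (Fork.ext (asIso L).symm (by
    rw [Iso.symm_hom, asIso_inv, IsIso.inv_comp_eq]
    exact hL.symm))

end Groth.Agent.S19606
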