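import Groth.Statements.S7645
import Groth.Agent.VarietyBC.CurveProj
-- import your own Groth.Agent.* helpers here

set_option autoImplicit false
universe u
open CategoryTheory CategoryTheory.Limits AlgebraicGeometry
open Variety

namespace Groth.Agent.S7645

/-- A proper scheme of dimension at most one over a field k is H-projective over k, i.e. admits a closed
immersion into P^n_k over k for some n. -/
theorem result (k : Type u) [Field k] (X : Scheme.{u}) [X.Over (Spec (CommRingCat.of k))] [IsProper (X ↘ (Spec (CommRingCat.of k)))]
    (hdim : topologicalKrullDim X ≤ 1) :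
    ∃ (n : ℕ) (i : X ⟶ CohB1.ProjSpace n k), IsClosedImmersion i ∧
      i ≫ CohB1.ProjSpace.toSpec n k = X ↘ (Spec (CommRingCat.of k)) := by
  obtain ⟨n, i, hi, -, h⟩ := Groth.VarietyBC.CurveProj.exists_immersion k (X ↘ _) hdim
  haveI : IsProper (i ≫ CohB1.ProjSpace.toSpec n k) := by rw [h]; infer_instance
  haveI : IsProper i := IsProper.of_comp i (CohB1.ProjSpace.toSpec n k)
  exact ⟨n, i, (IsClosedImmersion.iff_isProper_and_mono i).mpr ⟨inferInstance, inferInstance⟩, h⟩

end Groth.Agent.S7645
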