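import Groth.Statements.S1656
import Groth.Agent.Duality.ShriekBridge.Main
import Groth.Agent.S7645
import Groth.Agent.S15517
import Groth.Agent.EulerDeg.Basic
import Groth.Agent.DualMod.Finite
import Groth.Agent.DualMod.RepRel
import Groth.Agent.CohC3.GradedVanishing
import Groth.Agent.EulerDeg.ClosedSupport

set_option backward.isDefEq.respectTransparency false
set_option linter.style.haveILetI false
set_option maxHeartbeats 1000000
set_option synthInstance.maxHeartbeats 400000

set_option autoImplicit false
universe u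
open CategoryTheory CategoryTheory.Limits AlgebraicGeometry
attribute [local instance] HasDerivedCategory.standard
open Curves

namespace Groth.Agent.S1656

theorem dim_stalk {X : Scheme.{u}} (hdim : topologicalKrullDim X ≤ 1)
    (hequi : ∀ Z ∈ irreducibleComponents (X : Type u), topologicalKrullDim Z = 1)
    (x : X) (hx : IsClosed ({x} : Set X)) : ringKrullDim (X.presheaf.stalk x) = ((1 : ℕ) : WithBot ℕ∞) := by
  refine le_antisymm ?_ ?_
  · rw [← PrimeSpectrum.topologicalKrullDim_eq_ringKrullDim]
    exact ((X.fromSpecStalk x).isEmbedding.isInducing.topologicalKrullDim_le).trans hdim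
  · obtain ⟨η, hη⟩ := QuasiSober.sober (isIrreducible_irreducibleComponent (x := x))
      isClosed_irreducibleComponent
    have hne : η ≠ x := by
      rintro rfl
      have h1 := hequi _ (irreducibleComponent_mem_irreducibleComponents η)
      rw [show irreducibleComponent η = {η} from hη.def.symm.trans hx.closure_eq] at h1
      exact absurd (h1 ▸ topologicalKrullDim_zero_of_discreteTopology (X := ({η} : Set X)))
        (not_le.2 zero_lt_one)
    obtain ⟨q, hq⟩ : η ∈ Set.range (X.fromSpecStalk x) := by
      rw [Scheme.range_fromSpecStalk]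
      exact hη.specializes mem_irreducibleComponent
    refine Order.one_le_krullDim_iff.2 ⟨q, IsLocalRing.closedPoint _, lt_of_le_of_ne
      (IsLocalRing.le_maximalIdeal q.2.ne_top) fun he => hne ?_⟩
    rw [← hq, he, Scheme.fromSpecStalk_closedPoint]

theorem aux {k : Type u} [Field k] {X : Scheme.{u}} [X.Over (Spec (CommRingCat.of k))]
    [IsProper (X ↘ Spec (CommRingCat.of k))]
    (hCM : ∀ x : X, LocCoh.IsCohenMacaulayLocalRing (X.presheaf.stalk x))
    (hequi : ∀ Z ∈ irreducibleComponents (X : Type u), topologicalKrullDim Z = 1)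
    (hdim : topologicalKrullDim X ≤ 1)
    {ω : X.Modules} {tr : Coh.HH X ω 1 →ₗ[k] k} (htr : Canon.IsRDualOver k X 1 ω tr) :
    Curv2.euler k X (Coh.structureModule X) = - Curv2.euler k X ω := by
  haveI : AlgebraicGeometry.IsNoetherian X :=
    Groth.Lichtenbaum.isNoetherian_of_field (X ↘ Spec (CommRingCat.of k))
  haveI := Groth.Lichtenbaum.isSeparated_of_field (X ↘ Spec (CommRingCat.of k))
  have hvan : ∀ M : X.Modules, ∀ n, 2 ≤ n → Subsingleton (Coh.HH X M n) := fun M n hn =>
    Groth.EulerDeg.subsingleton_HH_of_dim_le_one X hdim M n hn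
  rcases isEmpty_or_nonempty X with hX | hX
  · have hz : ∀ (M : X.Modules) n, Subsingleton (Coh.HH X M n) := fun M n => by
      refine Groth.CohC3.subsingleton_HH_of_isZero (A := k) ?_ n
      rw [Groth.QCohMod.isZero_iff_support_eq_empty]
      exact Set.eq_empty_of_isEmpty _
    rw [Groth.EulerDeg.euler_eq_sum (N := 0) fun n _ => hz _ n,
      Groth.EulerDeg.euler_eq_sum (N := 0) fun n _ => hz _ n]
    simp
  obtain ⟨N, ι, hι, hιk⟩ := Groth.Agent.S7645.result k X hdim
  haveI := hι
  have hd1 : topologicalKrullDim X = ((1 : ℕ) : WithBot ℕ∞) := by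
    refine le_antisymm hdim ?_
    obtain ⟨x⟩ := hX
    exact (hequi _ (irreducibleComponent_mem_irreducibleComponents x)).ge.trans
      (Topology.IsInducing.subtypeVal.topologicalKrullDim_le)
  have hpair : Groth.DualMod.IsDualPair k ω tr := ⟨htr.1, fun F hF ψ => by
    obtain ⟨φ, hφ, hu⟩ := (Function.bijective_iff_existsUnique _).1 (htr.2 F hF) ψ
    exact ⟨φ, fun x => (LinearMap.congr_fun hφ x).symm,
      fun φ' hφ' => hu φ' (LinearMap.ext fun x => (hφ' x).symm)⟩⟩
  have hωc := Groth.DualMod.isCoh_dualPair hdim hpair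
  haveI : HasExt.{u} X.Modules := hasExt_of_enoughInjectives _
  have hO : Coh.IsCoh (Coh.structureModule X) :=
    Groth.KTheory.LocFree.isCoh (Groth.LocFree.isFinLocFree_unit X)
  obtain ⟨hext, -⟩ := Groth.Agent.S15517.result k N 1 X ι hιk hd1
    (fun x hx => ⟨hCM x, dim_stalk hdim hequi x hx⟩) ω hωc tr
    (fun F hF ψ => hpair.existsUnique F hF.1 ψ) (Coh.structureModule X) hO
  have key : ∀ i, i ≤ 1 → Module.finrank k (Coh.HH X ω i) =
      Module.finrank k (Coh.HH X (Coh.structureModule X) (1 - i)) := fun i hi => by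
    obtain ⟨e⟩ := hext i hi
    let c : Abelian.Ext (Coh.structureModule X) ω i →ₗ[k] Coh.HH X ω i :=
      { toFun := Groth.Duality.ShriekBridge.cls
        map_add' := Groth.Duality.ShriekBridge.cls_add
        map_smul' := fun a x => by
          have h1 : a • x = x.comp (Abelian.Ext.mk₀ (Formal.smulMod k ω a)) (add_zero i) := by
            rw [Abelian.Ext.smul_eq_comp_mk₀]
            refine congrArg (fun z => x.comp (Abelian.Ext.mk₀ z) (add_zero i)) ?_
            rw [KLin.smul_def]
            exact Category.comp_id _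
          rw [h1, Groth.Duality.ShriekBridge.cls_smulMod]
          rfl }
    haveI := Groth.EulerDeg.finite_HH k X hO (1 - i)
    rw [← (LinearEquiv.ofBijective c (Groth.Duality.ShriekBridge.cls_bijective k i ω)).finrank_eq,
      e.finrank_eq, Subspace.dual_finrank_eq]
  rw [Groth.EulerDeg.euler_eq_sum (N := 2) (hvan _), Groth.EulerDeg.euler_eq_sum (N := 2) (hvan _)]
  simp only [Finset.sum_range_succ, Finset.sum_range_zero, key 0 zero_le_one, key 1 le_rfl]
  simp only [Nat.sub_zero, Nat.sub_self]
  ring

/-- Let X be proper over k, Cohen–Macaulay and equidimensional of dimension one, and let ω_X be its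
dualizing module, i.e. the cohomology sheaf in degree -1 of f^! O for f : X → Spec k (assuming the
derived direct image Rf_* on D_QCoh and its right adjoint exist, which is how the shared prelude
presents f^!). Then χ(X, O_X) = -χ(X, ω_X). -/
theorem result (k : Type u) [Field k] (X : Scheme.{u}) [X.Over (Spec (CommRingCat.of k))] [IsProper (X ↘ (Spec (CommRingCat.of k)))]
    (hCM : ∀ x : X, LocCoh.IsCohenMacaulayLocalRing (X.presheaf.stalk x))
    (hequi : ∀ Z ∈ irreducibleComponents (X : Type u), topologicalKrullDim Z = 1)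
    [DCoh.HasRpush (X ↘ (Spec (CommRingCat.of k)))] (h : DCoh.RpushPreservesQCoh (X ↘ (Spec (CommRingCat.of k)))) [DCoh.HasShriek (X ↘ (Spec (CommRingCat.of k))) h]
    (OY : DCoh.DQCoh (Spec (CommRingCat.of k))) (hOY : Nonempty (OY.obj ≅ DCoh.inD (Spec (CommRingCat.of k)) (Coh.structureModule (Spec (CommRingCat.of k))))) :
    Curv2.euler k X (Coh.structureModule X) = - Curv2.euler k X (DCoh.dualizingMod (X ↘ (Spec (CommRingCat.of k))) h OY 1) := by
  have hdim : topologicalKrullDim X ≤ 1 :=
    Groth.DualMod.topologicalKrullDim_le_of_components (n := 1) fun Z hZ => (hequi Z hZ).le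
  obtain ⟨tr, htr⟩ := Groth.Duality.ShriekBridge.exists_isRDualOver_dualizingMod (d := 1)
    (fun P => ((X ↘ (Spec (CommRingCat.of k))).fiberι P).isEmbedding.isInducing.topologicalKrullDim_le.trans
      hdim) h OY hOY
  exact aux hCM hequi hdim htr

end Groth.Agent.S1656
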