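import Groth.Statements.S1276
import Mathlib
import Groth.Agent.S6284

set_option autoImplicit false
universe u
open FlatMor

namespace Groth.Agent.S1276

/-- Let B be a finite type A-algebra, N a finite B-module and p a prime of A. Then there is a finitely
generated ideal J of B annihilating N (so N is a module on the finitely presented closed subscheme
V(J) of Spec B) such that a point of the fibre Spec(κ(p) ⊗ B) lies in V(J) if and only if it lies in
the support of the fibre module of N. -/
theorem result {A B : Type u} [CommRing A] [CommRing B] [Algebra A B] [Algebra.FiniteType A B]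
    (N : Type u) [AddCommGroup N] [Module B N] [Module A N] [IsScalarTower A B N] [Module.Finite B N] (p : Ideal A) [p.IsPrime] :
    ∃ J : Ideal B, J.FG ∧ J ≤ Module.annihilator B N ∧
      ∀ x : PrimeSpectrum (p.Fiber B), FlatCA.fiberIdeal p J ≤ x.asIdeal ↔ x ∈ Module.support (p.Fiber B) (FlatCA.fiberMod p B N) := by
  classical
  letI : Algebra B (p.Fiber B) := Algebra.TensorProduct.rightAlgebra
  have : IsNoetherianRing (p.Fiber B) := Algebra.FiniteType.isNoetherianRing p.ResidueField _
  let I := Module.annihilator B N
  have hmap : ∀ K : Ideal B, FlatCA.fiberIdeal p K = K.map (algebraMap B (p.Fiber B)) := fun _ => rfl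
  -- a finitely generated subideal with the same extension
  have hmap_fg : (I.map (algebraMap B (p.Fiber B))).FG := IsNoetherian.noetherian _
  obtain ⟨t, ht, hts⟩ := Submodule.fg_span_iff_fg_span_finset_subset (R := p.Fiber B)
    (s := algebraMap B (p.Fiber B) '' (I : Set B)) |>.mp hmap_fg
  obtain ⟨t', ht', rfl⟩ := Finset.subset_set_image_iff.mp ht
  refine ⟨Ideal.span (t' : Set B), ⟨t', rfl⟩, Ideal.span_le.mpr ht', fun x => ?_⟩
  have hJ : (Ideal.span (t' : Set B)).map (algebraMap B (p.Fiber B)) = I.map (algebraMap B (p.Fiber B)) := by
    rw [Ideal.map_span]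
    exact (by rw [Finset.coe_image] at hts; exact hts.symm)
  have hsupp := Groth.Agent.S6284.result (R := B) (R' := p.Fiber B) N
  rw [hmap, hJ, Ideal.map_le_iff_le_comap, show Module.support (p.Fiber B) (FlatCA.fiberMod p B N) = _ from hsupp,
    Set.mem_preimage, Module.support_eq_zeroLocus, PrimeSpectrum.mem_zeroLocus]
  rfl

end Groth.Agent.S1276
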