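import Groth.Statements.S12244
import Groth.Agent.Flatmor4.DevissageAt

set_option autoImplicit false
universe u
open FlatMor

namespace Groth.Agent.S12244

open TensorProduct in
/-- All schemes are affine. Let R → S be of finite type, N a finite S-module, p ⊆ R and q ⊆ S primes, 𝒟
a complete dévissage of N/S/R over p in the prelude's algebraic form and 𝒜 a datum making it a
complete dévissage at q (primes qB_i ⊆ B_i over p with purely transcendental residue fields, unique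
primes qA_i ⊆ A_i over them, threaded through q and through the maps B_i → A_{i+1}, relative
dimensions d_i of R → B_i equal to the local dimension of the fibre support of M_i at qB_i). Let R →
R' be a ring map and p' a prime over p with κ(p) → κ(p') bijective, S' the base change of S, N' = N
⊗_S S', and q' a prime of S' over q and over p'. Let 𝒟' be a complete dévissage of N'/S'/R' over p'
of the same length whose rings A'_i, B'_i (i below the length) are base changes of A_i, B_i along R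
→ R' compatibly with B_i → A_i, B_i → A_{i+1}, S → A_0 and S' → A'_0, and whose modules M'_i are
base changes of M_i along A_i → A'_i compatibly with N ≅ M_0 and N' ≅ M'_0. Assume moreover that at
every index at or beyond the length the ring B'_i has a prime over p' and A'_i a prime over that one
(the structure's families run over all natural numbers and constrain nothing at those indices, while
a datum at a point asks for such primes at every index; the condition touches only this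
unconstrained tail and holds, for instance, when the tail repeats the last genuine step — without it
the zero ring could sit there and no datum would exist). Then 𝒟' is a complete dévissage at q' with
the same relative dimensions: there is a datum 𝒜' for (𝒟', q') with d' = d whose primes qB'_i, qA'_i
lie over qB_i, qA_i for every step i below the length. -/
theorem result
    (R S : Type u) [CommRing R] [CommRing S] [Algebra R S] [Algebra.FiniteType R S]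
    (N : Type u) [AddCommGroup N] [Module S N] [Module.Finite S N]
    (p : Ideal R) [p.IsPrime] (q : Ideal S) [q.IsPrime] (𝒟 : FlatCA.CompleteDevissage R S N p)
    (𝒜 : FlatCA.CompleteDevissageAt R S N p q 𝒟)
    (R' : Type u) [CommRing R'] [Algebra R R'] (p' : Ideal R') [p'.IsPrime] [hp' : p'.LiesOver p]
    (hκ : Function.Bijective (Ideal.ResidueField.mapₐ p p' (Algebra.ofId R R') hp'.over))
    (S' : Type u) [CommRing S'] [Algebra R' S'] [Algebra R S'] [Algebra S S'] [IsScalarTower R R' S']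
    [IsScalarTower R S S'] [Algebra.IsPushout R R' S S']
    (N' : Type u) [AddCommGroup N'] [Module S' N'] [Module S N'] [IsScalarTower S S' N']
    (f : N →ₗ[S] N') (hf : IsBaseChange S' f)
    (q' : Ideal S') [q'.IsPrime] [q'.LiesOver q] [q'.LiesOver p']
    (𝒟' : FlatCA.CompleteDevissage R' S' N' p') (hn : 𝒟'.n = 𝒟.n)
    (htail : ∀ i, 𝒟.n ≤ i → ∃ (Q : Ideal (𝒟'.B i)) (P : Ideal (𝒟'.A i)),
      Q.IsPrime ∧ P.IsPrime ∧ Q.LiesOver p' ∧ P.LiesOver Q)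
    [aA : ∀ i : Fin 𝒟.n, Algebra (𝒟.A i) (𝒟'.A i)] [rA : ∀ i : Fin 𝒟.n, Algebra R (𝒟'.A i)]
      [∀ i : Fin 𝒟.n, IsScalarTower R (R') (𝒟'.A i)] [∀ i : Fin 𝒟.n, IsScalarTower R (𝒟.A i) (𝒟'.A i)]
      [aB : ∀ i : Fin 𝒟.n, Algebra (𝒟.B i) (𝒟'.B i)] [rB : ∀ i : Fin 𝒟.n, Algebra R (𝒟'.B i)]
      [∀ i : Fin 𝒟.n, IsScalarTower R (R') (𝒟'.B i)] [∀ i : Fin 𝒟.n, IsScalarTower R (𝒟.B i) (𝒟'.B i)]
      [bA : ∀ i : Fin 𝒟.n, Algebra (𝒟.B i) (𝒟'.A i)] [∀ i : Fin 𝒟.n, IsScalarTower (𝒟.B i) (𝒟.A i) (𝒟'.A i)]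
      [∀ i : Fin 𝒟.n, IsScalarTower (𝒟.B i) (𝒟'.B i) (𝒟'.A i)]
      [bA' : ∀ i : Fin 𝒟.n, Algebra (𝒟.B i) (𝒟'.A (i + 1))]
      [∀ i : Fin 𝒟.n, IsScalarTower (𝒟.B i) (𝒟'.B i) (𝒟'.A (i + 1))]
      [sA : Algebra S (𝒟'.A 0)] [IsScalarTower S (S') (𝒟'.A 0)]
      [mA : ∀ i : Fin 𝒟.n, Module (𝒟.A i) (𝒟'.M i)] [∀ i : Fin 𝒟.n, IsScalarTower (𝒟.A i) (𝒟'.A i) (𝒟'.M i)]
      (gM : ∀ i : Fin 𝒟.n, 𝒟.M i →ₗ[𝒟.A i] 𝒟'.M i)
    (hbc : (letI := aA ⟨0, 𝒟.pos⟩; IsScalarTower S (𝒟.A 0) (𝒟'.A 0)) ∧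
      (∀ x : N, 𝒟'.isoN (f x) = gM ⟨0, 𝒟.pos⟩ (𝒟.isoN x)) ∧
      (∀ (i : Fin 𝒟.n) (h : (i : ℕ) + 1 < 𝒟.n),
        letI := aA ⟨i + 1, h⟩; IsScalarTower (𝒟.B i) (𝒟.A (i + 1)) (𝒟'.A (i + 1))) ∧
      ∀ i : Fin 𝒟.n,
        Algebra.IsPushout R R' (𝒟.A i) (𝒟'.A i) ∧ Algebra.IsPushout R R' (𝒟.B i) (𝒟'.B i) ∧
        IsBaseChange (𝒟'.A i) (gM i)) :
    ∃ 𝒜' : FlatCA.CompleteDevissageAt R' S' N' p' q' 𝒟', 𝒜'.d = 𝒜.d ∧
      ∀ i : Fin 𝒟.n, (𝒜'.qB i).LiesOver (𝒜.qB i) ∧ (𝒜'.qA i).LiesOver (𝒜.qA i) := by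
  classical
  obtain ⟨hS0, -, hstep, hpieces⟩ := hbc
  haveI := fun i => 𝒜.hqB i
  haveI := fun i => 𝒜.hqA i
  haveI := fun i => 𝒜.overB i
  haveI := fun i => 𝒜.overA i
  haveI hAp : ∀ i, (𝒜.qA i).LiesOver p := fun i => Ideal.LiesOver.trans (𝒜.qA i) (𝒜.qB i) p
  have hpick : ∀ i, ∃ (Q : Ideal (𝒟'.B i)) (P : Ideal (𝒟'.A i)), Q.IsPrime ∧ P.IsPrime ∧
      Q.LiesOver p' ∧ P.LiesOver Q ∧
      ∀ h : i < 𝒟.n, letI := aA ⟨i, h⟩; letI := aB ⟨i, h⟩
        Q.LiesOver (𝒜.qB (⟨i, h⟩ : Fin 𝒟.n)) ∧ P.LiesOver (𝒜.qA (⟨i, h⟩ : Fin 𝒟.n)) := by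
    intro i
    by_cases h : i < 𝒟.n
    swap
    · obtain ⟨Q, P, h1, h2, h3, h4⟩ := htail i (not_lt.1 h)
      exact ⟨Q, P, h1, h2, h3, h4, fun h' => absurd h' h⟩
    let j : Fin 𝒟.n := ⟨i, h⟩
    obtain ⟨hA, hB, -⟩ := hpieces j
    haveI := hA; haveI := hB
    obtain ⟨Q, hQ, hQ1, hQ2⟩ :=
      Groth.Flatmor4.exists_liesOver_of_bijective (S' := 𝒟'.B j) p p' hκ (𝒜.qB j)
    obtain ⟨P, hP, hP1, hP2⟩ :=
      Groth.Flatmor4.exists_liesOver_of_bijective (S' := 𝒟'.A j) p p' hκ (𝒜.qA j)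
    refine ⟨Q, P, hQ, hP, hQ2, ?_, fun _ => ⟨hQ1, hP1⟩⟩
    haveI : (P.under (𝒟'.B j)).LiesOver (𝒜.qB j) := ⟨by
      rw [Ideal.LiesOver.over (P := 𝒜.qA j) (p := 𝒜.qB j), Ideal.LiesOver.over (P := P) (p := 𝒜.qA j),
        Ideal.under_under, Ideal.under_under]⟩
    haveI : (P.under (𝒟'.B j)).LiesOver p' := ⟨by
      rw [Ideal.under_under]; exact Ideal.LiesOver.over⟩
    exact ⟨(Groth.Flatmor4.eq_of_liesOver_of_bijective p p' hκ (𝒜.qB j) (P.under (𝒟'.B j)) Q).symm⟩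
  choose QB QA hQB hQA hover hoverA hlies using hpick
  refine ⟨{ qB := QB, qA := QA, hqB := hQB, hqA := hQA, overB := hover, overA := hoverA,
            pureTrans := ?_, uniq := ?_, q0 := ?_, qStep := ?_, d := 𝒜.d, relDim := ?_,
            locDim := ?_ }, rfl, fun j => hlies j j.2⟩
  · intro i hi
    let j : Fin 𝒟.n := ⟨i, hn ▸ hi⟩
    haveI := (hpieces j).2.1
    haveI := hQB i
    haveI := hover i
    haveI : (QB j).LiesOver (𝒜.qB j) := (hlies i j.2).1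
    exact Groth.Flatmor4.purelyTranscendental_baseChange p p' hκ (𝒜.qB j) (QB j)
      (𝒜.pureTrans j j.2)
  · intro i hi Q hQp hQy
    let j : Fin 𝒟.n := ⟨i, hn ▸ hi⟩
    let z₁ : Ideal (𝒟'.A j) := Q
    show z₁ = QA j
    haveI : z₁.IsPrime := hQp
    haveI : z₁.LiesOver (QB j) := hQy
    haveI := (hpieces j).1
    haveI := hQB i; haveI := hQA i; haveI := hover i; haveI := hoverA i
    haveI : (QB j).LiesOver (𝒜.qB j) := (hlies i j.2).1
    haveI : (QA j).LiesOver (𝒜.qA j) := (hlies i j.2).2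
    haveI : (QA j).LiesOver p' := Ideal.LiesOver.trans (QA j) (QB j) p'
    haveI : (z₁.under (𝒟.A j)).LiesOver (𝒜.qB j) := ⟨by
      rw [Ideal.LiesOver.over (P := QB j) (p := 𝒜.qB j), Ideal.LiesOver.over (P := z₁) (p := QB j),
        Ideal.under_under, Ideal.under_under]⟩
    haveI : z₁.LiesOver (𝒜.qA j) := ⟨(𝒜.uniq j j.2 (z₁.under (𝒟.A j)) inferInstance).symm⟩
    haveI : z₁.LiesOver p' := Ideal.LiesOver.trans z₁ (QB j) p'
    exact Groth.Flatmor4.eq_of_liesOver_of_bijective p p' hκ (𝒜.qA j) z₁ (QA j)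
  · let j : Fin 𝒟.n := ⟨0, 𝒟.pos⟩
    letI : Algebra (𝒟.A 0) (𝒟'.A 0) := aA j
    haveI : IsScalarTower S (𝒟.A 0) (𝒟'.A 0) := hS0
    haveI := hQA 0; haveI := hover 0; haveI := hoverA 0
    haveI : (QA 0).LiesOver (𝒜.qA 0) := (hlies 0 j.2).2
    haveI : (QA 0).LiesOver p' := Ideal.LiesOver.trans (QA 0) (QB 0) p'
    haveI : ((QA 0).under S').LiesOver q := ⟨by
      rw [← 𝒜.q0, Ideal.LiesOver.over (P := QA 0) (p := 𝒜.qA 0), Ideal.under_under]
      show ((QA 0).comap (algebraMap (𝒟.A 0) (𝒟'.A 0))).comap (algebraMap S (𝒟.A 0)) = _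
      rw [Ideal.comap_comap, ← IsScalarTower.algebraMap_eq]⟩
    haveI : ((QA 0).under S').LiesOver p' := ⟨by
      rw [Ideal.under_under]; exact Ideal.LiesOver.over⟩
    exact Groth.Flatmor4.eq_of_liesOver_of_bijective p p' hκ q ((QA 0).under S') q'
  · intro i hi
    let j : Fin 𝒟.n := ⟨i, by omega⟩
    have hi' : (j : ℕ) + 1 < 𝒟.n := show i + 1 < 𝒟.n by omega
    let k : Fin 𝒟.n := ⟨i + 1, hi'⟩
    letI : Algebra (𝒟.A (j + 1)) (𝒟'.A (j + 1)) := aA k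
    haveI : IsScalarTower (𝒟.B j) (𝒟.A (j + 1)) (𝒟'.A (j + 1)) := hstep j hi'
    haveI := (hpieces j).2.1
    haveI := hQA (i + 1); haveI := hQB i; haveI := hover i
    haveI := hover (i + 1); haveI := hoverA (i + 1)
    haveI : (QB j).LiesOver (𝒜.qB j) := (hlies i j.2).1
    haveI : (QA (j + 1)).LiesOver (𝒜.qA (j + 1)) := (hlies (i + 1) hi').2
    haveI : (QA (j + 1)).LiesOver p' := Ideal.LiesOver.trans (QA (i + 1)) (QB (i + 1)) p'
    haveI : ((QA (j + 1)).under (𝒟'.B j)).LiesOver (𝒜.qB j) := ⟨by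
      rw [← 𝒜.qStep j hi', Ideal.LiesOver.over (P := QA (j + 1)) (p := 𝒜.qA (j + 1)), Ideal.under_under]
      show ((QA (j + 1)).comap (algebraMap (𝒟.A (j + 1)) (𝒟'.A (j + 1)))).comap
        (algebraMap (𝒟.B j) (𝒟.A (j + 1))) = _
      rw [Ideal.comap_comap, ← IsScalarTower.algebraMap_eq]⟩
    haveI : ((QA (j + 1)).under (𝒟'.B j)).LiesOver p' := ⟨by
      rw [Ideal.under_under]; exact Ideal.LiesOver.over⟩
    exact Groth.Flatmor4.eq_of_liesOver_of_bijective p p' hκ (𝒜.qB j) ((QA (j + 1)).under (𝒟'.B j)) (QB j)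
  · intro i hi
    let j : Fin 𝒟.n := ⟨i, hn ▸ hi⟩
    haveI := (hpieces j).2.1
    exact Groth.Flatmor4.smoothRelDim_baseChange R R' (𝒟.B j) (𝒟'.B j) (𝒜.relDim j j.2)
  · intro i hi
    let j : Fin 𝒟.n := ⟨i, hn ▸ hi⟩
    obtain ⟨hA, hB, hg⟩ := hpieces j
    haveI := hA; haveI := hB
    haveI := 𝒟.finiteBA j j.2
    haveI := 𝒟.finiteM j j.2
    haveI : Module.Finite (𝒟.B j) (𝒟.M j) := Module.Finite.trans (𝒟.A j) (𝒟.M j)
    haveI : Algebra.IsPushout (𝒟.B j) (𝒟'.B j) (𝒟.A j) (𝒟'.A j) :=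
      Groth.Flatmor4.isPushout_cancel (R := R) (R' := R')
    letI : Module (𝒟.B j) (𝒟'.M j) := Module.compHom _ (algebraMap (𝒟.B j) (𝒟'.A j))
    haveI : IsScalarTower (𝒟.B j) (𝒟.A j) (𝒟'.M j) := .of_algebraMap_smul fun r x => by
      show algebraMap (𝒟.B j) (𝒟.A j) r • x = algebraMap (𝒟.B j) (𝒟'.A j) r • x
      rw [IsScalarTower.algebraMap_apply (𝒟.B j) (𝒟.A j) (𝒟'.A j)]
      exact (algebraMap_smul _ _ x).symm
    haveI : IsScalarTower (𝒟.B j) (𝒟'.B j) (𝒟'.M j) := .of_algebraMap_smul fun r x => by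
      show algebraMap (𝒟.B j) (𝒟'.B j) r • x = algebraMap (𝒟.B j) (𝒟'.A j) r • x
      rw [IsScalarTower.algebraMap_apply (𝒟.B j) (𝒟'.B j) (𝒟'.A j)]
      exact (algebraMap_smul _ _ x).symm
    haveI := hQB i; haveI := hover i
    haveI : (QB j).LiesOver (𝒜.qB j) := (hlies i j.2).1
    obtain ⟨ξ, hξ, h1, h2⟩ := Groth.Flatmor4.exists_point_localDim_baseChange p p' hκ
      (Groth.Flatmor4.isBaseChange_restrict_of_isPushout (A := 𝒟.B j) (A' := 𝒟'.B j) hg) (𝒜.qB j)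
      (QB j) (𝒜.locDim j j.2)
    exact ⟨ξ, hξ, h1, h2⟩

end Groth.Agent.S12244
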