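import Groth.Statements.S1285
import Groth.Agent.RaynaudGruson.FibreGenericPoint


set_option autoImplicit false
universe u
open FlatMor TensorProduct

namespace Groth.Agent.S1285

/-- Let (C, D, G) be a one-step dévissage of N/S/R over the prime p (see FlatCA.IsOneStepDevissage), and
suppose pD is prime (the generic point of the fibre of Spec D). Then there are r > 0 and a D-linear
map α from D^r to G which becomes bijective after base change to the residue field of pD; moreover
for every such α the support of the fibre module over p of the cokernel of α has dimension strictly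
less than that of the fibre module of N. -/
theorem result {R S : Type u} [CommRing R] [CommRing S] [Algebra R S] [Algebra.FiniteType R S]
    (N : Type u) [AddCommGroup N] [Module S N] [Module R N] [IsScalarTower R S N] [Module.Finite S N] (p : Ideal R) [p.IsPrime]
    (C D G : Type u) [CommRing C] [CommRing D] [Algebra S C] [Algebra R C] [IsScalarTower R S C]
    [Algebra R D] [Algebra D C] [IsScalarTower R D C] [AddCommGroup G] [Module C G] [Module S G] [IsScalarTower S C G]
    [Module D G] [IsScalarTower D C G] [Module R G] [IsScalarTower R D G]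
    (n : ℕ) (h : FlatCA.IsOneStepDevissage R S N p C D G n) [(p.map (algebraMap R D)).IsPrime] :
    (∃ (r : ℕ) (α : (Fin r → D) →ₗ[D] G), 0 < r ∧ Function.Bijective (α.baseChange (p.map (algebraMap R D)).ResidueField)) ∧
    ∀ (r : ℕ) (α : (Fin r → D) →ₗ[D] G), Function.Bijective (α.baseChange (p.map (algebraMap R D)).ResidueField) →
      Module.supportDim (p.Fiber D) (FlatCA.fiberMod p D (G ⧸ LinearMap.range α)) < (n : WithBot ℕ∞) := by
  classical
  obtain ⟨⟨e⟩, hsurjC, -, hDC, hCG, hsm, -, hdim⟩ := h
  haveI := hDC
  haveI := hCG
  haveI : Module.Finite D G := Module.Finite.trans C G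
  let P := p.map (algebraMap R D)
  refine ⟨?_, fun r α hα => ?_⟩
  · obtain ⟨b, hbt, hbspan, hbli⟩ := exists_linearIndependent P.ResidueField
      (Set.range fun g : G => (1 : P.ResidueField) ⊗ₜ[D] g)
    have htop : Submodule.span P.ResidueField (Set.range fun g : G => (1 : P.ResidueField) ⊗ₜ[D] g) = ⊤ := by
      refine eq_top_iff.2 fun w _ => ?_
      induction w with
      | zero => exact zero_mem _
      | add u v hu hv => exact add_mem (hu trivial) (hv trivial)
      | tmul a g =>
        rw [show a ⊗ₜ[D] g = a • ((1 : P.ResidueField) ⊗ₜ[D] g) by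
          rw [TensorProduct.smul_tmul', smul_eq_mul, mul_one]]
        exact Submodule.smul_mem _ _ (Submodule.subset_span ⟨g, rfl⟩)
    let B : Module.Basis b P.ResidueField (P.ResidueField ⊗[D] G) :=
      Module.Basis.mk hbli (by rw [Subtype.range_coe, hbspan, htop])
    haveI : Fintype b := FiniteDimensional.fintypeBasisIndex B
    let ε : Fin (Fintype.card b) ≃ b := (Fintype.equivFin b).symm
    have hg : ∀ i, ∃ g : G, (1 : P.ResidueField) ⊗ₜ[D] g = (ε i).1 := fun i => hbt (ε i).2
    choose g hg using hg
    let α : (Fin (Fintype.card b) → D) →ₗ[D] G := (Pi.basisFun D _).constr D g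
    have hα : α.baseChange P.ResidueField =
        (((Pi.basisFun D _).baseChange P.ResidueField).equiv B ε).toLinearMap := by
      refine ((Pi.basisFun D _).baseChange P.ResidueField).ext fun i => ?_
      rw [LinearEquiv.coe_coe, Module.Basis.equiv_apply, Module.Basis.baseChange_apply,
        LinearMap.baseChange_tmul, Module.Basis.constr_basis, hg, Module.Basis.mk_apply]
    refine ⟨Fintype.card b, α, ?_, by rw [hα]; exact LinearEquiv.bijective _⟩
    by_contra h0
    have hsub : Subsingleton (P.ResidueField ⊗[D] G) := by
      haveI : IsEmpty b := Fintype.card_eq_zero_iff.1 (by omega)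
      exact B.repr.toEquiv.subsingleton
    have h1 := Groth.RaynaudGruson.FibreGenericPoint.supportDim_fiberMod_lt hsm p G hsub
    have h2 := Groth.RaynaudGruson.FibreGenericPoint.supportDim_fiberMod_le (R := R) (S := S) (C := C) (D := D)
      hsurjC N G e p
    rw [hdim] at h2
    exact absurd (lt_of_le_of_lt h2 h1) (lt_irrefl _)
  · refine Groth.RaynaudGruson.FibreGenericPoint.supportDim_fiberMod_lt hsm p _ ⟨fun u v => ?_⟩
    have hz : ∀ w : P.ResidueField ⊗[D] (G ⧸ LinearMap.range α), w = 0 := by
      intro w
      obtain ⟨x, rfl⟩ := LinearMap.lTensor_surjective P.ResidueField (Submodule.mkQ_surjective _) w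
      obtain ⟨y, rfl⟩ := hα.2 x
      induction y with
      | zero => simp
      | add a c ha hc => rw [map_add, map_add, ha, hc, add_zero]
      | tmul a c =>
        rw [LinearMap.baseChange_tmul, LinearMap.lTensor_tmul, Submodule.mkQ_apply,
          (Submodule.Quotient.mk_eq_zero _).2 (LinearMap.mem_range_self α c), TensorProduct.tmul_zero]
    rw [hz u, hz v]


end Groth.Agent.S1285
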