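import Groth.Statements.S1277
import Groth.Agent.FlatmorThree.FlatAtDescent
import Mathlib.RingTheory.Flat.Stability
import Mathlib.RingTheory.Flat.Localization

set_option autoImplicit false
universe u
open FlatMor

namespace Groth.Agent.S1277


open scoped TensorProduct in
/-- Tensoring with a flat `A`-algebra preserves flatness over the base. -/
theorem flat_tensor_of_flat {R A : Type u} [CommRing R] [CommRing A] [Algebra R A]
    (T : Type u) [CommRing T] [Algebra A T] [Algebra R T] [IsScalarTower R A T]
    [Module.Flat A T] (N : Type u) [AddCommGroup N] [Module A N] [Module R N]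
    [IsScalarTower R A N] [Module.Flat R N] : Module.Flat R (T ⊗[A] N) := by
  rw [Module.Flat.iff_lTensor_preserves_injective_linearMap]
  intro Q Q' _ _ _ _ g hg
  let φ : N ⊗[R] Q →ₗ[A] N ⊗[R] Q' :=
    TensorProduct.AlgebraTensorModule.map (LinearMap.id (R := A) (M := N)) g
  have h1 : Function.Injective φ := Module.Flat.lTensor_preserves_injective_linearMap (M := N) g hg
  have h2 : Function.Injective (φ.lTensor T) := Module.Flat.lTensor_preserves_injective_linearMap φ h1
  let e := TensorProduct.AlgebraTensorModule.assoc R A A T N Q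
  let e' := TensorProduct.AlgebraTensorModule.assoc R A A T N Q'
  have h3 : ⇑(g.lTensor (T ⊗[A] N)) = e'.symm ∘ (φ.lTensor T) ∘ e := by
    funext z
    induction z using TensorProduct.induction_on with
    | zero => simp
    | tmul w q =>
      induction w using TensorProduct.induction_on with
      | zero => simp
      | tmul t n => simp [e, e', φ]
      | add a b ha hb => simp only [TensorProduct.add_tmul, map_add, ha, hb, Function.comp_apply] at *
    | add a b ha hb => simp only [map_add, ha, hb, Function.comp_apply] at *
  rw [h3]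
  exact e'.symm.injective.comp (h2.comp e.injective)

open scoped TensorProduct in
/-- `FlatAt` along a base change by a flat algebra. -/
theorem flatAt_iff_of_flat {R S T : Type u} [CommRing R] [CommRing S] [CommRing T]
    [Algebra R S] [Algebra R T] [Algebra S T] [IsScalarTower R S T] [Module.Flat S T]
    {M M' : Type u} [AddCommGroup M] [Module S M] [Module R M] [IsScalarTower R S M]
    [AddCommGroup M'] [Module T M'] [Module R M'] [IsScalarTower R T M'] [Module S M']
    [IsScalarTower S T M']
    (f : M →ₗ[S] M') (hf : IsBaseChange T f) (q : Ideal S) [q.IsPrime] (q' : Ideal T) [q'.IsPrime]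
    (hq : q'.comap (algebraMap S T) = q) :
    FlatCA.FlatAt R q M ↔ FlatCA.FlatAt R q' M' := by
  let Sq := Localization.AtPrime q
  let Tq := Localization.AtPrime q'
  let φ : Sq →+* Tq := Localization.localRingHom q q' (algebraMap S T) hq.symm
  let _ : Algebra Sq Tq := φ.toAlgebra
  have : IsScalarTower S Sq Tq := .of_algebraMap_eq fun x => by
    rw [RingHom.algebraMap_toAlgebra, Localization.localRingHom_to_map]
    exact IsScalarTower.algebraMap_apply S T Tq x
  have : Module.Flat T Tq := IsLocalization.flat Tq q'.primeCompl
  have : Module.Flat S Tq := Module.Flat.trans S T Tq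
  have : Module.Flat Sq Tq := (Module.flat_iff_of_isLocalization Sq q.primeCompl Tq).mpr inferInstance
  have : IsLocalHom (algebraMap Sq Tq) := Localization.isLocalHom_localRingHom q q' _ hq.symm
  have : Module.FaithfullyFlat Sq Tq := Module.FaithfullyFlat.of_flat_of_isLocalHom
  let Mq := LocalizedModule q.primeCompl M
  let L' := LocalizedModule q'.primeCompl M'
  have : IsScalarTower R Sq Tq := .of_algebraMap_eq fun x => by
    rw [IsScalarTower.algebraMap_apply R S Sq, ← IsScalarTower.algebraMap_apply S Sq Tq,
      IsScalarTower.algebraMap_apply R T Tq, IsScalarTower.algebraMap_apply R S T,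
      ← IsScalarTower.algebraMap_apply S T Tq]
  have : IsScalarTower R Tq L' := IsScalarTower.of_algebraMap_smul fun r x => by
    rw [IsScalarTower.algebraMap_apply R T Tq, algebraMap_smul]
    exact IsScalarTower.algebraMap_smul T r x
  have : IsScalarTower R Sq Mq := IsScalarTower.of_algebraMap_smul fun r x => by
    rw [IsScalarTower.algebraMap_apply R S Sq, algebraMap_smul]
    exact IsScalarTower.algebraMap_smul S r x
  have : IsScalarTower S Tq L' := IsScalarTower.of_algebraMap_smul fun r x => by
    rw [IsScalarTower.algebraMap_apply S T Tq, algebraMap_smul, algebraMap_smul]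
  have h1 : IsBaseChange Tq ((TensorProduct.mk Sq Tq Mq 1).restrictScalars S ∘ₗ
      LocalizedModule.mkLinearMap q.primeCompl M) :=
    IsBaseChange.comp (IsLocalizedModule.isBaseChange q.primeCompl Sq _)
      (TensorProduct.isBaseChange Sq Mq Tq)
  have h2 : IsBaseChange Tq ((LocalizedModule.mkLinearMap q'.primeCompl M').restrictScalars S ∘ₗ f) :=
    IsBaseChange.comp hf (IsLocalizedModule.isBaseChange q'.primeCompl Tq _)
  let e : Tq ⊗[Sq] Mq ≃ₗ[Tq] L' := h1.equiv.symm.trans h2.equiv
  constructor
  · intro h
    have : Module.Flat R Mq := h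
    have : Module.Flat R (Tq ⊗[Sq] Mq) := flat_tensor_of_flat (A := Sq) Tq Mq
    exact Module.Flat.of_linearEquiv (e.restrictScalars R).symm
  · intro h
    have : Module.Flat R L' := h
    have : Module.Flat R (Tq ⊗[Sq] Mq) := Module.Flat.of_linearEquiv (e.restrictScalars R)
    exact Groth.FlatmorThree.flat_of_flat_tensor_faithfullyFlat (A := Sq) Tq Mq

open IsLocalRing in
/-- Let A be a local ring, A → B a local homomorphism of local rings, B → C a flat local homomorphism of
local rings, M a B-module and N = M ⊗_B C. For every local homomorphism of local rings A → A', with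
base changes B' = B ⊗_A A', M', C' = C ⊗_A A', N' (any models): M' is flat over A' at every prime of
B' containing 𝔪_{A'}B' + 𝔪_B B' if and only if N' is flat over A' at every prime of C' containing
𝔪_{A'}C' + 𝔪_C C'. -/
theorem result {A B C : Type u} [CommRing A] [IsLocalRing A] [CommRing B] [IsLocalRing B] [CommRing C] [IsLocalRing C]
    [Algebra A B] [IsLocalHom (algebraMap A B)] [Algebra B C] [IsLocalHom (algebraMap B C)] [Algebra A C] [IsScalarTower A B C] [Module.Flat B C]
    (M : Type u) [AddCommGroup M] [Module B M] (N : Type u) [AddCommGroup N] [Module C N] [Module B N] [IsScalarTower B C N]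
    (g : M →ₗ[B] N) (hg : IsBaseChange C g)
    (A' : Type u) [CommRing A'] [IsLocalRing A'] [Algebra A A'] [IsLocalHom (algebraMap A A')]
    (B' M' : Type u) [CommRing B'] [Algebra B B'] [Algebra A' B'] [Algebra A B'] [IsScalarTower A B B'] [IsScalarTower A A' B']
        [Algebra.IsPushout A B A' B']
        [AddCommGroup M'] [Module B' M'] [Module B M'] [IsScalarTower B B' M'] [Module A' M'] [IsScalarTower A' B' M']
        (fB : M →ₗ[B] M') (hfB : IsBaseChange B' fB)
    (C' N' : Type u) [CommRing C'] [Algebra C C'] [Algebra A' C'] [Algebra A C'] [IsScalarTower A C C'] [IsScalarTower A A' C']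
        [Algebra.IsPushout A C A' C']
        [AddCommGroup N'] [Module C' N'] [Module C N'] [IsScalarTower C C' N'] [Module A' N'] [IsScalarTower A' C' N']
        (fC : N →ₗ[C] N') (hfC : IsBaseChange C' fC) :
    FlatCA.FlatAboveClosedPoints B A' B' M' ↔ FlatCA.FlatAboveClosedPoints C A' C' N' := by
  let _ : Algebra B C' := ((algebraMap C C').comp (algebraMap B C)).toAlgebra
  have : IsScalarTower B C C' := .of_algebraMap_eq fun _ => rfl
  have : IsScalarTower A B C' := .of_algebraMap_eq fun a => by
    rw [IsScalarTower.algebraMap_apply B C C', ← IsScalarTower.algebraMap_apply A B C,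
      ← IsScalarTower.algebraMap_apply A C C']
  let ψ : B' →ₐ[A] C' := Algebra.pushoutDesc B' (IsScalarTower.toAlgHom A B C')
    (IsScalarTower.toAlgHom A A' C') fun x y => mul_comm _ _
  let _ : Algebra B' C' := ψ.toRingHom.toAlgebra
  have : IsScalarTower B B' C' := .of_algebraMap_eq fun b => by
    rw [RingHom.algebraMap_toAlgebra]
    exact (Algebra.pushoutDesc_left (S' := B') (IsScalarTower.toAlgHom A B C') (IsScalarTower.toAlgHom A A' C') (fun x y => mul_comm _ _) b).symm
  have : IsScalarTower A' B' C' := .of_algebraMap_eq fun a => by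
    rw [RingHom.algebraMap_toAlgebra]
    exact (Algebra.pushoutDesc_right (S' := B') (IsScalarTower.toAlgHom A B C') (IsScalarTower.toAlgHom A A' C') (fun x y => mul_comm _ _) a).symm
  have : IsScalarTower A B' C' := .of_algebraMap_eq fun a => by
    rw [RingHom.algebraMap_toAlgebra]
    exact (ψ.commutes a).symm
  have hpo : Algebra.IsPushout B C B' C' :=
    (Algebra.IsPushout.comp_iff (R := A) (S := B) (R' := A') (S' := B') (T := C) (T' := C')).1 inferInstance
  have : Module.Flat B' C' :=
    Module.Flat.isBaseChange B B' C C' (Algebra.IsPushout.out (self := hpo.symm))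
  let _ : Module B N' := Module.compHom N' (algebraMap B C')
  let _ : Module B' N' := Module.compHom N' (algebraMap B' C')
  have : IsScalarTower B C' N' := IsScalarTower.of_algebraMap_smul fun _ _ => rfl
  have : IsScalarTower B' C' N' := IsScalarTower.of_algebraMap_smul fun _ _ => rfl
  have : IsScalarTower B B' N' := IsScalarTower.of_algebraMap_smul fun b x => by
    show algebraMap B' C' (algebraMap B B' b) • x = algebraMap B C' b • x
    rw [← IsScalarTower.algebraMap_apply]
  have : IsScalarTower B C N' := IsScalarTower.of_algebraMap_smul fun b x => by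
    show algebraMap B C b • x = algebraMap B C' b • x
    rw [IsScalarTower.algebraMap_apply B C C']
    exact (algebraMap_smul C' (algebraMap B C b) x).symm
  have : IsScalarTower B B' C' := inferInstance
  have hcomp : IsBaseChange C' (fC.restrictScalars B ∘ₗ g) := IsBaseChange.comp hg hfC
  let fM : M' →ₗ[B'] N' := hfB.lift (fC.restrictScalars B ∘ₗ g)
  have hfM : IsBaseChange C' fM := by
    refine IsBaseChange.of_comp hfB ?_
    rwa [IsBaseChange.lift_comp]
  constructor
  · intro h Q _ hQ
    refine (flatAt_iff_of_flat fM hfM (Q.comap (algebraMap B' C')) Q rfl).1 (h _ (sup_le ?_ ?_))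
    · rw [← Ideal.map_le_iff_le_comap, Ideal.map_map, ← IsScalarTower.algebraMap_eq]
      exact le_sup_left.trans hQ
    · rw [← Ideal.map_le_iff_le_comap, Ideal.map_map, ← IsScalarTower.algebraMap_eq,
        IsScalarTower.algebraMap_eq B C C', ← Ideal.map_map]
      refine (Ideal.map_mono (Ideal.map_le_iff_le_comap.2 fun b hb => ?_)).trans
        (le_sup_right.trans hQ)
      exact (map_mem_nonunits_iff (algebraMap B C) b).2 hb
  · intro h P _ hP
    have hPB : P.comap (algebraMap B B') = maximalIdeal B :=
      ((maximalIdeal.isMaximal B).eq_of_le (Ideal.IsPrime.comap _).ne_top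
        (Ideal.map_le_iff_le_comap.1 (le_sup_right.trans hP))).symm
    obtain ⟨Q, _, hQC, hQP⟩ := Groth.FlatmorThree.exists_prime_over_both (R := B) (S := C) (R' := B')
      (S' := C') (maximalIdeal C) P (hPB.trans (Ideal.ext fun b => (map_mem_nonunits_iff (algebraMap B C) b).symm))
    refine (flatAt_iff_of_flat fM hfM P Q hQP).2 (h Q (sup_le ?_ ?_))
    · rw [IsScalarTower.algebraMap_eq A' B' C', ← Ideal.map_map, Ideal.map_le_iff_le_comap, hQP]
      exact le_sup_left.trans hP
    · exact Ideal.map_le_iff_le_comap.2 hQC.ge

end Groth.Agent.S1277
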