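import Groth.Statements.S6928
import Groth.Agent.FlatMorOne.FlatLocusOpen
import Groth.Agent.FlatMorOne.FlatLocusColimit
import Groth.Agent.FlatmorThree.FlatAtDescent
import Groth.Agent.Calg4.ColimitTensor
import Groth.Agent.Calg1.EssFPModels

set_option autoImplicit false
universe u
open TensorProduct
open FlatMor

namespace Groth.Agent.S6928

section Helpers

open TensorProduct Groth.FlatMorOne

attribute [local instance] Algebra.TensorProduct.rightAlgebra

set_option synthInstance.maxHeartbeats 200000 in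
set_option maxHeartbeats 1000000 in
/-- Flatness at a prime is insensitive to flat base change of the algebra. -/
theorem flatAt_iff_of_flat {B S S' M M' : Type u} [CommRing B] [CommRing S] [CommRing S'] [Algebra B S]
    [Algebra S S'] [Algebra B S'] [IsScalarTower B S S'] [Module.Flat S S'] [AddCommGroup M] [Module S M]
    [Module B M] [IsScalarTower B S M] [AddCommGroup M'] [Module S' M'] [Module B M'] [IsScalarTower B S' M']
    [Module S M'] [IsScalarTower S S' M'] {f : M →ₗ[S] M'} (hf : IsBaseChange S' f) (q' : Ideal S')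
    [q'.IsPrime] :
    Module.Flat B (LocalizedModule (q'.comap (algebraMap S S')).primeCompl M) ↔
      Module.Flat B (LocalizedModule q'.primeCompl M') := by
  let q := q'.comap (algebraMap S S')
  let T := Localization.AtPrime q'
  let Sq := Localization.AtPrime q
  let _ : Algebra Sq T := (Localization.localRingHom q q' (algebraMap S S') rfl).toAlgebra
  have : IsScalarTower S Sq T := .of_algebraMap_eq fun x => by
    rw [RingHom.algebraMap_toAlgebra, Localization.localRingHom_to_map]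
    exact IsScalarTower.algebraMap_apply S S' T x
  have : Module.Flat S' T := IsLocalization.flat _ q'.primeCompl
  have : Module.Flat Sq T :=
    (Module.flat_iff_of_isLocalization Sq q.primeCompl T).mpr (Module.Flat.trans S S' T)
  have : IsLocalHom (algebraMap Sq T) := Localization.isLocalHom_localRingHom q q' _ rfl
  have : Module.FaithfullyFlat Sq T := Module.FaithfullyFlat.of_flat_of_isLocalHom
  have : IsScalarTower B Sq T := .of_algebraMap_eq fun x => by
    rw [IsScalarTower.algebraMap_apply B S Sq, ← IsScalarTower.algebraMap_apply S Sq T,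
      IsScalarTower.algebraMap_apply B S' T, IsScalarTower.algebraMap_apply B S S',
      ← IsScalarTower.algebraMap_apply S S' T]
  let L' := LocalizedModule q'.primeCompl M'
  let Mq := LocalizedModule q.primeCompl M
  have : IsScalarTower S T L' := IsScalarTower.of_algebraMap_smul fun r x => by
    rw [IsScalarTower.algebraMap_apply S S' T, algebraMap_smul, algebraMap_smul]
  have h1 : IsBaseChange T ((TensorProduct.mk Sq T Mq 1).restrictScalars S ∘ₗ
      LocalizedModule.mkLinearMap q.primeCompl M) :=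
    IsBaseChange.comp (IsLocalizedModule.isBaseChange q.primeCompl Sq _)
      (TensorProduct.isBaseChange Sq Mq T)
  have h2 : IsBaseChange T ((LocalizedModule.mkLinearMap q'.primeCompl M').restrictScalars S ∘ₗ f) :=
    IsBaseChange.comp hf (IsLocalizedModule.isBaseChange q'.primeCompl T _)
  let e : T ⊗[Sq] Mq ≃ₗ[T] L' := h1.equiv.symm.trans h2.equiv
  have : IsScalarTower B T L' := IsScalarTower.of_algebraMap_smul fun r x => by
    rw [IsScalarTower.algebraMap_apply B S' T, algebraMap_smul, algebraMap_smul]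
  constructor
  · intro h
    have : Module.Flat B (T ⊗[Sq] Mq) := Groth.FlatmorThree.flat_tensor_of_flat T Mq
    exact Module.Flat.of_linearEquiv (e.symm.restrictScalars B)
  · intro h
    have : Module.Flat B (T ⊗[Sq] Mq) := Module.Flat.of_linearEquiv (e.restrictScalars B)
    exact Groth.FlatmorThree.flat_of_flat_tensor_faithfullyFlat (A := Sq) T Mq

/-- The comparison map from a stage of the model. -/
noncomputable def tau (R₀ S₀ G T : Type u) [CommRing R₀] [CommRing S₀] [CommRing G] [CommRing T]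
    [Algebra R₀ S₀] [Algebra R₀ G] [Algebra R₀ T] [Algebra G T] [Algebra S₀ T] [IsScalarTower R₀ G T]
    [IsScalarTower R₀ S₀ T] : SOf R₀ S₀ G →ₐ[R₀] T :=
  Algebra.TensorProduct.lift (IsScalarTower.toAlgHom R₀ G T) (IsScalarTower.toAlgHom R₀ S₀ T)
    fun _ _ => Commute.all _ _

theorem tau_tmul (R₀ S₀ G T : Type u) [CommRing R₀] [CommRing S₀] [CommRing G] [CommRing T]
    [Algebra R₀ S₀] [Algebra R₀ G] [Algebra R₀ T] [Algebra G T] [Algebra S₀ T] [IsScalarTower R₀ G T]
    [IsScalarTower R₀ S₀ T] (x : G) (s : S₀) :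
    tau R₀ S₀ G T (x ⊗ₜ s) = algebraMap G T x * algebraMap S₀ T s := rfl

set_option synthInstance.maxHeartbeats 200000 in
set_option maxHeartbeats 2000000 in
/-- Flatness of a base change of the module at a prime is read off on the stage of the model. -/
theorem flat_stage_iff {R₀ R S₀ S₁ S M₀ G T N : Type u} [CommRing R₀] [CommRing R] [CommRing S₀]
    [CommRing S₁] [CommRing S] [Algebra R₀ R] [Algebra R₀ S₀] [Algebra R₀ S₁] [Algebra R S₁]
    [Algebra S₀ S₁] [IsScalarTower R₀ R S₁] [IsScalarTower R₀ S₀ S₁] [Algebra.IsPushout R₀ R S₀ S₁]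
    [Algebra S₁ S] [Algebra R S] [IsScalarTower R S₁ S] [Module.Flat S₁ S] [AddCommGroup M₀]
    [Module S₀ M₀] [Module R₀ M₀] [IsScalarTower R₀ S₀ M₀]
    [CommRing G] [Algebra R G] [Algebra R₀ G] [IsScalarTower R₀ R G] [CommRing T] [Algebra G T]
    [Algebra S T] [Algebra R T] [IsScalarTower R S T] [IsScalarTower R G T] [Algebra.IsPushout R S G T]
    [Algebra R₀ T] [IsScalarTower R₀ G T] [Algebra S₀ T] [IsScalarTower R₀ S₀ T]
    (hS₀T : ∀ s : S₀, algebraMap S₀ T s = algebraMap S T (algebraMap S₁ S (algebraMap S₀ S₁ s)))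
    [AddCommGroup N] [Module T N] [Module G N] [IsScalarTower G T N] [Module S₀ N] [IsScalarTower S₀ T N]
    {g₀ : M₀ →ₗ[S₀] N} (hg₀ : IsBaseChange T g₀) (q : Ideal T) [q.IsPrime] :
    Module.Flat G (LocalizedModule (q.comap (tau R₀ S₀ G T).toRingHom).primeCompl (MOf R₀ S₀ M₀ G)) ↔
      Module.Flat G (LocalizedModule q.primeCompl N) := by
  let P := SOf R₀ S₀ G
  let φ₁ : S₁ →ₐ[S₀] P :=
    (sMap R₀ S₀ (IsScalarTower.toAlgHom R₀ R G)).comp (pushoutAlgEquiv R₀ R S₀ S₁).symm.toAlgHom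
  let _ : Algebra S₁ P := φ₁.toRingHom.toAlgebra
  have hS₀P : IsScalarTower S₀ S₁ P := .of_algebraMap_eq fun s => (φ₁.commutes s).symm
  have hRP : IsScalarTower R S₁ P := .of_algebraMap_eq fun r => by
    show _ = sMap R₀ S₀ _ ((pushoutAlgEquiv R₀ R S₀ S₁).symm (algebraMap R S₁ r))
    rw [← pushoutAlgEquiv_algebraMap (R₀ := R₀) (R := R) (S₀ := S₀) (S := S₁), AlgEquiv.symm_apply_apply,
      show algebraMap R (SOf R₀ S₀ R) r = r ⊗ₜ[R₀] (1 : S₀) from rfl, sMap_tmul]
    rfl
  have : IsScalarTower R₀ S₁ P := .of_algebraMap_eq fun r => by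
    rw [IsScalarTower.algebraMap_apply R₀ R S₁ r, ← IsScalarTower.algebraMap_apply R S₁ P,
      IsScalarTower.algebraMap_apply R₀ R P]
  have : Algebra.IsPushout R₀ G S₀ P := TensorProduct.isPushout
  have : Algebra.IsPushout R G S₁ P :=
    (Algebra.IsPushout.comp_iff (R := R₀) (S := R) (R' := S₀) (S' := S₁) (T := G) (T' := P)).mp
      inferInstance
  have : Algebra.IsPushout R S₁ G P := Algebra.IsPushout.symm inferInstance
  let _ : Algebra P T := (tau R₀ S₀ G T).toRingHom.toAlgebra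
  have : IsScalarTower G P T := .of_algebraMap_eq fun x => by
    show _ = tau R₀ S₀ G T (x ⊗ₜ (1 : S₀))
    rw [tau_tmul, map_one, mul_one]
  have : IsScalarTower S₀ P T := .of_algebraMap_eq fun s => by
    show _ = tau R₀ S₀ G T ((1 : G) ⊗ₜ s)
    rw [tau_tmul, map_one, one_mul]
  let _ : Algebra S₁ T := ((algebraMap S T).comp (algebraMap S₁ S)).toAlgebra
  have : IsScalarTower S₁ S T := .of_algebraMap_eq fun _ => rfl
  have : IsScalarTower R S₁ T := .of_algebraMap_eq fun r => by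
    show _ = algebraMap S T (algebraMap S₁ S (algebraMap R S₁ r))
    rw [← IsScalarTower.algebraMap_apply R S₁ S, ← IsScalarTower.algebraMap_apply R S T]
  have : IsScalarTower S₁ P T := .of_algebraMap_eq fun x => by
    obtain ⟨y, rfl⟩ := (pushoutAlgEquiv R₀ R S₀ S₁).surjective x
    show _ = tau R₀ S₀ G T (sMap R₀ S₀ _ ((pushoutAlgEquiv R₀ R S₀ S₁).symm _))
    rw [AlgEquiv.symm_apply_apply]
    induction y using TensorProduct.induction_on with
    | zero => simp
    | tmul r s =>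
      rw [pushoutAlgEquiv_tmul, map_mul, sMap_tmul, tau_tmul, ← IsScalarTower.algebraMap_apply R S₁ T,
        IsScalarTower.coe_toAlgHom', ← IsScalarTower.algebraMap_apply R G T, hS₀T]
      rfl
    | add a b ha hb => simp only [map_add, ha, hb]
  have : IsScalarTower R P T := .of_algebraMap_eq fun r => by
    rw [IsScalarTower.algebraMap_apply R G T, IsScalarTower.algebraMap_apply R G P,
      ← IsScalarTower.algebraMap_apply G P T]
  have : Algebra.IsPushout S₁ S P T :=
    (Algebra.IsPushout.comp_iff (R := R) (S := S₁) (R' := G) (S' := P) (T := S) (T' := T)).mp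
      inferInstance
  have : Algebra.IsPushout S₁ P S T := Algebra.IsPushout.symm inferInstance
  have : Module.Flat P T := Module.Flat.isBaseChange S₁ P S T
    (f := (IsScalarTower.toAlgHom S₁ S T).toLinearMap) Algebra.IsPushout.out
  let _ : Module P N := Module.compHom N (algebraMap P T)
  have : IsScalarTower P T N := IsScalarTower.of_algebraMap_smul fun _ _ => rfl
  have : IsScalarTower S₀ P N := IsScalarTower.of_algebraMap_smul fun s x => by
    rw [← algebraMap_smul T (algebraMap S₀ P s) x, ← IsScalarTower.algebraMap_apply, algebraMap_smul]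
  have hmk : IsBaseChange P (TensorProduct.mk S₀ P M₀ 1) := TensorProduct.isBaseChange S₀ M₀ P
  have hβ : IsBaseChange T (hmk.lift g₀) :=
    IsBaseChange.of_comp hmk (by
      rw [show (hmk.lift g₀).restrictScalars S₀ ∘ₗ TensorProduct.mk S₀ P M₀ 1 = g₀ from hmk.lift_comp g₀]
      exact hg₀)
  exact flatAt_iff_of_flat hβ q

/-- Comparing a transition with the given ones on finitely many tensors. -/
theorem exists_lTensor_agree {A₀ M A : Type u} [CommRing A₀] [AddCommGroup M] [Module A₀ M] [CommRing A]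
    [Algebra A₀ A] {ι : Type u} [Preorder ι] [IsDirectedOrder ι] [Nonempty ι] {G : ι → Type u} [∀ i, CommRing (G i)]
    [∀ i, Algebra A₀ (G i)] {f : ∀ i j, i ≤ j → (G i →ₐ[A₀] G j)} {can : ∀ i, G i →ₐ[A₀] A}
    (H : Groth.Calg4.IsColim f can)
    (hf : ∀ i j k (hij : i ≤ j) (hjk : j ≤ k), (f j k hjk).comp (f i j hij) = f i k (hij.trans hjk))
    {i l : ι} (φ : Groth.Calg4.Trans can i l) (w : M ⊗[A₀] G i) :
    ∃ m, ∃ (h₁ : i ≤ m) (h₂ : l ≤ m), (f l m h₂).toLinearMap.lTensor M (φ.1.toLinearMap.lTensor M w) =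
      (f i m h₁).toLinearMap.lTensor M w := by
  induction w using TensorProduct.induction_on with
  | zero =>
    obtain ⟨m, h₁, h₂⟩ := exists_ge_ge i l
    exact ⟨m, h₁, h₂, by simp⟩
  | tmul a x =>
    obtain ⟨m, h₁, h₂⟩ := exists_ge_ge i l
    have h0 : can m (f l m h₂ (φ.1 x) - f i m h₁ x) = 0 := by
      rw [map_sub, ← AlgHom.comp_apply, H.comp, φ.apply, ← AlgHom.comp_apply, H.comp, sub_self]
    obtain ⟨n, h₃, hn⟩ := H.ker m _ h0
    simp only [map_sub, sub_eq_zero, ← AlgHom.comp_apply, ← AlgHom.comp_assoc, hf] at hn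
    exact ⟨n, h₁.trans h₃, h₂.trans h₃, congrArg (a ⊗ₜ[A₀] ·) hn⟩
  | add a b ha hb =>
    obtain ⟨m, h₁, h₂, ha⟩ := ha
    obtain ⟨m', h₁', h₂', hb⟩ := hb
    obtain ⟨n, hn, hn'⟩ := exists_ge_ge m m'
    refine ⟨n, h₁.trans hn, h₂.trans hn, ?_⟩
    have e1 := congrArg ((f m n hn).toLinearMap.lTensor M) ha
    have e2 := congrArg ((f m' n hn').toLinearMap.lTensor M) hb
    simp only [← LinearMap.comp_apply, ← LinearMap.lTensor_comp, ← AlgHom.comp_toLinearMap, ← AlgHom.comp_assoc, hf] at e1 e2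
    simp only [map_add, ← LinearMap.comp_apply, ← LinearMap.lTensor_comp, ← AlgHom.comp_toLinearMap]
    exact congrArg₂ (· + ·) e1 e2

/-- A monotone family of ideals generating the unit ideal in the colimit does so at some stage. -/
theorem exists_stage_top {A₀ S A : Type u} [CommRing A₀] [CommRing S] [Algebra A₀ S] [CommRing A]
    [Algebra A₀ A] {ι : Type u} [Preorder ι] [IsDirectedOrder ι] [Nonempty ι] {G : ι → Type u}
    [∀ i, CommRing (G i)] [∀ i, Algebra A₀ (G i)] {f : ∀ i j, i ≤ j → (G i →ₐ[A₀] G j)}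
    {can : ∀ i, G i →ₐ[A₀] A} (H : Groth.Calg4.IsColim f can)
    (hf : ∀ i j k (hij : i ≤ j) (hjk : j ≤ k), (f j k hjk).comp (f i j hij) = f i k (hij.trans hjk))
    (E : ∀ i, Ideal (S ⊗[A₀] G i))
    (hE : ∀ i j (h : i ≤ j), (E i).map (Algebra.TensorProduct.map (AlgHom.id A₀ S) (f i j h)).toRingHom ≤ E j)
    (htop : ⨆ i, (E i).map (Algebra.TensorProduct.map (AlgHom.id A₀ S) (can i)).toRingHom = ⊤) (j : ι) :
    ∃ i, j ≤ i ∧ E i = ⊤ := by
  have hnat : ∀ {G' G'' : Type u} [CommRing G'] [Algebra A₀ G'] [CommRing G''] [Algebra A₀ G''] (φ : G' →ₐ[A₀] G'')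
      (w : S ⊗[A₀] G'), φ.toLinearMap.lTensor S w = Algebra.TensorProduct.map (AlgHom.id A₀ S) φ w := by
    intro G' G'' _ _ _ _ φ w
    induction w using TensorProduct.induction_on with
    | zero => simp
    | tmul a x => simp
    | add a b ha hb => simp only [map_add, ha, hb]
  let θ : ∀ i k, i ≤ k → S ⊗[A₀] G i →ₐ[A₀] S ⊗[A₀] G k :=
    fun i k h => Algebra.TensorProduct.map (AlgHom.id A₀ S) (f i k h)
  let c : ∀ i, S ⊗[A₀] G i →ₐ[A₀] S ⊗[A₀] A := fun i => Algebra.TensorProduct.map (AlgHom.id A₀ S) (can i)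
  have hθ : ∀ i k (h : i ≤ k) w, c k (θ i k h w) = c i w := by
    intro i k h w
    show c k (θ i k h w) = _
    simp only [c, θ, ← hnat]
    rw [← LinearMap.comp_apply, ← LinearMap.lTensor_comp, ← AlgHom.comp_toLinearMap, H.comp]
  have hmem : ∀ i k (h : i ≤ k) w, w ∈ E i → θ i k h w ∈ E k := fun i k h w hw =>
    hE i k h (Ideal.mem_map_of_mem _ hw)
  let I : Ideal (S ⊗[A₀] A) :=
    { carrier := {z | ∃ i, ∃ w ∈ E i, c i w = z}
      zero_mem' := ⟨j, 0, zero_mem _, map_zero _⟩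
      add_mem' := by
        rintro _ _ ⟨i, v, hv, rfl⟩ ⟨k, w, hw, rfl⟩
        obtain ⟨m, h₁, h₂⟩ := exists_ge_ge i k
        exact ⟨m, θ i m h₁ v + θ k m h₂ w, add_mem (hmem _ _ _ _ hv) (hmem _ _ _ _ hw), by
          rw [map_add, hθ, hθ]⟩
      smul_mem' := by
        rintro a _ ⟨i, v, hv, rfl⟩
        obtain ⟨k, w, rfl⟩ := H.tensor_surj a
        obtain ⟨m, h₁, h₂⟩ := exists_ge_ge i k
        refine ⟨m, θ k m h₂ w * θ i m h₁ v, Ideal.mul_mem_left _ _ (hmem _ _ _ _ hv), ?_⟩
        rw [map_mul, hθ, hθ, smul_eq_mul, hnat] }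
  have hI : (1 : S ⊗[A₀] A) ∈ I := by
    have hle : ⨆ i, (E i).map (Algebra.TensorProduct.map (AlgHom.id A₀ S) (can i)).toRingHom ≤ I :=
      iSup_le fun i => Ideal.map_le_iff_le_comap.mpr fun w hw => ⟨i, w, hw, rfl⟩
    exact hle (by rw [htop]; exact Submodule.mem_top)
  obtain ⟨i, w, hw, hw1⟩ := hI
  obtain ⟨i', h₁, h₂⟩ := exists_ge_ge i j
  have h0 : (can i').toLinearMap.lTensor S (θ i i' h₁ w - 1) = 0 := by
    rw [hnat, map_sub, map_one, sub_eq_zero]
    exact (hθ i i' h₁ w).trans hw1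
  obtain ⟨l, φ, hφ⟩ := H.tensor_kill _ h0
  obtain ⟨m, h₃, h₄, hm⟩ := exists_lTensor_agree H hf φ (θ i i' h₁ w - 1)
  rw [hφ, map_zero, hnat, map_sub, map_one] at hm
  refine ⟨m, h₂.trans h₃, (Ideal.eq_top_iff_one _).mpr ?_⟩
  rw [← sub_eq_zero.mp hm.symm]
  exact hmem i' m h₃ _ (hmem i i' h₁ w hw)

/-- The map of a stage into the tensor product. -/
noncomputable def rho {R₀ R S₀ S B G : Type u} [CommRing R₀] [CommRing R] [CommRing S₀] [CommRing S] [CommRing B]
    [CommRing G] [Algebra R₀ R] [Algebra R₀ S₀] [Algebra R₀ B] [Algebra R S] [Algebra R G] [Algebra R₀ S]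
    [IsScalarTower R₀ R S] [Algebra R₀ G] [IsScalarTower R₀ R G] [Algebra S₀ S] [IsScalarTower R₀ S₀ S]
    (ψ : B →ₐ[R₀] G) : SOf R₀ S₀ B →ₐ[R₀] S ⊗[R] G :=
  Algebra.TensorProduct.lift
    (((Algebra.TensorProduct.includeRight : G →ₐ[R] S ⊗[R] G).restrictScalars R₀).comp ψ)
    (((Algebra.TensorProduct.includeLeft : S →ₐ[R] S ⊗[R] G).restrictScalars R₀).comp
      (IsScalarTower.toAlgHom R₀ S₀ S))
    fun _ _ => Commute.all _ _

theorem rho_tmul {R₀ R S₀ S B G : Type u} [CommRing R₀] [CommRing R] [CommRing S₀] [CommRing S] [CommRing B]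
    [CommRing G] [Algebra R₀ R] [Algebra R₀ S₀] [Algebra R₀ B] [Algebra R S] [Algebra R G] [Algebra R₀ S]
    [IsScalarTower R₀ R S] [Algebra R₀ G] [IsScalarTower R₀ R G] [Algebra S₀ S] [IsScalarTower R₀ S₀ S]
    (ψ : B →ₐ[R₀] G) (b : B) (s : S₀) :
    rho (R := R) (S := S) ψ (b ⊗ₜ[R₀] s) = algebraMap S₀ S s ⊗ₜ[R] ψ b := by
  show ((1 : S) ⊗ₜ[R] ψ b) * (algebraMap S₀ S s ⊗ₜ[R] (1 : G)) = _
  rw [Algebra.TensorProduct.tmul_mul_tmul, one_mul, mul_one]

theorem map_rho {R₀ R S₀ S B G G' : Type u} [CommRing R₀] [CommRing R] [CommRing S₀] [CommRing S] [CommRing B]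
    [CommRing G] [CommRing G'] [Algebra R₀ R] [Algebra R₀ S₀] [Algebra R₀ B] [Algebra R S] [Algebra R G]
    [Algebra R₀ S] [IsScalarTower R₀ R S] [Algebra R₀ G] [IsScalarTower R₀ R G] [Algebra R G'] [Algebra R₀ G']
    [IsScalarTower R₀ R G'] [Algebra S₀ S] [IsScalarTower R₀ S₀ S] (ψ : B →ₐ[R₀] G) (F : G →ₐ[R] G')
    (x : SOf R₀ S₀ B) :
    Algebra.TensorProduct.map (AlgHom.id R S) F (rho (R := R) ψ x) =
      rho (R := R) ((F.restrictScalars R₀).comp ψ) x := by
  induction x using TensorProduct.induction_on with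
  | zero => simp
  | tmul b s => simp [rho_tmul]
  | add a b ha hb => simp only [map_add, ha, hb]

theorem equiv_rho {R₀ R S₀ S B G T : Type u} [CommRing R₀] [CommRing R] [CommRing S₀] [CommRing S] [CommRing B]
    [CommRing G] [CommRing T] [Algebra R₀ R] [Algebra R₀ S₀] [Algebra R₀ B] [Algebra R S] [Algebra R G]
    [Algebra R₀ S] [IsScalarTower R₀ R S] [Algebra R₀ G] [IsScalarTower R₀ R G] [Algebra S₀ S]
    [IsScalarTower R₀ S₀ S] [Algebra R T] [Algebra S T] [Algebra G T] [IsScalarTower R S T]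
    [IsScalarTower R G T] [Algebra.IsPushout R S G T] [Algebra R₀ T] [IsScalarTower R₀ G T]
    [Algebra S₀ T] [IsScalarTower R₀ S₀ T] [IsScalarTower S₀ S T] (ψ : B →ₐ[R₀] G) (x : SOf R₀ S₀ B) :
    Algebra.IsPushout.equiv R S G T (rho (R := R) ψ x) = tau R₀ S₀ G T (sMap R₀ S₀ ψ x) := by
  induction x using TensorProduct.induction_on with
  | zero => simp
  | tmul b s =>
    rw [rho_tmul, sMap_tmul, tau_tmul, Algebra.IsPushout.equiv_tmul, mul_comm,
      ← IsScalarTower.algebraMap_apply S₀ S T]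
  | add a b ha hb => simp only [map_add, ha, hb]

theorem sMap_restrict {R₀ S₀ R : Type u} [CommRing R₀] [CommRing S₀] [Algebra R₀ S₀] [CommRing R]
    [Algebra R₀ R] {A B : Subalgebra R₀ R} (h : A ≤ B) :
    (sMap R₀ S₀ B.val).toRingHom.comp (sMap R₀ S₀ (Subalgebra.inclusion h)).toRingHom =
      (sMap R₀ S₀ A.val).toRingHom :=
  RingHom.ext fun x => sMap_sMap R₀ S₀ (Subalgebra.inclusion h) B.val x

set_option synthInstance.maxHeartbeats 200000 in
set_option maxHeartbeats 2000000 in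
/-- One finitely generated stage is flat below all primes of a compact set of flat primes. -/
theorem exists_stage_flat_on {R₀ S₀ M₀ R : Type u} [CommRing R₀] [IsNoetherianRing R₀] [CommRing S₀]
    [Algebra R₀ S₀] [Algebra.FiniteType R₀ S₀] [AddCommGroup M₀] [Module S₀ M₀] [Module R₀ M₀]
    [IsScalarTower R₀ S₀ M₀] [Module.Finite S₀ M₀] [CommRing R] [Algebra R₀ R]
    {Z : Set (PrimeSpectrum (SOf R₀ S₀ R))} (hZ : IsCompact Z)
    (h : ∀ z ∈ Z, Module.Flat R (LocalizedModule z.asIdeal.primeCompl (MOf R₀ S₀ M₀ R))) :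
    ∃ (B : Subalgebra R₀ R) (_ : B.FG) (C : Ideal (SOf R₀ S₀ B)),
      (∀ b : PrimeSpectrum (SOf R₀ S₀ B), ¬ C ≤ b.asIdeal →
        Module.Flat B (LocalizedModule b.asIdeal.primeCompl (MOf R₀ S₀ M₀ B))) ∧
      ∀ z ∈ Z, ¬ C ≤ z.asIdeal.comap (sMap R₀ S₀ B.val) := by
  classical
  choose A hA hflat using fun z : Z =>
    exists_stage_flat R₀ S₀ M₀ (R := R) z.1.asIdeal (hflat := h z.1 z.2)
  have hN : ∀ z, IsNoetherianRing (A z) := fun z => isNoetherianRing_of_fg (hA z)
  let U : ∀ z, Set (PrimeSpectrum (SOf R₀ S₀ (A z))) := fun z =>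
    {b | Module.Flat (A z) (LocalizedModule b.asIdeal.primeCompl (MOf R₀ S₀ M₀ (A z)))}
  obtain ⟨t, ht⟩ := hZ.elim_finite_subcover
    (fun z => PrimeSpectrum.comap (sMap R₀ S₀ (A z).val).toRingHom ⁻¹' U z)
    (fun z => by
      have := hN z
      exact isOpen_flatLocus_of_isNoetherianRing.preimage (PrimeSpectrum.continuous_comap _))
    (fun z hz => Set.mem_iUnion.mpr ⟨⟨z, hz⟩, hflat ⟨z, hz⟩ (A ⟨z, hz⟩) (hA _) le_rfl⟩)
  let B := t.sup A
  have hB : B.FG := Finset.sup_induction Subalgebra.fg_bot (fun _ ha _ hb => ha.sup hb) (fun q _ => hA q)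
  have : IsNoetherianRing B := isNoetherianRing_of_fg hB
  let UB : Set (PrimeSpectrum (SOf R₀ S₀ B)) :=
    {b | Module.Flat B (LocalizedModule b.asIdeal.primeCompl (MOf R₀ S₀ M₀ B))}
  have hUB : IsOpen UB := isOpen_flatLocus_of_isNoetherianRing
  obtain ⟨C, hC⟩ := (PrimeSpectrum.isClosed_iff_zeroLocus_ideal _).mp hUB.isClosed_compl
  have hmem : ∀ b : PrimeSpectrum (SOf R₀ S₀ B), b ∈ UB ↔ ¬ C ≤ b.asIdeal := fun b => by
    rw [← not_iff_not, not_not, ← Set.mem_compl_iff, hC, PrimeSpectrum.mem_zeroLocus, SetLike.coe_subset_coe]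
  refine ⟨B, hB, C, fun b hb => (hmem b).mpr hb, fun z hz => ?_⟩
  refine (hmem ⟨z.asIdeal.comap (sMap R₀ S₀ B.val), inferInstance⟩).mp ?_
  obtain ⟨i, hi, hzi⟩ := Set.mem_iUnion₂.mp (ht hz)
  let : Algebra (A i) B := (Subalgebra.inclusion (Finset.le_sup hi : A i ≤ B)).toRingHom.toAlgebra
  have : IsScalarTower R₀ (A i) B := IsScalarTower.of_algebraMap_eq fun r => rfl
  have hcomp : (sMap R₀ S₀ B.val).toRingHom.comp (sMap R₀ S₀ (IsScalarTower.toAlgHom R₀ (A i) B)).toRingHom =
      (sMap R₀ S₀ (A i).val).toRingHom := sMap_restrict (Finset.le_sup hi : A i ≤ B)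
  have : Module.Flat (A i) (LocalizedModule ((z.asIdeal.comap (sMap R₀ S₀ B.val)).comap
      (sMap R₀ S₀ (IsScalarTower.toAlgHom R₀ (A i) B)).toRingHom).primeCompl (MOf R₀ S₀ M₀ (A i))) :=
    flat_localized_of_eq (hq := hzi) (by
      show z.asIdeal.comap _ = (z.asIdeal.comap (sMap R₀ S₀ B.val).toRingHom).comap _
      rw [Ideal.comap_comap, hcomp])
  exact flat_localized_stage (A := A i) (z.asIdeal.comap (sMap R₀ S₀ B.val))

set_option synthInstance.maxHeartbeats 200000 in
/-- Flatness at a prime missing the bad ideal of a stage mapping to `G`. -/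
theorem flat_stage_of_not_le {R₀ S₀ M₀ B G T : Type u} [CommRing R₀] [CommRing S₀] [Algebra R₀ S₀]
    [AddCommGroup M₀] [Module S₀ M₀] [Module R₀ M₀] [IsScalarTower R₀ S₀ M₀] [CommRing B] [Algebra R₀ B]
    [CommRing G] [Algebra R₀ G] [CommRing T] [Algebra R₀ T] [Algebra G T] [Algebra S₀ T]
    [IsScalarTower R₀ G T] [IsScalarTower R₀ S₀ T] (ψ : B →ₐ[R₀] G) (C : Ideal (SOf R₀ S₀ B))
    (hC : ∀ b : PrimeSpectrum (SOf R₀ S₀ B), ¬ C ≤ b.asIdeal →
      Module.Flat B (LocalizedModule b.asIdeal.primeCompl (MOf R₀ S₀ M₀ B)))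
    (q : Ideal T) [q.IsPrime] (hq : ∃ c ∈ C, tau R₀ S₀ G T (sMap R₀ S₀ ψ c) ∉ q) :
    Module.Flat G (LocalizedModule (q.comap (tau R₀ S₀ G T).toRingHom).primeCompl (MOf R₀ S₀ M₀ G)) := by
  let _ : Algebra B G := ψ.toRingHom.toAlgebra
  have : IsScalarTower R₀ B G := .of_algebraMap_eq fun r => (ψ.commutes r).symm
  have := hC ⟨(q.comap (tau R₀ S₀ G T).toRingHom).comap (sMap R₀ S₀ ψ).toRingHom, inferInstance⟩
    (fun hle => by obtain ⟨c, hc, hc'⟩ := hq; exact hc' (hle hc))
  have : Module.Flat B (LocalizedModule ((q.comap (tau R₀ S₀ G T).toRingHom).comap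
      (sMap R₀ S₀ (IsScalarTower.toAlgHom R₀ B G)).toRingHom).primeCompl (MOf R₀ S₀ M₀ B)) := this
  exact flat_localized_stage (A := B) (q.comap (tau R₀ S₀ G T).toRingHom)

end Helpers


/-- Let `R → S` be a ring map that is essentially of finite presentation, `J ⊆ S` an ideal and `M` a
finitely presented `S`-module. Let `(R_λ)` be a directed system of `R`-algebras with colimit `R'`,
and `I_λ ⊆ R_λ` ideals with `I_λ R_μ ⊆ I_μ`, `I' = colim I_λ`, `S' = S ⊗_R R'`, `M' = M ⊗_R R'`. If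
`M'_{𝔮'}` is flat over `R'` for every prime `𝔮' ⊇ I'S' + JS'`, then there is `λ` such that, with
`S_λ = S ⊗_R R_λ` and `M_λ = M ⊗_R R_λ`, `(M_λ)_𝔮` is flat over `R_λ` for every prime `𝔮 ⊇ I_λ S_λ +
J S_λ`. -/
theorem result {R S : Type u} [CommRing R] [CommRing S] [Algebra R S] (hS : FlatCA.EssFinitePresentation R S)
    {M : Type u} [AddCommGroup M] [Module S M] [Module R M] [IsScalarTower R S M] [Module.FinitePresentation S M]
    {ι : Type u} [Preorder ι] (G : ι → Type u) [∀ i, CommRing (G i)] [∀ i, Algebra R (G i)]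
    (g : ∀ i j, i ≤ j → G i →+* G j) (hgR : ∀ i j (h : i ≤ j), (g i j h).comp (algebraMap R (G i)) = algebraMap R (G j))
    (R' : Type u) [CommRing R'] [Algebra R R'] [∀ i, Algebra (G i) R'] [∀ i, IsScalarTower R (G i) R']
    (hcolim : FlatCA.IsDirectedColimitRing G g R')
    (Il : ∀ i, Ideal (G i)) (hIl : ∀ i j (h : i ≤ j), (Il i).map (g i j h) ≤ Il j)
    {S' : Type u} [CommRing S'] [Algebra S S'] [Algebra R' S'] [Algebra R S'] [IsScalarTower R S S']
    [IsScalarTower R R' S'] [Algebra.IsPushout R S R' S']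
    {M' : Type u} [AddCommGroup M'] [Module S' M'] [Module R' M'] [IsScalarTower R' S' M'] [Module S M']
    [IsScalarTower S S' M'] (f : M →ₗ[S] M') (hf : IsBaseChange S' f)
    (J : Ideal S)
    (h : ∀ (q' : Ideal S') [q'.IsPrime],
      (⨆ i, (Il i).map (algebraMap (G i) R')).map (algebraMap R' S') ⊔ J.map (algebraMap S S') ≤ q' →
        FlatCA.FlatAt R' q' M') :
    ∃ i : ι, ∀ (Si Mi : Type u) [CommRing Si] [Algebra S Si] [Algebra (G i) Si] [Algebra R Si] [IsScalarTower R S Si]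
      [IsScalarTower R (G i) Si] [Algebra.IsPushout R S (G i) Si] [AddCommGroup Mi] [Module Si Mi] [Module (G i) Mi]
      [IsScalarTower (G i) Si Mi] [Module S Mi] [IsScalarTower S Si Mi] (fi : M →ₗ[S] Mi), IsBaseChange Si fi →
      ∀ (q : Ideal Si) [q.IsPrime], (Il i).map (algebraMap (G i) Si) ⊔ J.map (algebraMap S Si) ≤ q → FlatCA.FlatAt (G i) q Mi := by
  classical
  obtain ⟨S₁, _, _, _, _, T, hfp, hloc⟩ := hS
  let _ : Module S₁ M := Module.compHom M (algebraMap S₁ S)
  have : IsScalarTower S₁ S M := IsScalarTower.of_algebraMap_smul fun _ _ => rfl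
  have : Module.Flat S₁ S := IsLocalization.flat S T
  obtain ⟨M₁, _, _, hM₁, j₁, hj₁⟩ := Groth.Calg1.exists_fp_model (C := S₁) (S := S) (M := M) T
  have hj : IsBaseChange S j₁ := (isLocalizedModule_iff_isBaseChange T S j₁).1 hj₁
  obtain ⟨R₀, hR₀, S₀, _, _, _, _, hS₀, hpush, M₀, _, _, _, _, _, _, f₀, hM₀, hf₀⟩ :=
    Groth.FlatMorOne.exists_models R S₁ M₁
  have : IsNoetherianRing R₀ := Algebra.FiniteType.isNoetherianRing ℤ R₀
  let _ : Algebra S₀ S := ((algebraMap S₁ S).comp (algebraMap S₀ S₁)).toAlgebra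
  have : IsScalarTower S₀ S₁ S := .of_algebraMap_eq fun _ => rfl
  have : IsScalarTower R₀ R S₁ := .of_algebraMap_eq fun _ => rfl
  have : IsScalarTower R₀ R S := .of_algebraMap_eq fun _ => rfl
  have : IsScalarTower R₀ S₀ S := .of_algebraMap_eq fun r => by
    show _ = algebraMap S₁ S (algebraMap S₀ S₁ (algebraMap R₀ S₀ r))
    rw [← IsScalarTower.algebraMap_apply R₀ S₀ S₁, IsScalarTower.algebraMap_apply R₀ R S₁,
      ← IsScalarTower.algebraMap_apply R S₁ S, ← IsScalarTower.algebraMap_apply R₀ R S]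
  let _ : Module S₀ M := Module.compHom M (algebraMap S₀ S)
  have : IsScalarTower S₀ S M := IsScalarTower.of_algebraMap_smul fun _ _ => rfl
  have : IsScalarTower S₀ S₁ M := IsScalarTower.of_algebraMap_smul fun s x => by
    rw [← algebraMap_smul S (algebraMap S₀ S₁ s) x]
    rfl
  have hcomp₀ : IsBaseChange S (j₁.restrictScalars S₀ ∘ₗ f₀) := IsBaseChange.comp hf₀ hj
  -- the colimit
  obtain ⟨hdir, hne, -, hgg, hgc, hsurj, hker⟩ := hcolim
  have : IsDirectedOrder ι := hdir
  let F : ∀ i k, i ≤ k → G i →ₐ[R] G k := fun i k h =>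
    { g i k h with commutes' := fun r => RingHom.congr_fun (hgR i k h) r }
  let can : ∀ i, G i →ₐ[R] R' := fun i => IsScalarTower.toAlgHom R (G i) R'
  have H : Groth.Calg4.IsColim F can :=
    ⟨fun i k h => AlgHom.ext fun x => RingHom.congr_fun (hgc i k h) x, hsurj, hker⟩
  have hFF : ∀ i k l (hik : i ≤ k) (hkl : k ≤ l), (F k l hkl).comp (F i k hik) = F i l (hik.trans hkl) :=
    fun i k l hik hkl => AlgHom.ext fun x => RingHom.congr_fun (hgg i k l hik hkl) x
  -- the top stage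
  have : IsScalarTower R₀ R' S' := .of_algebraMap_eq fun r => IsScalarTower.algebraMap_apply R R' S' r.1
  let _ : Algebra S₀ S' := ((algebraMap S S').comp (algebraMap S₀ S)).toAlgebra
  have : IsScalarTower S₀ S S' := .of_algebraMap_eq fun _ => rfl
  have : IsScalarTower R₀ S₀ S' := .of_algebraMap_eq fun r => by
    rw [IsScalarTower.algebraMap_apply S₀ S S', ← IsScalarTower.algebraMap_apply R₀ S₀ S]
    exact IsScalarTower.algebraMap_apply R S S' r.1
  let _ : Module S₀ M' := Module.compHom M' (algebraMap S₀ S')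
  have : IsScalarTower S₀ S' M' := IsScalarTower.of_algebraMap_smul fun _ _ => rfl
  have : IsScalarTower S₀ S M' := IsScalarTower.of_algebraMap_smul fun s x => by
    rw [← algebraMap_smul S' (algebraMap S₀ S s) x]
    rfl
  let V : Set (PrimeSpectrum S') := PrimeSpectrum.zeroLocus
    ((⨆ i, (Il i).map (algebraMap (G i) R')).map (algebraMap R' S') ⊔ J.map (algebraMap S S') : Ideal S')
  obtain ⟨B, hB, C, hCflat, hC⟩ := exists_stage_flat_on (R₀ := R₀) (S₀ := S₀) (M₀ := M₀) (R := R')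
    (Z := PrimeSpectrum.comap (tau R₀ S₀ R' S').toRingHom '' V)
    ((PrimeSpectrum.isClosed_zeroLocus _).isCompact.image (PrimeSpectrum.continuous_comap _))
    (by
      rintro _ ⟨q', hq', rfl⟩
      exact (flat_stage_iff (R := R) (S₁ := S₁) (S := S) (fun _ => rfl) (IsBaseChange.comp hcomp₀ hf)
        q'.asIdeal).mpr (h q'.asIdeal hq'))
  have : Algebra.FiniteType R₀ B := (Subalgebra.fg_iff_finiteType B).mp hB
  have : Algebra.FinitePresentation R₀ B := Algebra.FinitePresentation.of_finiteType.mp this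
  obtain ⟨j, φ, hφ⟩ := Groth.FlatMorOne.exists_algHom_stage (R₀ := R₀) (fun i k h => (F i k h).restrictScalars R₀)
    (fun i => (can i).restrictScalars R₀) (fun i k h => AlgHom.ext fun x => AlgHom.congr_fun (H.comp i k h) x)
    hsurj hker B B.val
  let E : ∀ i, Ideal (S ⊗[R] G i) := fun i =>
    (Il i).map (Algebra.TensorProduct.includeRight : G i →ₐ[R] S ⊗[R] G i).toRingHom ⊔
      J.map (Algebra.TensorProduct.includeLeft : S →ₐ[R] S ⊗[R] G i).toRingHom ⊔
      Ideal.span {z | ∃ h : j ≤ i, ∃ c ∈ C, rho (R := R) (((F j i h).restrictScalars R₀).comp φ) c = z}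
  have hE : ∀ i k (h : i ≤ k),
      (E i).map (Algebra.TensorProduct.map (AlgHom.id R S) (F i k h)).toRingHom ≤ E k := by
    intro i k h
    rw [Ideal.map_sup, Ideal.map_sup]
    refine sup_le_sup (sup_le_sup ?_ ?_) ?_
    · rw [Ideal.map_map]
      refine Ideal.map_le_iff_le_comap.mpr fun x hx => ?_
      rw [Ideal.mem_comap]
      refine (?_ : _ = (Algebra.TensorProduct.includeRight : G k →ₐ[R] S ⊗[R] G k).toRingHom (g i k h x)) ▸
        Ideal.mem_map_of_mem _ (hIl i k h (Ideal.mem_map_of_mem _ hx))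
      simp
    · rw [Ideal.map_map]
      refine Ideal.map_le_iff_le_comap.mpr fun x hx => ?_
      rw [Ideal.mem_comap]
      simpa using Ideal.mem_map_of_mem (Algebra.TensorProduct.includeLeft : S →ₐ[R] S ⊗[R] G k).toRingHom hx
    · rw [Ideal.map_span]
      refine Ideal.span_mono ?_
      rintro _ ⟨_, ⟨hji, c, hc, rfl⟩, rfl⟩
      refine ⟨hji.trans h, c, hc, ?_⟩
      refine Eq.trans ?_ (map_rho (R := R) _ (F i k h) c).symm
      congr 2
      exact AlgHom.ext fun x => (AlgHom.congr_fun (hFF j i k hji h) (φ x)).symm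
  have htop : ⨆ i, (E i).map (Algebra.TensorProduct.map (AlgHom.id R S) (can i)).toRingHom = ⊤ := by
    by_contra hne'
    obtain ⟨Q, hQmax, hQ⟩ := Ideal.exists_le_maximal _ hne'
    have := hQmax.isPrime
    let e := Algebra.IsPushout.equiv R S R' S'
    let q' : PrimeSpectrum S' := ⟨Q.comap e.symm, inferInstance⟩
    have hle := fun i => Ideal.map_le_iff_le_comap.mp ((le_iSup (fun i =>
      (E i).map (Algebra.TensorProduct.map (AlgHom.id R S) (can i)).toRingHom) i).trans hQ)
    have hq' : q' ∈ V := by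
      rw [PrimeSpectrum.mem_zeroLocus, SetLike.coe_subset_coe]
      refine sup_le ?_ ?_
      · rw [Ideal.map_iSup]
        refine iSup_le fun i => ?_
        rw [Ideal.map_map]
        refine Ideal.map_le_iff_le_comap.mpr fun x hx => ?_
        show e.symm (algebraMap R' S' (algebraMap (G i) R' x)) ∈ Q
        have h1 := hle i (Ideal.mem_sup_left (Ideal.mem_sup_left (Ideal.mem_map_of_mem _ hx)))
        rw [show algebraMap R' S' (algebraMap (G i) R' x) = e ((1 : S) ⊗ₜ algebraMap (G i) R' x) by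
          simp [e, Algebra.IsPushout.equiv_tmul], AlgEquiv.symm_apply_apply]
        simpa [can] using h1
      · refine Ideal.map_le_iff_le_comap.mpr fun x hx => ?_
        show e.symm (algebraMap S S' x) ∈ Q
        have h1 := hle j (Ideal.mem_sup_left (Ideal.mem_sup_right (Ideal.mem_map_of_mem _ hx)))
        rw [show algebraMap S S' x = e (x ⊗ₜ (1 : R')) by
          simp [e, Algebra.IsPushout.equiv_tmul], AlgEquiv.symm_apply_apply]
        simpa [can] using h1
    refine hC _ ⟨q', hq', rfl⟩ fun c hc => ?_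
    show e.symm (tau R₀ S₀ R' S' (Groth.FlatMorOne.sMap R₀ S₀ B.val c)) ∈ Q
    rw [← equiv_rho (R := R) (S := S) (T := S') B.val c, AlgEquiv.symm_apply_apply]
    have h1 := hle j (Ideal.mem_sup_right (Ideal.subset_span ⟨le_rfl, c, hc, rfl⟩))
    have heq : Algebra.TensorProduct.map (AlgHom.id R S) (can j)
        (rho (R := R) (S := S) (((F j j le_rfl).restrictScalars R₀).comp φ) c) =
        rho (R := R) (S := S) (G := R') B.val c := by
      rw [map_rho]
      congr 2
      exact AlgHom.ext fun x =>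
        (AlgHom.congr_fun (H.comp j j le_rfl) (φ x)).trans (AlgHom.congr_fun hφ x)
    rw [← heq]
    exact h1
  obtain ⟨i, hji, hEi⟩ := exists_stage_top H hFF E hE htop j
  refine ⟨i, fun Si Mi => ?_⟩
  intro _ _ _ _ _ _ _ _ _ _ _ _ _ fi hfi q _ hq
  let ψ : B →ₐ[R₀] G i := ((F j i hji).restrictScalars R₀).comp φ
  have : IsScalarTower R₀ (G i) Si := .of_algebraMap_eq fun r => IsScalarTower.algebraMap_apply R (G i) Si r.1
  let _ : Algebra S₀ Si := ((algebraMap S Si).comp (algebraMap S₀ S)).toAlgebra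
  have : IsScalarTower S₀ S Si := .of_algebraMap_eq fun _ => rfl
  have : IsScalarTower R₀ S₀ Si := .of_algebraMap_eq fun r => by
    rw [IsScalarTower.algebraMap_apply S₀ S Si, ← IsScalarTower.algebraMap_apply R₀ S₀ S]
    exact IsScalarTower.algebraMap_apply R S Si r.1
  let _ : Module S₀ Mi := Module.compHom Mi (algebraMap S₀ Si)
  have : IsScalarTower S₀ Si Mi := IsScalarTower.of_algebraMap_smul fun _ _ => rfl
  have : IsScalarTower S₀ S Mi := IsScalarTower.of_algebraMap_smul fun s x => by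
    rw [← algebraMap_smul Si (algebraMap S₀ S s) x]
    rfl
  refine (flat_stage_iff (R := R) (S₁ := S₁) (S := S) (fun _ => rfl) (IsBaseChange.comp hcomp₀ hfi) q).mp
    (flat_stage_of_not_le (S₀ := S₀) (M₀ := M₀) (G := G i) (T := Si) ψ C hCflat q ?_)
  by_contra hle
  push Not at hle
  refine ‹q.IsPrime›.ne_top (top_le_iff.mp ?_)
  have hEq : (E i).map (Algebra.IsPushout.equiv R S (G i) Si).toRingHom ≤ q := by
    rw [Ideal.map_sup, Ideal.map_sup, Ideal.map_span]
    refine sup_le (sup_le ?_ ?_) (Ideal.span_le.mpr ?_)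
    · rw [Ideal.map_map]
      refine Ideal.map_le_iff_le_comap.mpr fun x hx => ?_
      have h1 := hq (Ideal.mem_sup_left (Ideal.mem_map_of_mem _ hx))
      simpa [Algebra.IsPushout.equiv_tmul] using h1
    · rw [Ideal.map_map]
      refine Ideal.map_le_iff_le_comap.mpr fun x hx => ?_
      have h1 := hq (Ideal.mem_sup_right (Ideal.mem_map_of_mem _ hx))
      simpa [Algebra.IsPushout.equiv_tmul] using h1
    · rintro _ ⟨_, ⟨h', c, hc, rfl⟩, rfl⟩
      show Algebra.IsPushout.equiv R S (G i) Si (rho (R := R) ψ c) ∈ q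
      rw [equiv_rho (R := R) (S := S) (T := Si) ψ c]
      exact hle c hc
  rw [hEi, Ideal.map_top] at hEq
  exact hEq

end Groth.Agent.S6928
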