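import Groth.Statements.S6160
import Groth.Agent.SitesTopoi.Mod.TensorExact
import Groth.Agent.QCohMod.Stalk

set_option autoImplicit false
universe u
open CategoryTheory
open ModSite

namespace Groth.Agent.S6160

open CategoryTheory.Limits in
lemma reflIso {C : Type u} [SmallCategory C] {J : GrothendieckTopology C} (R : Sheaf J RingCat.{u}) :
    (SheafOfModules.toSheaf.{u} R).ReflectsIsomorphisms := by
  have : (SheafOfModules.forget.{u} R ⋙ PresheafOfModules.toPresheaf R.obj).ReflectsIsomorphisms :=
    inferInstance
  have : (SheafOfModules.toSheaf.{u} R ⋙ sheafToPresheaf J AddCommGrpCat.{u}).ReflectsIsomorphisms := this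
  exact reflectsIsomorphisms_of_comp _ (sheafToPresheaf J AddCommGrpCat.{u})

open CategoryTheory.Limits in
lemma limToSheaf {C : Type u} [SmallCategory C] {J : GrothendieckTopology C} (R : Sheaf J RingCat.{u}) :
    PreservesLimitsOfSize.{u, u} (SheafOfModules.toSheaf.{u} R) := by
  have : PreservesLimitsOfSize.{u, u} (SheafOfModules.toSheaf.{u} R ⋙ sheafToPresheaf J AddCommGrpCat.{u}) :=
    inferInstanceAs (PreservesLimitsOfSize.{u, u} (SheafOfModules.forget.{u} R ⋙ PresheafOfModules.toPresheaf R.obj))
  exact preservesLimits_of_reflects_of_preserves _ (sheafToPresheaf J AddCommGrpCat.{u})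

open CategoryTheory.Limits in
/-- Ringed topos of sheaves on a small site; u : A -> B a morphism of sheaves of rings: the
restriction-of-scalars functor from B-Modules to A-Modules commutes with all u-small limits and
colimits and is conservative. -/
theorem result {C : Type u} [SmallCategory C]
    {J : GrothendieckTopology C} {A B : Sheaf J RingCat.{u}} (φ : A ⟶ B) :
    PreservesLimitsOfSize.{u, u} (SheafOfModules.restrictScalars.{u} φ) ∧
    PreservesColimitsOfSize.{u, u} (SheafOfModules.restrictScalars.{u} φ) ∧
    (SheafOfModules.restrictScalars.{u} φ).ReflectsIsomorphisms := by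
  have := reflIso A
  have := reflIso B
  have := limToSheaf A
  have := limToSheaf B
  have hcA : PreservesColimitsOfSize.{u, u} (SheafOfModules.toSheaf.{u} A) :=
    ⟨fun {K} _ => Groth.QCohMod.preservesColimitsOfShape_toSheaf A K⟩
  have hcB : PreservesColimitsOfSize.{u, u} (SheafOfModules.toSheaf.{u} B) :=
    ⟨fun {K} _ => Groth.QCohMod.preservesColimitsOfShape_toSheaf B K⟩
  have hl : PreservesLimitsOfSize.{u, u} (SheafOfModules.restrictScalars.{u} φ ⋙ SheafOfModules.toSheaf.{u} A) :=
    limToSheaf B
  have hc : PreservesColimitsOfSize.{u, u} (SheafOfModules.restrictScalars.{u} φ ⋙ SheafOfModules.toSheaf.{u} A) :=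
    hcB
  have hr : (SheafOfModules.restrictScalars.{u} φ ⋙ SheafOfModules.toSheaf.{u} A).ReflectsIsomorphisms :=
    reflIso B
  have : ReflectsLimitsOfSize.{u, u} (SheafOfModules.toSheaf.{u} A) := reflectsLimits_of_reflectsIsomorphisms
  have : ReflectsColimitsOfSize.{u, u} (SheafOfModules.toSheaf.{u} A) := reflectsColimits_of_reflectsIsomorphisms
  exact ⟨preservesLimits_of_reflects_of_preserves _ (SheafOfModules.toSheaf.{u} A),
    preservesColimits_of_reflects_of_preserves _ (SheafOfModules.toSheaf.{u} A),
    reflectsIsomorphisms_of_comp _ (SheafOfModules.toSheaf.{u} A)⟩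

end Groth.Agent.S6160
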