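import Groth.Statements.S8302
import Groth.Agent.Ega2Proj.DirImg

set_option autoImplicit false
universe u
open CategoryTheory CategoryTheory.Limits AlgebraicGeometry Opposite TopologicalSpace
noncomputable section
open EGA2

namespace Groth.Agent.S8302

/-- The case of a single scheme X affine over S and the identity morphism of X: let f : X → S be an
affine morphism and F, G quasi-coherent O_X-modules. Then the direct image u ↦ f_*(u) is a bijection
from the set of O_X-module homomorphisms F → G onto the set of homomorphisms f_*F → f_*G of modules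
over the direct-image algebra f_*O_X. -/
theorem result {X S : Scheme.{u}} (f : X ⟶ S) [IsAffineHom f]
    (F G : X.Modules) (hF : Coh.IsQCoh F) (hG : Coh.IsQCoh G) :
    Function.Bijective
      ((AMod.dirImg f).map : (F ⟶ G) → ((AMod.dirImg f).obj F ⟶ (AMod.dirImg f).obj G)) := by
  haveI : F.IsQuasicoherent := hF
  refine ⟨fun a b hab => Groth.Ega2Proj.DirImg.hom_ext_preimage f F G fun U _ x =>
    congr(($hab).val.app (op U) x), fun w => ?_⟩
  obtain ⟨φ, hφ⟩ := Groth.Ega2Proj.DirImg.exists_hom_of_preimage f F G
    (fun U _ => AddMonoidHom.mk' (fun x : Γ(F, f ⁻¹ᵁ U) => (w.val.app (op U) x : Γ(G, f ⁻¹ᵁ U)))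
      (fun a b => map_add (w.val.app (op U)).hom a b))
    (fun U _ r x => (w.val.app (op U)).hom.map_smul r x)
    (fun U V _ _ h x => (PresheafOfModules.naturality_apply w.val (homOfLE h).op x).symm)
  refine ⟨φ, ?_⟩
  have : (AMod.toOS (RelSpec.QCAlg.directImage f)).map ((AMod.dirImg f).map φ) =
      (AMod.toOS (RelSpec.QCAlg.directImage f)).map w :=
    Groth.SymAlg.modHom_ext fun U hU x => hφ U hU x
  refine SheafOfModules.hom_ext (PresheafOfModules.hom_ext fun U => ?_)
  ext x
  exact congr(($this).val.app U x)

end Groth.Agent.S8302
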