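import Groth.Statements.S8306
import Groth.Agent.QCohMod.Category
import Mathlib.CategoryTheory.Sites.LocallySurjective

set_option autoImplicit false
universe u
open CategoryTheory CategoryTheory.Limits AlgebraicGeometry Opposite TopologicalSpace
noncomputable section
open EGA2

namespace Groth.Agent.S8306

/-- Exactness: in the form it takes for the direct image: let f : X → S be an affine morphism and v : F
→ G an epimorphism between quasi-coherent O_X-modules. Then the direct image f_*(v) : f_*F → f_*G, a
homomorphism of modules over the direct-image algebra f_*O_X, is again an epimorphism. (The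
published statement says that the module on X attached to a quasi-coherent f_*O_X-module is an exact
functor of that module; since this functor is inverse to the direct image on quasi-coherent modules
and the direct image is left exact, its exactness amounts to the direct image preserving
epimorphisms between quasi-coherent modules.) -/
theorem result {X S : Scheme.{u}} (f : X ⟶ S) [IsAffineHom f]
    (F G : X.Modules) (hF : Coh.IsQCoh F) (hG : Coh.IsQCoh G) (v : F ⟶ G) [Epi v] :
    Epi ((AMod.dirImg f).map v) := by
  haveI : F.IsQuasicoherent := hF
  haveI : G.IsQuasicoherent := hG
  refine (SheafOfModules.toSheaf (AMod.ringSheaf (RelSpec.QCAlg.directImage f))).epi_of_epi_map ?_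
  suffices h : Sheaf.IsLocallySurjective
      ((SheafOfModules.toSheaf (AMod.ringSheaf (RelSpec.QCAlg.directImage f))).map ((AMod.dirImg f).map v)) from
    Sheaf.epi_of_isLocallySurjective _
  constructor
  intro U t x hx
  obtain ⟨V, hV, hxV, hVU⟩ := exists_isAffineOpen_mem_and_subset (x := x) (U := U) hx
  obtain ⟨s, hs⟩ := Groth.QCohMod.app_surjective_of_epi v (hV.preimage f)
    ((G.presheaf.map (homOfLE (f.preimage_mono (show V ≤ U from hVU))).op).hom t)
  exact ⟨V, homOfLE hVU, ⟨s, hs⟩, hxV⟩

end Groth.Agent.S8306
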