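import Groth.Statements.S2469
import Groth.Agent.Ega41Rank.Rigid
open Groth.Ega41Rank

set_option autoImplicit false
universe u
open EGA41

namespace Groth.Agent.S2469

/-- Let L be a finitely generated extension field of K. Then Ω_{L/K} and the imperfection module Υ_{L/K}
(kernel of Ω_{K/ℤ} ⊗_K L → Ω_{L/ℤ}) are finite-dimensional L-vector spaces and rank Ω_{L/K} − rank
Υ_{L/K} equals the transcendence degree of L over K. -/
theorem result {K L : Type u} [Field K] [Field L] [Algebra K L] [Algebra.EssFiniteType K L] :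
    Module.Finite L (Ω[L⁄K]) ∧ Module.Finite L (EGA41.imperfection ℤ K L) ∧
      (Module.finrank L (Ω[L⁄K]) : ℤ) - Module.finrank L (EGA41.imperfection ℤ K L) = Cardinal.toNat (Algebra.trdeg K L) := by
  obtain ⟨⟨hk, hc⟩, d, hd, -, heq⟩ := index_essFiniteType ℤ K L
  haveI := hk; haveI := hc
  have hidx := heq fun M _ _ _ _ => by
    obtain rfl : ‹Algebra ℤ M› = Ring.toIntAlgebra M := Subsingleton.elim _ _
    exact rigid_int M
  rw [LinearMap.index_eq_finrank_sub, (cokerEquiv ℤ K L).finrank_eq] at hidx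
  refine ⟨Module.Finite.equiv (cokerEquiv ℤ K L), hk, ?_⟩
  rw [hd, Cardinal.toNat_natCast]
  show (Module.finrank L Ω[L⁄K] : ℤ) - Module.finrank L (LinearMap.ker (KaehlerDifferential.mapBaseChange ℤ K L)) = _
  omega

end Groth.Agent.S2469
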