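import Groth.Statements.S4533
import Groth.Agent.Ega41Adic.PowerSeries
open Groth.Ega41Adic Groth.SGA7.PS

set_option autoImplicit false
universe u
open EGA41

namespace Groth.Agent.S4533

/-- Let A carry the 𝔞-adic topology and let B = A[[T_1, …, T_n]] carry the product topology, i.e. the
adic topology of the ideal 𝔞B + (T_1, …, T_n) (the kernel of the constant-coefficient map added to
the extension of 𝔞). Then B is a formally smooth A-algebra for these topologies. (The published
statement allows any linearly topologized base ring and any set of indeterminates with the product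
topology; this row takes an adic base and finitely many indeterminates, where the product topology
is adic.) -/
theorem result (A : Type u) [CommRing A] (𝔞 : Ideal A) (n : ℕ) :
    EGA41.IsFormallySmoothAdic A 𝔞 (MvPowerSeries (Fin n) A)
      (𝔞.map (MvPowerSeries.C : A →+* MvPowerSeries (Fin n) A) ⊔
        RingHom.ker (MvPowerSeries.constantCoeff : MvPowerSeries (Fin n) A →+* A)) := by
  intro C _ _ J hJ _ u ⟨m, hm⟩
  rw [← varIdeal_eq_ker] at hm
  choose z hz using fun i => Ideal.Quotient.mk_surjective (u (MvPowerSeries.X i))
  have hnil : ∀ i, IsNilpotent (z i) := fun i => by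
    have h0 : Ideal.Quotient.mk J (z i ^ m) = 0 := by
      rw [map_pow, hz, ← map_pow]
      exact hm _ (Ideal.pow_mem_pow (Ideal.mem_sup_right (X_mem i)) m)
    obtain ⟨t, ht⟩ := hJ
    refine ⟨m * t, ?_⟩
    have := Ideal.pow_mem_pow (Ideal.Quotient.eq_zero_iff_mem.mp h0) t
    rw [ht, Submodule.zero_eq_bot, Ideal.mem_bot] at this
    rw [pow_mul, this]
  obtain ⟨g, hgX, m', hm'⟩ := exists_algHom_powerSeries (A := A) z hnil
  exact ⟨g, algHom_powerSeries_ext (m := max m m')
    (fun x hx => by
      show Ideal.Quotient.mk J (g x) = 0
      rw [hm' x (Ideal.pow_le_pow_right (le_max_right _ _) hx), map_zero])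
    (fun x hx => hm x (Ideal.pow_right_mono le_sup_right _ (Ideal.pow_le_pow_right (le_max_left _ _) hx)))
    fun i => by show Ideal.Quotient.mk J (g (MvPowerSeries.X i)) = _; rw [hgX, hz]⟩

end Groth.Agent.S4533
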