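import Groth.Statements.S2477
import Groth.Agent.Ega41Adic.CompletedKaehlerRank
import Groth.Agent.S4533

set_option autoImplicit false
universe u
open EGA41

namespace Groth.Agent.S2477

open IsLocalRing in
/-- Let k be a field and A = k[[T_1, …, T_r]] with its usual k-algebra structure. Then the adic
completion Ω̂_{A/k} of Ω_{A/k} is a free A-module of rank r. -/
theorem result (k : Type u) [Field k] (r : ℕ) :
    Module.Finite (MvPowerSeries (Fin r) k) (AdicCompletion (maximalIdeal (MvPowerSeries (Fin r) k)) (Ω[MvPowerSeries (Fin r) k⁄k])) ∧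
    Module.Free (MvPowerSeries (Fin r) k) (AdicCompletion (maximalIdeal (MvPowerSeries (Fin r) k)) (Ω[MvPowerSeries (Fin r) k⁄k])) ∧
      Module.finrank (MvPowerSeries (Fin r) k) (AdicCompletion (maximalIdeal (MvPowerSeries (Fin r) k)) (Ω[MvPowerSeries (Fin r) k⁄k])) = r := by
  haveI : IsNoetherianRing (MvPowerSeries (Fin r) k) :=
    (Groth.Calg6.isRegularLocalRing_mvPowerSeries k r).toIsNoetherian
  haveI : IsAdicComplete (maximalIdeal (MvPowerSeries (Fin r) k)) (MvPowerSeries (Fin r) k) := by
    rw [Groth.SGA7.PS.maximalIdeal_eq]; exact Groth.Calg6.isAdicComplete_varIdeal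
  have hfs : CAlgX.IsAdicFormallySmooth k (MvPowerSeries (Fin r) k) (maximalIdeal (MvPowerSeries (Fin r) k)) := by
    refine Groth.Ega41Adic.isAdicFormallySmooth_iff.mpr ?_
    rw [Groth.SGA7.PS.maximalIdeal_eq_ker]
    simpa [Ideal.map_bot] using Groth.Agent.S4533.result k ⊥ r
  have hsurj : Function.Surjective (algebraMap k (ResidueField (MvPowerSeries (Fin r) k))) := by
    intro y
    obtain ⟨g, rfl⟩ := residue_surjective y
    refine ⟨MvPowerSeries.constantCoeff g, ?_⟩
    rw [IsScalarTower.algebraMap_apply k (MvPowerSeries (Fin r) k) (ResidueField (MvPowerSeries (Fin r) k))]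
    refine Ideal.Quotient.eq.mpr ?_
    rw [Groth.SGA7.PS.maximalIdeal_eq_ker, RingHom.mem_ker, map_sub, sub_eq_zero]
    exact MvPowerSeries.constantCoeff_C _
  haveI : Module.Finite k (ResidueField (MvPowerSeries (Fin r) k)) :=
    Module.Finite.of_surjective (Algebra.linearMap k (ResidueField (MvPowerSeries (Fin r) k))) hsurj
  haveI : Algebra.IsAlgebraic k (ResidueField (MvPowerSeries (Fin r) k)) := Algebra.IsAlgebraic.of_finite k _
  obtain ⟨h1, h2, h3⟩ := Groth.Ega41Adic.completedKaehler_free_rank hfs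
  refine ⟨h1, h2, ?_⟩
  rw [trdeg_eq_zero, map_zero, Groth.Calg6.ringKrullDim_mvPowerSeries, Nat.cast_zero, add_zero] at h3
  exact_mod_cast h3

end Groth.Agent.S2477
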