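import Groth.Statements.S2454
import Groth.Agent.Ega41Flat.Proj
import Groth.Agent.Ega41Sep.Separable
open Groth.Ega41Flat Groth.Ega41Adic Groth.Ega41Sep

set_option autoImplicit false
universe u
open EGA41

namespace Groth.Agent.S2454

open IsLocalRing in
/-- Let A → B be a local homomorphism of Noetherian local rings making B a Cohen A-algebra. Then B, with
its adic topology, is formally smooth over A with its adic topology. -/
theorem result {A B : Type u} [CommRing A] [IsLocalRing A] [CommRing B] [IsLocalRing B]
    [Algebra A B] [IsLocalHom (algebraMap A B)] (h : EGA41.IsCohenAlgebra A B) :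
    EGA41.IsFormallySmoothAdic A (maximalIdeal A) B (maximalIdeal B) := by
  obtain ⟨-, hB, -, hflat, hmB, hgr⟩ := h
  refine isFormallySmoothAdic_of_quotient formallyProj_of_flat ?_
  haveI := (formallySmooth_iff_isGeometricallyReduced (ResidueField A) (ResidueField B)).mpr hgr
  letI : Algebra (A ⧸ maximalIdeal A) (ResidueField B) := inferInstanceAs (Algebra (ResidueField A) (ResidueField B))
  let e : ResidueField B ≃ₐ[A ⧸ maximalIdeal A] B ⧸ (maximalIdeal A).map (algebraMap A B) :=
    AlgEquiv.ofRingEquiv (f := Ideal.quotEquivOfEq hmB.symm) fun x => by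
      obtain ⟨a, rfl⟩ := Ideal.Quotient.mk_surjective x
      rfl
  haveI : Algebra.FormallySmooth (A ⧸ maximalIdeal A) (ResidueField B) := ‹Algebra.FormallySmooth (ResidueField A) _›
  haveI : Algebra.FormallySmooth (A ⧸ maximalIdeal A) (B ⧸ (maximalIdeal A).map (algebraMap A B)) := Algebra.FormallySmooth.of_equiv e
  intro C _ _ J hJ _ u _
  exact Algebra.FormallySmooth.exists_lift J hJ u

end Groth.Agent.S2454
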