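import Groth.Statements.S7599
import Groth.Agent.VarietyBC.Reduced
import Groth.Agent.Ega4Algebra2.NormalFieldExt

set_option autoImplicit false
universe u
open CategoryTheory CategoryTheory.Limits AlgebraicGeometry
attribute [local instance] Curv2.stalkAlgebra
open scoped TensorProduct
open Variety

namespace Groth.Agent.S7599


set_option backward.isDefEq.respectTransparency false

/-- Normality of `O_x ⊗ K` from the stalks over `x`, for finite `K`. -/
theorem aux (k : Type u) [Field k] (X : Scheme.{u}) [X.Over (Spec (CommRingCat.of k))] (x : X)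
    (K : Type u) [Field K] [Algebra k K] [Module.Finite k K]
    (h : ∀ x' : Curv2.bc k X K, Curv2.bcFst k X K x' = x →
      IsDomain ((Curv2.bc k X K).presheaf.stalk x') ∧ IsIntegrallyClosed ((Curv2.bc k X K).presheaf.stalk x')) :
    EGA4.IsNormalRing (X.presheaf.stalk x ⊗[k] K) := by
  let S := X.presheaf.stalk x
  refine Groth.Ega4b.isNormalRing_of_forall fun P _ => ?_
  obtain ⟨M, hM, hPM⟩ := P.exists_le_maximal (Ideal.IsPrime.ne_top ‹_›)
  have hmax : (M.comap (algebraMap S (S ⊗[k] K))).IsMaximal := Ideal.isMaximal_comap_of_isIntegral_of_isMaximal M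
  let P' : Spec (CommRingCat.of (X.presheaf.stalk x ⊗[k] K)) := ⟨M, hM.isPrime⟩
  have hx : Curv2.bcFst k X K (Groth.VarietyBC.tensorTo K (Groth.VarietyBC.overSpec_stalk (k := k) x) P') = x := by
    rw [Groth.VarietyBC.tensorTo_fst_apply]
    have : Spec.map (CommRingCat.ofHom Algebra.TensorProduct.includeLeftRingHom) P' =
        IsLocalRing.closedPoint S :=
      PrimeSpectrum.ext (IsLocalRing.eq_maximalIdeal hmax)
    rw [this]
    exact Scheme.fromSpecStalk_closedPoint
  have : IsPreimmersion (X.fromSpecStalk x) := inferInstance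
  have := Groth.VarietyBC.flat_fromSpecStalk X x
  obtain ⟨e⟩ := Groth.VarietyBC.nonempty_stalkEquiv_tensorTo K (Groth.VarietyBC.overSpec_stalk (k := k) x) P'
  obtain ⟨_, _⟩ := h _ hx
  have : IsDomain (Localization.AtPrime M) := e.toMulEquiv.isDomain_iff.mp inferInstance
  have : IsIntegrallyClosed (Localization.AtPrime M) := IsIntegrallyClosed.of_equiv e
  refine ⟨M.primeCompl, Localization.AtPrime M, inferInstance, inferInstance, inferInstance,
    Set.disjoint_left.mpr fun a ha ha' => ha (hPM ha'), fun q _ => ?_⟩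
  exact ⟨IsLocalization.isDomain_localization q.primeCompl_le_nonZeroDivisors,
    isIntegrallyClosed_of_isLocalization _ q.primeCompl q.primeCompl_le_nonZeroDivisors⟩

/-- Let X be a scheme over a field k and x a point of X. These conditions are equivalent: (1) the scheme
X is geometrically normal at x (meaning: for any extension field k' and any point x' of X_{k'} over
x the local ring O_{X_{k'}, x'} is an integrally closed domain); (2) the same for the finite purely
inseparable extensions k' of k only; (3) for every extension field k' of k the ring k' ⊗_k O_{X, x}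
is normal (all its localisations at primes are integrally closed domains). Stated as (1) ↔ (2)
together with (2) ↔ (3). -/
theorem result (k : Type u) [Field k] (X : Scheme.{u}) [X.Over (Spec (CommRingCat.of k))] (x : ↥X) :
    ((∀ (k' : Type u) [Field k'] [Algebra k k'] (x' : ↥(Curv2.bc k X k')), Curv2.bcFst k X k' x' = x →
          IsDomain ↥((Curv2.bc k X k').presheaf.stalk x') ∧ IsIntegrallyClosed ↥((Curv2.bc k X k').presheaf.stalk x')) ↔
      (∀ (k' : Type u) [Field k'] [Algebra k k'] [FiniteDimensional k k'] [IsPurelyInseparable k k'] (x' : ↥(Curv2.bc k X k')), Curv2.bcFst k X k' x' = x →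
          IsDomain ↥((Curv2.bc k X k').presheaf.stalk x') ∧ IsIntegrallyClosed ↥((Curv2.bc k X k').presheaf.stalk x'))) ∧
    ((∀ (k' : Type u) [Field k'] [Algebra k k'] [FiniteDimensional k k'] [IsPurelyInseparable k k'] (x' : ↥(Curv2.bc k X k')), Curv2.bcFst k X k' x' = x →
          IsDomain ↥((Curv2.bc k X k').presheaf.stalk x') ∧ IsIntegrallyClosed ↥((Curv2.bc k X k').presheaf.stalk x')) ↔
      ∀ (k' : Type u) [Field k'] [Algebra k k'], EGA4.IsNormalRing (k' ⊗[k] ↥(X.presheaf.stalk x))) := by
  have h12 : (∀ (k' : Type u) [Field k'] [Algebra k k'] (x' : ↥(Curv2.bc k X k')), Curv2.bcFst k X k' x' = x →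
        IsDomain ↥((Curv2.bc k X k').presheaf.stalk x') ∧ IsIntegrallyClosed ↥((Curv2.bc k X k').presheaf.stalk x')) →
      (∀ (k' : Type u) [Field k'] [Algebra k k'] [FiniteDimensional k k'] [IsPurelyInseparable k k'] (x' : ↥(Curv2.bc k X k')),
        Curv2.bcFst k X k' x' = x →
        IsDomain ↥((Curv2.bc k X k').presheaf.stalk x') ∧ IsIntegrallyClosed ↥((Curv2.bc k X k').presheaf.stalk x')) :=
    fun h k' _ _ _ _ x' hx' => h k' x' hx'
  have h23 : (∀ (k' : Type u) [Field k'] [Algebra k k'] [FiniteDimensional k k'] [IsPurelyInseparable k k'] (x' : ↥(Curv2.bc k X k')),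
        Curv2.bcFst k X k' x' = x →
        IsDomain ↥((Curv2.bc k X k').presheaf.stalk x') ∧ IsIntegrallyClosed ↥((Curv2.bc k X k').presheaf.stalk x')) →
      ∀ (k' : Type u) [Field k'] [Algebra k k'], EGA4.IsNormalRing (k' ⊗[k] ↥(X.presheaf.stalk x)) :=
    fun h L _ _ => Groth.Ega4b.isNormalRing_of_ringEquiv
      (Algebra.TensorProduct.comm k _ L).toRingEquiv
      (Groth.Ega4b.isNormalRing_tensor_field_of_purelyInseparable k ↥(X.presheaf.stalk x) L
        fun K _ _ _ _ => Groth.Ega4b.isNormalRing_of_ringEquiv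
          (Algebra.TensorProduct.comm k _ K).toRingEquiv (aux k X x K (h K)))
  have h31 : (∀ (k' : Type u) [Field k'] [Algebra k k'], EGA4.IsNormalRing (k' ⊗[k] ↥(X.presheaf.stalk x))) →
      ∀ (k' : Type u) [Field k'] [Algebra k k'] (x' : ↥(Curv2.bc k X k')), Curv2.bcFst k X k' x' = x →
        IsDomain ↥((Curv2.bc k X k').presheaf.stalk x') ∧ IsIntegrallyClosed ↥((Curv2.bc k X k').presheaf.stalk x') := by
    intro h K _ _ x' hx'
    obtain ⟨P, -, ⟨e⟩⟩ := Groth.VarietyBC.exists_stalkEquiv K x x' (specializes_of_eq hx')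
    obtain ⟨_, _⟩ := Groth.Ega4b.isNormalRing_of_ringEquiv
      (Algebra.TensorProduct.comm k K ↥(X.presheaf.stalk x)).toRingEquiv (h K) P.asIdeal
    exact ⟨e.toMulEquiv.isDomain_iff.mpr inferInstance, IsIntegrallyClosed.of_equiv e.symm⟩
  exact ⟨⟨h12, fun h => h31 (h23 h)⟩, ⟨h23, fun h => h12 (h31 h)⟩⟩

end Groth.Agent.S7599
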