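import Groth.Statements.S1576
import Groth.Agent.Divisors.Assoc
import Groth.Agent.QCohMod.Coherent
import Mathlib.RingTheory.Ideal.AssociatedPrime.Finiteness

set_option autoImplicit false
universe u
open CategoryTheory CategoryTheory.Limits AlgebraicGeometry
open Divisors

namespace Groth.Agent.S1576

/-- Let X be locally Noetherian and F coherent. Then the associated points of F lying in any
quasi-compact open subset form a finite set. -/
theorem result (X : Scheme.{u}) [IsLocallyNoetherian X]
    (F : X.Modules) (hF : Coh.IsCoh F) (U : X.Opens) (hU : IsCompact (U : Set X)) :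
    {x : X | x ∈ U ∧ Curv2.IsAssPoint F x}.Finite := by
    classical
    choose V hV hVU using fun x : U => Groth.Divisors.exists_affine_le x.1 U x.2
    obtain ⟨T, hT⟩ := hU.elim_finite_subcover (fun x => ((V x).1 : Set X)) (fun x => (V x).1.2)
      (fun x hx => Set.mem_iUnion.mpr ⟨⟨x, hx⟩, hV ⟨x, hx⟩⟩)
    refine (T.finite_toSet.biUnion (t := fun i => {x : X | x ∈ (V i).1 ∧ Curv2.IsAssPoint F x})
      fun i _ => ?_).subset ?_
    · have hW : IsAffineOpen (V i).1 := (V i).2
      have : IsNoetherianRing Γ(X, (V i).1) := IsLocallyNoetherian.component_noetherian (V i)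
      have : Module.Finite Γ(X, (V i).1) Γ(F, (V i).1) :=
        ((Groth.QCohMod.isCoh_iff F).mp hF).2 _ hW
      have hfin := associatedPrimes.finite Γ(X, (V i).1) Γ(F, (V i).1)
      let q : PrimeSpectrum Γ(X, (V i).1) → X := hW.fromSpec
      refine ((hfin.preimage (f := PrimeSpectrum.asIdeal)
        (fun _ _ _ _ h => PrimeSpectrum.ext h)).image q).subset ?_
      rintro x ⟨hx, hass⟩
      refine ⟨hW.primeIdealOf ⟨x, hx⟩, ?_, hW.fromSpec_primeIdealOf ⟨x, hx⟩⟩
      have h := (Groth.Divisors.isWeakAssPoint_iff_weakAss hF.1 hW hx).mp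
        (Groth.Divisors.isAssPoint_iff_weak.mp hass)
      rw [Calg5.weakAss_eq_associatedPrimes] at h
      exact h
    · rintro x ⟨hx, hass⟩
      obtain ⟨i, hi, hxi⟩ : ∃ i ∈ T, x ∈ (V i).1 := by simpa using hT hx
      exact Set.mem_biUnion hi ⟨hxi, hass⟩

end Groth.Agent.S1576
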