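import Groth.Statements.S7137
import Mathlib
import Groth.Agent.S0604

set_option autoImplicit false
universe u
open CategoryTheory
open CAlg

namespace Groth.Agent.S7137

open Groth.Ega4Algebra1 IsLocalRing

theorem isWeaklyRegular_map_iff' {L S : Type u} [CommRing L] [CommRing S] [Algebra L S] (M : Type u) [AddCommGroup M]
    [Module L M] [Module S M] [IsScalarTower L S M] (rs : List L) :
    RingTheory.Sequence.IsWeaklyRegular M (rs.map (algebraMap L S)) ↔ RingTheory.Sequence.IsWeaklyRegular M rs :=
  RingTheory.Sequence.isWeaklyRegular_map_algebraMap_iff S M rs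

theorem depth_congr_surjective {L S : Type u} [CommRing L] [CommRing S] [IsLocalRing L] [IsLocalRing S]
    [Algebra L S] (hf : Function.Surjective (algebraMap L S)) (M : Type u) [AddCommGroup M]
    [Module L M] [Module S M] [IsScalarTower L S M] :
    LocCoh.depth L M = LocCoh.depth S M := by
  have hc : (maximalIdeal S).comap (algebraMap L S) = maximalIdeal L :=
    IsLocalRing.eq_maximalIdeal (Ideal.comap_isMaximal_of_surjective _ hf)
  have hm : (maximalIdeal L).map (algebraMap L S) = maximalIdeal S := by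
    rw [← hc, Ideal.map_comap_of_surjective _ hf]
  have hmem : ∀ r, r ∈ maximalIdeal L ↔ algebraMap L S r ∈ maximalIdeal S := fun r => by rw [← hc]; rfl
  have htop : maximalIdeal L • (⊤ : Submodule L M) = ⊤ ↔ maximalIdeal S • (⊤ : Submodule S M) = ⊤ := by
    rw [← Submodule.restrictScalars_eq_top_iff L S M, ← hm, Ideal.smul_restrictScalars, Submodule.restrictScalars_top]
  rw [LocCoh.depth, LocCoh.depth, LocCoh.idealDepth, LocCoh.idealDepth]
  by_cases h : maximalIdeal L • (⊤ : Submodule L M) = ⊤
  · rw [if_pos h, if_pos (htop.1 h)]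
  rw [if_neg h, if_neg (mt htop.2 h)]
  refine le_antisymm (iSup₂_le fun rs h => ?_) (iSup₂_le fun rs h => ?_)
  · refine le_iSup₂_of_le (rs.map (algebraMap L S)) ⟨(isWeaklyRegular_map_iff' M rs).2 h.1, ?_⟩ (by simp)
    intro r hr
    obtain ⟨s, hs, rfl⟩ := List.mem_map.1 hr
    exact (hmem s).1 (h.2 s hs)
  · choose g hg using hf
    have e : (rs.map g).map (algebraMap L S) = rs := by
      rw [List.map_map]; simp [Function.comp_def, hg]
    refine le_iSup₂_of_le (rs.map g) ⟨(isWeaklyRegular_map_iff' M (S := S) _).1 (e.symm ▸ h.1), ?_⟩ (by simp)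
    intro r hr
    obtain ⟨s, hs, rfl⟩ := List.mem_map.1 hr
    rw [hmem, hg]
    exact h.2 s hs

theorem pdLT_pi {R : Type u} [CommRing R] {N : Type u} [AddCommGroup N] [Module R N] {n : ℕ}
    (h : PdLT R N n) : ∀ k : ℕ, PdLT R (Fin k → N) n := by
  intro k
  induction k with
  | zero => exact PdLT.mono (Nat.zero_le n) (PdLT.zero_iff.2 inferInstance)
  | succ k ih =>
    let p : (Fin (k+1) → N) →ₗ[R] N := LinearMap.proj 0
    have hp : Function.Surjective p := fun x => ⟨fun _ => x, rfl⟩
    let e : (Fin k → N) ≃ₗ[R] LinearMap.ker p :=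
      { toFun := fun v => ⟨Fin.cons 0 v, by simp [p]⟩
        invFun := fun w => Fin.tail w.1
        map_add' := fun v w => Subtype.ext (funext fun i => Fin.cases (by simp) (fun j => by simp) i)
        map_smul' := fun r v => Subtype.ext (funext fun i => Fin.cases (by simp) (fun j => by simp) i)
        left_inv := fun v => Fin.tail_cons _ _
        right_inv := fun w => Subtype.ext (funext fun i => Fin.cases
          (by have := LinearMap.mem_ker.1 w.2; simp only [p, LinearMap.proj_apply] at this; simp [this]) (fun j => by simp [Fin.tail]) i) }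
    exact (LinearMap.shortExact_shortComplexKer hp).hasProjectiveDimensionLT_X₂ n (PdLT.of_equiv e ih) h

theorem pdLT_change {R : Type u} [CommRing R] [IsNoetherianRing R] (I : Ideal R) (a : ℕ)
    (ha : PdLT R (R ⧸ I) (a + 1)) : ∀ (b : ℕ) (E : Type u) [AddCommGroup E] [Module (R ⧸ I) E] [Module R E]
      [IsScalarTower R (R ⧸ I) E] [Module.Finite (R ⧸ I) E],
      PdLT (R ⧸ I) E (b + 1) → PdLT R E (a + b + 1) := by
  intro b
  induction b with
  | zero =>
    intro E _ _ _ _ _ hE
    haveI := PdLT.one_iff.1 hE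
    obtain ⟨k, π, hπ⟩ := Module.Finite.exists_fin' (R ⧸ I) E
    obtain ⟨s, hs⟩ := Module.projective_lifting_property π LinearMap.id hπ
    exact PdLT.of_retract (s.restrictScalars R) (π.restrictScalars R)
      (LinearMap.ext fun x => LinearMap.congr_fun hs x) (pdLT_pi ha k)
  | succ b ih =>
    intro E _ _ _ _ _ hE
    obtain ⟨k, π, hπ⟩ := Module.Finite.exists_fin' (R ⧸ I) E
    haveI := Module.Finite.of_fg (IsNoetherian.noetherian (LinearMap.ker π))
    have h1 := ih (LinearMap.ker π) ((PdLT.ker_iff π hπ b).1 hE)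
    let πR := π.restrictScalars R
    have h1' : PdLT R (LinearMap.ker πR) (a + b + 1) := PdLT.of_equiv
      (LinearEquiv.refl R (LinearMap.ker π) : LinearMap.ker π ≃ₗ[R] LinearMap.ker πR) h1
    exact (LinearMap.shortExact_shortComplexKer (f := πR) hπ).hasProjectiveDimensionLT_X₃ (a + b + 1) h1'
      (PdLT.mono (by omega) (pdLT_pi ha k))

theorem exists_nat {R : Type u} [CommRing R] (M : Type u) [AddCommGroup M] [Module R M] [Nontrivial M]
    (h : projectiveDimension (ModuleCat.of R M) ≠ ⊤) : ∃ n : ℕ, projectiveDimension (ModuleCat.of R M) = n := by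
  have h0 : projectiveDimension (ModuleCat.of R M) ≠ ⊥ := fun e => not_subsingleton M
    (ModuleCat.isZero_iff_subsingleton.1 ((projectiveDimension_eq_bot_iff _).1 e))
  obtain ⟨x, hx⟩ := WithBot.ne_bot_iff_exists.1 h0
  have : x ≠ ⊤ := fun e => h (by rw [← hx, e]; rfl)
  obtain ⟨n, rfl⟩ := ENat.ne_top_iff_exists.1 this
  exact ⟨n, hx.symm⟩



/-- Take a Noetherian local ring R, an ideal I and a finite module E ≠ 0 over R/I. Suppose that R/I, as
an R-module, and E, as an R/I-module, both have finite projective dimension. Then E, as an R-module,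
has finite projective dimension too, and it equals pd_R(R/I) + pd_{R/I}(E). -/
theorem result (R : Type u) [CommRing R] [IsNoetherianRing R] [IsLocalRing R]
    (I : Ideal R) (E : Type u) [AddCommGroup E] [Module (R ⧸ I) E] [Module R E] [IsScalarTower R (R ⧸ I) E]
    [Module.Finite (R ⧸ I) E] [Nontrivial E]
    (h1 : projectiveDimension (ModuleCat.of R (R ⧸ I)) ≠ ⊤)
    (h2 : projectiveDimension (ModuleCat.of (R ⧸ I) E) ≠ ⊤) :
    projectiveDimension (ModuleCat.of R E) ≠ ⊤ ∧
      projectiveDimension (ModuleCat.of R E) =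
        projectiveDimension (ModuleCat.of R (R ⧸ I)) + projectiveDimension (ModuleCat.of (R ⧸ I) E) := by
  have hI : I ≠ ⊤ := fun h => by
    haveI : Subsingleton (R ⧸ I) := Ideal.Quotient.subsingleton_iff.2 h
    exact not_subsingleton E (Module.subsingleton (R ⧸ I) E)
  haveI : Nontrivial (R ⧸ I) := Ideal.Quotient.nontrivial_iff.2 hI
  haveI : IsLocalRing (R ⧸ I) := IsLocalRing.of_surjective' (Ideal.Quotient.mk I) Ideal.Quotient.mk_surjective
  haveI : Module.Finite R E := Module.Finite.trans (R ⧸ I) E
  obtain ⟨a, ha⟩ := exists_nat (R ⧸ I) h1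
  obtain ⟨b, hb⟩ := exists_nat E h2
  have hc0 := pdLT_change I a ((projectiveDimension_le_iff _ _).1 ha.le) b E ((projectiveDimension_le_iff _ _).1 hb.le)
  have hne : projectiveDimension (ModuleCat.of R E) ≠ ⊤ := by
    intro h
    have := (projectiveDimension_le_iff (ModuleCat.of R E) (a + b)).2 hc0
    rw [h] at this
    exact absurd (le_antisymm le_top this) (fun e => ENat.natCast_ne_top (a + b) (WithBot.coe_injective e))
  obtain ⟨c, hc⟩ := exists_nat E hne
  refine ⟨hne, ?_⟩
  have hA := Groth.Agent.S0604.result R (R ⧸ I) a ha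
  have hB := Groth.Agent.S0604.result (R ⧸ I) E b hb
  have hC := Groth.Agent.S0604.result R E c hc
  rw [depth_congr_surjective (S := R ⧸ I) Ideal.Quotient.mk_surjective (R ⧸ I)] at hA
  rw [depth_congr_surjective (S := R ⧸ I) Ideal.Quotient.mk_surjective E] at hC
  obtain ⟨q, hq⟩ := Groth.LocCohBase.exists_depth_eq (R := R ⧸ I) E
  rw [hq] at hB hC
  rw [hB] at hA
  rw [hA] at hC
  rw [ha, hb, hc]
  have : a + (b + q) = c + q := by exact_mod_cast hC
  rw [show c = a + b by omega]
  norm_cast

end Groth.Agent.S7137
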