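import Groth.Statements.S1754
import Groth.Agent.LocFinite.KollarFormal

set_option autoImplicit false
universe u
open LocCoh

namespace Groth.Agent.S1754

/-- Let A be a Noetherian domain and I a nonzero ideal. Suppose that for every prime q containing I and
every associated prime P of the completion B of the local ring A_q, the quotient B/P has dimension
at least 2. Then the local cohomology module H^1_I(A) is a finite A-module. (This is the affine
form, with coherence of j_*O_U for U = Spec A ∖ V(I) expressed as finiteness of H^1_I(A).) -/
theorem result (A : Type u) [CommRing A] [IsDomain A] [IsNoetherianRing A] (I : Ideal A) (hI : I ≠ ⊥) (h : ∀ (q : PrimeSpectrum A), I ≤ q.asIdeal → ∀ P ∈ associatedPrimes (AdicCompletion (IsLocalRing.maximalIdeal (Localization.AtPrime q.asIdeal)) (Localization.AtPrime q.asIdeal)) (AdicCompletion (IsLocalRing.maximalIdeal (Localization.AtPrime q.asIdeal)) (Localization.AtPrime q.asIdeal)), (2 : WithBot ℕ∞) ≤ ringKrullDim (AdicCompletion (IsLocalRing.maximalIdeal (Localization.AtPrime q.asIdeal)) (Localization.AtPrime q.asIdeal) ⧸ P)) : Module.Finite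 A (LocCoh.H I 1 A) := by
  haveI := Ideal.isPrime_bot (α := A)
  refine Groth.LocFinite.Kollar.finite_H_one_of_local I A fun p hp hIp q hpq hIq => ?_
  obtain rfl : p = ⊥ := by
    obtain ⟨hpp, x, hx⟩ := isAssociatedPrime_iff.1 hp
    refine (Submodule.eq_bot_iff _).2 fun a ha => ?_
    rw [hx, Submodule.mem_colon_singleton, Submodule.mem_bot, smul_eq_mul, mul_eq_zero] at ha
    refine ha.resolve_right fun hx0 => hpp.ne_top ?_
    rw [hx, hx0]; simp
  set S := Localization.AtPrime q.asIdeal
  haveI := Groth.LocDual.isNoetherianRing_cpl S
  refine Groth.LocFinite.Kollar.finite_H_one_of_completion _ fun P hP => ?_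
  refine Groth.LocFinite.Kollar.dim_of_surjective (RingHom.id _) Function.surjective_id ?_ (h q hIq) hP
  rw [Ideal.map_bot, Ideal.map_bot]
  exact Submodule.ext fun x => Iff.rfl

end Groth.Agent.S1754
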