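import Groth.Statements.S4614
import Groth.Agent.Calg2.N2Tensor
import Mathlib.AlgebraicGeometry.Morphisms.UniversallyInjective

set_option autoImplicit false
universe u
open TensorProduct AlgebraicGeometry
open CAlg

namespace Groth.Agent.S4614


open scoped nonZeroDivisors

/-- A map of spectra is universally injective if maps to fields are determined by restriction. -/
theorem universallyInjective_spec {R S : Type u} [CommRing R] [CommRing S] (f : R →+* S)
    (h : ∀ (k : Type u) [Field k] (g₁ g₂ : S →+* k), g₁.comp f = g₂.comp f → g₁ = g₂) :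
    UniversallyInjective (Spec.map (CommRingCat.ofHom f)) := by
  refine ((tfae_universallyInjective _).out 1 0).1 ?_
  intro k _ g₁ g₂ hg
  rw [← Spec.map_preimage g₁, ← Spec.map_preimage g₂] at hg ⊢
  simp only [← Spec.map_comp] at hg
  have h' := Spec.map_injective hg
  exact congrArg Spec.map (CommRingCat.hom_ext
    (h k (Spec.preimage g₁).hom (Spec.preimage g₂).hom (congrArg CommRingCat.Hom.hom h')))

section

variable (A B K' : Type u) [CommRing A] [CommRing B] [Algebra A B] [Field K'] [Algebra A K']

/-- `B ⊗ C → (B ⊗ K')_red`. -/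
noncomputable def red (C : Subalgebra A K') : B ⊗[A] C →ₐ[B] (B ⊗[A] K') ⧸ nilradical (B ⊗[A] K') :=
  (Ideal.Quotient.mkₐ B _).comp (Algebra.TensorProduct.map (AlgHom.id B B) C.val)

lemma red_incl {C C' : Subalgebra A K'} (hle : C ≤ C') (t : B ⊗[A] C) :
    red A B K' C' (Algebra.TensorProduct.map (AlgHom.id B B) (Subalgebra.inclusion hle) t) =
      red A B K' C t := by
  induction t using TensorProduct.induction_on with
  | zero => simp only [map_zero]
  | add a b ha hb => simp only [map_add, ha, hb]
  | tmul b c => rfl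

lemma comm_map {C C' : Subalgebra A K'} (hle : C ≤ C') (t : ↥C ⊗[A] B) :
    Algebra.TensorProduct.comm A C' B
        (Algebra.TensorProduct.map (Subalgebra.inclusion hle) (AlgHom.id A B) t) =
      Algebra.TensorProduct.map (AlgHom.id B B) (Subalgebra.inclusion hle)
        (Algebra.TensorProduct.comm A C B t) := by
  induction t using TensorProduct.induction_on with
  | zero => simp only [map_zero]
  | add a b ha hb => simp only [map_add, ha, hb]
  | tmul c b => rfl

lemma isIntegral_red (C : Subalgebra A K') (hC : ∀ c : C, IsIntegral A (c : K')) (t : B ⊗[A] C) :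
    IsIntegral B (red A B K' C t) := by
  induction t using TensorProduct.induction_on with
  | zero => rw [map_zero]; exact isIntegral_zero
  | add a b ha hb => rw [map_add]; exact ha.add hb
  | tmul b c => exact ((hC c).tmul b).map (Ideal.Quotient.mkₐ B _)

lemma isNilpotent_of_red [Module.Flat A B] (C : Subalgebra A K') (y : ↥C ⊗[A] B)
    (h : red A B K' C (Algebra.TensorProduct.comm A C B y) = 0) : IsNilpotent y := by
  obtain ⟨n, hn⟩ := Ideal.Quotient.eq_zero_iff_mem.1 h
  refine ⟨n, (Algebra.TensorProduct.comm A C B).injective ?_⟩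
  have hinj : Function.Injective (Algebra.TensorProduct.map (AlgHom.id B B) C.val) :=
    Module.Flat.lTensor_preserves_injective_linearMap C.val.toLinearMap Subtype.val_injective
  refine hinj ?_
  rw [map_pow, map_pow, map_zero, map_zero]
  exact hn

end

theorem exists_member (A K' : Type u) [CommRing A] [IsDomain A] [Field K'] [Algebra A K']
    [Algebra (FractionRing A) K'] [IsScalarTower A (FractionRing A) K']
    [FiniteDimensional (FractionRing A) K'] :
    ∃ C : Subalgebra A K', Module.Finite A C ∧ ∀ x : K', ∃ a b : C, (b : K') ≠ 0 ∧ x * b = a := by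
  classical
  have hinj : Function.Injective (algebraMap A K') := by
    rw [IsScalarTower.algebraMap_eq A (FractionRing A) K']
    exact (algebraMap (FractionRing A) K').injective.comp (IsFractionRing.injective A _)
  obtain ⟨s, hs⟩ := Module.Finite.fg_top (R := FractionRing A) (M := K')
  choose m hm using fun w : K' =>
    IsIntegral.exists_multiple_integral_of_isLocalization A⁰ w
      (Algebra.IsIntegral.isIntegral (R := FractionRing A) w)
  refine ⟨Algebra.adjoin A (s.image fun w => (m w : A) • w : Finset K'), ⟨(Submodule.fg_top _).2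
    (fg_adjoin_of_finite (Finset.finite_toSet _) fun x hx => ?_)⟩, fun x => ?_⟩
  · obtain ⟨w, -, rfl⟩ := Finset.mem_image.1 (Finset.mem_coe.1 hx)
    exact hm w
  · suffices h : ∀ y ∈ Submodule.span (FractionRing A) (s : Set K'),
        ∃ a : A, a ≠ 0 ∧ a • y ∈ Algebra.adjoin A ((s.image fun w => (m w : A) • w : Finset K') : Set K') by
      obtain ⟨a, ha, hax⟩ := h x (hs ▸ Submodule.mem_top)
      refine ⟨⟨_, hax⟩, ⟨algebraMap A K' a, Subalgebra.algebraMap_mem _ a⟩,
        fun h0 => ha (hinj (h0.trans (map_zero _).symm)), ?_⟩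
      change x * algebraMap A K' a = a • x
      rw [Algebra.smul_def, mul_comm]
    intro y hy
    induction hy using Submodule.span_induction with
    | mem w hw =>
      exact ⟨m w, nonZeroDivisors.ne_zero (m w).2,
        Algebra.subset_adjoin (Finset.mem_coe.2 (Finset.mem_image_of_mem _ hw))⟩
    | zero => exact ⟨1, one_ne_zero, by rw [smul_zero]; exact zero_mem _⟩
    | add y z _ _ hy hz =>
      obtain ⟨a, ha, hay⟩ := hy
      obtain ⟨b, hb, hbz⟩ := hz
      refine ⟨a * b, mul_ne_zero ha hb, ?_⟩
      rw [smul_add, mul_smul, smul_comm a b y, mul_smul]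
      exact add_mem (Subalgebra.smul_mem _ hay b) (Subalgebra.smul_mem _ hbz a)
    | smul c y _ hy =>
      obtain ⟨a, ha, hay⟩ := hy
      obtain ⟨⟨r, d⟩, hrd⟩ := IsLocalization.surj A⁰ c
      refine ⟨(d : A) * a, mul_ne_zero (nonZeroDivisors.ne_zero d.2) ha, ?_⟩
      have : ((d : A) * a) • c • y = r • a • y := by
        have h1 : (d : A) • c = algebraMap A (FractionRing A) r := by
          rw [Algebra.smul_def, mul_comm]; exact hrd
        rw [mul_smul, smul_comm a c y, ← smul_assoc, h1, algebraMap_smul]
      rw [this]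
      exact Subalgebra.smul_mem _ hay r


/-- Let A be a domain with fraction field K, B a Noetherian flat A-algebra with B/q Japanese for every
minimal prime q, K' a finite extension of K, and consider the sub-A-algebras C of K' finite over A
with fraction field K' (a filtered family with union the integral closure A' of A in K'). (i) Some
member C_α is such that for every member C ⊇ C_α the map (C_α ⊗_A B)_red → (C ⊗_A B)_red is
bijective. (ii) If B is faithfully flat over A then Spec A' → Spec C_α is radicial. -/
theorem result {A B K' : Type u} [CommRing A]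
    [IsDomain A] [CommRing B] [Algebra A B] [IsNoetherianRing B] [Module.Flat A B]
    (hJ : ∀ (q : Ideal B) [q.IsPrime], q ∈ minimalPrimes B → CAlg.IsN2 (B ⧸ q))
    [Field K'] [Algebra A K'] [Algebra (FractionRing A) K'] [IsScalarTower A (FractionRing A) K']
    [FiniteDimensional (FractionRing A) K'] :
    let P : Subalgebra A K' → Prop := fun C : Subalgebra A K' => Module.Finite A C ∧ ∀ x : K', ∃ a b : C, (b : K') ≠ 0 ∧ x * b = a
    ∃ Cα : Subalgebra A K', P Cα ∧
      (∀ C : Subalgebra A K', P C → ∀ hle : Cα ≤ C,
        (∀ x : ↥Cα ⊗[A] B, IsNilpotent (Algebra.TensorProduct.map (Subalgebra.inclusion hle) (AlgHom.id A B) x) →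
          IsNilpotent x) ∧
        (∀ y : ↥C ⊗[A] B, ∃ x : ↥Cα ⊗[A] B,
          IsNilpotent (Algebra.TensorProduct.map (Subalgebra.inclusion hle) (AlgHom.id A B) x - y))) ∧
      (Module.FaithfullyFlat A B → ∀ hint : Cα ≤ integralClosure A K',
        UniversallyInjective (Spec.map (CommRingCat.ofHom (Subalgebra.inclusion hint).toRingHom))) := by
  intro P
  haveI : Module.Flat A K' := Calg2.N2Tensor.flat_field A K'
  haveI := Calg2.N2Tensor.isNoetherian_integralClosure_reduced (A := A) (K' := K') hJ
  -- existence of a member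
  have hne : ∃ C0, P C0 := exists_member A K'
  have hmono : ∀ C C' : Subalgebra A K', P C → C ≤ C' → Module.Finite A C' → P C' := by
    refine fun C C' hC hle hf => ⟨hf, fun x => ?_⟩
    obtain ⟨a, b, hb, hab⟩ := hC.2 x
    exact ⟨⟨a, hle a.2⟩, ⟨b, hle b.2⟩, hb, hab⟩
  have hint : ∀ C : Subalgebra A K', P C → ∀ c : C, IsIntegral A (c : K') := fun C hC c =>
    haveI := hC.1
    (Algebra.IsIntegral.isIntegral (R := A) c).map C.val
  let M := integralClosure B ((B ⊗[A] K') ⧸ nilradical (B ⊗[A] K'))
  let N : Subalgebra A K' → Submodule B M := fun C =>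
    ((red A B K' C).range.toSubmodule).comap M.val.toLinearMap
  obtain ⟨Cα, hCα, hmax⟩ : ∃ Cα, P Cα ∧ ∀ C, P C → N Cα ≤ N C → N C ≤ N Cα := by
    obtain ⟨m, ⟨Cα, hCα, rfl⟩, hmax⟩ := set_has_maximal_iff_noetherian.2 (inferInstanceAs (IsNoetherian B M))
      (N '' {C | P C}) (hne.imp' N fun C hC => ⟨C, hC, rfl⟩)
    exact ⟨Cα, hCα, fun C hC hle => by
      rcases hle.lt_or_eq with h | h
      · exact absurd h (hmax _ ⟨C, hC, rfl⟩)
      · exact h.ge⟩
  have hsurj : ∀ C : Subalgebra A K', P C → ∀ hle : Cα ≤ C,
      ∀ y : ↥C ⊗[A] B, ∃ x : ↥Cα ⊗[A] B,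
        IsNilpotent (Algebra.TensorProduct.map (Subalgebra.inclusion hle) (AlgHom.id A B) x - y) := by
    intro C hC hle y
    have hle' : N Cα ≤ N C := by
      refine Submodule.comap_mono ?_
      rintro _ ⟨t, rfl⟩
      exact ⟨Algebra.TensorProduct.map (AlgHom.id B B) (Subalgebra.inclusion hle) t, red_incl A B K' hle t⟩
    have hyM : red A B K' C (Algebra.TensorProduct.comm A C B y) ∈ M :=
      isIntegral_red A B K' C (hint C hC) _
    obtain ⟨t, ht⟩ := hmax C hC hle' (x := ⟨_, hyM⟩) ⟨_, rfl⟩
    refine ⟨Algebra.TensorProduct.comm A B Cα t, ?_⟩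
    refine isNilpotent_of_red A B K' C _ ?_
    rw [map_sub, map_sub, sub_eq_zero, comm_map A B K' hle,
      show Algebra.TensorProduct.comm A Cα B (Algebra.TensorProduct.comm A B Cα t) = t from
        (Algebra.TensorProduct.comm A B Cα).symm_apply_apply t, red_incl]
    exact ht
  refine ⟨Cα, hCα, fun C hC hle => ⟨fun x hx => ?_, hsurj C hC hle⟩, ?_⟩
  · obtain ⟨n, hn⟩ := hx
    refine ⟨n, ?_⟩
    have hinj : Function.Injective
        (Algebra.TensorProduct.map (Subalgebra.inclusion hle) (AlgHom.id A B)) :=
      Module.Flat.rTensor_preserves_injective_linearMap (Subalgebra.inclusion hle).toLinearMap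
        (Subalgebra.inclusion_injective hle)
    exact hinj (by rw [map_pow, hn, map_zero])
  · intro hff hint'
    refine universallyInjective_spec _ fun k _ f g hfg => ?_
    refine RingHom.ext fun x => ?_
    haveI : Module.Finite A Cα := hCα.1
    haveI : Module.Finite A (Algebra.adjoin A ({(x : K')} : Set K') : Subalgebra A K') :=
      Algebra.finite_adjoin_simple_of_isIntegral x.2
    let C := Cα ⊔ Algebra.adjoin A ({(x : K')} : Set K')
    have hC : P C := hmono Cα C hCα le_sup_left (Subalgebra.finite_sup _ _)
    have hle0 : Cα ≤ C := le_sup_left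
    have hCint : C ≤ integralClosure A K' := fun c hc => hint C hC ⟨c, hc⟩
    letI : Algebra A k := (f.comp (algebraMap A (integralClosure A K'))).toAlgebra
    haveI : Nontrivial (k ⊗[A] B) := inferInstance
    obtain ⟨m, hm⟩ := Ideal.exists_maximal (k ⊗[A] B)
    let π := Ideal.Quotient.mk m
    letI := Ideal.Quotient.field m
    let φ : k →+* (k ⊗[A] B) ⧸ m := π.comp (Algebra.TensorProduct.includeLeft (R := A) (S := A) (B := B)).toRingHom
    have hgA : ∀ a : A, g (algebraMap A (integralClosure A K') a) = algebraMap A k a := fun a =>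
      (RingHom.congr_fun hfg (algebraMap A Cα a)).symm
    let F : C →ₐ[A] (k ⊗[A] B) ⧸ m :=
      { φ.comp (f.comp (Subalgebra.inclusion hCint).toRingHom) with
        commutes' := fun a => by
          change π (Algebra.TensorProduct.includeLeft (R := A) (S := A) (B := B) (algebraMap A k a)) = _
          rw [AlgHom.commutes]; rfl }
    let G : C →ₐ[A] (k ⊗[A] B) ⧸ m :=
      { φ.comp (g.comp (Subalgebra.inclusion hCint).toRingHom) with
        commutes' := fun a => by
          change π (Algebra.TensorProduct.includeLeft (R := A) (S := A) (B := B)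
            (g (algebraMap A (integralClosure A K') a))) = _
          rw [hgA, AlgHom.commutes]; rfl }
    let h : B →ₐ[A] (k ⊗[A] B) ⧸ m :=
      (Ideal.Quotient.mkₐ A m).comp Algebra.TensorProduct.includeRight
    let F2 := Algebra.TensorProduct.lift F h fun _ _ => Commute.all _ _
    let G2 := Algebra.TensorProduct.lift G h fun _ _ => Commute.all _ _
    have hagree : ∀ t : ↥Cα ⊗[A] B,
        F2 (Algebra.TensorProduct.map (Subalgebra.inclusion hle0) (AlgHom.id A B) t) =
          G2 (Algebra.TensorProduct.map (Subalgebra.inclusion hle0) (AlgHom.id A B) t) := fun t => by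
      induction t using TensorProduct.induction_on with
      | zero => simp only [map_zero]
      | add a b ha hb => simp only [map_add, ha, hb]
      | tmul c b =>
        simp only [F2, G2, Algebra.TensorProduct.map_tmul, Algebra.TensorProduct.lift_tmul]
        congr 1
        exact congrArg φ (RingHom.congr_fun hfg c)
    have hxC : (x : K') ∈ C := Algebra.mem_sup_right (Algebra.self_mem_adjoin_singleton A _)
    let y : ↥C ⊗[A] B := (⟨(x : K'), hxC⟩ : C) ⊗ₜ[A] (1 : B)
    obtain ⟨t, ht⟩ := hsurj C hC hle0 y
    have h1 := (ht.map F2).eq_zero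
    have h2 := (ht.map G2).eq_zero
    rw [map_sub, sub_eq_zero] at h1 h2
    have h3 : F2 y = G2 y := by rw [← h1, ← h2]; exact hagree t
    simp only [F2, G2, y, Algebra.TensorProduct.lift_tmul, map_one, mul_one] at h3
    exact φ.injective h3

end Groth.Agent.S4614
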