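import Groth.Statements.S4565
import Groth.Agent.S4615
import Groth.Agent.Calg2.N2Tensor

set_option autoImplicit false
universe u
open TensorProduct
open CAlg

namespace Groth.Agent.S4565


lemma comm_lTensor {A K' N : Type u} [CommRing A] [CommRing K'] [Algebra A K'] [CommRing N] [Algebra A N]
    {C C' : Subalgebra A K'} (f : C →ₐ[A] C') (z : ↥C ⊗[A] N) :
    Algebra.TensorProduct.map f (AlgHom.id A N) z =
      TensorProduct.comm A N C' (f.toLinearMap.lTensor N (TensorProduct.comm A C N z)) := by
  induction z using TensorProduct.induction_on with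
  | zero => simp
  | tmul c n => simp
  | add a b ha hb => simp only [map_add, ha, hb]

lemma isReduced_tensor {A K' : Type u} [CommRing A] [Field K'] [Algebra A K'] [Module.Flat A K']
    (C : Subalgebra A K') (H R : Type u) [CommRing H] [Algebra A H] [Module.Flat A H] [CommRing R]
    [Algebra H R] [IsFractionRing H R] [Algebra A R] [IsScalarTower A H R] (h : IsReduced (R ⊗[A] K')) :
    IsReduced (↥C ⊗[A] H) := by
  let g : K' ⊗[A] H →ₐ[A] R ⊗[A] K' :=
    (Algebra.TensorProduct.comm A K' R).toAlgHom.comp
      (Algebra.TensorProduct.map (AlgHom.id A K') (IsScalarTower.toAlgHom A H R))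
  have hg : Function.Injective g :=
    (Algebra.TensorProduct.comm A K' R).injective.comp
      (Module.Flat.lTensor_preserves_injective_linearMap (M := K') (IsScalarTower.toAlgHom A H R).toLinearMap
        (IsFractionRing.injective H R))
  exact isReduced_of_injective (g.comp (Algebra.TensorProduct.map C.val (AlgHom.id A H)))
    (hg.comp (Module.Flat.rTensor_preserves_injective_linearMap (M := H) C.val.toLinearMap Subtype.val_injective))


/-- Let A be a Noetherian local domain with fraction field K whose adic completion Â is reduced, R the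
total ring of fractions of Â and K' a finite extension of K. If R ⊗_A K' (equal to R ⊗_K K', since K
is a localization of A and the nonzero elements of A are invertible in R) is reduced, then the
integral closure of A in K' is a finitely generated A-module. -/
theorem result {A K' R : Type u}
    [CommRing A] [IsDomain A] [IsLocalRing A] [IsNoetherianRing A]
    (hred : IsReduced (AdicCompletion (IsLocalRing.maximalIdeal A) A))
    [CommRing R] [Algebra (AdicCompletion (IsLocalRing.maximalIdeal A) A) R]
    [IsFractionRing (AdicCompletion (IsLocalRing.maximalIdeal A) A) R] [Algebra A R]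
    [IsScalarTower A (AdicCompletion (IsLocalRing.maximalIdeal A) A) R]
    [Field K'] [Algebra A K'] [Algebra (FractionRing A) K'] [IsScalarTower A (FractionRing A) K']
    [FiniteDimensional (FractionRing A) K'] (h : IsReduced (R ⊗[A] K')) :
    Module.Finite A (integralClosure A K') := by
  obtain ⟨Cα, hP, hbij, -⟩ := Groth.Agent.S4615.result (A := A) (K' := K')
  haveI : Module.Flat A (AdicCompletion (IsLocalRing.maximalIdeal A) A) :=
    AdicCompletion.flat_of_isNoetherian (IsLocalRing.maximalIdeal A)
  haveI : Module.FaithfullyFlat A (AdicCompletion (IsLocalRing.maximalIdeal A) A) :=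
    Module.FaithfullyFlat.of_flat_of_isLocalHom
  haveI : Module.Flat A K' := Calg2.N2Tensor.flat_field A K'
  haveI : Module.Finite A Cα := hP.1
  have hint : Cα ≤ integralClosure A K' := fun c hc =>
    (Algebra.IsIntegral.isIntegral (R := A) (⟨c, hc⟩ : Cα)).map Cα.val
  have hle : integralClosure A K' ≤ Cα := by
    intro x hx
    haveI : Module.Finite A (Algebra.adjoin A ({x} : Set K') : Subalgebra A K') :=
      Algebra.finite_adjoin_simple_of_isIntegral hx
    let C := Cα ⊔ Algebra.adjoin A ({x} : Set K')
    have hαC : Cα ≤ C := le_sup_left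
    have hC : Module.Finite A C ∧ ∀ x : K', ∃ a b : C, (b : K') ≠ 0 ∧ x * b = a := by
      refine ⟨Subalgebra.finite_sup _ _, fun z => ?_⟩
      obtain ⟨a, b, hb, hab⟩ := hP.2 z
      exact ⟨⟨a, hαC a.2⟩, ⟨b, hαC b.2⟩, hb, hab⟩
    haveI : IsReduced (↥C ⊗[A] AdicCompletion (IsLocalRing.maximalIdeal A) A) :=
      isReduced_tensor C (AdicCompletion (IsLocalRing.maximalIdeal A) A) R h
    have hsurj : Function.Surjective (Algebra.TensorProduct.map (Subalgebra.inclusion hαC)
        (AlgHom.id A (AdicCompletion (IsLocalRing.maximalIdeal A) A))) := fun y => by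
      obtain ⟨z, hz⟩ := (hbij C hC hαC).2 y
      exact ⟨z, sub_eq_zero.1 hz.eq_zero⟩
    have h2 : Function.Surjective (Subalgebra.inclusion hαC) := by
      have h3 : Function.Surjective ((Subalgebra.inclusion hαC).toLinearMap.lTensor
          (AdicCompletion (IsLocalRing.maximalIdeal A) A)) := by
        intro y
        obtain ⟨z, hz⟩ := hsurj (TensorProduct.comm A _ _ y)
        refine ⟨TensorProduct.comm A _ _ z, ?_⟩
        apply (TensorProduct.comm A (AdicCompletion (IsLocalRing.maximalIdeal A) A) C).injective
        rw [← hz]
        exact (comm_lTensor (Subalgebra.inclusion hαC) z).symm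
      exact (Module.FaithfullyFlat.lTensor_surjective_iff_surjective A _
        (Subalgebra.inclusion hαC).toLinearMap).1 h3
    obtain ⟨w, hw⟩ := h2 ⟨x, Algebra.mem_sup_right (Algebra.self_mem_adjoin_singleton A x)⟩
    have : (w : K') = x := congrArg Subtype.val hw
    exact this ▸ w.2
  rw [le_antisymm hle hint]
  exact hP.1

end Groth.Agent.S4565
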