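import Groth.Statements.S4696
import Groth.Agent.Ega4Algebra2.NormalBaseChange

set_option autoImplicit false
universe u
open EGA4
open scoped TensorProduct

namespace Groth.Agent.S4696

/-- Case of normal morphisms, affine form: let A → B → C be homomorphisms of Noetherian rings. If A → B
and B → C are normal (flat, with geometrically normal fibres) then the composite A → C is normal. -/
theorem result (A B C : Type u) [CommRing A] [CommRing B] [CommRing C] [IsNoetherianRing A]
    [IsNoetherianRing B] [IsNoetherianRing C] [Algebra A B] [Algebra B C] [Algebra A C] [IsScalarTower A B C]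
    (hAB : EGA4.IsNormalHom A B) (hBC : EGA4.IsNormalHom B C) : EGA4.IsNormalHom A C := by
  haveI := hAB.1
  haveI := hBC.1
  haveI : Module.Flat A C := Module.Flat.trans A B C
  refine ⟨inferInstance, fun p _ K _ _ _ => ?_⟩
  letI : Algebra A K := ((algebraMap p.ResidueField K).comp (algebraMap A p.ResidueField)).toAlgebra
  haveI : IsScalarTower A p.ResidueField K := IsScalarTower.of_algebraMap_eq fun _ => rfl
  have h1 : EGA4.IsNormalRing (B ⊗[A] K) := Groth.Ega4b.ICBC.isNormalRing_tensor_field B hAB.2 K
  have h2 : EGA4.IsNormalRing (C ⊗[B] (B ⊗[A] K)) :=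
    Groth.Ega4b.ICBC.isNormalRing_baseChange C hBC.2 (B ⊗[A] K) h1
  exact Groth.Ega4b.isNormalRing_of_ringEquiv
    ((Algebra.TensorProduct.cancelBaseChange A B C C K).toRingEquiv.trans
      ((Algebra.TensorProduct.comm A C K).toRingEquiv.trans
        (Algebra.TensorProduct.cancelBaseChange A p.ResidueField K K C).symm.toRingEquiv)) h2

end Groth.Agent.S4696
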