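import Groth.Statements.S16448
import Mathlib.RingTheory.Unramified.LocalStructure
import Mathlib.RingTheory.Ideal.MinimalPrime.Localization
import Mathlib.RingTheory.Localization.BaseChange

set_option autoImplicit false
universe u
open EGA4loc
open scoped TensorProduct

namespace Groth.Agent.S16448

/-- The total ring of fractions of a reduced ring with finitely many minimal primes is Artinian. -/
theorem isArtinianRing_fractionRing {R : Type u} [CommRing R] [IsReduced R]
    (hfin : (minimalPrimes R).Finite) : IsArtinianRing (FractionRing R) := by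
  classical
  have : IsReduced (FractionRing R) :=
    isReduced_localizationPreserves (nonZeroDivisors R) (FractionRing R) inferInstance
  have key : ∀ P : Ideal (FractionRing R), P.IsPrime →
      P.comap (algebraMap R (FractionRing R)) ∈ minimalPrimes R := by
    intro P hP
    have hdisj := ((IsLocalization.isPrime_iff_isPrime_disjoint (nonZeroDivisors R) (FractionRing R) P).1 hP).2
    have hsub : (P.comap (algebraMap R (FractionRing R)) : Set R) ⊆ ⋃ q ∈ (hfin.toFinset : Set (Ideal R)), q := by
      intro x hx
      have hxn : x ∉ nonZeroDivisors R := fun h => Set.disjoint_left.1 hdisj h hx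
      rw [mem_nonZeroDivisors_iff_right] at hxn
      push Not at hxn
      obtain ⟨y, hxy, hy⟩ := hxn
      have hmem : x ∈ ⋃ q ∈ (⊥ : Ideal R).minimalPrimes, (q : Set R) := by
        rw [Ideal.iUnion_minimalPrimes]
        exact ⟨y, fun hyr => hy (IsReduced.eq_zero _ hyr), by rw [mul_comm, hxy]; exact zero_mem _⟩
      simpa [minimalPrimes] using hmem
    obtain ⟨q, hq, hle⟩ := (Ideal.subset_union_prime ⊥ ⊥ (fun q hq _ _ =>
      Ideal.minimalPrimes_isPrime (hfin.mem_toFinset.1 hq))).1 hsub
    rw [hfin.mem_toFinset] at hq
    exact (le_antisymm hle (hq.2 ⟨hP.comap _, bot_le⟩ hle)) ▸ hq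
  have hinj : Function.Injective fun P : PrimeSpectrum (FractionRing R) =>
      P.asIdeal.comap (algebraMap R (FractionRing R)) := fun P Q h => PrimeSpectrum.ext <|
    (IsLocalization.map_under (nonZeroDivisors R) (FractionRing R) P.asIdeal).symm.trans
      ((congrArg (Ideal.map _) h).trans (IsLocalization.map_under (nonZeroDivisors R) (FractionRing R) Q.asIdeal))
  have hmax : ∀ P : PrimeSpectrum (FractionRing R), P.asIdeal.IsMaximal := fun P => by
    obtain ⟨M, hM, hle⟩ := Ideal.exists_le_maximal _ P.isPrime.ne_top
    have h1 : P.asIdeal.comap (algebraMap R (FractionRing R)) = M.comap (algebraMap R (FractionRing R)) :=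
      le_antisymm (Ideal.comap_mono hle) ((key M hM.isPrime).2 ⟨P.isPrime.comap _, bot_le⟩ (Ideal.comap_mono hle))
    rw [show P = ⟨M, hM.isPrime⟩ from hinj h1]
    exact hM
  have : Finite (minimalPrimes R) := hfin.to_subtype
  have : Finite (PrimeSpectrum (FractionRing R)) :=
    Finite.of_injective (fun P => (⟨_, key P.asIdeal P.isPrime⟩ : minimalPrimes R)) fun P Q h =>
      hinj (congrArg Subtype.val h)
  have hbot : (⨅ P : PrimeSpectrum (FractionRing R), P.asIdeal) = ⊥ := by
    refine le_bot_iff.mp fun x hx => ?_
    rw [← Ideal.zero_eq_bot, ← nilradical_eq_zero, nilradical_eq_sInf]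
    exact Submodule.mem_sInf.mpr fun P hP => Submodule.mem_iInf _ |>.mp hx ⟨P, hP⟩
  have := hmax
  let _ : ∀ P : PrimeSpectrum (FractionRing R), Field (FractionRing R ⧸ P.asIdeal) := fun P =>
    Ideal.Quotient.field P.asIdeal
  let e := Ideal.quotientInfRingEquivPiQuotient (fun P : PrimeSpectrum (FractionRing R) => P.asIdeal)
    fun P Q hne => Ideal.isCoprime_iff_sup_eq.mpr
      ((hmax P).coprime_of_ne (hmax Q) fun h => hne (PrimeSpectrum.ext h))
  exact (e.symm.trans ((Ideal.quotEquivOfEq hbot).trans (RingEquiv.quotientBot _))).isArtinianRing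

/-- Let A be a reduced local ring with finitely many minimal prime ideals and E a local ring which is an
essentially etale local A-algebra with local structure map. Then the total ring of fractions K_E of
E is the localization of E at the images of the non-zero-divisors of A — that is, K_E = E ⊗_A K_A —
and K_E is finite over K_A: for some finite subset t of K_E, every element of K_E multiplied by the
image of a suitable non-zero-divisor of A lies in the A-span of t. (The published statement is for a
reduced semilocal ring and a semilocal etale extension; this row treats a local ring and a local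
etale extension.) -/
theorem result
    (A E : Type u) [CommRing A] [IsLocalRing A] [IsReduced A] (hmin : (minimalPrimes A).Finite)
    [CommRing E] [IsLocalRing E] [Algebra A E] [IsLocalHom (algebraMap A E)]
    (hE : EGA4loc.IsEssentiallyEtale A E) :
    IsLocalization ((nonZeroDivisors A).map (algebraMap A E)) (FractionRing E) ∧
      ∃ t : Finset (FractionRing E), ∀ x : FractionRing E, ∃ a ∈ nonZeroDivisors A,
        algebraMap A (FractionRing E) a * x ∈ Submodule.span A (t : Set (FractionRing E)) := by
  classical
  obtain ⟨C, _, _, q, _, hCet, -, ⟨e⟩⟩ := hE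
  have : Algebra.Etale A C := hCet
  have : Algebra.FormallyEtale A (Localization.AtPrime q) :=
    @Algebra.FormallyEtale.comp A C (Localization.AtPrime q) _ _ _ _ _ _ _ inferInstance
      (Algebra.FormallyEtale.of_isLocalization q.primeCompl)
  have : Algebra.EssFiniteType C (Localization.AtPrime q) :=
    Algebra.EssFiniteType.of_isLocalization _ q.primeCompl
  have : Algebra.EssFiniteType A (Localization.AtPrime q) := Algebra.EssFiniteType.comp A C _
  have : Module.Flat A (Localization.AtPrime q) :=
    have : Module.Flat C (Localization.AtPrime q) := IsLocalization.flat _ q.primeCompl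
    Module.Flat.trans A C _
  have : Algebra.FormallyEtale A E := Algebra.FormallyEtale.of_equiv e.symm
  have : Algebra.EssFiniteType A E :=
    Algebra.EssFiniteType.of_surjective e.symm.toAlgHom e.symm.surjective
  have : Module.Flat A E := Module.Flat.of_linearEquiv e.toLinearEquiv
  have : Algebra.QuasiFinite A E := inferInstance
  have := isArtinianRing_fractionRing hmin
  let K := FractionRing A
  let L := K ⊗[A] E
  have : Module.Finite K L := Module.Finite.of_quasiFinite
  have : IsArtinianRing L := IsArtinianRing.of_finite K L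
  let _ : Algebra E L := Algebra.TensorProduct.rightAlgebra
  have : IsScalarTower A E L := .of_algebraMap_eq fun a => by
    show (algebraMap A K a) ⊗ₜ[A] (1 : E) = (1 : K) ⊗ₜ[A] algebraMap A E a
    rw [Algebra.algebraMap_eq_smul_one, Algebra.algebraMap_eq_smul_one, TensorProduct.smul_tmul]
  let S : Submonoid E := (nonZeroDivisors A).map (algebraMap A E)
  have hL : IsLocalization S L :=
    (Algebra.isLocalization_iff_isPushout (nonZeroDivisors A) K).mpr
      (Algebra.IsPushout.symm (R := A) (S := K) (R' := E) (S' := L) TensorProduct.isPushout)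
  have hS : S ≤ nonZeroDivisors E := by
    rintro _ ⟨a, ha, rfl⟩
    refine mem_nonZeroDivisors_iff_right.mpr fun x hx => ?_
    have hinj : Function.Injective fun y : A => y * a := fun y z h =>
      sub_eq_zero.mp (mem_nonZeroDivisors_iff_right.mp ha _ (by rw [sub_mul, sub_eq_zero]; exact h))
    have hreg : IsSMulRegular A a := fun y z h => hinj (by simpa [mul_comm] using h)
    have h2 := hreg.of_flat (S := E)
    exact IsSMulRegular.right_eq_zero_of_smul h2 (by rw [smul_eq_mul, mul_comm]; exact hx)
  have hfr : IsFractionRing E L := by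
    refine (IsLocalization.iff_of_le_of_exists_dvd S (nonZeroDivisors E) hS fun x hx => ?_).mp hL
    have hxL : algebraMap E L x ∈ nonZeroDivisors L :=
      IsLocalization.map_nonZeroDivisors_le S L ⟨x, hx, rfl⟩
    have hu : IsUnit (algebraMap E L x) := IsArtinianRing.isUnit_of_mem_nonZeroDivisors hxL
    obtain ⟨⟨c, ⟨s, hs⟩⟩, hcs⟩ := IsLocalization.surj S (↑hu.unit⁻¹ : L)
    obtain ⟨⟨t, ht⟩, hts⟩ := (IsLocalization.eq_iff_exists S L).mp
      (show algebraMap E L (x * c) = algebraMap E L s by
        rw [map_mul, ← hcs, ← mul_assoc, IsUnit.mul_val_inv, one_mul])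
    exact ⟨t * s, mul_mem ht hs, ⟨t * c, by rw [mul_left_comm]; exact hts.symm⟩⟩
  let φ : L ≃ₐ[E] FractionRing E := (FractionRing.algEquiv E L).symm
  refine ⟨IsLocalization.isLocalization_of_algEquiv S φ, ?_⟩
  obtain ⟨t₀, ht₀⟩ := (inferInstance : Module.Finite K L).fg_top
  refine ⟨t₀.image φ, fun x => ?_⟩
  have hx : φ.symm x ∈ Submodule.span K (t₀ : Set L) := by rw [ht₀]; trivial
  obtain ⟨⟨a, ha⟩, hax⟩ : ∃ a : nonZeroDivisors A, a.1 • φ.symm x ∈ Submodule.span A (t₀ : Set L) :=
    multiple_mem_span_of_mem_localization_span (nonZeroDivisors A) K (t₀ : Set L) _ hx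
  refine ⟨a, ha, ?_⟩
  have h3 := Submodule.mem_map_of_mem (f := (φ.restrictScalars A).toLinearMap) hax
  rw [Submodule.map_span] at h3
  rw [Finset.coe_image, ← Algebra.smul_def, ← φ.apply_symm_apply x]
  refine Eq.mp (congrArg (· ∈ _) ?_) h3
  exact map_smul (φ.restrictScalars A).toLinearMap a (φ.symm x)

end Groth.Agent.S16448
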