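import Groth.Statements.S5785
import Groth.Agent.EGA41Two.RegularLift
import Groth.Agent.Calg1.Completion
import Groth.Agent.AdicLinTop.CompletionQuot
import Mathlib.RingTheory.AdicCompletion.AsTensorProduct
import Mathlib.RingTheory.Ideal.KrullsHeightTheorem
import Mathlib.RingTheory.Ideal.GoingDown

set_option autoImplicit false
universe u
open EGA41

namespace Groth.Agent.S5785

/-- Let A be a regular ring and J an ideal of A. Then the separated completion of A for the J-adic
topology is a regular ring. -/
theorem result (A : Type u) [CommRing A] [IsRegularRing A] (J : Ideal A) :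
    IsRegularRing (AdicCompletion J A) := by
  have hJ : J.FG := IsNoetherian.noetherian J
  haveI hnoe : IsNoetherianRing (AdicCompletion J A) := Groth.Calg1.isNoetherianRing_adicCompletion J hJ
  refine Groth.EGA41Two.isRegularRing_of_forall_maximal fun M _ => ?_
  let e := algebraMap A (AdicCompletion J A)
  haveI : IsAdicComplete (J.map e) (AdicCompletion J A) := Groth.AdicLinTop.CompletionQuot.isAdicComplete_map J hJ
  have hJM : J.map e ≤ M :=
    (IsAdicComplete.le_jacobson_bot (J.map e)).trans
      (sInf_le ⟨bot_le, ‹M.IsMaximal›⟩)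
  have hred : ∀ x : AdicCompletion J A, ∃ r : A, x - e r ∈ J.map e := fun x => by
    obtain ⟨r, hr⟩ := Ideal.Quotient.mk_surjective (AdicCompletion.evalₐ J 1 x)
    refine ⟨r, ?_⟩
    rw [← pow_one (J.map e), ← Groth.AdicLinTop.CompletionQuot.ker_evalₐ J hJ 1, RingHom.mem_ker, map_sub, sub_eq_zero]
    exact hr.symm.trans (Groth.AdicLinTop.CompletionQuot.evalₐ_algebraMap J 1 r).symm
  let m := M.comap e
  haveI hmmax : m.IsMaximal := by
    have hsurj : Function.Surjective ((Ideal.Quotient.mk M).comp e) := fun y => by
      obtain ⟨x, rfl⟩ := Ideal.Quotient.mk_surjective y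
      obtain ⟨r, hr⟩ := hred x
      exact ⟨r, (Ideal.Quotient.eq.mpr (hJM hr)).symm⟩
    letI : Field (AdicCompletion J A ⧸ M) := Ideal.Quotient.field M
    have := RingHom.ker_isMaximal_of_surjective _ hsurj
    rwa [← RingHom.comap_ker, Ideal.mk_ker] at this
  have hMm : m.map e = M := by
    refine le_antisymm Ideal.map_comap_le fun x hx => ?_
    obtain ⟨r, hr⟩ := hred x
    have hrm : r ∈ m := by
      show e r ∈ M
      rw [show e r = x - (x - e r) by ring]
      exact sub_mem hx (hJM hr)
    have hJm : J ≤ m := fun j hj => hJM (Ideal.mem_map_of_mem e hj)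
    rw [show x = (x - e r) + e r by ring]
    exact add_mem (Ideal.map_mono hJm hr) (Ideal.mem_map_of_mem e hrm)
  haveI : IsRegularLocalRing (Localization.AtPrime m) := IsRegularRing.isRegularLocalRing_localization m
  haveI : IsNoetherianRing (Localization.AtPrime M) := IsLocalization.isNoetherianRing M.primeCompl _ hnoe
  refine IsRegularLocalRing.of_spanFinrank_maximalIdeal_le _ ?_
  let h := Localization.localRingHom m M e rfl
  have hmap : (IsLocalRing.maximalIdeal (Localization.AtPrime m)).map h = IsLocalRing.maximalIdeal (Localization.AtPrime M) := by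
    rw [← Localization.AtPrime.map_eq_maximalIdeal (I := m), Ideal.map_map,
      show h.comp (algebraMap A (Localization.AtPrime m)) =
          (algebraMap (AdicCompletion J A) (Localization.AtPrime M)).comp e from
        RingHom.ext fun a => Localization.localRingHom_to_map m M e rfl a,
      ← Ideal.map_map, hMm, Localization.AtPrime.map_eq_maximalIdeal]
  rw [← hmap]
  have hle := Ideal.spanFinrank_map_le_of_fg h (IsNoetherian.noetherian (IsLocalRing.maximalIdeal (Localization.AtPrime m)))
  refine (Nat.cast_le.mpr hle).trans ?_
  rw [(isRegularLocalRing_iff _).mp ‹IsRegularLocalRing (Localization.AtPrime m)›,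
    IsLocalization.AtPrime.ringKrullDim_eq_height m, IsLocalization.AtPrime.ringKrullDim_eq_height M]
  haveI : M.LiesOver m := ⟨rfl⟩
  rw [Ideal.height_eq_height_add_of_liesOver_of_hasGoingDown m M]
  exact_mod_cast le_self_add

end Groth.Agent.S5785
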