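import Groth.Statements.S4535
import Groth.Agent.Ega41Adic.CompleteLift
open Groth.Ega41Adic

set_option autoImplicit false
universe u
open EGA41

namespace Groth.Agent.S4535

open TensorProduct in
/-- Let B (𝔟-adic) be formally smooth over A (𝔞-adic) and let A' (𝔞'-adic) be a topological A-algebra (a
power of 𝔞 maps into 𝔞'). Then the A'-algebra A' ⊗_A B, with the tensor product topology, i.e. the
adic topology of the ideal generated by the images of 𝔞' and 𝔟, is formally smooth over A'. -/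
theorem result {A B A' : Type u} [CommRing A] [CommRing B] [CommRing A'] [Algebra A B] [Algebra A A']
    (𝔞 : Ideal A) (𝔟 : Ideal B) (𝔞' : Ideal A') (hAA' : ∃ k : ℕ, (𝔞 ^ k).map (algebraMap A A') ≤ 𝔞')
    (hB : EGA41.IsFormallySmoothAdic A 𝔞 B 𝔟) :
    EGA41.IsFormallySmoothAdic A' 𝔞' (A' ⊗[A] B)
      (𝔞'.map (algebraMap A' (A' ⊗[A] B)) ⊔
        𝔟.map (Algebra.TensorProduct.includeRight : B →ₐ[A] A' ⊗[A] B).toRingHom) := by
  obtain ⟨m, hm⟩ := hAA'
  intro C _ _ J hJ ⟨k, hk⟩ u ⟨j, hj⟩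
  letI : Algebra A C := ((algebraMap A' C).comp (algebraMap A A')).toAlgebra
  haveI : IsScalarTower A A' C := IsScalarTower.of_algebraMap_eq fun _ => rfl
  have hA : ∃ l : ℕ, (𝔞 ^ l).map (algebraMap A C) = ⊥ := by
    refine ⟨m * k, ?_⟩
    rw [IsScalarTower.algebraMap_eq A A' C, ← Ideal.map_map, pow_mul, Ideal.map_pow, eq_bot_iff, ← hk]
    exact Ideal.map_mono (Ideal.pow_right_mono hm k)
  let u₂ : B →ₐ[A] C ⧸ J := (u.restrictScalars A).comp Algebra.TensorProduct.includeRight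
  obtain ⟨v, hv⟩ := hB C J hJ hA u₂ ⟨j, fun x hx => hj _ (Ideal.pow_right_mono le_sup_right j
    (by rw [← Ideal.map_pow]; exact Ideal.mem_map_of_mem _ hx))⟩
  refine ⟨Algebra.TensorProduct.lift (Algebra.ofId A' C) v (fun _ _ => mul_comm _ _), ?_⟩
  refine Algebra.TensorProduct.ext (by ext) (AlgHom.ext fun b => ?_)
  show Ideal.Quotient.mk J (Algebra.TensorProduct.lift (Algebra.ofId A' C) v (fun _ _ => mul_comm _ _) (1 ⊗ₜ b)) = _
  refine (congrArg (Ideal.Quotient.mk J) (show _ = v b from ?_)).trans ?_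
  · exact (Algebra.TensorProduct.lift_tmul _ _ _ _ _).trans (by rw [map_one, one_mul])
  simpa [u₂] using AlgHom.congr_fun hv b

end Groth.Agent.S4535
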