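import Groth.Statements.S16438
import Groth.Agent.HensPair.StdLocal
import Groth.Agent.Hensel1.Transfer
import Groth.Agent.Hensel1.EssEt
import Groth.Agent.EtaleAlgebra.WeaklyEtale
import Mathlib
-- import your own Groth.Agent.* helpers here

set_option autoImplicit false
universe u
open EGA4loc

namespace Groth.Agent.S16438

open IsLocalRing in
/-- Let A be a Noetherian local ring with maximal ideal m, S a strict henselization of A, and D an
A-subalgebra of S which is a local ring dominated by S (the inclusion is local), essentially of
finite type over A, and such that m D is the maximal ideal of D. Then D is an essentially etale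
local A-algebra: A-isomorphic to the localization of an etale A-algebra at a prime over m. (The
published statement also assumes the total ring of fractions of D finitely generated over that of A;
for D essentially of finite type over A and dominated by S this is automatic, D then lying in a
local etale subextension of S, so that hypothesis is omitted here.) -/
theorem result
    (A S : Type u) [CommRing A] [IsLocalRing A] [IsNoetherianRing A]
    [CommRing S] [IsLocalRing S] [Algebra A S] [IsLocalHom (algebraMap A S)]
    [Hensel.IsStrictHenselization A S] (D : Subalgebra A S) [IsLocalRing D]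
    [IsLocalHom (algebraMap D S)] [Algebra.EssFiniteType A D]
    (hm : Ideal.map (algebraMap A D) (maximalIdeal A) = maximalIdeal D) :
    EGA4loc.IsEssentiallyEtale A D := by
  have hloc : IsLocalHom (algebraMap A D) := ⟨fun a ha => by
    have h1 := ha.map (algebraMap D S)
    rw [← IsScalarTower.algebraMap_apply] at h1
    exact isUnit_of_map_unit (algebraMap A S) a h1⟩
  have hT := (inferInstance : Hensel.IsStrictHenselization A S)
  haveI : IsScalarTower (IsLocalRing.ResidueField A) (IsLocalRing.ResidueField D) (IsLocalRing.ResidueField S) := by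
    refine IsScalarTower.of_algebraMap_eq fun z => ?_
    obtain ⟨z, rfl⟩ := IsLocalRing.residue_surjective z
    exact congrArg (IsLocalRing.residue S) (IsScalarTower.algebraMap_apply A D S z)
  haveI := hT.isSepClosure.separable
  haveI : Algebra.IsSeparable (IsLocalRing.ResidueField A) (IsLocalRing.ResidueField D) :=
    Algebra.isSeparable_tower_bot_of_isSeparable (IsLocalRing.ResidueField A) (IsLocalRing.ResidueField D) (IsLocalRing.ResidueField S)
  obtain ⟨P, 𝔮, hq, π, hπ⟩ := Groth.HensPair.exists_standardEtale_surjective A D hm
  have hlocE : IsLocalHom (algebraMap A (Localization.AtPrime 𝔮)) := ⟨fun a ha => by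
    have h1 := ha.map π
    rw [AlgHom.commutes] at h1
    exact isUnit_of_map_unit (algebraMap A D) a h1⟩
  have hqm : 𝔮.comap (algebraMap A P.Ring) = IsLocalRing.maximalIdeal A := by
    ext a
    rw [Ideal.mem_comap, ← IsLocalization.AtPrime.to_map_mem_maximal_iff (Localization.AtPrime 𝔮) 𝔮,
      ← IsScalarTower.algebraMap_apply, IsLocalRing.mem_maximalIdeal, IsLocalRing.mem_maximalIdeal,
      mem_nonunits_iff, mem_nonunits_iff, isUnit_map_iff]
  have hE : EGA4loc.IsEssentiallyEtale A (Localization.AtPrime 𝔮) :=
    ⟨P.Ring, inferInstance, inferInstance, 𝔮, hq, inferInstance, hqm, ⟨AlgEquiv.refl⟩⟩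
  refine ⟨P.Ring, inferInstance, inferInstance, 𝔮, hq, inferInstance, hqm,
    ⟨(AlgEquiv.ofBijective π ⟨?_, hπ⟩).symm⟩⟩
  haveI hfl : Module.Flat A S := (Groth.Hensel1.hensModel_of_isStrictHenselization (R := A) (S := S)).some.flat
  let f : Localization.AtPrime 𝔮 →ₐ[A] S := D.val.comp π
  haveI := Groth.Hensel1.isLocalHom_of_essentiallyEtale hE f
  let g : P.Ring →ₐ[A] S := f.comp (IsScalarTower.toAlgHom A P.Ring _)
  letI : Algebra P.Ring S := g.toAlgebra
  letI : Algebra (Localization.AtPrime 𝔮) S := f.toAlgebra
  haveI : IsScalarTower A P.Ring S := IsScalarTower.of_algebraMap_eq fun a => (g.commutes a).symm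
  haveI : IsScalarTower P.Ring (Localization.AtPrime 𝔮) S := IsScalarTower.of_algebraMap_eq fun _ => rfl
  haveI : Module.Flat P.Ring S :=
    Groth.EtaleAlgebra.flat_of_flat_mul A P.Ring (Algebra.WeaklyEtale.flat_lmul' A P.Ring) S
  haveI : Module.Flat (Localization.AtPrime 𝔮) S :=
    (Module.flat_iff_of_isLocalization (Localization.AtPrime 𝔮) 𝔮.primeCompl S).2 inferInstance
  haveI : IsLocalHom (algebraMap (Localization.AtPrime 𝔮) S) := ‹IsLocalHom f.toRingHom›
  haveI : Module.FaithfullyFlat (Localization.AtPrime 𝔮) S := Module.FaithfullyFlat.of_flat_of_isLocalHom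
  exact fun x y hxy => FaithfulSMul.algebraMap_injective (Localization.AtPrime 𝔮) S (congrArg Subtype.val hxy)

end Groth.Agent.S16438
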