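import Groth.Statements.S2487
import Groth.Agent.Ega41Flat.Smooth
open Groth.Ega41Flat Groth.Ega41Adic

set_option autoImplicit false
universe u
open EGA41

namespace Groth.Agent.S2487

open IsLocalRing in
/-- A lift of a surjection which is surjective. -/
theorem exists_surjective_lift {A B C F : Type u} [CommRing A] [IsLocalRing A] [CommRing B] [IsLocalRing B]
    [IsAdicComplete (maximalIdeal B) B] [CommRing C] [IsLocalRing C] [IsNoetherianRing C]
    [IsAdicComplete (maximalIdeal C) C] [CommRing F] [Nontrivial F] [Algebra A B] [Algebra A C] [Algebra A F]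
    [IsLocalHom (algebraMap A B)] [IsLocalHom (algebraMap A C)]
    (hB : EGA41.IsFormallySmoothAdic A (maximalIdeal A) B (maximalIdeal B))
    (p : B →ₐ[A] F) (hp : Function.Surjective p) (q : C →ₐ[A] F) (hq : Function.Surjective q)
    (hker : RingHom.ker q.toRingHom ≤ (maximalIdeal A).map (algebraMap A C)) :
    ∃ v : B →ₐ[A] C, Function.Surjective v ∧ q.comp v = p := by
  let K := RingHom.ker q.toRingHom
  let e : (C ⧸ K) ≃ₐ[A] F := Ideal.quotientKerAlgEquivOfSurjective hq
  let u : B →ₐ[A] C ⧸ K := e.symm.toAlgHom.comp p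
  haveI : Nontrivial (C ⧸ K) := e.toEquiv.nontrivial
  haveI : IsLocalRing (C ⧸ K) := IsLocalRing.of_surjective' _ Ideal.Quotient.mk_surjective
  obtain ⟨v, hv, hvu⟩ := exists_lift_local hB K (IsLocalRing.le_maximalIdeal (RingHom.ker_ne_top _)) u (by
    rw [IsLocalRing.map_maximalIdeal_of_surjective (Ideal.Quotient.mk K) Ideal.Quotient.mk_surjective]
    rw [IsLocalRing.map_maximalIdeal_of_surjective u.toRingHom (e.symm.surjective.comp hp)])
  have hqv : q.comp v = p := AlgHom.ext fun b => by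
    have h1 : Ideal.Quotient.mk K (v b) = e.symm (p b) := AlgHom.congr_fun hvu b
    show q (v b) = p b
    rw [← e.apply_symm_apply (p b), ← h1]
    rfl
  refine ⟨v, surjective_of_mod (maximalIdeal A) le_rfl v hv (fun y => ?_), hqv⟩
  obtain ⟨b, hb⟩ := hp (q y)
  refine ⟨b, hker ?_⟩
  show q (v b - y) = 0
  rw [map_sub, ← AlgHom.comp_apply, hqv, hb, sub_self]

open IsLocalRing TensorProduct in
/-- Let A be a Noetherian local ring, J an ideal contained in the maximal ideal, A₀ = A/J, and B₀ a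
complete Noetherian local ring with a local homomorphism A₀ → B₀ making B₀ formally smooth over A₀
(adic topologies). Then (existence) there are a complete Noetherian local ring B, a local
homomorphism A → B making B a flat A-module, and an A₀-algebra isomorphism u : A₀ ⊗_A B ≅ B₀;
(uniqueness) if (B', u') is another such pair, there is an A-algebra isomorphism v : B ≅ B' with u'
∘ (1 ⊗ v) = u. -/
theorem result {A : Type u} [CommRing A] [IsLocalRing A] [IsNoetherianRing A]
    (J : Ideal A) (hJ : J ≤ maximalIdeal A) [IsLocalRing (A ⧸ J)]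
    (B₀ : Type u) [CommRing B₀] [IsLocalRing B₀] [IsNoetherianRing B₀] [IsAdicComplete (maximalIdeal B₀) B₀]
    [Algebra (A ⧸ J) B₀] [IsLocalHom (algebraMap (A ⧸ J) B₀)]
    (hfs : EGA41.IsFormallySmoothAdic (A ⧸ J) (maximalIdeal (A ⧸ J)) B₀ (maximalIdeal B₀)) :
    (∃ (B : Type u) (_ : CommRing B) (_ : IsLocalRing B) (_ : IsNoetherianRing B) (_ : Algebra A B) (_ : IsLocalHom (algebraMap A B)),
      IsAdicComplete (maximalIdeal B) B ∧ Module.Flat A B ∧ Nonempty ((A ⧸ J) ⊗[A] B ≃ₐ[A ⧸ J] B₀)) ∧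
    ∀ (B B' : Type u) [CommRing B] [IsLocalRing B] [IsNoetherianRing B] [Algebra A B] [IsLocalHom (algebraMap A B)]
      [CommRing B'] [IsLocalRing B'] [IsNoetherianRing B'] [Algebra A B'] [IsLocalHom (algebraMap A B')],
      IsAdicComplete (maximalIdeal B) B → Module.Flat A B → IsAdicComplete (maximalIdeal B') B' → Module.Flat A B' →
      ∀ (u : (A ⧸ J) ⊗[A] B ≃ₐ[A ⧸ J] B₀) (u' : (A ⧸ J) ⊗[A] B' ≃ₐ[A ⧸ J] B₀),
      ∃ v : B ≃ₐ[A] B', (u' : (A ⧸ J) ⊗[A] B' →ₐ[A ⧸ J] B₀).comp
          (Algebra.TensorProduct.map (AlgHom.id (A ⧸ J) (A ⧸ J)) (v : B →ₐ[A] B')) = (u : (A ⧸ J) ⊗[A] B →ₐ[A ⧸ J] B₀) := by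
  have hmJ : maximalIdeal (A ⧸ J) = (maximalIdeal A).map (Ideal.Quotient.mk J) :=
    (IsLocalRing.map_maximalIdeal_of_surjective _ Ideal.Quotient.mk_surjective).symm
  rw [hmJ] at hfs
  letI : Algebra A B₀ := ((algebraMap (A ⧸ J) B₀).comp (Ideal.Quotient.mk J)).toAlgebra
  haveI : IsScalarTower A (A ⧸ J) B₀ := IsScalarTower.of_algebraMap_eq fun _ => rfl
  haveI : IsLocalHom (Ideal.Quotient.mk J) := IsLocalHom.of_surjective _ Ideal.Quotient.mk_surjective
  haveI : IsLocalHom (algebraMap A B₀) := RingHom.isLocalHom_comp _ _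
  refine ⟨?_, ?_⟩
  · letI : Field (A ⧸ maximalIdeal A) := Ideal.Quotient.field _
    let mB := (maximalIdeal A).map (algebraMap A B₀)
    let F := B₀ ⧸ mB
    haveI : Nontrivial F := Ideal.Quotient.nontrivial_iff.mpr fun h =>
      (maximalIdeal.isMaximal B₀).ne_top (top_le_iff.mp (h ▸ map_maximalIdeal_le (A := A) (B := B₀)))
    haveI : IsLocalRing F := IsLocalRing.of_surjective' _ Ideal.Quotient.mk_surjective
    have h0 := isFormallySmoothAdic_fibre (A := A) (B := B₀) (B₀ := B₀) J hJ (AlgHom.id A B₀) Function.surjective_id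
      (fun x hx => by rw [show x = 0 from hx]; exact zero_mem _) (Ideal.map_id _) hfs
    rw [IsLocalRing.map_maximalIdeal_of_surjective _ Ideal.Quotient.mk_surjective] at h0
    haveI : IsRegularLocalRing F := isRegularLocalRing_of_isAdicFormallySmooth (isAdicFormallySmooth_iff.mpr h0)
    haveI : IsAdicComplete (maximalIdeal F) F := Groth.Calg1.isAdicComplete_quotient _
    letI : Algebra (ResidueField A) F := RingHom.toAlgebra (algebraMap (A ⧸ maximalIdeal A) F)
    obtain ⟨R, _, _, _, _, _, π, hcR, hfR, hsR, hkR, hπ⟩ := exists_flat_lift (A := A) F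
    haveI := hcR; haveI := hfR
    let πₐ : R →ₐ[A] F := { π with commutes' := fun a => hπ a }
    have hR : EGA41.IsFormallySmoothAdic A (maximalIdeal A) R (maximalIdeal R) := by
      refine isFormallySmoothAdic_of_flat (isFormallySmoothAdic_fibre (A := A) (B := R) (maximalIdeal A) le_rfl
        πₐ hsR (le_of_eq hkR) (𝔟₀ := maximalIdeal F) (IsLocalRing.map_maximalIdeal_of_surjective π hsR) ?_)
      rwa [Ideal.map_quotient_self]
    obtain ⟨v, hv, hvπ⟩ := exists_surjective_lift hR πₐ hsR (Ideal.Quotient.mkₐ A mB) Ideal.Quotient.mk_surjective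
      (le_of_eq Ideal.mk_ker)
    let JR := J.map (algebraMap A R)
    have hJR : JR ≤ maximalIdeal R := (Ideal.map_mono hJ).trans map_maximalIdeal_le
    haveI : Nontrivial (R ⧸ JR) := Ideal.Quotient.nontrivial_iff.mpr fun h =>
      (maximalIdeal.isMaximal R).ne_top (top_le_iff.mp (h ▸ hJR))
    haveI : IsLocalRing (R ⧸ JR) := IsLocalRing.of_surjective' _ Ideal.Quotient.mk_surjective
    haveI : IsAdicComplete (maximalIdeal (R ⧸ JR)) (R ⧸ JR) := Groth.Calg1.isAdicComplete_quotient _
    haveI : IsLocalHom (algebraMap (A ⧸ J) (R ⧸ JR)) := ⟨fun x hx => by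
      obtain ⟨a, rfl⟩ := Ideal.Quotient.mk_surjective x
      haveI : IsLocalHom (Ideal.Quotient.mk JR) := IsLocalHom.of_surjective _ Ideal.Quotient.mk_surjective
      exact ((isUnit_map_iff (algebraMap A R) a).mp (isUnit_of_map_unit (Ideal.Quotient.mk JR) _ hx)).map _⟩
    have hvJ : ∀ x ∈ JR, v x = 0 := by
      intro x hx
      refine (Ideal.map_le_iff_le_comap (K := RingHom.ker v.toRingHom)).mpr (fun a ha => ?_) hx
      show v (algebraMap A R a) = 0
      rw [v.commutes]
      show algebraMap (A ⧸ J) B₀ (Ideal.Quotient.mk J a) = 0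
      rw [Ideal.Quotient.eq_zero_iff_mem.mpr ha, map_zero]
    let vb : (R ⧸ JR) →ₐ[A ⧸ J] B₀ :=
      { Ideal.Quotient.lift JR v.toRingHom hvJ with
        commutes' := fun c => by
          obtain ⟨a, rfl⟩ := Ideal.Quotient.mk_surjective c
          exact v.commutes a }
    let q₀ : B₀ →ₐ[A ⧸ J] F :=
      { Ideal.Quotient.mk mB with
        commutes' := fun c => by
          obtain ⟨a, rfl⟩ := Ideal.Quotient.mk_surjective c
          rfl }
    have hqs : Function.Surjective (q₀.comp vb) := fun z => by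
      obtain ⟨r, hr⟩ := hsR z
      exact ⟨Ideal.Quotient.mk JR r, (AlgHom.congr_fun hvπ r).trans hr⟩
    obtain ⟨w, hw, -⟩ := exists_surjective_lift (A := A ⧸ J) (by rwa [hmJ]) q₀ Ideal.Quotient.mk_surjective
      (q₀.comp vb) hqs (fun x hx => by
        obtain ⟨r, rfl⟩ := Ideal.Quotient.mk_surjective x
        have h1 : r ∈ RingHom.ker π := (AlgHom.congr_fun hvπ r).symm.trans hx
        rw [hkR] at h1
        have h2 := Ideal.mem_map_of_mem (Ideal.Quotient.mk JR) h1
        rw [Ideal.map_map] at h2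
        rw [hmJ, Ideal.map_map]
        exact h2)
    have hbij : Function.Bijective vb :=
      bijective_of_surjective_both vb.toRingHom w.toRingHom (fun z => by
        obtain ⟨r, hr⟩ := hv z
        exact ⟨Ideal.Quotient.mk JR r, hr⟩) hw
    exact ⟨R, inferInstance, inferInstance, inferInstance, inferInstance, inferInstance, hcR, hfR,
      ⟨(Algebra.TensorProduct.quotIdealMapEquivQuotTensor R J).symm.trans (AlgEquiv.ofBijective vb hbij)⟩⟩
  · intro B B' _ _ _ _ _ _ _ _ _ _ hcB hfB hcB' hfB' u u'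
    haveI := hcB; haveI := hfB; haveI := hcB'; haveI := hfB'
    have key : ∀ (D : Type u) [CommRing D] [Algebra A D] (f : (A ⧸ J) ⊗[A] D ≃ₐ[A ⧸ J] B₀),
        ∃ q : D →ₐ[A] B₀, Function.Surjective q ∧ RingHom.ker q.toRingHom = J.map (algebraMap A D) ∧
          ∀ d, q d = f (1 ⊗ₜ d) := by
      intro D _ _ f
      let g := (Algebra.TensorProduct.quotIdealMapEquivQuotTensor D J).trans f
      refine ⟨(g.restrictScalars A).toAlgHom.comp (Ideal.Quotient.mkₐ A _), g.surjective.comp Ideal.Quotient.mk_surjective, ?_, fun _ => rfl⟩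
      ext x
      rw [RingHom.mem_ker]
      show g (Ideal.Quotient.mk _ x) = 0 ↔ _
      rw [map_eq_zero_iff _ g.injective, Ideal.Quotient.eq_zero_iff_mem]
    have hFS : ∀ (D : Type u) [CommRing D] [IsLocalRing D] [IsNoetherianRing D] [Algebra A D] [IsLocalHom (algebraMap A D)]
        [Module.Flat A D] (q : D →ₐ[A] B₀), Function.Surjective q → RingHom.ker q.toRingHom = J.map (algebraMap A D) →
        EGA41.IsFormallySmoothAdic A (maximalIdeal A) D (maximalIdeal D) := fun D _ _ _ _ _ _ q hq hk =>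
      isFormallySmoothAdic_of_flat (isFormallySmoothAdic_fibre J hJ q hq (hk.le.trans (Ideal.map_mono hJ))
        (IsLocalRing.map_maximalIdeal_of_surjective q.toRingHom hq) hfs)
    obtain ⟨q, hq, hk, hqu⟩ := key B u
    obtain ⟨q', hq', hk', hqu'⟩ := key B' u'
    obtain ⟨v, hv, hvq⟩ := exists_surjective_lift (hFS B q hq hk) q hq q' hq' (hk'.le.trans (Ideal.map_mono hJ))
    obtain ⟨w, hw, -⟩ := exists_surjective_lift (hFS B' q' hq' hk') q' hq' q hq (hk.le.trans (Ideal.map_mono hJ))
    refine ⟨AlgEquiv.ofBijective v (bijective_of_surjective_both v.toRingHom w.toRingHom hv hw), ?_⟩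
    refine Algebra.TensorProduct.ext' fun a b => ?_
    have h1 : u' (1 ⊗ₜ v b) = u (1 ⊗ₜ b) := by
      rw [← hqu', ← hqu]; exact AlgHom.congr_fun hvq b
    show u' (a ⊗ₜ v b) = u (a ⊗ₜ b)
    rw [show a ⊗ₜ[A] v b = a • ((1 : A ⧸ J) ⊗ₜ[A] v b) by rw [TensorProduct.smul_tmul', smul_eq_mul, mul_one],
      show a ⊗ₜ[A] b = a • ((1 : A ⧸ J) ⊗ₜ[A] b) by rw [TensorProduct.smul_tmul', smul_eq_mul, mul_one],
      map_smul, map_smul, h1]

end Groth.Agent.S2487
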