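import Groth.Statements.S16443
import Mathlib
-- import your own Groth.Agent.* helpers here

set_option autoImplicit false
universe u
open EGA4loc

namespace Groth.Agent.S16443

theorem inv_mem_of_finite {Q T : Type u} [CommRing Q] [CommRing T] [Algebra Q T] [Module.Finite Q T]
    [IsArtinianRing Q] (L : Subalgebra Q T) {x y : T} (hx : x ∈ L) (h : x * y = 1) : y ∈ L := by
  haveI : IsArtinian Q T := isArtinian_of_fg_of_artinian'
  haveI : IsArtinian Q L := inferInstanceAs (IsArtinian Q (Subalgebra.toSubmodule L))
  obtain ⟨z, hz⟩ := (IsArtinian.surjective_of_injective_endomorphism (LinearMap.mulLeft Q (⟨x, hx⟩ : L))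
    (fun a b hab => by
      have h1 := congrArg (fun z : L => y * (z : T)) hab
      simp only [LinearMap.mulLeft_apply, MulMemClass.coe_mul, ← mul_assoc, mul_comm y x, h, one_mul] at h1
      exact Subtype.ext h1)) 1
  have h1 : x * (z : T) = 1 := congrArg Subtype.val hz
  rw [show y = (z : T) by rw [← mul_one y, ← h1, ← mul_assoc, mul_comm y x, h, one_mul]]
  exact z.2

theorem mem_of_subset_minimalPrimes {A : Type u} [CommRing A] [IsReduced A] (hmin : (minimalPrimes A).Finite)
    (I : Ideal A) (h : Disjoint (nonZeroDivisors A : Set A) (I : Set A)) : ∃ P ∈ minimalPrimes A, I ≤ P := by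
  have hsub : (I : Set A) ⊆ ⋃ P ∈ (hmin.toFinset : Set (Ideal A)), (P : Set A) := by
    intro a ha
    by_contra hc
    refine Set.disjoint_left.1 h (show a ∈ nonZeroDivisors A from ?_) ha
    rw [mem_nonZeroDivisors_iff_right]
    intro x hx
    have : x ∈ nilradical A := by
      rw [nilradical, ← Ideal.sInf_minimalPrimes, Submodule.mem_sInf]
      intro P hP
      refine ((Ideal.minimalPrimes_isPrime hP).mem_or_mem (hx ▸ P.zero_mem)).resolve_right fun hm => hc ?_
      exact Set.mem_iUnion₂.2 ⟨P, hmin.mem_toFinset.2 hP, hm⟩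
    rwa [nilradical_eq_zero] at this
  obtain ⟨P, hP, hle⟩ := (Ideal.subset_union_prime (f := fun P : Ideal A => P) ⊥ ⊥
    fun P hP _ _ => Ideal.minimalPrimes_isPrime (hmin.mem_toFinset.1 hP)).1 hsub
  exact ⟨P, hmin.mem_toFinset.1 hP, hle⟩

theorem isArtinianRing_fractionRing {A : Type u} [CommRing A] [IsReduced A] (hmin : (minimalPrimes A).Finite) :
    IsArtinianRing (FractionRing A) := by
  classical
  haveI : IsReduced (FractionRing A) := inferInstance
  have key : ∀ p : PrimeSpectrum (FractionRing A), p.asIdeal.comap (algebraMap A (FractionRing A)) ∈ minimalPrimes A := by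
    intro p
    obtain ⟨P, hP, hle⟩ := mem_of_subset_minimalPrimes hmin _
      ((IsLocalization.isPrime_iff_isPrime_disjoint (nonZeroDivisors A) (FractionRing A) p.asIdeal).1 p.2).2
    have e := le_antisymm hle (hP.2 ⟨Ideal.IsPrime.comap _, bot_le⟩ hle)
    exact (show p.asIdeal.comap (algebraMap A (FractionRing A)) = P from e) ▸ hP
  have hinj : ∀ p q : PrimeSpectrum (FractionRing A),
      p.asIdeal.comap (algebraMap A (FractionRing A)) = q.asIdeal.comap (algebraMap A (FractionRing A)) → p = q := by
    intro p q h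
    refine PrimeSpectrum.ext ?_
    rw [← IsLocalization.map_comap (nonZeroDivisors A) (FractionRing A) p.asIdeal,
      ← IsLocalization.map_comap (nonZeroDivisors A) (FractionRing A) q.asIdeal]
    exact congrArg _ h
  haveI : Finite (PrimeSpectrum (FractionRing A)) := by
    haveI := hmin.to_subtype
    exact Finite.of_injective (fun p => (⟨_, key p⟩ : minimalPrimes A)) fun p q h => hinj p q (congrArg Subtype.val h)
  have hmax : ∀ p : PrimeSpectrum (FractionRing A), p.asIdeal.IsMaximal := by
    intro p
    obtain ⟨m, hm, hle⟩ := Ideal.exists_le_maximal p.asIdeal p.2.ne_top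
    have h := hinj p ⟨m, hm.isPrime⟩ (le_antisymm (Ideal.comap_mono hle)
      ((key ⟨m, hm.isPrime⟩).2 ⟨Ideal.IsPrime.comap _, bot_le⟩ (Ideal.comap_mono hle)))
    rw [h]
    exact hm
  let f := Ideal.quotientInfRingEquivPiQuotient (fun p : PrimeSpectrum (FractionRing A) => p.asIdeal)
    (fun p q hpq => Ideal.isCoprime_iff_sup_eq.2 ((hmax p).coprime_of_ne (hmax q) fun h => hpq (PrimeSpectrum.ext h)))
  have hbot : (⨅ p : PrimeSpectrum (FractionRing A), p.asIdeal) = ⊥ := by
    refine le_bot_iff.1 fun x hx => ?_
    rw [← Ideal.zero_eq_bot, ← nilradical_eq_zero (FractionRing A), nilradical_eq_sInf, Ideal.mem_sInf]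
    exact fun {P} hP => (Submodule.mem_iInf _).1 hx ⟨P, hP⟩
  haveI : ∀ p : PrimeSpectrum (FractionRing A), IsArtinianRing (FractionRing A ⧸ p.asIdeal) := fun p => by
    haveI := hmax p
    letI := Ideal.Quotient.field p.asIdeal
    infer_instance
  let g : FractionRing A ≃+* _ := ((RingEquiv.quotientBot (FractionRing A)).symm.trans (Ideal.quotEquivOfEq hbot.symm)).trans f
  exact g.symm.surjective.isArtinianRing

theorem exists_dvd_nonZeroDivisor {A E : Type u} [CommRing A] [IsReduced A] (hmin : (minimalPrimes A).Finite)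
    [CommRing E] [Algebra A E] [Algebra.QuasiFinite A E] (u : E) (hu : u ∈ nonZeroDivisors E) :
    ∃ s ∈ nonZeroDivisors A, ∃ v, algebraMap A E s = u * v := by
  by_contra hc
  obtain ⟨P, hP, hle⟩ := mem_of_subset_minimalPrimes hmin ((Ideal.span {u}).comap (algebraMap A E))
    (Set.disjoint_left.2 fun s hs hm => by
      obtain ⟨v, hv⟩ := Ideal.mem_span_singleton'.1 (Ideal.mem_comap.1 hm)
      exact hc ⟨s, hs, v, by rw [← hv, mul_comm]⟩)
  haveI := Ideal.minimalPrimes_isPrime hP
  have hd : Disjoint (Ideal.span {u} : Set E) (Algebra.algebraMapSubmonoid E P.primeCompl : Set E) := by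
    rw [Set.disjoint_left]
    rintro _ hx ⟨a, ha, rfl⟩
    exact ha (hle hx)
  obtain ⟨Q, hQ, hQle, hQd⟩ := Ideal.exists_le_prime_disjoint _ _ hd
  have hQP : Q.comap (algebraMap A E) = P := by
    have h1 : Q.comap (algebraMap A E) ≤ P := fun a ha => by
      by_contra hna
      exact Set.disjoint_left.1 hQd ha ⟨a, hna, rfl⟩
    exact le_antisymm h1 (hP.2 ⟨Ideal.IsPrime.comap _, bot_le⟩ h1)
  obtain ⟨Q₀, hQ₀, hQ₀le⟩ := Ideal.exists_minimalPrimes_le (I := (⊥ : Ideal E)) (J := Q) bot_le
  haveI := Ideal.minimalPrimes_isPrime hQ₀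
  have heq : Q₀ = Q := Algebra.QuasiFinite.eq_of_le_of_under_eq (R := A) Q₀ Q hQ₀le (by
    show Q₀.comap (algebraMap A E) = Q.comap (algebraMap A E)
    rw [hQP]
    exact le_antisymm ((Ideal.comap_mono hQ₀le).trans hQP.le)
      (hP.2 ⟨Ideal.IsPrime.comap _, bot_le⟩ ((Ideal.comap_mono hQ₀le).trans hQP.le)))
  exact Set.disjoint_left.1 (Ideal.disjoint_nonZeroDivisors_of_mem_minimalPrimes hQ₀)
    (show u ∈ Q₀ from heq ▸ hQle (Ideal.mem_span_singleton_self u)) hu

/-- Let A be a reduced local ring with finitely many minimal prime ideals, E a local ring which is an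
essentially etale local A-algebra with local structure map, K_E the total ring of fractions of E,
and L an A-subalgebra of K_E containing an inverse of the image of every non-zero-divisor of A (so L
is an intermediate ring between the total rings of fractions of A and of E). Then the preimage D of
L in E is (the underlying set of) an A-subalgebra of E which is a local ring with local inclusion
into E — its maximal ideal lies under that of E — and L is the total ring of fractions of D in the
sense that every element of L is the image of an element of D times the inverse of the image of a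
non-zero-divisor of A. -/
theorem result
    (A E : Type u) [CommRing A] [IsLocalRing A] [IsReduced A] (hmin : (minimalPrimes A).Finite)
    [CommRing E] [IsLocalRing E] [Algebra A E] [IsLocalHom (algebraMap A E)]
    (hE : EGA4loc.IsEssentiallyEtale A E) (L : Subalgebra A (FractionRing E))
    (hL : ∀ s ∈ nonZeroDivisors A, ∃ y ∈ L, algebraMap A (FractionRing E) s * y = 1) :
    ∃ D : Subalgebra A E, (D : Set E) = (algebraMap E (FractionRing E)) ⁻¹' (L : Set (FractionRing E)) ∧
      ∃ _ : IsLocalRing D, IsLocalHom (algebraMap D E) ∧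
        ∀ l ∈ L, ∃ d ∈ D, ∃ s ∈ nonZeroDivisors A, ∃ y ∈ L,
          algebraMap A (FractionRing E) s * y = 1 ∧ l = algebraMap E (FractionRing E) d * y := by
  classical
  obtain ⟨C, _, _, q, _, hC, -, ⟨ee⟩⟩ := hE
  haveI : Algebra.QuasiFinite A E := by
    haveI : Algebra.QuasiFinite A C := inferInstance
    haveI : Algebra.QuasiFinite A (Localization.AtPrime q) := Algebra.QuasiFinite.of_isLocalization (S := C) q.primeCompl
    exact Algebra.QuasiFinite.of_surjective_algHom ee.symm.toAlgHom ee.symm.surjective
  let D := L.comap (IsScalarTower.toAlgHom A E (FractionRing E))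
  have hmem : ∀ x, x ∈ D ↔ algebraMap E (FractionRing E) x ∈ L := fun x => Iff.rfl
  have hden : ∀ l : FractionRing E, ∃ (x : E) (s : A), s ∈ nonZeroDivisors A ∧
      l * algebraMap A (FractionRing E) s = algebraMap E (FractionRing E) x := by
    intro l
    obtain ⟨e, u, rfl⟩ := IsLocalization.exists_mk'_eq (nonZeroDivisors E) l
    obtain ⟨s, hs, v, hv⟩ := exists_dvd_nonZeroDivisor hmin (u : E) u.2
    refine ⟨e * v, s, hs, ?_⟩
    rw [IsScalarTower.algebraMap_apply A E (FractionRing E), hv, map_mul, map_mul, ← mul_assoc,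
      IsLocalization.mk'_spec]
  let φ : FractionRing A →+* FractionRing E := IsLocalization.lift (M := nonZeroDivisors A)
    (g := algebraMap A (FractionRing E)) (fun s => by
      obtain ⟨y, -, hy⟩ := hL s s.2
      exact IsUnit.of_mul_eq_one _ hy)
  letI : Algebra (FractionRing A) (FractionRing E) := φ.toAlgebra
  haveI : IsScalarTower A (FractionRing A) (FractionRing E) :=
    IsScalarTower.of_algebraMap_eq fun a => (IsLocalization.lift_eq _ a).symm
  haveI : Algebra.QuasiFinite A (FractionRing E) := Algebra.QuasiFinite.of_isLocalization (S := E) (nonZeroDivisors E)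
  haveI : Algebra.QuasiFinite (FractionRing A) (FractionRing E) := Algebra.QuasiFinite.of_restrictScalars (R := A) (S := FractionRing A) (T := FractionRing E)
  haveI : IsArtinianRing (FractionRing A) := isArtinianRing_fractionRing hmin
  haveI : Module.Finite (FractionRing A) (FractionRing E) := Module.Finite.of_quasiFinite
  have hinv : ∀ x : D, IsUnit (x : E) → IsUnit x := by
    intro x hx
    obtain ⟨u, hu⟩ := hx
    suffices h : ((u⁻¹ : Eˣ) : E) ∈ D from
      IsUnit.of_mul_eq_one ⟨_, h⟩ (Subtype.ext (by show (x : E) * _ = 1; rw [← hu, Units.mul_inv]))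
    rw [hmem]
    let L' : Subalgebra (FractionRing A) (FractionRing E) :=
      { L.toSubsemiring with
        algebraMap_mem' := fun r => by
          obtain ⟨a, s, rfl⟩ := IsLocalization.exists_mk'_eq (nonZeroDivisors A) r
          obtain ⟨y, hy, hsy⟩ := hL s s.2
          have h1 := congrArg φ (IsLocalization.mk'_spec (FractionRing A) a s)
          rw [map_mul, IsLocalization.lift_eq, IsLocalization.lift_eq] at h1
          show φ (IsLocalization.mk' (FractionRing A) a s) ∈ L
          have h2 : φ (IsLocalization.mk' (FractionRing A) a s) = algebraMap A (FractionRing E) a * y := by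
            rw [← h1, mul_assoc, hsy, mul_one]
          rw [h2]
          exact L.mul_mem (L.algebraMap_mem a) hy }
    have hmul : algebraMap E (FractionRing E) (x : E) * algebraMap E (FractionRing E) ((u⁻¹ : Eˣ) : E) = 1 := by
      rw [← map_mul, ← hu, Units.mul_inv, map_one]
    exact inv_mem_of_finite L' ((hmem _).1 x.2) hmul
  haveI : IsLocalRing D := by
    refine IsLocalRing.of_isUnit_or_isUnit_one_sub_self fun x => ?_
    rcases IsLocalRing.isUnit_or_isUnit_one_sub_self (x : E) with h | h
    · exact Or.inl (hinv x h)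
    · exact Or.inr (hinv (1 - x) h)
  refine ⟨D, rfl, inferInstance, ⟨fun x hx => hinv x hx⟩, fun l hl => ?_⟩
  obtain ⟨x, s, hs, hx⟩ := hden l
  obtain ⟨y, hy, hsy⟩ := hL s hs
  refine ⟨x, (hmem x).2 (hx ▸ L.mul_mem hl (L.algebraMap_mem s)), s, hs, y, hy, hsy, ?_⟩
  rw [← hx, mul_assoc, hsy, mul_one]

end Groth.Agent.S16443
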