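import Groth.Statements.S16441
import Groth.Agent.Ega4Algebra2.StrictStage
import Groth.Agent.S16443
import Groth.Agent.S16448
import Mathlib
-- import your own Groth.Agent.* helpers here

set_option autoImplicit false
universe u
open EGA4loc

namespace Groth.Agent.S16441

open Groth.Ega4Algebra2

/-- A non-zero-divisor of an intermediate ring divides a non-zero-divisor of the base inside it. -/
theorem exists_mul_eq {A S : Type u} [CommRing A] [IsLocalRing A] [IsReduced A] (hmin : (minimalPrimes A).Finite)
    [CommRing S] [IsLocalRing S] [Algebra A S] [IsLocalHom (algebraMap A S)]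
    (D E : Subalgebra A S) [IsLocalRing E] [IsLocalHom (algebraMap A E)]
    (hE : EGA4loc.IsEssentiallyEtale A E) (u : D) (hu : u ∈ nonZeroDivisors D) (huE : (u : S) ∈ E) :
    ∃ w : D, ∃ s ∈ nonZeroDivisors A, u * w = algebraMap A D s := by
  classical
  obtain ⟨hloc, t, ht⟩ := Groth.Agent.S16448.result A E hmin hE
  have hunits : ∀ s : nonZeroDivisors A, IsUnit (algebraMap A (FractionRing E) s) := fun s => by
    rw [IsScalarTower.algebraMap_apply A E (FractionRing E)]
    exact IsLocalization.map_units (FractionRing E) (⟨_, Submonoid.mem_map_of_mem _ s.2⟩ : (nonZeroDivisors A).map (algebraMap A E))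
  let φ : FractionRing A →+* FractionRing E := IsLocalization.lift hunits
  letI : Algebra (FractionRing A) (FractionRing E) := φ.toAlgebra
  haveI : IsScalarTower A (FractionRing A) (FractionRing E) :=
    IsScalarTower.of_algebraMap_eq fun a => (IsLocalization.lift_eq _ a).symm
  haveI : IsArtinianRing (FractionRing A) := Groth.Agent.S16443.isArtinianRing_fractionRing hmin
  haveI : Module.Finite (FractionRing A) (FractionRing E) := by
    refine ⟨⟨t, top_le_iff.1 fun x _ => ?_⟩⟩
    obtain ⟨a, ha, hax⟩ := ht x
    obtain ⟨b, hb⟩ := (IsLocalization.map_units (FractionRing A) (⟨a, ha⟩ : nonZeroDivisors A)).exists_left_inv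
    have h1 : b • (algebraMap A (FractionRing E) a * x) = x := by
      rw [Algebra.smul_def, ← mul_assoc, IsScalarTower.algebraMap_apply A (FractionRing A) (FractionRing E),
        ← map_mul, hb, map_one, one_mul]
    rw [← h1]
    exact Submodule.smul_mem _ _ (Submodule.span_le_restrictScalars A (FractionRing A) _ hax)
  haveI : IsArtinian (FractionRing A) (FractionRing E) := isArtinian_of_fg_of_artinian'
  let ub : FractionRing E := algebraMap E (FractionRing E) ⟨u, huE⟩
  let L : Subalgebra (FractionRing A) (FractionRing E) := Algebra.adjoin (FractionRing A) {ub}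
  have hL : ∀ y ∈ L, ∃ s ∈ nonZeroDivisors A, ∃ p : E, (p : S) ∈ D ∧
      algebraMap A (FractionRing E) s * y = algebraMap E (FractionRing E) p := by
    intro y hy
    induction hy using Algebra.adjoin_induction with
    | mem z hz =>
      rw [Set.mem_singleton_iff] at hz
      exact ⟨1, one_mem _, ⟨u, huE⟩, u.2, by rw [hz, map_one, one_mul]⟩
    | algebraMap r =>
      obtain ⟨a, s, rfl⟩ := IsLocalization.exists_mk'_eq (nonZeroDivisors A) r
      refine ⟨s, s.2, algebraMap A E a, D.algebraMap_mem a, ?_⟩
      rw [IsScalarTower.algebraMap_apply A (FractionRing A) (FractionRing E), ← map_mul,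
        IsLocalization.mk'_spec', ← IsScalarTower.algebraMap_apply, ← IsScalarTower.algebraMap_apply]
    | add y z _ _ hy hz =>
      obtain ⟨a, ha, p, hp, hap⟩ := hy
      obtain ⟨b, hb, q, hq, hbq⟩ := hz
      refine ⟨a * b, mul_mem ha hb, algebraMap A E b * p + algebraMap A E a * q,
        D.add_mem (D.mul_mem (D.algebraMap_mem b) hp) (D.mul_mem (D.algebraMap_mem a) hq), ?_⟩
      rw [map_add, map_mul (algebraMap E (FractionRing E)), map_mul (algebraMap E (FractionRing E)), ← hap, ← hbq,
        ← IsScalarTower.algebraMap_apply, ← IsScalarTower.algebraMap_apply, map_mul]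
      ring
    | mul y z _ _ hy hz =>
      obtain ⟨a, ha, p, hp, hap⟩ := hy
      obtain ⟨b, hb, q, hq, hbq⟩ := hz
      refine ⟨a * b, mul_mem ha hb, p * q, D.mul_mem hp hq, ?_⟩
      rw [map_mul, map_mul, ← hap, ← hbq]
      ring
  let ubL : L := ⟨ub, Algebra.self_mem_adjoin_singleton _ _⟩
  haveI : IsArtinian (FractionRing A) L := inferInstanceAs (IsArtinian (FractionRing A) (Subalgebra.toSubmodule L))
  have hinjE : Function.Injective (algebraMap E (FractionRing E)) := IsFractionRing.injective _ _
  have hinj : Function.Injective (LinearMap.mulLeft (FractionRing A) ubL) := by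
    rw [injective_iff_map_eq_zero]
    intro y hy
    obtain ⟨s, hs, p, hp, hsp⟩ := hL y y.2
    have h1 : ub * (y : FractionRing E) = 0 := congrArg Subtype.val hy
    have h2 : (⟨u, huE⟩ : E) * p = 0 := hinjE (by
      rw [map_mul, map_zero, ← hsp, mul_left_comm]
      show algebraMap A (FractionRing E) s * (ub * (y : FractionRing E)) = 0
      rw [h1, mul_zero])
    have h3 : (⟨(p : S), hp⟩ : D) = 0 :=
      mem_nonZeroDivisors_iff_right.1 hu _ (Subtype.ext (by
        show (p : S) * (u : S) = 0
        rw [mul_comm]; exact congrArg Subtype.val h2))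
    have hp0 : p = 0 := Subtype.ext (congrArg (Subtype.val : D → S) h3)
    rw [hp0, map_zero] at hsp
    exact Subtype.ext ((hunits ⟨s, hs⟩).mul_right_eq_zero.1 hsp)
  obtain ⟨y, hy⟩ := IsArtinian.surjective_of_injective_endomorphism _ hinj 1
  obtain ⟨s, hs, p, hp, hsp⟩ := hL y y.2
  refine ⟨⟨p, hp⟩, s, hs, Subtype.ext ?_⟩
  have h1 : ub * (y : FractionRing E) = 1 := congrArg Subtype.val hy
  have h2 : (⟨u, huE⟩ : E) * p = algebraMap A E s := hinjE (by
    rw [map_mul, ← hsp, mul_left_comm, ← IsScalarTower.algebraMap_apply]
    show algebraMap A (FractionRing E) s * (ub * (y : FractionRing E)) = _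
    rw [h1, mul_one])
  exact congrArg (Subtype.val : E → S) h2

/-- Let A be a reduced local ring with finitely many minimal prime ideals, S a strict henselization of
A, and D an A-subalgebra of S which is a local ring dominated by S (local inclusion). Then the total
ring of fractions K_D of D is finitely generated over that of A — there is a finite subset t of K_D
such that every element of K_D, multiplied by (the image of) some non-zero-divisor of A, is a
polynomial expression in t with coefficients from A — if and only if D is contained in some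
A-subalgebra E of S which is a local ring and an essentially etale local A-algebra (a localization
of an etale A-algebra at a prime over the maximal ideal). -/
theorem result
    (A S : Type u) [CommRing A] [IsLocalRing A] [IsReduced A] (hmin : (minimalPrimes A).Finite)
    [CommRing S] [IsLocalRing S] [Algebra A S] [IsLocalHom (algebraMap A S)]
    [Hensel.IsStrictHenselization A S] (D : Subalgebra A S) [IsLocalRing D]
    [IsLocalHom (algebraMap D S)] :
    (∃ t : Finset (FractionRing D), ∀ x : FractionRing D, ∃ a ∈ nonZeroDivisors A,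
        algebraMap A (FractionRing D) a * x ∈ Algebra.adjoin A (t : Set (FractionRing D))) ↔
      ∃ E : Subalgebra A S, D ≤ E ∧ ∃ _ : IsLocalRing E, EGA4loc.IsEssentiallyEtale A E := by
  classical
  obtain ⟨M⟩ := Groth.Hensel1.hensModel_of_isStrictHenselization (R := A) (S := S)
  haveI := M.flat
  have hloc : ∀ E : Subalgebra A S, IsLocalHom (algebraMap A E) := fun E => ⟨fun a ha => by
    have h1 := ha.map (algebraMap E S)
    rw [← IsScalarTower.algebraMap_apply] at h1
    exact isUnit_of_map_unit (algebraMap A S) a h1⟩
  have hinjD : Function.Injective (algebraMap D (FractionRing D)) := IsFractionRing.injective _ _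
  constructor
  · rintro ⟨t, ht⟩
    have hstep : ∀ τ : FractionRing D, ∃ s ∈ nonZeroDivisors A, ∃ e : D,
        algebraMap A (FractionRing D) s * τ = algebraMap D (FractionRing D) e := by
      intro τ
      obtain ⟨d, u, rfl⟩ := IsLocalization.exists_mk'_eq (nonZeroDivisors D) τ
      obtain ⟨Eu, hEu, hEus⟩ := StrictStage.exists_stage (A := A) ({((u : D) : S)} : Finset S)
      haveI := hEus.isLocalRing
      haveI := hloc Eu
      obtain ⟨w, s, hs, hw⟩ := exists_mul_eq hmin D Eu (hEus.essEt hEus.isLocalRing) u u.2 (hEu (by simp))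
      refine ⟨s, hs, d * w, ?_⟩
      rw [IsScalarTower.algebraMap_apply A D (FractionRing D), ← hw, map_mul, map_mul,
        ← IsLocalization.mk'_spec (FractionRing D) d u]
      ring
    choose σ hσ e he using hstep
    obtain ⟨E, hE, hEs⟩ := StrictStage.exists_stage (A := A) (t.image fun τ => (e τ : S))
    haveI := hEs.faithfullyFlat
    refine ⟨E, fun x hx => ?_, hEs.isLocalRing, hEs.essEt hEs.isLocalRing⟩
    obtain ⟨a, ha, hax⟩ := ht (algebraMap D (FractionRing D) ⟨x, hx⟩)
    have key : ∀ y ∈ Algebra.adjoin A (t : Set (FractionRing D)), ∃ s ∈ nonZeroDivisors A, ∃ d : D,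
        (d : S) ∈ E ∧ algebraMap A (FractionRing D) s * y = algebraMap D (FractionRing D) d := by
      intro y hy
      induction hy using Algebra.adjoin_induction with
      | mem z hz => exact ⟨σ z, hσ z, e z, hE (Finset.mem_image.2 ⟨z, hz, rfl⟩), he z⟩
      | algebraMap r => exact ⟨1, one_mem _, algebraMap A D r, E.algebraMap_mem r,
          by rw [map_one, one_mul, ← IsScalarTower.algebraMap_apply]⟩
      | add y z _ _ hy hz =>
        obtain ⟨a, ha, p, hp, hap⟩ := hy
        obtain ⟨b, hb, q, hq, hbq⟩ := hz
        refine ⟨a * b, mul_mem ha hb, algebraMap A D b * p + algebraMap A D a * q,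
          E.add_mem (E.mul_mem (E.algebraMap_mem b) hp) (E.mul_mem (E.algebraMap_mem a) hq), ?_⟩
        rw [map_add, map_mul (algebraMap D (FractionRing D)), map_mul (algebraMap D (FractionRing D)), ← hap, ← hbq,
          ← IsScalarTower.algebraMap_apply, ← IsScalarTower.algebraMap_apply, map_mul]
        ring
      | mul y z _ _ hy hz =>
        obtain ⟨a, ha, p, hp, hap⟩ := hy
        obtain ⟨b, hb, q, hq, hbq⟩ := hz
        refine ⟨a * b, mul_mem ha hb, p * q, E.mul_mem hp hq, ?_⟩
        rw [map_mul, map_mul, ← hap, ← hbq]
        ring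
    obtain ⟨s, hs, d, hd, hsd⟩ := key _ hax
    rw [← mul_assoc, ← map_mul, IsScalarTower.algebraMap_apply A D (FractionRing D), ← map_mul] at hsd
    have h1 : algebraMap A S (s * a) * x = (d : S) := congrArg Subtype.val (hinjD hsd)
    have hc : IsSMulRegular S (algebraMap A S (s * a)) := by
      have hreg : IsSMulRegular A (s * a) := fun y z h => by
        refine sub_eq_zero.1 (mem_nonZeroDivisors_iff_right.1 (mul_mem hs ha) _ ?_)
        rw [sub_mul, sub_eq_zero, mul_comm y, mul_comm z]
        exact h
      exact hreg.of_flat (S := S)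
    have h2 : (⟨d, hd⟩ : E) ∈ ((Ideal.span {algebraMap A E (s * a)}).map (algebraMap E S)).comap (algebraMap E S) := by
      rw [Ideal.mem_comap, Ideal.map_span, Set.image_singleton, Ideal.mem_span_singleton']
      exact ⟨x, by rw [mul_comm]; exact h1⟩
    rw [Ideal.comap_map_eq_self_of_faithfullyFlat, Ideal.mem_span_singleton'] at h2
    obtain ⟨e', he'⟩ := h2
    have hxe : x = (e' : S) := hc (by
      show algebraMap A S (s * a) • x = algebraMap A S (s * a) • (e' : S)
      rw [smul_eq_mul, smul_eq_mul, h1, mul_comm]
      exact (congrArg Subtype.val he').symm)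
    exact hxe ▸ e'.2
  · rintro ⟨E, hDE, hEl, hE⟩
    haveI := hEl
    haveI := hloc E
    obtain ⟨hlocal, t, ht⟩ := Groth.Agent.S16448.result A E hmin hE
    have hstep : ∀ τ : FractionRing D, ∃ s ∈ nonZeroDivisors A, ∃ e : D,
        algebraMap A (FractionRing D) s * τ = algebraMap D (FractionRing D) e := by
      intro τ
      obtain ⟨d, u, rfl⟩ := IsLocalization.exists_mk'_eq (nonZeroDivisors D) τ
      obtain ⟨w, s, hs, hw⟩ := exists_mul_eq hmin D E hE u u.2 (hDE (u : D).2)
      refine ⟨s, hs, d * w, ?_⟩
      rw [IsScalarTower.algebraMap_apply A D (FractionRing D), ← hw, map_mul, map_mul,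
        ← IsLocalization.mk'_spec (FractionRing D) d u]
      ring
    have hunits : ∀ s : nonZeroDivisors A, IsUnit (algebraMap A (FractionRing E) s) := fun s => by
      rw [IsScalarTower.algebraMap_apply A E (FractionRing E)]
      exact IsLocalization.map_units (FractionRing E) (⟨_, Submonoid.mem_map_of_mem _ s.2⟩ : (nonZeroDivisors A).map (algebraMap A E))
    let j : D →+* FractionRing E := (algebraMap E (FractionRing E)).comp (Subalgebra.inclusion hDE).toRingHom
    have hju : ∀ u : nonZeroDivisors D, IsUnit (j u) := fun u => by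
      obtain ⟨w, s, hs, hw⟩ := exists_mul_eq hmin D E hE u u.2 (hDE (u : D).2)
      refine isUnit_of_mul_isUnit_left (y := j w) ?_
      rw [← map_mul, hw]
      show IsUnit (algebraMap E (FractionRing E) (algebraMap A E s))
      rw [← IsScalarTower.algebraMap_apply]
      exact hunits ⟨s, hs⟩
    let Φ : FractionRing D →+* FractionRing E := IsLocalization.lift hju
    have hΦD : ∀ d, Φ (algebraMap D (FractionRing D) d) = j d := fun d => IsLocalization.lift_eq _ d
    have hΦA : ∀ a, Φ (algebraMap A (FractionRing D) a) = algebraMap A (FractionRing E) a := fun a => by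
      rw [IsScalarTower.algebraMap_apply A D (FractionRing D), hΦD]
      exact (IsScalarTower.algebraMap_apply A E (FractionRing E) a).symm
    have hjinj : Function.Injective j :=
      (IsFractionRing.injective E (FractionRing E)).comp (Subalgebra.inclusion_injective hDE)
    have hΦinj : Function.Injective Φ := (injective_iff_map_eq_zero _).2 fun τ hτ => by
      obtain ⟨s, hs, e, he⟩ := hstep τ
      have h1 : Φ (algebraMap A (FractionRing D) s * τ) = 0 := by rw [map_mul, hτ, mul_zero]
      rw [he, hΦD, map_eq_zero_iff _ hjinj] at h1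
      rw [h1, map_zero] at he
      obtain ⟨w, hw⟩ : IsUnit (algebraMap A (FractionRing D) s) := by
        rw [IsScalarTower.algebraMap_apply A D (FractionRing D)]
        refine IsLocalization.map_units (FractionRing D) (⟨algebraMap A D s, mem_nonZeroDivisors_iff_right.2 fun y hy => hjinj ?_⟩ : nonZeroDivisors D)
        rw [map_zero]
        refine (hunits ⟨s, hs⟩).mul_left_eq_zero.1 (?_ : j y * algebraMap A (FractionRing E) s = 0)
        have h2 := congrArg j hy
        rwa [map_mul, map_zero, ← hΦD (algebraMap A D s), ← IsScalarTower.algebraMap_apply, hΦA] at h2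
      exact (hw ▸ w.isUnit).mul_right_eq_zero.1 he
    -- a finitely generated module over the total ring of fractions of `A`
    let φ : FractionRing A →+* FractionRing E := IsLocalization.lift hunits
    letI : Algebra (FractionRing A) (FractionRing E) := φ.toAlgebra
    haveI : IsScalarTower A (FractionRing A) (FractionRing E) :=
      IsScalarTower.of_algebraMap_eq fun a => (IsLocalization.lift_eq _ a).symm
    haveI : IsArtinianRing (FractionRing A) := Groth.Agent.S16443.isArtinianRing_fractionRing hmin
    haveI : Module.Finite (FractionRing A) (FractionRing E) := by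
      refine ⟨⟨t, top_le_iff.1 fun x _ => ?_⟩⟩
      obtain ⟨a, ha, hax⟩ := ht x
      obtain ⟨b, hb⟩ := (IsLocalization.map_units (FractionRing A) (⟨a, ha⟩ : nonZeroDivisors A)).exists_left_inv
      have h1 : b • (algebraMap A (FractionRing E) a * x) = x := by
        rw [Algebra.smul_def, ← mul_assoc, IsScalarTower.algebraMap_apply A (FractionRing A) (FractionRing E),
          ← map_mul, hb, map_one, one_mul]
      rw [← h1]
      exact Submodule.smul_mem _ _ (Submodule.span_le_restrictScalars A (FractionRing A) _ hax)
    let N : Submodule (FractionRing A) (FractionRing E) :=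
      { carrier := Set.range Φ
        add_mem' := by rintro _ _ ⟨a, rfl⟩ ⟨b, rfl⟩; exact ⟨a + b, map_add _ _ _⟩
        zero_mem' := ⟨0, map_zero _⟩
        smul_mem' := by
          rintro r _ ⟨a, rfl⟩
          obtain ⟨b, s, rfl⟩ := IsLocalization.exists_mk'_eq (nonZeroDivisors A) r
          have hu : IsUnit (algebraMap A (FractionRing D) (s : A)) := by
            rw [IsScalarTower.algebraMap_apply A D (FractionRing D)]
            refine IsLocalization.map_units (FractionRing D) (⟨algebraMap A D s, mem_nonZeroDivisors_iff_right.2 fun y hy => hjinj ?_⟩ : nonZeroDivisors D)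
            rw [map_zero]
            refine (hunits s).mul_left_eq_zero.1 (?_ : j y * algebraMap A (FractionRing E) (s : A) = 0)
            have h2 := congrArg j hy
            rwa [map_mul, map_zero, ← hΦD (algebraMap A D s), ← IsScalarTower.algebraMap_apply, hΦA] at h2
          obtain ⟨v, hv⟩ := hu.exists_right_inv
          refine ⟨algebraMap A (FractionRing D) b * v * a, ?_⟩
          rw [Algebra.smul_def]
          refine (hunits s).mul_left_cancel ?_
          rw [← mul_assoc, IsScalarTower.algebraMap_apply A (FractionRing A) (FractionRing E), ← map_mul,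
            IsLocalization.mk'_spec', ← IsScalarTower.algebraMap_apply, ← IsScalarTower.algebraMap_apply,
            ← hΦA, ← map_mul, ← hΦA, ← map_mul]
          congr 1
          linear_combination (algebraMap A (FractionRing D) b * a) * hv }
    haveI : IsNoetherian (FractionRing A) (FractionRing E) := isNoetherian_of_isNoetherianRing_of_finite _ _
    obtain ⟨T, hT⟩ : N.FG := IsNoetherian.noetherian N
    have hTr : ∀ z ∈ T, ∃ τ, Φ τ = z := fun z hz => (show z ∈ N from hT ▸ Submodule.subset_span hz)
    choose! g hg using hTr
    refine ⟨T.image g, fun x => ?_⟩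
    suffices h : ∀ y ∈ Submodule.span (FractionRing A) (T : Set (FractionRing E)), ∃ a ∈ nonZeroDivisors A,
        ∃ z ∈ Algebra.adjoin A ((T.image g : Finset _) : Set (FractionRing D)), algebraMap A (FractionRing E) a * y = Φ z by
      obtain ⟨a, ha, z, hz, hzx⟩ := h (Φ x) (hT.symm ▸ (⟨x, rfl⟩ : Φ x ∈ N))
      exact ⟨a, ha, (hΦinj (by rw [map_mul, hΦA]; exact hzx) : algebraMap A (FractionRing D) a * x = z) ▸ hz⟩
    intro y hy
    induction hy using Submodule.span_induction with
    | mem z hz => exact ⟨1, one_mem _, g z, Algebra.subset_adjoin (Finset.mem_image_of_mem g hz), by rw [map_one, one_mul, hg z hz]⟩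
    | zero => exact ⟨1, one_mem _, 0, zero_mem _, by rw [mul_zero, map_zero]⟩
    | add y z _ _ hy hz =>
      obtain ⟨a, ha, p, hp, hap⟩ := hy
      obtain ⟨b, hb, q, hq, hbq⟩ := hz
      refine ⟨a * b, mul_mem ha hb, algebraMap A _ b * p + algebraMap A _ a * q,
        add_mem (mul_mem (Subalgebra.algebraMap_mem _ b) hp) (mul_mem (Subalgebra.algebraMap_mem _ a) hq), ?_⟩
      rw [map_add, map_mul Φ, map_mul Φ, hΦA, hΦA, ← hap, ← hbq, map_mul]
      ring
    | smul r y _ hy =>
      obtain ⟨a, ha, p, hp, hap⟩ := hy
      obtain ⟨b, s, rfl⟩ := IsLocalization.exists_mk'_eq (nonZeroDivisors A) r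
      refine ⟨s * a, mul_mem s.2 ha, algebraMap A _ b * p, mul_mem (Subalgebra.algebraMap_mem _ b) hp, ?_⟩
      rw [map_mul Φ, hΦA, ← hap, map_mul, Algebra.smul_def,
        IsScalarTower.algebraMap_apply A (FractionRing A) (FractionRing E) b,
        ← IsLocalization.mk'_spec' (FractionRing A) b s, map_mul,
        ← IsScalarTower.algebraMap_apply A (FractionRing A) (FractionRing E)]
      ring

end Groth.Agent.S16441
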