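import Groth.Statements.S16449
import Groth.Agent.Ega4Algebra2.EssEtNormalization
import Mathlib
-- import your own Groth.Agent.* helpers here

set_option autoImplicit false
universe u
open EGA4loc

namespace Groth.Agent.S16449

/-- Let A be an excellent reduced local ring, E a local ring which is an essentially etale local
A-algebra with local structure map, and D an A-subalgebra of E which is a local ring dominated by E
(local inclusion). Inside the total ring of fractions K_E of E, let D' be the normalization of D —
the elements of K_E integral over D which are carried into D by the image of some non-zero-divisor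
of A (these are the elements of the total ring of fractions of D) — and let E' be the integral
closure of E. Suppose that D' has finitely many maximal ideals and that the inclusion D' → E' is a
semilocal morphism: maximal ideals of E' contract to maximal ideals of D', and every maximal ideal
of D' arises this way. Then D is essentially of finite type over A. -/
theorem result
    (A E : Type u) [CommRing A] [IsLocalRing A] [IsReduced A] (hA : EGA4.IsExcellent A)
    [CommRing E] [IsLocalRing E] [Algebra A E] [IsLocalHom (algebraMap A E)]
    (hE : EGA4loc.IsEssentiallyEtale A E)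
    (D : Subalgebra A E) [IsLocalRing D] [IsLocalHom (algebraMap D E)]
    (D' : Subalgebra A (FractionRing E))
    (hD' : ∀ x : (FractionRing E), x ∈ D' ↔ (IsIntegral D x ∧
      ∃ a ∈ nonZeroDivisors A, ∃ d ∈ D, algebraMap A (FractionRing E) a * x = algebraMap E (FractionRing E) d))
    (hle : D' ≤ ((integralClosure E (FractionRing E)).restrictScalars A))
    (hfin : {N : Ideal D' | N.IsMaximal}.Finite)
    (hmax : ∀ M : Ideal ((integralClosure E (FractionRing E)).restrictScalars A), M.IsMaximal → (M.comap (Subalgebra.inclusion hle)).IsMaximal)
    (hsurj : ∀ N : Ideal D', N.IsMaximal →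
      ∃ M : Ideal ((integralClosure E (FractionRing E)).restrictScalars A), M.IsMaximal ∧ M.comap (Subalgebra.inclusion hle) = N) :
    Algebra.EssFiniteType A D := by
  refine Groth.Ega4Algebra2.EssEtNorm.essFiniteType_of_units A E hA hE D fun y w hy hint hw hyw => ?_
  have hyD' : y ∈ D' := (hD' y).2 ⟨hint.tower_top, hy⟩
  have hunit : IsUnit (⟨y, hyD'⟩ : D') := by
    by_contra hnu
    obtain ⟨N, hN, hyN⟩ := exists_max_ideal_of_mem_nonunits (show (⟨y, hyD'⟩ : D') ∈ nonunits D' from hnu)
    obtain ⟨M, hM, rfl⟩ := hsurj N hN
    exact hM.ne_top (Ideal.eq_top_of_isUnit_mem _ hyN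
      (IsUnit.of_mul_eq_one (⟨w, hw⟩ : (integralClosure E (FractionRing E)).restrictScalars A) (Subtype.ext hyw)))
  obtain ⟨v, hv⟩ := hunit.exists_right_inv
  have hv' : y * (v : FractionRing E) = 1 := congrArg Subtype.val hv
  rw [show w = (v : FractionRing E) from by
    rw [← mul_one w, ← hv', ← mul_assoc, mul_comm w y, hyw, one_mul]]
  exact ((hD' _).1 v.2).1

end Groth.Agent.S16449
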