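import Groth.Statements.S0108
import Groth.Agent.EtaleBase.Roots
-- import your own Groth.Agent.* helpers here

set_option autoImplicit false
open CategoryTheory CategoryTheory.Limits AlgebraicGeometry Opposite
universe u
open EtBase

namespace Groth.Agent.S0108

/-- The Kummer sequence — when n is invertible on S, the n-th power map on the multiplicative group
sheaf is an epimorphism of étale sheaves (its kernel μ_n is, by definition in the prelude, the sheaf
of n-th roots of unity, so the sequence 0 → μ_n → G_m → G_m → 0 is exact). -/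
theorem result (S : Scheme.{u}) (n : ℕ) (hn : IsUnit (n : Γ(S, ⊤))) : Epi (EtCoh.powMap S n) := by
  have hloc : Sheaf.IsLocallySurjective (EtCoh.powMap S n) := by
    constructor
    intro U σ
    rw [Groth.EtaleBase.mem_topology_iff]
    intro x
    have h0 : IsUnit ((n : ℕ) : Γ(U.left, ⊤)) := by
      have h := hn.map (U.hom.appTop).hom
      rw [map_natCast] at h
      exact h
    have hU : Nontrivial Γ(U.left, ⊤) :=
      (U.left.presheaf.germ ⊤ x trivial).hom.domain_nontrivial
    have hn0 : n ≠ 0 := fun h => by
      subst h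
      rw [Nat.cast_zero] at h0
      exact not_isUnit_zero h0
    let a : (Γ(U.left, ⊤))ˣ := Additive.toMul σ.down
    have hc : IsUnit ((n : Γ(U.left, ⊤)) * (a : Γ(U.left, ⊤))) := h0.mul a.isUnit
    obtain ⟨b, hb⟩ := hc.exists_left_inv
    obtain ⟨V, g, v, hv, r, hr⟩ := Groth.EtaleBase.exists_etale_root U x
      (Polynomial.X ^ n - Polynomial.C (a : Γ(U.left, ⊤))) (Polynomial.monic_X_pow_sub_C _ hn0)
      (by rw [Polynomial.natDegree_X_pow_sub_C]; exact hn0)
      ⟨Polynomial.C b * Polynomial.X, -Polynomial.C (b * (n : Γ(U.left, ⊤))), by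
        obtain ⟨m, hm⟩ := Nat.exists_eq_succ_of_ne_zero hn0
        subst hm
        have hb' : Polynomial.C b * (((m + 1 : ℕ) : Polynomial Γ(U.left, ⊤)) *
            Polynomial.C (a : Γ(U.left, ⊤))) = 1 := by
          rw [← map_natCast (Polynomial.C : Γ(U.left, ⊤) →+* _), ← map_mul, ← map_mul, hb, map_one]
        simp only [Polynomial.derivative_sub, Polynomial.derivative_X_pow, Polynomial.derivative_C,
          sub_zero, map_mul, map_natCast, Nat.succ_eq_add_one, Nat.add_sub_cancel] at hb' ⊢
        linear_combination hb'⟩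
    rw [Polynomial.eval₂_sub, Polynomial.eval₂_pow, Polynomial.eval₂_X, Polynomial.eval₂_C,
      sub_eq_zero] at hr
    have hru : IsUnit r := (isUnit_pow_iff hn0).1 (hr ▸ a.isUnit.map g.left.appTop.hom)
    refine ⟨V, g, v, ⟨ULift.up (Additive.ofMul hru.unit), ?_⟩, hv⟩
    change ULift.up _ = ULift.up _
    exact congrArg ULift.up (congrArg Additive.ofMul (Units.ext hr))
  infer_instance

end Groth.Agent.S0108
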