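import Groth.Statements.S19554
import Groth.Agent.Pi1FEt.Splitting
import Groth.Agent.EtaleBase.Stalks
import Mathlib.CategoryTheory.Sites.LocallyBijective
import Mathlib.CategoryTheory.Sites.Over
-- import your own Groth.Agent.* helpers here

set_option autoImplicit false
universe u
open CategoryTheory CategoryTheory.Limits AlgebraicGeometry Opposite
open CohProp

namespace Groth.Agent.S19554

set_option backward.isDefEq.respectTransparency false
set_option linter.style.haveILetI false

/-- Two sheaves receiving locally bijective maps from one presheaf are isomorphic. -/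
theorem nonempty_iso_of_locallyBijective {C : Type*} [Category C] {J : GrothendieckTopology C}
    [HasWeakSheafify J (Type (u + 1))] [J.WEqualsLocallyBijective (Type (u + 1))]
    {P : Cᵒᵖ ⥤ Type (u + 1)} {F G : Sheaf J (Type (u + 1))} (a : P ⟶ F.obj) (b : P ⟶ G.obj)
    [Presheaf.IsLocallyInjective J a] [Presheaf.IsLocallySurjective J a]
    [Presheaf.IsLocallyInjective J b] [Presheaf.IsLocallySurjective J b] : Nonempty (F ≅ G) := by
  haveI ha : IsIso ((presheafToSheaf J (Type (u + 1))).map a) :=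
    (GrothendieckTopology.W_iff _ _).1 (J.W_of_isLocallyBijective _)
  haveI hb : IsIso ((presheafToSheaf J (Type (u + 1))).map b) :=
    (GrothendieckTopology.W_iff _ _).1 (J.W_of_isLocallyBijective _)
  exact ⟨(asIso ((presheafToSheaf J (Type (u + 1))).map a ≫
      (sheafificationAdjunction J (Type (u + 1))).counit.app F)).symm ≪≫
    asIso ((presheafToSheaf J (Type (u + 1))).map b ≫
      (sheafificationAdjunction J (Type (u + 1))).counit.app G)⟩

section

variable {C : Type*} [Category C] {J : GrothendieckTopology C} {P Q : Cᵒᵖ ⥤ Type (u + 1)} (U : C)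

theorem isLocallyInjective_over (φ : P ⟶ Q) [Presheaf.IsLocallyInjective J φ] :
    Presheaf.IsLocallyInjective (J.over U) (Functor.whiskerLeft (Over.forget U).op φ) := by
  refine ⟨fun {Y} a b e => ?_⟩
  rw [GrothendieckTopology.mem_over_iff]
  refine J.superset_covering ?_
    (Presheaf.equalizerSieve_mem J φ (X := op Y.unop.left) a b e)
  intro Z k hk
  exact (Sieve.overEquiv_iff _ _).2 hk

theorem isLocallySurjective_over (φ : P ⟶ Q) [Presheaf.IsLocallySurjective J φ] :
    Presheaf.IsLocallySurjective (J.over U) (Functor.whiskerLeft (Over.forget U).op φ) := by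
  refine ⟨fun {Y} σ => ?_⟩
  rw [GrothendieckTopology.mem_over_iff]
  refine J.superset_covering ?_ (Presheaf.imageSieve_mem J φ (U := op Y.left) σ)
  intro Z k hk
  exact (Sieve.overEquiv_iff _ _).2 hk

end

/-- Sections of an etale scheme over `U` which are locally bijective trivialize it over `U`. -/
theorem trivial_piece {S : Scheme.{u}} (U X' : S.Etale) (n : ℕ) (s : Fin n → (U ⟶ X'))
    (hi : ∀ (V : S.Etale) (g : V ⟶ U) (i j : Fin n), g ≫ s i = g ≫ s j → i ≠ j → IsEmpty V.left)
    (hs : ∀ (V : S.Etale) (g : V ⟶ U) (σ : V ⟶ X') (v : V.left),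
      ∃ (W : S.Etale) (k : W ⟶ V) (w : W.left) (i : Fin n), k ≫ σ = (k ≫ g) ≫ s i ∧ k.left.base w = v) :
    ∃ M : Type (u + 1), Finite M ∧
      Nonempty ((EtDesc.repSh X').over U ≅ (CohProp.constSh S M).over U) := by
  refine ⟨ULift.{u + 1} (Fin n), inferInstance, ?_⟩
  let M : Type (u + 1) := ULift.{u + 1} (Fin n)
  let P : (Over U)ᵒᵖ ⥤ Type (u + 1) :=
    (Over.forget U).op ⋙ (Functor.const S.Etaleᵒᵖ).obj M
  let Q : S.Etaleᵒᵖ ⥤ Type (u + 1) := yoneda.obj X' ⋙ uliftFunctor.{u + 1, u}
  let a₀ : P ⟶ (Over.forget U).op ⋙ Q :=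
    { app := fun Y => TypeCat.ofHom fun i => ULift.up (Y.unop.hom ≫ s i.down)
      naturality := fun Y Y' φ => by
        ext i
        exact congrArg ULift.up ((congrArg (· ≫ s i.down) (Over.w φ.unop)).symm.trans
          (Category.assoc _ _ _)) }
  haveI : Presheaf.IsLocallyInjective (S.smallEtaleTopology.over U) a₀ := by
    refine ⟨fun {Y} a b e => ?_⟩
    rw [GrothendieckTopology.mem_over_iff]
    by_cases hab : a = b
    · subst hab
      refine S.smallEtaleTopology.superset_covering ?_ (S.smallEtaleTopology.top_mem _)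
      intro Z k _
      exact (Sieve.overEquiv_iff _ _).2 rfl
    · haveI := hi Y.unop.left Y.unop.hom a.down b.down (congrArg ULift.down e)
        fun h => hab (ULift.ext _ _ h)
      exact (EtaleBase.mem_topology_iff _).2 fun x => isEmptyElim x
  haveI : Presheaf.IsLocallySurjective (S.smallEtaleTopology.over U) a₀ := by
    refine ⟨fun {Y} σ => ?_⟩
    rw [GrothendieckTopology.mem_over_iff, EtaleBase.mem_topology_iff]
    intro x
    obtain ⟨W, k, w, i, he, hw⟩ := hs Y.left Y.hom σ.down x
    exact ⟨W, k, w, (Sieve.overEquiv_iff _ _).2 ⟨ULift.up i, congrArg ULift.up he.symm⟩, hw⟩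
  haveI := isLocallyInjective_over (J := S.smallEtaleTopology) U (toSheafify S.smallEtaleTopology Q)
  haveI := isLocallySurjective_over (J := S.smallEtaleTopology) U (toSheafify S.smallEtaleTopology Q)
  haveI := isLocallyInjective_over (J := S.smallEtaleTopology) U
    (toSheafify S.smallEtaleTopology ((Functor.const S.Etaleᵒᵖ).obj M))
  haveI := isLocallySurjective_over (J := S.smallEtaleTopology) U
    (toSheafify S.smallEtaleTopology ((Functor.const S.Etaleᵒᵖ).obj M))
  exact nonempty_iso_of_locallyBijective (J := S.smallEtaleTopology.over U)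
    (F := (EtDesc.repSh X').over U) (G := (CohProp.constSh S M).over U)
    (a₀ ≫ Functor.whiskerLeft (Over.forget U).op (toSheafify S.smallEtaleTopology Q))
    (Functor.whiskerLeft (Over.forget U).op
      (toSheafify S.smallEtaleTopology ((Functor.const S.Etaleᵒᵖ).obj M)))

/-- Morphisms to an etale scheme agreeing at a geometric point agree near it. -/
theorem exists_open_eq {V X S : Scheme.{u}} (φ : X ⟶ S) [Etale φ] (a b : V ⟶ X)
    (h : a ≫ φ = b ≫ φ) {Ω : Type u} [Field Ω] (ξ : Spec (CommRingCat.of Ω) ⟶ V)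
    (he : ξ ≫ a = ξ ≫ b) : ∃ W : V.Opens, ξ default ∈ W ∧ W.ι ≫ a = W.ι ≫ b := by
  haveI : IsOpenImmersion (pullback.diagonal φ) := inferInstance
  let l := pullback.lift a b h
  have hl : ξ ≫ l = (ξ ≫ a) ≫ pullback.diagonal φ := by
    apply pullback.hom_ext <;> simp [l, he]
  refine ⟨l ⁻¹ᵁ (pullback.diagonal φ).opensRange, ⟨(ξ ≫ a) default, ?_⟩, ?_⟩
  · exact congr($(hl.symm) default)
  · set W := l ⁻¹ᵁ (pullback.diagonal φ).opensRange
    have hr : Set.range (W.ι ≫ l) ⊆ Set.range (pullback.diagonal φ) := by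
      rintro _ ⟨w, rfl⟩
      exact w.2
    let m := IsOpenImmersion.lift (pullback.diagonal φ) (W.ι ≫ l) hr
    have hm : m ≫ pullback.diagonal φ = W.ι ≫ l := IsOpenImmersion.lift_fac _ _ _
    have h1 := congrArg (· ≫ pullback.fst φ φ) hm
    have h2 := congrArg (· ≫ pullback.snd φ φ) hm
    simp only [Category.assoc, pullback.diagonal_fst, pullback.diagonal_snd, Category.comp_id, l,
      pullback.lift_fst, pullback.lift_snd] at h1 h2
    exact h1.symm.trans h2

/-- For any scheme S and any finite étale morphism f : X → S, the sheaf of sets h_X on the small étale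
site of S attached to the étale S-scheme X is finite locally constant: S admits a jointly surjective
family of étale S-schemes over each member of which h_X becomes isomorphic to a constant sheaf with
finite value. (This is the first assertion of the published result, that X ↦ h_X sends finite étale
S-schemes to finite locally constant sheaves of sets; the equivalence it goes on to assert is not
stated here.) -/
theorem result (S X : Scheme.{u}) (f : X ⟶ S) [Etale f] [IsFinite f] :
    CohProp.IsFinLocConstSet (EtDesc.repSh (Scheme.Etale.mk f)) := by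
  let D : ℕ → S.Opens := fun n => ⟨{s | f.finrank s = n},
    f.isLocallyConstant_finrank.isOpen_fiber n⟩
  have hdeg : ∀ (n : ℕ) (t : (D n).toScheme), (f ∣_ D n).finrank t = n := fun n t => by
    rw [Scheme.Hom.finrank_of_isPullback (f ⁻¹ᵁ D n).ι (f ∣_ D n) f (D n).ι
      (isPullback_morphismRestrict f (D n)).flip t]
    exact t.2
  choose T ψ hψf hψe hψs hψd e hew heu using fun n => Pi1FEt.exists_splitting n (f ∣_ D n) (hdeg n)
  haveI : ∀ n, Etale (ψ n ≫ (D n).ι) := fun n => by haveI := hψe n; infer_instance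
  refine ⟨ULift.{u} ℕ, fun n => Scheme.Etale.mk (ψ n.down ≫ (D n.down).ι), ?_, fun n => ?_⟩
  · intro x
    obtain ⟨y, hy⟩ := (hψs (f.finrank x)).surj ⟨x, rfl⟩
    exact ⟨⟨f.finrank x⟩, y, congrArg Subtype.val hy⟩
  obtain ⟨n⟩ := n
  have hw : ∀ i, (e n i ≫ (f ⁻¹ᵁ D n).ι) ≫ f = ψ n ≫ (D n).ι := fun i => by
    rw [Category.assoc, ← morphismRestrict_ι, ← Category.assoc, hew n i]
  refine trivial_piece _ _ n (fun i => MorphismProperty.Over.homMk (e n i ≫ (f ⁻¹ᵁ D n).ι) (hw i)) ?_ ?_
  · intro V g i j hij hne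
    refine ⟨fun v => ?_⟩
    obtain ⟨Ω, _, _, ξ, -⟩ := Pi1FEt.exists_geomPoint v
    have h' : ξ ≫ g.left ≫ e n i ≫ (f ⁻¹ᵁ D n).ι = ξ ≫ g.left ≫ e n j ≫ (f ⁻¹ᵁ D n).ι :=
      congrArg (fun k : V ⟶ Scheme.Etale.mk f => ξ ≫ k.left) hij
    have h'' : (ξ ≫ g.left) ≫ e n i = (ξ ≫ g.left) ≫ e n j := by
      rw [← cancel_mono (f ⁻¹ᵁ D n).ι]
      simpa only [Category.assoc] using h'
    obtain ⟨k, -, hu⟩ := heu n Ω (ξ ≫ g.left) ((ξ ≫ g.left) ≫ e n i) (by
      rw [Category.assoc, hew n i])
    exact hne ((hu i rfl).trans (hu j h''.symm).symm)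
  · intro V g σ v
    obtain ⟨Ω, _, _, ξ, hξ⟩ := Pi1FEt.exists_geomPoint v
    have hg : g.left ≫ ψ n ≫ (D n).ι = V.hom := MorphismProperty.Over.w g
    have hσ : σ.left ≫ f = V.hom := MorphismProperty.Over.w σ
    let σ' := IsOpenImmersion.lift (f ⁻¹ᵁ D n).ι σ.left (by
      rintro _ ⟨w, rfl⟩
      rw [Scheme.Opens.range_ι]
      show (σ.left ≫ f) w ∈ D n
      rw [hσ, ← hg]
      exact ((g.left ≫ ψ n) w).2)
    have hσ' : σ' ≫ (f ⁻¹ᵁ D n).ι = σ.left := IsOpenImmersion.lift_fac _ _ _
    have hσn : σ' ≫ (f ∣_ D n) = g.left ≫ ψ n := by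
      rw [← cancel_mono (D n).ι, Category.assoc, Category.assoc, morphismRestrict_ι,
        reassoc_of% hσ', hσ, hg]
    obtain ⟨i, hi, -⟩ := heu n Ω (ξ ≫ g.left) (ξ ≫ σ') (by rw [Category.assoc, hσn, Category.assoc])
    obtain ⟨W, hW, heq⟩ := exists_open_eq (f ∣_ D n) σ' (g.left ≫ e n i)
      (by rw [hσn, Category.assoc, hew n i]) ξ (by rw [← hi, Category.assoc])
    refine ⟨Scheme.Etale.mk (W.ι ≫ V.hom), MorphismProperty.Over.homMk W.ι rfl, ⟨ξ default, hW⟩, i, ?_, hξ⟩
    apply MorphismProperty.Over.Hom.ext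
    have h' := congrArg (· ≫ (f ⁻¹ᵁ D n).ι) heq
    simp only [Category.assoc, hσ'] at h'
    exact h'.trans (Category.assoc _ _ _).symm

end Groth.Agent.S19554
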