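import Groth.Statements.S1992
import Mathlib
-- import your own Groth.Agent.* helpers here

set_option autoImplicit false
universe u
open Polynomial
open EtAlg

namespace Groth.Agent.S1992

/-- Let A be an absolutely integrally closed ring, i.e. every monic polynomial over A is a product of
linear factors X - a. Then for every prime p of A the localization A_p is a strictly henselian local
ring (henselian with separably closed residue field). -/
theorem result (A : Type u) [CommRing A]
    (hA : ∀ f : A[X], f.Monic → ∃ s : Multiset A, f = (s.map fun a => X - C a).prod)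
    (p : Ideal A) [p.IsPrime] :
    EtCoh.IsStrictlyHenselianLocalRing (Localization.AtPrime p) := by
  have hroot : ∀ f : (Localization.AtPrime p)[X], f.Monic → f.natDegree ≠ 0 → ∃ c, f.eval c = 0 := by
    intro f hf hn
    let L := Localization.AtPrime p
    obtain ⟨s, hs⟩ := IsLocalization.exist_integer_multiples p.primeCompl
      (Finset.range f.natDegree) f.coeff
    have hlift : f.scaleRoots (algebraMap A L s) ∈ lifts (algebraMap A L) := by
      rw [lifts_iff_coeff_lifts]
      intro i
      rw [coeff_scaleRoots]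
      rcases lt_trichotomy i f.natDegree with hi | hi | hi
      · obtain ⟨a, ha⟩ := hs i (Finset.mem_range.mpr hi)
        refine ⟨a * (s : A) ^ (f.natDegree - i - 1), ?_⟩
        rw [map_mul, map_pow, ha, Algebra.smul_def, mul_comm (algebraMap A L s), mul_assoc,
          ← pow_succ', Nat.sub_add_cancel (by omega : 1 ≤ f.natDegree - i)]
      · exact ⟨1, by rw [hi, hf.coeff_natDegree, Nat.sub_self, pow_zero, mul_one, map_one]⟩
      · exact ⟨0, by rw [coeff_eq_zero_of_natDegree_lt hi, zero_mul, map_zero]⟩
    obtain ⟨g, hg, hgd, hgm⟩ := lifts_and_natDegree_eq_and_monic hlift ((monic_scaleRoots_iff _).mpr hf)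
    obtain ⟨t, ht⟩ := hA g hgm
    obtain ⟨c, hc⟩ : ∃ c, c ∈ t := by
      refine Multiset.exists_mem_of_ne_zero fun h0 => hn ?_
      rw [← natDegree_scaleRoots f (algebraMap A L s), ← hgd, ht, h0, Multiset.map_zero, Multiset.prod_zero, natDegree_one]
    have hc0 : g.eval c = 0 := by
      rw [ht, eval_multiset_prod]
      exact Multiset.prod_eq_zero (Multiset.mem_map.mpr ⟨X - C c, Multiset.mem_map_of_mem _ hc, by simp⟩)
    obtain ⟨u, hu⟩ := IsLocalization.map_units L s
    refine ⟨(↑u⁻¹ : L) * algebraMap A L c, ?_⟩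
    have h := congrArg (algebraMap A L) hc0
    rw [map_zero, ← eval₂_at_apply, ← eval_map, hg] at h
    have h2 := scaleRoots_eval_mul f ((↑u⁻¹ : L) * algebraMap A L c) (algebraMap A L s)
    rw [← hu, Units.mul_inv_cancel_left, hu, h] at h2
    exact ((IsLocalization.map_units L s).pow f.natDegree).mul_right_eq_zero.mp h2.symm
  have hfac : ∀ (n : ℕ) (f : (Localization.AtPrime p)[X]), f.Monic → f.natDegree ≤ n →
      ∀ a₀, f.eval a₀ ∈ IsLocalRing.maximalIdeal _ → ∃ a, f.IsRoot a ∧ a - a₀ ∈ IsLocalRing.maximalIdeal _ := by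
    intro n
    induction n with
    | zero =>
      intro f hf hn a₀ h
      rw [hf.natDegree_eq_zero.mp (Nat.le_zero.mp hn), eval_one] at h
      exact absurd ((Ideal.eq_top_iff_one _).mpr h) (IsLocalRing.maximalIdeal.isMaximal _).ne_top
    | succ n ih =>
      intro f hf hn a₀ h
      by_cases h0 : f.natDegree = 0
      · exact ih f hf (by omega) a₀ h
      obtain ⟨c, hc⟩ := hroot f hf h0
      have hdiv : (X - C c) * (f /ₘ (X - C c)) = f := mul_divByMonic_eq_iff_isRoot.2 hc
      rw [← hdiv, eval_mul, eval_sub, eval_X, eval_C] at h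
      rcases Ideal.IsPrime.mem_or_mem inferInstance h with h' | h'
      · exact ⟨c, hc, neg_sub a₀ c ▸ neg_mem h'⟩
      · have hm : (f /ₘ (X - C c)).Monic := (monic_X_sub_C c).of_mul_monic_left (hdiv.symm ▸ hf)
        obtain ⟨a, ha, ha'⟩ := ih _ hm
          (by rw [natDegree_divByMonic _ (monic_X_sub_C c), natDegree_X_sub_C]; omega) a₀ h'
        exact ⟨a, by rw [← hdiv, IsRoot.def, eval_mul, ha.eq_zero, mul_zero], ha'⟩
  haveI : HenselianLocalRing (Localization.AtPrime p) :=
    { is_henselian := fun f hf a₀ h _ => hfac _ f hf le_rfl a₀ h }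
  refine ⟨inferInstance, ?_⟩
  refine IsSepClosed.of_exists_root _ fun q hq hi _ => ?_
  obtain ⟨g, hg, hgd, hgm⟩ := lifts_and_natDegree_eq_and_monic
    (show q ∈ lifts (IsLocalRing.residue (Localization.AtPrime p)) from
      (lifts_iff_coeff_lifts _).mpr fun i => Ideal.Quotient.mk_surjective _) hq
  obtain ⟨c, hc⟩ := hroot g hgm (hgd ▸ hi.natDegree_pos.ne')
  exact ⟨IsLocalRing.residue _ c, by rw [← hg, eval_map, eval₂_at_apply, hc, map_zero]⟩

end Groth.Agent.S1992
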