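import Groth.Statements.S6005
import Groth.Agent.Pi1Tors.Zariski
import Groth.Agent.Reductive.Points
import Mathlib.RingTheory.TensorProduct.IncludeLeftSubRight

set_option autoImplicit false
set_option backward.isDefEq.respectTransparency false
set_option backward.defeqAttrib.useBackward true
set_option linter.style.haveILetI false
universe u
open CategoryTheory AlgebraicGeometry
open SGA1

open scoped TensorProduct

namespace Groth.Agent.S6005

theorem isUnit_of_map_unit' {S : Scheme.{u}} {A R : Type u} [CommRing A] [CommRing R] [Algebra A R]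
    (j : Spec (CommRingCat.of A) ⟶ S) (r : R)
    (h : IsUnit (Pi1Tors.val j (𝟙 (Pi1Tors.specObj j R)) r)) : IsUnit r := by
  obtain ⟨b, hb⟩ := isUnit_iff_exists_inv.1 h
  obtain ⟨b, rfl⟩ := (Pi1Tors.val_id_bijective j).2 b
  exact isUnit_iff_exists_inv.2 ⟨b, (Pi1Tors.val_id_bijective j).1 (by rw [map_mul, hb, map_one])⟩

variable {A B : Type u} [CommRing A] [CommRing B] [Algebra A B] [Module.FaithfullyFlat A B]

/-- Hilbert 90: solutions of `u (m ⊗ 1) = 1 ⊗ m` generate the unit ideal. -/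
theorem exists_solutions (u : B ⊗[A] B) (hu : IsUnit u)
    (hc : Pi1Tors.p13 u = Pi1Tors.p23 u * Pi1Tors.p12 u) :
    Ideal.span {m : B | u * (m ⊗ₜ 1) = 1 ⊗ₜ m} = ⊤ := by
  let φ : B →ₗ[A] B ⊗[A] B :=
    LinearMap.mulLeft A u ∘ₗ (Algebra.TensorProduct.includeLeft : B →ₐ[A] B ⊗[A] B).toLinearMap -
      (Algebra.TensorProduct.includeRight : B →ₐ[A] B ⊗[A] B).toLinearMap
  have hφ : ∀ z, φ.lTensor B z = Pi1Tors.p23 u * Pi1Tors.p12 z - Pi1Tors.p13 z := by
    intro z
    induction z using TensorProduct.induction_on with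
    | zero => simp
    | tmul x y =>
      rw [LinearMap.lTensor_tmul, Pi1Tors.p12_tmul, Pi1Tors.p13_tmul]
      simp [φ, Pi1Tors.p23, TensorProduct.tmul_sub]
    | add z w hz hw => rw [map_add, hz, hw, map_add, map_add, mul_add]; abel
  have hu0 : φ.lTensor B u = 0 := by rw [hφ, ← hc, sub_self]
  obtain ⟨z, hz⟩ := (Module.Flat.lTensor_exact B (LinearMap.exact_subtype_ker_map φ) u).1 hu0
  let μ : B ⊗[A] B →ₐ[A] B := Algebra.TensorProduct.lmul' A
  have hμ : μ u = 1 := by
    have h := congrArg (μ.comp (Algebra.TensorProduct.map (AlgHom.id A B) μ)) hc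
    have e13 : ∀ v, (μ.comp (Algebra.TensorProduct.map (AlgHom.id A B) μ)) (Pi1Tors.p13 v) = μ v := fun v => by
      induction v using TensorProduct.induction_on with
      | zero => simp
      | tmul x y => simp [Pi1Tors.p13_tmul, μ]
      | add v w hv hw => simp only [map_add]; rw [hv, hw]
    have e12 : ∀ v, (μ.comp (Algebra.TensorProduct.map (AlgHom.id A B) μ)) (Pi1Tors.p12 v) = μ v := fun v => by
      induction v using TensorProduct.induction_on with
      | zero => simp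
      | tmul x y => simp [Pi1Tors.p12_tmul, μ]
      | add v w hv hw => simp only [map_add]; rw [hv, hw]
    have e23 : ∀ v, (μ.comp (Algebra.TensorProduct.map (AlgHom.id A B) μ)) (Pi1Tors.p23 v) = μ v := fun v => by
      induction v using TensorProduct.induction_on with
      | zero => simp
      | tmul x y => simp [Pi1Tors.p23, μ]
      | add v w hv hw => simp only [map_add]; rw [hv, hw]
    rw [map_mul, e13, e12, e23] at h
    exact ((hu.map μ).mul_eq_left).1 h.symm
  have key : ∀ z : B ⊗[A] LinearMap.ker φ, μ (φ.ker.subtype.lTensor B z) ∈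
      Ideal.span {m : B | u * (m ⊗ₜ 1) = 1 ⊗ₜ m} := by
    intro z
    induction z using TensorProduct.induction_on with
    | zero => simp
    | tmul x y =>
      rw [LinearMap.lTensor_tmul]
      simp only [μ, Algebra.TensorProduct.lmul'_apply_tmul]
      refine Ideal.mul_mem_left _ _ (Ideal.subset_span ?_)
      exact sub_eq_zero.1 (LinearMap.mem_ker.1 y.2)
    | add z w hz hw => simp only [map_add]; exact Ideal.add_mem _ hz hw
  have h1 := key z
  rw [hz, hμ] at h1
  exact (Ideal.eq_top_iff_one _).2 h1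

theorem exists_unit_solution (u : B ⊗[A] B) (hu : IsUnit u)
    (hc : Pi1Tors.p13 u = Pi1Tors.p23 u * Pi1Tors.p12 u) (x : PrimeSpectrum A) :
    ∃ f : A, f ∉ x.asIdeal ∧ ∃ m n : B, u * (m ⊗ₜ 1) = 1 ⊗ₜ m ∧ n * m = algebraMap A B f := by
  obtain ⟨v, hv⟩ := hu.exists_right_inv
  have hvc : Pi1Tors.p13 v = Pi1Tors.p23 v * Pi1Tors.p12 v := by
    have h1 : ∀ ψ : B ⊗[A] B →ₐ[A] B ⊗[A] (B ⊗[A] B), ψ u * ψ v = 1 := fun ψ => by rw [← map_mul, hv, map_one]
    linear_combination (Pi1Tors.p23 v * Pi1Tors.p12 v) * h1 Pi1Tors.p13 -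
      Pi1Tors.p13 v * (Pi1Tors.p23 v * Pi1Tors.p12 v) * hc -
      Pi1Tors.p13 v * Pi1Tors.p23 v * Pi1Tors.p23 u * h1 Pi1Tors.p12 - Pi1Tors.p13 v * h1 Pi1Tors.p23
  have hM := exists_solutions u hu hc
  have hN := exists_solutions v (IsUnit.of_mul_eq_one _ (by rw [mul_comm, hv])) hvc
  by_contra hcon
  push Not at hcon
  let I : Ideal A := Ideal.span {f | ∃ m n : B, u * (m ⊗ₜ 1) = 1 ⊗ₜ m ∧ n * m = algebraMap A B f}
  have hI : I ≤ x.asIdeal := Ideal.span_le.2 fun f ⟨m, n, h1, h2⟩ => by_contra fun hf => hcon f hf m n h1 h2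
  refine x.isPrime.ne_top (top_le_iff.1 (le_trans ?_ hI))
  rw [← Ideal.comap_map_eq_self_of_faithfullyFlat (B := B) I, top_le_iff, Ideal.comap_eq_top_iff,
    ← top_le_iff, ← Ideal.top_mul (⊤ : Ideal B)]
  conv_lhs => arg 1; rw [← hN]
  conv_lhs => arg 2; rw [← hM]
  rw [Ideal.span_mul_span', Ideal.span_le]
  rintro _ ⟨n, hn : v * _ = _, m, hm : u * _ = _, rfl⟩
  have h0 : Algebra.TensorProduct.includeLeftSubRight A B (n * m) = 0 := by
    rw [Algebra.TensorProduct.includeLeftSubRight_apply, sub_eq_zero]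
    have e1 : (n * m) ⊗ₜ[A] (1 : B) = (n ⊗ₜ 1) * (m ⊗ₜ 1) := by simp
    have e2 : (1 : B) ⊗ₜ[A] (n * m) = (1 ⊗ₜ n) * (1 ⊗ₜ m) := by simp
    rw [e1, e2, ← hn, ← hm]
    linear_combination -((n ⊗ₜ[A] (1 : B)) * (m ⊗ₜ 1)) * hv
  obtain ⟨f, hf⟩ := (Algebra.IsEffective.of_faithfullyFlat A B (n * m)).1 h0
  change n * m ∈ Ideal.map (algebraMap A B) I
  rw [show n * m = algebraMap A B f from hf.symm]
  exact Ideal.mem_map_of_mem _ (Ideal.subset_span ⟨m, n, hm, hf.symm⟩)

/-- Every principal homogeneous bundle under the multiplicative group over S (a pseudo-torsor which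
acquires sections on the members of some fpqc covering family of S) is locally trivial, i.e. is a
torsor for the Zariski topology: S is covered by open subschemes over which it acquires sections.
(The published statement covers every S-group isomorphic to the general linear group of any rank;
this row is the rank-one case.) -/
theorem result {S : Scheme.{u}} (X : Over S)
    (a : AlgGrp.Action (Red.Gm S) X) (h : NonAbH1.IsTorsorFor Scheme.fpqcPrecoverage a) :
    NonAbH1.IsTorsorFor Scheme.zariskiPrecoverage a := by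
  obtain ⟨hps, hloc⟩ := h
  refine ⟨hps, Pi1Tors.isLocallyTrivial_zariski hloc fun A B _ _ _ _ j s x => ?_⟩
  obtain ⟨g, hg, hcoc⟩ := Pi1Tors.exists_cocycle j a hps s
  obtain ⟨u, hu⟩ := (Pi1Tors.val_id_bijective j (R := B ⊗[A] B)).2 (Red.gmFn g)
  have hgu : ∀ (T : Over S) (w : T ⟶ Pi1Tors.specObj j (B ⊗[A] B)), Red.gmFn (w ≫ g) = Pi1Tors.val j w u :=
    fun T w => by
      rw [Reductive.gmFn_comp, ← hu, ← Pi1Tors.val_comp, Category.comp_id]
  have huu : IsUnit u :=
    isUnit_of_map_unit' j u (hu ▸ Reductive.isUnit_gmFn g)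
  have hc : Pi1Tors.p13 u = Pi1Tors.p23 u * Pi1Tors.p12 u := by
    refine (Pi1Tors.val_id_bijective j).1 ?_
    have hq : ∀ ψ : B ⊗[A] B →ₐ[A] B ⊗[A] (B ⊗[A] B),
        Red.gmFn (Pi1Tors.specPt j ψ ≫ g) = Pi1Tors.val j (𝟙 _) (ψ u) := fun ψ => by
      rw [hgu, ← Pi1Tors.val_specPt, Category.id_comp]
    rw [map_mul, ← hq, ← hq, ← hq, ← Reductive.gmFn_mul, hcoc]
  obtain ⟨f, hfx, m, n, hm, hn⟩ := exists_unit_solution u huu hc x
  let V : (Spec (CommRingCat.of A)).Opens := PrimeSpectrum.basicOpen f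
  refine ⟨V, hfx, ?_⟩
  have hmu : IsUnit (Pi1Tors.val j (Pi1Tors.preIncl j B V) m) := by
    have := Pi1Tors.isUnit_val_preIncl j (B := B) (f := f) (V := V) le_rfl
    rw [← hn, map_mul] at this
    exact isUnit_of_mul_isUnit_right this
  refine Pi1Tors.exists_section j a s g hg V (Reductive.gmMk _ hmu.unit⁻¹) fun T p q w hp hq => ?_
  refine Reductive.gmFn_injective ?_
  rw [Reductive.gmFn_mul, hgu, Reductive.gmFn_comp, Reductive.gmFn_comp, Reductive.gmFn_gmMk]
  have e := congrArg (Pi1Tors.val j w) hm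
  rw [map_mul] at e
  have e1 : Pi1Tors.val j w (m ⊗ₜ[A] (1 : B)) = p.left.appTop (Pi1Tors.val j (Pi1Tors.preIncl j B V) m) := by
    rw [← Pi1Tors.val_comp, ← hp, Pi1Tors.val_specPt]; rfl
  have e2 : Pi1Tors.val j w ((1 : B) ⊗ₜ[A] m) = q.left.appTop (Pi1Tors.val j (Pi1Tors.preIncl j B V) m) := by
    rw [← Pi1Tors.val_comp, ← hq, Pi1Tors.val_specPt]; rfl
  rw [e1, e2] at e
  have i1 : p.left.appTop ((hmu.unit⁻¹ : _ˣ) : _) * p.left.appTop (Pi1Tors.val j (Pi1Tors.preIncl j B V) m) = 1 := by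
    rw [← map_mul, IsUnit.val_inv_mul, map_one]
  have i2 : q.left.appTop ((hmu.unit⁻¹ : _ˣ) : _) * q.left.appTop (Pi1Tors.val j (Pi1Tors.preIncl j B V) m) = 1 := by
    rw [← map_mul, IsUnit.val_inv_mul, map_one]
  linear_combination (p.left.appTop ((hmu.unit⁻¹ : _ˣ) : _) * q.left.appTop ((hmu.unit⁻¹ : _ˣ) : _)) * e
    - (Pi1Tors.val j w u * q.left.appTop ((hmu.unit⁻¹ : _ˣ) : _)) * i1 + p.left.appTop ((hmu.unit⁻¹ : _ˣ) : _) * i2

end Groth.Agent.S6005
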