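import Groth.Statements.S18415
import Groth.Agent.EtaleBase.Roots
-- import your own Groth.Agent.* helpers here

set_option autoImplicit false
universe u
open CategoryTheory AlgebraicGeometry
open EtCoh

namespace Groth.Agent.S18415

/-- Let p be a prime and X a scheme with p = 0 in Γ(X, O_X). Then the Artin–Schreier endomorphism x ↦
x^p − x of the additive group sheaf G_a on the small étale site of X is an epimorphism of abelian
étale sheaves (the right-hand exactness of 0 → Z/p → G_a → G_a → 0 on X_et). (The published example
takes X a variety over a field of characteristic p; this row assumes only that p = 0 in Γ(X, O_X).) -/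
theorem result
    (p : ℕ) (hp : p.Prime) {X : Scheme.{u}} (h0 : (p : Γ(X, ⊤)) = 0) :
    Epi (W4c5etcohweilstudent.artinSchreierEndo X p hp h0) := by
  have hloc : Sheaf.IsLocallySurjective (W4c5etcohweilstudent.artinSchreierEndo X p hp h0) := by
    constructor
    intro U σ
    rw [Groth.EtaleBase.mem_topology_iff]
    intro x
    have hp' : (p : Γ(U.left, ⊤)) = 0 := W4c5etcohweilstudent.natCast_eq_zero_etale p h0 U
    have hU : Nontrivial Γ(U.left, ⊤) :=
      (U.left.presheaf.germ ⊤ x trivial).hom.domain_nontrivial
    let a : Γ(U.left, ⊤) := σ.down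
    have hdeg : (Polynomial.X + Polynomial.C a : Polynomial Γ(U.left, ⊤)).natDegree < p := by
      rw [Polynomial.natDegree_X_add_C]; exact hp.one_lt
    have hmon : (Polynomial.X ^ p - (Polynomial.X + Polynomial.C a)).Monic :=
      Polynomial.monic_X_pow_sub (lt_of_le_of_lt Polynomial.degree_le_natDegree
        (by exact_mod_cast hdeg))
    obtain ⟨V, g, v, hv, r, hr⟩ := Groth.EtaleBase.exists_etale_root U x
      (Polynomial.X ^ p - (Polynomial.X + Polynomial.C a)) hmon
      (by
        have h := Polynomial.natDegree_sub_eq_left_of_natDegree_lt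
          (p := (Polynomial.X : Polynomial Γ(U.left, ⊤)) ^ p) (q := Polynomial.X + Polynomial.C a)
          (by simpa using hdeg)
        rw [h, Polynomial.natDegree_X_pow]
        exact hp.ne_zero)
      ⟨-1, 0, by
        simp [Polynomial.derivative_X_pow, hp']⟩
    refine ⟨V, g, v, ⟨ULift.up r, ?_⟩, hv⟩
    refine congrArg ULift.up (?_ : r ^ p - r = g.left.appTop.hom a)
    simp only [Polynomial.eval₂_sub, Polynomial.eval₂_pow, Polynomial.eval₂_add,
      Polynomial.eval₂_X, Polynomial.eval₂_C] at hr
    linear_combination hr
  infer_instance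

end Groth.Agent.S18415
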