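import Groth.Statements.S0646
import Groth.Agent.EtaleBase.Limit.FromStage

set_option autoImplicit false
open CategoryTheory CategoryTheory.Limits AlgebraicGeometry Opposite
universe u
open EtCore

namespace Groth.Agent.S0646

/-- For systems of sheaves pulled back from one stage: let ι be a directed preordered set, (X_i) an
inverse system of quasi-compact quasi-separated schemes indexed by ι with affine transition
morphisms, X a limit with projections f_i, i₀ an index and F₀ an abelian sheaf on the small etale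
site of X_{i₀}. Then H^p(X, f_{i₀}^{-1} F₀) is the colimit of the groups H^p(X_j, F₀|_{X_j}) over j
≥ i₀, in the concrete sense: every class on X is pulled back from some X_j, and a class on X_j that
pulls back to zero on X already pulls back to zero on some X_k, k ≥ j. (The source allows general
systems of sheaves (F_i, φ_{i'i}); only systems pulled back from a single stage are stated.)
(Exactness of pullback of abelian sheaves, which always holds, is carried as an instance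
hypothesis.) -/
theorem result {ι : Type u} [Preorder ι] [IsDirected ι (· ≤ ·)] (Xs : ιᵒᵖ ⥤ Scheme.{u})
    (haff : ∀ ⦃a b : ιᵒᵖ⦄ (h : a ⟶ b), IsAffineHom (Xs.map h))
    (hqc : ∀ a, CompactSpace ↥(Xs.obj a)) (hqs : ∀ a, QuasiSeparatedSpace ↥(Xs.obj a))
    (c : Cone Xs) (hc : IsLimit c) (i₀ : ι) (F₀ : EtCoh.Ab (Xs.obj (op i₀))) (p : ℕ)
    [∀ a, PreservesFiniteLimits (EtCoh.pull (c.π.app a))]
    [∀ ⦃a b : ιᵒᵖ⦄ (h : a ⟶ b), PreservesFiniteLimits (EtCoh.pull (Xs.map h))] :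
    (∀ ξ : EtCoh.H c.pt ((EtCoh.pull (c.π.app (op i₀))).obj F₀) p,
      ∃ (j : ι) (hj : i₀ ≤ j) (ξj : EtCoh.H (Xs.obj (op j)) ((EtCoh.pull (Xs.map (homOfLE hj).op)).obj F₀) p),
        EtCore.HpullVia (c.π.app (op j)) (Xs.map (homOfLE hj).op) (c.π.app (op i₀)) (c.w (homOfLE hj).op) F₀ p ξj = ξ) ∧
    (∀ (j : ι) (hj : i₀ ≤ j) (ξj : EtCoh.H (Xs.obj (op j)) ((EtCoh.pull (Xs.map (homOfLE hj).op)).obj F₀) p),
      EtCore.HpullVia (c.π.app (op j)) (Xs.map (homOfLE hj).op) (c.π.app (op i₀)) (c.w (homOfLE hj).op) F₀ p ξj = 0 →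
        ∃ (k : ι) (hk : j ≤ k), EtCore.Hpull (Xs.map (homOfLE hk).op) _ p ξj = 0) := by
  open Groth.EtaleBase.EtLimit CategoryTheory.Abelian in
  haveI : IsDirectedOrder ι := ⟨fun a b => directed_of (· ≤ ·) a b⟩
  haveI : Nonempty ι := ⟨i₀⟩
  haveI : ∀ (p q : ιᵒᵖ) (h : p ⟶ q), IsAffineHom (Xs.map h) := fun _ _ h => haff h
  haveI := hqc
  haveI := hqs
  have hcol := colimit_cohomology hc p (fromStage i₀ F₀)
  refine ⟨fun ξ => ?_, fun j hj ξj hξ => ?_⟩
  · obtain ⟨j, x, hx⟩ := hcol.1 (ξ.comp (Ext.mk₀ (fromStageLim i₀ F₀ c)) (add_zero p))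
    obtain ⟨k, hk₀, hk⟩ := exists_ge_ge i₀ j
    let y : EtCoh.H (Xs.obj (op k)) ((EtCoh.pull (trn Xs hk₀)).obj F₀) p :=
      (R hk (fromStage i₀ F₀) p x).comp (Ext.mk₀ (inv (fromStageHom i₀ F₀ hk₀))) (add_zero p)
    refine ⟨k, hk₀, y, ?_⟩
    have hy : y.comp (Ext.mk₀ (fromStageHom i₀ F₀ hk₀)) (add_zero p) = R hk _ p x := by
      rw [Ext.comp_assoc_of_third_deg_zero, Ext.mk₀_comp_mk₀, IsIso.inv_hom_id]
      exact Ext.comp_mk₀_id _
    have h1 := (hpullVia_T c i₀ F₀ hk₀ p y).symm.trans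
      (((congrArg (T c k _ p) hy).trans (T_R c p _ hk x)).trans hx)
    have h2 := congrArg (fun z => Ext.comp z (Ext.mk₀ (inv (fromStageLim i₀ F₀ c))) (add_zero p)) h1
    simp only [Ext.comp_assoc_of_third_deg_zero, Ext.mk₀_comp_mk₀, IsIso.hom_inv_id] at h2
    exact (Ext.comp_mk₀_id _).symm.trans (h2.trans (Ext.comp_mk₀_id _))
  · have h0 : T c j (fromStage i₀ F₀) p (ξj.comp (Ext.mk₀ (fromStageHom i₀ F₀ hj)) (add_zero p)) = 0 :=
      (hpullVia_T c i₀ F₀ hj p ξj).trans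
        ((congrArg (fun z => Ext.comp z (Ext.mk₀ (fromStageLim i₀ F₀ c)) (add_zero p)) hξ).trans
          (Ext.zero_comp _ _ _ _ _))
    obtain ⟨k, hk, hR⟩ := hcol.2 j _ h0
    exact ⟨k, hk, hpull_R i₀ F₀ hj hk p ξj hR⟩

end Groth.Agent.S0646
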