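import Groth.Statements.S9702
import Mathlib
import Groth.Agent.PropsBasic.GenericFinite
-- import your own Groth.Agent.* helpers here

set_option autoImplicit false
universe u
open CategoryTheory CategoryTheory.Limits AlgebraicGeometry
open Mor

namespace Groth.Agent.S9702
set_option backward.isDefEq.respectTransparency false

theorem _root_.AlgebraicGeometry.IsAffineOpen.preimage_of_isFinite {X Y : Scheme.{u}} {W : Y.Opens}
    (hW : IsAffineOpen W) (g : X ⟶ Y) (W' : Y.Opens) (h : IsFinite (g ∣_ W)) :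
    IsAffineOpen (g ⁻¹ᵁ W) := by
  haveI := h
  haveI : IsAffine W := hW
  exact isAffine_of_isAffineHom (g ∣_ W)

theorem residue_iff {X Y : Scheme.{u}} (f : X ⟶ Y) (x : X) (hY : IsField (Y.presheaf.stalk (f x)))
    (hX : IsField (X.presheaf.stalk x)) :
    (letI := (f.residueFieldMap x).hom.toAlgebra; Module.Finite (Y.residueField (f x)) (X.residueField x)) ↔ f.QuasiFiniteAt x := by
  have hbX : Function.Bijective (X.residue x).hom := by
    letI := hX.toField
    exact ⟨(X.residue x).hom.injective, IsLocalRing.residue_surjective⟩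
  have hbY : Function.Bijective (Y.residue (f x)).hom := by
    letI := hY.toField
    exact ⟨(Y.residue (f x)).hom.injective, IsLocalRing.residue_surjective⟩
  have hr : (f.residueFieldMap x).hom.comp (Y.residue (f x)).hom =
      (X.residue x).hom.comp (f.stalkMap x).hom := congrArg CommRingCat.Hom.hom (Scheme.residue_residueFieldMap f x)
  let eX := RingEquiv.ofBijective _ hbX
  let eY := RingEquiv.ofBijective _ hbY
  constructor
  · intro h
    refine RingHom.QuasiFinite.of_finite ?_
    have he : (f.stalkMap x).hom = ((eX.symm : _ →+* _).comp (f.residueFieldMap x).hom).comp (eY : _ →+* _) := by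
      ext a
      simp only [RingHom.comp_apply, RingHom.coe_coe]
      exact (eX.symm_apply_apply _).symm.trans (congrArg eX.symm (DFunLike.congr_fun hr a).symm)
    rw [he]
    exact ((eX.symm.finite).comp h).comp eY.finite
  · intro h
    have he : (f.residueFieldMap x).hom = ((eX : _ →+* _).comp (f.stalkMap x).hom).comp (eY.symm : _ →+* _) := by
      ext a
      obtain ⟨b, rfl⟩ := eY.surjective a
      simp only [RingHom.comp_apply, RingHom.coe_coe, eY.symm_apply_apply]
      exact DFunLike.congr_fun hr b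
    have hq : (f.residueFieldMap x).hom.QuasiFinite := by
      rw [he]
      exact (RingHom.QuasiFinite.comp (RingHom.QuasiFinite.of_finite eX.finite) h).comp
        (RingHom.QuasiFinite.of_finite eY.symm.finite)
    letI := (f.residueFieldMap x).hom.toAlgebra
    haveI : Algebra.QuasiFinite (Y.residueField (f x)) (X.residueField x) := hq
    exact Module.Finite.of_quasiFinite





/-- Let X, Y be integral and f : X ⟶ Y dominant and locally of finite type, with ξ the generic point of
X (so f ξ is the generic point of Y). Then the following are equivalent: the residue field of ξ is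
finite over that of f ξ; some nonempty affine opens U ⊆ X and V ⊆ Y with f(U) ⊆ V have U ⟶ V finite;
every point of X that f sends to the generic point of Y equals ξ. Under the extra assumption that f
is quasi-compact or separated, these are also equivalent to: f⁻¹(V) ⟶ V is finite for some nonempty
affine open V ⊆ Y. (The published statement also lists transcendence degree 0 of the function field
extension, which for this finitely generated extension is equivalent to finiteness; this row omits
it.) -/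
theorem result {X Y : Scheme.{u}} [IsIntegral X] [IsIntegral Y] (f : X ⟶ Y)
    [IsDominant f] [LocallyOfFiniteType f] :
    let ξ := genericPoint ↥X
    let A := letI := (f.residueFieldMap ξ).hom.toAlgebra
      Module.Finite (Y.residueField (f.base ξ)) (X.residueField ξ)
    let B := ∃ (U : X.Opens) (V : Y.Opens) (hUV : U ≤ f ⁻¹ᵁ V), IsAffineOpen U ∧ IsAffineOpen V ∧
      Nonempty ↥U ∧ IsFinite (f.resLE V U hUV)
    let C := ∀ x : X, f.base x = genericPoint ↥Y → x = ξ
    let D := ∃ V : Y.Opens, IsAffineOpen V ∧ Nonempty ↥V ∧ IsFinite (f ∣_ V)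
    (A ↔ B) ∧ (A ↔ C) ∧ (IsSeparated f ∨ QuasiCompact f → (A ↔ D)) := by
  intro ξ A B C D
  have hfξ : f ξ = genericPoint ↥Y := by
    refine ((genericPoint_spec ↥Y).eq ?_).symm
    have h := (genericPoint_spec ↥X).image f.continuous
    rwa [Set.image_univ, f.denseRange.closure_range] at h
  have hFX : IsField (X.presheaf.stalk ξ) := (inferInstance : Field X.functionField).toIsField
  have hFY : IsField (Y.presheaf.stalk (f ξ)) := by
    rw [hfξ]; exact (inferInstance : Field Y.functionField).toIsField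
  have hAQ : A ↔ f.QuasiFiniteAt ξ := (residue_iff f ξ hFY hFX)
  have hQC : f.QuasiFiniteAt ξ ↔ C := by
    constructor
    · intro h x hx
      have hcl := h.isClopen_singleton_asFiber.1
      have hs : ξ ⤳ x := (genericPoint_spec ↥X).specializes trivial
      let x' : f.fiber (f ξ) := (f.fiberHomeo (f ξ)).symm ⟨x, hx.trans hfξ.symm⟩
      have hs' : f.asFiber ξ ⤳ x' :=
        (Topology.IsInducing.specializes_iff Topology.IsInducing.subtypeVal).mp
          (show (⟨ξ, rfl⟩ : f ⁻¹' {f ξ}).1 ⤳ (⟨x, hx.trans hfξ.symm⟩ : f ⁻¹' {f ξ}).1 from hs)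
          |>.map (f.fiberHomeo (f ξ)).symm.continuous
      have h1 : x' = f.asFiber ξ := hs'.mem_closed hcl rfl
      exact congrArg Subtype.val ((f.fiberHomeo (f ξ)).symm.injective h1)
    · intro h
      rw [Scheme.Hom.quasiFiniteAt_iff_isOpen_singleton_asFiber]
      have : ({f.asFiber ξ} : Set (f.fiber (f ξ))) = Set.univ := by
        refine Set.eq_univ_of_forall fun z => ?_
        obtain ⟨⟨x, hx⟩, rfl⟩ := (f.fiberHomeo (f ξ)).symm.surjective z
        obtain rfl : x = ξ := h x ((show f x = f ξ from hx).trans hfξ)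
        rfl
      rw [this]
      exact isOpen_univ
  have hcomp : closure {genericPoint ↥Y} ∈ irreducibleComponents ↥Y := by
    rw [(genericPoint_spec ↥Y).def]
    rw [irreducibleComponents_eq_singleton]
    rfl
  have hfib : C → f ⁻¹' {genericPoint ↥Y} = {ξ} := fun h =>
    Set.Subset.antisymm (fun x hx => h x hx) (Set.singleton_subset_iff.mpr hfξ)
  have hCB : C → ∃ (U : X.Opens) (V : Y.Opens) (hUV : U ≤ f ⁻¹ᵁ V), IsAffineOpen U ∧
      IsAffineOpen V ∧ genericPoint ↥Y ∈ V ∧ ξ ∈ U ∧ IsFinite (f.resLE V U hUV) := by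
    intro h
    obtain ⟨_, ⟨V₀ : Y.Opens, hV₀, rfl⟩, hη₀, -⟩ := Y.isBasis_affineOpens.exists_subset_of_mem_open
      (Set.mem_univ (genericPoint ↥Y)) isOpen_univ
    obtain ⟨U, V', hxU, hU, -, -, -, hηV', hfin⟩ := Groth.PropsBasic.GenericFinite.exists_chart f
      hcomp (by rw [hfib h]; exact Set.finite_singleton ξ) hV₀ hη₀ hfξ
    obtain ⟨_, ⟨W : Y.Opens, hW, rfl⟩, hηW, hWV⟩ := Y.isBasis_affineOpens.exists_subset_of_mem_open
      (show genericPoint ↥Y ∈ (V' : Set Y) from hηV') V'.2
    have hfW := Groth.PropsBasic.GenericFinite.isFinite_restrict_of_le (U.ι ≫ f) hWV hfin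
    refine ⟨U.ι ''ᵁ ((U.ι ≫ f) ⁻¹ᵁ W), W, ?_, ?_, hW, hηW, ⟨⟨ξ, hxU⟩, ?_, rfl⟩, ?_⟩
    · rintro _ ⟨z, hz, rfl⟩; exact hz
    · exact (hW.preimage_of_isFinite (U.ι ≫ f) W hfW).image_of_isOpenImmersion U.ι
    · show f ξ ∈ W
      rw [hfξ]; exact hηW
    · have e : ((U.ι ≫ f) ∣_ W) = (U.ι.isoImage ((U.ι ≫ f) ⁻¹ᵁ W)).hom ≫
          f.resLE W (U.ι ''ᵁ ((U.ι ≫ f) ⁻¹ᵁ W)) (by rintro _ ⟨z, hz, rfl⟩; exact hz) := by
        rw [← cancel_mono W.ι]
        simp [Scheme.Hom.isoImage_hom_ι_assoc]
      rw [e] at hfW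
      exact (MorphismProperty.cancel_left_of_respectsIso @IsFinite _ _).mp hfW
  have hBQ : B → f.QuasiFiniteAt ξ := by
    rintro ⟨U, V, hUV, -, -, hU, hfin⟩
    have hξU : ξ ∈ U := ((genericPoint_spec ↥X).mem_open_set_iff U.isOpen).mpr (hU.elim fun u => ⟨u.1, trivial, u.2⟩)
    haveI := hfin
    have h : (U.ι ≫ f).QuasiFiniteAt (⟨ξ, hξU⟩ : U) := by
      haveI : LocallyQuasiFinite (U.ι ≫ f) := by
        rw [← Scheme.Hom.resLE_comp_ι f hUV]; infer_instance
      exact (U.ι ≫ f).quasiFiniteAt _
    exact Scheme.Hom.quasiFiniteAt_comp_iff_of_isOpenImmersion.mp h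
  refine ⟨⟨fun a => ?_, fun b => hAQ.mpr (hBQ b)⟩, hAQ.trans hQC, fun hs => ⟨fun a => ?_, ?_⟩⟩
  · obtain ⟨U, V, hUV, hU, hV, -, hξ, hfin⟩ := hCB (hQC.mp (hAQ.mp a))
    exact ⟨U, V, hUV, hU, hV, ⟨⟨ξ, hξ⟩⟩, hfin⟩
  · have hc : C := hQC.mp (hAQ.mp a)
    rcases hs with hs | hs
    · obtain ⟨U, V, hUV, hU, hV, hη, hξ, hfin⟩ := hCB hc
      refine ⟨V, hV, ⟨⟨_, hη⟩⟩, ?_⟩
      haveI := hfin
      let j := X.homOfLE hUV
      haveI : IsFinite j := by
        haveI : IsFinite (j ≫ f ∣_ V) := by
          rw [show j ≫ f ∣_ V = f.resLE V U hUV by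
            rw [← cancel_mono V.ι]; simp [j]]
          exact hfin
        haveI := hs
        exact IsFinite.of_comp j (f ∣_ V)
      haveI : Nonempty ↥(f ⁻¹ᵁ V) := ⟨⟨ξ, show f ξ ∈ V by rw [hfξ]; exact hη⟩⟩
      haveI : Nonempty U := ⟨⟨ξ, hξ⟩⟩
      haveI : Nonempty (f ⁻¹ᵁ V).toScheme := ⟨⟨ξ, show f ξ ∈ V by rw [hfξ]; exact hη⟩⟩
      haveI : IsIntegral (f ⁻¹ᵁ V).toScheme := isIntegral_of_isOpenImmersion (f ⁻¹ᵁ V).ι
      haveI : Surjective j := ⟨fun z => by
        have hcl : IsClosed (Set.range j) := j.isClosedMap.isClosed_range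
        have hop : IsOpen (Set.range j) := j.isOpenEmbedding.isOpen_range
        have hd : Dense (Set.range j) := hop.dense (Set.range_nonempty j)
        show z ∈ Set.range j
        rw [← hcl.closure_eq, hd.closure_eq]
        trivial⟩
      haveI : IsIso j := isIso_iff_isOpenImmersion_and_epi_base j |>.mpr
        ⟨inferInstance, (TopCat.epi_iff_surjective _).mpr j.surjective⟩
      have hfin' := hfin
      rw [show f.resLE V U hUV = j ≫ f ∣_ V by rw [← cancel_mono V.ι]; simp [j]] at hfin'
      exact (MorphismProperty.cancel_left_of_respectsIso @IsFinite j _).mp hfin'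
    · haveI := hs
      obtain ⟨V, hV, hη, hfin⟩ := Groth.PropsBasic.GenericFinite.exists_affine_nhd_isFinite_of_gen f
        hcomp (by rw [irreducibleComponents_eq_singleton]; exact Set.finite_singleton _)
        (by rw [irreducibleComponents_eq_singleton]; exact Set.finite_singleton _) fun x => by
          simp only [irreducibleComponents_eq_singleton, Set.mem_singleton_iff]
          constructor
          · intro h
            have : x = ξ := ((genericPoint_spec ↥X).eq (show IsGenericPoint x Set.univ from h)).symm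
            rw [this, hfξ]; exact (genericPoint_spec ↥Y).def
          · intro h
            have : f x = genericPoint ↥Y := ((genericPoint_spec ↥Y).eq (show IsGenericPoint (f x) Set.univ from h)).symm
            rw [hc x this]; exact (genericPoint_spec ↥X).def
      exact ⟨V, hV, ⟨⟨_, hη⟩⟩, hfin⟩
  · rintro ⟨V, hV, hVne, hfin⟩
    refine hAQ.mpr (hBQ ⟨f ⁻¹ᵁ V, V, le_rfl, ?_, hV, ⟨⟨ξ, ?_⟩⟩, ?_⟩)
    · exact hV.preimage_of_isFinite f V hfin
    · show f ξ ∈ V
      rw [hfξ]
      exact ((genericPoint_spec ↥Y).mem_open_set_iff V.isOpen).mpr (hVne.elim fun u => ⟨u.1, trivial, u.2⟩)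
    · rw [Scheme.Hom.resLE_eq_morphismRestrict]; exact hfin

end Groth.Agent.S9702
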