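import Groth.Statements.S1982
import Groth.Agent.EtaleAlgebra.Abhyankar
-- import your own Groth.Agent.* helpers here

set_option autoImplicit false
universe u
open EtAlg

open Groth.EtaleAlgebra IsLocalRing TensorProduct EtRam Polynomial

namespace Groth.Agent.S1982

set_option linter.style.haveILetI false
set_option maxHeartbeats 1000000

/-- Suppose A -> B makes the discrete valuation ring B an extension of the discrete valuation ring A,
write K ⊂ L for their fraction fields and e for the ramification index; assume the residue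
characteristic of A is zero, or it is p with p not dividing e and the residue field extension of A
-> B separable (in the general sense, i.e. geometrically reduced; it need not be algebraic). Let
K₁/K be a finite extension. Then for every compositum M of L and K₁ and every valuation subring W of
M dominating B such that e divides the ramification index of A -> W ∩ K₁, the extension W ∩ K₁ -> W
is weakly unramified with separable (geometrically reduced) residue field extension. -/
theorem result (A B K L : Type u) [CommRing A] [IsDomain A] [IsDiscreteValuationRing A]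
    [CommRing B] [IsDomain B] [IsDiscreteValuationRing B] [Algebra A B] [IsLocalHom (algebraMap A B)]
    (hinj : Function.Injective (algebraMap A B))
    [Field K] [Field L] [Algebra A K] [IsFractionRing A K] [Algebra B L] [IsFractionRing B L]
    [Algebra K L] [Algebra A L] [IsScalarTower A K L] [IsScalarTower A B L]
    (htame : CharZero (IsLocalRing.ResidueField A) ∨
      ∃ p : ℕ, p.Prime ∧ CharP (IsLocalRing.ResidueField A) p ∧
        ¬ p ∣ Ideal.ramificationIdx' (IsLocalRing.maximalIdeal A) (IsLocalRing.maximalIdeal B) ∧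
        Algebra.IsGeometricallyReduced (IsLocalRing.ResidueField A) (IsLocalRing.ResidueField B))
    (K₁ : Type u) [Field K₁] [Algebra K K₁] [FiniteDimensional K K₁] :
    EtRam.ForallLocalExt B K L K₁ (fun M _ W f =>
      ∀ hA : ∀ a : A, (algebraMap K K₁) (algebraMap A K a) ∈ W.comap f,
        letI : Algebra A (W.comap f) := (RingHom.codRestrict ((algebraMap K K₁).comp (algebraMap A K)) (W.comap f) hA).toAlgebra
        letI : Algebra (W.comap f) W := (EtRam.inclOfComap W f).toAlgebra
        Ideal.ramificationIdx' (IsLocalRing.maximalIdeal A) (IsLocalRing.maximalIdeal B) ∣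
          Ideal.ramificationIdx' (IsLocalRing.maximalIdeal A) (IsLocalRing.maximalIdeal (W.comap f)) →
        EtRam.IsWeaklyUnramified (W.comap f) W ∧
          @Algebra.IsGeometricallyReduced (IsLocalRing.ResidueField (W.comap f)) (IsLocalRing.ResidueField W) _ _
            (IsLocalRing.ResidueField.map (EtRam.inclOfComap W f)).toAlgebra) := by
  classical
  intro M _ _ _ _ _ _ hadj W hW hA hdvd
  let f := algebraMap K₁ M
  let V := W.comap f
  have : FiniteDimensional L M := by
    obtain ⟨G, hG⟩ := (Module.Finite.fg_top : (⊤ : Submodule K K₁).FG)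
    have hle : Algebra.adjoin L (Set.range f) ≤
        Algebra.adjoin L ((G.image f : Finset M) : Set M) := by
      refine Algebra.adjoin_le ?_
      rintro _ ⟨x, rfl⟩
      have hx : x ∈ Submodule.span K (G : Set K₁) := hG ▸ Submodule.mem_top
      induction hx using Submodule.span_induction with
      | mem y hy => exact Algebra.subset_adjoin (Finset.mem_coe.2 (Finset.mem_image_of_mem f hy))
      | zero => rw [map_zero]; exact zero_mem _
      | add y z _ _ hy hz => rw [map_add]; exact add_mem hy hz
      | smul c y _ hy =>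
        rw [Algebra.smul_def, map_mul,
          show f (algebraMap K K₁ c) = algebraMap L M (algebraMap K L c) by
            rw [← IsScalarTower.algebraMap_apply, ← IsScalarTower.algebraMap_apply]]
        exact mul_mem (Subalgebra.algebraMap_mem _ _) hy
    have h1 := fg_adjoin_of_finite (R := L) (G.image f).finite_toSet fun x hx => by
      obtain ⟨y, -, rfl⟩ := Finset.mem_image.1 (Finset.mem_coe.1 hx)
      exact ((Algebra.IsIntegral.isIntegral (R := K) y).map
        (IsScalarTower.toAlgHom K K₁ M)).tower_top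
    rw [show Algebra.adjoin L ((G.image f : Finset M) : Set M) = ⊤ from
        top_le_iff.1 (hadj ▸ hle), Algebra.top_toSubmodule] at h1
    exact ⟨h1⟩
  have : IsDiscreteValuationRing W := isDiscreteValuationRing_of_dominates B L M hW
  have hinjAB : ∀ a, a ∈ maximalIdeal A → algebraMap A B a ∈ maximalIdeal B := fun a ha =>
    (map_mem_nonunits_iff (algebraMap A B) a).2 ha
  have hcomp : ((algebraMap L M).comp (algebraMap B L)).comp (algebraMap A B) =
      f.comp ((algebraMap K K₁).comp (algebraMap A K)) := RingHom.ext fun a => by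
    show algebraMap L M (algebraMap B L (algebraMap A B a)) = f (algebraMap K K₁ (algebraMap A K a))
    rw [← IsScalarTower.algebraMap_apply A B L, IsScalarTower.algebraMap_apply A K L,
      ← IsScalarTower.algebraMap_apply K L M, ← IsScalarTower.algebraMap_apply K K₁ M]
  have hV : Dominates A ((algebraMap K K₁).comp (algebraMap A K)) V := by
    refine dominates_comp_iff.1 ?_
    rw [← hcomp]
    exact ⟨fun a => hW.1 _, fun a ha => hW.2 _ (hinjAB a ha)⟩
  have : IsDiscreteValuationRing V := isDiscreteValuationRing_of_dominates A K K₁ hV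
  let _ : Algebra A V := (RingHom.codRestrict ((algebraMap K K₁).comp (algebraMap A K)) V hA).toAlgebra
  let _ : Algebra B W := (RingHom.codRestrict _ W hW.1).toAlgebra
  let _ : Algebra V W := (inclOfComap W f).toAlgebra
  have : IsLocalHom (algebraMap A V) := isLocalHom_codRestrict hV
  have : IsLocalHom (algebraMap B W) := isLocalHom_codRestrict hW
  have : IsLocalHom (algebraMap V W) := isLocalHom_inclOfComap W f
  have hABVW : ∀ a : A, algebraMap V W (algebraMap A V a) = algebraMap B W (algebraMap A B a) :=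
    fun a => Subtype.ext (DFunLike.congr_fun hcomp a).symm
  have hAV : Function.Injective (algebraMap A V) := fun a b hab =>
    IsFractionRing.injective A K ((algebraMap K K₁).injective (congrArg Subtype.val hab))
  have hVW : Function.Injective (algebraMap V W) := fun a b hab =>
    Subtype.ext (f.injective (congrArg Subtype.val hab))
  -- uniformizers
  obtain ⟨e, he1, hemap, he⟩ := exists_map_maximalIdeal_eq_pow A B hinj
  obtain ⟨E, hE1, hEmap, hE⟩ := exists_map_maximalIdeal_eq_pow A V hAV
  obtain ⟨m, hm⟩ : e ∣ E := by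
    rw [← he, ← hE]
    exact hdvd
  have hm1 : m ≠ 0 := fun h => by rw [h, mul_zero] at hm; omega
  obtain ⟨π, hπ⟩ := IsDiscreteValuationRing.exists_irreducible A
  obtain ⟨t, ht⟩ := IsDiscreteValuationRing.exists_irreducible B
  obtain ⟨s, hs⟩ := IsDiscreteValuationRing.exists_irreducible V
  obtain ⟨u, hu⟩ : ∃ u : Bˣ, t ^ e * u = algebraMap A B π := by
    refine Associated.symm ?_
    rw [← Ideal.span_singleton_eq_span_singleton, ← Ideal.span_singleton_pow, ← ht.maximalIdeal_eq,
      ← hemap, hπ.maximalIdeal_eq, Ideal.map_span, Set.image_singleton]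
  obtain ⟨v, hv⟩ : ∃ v : Vˣ, s ^ E * v = algebraMap A V π := by
    refine Associated.symm ?_
    rw [← Ideal.span_singleton_eq_span_singleton, ← Ideal.span_singleton_pow, ← hs.maximalIdeal_eq,
      ← hEmap, hπ.maximalIdeal_eq, Ideal.map_span, Set.image_singleton]
  -- z := t / s^m
  let T : W := algebraMap B W t
  let y : W := algebraMap V W s ^ m
  let c₀ : W := algebraMap V W v * algebraMap B W ↑u⁻¹
  have hy0 : (y : M) ≠ 0 := fun h => pow_ne_zero m
    ((map_ne_zero_iff _ hVW).2 hs.ne_zero) (Subtype.ext h)
  have heq : T ^ e = y ^ e * c₀ := by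
    show algebraMap B W t ^ e =
      (algebraMap V W s ^ m) ^ e * (algebraMap V W v * algebraMap B W ↑u⁻¹)
    rw [← pow_mul, ← map_pow, ← map_pow, mul_comm m e, ← hm, ← mul_assoc, ← map_mul, hv, hABVW, ← hu,
      map_mul, mul_assoc, ← map_mul (algebraMap B W), Units.mul_inv, map_one, mul_one]
  have hc₀ : IsUnit c₀ := (v.isUnit.map _).mul (u⁻¹.isUnit.map _)
  have he0 : e ≠ 0 := by omega
  have hze : ((T : M) / (y : M)) ^ e = (c₀ : M) := by
    rw [div_pow, div_eq_iff (pow_ne_zero _ hy0), mul_comm]
    exact_mod_cast congrArg Subtype.val heq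
  have hzW : (T : M) / (y : M) ∈ W := by
    rw [← ValuationSubring.valuation_le_one_iff]
    refine (pow_le_one_iff he0).1 ?_
    rw [← map_pow, hze]
    exact W.valuation_le_one c₀
  let z : W := ⟨(T : M) / (y : M), hzW⟩
  have hTz : T = y * z := Subtype.ext (by
    show (T : M) = (y : M) * ((T : M) / (y : M))
    rw [mul_div_cancel₀ _ hy0])
  have hzc : z ^ e = c₀ := Subtype.ext ((SubmonoidClass.coe_pow z e).trans hze)
  -- the subalgebra D
  let D : Subalgebra V W := Algebra.adjoin V (Set.range (algebraMap B W) ∪ {z})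
  have hBD : ∀ b, algebraMap B W b ∈ D := fun b => Algebra.subset_adjoin (Or.inl ⟨b, rfl⟩)
  have hzD : z ∈ D := Algebra.subset_adjoin (Or.inr rfl)
  have hgen : ∀ w : W, ∃ a b : D, (b : W) ≠ 0 ∧ w * b = a := by
    let F : M → Prop := fun x => ∃ a b : D, (b : W) ≠ 0 ∧ x * ((b : W) : M) = ((a : W) : M)
    have hall : ∀ x : M, F x := by
      intro x
      have hx : x ∈ Algebra.adjoin L (Set.range f) := hadj ▸ Algebra.mem_top
      induction hx using Algebra.adjoin_induction with
      | mem y hy =>
        obtain ⟨z, rfl⟩ := hy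
        rcases V.mem_or_inv_mem z with h | h
        · exact ⟨algebraMap V D ⟨z, h⟩, 1, one_ne_zero, mul_one _⟩
        · rcases eq_or_ne z 0 with rfl | hz
          · exact ⟨0, 1, one_ne_zero, by simp⟩
          refine ⟨1, algebraMap V D ⟨z⁻¹, h⟩, fun h0 => ?_, ?_⟩
          · exact inv_ne_zero hz (f.injective ((congrArg Subtype.val h0).trans (map_zero f).symm))
          · show f z * f z⁻¹ = 1
            rw [← map_mul, mul_inv_cancel₀ hz, map_one]
      | algebraMap l =>
        obtain ⟨⟨b, c⟩, hbc⟩ := IsLocalization.surj (nonZeroDivisors B) l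
        refine ⟨⟨_, hBD b⟩, ⟨_, hBD c⟩, fun h => nonZeroDivisors.ne_zero c.2 ?_, ?_⟩
        · exact IsFractionRing.injective B L ((algebraMap L M).injective
            ((congrArg Subtype.val h).trans (map_zero (algebraMap L M)).symm)
            |>.trans (map_zero _).symm)
        · show algebraMap L M l * algebraMap L M (algebraMap B L c) =
            algebraMap L M (algebraMap B L b)
          rw [← map_mul]
          exact congrArg _ hbc
      | add y z _ _ hy hz =>
        obtain ⟨a, b, hb, e⟩ := hy
        obtain ⟨a', b', hb', e'⟩ := hz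
        refine ⟨a * b' + a' * b, b * b', mul_ne_zero hb hb', ?_⟩
        simp only [MulMemClass.coe_mul, AddMemClass.coe_add, ← e, ← e']
        ring
      | mul y z _ _ hy hz =>
        obtain ⟨a, b, hb, e⟩ := hy
        obtain ⟨a', b', hb', e'⟩ := hz
        refine ⟨a * a', b * b', mul_ne_zero hb hb', ?_⟩
        simp only [MulMemClass.coe_mul, ← e, ← e']
        ring
    intro w
    obtain ⟨a, b, hb, e⟩ := hall w
    exact ⟨a, b, hb, Subtype.ext e⟩
  -- the residue ring
  let kA := ResidueField A
  let kV := ResidueField V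
  let S₀ := kV ⊗[kA] ResidueField B
  have hgB : Algebra.IsGeometricallyReduced kA (ResidueField B) ∧ (e : kA) ≠ 0 := by
    rcases htame with h | ⟨p, hp, hchar, hpe, hgr⟩
    · exact ⟨Abhy.isGeometricallyReduced_of_perfectField _ _, Nat.cast_ne_zero.2 he0⟩
    · refine ⟨hgr, fun h => hpe ?_⟩
      rw [he]
      exact (CharP.cast_eq_zero_iff kA p e).1 h
  have := hgB.1
  let _ : Algebra A K₁ := ((algebraMap K K₁).comp (algebraMap A K)).toAlgebra
  have : IsScalarTower A K K₁ := IsScalarTower.of_algebraMap_eq fun _ => rfl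
  have : IsScalarTower A V K₁ := IsScalarTower.of_algebraMap_eq fun _ => rfl
  have : Module.Finite kA kV :=
    (finite_residueField_and_ramificationIdx_mul_finrank_le A V hAV K K₁).1
  have : Algebra.IsGeometricallyReduced kV S₀ := by
    rw [Algebra.isGeometricallyReduced_field_iff]
    let C := AlgebraicClosure kV
    have : Algebra.IsAlgebraic kA C := Algebra.IsAlgebraic.trans kA kV C
    have : IsReduced (C ⊗[kA] ResidueField B) := inferInstance
    exact isReduced_of_injective
      (Algebra.TensorProduct.cancelBaseChange kA kV C C (ResidueField B)).toRingHom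
      (Algebra.TensorProduct.cancelBaseChange kA kV C C (ResidueField B)).injective
  let _ : Algebra (ResidueField B) S₀ := Algebra.TensorProduct.rightAlgebra
  have : Algebra.IsIntegral (ResidueField B) S₀ := ⟨fun x => by
    induction x using TensorProduct.induction_on with
    | zero => exact isIntegral_zero
    | tmul x y =>
      rw [show x ⊗ₜ[kA] y = (x ⊗ₜ[kA] 1) * algebraMap (ResidueField B) S₀ y by
        show _ = (x ⊗ₜ[kA] 1) * (1 ⊗ₜ[kA] y); simp]
      refine IsIntegral.mul ?_ isIntegral_algebraMap
      obtain ⟨q, hq, hq0⟩ := (Algebra.IsAlgebraic.isAlgebraic (R := kA) x).isIntegral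
      refine ⟨q.map (algebraMap kA (ResidueField B)), hq.map _, ?_⟩
      rw [Polynomial.eval₂_map]
      refine Eq.trans ?_ ((Polynomial.hom_eval₂ q (algebraMap kA kV)
        (Algebra.TensorProduct.includeLeft : kV →ₐ[kA] S₀).toRingHom x).symm.trans
        ((congrArg _ hq0).trans (map_zero _)))
      refine congrArg (fun ξ => Polynomial.eval₂ ξ _ q) (RingHom.ext fun c => ?_)
      show (1 : kV) ⊗ₜ[kA] algebraMap kA (ResidueField B) c = algebraMap kA kV c ⊗ₜ[kA] 1
      rw [Algebra.algebraMap_eq_smul_one, Algebra.algebraMap_eq_smul_one, TensorProduct.smul_tmul]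
    | add x y hx hy => exact hx.add hy⟩
  have : Nontrivial S₀ := (Algebra.TensorProduct.includeLeft_injective (R := kA) (S := kA)
    (A := kV) (B := ResidueField B) (algebraMap kA (ResidueField B)).injective).nontrivial
  let cu : S₀ˣ := Units.map (Algebra.TensorProduct.includeLeft : kV →ₐ[kA] S₀).toMonoidHom
      (Units.map (residue V).toMonoidHom v) *
    Units.map (Algebra.TensorProduct.includeRight : ResidueField B →ₐ[kA] S₀).toMonoidHom
      (Units.map (residue B).toMonoidHom u⁻¹)
  have heS : IsUnit (e : S₀) := by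
    have := (IsUnit.mk0 (e : kA) hgB.2).map (algebraMap kA S₀)
    rwa [map_natCast] at this
  let g : S₀[X] := X ^ e - C (cu : S₀)
  let S := AdjoinRoot g
  obtain ⟨hfin, het⟩ := Abhy.etale_adjoinRoot_X_pow_sub_C he0 heS cu
  have : Module.Finite S₀ S := hfin
  have : Algebra.Etale S₀ S := het
  have : Algebra.IsGeometricallyReduced kV S :=
    Abhy.isGeometricallyReduced_of_finite_etale kV S₀ S
  have hdim : ∀ Q : Ideal S, Q.IsPrime → Q.IsMaximal := fun Q hQ => by
    have : Algebra.IsIntegral S₀ S := Algebra.IsIntegral.of_finite S₀ S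
    refine Ideal.isMaximal_of_isIntegral_of_isMaximal_comap (R := S₀) Q ?_
    have : (Q.comap (algebraMap S₀ S)).IsPrime := inferInstance
    exact Ideal.isMaximal_of_isIntegral_of_isMaximal_comap (R := ResidueField B) _
      ((Ideal.eq_bot_or_top ((Q.comap (algebraMap S₀ S)).comap
        (algebraMap (ResidueField B) S₀))).resolve_right
        (Ideal.IsPrime.ne_top inferInstance) ▸ Ideal.bot_isMaximal)
  -- the map to D / sD
  let J : Ideal D := Ideal.span {algebraMap V D s}
  let qV : V →+* D ⧸ J := (Ideal.Quotient.mk J).comp (algebraMap V D)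
  let qB : B →+* D ⧸ J := (Ideal.Quotient.mk J).comp ((algebraMap B W).codRestrict D hBD)
  have hqs : qV s = 0 := Ideal.Quotient.eq_zero_iff_mem.2 (Ideal.mem_span_singleton_self _)
  have hqV : ∀ x ∈ maximalIdeal V, qV x = 0 := fun x hx => by
    obtain ⟨c, rfl⟩ := Ideal.mem_span_singleton.1 (hs.maximalIdeal_eq ▸ hx)
    rw [map_mul, hqs, zero_mul]
  have hqt : qB t = 0 := by
    have h1 : ((algebraMap B W).codRestrict D hBD) t = algebraMap V D (s ^ m) * ⟨z, hzD⟩ :=
      Subtype.ext (by
        show T = algebraMap V W (s ^ m) * z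
        rw [map_pow]
        exact hTz)
    show Ideal.Quotient.mk J _ = 0
    rw [h1, map_mul, map_pow, map_pow,
      show Ideal.Quotient.mk J (algebraMap V D s) = 0 from hqs, zero_pow hm1, zero_mul]
  have hqB : ∀ x ∈ maximalIdeal B, qB x = 0 := fun x hx => by
    obtain ⟨c, rfl⟩ := Ideal.mem_span_singleton.1 (ht.maximalIdeal_eq ▸ hx)
    rw [map_mul, hqt, zero_mul]
  let rV : kV →+* D ⧸ J := Ideal.Quotient.lift (maximalIdeal V) qV hqV
  let rB : ResidueField B →+* D ⧸ J := Ideal.Quotient.lift (maximalIdeal B) qB hqB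
  let rA : kA →+* D ⧸ J := rV.comp (algebraMap kA kV)
  let _ : CommRing (D ⧸ J) := Ideal.Quotient.commRing J
  let _ := rA.toAlgebra
  have hrB : ∀ x : kA, rB (algebraMap kA (ResidueField B) x) = algebraMap kA (D ⧸ J) x :=
    fun x => by
      obtain ⟨a, rfl⟩ := residue_surjective x
      exact congrArg (Ideal.Quotient.mk J) (Subtype.ext (hABVW a).symm)
  let fV : kV →ₐ[kA] D ⧸ J := AlgHom.mk rV (fun _ => rfl)
  let fB : ResidueField B →ₐ[kA] D ⧸ J := AlgHom.mk rB hrB
  let σ₀ : S₀ →ₐ[kA] D ⧸ J :=
    Algebra.TensorProduct.lift fV fB (fun _ _ => Commute.all _ _)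
  have hσl : ∀ x : V, σ₀ (residue V x ⊗ₜ 1) = qV x := fun x => by
    refine (Algebra.TensorProduct.lift_tmul _ _ _ _ _).trans ?_
    rw [map_one, mul_one]
    rfl
  have hσr : ∀ x : B, σ₀ (1 ⊗ₜ residue B x) = qB x := fun x => by
    refine (Algebra.TensorProduct.lift_tmul _ _ _ _ _).trans ?_
    rw [map_one, one_mul]
    rfl
  let ζ : D ⧸ J := Ideal.Quotient.mk J ⟨z, hzD⟩
  have hroot : g.eval₂ (σ₀ : S₀ →+* D ⧸ J) ζ = 0 := by
    have hcu : σ₀ (cu : S₀) = qV v * qB ↑u⁻¹ := by
      show σ₀ ((residue V v ⊗ₜ 1) * (1 ⊗ₜ residue B ↑u⁻¹)) = _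
      rw [map_mul, hσl, hσr]
    rw [Polynomial.eval₂_sub, Polynomial.eval₂_X_pow, Polynomial.eval₂_C, sub_eq_zero,
      AlgHom.coe_toRingHom, hcu]
    show Ideal.Quotient.mk J (⟨z, hzD⟩ ^ e) = Ideal.Quotient.mk J (_ * _)
    exact congrArg _ (Subtype.ext hzc)
  let σ : S →+* D ⧸ J := AdjoinRoot.lift (σ₀ : S₀ →+* D ⧸ J) ζ hroot
  have hσV : ∀ x : V, σ (algebraMap kV S (residue V x)) =
      Ideal.Quotient.mk J (algebraMap V D x) := fun x => by
    show σ (AdjoinRoot.of g (residue V x ⊗ₜ 1)) = _
    rw [AdjoinRoot.lift_of, AlgHom.coe_toRingHom, hσl]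
    rfl
  have hσsurj : Function.Surjective σ := by
    intro d
    obtain ⟨⟨d, hd⟩, rfl⟩ := Ideal.Quotient.mk_surjective d
    show Ideal.Quotient.mk J ⟨d, hd⟩ ∈ σ.range
    induction hd using Algebra.adjoin_induction with
    | mem x hx =>
      rcases hx with ⟨b, rfl⟩ | rfl
      · exact ⟨AdjoinRoot.of g (1 ⊗ₜ residue B b), by rw [AdjoinRoot.lift_of, AlgHom.coe_toRingHom, hσr]; rfl⟩
      · exact ⟨AdjoinRoot.root g, AdjoinRoot.lift_root hroot⟩
    | algebraMap x => exact ⟨_, hσV x⟩
    | add x y hx hy h1 h2 =>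
      exact (map_add (Ideal.Quotient.mk J) ⟨x, hx⟩ ⟨y, hy⟩) ▸ add_mem h1 h2
    | mul x y hx hy h1 h2 =>
      exact (map_mul (Ideal.Quotient.mk J) ⟨x, hx⟩ ⟨y, hy⟩) ▸ mul_mem h1 h2
  obtain ⟨h1, h2⟩ := Abhy.weaklyUnramified_of_generators V W hVW hs D hgen S hdim σ hσsurj hσV
  refine ⟨h1, ?_⟩
  convert h2 using 1
  refine Algebra.algebra_ext _ _ fun x => ?_
  obtain ⟨a, rfl⟩ := residue_surjective x
  rfl

end Groth.Agent.S1982
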