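import Groth.Statements.S1989
import Groth.Agent.EtaleAlgebra.EtRamTower
-- import your own Groth.Agent.* helpers here

set_option autoImplicit false
universe u
open EtAlg

namespace Groth.Agent.S1989

/-- Let K be the fraction field of a discrete valuation ring A, and K ⊂ L ⊂ M finite separable
extensions. If M is tamely ramified, respectively unramified, with respect to A, then so is L. -/
theorem result (A K : Type u) [CommRing A] [IsDomain A] [IsDiscreteValuationRing A] [Field K] [Algebra A K] [IsFractionRing A K] (L M : Type u) [Field L] [Field M]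
    [Algebra K L] [Algebra K M] [Algebra L M] [IsScalarTower K L M] [FiniteDimensional K M] [Algebra.IsSeparable K M] :
    (EtRam.IsTamelyRamified A ((algebraMap K M).comp (algebraMap A K)) →
      EtRam.IsTamelyRamified A ((algebraMap K L).comp (algebraMap A K))) ∧
    (EtRam.IsUnramifiedExt A ((algebraMap K M).comp (algebraMap A K)) →
      EtRam.IsUnramifiedExt A ((algebraMap K L).comp (algebraMap A K))) := by
  constructor
  · intro h V hV
    obtain ⟨W, hVW, hW⟩ := Groth.EtaleAlgebra.exists_dominates_lift (M := M) hV
    have hd : EtRam.Dominates V ((algebraMap L M).comp V.subtype) W := by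
      subst hVW; exact Groth.EtaleAlgebra.dominates_comap
    intro _
    obtain ⟨hm, -, hs⟩ := Groth.EtaleAlgebra.tower_data hVW hV hW hd
    obtain ⟨h1, h2⟩ := @h W hW (Groth.EtaleAlgebra.isLocalHom_codRestrict hW)
    exact ⟨(hs.1 h1).1, fun p hp hc hdvd => h2 p hp hc (hm ▸ hdvd.mul_right _)⟩
  · intro h V hV
    obtain ⟨W, hVW, hW⟩ := Groth.EtaleAlgebra.exists_dominates_lift (M := M) hV
    have hd : EtRam.Dominates V ((algebraMap L M).comp V.subtype) W := by
      subst hVW; exact Groth.EtaleAlgebra.dominates_comap
    intro _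
    obtain ⟨-, hw, hs⟩ := Groth.EtaleAlgebra.tower_data hVW hV hW hd
    obtain ⟨h1, h2⟩ := @h W hW (Groth.EtaleAlgebra.isLocalHom_codRestrict hW)
    exact ⟨(hw.1 h1).1, (hs.1 h2).1⟩

end Groth.Agent.S1989
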