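import Groth.Statements.S1990
import Groth.Agent.EtaleAlgebra.EtRamTower
-- import your own Groth.Agent.* helpers here

set_option autoImplicit false
universe u
open EtAlg

namespace Groth.Agent.S1990

/-- Let K be the fraction field of a discrete valuation ring A, and K ⊂ L ⊂ M finite separable
extensions. If L/K is tamely ramified (resp. unramified) with respect to A and M/L is tamely
ramified (resp. unramified) with respect to every valuation subring of L dominating A, then M/K is
tamely ramified (resp. unramified) with respect to A. -/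
theorem result (A K : Type u) [CommRing A] [IsDomain A] [IsDiscreteValuationRing A] [Field K] [Algebra A K] [IsFractionRing A K] (L M : Type u) [Field L] [Field M]
    [Algebra K L] [Algebra K M] [Algebra L M] [IsScalarTower K L M] [FiniteDimensional K M] [Algebra.IsSeparable K M] :
    (EtRam.IsTamelyRamified A ((algebraMap K L).comp (algebraMap A K)) →
      (∀ (V : ValuationSubring L), EtRam.Dominates A ((algebraMap K L).comp (algebraMap A K)) V →
        EtRam.IsTamelyRamified V ((algebraMap L M).comp V.subtype)) →
      EtRam.IsTamelyRamified A ((algebraMap K M).comp (algebraMap A K))) ∧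
    (EtRam.IsUnramifiedExt A ((algebraMap K L).comp (algebraMap A K)) →
      (∀ (V : ValuationSubring L), EtRam.Dominates A ((algebraMap K L).comp (algebraMap A K)) V →
        EtRam.IsUnramifiedExt V ((algebraMap L M).comp V.subtype)) →
      EtRam.IsUnramifiedExt A ((algebraMap K M).comp (algebraMap A K))) := by
  constructor
  · intro h h' W hW
    have hV := Groth.EtaleAlgebra.dominates_restrict (L := L) hW
    have hd : EtRam.Dominates (W.comap (algebraMap L M))
        ((algebraMap L M).comp (W.comap (algebraMap L M)).subtype) W :=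
      Groth.EtaleAlgebra.dominates_comap
    intro _
    obtain ⟨hm, -, hs⟩ := Groth.EtaleAlgebra.tower_data rfl hV hW hd
    obtain ⟨a1, a2⟩ := @h _ hV (Groth.EtaleAlgebra.isLocalHom_codRestrict hV)
    obtain ⟨b1, b2⟩ := @h' _ hV W hd (Groth.EtaleAlgebra.isLocalHom_codRestrict hd)
    refine ⟨hs.2 ⟨a1, b1⟩, fun p hp hc hdvd => ?_⟩
    let := (RingHom.codRestrict _ (W.comap (algebraMap L M)) hV.1).toAlgebra
    have : IsLocalHom (algebraMap A (W.comap (algebraMap L M))) :=
      Groth.EtaleAlgebra.isLocalHom_codRestrict hV
    rw [hm] at hdvd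
    rcases (Nat.Prime.dvd_mul hp).1 hdvd with hdvd | hdvd
    · exact a2 p hp hc hdvd
    · exact b2 p hp (charP_of_injective_ringHom (RingHom.injective (algebraMap
        (IsLocalRing.ResidueField A) (IsLocalRing.ResidueField (W.comap (algebraMap L M))))) p) hdvd
  · intro h h' W hW
    have hV := Groth.EtaleAlgebra.dominates_restrict (L := L) hW
    have hd : EtRam.Dominates (W.comap (algebraMap L M))
        ((algebraMap L M).comp (W.comap (algebraMap L M)).subtype) W :=
      Groth.EtaleAlgebra.dominates_comap
    intro _
    obtain ⟨-, hw, hs⟩ := Groth.EtaleAlgebra.tower_data rfl hV hW hd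
    obtain ⟨a1, a2⟩ := @h _ hV (Groth.EtaleAlgebra.isLocalHom_codRestrict hV)
    obtain ⟨b1, b2⟩ := @h' _ hV W hd (Groth.EtaleAlgebra.isLocalHom_codRestrict hd)
    exact ⟨hw.2 ⟨a1, b1⟩, hs.2 ⟨a2, b2⟩⟩

end Groth.Agent.S1990
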