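import Groth.Statements.S1983
import Groth.Agent.EtaleAlgebra.ExtBaseChange
-- import your own Groth.Agent.* helpers here

set_option autoImplicit false
universe u
open EtAlg

namespace Groth.Agent.S1983

/-- Suppose A -> B makes the discrete valuation ring B an extension of the discrete valuation ring A,
with fraction fields K ⊂ L, and that this extension is weakly unramified with separable, i.e.
geometrically reduced and possibly transcendental, residue field extension (formally smooth for the
adic topology). Then every finite extension K₁/K is a solution for A -> B. -/
theorem result (A B K L : Type u) [CommRing A] [IsDomain A] [IsDiscreteValuationRing A]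
    [CommRing B] [IsDomain B] [IsDiscreteValuationRing B] [Algebra A B] [IsLocalHom (algebraMap A B)]
    (hinj : Function.Injective (algebraMap A B))
    [Field K] [Field L] [Algebra A K] [IsFractionRing A K] [Algebra B L] [IsFractionRing B L]
    [Algebra K L] [Algebra A L] [IsScalarTower A K L] [IsScalarTower A B L]
    (hw : EtRam.IsWeaklyUnramified A B) [Algebra.IsGeometricallyReduced (IsLocalRing.ResidueField A) (IsLocalRing.ResidueField B)]
    (K₁ : Type u) [Field K₁] [Algebra K K₁] [FiniteDimensional K K₁] : EtRam.IsSolution B K L K₁ := by
  intro M _ _ _ _ _ _ hadj W hW
  have h := Groth.EtaleAlgebra.localExt_data A B K L hw K₁ (fun V hV => by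
    let := (RingHom.codRestrict _ V hV.1).toAlgebra
    have : IsLocalHom (algebraMap A V) := Groth.EtaleAlgebra.isLocalHom_codRestrict hV
    let : Algebra A K₁ := ((algebraMap K K₁).comp (algebraMap A K)).toAlgebra
    have : IsScalarTower A K K₁ := IsScalarTower.of_algebraMap_eq fun _ => rfl
    have : IsScalarTower A V K₁ := IsScalarTower.of_algebraMap_eq fun _ => rfl
    have : IsDiscreteValuationRing V :=
      Groth.EtaleAlgebra.isDiscreteValuationRing_of_dominates A K K₁ hV
    have : Module.Finite (IsLocalRing.ResidueField A) (IsLocalRing.ResidueField V) :=
      (Groth.EtaleAlgebra.finite_residueField_and_ramificationIdx_mul_finrank_le A V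
        (fun a b hab => IsFractionRing.injective A K ((algebraMap K K₁).injective
          (congrArg Subtype.val hab))) K K₁).1
    infer_instance) M hadj W hW
  exact ⟨h.1, h.2 inferInstance⟩

end Groth.Agent.S1983
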