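import Groth.Statements.S19569
import Mathlib

set_option autoImplicit false
universe u
open CAlg
open scoped TensorProduct

namespace Groth.Agent.S19569

open TensorProduct in
/-- Let A be the colimit of a directed system of rings (A_i), given by compatible ring maps A_i → A
which are jointly surjective and such that an element of some A_i mapping to zero in A already maps
to zero in some later A_j, and let B be an étale A-algebra. Then for some index i there is an étale
A_i-algebra B_i such that B is isomorphic, as an A-algebra, to the base change A ⊗_{A_i} B_i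
(existence of an isomorphism). (Stated for a system indexed by a directed preordered set.) -/
theorem result {ι : Type u} [Preorder ι] [IsDirected ι (· ≤ ·)] [Nonempty ι]
    (G : ι → Type u) [∀ i, CommRing (G i)] (f : ∀ i j, i ≤ j → (G i →+* G j))
    (A : Type u) [CommRing A] (g : ∀ i, G i →+* A) (hg : ∀ i j (h : i ≤ j), (g j).comp (f i j h) = g i)
    (hsurj : ∀ a : A, ∃ i, ∃ x : G i, g i x = a)
    (hker : ∀ i (x : G i), g i x = 0 → ∃ j, ∃ h : i ≤ j, f i j h x = 0)
    (B : Type u) [CommRing B] [Algebra A B] [Algebra.Etale A B] :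
    ∃ (i : ι) (Bi : Type u) (_ : CommRing Bi) (_ : Algebra (G i) Bi), Algebra.Etale (G i) Bi ∧
      letI : Algebra (G i) A := (g i).toAlgebra
      Nonempty (B ≃ₐ[A] A ⊗[G i] Bi) := by
  classical
  obtain ⟨A₀, B₀, _, _, hfg, hEt, ⟨e⟩⟩ := Algebra.Etale.exists_subalgebra_fg (R := ℤ) (A := A) (B := B)
  have : Algebra.FiniteType ℤ A₀ := (Subalgebra.fg_iff_finiteType A₀).1 hfg
  have : Algebra.FinitePresentation ℤ A₀ := Algebra.FinitePresentation.of_finiteType.1 inferInstance
  obtain ⟨k, q, hq, hker⟩ := (Algebra.FinitePresentation.out (R := ℤ) (A := A₀))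
  obtain ⟨S, hS⟩ := hker
  choose iy y hy using fun c : Fin k => hsurj (q (MvPolynomial.X c) : A)
  obtain ⟨i₀, hi₀⟩ := (Finset.univ.image iy).exists_le
  let Φ₀ : MvPolynomial (Fin k) ℤ →+* G i₀ :=
    MvPolynomial.eval₂Hom (Int.castRingHom _) fun c => f (iy c) i₀ (hi₀ _ (Finset.mem_image_of_mem _ (Finset.mem_univ c))) (y c)
  have hΦ₀ : (g i₀).comp Φ₀ = (A₀.val.comp q).toRingHom := by
    refine MvPolynomial.ringHom_ext (fun a => by simp) fun c => ?_
    simp [Φ₀, ← RingHom.comp_apply (g i₀), hg, hy]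
  have hstep : ∀ S' : Finset (MvPolynomial (Fin k) ℤ), S' ⊆ S → ∃ (l : ι) (Ψ : MvPolynomial (Fin k) ℤ →+* G l),
      (g l).comp Ψ = (A₀.val.comp q).toRingHom ∧ ∀ s ∈ S', Ψ s = 0 := by
    intro S'
    induction S' using Finset.induction_on with
    | empty => exact fun _ => ⟨i₀, Φ₀, hΦ₀, by simp⟩
    | insert a S' _ ih =>
      intro hsub
      obtain ⟨l, Ψ, hΨ, hΨ0⟩ := ih ((Finset.subset_insert _ _).trans hsub)
      obtain ⟨l', hl', h0⟩ := hker l (Ψ a) (by
        rw [← RingHom.comp_apply, hΨ]
        have : q a = 0 := RingHom.mem_ker.1 (show a ∈ RingHom.ker q.toRingHom by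
          rw [← hS]; exact Ideal.subset_span (hsub (Finset.mem_insert_self _ _)))
        simp [this])
      refine ⟨l', (f l l' hl').comp Ψ, by rw [← RingHom.comp_assoc, hg, hΨ], fun s hs => ?_⟩
      rcases Finset.mem_insert.1 hs with rfl | hs
      · exact h0
      · simp [hΨ0 s hs]
  obtain ⟨l, Ψ, hΨ, hΨ0⟩ := hstep S subset_rfl
  have hle : RingHom.ker q.toRingHom ≤ RingHom.ker Ψ := by
    rw [← hS, Ideal.span_le]; exact hΨ0
  let φ : A₀ →+* G l := (Ideal.Quotient.lift (RingHom.ker q.toRingHom) Ψ hle).comp (RingHom.quotientKerEquivOfSurjective (f := q.toRingHom) hq).symm.toRingHom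
  have hφ : ∀ x, φ (q x) = Ψ x := fun x => by
    simp only [φ, RingHom.coe_comp, Function.comp_apply, RingEquiv.toRingHom_eq_coe, RingEquiv.coe_toRingHom]
    rw [show (RingHom.quotientKerEquivOfSurjective (f := q.toRingHom) hq).symm (q x) = Ideal.Quotient.mk _ x from
      (RingEquiv.symm_apply_eq _).2 rfl, Ideal.Quotient.lift_mk]
  let _ : Algebra A₀ (G l) := φ.toAlgebra
  let _ : Algebra (G l) A := (g l).toAlgebra
  have : IsScalarTower A₀ (G l) A := IsScalarTower.of_algebraMap_eq fun a => by
    obtain ⟨x, rfl⟩ := hq a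
    show (q x : A) = g l (φ (q x))
    rw [hφ, ← RingHom.comp_apply, hΨ]
    rfl
  refine ⟨l, G l ⊗[A₀] B₀, inferInstance, inferInstance, inferInstance, ?_⟩
  exact ⟨e.trans (Algebra.TensorProduct.cancelBaseChange A₀ (G l) A A B₀).symm⟩

end Groth.Agent.S19569
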