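import Groth.Statements.S13621
import Groth.Agent.EtaleDeep.ARBasic
-- import your own Groth.Agent.* helpers here

set_option autoImplicit false
open CategoryTheory CategoryTheory.Limits Opposite
universe v u
open ARSys

namespace Groth.Agent.S13621

/-- The inverse limit is a well-defined functor on projective systems up to translation. Concretely: in
an abelian category with limits of shape ℕᵒᵖ, a morphism u : X ⟶ Y of projective systems indexed by
the natural numbers whose kernel and cokernel are null up to translation induces an isomorphism lim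
X ⟶ lim Y. (The published statement is the functoriality of lim on the category of systems up to
translation; combined with the description of isomorphisms there as the morphisms with null kernel
and cokernel, this is the form stated.) -/
theorem result {C : Type u} [Category.{v} C] [Abelian C] [HasLimitsOfShape ℕᵒᵖ C]
    {X Y : ARSys.PS C} (u : X ⟶ Y) (hu : ARSys.IsARIso u) : IsIso (limMap u) := by
  classical
  obtain ⟨⟨r, hr⟩, hQ⟩ := hu
  have hmono : Mono (limMap u) := by
    refine Preadditive.mono_of_cancel_zero _ (fun {P} k hk => limit.hom_ext (fun o => ?_))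
    obtain ⟨n⟩ := o
    have := Groth.EtaleDeep.AR.comp_tr_eq_zero_of_kernel u (hr n) (k ≫ limit.π X (op (n + r)))
      (by rw [Category.assoc, ← limMap_π, ← Category.assoc, hk, zero_comp])
    rw [Category.assoc, limit.w] at this
    rw [this, zero_comp]
  -- a section of `limMap u`
  let y : ∀ m : ℕ, limit Y ⟶ Y.obj (op m) := fun m => limit.π Y (op m)
  have hy : ∀ m, y m ≫ (cokernel.π u).app (op m) = 0 :=
    Groth.EtaleDeep.AR.eq_zero_of_isARNull hQ (fun m => y m ≫ (cokernel.π u).app (op m))
      (fun a b hab => by
        rw [Category.assoc, ← Groth.EtaleDeep.AR.tr_naturality, ← Category.assoc]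
        congr 1
        exact limit.w Y _)
  -- refinements
  have href : ∀ m : ℕ, ∃ (P : C) (e : P ⟶ limit Y) (_ : Epi e) (x : P ⟶ X.obj (op m)),
      e ≫ y m = x ≫ u.app (op m) := fun m =>
    (Groth.EtaleDeep.AR.exact_cokernel_app u (op m)).exact_up_to_refinements (y m) (hy m)
  choose P e he x hx using href
  -- well defined images at level `n` of lifts at level `n + r`
  have hz : ∀ n : ℕ, ∃ z : limit Y ⟶ X.obj (op n), ∀ ⦃W : C⦄ (e' : W ⟶ limit Y)
      (x' : W ⟶ X.obj (op (n + r))), e' ≫ y (n + r) = x' ≫ u.app (op (n + r)) →
        e' ≫ z = x' ≫ ARSys.tr X (Nat.le_add_right n r) := by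
    intro n
    have hker : kernel.ι (e (n + r)) ≫ x (n + r) ≫ ARSys.tr X (Nat.le_add_right n r) = 0 := by
      rw [← Category.assoc]
      refine Groth.EtaleDeep.AR.comp_tr_eq_zero_of_kernel u (hr n) _ ?_
      rw [Category.assoc, ← hx, ← Category.assoc, kernel.condition, zero_comp]
    have := he (n + r)
    refine ⟨Abelian.epiDesc (e (n + r)) _ hker, fun W e' x' h' => ?_⟩
    -- compare on a common refinement
    obtain ⟨W', a, ha, b, hab⟩ := surjective_up_to_refinements_of_epi (e (n + r)) e'
    rw [← cancel_epi a, ← Category.assoc, hab, Category.assoc, Abelian.comp_epiDesc,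
      ← Category.assoc, ← sub_eq_zero, ← Category.assoc a, ← Preadditive.sub_comp]
    refine Groth.EtaleDeep.AR.comp_tr_eq_zero_of_kernel u (hr n) _ ?_
    rw [Preadditive.sub_comp, Category.assoc, Category.assoc, ← hx, ← h', ← Category.assoc,
      ← Category.assoc, hab, sub_self]
  choose z hz using hz
  have hcomp : ∀ (n m : ℕ) (h : n ≤ m), z m ≫ ARSys.tr X h = z n := by
    intro n m h
    have := he (m + r)
    rw [← cancel_epi (e (m + r)), ← Category.assoc, hz m (e (m + r)) (x (m + r)) (hx _),
      Category.assoc, Groth.EtaleDeep.AR.tr_comp]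
    rw [hz n (e (m + r)) (x (m + r) ≫ ARSys.tr X (Nat.add_le_add_right h r)), Category.assoc,
      Groth.EtaleDeep.AR.tr_comp]
    rw [Category.assoc, Groth.EtaleDeep.AR.tr_naturality, ← Category.assoc, ← hx, Category.assoc]
    congr 1
    exact (limit.w Y _).symm
  have hzu : ∀ n, z n ≫ u.app (op n) = y n := by
    intro n
    have := he (n + r)
    rw [← cancel_epi (e (n + r)), ← Category.assoc, hz n (e (n + r)) (x (n + r)) (hx _),
      Category.assoc, Groth.EtaleDeep.AR.tr_naturality, ← Category.assoc, ← hx, Category.assoc]
    congr 1
    exact limit.w Y _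
  let s : limit Y ⟶ limit X := limit.lift X (Cone.mk (limit Y)
    { app := fun o => z o.unop
      naturality := fun o o' g => by
        simp only [Functor.const_obj_obj, Functor.const_obj_map, Category.id_comp]
        exact (hcomp _ _ (leOfHom g.unop)).symm })
  have hs : s ≫ limMap u = 𝟙 _ := limit.hom_ext (fun o => by
    rw [Category.assoc, limMap_π, ← Category.assoc, limit.lift_π, Category.id_comp]
    exact hzu _)
  exact ⟨s, by rw [← cancel_mono (limMap u), Category.assoc, hs, Category.comp_id, Category.id_comp], hs⟩

end Groth.Agent.S13621
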