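import Groth.Statements.S14620
import Groth.Agent.Hensel1.Local
import Groth.Agent.HensPair.Basic
import Mathlib.FieldTheory.PurelyInseparable.Basic

set_option autoImplicit false
universe u
open Hensel

namespace Groth.Agent.S14620

/-- In the strictly henselian case, let f : A → B be a finite local homomorphism of local rings. If A is
strictly henselian (henselian local with separably closed residue field), then so is B. -/
theorem result {A B : Type u} [CommRing A] [IsLocalRing A]
    [CommRing B] [IsLocalRing B] (f : A →+* B) (hf : f.Finite) [IsLocalHom f]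
    (hA : EtCoh.IsStrictlyHenselianLocalRing A) : EtCoh.IsStrictlyHenselianLocalRing B := by
  obtain ⟨hh, hsep⟩ := hA
  have : HenselianLocalRing A := hh
  let := f.toAlgebra
  have : Module.Finite A B := hf
  have : IsLocalHom (algebraMap A B) := ‹IsLocalHom f›
  have h1 := Groth.Hensel1.henselianRing_of_isIntegral (A := A) (I := IsLocalRing.maximalIdeal A) B
  have hle : IsLocalRing.maximalIdeal B ≤
      ((IsLocalRing.maximalIdeal A).map (algebraMap A B)).radical := by
    rw [Ideal.radical_eq_sInf]
    refine le_sInf fun p ⟨hp, hprime⟩ => ?_
    have h2 : p.comap (algebraMap A B) = IsLocalRing.maximalIdeal A :=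
      le_antisymm (IsLocalRing.le_maximalIdeal (Ideal.comap_ne_top _ hprime.ne_top))
        (Ideal.map_le_iff_le_comap.1 hp)
    have : p.IsMaximal := Ideal.isMaximal_of_isIntegral_of_isMaximal_comap p
      (h2 ▸ IsLocalRing.maximalIdeal.isMaximal A)
    exact (IsLocalRing.eq_maximalIdeal this).ge
  have := Groth.Hensel1.henselianRing_of_le_radical (I := (IsLocalRing.maximalIdeal A).map (algebraMap A B)) hle
  refine ⟨Groth.Hensel1.henselianLocalRing_of_henselianRing, ?_⟩
  have : Algebra.IsAlgebraic (IsLocalRing.ResidueField A) (IsLocalRing.ResidueField B) :=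
    Algebra.IsAlgebraic.of_finite _ _
  exact Algebra.IsAlgebraic.isSepClosed (F := IsLocalRing.ResidueField A)

end Groth.Agent.S14620
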