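import Groth.Statements.S14020
import Mathlib

set_option autoImplicit false
universe u
open CAlg

namespace Groth.Agent.S14020

/-- Let R be a commutative ring and I a finitely generated ideal such that the quotient ring R/I is
artinian. Then R/I^n is artinian for every n. -/
theorem result
    (R : Type u) [CommRing R] (I : Ideal R) (hI : I.FG) [IsArtinianRing (R ⧸ I)] (n : ℕ) :
    IsArtinianRing (R ⧸ I ^ n) := by
  obtain ⟨hnoeth, hdim⟩ := isArtinianRing_iff_isNoetherianRing_krullDimLE_zero.1 (inferInstance : IsArtinianRing (R ⧸ I))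
  rw [Ring.krullDimLE_zero_iff] at hdim
  have hker : ∀ P : Ideal (R ⧸ I ^ n), P.IsPrime → I ≤ P.comap (Ideal.Quotient.mk (I ^ n)) := fun P hP =>
    fun x hx => hP.mem_of_pow_mem n (by
      rw [← map_pow, Ideal.Quotient.eq_zero_iff_mem.2 (Ideal.pow_mem_pow hx n)]; exact P.zero_mem)
  have hle : ∀ P : Ideal (R ⧸ I ^ n), P.IsPrime →
      ((P.comap (Ideal.Quotient.mk (I ^ n))).map (Ideal.Quotient.mk I)).IsPrime ∧
      (P.comap (Ideal.Quotient.mk (I ^ n))).FG := by
    intro P hP
    haveI := Ideal.comap_isPrime (Ideal.Quotient.mk (I ^ n)) P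
    refine ⟨Ideal.isPrime_map_quotientMk_of_isPrime (hker P hP), ?_⟩
    obtain ⟨t, ht⟩ := (IsNoetherian.noetherian ((P.comap (Ideal.Quotient.mk (I ^ n))).map (Ideal.Quotient.mk I)))
    choose l hl using Ideal.Quotient.mk_surjective (I := I)
    obtain ⟨g, hg⟩ := hI
    classical
    refine ⟨g ∪ t.image l, le_antisymm ?_ ?_⟩
    · rw [Finset.coe_union, Finset.coe_image, Ideal.span, Submodule.span_union, sup_le_iff, Submodule.span_le, Submodule.span_le]
      refine ⟨fun x hx => hker P hP (hg ▸ Submodule.subset_span hx), ?_⟩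
      rintro x ⟨y, hy, rfl⟩
      obtain ⟨z, hz, hzy⟩ := (Ideal.mem_map_iff_of_surjective _ Ideal.Quotient.mk_surjective).1
        (show y ∈ (P.comap (Ideal.Quotient.mk (I ^ n))).map (Ideal.Quotient.mk I) from ht ▸ Submodule.subset_span hy)
      have := Ideal.Quotient.eq.1 (hzy.trans (hl y).symm)
      simpa using (P.comap (Ideal.Quotient.mk (I ^ n))).sub_mem hz (hker P hP this)
    · intro x hx
      have h1 : (P.comap (Ideal.Quotient.mk (I ^ n))).map (Ideal.Quotient.mk I) =
          (Ideal.span (t.image l : Set R)).map (Ideal.Quotient.mk I) := by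
        rw [Ideal.map_span, Finset.coe_image, ← Set.image_comp]
        simp only [Function.comp_def, hl, Set.image_id']
        exact ht.symm
      have h2 := h1 ▸ Ideal.mem_map_of_mem (Ideal.Quotient.mk I) hx
      rw [← Ideal.mem_comap, Ideal.comap_map_of_surjective _ Ideal.Quotient.mk_surjective, ← RingHom.ker_eq_comap_bot, Ideal.mk_ker] at h2
      rw [Finset.coe_union, Ideal.span, Submodule.span_union, sup_comm, show Submodule.span R (g : Set R) = I from hg]
      exact h2
  rw [isArtinianRing_iff_isNoetherianRing_krullDimLE_zero, Ring.krullDimLE_zero_iff]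
  refine ⟨IsNoetherianRing.of_prime fun P hP => ?_, fun P hP => ?_⟩
  · rw [← Ideal.map_comap_of_surjective _ Ideal.Quotient.mk_surjective P]
    exact (hle P hP).2.map _
  · have hmax := hdim _ (hle P hP).1
    haveI := Ideal.comap_isMaximal_of_surjective (Ideal.Quotient.mk I) Ideal.Quotient.mk_surjective (K := _) (H := hmax)
    rw [Ideal.comap_map_of_surjective _ Ideal.Quotient.mk_surjective, ← RingHom.ker_eq_comap_bot, Ideal.mk_ker,
      sup_eq_left.2 (hker P hP)] at this
    rw [← Ideal.map_comap_of_surjective _ Ideal.Quotient.mk_surjective P]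
    refine (Ideal.map_eq_top_or_isMaximal_of_surjective _ Ideal.Quotient.mk_surjective this).resolve_left fun h => ?_
    rw [Ideal.map_comap_of_surjective _ Ideal.Quotient.mk_surjective] at h
    exact hP.ne_top h

end Groth.Agent.S14020
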