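import Groth.Statements.S11546
import Groth.Agent.AdicLinTop.CompletionTorsion
import Mathlib.RingTheory.Flat.TorsionFree
import Mathlib.RingTheory.AdicCompletion.AsTensorProduct
import Mathlib.RingTheory.Flat.Stability
import Mathlib.RingTheory.Polynomial.Basic

set_option autoImplicit false
universe u
open AdicRing

namespace Groth.Agent.S11546

/-- Let R be a base ring of class (N) or (V) for the ideal I. Then the restricted power series ring
R⟨ζ_1, ..., ζ_n⟩ is flat over R. -/
theorem result
    (R : Type u) [CommRing R] (I : Ideal R) (hR : AdicRing.IsBase R I) (n : ℕ) :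
    Module.Flat R (AdicRing.RPow R I n) := by
  obtain ⟨hc, ⟨hN, -⟩ | ⟨hdom, hpre, hdim, t, ht0, hI⟩⟩ := hR
  · haveI := hN
    haveI : Module.Flat (MvPolynomial (Fin n) R) (AdicRing.RPow R I n) :=
      AdicCompletion.flat_of_isNoetherian _
    exact Module.Flat.trans R (MvPolynomial (Fin n) R) _
  · haveI := hdom
    haveI : ValuationRing R := { toPreValuationRing := hpre }
    subst hI
    rw [Module.Flat.flat_iff_torsion_eq_bot_of_isBezout, eq_bot_iff]
    rintro x ⟨⟨r, hr⟩, hrx⟩
    replace hrx : r • x = 0 := hrx
    have hr0 : r ≠ 0 := nonZeroDivisors.ne_zero hr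
    have htm : t ∈ IsLocalRing.maximalIdeal R := by
      haveI := hc
      have h1 := IsAdicComplete.le_jacobson_bot (Ideal.span {t} : Ideal R)
        (Ideal.mem_span_singleton_self t)
      rwa [IsLocalRing.jacobson_eq_maximalIdeal ⊥ bot_ne_top] at h1
    haveI := hdim
    obtain ⟨m, s, hs⟩ := Groth.AdicLinTop.CompletionTorsion.exists_dvd_pow htm hr0
    have hm : t ^ m • x = 0 := by rw [hs, mul_comm, mul_smul, hrx, smul_zero]
    rw [Submodule.mem_bot]
    suffices key : ∀ J : Ideal (MvPolynomial (Fin n) R), J = Ideal.span {MvPolynomial.C t} →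
        ∀ (k : ℕ) (y : AdicCompletion J (MvPolynomial (Fin n) R)), t ^ k • y = 0 → y = 0 from
      key _ (by rw [Ideal.map_span, Set.image_singleton]) m x hm
    rintro J rfl k
    induction k with
    | zero => intro y hy; simpa using hy
    | succ k ih =>
      intro y hy
      refine ih y ?_
      refine Groth.AdicLinTop.CompletionTorsion.eq_zero_of_smul_eq_zero (fun p hp => ?_) _ ?_
      · exact (mul_eq_zero.mp hp).resolve_left (by simpa using ht0)
      · rw [← hy, pow_succ', mul_smul]
        exact algebraMap_smul (MvPolynomial (Fin n) R) t (t ^ k • y)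

end Groth.Agent.S11546
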