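import Groth.Statements.S11545
import Groth.Agent.AdicLinTop.CompletionQuot

set_option autoImplicit false
universe u
open AdicRing

namespace Groth.Agent.S11545

theorem ext_completion {Q B : Type u} [CommRing Q] [CommRing B] {J : Ideal Q} (hJ : J.FG) {K : Ideal B}
    [IsHausdorff K B] (g₁ g₂ : AdicCompletion J Q →+* B)
    (h : ∀ z, g₁ (algebraMap Q (AdicCompletion J Q) z) = g₂ (algebraMap Q (AdicCompletion J Q) z))
    (hK : J.map (g₂.comp (algebraMap Q (AdicCompletion J Q))) ≤ K) : g₁ = g₂ := by
  refine RingHom.ext fun x => sub_eq_zero.1 (IsHausdorff.haus' (I := K) _ fun n => ?_)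
  obtain ⟨r, hr⟩ := Groth.AdicLinTop.CompletionQuot.exists_sub_mem J hJ n x
  rw [SModEq.zero, smul_eq_mul, Ideal.mul_top]
  have hm : ∀ g : AdicCompletion J Q →+* B, J.map (g.comp (algebraMap Q (AdicCompletion J Q))) ≤ K →
      g x - g (algebraMap Q (AdicCompletion J Q) r) ∈ K ^ n := fun g hg => by
    have h' := Ideal.mem_map_of_mem g hr
    rw [map_sub, Ideal.map_pow, Ideal.map_map] at h'
    exact Ideal.pow_right_mono hg n h'
  have e : g₁.comp (algebraMap Q (AdicCompletion J Q)) = g₂.comp (algebraMap Q (AdicCompletion J Q)) := RingHom.ext h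
  have := sub_mem (hm g₁ (e ▸ hK)) (hm g₂ hK)
  rwa [h, sub_sub_sub_cancel_right] at this


/-- Let R be a base ring of class (N) or (V) for the ideal I, A an admissible R-algebra, f_0, ..., f_r
elements generating an open ideal 𝔞 of A, and A_i = C_i/(f_i-power torsion) the i-th chart algebra
of the formal blowing-up of 𝔞. Let B be an R-algebra complete and separated for the I-adic topology
and φ : A → B an R-algebra homomorphism such that the ideal 𝔞B is generated by φ(f_i), a
non-zero-divisor of B. Then there is exactly one R-algebra homomorphism A_i → B whose composite with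
A → A_i is φ. -/
theorem result
    (R : Type u) [CommRing R] (I : Ideal R) (hR : AdicRing.IsBase R I)
    (A : Type u) [CommRing A] [Algebra R A] (hA : AdicRing.Admissible R I A)
    (r : ℕ) (f : Fin (r + 1) → A) (k : ℕ)
    (hopen : (I ^ k).map (algebraMap R A) ≤ Ideal.span (Set.range f)) (i : Fin (r + 1))
    (B : Type u) [CommRing B] [Algebra R B] [IsAdicComplete (I.map (algebraMap R B)) B]
    (φ : A →ₐ[R] B) (hnzd : φ (f i) ∈ nonZeroDivisors B)
    (hgen : (Ideal.span (Set.range f)).map φ = Ideal.span {φ (f i)}) :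
    ∃! ψ : AdicRing.chartAdm I f i →ₐ[R] B,
      ψ.comp (IsScalarTower.toAlgHom R A (AdicRing.chartAdm I f i)) = φ := by
  classical
  have hI : I.FG := by
    rcases hR.2 with ⟨hN, -⟩ | ⟨-, -, -, t, -, rfl⟩
    · exact (isNoetherianRing_iff_ideal_fg R).1 hN I
    · exact Submodule.fg_span_singleton t
  have hb : ∀ j, ∃ b : B, φ (f i) * b = φ (f j) := fun j => by
    have h : φ (f j) ∈ (Ideal.span (Set.range f)).map φ :=
      Ideal.mem_map_of_mem φ (Ideal.subset_span ⟨j, rfl⟩)
    rw [hgen] at h
    obtain ⟨b, hb⟩ := Ideal.mem_span_singleton'.1 h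
    exact ⟨b, by rw [mul_comm, hb]⟩
  choose b hb using hb
  let e : MvPolynomial {j // j ≠ i} A →ₐ[R] B :=
    { MvPolynomial.eval₂Hom φ.toRingHom (fun j => b j.1) with
      commutes' := fun r => by
        show MvPolynomial.eval₂Hom φ.toRingHom (fun j : {j // j ≠ i} => b j.1) (MvPolynomial.C (algebraMap R A r)) = _
        rw [MvPolynomial.eval₂Hom_C]; exact φ.commutes r }
  let q : AdicRing.chartAlg f i →ₐ[R] B := Ideal.Quotient.liftₐ _ e fun a ha => by
    refine (Ideal.span_le (I := RingHom.ker e.toRingHom)).2 ?_ ha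
    rintro _ ⟨j, rfl⟩
    show MvPolynomial.eval₂Hom φ.toRingHom _ _ = 0
    simp [hb]
  have hIq : (I.map (algebraMap R (AdicRing.chartAlg f i))).map q.toRingHom ≤ I.map (algebraMap R B) := by
    rw [Ideal.map_map]
    exact le_of_eq (congrArg (I.map ·) (RingHom.ext q.commutes))
  obtain ⟨F, hF⟩ := Groth.AdicLinTop.CompletionQuot.exists_lift _ (I.map (algebraMap R B)) q.toRingHom hIq
  have hFc : ∀ z, F (algebraMap _ _ z) = q z := RingHom.congr_fun hF
  have hFA : ∀ a, F (algebraMap A (AdicRing.chartCompl I f i) a) = φ a := fun a => by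
    rw [IsScalarTower.algebraMap_apply A (AdicRing.chartAlg f i) (AdicRing.chartCompl I f i), hFc]
    show MvPolynomial.eval₂Hom φ.toRingHom _ (MvPolynomial.C a) = _
    simp
  let T : Ideal (AdicRing.chartCompl I f i) := ⨆ n : ℕ, Submodule.torsionBy (AdicRing.chartCompl I f i)
    (AdicRing.chartCompl I f i) (algebraMap A (AdicRing.chartCompl I f i) (f i) ^ n)
  have hT : T ≤ RingHom.ker F := iSup_le fun n x hx => by
    have h := congrArg F ((Submodule.mem_torsionBy_iff _ _).1 hx)
    rw [smul_eq_mul, map_mul, map_pow, hFA, map_zero] at h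
    exact (mem_nonZeroDivisors_iff_left.1 (Submonoid.pow_mem _ hnzd n)) _ h
  let ψ : AdicRing.chartAdm I f i →ₐ[R] B :=
    { Ideal.Quotient.lift T F hT with
      commutes' := fun r => by
        show Ideal.Quotient.lift T F hT (Ideal.Quotient.mk T (algebraMap R _ r)) = _
        show F (algebraMap R (AdicRing.chartCompl I f i) r) = _
        rw [IsScalarTower.algebraMap_apply R A (AdicRing.chartCompl I f i), hFA]
        exact φ.commutes r }
  have hψ : ψ.comp (IsScalarTower.toAlgHom R A (AdicRing.chartAdm I f i)) = φ := AlgHom.ext fun a => hFA a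
  refine ⟨ψ, hψ, fun ψ' hψ' => ?_⟩
  let c : AdicRing.chartAlg f i →ₐ[R] AdicRing.chartAdm I f i :=
    IsScalarTower.toAlgHom R (AdicRing.chartAlg f i) (AdicRing.chartAdm I f i)
  have hval : ∀ χ : AdicRing.chartAdm I f i →ₐ[R] B,
      χ.comp (IsScalarTower.toAlgHom R A (AdicRing.chartAdm I f i)) = φ → ∀ z, χ (c z) = q z := by
    intro χ hχ z
    obtain ⟨p, rfl⟩ := Ideal.Quotient.mk_surjective z
    have hA : ∀ a, χ (c (Ideal.Quotient.mk _ (MvPolynomial.C a))) = φ a := fun a => AlgHom.congr_fun hχ a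
    induction p using MvPolynomial.induction_on with
    | C a => rw [hA]; exact (MvPolynomial.eval₂Hom_C _ _ a).symm
    | add p p' hp hp' => simp only [map_add, hp, hp']
    | mul_X p j hp =>
      simp only [map_mul, hp]
      congr 1
      refine mem_nonZeroDivisors_iff_left.1 hnzd _ ?_ |> sub_eq_zero.1
      have hrel : Ideal.Quotient.mk (Ideal.span (Set.range fun j : {j // j ≠ i} =>
          MvPolynomial.C (f i) * MvPolynomial.X j - MvPolynomial.C (f j.1)))
          (MvPolynomial.C (f i) * MvPolynomial.X j) = Ideal.Quotient.mk _ (MvPolynomial.C (f j.1)) :=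
        Ideal.Quotient.eq.2 (Ideal.subset_span ⟨j, rfl⟩)
      have h1 := congrArg (fun w => χ (c w)) hrel
      simp only [map_mul, hA] at h1
      rw [mul_sub, h1, sub_eq_zero]
      show φ (f j.1) = φ (f i) * MvPolynomial.eval₂Hom φ.toRingHom (fun j : {j // j ≠ i} => b j.1) (MvPolynomial.X j)
      rw [MvPolynomial.eval₂Hom_X', hb]
  have key := ext_completion (hI.map (algebraMap R (AdicRing.chartAlg f i)))
    (ψ'.toRingHom.comp (Ideal.Quotient.mk T)) (ψ.toRingHom.comp (Ideal.Quotient.mk T))
    (fun z => (hval ψ' hψ' z).trans (hval ψ hψ z).symm)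
    (K := I.map (algebraMap R B)) (by
      rw [Ideal.map_map]
      exact le_of_eq (congrArg (I.map ·) (RingHom.ext fun t => ψ.commutes t)))
  refine AlgHom.ext fun x => ?_
  obtain ⟨y, rfl⟩ := Ideal.Quotient.mk_surjective x
  exact RingHom.congr_fun key y

end Groth.Agent.S11545
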