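import Groth.Statements.S0408
import Groth.Agent.Flatmor4.EtaleSplit

set_option autoImplicit false
universe u
open FlatMor

namespace Groth.Agent.S0408

open AlgebraicGeometry CategoryTheory Limits in
/-- Étale localization of a quasi-finite point (one-point case): for f separated and locally of finite
type and x isolated in its fibre, after base change along an étale morphism g with a point u over
f(x) having the same residue field, the base change splits off an open and closed piece V, finite
over the base, whose fibre over u is a single point v lying over x with the same residue field as x,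
and no other point over u lies over x. -/
theorem result {X S : Scheme.{u}} (f : X ⟶ S) [LocallyOfFiniteType f] [IsSeparated f] (x : X) (hx : f.QuasiFiniteAt x) :
    ∃ (U : Scheme.{u}) (g : U ⟶ S) (u : U), Etale g ∧ g u = f x ∧ Function.Surjective (g.residueFieldMap u) ∧
      ∃ (V : (pullback f g).Opens) (v : ↑(pullback f g)), IsClopen (V : Set ↑(pullback f g)) ∧
        IsFinite (V.ι ≫ pullback.snd f g) ∧ v ∈ V ∧ pullback.fst f g v = x ∧ pullback.snd f g v = u ∧
        Function.Surjective ((pullback.fst f g).residueFieldMap v) ∧
        (∀ w : ↑(pullback f g), pullback.snd f g w = u → (w ∈ V ∨ pullback.fst f g w = x) → w = v) := by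
  obtain ⟨U, g, u, hu, hsplit⟩ := Groth.Flatmor4.exists_split f (f x) (ι := PUnit.{1}) (fun _ => x)
    (fun _ => rfl) (fun _ => hx)
  obtain ⟨V, v, hvV, hfin, hvx, hvu, huniq⟩ := hsplit PUnit.unit
  have := hu.etale
  refine ⟨U, g, u, hu.etale, hu.base_eq, hu.residue_bijective.2, V, v,
    ⟨Groth.Flatmor4.isClosed_of_isFinite_comp (pullback.snd f g) V, V.2⟩, hfin, hvV, hvx, hvu, ?_, ?_⟩
  · have hb : Function.Bijective (g.residueFieldMap (pullback.snd f g v)) :=
      hvu.symm ▸ hu.residue_bijective
    intro z
    have htop := Groth.Flatmor4.eq_top_of_range_le v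
      ((pullback.fst f g).residueFieldMap v).hom.fieldRange (fun a => ⟨a, rfl⟩) (fun a => ?_)
    · have hz := Subfield.mem_top z
      rw [← htop] at hz
      exact hz
    · obtain ⟨b, rfl⟩ := hb.2 a
      have hws : f (pullback.fst f g v) = g (pullback.snd f g v) :=
        congr($(pullback.condition (f := f) (g := g)) v)
      refine ⟨((S.residueFieldCongr hws).inv ≫ f.residueFieldMap _) b, ?_⟩
      have hr : ((S.residueFieldCongr hws).inv ≫ f.residueFieldMap _) ≫
          (pullback.fst f g).residueFieldMap v =
          g.residueFieldMap _ ≫ (pullback.snd f g).residueFieldMap v := by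
        simp only [Category.assoc]
        rw [← Scheme.residueFieldMap_comp, ← Scheme.residueFieldMap_comp,
          Scheme.Hom.residueFieldMap_congr pullback.condition]
        simp
      exact ConcreteCategory.congr_hom hr b
  · rintro w hwu (hw | hwx)
    · exact huniq w hw hwu
    · exact Groth.Flatmor4.eq_of_residueFieldMap_bijective (hwx.trans hvx.symm) (hwu.trans hvu.symm)
        (hwu.symm ▸ hu.residue_bijective)

end Groth.Agent.S0408
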