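import Groth.Statements.S2156
import Mathlib
import Groth.Agent.PropsBasic.LociBaseChange.Scheme

set_option autoImplicit false
universe u
open CategoryTheory AlgebraicGeometry
open Mor

namespace Groth.Agent.S2156

set_option backward.isDefEq.respectTransparency.types false

/-- Let `f : X → S` be locally of finite presentation and `x ∈ X` with image `s`. Then `f` is smooth at
`x` if and only if `O_{S,s} → O_{X,x}` is flat and the fibre `X_s → Spec κ(s)` is smooth at the
point corresponding to `x`. -/
theorem result {X S : Scheme.{u}} (f : X ⟶ S) [LocallyOfFinitePresentation f] (x : X)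
    [LocallyOfFinitePresentation (f.fiberToSpecResidueField (f.base x))] :
    x ∈ f.smoothLocus ↔
      (f.stalkMap x).hom.Flat ∧ f.asFiber x ∈ (f.fiberToSpecResidueField (f.base x)).smoothLocus := by
  refine ⟨fun hx => ⟨Groth.PropsBasic.Loci.flat_stalkMap_of_mem_smoothLocus hx, ?_⟩,
    fun ⟨h1, h2⟩ => Groth.PropsBasic.Loci.mem_smoothLocus_of_fiber h1 h2⟩
  exact Groth.PropsBasic.Loci.preimage_smoothLocus_le
    (CategoryTheory.IsPullback.of_hasPullback f (S.fromSpecResidueField (f x)))
    (show f.fiberι (f x) (f.asFiber x) ∈ f.smoothLocus by rw [f.fiberι_asFiber]; exact hx)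

end Groth.Agent.S2156
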