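import Groth.Statements.S15543
import Mathlib
-- import your own Groth.Agent.* helpers here

set_option autoImplicit false
open CategoryTheory AlgebraicGeometry
universe u
open ProCons

namespace Groth.Agent.S15543

section Helpers

open Topology
open scoped Set.Notation

theorem isLC_preimage {A B : Scheme.{u}} (f : A ⟶ B) {T : Set B}
    (hT : IsLocallyConstructible T) : IsLocallyConstructible (f ⁻¹' T) := by
  intro x
  obtain ⟨U, hxU, hU, H⟩ := hT (f x)
  refine ⟨f ⁻¹' U, f.continuous.continuousAt.preimage_mem_nhds hxU, hU.preimage f.continuous, ?_⟩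
  have := (f ∣_ ⟨U, hU⟩).isConstructible_preimage H
  have e : (f ∣_ ⟨U, hU⟩) ⁻¹' (U ↓∩ T) = ((f ⁻¹ᵁ ⟨U, hU⟩ : A.Opens) : Set A) ↓∩ (f ⁻¹' T) := by
    ext y
    simp only [Set.mem_preimage, morphismRestrict_base]
    rfl
  rw [e] at this
  exact this

end Helpers

/-- The ind-constructible case. Let f : X ⟶ Y be any morphism of schemes and T an ind-constructible
subset of Y (locally on Y a union of locally constructible subsets). Then the preimage of T under f
is ind-constructible in X. -/
theorem result {X Y : Scheme.{u}} (f : X ⟶ Y) (T : Set Y)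
    (hT : ProCons.IsIndConstructible T) :
    ProCons.IsIndConstructible (f.base ⁻¹' T) := by
  intro x
  obtain ⟨U, hU, hx, S, hS, e⟩ := hT (f x)
  refine ⟨f ⁻¹' U, hU.preimage f.continuous, hx,
    (fun W => (f ∣_ ⟨U, hU⟩) ⁻¹' W) '' S, ?_, ?_⟩
  · rintro _ ⟨W, hW, rfl⟩
    exact isLC_preimage (f ∣_ ⟨U, hU⟩) (hS W hW)
  · rw [Set.sUnion_image]
    ext y
    have := Set.ext_iff.mp e ⟨f y.1, y.2⟩
    simp only [Set.mem_preimage, Set.mem_sUnion, Set.mem_iInter, Set.mem_iUnion, exists_prop,
      morphismRestrict_base] at this ⊢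
    exact this

end Groth.Agent.S15543
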