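import Groth.Statements.S5758
import Groth.Agent.EGA41Two.CMPrime

set_option autoImplicit false
universe u
open EGA41

namespace Groth.Agent.S5758

open RingTheory.Sequence in
theorem le_quotient_ofList (A : Type u) [CommRing A] [IsLocalRing A] [IsNoetherianRing A] :
    ∀ (xs : List A) (M : Type u) [AddCommGroup M] [Module A M] [Module.Finite A M],
      (∀ x ∈ xs, x ∈ IsLocalRing.maximalIdeal A) →
      Module.supportDim A M ≤
        Module.supportDim A (M ⧸ (Ideal.ofList xs • (⊤ : Submodule A M))) + (xs.length : WithBot ℕ∞) := by
  intro xs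
  induction xs with
  | nil =>
    intro M _ _ _ _
    rw [Module.supportDim_eq_of_equiv (Submodule.quotEquivOfEqBot _ (by simp))]
    simp
  | cons x xs ih =>
    intro M _ _ _ hmem
    simp only [List.mem_cons, forall_eq_or_imp] at hmem
    rw [Module.supportDim_eq_of_equiv (Submodule.quotOfListConsSMulTopEquivQuotSMulTopInner M x xs),
      List.length_cons, Nat.cast_succ, ← add_assoc]
    exact (Module.supportDim_le_supportDim_quotSMulTop_succ hmem.1).trans
      (add_le_add (ih (QuotSMulTop x M) hmem.2) le_rfl)

open RingTheory.Sequence Groth.LocCohBase in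
theorem aux (A : Type u) [CommRing A] [IsLocalRing A] [IsNoetherianRing A] :
    ∀ (xs : List A) (M : Type u) [AddCommGroup M] [Module A M] [Module.Finite A M],
      LocCoh.IsCohenMacaulayModule A M → (∀ x ∈ xs, x ∈ IsLocalRing.maximalIdeal A) →
      Module.supportDim A (M ⧸ (Ideal.ofList xs • (⊤ : Submodule A M))) + xs.length = Module.supportDim A M →
      IsWeaklyRegular M xs := by
  intro xs
  induction xs with
  | nil => intro M _ _ _ _ _ _; exact IsWeaklyRegular.nil A M
  | cons x xs ih =>
    intro M _ _ _ hM hmem h
    simp only [List.mem_cons, forall_eq_or_imp] at hmem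
    have := nontrivial_of_CM hM
    rw [Module.supportDim_eq_of_equiv (Submodule.quotOfListConsSMulTopEquivQuotSMulTopInner M x xs),
      List.length_cons, Nat.cast_succ, ← add_assoc] at h
    have : Nontrivial (QuotSMulTop x M) := Submodule.Quotient.nontrivial_iff.mpr fun heq =>
      Submodule.top_ne_pointwise_smul_of_mem_jacobson_annihilator
        (IsLocalRing.maximalIdeal_le_jacobson _ hmem.1) heq.symm
    have hle2 : Module.supportDim A (QuotSMulTop x M) ≤
        Module.supportDim A (QuotSMulTop x M ⧸ (Ideal.ofList xs • (⊤ : Submodule A (QuotSMulTop x M)))) +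
          (xs.length : WithBot ℕ∞) := le_quotient_ofList A xs _ hmem.2
    have hreg : IsSMulRegular M x := by
      by_contra hx
      obtain ⟨q, hq, hxq⟩ : ∃ q ∈ associatedPrimes A M, x ∈ q := by
        by_contra! hall
        apply hx
        have h1 : x ∉ ⋃ p ∈ associatedPrimes A M, (p : Set A) := by simpa using hall
        rw [biUnion_associatedPrimes_eq_zero_divisors] at h1
        intro b c hbc
        by_contra hne
        exact h1 ⟨b - c, sub_ne_zero.mpr hne, by rw [smul_sub]; exact sub_eq_zero.mpr hbc⟩
      have hqprime := hq.isPrime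
      have h1 : (⟨q, hq.isPrime⟩ : PrimeSpectrum A) ∈ Module.support A (QuotSMulTop x M) := by
        rw [Module.support_quotSMulTop]
        refine ⟨Module.mem_support_iff_of_finite.2 ?_, by simpa using hxq⟩
        exact le_of_eq_of_le Submodule.annihilator_top.symm (IsAssociatedPrime.annihilator_le hq)
      have h2 : Module.supportDim A M ≤ Module.supportDim A (QuotSMulTop x M) := by
        rw [← ringKrullDim_quotient_eq_of_CM hM hq, ← Groth.EGA41Two.supportDim_quotient_smul_top _ h1]
        exact Module.supportDim_le_of_surjective _ (Submodule.mkQ_surjective _)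
      obtain ⟨d, hd⟩ := exists_depth_eq (R := A) M
      have hMd : Module.supportDim A M = (d : WithBot ℕ∞) := by
        rw [show Module.supportDim A M = _ from hM, hd]; rfl
      have h3 := h.le.trans (h2.trans hle2)
      rw [← h] at hMd
      revert hMd h3
      generalize Module.supportDim A (QuotSMulTop x M ⧸ (Ideal.ofList xs • (⊤ : Submodule A (QuotSMulTop x M)))) = e
      intro hMd h3
      induction e with
      | bot => simp at hMd
      | coe e =>
        induction e with
        | top =>
          have hh : (((⊤ : ℕ∞) + (xs.length : ℕ∞) + 1 : ℕ∞) : WithBot ℕ∞) = ((d : ℕ∞) : WithBot ℕ∞) := by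
            rw [WithBot.coe_add, WithBot.coe_add]; exact hMd
          rw [top_add, top_add, WithBot.coe_inj] at hh
          exact absurd hh (ENat.top_ne_coe d)
        | coe e => norm_cast at h3; omega
    refine (isWeaklyRegular_cons_iff _ _ _).2 ⟨hreg, ih _ (isCM_quotSMulTop hM hmem.1 hreg) hmem.2 ?_⟩
    have h4 := Module.supportDim_quotSMulTop_succ_eq_supportDim hreg hmem.1
    rw [← h4] at h
    exact ENat.WithBot.add_one_cancel.mp h


/-- Let A be a Noetherian local ring, M a nonzero finitely generated Cohen-Macaulay A-module and x_1,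
..., x_r elements of the maximal ideal. The sequence (x_i) is M-regular if and only if dim(M/(x_1 M
+ ... + x_r M)) = dim(M) - r, i.e. if and only if the x_i are part of a system of parameters for M;
and when this holds the quotient M/(x_1 M + ... + x_r M) is again a Cohen-Macaulay module. -/
theorem result (A : Type u) [CommRing A]
    [IsLocalRing A] [IsNoetherianRing A] (M : Type u) [AddCommGroup M] [Module A M] [Module.Finite A M]
    (hM : LocCoh.IsCohenMacaulayModule A M) (xs : List A) (hxs : ∀ x ∈ xs, x ∈ IsLocalRing.maximalIdeal A) :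
    (RingTheory.Sequence.IsWeaklyRegular M xs ↔
        Module.supportDim A (M ⧸ (Ideal.ofList xs • (⊤ : Submodule A M))) + xs.length =
          Module.supportDim A M) ∧
      (RingTheory.Sequence.IsWeaklyRegular M xs →
        LocCoh.IsCohenMacaulayModule A (M ⧸ (Ideal.ofList xs • (⊤ : Submodule A M)))) := by
  have := Groth.LocCohBase.nontrivial_of_CM hM
  refine ⟨⟨fun h => Groth.EGA41Two.supportDim_quotient_ofList hxs h, ?_⟩,
    Groth.EGA41Two.isCM_quotient_ofList xs M hM hxs⟩
  exact aux A xs M hM hxs

end Groth.Agent.S5758
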