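import Groth.Statements.S5692
import Groth.Agent.S8875
import Groth.Agent.S8872
import Groth.Agent.S8874
import Groth.Agent.HilbPts.Basic

set_option autoImplicit false
universe u
open CategoryTheory CategoryTheory.Limits AlgebraicGeometry
open FGA

namespace Groth.Agent.S5692

/-- Let S be a locally Noetherian scheme, M a coherent module on S and r a natural number. Then there is
an immersion e : Z ⟶ S with the following universal property: for every scheme T and every morphism
g : T ⟶ S, the pullback of M along g is locally free of rank r if and only if g factors through e.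
If moreover M is generated by r sections on a neighbourhood of every point of S (equivalently all
fibres of M have rank at most r), then e is a closed immersion. -/
theorem result (S : Scheme.{u}) [IsLocallyNoetherian S]
    (M : S.Modules) (hM : Coh.IsCoh M) (r : ℕ) :
    ∃ (Z : Scheme.{u}) (e : Z ⟶ S), IsImmersion e ∧
      (∀ (T : Scheme.{u}) (g : T ⟶ S),
        FlatMod.IsFinLocFreeOfRank r ((Scheme.Modules.pullback g).obj M) ↔ ∃ g' : T ⟶ Z, g' ≫ e = g) ∧
      ((∀ s : ↥S, ∃ U : S.Opens, s ∈ U ∧ ∃ p : FlatMod.freeMod (↑U) r ⟶ M.restrict U.ι, Epi p) →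
        IsClosedImmersion e) := by
  have hqc : Coh.IsQCoh M := hM.1
  have hft : CohB1.IsFT M := hM.2
  haveI : M.IsQuasicoherent := hM.1
  have hmono : ∀ {k : ℕ}, r ≤ k → ∀ {s : S}, s ∉ (Fitt.sheafIdeal M r).support →
      s ∉ (Fitt.sheafIdeal M k).support := by
    intro k hk s hs
    obtain ⟨v, hv⟩ := (Groth.RefRank.FittSheaf.notMem_support_iff_spans M hft r s).1 hs
    refine (Groth.RefRank.FittSheaf.notMem_support_iff_spans M hft k s).2
      ⟨fun i => if h : (i : ℕ) < r then v ⟨i, h⟩ else 0, top_le_iff.1 ?_⟩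
    rw [← hv]
    refine Submodule.span_mono ?_
    rintro _ ⟨i, rfl⟩
    refine ⟨⟨i, i.2.trans_le hk⟩, ?_⟩
    simp only [dif_pos i.2, Fin.eta]
  let J : S.IdealSheafData := (Finset.range r).sup fun k => Fitt.sheafIdeal M k
  let U : S.Opens := ⟨((Fitt.sheafIdeal M r).support : Set S)ᶜ,
    (Fitt.sheafIdeal M r).support.isClosed.isOpen_compl⟩
  have key : ∀ (T : Scheme.{u}) (g : T ⟶ S),
      FlatMod.IsFinLocFreeOfRank r ((Scheme.Modules.pullback g).obj M) ↔
        (J ≤ g.ker ∧ Set.range g.base ⊆ (U : Set S)) := by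
    intro T g
    have hq : ((Scheme.Modules.pullback g).obj M).IsQuasicoherent := inferInstance
    have hf : CohB1.IsFT ((Scheme.Modules.pullback g).obj M) :=
      Groth.QCohMod.isFT_pullback g M hft
    rw [Groth.Agent.S8875.result T _ hq hf r]
    simp only [← Groth.Agent.S8872.result g M hqc hft]
    refine and_congr ?_ ?_
    · rw [Finset.sup_le_iff]
      refine forall_congr' fun k => ?_
      rw [Finset.mem_range, ← Scheme.IdealSheafData.map_bot, Scheme.IdealSheafData.le_map_iff_comap_le, le_bot_iff]
    · constructor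
      · rintro h _ ⟨t, rfl⟩ (ht : g t ∈ (Fitt.sheafIdeal M r).support)
        have h1 := congrArg (fun I : T.IdealSheafData => (I.support : Set T)) (h r le_rfl)
        simp only [Scheme.IdealSheafData.support_comap, Scheme.IdealSheafData.support_top] at h1
        exact (h1 ▸ (show t ∈ ((Fitt.sheafIdeal M r).support.preimage g.continuous : Set T) from ht) :)
      · intro h k hk
        rw [← Scheme.IdealSheafData.support_eq_bot_iff, Scheme.IdealSheafData.support_comap]
        refine TopologicalSpace.Closeds.ext (Set.eq_empty_iff_forall_notMem.2 fun t ht => ?_)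
        exact hmono hk (fun hr => h ⟨t, rfl⟩ hr) ht
  let e := (J.comap U.ι).subschemeι ≫ U.ι
  refine ⟨_, e, inferInstance, fun T g => ?_, fun hgen => ?_⟩
  · rw [key]
    constructor
    · rintro ⟨hJ, hU⟩
      let g₁ : T ⟶ (U : Scheme.{u}) := IsOpenImmersion.lift U.ι g (by rwa [Scheme.Opens.range_ι])
      have hg₁ : g₁ ≫ U.ι = g := IsOpenImmersion.lift_fac _ _ _
      obtain ⟨z, hz⟩ := (Groth.HilbPts.le_ker_iff (J.comap U.ι) g₁).1 (by
        rw [← Scheme.IdealSheafData.map_bot, Scheme.IdealSheafData.le_map_iff_comap_le,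
          ← Scheme.IdealSheafData.comap_comp, hg₁, ← Scheme.IdealSheafData.le_map_iff_comap_le,
          Scheme.IdealSheafData.map_bot]
        exact hJ)
      exact ⟨z, by rw [← hg₁, ← hz, Category.assoc]⟩
    · rintro ⟨z, rfl⟩
      refine ⟨?_, ?_⟩
      · rw [← Scheme.IdealSheafData.map_bot, Scheme.IdealSheafData.le_map_iff_comap_le,
          ← Category.assoc, Scheme.IdealSheafData.comap_comp,
          ← Scheme.IdealSheafData.le_map_iff_comap_le, Scheme.IdealSheafData.map_bot]
        exact (Groth.HilbPts.le_ker_iff _ _).2 ⟨z, rfl⟩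
      · rintro _ ⟨t, rfl⟩
        exact ((J.comap U.ι).subschemeι (z t)).2
  · have hU : U = ⊤ := top_le_iff.1 fun s _ => by
      obtain ⟨V, hsV, π, hπ⟩ := hgen s
      exact (Groth.Agent.S8874.result S M hqc hft s r).1 ⟨V, hsV, π, hπ⟩
    haveI : IsIso U.ι := by rw [hU]; exact inferInstanceAs (IsIso S.topIso.hom)
    infer_instance

end Groth.Agent.S5692
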