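import Groth.Statements.S0389
import Groth.Agent.GenericFree.Presentation

set_option autoImplicit false
universe u
open FlatMor

namespace Groth.Agent.S0389

open TensorProduct in
/-- Generic freeness: over a domain, for a finite type algebra and a finite module over it, after
inverting one nonzero element of the base the algebra and the module become free over the base, the
algebra becomes finitely presented over the base and the module finitely presented over the algebra. -/
theorem result {R S M : Type u} [CommRing R] [IsDomain R] [CommRing S] [Algebra R S] [Algebra.FiniteType R S] [AddCommGroup M] [Module S M] [Module R M] [IsScalarTower R S M] [Module.Finite S M] :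
    ∃ f : R, f ≠ 0 ∧ Module.Free (Localization.Away f) (Localization.Away f ⊗[R] M) ∧
      Module.Free (Localization.Away f) (Localization.Away f ⊗[R] S) ∧
      Algebra.FinitePresentation (Localization.Away f) (Localization.Away f ⊗[R] S) ∧
      Module.FinitePresentation (Localization.Away (algebraMap R S f)) (LocalizedModule (Submonoid.powers (algebraMap R S f)) M) := by
  obtain ⟨f₁, hf₁, hfree₁, -⟩ := (Groth.GenericFree.gf_of_finiteType (R := R) S M).exists_free
  obtain ⟨f₂, hf₂, hfree₂, -⟩ := (Groth.GenericFree.gf_of_finiteType (R := R) S S).exists_free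
  obtain ⟨f₃, hf₃, hfp⟩ := Groth.GenericFree.exists_finitePresentation_tensor (R := R) S
  obtain ⟨f₄, hf₄, m, π, U', hπ, hfg, hle, hsat⟩ := Groth.GenericFree.exists_fg_relations (R := R) S M
  have hd₁ : f₁ ∣ f₁ * f₂ * f₃ * f₄ := ((dvd_mul_right f₁ f₂).mul_right f₃).mul_right f₄
  have hd₂ : f₂ ∣ f₁ * f₂ * f₃ * f₄ := ((dvd_mul_left f₂ f₁).mul_right f₃).mul_right f₄
  have hd₃ : f₃ ∣ f₁ * f₂ * f₃ * f₄ := (dvd_mul_left f₃ (f₁ * f₂)).mul_right f₄
  have hd₄ : f₄ ∣ f₁ * f₂ * f₃ * f₄ := dvd_mul_left f₄ _
  have hne : f₁ * f₂ * f₃ * f₄ ≠ 0 := mul_ne_zero (mul_ne_zero (mul_ne_zero hf₁ hf₂) hf₃) hf₄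
  have := hfree₁ _ hne hd₁
  have := hfree₂ _ hne hd₂
  exact ⟨_, hne, Module.Free.of_equiv (LocalizedModule.equivTensorProduct _ M),
    Module.Free.of_equiv (LocalizedModule.equivTensorProduct _ S), hfp _ hd₃,
    Groth.GenericFree.finitePresentation_localizedModule π hπ U' hfg hle _ (hsat _ hd₄)⟩

end Groth.Agent.S0389
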