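import Groth.Statements.S7194
import Groth.Agent.Reductive.HomScheme.Global

set_option autoImplicit false
universe u
open CategoryTheory AlgebraicGeometry
open FlatMor

namespace Groth.Agent.S7194

open MonoidalCategory CartesianMonoidalCategory

/-- For a finite locally free morphism Z → S and an affine morphism X → S, the functor on S-schemes
sending T to the set of S-morphisms T ×_S Z → X is represented by an S-scheme W whose structure
morphism W → S is affine. -/
theorem result {Z X S : Scheme.{u}} (g : Z ⟶ S) (f : X ⟶ S) (hg : Mor2.IsFinLocFree g) [IsAffineHom f] :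
    ∃ W : Over S, IsAffineHom W.hom ∧ Nonempty ((Flatn.morS g f).RepresentableBy W) := by
  obtain ⟨h1, h2, h3⟩ := hg
  haveI : IsFinite (Over.mk g).hom := h1
  haveI : Flat (Over.mk g).hom := h2
  haveI : LocallyOfFinitePresentation (Over.mk g).hom := h3
  haveI : IsAffineHom (Over.mk f).hom := ‹IsAffineHom f›
  obtain ⟨M, ev, hM, hu, -, -⟩ := Groth.Reductive.HomScheme.exists_homScheme (Over.mk g) (Over.mk f)
  let σ : ∀ T : Over S, (Over.map g).obj ((Over.pullback g).obj T) ≅ (Over.mk g) ⊗ T := fun T =>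
    Over.isoMk (Limits.pullbackSymmetry T.hom g) (by
      show _ ≫ Limits.pullback.fst g T.hom ≫ g = Limits.pullback.snd T.hom g ≫ g
      rw [Limits.pullbackSymmetry_hom_comp_fst_assoc])
  have hσ : ∀ {T T' : Over S} (m : T' ⟶ T),
      (Over.map g).map ((Over.pullback g).map m) ≫ (σ T).hom = (σ T').hom ≫ ((Over.mk g) ◁ m) := by
    intro T T' m
    refine Over.OverMorphism.ext (Limits.pullback.hom_ext ?_ ?_)
    · have e : ((Over.mk g) ◁ m).left ≫ Limits.pullback.fst g T.hom = Limits.pullback.fst g T'.hom :=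
        congrArg (fun z => z.left) (whiskerLeft_fst (Over.mk g) m)
      refine (Category.assoc _ _ _).trans (Eq.trans ?_ (Category.assoc _ _ _).symm)
      refine (congrArg (_ ≫ ·) (Limits.pullbackSymmetry_hom_comp_fst _ _)).trans ?_
      refine (Limits.pullback.lift_snd _ _ _).trans ?_
      exact ((congrArg (_ ≫ ·) e).trans (Limits.pullbackSymmetry_hom_comp_fst _ _)).symm
    · have e : ((Over.mk g) ◁ m).left ≫ Limits.pullback.snd g T.hom = Limits.pullback.snd g T'.hom ≫ m.left :=
        congrArg (fun z => z.left) (whiskerLeft_snd (Over.mk g) m)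
      refine (Category.assoc _ _ _).trans (Eq.trans ?_ (Category.assoc _ _ _).symm)
      refine (congrArg (_ ≫ ·) (Limits.pullbackSymmetry_hom_comp_snd _ _)).trans ?_
      refine (Limits.pullback.lift_fst _ _ _).trans ?_
      refine ((congrArg (_ ≫ ·) e).trans ?_).symm
      exact (Category.assoc _ _ _).symm.trans (congrArg (· ≫ m.left) (Limits.pullbackSymmetry_hom_comp_snd _ _))
  refine ⟨M, hM, ⟨{
    homEquiv := fun {T} => Equiv.ofBijective
      (fun v : T ⟶ M => ((σ T).hom ≫ ((Over.mk g) ◁ v) ≫ ev : (Flatn.morS g f).obj (Opposite.op T))) ?_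
    homEquiv_comp := ?_ }⟩⟩
  · constructor
    · intro v v' e
      obtain ⟨w, -, hw⟩ := hu T (((Over.mk g) ◁ v) ≫ ev)
      exact (hw v rfl).trans (hw v' ((cancel_epi (σ T).hom).mp e).symm).symm
    · intro a
      obtain ⟨w, hw, -⟩ := hu T ((σ T).inv ≫ a)
      refine ⟨w, ?_⟩
      exact (congrArg ((σ T).hom ≫ ·) hw).trans ((σ T).hom_inv_id_assoc a)
  · intro T' T m v
    show (σ T').hom ≫ ((Over.mk g) ◁ (m ≫ v)) ≫ ev = (Over.map g).map ((Over.pullback g).map m) ≫
      (σ T).hom ≫ ((Over.mk g) ◁ v) ≫ ev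
    rw [whiskerLeft_comp, reassoc_of% (hσ m)]
    simp only [Category.assoc]

end Groth.Agent.S7194
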