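import Groth.Statements.S9778
import Groth.Agent.Flatmor4.QuasiFiniteSplit

set_option autoImplicit false
universe u
open FlatMor

namespace Groth.Agent.S9778

open AlgebraicGeometry CategoryTheory Limits in
/-- Let f : X ⟶ S be separated and locally of finite type, s a point of S and x_1, …, x_n pairwise
distinct points of X over s at which f is quasi-finite (isolated points of the fibre). Then there
are an étale morphism g : U ⟶ S with a point u over s and finitely many pairwise disjoint open and
closed subschemes V_{i,j} of X_U = X ×_S U, each finite over U and containing exactly one point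
v_{i,j} over u, with v_{i,j} mapping to x_i and κ(v_{i,j}) purely inseparable over κ(u), such that
every point of X_U over u mapping to some x_i lies in one of the V_{i,j} (so the open and closed
complement W of their union has no point over u mapping to any x_i). -/
theorem result {X S : Scheme.{u}} (f : X ⟶ S) [LocallyOfFiniteType f] [IsSeparated f] (s : S)
    {ι : Type} [Finite ι] (x : ι → ↑X) (hinj : Function.Injective x) (hs : ∀ i, f (x i) = s) (hx : ∀ i, f.QuasiFiniteAt (x i)) :
    ∃ (U : Scheme.{u}) (g : U ⟶ S) (u : U), Etale g ∧ g u = s ∧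
      ∃ (J : ι → Type) (_ : ∀ i, Finite (J i)) (V : ∀ i, J i → (pullback f g).Opens) (v : ∀ i, J i → ↑(pullback f g)),
        (∀ i j, IsClopen ((V i j : Set ↑(pullback f g)))) ∧
        (∀ i j i' j', ((V i j : Set ↑(pullback f g)) ∩ (V i' j')).Nonempty → i = i' ∧ HEq j j') ∧
        (∀ i j, v i j ∈ V i j ∧ IsFinite ((V i j).ι ≫ pullback.snd f g) ∧ pullback.snd f g (v i j) = u ∧
          (∀ w : ↑(pullback f g), w ∈ V i j → pullback.snd f g w = u → w = v i j) ∧
          (letI := ((pullback.snd f g).residueFieldMap (v i j)).hom.toAlgebra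
           IsPurelyInseparable ↑(U.residueField (pullback.snd f g (v i j))) ↑((pullback f g).residueField (v i j))) ∧
          pullback.fst f g (v i j) = x i) ∧
        (∀ (w : ↑(pullback f g)) (i : ι), pullback.snd f g w = u → pullback.fst f g w = x i → ∃ j, w ∈ V i j) := by
  obtain ⟨U, g, u, hg, hu, J, hJ, V, v, h1, h2, h3⟩ :=
    Groth.Flatmor4.exists_split_purelyInseparable f s x hinj hs hx
  have hclosed : ∀ i j, IsClosed (V i j : Set ↑(pullback f g)) := fun i j =>
    have := (h1 i j).2.1
    Groth.Flatmor4.isClosed_of_isFinite_comp (pullback.snd f g) (V i j)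
  let other : ∀ i, J i → Set ↑(pullback f g) := fun i j =>
    ⋃ p : {p : Σ i, J i // p ≠ ⟨i, j⟩}, (V p.1.1 p.1.2 : Set ↑(pullback f g))
  have hfinite : Finite (Σ i, J i) := inferInstance
  have hother : ∀ i j, IsClosed (other i j) := fun i j =>
    isClosed_iUnion_of_finite fun p => hclosed _ _
  let V' : ∀ i, J i → (pullback f g).Opens := fun i j => V i j ⊓ ⟨(other i j)ᶜ, (hother i j).isOpen_compl⟩
  have hv : ∀ i j, v i j ∈ V' i j := by
    refine fun i j => ⟨(h1 i j).1, fun hmem => ?_⟩
    obtain ⟨⟨⟨i', j'⟩, hne⟩, hmem⟩ := Set.mem_iUnion.mp hmem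
    obtain ⟨rfl, hj⟩ := h2 i j i' j' ((h1 i' j').2.2.2.1 _ hmem (h1 i j).2.2.1)
    cases hj
    exact hne rfl
  have hclopen : ∀ i j, IsClopen (V' i j : Set ↑(pullback f g)) := fun i j => by
    refine ⟨?_, (V' i j).2⟩
    have hopen : IsOpen (other i j) := isOpen_iUnion fun p => (V p.1.1 p.1.2).2
    exact (hclosed i j).inter hopen.isClosed_compl
  refine ⟨U, g, u, hg, hu, J, hJ, V', v, hclopen, ?_, fun i j => ?_, ?_⟩
  · rintro i j i' j' ⟨w, ⟨hw, hwn⟩, hw', -⟩
    by_contra hne
    refine hwn (Set.mem_iUnion.mpr ⟨⟨⟨i', j'⟩, fun h => hne ?_⟩, hw'⟩)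
    cases h
    exact ⟨rfl, HEq.rfl⟩
  · obtain ⟨-, hfin, hvu, huniq, ⟨-, hpi⟩, hvx⟩ := h1 i j
    refine ⟨hv i j, ?_, hvu, fun w hw => huniq w hw.1, hpi, hvx⟩
    have hle : V' i j ≤ V i j := inf_le_left
    have : IsClosedImmersion ((pullback f g).homOfLE hle) := by
      refine .of_isPreimmersion _ ?_
      have : Set.range ((pullback f g).homOfLE hle) = Subtype.val ⁻¹' (V' i j : Set ↑(pullback f g)) := by
        rw [← Scheme.Hom.coe_opensRange, Scheme.opensRange_homOfLE]; rfl
      rw [this]
      exact (hclopen i j).1.preimage continuous_subtype_val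
    rw [← Scheme.homOfLE_ι _ hle, Category.assoc]
    infer_instance
  · intro w i hwu hwx
    obtain ⟨j, rfl⟩ := h3 w i hwu hwx
    exact ⟨j, hv i j⟩

end Groth.Agent.S9778
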