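import Groth.Statements.S0269
import Groth.Agent.Pi1Field.Sep
import Mathlib.AlgebraicGeometry.Morphisms.FlatMono
import Mathlib.RingTheory.Etale.Field

set_option backward.isDefEq.respectTransparency false
set_option linter.style.haveILetI false

set_option autoImplicit false
universe u
open Pi1

namespace Groth.Agent.S0269

open AlgebraicGeometry CategoryTheory CategoryTheory.Limits in
/-- Functor form of the injectivity of pi_1(X_{kbar}) -> pi_1(X): Let X be quasi-compact and
quasi-separated over a field k with X_{kbar} connected. Every finite etale cover of X_{kbar} admits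
an open and closed immersion, over X_{kbar}, into the base change of some finite etale cover of X. -/
theorem result (k : Type u) [Field k] {X : Scheme.{u}} (f : X ⟶ Spec (CommRingCat.of k)) [CompactSpace X]
    [QuasiSeparatedSpace X]
    [ConnectedSpace ↥(pullback f (Spec.map (CommRingCat.ofHom (algebraMap k (AlgebraicClosure k)))))]
    (V : FEt.Cat (pullback f (Spec.map (CommRingCat.ofHom (algebraMap k (AlgebraicClosure k)))))) :
    ∃ (U : FEt.Cat X) (ι : V ⟶ (FEt.restrict (pullback.fst f (Spec.map (CommRingCat.ofHom (algebraMap k (AlgebraicClosure k)))))).obj U),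
      IsOpenImmersion ι.left ∧ IsClosedImmersion ι.left := by
  let p := Groth.Pi1Field.proj (AlgebraicClosure k) f (Groth.Pi1Field.sepLvl k)
  haveI := Groth.Pi1Field.isEquivalence_restrict_proj_sep f
  let Vs := (FEt.restrict p).objPreimage V
  obtain ⟨L, hL, hV⟩ := Groth.Pi1Field.exists_descend (Groth.Pi1Field.sepLvl k) f Vs
  haveI := hL
  obtain ⟨VL, ⟨φ⟩⟩ := hV L le_rfl
  let r := Groth.Pi1Field.proj (Groth.Pi1Field.sepLvl k) f L
  let c := p ≫ r
  let Φ : (FEt.restrict c).obj VL ≅ V := (Groth.Pi1FEt.restrictCompIso p r).app VL ≪≫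
    (FEt.restrict p).mapIso φ ≪≫ (FEt.restrict p).objObjPreimageIso V
  haveI : Algebra.Etale k L :=
    ⟨Algebra.FormallyEtale.of_isSeparable k L, Algebra.FinitePresentation.of_finiteType.mp inferInstance⟩
  haveI : IsFinite (Groth.Pi1Field.ext k L) :=
    (IsFinite.SpecMap_iff _).mpr (RingHom.finite_algebraMap.mpr inferInstance)
  haveI : Etale (Groth.Pi1Field.ext k L) :=
    (HasRingHomProperty.Spec_iff (P := @Etale)).mpr (RingHom.etale_algebraMap.mpr inferInstance)
  let gL : VL.left ⟶ pullback f (Groth.Pi1Field.ext k L) := VL.hom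
  haveI : IsFinite gL := VL.prop.1
  haveI : Etale gL := VL.prop.2
  let fL := pullback.fst f (Groth.Pi1Field.ext k L)
  haveI : IsFinite fL := MorphismProperty.pullback_fst _ _ inferInstance
  haveI : Etale fL := MorphismProperty.pullback_fst _ _ inferInstance
  let U : FEt.Cat X := MorphismProperty.Over.mk ⊤ (gL ≫ fL) ⟨inferInstance, inferInstance⟩
  let q := pullback.fst f (Groth.Pi1Field.geomPt k)
  have hc : c ≫ fL = q := by simp [c, p, r, fL, q]
  let j : pullback gL c ⟶ pullback (gL ≫ fL) q :=
    pullback.lift (pullback.fst gL c) (pullback.snd gL c) (by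
      rw [← hc, ← Category.assoc, pullback.condition, Category.assoc])
  have hj : j ≫ pullback.snd (gL ≫ fL) q = pullback.snd gL c := pullback.lift_snd _ _ _
  haveI : IsFinite (j ≫ pullback.snd (gL ≫ fL) q) := by rw [hj]; infer_instance
  haveI : Etale (j ≫ pullback.snd (gL ≫ fL) q) := by rw [hj]; infer_instance
  haveI : IsFinite (pullback.snd (gL ≫ fL) q) := MorphismProperty.pullback_snd _ _ inferInstance
  haveI : Etale (pullback.snd (gL ≫ fL) q) := MorphismProperty.pullback_snd _ _ inferInstance
  haveI : IsFinite j := IsFinite.of_comp j (pullback.snd (gL ≫ fL) q)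
  haveI : Etale j := Etale.of_comp j (pullback.snd (gL ≫ fL) q)
  haveI : Mono j := ⟨fun a b h => by
    apply pullback.hom_ext
    · simpa [j] using congrArg (· ≫ pullback.fst (gL ≫ fL) q) h
    · simpa [j] using congrArg (· ≫ pullback.snd (gL ≫ fL) q) h⟩
  haveI : IsOpenImmersion j := IsOpenImmersion.of_flat_of_mono j
  haveI : IsClosedImmersion j := IsClosedImmersion.of_isPreimmersion _ j.isClosedMap.isClosed_range
  let J : (FEt.restrict c).obj VL ⟶ (FEt.restrict q).obj U := MorphismProperty.Over.homMk j hj
  haveI : IsIso Φ.inv.left :=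
    ((MorphismProperty.Over.forget _ _ _ ⋙ Over.forget _).mapIso Φ.symm).isIso_hom
  refine ⟨U, Φ.inv ≫ J, ?_, ?_⟩
  · exact inferInstanceAs (IsOpenImmersion (Φ.inv.left ≫ j))
  · exact inferInstanceAs (IsClosedImmersion (Φ.inv.left ≫ j))

end Groth.Agent.S0269
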