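import Groth.Statements.S5117
import Groth.Agent.Pi1Field.GaloisQuot
import Mathlib.FieldTheory.Normal.Closure

set_option backward.isDefEq.respectTransparency false
set_option linter.style.haveILetI false

set_option autoImplicit false
universe u
open Pi1

namespace Groth.Agent.S5117

open AlgebraicGeometry CategoryTheory CategoryTheory.Limits in
/-- (ii bis) ⇒ (i), over a field. Let k be a field with algebraic closure k̄, X a quasi-compact and
quasi-separated k-scheme such that X ×_k k̄ is connected, and X' a connected finite etale cover of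
X. If the induced cover X' ×_k k̄ → X ×_k k̄ admits a section, then X' is isomorphic over X to X ×_k
S' for some finite etale k-scheme S'. (The published statement allows the spectrum of an Artinian
local ring with residue field k as base and asks only that X be quasi-compact; this row takes a
field and X quasi-compact and quasi-separated.) -/
theorem result (k : Type u) [Field k] {X : Scheme.{u}}
    (f : X ⟶ Spec (CommRingCat.of k)) [CompactSpace X] [QuasiSeparatedSpace X]
    [ConnectedSpace ↥(pullback f (Spec.map (CommRingCat.ofHom (algebraMap k (AlgebraicClosure k)))))]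
    (X' : FEt.Cat X) [ConnectedSpace X'.left]
    (σ : pullback f (Spec.map (CommRingCat.ofHom (algebraMap k (AlgebraicClosure k)))) ⟶ X'.left)
    (hσ : σ ≫ X'.hom = pullback.fst f (Spec.map (CommRingCat.ofHom (algebraMap k (AlgebraicClosure k))))) :
    ∃ S' : FEt.Cat (Spec (CommRingCat.of k)), Nonempty ((FEt.restrict f).obj S' ≅ X') := by
  let g : X'.left ⟶ X := X'.hom
  haveI : Etale g := X'.prop.2
  obtain ⟨τ, -, hτg⟩ := Groth.Pi1Field.exists_hom_sep f g σ hσ
  obtain ⟨L₀, hL₀, hb⟩ := Groth.Pi1Field.exists_descend_hom (Groth.Pi1Field.sepLvl k) f g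
    (fun _ : Fin 1 => τ) (fun _ => hτg)
  haveI := hL₀
  let L := IntermediateField.normalClosure k L₀ (Groth.Pi1Field.sepLvl k)
  haveI : IsGalois k (Groth.Pi1Field.sepLvl k) := inferInstance
  haveI : IsGalois k L := IsGalois.normalClosure k L₀ _
  obtain ⟨b, -, hbg⟩ := hb L (IntermediateField.le_normalClosure L₀) 0
  haveI : ConnectedSpace ↥(pullback f (Groth.Pi1Field.geomPt k)) := ‹_›
  let π := Groth.Pi1Field.proj (AlgebraicClosure k) f (Groth.Pi1Field.sepLvl k) ≫
    Groth.Pi1Field.proj (Groth.Pi1Field.sepLvl k) f L
  haveI : ConnectedSpace ↥(pullback f (Groth.Pi1Field.ext k L)) :=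
    π.surjective.connectedSpace π.continuous
  exact Groth.Pi1Field.exists_iso_of_point f L X' b hbg

end Groth.Agent.S5117
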