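import Groth.Statements.S0056
import Groth.Agent.GrothAlgz.Finite
import Groth.Agent.ModelsGraphs.InvAlgebraize
import Groth.Agent.AmpleFibre.Nhd
import Groth.Agent.Ega2Proj.RelAmple
import Groth.Agent.Variety2.ProjBasics

set_option maxHeartbeats 1000000
set_option linter.style.haveILetI false
set_option backward.isDefEq.respectTransparency.types false

set_option autoImplicit false
universe u
open Coherent

namespace Groth.Agent.S0056

open AlgebraicGeometry CategoryTheory CategoryTheory.Limits in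
/-- Grothendieck's algebraization Theorem, with a slightly weaker conclusion. Let A be a Noetherian ring
complete for an ideal I, and S_n = Spec(A/I^(n+1)). Given schemes X_n over S_n with transition maps
X_n → X_(n+1) making each X_n the base change of X_(n+1) to S_n, with X_0 → S_0 proper, and
invertible modules L_n on X_n with L_n ≅ (pullback of L_(n+1)) and L_0 ample, there exist a proper Y
→ Spec A, an ample invertible module M on Y and maps X_n → Y, compatible with the transition maps,
identifying X_n with Y ×_A S_n, under which L_n is isomorphic to the pullback of M. (The published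
statement also makes these isomorphisms compatible with the given ones L_n ≅ (pullback of L_(n+1));
that compatibility is not asserted here.) -/
theorem result (A : Type u) [CommRing A]
    [IsNoetherianRing A] (I : Ideal A) [IsAdicComplete I A]
    (Xs : ℕ → Scheme.{u}) (p : (n : ℕ) → (Xs n ⟶ Spec (CommRingCat.of (A ⧸ I ^ (n + 1)))))
    (i : (n : ℕ) → (Xs n ⟶ Xs (n + 1)))
    (hcart : ∀ n, IsPullback (i n) (p n) (p (n + 1)) (CohB1.specQuotTrans I n)) (hp : IsProper (p 0))
    (L : (n : ℕ) → (Xs n).Modules) (hL : ∀ n, PicF.IsInvertible (L n))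
    (φ : ∀ n, Nonempty ((Scheme.Modules.pullback (i n)).obj (L (n + 1)) ≅ L n)) (ha : CohB1.IsAmple (L 0)) :
    ∃ (Y : Scheme.{u}) (g : Y ⟶ Spec (CommRingCat.of A)) (M : Y.Modules) (e : (n : ℕ) → (Xs n ⟶ Y)),
      IsProper g ∧ PicF.IsInvertible M ∧ CohB1.IsAmple M ∧
      (∀ n, IsPullback (e n) (p n) g (CohB1.specQuot I n)) ∧ (∀ n, e n = i n ≫ e (n + 1)) ∧
      ∀ n, Nonempty ((Scheme.Modules.pullback (e n)).obj M ≅ L n) := by
  let S := Groth.CohTwo.AdicSch.ofCartesian I Xs p i hcart
  have hp0 := Groth.CohTwo.isProper_zero I Xs p i hcart hp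
  obtain ⟨m, j, hjf, hij, hj0⟩ := Groth.GrothAlgz.exists_maps (S := S) L
    (Groth.CohTwo.ker_toX_le I Xs p i hcart)
    (fun k => Groth.GrothAlgz.surjective_i I Xs p i hcart k) hL φ hp0 ha
  let f := CohB1.ProjSpace.toSpec m A
  let jj : ∀ k, Xs k ⟶ CohB1.ProjSpace m A := j
  haveI : IsClosedImmersion (jj 0) := hj0
  let D := Groth.GrothAlgz.mkData I Xs p i hcart f jj hjf hij
  have hpD : IsProper (D.p 0 ≫ f) := by
    show IsProper (jj 0 ≫ f)
    infer_instance
  obtain ⟨W, i', w, hi, hip, hw, -, hpb⟩ := Groth.FormalAlg.algebraize_finite D hpD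
  let g := i' ≫ f
  letI : W.Over (Spec (CommRingCat.of A)) := ⟨g⟩
  haveI : IsProper g := hip
  haveI : IsProper (W ↘ Spec (CommRingCat.of A)) := hip
  let w' : ∀ n, Xs n ⟶ W := w
  have hw' : ∀ n, w' n = i n ≫ w' (n + 1) := hw
  have hpb' : ∀ n, IsPullback (w' n) (p n) g (CohB1.specQuot I n) := hpb
  let E : ∀ n, Xs n ≅ Groth.ModelsGraphs.InvAlg.lvl I W n := fun n => (hpb' n).isoPullback
  have hE1 : ∀ n, (E n).hom ≫ Groth.ModelsGraphs.InvAlg.inc I W n = w' n :=
    fun n => (hpb' n).isoPullback_hom_fst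
  have hE2 : ∀ n, (E n).hom ≫ CohB1.thickToBase g I n = p n :=
    fun n => (hpb' n).isoPullback_hom_snd
  have hEt : ∀ n, (E n).hom ≫ Groth.ModelsGraphs.InvAlg.tr I W n = i n ≫ (E (n + 1)).hom := by
    intro n
    apply pullback.hom_ext
    · refine (Category.assoc _ _ _).trans (Eq.trans ?_ (Category.assoc _ _ _).symm)
      refine (congrArg ((E n).hom ≫ ·) (Groth.FormalAlg.thickTrans_ι g I n)).trans ?_
      exact (hE1 n).trans ((hw' n).trans (congrArg (i n ≫ ·) (hE1 (n + 1)).symm))
    · refine (Category.assoc _ _ _).trans (Eq.trans ?_ (Category.assoc _ _ _).symm)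
      refine (congrArg ((E n).hom ≫ ·)
        (show Groth.ModelsGraphs.InvAlg.tr I W n ≫ CohB1.thickToBase g I (n + 1) =
          CohB1.thickToBase g I n ≫ CohB1.specQuotTrans I n from pullback.lift_snd _ _ _)).trans ?_
      refine ((Category.assoc _ _ _).symm.trans (congrArg (· ≫ _) (hE2 n))).trans ?_
      exact (hcart n).w.symm.trans (congrArg (i n ≫ ·) (hE2 (n + 1)).symm)
  let L' : ∀ n, (Groth.ModelsGraphs.InvAlg.lvl I W n).Modules := fun n =>
    (Scheme.Modules.pullback (E n).inv).obj (L n)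
  have hL' : ∀ n, PicF.IsInvertible (L' n) := fun n =>
    Groth.PicAux.isInvertible_pullback _ (hL n)
  have hLt : ∀ n, Nonempty ((Scheme.Modules.pullback (Groth.ModelsGraphs.InvAlg.tr I W n)).obj
      (L' (n + 1)) ≅ L' n) := fun n => by
    have e : Groth.ModelsGraphs.InvAlg.tr I W n ≫ (E (n + 1)).inv = (E n).inv ≫ i n := by
      rw [Iso.eq_inv_comp, ← Category.assoc, hEt, Category.assoc, Iso.hom_inv_id, Category.comp_id]
    exact ⟨(Scheme.Modules.pullbackComp _ _).app _ ≪≫ (Scheme.Modules.pullbackCongr e).app _ ≪≫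
      ((Scheme.Modules.pullbackComp _ _).app _).symm ≪≫
      (Scheme.Modules.pullback (E n).inv).mapIso (φ n).some⟩
  obtain ⟨M, hM, hMe⟩ := Groth.ModelsGraphs.InvAlg.exists_invertible I W L' hL' hLt
  refine ⟨W, g, M, w', hip, hM, ?_, hpb', hw', fun n => ?_⟩
  · refine Groth.AmpleFibre.isAmple_of_quot g (IsAdicComplete.le_jacobson_bot I) hM ?_
    exact Groth.Ega2Proj.isAmple_of_iso (hMe 0).some.symm
      (Groth.AmpleFibre.isAmple_pullback_iso (E 0).symm ha)
  · exact ⟨((Scheme.Modules.pullbackCongr (hE1 n)).app M).symm ≪≫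
      ((Scheme.Modules.pullbackComp _ _).app M).symm ≪≫
      (Scheme.Modules.pullback (E n).hom).mapIso (hMe n).some ≪≫
      (Scheme.Modules.pullbackComp _ _).app (L n) ≪≫
      (Scheme.Modules.pullbackCongr (E n).hom_inv_id).app (L n) ≪≫
      (Scheme.Modules.pullbackId _).app (L n)⟩

end Groth.Agent.S0056
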