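import Groth.Statements.S19560
import Mathlib
-- import your own Groth.Agent.* helpers here

set_option autoImplicit false
universe u
open W4c1limliniiii

namespace Groth.Agent.S19560

open Polynomial in
/-- Let k be an algebraically closed field of characteristic p (a prime or zero) and let F, G be
polynomials spanning a base-point-free pencil V of degree d (a two-dimensional space of polynomials
of degree at most d containing one of degree d and with no common zero in k), so that V encodes a
degree-d self-map F/G of the projective line up to automorphisms of the target. Suppose the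
Wronskian W = F′G − FG′ is non-zero and vanishes at the point a to order exactly e − 1 with e ≥ 1,
and that p = 0 or e − 1 < p. Then the map is tamely ramified at a with index e: the largest order of
vanishing at a of a non-zero member of V is e, and p does not divide e. (The hypothesis W ≠ 0 makes
the order of vanishing meaningful; for W = 0 the map is inseparable.) -/
theorem result
    (k : Type u) [Field k] [IsAlgClosed k] (p : ℕ) [CharP k p]
    (d : ℕ) (F G : k[X]) (hV : W4c1limliniiii.IsPencil d (Submodule.span k {F, G}))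
    (hW : Polynomial.wronskian F G ≠ 0) (a : k) (e : ℕ)
    (he : (Polynomial.wronskian F G).rootMultiplicity a + 1 = e) (hp : p = 0 ∨ e - 1 < p) :
    W4c1limliniiii.HasRamIdx (Submodule.span k {F, G}) a e ∧ ¬ p ∣ e := by
  classical
  set V := Submodule.span k {F, G} with hVdef
  obtain ⟨hVle, hV2, ⟨_, -, -⟩, hbp⟩ := hV
  have hFV : F ∈ V := Submodule.subset_span (by simp)
  have hGV : G ∈ V := Submodule.subset_span (by simp)
  have hspan : ∀ s ∈ V, ∃ x y : k, s = x • F + y • G := fun s hs => by
    obtain ⟨x, y, h⟩ := Submodule.mem_span_pair.1 hs; exact ⟨x, y, h.symm⟩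
  -- a member vanishing at `a` and one not vanishing there
  obtain ⟨S, U, c, hc, hSV, hS0, hU0, hW', hall⟩ : ∃ (S U : k[X]) (c : k), c ≠ 0 ∧ S ∈ V ∧ S.eval a = 0 ∧ U.eval a ≠ 0 ∧
      Polynomial.wronskian S U = c • Polynomial.wronskian F G ∧ ∀ s ∈ V, ∃ x y : k, s = x • S + y • U := by
    by_cases hF : F.eval a = 0
    · have hG : G.eval a ≠ 0 := by
        intro hG
        obtain ⟨s, hs, hs'⟩ := hbp a
        obtain ⟨x, y, rfl⟩ := hspan s hs
        simp [hF, hG] at hs'
      exact ⟨F, G, 1, one_ne_zero, hFV, hF, hG, (one_smul _ _).symm, hspan⟩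
    · refine ⟨G.eval a • F - F.eval a • G, F, F.eval a, hF, sub_mem (V.smul_mem _ hFV) (V.smul_mem _ hGV), by simp [mul_comm], hF, ?_, ?_⟩
      · simp only [Polynomial.wronskian, Polynomial.smul_eq_C_mul, map_sub, Polynomial.derivative_mul, Polynomial.derivative_C]
        ring
      · intro s hs
        obtain ⟨x, y, rfl⟩ := hspan s hs
        refine ⟨-y / F.eval a, x + y * G.eval a / F.eval a, ?_⟩
        simp only [Polynomial.smul_eq_C_mul]
        simp only [div_eq_mul_inv, map_add, map_mul, map_neg]
        have hinv : Polynomial.C (F.eval a) * Polynomial.C (F.eval a)⁻¹ = 1 := by rw [← map_mul, mul_inv_cancel₀ hF, map_one]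
        linear_combination (-(Polynomial.C y * G)) * hinv
  have hW1 : Polynomial.wronskian S U ≠ 0 := by rw [hW']; exact smul_ne_zero hc hW
  have hS : S ≠ 0 := by rintro rfl; simp at hW1
  have hord : (Polynomial.wronskian S U).rootMultiplicity a = (Polynomial.wronskian F G).rootMultiplicity a := by
    rw [hW', Polynomial.smul_eq_C_mul, Polynomial.rootMultiplicity_mul (mul_ne_zero (Polynomial.C_ne_zero.2 hc) hW),
      Polynomial.rootMultiplicity_C, zero_add]
  set m := S.rootMultiplicity a with hm
  have hm1 : 1 ≤ m := (Polynomial.rootMultiplicity_pos hS).2 hS0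
  obtain ⟨q, hq, hqa⟩ := Polynomial.exists_eq_pow_rootMultiplicity_mul_and_not_dvd S hS a
  rw [Polynomial.dvd_iff_isRoot] at hqa
  obtain ⟨j, hj⟩ := Nat.exists_eq_add_of_le' hm1
  rw [← hm, hj] at hq
  set Q := (Polynomial.X - Polynomial.C a) * (q * Polynomial.derivative U - Polynomial.derivative q * U) - (((j + 1 : ℕ) : k[X])) * q * U with hQ
  have hWQ : Polynomial.wronskian S U = (Polynomial.X - Polynomial.C a) ^ j * Q := by
    rw [Polynomial.wronskian, hQ, hq, Polynomial.derivative_mul, Polynomial.derivative_X_sub_C_pow, Nat.add_sub_cancel, Polynomial.C_eq_natCast]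
    ring
  have hQa : Q.eval a = -(((j + 1 : ℕ) : k) * q.eval a * U.eval a) := by simp [hQ]
  have hQ0 : Q ≠ 0 := by intro h; rw [h, mul_zero] at hWQ; exact hW1 hWQ
  have hordQ : (Polynomial.wronskian S U).rootMultiplicity a = j + Q.rootMultiplicity a := by
    rw [hWQ, Polynomial.rootMultiplicity_mul (hWQ ▸ hW1), Polynomial.rootMultiplicity_X_sub_C_pow]
  clear_value Q
  have hqa' : q.eval a ≠ 0 := hqa
  have hcast : (((j + 1 : ℕ) : k)) = 0 ↔ p ∣ j + 1 := CharP.cast_eq_zero_iff k p (j + 1)
  have hnd : ¬ p ∣ j + 1 := by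
    intro hd
    rcases hp with rfl | hp
    · simp at hd
    · have h0 : Q.IsRoot a := by rw [Polynomial.IsRoot, hQa, hcast.2 hd]; simp
      have h1 := (Polynomial.rootMultiplicity_pos hQ0).2 h0
      have hle := Nat.le_of_dvd (by omega) hd
      omega
  have h2 : Q.rootMultiplicity a = 0 :=
    Polynomial.rootMultiplicity_eq_zero fun hr => by
      rw [Polynomial.IsRoot, hQa, neg_eq_zero] at hr
      rcases mul_eq_zero.1 hr with h' | h'
      · rcases mul_eq_zero.1 h' with h'' | h''
        · exact hnd (hcast.1 h'')
        · exact hqa' h''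
      · exact hU0 h' 
  have hem : e = m := by omega
  refine ⟨⟨⟨S, hSV, hS, hem.le⟩, fun s hs hs0 => ?_⟩, by rw [hem, hj]; exact hnd⟩
  obtain ⟨x, y, rfl⟩ := hall s hs
  by_cases hy : y = 0
  · subst hy
    have hx : x ≠ 0 := by rintro rfl; simp at hs0
    rw [zero_smul, add_zero, Polynomial.smul_eq_C_mul, Polynomial.rootMultiplicity_mul (mul_ne_zero (Polynomial.C_ne_zero.2 hx) hS),
      Polynomial.rootMultiplicity_C, zero_add, ← hm, hem]
  · rw [Polynomial.rootMultiplicity_eq_zero]
    · omega
    · simp [Polynomial.IsRoot, hS0, hy, hU0]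

end Groth.Agent.S19560
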