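import Groth.Statements.S0411
import Mathlib.AlgebraicGeometry.ZariskisMainTheorem
import Groth.Agent.FlatMorOne.FiniteAvoid

set_option autoImplicit false
universe u
open FlatMor

namespace Groth.Agent.S0411

open AlgebraicGeometry CategoryTheory Limits in
/-- For a separated, locally quasi-finite morphism (locally of finite type with discrete fibres) to an
affine scheme, every finite set of points of the source lies in an affine open. -/
theorem result {X Y : Scheme.{u}} (f : X ⟶ Y) [IsAffine Y] [IsSeparated f] [LocallyQuasiFinite f] [LocallyOfFiniteType f] (T : Finset ↑X) :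
    ∃ U : X.Opens, IsAffineOpen U ∧ ∀ x ∈ T, x ∈ U := by
  classical
  choose V hV hxV _ using fun x : X => exists_isAffineOpen_mem_and_subset (x := x) (U := ⊤) trivial
  let W : X.Opens := T.sup V
  have hTW : ∀ x ∈ T, x ∈ W := fun x hx => (Finset.le_sup (f := V) hx) (hxV x)
  have hWc : IsCompact (W : Set X) := by
    simp only [W, TopologicalSpace.Opens.coe_finset_sup]
    rw [Finset.sup_eq_iSup]
    exact T.isCompact_biUnion fun x _ => (hV x).isCompact
  let g := W.ι ≫ f
  have : CompactSpace W := isCompact_iff_compactSpace.mp hWc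
  have : QuasiCompact g := quasiCompact_of_compactSpace g
  have : IsAffine g.normalization := isAffine_of_isAffineHom g.fromNormalization
  let j := g.toNormalization
  obtain ⟨h, hT, hle⟩ := Groth.FlatMorOne.exists_basicOpen_finset j.opensRange
    (T.attach.image fun x : T => j ⟨(x : X), hTW x x.2⟩) (by
      intro z hz
      obtain ⟨w, _, rfl⟩ := Finset.mem_image.mp hz
      exact ⟨_, rfl⟩)
  refine ⟨W.ι ''ᵁ (j ⁻¹ᵁ g.normalization.basicOpen h),
    (((isAffineOpen_top _).basicOpen h).preimage_of_isOpenImmersion j hle).image_of_isOpenImmersion W.ι,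
    fun x hx => ⟨⟨x, hTW x hx⟩, ?_, rfl⟩⟩
  exact hT _ (Finset.mem_image.mpr ⟨⟨x, hx⟩, Finset.mem_attach _ _, rfl⟩)

end Groth.Agent.S0411
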