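import Groth.Statements.S2199
import Groth.Agent.FrobLCI.TorObs.Local

set_option autoImplicit false
universe u
open LCI

namespace Groth.Agent.S2199

/-- For a Noetherian local ring (A, m) and proper ideals I inside J such that A/J has finite
Tor-dimension as a module over A/I (canonical algebra structure), the map I/mI -> J/mJ is injective:
an element of I lying in mJ already lies in mI. -/
theorem result {A : Type u} [CommRing A] [IsNoetherianRing A] [IsLocalRing A]
    (I J : Ideal A) (hIJ : I ≤ J) (hJ : J ≠ ⊤) [Algebra (A ⧸ I) (A ⧸ J)]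
    [IsScalarTower A (A ⧸ I) (A ⧸ J)] (hfd : DRing.HasFiniteTorDim (A ⧸ I) (A ⧸ J))
    (x : A) (hx : x ∈ I) (hxm : x ∈ IsLocalRing.maximalIdeal A * J) :
    x ∈ IsLocalRing.maximalIdeal A * I := by
  classical
  by_contra hx'
  let mA := IsLocalRing.maximalIdeal A
  obtain ⟨(I' : Ideal A), ⟨h1, h2, h3⟩, hmax⟩ := set_has_maximal_iff_noetherian.mpr (inferInstance : IsNoetherian A A)
    {K : Ideal A | mA * I ≤ K ∧ K ≤ I ∧ x ∉ K} ⟨mA * I, le_rfl, Ideal.mul_le_right, hx'⟩
  have hgen : ∀ y ∈ I, ∃ c, y - c * x ∈ I' := by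
    intro y hy
    by_cases hyI : y ∈ I'
    · exact ⟨0, by simpa using hyI⟩
    have hlt : I' < I' ⊔ Ideal.span {y} :=
      lt_of_le_of_ne le_sup_left fun h => hyI (h ▸ Ideal.mem_sup_right (Ideal.mem_span_singleton_self y))
    have hxs : x ∈ I' ⊔ Ideal.span {y} := by
      by_contra hns
      exact hmax _ ⟨h1.trans le_sup_left, sup_le h2 ((Ideal.span_singleton_le_iff_mem _).mpr hy), hns⟩ hlt
    obtain ⟨i, hi, z, hz, hiz⟩ := Submodule.mem_sup.mp hxs
    obtain ⟨c, rfl⟩ := Ideal.mem_span_singleton'.mp hz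
    have hc : IsUnit c := by
      by_contra hn
      exact h3 (hiz ▸ I'.add_mem hi (h1 (Ideal.mul_mem_mul ((IsLocalRing.mem_maximalIdeal c).mpr hn) hy)))
    obtain ⟨u, rfl⟩ := hc
    refine ⟨(u⁻¹ : Aˣ), ?_⟩
    rw [← hiz, show y - ((u⁻¹ : Aˣ) : A) * (i + (u : A) * y) = -(((u⁻¹ : Aˣ) : A) * i) by
      rw [mul_add, ← mul_assoc, Units.inv_mul, one_mul]; abel]
    exact I'.neg_mem (I'.mul_mem_left _ hi)
  have hI'top : I' ≠ ⊤ := fun h => h3 (h ▸ Submodule.mem_top)
  have : Nontrivial (A ⧸ I') := Ideal.Quotient.nontrivial_iff.mpr hI'top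
  have : IsLocalRing (A ⧸ I') := IsLocalRing.of_surjective' (Ideal.Quotient.mk I') Ideal.Quotient.mk_surjective
  have hmaxP : ∀ y, Ideal.Quotient.mk I' y ∈ IsLocalRing.maximalIdeal (A ⧸ I') ↔ y ∈ mA := fun y => by
    have : IsLocalHom (Ideal.Quotient.mk I') := IsLocalHom.of_surjective _ Ideal.Quotient.mk_surjective
    rw [IsLocalRing.mem_maximalIdeal, IsLocalRing.mem_maximalIdeal, mem_nonunits_iff, mem_nonunits_iff, isUnit_map_iff]
  obtain ⟨r, s, hs⟩ := Submodule.fg_iff_exists_fin_generating_family.1 (IsNoetherian.noetherian J)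
  obtain ⟨w, hw, hwx⟩ : ∃ w : Fin r → A, (∀ j, w j ∈ mA) ∧ ∑ j, s j * w j = x := by
    rw [← hs] at hxm
    have := (Submodule.mem_ideal_smul_span_iff_exists_sum mA s x).mp hxm
    obtain ⟨a, ha, hax⟩ := this
    refine ⟨a, ha, ?_⟩
    rw [← hax, Finsupp.sum_fintype _ _ (by simp)]
    exact Finset.sum_congr rfl fun j _ => mul_comm _ _
  let π : A ⧸ I' →+* A ⧸ I := Ideal.Quotient.factor h2
  refine Groth.FrobLCI.TorObs.not_hasFiniteTorDim π (Ideal.Quotient.factor_surjective h2)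
    (Ideal.Quotient.mk I' x) ?_ (fun h0 => h3 (Ideal.Quotient.eq_zero_iff_mem.mp h0)) ?_
    (fun j => Ideal.Quotient.mk I' (s j)) (fun j => Ideal.Quotient.mk I' (w j))
    (by rw [← hwx, map_sum]; simp only [map_mul]) (fun j => (hmaxP _).mpr ?_) (fun j => (hmaxP _).mpr (hw j))
    (A ⧸ J) (Algebra.linearMap (A ⧸ I) (A ⧸ J)) ?_ ?_ hfd
  · refine le_antisymm (fun z hz => ?_) ?_
    · obtain ⟨y, rfl⟩ := Ideal.Quotient.mk_surjective z
      obtain ⟨c, hc⟩ := hgen y (Ideal.Quotient.eq_zero_iff_mem.mp hz)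
      refine Ideal.mem_span_singleton'.mpr ⟨Ideal.Quotient.mk I' c, ?_⟩
      rw [← map_mul]
      exact (Ideal.Quotient.eq.mpr hc).symm
    · rw [Ideal.span_singleton_le_iff_mem]
      exact Ideal.Quotient.eq_zero_iff_mem.mpr hx
  · intro z hz
    obtain ⟨y, rfl⟩ := Ideal.Quotient.mk_surjective z
    rw [← map_mul, Ideal.Quotient.eq_zero_iff_mem, mul_comm]
    exact h1 (Ideal.mul_mem_mul ((hmaxP y).mp hz) hx)
  · exact IsLocalRing.le_maximalIdeal hJ (hs ▸ Submodule.subset_span ⟨j, rfl⟩)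
  · intro z
    obtain ⟨y, rfl⟩ := Ideal.Quotient.mk_surjective z
    exact ⟨Ideal.Quotient.mk I y, by rw [Algebra.linearMap_apply, ← Ideal.Quotient.algebraMap_eq,
      ← IsScalarTower.algebraMap_apply]; rfl⟩
  · ext z
    obtain ⟨y, rfl⟩ := Ideal.Quotient.mk_surjective z
    rw [LinearMap.mem_ker, Algebra.linearMap_apply,
      show algebraMap (A ⧸ I) (A ⧸ J) (Ideal.Quotient.mk I y) = Ideal.Quotient.mk J y from
        (IsScalarTower.algebraMap_apply A (A ⧸ I) (A ⧸ J) y).symm,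
      Ideal.Quotient.eq_zero_iff_mem]
    have hrange : Ideal.span (Set.range (π ∘ fun j => Ideal.Quotient.mk I' (s j))) = J.map (Ideal.Quotient.mk I) := by
      rw [← hs]
      show _ = Ideal.map _ (Ideal.span (Set.range s))
      rw [Ideal.map_span, ← Set.range_comp]
      rfl
    rw [hrange, ← Ideal.mem_comap, Ideal.comap_map_of_surjective _ Ideal.Quotient.mk_surjective,
      ← RingHom.ker_eq_comap_bot, Ideal.mk_ker, sup_eq_left.mpr hIJ]

end Groth.Agent.S2199
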