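import Groth.Statements.S2200
import Groth.Agent.S2199
import Groth.Agent.Ega4Algebra2.RegularIdeal

set_option autoImplicit false
universe u
open LCI

namespace Groth.Agent.S2200

/-- Let (A, m) be a Noetherian local ring and I, J proper ideals with I inside J. If J is cut out by a
regular sequence and A/J has finite Tor-dimension as an A/I-module (canonical algebra structure),
then I is cut out by a regular sequence of A and the image of J in A/I by one of A/I. -/
theorem result {A : Type u} [CommRing A] [IsNoetherianRing A] [IsLocalRing A]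
    (I J : Ideal A) (hIJ : I ≤ J) (hJ : J ≠ ⊤) [Algebra (A ⧸ I) (A ⧸ J)]
    [IsScalarTower A (A ⧸ I) (A ⧸ J)] (hfd : DRing.HasFiniteTorDim (A ⧸ I) (A ⧸ J))
    (hJreg : ∃ rs : List A, Ideal.ofList rs = J ∧ RingTheory.Sequence.IsRegular A rs) :
    (∃ rs : List A, Ideal.ofList rs = I ∧ RingTheory.Sequence.IsRegular A rs) ∧
      ∃ rs' : List (A ⧸ I), Ideal.ofList rs' = J.map (Ideal.Quotient.mk I) ∧
        RingTheory.Sequence.IsRegular (A ⧸ I) rs' := by
  obtain ⟨fs, hfs, hfreg⟩ := hJreg
  have hJm : J ≤ IsLocalRing.maximalIdeal A := IsLocalRing.le_maximalIdeal hJ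
  obtain ⟨a, h, hhI, hspanI, hminI⟩ := Groth.Ega4b.exists_minimal_complement (Fin.elim0 : Fin 0 → A) I I (by simp)
  have hI : Ideal.span (Set.range h) = I := by
    rw [← hspanI, Fin.elim0_append]
    exact congrArg Ideal.span ((finCongr (Nat.zero_add a)).surjective.range_comp h).symm
  have hmin1 : ∀ c : Fin a → A, ∑ i, c i * h i ∈ IsLocalRing.maximalIdeal A * I →
      ∀ i, c i ∈ IsLocalRing.maximalIdeal A := by
    intro c hc i
    have := hminI (c ∘ Fin.cast (Nat.zero_add a)) (by
      rw [Fin.elim0_append]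
      exact ((finCongr (Nat.zero_add a)).sum_comp fun j => c j * h j).symm ▸ hc) i
    convert this using 2
    exact congrArg c (Fin.ext (by simp))
  obtain ⟨b, g, hgJ, hspanJ, hminJ⟩ := Groth.Ega4b.exists_minimal_complement h J J
    (by rw [hI, sup_eq_right.mpr hIJ])
  have hmin : Groth.Ega4b.Minimal (Fin.append h g) := by
    intro c hc
    rw [hspanJ] at hc
    have hb := hminJ c hc
    intro i
    induction i using Fin.addCases with
    | right i => exact hb i
    | left i =>
      rw [Fin.sum_univ_add] at hc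
      simp only [Fin.append_left, Fin.append_right] at hc
      refine hmin1 (fun k => c (Fin.castAdd b k)) (Groth.Agent.S2199.result I J hIJ hJ hfd _ ?_ ?_) i
      · exact Ideal.sum_mem _ fun k _ => I.mul_mem_left _ (hI ▸ Ideal.subset_span ⟨k, rfl⟩)
      · exact (Submodule.add_mem_iff_left _
          (Ideal.sum_mem _ fun k _ => Ideal.mul_mem_mul (hb k) (hgJ k))).mp hc
  have hm : ∀ i, fs.get i ∈ IsLocalRing.maximalIdeal A := fun i =>
    hJm (hfs ▸ Ideal.subset_span (List.get_mem fs i))
  have hweak := Groth.Ega4b.isWeaklyRegular_of_minimal (fun i => fs.get i) hm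
    (by rw [List.ofFn_get]; exact hfreg.toIsWeaklyRegular) (Fin.append h g)
    (by rw [hspanJ, ← hfs, ← Groth.Ega4b.ofList_ofFn_eq_span (fun i => fs.get i), List.ofFn_get]) hmin
  rw [List.ofFn_fin_append, RingTheory.Sequence.isWeaklyRegular_append_iff] at hweak
  have hIofList : Ideal.ofList (List.ofFn h) = I := by rw [Groth.Ega4b.ofList_ofFn_eq_span, hI]
  have hmapJ : Ideal.ofList ((List.ofFn g).map (Ideal.Quotient.mk I)) = J.map (Ideal.Quotient.mk I) := by
    rw [← hspanJ, ← Groth.Ega4b.ofList_ofFn_eq_span (Fin.append h g), List.ofFn_fin_append, Ideal.ofList_append,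
      Ideal.map_sup, hIofList, Ideal.map_quotient_self, bot_sup_eq, Ideal.map_ofList]
  have : Nontrivial (A ⧸ I) := Ideal.Quotient.nontrivial_iff.mpr fun h => hJ (top_le_iff.mp (h ▸ hIJ))
  have : IsLocalRing (A ⧸ I) := IsLocalRing.of_surjective' (Ideal.Quotient.mk I) Ideal.Quotient.mk_surjective
  refine ⟨⟨List.ofFn h, hIofList, (IsLocalRing.isRegular_iff_isWeaklyRegular_of_subset_maximalIdeal fun x hx => ?_).mpr
    hweak.1⟩, (List.ofFn g).map (Ideal.Quotient.mk I), hmapJ,
    (IsLocalRing.isRegular_iff_isWeaklyRegular_of_subset_maximalIdeal fun x hx => ?_).mpr ?_⟩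
  · exact hJm (hIJ (hIofList ▸ Ideal.subset_span hx))
  · refine IsLocalRing.le_maximalIdeal (J := J.map (Ideal.Quotient.mk I)) ?_ ?_
    swap
    · rw [← hmapJ]; exact Ideal.subset_span hx
    intro htop
    apply hJ
    have := congrArg (Ideal.comap (Ideal.Quotient.mk I)) htop
    rwa [Ideal.comap_map_quotientMk, Ideal.comap_top, sup_eq_right.mpr hIJ] at this
  · refine (RingTheory.Sequence.isWeaklyRegular_map_algebraMap_iff (A ⧸ I) (A ⧸ I) (List.ofFn g)).mpr ?_
    exact ((Submodule.quotEquivOfEq (Ideal.ofList (List.ofFn h) • ⊤ : Submodule A A) I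
      (by rw [hIofList, smul_eq_mul, Ideal.mul_top])).isWeaklyRegular_congr _).mp hweak.2

end Groth.Agent.S2200
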