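import Groth.Statements.S5068
import Groth.Agent.EGA41Two.FlatRegularFibre
import Groth.Agent.CI.Locus
-- import your own Groth.Agent.* helpers here

set_option autoImplicit false
set_option maxHeartbeats 1000000
open scoped Pointwise
universe u
open CInt

namespace Groth.Agent.S5068

open IsLocalRing RingTheory.Sequence in
/-- A sequence with flat quotients stays regular on the closed fibre. -/
theorem regular_fibre {A B : Type u} [CommRing A] [CommRing B] [Algebra A B] [IsLocalRing A] [IsLocalRing B]
    [IsNoetherianRing B] [IsLocalHom (algebraMap A B)] : ∀ (fs : List B) (M : Type u) [AddCommGroup M]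
    [Module B M] [Module A M] [IsScalarTower A B M], IsWeaklyRegular M fs →
    (∀ i ≤ fs.length, Module.Flat A (M ⧸ (Ideal.ofList (fs.take i) • (⊤ : Submodule B M)))) →
    IsWeaklyRegular (M ⧸ ((maximalIdeal A).map (algebraMap A B) • (⊤ : Submodule B M))) fs
  | [], _, _, _, _, _, _, _ => IsWeaklyRegular.nil _ _
  | f :: rs, M, _, _, _, _, h, hflat => by
    rw [isWeaklyRegular_cons_iff] at h ⊢
    have hflat' : ∀ i ≤ rs.length, Module.Flat A
        (QuotSMulTop f M ⧸ (Ideal.ofList (rs.take i) • (⊤ : Submodule B (QuotSMulTop f M)))) := fun i hi => by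
      have := hflat (i + 1) (by simpa using hi)
      rw [List.take_succ_cons] at this
      exact Module.Flat.of_linearEquiv
        ((Submodule.quotOfListConsSMulTopEquivQuotSMulTopInner M f (rs.take i)).restrictScalars A).symm
    refine ⟨?_, ((Groth.EGA41Two.FlatFibre.swapEquiv _ f M).isWeaklyRegular_congr rs).mp
      (regular_fibre rs (QuotSMulTop f M) h.2 hflat')⟩
    have : Module.Flat A (QuotSMulTop f M) := by
      have := hflat' 0 (Nat.zero_le _)
      exact Module.Flat.of_linearEquiv
        ((Submodule.quotEquivOfEqBot (Ideal.ofList (rs.take 0) • (⊤ : Submodule B (QuotSMulTop f M)))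
          (by rw [List.take_zero, Ideal.ofList_nil, Submodule.bot_smul])).restrictScalars A).symm
    let u : M →ₗ[A] M := (LinearMap.lsmul B M f).restrictScalars A
    let q : M →ₗ[A] QuotSMulTop f M := (Submodule.mkQ (f • (⊤ : Submodule B M))).restrictScalars A
    have hinj := LinearMap.lTensor_injective_of_exact_of_flat q (Submodule.mkQ_surjective _) u h.1
      (fun x => by
        show Submodule.Quotient.mk x = 0 ↔ _
        rw [Submodule.Quotient.mk_eq_zero, Submodule.mem_smul_pointwise_iff_exists]
        exact ⟨fun ⟨y, _, hy⟩ => ⟨y, hy⟩, fun ⟨y, hy⟩ => ⟨y, trivial, hy⟩⟩)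
      (ResidueField A)
    let E := Groth.EGA41Two.FlatFibre.fibreEquiv (A := A) (B := B) M
    have hcomm : ∀ x, E (u.lTensor _ x) = f • E x := by
      intro x
      induction x using TensorProduct.induction_on with
      | zero => simp
      | add a b ha hb => simp only [map_add, ha, hb, smul_add]
      | tmul c m =>
        obtain ⟨c, rfl⟩ := Ideal.Quotient.mk_surjective c
        show (Submodule.Quotient.mk (c • (f • m)) : M ⧸ ((maximalIdeal A).map (algebraMap A B) • (⊤ : Submodule B M))) =
          f • Submodule.Quotient.mk (c • m)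
        rw [← Submodule.Quotient.mk_smul, smul_comm]
    intro x y hxy
    obtain ⟨x, rfl⟩ := E.surjective x
    obtain ⟨y, rfl⟩ := E.surjective y
    exact congrArg E (hinj (E.injective (by rw [hcomm, hcomm]; exact hxy)))

/-- Suppose A and C are Noetherian local rings joined by a flat local homomorphism A → C whose closed
fibre C/m_A C is a regular local ring, and consider a local ring B obtained as a quotient of C by an
ideal J (encoded as a surjective C-algebra B, with J taken to be the kernel). The ideal J admits a
generating sequence that is transversally regular relative to A (each term a non-zero-divisor modulo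
the previous ones, and every partial quotient C/(f_1, …, f_j) A-flat) exactly when two things hold:
B is A-flat, and B/m_A B is a complete intersection (meaning its completion is a regular local ring
divided by a regular sequence). -/
theorem result (A C B : Type u) [CommRing A] [IsLocalRing A]
    [IsNoetherianRing A] [CommRing C] [IsLocalRing C] [IsNoetherianRing C] [Algebra A C] [IsLocalHom (algebraMap A C)]
    [Module.Flat A C] (hreg : IsRegularLocalRing (EGA4.FibRing A C))
    [CommRing B] [IsLocalRing B] [Algebra C B] [Algebra A B] [IsScalarTower A C B] [IsLocalHom (algebraMap A B)]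
    (hsurj : Function.Surjective (algebraMap C B)) :
    (∃ rs : List C, Ideal.ofList rs = RingHom.ker (algebraMap C B) ∧ RegImm.IsTransRegularSeq A C rs) ↔
      (Module.Flat A B ∧ Pi1.IsCompleteIntersection (EGA4.FibRing A B)) := by
  let J := RingHom.ker (algebraMap C B)
  let m : Ideal C := (IsLocalRing.maximalIdeal A).map (algebraMap A C)
  let mk : C →+* EGA4.FibRing A C := Ideal.Quotient.mk m
  have hmap : m.map (algebraMap C B) = (IsLocalRing.maximalIdeal A).map (algebraMap A B) := by
    rw [Ideal.map_map, ← IsScalarTower.algebraMap_eq]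
  let π : EGA4.FibRing A C →+* EGA4.FibRing A B :=
    Ideal.quotientMap ((IsLocalRing.maximalIdeal A).map (algebraMap A B)) (algebraMap C B)
      (Ideal.map_le_iff_le_comap.mp hmap.le)
  have hπ : Function.Surjective π := Ideal.quotientMap_surjective hsurj
  have hkπ : RingHom.ker π = J.map mk := by
    refine le_antisymm (fun x hx => ?_) (Ideal.map_le_iff_le_comap.mpr fun x hx => ?_)
    · obtain ⟨c, rfl⟩ := Ideal.Quotient.mk_surjective x
      have hc : algebraMap C B c ∈ m.map (algebraMap C B) := by
        rw [hmap]; exact Ideal.Quotient.eq_zero_iff_mem.mp (RingHom.mem_ker.mp hx)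
      obtain ⟨d, hd, hdc⟩ := (Ideal.mem_map_iff_of_surjective _ hsurj).mp hc
      have hcd : c - d ∈ J := RingHom.mem_ker.mpr (by rw [map_sub, hdc, sub_self])
      rw [show Ideal.Quotient.mk _ c = mk (c - d) + mk d from (by rw [← map_add, sub_add_cancel]),
        show mk d = 0 from Ideal.Quotient.eq_zero_iff_mem.mpr hd, add_zero]
      exact Ideal.mem_map_of_mem _ hcd
    · rw [Ideal.mem_comap, RingHom.mem_ker]
      show Ideal.Quotient.mk _ (algebraMap C B x) = 0
      rw [RingHom.mem_ker.mp hx, map_zero]
  have : IsLocalRing (EGA4.FibRing A B) :=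
    have : Nontrivial (EGA4.FibRing A B) := Ideal.Quotient.nontrivial_iff.mpr
      (ne_top_of_le_ne_top (IsLocalRing.maximalIdeal.isMaximal B).ne_top
        (((IsLocalRing.local_hom_TFAE (algebraMap A B)).out 0 2).mp (inferInstance : IsLocalHom (algebraMap A B))))
    IsLocalRing.of_surjective' (Ideal.Quotient.mk _) Ideal.Quotient.mk_surjective
  rw [Groth.CI.isCompleteIntersection_iff_of_surjective π hπ, hkπ]
  let e : (C ⧸ J) ≃ₐ[A] B :=
    AlgEquiv.ofRingEquiv (f := RingHom.quotientKerEquivOfSurjective hsurj)
      (fun a => (IsScalarTower.algebraMap_apply A C B a).symm)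
  have hflatB : Module.Flat A B ↔ Module.Flat A (C ⧸ J) :=
    ⟨fun _ => Module.Flat.of_linearEquiv e.toLinearEquiv, fun _ => Module.Flat.of_linearEquiv e.toLinearEquiv.symm⟩
  rw [hflatB]
  let e₁ : (C ⧸ (m • (⊤ : Submodule C C))) ≃+ EGA4.FibRing A C :=
    (Submodule.quotEquivOfEq (m • (⊤ : Submodule C C)) m (by rw [smul_eq_mul, Ideal.mul_top])).toAddEquiv
  have hcongr : ∀ rs : List C, RingTheory.Sequence.IsWeaklyRegular (C ⧸ (m • (⊤ : Submodule C C))) rs ↔
      RingTheory.Sequence.IsWeaklyRegular (EGA4.FibRing A C) (rs.map mk) := fun rs =>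
    e₁.isWeaklyRegular_congr (List.forall₂_map_right_iff.mpr (List.forall₂_same.mpr fun r _ x => by
      obtain ⟨x, rfl⟩ := Submodule.Quotient.mk_surjective _ x
      rfl))
  constructor
  · rintro ⟨rs, hrs, hreg', hflat⟩
    have hflat' : ∀ i ≤ rs.length, Module.Flat A (C ⧸ (Ideal.ofList (rs.take i) • (⊤ : Submodule C C))) :=
      fun i hi => by
        have := hflat i hi
        exact Module.Flat.of_linearEquiv
          ((Submodule.quotEquivOfEq _ _ (by rw [smul_eq_mul, Ideal.mul_top])).restrictScalars A)
    refine ⟨?_, rs.map mk, by rw [← Ideal.map_ofList, hrs], ?_⟩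
    · have := hflat rs.length le_rfl
      rw [List.take_length, hrs] at this
      exact this
    · refine (IsLocalRing.isRegular_iff_isWeaklyRegular_of_subset_maximalIdeal fun x hx => ?_).mpr
        ((hcongr rs).mp (regular_fibre rs C hreg' hflat'))
      have h1 : x ∈ RingHom.ker π := by
        rw [hkπ]; change x ∈ (RingHom.ker (algebraMap C B)).map mk
        rw [← hrs, Ideal.map_ofList]; exact Ideal.subset_span hx
      exact IsLocalRing.le_maximalIdeal (RingHom.ker_ne_top π) h1
  · rintro ⟨hflat, ts, hts, htsr⟩
    have hlift : ∀ t ∈ ts, ∃ r ∈ J, mk r = t := fun t ht =>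
      (Ideal.mem_map_iff_of_surjective _ Ideal.Quotient.mk_surjective).mp (hts ▸ Ideal.subset_span ht)
    choose! r hrJ hr using hlift
    have hmap' : (ts.map r).map mk = ts := by
      rw [List.map_map]
      exact (List.map_congr_left fun t ht => hr t ht).trans (List.map_id _)
    have hw : RingTheory.Sequence.IsWeaklyRegular (C ⧸ (m • (⊤ : Submodule C C))) (ts.map r) :=
      (hcongr _).mpr (by rw [hmap']; exact htsr.toIsWeaklyRegular)
    obtain ⟨hreg', hflat'⟩ := Groth.EGA41Two.FlatFibre.weaklyRegular_and_flat (A := A) (ts.map r) C hw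
    refine ⟨ts.map r, ?_, hreg', fun i hi => ?_⟩
    · have h1 : Ideal.ofList (ts.map r) • (⊤ : Submodule C C) ≤ J := by
        rw [smul_eq_mul, Ideal.mul_top]
        exact Ideal.span_le.mpr fun x hx => by
          obtain ⟨t, ht, rfl⟩ := List.mem_map.mp hx; exact hrJ t ht
      refine ((Groth.EGA41Two.FlatFibre.eq_smul_of_fibre (A := A) C J (Ideal.ofList (ts.map r)) h1 ?_).trans
        (by rw [smul_eq_mul, Ideal.mul_top])).symm
      rw [← Submodule.range_mkQ (m • (⊤ : Submodule C C)), ← Submodule.map_top, ← Submodule.map_smul'']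
      refine le_antisymm (Submodule.map_mono h1) ?_
      rintro _ ⟨x, hx, rfl⟩
      have hx' : mk x ∈ (Ideal.ofList (ts.map r)).map mk := by
        rw [Ideal.map_ofList, hmap', hts]; exact Ideal.mem_map_of_mem _ hx
      obtain ⟨y, hy, hyx⟩ := (Ideal.mem_map_iff_of_surjective _ Ideal.Quotient.mk_surjective).mp hx'
      refine ⟨y, by rw [smul_eq_mul, Ideal.mul_top]; exact hy, (Submodule.Quotient.eq _).mpr ?_⟩
      rw [smul_eq_mul, Ideal.mul_top]
      exact Ideal.Quotient.eq.mp hyx
    · have := hflat' i hi
      exact Module.Flat.of_linearEquiv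
        ((Submodule.quotEquivOfEq (Ideal.ofList ((ts.map r).take i) • (⊤ : Submodule C C))
          (Ideal.ofList ((ts.map r).take i)) (by rw [smul_eq_mul, Ideal.mul_top])).restrictScalars A).symm

end Groth.Agent.S5068
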