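import Groth.Statements.S3244
import Groth.Agent.Misc1.Kummer.Basic


set_option autoImplicit false
universe u
open CategoryTheory AlgebraicGeometry
open Dix

namespace Groth.Agent.S3244

open CategoryTheory CategoryTheory.Limits Abelian Groth.Misc1.Kummer

/-- Kummer theory at finite level: let n > 0 be an integer invertible on the scheme X (nonzero in every
residue field). Then for every i ≥ 1 the image of H^i(X_ét, μ_n) → H^i(X_ét, G_m), induced by the
inclusion μ_n → G_m, is exactly the subgroup of elements of H^i(X_ét, G_m) killed by n; in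
particular H²(X_ét, μ_n) maps onto the n-torsion of the cohomological Brauer group H²(X_ét, G_m).
(The published statement gives exact sequences obtained as the colimit of these over the powers n =
ℓ^m of a prime ℓ.) -/
theorem result (X : Scheme.{u}) (n : ℕ) (hn : 0 < n) (hX : Dix.InvertibleOn X n) (i : ℕ) (hi : 1 ≤ i) : Set.range ⇑((EtCoh.HF X i).map (EtCoh.muι X n)) = {ξ : (EtCoh.HF X i).obj (EtCoh.Gm X) | n • ξ = 0} := by
  have : Epi (EtCoh.powMap X n) := epi_powMap hX
  have hse : (ShortComplex.mk (EtCoh.muι X n) (EtCoh.powMap X n) (kernel.condition _)).ShortExact :=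
    { exact := ShortComplex.exact_of_f_is_kernel _ (kernelIsKernel (EtCoh.powMap X n))
      mono_f := inferInstanceAs (Mono (kernel.ι _))
      epi_g := this }
  refine Set.ext fun ξ => ⟨?_, fun h => ?_⟩
  · rintro ⟨η, rfl⟩
    change n • (EtCoh.HF X i).map (EtCoh.muι X n) η = 0
    rw [HF_map_apply]
    refine (comp_mk₀_powMap n _).symm.trans ?_
    rw [Ext.comp_assoc_of_third_deg_zero, Ext.mk₀_comp_mk₀,
      show EtCoh.muι X n ≫ EtCoh.powMap X n = 0 from kernel.condition _, Ext.mk₀_zero, Ext.comp_zero]
    rfl
  · obtain ⟨η, hη⟩ := Ext.covariant_sequence_exact₂ _ hse ξ ((comp_mk₀_powMap n _).trans h)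
    exact ⟨η, (HF_map_apply _ η).trans hη⟩

end Groth.Agent.S3244
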