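import Groth.Statements.S1471
import Groth.Agent.PropsBasic2.StalkFlat
import Groth.Agent.PropsBasic2.SchTop
import Groth.Agent.PropsBasic2.Reduced

set_option autoImplicit false
universe u
open FlatMor

namespace Groth.Agent.S1471

open AlgebraicGeometry CategoryTheory Limits in
set_option backward.isDefEq.respectTransparency.types false in
/-- Let f : X → Y and η a generic point of an irreducible component of Y. Then the fibre over η of the
composite X_red → X → Y is reduced; since it is a closed subscheme of X_η with the same underlying
set, this says (X_η)_red = (X_red)_η. -/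
theorem result {X Y : Scheme.{u}} (f : X ⟶ Y) (η : Y) (W : Set ↑Y) (hW : W ∈ irreducibleComponents ↑Y) (hη : IsGenericPoint η W) :
    IsReduced ((X.nilradical.subschemeι ≫ f).fiber η) := by
  let g := X.nilradical.subschemeι ≫ f
  have hgen : closure ({η} : Set Y) ∈ irreducibleComponents Y := by rw [hη.def]; exact hW
  have hsub : Subsingleton (PrimeSpectrum (Y.presheaf.stalk η)) :=
    (Groth.PropsBasic2.closure_mem_irreducibleComponents_iff_subsingleton η).mp hgen
  have := Groth.PropsBasic2.isReduced_nilradical_subscheme X
  have : IsPreimmersion (pullback.fst g (Y.fromSpecStalk η)) :=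
    MorphismProperty.pullback_fst _ _ inferInstance
  have := Groth.PropsBasic2.flat_fromSpecStalk η
  have : Flat (pullback.fst g (Y.fromSpecStalk η)) := MorphismProperty.pullback_fst _ _ this
  let q : pullback g (Y.fromSpecStalk η) ⟶ X.nilradical.subscheme := pullback.fst _ _
  have hstalk : ∀ z, _root_.IsReduced ((pullback g (Y.fromSpecStalk η)).presheaf.stalk z) := by
    intro z
    let e := RingEquiv.ofBijective (q.stalkMap z).hom
      ⟨Groth.PropsBasic2.stalkMap_injective_of_flat q z, q.stalkMap_surjective z⟩
    exact isReduced_of_injective e.symm.toRingHom e.symm.injective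
  have : IsReduced (pullback g (Y.fromSpecStalk η)) :=
    isReduced_of_isReduced_stalk (X := pullback g (Y.fromSpecStalk η))
  let c : Spec (Y.residueField η) ⟶ Spec (Y.presheaf.stalk η) := Spec.map (Y.residue η)
  have : Surjective c := ⟨fun p => ⟨IsLocalRing.closedPoint _, hsub.elim _ _⟩⟩
  let p := pullback.snd g (Y.fromSpecStalk η)
  have : IsClosedImmersion (pullback.fst p c) := MorphismProperty.pullback_fst _ _ inferInstance
  have : Surjective (pullback.fst p c) := MorphismProperty.pullback_fst _ _ inferInstance
  have := isIso_of_isClosedImmersion_of_surjective (pullback.fst p c)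
  have : IsReduced (pullback p c) := isReduced_of_isOpenImmersion (pullback.fst p c)
  have e : pullback p c ≅ g.fiber η :=
    pullbackLeftPullbackSndIso g (Y.fromSpecStalk η) c
  exact isReduced_of_isOpenImmersion e.inv

end Groth.Agent.S1471
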