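import Groth.Statements.S7660
import Groth.Agent.VarietyBC.AffineNhd

set_option autoImplicit false
universe u
open CategoryTheory CategoryTheory.Limits AlgebraicGeometry
open Variety

namespace Groth.Agent.S7660

open TopologicalSpace Groth.PropsBasic2

theorem isNilpotent_of_stalkMap_eq_zero {X' X : Scheme.{u}} (i : X' ⟶ X) [IsClosedImmersion i]
    [Surjective i] {x : X'} (r : X.presheaf.stalk (i x)) (hr : i.stalkMap x r = 0) :
    IsNilpotent r := by
  obtain ⟨U, hxU, r, rfl⟩ := X.presheaf.exists_germ_eq r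
  rw [Scheme.Hom.germ_stalkMap_apply] at hr
  obtain ⟨W, hxW, iW, iW', heq⟩ := X'.presheaf.germ_eq x (show x ∈ i ⁻¹ᵁ U from hxU) (show x ∈ i ⁻¹ᵁ U from hxU) _ 0 (hr.trans (map_zero _).symm)
  obtain ⟨W₀, hW₀, hW₀W⟩ := i.isEmbedding.isInducing.isOpen_iff.1 W.isOpen
  obtain ⟨V, hV, hxV, hVle⟩ := exists_isAffineOpen_mem_and_subset (U := U ⊓ ⟨W₀, hW₀⟩)
    (show i x ∈ U ⊓ ⟨W₀, hW₀⟩ from ⟨hxU, show x ∈ i ⁻¹' W₀ from hW₀W ▸ hxW⟩)
  have hVU : V ≤ U := fun y hy => (hVle hy).1
  have hbot : X.basicOpen (X.presheaf.map (homOfLE hVU).op r) = ⊥ := by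
    refine Opens.ext (Set.eq_empty_iff_forall_notMem.2 fun y hy => ?_)
    rw [SetLike.mem_coe, Scheme.basicOpen_res] at hy
    obtain ⟨w, rfl⟩ := i.surjective y
    have hwW : w ∈ W := by
      have : w ∈ i ⁻¹' W₀ := (hVle hy.1).2
      rwa [hW₀W] at this
    have h1 : w ∈ i ⁻¹ᵁ X.basicOpen r := hy.2
    rw [Scheme.preimage_basicOpen] at h1
    have h2 : w ∈ X'.basicOpen (X'.presheaf.map iW.op (i.app U r)) := by
      rw [Scheme.basicOpen_res]; exact ⟨hwW, h1⟩
    rw [heq, map_zero, Scheme.basicOpen_zero] at h2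
    exact h2
  have hn := (Scheme.isNilpotent_iff_basicOpen_eq_bot_of_isCompact hV.isCompact _).2 hbot
  have := hn.map (X.presheaf.germ V (i x) hxV).hom
  erw [X.presheaf.germ_res_apply] at this
  exact this

theorem le_ker_of_isReduced {A X : Scheme.{u}} [IsReduced A] (g : A ⟶ X) [QuasiCompact g] :
    Scheme.IdealSheafData.vanishingIdeal (⊤ : Closeds X) ≤ g.ker := by
  intro U r hr
  rw [Scheme.Hom.ker_apply, RingHom.mem_ker]
  refine eq_zero_of_basicOpen_eq_bot _ (Opens.ext (Set.eq_empty_iff_forall_notMem.2 fun y hy => ?_))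
  rw [SetLike.mem_coe, ← Scheme.preimage_basicOpen] at hy
  let i := (Scheme.IdealSheafData.vanishingIdeal (⊤ : Closeds X)).subschemeι
  obtain ⟨w, hw⟩ : g y ∈ Set.range i := by
    rw [range_vanishingIdeal_subschemeι]; trivial
  have h1 : w ∈ i ⁻¹ᵁ X.basicOpen r := by
    show i w ∈ X.basicOpen r
    rw [hw]; exact hy
  rw [Scheme.preimage_basicOpen] at h1
  have h0 : i.app U.1 r = 0 := by
    rw [← RingHom.mem_ker, Scheme.IdealSheafData.ker_subschemeι_app]
    exact hr
  rw [h0, Scheme.basicOpen_zero] at h1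
  exact h1

theorem exists_stalk_square {A B X T : Scheme.{u}} (f' : A ⟶ B) (iX : B ⟶ X) (iT : A ⟶ T)
    (f : T ⟶ X) (h : f' ≫ iX = iT ≫ f) (a : A) :
    ∃ e : X.presheaf.stalk (iX (f' a)) ≅ X.presheaf.stalk (f (iT a)),
      ∀ r, f'.stalkMap a (iX.stalkMap (f' a) r) = iT.stalkMap a (f.stalkMap (iT a) (e.hom r)) := by
  refine ⟨X.presheaf.stalkCongr (.of_eq (congrArg (fun g => g.base a) h)), fun r => ?_⟩
  have := Scheme.Hom.stalkMap_congr_hom _ _ h a
  rw [Scheme.Hom.stalkMap_comp, Scheme.Hom.stalkMap_comp] at this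
  exact ConcreteCategory.congr_hom this r

theorem main {T X : Scheme.{u}} (f : T ⟶ X) [IsAffine T] [QuasiSeparatedSpace X]
    (hX : (irreducibleComponents (X : Type u)).Finite)
    (hinj : ∀ η η' : T, closure ({η} : Set T) ∈ irreducibleComponents (T : Type u) →
      closure ({η'} : Set T) ∈ irreducibleComponents (T : Type u) → f η = f η' → η = η')
    (s : Finset T) (hs : ∀ t ∈ s, IsIso (f.stalkMap t)) :
    ∃ U : X.Opens, IsAffineOpen U ∧ ∀ t ∈ s, f t ∈ U := by
  classical
  let iT := (Scheme.IdealSheafData.vanishingIdeal (⊤ : Closeds T)).subschemeι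
  let iX := (Scheme.IdealSheafData.vanishingIdeal (⊤ : Closeds X)).subschemeι
  haveI := isReduced_vanishingIdeal_subscheme (⊤ : Closeds T)
  haveI := isReduced_vanishingIdeal_subscheme (⊤ : Closeds X)
  have hsT : Function.Surjective iT := fun x => by
    have : x ∈ ((⊤ : Closeds T) : Set T) := trivial
    rw [← range_vanishingIdeal_subschemeι (⊤ : Closeds T)] at this
    exact this
  have hsX : Function.Surjective iX := fun x => by
    have : x ∈ ((⊤ : Closeds X) : Set X) := trivial
    rw [← range_vanishingIdeal_subschemeι (⊤ : Closeds X)] at this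
    exact this
  haveI : Surjective iT := ⟨hsT⟩
  haveI : Surjective iX := ⟨hsX⟩
  haveI : IsAffine (Scheme.IdealSheafData.vanishingIdeal (⊤ : Closeds T)).subscheme :=
    isAffine_of_isAffineHom iT
  haveI : QuasiCompact (iT ≫ f) := by
    haveI : QuasiCompact ((iT ≫ f) ≫ Limits.terminal.from X) := by
      rw [Limits.terminal.comp_from, ← compactSpace_iff_quasiCompact]; infer_instance
    haveI : QuasiSeparated (Limits.terminal.from X) :=
      (quasiSeparatedSpace_iff_quasiSeparated X).1 ‹_›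
    exact QuasiCompact.of_comp (iT ≫ f) (Limits.terminal.from X)
  haveI : QuasiSeparatedSpace (Scheme.IdealSheafData.vanishingIdeal (⊤ : Closeds X)).subscheme :=
    quasiSeparatedSpace_of_quasiSeparated iX
  let f' := IsClosedImmersion.lift iX (iT ≫ f) (by
    rw [Scheme.IdealSheafData.ker_subschemeι]; exact le_ker_of_isReduced _)
  have hf' : f' ≫ iX = iT ≫ f := IsClosedImmersion.lift_fac _ _ _
  let φ : _ ≃ₜ X := iX.isEmbedding.toHomeomorphOfSurjective hsX
  have hiso : ∀ t', IsIso (f.stalkMap (iT t')) → IsIso (f'.stalkMap t') := by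
    intro t' ht
    haveI := ht
    obtain ⟨e, he⟩ := exists_stalk_square f' iX iT f hf' t'
    rw [ConcreteCategory.isIso_iff_bijective]
    constructor
    · rw [injective_iff_map_eq_zero]
      intro r' hr'
      obtain ⟨r, rfl⟩ := iX.stalkMap_surjective (f' t') r'
      rw [he] at hr'
      obtain ⟨n, hn⟩ := isNilpotent_of_stalkMap_eq_zero iT _ hr'
      refine IsNilpotent.eq_zero (IsNilpotent.map (⟨n, ?_⟩ : IsNilpotent r) _)
      apply (ConcreteCategory.bijective_of_isIso e.hom).1
      apply (ConcreteCategory.bijective_of_isIso (f.stalkMap (iT t'))).1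
      rw [map_pow, map_pow, map_zero, map_zero]
      exact hn
    · intro y
      obtain ⟨a, rfl⟩ := iT.stalkMap_surjective t' y
      obtain ⟨b, rfl⟩ := (ConcreteCategory.bijective_of_isIso (f.stalkMap (iT t'))).2 a
      obtain ⟨c, rfl⟩ := (ConcreteCategory.bijective_of_isIso e.hom).2 b
      exact ⟨iX.stalkMap (f' t') c, he c⟩
  have hX' : (irreducibleComponents
      ((Scheme.IdealSheafData.vanishingIdeal (⊤ : Closeds X)).subscheme : Type u)).Finite := by
    refine Set.Finite.of_injOn (f := fun Z => φ '' Z) ?_ (φ.injective.image_injective.injOn) hX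
    intro Z hZ
    refine ⟨hZ.1.image _ φ.continuous.continuousOn, fun W hW hle => ?_⟩
    have hW' : IsIrreducible (φ.symm '' W) := hW.image _ φ.symm.continuous.continuousOn
    have h1 := hZ.2 hW' fun z hz => ⟨φ z, hle ⟨z, hz, rfl⟩, φ.symm_apply_apply z⟩
    intro w hw
    exact ⟨φ.symm w, h1 ⟨w, hw, rfl⟩, φ.apply_symm_apply w⟩
  have hmax : ∀ η, (∀ z, z ⤳ η → z = η) →
      closure ({iT η} : Set T) ∈ irreducibleComponents (T : Type u) := by
    intro η hη
    rw [closure_mem_irreducibleComponents_iff]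
    intro z hz
    obtain ⟨z', rfl⟩ := hsT z
    rw [hη z' (iT.isEmbedding.isInducing.specializes_iff.1 hz)]
  let s' := s.preimage iT iT.isEmbedding.injective.injOn
  obtain ⟨U', hU', hsU'⟩ := Groth.VarietyBC.AffineNhd.exists_affineOpen f' hX'
    (fun η η' hη hη' he => by
      refine iT.isEmbedding.injective (hinj _ _ (hmax η hη) (hmax η' hη') ?_)
      rw [← Scheme.Hom.comp_apply, ← Scheme.Hom.comp_apply, ← hf', Scheme.Hom.comp_apply,
        Scheme.Hom.comp_apply, he])
    s' (fun t ht => hiso t (hs _ (Finset.mem_preimage.1 ht)))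
  let U : X.Opens := ⟨(iX '' (U' : Set _)ᶜ)ᶜ,
    (iX.isClosedEmbedding.isClosedMap _ U'.isOpen.isClosed_compl).isOpen_compl⟩
  have hU : iX ⁻¹ᵁ U = U' := by
    refine Opens.ext (Set.ext fun a => ⟨fun ha => ?_, fun ha => ?_⟩)
    · by_contra hne
      exact ha ⟨a, hne, rfl⟩
    · rintro ⟨b, hb, he⟩
      exact hb (iX.isEmbedding.injective he ▸ ha)
  refine ⟨U, ?_, fun t ht => ?_⟩
  · haveI : IsAffine ↑(iX ⁻¹ᵁ U) := by rw [hU]; exact hU'
    haveI : IsClosedImmersion (iX ∣_ U) := MorphismProperty.of_isPullback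
      (isPullback_morphismRestrict iX U).flip inferInstance
    haveI : Surjective (iX ∣_ U) := ⟨fun y => by
      obtain ⟨a, ha⟩ := hsX y.1
      exact ⟨⟨a, show iX a ∈ U from ha ▸ y.2⟩, Subtype.ext (by rw [morphismRestrict_base]; exact ha)⟩⟩
    exact Groth.FlatMor2.isAffine_of_surjective_closedImmersion (iX ∣_ U)
  · obtain ⟨t', rfl⟩ := hsT t
    have h1 : f' t' ∈ iX ⁻¹ᵁ U := by rw [hU]; exact hsU' t' (Finset.mem_preimage.2 ht)
    have h2 : iX (f' t') = f (iT t') := by
      rw [← Scheme.Hom.comp_apply, hf', Scheme.Hom.comp_apply]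
    exact h2 ▸ h1

end Groth.Agent.S7660

namespace Groth.Agent.S7660

/-- For a morphism of schemes f : T → X with T affine and X quasi-separated with finitely many
irreducible components, assume f sends the generic point of each irreducible component of T to the
generic point of an irreducible component of X, and distinct such points to distinct points, and let
t_1, …, t_m ∈ T be points at which O_{X, f(t_j)} → O_{T, t_j} is an isomorphism. Then there is an
affine open of X containing f(t_1), …, f(t_m). -/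
theorem result {T X : Scheme.{u}} (f : T ⟶ X)
    [IsAffine T] [QuasiSeparatedSpace X] (hX : (irreducibleComponents (X : Type u)).Finite)
    (hgen : ∀ η : T, closure ({η} : Set T) ∈ irreducibleComponents (T : Type u) → closure ({(f.base η)} : Set X) ∈ irreducibleComponents (X : Type u))
    (hinj : ∀ η η' : T, closure ({η} : Set T) ∈ irreducibleComponents (T : Type u) → closure ({η'} : Set T) ∈ irreducibleComponents (T : Type u) → f.base η = f.base η' → η = η')
    (s : Finset T) (hs : ∀ t ∈ s, IsIso (f.stalkMap t)) :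
    ∃ U : X.Opens, IsAffineOpen U ∧ ∀ t ∈ s, f.base t ∈ U := by
  exact main f hX hinj s hs

end Groth.Agent.S7660
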