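import Groth.Statements.S1629
import Groth.Agent.S2769
import Groth.Agent.S7660
import Groth.Agent.AlgGrp1.GeomRedDense
import Groth.Agent.AlgGrp1.SmoothReduced
import Groth.Agent.FBaseGeom.PurelyInsep
import Groth.Agent.HTopHyper.SchemeBasic

set_option autoImplicit false
universe u
open CategoryTheory CategoryTheory.Limits AlgebraicGeometry
open Variety

open TopologicalSpace

namespace Groth.Agent.S1629

/-- Let X be a k-scheme locally of finite type, having only finitely many irreducible components. There
is then a finite purely inseparable extension k' of k for which the reduction of X_{k'} (the closed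
subscheme defined by the nilradical) is geometrically reduced over k'. -/
theorem result (k : Type u) [Field k] (X : Scheme.{u}) [X.Over (Spec (CommRingCat.of k))] [LocallyOfFiniteType (X ↘ (Spec (CommRingCat.of k)))]
    (hirr : (irreducibleComponents (X : Type u)).Finite) :
    ∃ (k' : Type u) (_ : Field k') (_ : Algebra k k'), FiniteDimensional k k' ∧ IsPurelyInseparable k k' ∧
      GeometricallyReduced ((Curv2.bc k X k').nilradical.subschemeι ≫ Curv2.bcSnd k X k') := by
  classical
  let str := X ↘ Spec (CommRingCat.of k)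
  have : Finite (irreducibleComponents (X : Type u)) := hirr.to_subtype
  choose W hW hηW using fun C : irreducibleComponents (X : Type u) =>
    show ∃ W : X.Opens, IsAffineOpen W ∧ C.2.1.genericPoint ∈ W by
      obtain ⟨W, h1, h2, -⟩ := exists_isAffineOpen_mem_and_subset (x := C.2.1.genericPoint)
        (U := (⊤ : X.Opens)) trivial
      exact ⟨W, h1, h2⟩
  let V : X.Opens := ⨆ C, W C
  have hVc : IsCompact (V : Set X) := by
    rw [Opens.coe_iSup]
    exact isCompact_iUnion fun C => (hW C).isCompact
  have hVd : Dense (V : Set X) := fun x => by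
    let C : irreducibleComponents (X : Type u) :=
      ⟨irreducibleComponent x, irreducibleComponent_mem_irreducibleComponents x⟩
    have hx : x ∈ closure {C.2.1.genericPoint} := by
      have h := C.2.1.isGenericPoint_genericPoint (isClosed_of_mem_irreducibleComponents C.1 C.2)
      exact (h : closure _ = _).ge mem_irreducibleComponent
    exact closure_mono (Set.singleton_subset_iff.2 (Opens.mem_iSup.2 ⟨C, hηW C⟩)) hx
  haveI : CompactSpace (V : Scheme.{u}) := isCompact_iff_compactSpace.1 hVc
  haveI : QuasiCompact (V.ι ≫ str) := inferInstance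
  obtain ⟨U, hU, k', _, _, hfin, hpi, Z, hZ, i, hi, hsurj, hsm⟩ :=
    Groth.Agent.S2769.result k (V.ι ≫ str)
  refine ⟨k', inferInstance, inferInstance, hfin, hpi, ?_⟩
  let B := Curv2.bc k X k'
  let m : pullback (U.ι ≫ V.ι ≫ str) (Spec.map (CommRingCat.ofHom (algebraMap k k'))) ⟶ B :=
    pullback.map _ _ _ _ (U.ι ≫ V.ι) (𝟙 _) (𝟙 _) (by simp [str]) (by simp)
  have hred : AlgebraicGeometry.IsReduced B.nilradical.subscheme := inferInstance
  haveI := hZ
  haveI := hi
  haveI : CompactSpace (U : Scheme.{u}) := by
    haveI : LocallyOfFiniteType (V.ι ≫ str) := inferInstance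
    haveI : IsLocallyNoetherian (V : Scheme.{u}) := LocallyOfFiniteType.isLocallyNoetherian (V.ι ≫ str)
    haveI : IsNoetherian (V : Scheme.{u}) := {}
    exact isCompact_iff_compactSpace.1 (NoetherianSpace.isCompact (U : Set (V : Scheme.{u})))
  haveI : CompactSpace Z := by
    haveI : QuasiCompact (U.ι ≫ V.ι ≫ str) := inferInstance
    haveI : CompactSpace ↑(pullback (U.ι ≫ V.ι ≫ str) (Spec.map (CommRingCat.ofHom (algebraMap k k')))) :=
      QuasiCompact.compactSpace_of_compactSpace (pullback.snd (U.ι ≫ V.ι ≫ str) (Spec.map (CommRingCat.ofHom (algebraMap k k'))))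
    exact QuasiCompact.compactSpace_of_compactSpace i
  haveI : QuasiCompact (i ≫ m ≫ Curv2.bcSnd k X k') := inferInstance
  haveI : QuasiCompact (i ≫ m) := by
    haveI : QuasiCompact ((i ≫ m) ≫ Curv2.bcSnd k X k') := by rw [Category.assoc]; infer_instance
    haveI : IsOpenImmersion m := inferInstance
    infer_instance
  have hker : B.nilradical.subschemeι.ker ≤ (i ≫ m).ker := by
    rw [Scheme.IdealSheafData.ker_subschemeι]
    have e : B.nilradical = Scheme.IdealSheafData.vanishingIdeal (⊤ : Closeds B) := by
      rw [← Scheme.IdealSheafData.radical_bot, ← Scheme.IdealSheafData.vanishingIdeal_support,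
        Scheme.IdealSheafData.support_bot]
    rw [e]
    exact Groth.Agent.S7660.le_ker_of_isReduced _
  let g := IsClosedImmersion.lift B.nilradical.subschemeι (i ≫ m) hker
  have hg : g ≫ B.nilradical.subschemeι = i ≫ m := IsClosedImmersion.lift_fac _ _ _
  have hw : g ≫ B.nilradical.subschemeι ≫ Curv2.bcSnd k X k' =
      i ≫ pullback.snd (U.ι ≫ V.ι ≫ str) (Spec.map (CommRingCat.ofHom (algebraMap k k'))) := by
    rw [reassoc_of% hg]
    simp only [m, pullback.map, Curv2.bcSnd]
    erw [pullback.lift_snd]
    rw [Category.comp_id]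
  haveI := hpi
  have hb : IsHomeomorph (Curv2.bcFst k X k') :=
    Groth.FBaseGeom.isUnivHomeo_specMap (k := k) (k' := k') _ _ _
      (IsPullback.of_hasPullback str (Spec.map (CommRingCat.ofHom (algebraMap k k'))))
  have hn := Groth.HTopHyper.isHomeomorph_of_isUnivHomeo
    (Groth.HTopHyper.isUnivHomeo_of_surjective_closedImmersion B.nilradical.subschemeι)
  let p : B.nilradical.subscheme → X := fun z => Curv2.bcFst k X k' (B.nilradical.subschemeι z)
  have hp : IsHomeomorph p := hb.comp hn
  haveI := hsm
  haveI : AlgebraicGeometry.IsReduced (Over.mk (B.nilradical.subschemeι ≫ Curv2.bcSnd k X k')).left := hred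
  refine Groth.AlgGrp1.geometricallyReduced_of_family
    (Over.mk (B.nilradical.subschemeι ≫ Curv2.bcSnd k X k')) (I := PUnit.{1})
    (fun _ => Over.mk (i ≫ pullback.snd (U.ι ≫ V.ι ≫ str) (Spec.map (CommRingCat.ofHom (algebraMap k k'))))) (fun _ => Over.homMk g hw)
    (fun _ => @Groth.AlgGrp1.geometricallyReduced_of_smooth _ _ _ _ hsm) ?_
  have hd : Dense (p '' Set.range g) := by
    have e : p '' Set.range g = V.ι '' (U : Set (V : Scheme.{u})) := by
      have h1 : ∀ z, p (g z) = V.ι (U.ι (pullback.fst (U.ι ≫ V.ι ≫ str) (Spec.map (CommRingCat.ofHom (algebraMap k k'))) (i z))) := fun z => by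
        have em : g ≫ B.nilradical.subschemeι ≫ Curv2.bcFst k X k' =
            i ≫ pullback.fst (U.ι ≫ V.ι ≫ str) (Spec.map (CommRingCat.ofHom (algebraMap k k'))) ≫ U.ι ≫ V.ι := by
          rw [reassoc_of% hg]
          simp only [m, pullback.map, Curv2.bcFst]
          erw [pullback.lift_fst]
        have := congr(($em) z)
        simpa only [p, Scheme.Hom.comp_apply] using this
      ext x
      constructor
      · rintro ⟨_, ⟨z, rfl⟩, rfl⟩
        exact ⟨_, (pullback.fst (U.ι ≫ V.ι ≫ str) (Spec.map (CommRingCat.ofHom (algebraMap k k'))) (i z)).2, (h1 z).symm⟩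
      · rintro ⟨u, hu, rfl⟩
        haveI : Surjective (Spec.map (CommRingCat.ofHom (algebraMap k k'))) := ⟨fun y => ⟨(⟨⊥, Ideal.isPrime_bot⟩ : PrimeSpectrum k'),
          @Subsingleton.elim (PrimeSpectrum k) _ _ _⟩⟩
        obtain ⟨w, hw'⟩ := (inferInstance : Surjective (pullback.fst (U.ι ≫ V.ι ≫ str) (Spec.map (CommRingCat.ofHom (algebraMap k k'))))).surj ⟨u, hu⟩
        obtain ⟨z, rfl⟩ := hsurj w
        exact ⟨g z, ⟨z, rfl⟩, by rw [h1, hw']; rfl⟩
    rw [e]
    refine (DenseRange.dense_image ?_ V.ι.continuous hU)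
    rw [DenseRange, Scheme.Opens.range_ι]
    exact hVd
  have hd' : Dense (Set.range g) := by
    have h := hd.preimage hp.isOpenMap
    rwa [Set.preimage_image_eq _ hp.injective] at h
  refine Dense.mono (fun z hz => Set.mem_iUnion.2 ⟨PUnit.unit, hz⟩) hd'

end Groth.Agent.S1629
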