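import Groth.Statements.S1654
import Groth.Agent.FBaseGeom.SepLevel
import Groth.Agent.FlatmorThree.Pencil
import Groth.Agent.Misc10.Weil.FrobGeom
import Groth.Agent.VarietyBC.Dim

set_option autoImplicit false
universe u
open CategoryTheory CategoryTheory.Limits AlgebraicGeometry
open Variety

namespace Groth.Agent.S1654

open Groth.VarietyBC

attribute [local instance] Curv2.resAlgebra

theorem finite_separableClosure_residueField (k : Type u) [Field k] (X : Scheme.{u}) [X.Over (Spec (CommRingCat.of k))]
    [LocallyOfFiniteType (X ↘ (Spec (CommRingCat.of k)))] (x : X) :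
    FiniteDimensional k (separableClosure k (X.residueField x)) := by
  have h := Groth.Misc10.Weil.essFiniteType_resHom (X ↘ Spec (CommRingCat.of k)) x
  rw [Groth.VarietyBC.resHom_eq_resMap] at h
  haveI : Algebra.EssFiniteType k (X.residueField x) := h
  haveI := Groth.FlatmorThree.Pencil.finite_algebraicClosure k (X.residueField x)
  have hle : separableClosure k (X.residueField x) ≤ algebraicClosure k (X.residueField x) :=
    fun a ha => mem_algebraicClosure_iff.mpr (mem_separableClosure_iff.mp ha).isIntegral.isAlgebraic
  exact FiniteDimensional.of_injective (IntermediateField.inclusion hle).toLinearMap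
    (IntermediateField.inclusion_injective hle)

/-- Let X be a k-scheme locally of finite type, having only finitely many irreducible components. There
is then a finite separable extension k' of k such that every irreducible component of X_{k'}, with
its reduced induced structure, is geometrically irreducible over k'. -/
theorem result (k : Type u) [Field k] (X : Scheme.{u}) [X.Over (Spec (CommRingCat.of k))] [LocallyOfFiniteType (X ↘ (Spec (CommRingCat.of k)))]
    (hirr : (irreducibleComponents (X : Type u)).Finite) :
    ∃ (k' : Type u) (_ : Field k') (_ : Algebra k k'), FiniteDimensional k k' ∧ Algebra.IsSeparable k k' ∧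
      ∀ (T : Set (Curv2.bc k X k')) (hT : T ∈ irreducibleComponents (Curv2.bc k X k' : Type u)),
        GeometricallyIrreducible
          ((Scheme.IdealSheafData.vanishingIdeal ⟨T, isClosed_of_mem_irreducibleComponents T hT⟩).subschemeι ≫
            Curv2.bcSnd k X k') := by
  haveI : Finite (irreducibleComponents (X : Type u)) := hirr.to_subtype
  obtain ⟨E, hE, h⟩ := Groth.FBaseGeom.exists_sepClosedAt_level (k := k) (X := X)
    (fun C : irreducibleComponents (X : Type u) => C.2.1.genericPoint)
    (fun C => finite_separableClosure_residueField k X _)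
  refine ⟨E, inferInstance, inferInstance, hE, inferInstance, fun T hT => ?_⟩
  letI : (Curv2.bc k X E).Over (Spec (CommRingCat.of E)) := ⟨Curv2.bcSnd k X E⟩
  obtain ⟨η, hη⟩ := QuasiSober.sober hT.1 (isClosed_of_mem_irreducibleComponents T hT)
  obtain ⟨Z, hZ, hZη⟩ := Groth.FBaseGeom.exists_component_bcFst E hT hη
  have hsc : SepClosedAt E (Curv2.bc k X E) η := h ⟨Z, hZ⟩ η hZη.symm
  let I := Scheme.IdealSheafData.vanishingIdeal (X := Curv2.bc k X E) ⟨T, isClosed_of_mem_irreducibleComponents T hT⟩
  have hr : Set.range I.subschemeι = T := by
    rw [Scheme.IdealSheafData.range_subschemeι, Scheme.IdealSheafData.coe_support_vanishingIdeal]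
    rfl
  haveI : IrreducibleSpace I.subscheme := by
    haveI : IrreducibleSpace T := (isIrreducible_iff_irreducibleSpace.1 hT.1)
    exact ((I.subschemeι.isClosedEmbedding.isEmbedding.toHomeomorph).trans (Homeomorph.setCongr hr)).irreducibleSpace_iff.2 inferInstance
  letI : I.subscheme.Over (Spec (CommRingCat.of E)) := ⟨I.subschemeι ≫ Curv2.bcSnd k X E⟩
  have hgp : I.subschemeι (genericPoint I.subscheme) = η := by
    refine IsGenericPoint.eq ?_ hη
    have := (genericPoint_spec I.subscheme).image I.subschemeι.continuous
    rwa [Set.image_univ, hr, (isClosed_of_mem_irreducibleComponents T hT).closure_eq] at this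
  refine geometricallyIrreducible_of_sepClosedAt (k := E) (X := I.subscheme) ?_
  subst hgp
  set ζ := genericPoint I.subscheme
  have hcomp : CommRingCat.ofHom (Curv2.resMap E (Curv2.bc k X E) (I.subschemeι ζ)) ≫ I.subschemeι.residueFieldMap ζ =
      CommRingCat.ofHom (Curv2.resMap E I.subscheme ζ) := by
    refine Spec.map_injective ?_
    rw [Spec.map_comp, ← fromSpecResidueField_str, ← fromSpecResidueField_str]
    exact (Scheme.Hom.SpecMap_residueFieldMap_fromSpecResidueField_assoc I.subschemeι ζ _)
  let g : (Curv2.bc k X E).residueField (I.subschemeι ζ) →ₐ[E] I.subscheme.residueField ζ :=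
    { (I.subschemeι.residueFieldMap ζ).hom with commutes' := fun c => congr($hcomp c) }
  intro a ha
  obtain ⟨b, rfl⟩ := Groth.Variety2.Dim.residueFieldMap_surjective I.subschemeι ζ a
  have hb : IsSeparable E b := IsSeparable.of_algHom g ha
  obtain ⟨c, rfl⟩ := hsc b hb
  exact ⟨c, (g.commutes c).symm⟩

end Groth.Agent.S1654
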