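import Groth.Statements.S0435
import Groth.Agent.S2549
import Groth.Agent.VarietyBC.Reduced

set_option autoImplicit false
universe u
open FlatMor

namespace Groth.Agent.S0435

open AlgebraicGeometry CategoryTheory Limits in
/-- For a flat proper morphism of finite presentation, the points of the target whose fibre is
geometrically reduced form an open subset. -/
theorem result {X Y : Scheme.{u}} (f : X ⟶ Y) [Flat f] [IsProper f] [LocallyOfFinitePresentation f] :
    IsOpen {y : ↑Y | GeometricallyReduced (f.fiberToSpecResidueField y)} := by
  have hset : {y : ↑Y | GeometricallyReduced (f.fiberToSpecResidueField y)} =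
      (f '' {x : X | FBase.IsGeomReducedAt (f.fiberToSpecResidueField (f.base x)) (f.asFiber x)}ᶜ)ᶜ := by
    ext y
    letI : (f.fiber y).Over (Spec (CommRingCat.of (Y.residueField y))) :=
      ⟨f.fiberToSpecResidueField y⟩
    constructor
    · rintro hs ⟨x, hx, rfl⟩
      refine hx ?_
      have := (Groth.VarietyBC.geometricallyReduced_iff_forall
        (k := Y.residueField (f x)) (X := f.fiber (f x))).1 hs (f.asFiber x)
      exact this
    · intro hy
      refine (Groth.VarietyBC.geometricallyReduced_iff_forall
        (k := Y.residueField y) (X := f.fiber y)).2 fun z => ?_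
      have key : ∀ x, f x = y → f.fiberι y z = x →
          FBase.IsGeomReducedAt (f.fiberToSpecResidueField y) z := by
        rintro x rfl hzx
        by_contra hz
        refine hy ⟨x, ?_, rfl⟩
        intro hx
        apply hz
        have : z = f.asFiber x := (f.fiberι (f x)).isEmbedding.injective
          (hzx.trans (f.fiberι_asFiber x).symm)
        rw [this]
        exact hx
      exact key _ ((f.range_fiberι y).le ⟨z, rfl⟩) rfl
  rw [hset]
  exact (f.isClosedMap _ (Groth.Agent.S2549.result f).isClosed_compl).isOpen_compl

end Groth.Agent.S0435
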