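import Groth.Statements.S1539
import Groth.Agent.VarietyBC.Fibre

set_option autoImplicit false
universe u
open CategoryTheory CategoryTheory.Limits AlgebraicGeometry
open Variety

namespace Groth.Agent.S1539

open Groth.VarietyBC


/-- If X_{k'} is irreducible for every finite separable field extension k' of k, then X is geometrically
irreducible over k. -/
theorem result (k : Type u) [Field k] (X : Scheme.{u}) [X.Over (Spec (CommRingCat.of k))]
    (h : ∀ (k' : Type u) [Field k'] [Algebra k k'] [FiniteDimensional k k'] [Algebra.IsSeparable k k'],
      IrreducibleSpace (Curv2.bc k X k')) :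
    GeometricallyIrreducible (X ↘ (Spec (CommRingCat.of k))) := by
  have := h k
  have : IrreducibleSpace X := irreducibleSpace_of_bc (k := k) k
  refine geometricallyIrreducible_of_sepClosedAt fun a ha => ?_
  letI := Curv2.resAlgebra k X (genericPoint X)
  have : FiniteDimensional k (IntermediateField.adjoin k {a}) :=
    IntermediateField.adjoin.finiteDimensional ha.isIntegral
  have : Algebra.IsSeparable k (IntermediateField.adjoin k {a}) :=
    (IntermediateField.isSeparable_adjoin_simple_iff_isSeparable (F := k)
      (E := X.residueField (genericPoint X))).mpr ha
  exact mem_range_of_irreducibleSpace_bc a ha (h _)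

end Groth.Agent.S1539
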