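import Groth.Statements.S3410
import Groth.Agent.EGA43Topo.ComponentUnique
import Groth.Agent.EGA43Topo.UnibranchScheme
import Groth.Agent.Misc6.Equidim2
open Groth.EGA43Topo.CompUnique

set_option autoImplicit false
open CategoryTheory AlgebraicGeometry
universe u
open EGA43

namespace Groth.Agent.S3410

/-- Let Y be locally Noetherian, f : X ⟶ Y locally of finite type, x a point of X and y = f x. Suppose f
is universally open at the generic point of every irreducible component of X_y through x, X_y is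
geometrically pointwise integral at x, and O_{Y,y} is geometrically unibranch. Then x lies on
exactly one irreducible component of X. If moreover O_{Y,y} is a domain, then O_{X,x} is a domain
and O_{Y,y} ⟶ O_{X,x} is flat. -/
theorem result {X Y : Scheme.{u}} [IsLocallyNoetherian Y]
    (f : X ⟶ Y) [LocallyOfFiniteType f] (x : X)
    (hopen : ∀ z : ↥(f.fiber (f.base x)), f.asFiber x ∈ closure {z} →
      (∀ z' : ↥(f.fiber (f.base x)), z ∈ closure {z'} → z' = z) →
      EGA43.IsUnivOpenAt f ((f.fiberι (f.base x)).base z))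
    (hint : FBase.IsGeomPtIntegralAt (f.fiberToSpecResidueField (f.base x)) (f.asFiber x))
    (hY : CAlg2.IsGeomUnibranch (Y.presheaf.stalk (f.base x))) :
    (∃! Z : Set X, Z ∈ irreducibleComponents (X : Type u) ∧ x ∈ Z) ∧
      (IsDomain (Y.presheaf.stalk (f.base x)) → IsDomain (X.presheaf.stalk x) ∧ (f.stalkMap x).hom.Flat) := by
  obtain ⟨z₀, hz₀a, hall⟩ := exists_generic_of_isGeomPtIntegralAt f x hint
  have hgood : Groth.EGA43Topo.FlatUnivOpen.GoodFibre f x := ⟨hopen, fun K _ _ x' hx' => by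
    haveI := hint K x' hx'
    infer_instance⟩
  have hz₀max : ∀ a' : ↥(f.fiber (f.base x)), z₀ ∈ closure {a'} → a' = z₀ := fun a' ha' =>
    ((specializes_iff_mem_closure.2 ha').antisymm
      (hall a' ((specializes_iff_mem_closure.2 ha').trans hz₀a))).eq
  let z := (f.fiberι (f.base x)).base z₀
  have hzy : f.base z = f.base x := Groth.FibreDim.apply_fiberι f _ z₀
  have hzx : z ⤳ x := by
    have := hz₀a.map (f.fiberι (f.base x)).continuous
    rwa [f.fiberι_asFiber] at this
  have hzmax : FMax f z := fmax_fiberι f hz₀max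
  have hred : GRF f z := (grf_fiberι_iff f _ z₀).2
    (Groth.EGA43Topo.FlatUnivOpen.isGeomReducedAt_of_specializes _ hz₀a hgood.2)
  have hfib : ∀ v : X, v ⤳ x → f.base v = f.base x → z ⤳ v := fun v hv hfv => by
    obtain ⟨v₀, rfl⟩ : v ∈ Set.range (f.fiberι (f.base x)).base := (f.range_fiberι _).ge hfv
    refine (hall v₀ ?_).map (f.fiberι _).continuous
    rw [← (f.fiberι _).isEmbedding.toIsInducing.specializes_iff, f.fiberι_asFiber]
    exact hv
  obtain ⟨e, he⟩ := Groth.Misc6.Equidim.exists_fh_nat f z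
  rw [Groth.Misc6.Equidim.fh_fiberι] at he
  have heq : ∀ Z ∈ irreducibleComponents (↥(f.fiber (f.base x)) : Type u), f.asFiber x ∈ Z →
      topologicalKrullDim (↥Z : Type u) = e := by
    intro Z hZ haZ
    have hcl := isClosed_of_mem_irreducibleComponents Z hZ
    have hgc : closure {hZ.1.genericPoint} = Z := hZ.1.closure_genericPoint hcl
    have hga : hZ.1.genericPoint ⤳ f.asFiber x := specializes_iff_mem_closure.2 (by rw [hgc]; exact haZ)
    have heqz : Z = closure {z₀} := subset_antisymm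
      (hgc ▸ closure_minimal (Set.singleton_subset_iff.2 (specializes_iff_mem_closure.1 (hall _ hga)))
        isClosed_closure)
      (hZ.2 isIrreducible_singleton.closure (hgc ▸ closure_minimal (Set.singleton_subset_iff.2
        (specializes_iff_mem_closure.1 (hall _ hga))) isClosed_closure))
    subst heqz
    rw [Groth.Variety2.Dim.dim_closure_singleton, he]
    rfl
  have hequi := Groth.EGA43Topo.FlatUnivOpen.isEquidimAt_of_goodFibre f hgood heq
  haveI : IsLocallyNoetherian X := LocallyOfFiniteType.isLocallyNoetherian f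
  have hcomp : ∀ u : X, IsMax u → closure {u} ∈ irreducibleComponents (X : Type u) :=
    fun u hu => Groth.FibreDim.mem_irreducibleComponents_of_isMax hu
  -- each maximal generization of `x` lies over the generic point and is the same
  have hbase : ∀ u : X, IsMax u → u ⤳ x →
      IsMax (f.base u) ∧ f.base u ⤳ f.base x ∧ FlatMor.fibreDimAt f x = FlatMor.fibreDimAt f u := by
    intro u hu hux
    obtain ⟨h1, h2⟩ := Groth.Misc6.Equidim.of_isEquidimAt f hequi (hcomp u hu) hux
    exact ⟨Groth.FibreDim.isMax_of_mem_genericPoints h1, hux.map f.continuous,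
      h2.trans (Groth.Misc6.Equidim.fibreDimAt_eq_fh_of_isMax f hu).symm⟩
  have hlift : ∀ u : X, IsMax u → u ⤳ x → ∀ T : TopologicalSpace.Closeds X, (T : Set X) = closure {u} →
      ∃ w, (Scheme.IdealSheafData.vanishingIdeal T).subschemeι.base w = z ∧
        EGA43.IsUnivOpenAt ((Scheme.IdealSheafData.vanishingIdeal T).subschemeι ≫ f) w := by
    intro u hu hux T hT
    obtain ⟨hfu, hfux, hdu⟩ := hbase u hu hux
    let i := (Scheme.IdealSheafData.vanishingIdeal T).subschemeι
    obtain ⟨w₀, hw₀⟩ := Groth.Misc6.Equidim.exists_sub_point T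
      (show x ∈ (T : Set X) by rw [hT]; exact specializes_iff_mem_closure.1 hux)
    obtain ⟨u₀, hu₀⟩ := Groth.Misc6.Equidim.exists_sub_point T
      (show u ∈ (T : Set X) by rw [hT]; exact subset_closure rfl)
    haveI : LocallyOfFiniteType (i ≫ f) := inferInstance
    have hsp : ∀ v, u₀ ⤳ v := fun v => by
      rw [← i.isEmbedding.toIsInducing.specializes_iff, hu₀, specializes_iff_mem_closure, ← hT]
      exact (Groth.Misc6.Equidim.range_sub T).le ⟨v, rfl⟩
    have hu₀max : IsMax u₀ := fun v hv => Scheme.le_iff_specializes.2 (hsp v)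
    have hdu₀ : FlatMor.fibreDimAt f x = FlatMor.fibreDimAt (i ≫ f) u₀ := by
      rw [hdu, Groth.Misc6.Equidim.fibreDimAt_eq_fh_of_isMax f hu,
        Groth.Misc6.Equidim.fibreDimAt_eq_fh_of_isMax (i ≫ f) hu₀max,
        Groth.Misc6.Equidim.fh_comp_preimmersion, hu₀]
    obtain ⟨w, hw⟩ := exists_sub_point_of_dim f hzmax hzy hzx hfib T w₀ hw₀
      (hdu₀.le.trans (Groth.Misc6.Equidim.fibreDimAt_mono _ (hsp w₀)))
    have hfw : (i ≫ f).base w = f.base x := by rw [Scheme.Hom.comp_apply, hw, hzy]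
    have hfu₀ : (i ≫ f).base u₀ = f.base u := by rw [Scheme.Hom.comp_apply, hu₀]
    have hwmax : ∀ v, (i ≫ f).base v = (i ≫ f).base w → v ⤳ w → v = w := fun v hv hvw =>
      i.isEmbedding.injective ((hzmax (i.base v) (by
        rw [hzy, ← Scheme.Hom.comp_apply, hv, hfw]) (hw ▸ hvw.map i.continuous)).trans hw.symm)
    refine ⟨w, hw, Groth.EGA43Topo.isUnivOpenAt_of_component (i ≫ f) hwmax (hfw ▸ hY) (hsp w) (hfu₀ ▸ hfu)
      (fun v _ hvu => (hvu.antisymm (hsp v)).eq) ?_⟩
    rw [← hdu₀, (Groth.FibreDim.fibreDimAt_eq_height_of_max (i ≫ f) hwmax).1]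
    show ((Groth.Misc6.Equidim.fh (i ≫ f) w : ℕ∞) : WithBot ℕ∞) ≤ _
    rw [Groth.Misc6.Equidim.fh_comp_preimmersion, hw]
    exact (Groth.Misc6.Equidim.fh_le_fibreDimAt f z).trans (Groth.Misc6.Equidim.fibreDimAt_mono f hzx)
  have huniq : ∀ u v : X, IsMax u → u ⤳ x → IsMax v → v ⤳ x → u = v := by
    intro u v hu hux hv hvx
    obtain ⟨hfu, hfux, -⟩ := hbase u hu hux
    obtain ⟨hfv, hfvx, -⟩ := hbase v hv hvx
    have hη : f.base v = f.base u := max_unique_of_isUnibranch hY.1 hfv hfvx hfu hfux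
    by_cases hy : f.base u = f.base x
    · have h1 := hfib u hux hy
      have h2 := hfib v hvx (hη.trans hy)
      exact ((h1.antisymm (hu h1)).eq).symm.trans (h2.antisymm (hv h2)).eq
    · obtain ⟨w₁, hw₁, ho₁⟩ := hlift u hu hux ⟨_, isClosed_closure⟩ rfl
      obtain ⟨w₂, hw₂, ho₂⟩ := hlift v hv hvx ⟨_, isClosed_closure⟩ rfl
      exact eq_of_isUnivOpenAt f hzmax hred (hzy.symm ▸ hfux) (fun he => hy (he.trans hzy))
        rfl hη (T₁ := ⟨_, isClosed_closure⟩) (T₂ := ⟨_, isClosed_closure⟩) rfl rfl hw₁ hw₂ ho₁ ho₂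
  refine ⟨?_, fun hdom => ?_⟩
  · obtain ⟨ξ, hξmax, hξx⟩ := Groth.FibreDim.exists_max_specializes x
    refine ⟨closure {ξ}, ⟨hcomp ξ hξmax, specializes_iff_mem_closure.1 hξx⟩, fun Z hZ => ?_⟩
    have hgc : closure {hZ.1.1.genericPoint} = Z :=
      hZ.1.1.closure_genericPoint (isClosed_of_mem_irreducibleComponents Z hZ.1)
    have hgmax : IsMax hZ.1.1.genericPoint :=
      Groth.FibreDim.isMax_of_mem_genericPoints (show closure {hZ.1.1.genericPoint} ∈ _ by rw [hgc]; exact hZ.1)
    rw [← hgc, huniq _ ξ hgmax (specializes_iff_mem_closure.2 (by rw [hgc]; exact hZ.2)) hξmax hξx]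
  · haveI := hdom
    refine ⟨?_, Groth.EGA43Topo.FlatUnivOpen.flat_stalkMap_of_goodFibre f hgood⟩
    haveI := Groth.EGA43Topo.FlatUnivOpen.isReduced_stalk_of_goodFibre f hgood
    refine isDomain_of_subsingleton_minimalPrimes fun P hP Q hQ => ?_
    haveI := hP.1.1
    haveI := hQ.1.1
    have h : ∀ (t : PrimeSpectrum (X.presheaf.stalk x)), t.asIdeal ∈ minimalPrimes (X.presheaf.stalk x) →
        IsMax ((X.fromSpecStalk x).base t) ∧ (X.fromSpecStalk x).base t ⤳ x := fun t ht =>
      ⟨(Groth.FibreDim.isMax_fromSpecStalk_iff t).2 ht, Scheme.range_fromSpecStalk.le ⟨t, rfl⟩⟩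
    have := huniq _ _ (h ⟨P, inferInstance⟩ hP).1 (h ⟨P, inferInstance⟩ hP).2 (h ⟨Q, inferInstance⟩ hQ).1
      (h ⟨Q, inferInstance⟩ hQ).2
    exact congrArg PrimeSpectrum.asIdeal ((X.fromSpecStalk x).isEmbedding.injective this)

end Groth.Agent.S3410
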