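import Groth.Statements.S3418
import Groth.Agent.NGeomPts.Lsc

set_option autoImplicit false
open CategoryTheory AlgebraicGeometry
universe u
open EGA43

namespace Groth.Agent.S3418

/-- Let f : X ⟶ Y be flat, locally of finite presentation, separated and quasi-finite, and let n(y) be
the geometric number of points of the fibre over y. Then n is lower semicontinuous on Y, and if n is
constant on a neighbourhood of a point y₀ then f is proper over some open neighbourhood of y₀. -/
theorem result {X Y : Scheme.{u}} (f : X ⟶ Y) [Flat f]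
    [LocallyOfFinitePresentation f] [IsSeparated f] [LocallyQuasiFinite f] [QuasiCompact f] :
    LowerSemicontinuous (fun z : Y => MoreMor.nGeomConnComp f z) ∧
      ∀ y₀ : Y, (∃ V ∈ nhds y₀, ∀ z ∈ V, MoreMor.nGeomConnComp f z = MoreMor.nGeomConnComp f y₀) →
        ∃ U : Y.Opens, y₀ ∈ U ∧ IsProper (f ∣_ U) := by
  have hu := fun x : X => Groth.NGeomPts.isUnivOpenAt_of_universallyOpen f x
  refine ⟨fun y c hc => (Groth.NGeomPts.eventually_nGeomConnComp_le f y fun x _ => hu x).mono
    fun z hz => lt_of_lt_of_le hc hz, ?_⟩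
  rintro y ⟨V, hV, hc⟩
  obtain ⟨M, hy, hM⟩ :=
    Groth.NGeomPts.exists_isFinite_nhd f y (fun x _ => hu x) (Filter.mem_of_superset hV hc)
  exact ⟨M, hy, inferInstance⟩

end Groth.Agent.S3418
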