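import Groth.Statements.S1340
import Mathlib.AlgebraicGeometry.Morphisms.Proper

set_option autoImplicit false
universe u
open FlatMor

namespace Groth.Agent.S1340

open AlgebraicGeometry CategoryTheory Limits in
/-- Stein factorization, universally closed case: let f : X ⟶ S be universally closed and
quasi-separated, and let X ⟶ X' ⟶ S be its factorization through the normalization X' of S in X.
Then the canonical morphism X ⟶ X' identifies the structure sheaf of X' with the pushforward of the
structure sheaf of X: for every open U of X' the induced map from O_{X'}(U) to the sections of O_X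
over the inverse image of U is an isomorphism. (That X ⟶ X' is surjective and universally closed and
that X' ⟶ S is integral are separate facts not restated here.) -/
theorem result {X S : Scheme.{u}} (f : X ⟶ S) [UniversallyClosed f] [QuasiSeparated f]
    (U : f.normalization.Opens) : IsIso (f.toNormalization.app U) := by
  let t := f.toNormalization
  suffices h : IsIso (show f.normalization.sheaf ⟶ (TopCat.Sheaf.pushforward _ t.base).obj X.sheaf from ⟨t.c⟩) by
    exact (NatTrans.isIso_iff_isIso_app _).mp
      ((TopCat.Sheaf.forget _ _).map_isIso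
        (show f.normalization.sheaf ⟶ (TopCat.Sheaf.pushforward _ t.base).obj X.sheaf from ⟨t.c⟩)) (.op U)
  have hb : TopologicalSpace.Opens.IsBasis (Set.range fun p : Σ V : S.affineOpens,
      Γ(f.normalization, f.fromNormalization ⁻¹ᵁ V.1) => f.normalization.basicOpen p.2) := by
    rw [TopologicalSpace.Opens.isBasis_iff_nbhd]
    intro W x hx
    obtain ⟨_, ⟨V, hV, rfl⟩, hxV, -⟩ :=
      S.isBasis_affineOpens.exists_subset_of_mem_open (Set.mem_univ (f.fromNormalization x)) isOpen_univ
    obtain ⟨g, hgW, hxg⟩ := (hV.preimage f.fromNormalization).exists_basicOpen_le ⟨x, hx⟩ hxV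
    exact ⟨_, ⟨⟨⟨V, hV⟩, g⟩, rfl⟩, hxg, hgW⟩
  refine TopCat.Sheaf.isIso_iff_isIso_basis hb ?_
  rintro ⟨V, g⟩
  let W := f.fromNormalization ⁻¹ᵁ V.1
  show IsIso (t.app (f.normalization.basicOpen g))
  have hW : IsAffineOpen W := V.2.preimage _
  -- bijectivity over `W`
  let : Algebra Γ(S, V.1) Γ(X, f ⁻¹ᵁ V.1) := (f.app V.1).hom.toAlgebra
  have : IsAffine V.1.toScheme := V.2
  have hint : integralClosure Γ(S, V.1) Γ(X, f ⁻¹ᵁ V.1) = ⊤ := by
    rw [integralClosure_eq_top_iff, ← algebraMap_isIntegral_iff, RingHom.algebraMap_toAlgebra]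
    have h := isIntegral_appTop_of_universallyClosed (f ∣_ V.1)
    have e : f.app V.1 = V.1.topIso.inv ≫ (f ∣_ V.1).appTop ≫ (f ⁻¹ᵁ V.1).topIso.hom := by
      rw [morphismRestrict_appTop]
      simp only [Scheme.Opens.topIso, Scheme.Hom.app_eq_appLE, Scheme.Hom.appLE_map]
      change _ = S.presheaf.map _ ≫ f.appLE _ _ _ ≫ X.presheaf.map _
      have L : ∀ {A A' : S.Opens} {B B' : X.Opens} (i : Opposite.op A ⟶ Opposite.op A')
          (j : Opposite.op B' ⟶ Opposite.op B) (e' : B' ≤ f ⁻¹ᵁ A') (e : B ≤ f ⁻¹ᵁ A),
          f.appLE A B e = S.presheaf.map i ≫ f.appLE A' B' e' ≫ X.presheaf.map j := by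
        intros; rw [Scheme.Hom.appLE_map, Scheme.Hom.map_appLE]
      exact L _ _ _ _
    rw [e]
    exact RingHom.IsIntegral.trans _ _
      (RingHom.isIntegral_of_surjective _ V.1.topIso.symm.commRingCatIsoToRingEquiv.surjective)
      (RingHom.IsIntegral.trans _ _ h
        (RingHom.isIntegral_of_surjective _ (f ⁻¹ᵁ V.1).topIso.commRingCatIsoToRingEquiv.surjective))
  have hiso : IsIso (t.app W) := by
    rw [f.toNormalization_app_preimage V]
    have : IsIso (CommRingCat.ofHom (integralClosure Γ(S, V.1) Γ(X, f ⁻¹ᵁ V.1)).val.toRingHom) := by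
      rw [ConcreteCategory.isIso_iff_bijective]
      exact ⟨Subtype.val_injective, fun y => ⟨⟨y, hint ▸ Algebra.mem_top⟩, rfl⟩⟩
    exact IsIso.comp_isIso' inferInstance (IsIso.comp_isIso' this inferInstance)
  -- pass to the basic open
  have hc : IsCompact (t ⁻¹ᵁ W).1 := t.isCompact_preimage hW.isCompact
  have hs : IsQuasiSeparated (t ⁻¹ᵁ W).1 := t.isQuasiSeparated_preimage hW.isQuasiSeparated
  rw [ConcreteCategory.isIso_iff_bijective]
  let := (t.app W).hom.toAlgebra
  have := hW.isLocalization_basicOpen g
  have := isLocalization_basicOpen_of_qcqs hc hs (t.app W g)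
  let e : Γ(f.normalization, W) ≃+* Γ(X, t ⁻¹ᵁ W) := (asIso (t.app W)).commRingCatIsoToRingEquiv
  let r : Γ(f.normalization, f.normalization.basicOpen g) ⟶ Γ(X, X.basicOpen (t.app W g)) :=
    t.appLE _ _ (t.preimage_basicOpen g).ge
  have hr : r.hom = (IsLocalization.ringEquivOfRingEquiv (M := Submonoid.powers g)
      (T := Submonoid.powers (t.app W g)) _ _ e (Submonoid.map_powers _ _)).toRingHom := by
    apply IsLocalization.ringHom_ext (Submonoid.powers g)
    have h : f.normalization.presheaf.map (homOfLE (f.normalization.basicOpen_le g)).op ≫ r =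
        t.app W ≫ X.presheaf.map (homOfLE (X.basicOpen_le (t.app W g))).op := by
      simp [r, Scheme.Hom.map_appLE, Scheme.Hom.app_eq_appLE, Scheme.Hom.appLE_map, W]
    ext z
    exact (congr($h z)).trans (IsLocalization.ringEquivOfRingEquiv_eq (M := Submonoid.powers g)
      (T := Submonoid.powers (t.app W g)) (j := e) (S := Γ(f.normalization, f.normalization.basicOpen g))
      (Q := Γ(X, X.basicOpen (t.app W g))) (Submonoid.map_powers _ _) z).symm
  have hr' : Function.Bijective r.hom := by rw [hr]; exact RingEquiv.bijective _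
  have : IsIso r := (ConcreteCategory.isIso_iff_bijective r).mpr hr'
  rw [← ConcreteCategory.isIso_iff_bijective]
  have e2 : t.app (f.normalization.basicOpen g) =
      r ≫ X.presheaf.map (eqToHom (t.preimage_basicOpen g)).op := by
    simp [r, Scheme.Hom.app_eq_appLE, Scheme.Hom.appLE_map]
  rw [e2]; infer_instance

end Groth.Agent.S1340
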