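import Groth.Statements.S9633
import Groth.Agent.Calg5.WeakAss
import Mathlib.RingTheory.Spectrum.Prime.Topology
import Mathlib.Topology.Connected.Separation
import Mathlib.Tactic

set_option autoImplicit false
universe u
open CAlg

namespace Groth.Agent.S9633

/-- For a ring R with spectrum X the following are equivalent: (1) X is profinite, i.e. compact,
Hausdorff and totally disconnected; (2) X is Hausdorff; (3) X is totally disconnected; (4) every
quasi-compact open subset of X is closed; (5) there are no nontrivial inclusions among prime ideals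
of R; (6) every prime ideal of R is maximal; (7) every prime ideal of R is a minimal prime; (8)
every standard open D(f) is closed. -/
theorem result {R : Type u} [CommRing R] :
    [CompactSpace (PrimeSpectrum R) ∧ T2Space (PrimeSpectrum R) ∧ TotallyDisconnectedSpace (PrimeSpectrum R),
      T2Space (PrimeSpectrum R),
      TotallyDisconnectedSpace (PrimeSpectrum R),
      ∀ W : Set (PrimeSpectrum R), IsOpen W → IsCompact W → IsClosed W,
      ∀ p q : PrimeSpectrum R, p ≤ q → p = q,
      ∀ p : Ideal R, p.IsPrime → p.IsMaximal,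
      ∀ p : Ideal R, p.IsPrime → p ∈ minimalPrimes R,
      ∀ f : R, IsClosed (PrimeSpectrum.basicOpen f : Set (PrimeSpectrum R))].TFAE := by
  have hsep : (∀ f : R, IsClosed (PrimeSpectrum.basicOpen f : Set (PrimeSpectrum R))) →
      TotallySeparatedSpace (PrimeSpectrum R) := by
    intro h
    refine totallySeparatedSpace_iff_exists_isClopen.mpr ?_
    intro x y hxy
    obtain ⟨f, hf⟩ : ∃ f, ¬ (f ∈ x.asIdeal ↔ f ∈ y.asIdeal) := by
      by_contra hc
      push Not at hc
      exact hxy (PrimeSpectrum.ext (Ideal.ext hc))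
    by_cases hfx : f ∈ x.asIdeal
    · refine ⟨(PrimeSpectrum.basicOpen f : Set _)ᶜ,
        (IsClopen.compl ⟨h f, (PrimeSpectrum.basicOpen f).isOpen⟩), ?_, ?_⟩
      · exact fun hc => hc hfx
      · exact fun hc => hc (fun hfy => hf ⟨fun _ => hfy, fun _ => hfx⟩)
    · refine ⟨PrimeSpectrum.basicOpen f, ⟨h f, (PrimeSpectrum.basicOpen f).isOpen⟩, hfx, ?_⟩
      intro hc
      exact hf ⟨fun h => absurd h hfx, fun h => absurd h hc⟩
  tfae_have 1 → 2 := fun h => h.2.1
  tfae_have 2 → 4 := fun h W _ hW => hW.isClosed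
  tfae_have 4 → 8 := fun h f =>
    h _ (PrimeSpectrum.basicOpen f).isOpen (PrimeSpectrum.isCompact_basicOpen f)
  tfae_have 8 → 1 := fun h => by
    have := hsep h
    exact ⟨inferInstance, TotallySeparatedSpace.t2Space, inferInstance⟩
  tfae_have 1 → 3 := fun h => h.2.2
  tfae_have 3 → 5 := by
    intro h p q hpq
    have hspec : p ⤳ q := (PrimeSpectrum.le_iff_specializes p q).mp hpq
    have hsub : q ∈ closure ({p} : Set (PrimeSpectrum R)) := specializes_iff_mem_closure.mp hspec
    have := h.isTotallyDisconnected_univ (closure {p}) (Set.subset_univ _)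
      isPreconnected_singleton.closure
    exact this (subset_closure (Set.mem_singleton p)) hsub
  tfae_have 5 → 6 := by
    intro h p hp
    obtain ⟨m, hm, hle⟩ := Ideal.exists_le_maximal p hp.ne_top
    have : (⟨p, hp⟩ : PrimeSpectrum R) = ⟨m, hm.isPrime⟩ := h _ _ hle
    rwa [show p = m from congrArg PrimeSpectrum.asIdeal this]
  tfae_have 6 → 7 := fun h p hp => ⟨⟨hp, bot_le⟩, fun q hq hqp =>
    ((h q hq.1).eq_of_le hp.ne_top hqp).ge⟩
  tfae_have 7 → 8 := by
    intro h f
    rw [← isOpen_compl_iff, isOpen_iff_mem_nhds]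
    intro x hx
    have hfx : f ∈ x.asIdeal := by
      by_contra hc; exact hx hc
    obtain ⟨s, hs, n, hn⟩ :=
      ((Groth.Calg5.minimalPrimes_iff_forall (I := ⊥) (p := x.asIdeal)).mp (h _ x.2)).2 f hfx
    refine Filter.mem_of_superset ((PrimeSpectrum.basicOpen s).isOpen.mem_nhds hs) ?_
    intro y hy hfy
    have h0 : s * f ^ n ∈ y.asIdeal := by rw [Ideal.mem_bot.mp hn]; exact zero_mem _
    rcases y.2.mem_or_mem h0 with h | h
    · exact hy h
    · exact hfy (y.2.mem_of_pow_mem _ h)
  tfae_finish

end Groth.Agent.S9633
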