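import Groth.Statements.S7664
import Groth.Agent.GlueRings.Basic

set_option autoImplicit false
universe u
open CategoryTheory CategoryTheory.Limits AlgebraicGeometry
open Variety

namespace Groth.Agent.S7664

variable {K : Type u} [Field K]

lemma mem_max_of_not_mem (B : ValuationSubring K) {a : K} (ha : a ∉ B) :
    a⁻¹ ∈ B.nonunits := by
  rw [ValuationSubring.mem_nonunits_iff_exists_mem_maximalIdeal]
  refine ⟨(B.mem_or_inv_mem a).resolve_left ha, ?_⟩
  rw [IsLocalRing.mem_maximalIdeal]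
  intro h
  obtain ⟨b, hb⟩ := isUnit_iff_exists_inv.mp h
  have hb' : a⁻¹ * (b : K) = 1 := congrArg Subtype.val hb
  exact ha (by rw [← inv_inv a, inv_eq_of_mul_eq_one_right hb']; exact b.2)

/-- If `b * a⁻¹` is a nonunit and `a` is outside, then so is `a + b`. -/
lemma add_not_mem (B : ValuationSubring K) {a b : K} (ha : a ∉ B) (hb : b * a⁻¹ ∈ B.nonunits) :
    a + b ∉ B := by
  have ha0 : a ≠ 0 := fun h => ha (h ▸ zero_mem B)
  obtain ⟨hq, hqm⟩ := ValuationSubring.mem_nonunits_iff_exists_mem_maximalIdeal.mp hb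
  have hu : IsUnit (1 + (⟨b * a⁻¹, hq⟩ : B)) := by
    refine (IsLocalRing.isUnit_or_isUnit_of_add_one (a := 1 + (⟨b * a⁻¹, hq⟩ : B))
      (b := -⟨b * a⁻¹, hq⟩) (by ring)).resolve_right ?_
    rw [IsUnit.neg_iff]
    exact (IsLocalRing.mem_maximalIdeal _).mp hqm
  obtain ⟨c, hc⟩ := isUnit_iff_exists_inv.mp hu
  have hc' : (1 + b * a⁻¹) * (c : K) = 1 := congrArg Subtype.val hc
  intro h
  apply ha
  have hane : a = (a + b) * c := by
    calc a = a * ((1 + b * a⁻¹) * c) := by rw [hc', mul_one]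
      _ = _ := by field_simp
  rw [hane]
  exact mul_mem h c.2

lemma exists_pow_mul_mem (B : ValuationSubring K) [IsDiscreteValuationRing B] (w : B) (hw : w ≠ 0)
    (hwm : w ∈ IsLocalRing.maximalIdeal B) (x : K) : ∃ N : ℕ, x * (w : K) ^ N ∈ B := by
  obtain ⟨π, hπ⟩ := IsDiscreteValuationRing.exists_irreducible B
  obtain ⟨y, z, hz, rfl⟩ := IsFractionRing.div_surjective (A := B) x
  obtain ⟨m, ε, hε⟩ := IsDiscreteValuationRing.eq_unit_mul_pow_irreducible
    (nonZeroDivisors.ne_zero hz) hπ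
  obtain ⟨a, ε', hε'⟩ := IsDiscreteValuationRing.eq_unit_mul_pow_irreducible hw hπ
  have ha : 1 ≤ a := by
    rcases Nat.eq_zero_or_pos a with rfl | h
    · exact absurd (by simp [hε']) ((IsLocalRing.mem_maximalIdeal _).mp hwm)
    · exact h
  obtain ⟨q, hq⟩ : z ∣ w ^ m := by
    rw [hε, Units.mul_left_dvd, hε', mul_pow, ← pow_mul]
    exact Dvd.dvd.mul_left (pow_dvd_pow _ (Nat.le_mul_of_pos_left m ha)) _
  refine ⟨m, ?_⟩
  have hz0 : (z : K) ≠ 0 := fun h => nonZeroDivisors.ne_zero hz (Subtype.ext h)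
  have : (w : K) ^ m = z * q := congrArg Subtype.val hq
  change (y : K) / z * (w : K) ^ m ∈ B
  rw [this, div_mul_eq_mul_div, ← mul_assoc, mul_comm (y : K) z, mul_assoc,
    mul_div_cancel_left₀ _ hz0]
  exact mul_mem y.2 q.2

lemma exists_pow_mul_mem_of_jacobson (A : Subring K) [IsFractionRing A K] [Ring.KrullDimLE 1 A]
    (t : A) (ht : ∀ M : Ideal A, M.IsMaximal → t ∈ M) (x : K) :
    ∃ N : ℕ, x * (t : K) ^ N ∈ A := by
  obtain ⟨y, z, hz, rfl⟩ := IsFractionRing.div_surjective (A := A) x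
  have hz0 : z ≠ 0 := nonZeroDivisors.ne_zero hz
  obtain ⟨N, hN⟩ : t ∈ (Ideal.span {z}).radical := by
    rw [Ideal.radical_eq_sInf, Submodule.mem_sInf]
    rintro (P : Ideal A) ⟨hP, hPp⟩
    refine ht P (Ideal.IsPrime.isMaximal_of_ne_bot hPp fun h => hz0 ?_)
    exact (Submodule.mem_bot A).mp (h ▸ hP (Ideal.mem_span_singleton_self z))
  obtain ⟨q, hq⟩ := Ideal.mem_span_singleton.mp hN
  refine ⟨N, ?_⟩
  have hzK : (z : K) ≠ 0 := fun h => hz0 (Subtype.ext h)
  have : (t : K) ^ N = z * q := congrArg Subtype.val hq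
  change (y : K) / z * (t : K) ^ N ∈ A
  rw [this, div_mul_eq_mul_div, ← mul_assoc, mul_comm (y : K) z, mul_assoc,
    mul_div_cancel_left₀ _ hzK]
  exact mul_mem y.2 q.2

/-- Let K be a field, A ⊆ K a Noetherian semi-local domain of dimension one and B ⊆ K a discrete
valuation ring, both with fraction field K, and R = A ∩ B. (a) If some unit of A does not lie in R,
then Spec A and Spec B each map to Spec R by an open immersion, Spec R is the union of the two
images, and the natural map A ⊗_R B → K is an isomorphism. (b) If every unit of A lies in R, then B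
dominates the local ring of A at one of its maximal ideals (A ⊆ B and the maximal ideal of B
contracts to a maximal ideal of A) and A ⊗ B → K is not surjective. -/
theorem result (K : Type u) [Field K]
    (A : Subring K) [IsFractionRing A K] [IsNoetherianRing A] (hdim : ringKrullDim A = 1) (hsl : Finite (MaximalSpectrum A))
    (B : ValuationSubring K) [IsDiscreteValuationRing B] :
    ((∃ u : A, IsUnit u ∧ (u : K) ∉ B) →
      IsOpenImmersion (Spec.map (CommRingCat.ofHom (Subring.inclusion (inf_le_left : A ⊓ B.toSubring ≤ A)))) ∧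
      IsOpenImmersion (Spec.map (CommRingCat.ofHom (Subring.inclusion (inf_le_right : A ⊓ B.toSubring ≤ B.toSubring)))) ∧
      Set.range (Spec.map (CommRingCat.ofHom (Subring.inclusion (inf_le_left : A ⊓ B.toSubring ≤ A)))).base ∪
        Set.range (Spec.map (CommRingCat.ofHom (Subring.inclusion (inf_le_right : A ⊓ B.toSubring ≤ B.toSubring)))).base = Set.univ ∧
      IsPushout (CommRingCat.ofHom (Subring.inclusion (inf_le_left : A ⊓ B.toSubring ≤ A)))
        (CommRingCat.ofHom (Subring.inclusion (inf_le_right : A ⊓ B.toSubring ≤ B.toSubring)))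
        (CommRingCat.ofHom A.subtype) (CommRingCat.ofHom B.toSubring.subtype)) ∧
    ((∀ u : A, IsUnit u → (u : K) ∈ B) →
      (∃ h : A ≤ B.toSubring,
        (Ideal.comap (Subring.inclusion h) (IsLocalRing.maximalIdeal B)).IsMaximal) ∧ A ⊔ B.toSubring ≠ ⊤) := by
  have hKD : Ring.KrullDimLE 1 A := Ring.krullDimLE_iff.mpr hdim.le
  have : Nonempty (MaximalSpectrum A) := inferInstance
  have hnf : ¬ IsField A := fun h => by
    rw [ringKrullDim_eq_zero_of_isField h] at hdim
    exact zero_ne_one hdim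
  refine ⟨?_, ?_⟩
  · rintro ⟨u, hu, huB⟩
    -- a nonzero element of the Jacobson radical of `A`
    obtain ⟨j, hj, hj0⟩ : ∃ j : A, (∀ M : Ideal A, M.IsMaximal → j ∈ M) ∧ j ≠ 0 := by
      have := Fintype.ofFinite (MaximalSpectrum A)
      choose g hg hg0 using fun M : MaximalSpectrum A => Submodule.exists_mem_ne_zero_of_ne_bot
        (Ring.ne_bot_of_isMaximal_of_not_isField M.isMaximal hnf)
      exact ⟨∏ M, g M, fun M hM => Ideal.mem_of_dvd _
        (Finset.dvd_prod_of_mem g (Finset.mem_univ (⟨M, hM⟩ : MaximalSpectrum A))) (hg ⟨M, hM⟩),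
        Finset.prod_ne_zero_iff.mpr fun M _ => hg0 M⟩
    obtain ⟨v, hv⟩ := isUnit_iff_exists_inv.mp hu
    have huv : (u : K) * (v : K) = 1 := congrArg Subtype.val hv
    have hvu : (v : K) = (u : K)⁻¹ := (inv_eq_of_mul_eq_one_right huv).symm
    have hv0 : (v : K) ≠ 0 := right_ne_zero_of_mul_eq_one huv
    obtain ⟨hvB, hvm⟩ := ValuationSubring.mem_nonunits_iff_exists_mem_maximalIdeal.mp
      (hvu ▸ mem_max_of_not_mem B huB)
    obtain ⟨π, hπ⟩ := IsDiscreteValuationRing.exists_irreducible B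
    have hvne : (⟨v, hvB⟩ : B) ≠ 0 := fun h => hv0 (congrArg Subtype.val h)
    obtain ⟨a, ε₀, hε₀⟩ := IsDiscreteValuationRing.eq_unit_mul_pow_irreducible hvne hπ
    have ha : 1 ≤ a := by
      rcases Nat.eq_zero_or_pos a with rfl | h
      · exact absurd (by simp [hε₀]) ((IsLocalRing.mem_maximalIdeal _).mp hvm)
      · exact h
    obtain ⟨x, y, hy, hxy⟩ := IsFractionRing.div_surjective (A := B) (j : K)
    change (x : K) / y = j at hxy
    have hj0' : (j : K) ≠ 0 := fun h => hj0 (Subtype.ext h)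
    have hx0 : x ≠ 0 := by
      rintro rfl
      exact hj0' (by rw [← hxy]; simp)
    obtain ⟨m, ε₁, hε₁⟩ := IsDiscreteValuationRing.eq_unit_mul_pow_irreducible hx0 hπ
    obtain ⟨n, ε₂, hε₂⟩ := IsDiscreteValuationRing.eq_unit_mul_pow_irreducible
      (nonZeroDivisors.ne_zero hy) hπ
    let t : A := j ^ a * u ^ m * v ^ n
    let η : Bˣ := ε₁ ^ a * ε₂⁻¹ ^ a * ε₀⁻¹ ^ m * ε₀ ^ n
    have hπ0 : ((π : B) : K) ≠ 0 := fun h => hπ.ne_zero (Subtype.ext h)
    have hunit : ∀ e : Bˣ, ((e : B) : K) ≠ 0 := fun e h => e.ne_zero (Subtype.ext h)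
    have hinv : ∀ e : Bˣ, ((↑e⁻¹ : B) : K) = ((e : B) : K)⁻¹ := fun e =>
      (inv_eq_of_mul_eq_one_right (congrArg Subtype.val e.mul_inv)).symm
    have hteq : (t : K) = ((η : B) : K) := by
      have h0 : (v : K) = (ε₀ : B) * (π : K) ^ a := congrArg Subtype.val hε₀
      have hu' : (u : K) = (v : K)⁻¹ := by rw [hvu, inv_inv]
      have h1 : (x : K) = (ε₁ : B) * (π : K) ^ m := congrArg Subtype.val hε₁
      have h2 : (y : K) = (ε₂ : B) * (π : K) ^ n := congrArg Subtype.val hε₂
      have hη : ((η : B) : K) = ((ε₁ : B) : K) ^ a * (((ε₂ : B) : K)⁻¹) ^ a *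
          (((ε₀ : B) : K)⁻¹) ^ m * ((ε₀ : B) : K) ^ n := by
        simp only [η, Units.val_mul, Units.val_pow_eq_pow_val, ← hinv]
        rfl
      rw [hη]
      show (j : K) ^ a * (u : K) ^ m * (v : K) ^ n = _
      rw [← hxy, hu', h0, h1, h2]
      have := hunit ε₀; have := hunit ε₁; have := hunit ε₂
      simp only [div_pow, mul_pow, inv_pow, ← pow_mul]
      field_simp
      ring
    have htB : (t : K) ∈ B := hteq ▸ (η : B).2
    have htu : IsUnit (⟨t, htB⟩ : B.toSubring) := by
      have : (⟨t, htB⟩ : B) = η := Subtype.ext hteq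
      exact (this ▸ η.isUnit : IsUnit (⟨t, htB⟩ : B))
    have htJ : ∀ M : Ideal A, M.IsMaximal → t ∈ M := fun M hM =>
      M.mul_mem_right _ (M.mul_mem_right _ (M.pow_mem_of_mem (hj M hM) a ha))
    refine Groth.GlueRings.glue A B.toSubring v t hv0 v.2 hvB t.2 htB
      (IsUnit.of_mul_eq_one (a := v) u ((mul_comm _ _).trans hv)) htu ?_ ?_ ?_
      (exists_pow_mul_mem_of_jacobson A t htJ)
    · by_contra h
      obtain ⟨M, hM, hmem⟩ := exists_max_ideal_of_mem_nonunits h
      have : v ∈ M := (Ideal.add_mem_iff_left M (htJ M hM)).mp hmem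
      exact hM.ne_top (Ideal.eq_top_of_isUnit_mem _ this
        (IsUnit.of_mul_eq_one (a := v) u ((mul_comm _ _).trans hv)))
    · show IsUnit ((⟨v, hvB⟩ : B) + ⟨t, htB⟩)
      by_contra h
      have ht' : (⟨t, htB⟩ : B) ∈ IsLocalRing.maximalIdeal B :=
        (Ideal.add_mem_iff_right _ hvm).mp ((IsLocalRing.mem_maximalIdeal _).mpr h)
      exact (IsLocalRing.mem_maximalIdeal _).mp ht' htu
    · exact exists_pow_mul_mem B ⟨v, hvB⟩ hvne hvm
  · intro hall
    have hle : A ≤ B.toSubring := by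
      intro a haA
      by_contra haB
      have hane : a ≠ 0 := fun h => haB (h ▸ zero_mem B)
      obtain ⟨c, hc⟩ : ∃ c : A, ∀ M : Ideal A, M.IsMaximal → (c ∈ M ↔ (⟨a, haA⟩ : A) ∉ M) := by
        classical
        have := Fintype.ofFinite (MaximalSpectrum A)
        let T := Finset.univ.filter fun M : MaximalSpectrum A => (⟨a, haA⟩ : A) ∈ M.asIdeal
        let S := Finset.univ.filter fun M : MaximalSpectrum A => (⟨a, haA⟩ : A) ∉ M.asIdeal
        have hnle : ¬ ((S.inf fun M => M.asIdeal : Ideal A) : Set A) ⊆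
            ⋃ M ∈ (T : Set (MaximalSpectrum A)), (M.asIdeal : Set A) := by
          rw [Ideal.subset_union_prime (f := fun M : MaximalSpectrum A => M.asIdeal) (Classical.arbitrary _) (Classical.arbitrary _)
            (fun M _ _ _ => M.isMaximal.isPrime)]
          rintro ⟨M, hMT, hle⟩
          obtain ⟨M', hM', hle'⟩ := (M.isMaximal.isPrime.inf_le').mp hle
          have := M'.isMaximal.eq_of_le M.isMaximal.ne_top hle'
          exact (Finset.mem_filter.mp hM').2 (this ▸ (Finset.mem_filter.mp hMT).2)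
        obtain ⟨c, hcS, hcT⟩ := Set.not_subset.mp hnle
        refine ⟨c, fun M hM => ⟨fun hcM haM => hcT ?_, fun haM => ?_⟩⟩
        · exact Set.mem_biUnion (x := (⟨M, hM⟩ : MaximalSpectrum A))
            (Finset.mem_coe.mpr (Finset.mem_filter.mpr ⟨Finset.mem_univ _, haM⟩)) hcM
        · exact Finset.inf_le (f := fun M : MaximalSpectrum A => M.asIdeal)
            (b := (⟨M, hM⟩ : MaximalSpectrum A))
            (Finset.mem_filter.mpr ⟨Finset.mem_univ _, haM⟩) hcS
      have hadd : ∀ i : ℕ, 1 ≤ i → a ^ i + (c : K) ∈ B := by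
        intro i hi
        refine hall ((⟨a, haA⟩ : A) ^ i + c) ?_
        by_contra h
        obtain ⟨M, hM, hmem⟩ := exists_max_ideal_of_mem_nonunits h
        by_cases haM : (⟨a, haA⟩ : A) ∈ M
        · exact (hc M hM).mp ((Ideal.add_mem_iff_right M (M.pow_mem_of_mem haM i hi)).mp hmem) haM
        · exact haM (hM.isPrime.mem_of_pow_mem i
            ((Ideal.add_mem_iff_left M ((hc M hM).mpr haM)).mp hmem))
      have h1 := hadd 1 le_rfl
      rw [pow_one] at h1
      have hinv := mem_max_of_not_mem B haB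
      by_cases hq : (c : K) * a⁻¹ ∈ B
      · by_cases hqn : (c : K) * a⁻¹ ∈ B.nonunits
        · exact add_not_mem B haB hqn h1
        · -- `c / a` is a unit
          have ha2 : a ^ 2 ∉ B := by
            intro h
            refine haB ?_
            have : a = a ^ 2 * a⁻¹ := by field_simp
            rw [this]
            exact mul_mem h (ValuationSubring.mem_nonunits_iff_exists_mem_maximalIdeal.mp hinv).1
          refine add_not_mem B ha2 ?_ (hadd 2 (by norm_num))
          obtain ⟨hiB, him⟩ := ValuationSubring.mem_nonunits_iff_exists_mem_maximalIdeal.mp hinv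
          have e2 : (c : K) * (a ^ 2)⁻¹ = (c : K) * a⁻¹ * a⁻¹ := by field_simp
          have hm2 : (c : K) * (a ^ 2)⁻¹ ∈ B := e2 ▸ mul_mem hq hiB
          refine ValuationSubring.mem_nonunits_iff_exists_mem_maximalIdeal.mpr ⟨hm2, ?_⟩
          have : (⟨_, hm2⟩ : B) = ⟨_, hq⟩ * ⟨_, hiB⟩ := Subtype.ext e2
          rw [this]
          exact Ideal.mul_mem_left _ _ him
      · -- `c` dominates
        have hm := mem_max_of_not_mem B hq
        rw [mul_inv, inv_inv] at hm
        have hcB : (c : K) ∉ B := fun h => hq (mul_mem h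
          (ValuationSubring.mem_nonunits_iff_exists_mem_maximalIdeal.mp hinv).1)
        exact add_not_mem B hcB (by rwa [mul_comm]) (by rwa [add_comm])
    refine ⟨⟨hle, ?_⟩, ?_⟩
    · have hp : (Ideal.comap (Subring.inclusion hle) (IsLocalRing.maximalIdeal B)).IsPrime :=
        Ideal.IsPrime.comap (Subring.inclusion hle)
      refine Ideal.IsPrime.isMaximal_of_ne_bot hp fun hbot => ?_
      obtain ⟨π, hπ⟩ := IsDiscreteValuationRing.exists_irreducible B
      obtain ⟨x, y, hy, hxy⟩ := IsFractionRing.div_surjective (A := A) ((π : B) : K)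
      change (x : K) / y = π at hxy
      have hyK : (y : K) ≠ 0 := fun h => nonZeroDivisors.ne_zero hy (Subtype.ext h)
      have hx : x ∈ Ideal.comap (Subring.inclusion hle) (IsLocalRing.maximalIdeal B) := by
        rw [Ideal.mem_comap]
        have : Subring.inclusion hle x = (π * ⟨(y : K), hle y.2⟩ : B) := by
          refine Subtype.ext ?_
          show (x : K) = (π : K) * y
          rw [← hxy, div_mul_cancel₀ _ hyK]
        rw [this]
        exact Ideal.mul_mem_right _ _ ((IsLocalRing.mem_maximalIdeal _).mpr hπ.not_isUnit)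
      rw [hbot, Submodule.mem_bot] at hx
      subst hx
      exact hπ.ne_zero (Subtype.ext (by rw [← hxy]; simp))
    · intro htop
      obtain ⟨π, hπ⟩ := IsDiscreteValuationRing.exists_irreducible B
      have hB : B.toSubring = ⊤ := top_le_iff.mp (htop ▸ sup_le hle le_rfl)
      have hinvB : ((π : B) : K)⁻¹ ∈ B := by
        show _ ∈ B.toSubring
        rw [hB]; trivial
      refine hπ.not_isUnit (isUnit_iff_exists_inv.mpr ⟨⟨_, hinvB⟩, Subtype.ext ?_⟩)
      exact mul_inv_cancel₀ fun h => hπ.ne_zero (Subtype.ext h)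


end Groth.Agent.S7664
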