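import Groth.Statements.S10691
import Groth.Agent.AlgSpEt.GorMor
import Groth.Agent.AlgSpEt.Branches
import Groth.Agent.AlgSp2.InfSmallExt
-- import your own Groth.Agent.* helpers here

set_option autoImplicit false
universe u
open CategoryTheory CategoryTheory.Limits AlgebraicGeometry
open AlgSp Groth.AlgSpBasic Groth.AlgSpEt

namespace Groth.Agent.S10691

/-- The local rings of charts of a Gorenstein algebraic space are Gorenstein. -/
theorem gorenstein_chart {S : Scheme.{u}} {X : AlgSp.Space S}
    (hX : AlgSp.EtaleLocally Dual3.IsGorenstein X.obj) {U : Over S} (a : (AlgSp.yon S).obj U ⟶ X.obj)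
    (ha : AlgSp.RepWith @Etale a) (u : ↥U.left) :
    LocCoh.IsGorensteinLocalRing (U.left.presheaf.stalk u) := by
  obtain ⟨U₀, a₀, ha₀, has₀, -, hg⟩ := hX
  obtain ⟨p, hp, hu⟩ := exists_geometric_point X.property (Points.ofPt a u)
  obtain ⟨u₀, hu₀⟩ := surjective_ofPt_of_repWith has₀ (Points.mk p)
  obtain ⟨T, _, _, _, _, _, ⟨e⟩⟩ := exists_strictHenselization hp ha u hu.symm
  obtain ⟨T₀, _, _, _, _, _, ⟨e₀⟩⟩ := exists_strictHenselization hp ha₀ u₀ hu₀
  exact (GorRing.isGorenstein_iff_strictHenselization _ T).2
    ((GorRing.isGorenstein_iff_of_ringEquiv (e₀.trans e.symm)).1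
      ((GorRing.isGorenstein_iff_strictHenselization _ T₀).1 (hg u₀)))

/-- For locally Noetherian algebraic spaces X, Y over S and a flat morphism f : X ⟶ Y, with X Gorenstein
(some etale surjective scheme chart is a Gorenstein scheme): f is Gorenstein at every point of |X|,
and for every point x of |X| the etale local ring of Y at a geometric point over f(x), presented as
a strict henselization R of the local ring of an etale scheme chart V of Y at a point v over f(x),
is a Gorenstein local ring. Here f is Gorenstein at x when in every etale chart diagram through x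
the top arrow is Gorenstein at the point over x (flat there, with Gorenstein local ring of its
fibre), and the fibres of a morphism are locally Noetherian when every fibre over a field point
(pullback in fppf sheaves) is a locally Noetherian algebraic space. -/
theorem result {S : Scheme.{u}} {X Y : AlgSp.Space S} (f : X ⟶ Y) (hf : AlgSp.LocP @Flat f.hom)
    (hX1 : AlgSp.IsLocNoethSp X.obj) (hY1 : AlgSp.IsLocNoethSp Y.obj)
    (hX2 : AlgSp.EtaleLocally Dual3.IsGorenstein X.obj) :
    (∀ x : AlgSp.Points X.obj, AlgSp.LocPAt (fun h u => Dual3.IsGorensteinAt h u) f.hom x) ∧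
      ∀ (x : AlgSp.Points X.obj) (V : Over S) (b : (AlgSp.yon S).obj V ⟶ Y.obj), AlgSp.RepWith @Etale b →
        ∀ (v : ↥V.left), AlgSp.Points.ofPt b v = AlgSp.Points.map f.hom x →
          ∀ (R : Type u) [CommRing R] [IsLocalRing R] [Algebra ↥(V.left.presheaf.stalk v) R]
            [IsLocalHom (algebraMap ↥(V.left.presheaf.stalk v) R)]
            [Hensel.IsStrictHenselization ↥(V.left.presheaf.stalk v) R],
            LocCoh.IsGorensteinLocalRing R := by
  have key : ∀ (U V : Over S) (a : (AlgSp.yon S).obj U ⟶ X.obj) (b : (AlgSp.yon S).obj V ⟶ Y.obj) (h : U ⟶ V),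
      AlgSp.RepWith @Etale a → AlgSp.RepWith @Etale b → a ≫ f.hom = (AlgSp.yon S).map h ≫ b →
      ∀ u : ↥U.left, Dual3.IsGorensteinAt h.left u ∧
        LocCoh.IsGorensteinLocalRing (V.left.presheaf.stalk (h.left u)) := by
    intro U V a b h ha hb hc u
    have : IsLocallyNoetherian V.left :=
      Groth.AlgSp2.isLocallyNoetherian_of_etale Y.property hY1 hb
    have : Flat h.left := hf a b h ha hb hc
    have hA := gorenstein_chart hX2 a ha u
    let _ := (h.left.stalkMap u).hom.toAlgebra
    have : IsLocalHom (algebraMap (V.left.presheaf.stalk (h.left u)) (U.left.presheaf.stalk u)) :=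
      inferInstanceAs (IsLocalHom (h.left.stalkMap u).hom)
    have : Module.Flat (V.left.presheaf.stalk (h.left u)) (U.left.presheaf.stalk u) := Flat.stalkMap h.left u
    obtain ⟨hV, hF⟩ := (GrothGoren.exists_injLT_flat_iff (V.left.presheaf.stalk (h.left u)) (U.left.presheaf.stalk u)).1 ((GrothGoren.isGorenstein_iff _).1 hA)
    have := GrothGoren.nontrivial_fibre (V.left.presheaf.stalk (h.left u)) (U.left.presheaf.stalk u)
    have : IsLocalRing (U.left.presheaf.stalk u ⧸
        (IsLocalRing.maximalIdeal (V.left.presheaf.stalk (h.left u))).map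
          (algebraMap (V.left.presheaf.stalk (h.left u)) (U.left.presheaf.stalk u))) :=
      .of_surjective' _ Ideal.Quotient.mk_surjective
    exact ⟨(isGorensteinAt_iff _ _).2 ⟨Flat.stalkMap h.left u, (GrothGoren.isGorenstein_iff _).2 hF⟩,
      (GrothGoren.isGorenstein_iff _).2 hV⟩
  refine ⟨fun x U V a b h u ha hb hc _ => (key U V a b h ha hb hc u).1, fun x V b hb v hv R _ _ _ _ _ => ?_⟩
  obtain ⟨U₀, φ, hφ, hφs⟩ := X.property.atlas
  obtain ⟨u₀, rfl⟩ := surjective_ofPt_of_repWith hφs x
  rw [Points.map_ofPt] at hv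
  obtain ⟨U, u₁, u₂, hU⟩ := exists_pullback_of_diag Y.property.diag (φ ≫ f.hom) b
  obtain ⟨u, hu₁, hu₂⟩ := (ofPt_eq_ofPt_iff hU u₀ v).1 hv.symm
  subst hu₂
  exact (GorRing.isGorenstein_iff_strictHenselization _ R).1
    (key U V _ b u₂ (repWith_comp (repWith_of_isPullback hU.flip hb) hφ) hb
      (by rw [Category.assoc]; exact hU.w) u).2

end Groth.Agent.S10691
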