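import Groth.Statements.S18672
import Groth.Agent.GrMod.Standard

set_option autoImplicit false
universe u
open GrLC

namespace Groth.Agent.S18672

/-- Let R be a graded ring defined over a field k = R_0 which is Cohen–Macaulay and generated over k by
R_1 (the standing hypotheses of this section; only generation in degree one is used), q ≥ 1, R' =
R^(q), and a an integer. Then the Veronese submodule [R(a)]^(q) = ⊕_j R_{a+jq} is generated over R'
by its piece R(a)_n = R_{a+n}, where n is the smallest multiple of q with n + a ≥ 0. Here 'graded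
ring defined over a field' means R = ⊕_{n ≥ 0} R_n is Noetherian with R_0 a field, and m = R_+ is
its unique graded maximal ideal. The Veronese subring R^(q) = ⊕_j R_{jq}, regraded by (R^(q))_j =
R_{jq}, is presented abstractly as a ℤ-graded ring R' with an injective ring homomorphism φ : R' → R
carrying R'_j onto R_{jq} for every j. The module [R(a)]^(q) is presented as a graded R'-module M'
with an injective additive map g : M' → R, semilinear over φ, carrying M'_j onto R_{a+jq} for every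
j; with n = j₀q, the conclusion is that the R'-span of M'_{j₀} is all of M'. -/
theorem result (R : Type u) [CommRing R] [LocCoh.IsCohenMacaulayRing R] (𝒜 : ℤ → AddSubgroup R) [GradedRing 𝒜] (hpos : ∀ n : ℤ, n < 0 → 𝒜 n = ⊥) (h0 : IsField (GrLC.deg0 𝒜)) (hstd : Ideal.span (⋃ n ∈ Set.Ioi (0 : ℤ), (𝒜 n : Set R)) = Ideal.span ((𝒜 1 : AddSubgroup R) : Set R)) (q : ℕ) (hq : 0 < q) (R' : Type u) [CommRing R'] (𝒜' : ℤ → AddSubgroup R') [GradedRing 𝒜'] (φ : R' →+* R) (hφ : Function.Injective φ) (hdeg : ∀ j : ℤ, (𝒜' j).map (φ : R' →+ R) = 𝒜 (j * q)) (a : ℤ) (M' : Type u) [AddCommGroup M'] [Module R' M'] (ℳ' : ℤ → AddSubgroup M') [DirectSum.Decomposition ℳ'] [SetLike.GradedSMul 𝒜' ℳ'] (g : M' →ₛₗ[φ] R) (hg : Function.Injective g) (hgdeg : ∀ j : ℤ, (ℳ' j).map (g : M' →+ R) = 𝒜 (a + j * q)) (j₀ : ℤ) (hj₀ : 0 ≤ a + j₀ * q) (hj₀' : a + (j₀ - 1) * q < 0) : Submodule.span R' ((ℳ' j₀ : AddSubgroup M') : Set M') = ⊤ := by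
  refine Submodule.eq_top_iff'.2 fun z => ?_
  induction z using DirectSum.Decomposition.inductionOn ℳ' with
  | zero => exact zero_mem _
  | add x y hx hy => exact add_mem hx hy
  | @homogeneous j x =>
    obtain ⟨x, hx⟩ := x
    show x ∈ _
    have hgx : g x ∈ 𝒜 (a + j * q) := hgdeg j ▸ AddSubgroup.mem_map_of_mem _ hx
    by_cases hj : j < j₀
    · have hlt : a + j * q < 0 := by nlinarith
      rw [hpos _ hlt, AddSubgroup.mem_bot, ← map_zero g] at hgx
      rw [hg hgx]
      exact zero_mem _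
    obtain ⟨k, hk⟩ : ∃ k : ℕ, j = j₀ + k := ⟨(j - j₀).toNat, by omega⟩
    have hmem : g x ∈ GrothGr.prodClosure 𝒜 (a + j₀ * q) ((k * q : ℕ) : ℤ) := by
      refine GrothGr.mem_prodClosure 𝒜 hstd hj₀ (k * q) ?_
      rw [show a + j₀ * q + ((k * q : ℕ) : ℤ) = a + j * q by rw [hk]; push_cast; ring]
      exact hgx
    let S := Submodule.span R' ((ℳ' j₀ : AddSubgroup M') : Set M')
    suffices key : g x ∈ S.toAddSubgroup.map (g : M' →+ R) by
      obtain ⟨y, hy, hyx⟩ := key
      rwa [← hg hyx]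
    refine (AddSubgroup.closure_le _).2 ?_ hmem
    rintro _ ⟨u, hu, v, hv, rfl⟩
    rw [← hgdeg j₀] at hu
    obtain ⟨y, hy, rfl⟩ := hu
    have hv' : v ∈ 𝒜 ((k : ℤ) * q) := by rwa [Nat.cast_mul] at hv
    rw [← hdeg] at hv'
    obtain ⟨r, hr, rfl⟩ := hv'
    refine ⟨r • y, S.smul_mem r (Submodule.subset_span hy), ?_⟩
    show g (r • y) = g y * φ r
    rw [map_smulₛₗ, smul_eq_mul, mul_comm]

end Groth.Agent.S18672
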