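import Groth.Statements.S18637
import Groth.Agent.GrMod.StarInjDim

set_option autoImplicit false
universe u
open GrLC

namespace Groth.Agent.S18637

/-- Let R be a commutative Noetherian ℤ-graded ring and m a maximal ideal of R which is graded. If e :
R/m → E is a *injective envelope of R/m in the category of graded R-modules (E graded and
*injective, e degree-preserving and injective, every nonzero graded submodule of E meeting the
image), then e is an injective hull of R/m as an ordinary R-module: E is an injective R-module and e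
is an essential injection. -/
theorem result (R : Type u) [CommRing R] [IsNoetherianRing R] (𝒜 : ℤ → AddSubgroup R) [GradedRing 𝒜] (m : HomogeneousIdeal 𝒜) [m.toIdeal.IsMaximal] (E' : Type u) [AddCommGroup E'] [Module R E'] (𝓔 : ℤ → AddSubgroup E') [DirectSum.Decomposition 𝓔] [SetLike.GradedSMul 𝒜 𝓔] (e : (R ⧸ m.toIdeal) →ₗ[R] E') (he : GrLC.IsStarInjHull 𝒜 (GrLC.quotGr 𝒜 m) 𝓔 e) : InjHull.IsInjectiveHull e := by
  refine { isInjective := ?_, toIsEssentialInj := GrothGr.hull_isEssentialInj 𝒜 m he }
  refine (GrothGr.injective_iff_forall_core 𝒜 𝓔 he.starInj).2 fun p hp hph hass => ?_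
  haveI := hp
  obtain ⟨-, x, hx⟩ := isAssociatedPrime_iff.1 hass
  obtain ⟨k, hk⟩ : x ∈ GrLC.gam m.toIdeal E' := by
    rw [GrothGr.gam_eq_top 𝒜 m he]; trivial
  have hle : m.toIdeal ≤ GrothGr.core 𝒜 p := fun r hr =>
    (inferInstance : (GrothGr.core 𝒜 p).IsPrime).mem_of_pow_mem k ((SetLike.ext_iff.1 hx _).2
      (Submodule.mem_colon_singleton.2 (hk _ (Ideal.pow_mem_pow hr k))))
  have heq : m.toIdeal = p :=
    (‹m.toIdeal.IsMaximal›).eq_of_le hp.ne_top (hle.trans (GrothGr.core_le 𝒜 p))
  exact hph (heq ▸ m.isHomogeneous)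

end Groth.Agent.S18637
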