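import Groth.Statements.S1936
import Groth.Agent.GitQuot.GrpdShear
import Groth.Agent.CMMor.BaseChange
import Groth.Agent.CMMor.FibreCM
import Groth.Agent.Flatmor4.CMComp

set_option autoImplicit false
universe u
open CategoryTheory CategoryTheory.Limits AlgebraicGeometry
open Grpd

namespace Groth.Agent.S1936

/-- Let (U, R, s, t, c) be a groupoid scheme over S with s, t flat and locally of finite presentation.
There is an open U' ⊆ U such that t⁻¹(U') is exactly the set of points of R at which s is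
Cohen–Macaulay, s⁻¹(U') is exactly the set of points at which t is Cohen–Macaulay, and both t
restricted to s⁻¹(U') and s restricted to t⁻¹(U') are surjective onto U. (Part (5), that the
restriction of R to U' is a groupoid with Cohen–Macaulay s', t', then follows and is not restated.)
Cohen–Macaulay at a point: flat there with Cohen–Macaulay fibre local ring (Grpd.IsCMAt). (A
groupoid scheme carries U, R, s, t, c, e, i over S with the groupoid axioms on T-points; 'finite
locally free' is finite, flat and locally of finite presentation; C ⊂ Γ(U) is the ring of functions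
a with s♯(a) = t♯(a) and M = Spec C.) -/
theorem result (S : Scheme.{u}) (G : Grpd.GroupoidScheme S) [Flat G.s] [LocallyOfFinitePresentation G.s] [Flat G.t] [LocallyOfFinitePresentation G.t] : ∃ U' : G.U.Opens, (G.t ⁻¹ᵁ U' : Set G.R) = {r | Grpd.IsCMAt G.s r} ∧ (G.s ⁻¹ᵁ U' : Set G.R) = {r | Grpd.IsCMAt G.t r} ∧ ⇑G.t '' (G.s ⁻¹ᵁ U' : Set G.R) = Set.univ ∧ ⇑G.s '' (G.t ⁻¹ᵁ U' : Set G.R) = Set.univ := by
  classical
  have key : ∀ r r' : G.R, G.t r = G.t r' → (MoreMor.IsCMAt G.s r ↔ MoreMor.IsCMAt G.s r') := by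
    intro r r' h
    obtain ⟨w, hw1, hw2⟩ := Scheme.Pullback.exists_preimage_pullback r r' h
    let φ : pullback G.t G.t ⟶ pullback G.s G.t :=
      pullback.lift (pullback.fst _ _)
        (Groth.GrpdBasic.comp G (pullback.fst G.t G.t ≫ G.i) (pullback.snd _ _)
          (by rw [Category.assoc, G.i_s, pullback.condition]))
        (by rw [Groth.GrpdBasic.comp_t, Category.assoc, G.i_t])
    have hφc : φ ≫ G.c = pullback.snd G.t G.t :=
      Groth.GrpdBasic.comp_inv_comp_cancel G (pullback.fst G.t G.t) (pullback.snd _ _)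
        (by rw [Category.assoc, G.i_s, pullback.condition])
    have hφ1 : φ ≫ pullback.fst G.s G.t = pullback.fst G.t G.t := pullback.lift_fst _ _ _
    have h1 : (pullback.fst G.s G.t) (φ w) = r := by
      rw [← Scheme.Hom.comp_apply, hφ1]; exact hw1
    have h2 : G.c (φ w) = r' := by
      rw [← Scheme.Hom.comp_apply, hφc]; exact hw2
    rw [← h1, ← h2, Groth.CMMor.isCMAt_iff, Groth.CMMor.isCMAt_iff]
    exact (Groth.CMMor.isCM_fiberStalk_baseChange_iff G.s G.t _ _ (IsPullback.of_hasPullback G.s G.t) (φ w)).symm.trans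
      (Groth.CMMor.isCM_fiberStalk_baseChange_iff G.s G.s _ _ (Groth.GrpdBasic.isPullback_c_snd G) (φ w))
  have hgr : ∀ (h : G.R ⟶ G.U) (r : G.R), Grpd.IsCMAt h r ↔ MoreMor.IsCMAt h r := fun h r =>
    (Groth.Flatmor4.isCMAt_iff h r).symm
  let U' : G.U.Opens := ⟨G.t '' {r | MoreMor.IsCMAt G.s r}, G.t.isOpenMap _ (Groth.CMMor.isOpen_isCMAt G.s)⟩
  have hU' : ∀ r : G.R, G.t r ∈ U' ↔ MoreMor.IsCMAt G.s r := fun r =>
    ⟨fun ⟨r', hr', h⟩ => (key r' r h).mp hr', fun h => ⟨r, h, rfl⟩⟩
  have hit : ∀ r : G.R, G.t (G.i r) = G.s r := fun r => by rw [← Scheme.Hom.comp_apply, G.i_t]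
  have his : ∀ r : G.R, G.s (G.i r) = G.t r := fun r => by rw [← Scheme.Hom.comp_apply, G.i_s]
  have hsurj : ∀ u : G.U, ∃ r, MoreMor.IsCMAt G.s r ∧ G.s r = u := by
    intro u
    obtain ⟨z₀, -⟩ : G.e u ∈ Set.range (G.s.fiberι u) := by
      rw [Scheme.Hom.range_fiberι]
      show G.s (G.e u) = u
      rw [← Scheme.Hom.comp_apply, G.e_s]; rfl
    obtain ⟨η, hη⟩ := QuasiSober.sober (isIrreducible_irreducibleComponent (x := z₀)) isClosed_irreducibleComponent
    have hmax : ∀ w, w ⤳ η → w = η := fun w hw => by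
      have h1 : irreducibleComponent z₀ ⊆ closure {w} :=
        hη.def ▸ closure_minimal (Set.singleton_subset_iff.mpr (specializes_iff_mem_closure.mp hw)) isClosed_closure
      have h2 := (irreducibleComponent_mem_irreducibleComponents z₀).2 isIrreducible_singleton.closure h1
      exact (show IsGenericPoint w (irreducibleComponent z₀) from le_antisymm h2 h1).eq hη
    refine ⟨(G.s.fiberι u) η, ?_, ?_⟩
    · rw [Groth.CMMor.isCMAt_iff]
      exact (Groth.CMMor.isCM_fiberStalk_iff G.s u η).mpr (Groth.CMMor.isCM_stalk_of_maximal G.s u η hmax)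
    · exact (G.s.range_fiberι u).le ⟨η, rfl⟩
  refine ⟨U', ?_, ?_, ?_, ?_⟩
  · ext r
    exact (hU' r).trans (hgr G.s r).symm
  · ext r
    show G.s r ∈ U' ↔ Grpd.IsCMAt G.t r
    rw [hgr, ← hit, hU', ← G.i_s]
    exact (Groth.CMMor.isCMAt_openImmersion_comp G.i G.s r).symm
  · refine Set.eq_univ_of_forall fun u => ?_
    obtain ⟨r, hr, rfl⟩ := hsurj u
    refine ⟨G.i r, ?_, hit r⟩
    show G.s (G.i r) ∈ U'
    rw [his]
    exact (hU' r).mpr hr
  · refine Set.eq_univ_of_forall fun u => ?_
    obtain ⟨r, hr, rfl⟩ := hsurj u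
    exact ⟨r, (hU' r).mpr hr, rfl⟩

end Groth.Agent.S1936
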