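import Groth.Statements.S7508
import Groth.Agent.GitQuot.Slice.Main
import Groth.Agent.AlgSpBasic.FibreSpace

set_option autoImplicit false
universe u
open CategoryTheory CategoryTheory.Limits AlgebraicGeometry
open Grpd

namespace Groth.Agent.S7508

/-- Let (U, R, s, t, c, e, i) be a groupoid scheme over S with s and t Cohen-Macaulay and locally of
finite presentation, assume the stabilizer G -> U is locally quasi-finite (locally of finite type
with discrete fibres), and let u be a finite type point of U. Then there exist an affine scheme U',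
an immersion g : U' -> U locally of finite presentation and a point u' with g(u') = u such that h =
s ∘ pr_1 : U' x_(g,U,t) R -> U and the source and target s', t' : R' -> U' of the restriction R' =
(U' x_(g,U,t) R) x_(h,U,g) U' are flat, locally of finite presentation and locally quasi-finite.
Here a morphism is Cohen-Macaulay when it is Cohen-Macaulay at every point of its source (flat there
with Cohen-Macaulay fibre local ring, Grpd.IsCMAt), and a finite type point u is one for which Spec
κ(u) -> U is locally of finite type. (A groupoid scheme carries U, R, s, t, c, e, i over S with the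
groupoid axioms on T-points; c is defined on the fibre product of s and t and sends a pair (a, b)
with s(a) = t(b) to a composed with b.) -/
theorem result (S : Scheme.{u}) (G : Grpd.GroupoidScheme S) [LocallyOfFinitePresentation G.s] [LocallyOfFinitePresentation G.t] (hs : ∀ r : G.R, Grpd.IsCMAt G.s r) (ht : ∀ r : G.R, Grpd.IsCMAt G.t r) [LocallyOfFiniteType G.stabilizerToU] [LocallyQuasiFinite G.stabilizerToU] (u : G.U) (hu : LocallyOfFiniteType (G.U.fromSpecResidueField u)) : ∃ (U' : Scheme.{u}) (_ : IsAffine U') (g : U' ⟶ G.U) (u' : U'), IsImmersion g ∧ LocallyOfFinitePresentation g ∧ g u' = u ∧ (Flat (pullback.snd g G.t ≫ G.s) ∧ LocallyOfFinitePresentation (pullback.snd g G.t ≫ G.s) ∧ LocallyOfFiniteType (pullback.snd g G.t ≫ G.s) ∧ LocallyQuasiFinite (pullback.snd g G.t ≫ G.s)) ∧ (Flat (pullback.snd (pullback.snd g G.t ≫ G.s) g) ∧ LocallyOfFinitePresentation (pullback.snd (pullback.snd g G.t ≫ G.s) g) ∧ LocallyQuasiFinite (pullback.snd (pullback.snd g G.t ≫ G.s) g)) ∧ (Flat (pullback.fst (pullback.snd g G.t ≫ G.s) g ≫ pullback.fst g G.t) ∧ LocallyOfFinitePresentation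 (pullback.fst (pullback.snd g G.t ≫ G.s) g ≫ pullback.fst g G.t) ∧ LocallyQuasiFinite (pullback.fst (pullback.snd g G.t ≫ G.s) g ≫ pullback.fst g G.t)) := by
  obtain ⟨U', hU', g, u', p, hg, hgl, hgu, hp, hpe, hall, hlfp, hdim, hqf⟩ :=
    Groth.GrpdSlice.exists_nice_slice G u hs ht
  have h0 : topologicalKrullDim ↥(G.stabilizerToU.fiber u) = 0 := by
    have : Nonempty ↥(G.stabilizerToU.fiber u) := ⟨(G.stabilizerToU.fiberHomeo u).symm ⟨G.eStab u, by
      show G.stabilizerToU (G.eStab u) = u
      rw [← Scheme.Hom.comp_apply, show G.eStab ≫ G.stabilizerToU = 𝟙 _ from pullback.lift_snd _ _ _]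
      rfl⟩⟩
    exact Groth.AlgSpBasic.topologicalKrullDim_eq_zero_of_discrete
  have := hqf h0
  have hf := Groth.GrpdSlice.flat_of_forall_isCMAt _ fun q => (Groth.Flatmor4.isCMAt_iff _ q).1 (hall q)
  refine ⟨U', hU', g, u', hg, hgl, hgu, ⟨hf, hlfp, inferInstance, this⟩,
    ⟨inferInstance, inferInstance, inferInstance⟩, ?_⟩
  rw [← Groth.GrpdSlice.flipArrow_snd]
  exact ⟨inferInstance, inferInstance, inferInstance⟩

end Groth.Agent.S7508
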