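import Groth.Statements.S1239
import Groth.Agent.RaynaudGruson.DomainFP
import Groth.Agent.RaynaudGruson.RelationsLoc

set_option autoImplicit false
universe u
open FlatMor

namespace Groth.Agent.S1239

/-- Ring form, X = Spec B, S = Spec A affine; a retrocompact open of Spec A is a finite union of basic
opens: let B be a finitely presented A-algebra and N a finite B-module which is flat over A. Let
f_1, …, f_n be elements of A such that the map from A to the product of the localizations A_{f_i} is
injective (the open D(f_1) ∪ … ∪ D(f_n) is scheme-theoretically dense). If each localization N_{f_i}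
is finitely presented over B_{f_i}, then N is finitely presented over B. -/
theorem result {A B : Type u} [CommRing A] [CommRing B] [Algebra A B] [Algebra.FinitePresentation A B]
    (N : Type u) [AddCommGroup N] [Module B N] [Module A N] [IsScalarTower A B N] [Module.Finite B N] [Module.Flat A N]
    {n : ℕ} (f : Fin n → A)
    (hdense : Function.Injective (RingHom.pi (fun i => algebraMap A (Localization.Away (f i)))))
    (hfp : ∀ i, Module.FinitePresentation (Localization.Away (algebraMap A B (f i)))
      (LocalizedModule (Submonoid.powers (algebraMap A B (f i))) N)) :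
    Module.FinitePresentation B N := by
  classical
  obtain ⟨m, π, hπ⟩ := Module.Finite.exists_fin' B N
  have hU : ∀ i, ∃ U : Submodule B (Fin m → B), U.FG ∧ U ≤ LinearMap.ker π ∧
      ∀ u ∈ LinearMap.ker π, ∃ k : ℕ, f i ^ k • u ∈ U := by
    intro i
    haveI := hfp i
    obtain ⟨U, hUfg, hUle, hU⟩ := Groth.RaynaudGruson.RelationsLoc.exists_relations π hπ
      (Submonoid.powers (algebraMap A B (f i)))
    refine ⟨U, hUfg, hUle, fun u hu => ?_⟩
    obtain ⟨_, ⟨k, rfl⟩, hk⟩ := hU u hu
    exact ⟨k, by rw [← algebraMap_smul B, map_pow]; exact hk⟩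
  choose U hUfg hUle hUsat using hU
  refine Groth.RaynaudGruson.DomainFP.finitePresentation_of_relations (R := A) π hπ (⨆ i, U i)
    (Submodule.fg_iSup U hUfg) (iSup_le hUle) fun u hu => ?_
  choose k hk using fun i => hUsat i u hu
  refine ⟨Finset.univ.image fun i => f i ^ k i, fun r hr => hdense ?_, fun a ha => ?_⟩
  · funext i
    simp only [map_zero, Pi.zero_apply]
    exact (IsLocalization.map_eq_zero_iff (Submonoid.powers (f i)) _ r).mpr
      ⟨⟨f i ^ k i, k i, rfl⟩, hr _ (Finset.mem_image_of_mem _ (Finset.mem_univ i))⟩
  · obtain ⟨i, -, rfl⟩ := Finset.mem_image.mp ha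
    exact le_iSup U i (hk i)

end Groth.Agent.S1239
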