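import Groth.Statements.S19332
import Groth.Agent.ModPairs.Mprod
import Groth.Agent.RaynaudGruson.Flattening.Core
import Groth.Agent.RaynaudGruson.Flattening.Subscheme
import Groth.Agent.HTopHyper.BlowUpProper
import Groth.Agent.Divisors.BlowUpBasic
import Groth.Agent.RefRank.AdmBlowUp
-- import your own Groth.Agent.* helpers here

set_option autoImplicit false
universe u
open CategoryTheory CategoryTheory.Limits AlgebraicGeometry TopologicalSpace
open ModPair

namespace Groth.Agent.S19332

/-- Sections in the kernel of an open immersion are those with vanishing germs on the open. -/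
theorem mem_ker_ι_iff {Z : Scheme.{u}} (U : Z.Opens) [QuasiCompact U.ι] (V : Z.affineOpens)
    (a : Γ(Z, V.1)) :
    a ∈ U.ι.ker.ideal V ↔ ∀ (x : Z) (hx : x ∈ V.1), x ∈ U → Z.presheaf.germ V.1 x hx a = 0 := by
  rw [Scheme.Hom.ker_apply, RingHom.mem_ker]
  constructor
  · intro h x hx hxU
    let x' : U := ⟨x, hxU⟩
    have hiso : IsIso (U.ι.stalkMap x') := (IsOpenImmersion.iff_isIso_stalkMap.mp inferInstance).2 _
    apply (ConcreteCategory.bijective_of_isIso (U.ι.stalkMap x')).injective
    have h1 : U.ι.stalkMap x' (Z.presheaf.germ V.1 (U.ι x') hx a) = 0 := by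
      erw [Scheme.Hom.germ_stalkMap_apply, h]
      exact map_zero _
    exact h1.trans (map_zero _).symm
  · intro h
    refine Groth.Divisors.section_ext fun x hx => ?_
    have hiso : IsIso (U.ι.stalkMap x) := (IsOpenImmersion.iff_isIso_stalkMap.mp inferInstance).2 _
    rw [map_zero]
    have h3 : U.ι.stalkMap x (Z.presheaf.germ V.1 (U.ι x) hx a) = 0 := by
      have : Z.presheaf.germ V.1 (U.ι x) hx a = 0 := h x.1 hx x.2
      rw [this, map_zero]
    erw [Scheme.Hom.germ_stalkMap_apply] at h3
    exact h3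

/-- The kernel of the inclusion of the complement of a finite type centre consists of the sections
killed by a power of the centre. -/
theorem mem_ker_ι_iff_killed {Z : Scheme.{u}} (E : Z.IdealSheafData) (hE : BlowUp.IsFiniteTypeIdeal E)
    (U : Z.Opens) (hU : (U : Set Z) = (E.support : Set Z)ᶜ) [QuasiCompact U.ι] (V : Z.affineOpens)
    (a : Γ(Z, V.1)) :
    a ∈ U.ι.ker.ideal V ↔ BlowUp.KilledByPowerNear E (Coh.structureModule Z) V a := by
  rw [mem_ker_ι_iff]
  constructor
  · intro h
    let ann : Ideal Γ(Z, V.1) := LinearMap.ker (LinearMap.mulRight Γ(Z, V.1) a)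
    have hrad : E.ideal V ≤ ann.radical := fun e he => by
      haveI := V.2.isLocalization_basicOpen e
      have h0 : algebraMap Γ(Z, V.1) Γ(Z, Z.basicOpen e) a = 0 := by
        refine Groth.Divisors.section_ext fun z hz => ?_
        have hzU : z ∈ (U : Set Z) := by
          rw [hU]
          exact Groth.RaynaudGruson.ContentBlowUp.notMem_support (W := V) he hz
        rw [map_zero, ← h z (Z.basicOpen_le e hz) hzU]
        exact Z.presheaf.germ_res_apply (homOfLE (Z.basicOpen_le e)) z hz a
      obtain ⟨⟨_, n, rfl⟩, hn⟩ := (IsLocalization.map_eq_zero_iff (Submonoid.powers e) _ _).mp h0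
      exact ⟨n, hn⟩
    obtain ⟨n, hn⟩ := Ideal.exists_pow_le_of_le_radical_of_fg hrad (hE V)
    refine ⟨n, fun e he => ?_⟩
    rw [Scheme.IdealSheafData.ideal_pow, Pi.pow_apply] at he
    exact hn he
  · rintro ⟨n, hn⟩ z hz hzU
    obtain ⟨e, he, hze⟩ : ∃ e ∈ E.ideal V, z ∈ Z.basicOpen e := by
      by_contra hcon
      push Not at hcon
      have hns : z ∉ (E.support : Set Z) := by rw [← Set.mem_compl_iff, ← hU]; exact hzU
      refine hns ?_
      show z ∈ E.support
      rw [Scheme.IdealSheafData.mem_support_iff_of_mem hz, Scheme.mem_zeroLocus_iff]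
      exact hcon
    have hkill : e ^ n * a = 0 := hn _ (by
      rw [Scheme.IdealSheafData.ideal_pow, Pi.pow_apply]
      exact Ideal.pow_mem_pow he n)
    have h1 := congrArg (Z.presheaf.germ V.1 z hz) hkill
    rw [map_mul, map_zero, map_pow] at h1
    exact (((Scheme.mem_basicOpen Z e z hz).mp hze).pow n).mul_right_eq_zero.1 h1

/-- Let (S, I_S) and (X, I_X) be modulus pairs, i.e. schemes with quasi-coherent ideal sheaves of
effective Cartier divisors, with S and X quasi-compact and quasi-separated, and let f : X ⟶ S be a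
minimal morphism (I_X = I_S.comap f) which is locally of finite type and whose restriction to the
interiors f⁻¹(S°) ⟶ S° is flat and locally of finite presentation. Then there are abstract
admissible blow-ups t : T ⟶ S of (S, I_S) and y : Y ⟶ X of (X, I_X) (minimal, proper, and
isomorphisms over the interiors) and a morphism g : Y ⟶ T with y ≫ f = g ≫ t which is flat, locally
of finite presentation, quasi-compact and quasi-separated; g is then minimal for the pulled-back
moduli. The published statement assumes f only of finite type; this row also assumes X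
quasi-separated. -/
theorem result {X S : Scheme.{u}}
    [CompactSpace S] [QuasiSeparatedSpace S] [CompactSpace X] [QuasiSeparatedSpace X]
    (IS : S.IdealSheafData) (IX : X.IdealSheafData) (hS : BlowUp.IsEffCartierIdeal IS)
    (hX : BlowUp.IsEffCartierIdeal IX) (f : X ⟶ S) (hf : ModPair.IsMinimal IX IS f)
    [LocallyOfFiniteType f] [Flat (f ∣_ ModPair.interior IS)]
    [LocallyOfFinitePresentation (f ∣_ ModPair.interior IS)] :
    ∃ (T : Scheme.{u}) (t : T ⟶ S) (Y : Scheme.{u}) (y : Y ⟶ X) (g : Y ⟶ T),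
      BlowUp.IsEffCartierIdeal (IS.comap t) ∧ ModPair.IsAdmBlowup (IS.comap t) IS t ∧
        BlowUp.IsEffCartierIdeal (IX.comap y) ∧ ModPair.IsAdmBlowup (IX.comap y) IX y ∧
        y ≫ f = g ≫ t ∧ Flat g ∧ LocallyOfFinitePresentation g ∧ QuasiCompact g ∧
        QuasiSeparated g := by
  haveI : QuasiSeparated f := QuasiSeparated.of_quasiSeparatedSpace f
  haveI : QuasiCompact f := inferInstance
  let U := ModPair.interior IS
  haveI := Groth.ModPairs.isAffineHom_interior hS
  have hUc : IsCompact (U : Set S) := isCompact_iff_compactSpace.mpr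
    (QuasiCompact.compactSpace_of_compactSpace U.ι)
  obtain ⟨𝓘, T, t, hb, hadm, hsupp, hmain⟩ :=
    Groth.RaynaudGruson.Flattening.exists_blowUp_subscheme f Groth.RaynaudGruson.Flattening.principalFlattening U hUc
  haveI : IsProper t := Groth.HTopHyper.isProper_of_isBlowUp hb hadm.1
  have hT : BlowUp.IsEffCartierIdeal (IS.comap t) := Groth.Divisors.isEffCartierIdeal_comap_blowUp hb hS
  have hUeq : Groth.Divisors.complOpens 𝓘 = U := by
    refine TopologicalSpace.Opens.ext ?_
    show (𝓘.support : Set S)ᶜ = (U : Set S)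
    rw [hsupp, compl_compl]
  haveI htU : IsIso (t ∣_ U) := hUeq ▸ Groth.Divisors.isIso_morphismRestrict_compl hb
  let p₁ := pullback.fst f t
  let p₂ := pullback.snd f t
  let W : X.Opens := f ⁻¹ᵁ U
  have hW : W = ModPair.interior IX := by
    rw [hf, Groth.ModPairs.interior_comap]
  haveI := Groth.ModPairs.isAffineHom_interior hX
  haveI : IsAffineHom W.ι := hW ▸ (inferInstance : IsAffineHom (ModPair.interior IX).ι)
  let U' : (pullback f t).Opens := p₁ ⁻¹ᵁ W
  haveI : IsAffineHom U'.ι := Groth.ModPairs.isAffineHom_preimage p₁ W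
  let E := (𝓘.comap f).comap p₁
  have hE : BlowUp.IsFiniteTypeIdeal E :=
    Groth.RefRank.isFiniteTypeIdeal_comap p₁ (Groth.RefRank.isFiniteTypeIdeal_comap f hadm.1)
  have hU' : (U' : Set ↑(pullback f t)) = (E.support : Set ↑(pullback f t))ᶜ := by
    ext x
    simp only [E, Scheme.IdealSheafData.support_comap, TopologicalSpace.Closeds.coe_preimage, hsupp]
    simp [U', W]
  let 𝒥 := U'.ι.ker
  obtain ⟨hflat, hlfp⟩ := hmain (pullback f t) p₁ p₂ (IsPullback.of_hasPullback f t) 𝒥
    (fun V a => mem_ker_ι_iff_killed E hE U' hU' V a)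
  let y : U'.ι.image ⟶ X := U'.ι.imageι ≫ p₁
  -- `p₁` is an isomorphism over the interior
  haveI hpW : IsIso (p₁ ∣_ W) := by
    have H1 : IsPullback (p₁ ∣_ W) (U'.ι ≫ p₂) (W.ι ≫ f) t :=
      ((isPullback_morphismRestrict p₁ W).flip.paste_horiz (IsPullback.of_hasPullback f t).flip).flip
    have H2 : IsPullback (t ⁻¹ᵁ U).ι (t ∣_ U) t U.ι := (isPullback_morphismRestrict t U).flip
    have hfac : W.ι ≫ f = (f ∣_ U) ≫ U.ι := (morphismRestrict_ι f U).symm
    rw [hfac] at H1
    let l : (U' : Scheme.{u}) ⟶ (t ⁻¹ᵁ U : T.Opens) :=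
      H2.lift (U'.ι ≫ p₂) ((p₁ ∣_ W) ≫ (f ∣_ U)) (by rw [Category.assoc, Category.assoc]; exact H1.w.symm.trans (Category.assoc _ _ _).symm |>.trans (Category.assoc _ _ _))
    have hl : IsPullback (p₁ ∣_ W) l (f ∣_ U) (t ∣_ U) :=
      IsPullback.of_bot (by rw [H2.lift_fst]; exact H1) (H2.lift_snd _ _ _).symm H2.flip.flip.flip
    exact MorphismProperty.of_isPullback (P := MorphismProperty.isomorphisms Scheme.{u}) hl.flip
      ((MorphismProperty.isomorphisms.iff _).mpr htU) |> fun h => (MorphismProperty.isomorphisms.iff _).mp h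
  refine ⟨T, t, U'.ι.image, y, U'.ι.imageι ≫ p₂, hT, ⟨rfl, inferInstance, htU⟩, ?_, ⟨rfl, inferInstance, ?_⟩,
    by simp only [y, p₁, p₂, Category.assoc, pullback.condition], hflat, hlfp, inferInstance, inferInstance⟩
  · haveI : IsSchemeTheoreticallyDominant (U'.ι.imageι ⁻¹ᵁ U').ι := Groth.ModPairs.dominant_preimage_imageι U'
    haveI : IsSchemeTheoreticallyDominant (y ⁻¹ᵁ ModPair.interior IX).ι :=
      Groth.ModPairs.dominant_mono (U := U'.ι.imageι ⁻¹ᵁ U') (V := y ⁻¹ᵁ ModPair.interior IX)
        (le_of_eq (by rw [← hW]; rfl))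
    exact Groth.ModPairs.isEffCartierIdeal_comap_of_dominant hX y
  · rw [← hW]
    haveI : IsIso (U'.ι.imageι ∣_ U') := Groth.ModPairs.isIso_imageι_restrict U'
    rw [morphismRestrict_comp]
    exact IsIso.comp_isIso' ‹_› hpW

end Groth.Agent.S19332
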