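import Groth.Statements.S15849
import Groth.Agent.HilbStab.RankOne
import Groth.Agent.RefRank.RegularRef
import Groth.Agent.RefRank.Normality
import Groth.Agent.Abvar.PicCalc
import Groth.Agent.TFOne.Decompose
import Groth.Agent.NeronArea.WeilExtensionBase
import Groth.Agent.Misc13.HodgeProper

set_option autoImplicit false
universe u
open CategoryTheory CategoryTheory.Limits AlgebraicGeometry
open ShStab Polynomial
open Groth.RefRank Groth.PicAux Groth.HilbStab

namespace Groth.Agent.S15849

/-- Let k be an algebraically closed field of characteristic zero and S a smooth projective surface over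
k (integral, smooth over k, of dimension two, with a closed immersion over k into some projective
space) whose Picard group is infinite cyclic, generated by the class of an ample invertible sheaf L.
Let N ⊆ L be a coherent subsheaf whose quotient L/N has support of dimension at most zero (N is L
twisted by the ideal sheaf of a finite subscheme, possibly empty), and let V be a coherent
O_S-module with torsion-free stalks in a short exact sequence 0 → O_S → V → N → 0 that does not
split. Then V is slope-stable of dimension two with respect to L: V has no coherent subsheaf with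
one-dimensional support, and every coherent subsheaf whose multiplicity lies strictly between 0 and
that of V has normalised slope of its Hilbert polynomial strictly smaller than that of V. (The
published statement does not ask the extension to be non-split; for the split extension V = O_S ⊕ N
the subsheaf N has larger slope than V, and the printed argument uses that the sequence does not
split, so non-splitness is assumed here.) -/
theorem result
    (k : Type u) [Field k] [IsAlgClosed k] [CharZero k]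
    (S : Scheme.{u}) [S.Over (Spec (CommRingCat.of k))] [IsIntegral S]
    [Smooth (S ↘ Spec (CommRingCat.of k))] (hdim : topologicalKrullDim S = 2)
    [IsProper (S ↘ Spec (CommRingCat.of k))]
    (hproj : ∃ (n : ℕ) (ι : S ⟶ CohB1.ProjSpace n k), IsClosedImmersion ι ∧
      ι ≫ CohB1.ProjSpace.toSpec n k = S ↘ Spec (CommRingCat.of k))
    (L : S.Modules) (hLi : PicF.IsInvertible L) (hLa : CohB1.IsAmple L)
    [PicGrp.Law S] (hgen : ∀ c : PicLoc.PicSet S, ∃ n : ℤ, c = PicGrp.cls L hLi ^ n)
    (hfree : ∀ n : ℤ, PicGrp.cls L hLi ^ n = 1 → n = 0)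
    (N : S.Modules) (ι : N ⟶ L) [Mono ι] (hN : Coh.IsCoh N)
    (hZ : topologicalKrullDim (CohB1.support (cokernel ι)) ≤ 0)
    (V : S.Modules) (hV : Coh.IsCoh V) (hVtf : TorSh.IsTorsionFree V)
    (a : Coh.structureModule S ⟶ V) (b : V ⟶ N) (w : a ≫ b = 0)
    (hex : (ShortComplex.mk a b w).ShortExact)
    (hns : ∀ r : V ⟶ Coh.structureModule S, a ≫ r ≠ 𝟙 (Coh.structureModule S)) :
    ShStab.IsMuStable k S L V 2 := by
  have hX : topologicalKrullDim S = ((2 : ℕ) : WithBot ℕ∞) := by simpa using hdim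
  haveI := Groth.HilbStab.isLocallyNoetherian k (X := S)
  have hreg : ∀ x : S, IsRegularLocalRing (S.presheaf.stalk x) := fun x =>
    Groth.NeronArea.Weil.isRegularLocalRing_of_smooth_dedekind (R := k)
      (S ↘ Spec (CommRingCat.of k)) x
  have hnorm : Pi1.IsNormalScheme S := isNormalScheme_of_regular hreg
  haveI := hV.1
  haveI := hN.1
  have hLc := Groth.EulerDeg.isCoh_of_isInvertible hLi
  haveI := hLc.1
  have hOi := PicLoc.isInvertible_structureModule S
  have hOc : Coh.IsCoh (Coh.structureModule S) := Groth.QCohMod.isCoh_unit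
  have hOtf := isTorsionFree_of_isInvertible hOi
  have hO1 := isRankOne_of_isInvertible hOi
  have hO0 := not_isZero_of_isRankOne hO1
  have hLtf := isTorsionFree_of_isInvertible hLi
  have hL1 := isRankOne_of_isInvertible hLi
  haveI hma : Mono a := hex.mono_f
  obtain ⟨pO, hpO⟩ := Groth.HilbStab.exists_isHilbPoly k S hLa hOc
  have hO2 := coeff_two_pos k hLa hX hOtf (𝟙 _) hOc hO0 hpO
  have hOd := natDegree_le_two k hLa hX hOc hpO
  -- twisting shifts the polynomial
  have hpow : ∀ m : ℕ, IsHilbPoly k S L (CohB1.tensorPow L m) (taylor (m : ℚ) pO) := fun m => by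
    obtain ⟨l, -⟩ := exists_leftUnitor (CohB1.tensorPow L m)
    exact Groth.HilbStab.isHilbPoly_iso k l (Groth.HilbStab.isHilbPoly_shift k hLa hpO m)
  have hpL : IsHilbPoly k S L L (taylor (1 : ℚ) pO) := by
    obtain ⟨l, -⟩ := exists_leftUnitor L
    have h := hpow 1
    rw [Nat.cast_one] at h
    exact Groth.HilbStab.isHilbPoly_iso k l h
  obtain ⟨hL2e, -⟩ := taylor_top hOd 1
  have hL2 : 0 < (taylor (1 : ℚ) pO).coeff 2 := hL2e ▸ hO2
  have hsL := hatSlope_taylor hOd hO2.ne' 1
  obtain ⟨pN, hpN⟩ := Groth.HilbStab.exists_isHilbPoly k S hLa hN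
  obtain ⟨pC, hpC⟩ := Groth.HilbStab.exists_isHilbPoly k S hLa (Groth.QCohMod.isCoh_cokernel ι hLc)
  have hCd := Groth.HilbStab.natDegree_le_of_support_subset k hLa (d := 0) (by simpa using hZ)
    subset_rfl (Groth.QCohMod.isCoh_cokernel ι hLc) hpC
  have hLN := Groth.HilbStab.isHilbPoly_cokernel_add k hLa hN ι hLc hpN hpL hpC
  have hN1 : pN.coeff 1 = (taylor (1 : ℚ) pO).coeff 1 := by
    rw [hLN, coeff_add, coeff_eq_zero_of_natDegree_lt (p := pC) (n := 1) (by omega), add_zero]
  have hN2 : pN.coeff 2 = pO.coeff 2 := by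
    rw [← hL2e, hLN, coeff_add, coeff_eq_zero_of_natDegree_lt (p := pC) (n := 2) (by omega), add_zero]
  have hVsupp : CohB1.support V = Set.univ := by
    refine support_eq_univ_of_mono hVtf (𝟙 V) hV fun h => hO0 ?_
    rw [IsZero.iff_id_eq_zero]
    exact (cancel_mono a).1 (h.eq_of_tgt _ _)
  refine ⟨hV, fun h => hO0 ?_, ?_, ?_, ?_⟩
  · rw [IsZero.iff_id_eq_zero]
    exact (cancel_mono a).1 (h.eq_of_tgt _ _)
  · rw [hVsupp, Groth.Misc13.HodgeProper.dim_univ]
    exact hX
  · intro F j hj hF hdimF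
    by_cases h0 : IsZero F
    · have : topologicalKrullDim (CohB1.support F) = ⊥ := by
        have : IsEmpty (CohB1.support F) :=
          Set.isEmpty_coe_sort.2 ((Groth.QCohMod.isZero_iff_support_eq_empty F).1 h0)
        have : IsEmpty (TopologicalSpace.IrreducibleCloseds (CohB1.support F)) :=
          ⟨fun Z => IsEmpty.false Z.2.nonempty.some⟩
        exact Order.krullDim_eq_bot
      rw [this, WithBot.bot_add] at hdimF
      exact WithBot.bot_ne_coe hdimF
    · rw [Groth.HilbStab.isPure_of_isTorsionFree hVtf hX F j hj hF h0] at hdimF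
      norm_cast at hdimF
  intro F j hj hF pF pV hpF hpV hFpos hFlt
  haveI := hj
  haveI := hF.1
  have hF0 : ¬ IsZero F := fun h => by
    rw [Groth.HilbStab.eq_zero_of_isZero k h hpF] at hFpos
    simp [StabCat.alpha] at hFpos
  rw [alpha_two, alpha_two] at hFlt
  have hVsum : pV = pO + pN := Groth.HilbStab.isHilbPoly_add k hLa hex hOc hN hpO hpV hpN
  have hsV : StabCat.hatSlope 2 pV = StabCat.hatSlope 2 pO + 1 / 2 := by
    rw [hatSlope_two, hatSlope_two, hVsum, coeff_add, coeff_add, hN1, hN2, (taylor_top hOd 1).2]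
    field_simp
    ring
  suffices H : StabCat.hatSlope 2 pF ≤ StabCat.hatSlope 2 pO by
    rw [hsV]; linarith
  have hV2 : pV.coeff 2 = pO.coeff 2 + pO.coeff 2 := by rw [hVsum, coeff_add, hN2]
  -- subsheaves of the structure sheaf
  have hsub : ∀ (A : S.Modules) (g : A ⟶ Coh.structureModule S) [Mono g] (pA : ℚ[X]),
      Coh.IsCoh A → ¬ IsZero A → IsHilbPoly k S L A pA → pA.coeff 2 = pO.coeff 2 ∧
        StabCat.hatSlope 2 pA ≤ StabCat.hatSlope 2 pO := by
    intro A g _ pA hA hA0 hpA
    have e := coeff_two_eq_of_mono k hLa hX hOtf hO1 hOc g hA hA0 hpA hpO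
    exact ⟨e, hatSlope_le_of_mono k hLa hX hOc g hA hpA hpO e hO2⟩
  by_cases hq0 : j ≫ b = 0
  · let g := hex.exact.lift j hq0
    have hg : g ≫ a = j := hex.exact.lift_f j hq0
    haveI : Mono g := mono_of_mono_fac hg
    exact (hsub F g pF hF hF0 hpF).2
  by_cases hm : Mono (j ≫ b)
  swap
  · exfalso
    let q := Abelian.factorThruImage (j ≫ b)
    have hI : Coh.IsCoh (Abelian.image (j ≫ b)) :=
      Groth.QCohMod.isCoh_kernel (cokernel.π (j ≫ b)) hN
    haveI := hI.1
    have hK := Groth.QCohMod.isCoh_kernel q hF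
    have hK0 : ¬ IsZero (kernel q) := fun h => hm <| by
      haveI : Mono q := Preadditive.mono_of_kernel_zero (h.eq_of_src _ _)
      rw [← Abelian.image.fac (j ≫ b)]
      exact mono_comp q _
    have hw : (kernel.ι q ≫ j) ≫ b = 0 := by
      calc (kernel.ι q ≫ j) ≫ b = kernel.ι q ≫ q ≫ Abelian.image.ι (j ≫ b) := by
            rw [Category.assoc, Abelian.image.fac]
        _ = 0 := by rw [kernel.condition_assoc, Limits.zero_comp]
    let g := hex.exact.lift (kernel.ι q ≫ j) hw
    have hg : g ≫ a = kernel.ι q ≫ j := hex.exact.lift_f _ hw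
    haveI : Mono g := mono_of_mono_fac hg
    have hI0 : ¬ IsZero (Abelian.image (j ≫ b)) := fun h => hq0 <| by
      rw [← Abelian.image.fac (j ≫ b), h.eq_of_src (Abelian.image.ι (j ≫ b)) 0, Limits.comp_zero]
    obtain ⟨pK, hpK⟩ := Groth.HilbStab.exists_isHilbPoly k S hLa hK
    obtain ⟨pI, hpI⟩ := Groth.HilbStab.exists_isHilbPoly k S hLa hI
    have e1 := (hsub _ g pK hK hK0 hpK).1
    have e2 := coeff_two_eq_of_mono k hLa hX hLtf hL1 hLc (Abelian.image.ι (j ≫ b) ≫ ι) hI hI0 hpI hpL
    have e3 := Groth.HilbStab.isHilbPoly_kernel_add k hLa hF q hI hpK hpF hpI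
    rw [e3, coeff_add, e1, e2, hL2e, hV2] at hFlt
    exact lt_irrefl _ hFlt
  haveI := hm
  -- `F` embeds into `L`; pass to its reflexive hull
  let φ : F ⟶ L := (j ≫ b) ≫ ι
  haveI : Mono φ := mono_comp (j ≫ b) ι
  have hFtf : TorSh.IsTorsionFree F :=
    Groth.TFOneAux.isTorsionFree_of_mono φ hLtf
  have hF1 := isRankOne_of_mono hLtf hL1 φ hF hF0
  let D := RefHull.ddual F
  have hDc : Coh.IsCoh D := isCoh_ddual hF
  haveI := hDc.1
  have hDr : RefHull.IsReflexive D := isReflexive_ddual hF
  have hDi : PicF.IsInvertible D :=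
    isInvertible_of_isReflexive_of_regular hreg hDc hDr (isRankOne_ddual hF hF1)
  have hDtf := isTorsionFree_of_isInvertible hDi
  have hD1 := isRankOne_of_isInvertible hDi
  let δ : F ⟶ D := RefHull.bidualMap F
  haveI : Mono δ := mono_of_generic hFtf δ (bidual_gen_bijective hF).1
  let δe := LinearEquiv.ofBijective (RefHull.stalkMapₗ δ (genericPoint ↥S)) (bidual_gen_bijective hF)
  obtain ⟨ψ, hψ⟩ := exists_hom_of_codim_one hnorm hLc
    (Groth.RefRank.CartierTwist.isRef1_of_isInvertible hLi).2.1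
    ((RefHull.stalkMapₗ φ (genericPoint ↥S)).comp δe.symm.toLinearMap) (fun y hy => by
      haveI := isDiscreteValuationRing_stalk hnorm hy
      rintro _ ⟨v, rfl⟩
      obtain ⟨u, rfl⟩ := bidual_surjective_of_pid hF y v
      refine ⟨RefHull.stalkMapₗ φ y u, ?_⟩
      rw [LinearMap.comp_apply, ← stalkMapₗ_mspec, ← stalkMapₗ_mspec, LinearEquiv.coe_coe]
      exact (congrArg (RefHull.stalkMapₗ φ _) (δe.symm_apply_apply _)).symm)
  have hδψ : δ ≫ ψ = φ := hom_ext_gen (mspec_injective_of_isTorsionFree hLtf) <| LinearMap.ext fun v => by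
    rw [Groth.RefRank.stalkMapₗ_comp, hψ, LinearMap.comp_apply, LinearEquiv.coe_coe]
    exact congrArg (RefHull.stalkMapₗ φ _) (δe.symm_apply_apply v)
  haveI : Mono ψ := mono_of_generic hDtf ψ <| by
    rw [hψ]
    exact (stalkMapₗ_injective_of_mono φ _).comp δe.symm.injective
  have hD0 := not_isZero_of_isRankOne hD1
  obtain ⟨pD, hpD⟩ := Groth.HilbStab.exists_isHilbPoly k S hLa hDc
  have hDd := natDegree_le_two k hLa hX hDc hpD
  have hD2 := coeff_two_pos k hLa hX hDtf (𝟙 _) hDc hD0 hpD
  have hDL2 := coeff_two_eq_of_mono k hLa hX hLtf hL1 hLc ψ hDc hD0 hpD hpL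
  have hFD := hatSlope_le_of_mono k hLa hX hDc δ hF hpF hpD
    (coeff_two_eq_of_mono k hLa hX hDtf hD1 hDc δ hF hF0 hpF hpD) hD2
  have hDL := hatSlope_le_of_mono k hLa hX hLc ψ hDc hpD hpL hDL2 hL2
  rw [hsL] at hDL
  obtain ⟨z, hz⟩ := hgen (PicGrp.cls D hDi)
  refine le_trans hFD ?_
  by_cases hzn : z ≤ 0
  · obtain ⟨m, hm'⟩ := Int.exists_eq_neg_ofNat hzn
    subst hm'
    have hp : PicF.IsInvertible (CohB1.tensorPow L m) := Groth.Abvar.PicCalc.isInvertible_tensorPow hLi m
    have h1 : PicGrp.cls D hDi * PicGrp.cls (CohB1.tensorPow L m) hp = 1 := by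
      rw [hz, show PicGrp.cls (CohB1.tensorPow L m) hp = PicGrp.cls L hLi ^ m from
        Subtype.ext (PicGrp.cls_pow_val hLi m).symm, zpow_neg, zpow_natCast, inv_mul_cancel]
    obtain ⟨e⟩ := (PicGrp.cls_mul_cls_eq_one_iff hDi hp).1 h1
    have h2 := Groth.HilbStab.isHilbPoly_unique k
      (Groth.HilbStab.isHilbPoly_iso k e (Groth.HilbStab.isHilbPoly_shift k hLa hpD m)) hpO
    have h3 := hatSlope_taylor hDd hD2.ne' (m : ℚ)
    rw [h2] at h3
    rw [h3]
    linarith [(Nat.cast_nonneg m : (0 : ℚ) ≤ m)]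
  exfalso
  obtain ⟨m, rfl⟩ := Int.eq_ofNat_of_zero_le (show 0 ≤ z by omega)
  rw [zpow_natCast] at hz
  have hp : PicF.IsInvertible (CohB1.tensorPow L m) := Groth.Abvar.PicCalc.isInvertible_tensorPow hLi m
  obtain ⟨e⟩ := (PicGrp.cls_eq_cls_iff hDi hp).1
    (hz.trans (Subtype.ext (PicGrp.cls_pow_val hLi m)))
  have hDp := Groth.HilbStab.isHilbPoly_unique k hpD (Groth.HilbStab.isHilbPoly_iso k e.symm (hpow m))
  have hm1 : m = 1 := by
    rw [hDp, hatSlope_taylor hOd hO2.ne'] at hDL
    have : (m : ℚ) ≤ (1 : ℕ) := by push_cast; linarith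
    have : m ≤ 1 := by exact_mod_cast this
    omega
  subst hm1
  rw [Nat.cast_one] at hDp
  subst hDp
  haveI : IsIso ψ := Groth.HilbStab.isIso_of_mono_of_eq k hLa hDc ψ hLc hpD hpL
  -- in codimension at most one `F` maps onto `N`, which gives a retraction
  have honto : ∀ y : S, IsPrincipalIdealRing (S.presheaf.stalk y) →
      Function.Surjective (RefHull.stalkMapₗ (j ≫ b) y) := by
    intro y _ n
    obtain ⟨d, hd⟩ := ((isIso_iff_bijective_stalk ψ).mp inferInstance y).2 (RefHull.stalkMapₗ ι y n)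
    obtain ⟨u, rfl⟩ := bidual_surjective_of_pid hF y d
    refine ⟨u, stalkMapₗ_injective_of_mono ι y ?_⟩
    rw [← hd, ← Groth.RefRank.stalkMapₗ_comp, ← Groth.RefRank.stalkMapₗ_comp]
    exact (congrArg (fun f => RefHull.stalkMapₗ f y u) hδψ).symm
  have hdec : ∀ y : S, IsPrincipalIdealRing (S.presheaf.stalk y) → Function.Bijective
      ((RefHull.stalkMapₗ a y).coprod (RefHull.stalkMapₗ j y)) := by
    intro y hy
    obtain ⟨hinj, hexy, -⟩ := Groth.KTheory.LocFree.stalk_exact hex y
    have hbj := stalkMapₗ_injective_of_mono (j ≫ b) y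
    refine ⟨(injective_iff_map_eq_zero _).mpr ?_, fun v => ?_⟩
    · rintro ⟨o, f⟩ h
      rw [LinearMap.coprod_apply] at h
      have hb0 : RefHull.stalkMapₗ b y (RefHull.stalkMapₗ a y o) = 0 := (hexy _).mpr ⟨o, rfl⟩
      have h' := congrArg (RefHull.stalkMapₗ b y) h
      rw [map_add, hb0, zero_add, map_zero, ← Groth.RefRank.stalkMapₗ_comp] at h'
      have hf : f = 0 := hbj (h'.trans (map_zero _).symm)
      subst hf
      rw [map_zero, add_zero] at h
      exact Prod.ext (hinj (h.trans (map_zero _).symm)) rfl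
    · obtain ⟨f, hf⟩ := honto y hy (RefHull.stalkMapₗ b y v)
      rw [Groth.RefRank.stalkMapₗ_comp] at hf
      obtain ⟨o, ho⟩ := (hexy (v - RefHull.stalkMapₗ j y f)).mp
        ((map_sub (RefHull.stalkMapₗ b y) v _).trans (by rw [hf, sub_self]))
      refine ⟨(o, f), ?_⟩
      rw [LinearMap.coprod_apply]
      exact eq_sub_iff_add_eq.mp ho
  let _ : Field (S.presheaf.stalk (genericPoint ↥S)) := inferInstanceAs (Field S.functionField)
  let E := LinearEquiv.ofBijective _ (hdec (genericPoint ↥S) inferInstance)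
  obtain ⟨r, hr⟩ := exists_hom_of_codim_one hnorm hOc isReflexive_structureModule
    ((LinearMap.fst _ _ _).comp E.symm.toLinearMap) (fun y hy => by
      haveI := isDiscreteValuationRing_stalk hnorm hy
      rintro _ ⟨v, rfl⟩
      obtain ⟨⟨o, f⟩, rfl⟩ := (hdec y inferInstance).2 v
      refine ⟨o, ?_⟩
      rw [LinearMap.comp_apply, LinearEquiv.coe_coe]
      have e : mspec V (genSpec y) ((RefHull.stalkMapₗ a y).coprod (RefHull.stalkMapₗ j y) (o, f)) =
          E (mspec _ (genSpec y) o, mspec _ (genSpec y) f) := by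
        rw [LinearEquiv.ofBijective_apply, LinearMap.coprod_apply, LinearMap.coprod_apply, map_add,
          stalkMapₗ_mspec, stalkMapₗ_mspec]
      rw [e, E.symm_apply_apply]
      rfl)
  refine hns r (hom_ext_gen (mspec_injective_of_isTorsionFree hOtf) <| LinearMap.ext fun o => ?_)
  rw [Groth.RefRank.stalkMapₗ_comp, hr, LinearMap.comp_apply, LinearEquiv.coe_coe,
    Groth.RefRank.stalkMapₗ_id]
  have e : RefHull.stalkMapₗ a (genericPoint ↥S) o = E (o, 0) := by
    rw [LinearEquiv.ofBijective_apply, LinearMap.coprod_apply, map_zero, add_zero]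
  rw [e, E.symm_apply_apply]
  rfl

end Groth.Agent.S15849
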