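import Groth.Statements.S15854
import Groth.Agent.HilbStab.K3Ext
import Groth.Agent.LocFree.Tensor
import Groth.Agent.LocFree.Rank

set_option autoImplicit false
universe u
open CategoryTheory CategoryTheory.Limits AlgebraicGeometry Polynomial
open ShStab

open Groth.RefRank Groth.PicAux Groth.HilbStab

namespace Groth.Agent.S15854

/-- The cokernel of an invertible submodule of a module of rank two has rank one. -/
theorem isRankOne_cokernel {X : Scheme.{u}} [IsIntegral X] [IsLocallyNoetherian X] {A V : X.Modules}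
    (hA : PicF.IsInvertible A) (hV : Coh.IsCoh V)
    (hr : Module.finrank (X.presheaf.stalk (genericPoint ↥X)) (V.presheaf.stalk (genericPoint ↥X)) = 2)
    (σ : A ⟶ V) [Mono σ] : IsRankOne (cokernel σ) := by
  have := hV.1
  have := (Groth.EulerDeg.isCoh_of_isInvertible hA).1
  let _ : Field (X.presheaf.stalk (genericPoint ↥X)) := inferInstanceAs (Field X.functionField)
  obtain ⟨hi, hex, hs⟩ := Groth.KTheory.LocFree.stalk_exact
    ({ exact := ShortComplex.exact_of_g_is_cokernel _ (cokernelIsCokernel σ) } :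
      (ShortComplex.mk σ (cokernel.π σ) (cokernel.condition σ)).ShortExact) (genericPoint ↥X)
  obtain ⟨v, hv⟩ := isRankOne_of_isInvertible hA
  have h1 : Module.finrank (X.presheaf.stalk (genericPoint ↥X)) (A.presheaf.stalk (genericPoint ↥X)) = 1 :=
    (LinearEquiv.ofBijective (LinearMap.toSpanSingleton _ _ v) hv).finrank_eq.symm.trans
      (Module.finrank_self _)
  haveI := finite_stalkModule hV (genericPoint ↥X)
  let π := RefHull.stalkMapₗ (cokernel.π σ) (genericPoint ↥X)
  have hi' : Function.Injective (RefHull.stalkMapₗ σ (genericPoint ↥X)) := hi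
  have hs' : Function.Surjective π := hs
  have hex' : Function.Exact (RefHull.stalkMapₗ σ (genericPoint ↥X)) π := hex
  have hk : Module.finrank (X.presheaf.stalk (genericPoint ↥X)) (LinearMap.ker π) = 1 := by
    rw [show LinearMap.ker π = LinearMap.range (RefHull.stalkMapₗ σ (genericPoint ↥X)) from
      hex'.linearMap_ker_eq, LinearMap.finrank_range_of_inj hi', h1]
  have hadd := π.finrank_range_add_finrank_ker
  rw [LinearMap.range_eq_top.mpr hs', finrank_top, hk, hr] at hadd
  haveI := finite_stalkModule (Groth.QCohMod.isCoh_cokernel σ hV) (genericPoint ↥X)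
  let B := Module.finBasisOfFinrankEq (X.presheaf.stalk (genericPoint ↥X))
    ((cokernel σ).presheaf.stalk (genericPoint ↥X)) (show _ = 1 by omega)
  refine ⟨B 0, fun x y h => ?_, fun z => ⟨B.repr z 0, ?_⟩⟩
  · simpa using congrArg (fun w => B.repr w 0) h
  · dsimp only
    conv_rhs => rw [← B.sum_repr z]
    rw [Fin.sum_univ_one]

/-- Tensoring by an invertible module reflects vanishing. -/
theorem exists_twist_map {X : Scheme.{u}} {A B M : X.Modules} (hM : PicF.IsInvertible M) (f : A ⟶ B) :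
    ∃ g : CohB1.tensorMod A M ⟶ CohB1.tensorMod B M, g = 0 → f = 0 := by
  let T : X.Modules ⥤ X.Modules := DCoh.tensorRightMod M
  haveI : T.IsEquivalence := isEquivalence_tensorRightMod_of_isInvertible hM
  haveI : T.PreservesZeroMorphisms :=
    Functor.preservesZeroMorphisms_of_map_zero_object T.mapZeroObject
  exact ⟨T.map f, fun h => T.map_injective (h.trans (T.map_zero A B).symm)⟩

/-- Let k be an algebraically closed field of characteristic zero and S a K3 surface over k — a smooth
projective surface (integral, smooth over k, of dimension two, with a closed immersion over k into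
some projective space) whose structure sheaf is a second exterior power of its sheaf of
differentials and with H^1(S, O_S) = 0 — whose Picard group is infinite cyclic, generated by the
class of an ample invertible sheaf L. Let V be a locally free O_S-module of rank two, stable of
dimension two with respect to L, with Hilbert polynomial P, P(m) = χ(V ⊗ L^m), such that the
coefficients of m and m^2 in P agree (c_1(V)·L = L^2, i.e. the first Chern class of V is the class
of L), and let n be a natural number with P(n) = χ(V ⊗ L^n) ≥ 1 (by Riemann–Roch this is the bound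
c_2(V) ≤ (n^2 + n + 1/2) L^2 + 3). Then V is an extension of type m for some m ≤ n: there are a
natural number m ≤ n, an invertible O_S-module M whose class is the inverse of the class of L^{⊗m},
a coherent subsheaf N ⊆ L^{⊗(m+1)} whose quotient is supported in dimension at most zero (N is
L^{⊗(m+1)} twisted by the ideal of a finite subscheme Z_m), and a short exact sequence 0 → M → V → N
→ 0. (The published statement also records the length of Z_m as c_2 + m(m+1)L^2; that Chern-class
bookkeeping is not restated here. The published statement also assumes the lower bound c_2 >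
((n-1)^2 + (n-1) + 1/2) L^2 + 3 with n ≥ 1; the argument uses only the upper bound, and neither the
lower bound nor n ≥ 1 is assumed here.) -/
theorem result
    (k : Type u) [Field k] [IsAlgClosed k] [CharZero k]
    (S : Scheme.{u}) [S.Over (Spec (CommRingCat.of k))] [IsIntegral S]
    [Smooth (S ↘ Spec (CommRingCat.of k))] (hdim : topologicalKrullDim S = 2)
    [IsProper (S ↘ Spec (CommRingCat.of k))]
    (hproj : ∃ (n : ℕ) (ι : S ⟶ CohB1.ProjSpace n k), IsClosedImmersion ι ∧
      ι ≫ CohB1.ProjSpace.toSpec n k = S ↘ Spec (CommRingCat.of k))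
    (hK : Canon.IsTopDiff (S ↘ Spec (CommRingCat.of k)) 2 (Coh.structureModule S))
    (hq : Module.finrank k (Coh.HH S (Coh.structureModule S) 1) = 0)
    (L : S.Modules) (hLi : PicF.IsInvertible L) (hLa : CohB1.IsAmple L)
    [PicGrp.Law S] (hgen : ∀ c : PicLoc.PicSet S, ∃ n : ℤ, c = PicGrp.cls L hLi ^ n)
    (hfree : ∀ n : ℤ, PicGrp.cls L hLi ^ n = 1 → n = 0)
    (V : S.Modules) (hV : FlatMod.IsFinLocFreeOfRank 2 V)
    (hst : ShStab.IsStable k S L V 2)
    (P : ℚ[X]) (hP : ShStab.IsHilbPoly k S L V P) (hc1 : P.coeff 1 = P.coeff 2)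
    (n : ℕ) (hn : 1 ≤ P.eval (n : ℚ)) :
    ∃ (m : ℕ) (_ : m ≤ n) (M : S.Modules) (hM : PicF.IsInvertible M)
      (_ : PicGrp.cls M hM * PicGrp.cls L hLi ^ m = 1)
      (N : S.Modules) (ι : N ⟶ CohB1.tensorPow L (m + 1)) (_ : Mono ι) (_ : Coh.IsCoh N)
      (_ : topologicalKrullDim (CohB1.support (cokernel ι)) ≤ 0)
      (a : M ⟶ V) (b : V ⟶ N) (w : a ≫ b = 0),
      (ShortComplex.mk a b w).ShortExact := by
  have hX : topologicalKrullDim S = ((2 : ℕ) : WithBot ℕ∞) := by simpa using hdim
  haveI := Groth.HilbStab.isLocallyNoetherian k (X := S)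
  obtain ⟨N₀, ι₀, hι₀, hι⟩ := hproj
  haveI := hι₀
  have hVc : Coh.IsCoh V := Groth.KTheory.LocFree.isCoh (Groth.LocFree.isFinLocFree_of_rank hV)
  haveI := hVc.1
  have hVr : RefHull.IsReflexive V :=
    Groth.ProjFormula.isIso_bidualMap (Groth.LocFree.isFinLocFree_of_rank hV)
  have hVtf := isTorsionFree_of_isReflexive hVc hVr
  have hOi := PicLoc.isInvertible_structureModule S
  have hOc : Coh.IsCoh (Coh.structureModule S) := Groth.QCohMod.isCoh_unit
  haveI := hOc.1
  have hO1 := isRankOne_of_isInvertible hOi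
  have hOtf := isTorsionFree_of_isInvertible hOi
  obtain ⟨PO, hPO⟩ := Groth.HilbStab.exists_isHilbPoly k S hLa hOc
  have h1 := coeff_one_structure k hLa hX ι₀ hι hK hPO
  have hO2 : 0 < PO.coeff 2 := coeff_two_pos k hLa hX hOtf (𝟙 _) hOc (not_isZero_of_isRankOne hO1) hPO
  have hPi : ∀ p : ℕ, PicF.IsInvertible (CohB1.tensorPow L p) := fun p =>
    Groth.Abvar.PicCalc.isInvertible_tensorPow hLi p
  -- the leading coefficient
  have hrk : P.coeff 2 = 2 * PO.coeff 2 := by
    obtain ⟨p, hp⟩ := Groth.Chow.exists_isGloballyGenerated_twist hLa V hVc.2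
    have hM : FlatMod.IsFinLocFreeOfRank 2 (CohB1.tensorMod V (CohB1.tensorPow L p)) := by
      simpa using Groth.LocFree.isFinLocFreeOfRank_tensorMod hV
        (Groth.LocFree.isInvertible_iff_ofRank_one.1 (hPi p))
    have hMf := Groth.LocFree.isFinLocFree_of_rank hM
    have hMc := Groth.KTheory.LocFree.isCoh hMf
    haveI := hMc.1
    have hr := Groth.LocFree.finrank_stalk hM (genericPoint ↥S)
    obtain ⟨φ, hφ⟩ := Groth.Variety2.Growth.exists_free_generic hMc.2 (hp p le_rfl) 2 hr
    let σ₀ : Coh.structureModule S ⟶ CohB1.tensorMod V (CohB1.tensorPow L p) :=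
      Sigma.ι (fun _ : Fin 2 => Coh.structureModule S) 0 ≫ φ
    haveI : Mono (Sigma.ι (fun _ : Fin 2 => Coh.structureModule S) 0) :=
      mono_of_mono_fac (show Sigma.ι (fun _ : Fin 2 => Coh.structureModule S) 0 ≫
        Sigma.desc (fun _ => 𝟙 (Coh.structureModule S)) = 𝟙 _ from Sigma.ι_desc _ _)
    haveI : Mono σ₀ := mono_of_generic hOtf σ₀ fun u v h => by
      rw [Groth.RefRank.stalkMapₗ_comp, Groth.RefRank.stalkMapₗ_comp] at h
      exact stalkMapₗ_injective_of_mono _ _ (hφ.1 h)
    have hQc := Groth.QCohMod.isCoh_cokernel σ₀ hMc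
    have hQ1 := isRankOne_cokernel hOi hMc hr σ₀
    have hreg : ∀ x : S, IsRegularLocalRing (S.presheaf.stalk x) := fun x =>
      Groth.NeronArea.Weil.isRegularLocalRing_of_smooth_dedekind (R := k)
        (S ↘ Spec (CommRingCat.of k)) x
    have hDi : PicF.IsInvertible (RefHull.ddual (cokernel σ₀)) :=
      isInvertible_of_isReflexive_of_regular hreg (isCoh_ddual hQc) (isReflexive_ddual hQc)
        (isRankOne_ddual hQc hQ1)
    obtain ⟨pQ, hpQ⟩ := Groth.HilbStab.exists_isHilbPoly k S hLa hQc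
    obtain ⟨pD, hpD⟩ := Groth.HilbStab.exists_isHilbPoly k S hLa (isCoh_ddual hQc)
    obtain ⟨z, hz⟩ := hgen (PicGrp.cls _ hDi)
    have e1 := coeff_two_eq_of_generic k hX hLa hQc (isCoh_ddual hQc)
      (RefHull.bidualMap (cokernel σ₀)) (bidual_gen_bijective hQc) hpQ hpD
    have e2 := (coeff_of_cls_zpow k hLa hX hLi hDi hz hPO h1 hpD).1
    have h := Groth.HilbStab.isHilbPoly_cokernel_add k hLa hOc σ₀ hMc hPO
      (Groth.HilbStab.isHilbPoly_shift k hLa hP p) hpQ
    have h' := congrArg (fun q => q.coeff 2) h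
    simp only [coeff_add] at h'
    rw [(taylor_top (natDegree_le_two k hLa hX hVc hP) _).1] at h'
    linarith
  have hss := isMuSS_of_isStable k hLa hX hst
  -- a section of the twist
  obtain ⟨P', hP'i, hPP⟩ := exists_isInverseOf (hPi n)
  have hP'c := Groth.EulerDeg.isCoh_of_isInvertible hP'i
  haveI := hP'c.1
  obtain ⟨pP', hpP'⟩ := Groth.HilbStab.exists_isHilbPoly k S hLa hP'c
  have hP'cls : PicGrp.cls P' hP'i = PicGrp.cls L hLi ^ (-(n : ℤ)) := by
    have h := (PicGrp.cls_mul_cls_eq_one_iff (hPi n) hP'i).2 hPP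
    rw [show PicGrp.cls (CohB1.tensorPow L n) (hPi n) = PicGrp.cls L hLi ^ n from
      Subtype.ext (PicGrp.cls_pow_val hLi n).symm] at h
    rw [zpow_neg, zpow_natCast]
    exact eq_inv_of_mul_eq_one_right h
  obtain ⟨hP'2, hP'1⟩ := coeff_of_cls_zpow k hLa hX hLi hP'i hP'cls hPO h1 hpP'
  let V' := CohB1.tensorMod V (CohB1.tensorPow L n)
  have hV'c : Coh.IsCoh V' := Groth.RefRank.isCoh_tensorMod hVc (Groth.EulerDeg.isCoh_of_isInvertible (hPi n))
  obtain ⟨as, -⟩ := exists_associator V (CohB1.tensorPow L n) P'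
  let cV : V ≅ CohB1.tensorMod V' P' :=
    (as ≪≫ PicGrp.tensorModIso (Iso.refl V) hPP.some ≪≫
      (Groth.Inter.tensor_comm V (Coh.structureModule S)).some ≪≫ (Groth.Inter.tensor_one V).some).symm
  obtain ⟨lP, -⟩ := exists_leftUnitor P'
  have hzero : ∀ φ : V' ⟶ Coh.structureModule S, φ = 0 := fun φ => by
    obtain ⟨g, hg⟩ := exists_twist_map hP'i φ
    have h := eq_zero_of_isMuSS k hX hLa hVc hss hP'i hP hpP' hP'2 hrk
      (by rw [hP'1, hc1, hrk]; push_cast; nlinarith [(Nat.cast_nonneg n : (0 : ℚ) ≤ n)])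
      (cV.hom ≫ g ≫ lP.hom)
    refine hg ?_
    rwa [← cancel_epi cV.hom, ← cancel_mono lP.hom, Category.assoc, Limits.comp_zero, Limits.zero_comp]
  obtain ⟨s, hs⟩ := exists_hom_of_euler k hLa hdim ι₀ hι hK hV'c
    (Groth.HilbStab.isHilbPoly_shift k hLa hP n) (by rwa [taylor_eval, zero_add]) hzero
  obtain ⟨g, hg⟩ := exists_twist_map hP'i s
  let σ : P' ⟶ V := lP.inv ≫ g ≫ cV.inv
  haveI : Mono σ := mono_of_ne_zero (isTorsionFree_of_isInvertible hP'i)
    (isRankOne_of_isInvertible hP'i) hVtf σ fun h => hs (hg (by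
      rwa [← cancel_epi lP.inv, ← cancel_mono cV.inv, Category.assoc, Limits.comp_zero, Limits.zero_comp]))
  obtain ⟨F, N, j, b, w, D, E, hD, hE, δ, ιN, τ, hex, hF, hN, hmτ, hτ, hmδ, hδ, hmι, hι0, hiso⟩ :=
    exists_rankTwo_extension k hX hVc hVtf hP'i σ
      (isRankOne_cokernel hP'i hVc (Groth.LocFree.finrank_stalk hV (genericPoint ↥S)) σ)
  haveI := hiso hVr
  haveI := hmτ
  haveI := hmι
  haveI := hF.1
  haveI := hN.1
  haveI : Mono j := hex.mono_f
  have hDc := Groth.EulerDeg.isCoh_of_isInvertible hD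
  have hEc := Groth.EulerDeg.isCoh_of_isInvertible hE
  obtain ⟨pN, hpN⟩ := Groth.HilbStab.exists_isHilbPoly k S hLa hN
  obtain ⟨pD, hpD⟩ := Groth.HilbStab.exists_isHilbPoly k S hLa hDc
  obtain ⟨pE, hpE⟩ := Groth.HilbStab.exists_isHilbPoly k S hLa hEc
  obtain ⟨z, hz⟩ := hgen (PicGrp.cls D hD)
  obtain ⟨a', ha⟩ := hgen (PicGrp.cls E hE)
  obtain ⟨hD2, hD1⟩ := coeff_of_cls_zpow k hLa hX hLi hD hz hPO h1 hpD
  obtain ⟨hE2, hE1⟩ := coeff_of_cls_zpow k hLa hX hLi hE ha hPO h1 hpE
  have hpF := Groth.HilbStab.isHilbPoly_iso k (asIso δ).symm hpD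
  obtain ⟨hN2, hN1⟩ := coeff_eq_of_cofinite k hLa hX hN hEc ιN hι0 hpN hpE
  have hsum : P = pD + pN := Groth.HilbStab.isHilbPoly_add k hLa hex hF hN hpF hP hpN
  haveI : Mono (τ ≫ δ) := mono_comp τ δ
  have hz0 : -(n : ℤ) ≤ z := by
    have h := hatSlope_le_of_mono k hLa hX hDc (τ ≫ δ) hP'c hpP' hpD (hP'2.trans hD2.symm) (hD2 ▸ hO2)
    rw [hatSlope_two, hatSlope_two, hP'1, hP'2, hD1, hD2, div_le_div_iff_of_pos_right (by linarith)] at h
    have : (((-(n : ℤ)) : ℤ) : ℚ) ≤ z := by push_cast at h ⊢; nlinarith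
    exact_mod_cast this
  have hz1 : z ≤ 0 := by
    have h := hss F j inferInstance hF pD P hpF hP (by rw [alpha_two, hD2]; linarith)
      (by rw [alpha_two, alpha_two, hD2, hrk]; linarith)
    rw [hatSlope_two, hatSlope_two, hD1, hD2, hc1, hrk,
      div_le_div_iff₀ (by linarith) (by linarith)] at h
    have h' : (2 * z - 1 : ℚ) ≤ 0 := by nlinarith [mul_pos hO2 hO2]
    have h'' : (2 * z : ℚ) ≤ ((1 : ℤ) : ℚ) := by push_cast; linarith
    have : 2 * z ≤ 1 := by exact_mod_cast h''
    omega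
  obtain ⟨m, rfl⟩ := Int.exists_eq_neg_ofNat hz1
  have ha1 : a' = ((m + 1 : ℕ) : ℤ) := by
    have h := congrArg (fun q => q.coeff 1) hsum
    simp only [coeff_add] at h
    rw [hc1, hrk, hD1, hN1, hE1] at h
    push_cast at h
    have : (a' : ℚ) = (((m + 1 : ℕ) : ℤ) : ℚ) := by push_cast; nlinarith
    exact_mod_cast this
  subst ha1
  have hdcls : PicGrp.cls D hD * PicGrp.cls L hLi ^ m = 1 := by
    rw [hz, zpow_neg, zpow_natCast, inv_mul_cancel]
  obtain ⟨eE⟩ := (PicGrp.cls_eq_cls_iff hE (hPi (m + 1))).1 (by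
    rw [ha, zpow_natCast]
    exact Subtype.ext (PicGrp.cls_pow_val hLi (m + 1)))
  have w' : (inv δ ≫ j) ≫ b = 0 := by rw [Category.assoc, w, Limits.comp_zero]
  have hex' : (ShortComplex.mk (inv δ ≫ j) b w').ShortExact :=
    ShortComplex.shortExact_of_iso (ShortComplex.isoMk (asIso δ) (Iso.refl _) (Iso.refl _)
      (by simp) (by simp) : ShortComplex.mk j b w ≅ ShortComplex.mk (inv δ ≫ j) b w') hex
  refine ⟨m, by omega, D, hD, hdcls, N, ιN ≫ eE.hom, mono_comp ιN eE.hom, hN, ?_,
    inv δ ≫ j, b, w', hex'⟩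
  rw [Groth.QCohMod.support_eq_of_iso (cokernelCompIsIso ιN eE.hom)]
  exact hι0

end Groth.Agent.S15854
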