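import Groth.Statements.S18968
import Groth.Agent.HilbStab.TFPure
import Groth.Agent.HilbStab.Scalar
import Groth.Agent.HilbStab.ELattice
-- import your own Groth.Agent.* helpers here

set_option autoImplicit false
open CategoryTheory CategoryTheory.Limits AlgebraicGeometry Polynomial
universe u
open ShStab

namespace Groth.Agent.S18968

/-- Let k be an algebraically closed field of characteristic zero, X a smooth projective integral
variety of dimension n ≥ 1 over k polarised by an ample invertible sheaf L, and F a locally free or,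
more generally, reflexive coherent O_X-module which is slope-stable with respect to L. Then End(F)
consists of the homotheties: for every endomorphism φ of F there is c ∈ k with φ(s) = c·s for every
local section s of F. Slope stability is tested through the quantity α_(n−1)/α_n of Hilbert
polynomials with respect to L. -/
theorem result (k : Type u) [Field k] [IsAlgClosed k] [CharZero k]
    (X : Scheme.{u}) [X.Over (Spec (CommRingCat.of k))] [IsIntegral X]
    [IsProper (X ↘ Spec (CommRingCat.of k))] [Smooth (X ↘ Spec (CommRingCat.of k))]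
    (n : ℕ) (hn : 1 ≤ n) (hX : topologicalKrullDim X = (n : WithBot ℕ∞))
    (L : X.Modules) (hLi : PicF.IsInvertible L) (hL : CohB1.IsAmple L)
    (F : X.Modules) (hFr : RefHull.IsReflexive F) (hF : ShStab.IsMuStable k X L F n) (φ : F ⟶ F) :
    ∃ c : k, ∀ (V : X.Opens) (s : F.val.obj (Opposite.op V)),
        (φ.val.app (Opposite.op V)) s =
          (X.ringCatSheaf.obj.map (homOfLE (le_top : V ≤ ⊤)).op
            (Coh.toGlobal (X ↘ Spec (CommRingCat.of k)) c : X.ringCatSheaf.obj.obj (Opposite.op ⊤))) • s := by
  obtain ⟨hc, h0, -, -, hst⟩ := hF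
  haveI := Groth.HilbStab.isLocallyNoetherian k (X := X)
  haveI := hc.1
  have hp := Groth.HilbStab.isPure_of_isTorsionFree
    (Groth.HilbStab.isTorsionFree_of_isReflexive hc hFr) hX
  obtain ⟨pF, hpF⟩ := Groth.HilbStab.exists_isHilbPoly k X hL hc
  have hαF := Groth.HilbStab.alpha_pos_of_isPure k hL hp (𝟙 F) hc h0 hpF
  have hiso : ∀ ψ : F ⟶ F, ψ ≠ 0 → IsIso ψ := by
    intro ψ hψ
    haveI : Mono ψ := by
      by_contra hm
      have hI : Coh.IsCoh (Abelian.image ψ) :=
        haveI := Groth.QCohMod.isQCoh_cokernel ψ
        Groth.QCohMod.isCoh_kernel (cokernel.π ψ) hc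
      haveI := hI.1
      let q := Abelian.factorThruImage ψ
      have hK := Groth.QCohMod.isCoh_kernel q hc
      have hK0 : ¬ IsZero (kernel q) := fun h => hm <| by
        haveI : Mono q := Preadditive.mono_of_kernel_zero (h.eq_of_src _ _)
        rw [← Abelian.image.fac ψ]
        exact mono_comp q _
      have hI0 : ¬ IsZero (Abelian.image ψ) := fun h => hψ (by
        rw [← Abelian.image.fac ψ, h.eq_of_src (Abelian.image.ι ψ) 0, Limits.comp_zero])
      obtain ⟨pK, hpK⟩ := Groth.HilbStab.exists_isHilbPoly k X hL hK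
      obtain ⟨pI, hpI⟩ := Groth.HilbStab.exists_isHilbPoly k X hL hI
      have hsum := Groth.HilbStab.isHilbPoly_kernel_add k hL hc q hI hpK hpF hpI
      have hαK := Groth.HilbStab.alpha_pos_of_isPure k hL hp (kernel.ι q) hK hK0 hpK
      have hαI := Groth.HilbStab.alpha_pos_of_isPure k hL hp (Abelian.image.ι ψ) hI hI0 hpI
      have hα : StabCat.alpha n pF = StabCat.alpha n pK + StabCat.alpha n pI := by
        rw [hsum, Groth.HilbStab.alpha_add]
      have e1 := (Groth.HilbStab.pp_ecr_one_iff hn hαK hαF).mpr
        (hst _ (kernel.ι q) inferInstance hK pK pF hpK hpF hαK (by linarith))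
      have e2 := (Groth.HilbStab.pp_ecr_one_iff hn hαI hαF).mpr
        (hst _ (Abelian.image.ι ψ) inferInstance hI pI pF hpI hpF hαI (by linarith))
      rw [hsum, Groth.HilbStab.ecr_left_self] at e1
      rw [hsum, Groth.HilbStab.ecr_add_right, Groth.HilbStab.ecr_self, add_zero,
        Groth.HilbStab.ecr_swap, Groth.HilbStab.pp_neg_iff] at e2
      exact e2 e1.nn
    exact Groth.HilbStab.isIso_of_mono_of_eq k hL hc ψ hc hpF hpF
  obtain ⟨c, hc'⟩ := Groth.HilbStab.exists_eq_scalar k hL hc h0 hiso φ
  refine ⟨c, fun V s => ?_⟩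
  subst hc'
  exact Groth.HilbStab.scalar_app _ F V s

end Groth.Agent.S18968
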