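import Groth.Statements.S10831
import Groth.Agent.SpectralTopology.Dim

set_option autoImplicit false
universe u
open Topology TopologicalSpace
open TopDim

namespace Groth.Agent.S10831
open Groth.SpectralTopology Topology TopologicalSpace

/-- The Krull dimension of a topological space is the supremum of the Krull dimensions of its
irreducible components. -/
theorem result (X : Type u) [TopologicalSpace X] :
    topologicalKrullDim X = ⨆ Y ∈ irreducibleComponents X, topologicalKrullDim ↥Y := by
  refine le_antisymm (topologicalKrullDim_le_iff.2 fun l ↦ ?_)
    (iSup₂_le fun Y _ ↦ topologicalKrullDim_subspace_le X Y)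
  obtain ⟨Y, hY, hsub⟩ :=
    exists_mem_irreducibleComponents_subset_of_isIrreducible _ l.last.isIrreducible
  exact (length_le_of_last_subset_range IsInducing.subtypeVal l (by simpa using hsub)).trans
    (le_iSup₂ (f := fun Y (_ : Y ∈ irreducibleComponents X) ↦ topologicalKrullDim ↥Y) Y hY)

end Groth.Agent.S10831
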