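import Groth.Statements.S19401
import Groth.Agent.Hopf.Luna.ClosedOrbit

set_option autoImplicit false
universe u
open TensorProduct
open GLin

namespace Groth.Agent.S19401

open Groth.ComodLib


/-- Suppose the field k is algebraically closed and has characteristic zero. Take A to be a finitely
generated commutative Hopf algebra over k (an affine algebraic group G), and take S and R to be
finitely generated commutative k-algebras, each equipped with a multiplicative A-coaction (so G acts
on Y = Spec S and on X = Spec R). Assume S → R is a finite algebra map respecting the coactions (a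
G-morphism X → Y). Given a k-point x of X whose image in Y is y, the orbit of x is closed (meaning
its orbit morphism Spec A → Spec R has closed image) exactly when the orbit of y is closed. (This is
the affine version of the source's result about G-morphisms of varieties.) -/
theorem result (k : Type u) [Field k] [IsAlgClosed k] [CharZero k]
    (A : Type u) [CommRing A] [HopfAlgebra k A] [Algebra.FiniteType k A]
    (S : Type u) [CommRing S] [Algebra k S] [Algebra.FiniteType k S] [HopfRep.Comod k A S] [GLin.IsCoactAlg k A S]
    (R : Type u) [CommRing R] [Algebra k R] [Algebra.FiniteType k R] [HopfRep.Comod k A R] [GLin.IsCoactAlg k A R]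
    [Algebra S R] [IsScalarTower k S R] [Module.Finite S R]
    (hequiv : ∀ s : S, HopfRep.Comod.coact (k := k) (A := A) (algebraMap S R s) =
      Algebra.TensorProduct.map (IsScalarTower.toAlgHom k S R) (AlgHom.id k A) (HopfRep.Comod.coact (k := k) (A := A) s))
    (x : R →ₐ[k] k) :
    GLin.IsClosedOrbit k A x ↔ GLin.IsClosedOrbit k A (x.comp (IsScalarTower.toAlgHom k S R)) := by
  classical
  let θ := IsScalarTower.toAlgHom k S R
  have hθ : Hoch.IsComodHom A θ.toLinearMap := Luna.isComodHom_of_equiv θ hequiv
  have : Algebra.IsIntegral S R := Algebra.IsIntegral.of_finite S R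
  refine ⟨fun hx => Luna.isClosedOrbit_comp hθ hx, fun hy => Luna.isClosedOrbit_of_components x fun w hw => ?_⟩
  set P := RingHom.ker (GLin.orbitHom k A x)
  set P' := RingHom.ker (GLin.orbitHom k A w)
  have hPP' : P ≤ P' := GitQuot.ker_orbitHom_mono x w hw
  have hQ : RingHom.ker (GLin.orbitHom k A (w.comp θ)) = RingHom.ker (GLin.orbitHom k A (x.comp θ)) := by
    refine Luna.ker_orbitHom_eq_of_closed hy fun s hs => ?_
    refine RingHom.mem_ker.2 (RingHom.mem_ker.1 (hw ?_))
    exact (Luna.orbitHom_comp hθ x s).symm.trans hs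
  have hcomap : ∀ v : R →ₐ[k] k, (RingHom.ker (GLin.orbitHom k A v)).comap (algebraMap S R) =
      RingHom.ker (GLin.orbitHom k A (v.comp θ)) := fun v => by
    ext s
    rw [Ideal.mem_comap, RingHom.mem_ker, RingHom.mem_ker, Luna.orbitHom_comp hθ]
    rfl
  set Q := RingHom.ker (GLin.orbitHom k A (x.comp θ)) with hQdef
  obtain ⟨Q0, hQ0⟩ : Q.minimalPrimes.Nonempty := by
    refine Set.nonempty_coe_sort.1 (Ideal.nonempty_minimalPrimes fun e => ?_)
    have h := GitQuot.ker_orbitHom_le (A := A) (x.comp θ) ((Ideal.eq_top_iff_one Q).1 e)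
    rw [RingHom.mem_ker, map_one] at h
    exact one_ne_zero h
  obtain ⟨P2, hP2, hP'2, hP20⟩ := Ideal.exists_comap_eq_of_mem_minimalPrimes (algebraMap S R) (I := P') Q0
    (by rw [hcomap w, hQ]; exact hQ0)
  obtain ⟨P3, hP3, hP32⟩ := Ideal.exists_minimalPrimes_le (hPP'.trans hP'2)
  refine ⟨P3, hP3, ?_⟩
  have : P3.IsPrime := hP3.isPrime
  have he : P3 = P2 := by
    refine hP32.antisymm fun r hr => ?_
    by_contra hne
    have h1 := Ideal.comap_lt_comap_of_integral_mem_sdiff (R := S) hP32 ⟨hr, hne⟩ (Algebra.IsIntegral.isIntegral r)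
    refine h1.ne (le_antisymm h1.le ?_)
    rw [hP20]
    exact hQ0.2 ⟨Ideal.IsPrime.comap _, (hcomap x).ge.trans (Ideal.comap_mono hP3.1.2)⟩
      (h1.le.trans hP20.le)
  exact he ▸ hP'2

end Groth.Agent.S19401
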