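import Groth.Statements.S5779
import Groth.Agent.Calg4.RegularFlat
import Mathlib.RingTheory.KrullDimension.Regular
import Mathlib.LinearAlgebra.Dimension.OrzechProperty

set_option autoImplicit false
universe u
open EGA41

namespace Groth.Agent.S5779

open IsLocalRing in
theorem forward (A : Type u) [CommRing A] [IsRegularLocalRing A] (r : ℕ) (x : Fin r → maximalIdeal A)
    (h : LinearIndependent (ResidueField A) (fun i => (maximalIdeal A).toCotangent (x i))) :
    ringKrullDim (A ⧸ Ideal.span (Set.range fun i => (x i : A))) + r = ringKrullDim A ∧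
      IsRegularLocalRing (A ⧸ Ideal.span (Set.range fun i => (x i : A))) := by
  classical
  have hind : ∀ c : Fin r → A, ∑ i, c i * (x i : A) ∈ maximalIdeal A ^ 2 → ∀ i, c i ∈ maximalIdeal A := by
    intro c hc i
    have h2 : ∑ i, residue A (c i) • (maximalIdeal A).toCotangent (x i) = 0 := by
      rw [show ∑ i, residue A (c i) • (maximalIdeal A).toCotangent (x i) = (maximalIdeal A).toCotangent (∑ i, c i • x i) from by
        rw [map_sum]
        refine Finset.sum_congr rfl fun i _ => ?_
        rw [map_smul, ← algebraMap_smul (ResidueField A) (c i)]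
        rfl, Ideal.toCotangent_eq_zero, Submodule.coe_sum]
      exact hc
    exact (residue_eq_zero_iff _).mp (Fintype.linearIndependent_iff.mp h _ h2 i)
  obtain ⟨h1, h2⟩ := Groth.Calg4.isRegularLocalRing_quotient_of_indep r A (fun i => (x i : A)) (fun i => (x i).2) hind
  refine ⟨?_, h1⟩
  have := ringKrullDim_add_length_eq_ringKrullDim_of_isRegular _ h2
  rwa [Groth.Ega4Algebra1.ofList_ofFn, List.length_ofFn] at this

open IsLocalRing in
theorem backward (A : Type u) [CommRing A] [IsLocalRing A] [IsNoetherianRing A] (r : ℕ) (x : Fin r → maximalIdeal A)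
    (h1 : ringKrullDim (A ⧸ Ideal.span (Set.range fun i => (x i : A))) + r = ringKrullDim A)
    [IsRegularLocalRing (A ⧸ Ideal.span (Set.range fun i => (x i : A)))] :
    IsRegularLocalRing A ∧ LinearIndependent (ResidueField A) (fun i => (maximalIdeal A).toCotangent (x i)) := by
  classical
  set J := Ideal.span (Set.range fun i => (x i : A)) with hJ
  set A' := A ⧸ J
  have hJm : J ≤ maximalIdeal A := Ideal.span_le.mpr (by rintro _ ⟨i, rfl⟩; exact (x i).2)
  have hmap : (maximalIdeal A).map (Ideal.Quotient.mk J) = maximalIdeal A' :=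
    IsLocalRing.map_maximalIdeal_of_surjective _ Ideal.Quotient.mk_surjective
  obtain ⟨T, hT, hspan⟩ := Submodule.FG.exists_span_finset_card_eq_spanFinrank (IsNoetherian.noetherian (maximalIdeal A'))
  let s := (maximalIdeal A').spanFinrank
  let eq := (T.equivFinOfCardEq hT).symm
  have hmem : ∀ i, (eq i : A') ∈ (maximalIdeal A).map (Ideal.Quotient.mk J) := fun i => by
    rw [hmap]; exact hspan.le (Submodule.subset_span (eq i).2)
  choose g hg hg' using fun i => (Ideal.mem_map_iff_of_surjective _ Ideal.Quotient.mk_surjective).mp (hmem i)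
  let F : Fin r ⊕ Fin s → maximalIdeal A := Sum.elim x fun i => ⟨g i, hg i⟩
  have hF : maximalIdeal A = Ideal.span (Set.range fun j => (F j : A)) := by
    refine le_antisymm (fun a ha => ?_) (Ideal.span_le.mpr (by rintro _ ⟨j, rfl⟩; exact (F j).2))
    have ha' : Ideal.Quotient.mk J a ∈ Ideal.span (Set.range fun i => Ideal.Quotient.mk J (g i)) := by
      rw [show (fun i => Ideal.Quotient.mk J (g i)) = fun i => (eq i : A') from funext hg']
      have h2 : Ideal.Quotient.mk J a ∈ Submodule.span A' (T : Set A') := by
        rw [hspan, ← hmap]; exact Ideal.mem_map_of_mem _ ha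
      refine Submodule.span_mono (fun z hz => ?_) h2
      exact ⟨eq.symm ⟨z, hz⟩, by simp⟩
    rw [show (fun i => Ideal.Quotient.mk J (g i)) = Ideal.Quotient.mk J ∘ g from rfl, Set.range_comp, ← Ideal.map_span,
      ← Ideal.mem_comap, Ideal.comap_map_of_surjective' _ Ideal.Quotient.mk_surjective, Ideal.mk_ker] at ha'
    have hle' : Ideal.span (Set.range g) ⊔ J ≤ Ideal.span (Set.range fun j => (F j : A)) :=
      sup_le (Ideal.span_mono ?_) (Ideal.span_mono ?_)
    · exact hle' ha'
    · rintro _ ⟨i, rfl⟩; exact ⟨Sum.inr i, rfl⟩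
    · rintro _ ⟨i, rfl⟩; exact ⟨Sum.inl i, rfl⟩
  have hdimA : ringKrullDim A = ((s + r : ℕ) : WithBot ℕ∞) := by
    rw [← h1, ← (isRegularLocalRing_iff A').mp ‹_›, Nat.cast_add]
  have hle : (maximalIdeal A).spanFinrank ≤ s + r := by
    conv_lhs => rw [hF]
    refine (Submodule.spanFinrank_span_le_ncard_of_finite (Set.finite_range _)).trans ?_
    rw [← Set.image_univ]
    refine (Set.ncard_image_le Set.finite_univ).trans ?_
    simp [Set.ncard_univ, add_comm]
  haveI hreg : IsRegularLocalRing A := IsRegularLocalRing.of_spanFinrank_maximalIdeal_le A (by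
    rw [hdimA]; exact Nat.cast_le.mpr hle)
  refine ⟨hreg, ?_⟩
  have hspanC : ⊤ ≤ Submodule.span (ResidueField A) (Set.range fun j => (maximalIdeal A).toCotangent (F j)) := by
    intro v _
    obtain ⟨⟨a, ha⟩, rfl⟩ := (maximalIdeal A).toCotangent_surjective v
    have ha' := ha
    rw [hF] at ha'
    obtain ⟨c, hc⟩ := (Submodule.mem_span_range_iff_exists_fun A).mp ha'
    rw [show (⟨a, ha⟩ : maximalIdeal A) = ∑ j, c j • F j from Subtype.ext (by rw [Submodule.coe_sum]; exact hc.symm),
      map_sum]
    refine sum_mem fun j _ => ?_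
    rw [map_smul, ← algebraMap_smul (ResidueField A) (c j)]
    exact Submodule.smul_mem _ _ (Submodule.subset_span ⟨j, rfl⟩)
  have hcard : Fintype.card (Fin r ⊕ Fin s) = Module.finrank (ResidueField A) (CotangentSpace A) := by
    have h3 := (IsRegularLocalRing.iff_finrank_cotangentSpace A).mp hreg
    rw [hdimA] at h3
    have h4 : Module.finrank (ResidueField A) (CotangentSpace A) = s + r := by exact_mod_cast h3
    rw [h4, Fintype.card_sum, Fintype.card_fin, Fintype.card_fin, add_comm]
  exact (linearIndependent_of_top_le_span_of_card_eq_finrank hspanC hcard).comp Sum.inl Sum.inl_injective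


/-- Let A be a Noetherian local ring with maximal ideal m and residue field k, (x_i)_{1 ≤ i ≤ r}
elements of m and J = x_1 A + ... + x_r A. Then A is regular with the classes of the x_i in m/m²
linearly independent over k (equivalently: the x_i are part of a regular system of parameters) if
and only if the x_i are part of a system of parameters of A (dim(A/J) = dim(A) - r) and A/J is
regular. When these conditions hold, J is a prime ideal. -/
theorem result (A : Type u) [CommRing A] [IsLocalRing A]
    [IsNoetherianRing A] (r : ℕ) (x : Fin r → IsLocalRing.maximalIdeal A) :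
    ((IsRegularLocalRing A ∧
        LinearIndependent (IsLocalRing.ResidueField A)
          (fun i => (IsLocalRing.maximalIdeal A).toCotangent (x i))) ↔
      (ringKrullDim (A ⧸ Ideal.span (Set.range fun i => (x i : A))) + r = ringKrullDim A ∧
        IsRegularLocalRing (A ⧸ Ideal.span (Set.range fun i => (x i : A))))) ∧
    (IsRegularLocalRing (A ⧸ Ideal.span (Set.range fun i => (x i : A))) →
      ringKrullDim (A ⧸ Ideal.span (Set.range fun i => (x i : A))) + r = ringKrullDim A →
        (Ideal.span (Set.range fun i => (x i : A))).IsPrime) := by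
  refine ⟨⟨fun ⟨h1, h2⟩ => ?_, fun ⟨h1, h2⟩ => ?_⟩, fun h _ => ?_⟩
  · haveI := h1
    exact forward A r x h2
  · haveI := h2
    exact backward A r x h1
  · haveI := Groth.Ega4Algebra1.isDomain_of_isRegularLocalRing (A ⧸ Ideal.span (Set.range fun i => (x i : A)))
    exact (Ideal.Quotient.isDomain_iff_prime _).mp inferInstance

end Groth.Agent.S5779
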