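import Groth.Statements.S3765
import Groth.Agent.KTheory.RegKoszulLF
import Groth.Agent.S1676
import Groth.Agent.CohTwo.PushClosed
import Groth.Agent.CohBase.AffinePush

set_option autoImplicit false
universe v u
open CategoryTheory CategoryTheory.Limits AlgebraicGeometry
attribute [local instance] HasDerivedCategory.standard
open KRR

namespace Groth.Agent.S3765

section
open Groth.KTheory Groth.KTheory.RegKoszul Groth.PicAux Groth.CohBase

variable {n : ℕ} {Y : Scheme.{u}} (s : Y ⟶ KRR.PY n Y)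

theorem isRegSheaf_push_section [IsClosedImmersion s] (hs : s ≫ KRR.pr n Y = 𝟙 Y) {E : Y.Modules}
    (hE : FlatMod.IsFinLocFree E) :
    KRR.IsRegSheaf n Y ((Scheme.Modules.pushforward s).obj E) := by
  haveI := LocFree.isQCoh hE
  haveI : ((Scheme.Modules.pushforward s).obj E).IsQuasicoherent := Groth.QCohMod.isQCoh_pushforward E s
  refine RegSheaf.isRegSheaf_of_van (inferInstance : ((Scheme.Modules.pushforward s).obj E).IsQuasicoherent)
    fun i hi V hV => ?_
  let O := Twist.twistOver n Y (-(i : ℤ))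
  have hO := RegSheaf.isFinLocFree_twistOver n Y (-(i : ℤ))
  let N := CohB1.tensorMod ((Scheme.Modules.pullback s).obj O) E
  haveI : N.IsQuasicoherent :=
    LocFree.isQCoh (Groth.LocFree.isFinLocFree_tensorMod (Groth.LocFree.isFinLocFree_pullback s hO) hE)
  refine HV.of_iso ((Groth.ProjFormula.pfIso s O hO).app E).symm ?_
  obtain ⟨e⟩ := (pushAcyclic_of_isAffineHom s N).nonempty_equiv_H' i (KRR.pr n Y ⁻¹ᵁ V)
  refine @Equiv.subsingleton _ _ e.toEquiv ?_
  change HV (s ⁻¹ᵁ (KRR.pr n Y ⁻¹ᵁ V)) N i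
  rw [← Scheme.Hom.comp_preimage, hs]
  obtain ⟨j, rfl⟩ : ∃ j, i = j + 1 := ⟨i - 1, by omega⟩
  exact hVanish_of_isAffineOpen N hV j

noncomputable def pushSectionIso (hs : s ≫ KRR.pr n Y = 𝟙 Y) (E : Y.Modules) :
    (Scheme.Modules.pushforward (KRR.pr n Y)).obj ((Scheme.Modules.pushforward s).obj E) ≅ E :=
  (Scheme.Modules.pushforwardComp s (KRR.pr n Y)).app E ≪≫
    (Scheme.Modules.pushforwardCongr hs).app E ≪≫ (Scheme.Modules.pushforwardId Y).app E

end

/-- For the trivial bundle P = P^n_Y: let Y be a connected Noetherian scheme, p : P ⟶ Y the projection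
and s : Y ⟶ P a section of p (s ≫ p = 𝟙); assume every coherent module on P is a quotient of a
finite locally free one. Then s is a regular closed imbedding (of codimension n), and with models of
K(Y), K(P), the push-forward s_K (via finite locally free resolutions of s_*F) and p_K (via regular
sheaves) satisfy p_K ∘ s_K = id. -/
theorem result (n : ℕ) (Y : Scheme.{u}) [IsNoetherian Y] [ConnectedSpace ↥Y]
    (hPe : KRR.HasEnoughLocFree (KRR.PY n Y)) (s : Y ⟶ KRR.PY n Y) (hs : s ≫ KRR.pr n Y = 𝟙 Y)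
    (KP : Type v) [CommRing KP] [LambdaRing.LambdaOps KP] (PP : LambdaRing.PosStructure KP) (φP : SGA6.Kvb (KRR.PY n Y) →+ KP) (hKP : KRR.IsModel (KRR.PY n Y) KP PP φP)
    (KY : Type v) [CommRing KY] [LambdaRing.LambdaOps KY] (PY : LambdaRing.PosStructure KY) (φY : SGA6.Kvb Y →+ KY) (hKY : KRR.IsModel Y KY PY φY)
    (gs : KY →+ KP) (hgs : KRR.IsPushCl s φY φP gs) (gp : KP →+ KY) (hgp : KRR.IsPushPr n Y φP φY gp) :
    Mor2.IsRegularClosedImmersion s ∧ gp.comp gs = AddMonoidHom.id KY := by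
  obtain ⟨_, hflat, _⟩ := Groth.KTheory.RegKoszul.pr_facts n Y
  haveI : Smooth (KRR.pr n Y) := Groth.Misc13.ProjFactor.smooth_projSpaceOver_toBase n Y
  haveI hpp : IsProper (KRR.pr n Y) := Groth.Variety2.isProper_projSpaceOver_toBase n Y
  haveI : IsClosedImmersion (s ≫ KRR.pr n Y) := hs ▸ inferInstance
  haveI : IsClosedImmersion s := IsClosedImmersion.of_comp s (KRR.pr n Y)
  refine ⟨Groth.Agent.S1676.result (KRR.pr n Y) s hs, ?_⟩
  ext y
  obtain ⟨z, rfl⟩ := hKY.bijective.2 y
  induction z using Groth.KTheory.k0sub_induction with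
  | h0 => simp
  | hadd a b ha hb => simp only [map_add, ha, hb]
  | hneg a ha => simp only [map_neg, ha]
  | hcl E hE =>
    haveI := Groth.KTheory.LocFree.isQCoh hE
    let M := (Scheme.Modules.pushforward s).obj E
    haveI : IsLocallyNoetherian (KRR.PY n Y) := Groth.KTheory.RegKoszul.isLocallyNoetherian_PY n Y
    have hM : Coh.IsCoh M := Groth.CohTwo.isCoh_push s (Groth.KTheory.LocFree.isCoh hE)
    have hfl : FlatMod.IsFlatOver (KRR.pr n Y) M := by
      refine (Groth.Flatmor4.isFlatOver_push_iff E s (KRR.pr n Y)).1 ?_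
      rw [hs]
      exact Groth.CohBase.isFlatOver_of_isFinLocFree _ hE
    have hreg : KRR.IsRegSheaf n Y M := isRegSheaf_push_section s hs hE
    obtain ⟨L, π, hres, hL⟩ := Groth.KTheory.RegKoszul.exists_lfRes hM hfl hreg
    rw [AddMonoidHom.comp_apply, AddMonoidHom.id_apply, hgs E hE n L π hres,
      Groth.KTheory.RegKoszul.g_lfRes φP φY hKY.bijective gp hgp hM hfl hreg hL]
    exact congrArg φY (Groth.KTheory.LambdaVb.kcl_iso (pushSectionIso s hs E).symm hE).symm

end Groth.Agent.S3765
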