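import Groth.Statements.S15827
import Groth.Agent.LocFree.ExtPow
import Groth.Agent.LocFree.AffineHom
import Groth.Agent.Ega2Proj.TensorGen
import Groth.Agent.QCohMod.Tensor
import Groth.Agent.LocCohBase.HomExtend
import Groth.Agent.PicAux.TensorLift


set_option autoImplicit false
universe u
open CategoryTheory AlgebraicGeometry
open ExtPow

namespace Groth.Agent.S15827

namespace ExtTwist

open Opposite TopologicalSpace
open Groth.PicAux
open Groth.LocFree (extPow wedge ESec extUnit extUnit_bijective res_wedge esec_induction ewedge)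

variable {X : Scheme.{u}}

theorem exists_hom_of_small {L M : X.Modules} (P : X.Opens → Prop)
    (hP : ∀ U V : X.Opens, V ≤ U → P U → P V) (hcovP : ∀ x : X, ∃ U, P U ∧ x ∈ U)
    (f : ∀ U : X.Opens, IsAffineOpen U → P U → (Γ(L, U) →ₗ[Γ(X, U)] Γ(M, U)))
    (hf : ∀ U V (hU : IsAffineOpen U) (hV : IsAffineOpen V) (pU : P U) (pV : P V) (h : V ≤ U) x,
      res M h (f U hU pU x) = f V hV pV (res L h x)) :
    ∃ φ : L ⟶ M, ∀ U (hU : IsAffineOpen U) (pU : P U) x, φ.app U x = f U hU pU x := by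
  have hsmall : ∀ (V : X.Opens) (z : X), z ∈ V → ∃ W : X.Opens, IsAffineOpen W ∧ P W ∧ z ∈ W ∧ W ≤ V := by
    intro V z hz
    obtain ⟨U, hU, hzU⟩ := hcovP z
    obtain ⟨_, ⟨W, hW, rfl⟩, hzW, hWV⟩ :=
      X.isBasis_affineOpens.exists_subset_of_mem_open (show z ∈ V ⊓ U from ⟨hz, hzU⟩) (V ⊓ U).2
    exact ⟨W, hW, hP U W (le_trans hWV inf_le_right) hU, hzW, le_trans hWV inf_le_left⟩
  have key : ∀ (V : X.Opens) (x : Γ(L, V)), ∃! y : Γ(M, V),
      ∀ W : {W : X.Opens // IsAffineOpen W ∧ P W ∧ W ≤ V},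
      res M W.2.2.2 y = f W.1 W.2.1 W.2.2.1 (res L W.2.2.2 x) := by
    intro V x
    have hcov : V ≤ ⨆ W : {W : X.Opens // IsAffineOpen W ∧ P W ∧ W ≤ V}, W.1 := fun z hz => by
      obtain ⟨W, hW, hPW, hzW, hWV⟩ := hsmall V z hz
      exact Opens.mem_iSup.2 ⟨⟨W, hW, hPW, hWV⟩, hzW⟩
    refine res_glue (fun W : {W : X.Opens // IsAffineOpen W ∧ P W ∧ W ≤ V} => W.1) (fun W => W.2.2.2) hcov _
      fun a b => ?_
    have hcov' : a.1 ⊓ b.1 ≤ ⨆ T : {T : X.Opens // IsAffineOpen T ∧ P T ∧ T ≤ a.1 ⊓ b.1}, T.1 :=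
      fun z hz => by
        obtain ⟨T, hT, hPT, hzT, hTV⟩ := hsmall _ z hz
        exact Opens.mem_iSup.2 ⟨⟨T, hT, hPT, hTV⟩, hzT⟩
    refine res_ext (fun T : {T : X.Opens // IsAffineOpen T ∧ P T ∧ T ≤ a.1 ⊓ b.1} => T.1)
      (fun T => T.2.2.2) hcov' fun T => ?_
    rw [res_res, res_res, hf _ _ a.2.1 T.2.1 a.2.2.1 T.2.2.1 (T.2.2.2.trans inf_le_left),
      hf _ _ b.2.1 T.2.1 b.2.2.1 T.2.2.1 (T.2.2.2.trans inf_le_right), res_res, res_res]
  choose y hy huniq using key
  obtain ⟨φ, hφ⟩ := exists_hom_of_cover (U := fun _ : PUnit.{u + 1} => (⊤ : X.Opens)) (L := L)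
    (M := M) (by simp) (fun _ V _ x => y V x)
    (fun _ V _ a b => (huniq V _ _ fun W => by
      rw [res_add, res_add, map_add, hy V a W, hy V b W]).symm)
    (fun _ V _ r a => (huniq V _ _ fun W => by
      rw [res_smul, res_smul, map_smul, hy V a W]).symm)
    (fun _ V W _ h a => huniq W _ _ fun T => by
      rw [res_res, res_res]
      exact hy V a ⟨T.1, T.2.1, T.2.2.1, T.2.2.2.trans h⟩)
    (fun _ _ _ _ _ _ => rfl)
  refine ⟨φ, fun V hV pV x => ?_⟩
  rw [hφ ⟨⟩ V le_top x]
  have := hy V x ⟨V, hV, pV, le_rfl⟩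
  rwa [res_self, res_self] at this

variable (E L : X.Modules) (k : ℕ)

/-- `e ↦ e ⊗ s`. -/
noncomputable def mulGen {U : X.Opens} (s : Γ(L, U)) :
    Γ(E, U) →ₗ[Γ(X, U)] Γ(CohB1.tensorMod E L, U) :=
  (tmulLin U).flip s

variable [E.IsQuasicoherent]

theorem mulGen_bijective {U : X.Opens} {s : Γ(L, U)} (hs : Gen L U s) :
    Function.Bijective (mulGen E L s) := by
  have h := Groth.Ega2Proj.tmulSec_bijective (M := E) le_rfl hs
  simp only [res_self] at h
  exact h

theorem exists_twist {U : X.Opens} (hU : IsAffineOpen U) {s : Γ(L, U)} (hs : Gen L U s)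
    [(CohB1.tensorMod E L).IsQuasicoherent] :
    ∃ θ : Γ(CohB1.tensorMod (extPow k E) (CohB1.tensorPow L k), U) →ₗ[Γ(X, U)]
        Γ(extPow k (CohB1.tensorMod E L), U),
      Function.Bijective θ ∧
      (∀ z, ∃ w : ESec k E U, z = tmulSec (extUnit k E U w) (powSec s k)) ∧
      ∀ (a : Γ(X, U)) (e : Fin k → Γ(E, U)), θ (tmulSec (wedge k E e) (powSec (a • s) k)) =
        wedge k (CohB1.tensorMod E L) fun j => tmulSec (e j) (a • s) := by
  let B := LinearEquiv.ofBijective (extUnit k E U) (extUnit_bijective k E hU)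
  let B' := LinearEquiv.ofBijective (extUnit k (CohB1.tensorMod E L) U)
    (extUnit_bijective k (CohB1.tensorMod E L) hU)
  let m := LinearEquiv.ofBijective (mulGen E L s) (mulGen_bijective E L hs)
  let T := LinearEquiv.ofBijective (mulGen (extPow k E) (CohB1.tensorPow L k) (powSec s k))
    (by
      have h := Groth.Ega2Proj.tmulSec_bijective (M := extPow k E) le_rfl (hs.pow k)
      simp only [res_self] at h
      exact h)
  let θ := B'.toLinearMap ∘ₗ exteriorPower.map k m.toLinearMap ∘ₗ B.symm.toLinearMap ∘ₗ T.symm.toLinearMap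
  refine ⟨θ, ?_, fun z => ⟨B.symm (T.symm z), ?_⟩, fun a e => ?_⟩
  · have hm : Function.Bijective (exteriorPower.map k m.toLinearMap) := by
      refine ⟨exteriorPower.map_injective m.symm.toLinearMap (by ext; simp),
        exteriorPower.map_surjective m.surjective⟩
    exact B'.bijective.comp (hm.comp (B.symm.bijective.comp T.symm.bijective))
  · show z = tmulSec (B (B.symm (T.symm z))) (powSec s k)
    rw [LinearEquiv.apply_symm_apply]
    exact (T.apply_symm_apply z).symm
  · have h1 : tmulSec (wedge k E e) (powSec (a • s) k) =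
        a ^ k • T (B (exteriorPower.ιMulti Γ(X, U) k e)) := by
      rw [powSec_smul, tmulSec_smul_right]
      rfl
    rw [h1, map_smul]
    show a ^ k • θ (T (B (exteriorPower.ιMulti Γ(X, U) k e))) = _
    simp only [θ, LinearMap.coe_comp, LinearEquiv.coe_coe, Function.comp_apply,
      LinearEquiv.symm_apply_apply, exteriorPower.map_apply_ιMulti]
    rw [← map_smul]
    have h2 : exteriorPower.ιMulti Γ(X, U) k (fun j => tmulSec (e j) (a • s)) =
        a ^ k • exteriorPower.ιMulti Γ(X, U) k (fun j => mulGen E L s (e j)) := by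
      have := (exteriorPower.ιMulti Γ(X, U) k (M := Γ(CohB1.tensorMod E L, U))).toMultilinearMap.map_smul_univ
        (fun _ : Fin k => a) (fun j => mulGen E L s (e j))
      simp only [Finset.prod_const, Finset.card_fin] at this
      refine Eq.trans ?_ this
      refine congrArg _ (funext fun j => ?_)
      exact tmulSec_smul_right a (e j) s
    exact (congrArg B' h2).symm

end ExtTwist


/-- Let X be a scheme, E a finite locally free O_X-module and L a finite locally free O_X-module of rank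
1 (an invertible module), and k a natural number. If M is a k-th exterior power of E ⊗ L and N is a
k-th exterior power of E (affine-local characterisation of exterior powers), then M is isomorphic to
N ⊗ L^{⊗k} as an O_X-module (existence of an isomorphism; the published isomorphism is induced by
(e_1 ⊗ l_1) ∧ ⋯ ∧ (e_k ⊗ l_k) ↦ (e_1 ∧ ⋯ ∧ e_k) ⊗ l_1 ⋯ l_k). -/
theorem result {X : Scheme.{u}} (E L : X.Modules)
    (hE : FlatMod.IsFinLocFree E) (hL : FlatMod.IsFinLocFreeOfRank 1 L) (k : ℕ) (M N : X.Modules)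
    (hM : ExtPow.IsExtPow k (CohB1.tensorMod E L) M) (hN : ExtPow.IsExtPow k E N) :
    Nonempty (M ≅ CohB1.tensorMod N (CohB1.tensorPow L k)) := by
  have hLi : PicF.IsInvertible L := Groth.LocFree.isInvertible_iff_ofRank_one.2 hL
  haveI : E.IsQuasicoherent := Groth.LocCohBase.HomExtend.isQCoh_of_isFinLocFree hE
  haveI : L.IsQuasicoherent := Groth.LocCohBase.HomExtend.isQCoh_of_isFinLocFree
    (Groth.LocFree.isFinLocFree_of_rank hL)
  haveI : (CohB1.tensorMod E L).IsQuasicoherent := Groth.QCohMod.isQCoh_tensorMod (M := E) (N := L)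
  obtain ⟨εM⟩ := Groth.LocFree.nonempty_iso_extPow hM
  obtain ⟨εN⟩ := Groth.LocFree.nonempty_iso_extPow hN
  let P : X.Opens → Prop := fun U => ∃ s : Γ(L, U), Groth.PicAux.Gen L U s
  choose s hs using fun U (h : P U) => h
  choose θ hbij hgen hθ using fun U (hU : IsAffineOpen U) (h : P U) =>
    ExtTwist.exists_twist E L k hU (hs U h)
  obtain ⟨φ, hφ⟩ := ExtTwist.exists_hom_of_small P
    (fun U V h ⟨t, ht⟩ => ⟨_, ht.res h⟩)
    (fun x => by
      obtain ⟨U, t, hx, ht⟩ := (Groth.PicAux.isInvertible_iff_exists_gen L).1 hLi x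
      exact ⟨U, ⟨t, ht⟩, hx⟩)
    θ (fun U V hU hV pU pV h z => by
      obtain ⟨w, rfl⟩ := hgen U hU pU z
      obtain ⟨a, ha⟩ := (hs V pV).exists_coeff le_rfl (Groth.PicAux.res L h (s U pU))
      rw [Groth.PicAux.res_self] at ha
      induction w using Groth.LocFree.esec_induction with
      | wedge e =>
        show Groth.PicAux.res _ h (θ U hU pU (Groth.PicAux.tmulSec (Groth.LocFree.wedge k E e) _)) =
          θ V hV pV (Groth.PicAux.res _ h (Groth.PicAux.tmulSec (Groth.LocFree.wedge k E e) _))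
        have h1 := hθ U hU pU 1 e
        simp only [one_smul] at h1
        rw [h1, Groth.LocFree.res_wedge, Groth.PicAux.res_tmulSec, Groth.LocFree.res_wedge,
          Groth.PicAux.res_powSec, ha, hθ V hV pV a]
        simp only [Groth.PicAux.res_tmulSec, ha]
      | zero => simp only [map_zero, Groth.PicAux.tmulSec_zero_left, Groth.PicAux.res_zero]
      | add x y hx hy =>
        simp only [map_add, Groth.PicAux.tmulSec_add_left, Groth.PicAux.res_add, hx, hy]
      | smul r x hx =>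
        simp only [map_smul, Groth.PicAux.tmulSec_smul_left, Groth.PicAux.res_smul, hx])
  have : IsIso φ := Groth.LocFree.isIso_of_small_affine φ fun x W hx => by
    obtain ⟨U, t, hxU, ht⟩ := (Groth.PicAux.isInvertible_iff_exists_gen L).1 hLi x
    obtain ⟨_, ⟨V, hV, rfl⟩, hxV, hVW⟩ :=
      X.isBasis_affineOpens.exists_subset_of_mem_open (show x ∈ W ⊓ U from ⟨hx, hxU⟩) (W ⊓ U).2
    refine ⟨V, hV, hxV, le_trans hVW inf_le_left, ?_⟩
    have pV : P V := ⟨_, ht.res (le_trans hVW inf_le_right)⟩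
    rw [show ⇑(φ.app V) = ⇑(θ V hV pV) from funext fun z => hφ V hV pV z]
    exact hbij V hV pV
  have : IsIso (KoszTw.tensorMap εN.hom (𝟙 (CohB1.tensorPow L k))) := by
    refine ⟨⟨KoszTw.tensorMap εN.inv (𝟙 (CohB1.tensorPow L k)), ?_, ?_⟩⟩ <;>
      refine Groth.PicAux.tensor_hom_ext fun W a b => ?_
    · show (KoszTw.tensorMap εN.inv (𝟙 (CohB1.tensorPow L k))).app W
        ((KoszTw.tensorMap εN.hom (𝟙 (CohB1.tensorPow L k))).app W (Groth.PicAux.tmulSec a b)) = _
      rw [Groth.PicAux.tensorMap_app_tmulSec, Groth.PicAux.tensorMap_app_tmulSec]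
      exact congrArg₂ Groth.PicAux.tmulSec congr(($(εN.hom_inv_id)).app W a) rfl
    · show (KoszTw.tensorMap εN.hom (𝟙 (CohB1.tensorPow L k))).app W
        ((KoszTw.tensorMap εN.inv (𝟙 (CohB1.tensorPow L k))).app W (Groth.PicAux.tmulSec a b)) = _
      rw [Groth.PicAux.tensorMap_app_tmulSec, Groth.PicAux.tensorMap_app_tmulSec]
      exact congrArg₂ Groth.PicAux.tmulSec congr(($(εN.inv_hom_id)).app W a) rfl
  exact ⟨εM.symm ≪≫ (asIso φ).symm ≪≫ asIso (KoszTw.tensorMap εN.hom (𝟙 (CohB1.tensorPow L k)))⟩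


end Groth.Agent.S15827
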