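import Groth.Statements.S3762
import Groth.Agent.KTheory.RegKoszulPush
import Groth.Agent.ProjFormula.Derived

set_option autoImplicit false
universe v u
open CategoryTheory CategoryTheory.Limits AlgebraicGeometry
attribute [local instance] HasDerivedCategory.standard
open KRR

namespace Groth.Agent.S3762

section
open Groth.KTheory Groth.KTheory.RegKoszul Groth.PicAux Groth.CohBase

variable {n : ℕ} {Y : Scheme.{u}}

theorem isRegSheaf_tensor_pullback {F : (KRR.PY n Y).Modules} (hF : Coh.IsQCoh F) (hreg : KRR.IsRegSheaf n Y F)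
    {E : Y.Modules} (hE : FlatMod.IsFinLocFree E) :
    KRR.IsRegSheaf n Y (CohB1.tensorMod ((Scheme.Modules.pullback (KRR.pr n Y)).obj E) F) := by
  intro i hi
  let P := (Scheme.Modules.pullback (KRR.pr n Y)).obj E
  let O := Twist.twistOver n Y (-(i : ℤ))
  let M := KRR.twF n Y (-(i : ℤ)) F
  obtain ⟨a⟩ := nonempty_toAb_Rpush_iso (KRR.pr n Y) i (M := M)
  obtain ⟨b⟩ := nonempty_toAb_Rpush_iso (KRR.pr n Y) i (M := CohB1.tensorMod P M)
  obtain ⟨c⟩ := Groth.ProjFormula.nonempty_projectionFormula (KRR.pr n Y) M E hE i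
  have h0 : IsZero ((Coh.Rpush (KRR.pr n Y) i).obj M) := by
    rw [IsZero.iff_id_eq_zero]
    haveI : (toAbF Y).Faithful := inferInstanceAs (SheafOfModules.toSheaf.{u} Y.ringCatSheaf).Faithful
    exact (toAbF Y).map_injective (((hreg i hi).of_iso a).eq_of_src _ _)
  have := Groth.ProjFormula.additive_tF E
  have h1 : IsZero ((Coh.Rpush (KRR.pr n Y) i).obj (CohB1.tensorMod P M)) :=
    IsZero.of_iso ((Groth.CohTwo.SheafHomIso.tF E).map_isZero h0) c.symm
  let e : KRR.twF n Y (-(i : ℤ)) (CohB1.tensorMod P F) ≅ CohB1.tensorMod P M :=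
    (exists_associator O P F).choose.symm ≪≫
      PicGrp.tensorModIso (exists_braiding O P).choose (Iso.refl F) ≪≫ (exists_associator P O F).choose
  exact IsZero.of_iso (((toAbF Y).map_isZero h1).of_iso b.symm)
    ((Coh.RpushAb (KRR.pr n Y) i).mapIso ((toAbF (KRR.PY n Y)).mapIso e))

theorem push_tensor_pullback (F : (KRR.PY n Y).Modules) {E : Y.Modules} (hE : FlatMod.IsFinLocFree E) :
    Nonempty (CohB1.tensorMod E ((Scheme.Modules.pushforward (KRR.pr n Y)).obj F) ≅
      (Scheme.Modules.pushforward (KRR.pr n Y)).obj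
        (CohB1.tensorMod ((Scheme.Modules.pullback (KRR.pr n Y)).obj E) F)) :=
  ⟨(Groth.ProjFormula.pfIso (KRR.pr n Y) E hE).app F⟩

end

/-- Let Y be a connected Noetherian scheme, p : P = P^n_Y ⟶ Y, with models of K(P), K(Y), g = p_K the
push-forward and q = p^K the pull-back. Then p_K (x · p^K y) = p_K (x) · y for all x ∈ K(P), y ∈
K(Y). -/
theorem result (n : ℕ) (Y : Scheme.{u}) [IsNoetherian Y] [ConnectedSpace ↥Y]
    (KP : Type v) [CommRing KP] [LambdaRing.LambdaOps KP] (PP : LambdaRing.PosStructure KP) (φP : SGA6.Kvb (KRR.PY n Y) →+ KP) (hKP : KRR.IsModel (KRR.PY n Y) KP PP φP)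
    (KY : Type v) [CommRing KY] [LambdaRing.LambdaOps KY] (PY : LambdaRing.PosStructure KY) (φY : SGA6.Kvb Y →+ KY) (hKY : KRR.IsModel Y KY PY φY)
    (g : KP →+ KY) (hg : KRR.IsPushPr n Y φP φY g) (q : KY →+ KP) (hq : KRR.IsPull (KRR.pr n Y) φY φP q) (x : KP) (y : KY) :
    g (x * q y) = g x * y := by
  obtain ⟨z, rfl⟩ := hKP.bijective.2 x
  obtain ⟨y₀, rfl⟩ := hKY.bijective.2 y
  obtain ⟨z₀, rfl⟩ := (Groth.KTheory.RegKoszul.bijective_mapSub_regP (n := n) (T := Y) (fun _ h => h.1)).2 z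
  induction z₀ using Groth.KTheory.k0sub_induction with
  | h0 => simp
  | hadd a b ha hb => simp only [map_add, add_mul, ha, hb]
  | hneg a ha => simp only [map_neg, neg_mul, ha]
  | hcl F hF =>
    have eF : SGA6.mapSub (𝟭 (KRR.PY n Y).Modules) (Groth.KTheory.RegKoszul.RegP n Y)
        (KRR.vbP (KRR.PY n Y)) (fun _ h => h.1) (KZero.clSub (Groth.KTheory.RegKoszul.RegP n Y) F) =
        KRR.cl (KRR.PY n Y) F := by
      rw [Groth.KTheory.clSub_of hF, KRR.cl, Groth.KTheory.clSub_of hF.1]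
      rfl
    rw [eF]
    induction y₀ using Groth.KTheory.k0sub_induction with
    | h0 => simp
    | hadd a b ha hb => simp only [map_add, mul_add, ha, hb]
    | hneg a ha => simp only [map_neg, mul_neg, ha]
    | hcl E hE =>
      have hP := Groth.LocFree.isFinLocFree_pullback (KRR.pr n Y) hE
      have hfl := Groth.LocFree.isFinLocFree_tensorMod hP hF.1
      rw [hq E hE, hg F hF.1 hF.2, mul_comm]
      refine (congrArg g (hKP.map_mul _ _ hP hF.1)).trans ?_
      refine (hg _ hfl (isRegSheaf_tensor_pullback (Groth.KTheory.LocFree.isQCoh hF.1) hF.2 hE)).trans ?_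
      have hpf : FlatMod.IsFinLocFree ((Scheme.Modules.pushforward (KRR.pr n Y)).obj F) := by
        obtain ⟨_, _, _⟩ := Groth.KTheory.RegKoszul.pr_facts n Y
        haveI := Groth.KTheory.LocFree.isQCoh hF.1
        exact Groth.Limits.BC0.isFinLocFree_of_good fun s => Groth.KTheory.RegKoszul.goodAt_of_regular hF.1 hF.2 s
      rw [mul_comm, hKY.map_mul _ _ hE hpf]
      exact congrArg φY (Groth.KTheory.LambdaVb.kcl_iso (push_tensor_pullback F hE).some
        (Groth.LocFree.isFinLocFree_tensorMod hE hpf)).symm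

end Groth.Agent.S3762
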