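import Groth.Statements.S4495
import Groth.Agent.HensPair.IdemClopenLRS
-- import your own Groth.Agent.* helpers here

set_option autoImplicit false
universe u
open FlatCx

namespace Groth.Agent.S4495

open CategoryTheory AlgebraicGeometry Opposite in
/-- A locally ringed space Z is connected, in the sense that it is not the disjoint union of two
nonempty open subsets (the empty space being allowed), if and only if every idempotent of the ring
of global sections Γ(Z, O_Z) is 0 or 1 (equivalently, Γ(Z, O_Z) is not isomorphic to a product of
two nonzero rings). -/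
theorem result (Z : LocallyRingedSpace.{u}) :
    PreconnectedSpace Z ↔
      ∀ e : Z.presheaf.obj (op ⊤), IsIdempotentElem e → e = 0 ∨ e = 1 := by
  rw [preconnectedSpace_iff_clopen]
  constructor
  · intro h e he
    rcases h _ (Groth.HensPair.LRS.isClopen_basicOpen he) with h0 | h1
    · left
      refine Groth.HensPair.LRS.eq_of_basicOpen_eq he IsIdempotentElem.zero ?_
      rw [h0]
      refine (Set.eq_empty_iff_forall_notMem.2 fun x hx => ?_).symm
      have := (Groth.HensPair.LRS.mem_bo (0 : Z.presheaf.obj (op ⊤)) x trivial).1 hx
      rw [map_zero] at this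
      exact not_isUnit_zero this
    · right
      refine Groth.HensPair.LRS.eq_of_basicOpen_eq he IsIdempotentElem.one ?_
      rw [h1]
      refine (Set.eq_univ_of_forall fun x => (Groth.HensPair.LRS.mem_bo (1 : Z.presheaf.obj (op ⊤)) x trivial).2 ?_).symm
      rw [map_one]
      exact isUnit_one
  · intro h U hU
    obtain ⟨a, ha, rfl⟩ := Groth.HensPair.LRS.exists_idem_of_isClopen hU
    rcases h a ha with rfl | rfl
    · left
      refine Set.eq_empty_iff_forall_notMem.2 fun x hx => ?_
      have := (Groth.HensPair.LRS.mem_bo (0 : Z.presheaf.obj (op ⊤)) x trivial).1 hx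
      rw [map_zero] at this
      exact not_isUnit_zero this
    · right
      refine Set.eq_univ_of_forall fun x => (Groth.HensPair.LRS.mem_bo (1 : Z.presheaf.obj (op ⊤)) x trivial).2 ?_
      rw [map_one]
      exact isUnit_one

end Groth.Agent.S4495
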