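import Groth.Statements.S6532
import Groth.Agent.FrobLCI.TorObs.Core
import Groth.Agent.FrobLCI.CE.Main
import Groth.Agent.HTopHyper.HTor.Balance
import Mathlib.RingTheory.Polynomial.Basic
import Mathlib.LinearAlgebra.TensorProduct.Quotient

set_option autoImplicit false
universe u
open LCI

namespace Groth.Agent.S6532

open MvPolynomial TensorProduct Groth.FrobLCI.CE

theorem exists_gen {P : Type u} [CommRing P] [IsNoetherianRing P] (F : P) {a c : ℕ}
    (L : (Fin a → P) →ₗ[P] (Fin c → P)) : ∃ (a' : ℕ) (L' : (Fin a' → P) →ₗ[P] (Fin a → P)),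
      ∀ v, v ∈ LinearMap.range L' ↔ ∃ u, L v = F • u := by
  let K : Submodule P (Fin a → P) := (LinearMap.range (LinearMap.lsmul P (Fin c → P) F)).comap L
  obtain ⟨k, s, hs⟩ := Submodule.fg_iff_exists_fin_generating_family.1 (IsNoetherian.noetherian K)
  refine ⟨k, Fintype.linearCombination P s, fun v => ?_⟩
  rw [Fintype.range_linearCombination, hs]
  exact ⟨fun ⟨u, hu⟩ => ⟨u, hu.symm⟩, fun ⟨u, hu⟩ => ⟨u, hu.symm⟩⟩

theorem exists_resolution {P : Type u} [CommRing P] [IsNoetherianRing P] (F : P) {m : ℕ}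
    (L : (Fin m → P) →ₗ[P] (Fin 1 → P)) : ∃ (b : ℕ → ℕ) (G : ∀ i, (Fin (b (i + 1)) → P) →ₗ[P] (Fin (b i) → P))
      (h0 : b 0 = 1), (∀ t : P, (∃ z, (fun _ => t) = G 0 z) ↔ ∃ z, (fun _ => t) = L z) ∧
        ∀ i v, v ∈ LinearMap.range (G (i + 1)) ↔ ∃ u, G i v = F • u := by
  classical
  let St : ℕ → Σ (a : ℕ) (c : ℕ), (Fin a → P) →ₗ[P] (Fin c → P) := fun i => Nat.rec ⟨m, 1, L⟩
    (fun _ S => ⟨(exists_gen F S.2.2).choose, S.1, (exists_gen F S.2.2).choose_spec.choose⟩) i
  exact ⟨fun i => (St i).2.1, fun i => (St i).2.2, rfl, fun t => Iff.rfl,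
    fun i => (exists_gen F (St i).2.2).choose_spec.choose_spec⟩

/-- A submodule of a flat module with flat-enough quotient meets `I` times the module in `I` times itself. -/
theorem mem_smul_of_tor {R : Type u} [CommRing R] (I : Ideal R) {M₁ B M : Type u} [AddCommGroup M₁] [Module R M₁]
    [AddCommGroup B] [Module R B] [Module.Flat R B] [AddCommGroup M] [Module R M] (v : M₁ →ₗ[R] B) (ρ : B →ₗ[R] M)
    (hv : Function.Injective v) (hρ : Function.Surjective ρ) (hvρ : Function.Exact v ρ)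
    (h : Subsingleton (DRing.Tor R 1 M (R ⧸ I))) {z : M₁} (hz : v z ∈ I • (⊤ : Submodule R B)) :
    z ∈ I • (⊤ : Submodule R M₁) := by
  obtain ⟨e₁⟩ := Groth.HTorLib.tor_one_equiv (H := M) (ι := I.subtype) (π := I.mkQ) (Submodule.subtype_injective I)
    (Submodule.mkQ_surjective I) (LinearMap.exact_subtype_mkQ I)
  obtain ⟨e₂⟩ := Groth.HTorLib.snake (M := M) (N := R ⧸ I) hv hρ hvρ (Submodule.subtype_injective I)
    (Submodule.mkQ_surjective I) (LinearMap.exact_subtype_mkQ I)
  have : Subsingleton (LinearMap.ker (v.rTensor (R ⧸ I))) := (e₁.trans e₂).symm.injective.subsingleton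
  have hinj : Function.Injective (v.rTensor (R ⧸ I)) :=
    LinearMap.ker_eq_bot.1 (Submodule.subsingleton_iff_eq_bot.1 this)
  have h1 : v.rTensor (R ⧸ I) (z ⊗ₜ[R] (1 : R ⧸ I)) = 0 := by
    rw [LinearMap.rTensor_tmul]
    apply (TensorProduct.tensorQuotEquivQuotSMul B I).injective
    rw [map_zero, show (1 : R ⧸ I) = Ideal.Quotient.mk I 1 from rfl,
      TensorProduct.tensorQuotEquivQuotSMul_tmul_mk, one_smul, Submodule.Quotient.mk_eq_zero]
    exact hz
  have h2 := hinj (h1.trans (map_zero _).symm)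
  have h3 := congrArg (TensorProduct.tensorQuotEquivQuotSMul M₁ I) h2
  rw [map_zero, show (1 : R ⧸ I) = Ideal.Quotient.mk I 1 from rfl,
    TensorProduct.tensorQuotEquivQuotSMul_tmul_mk, one_smul, Submodule.Quotient.mk_eq_zero] at h3
  exact h3

/-- Pointwise description of `I • ⊤` in a finite free module over a polynomial ring. -/
theorem mem_smul_top_iff {R : Type u} [CommRing R] (I : Ideal R) {n c : ℕ}
    (v : Fin c → MvPolynomial (Fin n) R) :
    v ∈ (I • ⊤ : Submodule R (Fin c → MvPolynomial (Fin n) R)) ↔ ∀ l, v l ∈ I.map MvPolynomial.C := by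
  classical
  constructor
  · intro hv l
    refine Submodule.smul_induction_on hv (fun a ha u _ => ?_) (fun a b ha hb => ?_)
    · rw [Pi.smul_apply, MvPolynomial.smul_eq_C_mul]
      exact Ideal.mul_mem_right _ _ (Ideal.mem_map_of_mem _ ha)
    · exact Ideal.add_mem _ ha hb
  · intro h
    rw [← Finset.univ_sum_single v]
    refine Submodule.sum_mem _ fun l _ => ?_
    have h1 : v l ∈ (I • ⊤ : Submodule R (MvPolynomial (Fin n) R)) := by
      rw [Ideal.smul_top_eq_map, Submodule.restrictScalars_mem, MvPolynomial.algebraMap_eq]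
      exact h l
    have h2 := Submodule.mem_map_of_mem (f := LinearMap.single R (fun _ : Fin c => MvPolynomial (Fin n) R) l) h1
    rw [Submodule.map_smul''] at h2
    exact Submodule.smul_mono le_rfl le_top h2


/-- Let R' → R be a surjection of Noetherian rings whose kernel is generated by a single element f and
has square zero; let I ⊆ R be the image of the annihilator of f. Let S = R[x_1, …, x_n]/(f_1, …,
f_m) and let ∑ r_j f_j = 0 be a relation in R[x_1, …, x_n] such that (1) every coefficient of every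
r_j lies in I, and (2) there are lifts r'_j, f'_j in R'[x_1, …, x_n] and an element g with ∑ r'_j
f'_j = f g, where g maps to a non-nilpotent element of S/IS. Under these hypotheses, the
Tor-dimension of S over R is infinite (so S fails to be a perfect R-algebra). -/
theorem result {R' R : Type u} [CommRing R'] [CommRing R]
    [IsNoetherianRing R'] [IsNoetherianRing R] (π : R' →+* R) (hπ : Function.Surjective π)
    (f : R') (hker : RingHom.ker π = Ideal.span {f}) (hf : f * f = 0)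
    {n m : ℕ} (fs r : Fin m → MvPolynomial (Fin n) R) (hrel : ∑ j, r j * fs j = 0)
    (h1 : ∀ (j : Fin m) (d : Fin n →₀ ℕ),
      MvPolynomial.coeff d (r j) ∈ ((Ideal.span {f}).annihilator).map π)
    (r' f' : Fin m → MvPolynomial (Fin n) R') (g : MvPolynomial (Fin n) R')
    (hr' : ∀ j, MvPolynomial.map π (r' j) = r j) (hf' : ∀ j, MvPolynomial.map π (f' j) = fs j)
    (hsum : ∑ j, r' j * f' j = MvPolynomial.C f * g)
    (hg : ¬ IsNilpotent (Ideal.Quotient.mk
      (Ideal.span (Set.range fs) ⊔ (((Ideal.span {f}).annihilator).map π).map MvPolynomial.C)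
      (MvPolynomial.map π g))) :
    ¬ DRing.HasFiniteTorDim R (MvPolynomial (Fin n) R ⧸ Ideal.span (Set.range fs)) := by
  classical
  rintro ⟨n₀, hn₀⟩
  set I : Ideal R := ((Ideal.span {f}).annihilator).map π
  set Φ := MvPolynomial.map (σ := Fin n) π
  have hΦ : Function.Surjective Φ := MvPolynomial.map_surjective π hπ
  let F : MvPolynomial (Fin n) R' := C f
  have hFF : F * F = 0 := by rw [← map_mul, hf, map_zero]
  have hΦF : Φ F = 0 := by
    rw [MvPolynomial.map_C, show π f = 0 from RingHom.mem_ker.1 (hker ▸ Ideal.mem_span_singleton_self f), map_zero]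
  have hkerΦ : ∀ p, Φ p = 0 → ∃ q, p = F * q := fun p hp => by
    have h : p ∈ RingHom.ker Φ := hp
    rw [MvPolynomial.ker_map, hker, Ideal.map_span, Set.image_singleton, Ideal.mem_span_singleton'] at h
    obtain ⟨q, hq⟩ := h
    exact ⟨q, by rw [← hq]; exact mul_comm _ _⟩
  have hann : ∀ p, F * p = 0 ↔ Φ p ∈ I.map C := fun p => by
    rw [MvPolynomial.mem_map_C_iff]
    simp only [Φ, MvPolynomial.coeff_map]
    constructor
    · intro h d
      refine Ideal.mem_map_of_mem π (Submodule.mem_annihilator_span_singleton _ _ |>.2 ?_)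
      have := congrArg (coeff d) h
      rw [MvPolynomial.coeff_C_mul, MvPolynomial.coeff_zero] at this
      rw [smul_eq_mul, mul_comm]
      exact this
    · intro h
      ext d
      rw [MvPolynomial.coeff_C_mul, MvPolynomial.coeff_zero]
      obtain ⟨a, ha, hae⟩ := (Ideal.mem_map_iff_of_surjective π hπ).1 (h d)
      rw [Submodule.mem_annihilator_span_singleton, smul_eq_mul] at ha
      have hk : coeff d p - a ∈ RingHom.ker π := by rw [RingHom.mem_ker, map_sub, hae, sub_self]
      rw [hker, Ideal.mem_span_singleton'] at hk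
      obtain ⟨c, hc⟩ := hk
      rw [show coeff d p = c * f + a by rw [hc, sub_add_cancel], mul_add, mul_comm f a, ha, mul_left_comm, hf,
        mul_zero, add_zero]
  let L : (Fin m → MvPolynomial (Fin n) R') →ₗ[MvPolynomial (Fin n) R'] (Fin 1 → MvPolynomial (Fin n) R') :=
    LinearMap.pi fun _ => Fintype.linearCombination _ f'
  obtain ⟨b, G, hb, hG0, hG⟩ := exists_resolution F L
  -- the complex over `R`
  let Gb : ∀ i, (Fin (b (i + 1)) → MvPolynomial (Fin n) R) →ₗ[R] (Fin (b i) → MvPolynomial (Fin n) R) :=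
    fun i => (tw Φ (G i)).restrictScalars R
  have hGb : ∀ i v, Gb i (Φ ∘ v) = Φ ∘ G i v := fun i v => tw_apply Φ (G i) v
  have hlift : ∀ {c : ℕ} (v : Fin c → MvPolynomial (Fin n) R), ∃ u, Φ ∘ u = v := fun v => by
    choose u hu using fun l => hΦ (v l)
    exact ⟨u, funext hu⟩
  have hΦsmul : ∀ {c : ℕ} (u : Fin c → MvPolynomial (Fin n) R'), Φ ∘ (F • u) = 0 := fun u => funext fun l => by
    simp [hΦF]
  have hkerv : ∀ {c : ℕ} (v : Fin c → MvPolynomial (Fin n) R'), Φ ∘ v = 0 → ∃ u, v = F • u := fun v hv => by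
    choose u hu using fun l => hkerΦ (v l) (congrFun hv l)
    exact ⟨u, funext hu⟩
  have hexactb : ∀ i, LinearMap.ker (Gb i) = LinearMap.range (Gb (i + 1)) := fun i => by
    ext v
    obtain ⟨v, rfl⟩ := hlift v
    rw [LinearMap.mem_ker, hGb]
    constructor
    · intro h
      obtain ⟨z, hz⟩ := (hG i v).2 (hkerv _ h)
      exact ⟨Φ ∘ z, by rw [hGb, hz]⟩
    · rintro ⟨z, hz⟩
      obtain ⟨z, rfl⟩ := hlift z
      rw [hGb] at hz
      obtain ⟨u, hu⟩ := hkerv (v - G (i + 1) z) (funext fun l => by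
        simpa [sub_eq_zero] using (congrFun hz l).symm)
      obtain ⟨u', hu'⟩ := (hG i (G (i + 1) z)).1 ⟨z, rfl⟩
      rw [sub_eq_iff_eq_add] at hu
      rw [hu, map_add, map_smul, hu', ← smul_add, hΦsmul]
  -- Tor of the syzygies
  let S := MvPolynomial (Fin n) R ⧸ Ideal.span (Set.range fs)
  let Z : ∀ i, Submodule R (Fin (b i) → MvPolynomial (Fin n) R) := fun i => LinearMap.range (Gb i)
  have hl0 : 0 < b 0 := by omega
  have hone : ∀ v : Fin (b 0) → MvPolynomial (Fin n) R', v = fun _ => v ⟨0, hl0⟩ := fun v => funext fun l => by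
    congr 1; exact Fin.ext (by omega)
  let ρ : (Fin (b 0) → MvPolynomial (Fin n) R) →ₗ[R] S :=
    (Ideal.Quotient.mkₐ R (Ideal.span (Set.range fs))).toLinearMap.comp (LinearMap.proj ⟨0, hl0⟩)
  have hρ : Function.Surjective ρ := fun s => by
    obtain ⟨t, rfl⟩ := Ideal.Quotient.mk_surjective s
    exact ⟨fun _ => t, rfl⟩
  have hfsJ : Ideal.span (Set.range fs) = (Ideal.span (Set.range f')).map Φ := by
    rw [Ideal.map_span, ← Set.range_comp]
    exact congrArg (fun s => Ideal.span (Set.range s)) (funext fun j => (hf' j).symm)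
  have hexρ : Function.Exact (Z 0).subtype ρ := by
    rw [LinearMap.exact_iff, Submodule.range_subtype]
    ext v
    obtain ⟨v, rfl⟩ := hlift v
    rw [LinearMap.mem_ker, show ρ (Φ ∘ v) = Ideal.Quotient.mk _ (Φ (v ⟨0, hl0⟩)) from rfl,
      Ideal.Quotient.eq_zero_iff_mem, hfsJ, Ideal.mem_map_iff_of_surjective Φ hΦ]
    constructor
    · rintro ⟨t, ht, hte⟩
      rw [Ideal.mem_span_range_iff_exists_fun] at ht
      obtain ⟨c, hc⟩ := ht
      obtain ⟨z, hz⟩ := (hG0 t).2 ⟨c, funext fun _ => by simp [L, Fintype.linearCombination_apply, hc]⟩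
      refine ⟨Φ ∘ z, ?_⟩
      rw [hGb, ← hz, hone v]
      exact funext fun _ => hte
    · rintro ⟨z, hz⟩
      obtain ⟨z, rfl⟩ := hlift z
      rw [hGb] at hz
      obtain ⟨c, hc⟩ := (hG0 (G 0 z ⟨0, hl0⟩)).1 ⟨z, (hone (G 0 z)).symm⟩
      refine ⟨G 0 z ⟨0, hl0⟩, ?_, congrFun hz _⟩
      rw [congrFun hc 0]
      exact Ideal.mem_span_range_iff_exists_fun.2 ⟨c, by simp [L, Fintype.linearCombination_apply]⟩
  have hexZ : ∀ i, Function.Exact (Z (i + 1)).subtype (Gb i).rangeRestrict := fun i => by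
    rw [LinearMap.exact_iff, Submodule.range_subtype, LinearMap.ker_rangeRestrict]
    exact hexactb i
  have hTorZ : ∀ i p, Nonempty (DRing.Tor R (p + 1) (Z i) (R ⧸ I) ≃ₗ[R] DRing.Tor R (p + i + 2) S (R ⧸ I)) := by
    intro i
    induction i with
    | zero =>
      intro p
      obtain ⟨e⟩ := Groth.HTorLib.tor_shift_left (Submodule.subtype_injective (Z 0)) hρ hexρ (R ⧸ I) p
      exact ⟨e.symm⟩
    | succ i ih =>
      intro p
      obtain ⟨e₁⟩ := Groth.HTorLib.tor_shift_left (Submodule.subtype_injective (Z (i + 1)))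
        (LinearMap.surjective_rangeRestrict (Gb i)) (hexZ i) (R ⧸ I) p
      obtain ⟨e₂⟩ := ih (p + 1)
      rw [show p + (i + 1) + 2 = p + 1 + i + 2 by omega]
      exact ⟨e₁.symm.trans e₂⟩
  have htor0 : ∀ i, n₀ ≤ i → Subsingleton (DRing.Tor R 1 (Z i) (R ⧸ I)) := fun i hi => by
    obtain ⟨e⟩ := hTorZ i 0
    have := hn₀ (R ⧸ I) (0 + i + 2) (by omega)
    exact e.injective.subsingleton
  obtain ⟨k, z, hk⟩ := Groth.FrobLCI.TorObs.core F hFF f' r' g
    (by rw [← hsum]; exact Finset.sum_congr rfl fun j _ => mul_comm _ _)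
    (fun j => (hann _).2 (by rw [hr', MvPolynomial.mem_map_C_iff]; exact h1 j)) b G hb
    (fun j e => by
      obtain ⟨z, hz⟩ := (hG0 (f' j * e ⟨0, hl0⟩)).2 ⟨Pi.single j (e ⟨0, hl0⟩), funext fun _ => by
        simp [L, Fintype.linearCombination_apply_single, mul_comm]⟩
      exact ⟨z, 0, by rw [smul_zero, add_zero, ← hz, hone e]; rfl⟩)
    (fun i v u h => by
      obtain ⟨z, hz⟩ := (hG i v).2 ⟨u, h⟩
      exact ⟨z, 0, by rw [smul_zero, add_zero, hz]⟩)
    (fun i v => (hG i _).1 ⟨v, rfl⟩) (n₀ + 1)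
    (fun i hi v hv => by
      obtain ⟨i, rfl⟩ : ∃ j, i = j + 1 := ⟨i - 1, by omega⟩
      have h1 : Gb (i + 1) (Φ ∘ v) ∈ I • (⊤ : Submodule R (Fin (b (i + 1)) → MvPolynomial (Fin n) R)) := by
        rw [hGb, mem_smul_top_iff]
        exact fun l => (hann _).1 (congrFun hv l)
      have h2 := Submodule.mem_map_of_mem (f := (Z (i + 1)).subtype)
        (mem_smul_of_tor I (z := ⟨_, Φ ∘ v, rfl⟩) _ _ (Submodule.subtype_injective (Z (i + 1)))
        (LinearMap.surjective_rangeRestrict (Gb i)) (hexZ i) (htor0 i (by omega)) h1)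
      rw [Submodule.map_smul'', Submodule.map_subtype_top] at h2
      obtain ⟨w, hw, hwe⟩ : Gb (i + 1) (Φ ∘ v) ∈ Submodule.map (Gb (i + 1)) (I • ⊤) := by
        rw [Submodule.map_smul'', ← LinearMap.range_eq_map]
        exact h2
      have h3 : Φ ∘ v - w ∈ LinearMap.range (Gb (i + 1 + 1)) := by
        rw [← hexactb, LinearMap.mem_ker, map_sub, hwe]
        exact sub_self _
      obtain ⟨z, hz⟩ := h3
      obtain ⟨z, rfl⟩ := hlift z
      rw [hGb] at hz
      refine ⟨z, funext fun l => (hann _).2 ?_⟩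
      have := (mem_smul_top_iff I w).1 hw l
      rw [Pi.sub_apply, map_sub]
      have h4 : Φ (G (i + 1 + 1) z l) = Φ (v l) - w l := congrFun hz l
      rwa [h4, sub_sub_cancel])
  refine hg ⟨k, ?_⟩
  rw [← map_pow, ← map_pow, Ideal.Quotient.eq_zero_iff_mem]
  have h := (hann _).1 (congrFun hk ⟨0, hl0⟩)
  rw [Pi.sub_apply, Pi.smul_apply, smul_eq_mul, mul_one, map_sub] at h
  obtain ⟨c, hc⟩ := (hG0 (G 0 z ⟨0, hl0⟩)).1 ⟨z, (hone (G 0 z)).symm⟩
  rw [← sub_add_cancel (Φ (g ^ k)) (Φ (G 0 z ⟨0, hl0⟩))]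
  refine Ideal.add_mem _ (Ideal.mem_sup_right h) (Ideal.mem_sup_left ?_)
  rw [hfsJ]
  refine Ideal.mem_map_of_mem Φ ?_
  rw [congrFun hc 0]
  exact Ideal.mem_span_range_iff_exists_fun.2 ⟨c, by simp [L, Fintype.linearCombination_apply]⟩

end Groth.Agent.S6532
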