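import Groth.Statements.S19589
import Mathlib
import Groth.Agent.Misc1.Azumaya.Basic

set_option autoImplicit false
universe u v
open Brauer
open scoped TensorProduct

namespace Groth.Agent.S19589

/-- Let R be a commutative ring and P a finitely generated projective R-module which is faithful. Then
End_R(P) is an Azumaya R-algebra. (The published statement is for a finite locally free sheaf E on a
scheme X and the sheaf of algebras End(E); this row is the case of affine X. Azumaya is taken in the
sense that includes faithfulness over R, which is why P is assumed faithful; the published notion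
also admits rank zero.) -/
theorem result (R : Type u) [CommRing R]
    (P : Type v) [AddCommGroup P] [Module R P] [Module.Finite R P] [Module.Projective R P]
    [FaithfulSMul R P] : IsAzumaya R (Module.End R P) := by
  obtain ⟨hfin, hproj⟩ := Groth.Azum.finite_projective_end R P
  refine Groth.Azum.bij_of_fibres R (Module.End R P) fun p hp => ?_
  let K := p.ResidueField
  let V := K ⊗[R] P
  let e : K ⊗[R] Module.End R P ≃ₐ[K] Module.End K V :=
    AlgEquiv.ofLinearEquiv (LinearEquiv.ofBijective (LinearMap.tensorProduct R K P P) (Groth.Azum.tensorProduct_bijective R K P P))
      (by
        refine TensorProduct.AlgebraTensorModule.ext fun s z => ?_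
        simp [LinearMap.tensorProduct, V, Algebra.TensorProduct.one_def])
      (LinearMap.map_mul_of_map_mul_tmul fun a₁ a₂ b₁ b₂ => by
        refine TensorProduct.AlgebraTensorModule.ext fun s z => ?_
        simp [LinearMap.tensorProduct, V, smul_smul, mul_comm a₁ a₂])
  have hnt : Nontrivial V := by
    refine (Module.mem_support_iff_nontrivial_residueField_tensorProduct (R := R) (M := P) ⟨p, hp.isPrime⟩).1 ?_
    rw [Module.support_eq_zeroLocus]
    show (Module.annihilator R P : Set R) ⊆ p
    rw [Module.annihilator_eq_bot.2 inferInstance]
    simp
  let b := Module.Free.chooseBasis K V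
  have : Nonempty (Module.Free.ChooseBasisIndex K V) := b.index_nonempty
  classical
  have hM := IsAzumaya.matrix K (Module.Free.ChooseBasisIndex K V)
  exact IsAzumaya.of_AlgEquiv _ _ _ ((algEquivMatrix b).symm.trans e.symm)

end Groth.Agent.S19589
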