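import Groth.Statements.S13987
import Groth.Agent.Misc6.LocCrit
import Groth.Agent.S9515
import Groth.Agent.CohTwo.IdealMulPow
import Groth.Agent.CohTwo.HomNhd
import Groth.Agent.QCohMod.ExtendCases
import Groth.Agent.QCohMod.OpenSupport
import Groth.Agent.CohBase.AffineHomCriterion
-- import your own Groth.Agent.* helpers here

set_option autoImplicit false
universe u
open CategoryTheory CategoryTheory.Limits AlgebraicGeometry
open CohGab

namespace Groth.Agent.S13987

open Groth.CohTwo TopologicalSpace Opposite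

section
variable {X : Scheme.{u}} (U : X.Opens)

instance : PreservesFiniteLimits (Scheme.Modules.restrictFunctor U.ι) :=
  Groth.CohBase.preservesFiniteLimits_restrictFunctor U.ι

instance : (Scheme.Modules.restrictFunctor U.ι).Additive := by
  haveI := preservesBinaryBiproducts_of_preservesBinaryCoproducts
    (Scheme.Modules.restrictFunctor U.ι)
  exact Functor.additive_of_preservesBinaryBiproducts _

theorem support_subset_compl_iff (M : X.Modules) :
    CohB1.support M ⊆ (↑U : Set X)ᶜ ↔ IsZero ((Scheme.Modules.restrictFunctor U.ι).obj M) := by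
  rw [Groth.QCohMod.isZero_restrict_iff_stalk]
  refine ⟨fun h x hx => ?_, fun h x hx hxU => hx (AddCommGrpCat.subsingleton_of_isZero (h x hxU))⟩
  have : Subsingleton ↑((Groth.QCohMod.stalk x).obj M) :=
    not_not.1 fun h' => h h' hx
  exact AddCommGrpCat.isZero_of_subsingleton _

theorem isIso_restrict_iff {A B : X.Modules} (f : A ⟶ B) :
    IsIso ((Scheme.Modules.restrictFunctor U.ι).map f) ↔
      CohB1.support (kernel f) ⊆ (↑U : Set X)ᶜ ∧ CohB1.support (cokernel f) ⊆ (↑U : Set X)ᶜ := by
  let R := Scheme.Modules.restrictFunctor U.ι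
  rw [support_subset_compl_iff, support_subset_compl_iff]
  let e1 := PreservesKernel.iso R f
  let e2 := PreservesCokernel.iso R f
  refine ⟨fun h => ⟨(isZero_kernel_of_mono (R.map f)).of_iso e1,
    (isZero_cokernel_of_epi (R.map f)).of_iso e2⟩, fun h => ?_⟩
  haveI : Mono (R.map f) := Preadditive.mono_of_isZero_kernel _ (h.1.of_iso e1.symm)
  haveI : Epi (R.map f) := Preadditive.epi_of_isZero_cokernel _ (h.2.of_iso e2.symm)
  exact isIso_of_mono_of_epi _

theorem exists_ext [IsNoetherian X] (N : (↑U : Scheme.{u}).Modules) (hN : Coh.IsCoh N) :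
    ∃ (G : X.Modules), Coh.IsCoh G ∧ Nonempty ((Scheme.Modules.restrictFunctor U.ι).obj G ≅ N) := by
  haveI := hN.1
  haveI : CompactSpace (U : Scheme.{u}) :=
    isCompact_iff_compactSpace.1 (TopologicalSpace.NoetherianSpace.isCompact (U : Set X))
  haveI : ((Scheme.Modules.pushforward U.ι).obj N).IsQuasicoherent :=
    Groth.QCohMod.isQCoh_pushforward _ U.ι
  obtain ⟨n, V, hV, hcov, hW, hU⟩ := Groth.QCohMod.exists_finite_cover (X := X)
  let c := (Scheme.Modules.restrictAdjunction U.ι).counit.app N
  obtain ⟨G, i', e, -, hq, hft, -⟩ := Groth.QCohMod.exists_extension_subsheaf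
    (F := (Scheme.Modules.pushforward U.ι).obj N) (U := U) (G := N) (inv c) hN.2 V hV hcov hW
    (hU U (TopologicalSpace.NoetherianSpace.isCompact _))
  exact ⟨G, ⟨hq, hft⟩, ⟨e⟩⟩

theorem exists_idealMulι_iso [IsNoetherian X] (M : X.Modules) (hM : Coh.IsCoh M) (n : ℕ)
    (I : X.IdealSheafData) (hI : ∀ (V : X.Opens) (hV : IsAffineOpen V), V ≤ U → I.ideal ⟨V, hV⟩ = ⊤) :
    IsIso ((Scheme.Modules.restrictFunctor U.ι).map (Dual3.idealMulι (I ^ n) M)) := by
  haveI := hM.1
  let R := Scheme.Modules.restrictFunctor U.ι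
  haveI : Mono (Dual3.idealMulι (I ^ n) M) := inferInstance
  haveI : Mono (R.map (Dual3.idealMulι (I ^ n) M)) := Groth.CohTwo.mono_restrictMap U.ι _
  haveI : (R.obj M).IsQuasicoherent := Scheme.Modules.isQuasicoherent_restrictFunctor U.ι M
  obtain ⟨γ, hγ⟩ := Groth.CohTwo.exists_lift_of_cover (𝟙 (R.obj M))
    (R.map (Dual3.idealMulι (I ^ n) M))
    (fun W : (↑U : Scheme.{u}).affineOpens => W.1) (fun W => W.2)
    (fun x => by
      obtain ⟨W, hW, hx⟩ := Groth.QCohMod.exists_affine_mem (X := (↑U : Scheme.{u})) x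
      exact ⟨⟨W, hW⟩, hx⟩) (by
    rintro W _ ⟨a, rfl⟩
    have hW := W.2.image_of_isOpenImmersion U.ι
    exact (range_idealMulι_pow I n M hW (show Γ(M, U.ι ''ᵁ W.1) from a)).2 (by
      rw [hI _ hW (U.ι_image_le W.1), Ideal.top_pow, Submodule.top_smul]
      trivial))
  haveI : Epi (R.map (Dual3.idealMulι (I ^ n) M)) :=
    have : IsSplitEpi (R.map (Dual3.idealMulι (I ^ n) M)) := ⟨⟨⟨γ, hγ⟩⟩⟩
    inferInstance
  exact isIso_of_mono_of_epi _

end

/-- Let X be a Noetherian scheme, Z ⊆ X a closed subset and U = X ∖ Z. Then restriction to U induces an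
equivalence between the quotient abelian category Coh(X)/Coh_Z(X) (coherent modules modulo those
supported in Z) and Coh(U): the restriction functor Coh(X) ⥤ Coh(U) is a localization functor for
the class of morphisms of coherent O_X-modules whose kernel and cokernel (taken in O_X-modules) have
support contained in Z. The hypothesis that restriction to U preserves coherence always holds and is
carried only to form the functor between the full subcategories. (The published statement is about
coherent sheaves twisted by a class in the second etale cohomology group of the units of the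
structure sheaf; this row is its case of the trivial class, ordinary coherent sheaves.) -/
theorem result (X : Scheme.{u}) [IsNoetherian X]
    (U : X.Opens)
    (hres : ∀ M : X.Modules, Coh.IsCoh M → Coh.IsCoh ((Scheme.Modules.restrictFunctor U.ι).obj M)) :
    (ObjectProperty.lift (fun N : (↑U : Scheme.{u}).Modules => Coh.IsCoh N)
        (ObjectProperty.ι (fun M : X.Modules => Coh.IsCoh M) ⋙ Scheme.Modules.restrictFunctor U.ι)
        (fun M => hres M.obj M.property)).IsLocalization
      (fun (A B : ObjectProperty.FullSubcategory (fun M : X.Modules => Coh.IsCoh M)) (f : A ⟶ B) =>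
        CohB1.support (kernel f.hom) ⊆ (↑U : Set X)ᶜ ∧
          CohB1.support (cokernel f.hom) ⊆ (↑U : Set X)ᶜ) := by
  let R := Scheme.Modules.restrictFunctor U.ι
  let P : ObjectProperty X.Modules := fun M => Coh.IsCoh M
  refine Groth.Misc6.LocCrit.isLocalization_of_fractions _ _ ?_ ?_ ?_ ?_
  · intro A B f
    rw [← isIso_iff_of_reflects_iso _ (ObjectProperty.ι _)]
    exact (isIso_restrict_iff U f.hom).symm
  · refine ⟨fun N => ?_⟩
    obtain ⟨G, hG, ⟨e⟩⟩ := exists_ext U N.obj N.property
    exact ⟨⟨G, hG⟩, ⟨ObjectProperty.isoMk _ e⟩⟩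
  · intro A B φ
    let I := Scheme.IdealSheafData.vanishingIdeal
      (⟨(U : Set X)ᶜ, U.2.isClosed_compl⟩ : TopologicalSpace.Closeds X)
    obtain ⟨n, ψ, hψ⟩ := Groth.Agent.S9515.result X B.obj A.obj B.property.1 A.property I U
      (by simp [I]) φ.hom
    have hI : ∀ (V : X.Opens) (hV : IsAffineOpen V), V ≤ U → I.ideal ⟨V, hV⟩ = ⊤ := by
      intro V hV hVU
      rw [Scheme.IdealSheafData.vanishingIdeal_ideal]
      refine (congrArg PrimeSpectrum.vanishingIdeal ?_).trans PrimeSpectrum.vanishingIdeal_empty
      refine Set.eq_empty_of_forall_notMem fun y hy => hy ?_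
      have h : hV.fromSpec y ∈ Set.range hV.fromSpec := ⟨y, rfl⟩
      rw [hV.range_fromSpec] at h
      exact hVU h
    refine ⟨⟨_, isCoh_idealMul (I ^ n) A.obj A.property⟩,
      ObjectProperty.homMk (Dual3.idealMulι (I ^ n) A.obj), ObjectProperty.homMk ψ, ?_, ?_⟩
    · rw [← isIso_iff_of_reflects_iso _ (ObjectProperty.ι _)]
      exact exists_idealMulι_iso U A.obj A.property n I hI
    · exact ObjectProperty.hom_ext _ hψ.symm
  · intro A B f g h
    have h' : R.map f.hom = R.map g.hom := congrArg (fun k => k.hom) h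
    haveI := A.property.1
    haveI := B.property.1
    refine ⟨⟨kernel (f.hom - g.hom), Groth.QCohMod.isCoh_kernel _ A.property⟩,
      ObjectProperty.homMk (kernel.ι (f.hom - g.hom)), ?_, ?_⟩
    · rw [← isIso_iff_of_reflects_iso _ (ObjectProperty.ι _)]
      have h0 : R.map (f.hom - g.hom) = 0 := by rw [R.map_sub, h', sub_self]
      haveI : IsIso (kernel.ι (R.map (f.hom - g.hom))) := by
        haveI : Mono (kernel.ι (R.map (f.hom - g.hom))) := inferInstance
        exact ⟨⟨kernel.lift _ (𝟙 _) (by rw [h0, comp_zero]), by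
          rw [← cancel_mono (kernel.ι (R.map (f.hom - g.hom)))]; simp, by simp⟩⟩
      have e := kernelComparison_comp_ι (f.hom - g.hom) R
      change IsIso (R.map (kernel.ι (f.hom - g.hom)))
      rw [← e]
      infer_instance
    · exact ObjectProperty.hom_ext _ (sub_eq_zero.1 (by
        change kernel.ι (f.hom - g.hom) ≫ f.hom - kernel.ι (f.hom - g.hom) ≫ g.hom = 0
        rw [← Preadditive.comp_sub]
        exact kernel.condition _))

end Groth.Agent.S13987
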