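import Groth.Statements.S2949
import Groth.Agent.LefAlg.FieldLeff
import Groth.Agent.LefAlg.QuotSys
import Groth.Agent.LefAlg.PicHelpers
import Groth.Agent.LefPic.Global

set_option autoImplicit false
universe u
open CategoryTheory CategoryTheory.Limits AlgebraicGeometry
open Lef

namespace Groth.Agent.S2949

/-- Case 'resp.' with the parafactoriality hypothesis. Let k be a field, X a proper k-scheme, 𝓘 a
quasi-coherent ideal sheaf whose ideal module 𝓘O_X is invertible with ample inverse L (so X₀ = V(𝓘)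
is an effective Cartier divisor with O_X(X₀) = L ample and X is projective), and let ι : X₀ → X be
the closed immersion. Assume: every closed point of X has depth O_{X,x} ≥ 2; H^i(X, (𝓘O_X)^{⊗m} ⊗
O_X/𝓘) = 0 for all m ≥ 1 and i = 1, 2 (these are the groups H^i(X₀, O_{X₀}(−m))); and for every
closed point x ∉ X₀ every invertible module on the punctured spectrum of O_{X,x} is trivial (O_{X,x}
parafactorial). Then pullback along ι induces a bijection on isomorphism classes of invertible
modules: invertible M, M' on X with ι^*M ≅ ι^*M' are isomorphic, and every invertible O_{X₀}-module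
is isomorphic to ι^*M for some invertible M on X. -/
theorem result (k : Type u) [Field k] (X : Scheme.{u}) [X.Over (Spec (CommRingCat.of k))] [IsProper (X ↘ (Spec (CommRingCat.of k)))] (𝓘 : X.IdealSheafData) (L : X.Modules) (hL : ClSub.IsInverseOf L (ClSub.idealMod 𝓘)) (hamp : CohB1.IsAmple L) (hdepth : ∀ x : X, IsClosed ({x} : Set X) → (2 : ℕ∞) ≤ LocCoh.depth (X.presheaf.stalk x) (X.presheaf.stalk x)) (hH : ∀ m : ℕ, 1 ≤ m → ∀ i : ℕ, (i = 1 ∨ i = 2) → Subsingleton (Coh.HH X ((DCoh.tensorBi.obj (CohB1.tensorPow (ClSub.idealMod 𝓘) m)).obj (ClSub.quotMod 𝓘)) i)) (hpf : ∀ x : X, IsClosed ({x} : Set X) → x ∉ (𝓘.support : Set X) → ∀ N : (↑(FEt.puncturedSpec (X.presheaf.stalk x)) : Scheme.{u}).Modules, PicF.IsInvertible N → Nonempty (N ≅ Coh.structureModule _)) : (∀ M M' : X.Modules, PicF.IsInvertible M → PicF.IsInvertible M' → Nonempty ((Scheme.Modules.pullback 𝓘.subschemeι).obj M ≅ (Scheme.Modules.pullback 𝓘.subschemeι).obj M') → Nonempty (M ≅ M')) ∧ ∀ N : (𝓘.subscheme).Modules, PicF.IsInvertible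 N → ∃ M : X.Modules, PicF.IsInvertible M ∧ Nonempty ((Scheme.Modules.pullback 𝓘.subschemeι).obj M ≅ N) := by
  classical
  let f := X ↘ Spec (CommRingCat.of k)
  have : IsLocallyNoetherian X := LocallyOfFiniteType.isLocallyNoetherian f
  have hC : BlowUp.IsEffCartierIdeal 𝓘 :=
    Groth.PicAux.isEffCartierIdeal_of_isInvertible (Groth.PicAux.isInvertible_of_isInverseOf hamp.1 hL)
  have hker : ∀ i, (i = 1 ∨ i = 2) → ∀ m : ℕ,
      Subsingleton (Coh.HH X (kernel (Lef.quotMap (Lef.pow_succ_le 𝓘 m))) i) := fun i hi m =>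
    Groth.PnCoh.subsingleton_HH_of_iso f (Groth.LefAlg.nonempty_kernel_quotMap hC m).some.symm
      (hH (m + 1) (Nat.le_add_left 1 m) i hi)
  have hd0 := Groth.LefAlg.depth_divisor k hL hamp hdepth 1 (fun m hm => hH m hm 1 (Or.inl rfl))
  have hLeff := Groth.LefAlg.leffCond_of_ample k 𝓘 L hL hamp hdepth hd0
  obtain ⟨s, hs, -⟩ := Groth.PicAux.exists_section_zeroScheme_eq hC hL
  have haff : IsAffineOpen (CohB1.genLocus L s) := by
    rw [Groth.PropsBasic.Ample.genLocus_eq_gloc]
    exact Groth.PropsBasic.Ample.isAffineOpen_gloc_of_universallyClosed f hamp _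
  have hpara : ∀ U : X.Opens, (𝓘.support : Set X) ⊆ (U : Set X) → ∀ x : X, x ∉ U →
      ParaF.IsParafactorialLocalRing (X.presheaf.stalk x) := by
    intro U hU x hx
    have hxc : IsClosed ({x} : Set X) :=
      Groth.VarietyBC.NegTwist.isClosed_singleton_of_closure_le k haff x fun y hy => by
        rw [SetLike.mem_coe, Groth.PicAux.mem_genLocus_iff_not_mem_support hamp.1, hs]
        exact fun hy' => hx ((specializes_iff_mem_closure.2 hy).mem_open U.2 (hU hy'))
    refine (Groth.Agent.S2824.result _).2 ⟨?_, hpf x hxc fun h => hx (hU h)⟩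
    exact Groth.LefAlg.bijective_map_punctured _ (hdepth x hxc)
  have hsurj := Groth.LefPic.surjective_pic_thickening 𝓘 0 hLeff (fun m _ => hker 2 (Or.inr rfl) m) hpara
  have hinj := Groth.LefPic.injective_pic_thickening 𝓘 0 hLeff.1 (fun m _ => hker 1 (Or.inl rfl) m)
  have key : ∀ J : X.IdealSheafData, J = 𝓘 → Formal2.PicPullbackInjective J.subschemeι →
      Formal2.PicPullbackSurjective J.subschemeι →
      (∀ M M' : X.Modules, PicF.IsInvertible M → PicF.IsInvertible M' →
        Nonempty ((Scheme.Modules.pullback 𝓘.subschemeι).obj M ≅ (Scheme.Modules.pullback 𝓘.subschemeι).obj M') →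
        Nonempty (M ≅ M')) ∧
      ∀ N : (𝓘.subscheme).Modules, PicF.IsInvertible N →
        ∃ M : X.Modules, PicF.IsInvertible M ∧ Nonempty ((Scheme.Modules.pullback 𝓘.subschemeι).obj M ≅ N) := by
    intro J hJ h1 h2
    subst hJ
    exact ⟨fun M M' hM hM' h => Groth.LefAlg.nonempty_iso_of_picPullbackInjective _ h1 hM hM' h, h2⟩
  exact key (𝓘 ^ (0 + 1)) (by rw [zero_add, pow_one]) hinj hsurj

end Groth.Agent.S2949
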