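import Groth.Statements.S2951
import Groth.Agent.ParaLift82.Depth

set_option autoImplicit false
universe u
open AlgebraicGeometry
open ParaF

namespace Groth.Agent.S2951

/-- Parafactoriality part, for the local rings. Let A → B be a flat local homomorphism of Noetherian
local rings and B₀ = B/m_A B. If B₀ has depth ≥ 3 and every invertible module on the punctured
spectrum of B₀ is isomorphic to the structure sheaf, then every invertible module on the punctured
spectrum of B is isomorphic to the structure sheaf. -/
theorem result (A B : Type u) [CommRing A] [CommRing B] [IsLocalRing A] [IsLocalRing B] [IsNoetherianRing A] [IsNoetherianRing B] [Algebra A B] [IsLocalHom (algebraMap A B)] [Module.Flat A B] [IsLocalRing (B ⧸ (IsLocalRing.maximalIdeal A).map (algebraMap A B))] (hd : (3 : ℕ∞) ≤ LocCoh.depth (B ⧸ (IsLocalRing.maximalIdeal A).map (algebraMap A B)) (B ⧸ (IsLocalRing.maximalIdeal A).map (algebraMap A B))) (h0 : ∀ L : (↑(FEt.puncturedSpec (B ⧸ (IsLocalRing.maximalIdeal A).map (algebraMap A B))) : Scheme.{u}).Modules, PicF.IsInvertible L → Nonempty (L ≅ Coh.structureModule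 _)) (L : (↑(FEt.puncturedSpec B) : Scheme.{u}).Modules) (hL : PicF.IsInvertible L) : Nonempty (L ≅ Coh.structureModule _) := by
  classical
  letI := Ideal.Quotient.field (IsLocalRing.maximalIdeal A)
  have hf := Groth.ParaLift82.freeGr_of_free (J := IsLocalRing.maximalIdeal A)
    (IsLocalRing.maximalIdeal_le_jacobson _) fun _ => Module.Free.of_divisionRing _ _
  obtain ⟨x, y, w, hx, hy, hw, h⟩ := Groth.ParaLift82.exists_regTriple hd
  have hJ : (IsLocalRing.maximalIdeal A).map (algebraMap A B) ≠ ⊤ :=
    Ideal.Quotient.nontrivial_iff.1 inferInstance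
  exact Groth.ParaLift82.picTrivial_of_quotient hJ hf.map hx hy hw h h0 L hL

end Groth.Agent.S2951
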