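import Groth.Statements.S4595
import Groth.Agent.EGA41Two.EmbDim
import Groth.Agent.Variety2.DimAffine

set_option autoImplicit false
universe u
open TensorProduct IsLocalRing
open EGA41

namespace Groth.Agent.S4595

open MvPolynomial in
/-- `B` is local. -/
theorem isLocalRing_quotient {A : Type u} [CommRing A] [IsLocalRing A] (hm : maximalIdeal A ^ 2 = ⊥)
    (p : ℕ) [Fact p.Prime] [CharP A p] {r : ℕ} (f : Fin r → A) :
    IsLocalRing (MvPolynomial (Fin r) A ⧸ Ideal.span (Set.range fun i => X i ^ p - C (f i))) := by
  classical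
  set G : Ideal (MvPolynomial (Fin r) A) := Ideal.span (Set.range fun i => X i ^ p - C (f i))
  let Ω := AlgebraicClosure (ResidueField A)
  let g : A →+* Ω := (algebraMap (ResidueField A) Ω).comp (residue A)
  choose t ht using fun i : Fin r => IsAlgClosed.exists_pow_nat_eq (g (f i)) (Fact.out : p.Prime).pos
  have hG : G ≠ ⊤ := by
    intro htop
    have hle : G ≤ RingHom.ker (eval₂Hom g t) := Ideal.span_le.mpr (by
      rintro _ ⟨i, rfl⟩
      simp [RingHom.mem_ker, ht i])
    exact one_ne_zero (α := Ω) ((map_one (eval₂Hom g t)).symm.trans (RingHom.mem_ker.mp (hle (htop ▸ Submodule.mem_top (x := 1)))))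
  haveI : Nontrivial (MvPolynomial (Fin r) A ⧸ G) := Ideal.Quotient.nontrivial_iff.mpr hG
  haveI : CharP (MvPolynomial (Fin r) A ⧸ G) p := by
    refine (CharP.charP_iff_prime_eq_zero Fact.out).mpr ?_
    rw [← map_natCast (Ideal.Quotient.mk G), CharP.cast_eq_zero, map_zero]
  have hpow : ∀ x : MvPolynomial (Fin r) A, ∃ a : A,
      Ideal.Quotient.mk G x ^ p = Ideal.Quotient.mk G (C a) := by
    intro x
    induction x using MvPolynomial.induction_on with
    | C a => exact ⟨a ^ p, by rw [← map_pow, ← map_pow]⟩
    | add x y hx hy =>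
      obtain ⟨a, ha⟩ := hx
      obtain ⟨b, hb⟩ := hy
      exact ⟨a + b, by rw [map_add, add_pow_char, ha, hb, map_add, map_add]⟩
    | mul_X x i hx =>
      obtain ⟨a, ha⟩ := hx
      refine ⟨a * f i, ?_⟩
      rw [map_mul, mul_pow, ha, map_mul, map_mul, ← map_pow, Ideal.Quotient.eq.mpr
        (Ideal.subset_span ⟨i, rfl⟩ : X i ^ p - C (f i) ∈ G)]
  refine IsLocalRing.of_isUnit_or_isUnit_one_sub_self fun b => ?_
  obtain ⟨x, rfl⟩ := Ideal.Quotient.mk_surjective b
  obtain ⟨a, ha⟩ := hpow x
  by_cases hu : IsUnit a
  · left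
    refine (isUnit_pow_iff (Fact.out : p.Prime).ne_zero).mp ?_
    rw [ha]
    exact (hu.map C).map _
  · right
    have h2 : a ^ 2 = 0 := by
      simpa [hm] using Ideal.pow_mem_pow ((mem_maximalIdeal a).mpr hu) 2
    refine IsNilpotent.isUnit_one_sub ⟨p * 2, ?_⟩
    rw [pow_mul, ha, ← map_pow, ← map_pow, h2, map_zero, map_zero]

open MvPolynomial Groth.EGA41Two.EmbDim in
theorem main {A : Type u} [CommRing A]
    [IsArtinianRing A] [IsLocalRing A] (hm : maximalIdeal A ^ 2 = ⊥) (p : ℕ) [Fact p.Prime] [CharP A p]
    {r : ℕ} (f : Fin r → A) [IsLocalRing (MvPolynomial (Fin r) A ⧸ Ideal.span (Set.range fun i => X i ^ p - C (f i)))] :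
    Module.finrank (ResidueField A) (CotangentSpace A) =
        Module.finrank (ResidueField (MvPolynomial (Fin r) A ⧸ Ideal.span (Set.range fun i => X i ^ p - C (f i))))
          (CotangentSpace (MvPolynomial (Fin r) A ⧸ Ideal.span (Set.range fun i => X i ^ p - C (f i)))) ↔
      LinearIndependent (ResidueField A) (fun i => (1 : ResidueField A) ⊗ₜ[A] KaehlerDifferential.D ℤ A (f i)) := by
  classical
  let P := MvPolynomial (Fin r) A
  let G : Ideal P := Ideal.span (Set.range fun i => X i ^ p - C (f i))
  let B := P ⧸ G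
  let K := ResidueField A
  let N : Ideal P := (maximalIdeal B).comap (Ideal.Quotient.mk G)
  haveI hNmax : N.IsMaximal := Ideal.comap_isMaximal_of_surjective _ Ideal.Quotient.mk_surjective
  let L := P ⧸ N
  letI : Field L := Ideal.Quotient.field N
  have hp0 : (p : A) = 0 := CharP.cast_eq_zero A p
  have hCm : ∀ a ∈ maximalIdeal A, C a ∈ N := fun a ha => by
    rw [Ideal.mem_comap]
    refine (mem_maximalIdeal _).mpr fun hu => ?_
    have h2 : a ^ 2 = 0 := by simpa [hm] using Ideal.pow_mem_pow ha 2
    have : IsNilpotent (Ideal.Quotient.mk G (C a)) :=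
      ⟨2, by rw [← map_pow, ← map_pow, h2, map_zero, map_zero]⟩
    exact this.not_isUnit hu
  have hG : G ≤ N := fun x hx => by
    rw [Ideal.mem_comap, Ideal.Quotient.eq_zero_iff_mem.mpr hx]
    exact zero_mem _
  -- residue field of A inside L
  let j : K →+* L := Ideal.Quotient.lift (maximalIdeal A) ((Ideal.Quotient.mk N).comp C) fun a ha =>
    Ideal.Quotient.eq_zero_iff_mem.mpr (hCm a ha)
  letI : Algebra K L := j.toAlgebra
  haveI : IsScalarTower A K L := IsScalarTower.of_algebraMap_eq fun a => rfl
  letI : Module K N.Cotangent := Module.compHom _ j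
  haveI : IsScalarTower K L N.Cotangent := ⟨fun k l v => by
    show (j k * l) • v = j k • l • v
    rw [mul_smul]⟩
  haveI : IsScalarTower A L N.Cotangent := IsScalarTower.of_algebraMap_smul fun a v => by
    obtain ⟨x, rfl⟩ := N.toCotangent_surjective v
    show N.toCotangent (C a • x) = N.toCotangent (a • x)
    rw [show C a • x = a • x from Subtype.ext (C_mul' (a := a) (p := (x : P)))]
  haveI : IsScalarTower A K N.Cotangent := ⟨fun a k v => by
    show j (a • k) • v = a • j k • v
    rw [show a • k = residue A a * k from Algebra.smul_def a k, map_mul, mul_smul, ← algebraMap_smul L a (j k • v)]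
    rfl⟩
  -- lifts of a basis of the cotangent space of `A`
  let n := Module.finrank K (CotangentSpace A)
  let b : Module.Basis (Fin n) K (CotangentSpace A) := Module.finBasis K (CotangentSpace A)
  choose e he using fun i => (maximalIdeal A).toCotangent_surjective (b i)
  have hspanm : maximalIdeal A = Ideal.span (Set.range fun i => (e i : A)) := by
    refine le_antisymm (fun x hx => ?_) (Ideal.span_le.mpr (by rintro _ ⟨i, rfl⟩; exact (e i).2))
    choose c hc using fun i => residue_surjective (R := A) (b.repr ((maximalIdeal A).toCotangent ⟨x, hx⟩) i)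
    have h1 : (maximalIdeal A).toCotangent ⟨x, hx⟩ = (maximalIdeal A).toCotangent (∑ i, c i • e i) := by
      rw [map_sum]
      conv_lhs => rw [← b.sum_repr ((maximalIdeal A).toCotangent ⟨x, hx⟩)]
      refine Finset.sum_congr rfl fun i _ => ?_
      rw [← hc, map_smul, he, ← algebraMap_smul K (c i)]
      rfl
    rw [Ideal.toCotangent_eq, hm, Submodule.mem_bot, sub_eq_zero] at h1
    rw [show x = ((∑ i, c i • e i : maximalIdeal A) : A) from h1, Submodule.coe_sum]
    exact sum_mem fun i _ => Ideal.mul_mem_left _ _ (Ideal.subset_span ⟨i, rfl⟩)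
  -- the classes of the lifts are independent
  obtain ⟨DA, hDA⟩ := exists_derivation_cotangent p (maximalIdeal A)
  let co : CotangentSpace A →ₗ[K] (Fin n → L) :=
    LinearMap.pi fun i => (Algebra.linearMap K L) ∘ₗ (b.coord i)
  obtain ⟨Θe, hΘe, -⟩ := exists_cotangent_linearMap N ((co.restrictScalars A).compDer DA)
  let ue : Fin n → N := fun i => ⟨C (e i : A), hCm _ (e i).2⟩
  have hinde : LinearIndependent L (fun i => N.toCotangent (ue i)) := by
    refine LinearIndependent.of_comp Θe ?_
    have : (Θe ∘ fun i => N.toCotangent (ue i)) = fun i => Pi.basisFun L (Fin n) i := by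
      funext i k
      show Θe (N.toCotangent ⟨C (e i : A), _⟩) k = _
      rw [hΘe]
      show algebraMap K L (b.repr (DA (e i : A)) k) = _
      rw [hDA, he, b.repr_self, Pi.basisFun_apply, Finsupp.single_apply, Pi.single_apply]
      by_cases h : i = k
      · simp [h]
      · simp [h, Ne.symm h]
    rw [this]
    exact (Pi.basisFun L (Fin n)).linearIndependent
  -- the polynomial ring over the residue field
  let S := MvPolynomial (Fin r) K
  let q : P →+* S := MvPolynomial.map (residue A)
  have hq : Function.Surjective q := MvPolynomial.map_surjective _ residue_surjective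
  have hkerq : RingHom.ker q = Ideal.span (Set.range fun i => (ue i : P)) := by
    rw [MvPolynomial.ker_map, show RingHom.ker (residue A) = maximalIdeal A from Ideal.mk_ker, hspanm,
      Ideal.map_span, ← Set.range_comp]
    rfl
  let M : Ideal S := N.map q
  have hkerN : RingHom.ker q ≤ N := by
    rw [hkerq, Ideal.span_le]
    rintro _ ⟨i, rfl⟩
    exact (ue i).2
  have hMN : M.comap q = N := by
    rw [Ideal.comap_map_of_surjective' q hq, sup_eq_left.mpr hkerN]
  haveI hMmax : M.IsMaximal := (Ideal.map_eq_top_or_isMaximal_of_surjective q hq hNmax).resolve_left fun h =>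
    hNmax.ne_top (by rw [← hMN, show M = ⊤ from h, Ideal.comap_top])
  let SM := Localization.AtPrime M
  haveI : IsRegularLocalRing SM := IsRegularRing.isRegularLocalRing_localization M
  have hdim : Module.finrank (ResidueField SM) (CotangentSpace SM) = r := by
    have h1 := (IsRegularLocalRing.iff_finrank_cotangentSpace SM).mp ‹_›
    rw [IsLocalization.AtPrime.ringKrullDim_eq_height M SM,
      Groth.Variety2.Dim.height_isMaximal_mvPolynomial K r M hMmax] at h1
    exact_mod_cast h1
  have e1 := finrank_cotangentSpace_add ((algebraMap S SM).comp q) N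
    (by
      show ((maximalIdeal SM).under S).comap q = N
      rw [IsLocalization.AtPrime.under_maximalIdeal SM M, hMN])
    (fun y => by
      obtain ⟨s, hs⟩ := (IsLocalization.AtPrime.equivQuotMaximalIdealPow M SM 2).surjective (Ideal.Quotient.mk _ y)
      obtain ⟨s, rfl⟩ := Ideal.Quotient.mk_surjective s
      obtain ⟨x, rfl⟩ := hq s
      exact ⟨x, Ideal.Quotient.eq.mp hs.symm⟩)
    ue
    (fun i => by
      rw [RingHom.comp_apply, show q (ue i) = 0 from by
        rw [← RingHom.mem_ker, hkerq]; exact Ideal.subset_span ⟨i, rfl⟩, map_zero]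
      exact zero_mem _)
    (fun x hx h => by
      rw [← hkerq, ← Ideal.comap_map_of_surjective' q hq, Ideal.map_pow, Ideal.mem_comap]
      rw [← Ideal.Quotient.eq_zero_iff_mem] at h ⊢
      refine (IsLocalization.AtPrime.equivQuotMaximalIdealPow M SM 2).injective ?_
      rw [map_zero, IsLocalization.AtPrime.equivQuotMaximalIdealPow_apply_mk]
      exact h)
  rw [finrank_span_eq_card hinde, hdim, Fintype.card_fin] at e1
  -- the quotient B
  let ug : Fin r → N := fun i => ⟨X i ^ p - C (f i), hG (Ideal.subset_span ⟨i, rfl⟩)⟩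
  have e2 := finrank_cotangentSpace_add (Ideal.Quotient.mk G) N rfl
    (fun y => by
      obtain ⟨x, rfl⟩ := Ideal.Quotient.mk_surjective y
      exact ⟨x, by rw [sub_self]; exact zero_mem _⟩)
    ug
    (fun i => by
      rw [Ideal.Quotient.eq_zero_iff_mem.mpr (Ideal.subset_span ⟨i, rfl⟩ : (ug i : P) ∈ G)]
      exact zero_mem _)
    (fun x hx h => by
      rw [← Ideal.map_comap_of_surjective (Ideal.Quotient.mk G) Ideal.Quotient.mk_surjective (maximalIdeal B),
        ← Ideal.map_pow, ← Ideal.mem_comap,
        Ideal.comap_map_of_surjective' _ Ideal.Quotient.mk_surjective, Ideal.mk_ker] at h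
      exact h)
  rw [← e1] at e2
  -- independence of the relations
  have hiff : LinearIndependent L (fun i => N.toCotangent (ug i)) ↔
      LinearIndependent K (fun i => (1 : K) ⊗ₜ[A] KaehlerDifferential.D ℤ A (f i)) := by
    constructor
    · intro hg
      haveI : CharP P p := inferInstance
      obtain ⟨DP, hDP⟩ := exists_derivation_cotangent p N
      let d : Derivation ℤ A N.Cotangent := DP.compAlgebraMap A
      let Ψ : K ⊗[A] Ω[A⁄ℤ] →ₗ[K] N.Cotangent := d.liftKaehlerDifferential.liftBaseChange K
      refine LinearIndependent.of_comp (-Ψ) ?_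
      have : (⇑(-Ψ) ∘ fun i => (1 : K) ⊗ₜ[A] KaehlerDifferential.D ℤ A (f i)) = fun i => N.toCotangent (ug i) := by
        funext i
        show -((1 : K) • d.liftKaehlerDifferential (KaehlerDifferential.D ℤ A (f i))) = _
        rw [one_smul, Derivation.liftKaehlerDifferential_comp_D]
        show -DP (C (f i)) = _
        rw [← hDP (ug i)]
        show -DP (C (f i)) = DP (X i ^ p - C (f i))
        rw [map_sub, Derivation.leibniz_pow, ← Nat.cast_smul_eq_nsmul P p,
          show (p : P) = 0 from CharP.cast_eq_zero P p, zero_smul, zero_sub]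
      rw [this]
      exact hg.restrict_scalars' K
    · intro hd
      obtain ⟨h, hh⟩ := (Fintype.linearCombination K fun i => (1 : K) ⊗ₜ[A] KaehlerDifferential.D ℤ A (f i)).exists_leftInverse_of_injective
        (LinearMap.ker_eq_bot.mpr hd.fintypeLinearCombination_injective)
      let hL : K ⊗[A] Ω[A⁄ℤ] →ₗ[K] (Fin r → L) :=
        (LinearMap.pi fun i => (Algebra.linearMap K L) ∘ₗ LinearMap.proj i) ∘ₗ h
      let c : Derivation ℤ A (Fin r → L) :=
        ((hL.restrictScalars A) ∘ₗ TensorProduct.mk A K Ω[A⁄ℤ] 1).compDer (KaehlerDifferential.D ℤ A)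
      obtain ⟨Θg, -, hΘg⟩ := exists_cotangent_linearMap N c
      refine LinearIndependent.of_comp (-Θg) ?_
      have : (⇑(-Θg) ∘ fun i => N.toCotangent (ug i)) = fun i => Pi.basisFun L (Fin r) i := by
        funext i
        show -Θg (N.toCotangent ⟨X i ^ p - C (f i), _⟩) = _
        rw [hΘg i p hp0, neg_neg]
        show hL ((1 : K) ⊗ₜ[A] KaehlerDifferential.D ℤ A (f i)) = _
        have h1 : h ((1 : K) ⊗ₜ[A] KaehlerDifferential.D ℤ A (f i)) = Pi.single i 1 := by
          have := LinearMap.congr_fun hh (Pi.single i 1)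
          rwa [LinearMap.comp_apply, Fintype.linearCombination_apply_single, one_smul] at this
        funext k
        show algebraMap K L (h _ k) = _
        rw [h1, Pi.basisFun_apply, Pi.single_apply, Pi.single_apply]
        split_ifs <;> simp
      rw [this]
      exact (Pi.basisFun L (Fin r)).linearIndependent
  rw [← hiff, linearIndependent_iff_card_eq_finrank_span, Fintype.card_fin]
  have key : ∀ a c d r : ℕ, c + d = r + a → (a = c ↔ r = d) := by omega
  exact key _ _ _ _ e2


/-- Let A be an Artinian local ring of characteristic p > 0 with maximal ideal m of square zero and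
residue field K, f_1, …, f_r ∈ A, and B = A[T_1, …, T_r]/(T_1^p − f_1, …, T_r^p − f_r). Then B is
local, and dim_K m = dim_{K'}(m'/m'²) (m', K' the maximal ideal and residue field of B) if and only
if the d f_i ⊗ 1 are linearly independent in Ω_A ⊗_A K. -/
theorem result {A : Type u} [CommRing A]
    [IsArtinianRing A] [IsLocalRing A] (hm : maximalIdeal A ^ 2 = ⊥) (p : ℕ) [Fact p.Prime] [CharP A p]
    {r : ℕ} (f : Fin r → A) :
    let B := MvPolynomial (Fin r) A ⧸ Ideal.span (Set.range fun i => MvPolynomial.X i ^ p - MvPolynomial.C (f i))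
    ∃ _ : IsLocalRing B,
      (Module.finrank (ResidueField A) (CotangentSpace A) = Module.finrank (ResidueField B) (CotangentSpace B) ↔
        LinearIndependent (ResidueField A) (fun i => (1 : ResidueField A) ⊗ₜ[A] KaehlerDifferential.D ℤ A (f i))) := by
  intro B
  haveI h : IsLocalRing B := isLocalRing_quotient hm p f
  exact ⟨h, main hm p f⟩

end Groth.Agent.S4595
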