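import Groth.Statements.S2473
import Groth.Agent.S4595
import Groth.Agent.EGA41Two.MonicVarsRegular
import Groth.Agent.EGA41Two.RegularLift
import Mathlib.RingTheory.HopkinsLevitzki
import Mathlib.Tactic
-- import your own Groth.Agent.* helpers here

set_option autoImplicit false
universe u
open EGA41

namespace Groth.Agent.S2473

section Helpers

open IsLocalRing TensorProduct

/-- A surjection of local rings with kernel in `m²` preserves the embedding dimension. -/
theorem finrank_cotangentSpace_of_surjective {R S : Type u} [CommRing R] [IsLocalRing R] [IsNoetherianRing R]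
    [CommRing S] [IsLocalRing S] (φ : R →+* S) (hφ : Function.Surjective φ)
    (hk : RingHom.ker φ ≤ maximalIdeal R ^ 2) :
    Module.finrank (ResidueField S) (CotangentSpace S) = Module.finrank (ResidueField R) (CotangentSpace R) := by
  classical
  have : IsLocalHom φ := IsLocalHom.of_surjective φ hφ
  have hN : (maximalIdeal S).comap φ = maximalIdeal R := ((local_hom_TFAE φ).out 0 4 rfl rfl).mp ‹_›
  have h := Groth.EGA41Two.EmbDim.finrank_cotangentSpace_add φ (maximalIdeal R) hN
    (fun y => by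
      obtain ⟨x, rfl⟩ := hφ y
      exact ⟨x, by rw [sub_self]; exact zero_mem _⟩)
    (m := 0) Fin.elim0 (fun j => j.elim0)
    (fun x _ hx => by
      rw [← Ideal.map_comap_of_surjective φ hφ (maximalIdeal S), hN, ← Ideal.map_pow, ← Ideal.mem_comap,
        Ideal.comap_map_of_surjective' φ hφ, sup_eq_left.mpr hk] at hx
      exact Ideal.mem_sup_left hx)
  have h0 : Submodule.span (R ⧸ maximalIdeal R)
      (Set.range fun j : Fin 0 => (maximalIdeal R).toCotangent (Fin.elim0 j)) = ⊥ := by
    rw [Submodule.span_eq_bot]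
    rintro x ⟨j, -⟩
    exact j.elim0
  rw [h0, finrank_bot, add_zero] at h
  exact h

theorem isRegularRing_iff_local (B : Type u) [CommRing B] [IsLocalRing B] [IsNoetherianRing B] :
    IsRegularRing B ↔ IsRegularLocalRing B := by
  refine ⟨fun h => IsRegularLocalRing.of_isRegularRing_of_isLocalRing B, fun h => ?_⟩
  refine Groth.EGA41Two.isRegularRing_of_forall_maximal fun M hM => ?_
  obtain rfl := IsLocalRing.eq_maximalIdeal hM
  exact IsRegularLocalRing.of_ringEquiv (IsLocalization.atUnits B (maximalIdeal B).primeCompl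
    (S := Localization.AtPrime (maximalIdeal B)) (fun x => by simpa using! fun a => a)).toRingEquiv

/-- Transfer of independence of differentials to `A ⧸ m²`. -/
theorem indep_transfer {A : Type u} [CommRing A] [IsLocalRing A] [IsLocalRing (A ⧸ maximalIdeal A ^ 2)]
    {r : ℕ} (f : Fin r → A) :
    LinearIndependent (ResidueField A) (fun i => (1 : ResidueField A) ⊗ₜ[A] KaehlerDifferential.D ℤ A (f i)) ↔
      LinearIndependent (ResidueField (A ⧸ maximalIdeal A ^ 2)) (fun i =>
        (1 : ResidueField (A ⧸ maximalIdeal A ^ 2)) ⊗ₜ[A ⧸ maximalIdeal A ^ 2]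
          KaehlerDifferential.D ℤ (A ⧸ maximalIdeal A ^ 2) (Ideal.Quotient.mk (maximalIdeal A ^ 2) (f i))) := by
  classical
  set m := maximalIdeal A
  let π := Ideal.Quotient.mk (m ^ 2)
  let f₀ : Fin r → A ⧸ m ^ 2 := fun i => π (f i)
  have : IsLocalHom π := IsLocalHom.of_surjective π Ideal.Quotient.mk_surjective
  let K₀ := ResidueField (A ⧸ m ^ 2)
  let e : ResidueField A →+* K₀ := ResidueField.map π
  have he : Function.Surjective e := fun z => by
    obtain ⟨y, rfl⟩ := residue_surjective z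
    obtain ⟨x, rfl⟩ := Ideal.Quotient.mk_surjective y
    exact ⟨residue A x, ResidueField.map_residue _ _⟩
  have hej : Function.Bijective e := ⟨e.injective, he⟩
  let eK := RingEquiv.ofBijective e hej
  -- forward
  let dA : Derivation ℤ A (K₀ ⊗[A ⧸ m ^ 2] Ω[(A ⧸ m ^ 2)⁄ℤ]) :=
    Derivation.mk' (AddMonoidHom.toIntLinearMap (AddMonoidHom.mk'
      (fun a => (1 : K₀) ⊗ₜ[A ⧸ m ^ 2] KaehlerDifferential.D ℤ (A ⧸ m ^ 2) (π a))
      (fun a b => by rw [map_add, map_add, tmul_add])))
      (fun a b => by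
        show (1 : K₀) ⊗ₜ[A ⧸ m ^ 2] KaehlerDifferential.D ℤ (A ⧸ m ^ 2) (π (a * b)) = _
        rw [map_mul, (KaehlerDifferential.D ℤ (A ⧸ m ^ 2)).leibniz, tmul_add, tmul_smul, tmul_smul]
        rfl)
  let Φ : ResidueField A ⊗[A] Ω[A⁄ℤ] →+ K₀ ⊗[A ⧸ m ^ 2] Ω[(A ⧸ m ^ 2)⁄ℤ] :=
    TensorProduct.liftAddHom
      (AddMonoidHom.mk' (fun c => AddMonoidHom.mk' (fun w => e c • dA.liftKaehlerDifferential w)
        (fun w w' => by rw [map_add, smul_add]))
        (fun c c' => AddMonoidHom.ext fun w => by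
          simp only [AddMonoidHom.mk'_apply, AddMonoidHom.add_apply, map_add, add_smul]))
      (fun a c w => by
        show e (a • c) • dA.liftKaehlerDifferential w = e c • dA.liftKaehlerDifferential (a • w)
        rw [Algebra.smul_def, map_mul, mul_smul, map_smul, smul_comm (e c) a, ← algebraMap_smul K₀ a]
        show e (residue A a) • _ = _
        rw [ResidueField.map_residue]
        rfl)
  -- backward
  have hDsq : ∀ x ∈ m ^ 2, (1 : ResidueField A) ⊗ₜ[A] KaehlerDifferential.D ℤ A x = 0 := by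
    intro x hx
    rw [pow_two] at hx
    refine Submodule.mul_induction_on hx (fun a ha b hb => ?_)
      (fun a b ha hb => by rw [map_add, tmul_add, ha, hb, add_zero])
    rw [(KaehlerDifferential.D ℤ A).leibniz, tmul_add, tmul_smul, tmul_smul, smul_tmul', smul_tmul',
      Algebra.smul_def, Algebra.smul_def, ResidueField.algebraMap_eq, (residue_eq_zero_iff a).mpr ha,
      (residue_eq_zero_iff b).mpr hb, zero_mul, zero_tmul, zero_tmul, zero_add]
  let _ : Module (A ⧸ m ^ 2) (ResidueField A ⊗[A] Ω[A⁄ℤ]) :=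
    Module.compHom _ (eK.symm.toRingHom.comp (residue (A ⧸ m ^ 2)))
  have hact : ∀ (a : A) (v : ResidueField A ⊗[A] Ω[A⁄ℤ]), π a • v = a • v := fun a v => by
    show eK.symm (residue (A ⧸ m ^ 2) (π a)) • v = a • v
    rw [show eK.symm (residue (A ⧸ m ^ 2) (π a)) = residue A a from eK.symm_apply_eq.mpr (ResidueField.map_residue π a).symm,
      ← ResidueField.algebraMap_eq, algebraMap_smul]
  have hex : ∀ y : A ⧸ m ^ 2, ∃ v, ∀ a, π a = y → (1 : ResidueField A) ⊗ₜ[A] KaehlerDifferential.D ℤ A a = v := by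
    intro y
    obtain ⟨a, rfl⟩ := Ideal.Quotient.mk_surjective y
    refine ⟨(1 : ResidueField A) ⊗ₜ[A] KaehlerDifferential.D ℤ A a, fun a' ha' => ?_⟩
    rw [← sub_eq_zero, ← tmul_sub, ← map_sub]
    exact hDsq _ (Ideal.Quotient.eq.mp ha')
  choose δ hδ using hex
  let dA₀ : Derivation ℤ (A ⧸ m ^ 2) (ResidueField A ⊗[A] Ω[A⁄ℤ]) :=
    Derivation.mk' (AddMonoidHom.toIntLinearMap (AddMonoidHom.mk' δ (fun y z => by
      obtain ⟨a, rfl⟩ := Ideal.Quotient.mk_surjective y
      obtain ⟨b, rfl⟩ := Ideal.Quotient.mk_surjective z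
      rw [← hδ _ (a + b) (map_add _ _ _), ← hδ _ a rfl, ← hδ _ b rfl, map_add, tmul_add])))
      (fun y z => by
        obtain ⟨a, rfl⟩ := Ideal.Quotient.mk_surjective y
        obtain ⟨b, rfl⟩ := Ideal.Quotient.mk_surjective z
        show δ (π a * π b) = π a • δ (π b) + π b • δ (π a)
        rw [hact, hact, ← hδ _ (a * b) (map_mul _ _ _), ← hδ _ a rfl, ← hδ _ b rfl,
          (KaehlerDifferential.D ℤ A).leibniz, tmul_add, tmul_smul, tmul_smul])
  let Ψ : K₀ ⊗[A ⧸ m ^ 2] Ω[(A ⧸ m ^ 2)⁄ℤ] →+ ResidueField A ⊗[A] Ω[A⁄ℤ] :=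
    TensorProduct.liftAddHom
      (AddMonoidHom.mk' (fun c => AddMonoidHom.mk' (fun w => eK.symm c • dA₀.liftKaehlerDifferential w)
        (fun w w' => by rw [map_add, smul_add]))
        (fun c c' => AddMonoidHom.ext fun w => by
          simp only [AddMonoidHom.mk'_apply, AddMonoidHom.add_apply, map_add, add_smul]))
      (fun a c w => by
        show eK.symm (a • c) • dA₀.liftKaehlerDifferential w = eK.symm c • dA₀.liftKaehlerDifferential (a • w)
        rw [Algebra.smul_def, map_mul, mul_comm, mul_smul, map_smul]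
        rfl)
  have hΦ : ∀ i, Φ ((1 : ResidueField A) ⊗ₜ[A] KaehlerDifferential.D ℤ A (f i)) =
      (1 : K₀) ⊗ₜ[A ⧸ m ^ 2] KaehlerDifferential.D ℤ (A ⧸ m ^ 2) (f₀ i) := fun i => by
    show e 1 • dA.liftKaehlerDifferential (KaehlerDifferential.D ℤ A (f i)) = _
    rw [map_one, one_smul, Derivation.liftKaehlerDifferential_comp_D]
    rfl
  have hΨ : ∀ i, Ψ ((1 : K₀) ⊗ₜ[A ⧸ m ^ 2] KaehlerDifferential.D ℤ (A ⧸ m ^ 2) (f₀ i)) =
      (1 : ResidueField A) ⊗ₜ[A] KaehlerDifferential.D ℤ A (f i) := fun i => by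
    show eK.symm 1 • dA₀.liftKaehlerDifferential (KaehlerDifferential.D ℤ (A ⧸ m ^ 2) (f₀ i)) = _
    rw [map_one, one_smul, Derivation.liftKaehlerDifferential_comp_D]
    exact (hδ _ (f i) rfl).symm
  have hΦs : ∀ (c : ResidueField A) v, Φ (c • v) = e c • Φ v := fun c v => by
    induction v using TensorProduct.induction_on with
    | zero => simp
    | add v w hv hw => rw [smul_add, map_add, hv, hw, map_add, smul_add]
    | tmul d w =>
      show e (c * d) • dA.liftKaehlerDifferential w = e c • e d • dA.liftKaehlerDifferential w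
      rw [map_mul, mul_smul]
  have hΨs : ∀ (c : K₀) v, Ψ (c • v) = eK.symm c • Ψ v := fun c v => by
    induction v using TensorProduct.induction_on with
    | zero => simp
    | add v w hv hw => rw [smul_add, map_add, hv, hw, map_add, smul_add]
    | tmul d w =>
      show eK.symm (c * d) • dA₀.liftKaehlerDifferential w = eK.symm c • eK.symm d • dA₀.liftKaehlerDifferential w
      rw [map_mul, mul_smul]
  rw [Fintype.linearIndependent_iff, Fintype.linearIndependent_iff]
  constructor
  · intro h c hc i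
    have h1 := h (fun i => eK.symm (c i)) (by
      refine Eq.trans ?_ ((congrArg Ψ hc).trans (map_zero Ψ))
      refine Eq.trans ?_ (map_sum Ψ _ _).symm
      exact Finset.sum_congr rfl fun j _ => ((congrArg _ (hΨ j).symm).trans (hΨs _ _).symm)) i
    exact eK.symm.injective (by simpa using h1)
  · intro h c hc i
    have h1 := h (fun i => e (c i)) (by
      refine Eq.trans ?_ ((congrArg Φ hc).trans (map_zero Φ))
      refine Eq.trans ?_ (map_sum Φ _ _).symm
      exact Finset.sum_congr rfl fun j _ => ((congrArg _ (hΦ j).symm).trans (hΦs _ _).symm)) i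
    exact e.injective (by simpa using h1)

/-- The local comparison, over abstract quotients. -/
theorem regular_iff_core {A : Type u} [CommRing A] [IsRegularLocalRing A] {P Q : Type u} [CommRing P]
    [IsNoetherianRing P] [CommRing Q] (I : Ideal P) (J : Ideal Q) [IsLocalRing (P ⧸ I)] [IsLocalRing (Q ⧸ J)]
    [IsLocalRing (A ⧸ maximalIdeal A ^ 2)]
    (φ : P ⧸ I →+* Q ⧸ J) (hφ : Function.Surjective φ) (hk : RingHom.ker φ ≤ maximalIdeal (P ⧸ I) ^ 2)
    (hdim : ringKrullDim A = ringKrullDim (P ⧸ I)) :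
    IsRegularRing (P ⧸ I) ↔ Module.finrank (ResidueField (A ⧸ maximalIdeal A ^ 2))
        (CotangentSpace (A ⧸ maximalIdeal A ^ 2)) =
      Module.finrank (ResidueField (Q ⧸ J)) (CotangentSpace (Q ⧸ J)) := by
  have e1 := finrank_cotangentSpace_of_surjective φ hφ hk
  have e2 := finrank_cotangentSpace_of_surjective (Ideal.Quotient.mk (maximalIdeal A ^ 2))
    Ideal.Quotient.mk_surjective (Ideal.mk_ker).le
  have hA := (IsRegularLocalRing.iff_finrank_cotangentSpace A).mp ‹_›
  rw [isRegularRing_iff_local, IsRegularLocalRing.iff_finrank_cotangentSpace, ← hdim, ← hA,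
    ← e1, ← e2, Nat.cast_inj, eq_comm]

/-- Everything, for monic equations. -/
theorem main {A : Type u} [CommRing A] [IsRegularLocalRing A] (p : ℕ) [Fact p.Prime]
    [CharP (ResidueField A) p] {r : ℕ} (f : Fin r → A) (hp : (p : A) ∈ maximalIdeal A ^ 2)
    (G : Fin r → Polynomial A) (hmon : ∀ i, (G i).Monic) (hdeg : ∀ i, 0 < (G i).natDegree)
    (hF : ∀ i, MvPolynomial.map (Ideal.Quotient.mk (maximalIdeal A ^ 2))
        (Polynomial.aeval (MvPolynomial.X i : MvPolynomial (Fin r) A) (G i)) =
      MvPolynomial.X i ^ p - MvPolynomial.C (Ideal.Quotient.mk (maximalIdeal A ^ 2) (f i))) :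
    IsLocalRing (MvPolynomial (Fin r) A ⧸ Groth.EGA41Two.MonicVars.finIdeal G) ∧
      (IsRegularRing (MvPolynomial (Fin r) A ⧸ Groth.EGA41Two.MonicVars.finIdeal G) ↔
        LinearIndependent (ResidueField A) (fun i => (1 : ResidueField A) ⊗ₜ[A] KaehlerDifferential.D ℤ A (f i))) := by
  classical
  set m := maximalIdeal A
  let π := Ideal.Quotient.mk (m ^ 2)
  have hm2 : m ^ 2 ≤ m := Ideal.pow_le_self two_ne_zero
  have : Nontrivial (A ⧸ m ^ 2) := Ideal.Quotient.nontrivial_iff.mpr
    (fun h => (maximalIdeal.isMaximal A).ne_top (top_le_iff.mp (h ▸ hm2)))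
  have : IsLocalRing (A ⧸ m ^ 2) := IsLocalRing.of_surjective' π Ideal.Quotient.mk_surjective
  have hmax0 : maximalIdeal (A ⧸ m ^ 2) = m.map π :=
    (IsLocalRing.map_maximalIdeal_of_surjective π Ideal.Quotient.mk_surjective).symm
  have hsq : maximalIdeal (A ⧸ m ^ 2) ^ 2 = ⊥ := by
    rw [hmax0, ← Ideal.map_pow, Ideal.map_quotient_self]
  have : IsArtinianRing (A ⧸ m ^ 2) :=
    (isArtinianRing_iff_isNilpotent_maximalIdeal _).mpr ⟨2, hsq⟩
  have : CharP (A ⧸ m ^ 2) p := by
    refine (CharP.charP_iff_prime_eq_zero Fact.out).mpr ?_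
    rw [← map_natCast π, Ideal.Quotient.eq_zero_iff_mem]
    exact hp
  let f₀ : Fin r → A ⧸ m ^ 2 := fun i => π (f i)
  obtain ⟨hloc₀, hiff₀⟩ := Groth.Agent.S4595.result hsq p f₀
  set I₀ := Ideal.span (Set.range fun i => MvPolynomial.X i ^ p - MvPolynomial.C (f₀ i))
  set I := Groth.EGA41Two.MonicVars.finIdeal G
  -- the reduction map
  let q : MvPolynomial (Fin r) A →+* MvPolynomial (Fin r) (A ⧸ m ^ 2) := MvPolynomial.map π
  have hq : Function.Surjective q := MvPolynomial.map_surjective _ Ideal.Quotient.mk_surjective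
  have hqI : I.map q = I₀ := by
    rw [show I = Ideal.span _ from rfl, Ideal.map_span, ← Set.range_comp]
    exact congrArg (fun F => Ideal.span (Set.range F)) (funext hF)
  let φ : MvPolynomial (Fin r) A ⧸ I →+* MvPolynomial (Fin r) (A ⧸ m ^ 2) ⧸ I₀ :=
    Ideal.quotientMap I₀ q (Ideal.map_le_iff_le_comap.mp hqI.le)
  have hφ : Function.Surjective φ := Ideal.quotientMap_surjective hq
  have hkφ : RingHom.ker φ ≤ (m ^ 2).map (algebraMap A (MvPolynomial (Fin r) A ⧸ I)) := by
    intro x hx
    obtain ⟨x, rfl⟩ := Ideal.Quotient.mk_surjective x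
    have hx' : x ∈ I ⊔ RingHom.ker q := by
      rw [← Ideal.comap_map_of_surjective' q hq, Ideal.mem_comap, hqI]
      exact Ideal.Quotient.eq_zero_iff_mem.mp hx
    obtain ⟨a, ha, b, hb, rfl⟩ := Submodule.mem_sup.mp hx'
    rw [map_add, Ideal.Quotient.eq_zero_iff_mem.mpr ha, zero_add]
    have hb' : b ∈ (m ^ 2).map MvPolynomial.C := by
      have := hb
      rwa [MvPolynomial.ker_map, Ideal.mk_ker] at this
    have := Ideal.mem_map_of_mem (Ideal.Quotient.mk I) hb'
    rw [Ideal.map_map] at this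
    exact this
  have hint := Groth.EGA41Two.MonicVars.integral G hmon
  have hjac : ∀ M : Ideal (MvPolynomial (Fin r) A ⧸ I), M.IsMaximal →
      m.map (algebraMap A (MvPolynomial (Fin r) A ⧸ I)) ≤ M := by
    intro M hM
    rw [Ideal.map_le_iff_le_comap]
    exact (IsLocalRing.eq_maximalIdeal (Ideal.isMaximal_comap_of_isIntegral_of_isMaximal M)).ge
  have hkM : ∀ M : Ideal (MvPolynomial (Fin r) A ⧸ I), M.IsMaximal → RingHom.ker φ ≤ M :=
    fun M hM => hkφ.trans ((Ideal.map_mono hm2).trans (hjac M hM))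
  have hne : Nontrivial (MvPolynomial (Fin r) A ⧸ I) := φ.domain_nontrivial
  have hlocB : IsLocalRing (MvPolynomial (Fin r) A ⧸ I) := by
    obtain ⟨M, hM⟩ := Ideal.exists_maximal (MvPolynomial (Fin r) A ⧸ I)
    refine IsLocalRing.of_unique_max_ideal ⟨M, hM, fun M' hM' => ?_⟩
    have key : ∀ N : Ideal (MvPolynomial (Fin r) A ⧸ I), N.IsMaximal →
        N = (maximalIdeal (MvPolynomial (Fin r) (A ⧸ m ^ 2) ⧸ I₀)).comap φ := by
      intro N hN
      have h1 : N.map φ ≠ ⊤ := fun h => hN.ne_top (by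
        rw [← sup_eq_left.mpr (hkM N hN), ← Ideal.comap_map_of_surjective' φ hφ, h, Ideal.comap_top])
      exact hN.eq_of_le (Ideal.comap_ne_top φ (maximalIdeal.isMaximal _).ne_top)
        (Ideal.map_le_iff_le_comap.mp (IsLocalRing.le_maximalIdeal h1))
    rw [key M hM, key M' hM']
  refine ⟨hlocB, ?_⟩
  -- dimension
  obtain ⟨hfree, hrank⟩ := Groth.EGA41Two.MonicVars.free_finrank G hmon
  have hdim : ringKrullDim A = ringKrullDim (MvPolynomial (Fin r) A ⧸ I) :=
    Groth.EGA41Two.ringKrullDim_eq_of_isIntegral_of_injective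
      (Groth.EGA41Two.MonicVars.algebraMap_injective G hmon hdeg)
  have hk2 : RingHom.ker φ ≤ maximalIdeal (MvPolynomial (Fin r) A ⧸ I) ^ 2 := by
    refine hkφ.trans ?_
    rw [Ideal.map_pow]
    exact Ideal.pow_right_mono (hjac _ (maximalIdeal.isMaximal _)) 2
  exact ((regular_iff_core I I₀ φ hφ hk2 hdim).trans hiff₀).trans (indep_transfer f).symm

end Helpers

open IsLocalRing TensorProduct in
/-- Let A be a regular local ring whose residue field K has characteristic p > 0; for 1 ≤ i ≤ r let F_i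
= T_i^p + p Σ_{j=1}^{p-1} c_{ij} T_i^{p-j} − f_i with c_{ij}, f_i ∈ A, and let B be the quotient of
A[T_1, …, T_r] by the ideal generated by the F_i. Then B is a local ring, and B is regular if and
only if the elements d f_i ⊗ 1 of Ω_{A/ℤ} ⊗_A K are linearly independent over K. Assumed in
addition: p lies in the square of the maximal ideal of A (which covers the case where A has
characteristic p); the printed statement omits this, and the equivalence can fail for A absolutely
unramified, e.g. A = ℤ_(p), r = 1, f_1 = p. (Condition (c) of the source, on the characteristic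
homomorphism Ξ, is not stated.) -/
theorem result {A : Type u} [CommRing A] [IsRegularLocalRing A] (p : ℕ) [Fact p.Prime] [CharP (ResidueField A) p]
    {r : ℕ} (c : Fin r → Fin p → A) (f : Fin r → A)
    (hp : (p : A) ∈ maximalIdeal A ^ 2) :
    let F : Fin r → MvPolynomial (Fin r) A := fun i =>
      MvPolynomial.X i ^ p + (p : MvPolynomial (Fin r) A) * (Finset.univ.sum fun j : Fin p =>
        if (j : ℕ) = 0 then 0 else MvPolynomial.C (c i j) * MvPolynomial.X i ^ (p - (j : ℕ))) - MvPolynomial.C (f i)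
    IsLocalRing (MvPolynomial (Fin r) A ⧸ Ideal.span (Set.range F)) ∧
      (IsRegularRing (MvPolynomial (Fin r) A ⧸ Ideal.span (Set.range F)) ↔
        LinearIndependent (ResidueField A) (fun i => (1 : ResidueField A) ⊗ₜ[A] KaehlerDifferential.D ℤ A (f i))) := by
  classical
  intro F
  let G : Fin r → Polynomial A := fun i => Polynomial.X ^ p +
    (Polynomial.C (p : A) * (Finset.univ.sum fun j : Fin p =>
      if (j : ℕ) = 0 then 0 else Polynomial.C (c i j) * Polynomial.X ^ (p - (j : ℕ))) - Polynomial.C (f i))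
  have hlow : ∀ i, (Polynomial.C (p : A) * (Finset.univ.sum fun j : Fin p =>
      if (j : ℕ) = 0 then 0 else Polynomial.C (c i j) * Polynomial.X ^ (p - (j : ℕ))) -
      Polynomial.C (f i)).degree < (p : WithBot ℕ) := by
    intro i
    have hp0 := (Fact.out : p.Prime).pos
    refine lt_of_le_of_lt (Polynomial.degree_sub_le _ _) (max_lt ?_ ?_)
    · rw [Finset.mul_sum]
      refine lt_of_le_of_lt (Polynomial.degree_sum_le _ _) ((Finset.sup_lt_iff (WithBot.bot_lt_coe p)).mpr fun j _ => ?_)
      split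
      · rw [mul_zero, Polynomial.degree_zero]; exact WithBot.bot_lt_coe p
      · rw [← mul_assoc, ← map_mul]
        exact lt_of_le_of_lt (Polynomial.degree_C_mul_X_pow_le _ _) (WithBot.coe_lt_coe.mpr (show p - (j : ℕ) < p by omega))
    · exact lt_of_le_of_lt Polynomial.degree_C_le (WithBot.coe_lt_coe.mpr hp0)
  have hmon : ∀ i, (G i).Monic := fun i => Polynomial.monic_X_pow_add (hlow i)
  have hdeg : ∀ i, 0 < (G i).natDegree := fun i => by
    have : (G i).degree = p := by
      rw [Polynomial.degree_add_eq_left_of_degree_lt] <;> rw [Polynomial.degree_X_pow]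
      exact hlow i
    rw [Polynomial.natDegree_eq_of_degree_eq_some this]
    exact (Fact.out : p.Prime).pos
  have hG : ∀ i, Polynomial.aeval (MvPolynomial.X i : MvPolynomial (Fin r) A) (G i) = F i := by
    intro i
    simp only [G, F, map_add, map_sub, map_mul, map_pow, map_sum, Polynomial.aeval_X, Polynomial.aeval_C,
      apply_ite, map_zero, MvPolynomial.algebraMap_eq, map_natCast]
    ring
  have hI : Ideal.span (Set.range F) = Groth.EGA41Two.MonicVars.finIdeal G :=
    congrArg (fun F => Ideal.span (Set.range F)) (funext fun i => (hG i).symm)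
  rw [hI]
  refine main p f hp G hmon hdeg fun i => ?_
  rw [hG]
  have h0 : ((p : ℕ) : A ⧸ maximalIdeal A ^ 2) = 0 := by
    rw [← map_natCast (Ideal.Quotient.mk (maximalIdeal A ^ 2)), Ideal.Quotient.eq_zero_iff_mem]
    exact hp
  simp only [F, map_sub, map_add, map_mul, map_pow, MvPolynomial.map_X, MvPolynomial.map_C, map_natCast]
  rw [← map_natCast (MvPolynomial.C : (A ⧸ maximalIdeal A ^ 2) →+* MvPolynomial (Fin r) (A ⧸ maximalIdeal A ^ 2)),
    h0, map_zero, zero_mul, add_zero]

end Groth.Agent.S2473
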