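import Groth.Statements.S4785
import Groth.Agent.Limits.Stalk

set_option autoImplicit false
universe u
open CategoryTheory AlgebraicGeometry
open Lim8

namespace Groth.Agent.S4785

/-- Let S = lim S_i be a cofiltered limit of schemes whose transition maps are open immersions, so that
each S_j with j over i is an open subscheme of S_i. Then, for every index i, the projection S ⟶ S_i
is a topological embedding and every stalk map O_{S_i, π(s)} ⟶ O_{S, s} is an isomorphism; that is,
S is the subspace ⋂_j S_j of S_i with the induced structure sheaf. -/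
theorem result {I : Type u} [SmallCategory I] [IsCofiltered I]
    (D : I ⥤ Scheme.{u}) (c : Limits.Cone D) (hc : Limits.IsLimit c)
    [∀ (i j : I) (f : i ⟶ j), IsAffineHom (D.map f)]
    (hoi : ∀ (i j : I) (φ : i ⟶ j), IsOpenImmersion (D.map φ)) (i : I) :
    Topology.IsEmbedding ⇑(c.π.app i) ∧ ∀ s : c.pt, IsIso ((c.π.app i).stalkMap s) := by
  have hbasis : ∀ (x : c.pt) (U : c.pt.Opens), x ∈ U →
      ∃ O : (D.obj i).Opens, x ∈ c.π.app i ⁻¹ᵁ O ∧ c.π.app i ⁻¹ᵁ O ≤ U := by
    intro x U hxU
    obtain ⟨_, ⟨k, V, -, rfl⟩, hxV, hVU⟩ :=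
      TopologicalSpace.Opens.isBasis_iff_nbhd.mp (isBasis_preimage_isAffineOpen D c hc) hxU
    let m := IsCofiltered.min k i
    let f := IsCofiltered.minToLeft k i
    let g := IsCofiltered.minToRight k i
    have := hoi m i g
    refine ⟨D.map g ''ᵁ (D.map f ⁻¹ᵁ V), ⟨c.π.app m x, ?_, Groth.Limits.π_map_apply D c g x⟩, ?_⟩
    · show D.map f (c.π.app m x) ∈ V
      rw [Groth.Limits.π_map_apply D c f]
      exact hxV
    · rintro y ⟨z, hz, hzy⟩
      refine hVU ?_
      have : z = c.π.app m y :=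
        (D.map g).isOpenEmbedding.injective (hzy.trans (Groth.Limits.π_map_apply D c g y).symm)
      subst this
      have hz' : D.map f (c.π.app m y) ∈ V := hz
      rw [Groth.Limits.π_map_apply D c f] at hz'
      exact hz'
  have hind : Topology.IsInducing ⇑(c.π.app i) := by
    refine Topology.isInducing_iff_nhds.mpr fun x ↦
      le_antisymm ((c.π.app i).continuous.tendsto x).le_comap fun S hS ↦ ?_
    obtain ⟨U, hUS, hU, hxU⟩ := mem_nhds_iff.mp hS
    obtain ⟨O, hxO, hOU⟩ := hbasis x ⟨U, hU⟩ hxU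
    exact Filter.mem_comap.mpr ⟨O, O.isOpen.mem_nhds hxO, fun y hy ↦ hUS (hOU hy)⟩
  refine ⟨hind.isEmbedding, fun s ↦ ?_⟩
  have hT {j : I} (φ : j ⟶ i) : Function.Bijective (Groth.Limits.stalkTrans D c φ s) := by
    have := hoi j i φ
    have : IsIso (Groth.Limits.stalkTrans D c φ s) := by
      rw [Groth.Limits.stalkTrans]; infer_instance
    exact (ConcreteCategory.isIso_iff_bijective _).mp this
  refine (ConcreteCategory.isIso_iff_bijective _).mpr ⟨?_, fun a ↦ ?_⟩
  · rw [injective_iff_map_eq_zero]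
    intro a ha
    obtain ⟨j, φ, hj⟩ := Groth.Limits.exists_stalkMap_eq_zero D c hc s a ha
    exact (hT φ).1 ((show Groth.Limits.stalkTrans D c φ s a = 0 from hj).trans (map_zero _).symm)
  · obtain ⟨j, φ, b, rfl⟩ := Groth.Limits.exists_stalkMap_eq D c hc i s a
    obtain ⟨b', rfl⟩ := (hT φ).2 b
    exact ⟨b', congr($(Groth.Limits.stalkTrans_π D c φ s) b').symm⟩

end Groth.Agent.S4785
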