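import Groth.Statements.S8586
import Mathlib

set_option autoImplicit false
universe u
open CAlg

namespace Groth.Agent.S8586
/-- Systems of parameters. -/
def IsSop {A : Type u} [CommRing A] [IsLocalRing A] {d : ℕ} (w : Fin d → A) : Prop :=
  (∀ i, w i ∈ IsLocalRing.maximalIdeal A) ∧
    IsLocalRing.maximalIdeal A ≤ (Ideal.span (Set.range w)).radical

/-- Two systems differing in one coordinate. -/
def Adj {A : Type u} [CommRing A] [IsLocalRing A] {d : ℕ} (a b : {w : Fin d → A // IsSop w}) : Prop :=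
  ∃ i : Fin d, ∀ i', i' ≠ i → a.1 i' = b.1 i'

theorem chain_of_reflTransGen {α : Type*} {r : α → α → Prop} {a b : α} (h : Relation.ReflTransGen r a b) :
    ∃ (m : ℕ) (W : Fin (m + 1) → α), W 0 = a ∧ W (Fin.last m) = b ∧ ∀ k : Fin m, r (W k.castSucc) (W k.succ) := by
  induction h using Relation.ReflTransGen.head_induction_on with
  | refl => exact ⟨0, fun _ => b, rfl, rfl, fun k => k.elim0⟩
  | head hr _ ih =>
    obtain ⟨m, W, h0, h1, h⟩ := ih
    refine ⟨m + 1, Fin.cons _ W, Fin.cons_zero _ _, by rw [← Fin.succ_last, Fin.cons_succ, h1], Fin.cases ?_ fun k => ?_⟩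
    · simpa [h0] using hr
    · simpa [← Fin.succ_castSucc] using h k

theorem range_update {A : Type*} {d : ℕ} (u : Fin d → A) (k : Fin d) (w : A) :
    Set.range (Function.update u k w) = insert w (u '' {k}ᶜ) := by
  ext x
  constructor
  · rintro ⟨i, rfl⟩
    rcases eq_or_ne i k with rfl | hi
    · simp
    · exact Or.inr ⟨i, hi, by simp [Function.update_of_ne hi]⟩
  · rintro (rfl | ⟨i, hi, rfl⟩)
    · exact ⟨k, by simp⟩
    · exact ⟨i, Function.update_of_ne hi _ _⟩

theorem isSop_update {A : Type u} [CommRing A] [IsLocalRing A] [IsNoetherianRing A] {d : ℕ}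
    (x : Fin d → A) (hx : IsSop x) (k : Fin d) (w : A) (hwm : w ∈ IsLocalRing.maximalIdeal A)
    (hw : ∀ P ∈ (Ideal.span (x '' {k}ᶜ)).minimalPrimes, w ∉ P) : IsSop (Function.update x k w) := by
  refine ⟨fun i => ?_, ?_⟩
  · rcases eq_or_ne i k with rfl | hi
    · simpa
    · rw [Function.update_of_ne hi]; exact hx.1 i
  rw [range_update, Ideal.radical_eq_sInf]
  refine le_sInf ?_
  rintro Q ⟨hQ, hQp⟩
  rw [Ideal.span_insert, sup_le_iff, Ideal.span_singleton_le_iff_mem] at hQ
  obtain ⟨P, hP, hPQ⟩ := Ideal.exists_minimalPrimes_le hQ.2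
  set m := IsLocalRing.maximalIdeal A
  set J := Ideal.span (x '' {k}ᶜ)
  have hlt : P < Q := lt_of_le_of_ne hPQ fun h => hw P hP (h ▸ hQ.1)
  by_contra hQm
  have hQlt : Q < m := lt_of_le_of_ne (IsLocalRing.le_maximalIdeal hQp.ne_top) fun h => hQm h.ge
  have hJm : J ≤ m := Ideal.span_le.2 (by rintro _ ⟨i, -, rfl⟩; exact hx.1 i)
  have hmin : m ∈ (J ⊔ Ideal.span {x k}).minimalPrimes := by
    refine ⟨⟨inferInstance, sup_le hJm ((Ideal.span_singleton_le_iff_mem _).2 (hx.1 k))⟩, fun q hq _ => ?_⟩
    refine hx.2.trans (hq.1.radical_le_iff.2 (Ideal.span_le.2 ?_))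
    rintro _ ⟨i, rfl⟩
    rcases eq_or_ne i k with rfl | hi
    · exact hq.2 (Submodule.mem_sup_right (Ideal.mem_span_singleton_self _))
    · exact hq.2 (Submodule.mem_sup_left (Ideal.subset_span ⟨i, hi, rfl⟩))
  have h1 := Ideal.map_height_le_one_of_mem_minimalPrimes hmin
  set f := Ideal.Quotient.mk J
  have hker : ∀ R : Ideal A, J ≤ R → (R.map f).comap f = R := fun R hR => by
    rw [Ideal.comap_map_of_surjective _ Ideal.Quotient.mk_surjective, sup_eq_left,
      ← RingHom.ker_eq_comap_bot, Ideal.mk_ker]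
    exact hR
  have mono : ∀ R S : Ideal A, J ≤ R → R < S → R.map f < S.map f := fun R S hR hRS =>
    lt_of_le_of_ne (Ideal.map_mono hRS.le) fun h => hRS.ne (by rw [← hker R hR, h, hker S (hR.trans hRS.le)])
  have hPp : P.IsPrime := hP.isPrime
  have := Ideal.map_isPrime_of_surjective (f := f) Ideal.Quotient.mk_surjective
    (I := P) (by rw [Ideal.mk_ker]; exact hP.le)
  have := Ideal.map_isPrime_of_surjective (f := f) Ideal.Quotient.mk_surjective
    (I := Q) (by rw [Ideal.mk_ker]; exact hQ.2)
  have hmp : (m.map f).IsPrime := Ideal.map_isPrime_of_surjective (f := f) Ideal.Quotient.mk_surjective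
    (I := m) (by rw [Ideal.mk_ker]; exact hJm)
  have e1 := Ideal.height_strict_mono_of_isPrime (mono P Q hP.le hlt)
  have e2 := Ideal.height_strict_mono_of_isPrime (mono Q m hQ.2 hQlt)
  exact absurd (lt_of_le_of_lt bot_le e1) (not_lt.2 (ENat.lt_one_iff_eq_zero.1 (e2.trans_le h1)).le)

theorem exists_common {A : Type u} [CommRing A] [IsLocalRing A] [IsNoetherianRing A] {d : ℕ}
    (hd : ringKrullDim A = d) (u v : {w : Fin d → A // IsSop w}) (hu : IsSop u.1) (hv : IsSop v.1) (k : Fin d) :
    ∃ w, IsSop (Function.update u.1 k w) ∧ IsSop (Function.update v.1 k w) := by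
  classical
  set m := IsLocalRing.maximalIdeal A
  let J : (Fin d → A) → Ideal A := fun x => Ideal.span (x '' {k}ᶜ)
  let T : Set (Ideal A) := (J u.1).minimalPrimes ∪ (J v.1).minimalPrimes
  have hT : T.Finite := (Ideal.finite_minimalPrimes_of_isNoetherianRing A _).union
    (Ideal.finite_minimalPrimes_of_isNoetherianRing A _)
  have hne : ∀ P ∈ T, ¬ m ≤ P := by
    rintro P hP hle
    have hPp : P.IsPrime := by rcases hP with h | h <;> exact h.isPrime
    have hPm : P = m := le_antisymm (IsLocalRing.le_maximalIdeal hPp.ne_top) hle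
    have hht : P.height = d := by
      have h := IsLocalRing.maximalIdeal_height_eq_ringKrullDim (R := A)
      rw [hd] at h
      rw [hPm]
      exact_mod_cast h
    have hb : P.height ≤ ((d - 1 : ℕ) : ℕ∞) := by
      have hcard : ∀ x : Fin d → A, (x '' {k}ᶜ).ncard ≤ d - 1 := fun x => by
        refine (Set.ncard_image_le (Set.toFinite _)).trans ?_
        rw [Set.ncard_compl, Set.ncard_singleton, Nat.card_fin]
      rcases hP with h | h <;>
        exact (Ideal.height_le_card_of_mem_minimalPrimes_span (Set.toFinite _) h).trans (by exact_mod_cast hcard _)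
    rw [hht, Nat.cast_le] at hb
    have := k.2
    omega
  obtain ⟨w, hwm, hw⟩ : ∃ w ∈ m, ∀ P ∈ T, w ∉ P := by
    by_contra hcon
    push Not at hcon
    have hsub : (m : Set A) ⊆ ⋃ P ∈ (hT.toFinset : Set (Ideal A)), (P : Set A) := by
      intro x hx
      obtain ⟨P, hP, hxP⟩ := hcon x hx
      exact Set.mem_biUnion (by simpa using hP) hxP
    obtain ⟨P, hP, hle⟩ := (Ideal.subset_union_prime (f := id) ⊥ ⊥
      (fun P hP _ _ => by
        rcases (hT.mem_toFinset).1 hP with h | h <;> exact h.isPrime)).1 hsub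
    exact hne P ((hT.mem_toFinset).1 hP) hle
  refine ⟨w, ?_, ?_⟩
  · exact isSop_update u.1 hu k w hwm fun P hP => hw P (Or.inl hP)
  · exact isSop_update v.1 hv k w hwm fun P hP => hw P (Or.inr hP)


/-- Suppose A is a Cohen–Macaulay local ring whose Krull dimension is d, and consider two systems of
parameters u = (u_1, ..., u_d) and v = (v_1, ..., v_d) of A (that is, d-tuples of elements of the
maximal ideal m such that the ideal they generate has radical m). Then one can find a finite
sequence w_0 = u, w_1, ..., w_m = v, each term a system of parameters of A, where w_{k+1} arises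
from w_k by altering just one coordinate. -/
theorem result (A : Type u) [CommRing A] [LocCoh.IsCohenMacaulayLocalRing A]
    (d : ℕ) (hd : ringKrullDim A = d) (u v : Fin d → A)
    (hu : ∀ i, u i ∈ IsLocalRing.maximalIdeal A) (hu' : IsLocalRing.maximalIdeal A ≤ (Ideal.span (Set.range u)).radical)
    (hv : ∀ i, v i ∈ IsLocalRing.maximalIdeal A) (hv' : IsLocalRing.maximalIdeal A ≤ (Ideal.span (Set.range v)).radical) :
    ∃ (m : ℕ) (w : Fin (m + 1) → Fin d → A), w 0 = u ∧ w (Fin.last m) = v ∧
      (∀ k : Fin (m + 1), (∀ i, w k i ∈ IsLocalRing.maximalIdeal A) ∧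
        IsLocalRing.maximalIdeal A ≤ (Ideal.span (Set.range (w k))).radical) ∧
      (∀ k : Fin m, ∃ i : Fin d, ∀ i' : Fin d, i' ≠ i → w k.castSucc i' = w k.succ i') := by
  classical
  obtain rfl | hd0 := Nat.eq_zero_or_pos d
  · exact ⟨0, fun _ => u, rfl, funext fun i => i.elim0, fun _ => ⟨hu, hu'⟩, fun k => k.elim0⟩
  have key : ∀ n : ℕ, ∀ u v : {w : Fin d → A // IsSop w}, (∀ i : Fin d, n ≤ (i : ℕ) → u.1 i = v.1 i) →
      Relation.ReflTransGen Adj u v := by
    intro n
    induction n with
    | zero =>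
      intro u v h
      rw [show u = v from Subtype.ext (funext fun i => h i (Nat.zero_le _))]
    | succ n ih =>
      intro u v h
      by_cases hn : n < d
      · obtain ⟨w, hw1, hw2⟩ := exists_common hd u v u.2 v.2 ⟨n, hn⟩
        refine (Relation.ReflTransGen.single ⟨⟨n, hn⟩, fun i hi => ?_⟩ : Relation.ReflTransGen Adj u
          ⟨Function.update u.1 ⟨n, hn⟩ w, hw1⟩).trans ((ih _ ⟨Function.update v.1 ⟨n, hn⟩ w, hw2⟩ fun i hi => ?_).trans
          (Relation.ReflTransGen.single ⟨⟨n, hn⟩, fun i hi => ?_⟩))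
        · simp [Function.update_of_ne hi]
        · rcases eq_or_ne i ⟨n, hn⟩ with rfl | hi'
          · simp
          · simp only [Function.update_of_ne hi']
            exact h i (by rcases lt_or_eq_of_le hi with h' | h'; · exact h'
                          · exact absurd (Fin.ext h'.symm) hi')
        · simp [Function.update_of_ne hi]
      · exact ih u v fun i hi => absurd i.2 (by omega)
  obtain ⟨m, W, hW0, hW1, hW⟩ := chain_of_reflTransGen
    (key d ⟨u, hu, hu'⟩ ⟨v, hv, hv'⟩ fun i hi => absurd i.2 (by omega))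
  exact ⟨m, fun k => (W k).1, congrArg Subtype.val hW0, congrArg Subtype.val hW1, fun k => (W k).2,
    fun k => hW k⟩

end Groth.Agent.S8586
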