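import Groth.Statements.S0376
import Groth.Agent.DualCore.FiniteMap
import Groth.Agent.DualCore.Regular
import Groth.Agent.Calg2.CompleteStructure
import Groth.Agent.S5784
import Mathlib

set_option autoImplicit false
universe u v
open CategoryTheory
attribute [local instance] HasDerivedCategory.standard
open Dual

namespace Groth.Agent.S0376

/-- A complete Noetherian local ring has a dualizing complex. -/
theorem result (A : Type u) [CommRing A] [IsLocalRing A] [IsNoetherianRing A] [IsAdicComplete (IsLocalRing.maximalIdeal A) A] : ∃ ω : Dual.D A, Dual.IsDualizing A ω := by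
  obtain ⟨Λ, _, ι, hι, hcase⟩ := Groth.Calg2.CompleteStructure.exists_coefficient A
  have hcase' : IsField Λ ∨ CAlg.IsCohenRing Λ := hcase.imp id fun h => h.1
  obtain ⟨hnoeth, hdom, hdimΛ⟩ := Groth.Calg2.CompleteStructure.isNoetherianRing_of_coefficient hcase'
  haveI : IsRegularRing Λ := by
    rcases hcase' with hF | ⟨hdom', hdvr, -⟩
    · letI := hF.toField
      exact inferInstance
    · exact inferInstance
  obtain ⟨n, a, hgen⟩ := Submodule.fg_iff_exists_fin_generating_family.1
    (IsNoetherian.noetherian (IsLocalRing.maximalIdeal A))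
  have hgen' : Ideal.span (Set.range a) = IsLocalRing.maximalIdeal A := hgen
  have ha : ∀ i, a i ∈ IsLocalRing.maximalIdeal A := fun i => hgen' ▸ Ideal.subset_span ⟨i, rfl⟩
  haveI hR : IsRegularRing (MvPowerSeries (Fin n) Λ) := Groth.Agent.S5784.result Λ n
  haveI : LocCoh.IsGorensteinRing (MvPowerSeries (Fin n) Λ) :=
    { isGorensteinLocalRing_localization := fun p _ => by
        haveI : IsRegularLocalRing (Localization.AtPrime p) := IsRegularRing.isRegularLocalRing_localization _
        exact (GrothGoren.isGorenstein_iff _).2 (GrothGoren.exists_injLT_of_regular _ _ le_rfl) }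
  have hinj := GrothGoren.exists_injLT_of_isGorensteinRing (R := MvPowerSeries (Fin n) Λ) (D := n + 1)
    ((Groth.Calg2.CompleteStructure.ringKrullDim_mvPowerSeries_le n).trans (by
      refine (add_le_add hdimΛ le_rfl).trans (le_of_eq ?_)
      push_cast
      exact add_comm _ _))
  letI : Algebra (MvPowerSeries (Fin n) Λ) A :=
    (Groth.Calg2.CompleteStructure.ev ι a ha).toAlgebra
  haveI : Module.Finite (MvPowerSeries (Fin n) Λ) A :=
    Module.Finite.of_surjective (Algebra.linearMap (MvPowerSeries (Fin n) Λ) A)
      (Groth.Calg2.CompleteStructure.surjective_ev ι hι a ha hgen')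
  exact Groth.DualCore.exists_isDualizing_finite A (Groth.DualCore.isDualizing_inD_of_injLT hinj)

end Groth.Agent.S0376
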