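import Groth.Statements.S14503
import Groth.Agent.Surfaces.Lattice
import Mathlib.RingTheory.Norm.Defs

set_option autoImplicit false
universe u
open IntTh

namespace Groth.Agent.S14503

/-- Let A ⊆ B be a module-finite extension of domains with A Noetherian local of Krull dimension one, K
⊆ L their fraction fields, and r ∈ B nonzero. Then B/rB has finite length as an A-module and
length_A(B/rB) equals the order at the closed point of A of the norm N_{L/K}(r), i.e.
length_A(A/(a)) − length_A(A/(b)) for N_{L/K}(r) = a/b. -/
theorem result (A : Type u) [CommRing A] [IsDomain A]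
    [IsNoetherianRing A] [IsLocalRing A] (hA : ringKrullDim A = 1) (B : Type u) [CommRing B]
    [IsDomain B] [Algebra A B] (hinj : Function.Injective (algebraMap A B)) [Module.Finite A B]
    (K L : Type u) [Field K] [Field L] [Algebra A K] [IsFractionRing A K] [Algebra B L]
    [IsFractionRing B L] [Algebra K L] [Algebra A L] [IsScalarTower A B L] [IsScalarTower A K L]
    [FiniteDimensional K L] (r : B) (hr : r ≠ 0) :
    Module.length A (B ⧸ Ideal.span {r}) < ⊤ ∧
      ((Module.length A (B ⧸ Ideal.span {r})).toNat : ℤ) =
        CycAlg.ordFrac A K (Algebra.norm K (algebraMap B L r)) := by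
  haveI : Ring.KrullDimLE 1 A := by
    rw [Ring.KrullDimLE, Order.krullDimLE_iff]
    exact hA.le
  let f : B →ₗ[A] L := (IsScalarTower.toAlgHom A B L).toLinearMap
  have hfinj : Function.Injective f := IsFractionRing.injective B L
  let M : Submodule A L := LinearMap.range f
  haveI : Algebra.IsIntegral A B := Algebra.IsIntegral.of_finite A B
  haveI hM : Submodule.IsLattice K M := by
    refine ⟨?_, ?_⟩
    · rw [show M = Submodule.map f ⊤ from (Submodule.map_top f).symm]
      exact Submodule.FG.map _ Module.Finite.fg_top
    · rw [eq_top_iff]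
      intro x _
      obtain ⟨b, c, hc, rfl⟩ := IsFractionRing.div_surjective (A := B) x
      obtain ⟨a, ha, hac⟩ : ∃ a : A, a ≠ 0 ∧ algebraMap A B a ∈ Ideal.span {c} := by
        by_contra hno
        push Not at hno
        have hbot : (Ideal.span {c}).comap (algebraMap A B) = ⊥ := by
          rw [eq_bot_iff]
          intro a ha
          by_contra h0
          exact hno a h0 ha
        have hc0 : c ≠ 0 := nonZeroDivisors.ne_zero hc
        exact Ideal.comap_ne_bot_of_integral_mem hc0 (Ideal.mem_span_singleton_self c)
          (Algebra.IsIntegral.isIntegral c) hbot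
      obtain ⟨e, he⟩ := Ideal.mem_span_singleton'.1 hac
      have haK : algebraMap A K a ≠ 0 := (map_ne_zero_iff _ (IsFractionRing.injective A K)).2 ha
      have hcL : algebraMap B L c ≠ 0 :=
        (map_ne_zero_iff _ hfinj).2 (nonZeroDivisors.ne_zero hc)
      have : algebraMap B L b / algebraMap B L c = (algebraMap A K a)⁻¹ • f (b * e) := by
        rw [eq_inv_smul_iff₀ haK, Algebra.smul_def, ← IsScalarTower.algebraMap_apply A K L,
          IsScalarTower.algebraMap_apply A B L, ← he, map_mul]
        show _ = algebraMap B L (b * e)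
        rw [map_mul]
        field_simp
      rw [this]
      exact Submodule.smul_mem _ _ (Submodule.subset_span ⟨b * e, rfl⟩)
  have hrL : algebraMap B L r ≠ 0 := (map_ne_zero_iff _ hfinj).2 hr
  let φ : L ≃ₗ[K] L := LinearEquiv.ofBijective (Algebra.lmul K L (algebraMap B L r))
    ⟨mul_right_injective₀ hrL, mul_left_surjective₀ hrL⟩
  have hdet : LinearMap.det φ.toLinearMap = Algebra.norm K (algebraMap B L r) := by
    rw [Algebra.norm_apply]; rfl
  haveI := Groth.Surfaces.Lattice.isLattice_map φ M
  set N := M.map (φ.toLinearMap.restrictScalars A) with hN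
  have hle : N ≤ M := by
    rintro _ ⟨_, ⟨b, rfl⟩, rfl⟩
    exact ⟨r * b, by show algebraMap B L (r * b) = algebraMap B L r * algebraMap B L b; rw [map_mul]⟩
  have hlen : Module.length A (B ⧸ Ideal.span {r}) = Groth.Surfaces.Lattice.rellen M N := by
    refine ((Submodule.Quotient.restrictScalarsEquiv A (Ideal.span {r})).symm.trans
      (Submodule.Quotient.equiv _ _ (LinearEquiv.ofInjective f hfinj) ?_)).length_eq
    ext ⟨y, b, rfl⟩
    simp only [Submodule.mem_map, Submodule.submoduleOf, Submodule.mem_comap, Submodule.subtype_apply]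
    constructor
    · rintro ⟨z, hz, hzy⟩
      obtain ⟨t, rfl⟩ := Ideal.mem_span_singleton'.1 hz
      refine ⟨f t, ⟨t, rfl⟩, ?_⟩
      have h2 : f (t * r) = f b := congrArg Subtype.val hzy
      rw [← h2]
      show algebraMap B L r * algebraMap B L t = algebraMap B L (t * r)
      rw [map_mul, mul_comm]
    · rintro ⟨_, ⟨t, rfl⟩, ht⟩
      refine ⟨t * r, Ideal.mem_span_singleton'.2 ⟨t, rfl⟩, Subtype.ext ?_⟩
      have h2 : algebraMap B L r * algebraMap B L t = algebraMap B L b := ht
      show algebraMap B L (t * r) = algebraMap B L b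
      rw [← h2, map_mul, mul_comm]
  have htop := Groth.Surfaces.Lattice.rellen_ne_top K M N
  have h := Groth.Surfaces.Lattice.dist_map_eq M φ
  rw [← hN, Groth.Surfaces.Lattice.dist, hdet] at h
  rw [inf_eq_right.2 hle] at htop h
  have h0 : Groth.Surfaces.Lattice.rellen N N = 0 := by
    unfold Groth.Surfaces.Lattice.rellen
    rw [Module.length_eq_zero_iff]
    exact Submodule.Quotient.subsingleton_iff.2 (by ext x; simpa [Submodule.submoduleOf] using x.2)
  rw [h0] at h
  rw [hlen]
  exact ⟨htop.lt_top, by simpa using h⟩

end Groth.Agent.S14503
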