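import Groth.Statements.S17979
import Groth.Agent.HensPair.Basic

set_option autoImplicit false
universe u
open Hensel

namespace Groth.Agent.S17979

/-- Let A be a local ring with residue field k and Q, R polynomials over A with Q monic. If the images
of Q and R in k[T] generate the unit ideal, then Q and R already generate the unit ideal of A[T]. -/
theorem result (A : Type u) [CommRing A] [IsLocalRing A]
    (Q R : Polynomial A) (hQ : Q.Monic)
    (h : IsCoprime (Polynomial.map (IsLocalRing.residue A) Q) (Polynomial.map (IsLocalRing.residue A) R)) :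
    IsCoprime Q R := by
  obtain ⟨a, b, hab⟩ := h
  obtain ⟨a, rfl⟩ := Polynomial.map_surjective _ IsLocalRing.residue_surjective a
  obtain ⟨b, rfl⟩ := Polynomial.map_surjective _ IsLocalRing.residue_surjective b
  have : Module.Finite A (AdjoinRoot Q) := hQ.finite_adjoinRoot
  have hj : (IsLocalRing.maximalIdeal A).map (algebraMap A (AdjoinRoot Q)) ≤ Ideal.jacobson ⊥ :=
    Groth.HensPair.map_le_jacobson_bot (IsLocalRing.maximalIdeal_le_jacobson _)
  have hmem : a * Q + b * R - 1 ∈ (IsLocalRing.maximalIdeal A).map Polynomial.C := by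
    rw [← IsLocalRing.ker_residue, ← Polynomial.ker_mapRingHom, RingHom.mem_ker,
      Polynomial.coe_mapRingHom]
    simp only [Polynomial.map_sub, Polynomial.map_add, Polynomial.map_mul, Polynomial.map_one]
    rw [hab, sub_self]
  have h1 : AdjoinRoot.mk Q b * AdjoinRoot.mk Q R - 1 ∈ Ideal.jacobson (⊥ : Ideal (AdjoinRoot Q)) := by
    have := Ideal.mem_map_of_mem (AdjoinRoot.mk Q) hmem
    rw [Ideal.map_map, map_sub, map_add, map_mul, map_mul, AdjoinRoot.mk_self, mul_zero, zero_add,
      map_one] at this
    exact hj this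
  have hu : IsUnit (AdjoinRoot.mk Q b * AdjoinRoot.mk Q R) := by
    have := (Ideal.mem_jacobson_bot.1 h1) 1
    simpa using this
  obtain ⟨s, hs⟩ := isUnit_iff_exists_inv.1 (isUnit_of_mul_isUnit_right hu)
  obtain ⟨s, rfl⟩ := AdjoinRoot.mk_surjective s
  rw [← map_mul, ← map_one (AdjoinRoot.mk Q), AdjoinRoot.mk_eq_mk] at hs
  obtain ⟨c, hc⟩ := hs
  exact ⟨-c, s, by linear_combination hc⟩

end Groth.Agent.S17979
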