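import Groth.Statements.S4110
import Groth.Agent.Sga3.HopfFiniteLocal

set_option autoImplicit false
universe u
open CategoryTheory MonoidalCategory CartesianMonoidalCategory MonObj GrpObj AlgebraicGeometry CategoryTheory.Limits
open SGA3

namespace Groth.Agent.S4110

open TensorProduct MvPolynomial Groth.Sga3.HopfDeriv

theorem finite_of_heightOne (p : ℕ) [Fact p.Prime] (R A : Type u) [CommRing R] [CommRing A]
    [HopfAlgebra R A] [Algebra.FiniteType R A]
    (h1 : ∀ a : A, Bialgebra.counitAlgHom R A a = 0 → a ^ p = 0) : Module.Finite R A := by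
  have : Algebra.IsIntegral R A := ⟨fun a => by
    have h : IsIntegral R (a - algebraMap R A (Bialgebra.counitAlgHom R A a)) :=
      IsIntegral.of_pow (Fact.out : p.Prime).pos (by rw [h1 _ (by simp)]; exact isIntegral_zero)
    simpa using h.add (isIntegral_algebraMap (x := Bialgebra.counitAlgHom R A a))⟩
  exact Algebra.IsIntegral.finite

theorem fibre_pow (p : ℕ) [Fact p.Prime] (R A K : Type u) [CommRing R] [CommRing A] [HopfAlgebra R A]
    [Field K] [Algebra R K] [CharP K p] [Module.Finite R A]
    (h1 : ∀ a : A, Bialgebra.counitAlgHom R A a = 0 → a ^ p = 0)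
    (z : K ⊗[R] A) (hz : Bialgebra.counitAlgHom K (K ⊗[R] A) z = 0) : z ^ p = 0 := by
  haveI : Nontrivial (K ⊗[R] A) :=
    ⟨⟨1, 0, fun h => by simpa using congrArg (Bialgebra.counitAlgHom K (K ⊗[R] A)) h⟩⟩
  haveI : CharP (K ⊗[R] A) p := charP_of_injective_algebraMap (algebraMap K (K ⊗[R] A)).injective p
  have key : ∀ w : K ⊗[R] A,
      (w - algebraMap K (K ⊗[R] A) (Bialgebra.counitAlgHom K (K ⊗[R] A) w)) ^ p = 0 := by
    intro w
    induction w with
    | zero => simp [(Fact.out : p.Prime).ne_zero]
    | add x y hx hy => rw [map_add, map_add, add_sub_add_comm, add_pow_char, hx, hy, add_zero]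
    | tmul c a =>
      have e : c ⊗ₜ[R] a - algebraMap K (K ⊗[R] A) (Bialgebra.counitAlgHom K (K ⊗[R] A) (c ⊗ₜ[R] a)) =
          c ⊗ₜ[R] (a - algebraMap R A (Bialgebra.counitAlgHom R A a)) := by
        simp [TensorProduct.tmul_sub, Algebra.algebraMap_eq_smul_one, Algebra.TensorProduct.one_def,
          TensorProduct.smul_tmul']
      rw [e, Algebra.TensorProduct.tmul_pow, h1 _ (by simp), TensorProduct.tmul_zero]
  simpa [hz] using key z


/-- (iv) ⟹ (ii), over a local base: let R be a local ring of prime characteristic p and A a commutative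
Hopf algebra over R which is of finite presentation and flat over R (an R-group G locally of finite
presentation and flat; finiteness is then a consequence) and of height ≤ 1: every element a of the
augmentation ideal satisfies a^p = 0 (the Frobenius of G is trivial). Then A is isomorphic as an
R-algebra to R[X₁, …, Xₙ]/(X₁^p, …, Xₙ^p) for some n (n is the rank of the conormal module ω_G,
which is free). -/
theorem result (p : ℕ) [Fact p.Prime] (R : Type u) [CommRing R]
    [IsLocalRing R] [CharP R p] (A : Type u) [CommRing A] [HopfAlgebra R A] [Algebra.FinitePresentation R A] [Module.Flat R A]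
    (h1 : ∀ a : A, Bialgebra.counitAlgHom R A a = 0 → a ^ p = 0) :
    ∃ n : ℕ, Nonempty (A ≃ₐ[R] (MvPolynomial (Fin n) R ⧸
      Ideal.span (Set.range fun i : Fin n => (MvPolynomial.X i : MvPolynomial (Fin n) R) ^ p))) := by
  classical
  have := finite_of_heightOne p R A h1
  let K := IsLocalRing.ResidueField R
  haveI : CharP K p := by
    obtain ⟨q, hq⟩ := CharP.exists K
    have h0 : (p : K) = 0 := by rw [← map_natCast (algebraMap R K), CharP.cast_eq_zero, map_zero]
    rcases (Nat.dvd_prime (Fact.out : p.Prime)).1 ((CharP.cast_eq_zero_iff K q p).1 h0) with e | e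
    · exact absurd e (CharP.char_ne_one K q)
    · exact e ▸ hq
  let S : CounitalLocal K (K ⊗[R] A) :=
    { ε := Bialgebra.counitAlgHom K (K ⊗[R] A)
      Δ := Bialgebra.comulAlgHom K (K ⊗[R] A)
      hr := fun a => by
        show TensorProduct.rid K _ (LinearMap.lTensor _ (Coalgebra.counit (R := K)) (Coalgebra.comul a)) = a
        rw [Coalgebra.lTensor_counit_comul]; simp
      hl := fun a => by
        show TensorProduct.lid K _ (LinearMap.rTensor _ (Coalgebra.counit (R := K)) (Coalgebra.comul a)) = a
        rw [Coalgebra.rTensor_counit_comul]; simp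
      nil := fun a ha => ⟨p, fibre_pow p R A K h1 a ha⟩ }
  obtain ⟨d, x, D, hxm, hx, hD⟩ := S.exists_coordinates
  obtain ⟨hli, hsp⟩ := S.linearIndependent_and_span_height_one p (fun a ha => fibre_pow p R A K h1 a ha) hx hD
  choose a₀ ha₀ using fun i => TensorProduct.mk_surjective R A K Ideal.Quotient.mk_surjective (x i)
  let a : Fin d → A := fun i => a₀ i - algebraMap R A (Bialgebra.counitAlgHom R A (a₀ i))
  have ha : ∀ i, (1 : K) ⊗ₜ[R] a i = x i := by
    intro i
    have h0 : algebraMap R K (Bialgebra.counitAlgHom R A (a₀ i)) = 0 := by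
      have := S.mem_m.1 (hxm i)
      rw [← ha₀ i] at this
      rw [Algebra.algebraMap_eq_smul_one]
      exact this
    simp only [a, TensorProduct.tmul_sub, Algebra.algebraMap_eq_smul_one (A := A), TensorProduct.tmul_smul]
    rw [← ha₀ i, TensorProduct.smul_tmul', ← Algebra.algebraMap_eq_smul_one, h0, TensorProduct.zero_tmul,
      sub_zero]
    rfl
  let v : ULift.{u} (Fin d → Fin p) → A := fun α => mono a α.down
  have hv : TensorProduct.mk R K A 1 ∘ v = (mono x : (Fin d → Fin p) → K ⊗[R] A) ∘ ULift.down := by
    funext α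
    show Algebra.TensorProduct.includeRight (∏ i, a i ^ (α.down i : ℕ)) = ∏ i, x i ^ (α.down i : ℕ)
    rw [map_prod]
    refine Finset.prod_congr rfl fun i _ => ?_
    rw [map_pow, ← ha i]
    rfl
  have hbij : Function.Bijective (Finsupp.linearCombination R v) := by
    refine Module.IsLocalRing.linearCombination_bijective_of_flat v ⟨?_, ?_⟩
    · rw [hv]
      exact hli.comp _ ULift.down_injective
    · rw [hv, ← LinearMap.range_eq_top, Finsupp.range_linearCombination,
        ULift.down_surjective.range_comp]
      exact hsp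
  let J := Ideal.span (Set.range fun i : Fin d => (MvPolynomial.X i : MvPolynomial (Fin d) R) ^ p)
  have hJ : ∀ f ∈ J, MvPolynomial.aeval a f = 0 := by
    intro f hf
    have : J ≤ RingHom.ker (MvPolynomial.aeval a : MvPolynomial (Fin d) R →ₐ[R] A) :=
      Ideal.span_le.2 (Set.range_subset_iff.2 fun i => by
        simp only [SetLike.mem_coe, RingHom.mem_ker, map_pow, MvPolynomial.aeval_X]
        exact h1 _ (by simp [a]))
    exact this hf
  let φ : (MvPolynomial (Fin d) R ⧸ J) →ₐ[R] A := Ideal.Quotient.liftₐ J (MvPolynomial.aeval a) hJ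
  let w : ULift.{u} (Fin d → Fin p) → MvPolynomial (Fin d) R ⧸ J :=
    fun α => mono (fun i => Ideal.Quotient.mk J (MvPolynomial.X i)) α.down
  have hw : ∀ α, φ (w α) = v α := fun α => by
    simp only [w, v, mono, map_prod, map_pow]
    refine Finset.prod_congr rfl fun i _ => ?_
    show (MvPolynomial.aeval a (MvPolynomial.X i)) ^ _ = _
    rw [MvPolynomial.aeval_X]
  have hs : Submodule.span R (Set.range w) = ⊤ := by
    refine eq_top_iff.2 fun f _ => ?_
    obtain ⟨f, rfl⟩ := Ideal.Quotient.mk_surjective f
    have hXp : ∀ i, Ideal.Quotient.mk J (MvPolynomial.X i) ^ p = 0 := fun i => by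
      rw [← map_pow, Ideal.Quotient.eq_zero_iff_mem]; exact Ideal.subset_span ⟨i, rfl⟩
    induction f using MvPolynomial.induction_on with
    | C r =>
      have : Ideal.Quotient.mk J (MvPolynomial.C r) = r • w ⟨fun _ => ⟨0, (Fact.out : p.Prime).pos⟩⟩ := by
        simp only [w, mono, pow_zero, Finset.prod_const_one]
        rw [← Algebra.algebraMap_eq_smul_one]
        rfl
      rw [this]; exact Submodule.smul_mem _ _ (Submodule.subset_span ⟨_, rfl⟩)
    | add f g hf hg => rw [map_add]; exact add_mem (hf trivial) (hg trivial)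
    | mul_X f i hf =>
      rw [map_mul]
      refine Submodule.span_induction (p := fun z _ => z * Ideal.Quotient.mk J (MvPolynomial.X i) ∈
        Submodule.span R (Set.range w)) ?_ (by simp) (fun a b _ _ ha hb => by rw [add_mul]; exact add_mem ha hb)
        (fun r a _ ha => by rw [smul_mul_assoc]; exact Submodule.smul_mem _ r ha) (hf trivial)
      rintro _ ⟨⟨α⟩, rfl⟩
      have key : w ⟨α⟩ * Ideal.Quotient.mk J (MvPolynomial.X i) =
          (∏ j ∈ Finset.univ.erase i, Ideal.Quotient.mk J (MvPolynomial.X j) ^ (α j : ℕ)) *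
            Ideal.Quotient.mk J (MvPolynomial.X i) ^ ((α i : ℕ) + 1) := by
        simp only [w, mono]
        rw [← Finset.prod_erase_mul _ _ (Finset.mem_univ i), pow_succ, _root_.mul_assoc]
      rw [key]
      by_cases h : (α i : ℕ) + 1 < p
      · refine Submodule.subset_span ⟨⟨Function.update α i ⟨_, h⟩⟩, ?_⟩
        simp only [w, mono]
        rw [← Finset.prod_erase_mul _ _ (Finset.mem_univ i), Function.update_self]
        congr 1
        exact Finset.prod_congr rfl fun j hj => by rw [Function.update_of_ne (Finset.ne_of_mem_erase hj)]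
      · rw [show (α i : ℕ) + 1 = p by have := (α i).isLt; omega, hXp, mul_zero]
        exact zero_mem _
  have hφσ : φ.toLinearMap ∘ₗ Finsupp.linearCombination R w = Finsupp.linearCombination R v := by
    refine Finsupp.lhom_ext fun α r => ?_
    simp [hw]
  have hσ : Function.Surjective (Finsupp.linearCombination R w) := by
    rw [← LinearMap.range_eq_top, Finsupp.range_linearCombination, hs]
  have hcomp : Function.Bijective (φ ∘ Finsupp.linearCombination R w) := by
    rw [show (φ ∘ Finsupp.linearCombination R w) = Finsupp.linearCombination R v from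
      funext fun z => LinearMap.congr_fun hφσ z]
    exact hbij
  exact ⟨d, ⟨(AlgEquiv.ofBijective φ ⟨hcomp.1.of_comp_right hσ, hcomp.2.of_comp⟩).symm⟩⟩

end Groth.Agent.S4110
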