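import Groth.Statements.S14400
import Groth.Agent.VarietyBC.BCMaps
import Mathlib

set_option autoImplicit false
universe u
open CategoryTheory CategoryTheory.Limits AlgebraicGeometry
open Desc

namespace Groth.Agent.S14400

open CategoryTheory.Limits

theorem exists_sigma {k K L : Type*} [Field k] [Field K] [Field L] [Algebra k K] [Normal k K]
    (a b : K →+* L) (h : a.comp (algebraMap k K) = b.comp (algebraMap k K)) :
    ∃ σ : K ≃ₐ[k] K, b = a.comp (σ : K →ₐ[k] K).toRingHom := by
  letI : Algebra K L := a.toAlgebra
  letI : Algebra k L := (a.comp (algebraMap k K)).toAlgebra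
  haveI : IsScalarTower k K L := IsScalarTower.of_algebraMap_eq fun _ => rfl
  let b' : K →ₐ[k] L := { b with commutes' := fun r => (RingHom.congr_fun h r).symm }
  refine ⟨b'.restrictNormal' K, ?_⟩
  ext x
  exact (AlgHom.restrictNormal_commutes b' K x).symm

/-- Let K/k be a finite Galois extension of fields, X and Y schemes over k with base changes X_K and
Y_K, and g : X_K ⟶ Y_K a morphism over Spec K. Then g is the base change of a k-morphism f : X ⟶ Y
(that is, g followed by the projection Y_K ⟶ Y is the projection X_K ⟶ X followed by f) if and only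
if g commutes with the action of every k-automorphism σ of K on X_K and on Y_K (the identity on X,
resp. Y, and Spec σ on the factor Spec K). In other words the image of the k-morphisms X ⟶ Y among
the K-morphisms X_K ⟶ Y_K is exactly the set of Galois-invariant ones. -/
theorem result (k : Type u) [Field k] (K : Type u) [Field K]
    [Algebra k K] [FiniteDimensional k K] [IsGalois k K]
    (X Y : Scheme.{u}) [X.Over (Spec (CommRingCat.of k))] [Y.Over (Spec (CommRingCat.of k))]
    (g : Curv2.bc k X K ⟶ Curv2.bc k Y K) (hg : g ≫ Curv2.bcSnd k Y K = Curv2.bcSnd k X K) :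
    (∃ f : X ⟶ Y, f ≫ (Y ↘ Spec (CommRingCat.of k)) = X ↘ Spec (CommRingCat.of k) ∧
        g ≫ Curv2.bcFst k Y K = Curv2.bcFst k X K ≫ f) ↔
      ∀ σ : K ≃ₐ[k] K, Curv2.galAct k X K σ ≫ g = g ≫ Curv2.galAct k Y K σ := by
  constructor
  · rintro ⟨f, -, hf⟩ σ
    refine Limits.pullback.hom_ext ?_ ?_
    · change (_ ≫ g) ≫ Curv2.bcFst k Y K = (g ≫ _) ≫ Curv2.bcFst k Y K
      rw [Category.assoc, Category.assoc, Groth.VarietyBC.galAct_fst, hf, ← Category.assoc,
        Groth.VarietyBC.galAct_fst]
    · change (_ ≫ g) ≫ Curv2.bcSnd k Y K = (g ≫ _) ≫ Curv2.bcSnd k Y K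
      rw [Category.assoc, Category.assoc, hg]
      unfold Curv2.galAct
      erw [Limits.pullback.lift_snd, Limits.pullback.lift_snd, ← Category.assoc g, hg]
  · intro hinv
    haveI : Etale (Spec.map (CommRingCat.ofHom (algebraMap k K))) := by
      rw [HasRingHomProperty.Spec_iff (P := @Etale)]
      change RingHom.Etale (algebraMap k K)
      rw [RingHom.etale_algebraMap]
      haveI : Algebra.FormallyEtale k K := Algebra.FormallyEtale.of_isSeparable k K
      exact ⟨inferInstance, Algebra.FinitePresentation.of_finiteType.mp inferInstance⟩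
    haveI : Surjective (Spec.map (CommRingCat.ofHom (algebraMap k K))) := inferInstance
    haveI : Etale (Curv2.bcFst k X K) := inferInstance
    let p := Curv2.bcFst k X K
    have key : Limits.pullback.fst p p ≫ g ≫ Curv2.bcFst k Y K =
        Limits.pullback.snd p p ≫ g ≫ Curv2.bcFst k Y K := by
      let j : ∀ σ : K ≃ₐ[k] K, Curv2.bc k X K ⟶ pullback p p := fun σ =>
        Limits.pullback.lift (𝟙 _) (Curv2.galAct k X K σ)
          (by rw [Category.id_comp, Groth.VarietyBC.galAct_fst])
      haveI : ∀ σ, IsOpenImmersion (j σ) := fun σ => by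
        haveI : Etale (j σ ≫ Limits.pullback.fst p p) := by
          rw [Limits.pullback.lift_fst]; infer_instance
        haveI : Etale (j σ) := Etale.of_comp (j σ) (Limits.pullback.fst p p)
        haveI : Mono (j σ) := by
          refine ⟨fun a b hab => ?_⟩
          have := congrArg (· ≫ Limits.pullback.fst p p) hab
          simp only [Category.assoc, j, Limits.pullback.lift_fst] at this
          simpa using this
        exact IsOpenImmersion.of_flat_of_mono (j σ)
      let 𝒰 : (pullback p p).OpenCover := Scheme.Cover.mkOfCovers (K ≃ₐ[k] K) _ j (fun t => by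
        let ζ := (pullback p p).fromSpecResidueField t
        obtain ⟨a, ha⟩ := Spec.map_surjective (ζ ≫ Limits.pullback.fst p p ≫ Curv2.bcSnd k X K)
        obtain ⟨b, hb⟩ := Spec.map_surjective (ζ ≫ Limits.pullback.snd p p ≫ Curv2.bcSnd k X K)
        have hab : a.hom.comp (algebraMap k K) = b.hom.comp (algebraMap k K) := by
          have h1 : Spec.map a ≫ Spec.map (CommRingCat.ofHom (algebraMap k K)) =
              Spec.map b ≫ Spec.map (CommRingCat.ofHom (algebraMap k K)) := by
            rw [ha, hb, Category.assoc, Category.assoc, Category.assoc, Category.assoc]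
            unfold Curv2.bcSnd
            rw [← Limits.pullback.condition]
            exact congrArg (ζ ≫ ·) (by
              rw [← Category.assoc, ← Category.assoc]
              exact congrArg (· ≫ _) (Limits.pullback.condition (f := p) (g := p)))
          rw [← Spec.map_comp, ← Spec.map_comp] at h1
          exact congrArg CommRingCat.Hom.hom (Spec.map_injective h1)
        obtain ⟨σ, hσ⟩ := exists_sigma a.hom b.hom hab
        have hb' : b = CommRingCat.ofHom (σ : K →ₐ[k] K).toRingHom ≫ a :=
          CommRingCat.hom_ext hσ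
        obtain ⟨w, hw⟩ : t ∈ Set.range ζ.base := by rw [Scheme.range_fromSpecResidueField]; rfl
        refine ⟨σ, (ζ ≫ Limits.pullback.fst p p).base w, ?_⟩
        have h2 : (ζ ≫ Limits.pullback.fst p p) ≫ j σ = ζ := by
          apply Limits.pullback.hom_ext
          · rw [Category.assoc, show j σ ≫ Limits.pullback.fst p p = 𝟙 _ from
              Limits.pullback.lift_fst _ _ _, Category.comp_id]
          · rw [Category.assoc, show j σ ≫ Limits.pullback.snd p p = Curv2.galAct k X K σ from
              Limits.pullback.lift_snd _ _ _]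
            refine Limits.pullback.hom_ext ?_ ?_
            · change _ ≫ Curv2.bcFst k X K = _ ≫ Curv2.bcFst k X K
              simp only [Category.assoc, Groth.VarietyBC.galAct_fst]
              exact congrArg (ζ ≫ ·) Limits.pullback.condition
            · change _ ≫ Curv2.bcSnd k X K = _ ≫ Curv2.bcSnd k X K
              rw [Category.assoc ζ (Limits.pullback.snd p p), ← hb, hb', Spec.map_comp, ha]
              unfold Curv2.galAct
              simp only [Category.assoc]
              erw [Limits.pullback.lift_snd]
        rw [← Scheme.Hom.comp_apply, h2]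
        exact hw)
      refine 𝒰.hom_ext _ _ fun (σ : K ≃ₐ[k] K) => ?_
      change j σ ≫ _ = j σ ≫ _
      rw [← Category.assoc, ← Category.assoc (j σ), show j σ ≫ Limits.pullback.fst p p = 𝟙 _ from
        Limits.pullback.lift_fst _ _ _, show j σ ≫ Limits.pullback.snd p p = Curv2.galAct k X K σ from
        Limits.pullback.lift_snd _ _ _,
        Category.id_comp, ← Category.assoc, hinv σ, Category.assoc, Groth.VarietyBC.galAct_fst]
    haveI : QuasiCompact p := inferInstance
    haveI : Surjective p := inferInstance
    haveI : Flat p := inferInstance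
    have hd : ∀ {Z : Scheme.{u}} (g₁ g₂ : Z ⟶ Curv2.bc k X K), g₁ ≫ p = g₂ ≫ p →
        g₁ ≫ g ≫ Curv2.bcFst k Y K = g₂ ≫ g ≫ Curv2.bcFst k Y K := fun g₁ g₂ h => by
      calc g₁ ≫ g ≫ Curv2.bcFst k Y K
          = Limits.pullback.lift g₁ g₂ h ≫ Limits.pullback.fst p p ≫ g ≫ Curv2.bcFst k Y K := by
            rw [Limits.pullback.lift_fst_assoc]
        _ = _ := by rw [key, Limits.pullback.lift_snd_assoc]
    refine ⟨EffectiveEpi.desc p _ hd, ?_, (EffectiveEpi.fac p _ hd).symm⟩
    rw [← cancel_epi p, ← Category.assoc, EffectiveEpi.fac p _ hd, Category.assoc]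
    unfold Curv2.bcFst
    rw [Limits.pullback.condition, ← Category.assoc]
    change (g ≫ Curv2.bcSnd k Y K) ≫ _ = _
    rw [hg]
    exact Limits.pullback.condition.symm

end Groth.Agent.S14400
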