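import Groth.Statements.S13606
import Mathlib.AlgebraicGeometry.Restrict

set_option autoImplicit false
universe u
open CategoryTheory AlgebraicGeometry
open SGA1

namespace Groth.Agent.S13606

/-- Let a finite group G act on a scheme X and let p : X ⟶ Y be a quotient of X by G (affine,
G-invariant, sections of O_Y over every open = G-invariant sections of O_X over its preimage). Then
for every open U ⊆ Y, U is the quotient of p⁻¹U by G: the restriction p⁻¹U ⟶ U of p is again a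
quotient in the same sense, for the action ρU of G on the G-stable open p⁻¹U induced by ρ (pinned by
compatibility with the inclusion p⁻¹U ⟶ X). -/
theorem result {X Y : Scheme.{u}} {G : Type u} [Group G] [Finite G]
    (ρ : G →* Aut X) (p : X ⟶ Y) (hp : SGA1.IsQuot ρ p) (U : Y.Opens)
    (ρU : G →* Aut (p ⁻¹ᵁ U).toScheme)
    (hρU : ∀ g : G, (ρU g).hom ≫ (p ⁻¹ᵁ U).ι = (p ⁻¹ᵁ U).ι ≫ (ρ g).hom) :
    SGA1.IsQuot ρU (p ∣_ U) := by
  have := hp.affine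
  have hi : ∀ g : G, (ρU g).hom ≫ (p ∣_ U) = p ∣_ U := by
    intro g
    rw [← cancel_mono U.ι, Category.assoc, morphismRestrict_ι, reassoc_of% (hρU g), hp.inv g]
  refine ⟨MorphismProperty.of_isPullback (P := @IsAffineHom) (isPullback_morphismRestrict p U).flip hp.affine, hi, ?_, ?_⟩
  · intro V
    rw [morphismRestrict_app]
    intro a b hab
    exact hp.injective _ ((X.presheaf.mapIso (eqToIso (image_morphismRestrict_preimage p U V)).op).commRingCatIsoToRingEquiv.injective hab)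
  · intro V s
    have hWW := image_morphismRestrict_preimage p U V
    have key : ∀ (g : G) (W : (p ⁻¹ᵁ U).toScheme.Opens) (e1 : W ≤ (ρU g).hom ⁻¹ᵁ W)
        (e2 : (p ⁻¹ᵁ U).ι ''ᵁ W ≤ (ρ g).hom ⁻¹ᵁ ((p ⁻¹ᵁ U).ι ''ᵁ W)),
        (ρU g).hom.appLE W W e1 = (ρ g).hom.appLE ((p ⁻¹ᵁ U).ι ''ᵁ W) ((p ⁻¹ᵁ U).ι ''ᵁ W) e2 := by
      intro g W e1 e2
      have e0 : W ≤ (p ⁻¹ᵁ U).ι ⁻¹ᵁ ((p ⁻¹ᵁ U).ι ''ᵁ W) := (Scheme.Hom.preimage_image_eq _ W).ge
      have hc : ∀ (A : (p ⁻¹ᵁ U).toScheme ⟶ X) (B : (p ⁻¹ᵁ U).toScheme ⟶ X) (_ : A = B) (h₁ h₂),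
          A.appLE ((p ⁻¹ᵁ U).ι ''ᵁ W) W h₁ = B.appLE ((p ⁻¹ᵁ U).ι ''ᵁ W) W h₂ := by
        rintro A B rfl h₁ h₂; rfl
      have hid : (p ⁻¹ᵁ U).ι.appLE ((p ⁻¹ᵁ U).ι ''ᵁ W) W e0 = 𝟙 _ := by
        rw [Scheme.Opens.ι_appLE]
        exact (congrArg X.presheaf.map (Subsingleton.elim _ (𝟙 _))).trans (X.presheaf.map_id _)
      have a1 := Scheme.Hom.appLE_comp_appLE (ρU g).hom (p ⁻¹ᵁ U).ι ((p ⁻¹ᵁ U).ι ''ᵁ W) W W e0 e1
      have a2 := Scheme.Hom.appLE_comp_appLE (p ⁻¹ᵁ U).ι (ρ g).hom ((p ⁻¹ᵁ U).ι ''ᵁ W)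
        ((p ⁻¹ᵁ U).ι ''ᵁ W) W e2 e0
      have h := a1.trans ((hc _ _ (hρU g) _ _).trans a2.symm)
      rw [hid] at h
      exact (Category.id_comp _).symm.trans (h.trans (Category.comp_id _))
    rw [forall_congr' (fun g => iff_of_eq (congrArg (fun f => CommRingCat.Hom.hom f s = s)
      (key g _ _ (by rw [hWW]; exact preimage_le_of_inv ρ p hp.inv g _))))]
    rw [morphismRestrict_app]
    have tr : ∀ (W : X.Opens) (hW : W = p ⁻¹ᵁ (U.ι ''ᵁ V)) (s : Γ(X, W)) (h : ∀ g : G, W ≤ (ρ g).hom ⁻¹ᵁ W),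
        s ∈ Set.range (p.app (U.ι ''ᵁ V) ≫ X.presheaf.map (eqToHom hW).op).hom ↔
          ∀ g : G, ((ρ g).hom.appLE W W (h g)).hom s = s := by
      rintro W rfl s h
      simpa using hp.range_iff _ s
    exact tr _ hWW s _

end Groth.Agent.S13606
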