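import Groth.Statements.S2925
import Groth.Agent.Pi1Quot.Basic

set_option autoImplicit false
open CategoryTheory CategoryTheory.Limits AlgebraicGeometry
universe u
open SGA1

namespace Groth.Agent.S2925

/-- Let a finite group G act on a scheme X and let p : X ⟶ Y be a quotient of X by G. Then every
G-invariant morphism X ⟶ Z factors uniquely through p. -/
theorem result {X Y : Scheme.{u}} {G : Type u} [Group G] [Finite G] (ρ : G →* Aut X)
    (p : X ⟶ Y) (hp : SGA1.IsQuot ρ p) (Z : Scheme.{u}) (h : X ⟶ Z) (hh : ∀ g : G, (ρ g).hom ≫ h = h) :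
    ∃! h' : Y ⟶ Z, p ≫ h' = h := by
  haveI := Groth.Pi1Quot.isIntegralHom hp
  refine Groth.Pi1Quot.exists_desc p (Groth.Pi1Quot.surjective hp).surj hp.injective h fun y => ?_
  obtain ⟨x, rfl⟩ := (Groth.Pi1Quot.surjective hp).surj y
  obtain ⟨_, ⟨W, hW, rfl⟩, hxW, -⟩ :=
    Z.isBasis_affineOpens.exists_subset_of_mem_open (Set.mem_univ (h x)) isOpen_univ
  have hW : IsAffineOpen W := hW
  let V : Y.Opens := ⟨(p.base '' ((h ⁻¹ᵁ W : X.Opens) : Set X)ᶜ)ᶜ,
    (p.isClosedMap _ (h ⁻¹ᵁ W).isOpen.isClosed_compl).isOpen_compl⟩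
  have hconst : ∀ a b : X, p a = p b → h a = h b := fun a b hab => by
    obtain ⟨g, rfl⟩ := Groth.Pi1Quot.exists_smul_eq hp hab
    rw [← Scheme.Hom.comp_apply, hh]
  have hV : p ⁻¹ᵁ V = h ⁻¹ᵁ W := by
    ext a
    change p a ∉ p.base '' _ ↔ h a ∈ W
    refine ⟨fun ha => by_contra fun hn => ha ⟨a, hn, rfl⟩, fun ha => ?_⟩
    rintro ⟨b, hb, hab⟩
    exact hb (show h b ∈ W from (hconst b a hab).symm ▸ ha)
  have hxV : p x ∈ V := (hV.symm ▸ hxW : x ∈ p ⁻¹ᵁ V)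
  let θ : Γ(Z, W) ⟶ Γ(X, p ⁻¹ᵁ V) := h.appLE W (p ⁻¹ᵁ V) hV.le
  have hθ : ∀ c, θ c ∈ Set.range (p.app V).hom := by
    intro c
    rw [hp.range_iff]
    intro g
    have := Scheme.Hom.appLE_comp_appLE (ρ g).hom h W (p ⁻¹ᵁ V) (p ⁻¹ᵁ V) hV.le
      (SGA1.preimage_le_of_inv ρ p hp.inv g V)
    rw [Groth.Pi1Quot.appLE_congr_hom (hh g) _ _ _ hV.le] at this
    exact RingHom.congr_fun (congrArg CommRingCat.Hom.hom this) c
  choose ψ hψ using hθ
  let ψ' : Γ(Z, W) ⟶ Γ(Y, V) := CommRingCat.ofHom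
    { toFun := ψ
      map_one' := hp.injective V (by simp only [hψ, map_one])
      map_mul' := fun a b => hp.injective V (by simp only [hψ, map_mul])
      map_zero' := hp.injective V (by simp only [hψ, map_zero])
      map_add' := fun a b => hp.injective V (by simp only [hψ, map_add]) }
  have hψ' : ψ' ≫ p.app V = θ := CommRingCat.hom_ext (RingHom.ext hψ)
  refine ⟨V, hxV, V.toSpecΓ ≫ Spec.map ψ' ≫ hW.fromSpec, ?_⟩
  rw [← Category.assoc, ← Scheme.Opens.toSpecΓ_naturality, Category.assoc, ← Spec.map_comp_assoc, hψ',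
    Scheme.Opens.toSpecΓ_SpecMap_appLE_assoc, IsAffineOpen.toSpecΓ_fromSpec, Scheme.Hom.resLE_comp_ι]

end Groth.Agent.S2925
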