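import Groth.Statements.S1488
import Groth.Agent.FlatmorThree.SmoothLift

set_option autoImplicit false
universe u
open FlatMor

namespace Groth.Agent.S1488

open AlgebraicGeometry CategoryTheory Limits in
/-- A morphism f : X → S is smooth if and only if it is locally of finite presentation and formally
smooth, i.e. has the lifting property against first order thickenings of affine schemes (rings in
the same universe). -/
theorem result {X S : Scheme.{u}} (f : X ⟶ S) :
    Smooth f ↔ LocallyOfFinitePresentation f ∧ MoreMor.IsFormallySmoothHom f := by
  constructor
  · intro h
    refine ⟨inferInstance, Groth.FlatmorThree.SmoothLift.isFormallySmoothHom_of_smooth f⟩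
  · rintro ⟨hfp, hf⟩
    refine ⟨fun {V} hV {U} hU e => ?_⟩
    have h1 := Groth.FlatmorThree.FormalLift.formallySmooth_appLE hf hU hV e
    have h2 := f.finitePresentation_appLE hV hU e
    algebraize [(f.appLE V U e).hom]
    exact (Algebra.Smooth.mk : Algebra.Smooth Γ(S, V) Γ(X, U))

end Groth.Agent.S1488
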