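import Groth.Statements.S17009
import Groth.Agent.Misc12.Cliff.Parity

set_option autoImplicit false
universe u v
open QuadGrp

namespace Groth.Agent.S17009

/-- For a quadratic form Q on a finite free module M of even rank 2m ≥ 2 over a commutative ring whose
polar form is a perfect pairing, every unit of the Clifford algebra normalising M is locally
homogeneous for the ℤ/2-grading (some idempotent e of the base has e u even and (1 − e) u odd), so
the naive Clifford group is contained in, hence equal to, the Clifford group of locally homogeneous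
normalising units. (False for degenerate forms: for the zero form on a rank-two module over the
field with two elements, 1 + v normalises the module and is not locally homogeneous.) -/
theorem result {R : Type u} [CommRing R] {M : Type v} [AddCommGroup M] [Module R M] [Module.Free R M] [Module.Finite R M]
    (m : ℕ) (hm : 1 ≤ m) (hM : Module.finrank R M = 2 * m) (Q : QuadraticForm R M) (hQ : QuadGrp.IsRegular Q) :
    QuadGrp.GPin' Q ≤ QuadGrp.LH Q := by
  classical
  intro u hu
  rw [QuadGrp.mem_GPin'] at hu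
  have hconj : ∀ v, (u : CliffordAlgebra Q) * CliffordAlgebra.ι Q v * ↑u⁻¹ ∈ LinearMap.range (CliffordAlgebra.ι Q) := fun v => by
    rw [← hu]
    exact (Submodule.mem_smul_pointwise_iff_exists _ _ _).2
      ⟨_, ⟨v, rfl⟩, by rw [ConjAct.units_smul_def, ConjAct.ofConjAct_toConjAct]⟩
  have hconj' : ∀ v, (↑u⁻¹ : CliffordAlgebra Q) * CliffordAlgebra.ι Q v * ↑u ∈ LinearMap.range (CliffordAlgebra.ι Q) := fun v => by
    obtain ⟨_, ⟨w, rfl⟩, hw⟩ := (Submodule.mem_smul_pointwise_iff_exists _ _ _).1
      ((SetLike.ext_iff.1 hu (CliffordAlgebra.ι Q v)).2 ⟨v, rfl⟩)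
    rw [ConjAct.units_smul_def, ConjAct.ofConjAct_toConjAct] at hw
    refine ⟨w, ?_⟩
    rw [← hw]
    simp only [← mul_assoc, Units.inv_mul, one_mul]
    rw [mul_assoc, Units.inv_mul, mul_one]
  choose g0 hg0 using hconj
  choose h0 hh0 using hconj'
  have hinj := Groth.Misc12.Cliff.ι_injective Q
  let gl : M →ₗ[R] M :=
    { toFun := g0
      map_add' := fun a b => hinj (by simp only [map_add, hg0, mul_add, add_mul])
      map_smul' := fun r a => hinj (by simp only [map_smul, hg0, mul_smul_comm, smul_mul_assoc, RingHom.id_apply]) }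
  let g : M ≃ₗ[R] M := LinearEquiv.ofBijective gl
    ⟨fun a b h => hinj (u.mul_right_inj.1 (u⁻¹.mul_left_inj.1 (by rw [← hg0, ← hg0]; exact congrArg _ h))),
      fun v => ⟨h0 v, hinj (by
        change CliffordAlgebra.ι Q (g0 (h0 v)) = _
        rw [hg0, hh0]
        simp only [← mul_assoc, Units.mul_inv, one_mul]
        rw [mul_assoc, Units.mul_inv, mul_one])⟩⟩
  have hgι : ∀ v, (u : CliffordAlgebra Q) * CliffordAlgebra.ι Q v = CliffordAlgebra.ι Q (g v) * u := fun v => by
    change _ = CliffordAlgebra.ι Q (g0 v) * _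
    rw [hg0, Units.inv_mul_cancel_right]
  have hgO : g ∈ QuadGrp.O Q := fun v => Groth.Misc12.Cliff.algebraMap_injective Q (by
    rw [← CliffordAlgebra.ι_sq_scalar, ← CliffordAlgebra.ι_sq_scalar]
    refine u.mul_left_inj.1 ?_
    rw [mul_assoc, ← hgι, ← mul_assoc, ← hgι, mul_assoc, CliffordAlgebra.ι_sq_scalar, Algebra.commutes])
  haveI := Groth.Misc12.Cliff.free Q
  set u0 : CliffordAlgebra Q := ↑(DirectSum.decompose (CliffordAlgebra.evenOdd Q) (u : CliffordAlgebra Q) 0) with hu0
  set u1 : CliffordAlgebra Q := ↑(DirectSum.decompose (CliffordAlgebra.evenOdd Q) (u : CliffordAlgebra Q) 1) with hu1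
  have h0m : u0 ∈ CliffordAlgebra.evenOdd Q 0 := SetLike.coe_mem _
  have h1m : u1 ∈ CliffordAlgebra.evenOdd Q 1 := SetLike.coe_mem _
  have hsum : (u : CliffordAlgebra Q) = u0 + u1 := Groth.Misc12.Cliff.sum_decompose _
  let J : CliffordAlgebra Q → Ideal R := fun x => LinearMap.ker (LinearMap.toSpanSingleton R _ x)
  have htop : J u0 ⊔ J u1 = ⊤ := by
    by_contra h
    obtain ⟨P, hP, hle⟩ := Ideal.exists_le_maximal _ h
    have key : ∀ x, Groth.Misc12.Cliff.bc Q (Localization.AtPrime P) x = 0 → J x ≤ P → False := fun x hx hJ => by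
      obtain ⟨s, hs, hsx⟩ := Groth.Misc12.Cliff.exists_smul_eq_zero P hx
      exact hs (hJ (by simpa [J] using hsx))
    have b0 := Groth.Misc12.Cliff.bc_mem_evenOdd Q (Localization.AtPrime P) h0m
    have b1 := Groth.Misc12.Cliff.bc_mem_evenOdd Q (Localization.AtPrime P) h1m
    obtain ⟨w, hw, hcases⟩ := Groth.Misc12.Cliff.exists_intertwiner hgO hQ hM (Localization.AtPrime P)
    have hbu : ∀ x, Groth.Misc12.Cliff.cmap (Groth.Misc12.Cliff.baseChange_mem_O (Localization.AtPrime P) hgO) x *
        Groth.Misc12.Cliff.bc Q (Localization.AtPrime P) (u : CliffordAlgebra Q) =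
        Groth.Misc12.Cliff.bc Q (Localization.AtPrime P) (u : CliffordAlgebra Q) * x := by
      intro x
      obtain ⟨t, rfl⟩ := (Groth.Misc12.Cliff.bcEquiv Q (Localization.AtPrime P)).symm.surjective x
      change Groth.Misc12.Cliff.cmap _ (Groth.Misc12.Cliff.ofBC Q _ t) * _ = _ * Groth.Misc12.Cliff.ofBC Q _ t
      induction t using TensorProduct.induction_on with
      | zero => simp
      | tmul a x =>
        rw [Groth.Misc12.Cliff.ofBC_tmul, map_smul, ← Groth.Misc12.Cliff.cmap_bc _ hgO, smul_mul_assoc, mul_smul_comm,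
          ← map_mul, ← map_mul, Groth.Misc12.Cliff.cmap_mul_of_even hgO _ hgι]
      | add x y hx hy => rw [map_add, map_add, add_mul, mul_add, hx, hy]
    rcases hcases with ⟨hX, -, -⟩ | ⟨hX, -, -⟩
    · refine key u1 (Groth.Misc12.Cliff.eq_zero_of_mem_mem ?_ b1) (le_sup_right.trans hle)
      have := sub_mem (hX _ hbu) b0
      rwa [hsum, map_add, add_sub_cancel_left] at this
    · refine key u0 (Groth.Misc12.Cliff.eq_zero_of_mem_mem b0 ?_) (le_sup_left.trans hle)
      have := sub_mem (hX _ hbu) b1
      rwa [hsum, map_add, add_sub_cancel_right] at this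
  obtain ⟨f, hf, e, he, hfe⟩ := Submodule.mem_sup.1 (htop ▸ Submodule.mem_top : (1 : R) ∈ J u0 ⊔ J u1)
  have hf' : f • u0 = 0 := by simpa [J] using hf
  have he' : e • u1 = 0 := by simpa [J] using he
  have hef : e * f = 0 := by
    refine Groth.Misc12.Cliff.algebraMap_injective Q (u.mul_left_inj.1 ?_)
    rw [map_zero, zero_mul, ← Algebra.smul_def, hsum, smul_add, mul_smul, hf', smul_zero, zero_add, mul_comm, mul_smul, he',
      smul_zero]
  refine ⟨e, (IsIdempotentElem.of_mul_add hef (by rw [add_comm]; exact hfe)).1, ?_, ?_⟩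
  · rw [hsum, smul_add, he', add_zero]
    exact Submodule.smul_mem _ _ h0m
  · rw [show 1 - e = f by rw [← hfe, add_sub_cancel_right], hsum, smul_add, hf', zero_add]
    exact Submodule.smul_mem _ _ h1m

end Groth.Agent.S17009
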