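import Groth.Statements.S9561
import Groth.Agent.HensPair.CompletionUnram
import Mathlib.RingTheory.RingHom.Unramified
import Mathlib.RingTheory.RingHom.FiniteType

set_option autoImplicit false
universe u
open EtLocal

namespace Groth.Agent.S9561

/-- Let A → B be a local homomorphism of Noetherian local rings with B essentially of finite type over
A, and let ψ be the induced map between the completions of A and B at their maximal ideals (a ring
map of the completions whose composite with A → A^ is A → B → B^; such a map is unique). Then A → B
is an unramified homomorphism of local rings, i.e. m_A B = m_B and the residue field of B is a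
finite separable extension of that of A, if and only if ψ is an unramified ring map (of finite type
and formally unramified). (The published statement lists a third equivalent condition, that ψ is
itself an unramified homomorphism of local rings; this row keeps the two outer ones.) -/
theorem result (A B : Type u) [CommRing A] [CommRing B]
    [IsLocalRing A] [IsLocalRing B] [IsNoetherianRing A] [IsNoetherianRing B] [Algebra A B]
    [IsLocalHom (algebraMap A B)] [Algebra.EssFiniteType A B]
    (ψ : AdicCompletion (IsLocalRing.maximalIdeal A) A →+* AdicCompletion (IsLocalRing.maximalIdeal B) B)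
    (hψ : ψ.comp (algebraMap A (AdicCompletion (IsLocalRing.maximalIdeal A) A)) =
      (algebraMap B (AdicCompletion (IsLocalRing.maximalIdeal B) B)).comp (algebraMap A B)) :
    ((IsLocalRing.maximalIdeal A).map (algebraMap A B) = IsLocalRing.maximalIdeal B ∧
        Module.Finite (IsLocalRing.ResidueField A) (IsLocalRing.ResidueField B) ∧
        Algebra.IsSeparable (IsLocalRing.ResidueField A) (IsLocalRing.ResidueField B)) ↔
      (ψ.FiniteType ∧ ψ.FormallyUnramified) := by
  let : Algebra (AdicCompletion (IsLocalRing.maximalIdeal A) A) (AdicCompletion (IsLocalRing.maximalIdeal B) B) := ψ.toAlgebra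
  have : IsScalarTower A (AdicCompletion (IsLocalRing.maximalIdeal A) A) (AdicCompletion (IsLocalRing.maximalIdeal B) B) :=
    .of_algebraMap_eq' (by
      show _ = ψ.comp _
      rw [hψ, ← IsScalarTower.algebraMap_eq])
  have hloc := Groth.HensPair.isLocalHom_completion A B
  constructor
  · rintro ⟨hm, hfin, hsep⟩
    have hf := Groth.HensPair.completion_finite A B hm
    obtain ⟨e₁, e₂, he⟩ := Groth.HensPair.residueField_completion_equiv A B
    have : Algebra.IsSeparable (IsLocalRing.ResidueField (AdicCompletion (IsLocalRing.maximalIdeal A) A))
        (IsLocalRing.ResidueField (AdicCompletion (IsLocalRing.maximalIdeal B) B)) :=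
      Algebra.IsSeparable.of_equiv_equiv e₁ e₂ he
    refine ⟨(RingHom.finite_algebraMap.2 hf).finiteType, ?_⟩
    refine RingHom.formallyUnramified_algebraMap.2 (Algebra.FormallyUnramified.of_map_maximalIdeal ?_)
    rw [Groth.HensPair.map_maximalIdeal_completion, hm, AdicCompletion.maximalIdeal_eq_map]
  · rintro ⟨hft, hfu⟩
    have : Algebra.FiniteType (AdicCompletion (IsLocalRing.maximalIdeal A) A)
        (AdicCompletion (IsLocalRing.maximalIdeal B) B) := hft
    have : Algebra.FormallyUnramified (AdicCompletion (IsLocalRing.maximalIdeal A) A)
        (AdicCompletion (IsLocalRing.maximalIdeal B) B) := hfu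
    exact Groth.HensPair.unramified_of_completion A B Algebra.FormallyUnramified.map_maximalIdeal

end Groth.Agent.S9561
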