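import Groth.Statements.S9562
import Groth.Agent.HensPair.CompletionUnram
import Groth.Agent.S9561

set_option autoImplicit false
universe u
open EtLocal

namespace Groth.Agent.S9562

/-- Let A → B be a local homomorphism of Noetherian local rings with B essentially of finite type over
A, and let ψ be the induced map between the completions of A and B at their maximal ideals (a ring
map of the completions whose composite with A → A^ is A → B → B^; such a map is unique). Then A → B
is an étale homomorphism of local rings, i.e. B is flat over A, m_A B = m_B and the residue field of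
B is a finite separable extension of that of A, if and only if ψ is an étale ring map; moreover in
that case the completion of B is, through ψ, a free module of finite positive rank over the
completion of A. (The published statement lists a third equivalent condition, that ψ is itself an
étale homomorphism of local rings; this row keeps the two outer ones.) -/
theorem result (A B : Type u) [CommRing A] [CommRing B]
    [IsLocalRing A] [IsLocalRing B] [IsNoetherianRing A] [IsNoetherianRing B] [Algebra A B]
    [IsLocalHom (algebraMap A B)] [Algebra.EssFiniteType A B]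
    (ψ : AdicCompletion (IsLocalRing.maximalIdeal A) A →+* AdicCompletion (IsLocalRing.maximalIdeal B) B)
    (hψ : ψ.comp (algebraMap A (AdicCompletion (IsLocalRing.maximalIdeal A) A)) =
      (algebraMap B (AdicCompletion (IsLocalRing.maximalIdeal B) B)).comp (algebraMap A B)) :
    ((Module.Flat A B ∧ (IsLocalRing.maximalIdeal A).map (algebraMap A B) = IsLocalRing.maximalIdeal B ∧
        Module.Finite (IsLocalRing.ResidueField A) (IsLocalRing.ResidueField B) ∧
        Algebra.IsSeparable (IsLocalRing.ResidueField A) (IsLocalRing.ResidueField B)) ↔ ψ.Etale) ∧
      (ψ.Etale →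
        letI := ψ.toAlgebra
        ∃ n : ℕ, 0 < n ∧
          Nonempty ((Fin n → AdicCompletion (IsLocalRing.maximalIdeal A) A) ≃ₗ[AdicCompletion (IsLocalRing.maximalIdeal A) A]
            AdicCompletion (IsLocalRing.maximalIdeal B) B)) := by
  let : Algebra (AdicCompletion (IsLocalRing.maximalIdeal A) A) (AdicCompletion (IsLocalRing.maximalIdeal B) B) := ψ.toAlgebra
  have : IsScalarTower A (AdicCompletion (IsLocalRing.maximalIdeal A) A) (AdicCompletion (IsLocalRing.maximalIdeal B) B) :=
    .of_algebraMap_eq' (by
      show _ = ψ.comp _
      rw [hψ, ← IsScalarTower.algebraMap_eq])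
  have hloc := Groth.HensPair.isLocalHom_completion A B
  have hnoeth : IsNoetherianRing (AdicCompletion (IsLocalRing.maximalIdeal A) A) :=
    Groth.Calg1.isNoetherianRing_adicCompletion _ (IsLocalRing.maximalIdeal A).fg_of_isNoetherianRing
  have key : ψ.Etale → Module.Flat A B ∧ (IsLocalRing.maximalIdeal A).map (algebraMap A B) = IsLocalRing.maximalIdeal B ∧
      Module.Finite (IsLocalRing.ResidueField A) (IsLocalRing.ResidueField B) ∧
      Algebra.IsSeparable (IsLocalRing.ResidueField A) (IsLocalRing.ResidueField B) := fun h => by
    have : Algebra.Etale (AdicCompletion (IsLocalRing.maximalIdeal A) A)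
        (AdicCompletion (IsLocalRing.maximalIdeal B) B) := h
    have : Module.Flat A (AdicCompletion (IsLocalRing.maximalIdeal B) B) :=
      .trans A (AdicCompletion (IsLocalRing.maximalIdeal A) A) _
    exact ⟨Groth.HensPair.flat_of_completion A B,
      Groth.HensPair.unramified_of_completion A B Algebra.FormallyUnramified.map_maximalIdeal⟩
  refine ⟨⟨?_, key⟩, fun h => ?_⟩
  · rintro ⟨hflat, hm, hfin, hsep⟩
    obtain ⟨hft, hfu⟩ := (Groth.Agent.S9561.result A B ψ hψ).1 ⟨hm, hfin, hsep⟩
    obtain ⟨d, -, ⟨e⟩⟩ := Groth.HensPair.completion_free A B hm
    have : Module.Flat (AdicCompletion (IsLocalRing.maximalIdeal A) A)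
        (AdicCompletion (IsLocalRing.maximalIdeal B) B) := .of_linearEquiv e.symm
    exact RingHom.Etale.iff_flat_and_formallyUnramified.2
      ⟨this, hfu, RingHom.FinitePresentation.of_finiteType.1 hft⟩
  · obtain ⟨hflat, hm, hfin, -⟩ := key h
    exact Groth.HensPair.completion_free A B hm

end Groth.Agent.S9562
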