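import Groth.Statements.S7237
import Mathlib.Algebra.TrivSqZeroExt.Basic

set_option autoImplicit false
universe u
open FlatMor
open scoped TensorProduct

namespace Groth.Agent.S7237

theorem result (A : Type u) [CommRing A] (M : Type u)
    [AddCommGroup M] [Module A M] [Module.Finite A M] :
    Function.Bijective (LinearMap.liftBaseChange (SymmetricAlgebra A M)
      ((KaehlerDifferential.D A (SymmetricAlgebra A M)).toLinearMap.restrictScalars A ∘ₗ SymmetricAlgebra.ι A M)) := by
  set C := SymmetricAlgebra A M
  set φ := LinearMap.liftBaseChange C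
      ((KaehlerDifferential.D A C).toLinearMap.restrictScalars A ∘ₗ SymmetricAlgebra.ι A M)
  have hφ : ∀ (c : C) (m : M), φ (c ⊗ₜ m) = c • KaehlerDifferential.D A C (SymmetricAlgebra.ι A M m) :=
    fun c m => rfl
  let N := C ⊗[A] M
  have : IsCentralScalar C N := ⟨fun c x => by
    induction x using TensorProduct.induction_on with
    | zero => simp
    | tmul a b => rw [TensorProduct.smul_tmul', TensorProduct.smul_tmul', op_smul_eq_smul]
    | add a b ha hb => simp [ha, hb]⟩
  let g : M →ₗ[A] TrivSqZeroExt C N :=
    (TrivSqZeroExt.inlAlgHom A C N).toLinearMap ∘ₗ SymmetricAlgebra.ι A M +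
      (TrivSqZeroExt.inrHom C N).restrictScalars A ∘ₗ TensorProduct.mk A C M 1
  let ψ : C →ₐ[A] TrivSqZeroExt C N := SymmetricAlgebra.lift g
  have hψι : ∀ m, ψ (SymmetricAlgebra.ι A M m) = g m := fun m => SymmetricAlgebra.lift_ι_apply g m
  have hfst : ∀ c, (ψ c).fst = c := by
    intro c
    induction c using SymmetricAlgebra.induction with
    | algebraMap r => rw [AlgHom.commutes, TrivSqZeroExt.algebraMap_eq_inl']; simp; rfl
    | ι x => rw [hψι]; simp [g]
    | mul a b ha hb => simp [ha, hb]
    | add a b ha hb => simp [ha, hb]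
  let d : Derivation A C N := Derivation.mk'
    { toFun := fun c => (ψ c).snd
      map_add' := fun a b => by simp
      map_smul' := fun r a => by simp }
    (fun a b => by
      simp only [LinearMap.coe_mk, AddHom.coe_mk, map_mul, TrivSqZeroExt.snd_mul, hfst]
      rw [op_smul_eq_smul])
  let χ := d.liftKaehlerDifferential
  have hd : ∀ m, d (SymmetricAlgebra.ι A M m) = (1 : C) ⊗ₜ[A] m := by
    intro m
    show (ψ _).snd = _
    rw [hψι]; simp [g]; rfl
  have h1 : χ ∘ₗ φ = LinearMap.id := by
    ext m
    simp only [TensorProduct.AlgebraTensorModule.curry_apply, LinearMap.restrictScalars_self,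
      TensorProduct.curry_apply, LinearMap.coe_restrictScalars, LinearMap.coe_comp, Function.comp_apply, LinearMap.id_coe, id_eq]
    rw [hφ, one_smul, Derivation.liftKaehlerDifferential_comp_D, hd]
  have h2 : Function.Surjective φ := by
    rw [← LinearMap.range_eq_top, eq_top_iff, ← KaehlerDifferential.span_range_derivation, Submodule.span_le]
    rintro _ ⟨c, rfl⟩
    show KaehlerDifferential.D A C c ∈ LinearMap.range φ
    induction c using SymmetricAlgebra.induction with
    | algebraMap r => rw [Derivation.map_algebraMap]; exact zero_mem _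
    | ι x => exact ⟨1 ⊗ₜ x, by rw [hφ, one_smul]⟩
    | mul a b ha hb => rw [Derivation.leibniz]; exact add_mem (Submodule.smul_mem _ _ hb) (Submodule.smul_mem _ _ ha)
    | add a b ha hb => rw [map_add]; exact add_mem ha hb
  exact ⟨fun x y h => by simpa [← LinearMap.comp_apply, h1] using congrArg χ h, h2⟩

end Groth.Agent.S7237
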