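import Groth.Statements.S17596
import Groth.Agent.HensPair.Universal
import Groth.Agent.Hensel1.Local
import Mathlib.RingTheory.ZariskisMainTheorem

set_option autoImplicit false
universe u
open Hensel

namespace Groth.Agent.S17596

/-- Let (A, I) be a Henselian pair and let B be a Henselization of the pair (R, IR) for a finitely
presented A-algebra R (that is, A → B is a Henselian finitely presented map of Henselian pairs). If
the induced map A/I → B/IB is module-finite, then B is module-finite and finitely presented over A. -/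
theorem result (A : Type u) [CommRing A] (I : Ideal A)
    [HenselianRing A I] (R : Type u) [CommRing R] [Algebra A R] [Algebra.FinitePresentation A R]
    (B : Type u) [CommRing B] [Algebra R B] [Algebra A B] [IsScalarTower A R B]
    (hB : Hens2.IsPairHenselization R (I.map (algebraMap A R)) B)
    (hfin : (Ideal.quotientMap (I.map (algebraMap A B)) (algebraMap A B) Ideal.le_comap_map).Finite) :
    Module.Finite A B ∧ Algebra.FinitePresentation A B := by
  classical
  set J := I.map (algebraMap A R) with hJ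
  -- R/J is finite over A
  have hbar : Module.Finite A (R ⧸ J) := by
    have key : ∀ (J' : Ideal B) (h : I ≤ J'.comap (algebraMap A B)), J' = J.map (algebraMap R B) →
        (Ideal.quotientMap J' (algebraMap A B) h).Finite → Module.Finite A (R ⧸ J) := by
      rintro _ h rfl hf
      let e := RingEquiv.ofBijective _ (Groth.HensPair.quotientMap_bijective_of_isPairHenselization hB)
      have h1 : ((e.symm.toRingHom).comp ((Ideal.quotientMap _ (algebraMap A B) h).comp
          (Ideal.Quotient.mk I))) = algebraMap A (R ⧸ J) := RingHom.ext fun x => e.injective (by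
        show e (e.symm _) = _
        rw [e.apply_symm_apply]
        exact congrArg (Ideal.Quotient.mk _) (IsScalarTower.algebraMap_apply A R B x))
      refine RingHom.finite_algebraMap.1 ?_
      rw [← h1]
      exact (RingHom.Finite.of_surjective _ e.symm.surjective).comp
        (hf.comp (RingHom.Finite.of_surjective _ Ideal.Quotient.mk_surjective))
    exact key _ Ideal.le_comap_map (by rw [hJ, Ideal.map_map, ← IsScalarTower.algebraMap_eq]) hfin
  -- Zariski's main theorem at the primes containing J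
  have hQF : ∀ q : PrimeSpectrum R, J ≤ q.asIdeal → ∃ r ∉ q.asIdeal, IsIntegral A r ∧
      ∀ x, ∃ m, IsIntegral A (r ^ m * x) := by
    intro q hq
    rw [← Algebra.zariskisMainProperty_iff]
    have : Algebra.QuasiFiniteAt A q.asIdeal := by
      refine Algebra.QuasiFiniteAt.of_isOpen_singleton_fiber q ?_
      have hd : IsDiscrete (PrimeSpectrum.comap (algebraMap A R) ⁻¹' {q.comap (algebraMap A R)}) := by
        refine ((Algebra.QuasiFinite.isDiscrete_comap_preimage_singleton (R := A) (S := R ⧸ J)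
          (q.comap (algebraMap A R))).image
            (PrimeSpectrum.isClosedEmbedding_comap_of_surjective _ _
              (Ideal.Quotient.mk_surjective (I := J))).toIsEmbedding.toIsInducing).mono ?_
        intro P hP
        have hP' : J ≤ P.asIdeal := Ideal.map_le_iff_le_comap.2
          (le_of_le_of_eq (Ideal.map_le_iff_le_comap.1 hq) (congrArg PrimeSpectrum.asIdeal hP).symm)
        obtain ⟨P', rfl⟩ : P ∈ Set.range (PrimeSpectrum.comap (Ideal.Quotient.mk J)) := by
          rw [range_comap_of_surjective _ _ Ideal.Quotient.mk_surjective, Ideal.mk_ker]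
          exact hP'
        exact ⟨P', hP, rfl⟩
      have := hd.1
      exact isOpen_discrete _
    exact .of_finiteType _
  choose r hr hint m hm using fun q : PrimeSpectrum.zeroLocus (J : Set R) =>
    hQF q.1 ((PrimeSpectrum.mem_zeroLocus _ _).1 q.2)
  obtain ⟨s, hs⟩ := (PrimeSpectrum.isClosed_zeroLocus (J : Set R)).isCompact.elim_finite_subcover
    (fun q => (PrimeSpectrum.basicOpen (r q) : Set (PrimeSpectrum R)))
    (fun q => (PrimeSpectrum.basicOpen (r q)).2) fun q hq => Set.mem_iUnion.2 ⟨⟨q, hq⟩, hr ⟨q, hq⟩⟩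
  let F : Subalgebra A R := integralClosure A R
  let ρ : F →ₐ[A] R ⧸ J := (Ideal.Quotient.mkₐ A J).comp F.val
  let g : s → F := fun q => ⟨r q, hint q⟩
  have hmF : ∀ (x : R), ∃ n, ∀ q : s, ∀ k ≥ n, r q ^ k * x ∈ F := by
    intro x
    refine ⟨Finset.univ.sup fun q : s => m q x, fun q k hk => ?_⟩
    obtain ⟨j, rfl⟩ := Nat.exists_eq_add_of_le
      ((Finset.le_sup (f := fun q : s => m q x) (Finset.mem_univ q)).trans hk)
    rw [pow_add, mul_comm (r q ^ m q x), mul_assoc]
    exact F.mul_mem (F.pow_mem (hint q) j) (hm q x)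
  have hpow : ∀ {T : Type u} [CommRing T] (f : s → T) (N : Ideal T) (k : ℕ),
      Ideal.span (Set.range f) ⊔ N = ⊤ → Ideal.span (Set.range fun q => f q ^ k) ⊔ N = ⊤ := by
    intro T _ f N k hf
    rw [← Ideal.radical_eq_top, eq_top_iff, ← hf]
    exact sup_le (Ideal.span_le.2 (Set.range_subset_iff.2 fun q =>
      ⟨k, Ideal.mem_sup_left (Ideal.subset_span ⟨q, rfl⟩)⟩)) (le_sup_right.trans Ideal.le_radical)
  have hcov : Ideal.span (Set.range fun q : s => r q) ⊔ J = ⊤ := by
    by_contra hne
    obtain ⟨M, hM, hle⟩ := Ideal.exists_le_maximal _ hne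
    obtain ⟨q, hqs, hq⟩ := Set.mem_iUnion₂.1
      (hs (show (⟨M, hM.isPrime⟩ : PrimeSpectrum R) ∈ PrimeSpectrum.zeroLocus (J : Set R) from
        (PrimeSpectrum.mem_zeroLocus _ _).2 (SetLike.coe_subset_coe.2 ((le_sup_right (a := Ideal.span (Set.range fun q : s => r q))).trans hle))))
    exact hq (hle (Ideal.mem_sup_left (Ideal.subset_span ⟨⟨q, hqs⟩, rfl⟩)))
  -- the integral closure maps onto R/J
  have hsurj : ∀ x : R ⧸ J, ∃ y : F, ρ y = x := by
    obtain ⟨G, hG⟩ := hbar.fg_top
    choose n hn using fun x : R ⧸ J => hmF (Function.surjInv Ideal.Quotient.mk_surjective x)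
    let N := G.sup n
    have h1 : ∀ (q : s) (x : R ⧸ J), Ideal.Quotient.mk J (r q ^ N) * x ∈ ρ.range := by
      intro q x
      have hx : x ∈ Submodule.span A (G : Set (R ⧸ J)) := hG ▸ Submodule.mem_top
      induction hx using Submodule.span_induction with
      | mem y hy => exact ⟨⟨_, hn y q N (Finset.le_sup hy)⟩, by
          simp [ρ, Function.surjInv_eq (f := Ideal.Quotient.mk J)]⟩
      | zero => rw [mul_zero]; exact zero_mem _
      | add y z _ _ hy hz => rw [mul_add]; exact add_mem hy hz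
      | smul a y _ hy => rw [mul_smul_comm]; exact Subalgebra.smul_mem _ hy a
    intro x
    obtain ⟨u, hu, v, hv, huv⟩ := Submodule.mem_sup.1
      ((Ideal.eq_top_iff_one _).1 (hpow (fun q : s => r q) J N hcov))
    obtain ⟨c, hc⟩ := Ideal.mem_span_range_iff_exists_fun.1 hu
    have : x = ∑ q : s, Ideal.Quotient.mk J (r q ^ N) * (Ideal.Quotient.mk J (c q) * x) := by
      have h2 := congrArg (Ideal.Quotient.mk J) huv
      rw [map_add, Ideal.Quotient.eq_zero_iff_mem.2 hv, add_zero, ← hc, map_sum, map_one] at h2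
      conv_lhs => rw [← one_mul x, ← h2, Finset.sum_mul]
      exact Finset.sum_congr rfl fun q _ => by rw [map_mul]; ring
    rw [this]
    exact Subalgebra.sum_mem _ fun q _ => h1 q _
  -- the idempotent
  let IF : Ideal F := I.map (algebraMap A F)
  have : Algebra.IsIntegral A F := inferInstanceAs (Algebra.IsIntegral A (integralClosure A R))
  have hjac : IF ≤ Ideal.jacobson ⊥ := Groth.HensPair.map_le_jacobson_bot HenselianRing.jac
  obtain ⟨c, hc⟩ : ∃ c : s → F, ρ (∑ q, c q * g q) = 1 := by
    obtain ⟨u, hu, v, hv, huv⟩ := Submodule.mem_sup.1 ((Ideal.eq_top_iff_one _).1 hcov)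
    obtain ⟨d, hd⟩ := Ideal.mem_span_range_iff_exists_fun.1 hu
    choose c hc using fun q => hsurj (Ideal.Quotient.mk J (d q))
    refine ⟨c, ?_⟩
    have h2 := congrArg (Ideal.Quotient.mk J) huv
    rw [map_add, Ideal.Quotient.eq_zero_iff_mem.2 hv, add_zero, ← hd, map_sum, map_one] at h2
    rw [map_sum, ← h2]
    exact Finset.sum_congr rfl fun q _ => by rw [map_mul, map_mul, hc]; rfl
  set ν : F := 1 - ∑ q, c q * g q with hν
  have hνJ : (ν : R) ∈ J := Ideal.Quotient.eq_zero_iff_mem.1
    (show ρ ν = 0 by rw [hν, map_sub, hc, map_one, sub_self])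
  have hkill : ∀ x ∈ J, ∃ n, ∀ q : s, ∀ k ≥ n, ∃ y ∈ IF, (y : R) = r q ^ k * x := by
    intro x hx
    induction hx using Submodule.span_induction with
    | mem y hy =>
      obtain ⟨a, ha, rfl⟩ := hy
      exact ⟨0, fun q k _ => ⟨g q ^ k * algebraMap A F a, IF.mul_mem_left _ (Ideal.mem_map_of_mem _ ha),
        by simp [g]⟩⟩
    | zero => exact ⟨0, fun q k _ => ⟨0, zero_mem _, by simp⟩⟩
    | add y z _ _ hy hz =>
      obtain ⟨n₁, h₁⟩ := hy; obtain ⟨n₂, h₂⟩ := hz
      refine ⟨max n₁ n₂, fun q k hk => ?_⟩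
      obtain ⟨a, ha, hay⟩ := h₁ q k (le_of_max_le_left hk)
      obtain ⟨b, hb, hbz⟩ := h₂ q k (le_of_max_le_right hk)
      exact ⟨a + b, add_mem ha hb, by simp [hay, hbz, mul_add]⟩
    | smul t y _ hy =>
      obtain ⟨n₁, h₁⟩ := hy; obtain ⟨n₂, h₂⟩ := hmF t
      refine ⟨n₁ + n₂, fun q k hk => ?_⟩
      obtain ⟨j, rfl⟩ := Nat.exists_eq_add_of_le hk
      obtain ⟨a, ha, hay⟩ := h₁ q n₁ le_rfl
      refine ⟨⟨_, h₂ q (n₂ + j) (by omega)⟩ * a, IF.mul_mem_left _ ha, ?_⟩
      simp only [MulMemClass.coe_mul, hay, smul_eq_mul]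
      ring
  obtain ⟨n₀, hn⟩ := hkill _ hνJ
  let n := n₀ + 1
  have hνn : ∀ q : s, g q ^ n * ν ∈ IF := fun q => by
    obtain ⟨y, hy, hyv⟩ := hn q n (Nat.le_succ n₀)
    rwa [show g q ^ n * ν = y from Subtype.ext (by simp [g, hyv])]
  obtain ⟨u, hu, v, hv, huv⟩ := Submodule.mem_sup.1 ((Ideal.eq_top_iff_one _).1
    (hpow g (Ideal.span {ν}) n ((Ideal.eq_top_iff_one _).2 (Submodule.mem_sup.2
      ⟨∑ q, c q * g q, Ideal.sum_mem _ fun q _ => Ideal.mul_mem_left _ _ (Ideal.subset_span ⟨q, rfl⟩),
        ν, Ideal.mem_span_singleton_self ν, by rw [hν]; ring⟩))))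
  obtain ⟨a, rfl⟩ := Ideal.mem_span_singleton'.1 hv
  have huν : u * ν ∈ IF := by
    obtain ⟨d, rfl⟩ := Ideal.mem_span_range_iff_exists_fun.1 hu
    rw [Finset.sum_mul]
    exact Ideal.sum_mem _ fun q _ => by rw [mul_assoc]; exact IF.mul_mem_left _ (hνn q)
  obtain ⟨e, he, heu⟩ := Groth.Hensel1.exists_idempotent_lift (A := A) (I := I) u (by
    rw [show u * u - u = -a * (u * ν) by linear_combination u * huv]
    exact IF.mul_mem_left _ huν)
  let t : R := 1 - (e : R)
  let K : Ideal R := Ideal.span {t}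
  have hFJ : ∀ z ∈ IF, (z : R) ∈ J := fun z hz => by
    have := Ideal.mem_map_of_mem F.val.toRingHom hz
    rw [Ideal.map_map, show F.val.toRingHom.comp (algebraMap A F) = algebraMap A R from rfl] at this
    exact this
  have htJ : t ∈ J := by
    have h2 := hFJ _ heu
    have h3 : ((u : R) + a * ν) = 1 := by simpa using congrArg Subtype.val huv
    rw [show t = (a : R) * ν - ((e - u : F) : R) by simp [t]; linear_combination -h3]
    exact sub_mem (J.mul_mem_left _ hνJ) h2
  have hgen : Ideal.span (Set.range g) ⊔ Ideal.span {1 - e} = ⊤ := by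
    refine Ideal.eq_top_of_isUnit_mem _ ?_ (Ideal.mem_jacobson_bot.1 (hjac heu) (-1))
    have h1 : u ∈ Ideal.span (Set.range g) := by
      exact Ideal.span_le.2 (Set.range_subset_iff.2 fun q => SetLike.mem_coe.2
        (Ideal.pow_mem_of_mem _ (Ideal.subset_span (Set.mem_range_self q)) n n₀.succ_pos)) hu
    rw [show (e - u) * -1 + 1 = u + (1 - e) by ring]
    exact Submodule.add_mem_sup h1 (Ideal.mem_span_singleton_self _)
  have hintK : Algebra.IsIntegral A (R ⧸ K) := ⟨fun x => by
    obtain ⟨x, rfl⟩ := Ideal.Quotient.mk_surjective x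
    obtain ⟨k, hk⟩ := hmF x
    obtain ⟨u', hu', v', hv', huv'⟩ := Submodule.mem_sup.1
      ((Ideal.eq_top_iff_one _).1 (hpow g (Ideal.span {1 - e}) k hgen))
    obtain ⟨d, rfl⟩ := Ideal.mem_span_range_iff_exists_fun.1 hu'
    obtain ⟨b, rfl⟩ := Ideal.mem_span_singleton'.1 hv'
    have : Ideal.Quotient.mk K x = Ideal.Quotient.mk K ((∑ q, (d q : R) * (r q ^ k * x))) := by
      rw [Ideal.Quotient.eq, Ideal.mem_span_singleton']
      refine ⟨b * x, ?_⟩
      have h2 : ((∑ q, (d q : R) * r q ^ k) + b * (1 - e)) = 1 := by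
        simpa [g] using congrArg Subtype.val huv'
      have h4 : ∑ q, (d q : R) * (r q ^ k * x) = (∑ q, (d q : R) * r q ^ k) * x := by
        rw [Finset.sum_mul]; exact Finset.sum_congr rfl fun q _ => by ring
      rw [h4]
      linear_combination x * h2
    rw [this]
    exact IsIntegral.map (Ideal.Quotient.mkₐ A K)
      (F.sum_mem fun q _ => F.mul_mem (d q).2 (hk q k le_rfl))⟩
  have : Algebra.FinitePresentation A (R ⧸ K) :=
    Algebra.FinitePresentation.quotient (Submodule.fg_span_singleton t)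
  have : Module.Finite A (R ⧸ K) := Algebra.IsIntegral.finite
  have hK : Hens2.IsPairHenselization R J (R ⧸ K) := by
    refine ⟨?_, fun D _ J' f hD hf => ?_⟩
    · rw [hJ, Ideal.map_map, ← IsScalarTower.algebraMap_eq]
      exact Groth.Hensel1.henselianRing_of_isIntegral (A := A) (R ⧸ K)
    · have h0 : f t = 0 := Groth.HensPair.idem_eq_of_sub_mem_jacobson
        ((he.one_sub.map F.val).map f |> fun h => by simpa [t] using h) IsIdempotentElem.zero
        (by rw [sub_zero]; exact hD.jac (hf (Ideal.mem_map_of_mem f htJ)))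
      refine ⟨Ideal.Quotient.lift K f (fun x hx => ?_), Ideal.Quotient.lift_comp_mk _ _ _, fun g' hg' => ?_⟩
      · obtain ⟨y, rfl⟩ := Ideal.mem_span_singleton'.1 hx
        rw [map_mul, h0, mul_zero]
      · exact Ideal.Quotient.ringHom_ext (hg'.trans (Ideal.Quotient.lift_comp_mk _ _ _).symm)
  obtain ⟨φ⟩ := Groth.HensPair.nonempty_algEquiv hK hB
  exact ⟨Module.Finite.equiv (φ.restrictScalars A).toLinearEquiv,
    Algebra.FinitePresentation.equiv (φ.restrictScalars A)⟩

end Groth.Agent.S17596
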