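import Groth.Statements.S17597
import Groth.Agent.S17596

set_option autoImplicit false
universe u
open Hensel

namespace Groth.Agent.S17597

/-- Let (A, I) be a Henselian pair and let B be a Henselization of the pair (R, IR) for a finitely
presented A-algebra R (so A → B is Henselian finitely presented). If the induced map A/I → B/IB is
surjective, then A → B is surjective. -/
theorem result (A : Type u) [CommRing A] (I : Ideal A)
    [HenselianRing A I] (R : Type u) [CommRing R] [Algebra A R] [Algebra.FinitePresentation A R]
    (B : Type u) [CommRing B] [Algebra R B] [Algebra A B] [IsScalarTower A R B]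
    (hB : Hens2.IsPairHenselization R (I.map (algebraMap A R)) B)
    (hsurj : Function.Surjective
      (Ideal.quotientMap (I.map (algebraMap A B)) (algebraMap A B) Ideal.le_comap_map)) :
    Function.Surjective (algebraMap A B) := by
  obtain ⟨hfin, -⟩ := Groth.Agent.S17596.result A I R B hB (RingHom.Finite.of_surjective _ hsurj)
  have key : (⊤ : Submodule A B) ≤ LinearMap.range (Algebra.linearMap A B) := by
    refine Submodule.le_of_le_smul_of_le_jacobson_bot hfin.fg_top (HenselianRing.jac (I := I)) fun x _ => ?_
    obtain ⟨y, hy⟩ := hsurj (Ideal.Quotient.mk _ x)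
    obtain ⟨a, rfl⟩ := Ideal.Quotient.mk_surjective y
    rw [Ideal.quotientMap_mk, Ideal.Quotient.eq] at hy
    refine Submodule.mem_sup.2 ⟨algebraMap A B a, ⟨a, rfl⟩, x - algebraMap A B a, ?_, by ring⟩
    rw [Ideal.smul_top_eq_map]
    simpa using neg_mem hy
  exact fun x => key trivial

end Groth.Agent.S17597
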