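import Groth.Statements.S17609
import Groth.Agent.HensPair.Ops
open scoped TensorProduct

set_option autoImplicit false
universe u
open Hensel

namespace Groth.Agent.S17609

/-- Let (A, I) be a Henselian pair and let B, C be Henselizations of the pairs (R, IR), (S, IS) for
finitely presented A-algebras R and S, with their induced A-algebra structures (so A → B and A → C
are Henselian finitely presented). Then every A-algebra map B → C (encoded as a B-algebra structure
on C compatible with that of A) is Henselian finitely presented: there are a finitely presented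
B-algebra T and a T-algebra structure on C compatible with that of B for which C is a Henselization
of the pair (T, IBT). -/
theorem result (A : Type u) [CommRing A] (I : Ideal A) [HenselianRing A I]
    (R : Type u) [CommRing R] [Algebra A R] [Algebra.FinitePresentation A R]
    (B : Type u) [CommRing B] [Algebra R B] [Algebra A B] [IsScalarTower A R B]
    (hB : Hens2.IsPairHenselization R (I.map (algebraMap A R)) B)
    (S : Type u) [CommRing S] [Algebra A S] [Algebra.FinitePresentation A S]
    (C : Type u) [CommRing C] [Algebra S C] [Algebra A C] [IsScalarTower A S C]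
    (hC : Hens2.IsPairHenselization S (I.map (algebraMap A S)) C)
    [Algebra B C] [IsScalarTower A B C] :
    ∃ (T : Type u) (_ : CommRing T) (_ : Algebra B T) (_ : Algebra T C) (_ : IsScalarTower B T C),
      Algebra.FinitePresentation B T ∧
      Hens2.IsPairHenselization T ((I.map (algebraMap A B)).map (algebraMap B T)) C := by
  classical
  obtain ⟨s, hs⟩ := (inferInstance : Algebra.FiniteType A R).out
  obtain ⟨S', _, _, θ, t, hS', ht⟩ := Groth.HensPair.exists_isNbhd_of_finite hC
    (fun k : s => algebraMap B C (algebraMap R B k))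
  let _ := θ.toRingHom.toAlgebra
  have : IsScalarTower S S' C := IsScalarTower.of_algebraMap_eq fun a => (θ.commutes a).symm
  have hC' := Groth.HensPair.isPairHenselization_of_isNbhd hC hS'
  let _ : Algebra A S' := ((algebraMap S S').comp (algebraMap A S)).toAlgebra
  have : IsScalarTower A S S' := IsScalarTower.of_algebraMap_eq fun _ => rfl
  have : IsScalarTower A S' C := IsScalarTower.of_algebraMap_eq fun a => by
    show algebraMap A C a = θ (algebraMap S S' (algebraMap A S a))
    rw [θ.commutes, ← IsScalarTower.algebraMap_apply]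
  rw [Ideal.map_map, ← IsScalarTower.algebraMap_eq] at hC'
  have := hS'.etale
  have : Algebra.FinitePresentation A S' := .trans A S S'
  let gen : s → B ⊗[A] S' := fun k => algebraMap R B k ⊗ₜ[A] 1 - 1 ⊗ₜ[A] t k
  let K : Ideal (B ⊗[A] S') := Ideal.span (Set.range gen)
  have : Algebra.FinitePresentation B (B ⊗[A] S' ⧸ K) :=
    Algebra.FinitePresentation.quotient (Submodule.fg_span (Set.finite_range gen))
  let ρ : B ⊗[A] S' →ₐ[B] C := Algebra.TensorProduct.lift (Algebra.ofId B C)
    (IsScalarTower.toAlgHom A S' C) fun _ _ => Commute.all _ _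
  have hρ : ∀ x ∈ K, ρ x = 0 := by
    intro x hx
    refine RingHom.mem_ker.1 ((Ideal.span_le.2 ?_ : K ≤ RingHom.ker ρ) hx)
    rintro _ ⟨k, rfl⟩
    have h1 : algebraMap S' C (t k) = algebraMap B C (algebraMap R B k) := ht k
    simp [ρ, gen, h1]
  let _ : Algebra (B ⊗[A] S' ⧸ K) C := (Ideal.Quotient.liftₐ K ρ hρ).toRingHom.toAlgebra
  have : IsScalarTower B (B ⊗[A] S' ⧸ K) C :=
    IsScalarTower.of_algebraMap_eq fun b => ((Ideal.Quotient.liftₐ K ρ hρ).commutes b).symm
  have hIC : ((I.map (algebraMap A B)).map (algebraMap B (B ⊗[A] S' ⧸ K))).map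
      (algebraMap (B ⊗[A] S' ⧸ K) C) = (I.map (algebraMap A S)).map (algebraMap S C) := by
    rw [Ideal.map_map, ← IsScalarTower.algebraMap_eq, Ideal.map_map, Ideal.map_map,
      ← IsScalarTower.algebraMap_eq, ← IsScalarTower.algebraMap_eq]
  refine ⟨B ⊗[A] S' ⧸ K, inferInstance, inferInstance, inferInstance, inferInstance,
    inferInstance, hIC.symm ▸ hC.1, fun C' _ J h hC'' hJ => ?_⟩
  rw [Ideal.map_map, Ideal.map_map] at hJ
  let hb : B →+* C' := h.comp (algebraMap B (B ⊗[A] S' ⧸ K))
  let hsR : S' →+* C' := (h.comp (Ideal.Quotient.mk K)).comp Algebra.TensorProduct.includeRight.toRingHom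
  have hA : hsR.comp (algebraMap A S') = hb.comp (algebraMap A B) := RingHom.ext fun a =>
    congrArg (fun z => h (Ideal.Quotient.mk K z))
      ((Algebra.TensorProduct.includeRight : S' →ₐ[A] B ⊗[A] S').commutes a)
  obtain ⟨γ, hγ, hγu⟩ := hC'.2 C' J hsR hC'' (by rwa [Ideal.map_map, hA])
  have hγB : γ.comp (algebraMap B C) = hb := by
    have hR : (γ.comp (algebraMap B C)).comp (algebraMap R B) = hb.comp (algebraMap R B) := by
      let _ := (hb.comp (algebraMap A B)).toAlgebra
      let φ₁ : R →ₐ[A] C' :=
        { (γ.comp (algebraMap B C)).comp (algebraMap R B) with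
          commutes' := fun a => by
            show γ (algebraMap B C (algebraMap R B (algebraMap A R a))) = hb (algebraMap A B a)
            rw [← IsScalarTower.algebraMap_apply A R B, ← IsScalarTower.algebraMap_apply A B C,
              IsScalarTower.algebraMap_apply A S' C, ← RingHom.comp_apply γ, hγ]
            exact RingHom.congr_fun hA a }
      let φ₂ : R →ₐ[A] C' :=
        { hb.comp (algebraMap R B) with
          commutes' := fun a => by
            show hb (algebraMap R B (algebraMap A R a)) = hb (algebraMap A B a)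
            rw [← IsScalarTower.algebraMap_apply A R B] }
      refine congrArg AlgHom.toRingHom (AlgHom.ext_of_adjoin_eq_top hs (φ₁ := φ₁) (φ₂ := φ₂) ?_)
      intro x hx
      show γ (algebraMap B C (algebraMap R B x)) = hb (algebraMap R B x)
      have h1 : algebraMap S' C (t ⟨x, hx⟩) = algebraMap B C (algebraMap R B x) := ht ⟨x, hx⟩
      rw [← h1, ← RingHom.comp_apply γ, hγ]
      have : Ideal.Quotient.mk K (algebraMap R B x ⊗ₜ[A] 1) = Ideal.Quotient.mk K (1 ⊗ₜ[A] t ⟨x, hx⟩) :=
        Ideal.Quotient.eq.2 (Ideal.subset_span ⟨⟨x, hx⟩, rfl⟩)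
      exact (congrArg h this).symm
    refine Groth.HensPair.ringHom_ext_of_isPairHenselization hB J hR ?_
    rw [hR, Ideal.map_map, RingHom.comp_assoc, ← IsScalarTower.algebraMap_eq]
    exact hJ
  refine ⟨γ, Ideal.Quotient.ringHom_ext (RingHom.ext fun z => ?_), fun γ' hγ' => hγu γ' ?_⟩
  · show γ (ρ z) = h (Ideal.Quotient.mk K z)
    induction z with
    | zero => simp
    | add x y hx hy => simp [hx, hy]
    | tmul b y =>
      have : b ⊗ₜ[A] y = (b ⊗ₜ[A] (1 : S')) * ((1 : B) ⊗ₜ[A] y) := by
        rw [Algebra.TensorProduct.tmul_mul_tmul, mul_one, one_mul]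
      rw [this, map_mul, map_mul, map_mul, map_mul]
      congr 1
      · have h2 : γ (algebraMap B C b) = h (Ideal.Quotient.mk K (b ⊗ₜ[A] 1)) := RingHom.congr_fun hγB b
        simpa [ρ] using h2
      · simpa [ρ, hsR] using RingHom.congr_fun hγ y
  · refine RingHom.ext fun y => ?_
    have := RingHom.congr_fun hγ' (Ideal.Quotient.mk K ((1 : B) ⊗ₜ[A] y))
    refine Eq.trans ?_ this
    show γ' (algebraMap S' C y) = γ' (ρ ((1 : B) ⊗ₜ[A] y))
    simp [ρ]

end Groth.Agent.S17609
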