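import Groth.Statements.S15768
import Mathlib
import Groth.Agent.Calg7.IdemAway
import Groth.Agent.HensPair.Truncation
-- import your own Groth.Agent.* helpers here

set_option autoImplicit false
universe u
open Polynomial
open CAlg

namespace Groth.Agent.S15768

theorem ps_idem (R : Type u) [CommRing R] (e : Localization.Away (PowerSeries.X : PowerSeries R))
    (he : IsIdempotentElem e) :
    ∃ r : R, IsIdempotentElem r ∧
      algebraMap (PowerSeries R) (Localization.Away (PowerSeries.X : PowerSeries R)) (PowerSeries.C r) = e := by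
  classical
  let L := Localization.Away (PowerSeries.X : PowerSeries R)
  have hle : Submonoid.powers (PowerSeries.X : PowerSeries R) ≤ nonZeroDivisors (PowerSeries R) := by
    refine (Submonoid.powers_le (n := (PowerSeries.X : PowerSeries R))).2 ?_
    exact mem_nonZeroDivisors_iff_right.2 fun f hf => PowerSeries.ext fun n => by
      have := congrArg (PowerSeries.coeff (n + 1)) hf
      simpa [PowerSeries.coeff_succ_mul_X] using this
  have hinj : Function.Injective (algebraMap (PowerSeries R) L) := IsLocalization.injective L hle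
  obtain ⟨⟨g, ⟨_, n, rfl⟩⟩, hg⟩ := IsLocalization.surj (Submonoid.powers (PowerSeries.X : PowerSeries R)) e
  simp only at hg
  have hgg : g * g = PowerSeries.X ^ n * g := hinj (by
    rw [map_mul, map_mul, ← hg]
    linear_combination (algebraMap (PowerSeries R) L (PowerSeries.X ^ n) *
      algebraMap (PowerSeries R) L (PowerSeries.X ^ n)) * he.eq)
  have hprime : ∀ P : Ideal R, P.IsPrime → (∀ i, i ≠ n → PowerSeries.coeff i g ∈ P) ∧
      PowerSeries.coeff n g * (PowerSeries.coeff n g - 1) ∈ P := by
    intro P hP
    haveI := hP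
    let π := Ideal.Quotient.mk P
    have h0 : PowerSeries.map π g * (PowerSeries.map π g - PowerSeries.X ^ n) = 0 := by
      have := congrArg (PowerSeries.map π) hgg
      simp only [map_mul, map_pow, PowerSeries.map_X] at this
      linear_combination this
    rcases mul_eq_zero.1 h0 with h | h
    · have h' : ∀ i, PowerSeries.coeff i g ∈ P := fun i =>
        Ideal.Quotient.eq_zero_iff_mem.1 (by simpa [π] using congrArg (PowerSeries.coeff i) h)
      exact ⟨fun i _ => h' i, Ideal.mul_mem_right _ _ (h' n)⟩
    · have h' : ∀ i, π (PowerSeries.coeff i g) = if i = n then 1 else 0 := fun i => by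
        have := congrArg (PowerSeries.coeff i) (sub_eq_zero.1 h)
        simpa [PowerSeries.coeff_X_pow] using this
      refine ⟨fun i hi => Ideal.Quotient.eq_zero_iff_mem.1 (by rw [h', if_neg hi]), ?_⟩
      refine Ideal.mul_mem_left _ _ (Ideal.Quotient.eq_zero_iff_mem.1 ?_)
      rw [map_sub, h', if_pos rfl, map_one, sub_self]
  have hnil : ∀ i, i ≠ n → IsNilpotent (PowerSeries.coeff i g) := fun i hi =>
    mem_nilradical.1 (by
      rw [nilradical_eq_sInf]; exact Ideal.mem_sInf.2 fun {P} hP => (hprime P hP).1 i hi)
  obtain ⟨r, hr, hr'⟩ : ∃ r : R, IsIdempotentElem r ∧ IsNilpotent (PowerSeries.coeff n g - r) := by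
    let q := Ideal.Quotient.mk (nilradical R)
    have hq : IsIdempotentElem (q (PowerSeries.coeff n g)) := by
      rw [IsIdempotentElem, ← map_mul, Ideal.Quotient.eq, mem_nilradical,
        ← mem_nilradical, nilradical_eq_sInf]
      exact Ideal.mem_sInf.2 fun {P} hP => by
        simpa [mul_sub] using (hprime P hP).2
    obtain ⟨r, hr, hr'⟩ := exists_isIdempotentElem_eq_of_ker_isNilpotent q
      (fun x hx => mem_nilradical.1 (Ideal.Quotient.eq_zero_iff_mem.1 hx)) _
      ⟨_, rfl⟩ hq
    exact ⟨r, hr, mem_nilradical.1 (Ideal.Quotient.eq.1 hr'.symm)⟩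
  refine ⟨r, hr, ?_⟩
  set h := g - PowerSeries.C r * PowerSeries.X ^ n with hh
  set p : Polynomial R := PowerSeries.trunc (n + 1) h with hp
  have hpn : IsNilpotent p := Polynomial.isNilpotent_iff.2 fun i => by
    rw [hp, PowerSeries.coeff_trunc]
    split_ifs with hi
    · rw [hh, map_sub, PowerSeries.coeff_C_mul, PowerSeries.coeff_X_pow]
      rcases eq_or_ne i n with rfl | hne
      · simpa using hr'
      · simpa [hne] using hnil i hne
    · exact IsNilpotent.zero
  obtain ⟨q, hq⟩ : (PowerSeries.X : PowerSeries R) ^ (n + 1) ∣ h - (p : PowerSeries R) := by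
    rw [PowerSeries.X_pow_dvd_iff]
    intro i hi
    rw [map_sub, Polynomial.coeff_coe, hp, PowerSeries.coeff_trunc, if_pos hi, sub_self]
  set ι := algebraMap (PowerSeries R) L
  have hxu : IsUnit (ι PowerSeries.X) := IsLocalization.Away.algebraMap_isUnit _
  obtain ⟨ux, hux⟩ := hxu.pow n
  set d := e - ι (PowerSeries.C r)
  have hd : d = ↑ux⁻¹ * ι (p : PowerSeries R) + ι (PowerSeries.X * q) := by
    refine ux.isUnit.mul_right_cancel ?_
    have h1 : d * ↑ux = ι h := by
      simp only [d, sub_mul, hux, ← map_pow, hg, ← map_mul, hh, map_sub, ι]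
    rw [h1, show h = (p : PowerSeries R) + PowerSeries.X ^ (n + 1) * q by rw [← hq]; ring, add_mul,
      map_add, mul_right_comm, Units.inv_mul, one_mul, pow_succ, map_mul, map_mul, map_mul,
      map_pow, hux]
    ring
  have hN : IsNilpotent (↑ux⁻¹ * ι (p : PowerSeries R)) :=
    Commute.isNilpotent_mul_left (Commute.all _ _)
      ((hpn.map (Polynomial.coeToPowerSeries.ringHom)).map ι)
  have hu1 : IsUnit (ι (1 - (PowerSeries.X * q) * (PowerSeries.X * q))) := by
    refine IsUnit.map ι (PowerSeries.isUnit_iff_constantCoeff.2 ?_)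
    simp
  have hu : IsUnit (1 - d * d) := by
    rw [show 1 - d * d = ι (1 - (PowerSeries.X * q) * (PowerSeries.X * q)) +
      (-(↑ux⁻¹ * ι (p : PowerSeries R) + 2 * ι (PowerSeries.X * q))) * (↑ux⁻¹ * ι (p : PowerSeries R)) by
        simp only [hd, map_sub, map_one, map_mul]; ring]
    exact IsNilpotent.isUnit_add_left_of_commute (Commute.isNilpotent_mul_left (Commute.all _ _) hN) hu1
      (Commute.all _ _)
  have hd0 : d * (1 - d * d) = 0 := by
    have h1 := he.eq
    have h2 : ι (PowerSeries.C r) * ι (PowerSeries.C r) = ι (PowerSeries.C r) := by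
      rw [← map_mul, ← map_mul, hr.eq]
    simp only [d]
    linear_combination (ι (PowerSeries.C r) * 3 - e - 1) * h1 -
      (3 * e - ι (PowerSeries.C r) - 1) * h2
  exact (sub_eq_zero.1 (hu.mul_left_eq_zero.1 hd0)).symm


/-- For any ring R and a henselization B of R[t] along (t), every idempotent of B[1/t] comes from a
unique idempotent of R under R → R[t] → B → B[1/t]. -/
theorem result (R : Type u) [CommRing R]
    (B : Type u) [CommRing B] [Algebra R[X] B] (hB : Hens2.IsPairHenselization R[X] (Ideal.span {(X : R[X])}) B)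
    (e : Localization.Away (algebraMap R[X] B X)) (he : IsIdempotentElem e) :
    ∃! r : R, IsIdempotentElem r ∧
      algebraMap B (Localization.Away (algebraMap R[X] B X)) (algebraMap R[X] B (Polynomial.C r)) = e := by
  classical
  have hspan : (Ideal.span {(X : R[X])}).map (algebraMap R[X] B) = Ideal.span {algebraMap R[X] B X} := by
    rw [Ideal.map_span, Set.image_singleton]
  haveI : HenselianRing B (Ideal.span {algebraMap R[X] B X}) := hspan ▸ hB.1
  obtain ⟨φ, hφ, -⟩ := hB.2 (PowerSeries R) (Ideal.span {PowerSeries.X})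
    Polynomial.coeToPowerSeries.ringHom inferInstance (by
      rw [Ideal.map_span, Set.image_singleton]; simp)
  have hφc : ∀ f : R[X], φ (algebraMap R[X] B f) = (f : PowerSeries R) := fun f => RingHom.congr_fun hφ f
  have hφt : φ (algebraMap R[X] B X) = PowerSeries.X := by rw [hφc]; exact Polynomial.coe_X
  have hiso : Groth.Calg7.IdemAway.IsoModPowers φ (algebraMap R[X] B X) := by
    refine ⟨fun N b hb => ?_, fun N x => ?_⟩
    · obtain ⟨y, hy⟩ := (Groth.HensPair.quotPow_bijective hB N).2 (Ideal.Quotient.mk _ b)
      obtain ⟨f, rfl⟩ := Ideal.Quotient.mk_surjective y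
      rw [Ideal.quotientMap_mk, Ideal.Quotient.eq, Ideal.span_singleton_pow, Ideal.map_span,
        Set.image_singleton, map_pow] at hy
      have hf : (f : PowerSeries R) ∈ Ideal.span {PowerSeries.X ^ N} := by
        rw [← hφc, ← hφt]
        have := Ideal.mem_map_of_mem φ hy
        rw [Ideal.map_span, Set.image_singleton, map_pow, map_sub] at this
        simpa using add_mem this hb
      have hf' : (X : R[X]) ^ N ∣ f := by
        rw [Polynomial.X_pow_dvd_iff]
        intro d hd
        have := PowerSeries.X_pow_dvd_iff.1 (Ideal.mem_span_singleton.1 hf) d hd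
        simpa using this
      have hf'' : algebraMap R[X] B f ∈ Ideal.span {(algebraMap R[X] B X) ^ N} := by
        rw [Ideal.mem_span_singleton, ← map_pow]
        exact map_dvd _ hf'
      simpa using sub_mem hf'' hy
    · refine ⟨algebraMap R[X] B (PowerSeries.trunc N x), Ideal.mem_span_singleton.2 ?_⟩
      rw [hφt, hφc, PowerSeries.X_pow_dvd_iff]
      intro i hi
      rw [map_sub, Polynomial.coeff_coe, PowerSeries.coeff_trunc, if_pos hi, sub_self]
  have key : ∀ (s : PowerSeries R) (hs : s = PowerSeries.X) (e : Localization.Away s),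
      IsIdempotentElem e → ∃ r : R, IsIdempotentElem r ∧
        algebraMap (PowerSeries R) (Localization.Away s) (PowerSeries.C r) = e := by
    rintro _ rfl e he
    exact ps_idem R e he
  set F := Localization.awayMap φ (algebraMap R[X] B X) with hF
  obtain ⟨r, hr, hre⟩ := key _ hφt (F e) (he.map F)
  have hFC : ∀ r : R, F (algebraMap B (Localization.Away (algebraMap R[X] B X))
      (algebraMap R[X] B (Polynomial.C r))) =
      algebraMap (PowerSeries R) (Localization.Away (φ (algebraMap R[X] B X))) (PowerSeries.C r) :=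
    fun r => by
      simp [hF, Localization.awayMap, IsLocalization.Away.map, IsLocalization.map_eq, hφc]
  have ht' : φ (algebraMap R[X] B X) ∈ (⊥ : Ideal (PowerSeries R)).jacobson := by
    rw [hφt]
    exact IsAdicComplete.le_jacobson_bot _ (Ideal.mem_span_singleton_self _)
  obtain ⟨e₀, -, huniq⟩ := Groth.Calg7.IdemAway.existsUnique_idem φ _ hiso ht' (F e) (he.map F)
  refine ⟨r, ⟨hr, ?_⟩, fun r' hr' => ?_⟩
  · have h1 := huniq _ ⟨((hr.map Polynomial.C).map (algebraMap R[X] B)).map
      (algebraMap B (Localization.Away (algebraMap R[X] B X))), (hFC r).trans hre⟩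
    exact h1.trans (huniq e ⟨he, rfl⟩).symm
  · have h1 := congrArg F hr'.2
    rw [hFC, ← hre] at h1
    have hle : Submonoid.powers (φ (algebraMap R[X] B X)) ≤ nonZeroDivisors (PowerSeries R) := by
      rw [hφt]
      refine (Submonoid.powers_le (n := (PowerSeries.X : PowerSeries R))).2 ?_
      exact mem_nonZeroDivisors_iff_right.2 fun f hf => PowerSeries.ext fun n => by
        have := congrArg (PowerSeries.coeff (n + 1)) hf
        simpa [PowerSeries.coeff_succ_mul_X] using this
    exact PowerSeries.C_injective (IsLocalization.injective _ hle h1)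

end Groth.Agent.S15768
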