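import Groth.Statements.S14204
import Mathlib
import Groth.Agent.Misc13.DefoBase
import Groth.Agent.Inter.Twist
import Groth.Agent.PicAux.PullTensor
import Groth.Agent.Misc1.Twist.Cover
import Groth.Agent.Misc1.ProjSpaceCharts

set_option autoImplicit false
universe u
open CategoryTheory CategoryTheory.Limits AlgebraicGeometry
open ASBun

namespace Groth.Agent.S14204

open CategoryTheory CategoryTheory.Limits AlgebraicGeometry in
/-- `- ⊗ N` as an additive functor. -/
noncomputable def tR {X : Scheme.{u}} (N : X.Modules) : X.Modules ⥤ X.Modules where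
  obj M := CohB1.tensorMod M N
  map f := Groth.Misc13.DefoBase.rightTensor N f
  map_id M := KoszTw.tensorMap_id M N
  map_comp f g := Groth.Misc13.DefoBase.tensorMap_comp_left f g

instance tR_additive {X : Scheme.{u}} (N : X.Modules) : (tR N).Additive where
  map_add := fun {_ _ f g} => (Groth.Misc13.DefoBase.rightTensor N).map_add f g

lemma nonempty_tensor_sigma_left {X : Scheme.{u}} {ι : Type} [Finite ι] (A : ι → X.Modules)
    (N : X.Modules) :
    Nonempty (CohB1.tensorMod (∐ A) N ≅ ∐ fun i => CohB1.tensorMod (A i) N) := by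
  haveI : HasFiniteBiproducts X.Modules := HasFiniteBiproducts.of_hasFiniteProducts
  cases nonempty_fintype ι
  haveI : HasBiproduct A := inferInstance
  exact ⟨(tR N).mapIso (biproduct.isoCoproduct A).symm ≪≫ (tR N).mapBiproduct A ≪≫
    biproduct.isoCoproduct _⟩

lemma nonempty_pow_tensor_pow {X : Scheme.{u}} (A B C : X.Modules)
    (h : Nonempty (CohB1.tensorMod A B ≅ C)) (r s : ℕ) :
    Nonempty (CohB1.tensorMod (BrSev.pow A r) (BrSev.pow B s) ≅ BrSev.pow C (r * s)) := by
  obtain ⟨e1⟩ := nonempty_tensor_sigma_left (fun _ : Fin r => A) (BrSev.pow B s)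
  obtain ⟨e2⟩ := Groth.Inter.tensor_comm A (BrSev.pow B s)
  obtain ⟨e3⟩ := nonempty_tensor_sigma_left (fun _ : Fin s => B) A
  obtain ⟨e4⟩ := Groth.Inter.tensor_comm B A
  obtain ⟨e5⟩ := h
  let e6 : CohB1.tensorMod A (BrSev.pow B s) ≅ BrSev.pow C s :=
    e2 ≪≫ e3 ≪≫ Sigma.mapIso fun _ => e4 ≪≫ e5
  exact ⟨e1 ≪≫ Sigma.mapIso (fun _ => e6) ≪≫ sigmaSigmaIso _ _ ≪≫
    Sigma.whiskerEquiv ((Equiv.sigmaEquivProd (Fin r) (Fin s)).trans finProdFinEquiv)
      (fun _ => Iso.refl C)⟩

/-- Let X be a scheme over a field k, K a field extension of k, e a K-isomorphism X_K ≅ P^n_K with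
O_e(j) the pullback of O(j) along e, and W, W' two O_X-modules with W_K ≅ O_e(j)^{⊕r} and W'_K ≅
O_e(l)^{⊕s} for integers j, l and natural numbers r, s. Then the tensor product W ⊗_{O_X} W'
satisfies (W ⊗ W')_K ≅ O_e(j + l)^{⊕rs}: the tensor product of absolutely rank-one-isotypical
modules of twisting types O(j) and O(l) is absolutely rank-one-isotypical of type O(j + l), in
particular absolutely split. (The published statement is for the indecomposable modules of types
O(j) and O(l) on a Severi–Brauer variety with K an algebraic closure; the argument uses only the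
displayed decompositions.) -/
theorem result (k : Type u) [Field k] {X : Scheme.{u}}
    (f : X ⟶ Spec (CommRingCat.of k)) (n : ℕ)
    (K : Type u) [Field K] [Algebra k K] (e : BrSev.Splitting f K n) (j l : ℤ) (r s : ℕ)
    (W W' : X.Modules) (hWt : BrSev.IsTwPow e j r W) (hW't : BrSev.IsTwPow e l s W') :
    BrSev.IsTwPow e (j + l) (r * s) (CohB1.tensorMod W W') := by
  obtain ⟨a⟩ := hWt
  obtain ⟨b⟩ := hW't
  obtain ⟨ep, -⟩ := Groth.PicAux.exists_pullback_tensorMod (BrSev.proj f K) W W'
  obtain ⟨ee, -⟩ := Groth.PicAux.exists_pullback_tensorMod e.iso.hom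
    (Twist.twistProjSpace n K j) (Twist.twistProjSpace n K l)
  have hcov : (⨆ x : CohB1.polyGrading n K 1, Proj.basicOpen (CohB1.polyGrading n K) (x : MvPolynomial (Fin (n+1)) K)) = ⊤ := by
    refine eq_top_iff.mpr ((Groth.Misc1.ProjChart.iSup_basicOpen_X (n := n) (R := K)).ge.trans ?_)
    exact iSup_le fun i => le_iSup_of_le (⟨MvPolynomial.X i, Groth.Misc1.ProjChart.X_mem i⟩ : CohB1.polyGrading n K 1) le_rfl
  obtain ⟨et⟩ := Groth.Misc1.TwistCover.nonempty_tensor_iso_of_cover hcov j l
  obtain ⟨ec⟩ := Groth.Inter.tensor_congr ⟨a⟩ ⟨b⟩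
  obtain ⟨ew⟩ := nonempty_pow_tensor_pow (e.twist j) (e.twist l) (e.twist (j + l))
    ⟨ee.symm ≪≫ (Scheme.Modules.pullback e.iso.hom).mapIso et⟩ r s
  exact ⟨ep ≪≫ ec ≪≫ ew⟩

end Groth.Agent.S14204
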