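import Groth.Statements.S17941
import Groth.Agent.Misc13.MultCrvBasic

set_option autoImplicit false
universe u
open MultCrv

namespace Groth.Agent.S17941

/-- Let R be a discrete valuation ring, n ≥ 1, A = R[X]/(X^n), and 0 → M' → M → M'' → 0 a short exact
sequence of finitely generated A-modules with M and M'' torsion-free as R-modules (so M' is as
well). Then the A-dual sequence 0 → Hom_A(M'', A) → Hom_A(M, A) → Hom_A(M', A) → 0 is exact; the
content is that every A-linear form on M' extends to M, i.e. restriction of forms along M' → M is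
surjective. (Statement at a closed point of the sheaf statement on a primitive multiple curve of
multiplicity n, whose local rings are of the form R[X]/(X^n) with R the local ring of the reduced
smooth curve; stated for every discrete valuation ring R.) -/
theorem result (R : Type u) [CommRing R] [IsDomain R] [IsDiscreteValuationRing R] (n : ℕ) (hn : 1 ≤ n) (M' M M'' : Type u) [AddCommGroup M'] [Module (MultCrv.Rn R n) M'] [AddCommGroup M] [Module (MultCrv.Rn R n) M] [Module R M] [IsScalarTower R (MultCrv.Rn R n) M] [Module.Finite (MultCrv.Rn R n) M] [Module.IsTorsionFree R M] [AddCommGroup M''] [Module (MultCrv.Rn R n) M''] [Module R M''] [IsScalarTower R (MultCrv.Rn R n) M''] [Module.Finite (MultCrv.Rn R n) M''] [Module.IsTorsionFree R M''] (f : M' →ₗ[MultCrv.Rn R n] M) (g : M →ₗ[MultCrv.Rn R n] M'') (hf : Function.Injective f) (hg : Function.Surjective g) (hfg : LinearMap.range f = LinearMap.ker g) : Function.Surjective (f.dualMap : Module.Dual (MultCrv.Rn R n) M →ₗ[MultCrv.Rn R n] Module.Dual (MultCrv.Rn R n) M') := by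
  letI : Module R M' := Module.compHom M' (algebraMap R (MultCrv.Rn R n))
  haveI : IsScalarTower R (MultCrv.Rn R n) M' := ⟨fun r a x => (congrArg (fun b => b • x) (Algebra.smul_def r a)).trans (mul_smul _ _ _)⟩
  haveI := Groth.Misc13.MultCrvLib.finite_over_R (R := R) (n := n) (M := M'')
  haveI : Module.Free R M'' := Module.free_of_finite_type_torsion_free'
  obtain ⟨s, hs⟩ := Module.projective_lifting_property (g.restrictScalars R) LinearMap.id hg
  let fR := f.restrictScalars R
  have hrange : ∀ x, x - s (g x) ∈ LinearMap.range fR := fun x => by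
    have : x - s (g x) ∈ LinearMap.ker g := by
      rw [LinearMap.mem_ker, map_sub]
      exact sub_eq_zero.mpr (LinearMap.congr_fun hs (g x)).symm
    rw [← hfg] at this
    exact this
  let p : M →ₗ[R] M' := (LinearEquiv.ofInjective fR hf).symm.toLinearMap ∘ₗ
    (LinearMap.id - s ∘ₗ g.restrictScalars R).codRestrict (LinearMap.range fR) hrange
  have hp : ∀ x, p (f x) = x := fun x => by
    have h0 : g (f x) = 0 := LinearMap.mem_ker.mp (hfg ▸ LinearMap.mem_range_self f x)
    apply (LinearEquiv.ofInjective fR hf).injective
    apply Subtype.ext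
    simp only [p, LinearMap.comp_apply, LinearEquiv.coe_coe, LinearEquiv.apply_symm_apply]
    change f x - s (g (f x)) = f x
    rw [h0, map_zero, sub_zero]
  intro h
  refine ⟨Groth.Misc13.MultCrvLib.ofR hn (Groth.Misc13.MultCrvLib.toR hn h ∘ₗ p), ?_⟩
  apply Groth.Misc13.MultCrvLib.toR_injective hn
  ext x
  have := LinearMap.congr_fun (Groth.Misc13.MultCrvLib.toR_ofR hn (Groth.Misc13.MultCrvLib.toR hn h ∘ₗ p)) (f x)
  rw [LinearMap.comp_apply, hp] at this
  exact this

end Groth.Agent.S17941
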