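import Groth.Statements.S4278
import Groth.Agent.Inter.EulerFamily
import Groth.Agent.Inter.Push
import Groth.Agent.CohTwo.PushClosed

set_option autoImplicit false
universe u
open CategoryTheory CategoryTheory.Limits AlgebraicGeometry
open Pic13

namespace Groth.Agent.S4278

/-- Let k be an algebraically closed field, X a proper k-scheme and L an invertible O_X-module which is
τ-equivalent to zero. Then L is numerically equivalent to zero: its restriction to every integral
closed curve Y ⊆ X has degree χ(L|_Y) - χ(O_Y) = 0. -/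
theorem result (k : Type u) [Field k] [IsAlgClosed k] (X : Scheme.{u}) [X.Over (Spec (CommRingCat.of k))]
    [IsProper (X ↘ Spec (CommRingCat.of k))]
    (L : X.Modules) (hL : PicF.IsInvertible L) (hτ : Pic13.IsTauEquivZero k X L) : Pic13.IsNumEquivZero k X L := by
  intro Y i _ hY hdim
  have : IsNoetherian X := Inter.isNoetherian k
  let : Y.Over (Spec (CommRingCat.of k)) := ⟨i ≫ (X ↘ Spec (CommRingCat.of k))⟩
  have : IsProper (Y ↘ Spec (CommRingCat.of k)) :=
    inferInstanceAs (IsProper (i ≫ (X ↘ Spec (CommRingCat.of k))))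
  have hO : Coh.IsCoh (Coh.structureModule Y) :=
    Inter.isCoh_of_isInvertible (Inter.isInvertible_tensorList (l := []) (by simp))
  let G := (Coh.push i).obj (Coh.structureModule Y)
  have hG : Coh.IsCoh G := CohTwo.isCoh_push i hO
  have hsupp : topologicalKrullDim (CohB1.support G) ≤ (1 : ℕ) :=
    (LocCohTransform.topologicalKrullDim_mono (CohTwo.support_push_subset i _)).trans
      (le_of_eq (by
        rw [← i.isClosedEmbedding.isEmbedding.toHomeomorph.isHomeomorph.topologicalKrullDim_eq _,
          hdim]
        rfl))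
  have h := Inter.euler_tensor_of_isTauEquivZero k X hL hτ hG hsupp
  rw [EulerDeg.euler_congr k ((Inter.tensor_comm G L).some ≪≫ (Inter.tensor_push i hL _).some),
    Inter.euler_push k i rfl, Inter.euler_push k i rfl] at h
  rw [EulerDeg.euler_congr k ((Inter.tensor_comm _ _).some ≪≫ (Inter.tensor_one _).some)] at h
  have hd1 : topologicalKrullDim Y ≤ (1 : ℕ) := by rw [hdim]; rfl
  rw [Pic13.curveDeg]
  change FGA.eulerCharLE k Y _ 1 - FGA.eulerCharLE k Y _ 1 = 0
  rw [Inter.eulerCharLE_eq k hd1, Inter.eulerCharLE_eq k hd1, h, sub_self]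


end Groth.Agent.S4278
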