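import Groth.Statements.S4959
import Mathlib
-- import your own Groth.Agent.* helpers here

set_option autoImplicit false
open CategoryTheory AlgebraicGeometry
universe u v w
open EGA43

namespace Groth.Agent.S4959

theorem universally_isQuotientMap_of_surjective {Y Y' : Scheme.{u}} (g : Y' ⟶ Y) [Surjective g]
    (hg : IsProper g ∨ (Flat g ∧ QuasiCompact g)) : Topology.IsQuotientMap g.base := by
  rcases hg with hg | ⟨hf, hc⟩
  · exact (Scheme.Hom.isClosedMap g).isQuotientMap g.continuous g.surjective
  · exact Flat.isQuotientMap_of_surjective g


open CategoryTheory.Limits in
/-- Let f : X ⟶ Y be a morphism of schemes and g : Y' ⟶ Y a surjective morphism which is either proper,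
or flat and quasi-compact. If the base change f' : X ×_Y Y' ⟶ Y' is universally submersive (all of
its base changes are topological quotient maps), then f is universally submersive. -/
theorem result {X Y Y' : Scheme.{u}} (f : X ⟶ Y) (g : Y' ⟶ Y) [Surjective g]
    (hg : IsProper g ∨ (Flat g ∧ QuasiCompact g))
    (h : MorphismProperty.universally (topologically @Topology.IsQuotientMap) (pullback.snd f g)) :
    MorphismProperty.universally (topologically @Topology.IsQuotientMap) f := by
  intro T Z a b p sq
  let q := pullback.snd g b
  haveI : Surjective q := inferInstanceAs (Surjective (pullback.snd g b))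
  have hq : Topology.IsQuotientMap q.base := universally_isQuotientMap_of_surjective q (by
    rcases hg with hg | ⟨hf, hc⟩
    · exact Or.inl inferInstance
    · exact Or.inr ⟨inferInstance, inferInstance⟩)
  let i₁ : pullback p q ⟶ pullback f g :=
    pullback.lift (pullback.fst p q ≫ a) (pullback.snd p q ≫ pullback.fst g b)
      (by rw [Category.assoc, ← sq.w, pullback.condition_assoc, Category.assoc, pullback.condition])
  have hquot : Topology.IsQuotientMap (pullback.snd p q).base := by
    have t1 := ((IsPullback.of_hasPullback p q).paste_horiz sq.flip).flip
    rw [show q ≫ b = pullback.fst g b ≫ g from pullback.condition.symm,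
      show pullback.fst p q ≫ a = i₁ ≫ pullback.fst f g from (pullback.lift_fst _ _ _).symm] at t1
    exact h i₁ (pullback.fst g b) (pullback.snd p q)
      (IsPullback.of_bot t1 (pullback.lift_snd _ _ _).symm (IsPullback.of_hasPullback f g).flip)
  have hc := hq.comp hquot
  have e : pullback.snd p q ≫ q = pullback.fst p q ≫ p := pullback.condition.symm
  refine Topology.IsQuotientMap.of_comp (pullback.fst p q).continuous p.continuous ?_
  have e' : (p.base ∘ (pullback.fst p q).base : _ → _) = q.base ∘ (pullback.snd p q).base := by
    funext x
    exact congrArg (fun φ => φ.base x) e.symm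
  exact e' ▸ hc

end Groth.Agent.S4959
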