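import Groth.Statements.S6011


set_option autoImplicit false
universe u
open CategoryTheory AlgebraicGeometry
open SGA1

namespace Groth.Agent.S6011

/-- An S-scheme X with an action of the S-group G is trivial — equivariantly isomorphic over S to G
acting on itself by translation — if and only if it is formally principal homogeneous (a
pseudo-torsor) and admits a section over S. -/
theorem result {S : Scheme.{u}}
    (G X : Over S) [GrpObj G] (a : AlgGrp.Action G X) :
    Nonempty (NonAbH1.EquivIso (NonAbH1.trivialAction G) a) ↔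
      (NonAbH1.IsPseudoTorsorSch a ∧ NonAbH1.HasSectionOver X (𝟙 S)) := by
  open MonoidalCategory CartesianMonoidalCategory MonObj in
  constructor
  · rintro ⟨e⟩
    refine ⟨?_, ?_⟩
    · have h : lift a.act (snd G X) =
          (G ◁ e.iso.inv) ≫ lift (μ[G]) (snd G G) ≫ (e.iso.hom ⊗ₘ e.iso.hom) := by
        ext1
        · have hc : μ[G] ≫ e.iso.hom = (G ◁ e.iso.hom) ≫ a.act := e.comm
          simp [hc]
        · simp
      have : IsIso (lift (μ[G]) (snd G G)) := NonAbH1.isPseudoTorsorSch_trivialAction G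
      rw [NonAbH1.IsPseudoTorsorSch, h]
      infer_instance
    · exact ⟨(η[G] ≫ e.iso.hom).left, Over.w (η[G] ≫ e.iso.hom)⟩
  · rintro ⟨hps, s, hs⟩
    have hiso : IsIso (lift a.act (snd G X)) := hps
    let σ : 𝟙_ (Over S) ⟶ X := Over.homMk s hs
    let φ : G ⟶ X := lift (𝟙 G) (toUnit G ≫ σ) ≫ a.act
    let w : X ⟶ G ⊗ X := lift (𝟙 X) (toUnit X ≫ σ) ≫ inv (lift a.act (snd G X))
    have k1 : inv (lift a.act (snd G X)) ≫ a.act = fst X X := by
      rw [IsIso.inv_comp_eq, lift_fst]
    have k2 : inv (lift a.act (snd G X)) ≫ snd G X = snd X X := by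
      rw [IsIso.inv_comp_eq, lift_snd]
    have hw1 : w ≫ a.act = 𝟙 X := by simp [w, k1]
    have hw2 : w ≫ snd G X = toUnit X ≫ σ := by simp [w, k2]
    refine ⟨⟨⟨φ, w ≫ fst G X, ?_, ?_⟩, ?_⟩⟩
    · have h1 : lift φ (toUnit G ≫ σ) = lift (𝟙 G) (toUnit G ≫ σ) ≫ lift a.act (snd G X) := by
        ext1 <;> simp [φ]
      have h2 : φ ≫ w = lift φ (toUnit G ≫ σ) ≫ inv (lift a.act (snd G X)) := by
        simp only [w, ← Category.assoc, comp_lift, Category.comp_id]
        congr 2
        rw [comp_toUnit]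
      rw [← Category.assoc, h2, h1, Category.assoc _ _ (inv _), IsIso.hom_inv_id, Category.comp_id,
        lift_fst]
    · have h1 : (w ≫ fst G X) ≫ lift (𝟙 G) (toUnit G ≫ σ) = w := by
        ext1
        · simp
        · simp [hw2]
      simp only [φ]
      rw [← Category.assoc, h1, hw1]
    · change μ[G] ≫ φ = (G ◁ φ) ≫ a.act
      have hL : μ[G] ≫ lift (𝟙 G) (toUnit G ≫ σ) =
          lift (𝟙 (G ⊗ G)) (toUnit (G ⊗ G) ≫ σ) ≫ (μ[G] ▷ X) := by
        ext1 <;> simp
      have hR : lift (𝟙 (G ⊗ G)) (toUnit (G ⊗ G) ≫ σ) ≫ (α_ G G X).hom ≫ (G ◁ a.act) =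
          G ◁ φ := by
        ext1
        · simp
        · simp only [φ, Category.assoc, whiskerLeft_snd]
          simp only [← Category.assoc]
          congr 1
          ext1 <;> simp [Category.assoc]
      simp only [φ]
      rw [← Category.assoc, hL, Category.assoc, a.mul_act]
      simp only [φ] at hR
      rw [← hR]
      simp

end Groth.Agent.S6011
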