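import Groth.Statements.S18646
import Groth.Agent.Misc15.Segre

set_option autoImplicit false
universe u
open scoped TensorProduct
open GrSegre

namespace Groth.Agent.S18646

/-- Let R and S be graded rings defined over a field k. Then their Segre product T = R # S is a
Noetherian ring (hence again a graded ring defined over k). Here a graded ring defined over k is a
commutative k-algebra of finite type, graded in nonnegative degrees by k-subspaces with degree-zero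
part k·1; the Segre product T = R # S = ⊕_n R_n ⊗_k S_n (graded by T_n = R_n ⊗_k S_n) is presented
abstractly as a graded k-algebra T with an injective k-algebra homomorphism ψ : T → R ⊗_k S carrying
T_n onto the k-span of the elementary tensors a ⊗ b with a ∈ R_n, b ∈ S_n, for every n. -/
theorem result (k : Type u) [Field k] (R : Type u) [CommRing R] [Algebra k R] (𝒜 : ℤ → Submodule k R) [GradedAlgebra 𝒜] (hposR : ∀ n : ℤ, n < 0 → 𝒜 n = ⊥) (h0R : 𝒜 0 = Submodule.span k {(1 : R)}) [Algebra.FiniteType k R] (S : Type u) [CommRing S] [Algebra k S] (ℬ : ℤ → Submodule k S) [GradedAlgebra ℬ] (hposS : ∀ n : ℤ, n < 0 → ℬ n = ⊥) (h0S : ℬ 0 = Submodule.span k {(1 : S)}) [Algebra.FiniteType k S] (T : Type u) [CommRing T] [Algebra k T] (𝒯 : ℤ → Submodule k T) [GradedAlgebra 𝒯] (ψ : T →ₐ[k] TensorProduct k R S) (hψ : Function.Injective ψ) (hdegT : ∀ n : ℤ, (𝒯 n).map ψ.toLinearMap = Submodule.span k {x : TensorProduct k R S | ∃ a ∈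 𝒜 n, ∃ b ∈ ℬ n, x = a ⊗ₜ[k] b}) : IsNoetherianRing T := by
  classical
  haveI : IsNoetherianRing R := Algebra.FiniteType.isNoetherianRing k R
  haveI : Algebra.FiniteType R (R ⊗[k] S) := inferInstance
  haveI : IsNoetherianRing (R ⊗[k] S) := Algebra.FiniteType.isNoetherianRing R _
  have himg : ∀ n, ψ.toLinearMap '' (𝒯 n : Set T) =
      (GrSeg.segrePiece k 𝒜 ℬ n : Set (R ⊗[k] S)) := fun n =>
    (congrArg SetLike.coe (hdegT n) :)
  have key : ∀ (J : Ideal T), ∀ x ∈ J.map ψ.toRingHom, ∀ y : R ⊗[k] S,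
      ∃ j ∈ J, ψ j = Groth.Misc15.Segre.diag 𝒜 ℬ 𝒜 ℬ (y * x) := by
    intro J x hx
    refine Submodule.span_induction (p := fun x _ => ∀ y : R ⊗[k] S,
      ∃ j ∈ J, ψ j = Groth.Misc15.Segre.diag 𝒜 ℬ 𝒜 ℬ (y * x)) ?_ ?_ ?_ ?_ hx
    · rintro _ ⟨j, hj, rfl⟩ y
      obtain ⟨t, ht⟩ := Groth.Misc15.Segre.diag_mem_range 𝒜 ℬ 𝒜 ℬ (φ := ψ.toLinearMap) himg y
      refine ⟨t * j, J.mul_mem_left t hj, ?_⟩
      have h1 := (Groth.Misc15.Segre.diag_act_diag 𝒜 ℬ 𝒜 ℬ y (ψ j)).1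
      rw [show Groth.Misc15.Segre.diag 𝒜 ℬ 𝒜 ℬ (ψ j) = ψ j from
        Groth.Misc15.Segre.diag_image 𝒜 ℬ 𝒜 ℬ (φ := ψ.toLinearMap) himg j, ← ht,
        Groth.Misc15.Segre.act_self, Groth.Misc15.Segre.act_self] at h1
      rw [map_mul]; exact h1.symm
    · intro y; exact ⟨0, zero_mem _, by simp⟩
    · intro a b _ _ ha hb y
      obtain ⟨i, hi, hi'⟩ := ha y; obtain ⟨j, hj, hj'⟩ := hb y
      exact ⟨i + j, add_mem hi hj, by rw [map_add, hi', hj', mul_add, map_add]⟩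
    · intro c a _ ha y
      rw [smul_eq_mul, ← mul_assoc]; exact ha (y * c)
  have hmono : ∀ I J : Ideal T, I.map ψ.toRingHom ≤ J.map ψ.toRingHom → I ≤ J := by
    intro I J h t ht
    obtain ⟨j, hj, hj'⟩ := key J _ (h (Ideal.mem_map_of_mem _ ht)) 1
    rw [one_mul] at hj'
    change ψ j = Groth.Misc15.Segre.diag 𝒜 ℬ 𝒜 ℬ (ψ.toLinearMap t) at hj'
    rw [Groth.Misc15.Segre.diag_image 𝒜 ℬ 𝒜 ℬ (φ := ψ.toLinearMap) himg] at hj'
    rwa [← hψ hj']
  let e : Ideal T ↪o Ideal (R ⊗[k] S) := OrderEmbedding.ofMapLEIff (Ideal.map ψ.toRingHom)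
    fun I J => ⟨hmono I J, fun h => Ideal.map_mono h⟩
  exact isNoetherianRing_iff.2 (isNoetherian_iff'.2 (e.dual.wellFoundedLT))

end Groth.Agent.S18646
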