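import Groth.Statements.S18647
import Groth.Agent.GrSegreDim.Segre

set_option autoImplicit false
universe u
open scoped TensorProduct
open GrSegre

namespace Groth.Agent.S18647

/-- Let R and S be graded rings defined over a field k with dim R = r ≥ 1 and dim S = s ≥ 1. Then the
Segre product T = R # S has Krull dimension r + s − 1. Here a graded ring defined over k is a
commutative k-algebra of finite type, graded in nonnegative degrees by k-subspaces with degree-zero
part k·1; the Segre product T = R # S = ⊕_n R_n ⊗_k S_n (graded by T_n = R_n ⊗_k S_n) is presented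
abstractly as a graded k-algebra T with an injective k-algebra homomorphism ψ : T → R ⊗_k S carrying
T_n onto the k-span of the elementary tensors a ⊗ b with a ∈ R_n, b ∈ S_n, for every n. -/
theorem result (k : Type u) [Field k] (R : Type u) [CommRing R] [Algebra k R] (𝒜 : ℤ → Submodule k R) [GradedAlgebra 𝒜] (hposR : ∀ n : ℤ, n < 0 → 𝒜 n = ⊥) (h0R : 𝒜 0 = Submodule.span k {(1 : R)}) [Algebra.FiniteType k R] (S : Type u) [CommRing S] [Algebra k S] (ℬ : ℤ → Submodule k S) [GradedAlgebra ℬ] (hposS : ∀ n : ℤ, n < 0 → ℬ n = ⊥) (h0S : ℬ 0 = Submodule.span k {(1 : S)}) [Algebra.FiniteType k S] (T : Type u) [CommRing T] [Algebra k T] (𝒯 : ℤ → Submodule k T) [GradedAlgebra 𝒯] (ψ : T →ₐ[k] TensorProduct k R S) (hψ : Function.Injective ψ) (hdegT : ∀ n : ℤ, (𝒯 n).map ψ.toLinearMap = Submodule.span k {x : TensorProduct k R S | ∃ a ∈ 𝒜 n, ∃ b ∈ ℬ n, x = a ⊗ₜ[k] b}) (r s : ℕ) (hr : ringKrullDim R = r) (hs : ringKrullDim S = s) (h1r : 1 ≤ r) (h1s : 1 ≤ s) : ringKrullDim T = ((r + s - 1 : ℕ) : WithBot ℕ∞) := by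
  classical
  have hntR : Nontrivial R := by
    by_contra hc
    rw [not_nontrivial_iff_subsingleton] at hc
    rw [ringKrullDim_eq_bot_of_subsingleton] at hr
    exact absurd hr (by simp)
  have hntS : Nontrivial S := by
    by_contra hc
    rw [not_nontrivial_iff_subsingleton] at hc
    rw [ringKrullDim_eq_bot_of_subsingleton] at hs
    exact absurd hs (by simp)
  have : Algebra.FiniteType k (R ⊗[k] S) := .trans (S := R) inferInstance inferInstance
  -- generators
  obtain ⟨a, g, gn, hgn, hg, hgen⟩ := Groth.GrSegreDim.exists_homogeneous_gens 𝒜 hposR h0R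
  obtain ⟨b, g', gn', hgn', hg', hgen'⟩ := Groth.GrSegreDim.exists_homogeneous_gens ℬ hposS h0S
  let D : Fin a ⊕ Fin b → ℤ := Sum.elim (fun i => (gn i : ℤ)) fun j => -(gn' j : ℤ)
  let w : Fin a ⊕ Fin b → TensorProduct k R S :=
    Sum.elim (fun i => g i ⊗ₜ[k] 1) fun j => 1 ⊗ₜ[k] g' j
  let φ : MvPolynomial (Fin a ⊕ Fin b) k →ₐ[k] TensorProduct k R S := MvPolynomial.aeval w
  have hφ : Function.Surjective φ := by
    rw [← AlgHom.range_eq_top, eq_top_iff]
    have hL : ∀ x : R, x ⊗ₜ[k] (1 : S) ∈ φ.range := by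
      intro x
      have hx : x ∈ Algebra.adjoin k (Set.range g) := hgen ▸ Algebra.mem_top
      have : Algebra.adjoin k (Set.range g) ≤
          φ.range.comap (Algebra.TensorProduct.includeLeft : R →ₐ[k] TensorProduct k R S) :=
        Algebra.adjoin_le (by rintro _ ⟨i, rfl⟩; exact ⟨MvPolynomial.X (Sum.inl i), by simp [φ, w]⟩)
      exact this hx
    have hR : ∀ y : S, (1 : R) ⊗ₜ[k] y ∈ φ.range := by
      intro y
      have hy : y ∈ Algebra.adjoin k (Set.range g') := hgen' ▸ Algebra.mem_top
      have : Algebra.adjoin k (Set.range g') ≤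
          φ.range.comap (Algebra.TensorProduct.includeRight : S →ₐ[k] TensorProduct k R S) :=
        Algebra.adjoin_le (by rintro _ ⟨i, rfl⟩; exact ⟨MvPolynomial.X (Sum.inr i), by simp [φ, w]⟩)
      exact this hy
    rintro z -
    induction z using TensorProduct.induction_on with
    | zero => exact zero_mem _
    | tmul x y =>
      rw [show x ⊗ₜ[k] y = (x ⊗ₜ[k] (1 : S)) * ((1 : R) ⊗ₜ[k] y) by simp]
      exact mul_mem (hL x) (hR y)
    | add p q hp hq => exact add_mem hp hq
  -- the bidegree homomorphism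
  let ι : TensorProduct k R S →ₐ[k] LaurentPolynomial (TensorProduct k R S) :=
    AddMonoidAlgebra.singleZeroAlgHom
  let Φ : TensorProduct k R S →ₐ[k] LaurentPolynomial (TensorProduct k R S) :=
    Algebra.TensorProduct.productMap
      (Groth.GrSegreDim.twist 𝒜 (ι.comp Algebra.TensorProduct.includeLeft)
        (fun n => LaurentPolynomial.T n) LaurentPolynomial.T_zero LaurentPolynomial.T_add)
      (Groth.GrSegreDim.twist ℬ (ι.comp Algebra.TensorProduct.includeRight)
        (fun n => LaurentPolynomial.T (-n)) (by simp)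
        (fun i j => by rw [neg_add, LaurentPolynomial.T_add]))
  have hΦ : ∀ (n m : ℤ) (x : R) (y : S), x ∈ 𝒜 n → y ∈ ℬ m →
      Φ (x ⊗ₜ[k] y) = ι (x ⊗ₜ[k] y) * LaurentPolynomial.T (n - m) := by
    intro n m x y hx hy
    simp only [Φ, Algebra.TensorProduct.productMap_apply_tmul,
      Groth.GrSegreDim.twist_of_mem _ _ _ _ _ hx, Groth.GrSegreDim.twist_of_mem _ _ _ _ _ hy,
      AlgHom.comp_apply]
    rw [mul_mul_mul_comm, ← map_mul, ← LaurentPolynomial.T_add, sub_eq_add_neg]
    simp
  have hΦmon : ∀ d, Φ (φ (MvPolynomial.monomial d 1)) = ι (φ (MvPolynomial.monomial d 1)) *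
      LaurentPolynomial.T (∑ i, (d i : ℤ) * D i) := by
    intro d
    have hw : ∀ i, Φ (w i) = ι (w i) * LaurentPolynomial.T (D i) := by
      rintro (i | j)
      · exact (hΦ _ 0 _ _ (hg i) (SetLike.one_mem_graded ℬ)).trans (by simp [D, w])
      · exact (hΦ 0 _ _ _ (SetLike.one_mem_graded 𝒜) (hg' j)).trans (by simp [D, w])
    have hT : ∀ (F : Finset (Fin a ⊕ Fin b)) (e : Fin a ⊕ Fin b → ℤ),
        ∏ i ∈ F, LaurentPolynomial.T (R := TensorProduct k R S) (e i) =
          LaurentPolynomial.T (∑ i ∈ F, e i) := fun F e => by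
      induction F using Finset.induction_on with
      | empty => simp
      | insert i F hi ih => rw [Finset.prod_insert hi, Finset.sum_insert hi, ih, LaurentPolynomial.T_add]
    simp only [φ, MvPolynomial.aeval_monomial, map_one, one_mul]
    rw [Finsupp.prod_fintype _ _ (fun i => pow_zero _)]
    simp only [map_prod, map_pow, hw, mul_pow, Finset.prod_mul_distrib, LaurentPolynomial.T_pow]
    rw [hT]
  -- the image of `ψ` has degree zero
  have hΦψ : ∀ t : T, Φ (ψ t) = ι (ψ t) := by
    intro t
    induction t using DirectSum.Decomposition.inductionOn 𝒯 with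
    | zero => simp
    | @homogeneous n t =>
      have ht : ψ (t : T) ∈ Submodule.span k
          {x : TensorProduct k R S | ∃ a ∈ 𝒜 n, ∃ b ∈ ℬ n, x = a ⊗ₜ[k] b} :=
        hdegT n ▸ Submodule.mem_map_of_mem (f := ψ.toLinearMap) t.2
      show Φ (ψ (t : T)) = ι (ψ (t : T))
      generalize ψ (t : T) = v at ht ⊢
      induction ht using Submodule.span_induction with
      | mem z hz =>
        obtain ⟨x, hx, y, hy, rfl⟩ := hz
        rw [hΦ n n x y hx hy, sub_self, LaurentPolynomial.T_zero, mul_one]
      | zero => simp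
      | add p q _ _ hp hq => rw [map_add, map_add, hp, hq]
      | smul c p _ hp => rw [map_smul, map_smul, hp]
    | add p q hp hq => simp only [map_add, hp, hq]
  have hιT : ∀ z n m, (ι z * LaurentPolynomial.T n).coeff m = if n = m then z else 0 := fun z n m => by
    show (AddMonoidAlgebra.single 0 z * AddMonoidAlgebra.single n 1).coeff m = _
    rw [AddMonoidAlgebra.single_mul_single, zero_add, mul_one, AddMonoidAlgebra.coeff_single,
      Finsupp.single_apply]
  -- degree zero monomials lie in the image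
  have hmon : ∀ d : Fin a ⊕ Fin b →₀ ℕ, ∑ i, (d i : ℤ) * D i = 0 →
      φ (MvPolynomial.monomial d 1) ∈ ψ.range := by
    intro d hd
    rw [Fintype.sum_sum_type] at hd
    simp only [D, Sum.elim_inl, Sum.elim_inr, mul_neg, Finset.sum_neg_distrib,
      add_neg_eq_zero] at hd
    set N : ℤ := ∑ i, (d (Sum.inl i) : ℤ) * (gn i : ℤ) with hN
    have hA : ∏ i, g i ^ d (Sum.inl i) ∈ 𝒜 N := by
      have := SetLike.prod_pow_mem_graded 𝒜 (F := Finset.univ) (fun i => (gn i : ℤ)) g
        (fun i => d (Sum.inl i)) fun i _ => hg i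
      simpa [nsmul_eq_mul, hN] using this
    have hB : ∏ j, g' j ^ d (Sum.inr j) ∈ ℬ N := by
      have := SetLike.prod_pow_mem_graded ℬ (F := Finset.univ) (fun i => (gn' i : ℤ)) g'
        (fun j => d (Sum.inr j)) fun j _ => hg' j
      simpa [nsmul_eq_mul, hd] using this
    have hmem : (∏ i, g i ^ d (Sum.inl i)) ⊗ₜ[k] (∏ j, g' j ^ d (Sum.inr j)) ∈
        (𝒯 N).map ψ.toLinearMap := by
      rw [hdegT]
      exact Submodule.subset_span ⟨_, hA, _, hB, rfl⟩
    obtain ⟨t, -, ht⟩ := hmem
    refine ⟨t, Eq.trans ht ?_⟩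
    simp only [φ, MvPolynomial.aeval_monomial, map_one, one_mul]
    rw [Finsupp.prod_fintype _ _ (fun i => pow_zero _), Fintype.prod_sum_type]
    simp only [w, Sum.elim_inl, Sum.elim_inr, Algebra.TensorProduct.tmul_pow, one_pow]
    have e1 : ∏ i, (g i ^ d (Sum.inl i)) ⊗ₜ[k] (1 : S) = (∏ i, g i ^ d (Sum.inl i)) ⊗ₜ[k] (1 : S) :=
      (map_prod (Algebra.TensorProduct.includeLeft : R →ₐ[k] TensorProduct k R S) _ _).symm
    have e2 : ∏ j, (1 : R) ⊗ₜ[k] (g' j ^ d (Sum.inr j)) = (1 : R) ⊗ₜ[k] ∏ j, g' j ^ d (Sum.inr j) :=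
      (map_prod (Algebra.TensorProduct.includeRight : S →ₐ[k] TensorProduct k R S) _ _).symm
    rw [e1, e2, Algebra.TensorProduct.tmul_mul_tmul, mul_one, one_mul]
  -- finite type
  have hFT : Algebra.FiniteType k T := by
    obtain ⟨G, hG0, hG⟩ := Groth.GrSegreDim.exists_finite_gens D
    suffices ψ.range.FG by
      have := (Subalgebra.fg_iff_finiteType _).mp this
      exact Algebra.FiniteType.equiv this (AlgEquiv.ofInjective ψ hψ).symm
    refine ⟨G.image fun e => φ (MvPolynomial.monomial e 1), le_antisymm ?_ ?_⟩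
    · rw [Algebra.adjoin_le_iff, Finset.coe_image]
      rintro _ ⟨e, he, rfl⟩
      exact hmon e (hG0 e he)
    rintro _ ⟨t, rfl⟩
    obtain ⟨F, hF⟩ := hφ (ψ t)
    have h0 := congrArg (fun p : LaurentPolynomial (TensorProduct k R S) => p.coeff 0) (hΦψ t)
    change ψ t ∈ _
    have hexp : ψ t = ∑ d ∈ F.support,
        if ∑ i, (d i : ℤ) * D i = 0 then MvPolynomial.coeff d F • φ (MvPolynomial.monomial d 1) else 0 := by
      have hsum : ψ t = ∑ d ∈ F.support, MvPolynomial.coeff d F • φ (MvPolynomial.monomial d 1) := by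
        conv_lhs => rw [← hF, F.as_sum, map_sum]
        refine Finset.sum_congr rfl fun d _ => ?_
        rw [← map_smul, MvPolynomial.smul_monomial, smul_eq_mul, mul_one]
      have hι : ∀ z, (ι z).coeff 0 = z := fun z => by simp [ι]
      rw [hι, hsum, map_sum] at h0
      simp only [map_smul, hΦmon, AddMonoidAlgebra.coeff_sum, AddMonoidAlgebra.coeff_smul,
        Finsupp.finsetSum_apply, Finsupp.smul_apply, hιT, smul_ite, smul_zero] at h0
      rw [hsum, ← h0]
    rw [hexp]
    refine Subalgebra.sum_mem _ fun d _ => ?_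
    split_ifs with hd
    · refine Subalgebra.smul_mem _ ?_ _
      suffices h : ∀ e ∈ AddSubmonoid.closure (G : Set (Fin a ⊕ Fin b →₀ ℕ)),
          φ (MvPolynomial.monomial e 1) ∈
            Algebra.adjoin k (G.image fun e => φ (MvPolynomial.monomial e 1) : Set (TensorProduct k R S))
        from h d (hG d hd)
      intro e he
      induction he using AddSubmonoid.closure_induction with
      | mem e he => exact Algebra.subset_adjoin (Finset.mem_coe.mpr (Finset.mem_image_of_mem _ he))
      | zero => simpa using one_mem _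
      | add e e' _ _ he he' =>
        rw [show MvPolynomial.monomial (e + e') (1 : k) =
          MvPolynomial.monomial e 1 * MvPolynomial.monomial e' 1 by simp, map_mul]
        exact mul_mem he he'
    · exact zero_mem _
  have hntT : Nontrivial T := by
    have : Nontrivial (TensorProduct k R S) := by
      refine Function.Injective.nontrivial (f := (Algebra.TensorProduct.includeLeft : R →ₐ[k] TensorProduct k R S)) ?_
      exact Algebra.TensorProduct.includeLeft_injective (algebraMap k S).injective
    exact ⟨⟨0, 1, fun h => zero_ne_one ((map_zero ψ).symm.trans ((congrArg ψ h).trans (map_one ψ)))⟩⟩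
  refine le_antisymm ?_ ?_
  · -- upper bound
    obtain ⟨m, θ, hθ, -, hm⟩ := Groth.GrSegreDim.exists_indep_dim k T
    rw [hm, Nat.cast_le]
    by_cases hm0 : m = 0
    · omega
    have : Nontrivial (TensorProduct k R S) := ψ.toRingHom.domain_nontrivial |> fun _ =>
      Function.Injective.nontrivial hψ
    have hNoeth : IsNoetherianRing (TensorProduct k R S) := Algebra.FiniteType.isNoetherianRing k _
    let z : ULift.{u} (Fin m) → TensorProduct k R S := fun i => ψ (θ (MvPolynomial.X i.down))
    have hz : AlgebraicIndependent k z :=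
      (((MvPolynomial.algebraicIndependent_X (Fin m) k).map' (f := θ) hθ).map' (f := ψ) hψ).comp _
        ULift.down_injective
    obtain ⟨P, hP, hzP⟩ := Groth.GrSegreDim.exists_minimalPrime_indep k _ z hz
    obtain ⟨i, hi⟩ : ∃ i, w i ∉ P := by
      by_contra! hall
      have hall' : ∀ p, p ∈ φ.range → Ideal.Quotient.mkₐ k P p ∈ (⊥ : Subalgebra k _) := by
        intro p hp
        have hle : Algebra.adjoin k (Set.range w) ≤
            (⊥ : Subalgebra k _).comap (Ideal.Quotient.mkₐ k P) := by
          refine Algebra.adjoin_le ?_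
          rintro _ ⟨i, rfl⟩
          simp [Ideal.Quotient.eq_zero_iff_mem.mpr (hall i)]
        rw [Algebra.adjoin_range_eq_range_aeval] at hle
        exact hle hp
      obtain ⟨c, hc⟩ := Algebra.mem_bot.mp (hall' (z ⟨⟨0, Nat.pos_of_ne_zero hm0⟩⟩) (hφ _))
      exact hzP.transcendental ⟨⟨0, Nat.pos_of_ne_zero hm0⟩⟩ (hc ▸ isAlgebraic_algebraMap c)
    have hopt : AlgebraicIndependent k fun o : Option (ULift.{u} (Fin m)) => o.elim (w i) z := by
      rw [hz.option_iff_transcendental]
      rintro ⟨p, hp0, hp⟩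
      refine hp0 (Polynomial.ext fun n => ?_)
      rw [Polynomial.coeff_zero]
      have hDi : D i ≠ 0 := by
        rcases i with i | i
        · simp [D, (hgn i).ne']
        · simp [D, (hgn' i).ne']
      have hci : ∀ n, Φ ((p.coeff n : TensorProduct k R S) * w i ^ n) =
          ι ((p.coeff n : TensorProduct k R S) * w i ^ n) * LaurentPolynomial.T ((n : ℤ) * D i) := by
        intro n
        have hle : Algebra.adjoin k (Set.range z) ≤ ψ.range :=
          Algebra.adjoin_le (by rintro _ ⟨j, rfl⟩; exact ⟨_, rfl⟩)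
        obtain ⟨t, ht⟩ : ∃ t, ψ t = (p.coeff n : TensorProduct k R S) := hle (p.coeff n).2
        have h1 := hΦmon (Finsupp.single i n)
        simp only [φ, MvPolynomial.aeval_monomial] at h1
        simp only [map_one, one_mul, Finsupp.prod_single_index, pow_zero, map_pow] at h1
        rw [Finset.sum_eq_single i (fun j _ hj => by simp [Finsupp.single_eq_of_ne hj])
          (fun h => absurd (Finset.mem_univ i) h), Finsupp.single_eq_same] at h1
        rw [← ht, map_mul, map_mul, map_pow, map_pow, h1, hΦψ t]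
        ring
      rw [Polynomial.aeval_eq_sum_range] at hp
      have hzero : (p.coeff n : TensorProduct k R S) * w i ^ n = 0 := by
        by_cases hn : n ∈ Finset.range (p.natDegree + 1)
        · have h1 := congrArg
            (fun q => (Φ q : LaurentPolynomial (TensorProduct k R S)).coeff ((n : ℤ) * D i)) hp
          simp only [map_sum, map_zero, AddMonoidAlgebra.coeff_sum, Finsupp.finsetSum_apply,
            AddMonoidAlgebra.coeff_zero, Finsupp.zero_apply] at h1
          rw [Finset.sum_eq_single n ?_ (fun h => absurd hn h)] at h1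
          · rw [Algebra.smul_def] at h1
            change (Φ ((p.coeff n : TensorProduct k R S) * w i ^ n)).coeff _ = 0 at h1
            rw [hci] at h1
            rw [hιT, if_pos rfl] at h1
            exact h1
          · intro j _ hj
            rw [Algebra.smul_def]
            change (Φ ((p.coeff j : TensorProduct k R S) * w i ^ j)).coeff _ = 0
            rw [hci, hιT, if_neg]
            intro h
            exact hj (by exact_mod_cast mul_right_cancel₀ hDi h)
        · rw [Polynomial.coeff_eq_zero_of_natDegree_lt (by simpa using hn)]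
          simp
      have hcP : (p.coeff n : TensorProduct k R S) ∈ P :=
        (hP.mem_or_mem (hzero ▸ P.zero_mem)).resolve_right fun h => hi (hP.mem_of_pow_mem n h)
      obtain ⟨F, hF⟩ : (p.coeff n : TensorProduct k R S) ∈ (MvPolynomial.aeval z).range :=
        (SetLike.ext_iff.mp (Algebra.adjoin_range_eq_range_aeval k z) _).mp (p.coeff n).2
      have : F = 0 := by
        refine algebraicIndependent_iff.mp hzP F ?_
        rw [← MvPolynomial.comp_aeval, AlgHom.comp_apply]
        exact Ideal.Quotient.eq_zero_iff_mem.mpr (Set.mem_of_eq_of_mem (s := (P : Set _)) hF hcP)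
      refine Subtype.ext ?_
      rw [this] at hF
      simpa using hF.symm
    have h1 := Groth.GrSegreDim.card_le_dim k _ _ hopt
    obtain ⟨mR, gR, -, hgR, hmR⟩ := Groth.GrSegreDim.exists_indep_dim k R
    obtain ⟨mS, gS, -, hgS, hmS⟩ := Groth.GrSegreDim.exists_indep_dim k S
    have h2 := h1.trans (Groth.GrSegreDim.dim_tensor_le gR hgR gS hgS)
    have e1 : mR = r := by rw [hr] at hmR; exact_mod_cast hmR.symm
    have e2 : mS = s := by rw [hs] at hmS; exact_mod_cast hmS.symm
    rw [Nat.cast_le, Fintype.card_option, Fintype.card_ulift, Fintype.card_fin] at h2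
    omega
  · -- lower bound
    obtain ⟨NR, hNR, hxex⟩ := Groth.GrSegreDim.exists_homogeneous_indep 𝒜 hposR h0R r hr
    obtain ⟨NS, hNS, hyex⟩ := Groth.GrSegreDim.exists_homogeneous_indep ℬ hposS h0S s hs
    obtain ⟨x, hx, hxi⟩ := hxex (NR * NS) (dvd_mul_right _ _) (Nat.mul_pos hNR hNS)
    obtain ⟨y, hy, hyi⟩ := hyex (NR * NS) (dvd_mul_left _ _) (Nat.mul_pos hNR hNS)
    let i0 : Fin r := ⟨0, h1r⟩
    let j0 : Fin s := ⟨0, h1s⟩
    let J := {j : Fin s // j ≠ j0}
    have hmem : ∀ i j, ∃ t : T, ψ t = x i ⊗ₜ[k] y j := fun i j => by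
      have : x i ⊗ₜ[k] y j ∈ (𝒯 (NR * NS : ℕ)).map ψ.toLinearMap := by
        rw [hdegT]; exact Submodule.subset_span ⟨_, hx i, _, hy j, rfl⟩
      obtain ⟨t, -, ht⟩ := this
      exact ⟨t, ht⟩
    choose tt htt using hmem
    let fam : ULift.{u} (Fin r ⊕ J) → T := fun o => Sum.elim (fun i => tt i j0) (fun j : J => tt i0 j.1) o.down
    let M : ULift.{u} (Fin r ⊕ J) → (Fin r ⊕ Fin s) →₀ ℕ := fun o =>
      Sum.elim (fun i => Finsupp.single (Sum.inl i) 1 + Finsupp.single (Sum.inr j0) 1)
        (fun j : J => Finsupp.single (Sum.inl i0) 1 + Finsupp.single (Sum.inr j.1) 1) o.down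
    have hfam : AlgebraicIndependent k fam := by
      refine AlgebraicIndependent.of_comp ψ ?_
      rw [algebraicIndependent_iff_injective_aeval]
      have : MvPolynomial.aeval (R := k) (ψ ∘ fam) =
          (MvPolynomial.aeval (Sum.elim (fun i => x i ⊗ₜ[k] (1 : S)) fun j => (1 : R) ⊗ₜ[k] y j)).comp
            (MvPolynomial.aeval fun o => MvPolynomial.monomial (M o) (1 : k)) := by
        refine MvPolynomial.algHom_ext fun o => ?_
        have hXX : ∀ p q : Fin r ⊕ Fin s, MvPolynomial.monomial
            (Finsupp.single p 1 + Finsupp.single q 1) (1 : k) = MvPolynomial.X p * MvPolynomial.X q :=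
          fun p q => by rw [MvPolynomial.X, MvPolynomial.X, MvPolynomial.monomial_mul, one_mul]
        obtain ⟨(i | j)⟩ := o <;> simp [fam, M, htt, hXX]
      rw [this, AlgHom.coe_comp]
      refine (algebraicIndependent_iff_injective_aeval.mp
        (Groth.GrSegreDim.indep_tmul hxi hyi)).comp
        (Groth.GrSegreDim.aeval_monomial_injective M fun d d' h => ?_)
      simp only [Finsupp.sum_fintype, zero_smul, implies_true] at h
      have hco : ∀ (e : ULift.{u} (Fin r ⊕ J) →₀ ℕ) (v : Fin r ⊕ Fin s),
          (∑ o, e o • M o) v = ∑ o, e o * M o v := fun e v => by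
        simp [Finsupp.finsetSum_apply]
      have hJ : ∀ (e : ULift.{u} (Fin r ⊕ J) →₀ ℕ) (j : J),
          (∑ o, e o • M o) (Sum.inr j.1) = e ⟨Sum.inr j⟩ := by
        intro e j
        rw [hco, Finset.sum_eq_single (⟨Sum.inr j⟩ : ULift.{u} (Fin r ⊕ J)) ?_ (by simp)]
        · simp [M]
        · rintro ⟨(i | j')⟩ _ hne
          · simp [M, Finsupp.single_apply, Ne.symm j.2]
          · have : j'.1 ≠ j.1 := fun h => hne (by rw [Subtype.ext h])
            simp [M, Finsupp.single_apply, this]
      have hsplit : ∀ (e : ULift.{u} (Fin r ⊕ J) →₀ ℕ) (i : Fin r),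
          (∑ o, e o • M o) (Sum.inl i) =
            e ⟨Sum.inl i⟩ + if i0 = i then ∑ j : J, e ⟨Sum.inr j⟩ else 0 := by
        intro e i
        rw [hco, ← Equiv.ulift.symm.sum_comp, Fintype.sum_sum_type]
        congr 1
        · rw [Finset.sum_eq_single i (fun i' _ hne => by simp [M, Finsupp.single_apply, hne])
            (by simp)]
          simp [M]
        · split_ifs with h0
          · subst h0; simp [M]
          · simp [M, Finsupp.single_apply, h0]
      ext ⟨o⟩
      rcases o with i | j
      · have h1 := DFunLike.congr_fun h (Sum.inl i)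
        simp only [hsplit] at h1
        have h2 : ∑ j : J, d ⟨Sum.inr j⟩ = ∑ j : J, d' ⟨Sum.inr j⟩ := Finset.sum_congr rfl fun j _ => by
          rw [← hJ d j, ← hJ d' j]; exact DFunLike.congr_fun h _
        rw [h2] at h1
        exact Nat.add_right_cancel h1
      · rw [← hJ d j, ← hJ d' j]; exact DFunLike.congr_fun h _
    have := Groth.GrSegreDim.card_le_dim k T fam hfam
    refine le_trans (le_of_eq ?_) this
    congr 1
    simp [J, Fintype.card_subtype_compl]
    omega


end Groth.Agent.S18647
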