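import Groth.Statements.S18638
import Groth.Agent.GrMod.CanonicalCM
import Groth.Agent.GrMod.Positive
import Groth.Agent.Gorenstein.Regular

set_option autoImplicit false
universe u
open GrLC

namespace Groth.Agent.S18638

/-- Let R be a graded ring defined over a field which is Cohen–Macaulay, and K_R its canonical module.
Then R is Gorenstein exactly when K_R is isomorphic to a degree shift R(a) of R for some integer a,
that is, there is a bijective R-linear map R → K_R homogeneous of some fixed degree. Here 'graded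
ring defined over a field' means R = ⊕_{n ≥ 0} R_n is Noetherian with R_0 a field (so R is finitely
generated over R_0), m = R_+ is its unique graded maximal ideal and n = dim R; the canonical module
K_R (the graded dual of H^n_m(R)) is represented by a finitely generated graded module C together
with a homogeneous isomorphism from Hom_R(C, E) onto H^n_m(R), where E is a *injective envelope of
R/m and H^n_m(R) is computed from a *injective resolution of R in the graded category; by graded
Matlis duality this says exactly that C ≅ K_R as graded modules. -/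
theorem result (R : Type u) [CommRing R] [LocCoh.IsCohenMacaulayRing R] (𝒜 : ℤ → AddSubgroup R) [GradedRing 𝒜] (hpos : ∀ n : ℤ, n < 0 → 𝒜 n = ⊥) (h0 : IsField (GrLC.deg0 𝒜)) (m : HomogeneousIdeal 𝒜) (hm : GrLC.IsStarLocal 𝒜 m) (hmsp : m.toIdeal = Ideal.span (⋃ n ∈ Set.Ioi (0 : ℤ), (𝒜 n : Set R))) (n : ℕ) (hn : ringKrullDim R = n) (I : GrLC.StarInjRes 𝒜 𝒜) (E' : Type u) [AddCommGroup E'] [Module R E'] (𝓔 : ℤ → AddSubgroup E') [DirectSum.Decomposition 𝓔] [SetLike.GradedSMul 𝒜 𝓔] (e : (R ⧸ m.toIdeal) →ₗ[R] E') (he : GrLC.IsStarInjHull 𝒜 (GrLC.quotGr 𝒜 m) 𝓔 e) (C : Type u) [AddCommGroup C] [Module R C] (𝒞 : ℤ → AddSubgroup C) [DirectSum.Decomposition 𝒞] [SetLike.GradedSMul 𝒜 𝒞] (hC : GrLC.IsStarCanonical 𝒜 𝒞 𝓔 m n I) : LocCoh.IsGorensteinRing R ↔ ∃ (a : ℤ) (f : R →ₗ[R] C), Function.Bijective f ∧ GrLC.IsGrHomDeg 𝒜 𝒞 f a := by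
  classical
  haveI := GrothGr.isMaximal_irrelevant 𝒜 hpos h0 hm hmsp
  obtain ⟨E₀, _, _, f₀, hf₀, ⟨eK⟩⟩ := GrothGr.exists_local_data 𝒜 he hC
  haveI := hC.1
  have hd := GrothGr.ringKrullDim_at_starLocal 𝒜 hm hn
  have hCM := LocCoh.IsCohenMacaulayRing.isCohenMacaulayLocalRing_localization (R := R) m.toIdeal
  constructor
  · intro hG
    haveI := hG
    obtain ⟨e₁⟩ := (Groth.CanMod.gorenstein_iff hCM hd hf₀ eK).1
      (LocCoh.IsGorensteinRing.isGorensteinLocalRing_localization (A := R) m.toIdeal)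
    exact GrothGr.exists_grIso_of_localized 𝒜 hm 𝒞 e₁
  · rintro ⟨a, f, hf, -⟩
    have h := (GrothGr.canonical_cm_injdim 𝒜 hm hn he hC).2
    exact (GrothGoren.isGorensteinRing_and_dim
      (GrothGoren.injLT_of_equiv (LinearEquiv.ofBijective f hf).symm h)).1

end Groth.Agent.S18638
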