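import Groth.Statements.S8360
import Groth.Agent.Reductive.MTRigidLift
import Groth.Agent.Reductive.MTLocTriv
import Groth.Agent.Reductive.MultGa
import Groth.Agent.AlgGrp2.DiagBaseChange
import Groth.Agent.AlgGrp1.Basic
import Groth.Agent.Abvar.BaseChange

set_option autoImplicit false
universe u
open CategoryTheory MonObj AlgebraicGeometry
open Red

namespace Groth.Agent.S8360

open CategoryTheory.Limits MonoidalCategory CartesianMonoidalCategory Groth.Reductive.MTInt

/-- Families of homomorphisms into a smooth group lift along nilpotent ideals. -/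
theorem exists_homFam_nilpotent {R : Type u} [CommRing R] {H X : Over (Spec (CommRingCat.of R))}
    [GrpObj H] [GrpObj X] (hH : LocTriv H) (hX : Smooth X.hom) (J : Ideal R) (hJ : IsNilpotent J)
    (φ₀ : H ⊗ (Over.mk (Spec.map (CommRingCat.ofHom (Ideal.Quotient.mk J))) :
      Over (Spec (CommRingCat.of R))) ⟶ X) (h₀ : IsHomFam φ₀) :
    ∃ φ : H ⊗ 𝟙_ (Over (Spec (CommRingCat.of R))) ⟶ X, IsHomFam φ ∧
      (H ◁ toUnit (Over.mk (Spec.map (CommRingCat.ofHom (Ideal.Quotient.mk J))) :
        Over (Spec (CommRingCat.of R)))) ≫ φ = φ₀ := by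
  haveI hOb : ∀ I : Ideal R, IsAffine (Over.mk (Spec.map (CommRingCat.ofHom (Ideal.Quotient.mk I))) :
      Over (Spec (CommRingCat.of R))).left := fun I ↦ inferInstanceAs (IsAffine (Spec _))
  haveI : IsAffine (𝟙_ (Over (Spec (CommRingCat.of R)))).left := inferInstanceAs (IsAffine (Spec _))
  obtain ⟨n, hn⟩ := hJ
  have hn' : J ^ 2 ^ n = ⊥ :=
    le_bot_iff.mp ((Ideal.pow_le_pow_right n.lt_two_pow_self.le).trans hn.le)
  clear hn
  induction n generalizing J with
  | zero =>
    rw [pow_zero, pow_one] at hn'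
    exact exists_homFam_lift_smooth hH hX (sqZero_quotient J (by rw [hn', pow_two, Ideal.bot_mul])) φ₀ h₀
  | succ n ih =>
    let T : Ideal R := J ^ 2
    have hTJ : T ≤ J := Ideal.pow_le_self two_ne_zero
    let f : CommRingCat.of (R ⧸ T) ⟶ CommRingCat.of (R ⧸ J) :=
      CommRingCat.ofHom (Ideal.Quotient.factor hTJ)
    let i : (Over.mk (Spec.map (CommRingCat.ofHom (Ideal.Quotient.mk J))) :
        Over (Spec (CommRingCat.of R))) ⟶ Over.mk (Spec.map (CommRingCat.ofHom (Ideal.Quotient.mk T))) :=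
      Over.homMk (Spec.map f) (by
        show Spec.map f ≫ Spec.map _ = Spec.map _
        rw [← Spec.map_comp]
        rfl)
    have hi : SqZero i := by
      refine sqZero_spec f (Ideal.Quotient.factor_surjective hTJ) ?_ i rfl
      refine le_bot_iff.mp (Ideal.mul_le.mpr fun r hr r' hr' ↦ ?_)
      obtain ⟨x, rfl⟩ := Ideal.Quotient.mk_surjective r
      obtain ⟨x', rfl⟩ := Ideal.Quotient.mk_surjective r'
      rw [Ideal.mem_bot, ← map_mul, Ideal.Quotient.eq_zero_iff_mem]
      show x * x' ∈ J ^ 2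
      rw [pow_two]
      exact Ideal.mul_mem_mul (Ideal.Quotient.eq_zero_iff_mem.mp hr)
        (Ideal.Quotient.eq_zero_iff_mem.mp hr')
    obtain ⟨φ₁, h₁, hφ₁⟩ := exists_homFam_lift_smooth hH hX hi φ₀ h₀
    obtain ⟨φ, hP, hφ⟩ := ih T φ₁ h₁ (by rw [← pow_mul, ← pow_succ']; exact hn')
    refine ⟨φ, hP, ?_⟩
    rw [← hφ₁, ← hφ, ← Category.assoc, ← whiskerLeft_comp]
    congr 2
    exact toUnit_unique _ _

/-- A diagonalisable group is locally trivial. -/
theorem locTriv_diag (R : Type u) [CommRing R] (M : Type) [AddCommGroup M] :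
    LocTriv (Red.diag R M) := by
  refine Groth.Reductive.MTInt.locTriv_of_locally ⟨_, 𝟙 _, inferInstance, inferInstance,
    fun V hV => ⟨V, hV.isCompact, by simp⟩, fun s => ⟨⊤, trivial, M, inferInstance, ?_⟩⟩
  let B := Spec (CommRingCat.of R)
  let t := Limits.IsTerminal.from specULiftZIsTerminal B
  let p : ((⊤ : B.Opens) : Scheme.{u}) ⟶ B := (⊤ : B.Opens).ι ≫ 𝟙 B
  let d : Red.diag R M ≅ Red.DS B M := Groth.AlgGrp2.diagIsoDS R M
  let e₁ : Red.bc p (Red.diag R M) ≅ Red.bc p (Red.DS B M) := (Over.pullback p).mapIso d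
  haveI : IsMonHom e₁.hom := Groth.Abvar.isMonHom_map (f := p) d.hom
  let e₂ : Red.bc p (Red.DS B M) ≅ Red.bc (p ≫ t) (Red.diag (ULift.{u} ℤ) M) :=
    ((Over.pullbackComp p t).app (Red.diag (ULift.{u} ℤ) M)).symm
  haveI : IsMonHom e₂.hom := (Groth.Abvar.isMonHom_pullbackComp p t _).1
  have hq : p ≫ t = Limits.IsTerminal.from specULiftZIsTerminal _ := specULiftZIsTerminal.hom_ext _ _
  let e₃ : Red.bc (p ≫ t) (Red.diag (ULift.{u} ℤ) M) ≅ Red.DS _ M :=
    eqToIso (congrArg (fun φ => Red.bc φ (Red.diag (ULift.{u} ℤ) M)) hq)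
  haveI : IsMonHom e₃.hom := Groth.Abvar.isMonHom_eqToHom_bc hq _
  haveI : IsMonHom (e₁ ≪≫ e₂ ≪≫ e₃).hom := by simp only [Iso.trans_hom]; infer_instance
  exact ⟨Grp.mkIso' (e₁ ≪≫ e₂ ≪≫ e₃)⟩


/-- Over the affine base S = Spec R with S₀ = Spec (R/I) for a nilpotent ideal I, for a commutative
group M, the diagonalisable group D(M) = Spec R[M] over S and a group scheme X smooth over S, every
homomorphism of S₀-group schemes from D(M) ×_S S₀ to X ×_S S₀ is the base change of a homomorphism
of S-group schemes from D(M) to X. -/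
theorem result (R : Type u) [CommRing R] (I : Ideal R)
    (hI : IsNilpotent I) (M : Type) [AddCommGroup M] (X : Over (Spec (CommRingCat.of R))) [GrpObj X]
    [Smooth X.hom]
    (f₀ : Red.bc (Spec.map (CommRingCat.ofHom (Ideal.Quotient.mk I))) (Red.diag R M) ⟶ Red.bc (Spec.map (CommRingCat.ofHom (Ideal.Quotient.mk I))) X) [IsMonHom f₀] :
    ∃ f : Red.diag R M ⟶ X, IsMonHom f ∧ (Over.pullback (Spec.map (CommRingCat.ofHom (Ideal.Quotient.mk I)))).map f = f₀ := by
  let S := Spec (CommRingCat.of R)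
  let H : Over S := Red.diag R M
  let i : Spec (CommRingCat.of (R ⧸ I)) ⟶ S := Spec.map (CommRingCat.ofHom (Ideal.Quotient.mk I))
  let Y₀ : Over S := Over.mk i
  let φ₀ : H ⊗ Y₀ ⟶ X := Over.homMk (f₀.left ≫ pullback.fst X.hom i) (by
    have h1 : f₀.left ≫ pullback.snd X.hom i = pullback.snd H.hom i := Over.w f₀
    show (f₀.left ≫ pullback.fst X.hom i) ≫ X.hom = pullback.fst H.hom i ≫ H.hom
    rw [Category.assoc, pullback.condition, reassoc_of% h1, pullback.condition])
  have hfam : IsHomFam φ₀ := by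
    intro Z h h' y
    let W : Over (Spec (CommRingCat.of (R ⧸ I))) := Over.mk y.left
    let e : (Over.map i).obj W ≅ Z := Over.isoMk (Iso.refl _) (by simp [W]; exact (Over.w y).symm)
    have key : ∀ a : (Over.map i).obj W ⟶ H, lift a (e.hom ≫ y) ≫ φ₀ =
        Groth.Reductive.bcPointEquiv i X W ((Groth.Reductive.bcPointEquiv i H W).symm a ≫ f₀) := by
      intro a
      obtain ⟨b, rfl⟩ := (Groth.Reductive.bcPointEquiv i H W).surjective a
      rw [MulEquiv.symm_apply_apply]
      apply Over.OverMorphism.ext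
      have e1 : ∀ {K : Over S} [GrpObj K] (c : W ⟶ Red.bc i K),
          (Groth.Reductive.bcPointEquiv i K W c).left = c.left ≫ pullback.fst K.hom i := fun c => by
        simp [Groth.Reductive.bcPointEquiv, Adjunction.homEquiv_counit]
      rw [e1]
      have e2 : (lift (Groth.Reductive.bcPointEquiv i H W b) (e.hom ≫ y)).left = b.left := by
        apply pullback.hom_ext
        · exact (congrArg CommaMorphism.left
            (lift_fst (Groth.Reductive.bcPointEquiv i H W b) (e.hom ≫ y))).trans (e1 b)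
        · refine (congrArg CommaMorphism.left
            (lift_snd (Groth.Reductive.bcPointEquiv i H W b) (e.hom ≫ y))).trans ?_
          show (e.hom ≫ y).left = b.left ≫ pullback.snd H.hom i
          rw [show b.left ≫ pullback.snd H.hom i = y.left from Over.w b]
          exact Category.id_comp _
      show (lift (Groth.Reductive.bcPointEquiv i H W b) (e.hom ≫ y) : (Over.map i).obj W ⟶ H ⊗ Y₀).left ≫
          f₀.left ≫ pullback.fst X.hom i = (b.left ≫ f₀.left) ≫ _
      rw [e2, Category.assoc]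
    rw [← cancel_epi e.hom, MonObj.comp_mul, comp_lift_assoc, comp_lift_assoc, comp_lift_assoc,
      MonObj.comp_mul, key, key, key, map_mul, MonObj.mul_comp, map_mul]
  obtain ⟨φ, hφ, hφ0⟩ := exists_homFam_nilpotent (locTriv_diag R M) ‹Smooth X.hom› I hI φ₀ hfam
  let f : H ⟶ X := lift (𝟙 H) (toUnit H) ≫ φ
  have hf : IsMonHom f := Groth.AlgGrp1.isMonHom_of_points f fun T a b => by
    show (a * b) ≫ lift (𝟙 H) (toUnit H) ≫ φ = _
    simp only [f, comp_lift_assoc, Category.comp_id, comp_toUnit]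
    exact hφ T a b (toUnit T)
  refine ⟨f, hf, Over.OverMorphism.ext (pullback.hom_ext ?_ ?_)⟩
  · refine (pullback.lift_fst _ _ _).trans ?_
    have h2 : (H ◁ toUnit Y₀) ≫ φ = fst H Y₀ ≫ f := by
      simp only [f, comp_lift_assoc, Category.comp_id, comp_toUnit]
      congr 1
      ext1 <;> simp
    exact (congrArg CommaMorphism.left (hφ0.symm.trans h2)).symm
  · exact (pullback.lift_snd _ _ _).trans (Over.w f₀).symm

end Groth.Agent.S8360
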