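import Groth.Statements.S0107
import Groth.Agent.EtFlcRep.Descend
import Groth.Agent.EtaleBase.LocConst

set_option autoImplicit false
open CategoryTheory CategoryTheory.Limits AlgebraicGeometry Opposite
universe u
open EtBase

namespace Groth.Agent.S0107

set_option backward.isDefEq.respectTransparency false

/-- The underlying sheaf of sets of a finite locally constant abelian sheaf F on the small étale site of
a scheme X is representable by a scheme finite étale over X: there are an étale X-scheme U with U →
X finite and an isomorphism between the sheaf of sets underlying F and the functor of points of U. -/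
theorem result {X : Scheme.{u}} (F : EtCoh.Ab X) (h : EtCoh.IsFiniteLocallyConstant F) :
    ∃ (U : X.Etale) (_ : IsFinite U.hom),
      Nonempty (F.obj ⋙ forget AddCommGrpCat.{u + 1} ≅ yoneda.obj U ⋙ uliftFunctor.{u + 1}) := by
  choose U hU M hM hMf s hs using Groth.EtaleBase.LocConst.isFLC_iff.1 h
  have := hMf
  let e := fun x => (Finite.equivFin (ULift.{u + 1} (M x))).symm
  let L : Groth.EtFlcRep.LocTriv (F.obj ⋙ forget AddCommGrpCat.{u + 1}) :=
    { κ := X, U := U, covers := fun x => ⟨x, hU x⟩
      n := fun x => Nat.card (ULift.{u + 1} (M x)), s := fun x a => s x (e x a)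
      inj := fun x T g a b he hab => by
        refine ⟨fun t => hab ((e x).injective ?_)⟩
        exact ((hs x).res g).injective_of_nonempty t he
      surj := fun x T g σ t => by
        obtain ⟨W, k, a, ⟨w, hw⟩, he⟩ := (hs x).exists_nhd g σ t
        obtain ⟨a, rfl⟩ := (e x).surjective a
        exact ⟨W, k, w, a, hw, he⟩ }
  exact Groth.EtFlcRep.exists_finite_rep
    ((isSheaf_iff_isSheaf_of_type _ _).2
      ((Presheaf.isSheaf_iff_isSheaf_forget _ F.obj (forget AddCommGrpCat.{u + 1})).1 F.property |>
        (isSheaf_iff_isSheaf_of_type _ _).1)) L

end Groth.Agent.S0107
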