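import Groth.Statements.S11311
import Mathlib
import Groth.Agent.Calg1.CompletionLocal
import Groth.Agent.Calg6.PowerSeries
import Groth.Agent.Ega4Algebra1.RegularParams

set_option autoImplicit false
universe u
open CAlg

namespace Groth.Agent.S11311
open IsLocalRing in
theorem spanFinrank_le_of_kaehler {k B : Type u} [Field k] [CommRing B] [Algebra k B] [IsLocalRing B] [IsNoetherianRing B]
    (hres : Function.Bijective (algebraMap k (ResidueField B))) (d : ℕ)
    [Module.Free B (KaehlerDifferential k B)] [Module.Finite B (KaehlerDifferential k B)]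
    (hd : Module.finrank B (KaehlerDifferential k B) = d) : (maximalIdeal B).spanFinrank ≤ d := by
  classical
  let c : B → k := fun b => Function.invFun (algebraMap k (ResidueField B)) (residue B b)
  have hc : ∀ b, algebraMap k (ResidueField B) (c b) = residue B b := fun b => Function.invFun_eq (hres.2 _)
  have hm : ∀ b, b - algebraMap k B (c b) ∈ maximalIdeal B := fun b => by
    rw [← residue_eq_zero_iff, map_sub, sub_eq_zero, ← hc]
    rfl
  have hcadd : ∀ a b, c (a + b) = c a + c b := fun a b => hres.1 (by rw [map_add, hc, hc, hc, map_add])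
  have hcmul : ∀ a b, c (a * b) = c a * c b := fun a b => hres.1 (by rw [map_mul, hc, hc, hc, map_mul])
  have hcsmul : ∀ (r : k) b, c (r • b) = r * c b := fun r b => hres.1 (by
    rw [map_mul, hc, hc, Algebra.smul_def, map_mul]; rfl)
  let D0 : B →ₗ[k] (maximalIdeal B).Cotangent :=
    { toFun := fun b => (maximalIdeal B).toCotangent ⟨b - algebraMap k B (c b), hm b⟩
      map_add' := fun a b => by
        rw [← map_add]; congr 1; ext
        simp [hcadd, map_add]; ring
      map_smul' := fun r b => by
        rw [RingHom.id_apply, ← IsScalarTower.algebraMap_smul B r ((maximalIdeal B).toCotangent _), ← map_smul]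
        congr 1; ext
        simp only [Algebra.smul_def, Submodule.coe_smul, smul_eq_mul, mul_sub]
        rw [← Algebra.smul_def, hcsmul, map_mul, Algebra.smul_def]
        simp }
  have hleib : ∀ a b, D0 (a * b) = a • D0 b + b • D0 a := by
    intro a b
    show (maximalIdeal B).toCotangent _ = a • (maximalIdeal B).toCotangent _ + b • (maximalIdeal B).toCotangent _
    rw [← map_smul, ← map_smul, ← map_add, Ideal.toCotangent_eq, pow_two]
    have h := Ideal.mul_mem_mul (hm a) (hm b)
    convert neg_mem h using 1
    simp [hcmul, map_mul]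
    ring
  have h1 : D0 1 = 0 := by
    have h := hleib 1 1
    rw [one_mul, one_smul] at h
    exact left_eq_add.1 h
  let Dd : Derivation k B (maximalIdeal B).Cotangent := { D0 with map_one_eq_zero' := h1, leibniz' := hleib }
  let L := Dd.liftKaehlerDifferential
  have hL : Function.Surjective L := by
    intro y
    obtain ⟨⟨x, hx⟩, rfl⟩ := (maximalIdeal B).toCotangent_surjective y
    refine ⟨KaehlerDifferential.D k B x, ?_⟩
    rw [Derivation.liftKaehlerDifferential_comp_D]
    show (maximalIdeal B).toCotangent _ = _
    congr 1
    ext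
    have : c x = 0 := hres.1 (by rw [hc, map_zero, residue_eq_zero_iff]; exact hx)
    simp [this]
  let b := Module.finBasis B (KaehlerDifferential k B)
  choose l hl using fun i => (maximalIdeal B).toCotangent_surjective (L (b i))
  have hle : maximalIdeal B ≤ Ideal.span (Set.range fun i => (l i : B)) := by
    refine Submodule.le_of_le_smul_of_le_jacobson_bot (IsNoetherian.noetherian _) (maximalIdeal_le_jacobson ⊥) ?_
    intro x hx
    obtain ⟨w, hw⟩ := hL ((maximalIdeal B).toCotangent ⟨x, hx⟩)
    rw [← b.sum_repr w, map_sum] at hw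
    simp only [map_smul, ← hl] at hw
    simp only [← map_smul] at hw
    rw [← map_sum, Ideal.toCotangent_eq] at hw
    refine Submodule.mem_sup.2 ⟨∑ i, b.repr w i * (l i : B), sum_mem fun i _ => Ideal.mul_mem_left _ _ (Ideal.subset_span ⟨i, rfl⟩), _, ?_, add_sub_cancel _ x⟩
    rw [smul_eq_mul, ← pow_two]
    have hneg := neg_mem hw
    simpa [Submodule.coe_sum, neg_sub] using hneg
  have heq : maximalIdeal B = Ideal.span (Set.range fun i => (l i : B)) :=
    le_antisymm hle (Ideal.span_le.2 (by rintro _ ⟨i, rfl⟩; exact (l i).2))
  rw [heq]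
  refine (Submodule.spanFinrank_span_le_ncard_of_finite (Set.finite_range _)).trans ?_
  rw [← Set.image_univ]
  exact (Set.ncard_image_le Set.finite_univ).trans (by simp [hd])

open IsLocalRing MvPowerSeries Groth.SGA7.PS in
theorem exists_toPowerSeries {k B : Type u} [Field k] [CommRing B] [Algebra k B] [IsRegularLocalRing B]
    (hres : Function.Bijective (algebraMap k (ResidueField B))) (d : ℕ) (hd : ringKrullDim B = (d : WithBot ℕ∞))
    (x : Fin d → B) (hx : Ideal.span (Set.range x) = maximalIdeal B) :
    ∃ ι : B →ₐ[k] MvPowerSeries (Fin d) k, Function.Injective ι ∧ ∀ i, ι (x i) = X i := by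
  let C := AdicCompletion (maximalIdeal B) B
  haveI : IsNoetherianRing C := Groth.Calg1.isNoetherianRing_adicCompletion _ (IsNoetherian.noetherian (maximalIdeal B))
  haveI : IsAdicComplete (maximalIdeal C) C := AdicCompletion.isAdicComplete_of_fg (maximalIdeal B).fg_of_isNoetherianRing
  have hxm : ∀ i, algebraMap B C (x i) ∈ maximalIdeal C := fun i => by
    rw [show maximalIdeal C = _ from AdicCompletion.maximalIdeal_eq_map]
    exact Ideal.mem_map_of_mem _ (hx ▸ Ideal.subset_span ⟨i, rfl⟩)
  let ψ : MvPowerSeries (Fin d) k →ₐ[k] C := Groth.Calg6.evalAdic (maximalIdeal C) (fun i => algebraMap B C (x i)) hxm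
  have hX : ∀ i, ψ (X i) = algebraMap B C (x i) := Groth.Calg6.evalAdic_X _ _ _
  have hmap : (varIdeal (Fin d) k).map ψ.toRingHom = maximalIdeal C := by
    have hmC : maximalIdeal C = (Ideal.span (Set.range x)).map (algebraMap B C) := by
      refine (show maximalIdeal C = _ from AdicCompletion.maximalIdeal_eq_map).trans ?_
      exact congrArg (Ideal.map (algebraMap B C)) hx.symm
    rw [varIdeal, Ideal.map_span, hmC, Ideal.map_span, ← Set.range_comp, ← Set.range_comp]
    congr 2
    funext i
    exact hX i
  have hsurj : Function.Surjective ψ := by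
    haveI : IsHausdorff ((varIdeal (Fin d) k).map ψ.toRingHom) C := by rw [hmap]; infer_instance
    refine Groth.Calg6.surjective_of_map_varIdeal ψ.toRingHom fun y => ?_
    obtain ⟨b, hb⟩ := Submodule.Quotient.mk_surjective _ (y.1 1)
    obtain ⟨c, hc⟩ := hres.2 (residue B b)
    refine ⟨c, ?_⟩
    have hC : ψ.toRingHom (MvPowerSeries.C c) = algebraMap B C (algebraMap k B c) := by
      show ψ (algebraMap k _ c) = _
      rw [ψ.commutes]; rfl
    rw [hmap, AdicCompletion.mem_maximalIdeal_iff_eval_one_eq_zero, hC]
    show y.1 1 - Submodule.Quotient.mk (algebraMap k B c) = 0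
    rw [← hb, ← Submodule.Quotient.mk_sub, Submodule.Quotient.mk_eq_zero, pow_one, smul_eq_mul, Ideal.mul_top,
      ← residue_eq_zero_iff, map_sub, sub_eq_zero, ← hc]
    rfl
  have hinj : Function.Injective ψ := by
    haveI := Groth.Calg6.isRegularLocalRing_mvPowerSeries k d
    rw [injective_iff_map_eq_zero]
    intro g hg
    by_contra hg0
    have h1 := ringKrullDim_quotient_succ_le_of_nonZeroDivisor (mem_nonZeroDivisors_of_ne_zero hg0)
    have h2 : ringKrullDim C ≤ ringKrullDim (MvPowerSeries (Fin d) k ⧸ Ideal.span {g}) :=
      ringKrullDim_le_of_surjective (Ideal.Quotient.lift (Ideal.span {g}) ψ.toRingHom (fun a ha => by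
        obtain ⟨r, rfl⟩ := Ideal.mem_span_singleton'.1 ha
        show ψ (r * g) = 0
        rw [map_mul, hg, mul_zero])) (fun y => by
        obtain ⟨p, rfl⟩ := hsurj y
        exact ⟨Ideal.Quotient.mk _ p, Ideal.Quotient.lift_mk _ _ _⟩)
    rw [Groth.Calg1.ringKrullDim_adicCompletion, hd] at h2
    rw [Groth.Calg6.ringKrullDim_mvPowerSeries] at h1
    have h3 := (add_le_add_left h2 1).trans h1
    change ((d + 1 : ℕ) : WithBot ℕ∞) ≤ _ at h3
    norm_cast at h3
    omega
  let e : MvPowerSeries (Fin d) k ≃ₐ[k] C := AlgEquiv.ofBijective ψ ⟨hinj, hsurj⟩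
  refine ⟨e.symm.toAlgHom.comp (IsScalarTower.toAlgHom k B C), ?_, fun i => ?_⟩
  · exact e.symm.injective.comp (AdicCompletion.of_injective (maximalIdeal B) B)
  · show e.symm (algebraMap B C (x i)) = X i
    rw [AlgEquiv.symm_apply_eq]
    exact (hX i).symm

open IsLocalRing in
theorem free_kaehler {k B : Type u} [Field k] [CommRing B] [Algebra k B] [IsRegularLocalRing B] [Algebra.EssFiniteType k B]
    (hres : Function.Bijective (algebraMap k (ResidueField B))) (d : ℕ) (hd : ringKrullDim B = (d : WithBot ℕ∞)) :
    Module.Free B (KaehlerDifferential k B) ∧ Module.finrank B (KaehlerDifferential k B) = d := by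
  classical
  obtain ⟨x, hx⟩ := Groth.Ega4Algebra1.exists_span_eq_maximalIdeal
    (Groth.Ega4Algebra1.spanFinrank_eq_of_ringKrullDim hd)
  obtain ⟨ι, hι, hιx⟩ := exists_toPowerSeries hres d hd x hx
  set v : Fin d → KaehlerDifferential k B := fun i => KaehlerDifferential.D k B (x i) with hv
  have hspan : ⊤ ≤ Submodule.span B (Set.range v) := by
    refine Submodule.le_of_le_smul_of_le_jacobson_bot Module.Finite.fg_top (maximalIdeal_le_jacobson ⊥) ?_
    rw [← KaehlerDifferential.span_range_derivation k B, Submodule.span_le]
    rintro _ ⟨b, rfl⟩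
    obtain ⟨c, hc⟩ := hres.2 (residue B b)
    have hb : b - algebraMap k B c ∈ maximalIdeal B := by
      rw [← residue_eq_zero_iff, map_sub, sub_eq_zero, ← hc]; rfl
    rw [← hx, Ideal.mem_span_range_iff_exists_fun] at hb
    obtain ⟨a, ha⟩ := hb
    have h : KaehlerDifferential.D k B b = ∑ i, (a i • v i + x i • KaehlerDifferential.D k B (a i)) := by
      have h2 := congrArg (KaehlerDifferential.D k B) ha
      rw [map_sum, map_sub, Derivation.map_algebraMap, sub_zero] at h2
      rw [← h2]
      exact Finset.sum_congr rfl fun i _ => Derivation.leibniz _ _ _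
    rw [h, Finset.sum_add_distrib]
    refine Submodule.add_mem_sup (sum_mem fun i _ => Submodule.smul_mem _ _ (Submodule.subset_span ⟨i, rfl⟩)) ?_
    rw [KaehlerDifferential.span_range_derivation k B]
    exact sum_mem fun i _ => Submodule.smul_mem_smul (hx ▸ Ideal.subset_span ⟨i, rfl⟩) trivial
  have hli : LinearIndependent B v := by
    rw [Fintype.linearIndependent_iff]
    intro a ha j
    letI := ι.toRingHom.toAlgebra
    haveI : IsScalarTower k B (MvPowerSeries (Fin d) k) := IsScalarTower.of_algebraMap_eq fun r => (ι.commutes r).symm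
    let Dj : Derivation k B (MvPowerSeries (Fin d) k) := (MvPowerSeries.pderiv k j).compAlgebraMap B
    have h := congrArg Dj.liftKaehlerDifferential ha
    rw [map_sum, map_zero] at h
    simp only [map_smul, hv, Derivation.liftKaehlerDifferential_comp_D] at h
    have hD : ∀ i, Dj (x i) = if i = j then 1 else 0 := by
      intro i
      show MvPowerSeries.pderiv k j (ι (x i)) = _
      rw [hιx]
      split_ifs with hij
      · subst hij; exact MvPowerSeries.pderiv_X_self
      · exact MvPowerSeries.pderiv_X_of_ne hij
    simp only [hD, smul_ite, smul_zero, Finset.sum_ite_eq', Finset.mem_univ, if_true] at h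
    refine hι ?_
    rw [map_zero, ← h, Algebra.smul_def, mul_one]
    rfl
  let bas := Module.Basis.mk hli hspan
  exact ⟨Module.Free.of_basis bas, (Module.finrank_eq_card_basis bas).trans (Fintype.card_fin d)⟩


/-- Let k be a field and B a local ring containing k whose residue field is k (the composite k → B → B/m
is bijective), and which is a localization of a finitely generated k-algebra (essentially of finite
type over k); let d = dim B. If the module of differentials Ω_{B/k} is free of rank d then B is a
regular local ring. Conversely, if k is perfect and B is a regular local ring, then Ω_{B/k} is free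
of rank d. (The published statement assumes k perfect as one of its hypotheses and asserts the
equivalence; its proof of the first implication does not use perfectness, so that hypothesis is
placed on the converse only.) -/
theorem result (k B : Type u) [Field k] [CommRing B] [Algebra k B]
    [IsLocalRing B] [Algebra.EssFiniteType k B]
    (hres : Function.Bijective (algebraMap k (IsLocalRing.ResidueField B)))
    (d : ℕ) (hd : ringKrullDim B = (d : WithBot ℕ∞)) :
    ((Module.Free B (KaehlerDifferential k B) ∧ Module.finrank B (KaehlerDifferential k B) = d) →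
        IsRegularLocalRing B) ∧
      (PerfectField k → IsRegularLocalRing B →
        Module.Free B (KaehlerDifferential k B) ∧ Module.finrank B (KaehlerDifferential k B) = d) := by
  haveI : IsNoetherianRing B := Algebra.EssFiniteType.isNoetherianRing k B
  refine ⟨fun ⟨hf, hr⟩ => ?_, fun _ hB => free_kaehler hres d hd⟩
  refine IsRegularLocalRing.of_spanFinrank_maximalIdeal_le B ?_
  rw [hd]
  exact_mod_cast spanFinrank_le_of_kaehler hres d hr

end Groth.Agent.S11311
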