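import Groth.Statements.S9076
import Groth.Agent.DAlg.SitePushAdjoint
import Groth.Agent.DAlg.RFTriangle

set_option autoImplicit false
universe u
open CategoryTheory CategoryTheory.Limits Opposite
attribute [local instance] HasDerivedCategory.standard
open SiteCmp

set_option maxHeartbeats 1000000
set_option synthInstance.maxHeartbeats 400000

namespace Groth.Agent.S9076

/-- For a morphism f from the ringed site (C, O_C) to the ringed site (D, O_D), Rf_* commutes with
derived limits: if L = R lim K_n in D(O_C) through maps a_n : L → K_n, then Rf_*L = R lim Rf_*K_n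
through the maps Rf_*a_n. Rf_* is the unbounded total derived direct image under its existence
binder; the products of the two systems are instance hypotheses. Stated for ringed sites; the
published statement is for ringed topoi. -/
theorem result
    {C : Type u} [SmallCategory C] {J : GrothendieckTopology C} {O_C : Sheaf J CommRingCat.{u}}
    {D : Type u} [SmallCategory D] {K : GrothendieckTopology D} {O_D : Sheaf K CommRingCat.{u}}
    (f : ModSite.RMor O_C O_D) [SiteCmp.HasRpushD f]
    (E : ℕ → DerivedCategory (ModSite.Mod O_C)) (t : ∀ n, E (n + 1) ⟶ E n) [HasProduct E]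
    (L : DerivedCategory (ModSite.Mod O_C)) (a : ∀ n, L ⟶ E n) (hL : CohCx.IsRlimVia E t L a)
    [HasProduct fun n => (SiteCmp.RpushD f).obj (E n)] :
    CohCx.IsRlimVia (fun n => (SiteCmp.RpushD f).obj (E n)) (fun n => (SiteCmp.RpushD f).map (t n))
      ((SiteCmp.RpushD f).obj L) (fun n => (SiteCmp.RpushD f).map (a n)) := by
  obtain ⟨c, hc⟩ := hL
  obtain ⟨c', hc'⟩ := Groth.DAlg.RFTriangle.exists_distinguished f.push (SiteCmp.RpushD f)
    ((SiteCmp.pushKh f).totalRightDerivedUnit DerivedCategory.Qh
      (HomotopyCategory.quasiIso (ModSite.Mod O_C) (ComplexShape.up ℤ))) _ hc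
  haveI := Groth.DAlg.SitePush.isRightAdjoint_RpushD f
  let R := SiteCmp.RpushD f
  let adj := Adjunction.ofIsRightAdjoint R
  letI := adj.rightAdjoint_preservesLimits
  haveI : R.Additive := by
    haveI : PreservesFiniteProducts R := ⟨fun n => inferInstance⟩
    exact Functor.additive_of_preserves_binary_products R
  let p : R.obj (∏ᶜ E) ≅ ∏ᶜ fun n => R.obj (E n) := PreservesProduct.iso R E
  have hp : ∀ n, p.hom ≫ Pi.π (fun n => R.obj (E n)) n = R.map (Pi.π E n) := fun n => by
    simp [p]
  refine ⟨p.inv ≫ c', Pretriangulated.isomorphic_distinguished _ hc' _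
    (Pretriangulated.Triangle.isoMk _ _ (Iso.refl _) p.symm p.symm ?_ ?_ ?_)⟩
  · change Pi.lift (fun n => R.map (a n)) ≫ p.inv = 𝟙 _ ≫ R.map (Pi.lift a)
    rw [Category.id_comp, Iso.comp_inv_eq]
    refine Limits.Pi.hom_ext _ _ fun n => ?_
    rw [Pi.lift_π, Category.assoc, hp, ← Functor.map_comp, Pi.lift_π]
  · change Pi.lift _ ≫ p.inv = p.inv ≫ R.map (Pi.lift fun n => Pi.π E n - Pi.π E (n + 1) ≫ t n)
    rw [Iso.comp_inv_eq, Category.assoc, Iso.eq_inv_comp]
    refine Limits.Pi.hom_ext _ _ fun n => ?_
    rw [Category.assoc, Category.assoc, Pi.lift_π, hp, Preadditive.comp_sub, hp, reassoc_of% (hp (n + 1)),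
      ← Functor.map_comp, ← Functor.map_comp, Pi.lift_π, Functor.map_sub]
  · change (p.inv ≫ c') ≫ (shiftFunctor _ (1 : ℤ)).map (𝟙 _) = p.inv ≫ c'
    rw [CategoryTheory.Functor.map_id]
    exact Category.comp_id _

end Groth.Agent.S9076
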