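import Groth.Statements.S3829
import Groth.Agent.Syntomic.SmoothRegImmScheme
import Groth.Agent.KoszulLCI.Kinds
import Groth.Agent.KoszulReg.Immersion

set_option autoImplicit false
universe u
open Unram17
open AlgebraicGeometry CategoryTheory

namespace Groth.Agent.S3829

/-- c) implies a) (case of a closed immersion): let f : X → S and h : Y → S be locally of finite
presentation, j : Y → X a closed immersion over S and y a point of Y. If h is smooth on a
neighbourhood of y and, on some affine open neighbourhood of j(y) in X, the ideal of j is generated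
by a regular sequence (j is a regular immersion near y), then f is smooth on an open neighbourhood
of j(y). -/
theorem result {X Y S : Scheme.{u}} (f : X ⟶ S) (h : Y ⟶ S)
    [LocallyOfFinitePresentation f] [LocallyOfFinitePresentation h] (j : Y ⟶ X) [IsClosedImmersion j]
    (hj : j ≫ f = h) (y : ↥Y) (hy : ∃ V : Y.Opens, y ∈ V ∧ Smooth (V.ι ≫ h))
    (hreg : ∃ (U : X.Opens) (hU : IsAffineOpen U), j y ∈ U ∧
      ∃ rs : List Γ(X, U), RingTheory.Sequence.IsRegular Γ(X, U) rs ∧ j.ker.ideal ⟨U, hU⟩ = Ideal.ofList rs) :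
    ∃ U : X.Opens, j y ∈ U ∧ Smooth (U.ι ≫ f) := by
  suffices hx : j y ∈ f.smoothLocus by
    refine ⟨f.smoothLocus, hx, ?_⟩
    rw [← Scheme.Hom.smoothLocus_eq_top_iff, ← Scheme.Hom.preimage_smoothLocus_eq]
    exact f.smoothLocus.ι_preimage_self
  obtain ⟨V, hyV, hV⟩ := hy
  have hys : y ∈ h.smoothLocus := by
    have h1 : (⟨y, hyV⟩ : V) ∈ V.ι ⁻¹ᵁ h.smoothLocus := by
      rw [Scheme.Hom.preimage_smoothLocus_eq, (V.ι ≫ h).smoothLocus_eq_top]
      trivial
    exact h1
  obtain ⟨U, hU, hjU, rs, hrs, hker⟩ := hreg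
  obtain ⟨_, ⟨W, hW, rfl⟩, hfW, -⟩ :=
    S.isBasis_affineOpens.exists_subset_of_mem_open (Set.mem_univ (f (j y))) isOpen_univ
  obtain ⟨t, htW, hjt⟩ := hU.exists_basicOpen_le (V := f ⁻¹ᵁ W) ⟨j y, hfW⟩ hjU
  have hci : IsClosedImmersion (j ∣_ U) := IsZariskiLocalAtTarget.restrict ‹_› U
  have hk : LCI.IsKoszulRegularSeq Γ(X, U) rs :=
    Groth.KoszulLCI.seq_koszul_of_regular hrs
  obtain ⟨hD, -, hseq, hkD⟩ := Groth.KoszulReg.chart_basicOpen j hU rs hk
    (by rw [← hker, Scheme.Hom.ker_apply]) t (X.basicOpen t) rfl (X.basicOpen_le t)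
  refine Groth.Syntomic.mem_smoothLocus_of_h1Regular f h j hj y hys hW hD hjt htW (hD.preimage j)
    (j.app_surjective _ hD) _ (hkD.trans ?_) (Groth.KoszulLCI.isH1Regular_of_isKoszulRegularSeq hseq)
  rw [Set.range_list_get]

end Groth.Agent.S3829
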