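import Groth.Statements.S8855
import Groth.Agent.KoszulLCI.FibrewiseClosed
import Groth.Agent.Ega4Algebra2.RegularImmersion
import Groth.Agent.CI.Locus

set_option autoImplicit false
universe u
open CategoryTheory CategoryTheory.Limits AlgebraicGeometry TopologicalSpace
open SDiv

namespace Groth.Agent.S8855

/-- Let i : Z ⟶ X be an immersion of schemes with Z and X regular (locally Noetherian, all local rings
regular local rings). Then i is a regular immersion. -/
theorem result {Z X : Scheme.{u}} (i : Z ⟶ X) [IsImmersion i]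
    [IsLocallyNoetherian X] [IsLocallyNoetherian Z]
    (hX : ∀ x : ↥X, IsRegularLocalRing ↑(X.presheaf.stalk x)) (hZ : ∀ z : ↥Z, IsRegularLocalRing ↑(Z.presheaf.stalk z)) :
    RegImm.IsRegularImmersion RegImm.Kind.regular i := by
  refine ⟨inferInstance, fun z => ?_⟩
  open AlgebraicGeometry in
  have := Groth.KoszulLCI.isClosedImmersion_restrict_coborder i
  have hz : z ∈ i ⁻¹ᵁ i.coborderRange := subset_coborder ⟨z, rfl⟩
  refine Groth.KoszulLCI.isRegularImmersionAt_of_restrict .regular i i.coborderRange z hz ?_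
  let i₀ := i ∣_ i.coborderRange
  have h : Mor2.IsRegularClosedImmersion i₀ := by
    rw [Groth.Ega4b.isRegularClosedImmersion_iff]
    intro w
    have h1 : IsRegularLocalRing (i.coborderRange.toScheme.presheaf.stalk (i₀ w)) :=
      have := hX (i₀ w).1
      IsRegularLocalRing.of_ringEquiv (i.coborderRange.stalkIso (i₀ w)).symm.commRingCatIsoToRingEquiv
    have h2 : IsRegularLocalRing ((i ⁻¹ᵁ i.coborderRange).toScheme.presheaf.stalk w) :=
      have := hZ w.1
      IsRegularLocalRing.of_ringEquiv ((i ⁻¹ᵁ i.coborderRange).stalkIso w).symm.commRingCatIsoToRingEquiv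
    obtain ⟨rs, hrs, hreg⟩ := (Groth.CI.isCompleteIntersection_iff_of_surjective (i₀.stalkMap w).hom
      (AlgebraicGeometry.SurjectiveOnStalks.stalkMap_surjective (f := i₀) w)).mp
      Groth.CI.isCompleteIntersection_of_isRegularLocalRing
    exact ⟨rs, hreg, hrs⟩
  exact ((Groth.KoszulLCI.mor2_iff_regImm i₀).mp h).2 ⟨z, hz⟩

end Groth.Agent.S8855
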