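import Groth.Statements.S14372
import Groth.Agent.VectorBundles.TrdegBound
import Mathlib.LinearAlgebra.Basis.VectorSpace
import Mathlib.FieldTheory.IsAlgClosed.Basic
import Mathlib.Algebra.MvPolynomial.Funext
import Mathlib.RingTheory.MvPolynomial.EulerIdentity

set_option autoImplicit false
universe u
open Fano

namespace Groth.Agent.S14372

open MvPolynomial Finset

theorem pderiv_bind₁ {R σ τ : Type*} [CommRing R] [Fintype σ] (φ : σ → MvPolynomial τ R)
    (j : τ) (p : MvPolynomial σ R) :
    pderiv j (bind₁ φ p) = ∑ i, bind₁ φ (pderiv i p) * pderiv j (φ i) := by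
  classical
  induction p using MvPolynomial.induction_on with
  | C a => simp
  | add p q hp hq => simp [hp, hq, sum_add_distrib, add_mul]
  | mul_X p i hp =>
    simp only [map_mul, bind₁_X_right, pderiv_mul, hp, map_add, add_mul, sum_add_distrib,
      sum_mul]
    congr 1
    · exact sum_congr rfl fun m _ => by ring
    · simp [pderiv_X, Pi.single_apply, apply_ite, mul_ite, ite_mul]

/-- Over an algebraically closed field k of arbitrary characteristic, let f be a homogeneous form of
degree d ≥ 2 in n + 1 variables and U a linear subspace of k^(n+1) on which f vanishes, such that at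
every nonzero vector of U some partial derivative of f does not vanish (the hypersurface f = 0 in
P^n contains the r-plane P(U), r + 1 = dim U, and is smooth at every point of it). Then 2 · dim U ≤
n + 1, i.e. r ≤ (n − 1)/2. (The published statement assumes the hypersurface smooth everywhere; this
row assumes smoothness only along P(U).) -/
theorem result (k : Type u) [Field k] [IsAlgClosed k]
    (n d : ℕ) (hd : 2 ≤ d) (f : MvPolynomial (Fin (n + 1)) k) (hf : f.IsHomogeneous d)
    (U : Submodule k (Fin (n + 1) → k)) (hU : ∀ u ∈ U, MvPolynomial.eval u f = 0)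
    (hsm : ∀ u ∈ U, u ≠ 0 → ∃ i : Fin (n + 1), MvPolynomial.eval u (MvPolynomial.pderiv i f) ≠ 0) :
    2 * Module.finrank k ↥U ≤ n + 1 := by
  classical
  set r := Module.finrank k ↥U with hr
  let b : Module.Basis (Fin r) k ↥U := Module.finBasis k ↥U
  let φ : Fin (n + 1) → MvPolynomial (Fin r) k := fun i => ∑ j, C ((b j : Fin (n + 1) → k) i) * X j
  have hφ : ∀ i, (φ i).IsHomogeneous 1 := fun i =>
    IsHomogeneous.sum _ _ _ fun j _ => (isHomogeneous_X k j).C_mul _
  have heval : ∀ (y : Fin r → k) (p : MvPolynomial (Fin (n + 1)) k),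
      eval y (bind₁ φ p) = eval (↑(∑ j, y j • b j) : Fin (n + 1) → k) p := by
    intro y p
    change eval₂Hom (RingHom.id k) y (bind₁ φ p) = _
    rw [eval₂Hom_bind₁]
    change eval _ p = _
    congr 2
    funext i
    simp [φ, mul_comm]
  let Φ : (Fin (n + 1) → k) →ₗ[k] MvPolynomial (Fin r) k :=
    Fintype.linearCombination k fun i => bind₁ φ (pderiv i f)
  have hker : U ≤ LinearMap.ker Φ := by
    have h0 : bind₁ φ f = 0 := MvPolynomial.funext fun y => by
      rw [heval, map_zero]; exact hU _ (Submodule.coe_mem _)
    have hb : ∀ j, (b j : Fin (n + 1) → k) ∈ LinearMap.ker Φ := by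
      intro j
      have hd := congrArg (pderiv j) h0
      rw [pderiv_bind₁, map_zero] at hd
      rw [LinearMap.mem_ker, Fintype.linearCombination_apply]
      refine Eq.trans (sum_congr rfl fun i _ => ?_) hd
      simp [φ, pderiv_X, Pi.single_apply, smul_eq_C_mul, mul_comm]
    intro v hv
    have : v = ↑(∑ j, (b.repr ⟨v, hv⟩) j • b j) := by rw [b.sum_repr]
    rw [this, Submodule.coe_sum]
    exact Submodule.sum_mem _ fun j _ => Submodule.smul_mem _ _ (hb j)
  have hfd : FiniteDimensional k ↥(LinearMap.range Φ) := Module.Finite.range Φ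
  let c := Module.finBasis k ↥(LinearMap.range Φ)
  have hdim : Module.finrank k ↥(LinearMap.range Φ) + r ≤ n + 1 := by
    have h1 := Φ.finrank_range_add_finrank_ker
    rw [Module.finrank_fin_fun] at h1
    have h2 := Submodule.finrank_mono hker
    omega
  have hhom : ∀ m, (c m : MvPolynomial (Fin r) k).IsHomogeneous (d - 1) := by
    intro m
    obtain ⟨v, hv⟩ := (c m).2
    rw [← hv]
    simp only [Φ, Fintype.linearCombination_apply, smul_eq_C_mul]
    refine IsHomogeneous.sum _ _ _ fun i _ => IsHomogeneous.C_mul ?_ _
    simpa using (hf.pderiv (i := i)).aeval φ hφ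
  have key := Groth.VectorBundles.card_vars_le_card_forms
    (fun m => (c m : MvPolynomial (Fin r) k)) (d - 1) (by omega) hhom ?_
  · simp only [Fintype.card_fin] at key
    omega
  · intro y hy
    by_contra hne
    have hu : (∑ j, y j • b j) ≠ 0 := fun h =>
      hne (funext (Fintype.linearIndependent_iff.1 b.linearIndependent y h))
    obtain ⟨i, hi⟩ := hsm _ (Submodule.coe_mem (∑ j, y j • b j))
      (fun h => hu (Subtype.ext h))
    apply hi
    rw [← heval]
    have hmem : bind₁ φ (pderiv i f) ∈ LinearMap.range Φ :=
      ⟨Pi.single i 1, by simp [Φ, Fintype.linearCombination_apply, Pi.single_apply, ite_smul]⟩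
    have : bind₁ φ (pderiv i f) =
        ↑(∑ m, c.repr ⟨_, hmem⟩ m • c m) := by rw [c.sum_repr]
    rw [this, Submodule.coe_sum, map_sum]
    exact sum_eq_zero fun m _ => by simp [smul_eval, hy m]

end Groth.Agent.S14372
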