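import Groth.Statements.S18756
import Groth.Agent.S0591
import Groth.Agent.Limits.RingPropDescent
import Groth.Agent.Limits.FlatDescent
import Mathlib.AlgebraicGeometry.Morphisms.UniversallyOpen
import Mathlib.AlgebraicGeometry.AffineTransitionLimit
import Mathlib.CategoryTheory.Filtered.Final
-- import your own Groth.Agent.* helpers here

set_option autoImplicit false
universe u
open CategoryTheory CategoryTheory.Limits AlgebraicGeometry TopologicalSpace
open ModPair

namespace Groth.Agent.S18756

section Helpers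

variable {I : Type u} [SmallCategory I] [IsCofiltered I] {D : I ⥤ Scheme.{u}} {c : Cone D}

theorem exists_flat_stage (hc : IsLimit c) [∀ {i j : I} (t : i ⟶ j), IsAffineHom (D.map t)]
    [∀ i, CompactSpace (D.obj i)] [∀ i, QuasiSeparatedSpace (D.obj i)] {U : Scheme.{u}}
    (u' : U ⟶ c.pt) [Flat u'] [LocallyOfFinitePresentation u'] [QuasiCompact u'] [QuasiSeparated u'] :
    ∃ (i : I) (V : Scheme.{u}) (v : V ⟶ D.obj i) (e : U ⟶ V),
      Flat v ∧ LocallyOfFinitePresentation v ∧ QuasiCompact v ∧ QuasiSeparated v ∧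
      IsPullback e u' v (c.π.app i) := by
  have : ∀ (i j : I) (t : i ⟶ j), IsAffineHom (D.map t) := fun _ _ t => inferInstance
  obtain ⟨i, V, v, e, hlfp, hqc, hqs, hsq⟩ := Groth.Agent.S0591.result D c hc U u'
  have : CompactSpace V := QuasiCompact.compactSpace_of_compactSpace v
  have hflat : Flat (pullback.snd v (c.π.app i)) := by
    rw [← hsq.isoPullback_inv_snd]; infer_instance
  obtain ⟨o, ho⟩ := Groth.Limits.exists_stage_of_ringDescends (P := @Flat) (Q := RingHom.Flat)
    Groth.Limits.ringDescends_flat (fun _ _ f hf => inferInstance) D c hc i v hflat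
  refine ⟨o.left, _, pullback.snd v (D.map o.hom),
    pullback.lift e (u' ≫ c.π.app o.left) (by rw [Category.assoc, c.w, hsq.w]), ho, inferInstance,
    inferInstance, inferInstance, ?_⟩
  refine IsPullback.of_right ?_ (pullback.lift_snd _ _ _) (IsPullback.of_hasPullback v (D.map o.hom))
  rw [pullback.lift_fst, c.w]
  exact hsq

/-- A stage of the base change system. -/
structure Stage (c : Cone D) {U : Scheme.{u}} (u' : U ⟶ c.pt) (i : I) where
  V : Scheme.{u}
  v : V ⟶ D.obj i
  e : U ⟶ V
  flat : Flat v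
  lfp : LocallyOfFinitePresentation v
  qc : QuasiCompact v
  qs : QuasiSeparated v
  sq : IsPullback e u' v (c.π.app i)

noncomputable def Stage.move {U : Scheme.{u}} {u' : U ⟶ c.pt} {i : I} (s : Stage c u' i) {k : I}
    (b : k ⟶ i) : Stage c u' k :=
  have := s.flat
  have := s.lfp
  have := s.qc
  have := s.qs
  { V := pullback s.v (D.map b)
    v := pullback.snd _ _
    e := pullback.lift s.e (u' ≫ c.π.app k) (by rw [Category.assoc, c.w, s.sq.w])
    flat := inferInstance
    lfp := inferInstance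
    qc := inferInstance
    qs := inferInstance
    sq := by
      refine IsPullback.of_right ?_ (pullback.lift_snd _ _ _) (IsPullback.of_hasPullback s.v (D.map b))
      rw [pullback.lift_fst, c.w]
      exact s.sq }

theorem descend_cover (hc : IsLimit c) [∀ {i j : I} (t : i ⟶ j), IsAffineHom (D.map t)]
    [∀ i, CompactSpace (D.obj i)] [∀ i, QuasiSeparatedSpace (D.obj i)] {ι : Type u}
    (U : ι → Scheme.{u}) (u : ∀ a, U a ⟶ c.pt) [∀ a, Flat (u a)]
    [∀ a, LocallyOfFinitePresentation (u a)] [∀ a, QuasiCompact (u a)] [∀ a, QuasiSeparated (u a)]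
    (hcov : ∀ x : c.pt, ∃ (a : ι) (y : U a), (u a).base y = x) :
    ∃ (i : I) (n : ℕ) (a : Fin n → ι) (s : ∀ j, Stage c (u (a j)) i),
      ∀ x : D.obj i, ∃ (j : Fin n) (y : (s j).V), (s j).v.base y = x := by
  classical
  have : CompactSpace c.pt := Scheme.compactSpace_of_isLimit D c hc
  have hopen : ∀ a, IsOpen (Set.range (u a)) := fun a => (u a).isOpenMap.isOpen_range
  obtain ⟨t, ht⟩ := isCompact_univ.elim_finite_subcover (fun a => Set.range (u a)) hopen
    (fun x _ => by obtain ⟨a, y, hy⟩ := hcov x; exact Set.mem_iUnion.mpr ⟨a, y, hy⟩)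
  let a : Fin t.card → ι := fun j => (t.equivFin.symm j : t)
  have hst : ∀ j, ∃ i, Nonempty (Stage c (u (a j)) i) := fun j => by
    obtain ⟨i, V, v, e, h1, h2, h3, h4, h5⟩ := exists_flat_stage hc (u (a j))
    exact ⟨i, ⟨⟨V, v, e, h1, h2, h3, h4, h5⟩⟩⟩
  choose i hi using hst
  obtain ⟨k, hk⟩ := IsCofiltered.inf_objs_exists (Finset.univ.image i)
  let s : ∀ j, Stage c (u (a j)) k := fun j =>
    (hi j).some.move (hk (Finset.mem_image_of_mem i (Finset.mem_univ j))).some
  have hso : ∀ j, IsOpen (Set.range (s j).v) := fun j => by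
    have := (s j).flat
    have := (s j).lfp
    exact (s j).v.isOpenMap.isOpen_range
  let W : (D.obj k).Opens := ⟨⋃ j, Set.range (s j).v, isOpen_iUnion hso⟩
  have hW : c.π.app k ⁻¹ᵁ W = ⊤ := by
    refine top_le_iff.mp fun x _ => ?_
    obtain ⟨b, hb, y, rfl⟩ := Set.mem_iUnion₂.mp (ht (Set.mem_univ x))
    obtain ⟨j, rfl⟩ : ∃ j, a j = b := ⟨t.equivFin ⟨b, hb⟩, by simp [a]⟩
    refine Set.mem_iUnion.mpr ⟨j, (s j).e y, ?_⟩
    rw [← Scheme.Hom.comp_apply, (s j).sq.w]
    rfl
  obtain ⟨l, b, hl⟩ := exists_map_eq_top D c hc W hW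
  refine ⟨l, t.card, a, fun j => (s j).move b, fun x => ?_⟩
  obtain ⟨j, y, hy⟩ := Set.mem_iUnion.mp (hl.ge (Set.mem_univ x) : D.map b x ∈ W)
  obtain ⟨z, -, hz⟩ := Scheme.Pullback.exists_preimage_pullback (f := (s j).v) (g := D.map b) y x hy
  exact ⟨j, z, hz⟩

end Helpers

/-- Let (X_i) be a cofiltered system of schemes with affine transition morphisms such that X_{i₀} is
quasi-compact and quasi-separated for some index i₀, let X be its limit, and let {U_a ⟶ X} be an
fppf covering: a jointly surjective family of morphisms which are flat and of finite presentation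
(flat, locally of finite presentation, quasi-compact and quasi-separated). Then the covering
descends: for some index i there is a finite fppf covering {V_j ⟶ X_i}_{j < n} such that every V_j
×_{X_i} X is one of the U_a, i.e. for each j some U_{a_j} ⟶ X is the base change of V_j ⟶ X_i along
X ⟶ X_i. (The source states the same for Zariski, Nisnevich and étale coverings; only the fppf case
is given here.) -/
theorem result {I : Type u} [SmallCategory I] [IsCofiltered I]
    (D : I ⥤ Scheme.{u}) (c : Cone D) (hc : IsLimit c)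
    [∀ (i j : I) (t : i ⟶ j), IsAffineHom (D.map t)] (i₀ : I) [CompactSpace (D.obj i₀)]
    [QuasiSeparatedSpace (D.obj i₀)] {ι : Type u} (U : ι → Scheme.{u}) (u : ∀ a, U a ⟶ c.pt)
    [∀ a, Flat (u a)] [∀ a, LocallyOfFinitePresentation (u a)] [∀ a, QuasiCompact (u a)]
    [∀ a, QuasiSeparated (u a)] (hcov : ∀ x : c.pt, ∃ (a : ι) (y : U a), (u a).base y = x) :
    ∃ (i : I) (n : ℕ) (V : Fin n → Scheme.{u}) (v : ∀ j, V j ⟶ D.obj i) (a : Fin n → ι)
      (e : ∀ j, U (a j) ⟶ V j),
      (∀ j, Flat (v j) ∧ LocallyOfFinitePresentation (v j) ∧ QuasiCompact (v j) ∧ QuasiSeparated (v j)) ∧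
      (∀ x : D.obj i, ∃ (j : Fin n) (y : V j), (v j).base y = x) ∧
      ∀ j, IsPullback (e j) (u (a j)) (v j) (c.π.app i) := by

  let E := Over.forget i₀ ⋙ D
  let cE : Cone E := c.whisker (Over.forget i₀)
  have hcE : IsLimit cE := (Functor.Initial.isLimitWhiskerEquiv (Over.forget i₀) c).symm hc
  have hEaff : ∀ {p q : Over i₀} (t : p ⟶ q), IsAffineHom (E.map t) := fun {p q} t =>
    inferInstanceAs (IsAffineHom (D.map t.left))
  have hEc : ∀ p, CompactSpace (E.obj p) := fun p =>
    QuasiCompact.compactSpace_of_compactSpace (D.map p.hom)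
  have hEq : ∀ p, QuasiSeparatedSpace (E.obj p) := fun p =>
    quasiSeparatedSpace_of_quasiSeparated (D.map p.hom)
  obtain ⟨o, n, a, s, hs⟩ := descend_cover (c := cE) hcE U u hcov
  exact ⟨o.left, n, fun j => (s j).V, fun j => (s j).v, a, fun j => (s j).e,
    fun j => ⟨(s j).flat, (s j).lfp, (s j).qc, (s j).qs⟩, hs, fun j => (s j).sq⟩

end Groth.Agent.S18756
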