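import Groth.Statements.S9551
import Groth.Agent.QCohMod.QCQS

set_option autoImplicit false
universe u
open CategoryTheory CategoryTheory.Limits AlgebraicGeometry Opposite
open Algz

namespace Groth.Agent.S9551

namespace Aux

open ARSys

variable {A : Type u} [CommRing A]

lemma tr_apply (X : ARSys.PS (ModuleCat.{u} A)) {i j k : ℕ} (h₁ : i ≤ j) (h₂ : j ≤ k) (x : X.obj (op k)) :
    (tr X h₁).hom ((tr X h₂).hom x) = (tr X (h₁.trans h₂)).hom x := by
  rw [← LinearMap.comp_apply, ← ModuleCat.hom_comp]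
  congr 2
  exact (X.map_comp _ _).symm

lemma range_eq_of_imageSubobject_eq {M M' N : ModuleCat.{u} A} (f : M ⟶ N) (g : M' ⟶ N)
    (h : imageSubobject f = imageSubobject g) : LinearMap.range f.hom = LinearMap.range g.hom := by
  have key : ∀ {K : ModuleCat.{u} A} (e : K ⟶ N),
      LinearMap.range e.hom = LinearMap.range (imageSubobject e).arrow.hom := by
    intro K e
    conv_lhs => rw [← imageSubobject_arrow_comp e]
    rw [ModuleCat.hom_comp]
    exact LinearMap.range_comp_of_range_eq_top _ (ModuleCat.range_eq_top_of_epi _)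
  rw [key f, key g, h]

/-- In a Mittag-Leffler system, the image of the limit is a stable image. -/
lemma exists_le_range_π (X : ARSys.PS (ModuleCat.{u} A)) (hX : IsML X) (n : ℕ) :
    ∃ m, ∃ h : n ≤ m, LinearMap.range (tr X h).hom ≤ LinearMap.range (limit.π X (op n)).hom := by
  choose r hr using hX
  refine ⟨n + r n, Nat.le_add_right _ _, ?_⟩
  -- the stable images
  let S : ∀ k, Set (X.obj (op k)) := fun k => LinearMap.range (tr X (Nat.le_add_right k (r k))).hom
  have hS : ∀ k i (h : k + r k ≤ i), S k = (LinearMap.range (tr X ((Nat.le_add_right k (r k)).trans h)).hom :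
      Set (X.obj (op k))) := by
    intro k i h
    obtain ⟨s, rfl⟩ := Nat.exists_eq_add_of_le ((Nat.le_add_right k (r k)).trans h)
    exact congrArg (SetLike.coe) (range_eq_of_imageSubobject_eq _ _ (hr k s (by omega))).symm
  have step : ∀ k (y : X.obj (op k)), y ∈ S k →
      ∃ z : X.obj (op (k + 1)), z ∈ S (k + 1) ∧ (tr X (Nat.le_succ k)).hom z = y := by
    intro k y hy
    rw [hS k (k + r k + (k + 1 + r (k + 1))) (by omega)] at hy
    obtain ⟨w, hw⟩ := hy
    refine ⟨(tr X (by omega)).hom w, ?_, (tr_apply X _ _ w).trans hw⟩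
    rw [hS (k + 1) (k + r k + (k + 1 + r (k + 1))) (by omega)]
    exact ⟨w, rfl⟩
  rintro x ⟨w, rfl⟩
  choose g hgS hg using step
  let up : ∀ i, {y : X.obj (op (n + i)) // y ∈ S (n + i)} := fun i => Nat.rec
    (motive := fun i => {y : X.obj (op (n + i)) // y ∈ S (n + i)})
    ⟨_, w, rfl⟩ (fun i y => ⟨g (n + i) y.1 y.2, hgS (n + i) y.1 y.2⟩) i
  have hup : ∀ i j (h : i ≤ j), (tr X (Nat.add_le_add_left h n)).hom (up j).1 = (up i).1 := by
    intro i j h
    induction j, h using Nat.le_induction with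
    | base => simp [tr]
    | succ j h ih =>
      rw [← tr_apply X (Nat.add_le_add_left h n) (Nat.le_succ (n + j))]
      refine (congrArg _ ?_).trans ih
      exact hg (n + j) (up j).1 (up j).2
  let v : ∀ k : ℕᵒᵖ, X.obj k := fun k => (tr X (Nat.le_add_left k.unop n)).hom (up k.unop).1
  have hv : v ∈ (X ⋙ forget (ModuleCat.{u} A)).sections := by
    intro a b f
    have hle : b.unop ≤ a.unop := leOfHom f.unop
    change (tr X hle).hom (v a) = v b
    simp only [v]
    rw [tr_apply X hle (Nat.le_add_left a.unop n), ← hup b.unop a.unop hle,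
      tr_apply X (Nat.le_add_left b.unop n) (Nat.add_le_add_left hle n)]
  let hl := isLimitOfPreserves (forget (ModuleCat.{u} A)) (limit.isLimit X)
  obtain ⟨y, hy⟩ : ∃ y : (limit X : ModuleCat.{u} A), ∀ k, (limit.π X k).hom y = v k :=
    ⟨(Types.isLimitEquivSections hl).symm ⟨v, hv⟩, fun k =>
      congrFun (congrArg Subtype.val ((Types.isLimitEquivSections hl).apply_symm_apply ⟨v, hv⟩)) k⟩
  exact ⟨y, (hy _).trans (hup 0 n (Nat.zero_le n))⟩

variable [IsNoetherianRing A] (𝔞 : Ideal A)

/-- The comparison map of a module on the punctured spectrum with the sheaf of its sections. -/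
noncomputable def c (F : (↑(LocCoh.puncturedOpen A 𝔞) : Scheme.{u}).Modules) :=
  (Scheme.Modules.restrictFunctor (LocCoh.puncturedOpen A 𝔞).ι).map
    ((tilde.adjunction (R := CommRingCat.of A)).counit.app
      ((Scheme.Modules.pushforward (LocCoh.puncturedOpen A 𝔞).ι).obj F)) ≫
    (Scheme.Modules.restrictAdjunction (LocCoh.puncturedOpen A 𝔞).ι).counit.app F

instance quasiCompact_ι : QuasiCompact (LocCoh.puncturedOpen A 𝔞).ι := inferInstance

lemma isIso_c (F : (↑(LocCoh.puncturedOpen A 𝔞) : Scheme.{u}).Modules) [F.IsQuasicoherent] :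
    IsIso (c 𝔞 F) := by
  haveI := Groth.QCohMod.isQCoh_pushforward (M := F) (LocCoh.puncturedOpen A 𝔞).ι
  haveI : IsIso ((tilde.adjunction (R := CommRingCat.of A)).counit.app
      ((Scheme.Modules.pushforward (LocCoh.puncturedOpen A 𝔞).ι).obj F)) :=
    Scheme.Modules.isIso_fromTildeΓ_of_isQuasicoherent
      ((Scheme.Modules.pushforward (LocCoh.puncturedOpen A 𝔞).ι).obj F)
  unfold c
  infer_instance

/-- Naturality of the composite counit of two adjunctions. -/
lemma counit_natural {C D E : Type*} [Category C] [Category D] [Category E] {L₁ : C ⥤ D} {R₁ : D ⥤ C}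
    (adj₁ : L₁ ⊣ R₁) {L₂ : D ⥤ E} {R₂ : E ⥤ D} (adj₂ : L₂ ⊣ R₂) {X Y : E} (f : X ⟶ Y) :
    L₂.map (L₁.map (R₁.map (R₂.map f))) ≫ L₂.map (adj₁.counit.app (R₂.obj Y)) ≫ adj₂.counit.app Y =
      (L₂.map (adj₁.counit.app (R₂.obj X)) ≫ adj₂.counit.app X) ≫ f := by
  rw [← Functor.map_comp_assoc]
  have e1 := adj₁.counit.naturality (R₂.map f)
  have e2 := adj₂.counit.naturality f
  simp only [Functor.comp_map, Functor.id_map] at e1 e2
  erw [e1, Functor.map_comp_assoc, e2, Category.assoc]

/-- An epimorphism criterion through the range of a linear map. -/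
lemma epi_of_range_le {E : Type*} [Category E] (F : ModuleCat.{u} A ⥤ E) [F.PreservesEpimorphisms]
    {M N L : ModuleCat.{u} A} (f : M ⟶ N) (g : L ⟶ N)
    (hle : LinearMap.range g.hom ≤ LinearMap.range f.hom) {Z : E} (c : F.obj N ⟶ Z)
    (h : Epi (F.map g ≫ c)) : Epi (F.map f ≫ c) := by
  let incl : ModuleCat.of A (LinearMap.range f.hom) ⟶ N := ModuleCat.ofHom (Submodule.subtype _)
  let q : M ⟶ ModuleCat.of A (LinearMap.range f.hom) := ModuleCat.ofHom f.hom.rangeRestrict
  let p : L ⟶ ModuleCat.of A (LinearMap.range f.hom) :=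
    ModuleCat.ofHom (g.hom.codRestrict _ fun x => hle ⟨x, rfl⟩)
  have hp : g = p ≫ incl := rfl
  have hq : f = q ≫ incl := rfl
  haveI : Epi q := (ModuleCat.epi_iff_surjective _).mpr f.hom.surjective_rangeRestrict
  rw [hp, F.map_comp, Category.assoc] at h
  haveI : Epi (F.map incl ≫ c) := epi_of_epi (F.map p) _
  rw [hq, F.map_comp, Category.assoc]
  infer_instance

end Aux

/-- Let A be a Noetherian ring, I ⊆ 𝔞 ideals, U = Spec A ∖ V(𝔞) with inclusion j, (F_n) an object of
Coh(U, I O_U) and M = lim_n H^0(U, F_n). If the system H^0(U, F_n) is Mittag-Leffler, then for every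
n the canonical map from M~|_U to F_n, adjoint (under the tilde and restriction adjunctions) to the
projection M → H^0(U, F_n) = Γ(Spec A, j_*F_n), is an epimorphism. (The source states surjectivity
of (M/I^nM)~|_U → F_n; the map from M~|_U factors through it after the epimorphism M~ → (M/I^nM)~,
so the two surjectivity statements are equivalent.) -/
theorem result (A : Type u) [CommRing A] [IsNoetherianRing A] (I 𝔞 : Ideal A) (hI𝔞 : I ≤ 𝔞)
    (G : ℕᵒᵖ ⥤ (↑(LocCoh.puncturedOpen A 𝔞) : Scheme.{u}).Modules) (hG : Formal.IsCohFormal I G)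
    (ha : ARSys.IsML (Algz.sectMod A (LocCoh.puncturedOpen A 𝔞) G)) (n : ℕ) :
    Epi (((Scheme.Modules.restrictAdjunction (LocCoh.puncturedOpen A 𝔞).ι).homEquiv _ (G.obj (op n))).symm
      (((tilde.adjunction (R := CommRingCat.of A)).homEquiv (limit (Algz.sectMod A (LocCoh.puncturedOpen A 𝔞) G))
        ((Scheme.Modules.pushforward (LocCoh.puncturedOpen A 𝔞).ι).obj (G.obj (op n)))).symm
          (limit.π (Algz.sectMod A (LocCoh.puncturedOpen A 𝔞) G) (op n)))) := by
  classical
  let U := LocCoh.puncturedOpen A 𝔞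
  let R := Scheme.Modules.restrictFunctor U.ι
  let T := tilde.functor (CommRingCat.of A)
  obtain ⟨m, h, hle⟩ := Aux.exists_le_range_π (Algz.sectMod A U G) ha n
  rw [Adjunction.homEquiv_counit, Adjunction.homEquiv_counit, Functor.map_comp, Category.assoc]
  change Epi (R.map (T.map (limit.π (Algz.sectMod A U G) (op n))) ≫ Aux.c 𝔞 (G.obj (op n)))
  -- transition maps are epimorphisms
  have hepi : ∀ a b : ℕ, ∀ h : a ≤ b, Epi (G.map (homOfLE h).op) := by
    intro a b h
    induction b, h using Nat.le_induction with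
    | base => simp only [homOfLE_refl, op_id, G.map_id]; infer_instance
    | succ b h ih =>
      obtain ⟨h0, hiso⟩ := hG.2.2 b
      have : Epi (G.map (homOfLE (Nat.le_succ b)).op) := by
        rw [← cokernel.π_desc _ _ h0]; infer_instance
      rw [← homOfLE_comp h (Nat.le_succ b), op_comp, G.map_comp]
      infer_instance
  haveI := (hG.1 m).1
  haveI := Aux.isIso_c 𝔞 (G.obj (op m))
  -- the map of the stable term is an epimorphism
  have h1 : Epi (R.map (T.map (ARSys.tr (Algz.sectMod A U G) h)) ≫ Aux.c 𝔞 (G.obj (op n))) := by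
    have nat : R.map (T.map (ARSys.tr (Algz.sectMod A U G) h)) ≫ Aux.c 𝔞 (G.obj (op n)) =
        Aux.c 𝔞 (G.obj (op m)) ≫ G.map (homOfLE h).op :=
      Aux.counit_natural (tilde.adjunction (R := CommRingCat.of A))
        (Scheme.Modules.restrictAdjunction U.ι) (G.map (homOfLE h).op)
    rw [nat]
    exact @epi_comp _ _ _ _ _ _ (@IsIso.epi_of_iso _ _ _ _ _ ‹IsIso (Aux.c 𝔞 (G.obj (op m)))›) _
      (hepi n m h)
  haveI : PreservesColimitsOfSize.{0, 0} T := (tilde.adjunction).leftAdjoint_preservesColimits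
  haveI : PreservesColimitsOfSize.{0, 0} R :=
    (Scheme.Modules.restrictAdjunction U.ι).leftAdjoint_preservesColimits
  exact Aux.epi_of_range_le (T ⋙ R) (limit.π (Algz.sectMod A U G) (op n)) _ hle
    (Aux.c 𝔞 (G.obj (op n))) h1

end Groth.Agent.S9551
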