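import Groth.Statements.S9241
import Groth.Agent.Hensel1.DimOneBranches
import Groth.Agent.S0506
import Groth.Agent.EtaleBase.NormalStalk

set_option autoImplicit false
universe u
open Brnch IsLocalRing Groth.Hensel1

namespace Groth.Agent.S9241

theorem exists_sub_mem_pow_completion (A : Type u) [CommRing A] [IsLocalRing A] [IsNoetherianRing A]
    (n : ℕ) (b : AdicCompletion (maximalIdeal A) A) :
    ∃ a : A, b - algebraMap A _ a ∈ maximalIdeal (AdicCompletion (maximalIdeal A) A) ^ n := by
  obtain ⟨a, ha⟩ := Ideal.Quotient.mk_surjective (AdicCompletion.evalₐ (maximalIdeal A) n b)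
  refine ⟨a, ?_⟩
  rw [AdicCompletion.maximalIdeal_eq_map,
    ← Groth.AdicLinTop.CompletionQuot.ker_evalₐ _ (IsNoetherian.noetherian _) n]
  show AdicCompletion.evalₐ (maximalIdeal A) n _ = 0
  rw [map_sub, Groth.AdicLinTop.CompletionQuot.evalₐ_algebraMap, ha, sub_self]

/-- For a Noetherian local ring A of dimension 1, A and its completion A^ have the same number of
branches and the same number of geometric branches. -/
theorem result (A : Type u) [CommRing A] [IsLocalRing A]
    [IsNoetherianRing A] (hA : ringKrullDim A = 1) :
    Brnch.numBranches (AdicCompletion (IsLocalRing.maximalIdeal A) A) = Brnch.numBranches A ∧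
      Brnch.numGeomBranches (AdicCompletion (IsLocalRing.maximalIdeal A) A) =
        Brnch.numGeomBranches A := by
  let Ahat := AdicCompletion (maximalIdeal A) A
  have hfg := (maximalIdeal A).fg_of_isNoetherianRing
  have : IsNoetherianRing (A ⧸ maximalIdeal A) := inferInstance
  have : IsNoetherianRing Ahat := Groth.Calg1.isNoetherianRing_adicCompletion (maximalIdeal A) hfg
  have := Groth.Calg6.Branch.henselianLocalRing_of_isAdicComplete Ahat
  have : Module.Flat A Ahat := AdicCompletion.flat_of_isNoetherian (maximalIdeal A)
  refine ⟨?_, le_antisymm ?_ (numGeomBranches_le_of_flat A Ahat)⟩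
  · obtain ⟨T, _, _, _, _, hT⟩ := Groth.Agent.S0506.result A
    obtain ⟨M⟩ := hensModel_of_isHenselization (R := A) (S := T)
    have : IsNoetherianRing T := M.isNoetherianRing_iff.mp ‹_›
    have := hT.henselian
    obtain ⟨ψ, hψ, -⟩ := hT.universal Ahat (algebraMap A Ahat) inferInstance
    let _ := ψ.toAlgebra
    have : Module.FaithfullyFlat T Ahat := faithfullyFlat_henselization_completion ψ hψ
    have hmax : (maximalIdeal T).map (algebraMap T Ahat) = maximalIdeal Ahat := by
      rw [← M.map_maximalIdeal, Ideal.map_map, AdicCompletion.maximalIdeal_eq_map]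
      exact congrArg (fun f : A →+* Ahat => Ideal.map f (maximalIdeal A)) hψ
    have hsurj : ∀ (k : ℕ) (c : Ahat), ∃ a : T, c - algebraMap T Ahat a ∈ maximalIdeal Ahat ^ k := by
      intro k c
      obtain ⟨a, ha⟩ := exists_sub_mem_pow_completion A k c
      refine ⟨algebraMap A T a, ?_⟩
      rwa [show algebraMap T Ahat (algebraMap A T a) = algebraMap A Ahat a from RingHom.congr_fun hψ a]
    have hdim : Ring.KrullDimLE 1 T := Ring.krullDimLE_iff.mpr (by rw [M.ringKrullDim_eq, hA]; rfl)
    rw [numBranches_eq_card_minimalPrimes_of_henselian Ahat,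
      ← card_minimalPrimes_henselization_eq_numBranches A T]
    exact card_minimalPrimes_eq_of_dim_le_one hdim hmax hsurj
  · let Ω := SeparableClosure (ResidueField A)
    let T := Hens A Ω
    have hT : Hensel.IsStrictHenselization A T := isStrictHenselization_hens A Ω
    obtain ⟨M⟩ := hensModel_of_isStrictHenselization (R := A) (S := T)
    have : IsNoetherianRing T := M.isNoetherianRing_iff.mp ‹_›
    have := hT.henselian
    have := M.flat
    have hsc : IsSepClosed (ResidueField T) := hT.isSepClosure.sep_closed
    let That := AdicCompletion (maximalIdeal T) T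
    have : IsNoetherianRing (T ⧸ maximalIdeal T) := inferInstance
    have : IsNoetherianRing That :=
      Groth.Calg1.isNoetherianRing_adicCompletion (maximalIdeal T) (maximalIdeal T).fg_of_isNoetherianRing
    have := Groth.Calg6.Branch.henselianLocalRing_of_isAdicComplete That
    have : Module.Flat T That := AdicCompletion.flat_of_isNoetherian (maximalIdeal T)
    have : Module.FaithfullyFlat T That := Module.FaithfullyFlat.of_flat_of_isLocalHom
    have : IsSepClosed (ResidueField That) := Groth.EtaleBase.NormalEt.isSepClosed_of_ringEquiv
      (RingEquiv.ofBijective (ResidueField.map (algebraMap T That)) (AdicCompletion.residueField_map_bijective T))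
    let _ : Algebra Ahat That := (Groth.PropsBasic.GRingLocal.cplMap (maximalIdeal A) (maximalIdeal T)
      (algebraMap A T) M.map_maximalIdeal.le).toAlgebra
    have : IsScalarTower A Ahat That := .of_algebraMap_eq fun a =>
      (IsScalarTower.algebraMap_apply A T That a).trans (Groth.Calg4.cplMap_algebraMap _ _ _ _ a).symm
    have : IsLocalHom (algebraMap A That) := by
      rw [IsScalarTower.algebraMap_eq A T That]
      exact RingHom.isLocalHom_comp _ _
    have : Module.Flat A That := Module.Flat.trans A T That
    have := Groth.Calg4.faithfullyFlat_completion_of_flat A That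
    have : IsLocalHom (algebraMap Ahat That) := by
      refine ((IsLocalRing.local_hom_TFAE _).out 0 2).mpr ?_
      rw [AdicCompletion.maximalIdeal_eq_map, Ideal.map_map, ← IsScalarTower.algebraMap_eq]
      exact ((IsLocalRing.local_hom_TFAE (algebraMap A That)).out 0 2).mp ‹IsLocalHom (algebraMap A That)›
    refine (numGeomBranches_le_of_flat Ahat That).trans (le_of_eq ?_)
    rw [numGeomBranches_eq_card_minimalPrimes_of_henselian That,
      ← card_minimalPrimes_strictHenselization_eq_numGeomBranches A T]
    refine card_minimalPrimes_eq_of_dim_le_one (Ring.krullDimLE_iff.mpr (by rw [M.ringKrullDim_eq, hA]; rfl))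
      AdicCompletion.maximalIdeal_eq_map.symm fun k c => exists_sub_mem_pow_completion T k c

end Groth.Agent.S9241
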