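import Groth.Statements.S1489
import Groth.Agent.FlatmorThree.FormalLift

set_option autoImplicit false
universe u
open FlatMor

namespace Groth.Agent.S1489

open AlgebraicGeometry CategoryTheory Limits in
/-- A morphism f : X → S is étale if and only if it is locally of finite presentation and formally
étale, i.e. has the unique lifting property against first order thickenings of affine schemes (rings
in the same universe). -/
theorem result {X S : Scheme.{u}} (f : X ⟶ S) :
    Etale f ↔ LocallyOfFinitePresentation f ∧ MoreMor.IsFormallyEtaleHom f := by
  constructor
  · intro h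
    refine ⟨?_, (Groth.FlatmorThree.FormalLift.hasEtaleCharts_of_forall
      fun U V hU hV e => ?_).isFormallyEtaleHom⟩
    · have := (Etale.iff_flat_and_formallyUnramified.mp h).2.2
      exact this
    · have := f.etale_appLE hV hU e
      algebraize [(f.appLE V U e).hom]
      exact (inferInstance : Algebra.FormallyEtale Γ(S, V) Γ(X, U))
  · rintro ⟨hfp, hf⟩
    refine ⟨fun {V} hV {U} hU e => ?_⟩
    have h1 := Groth.FlatmorThree.FormalLift.formallyEtale_appLE hf hU hV e
    have h2 := f.finitePresentation_appLE hV hU e
    algebraize [(f.appLE V U e).hom]
    exact (Algebra.Etale.mk : Algebra.Etale Γ(S, V) Γ(X, U))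

end Groth.Agent.S1489
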