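import Groth.Statements.S9679
import Mathlib
import Groth.Agent.PropsBasic.BirationalGeneric

set_option autoImplicit false
universe u
open CategoryTheory CategoryTheory.Limits AlgebraicGeometry
open Mor

namespace Groth.Agent.S9679

open Groth.PropsBasic.BirationalGeneric

/-- Suppose X and Y have finitely many irreducible components and f : X ⟶ Y is birational, i.e. f
restricts to a bijection between the generic points of the irreducible components of X and those of
Y and induces an isomorphism of local rings at every generic point of an irreducible component of X.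
Assume that f is quasi-compact or separated, and moreover that f is locally of finite presentation,
or else Y is reduced and f is locally of finite type. Under these hypotheses, some dense open V ⊆ Y
has the property that the restriction f⁻¹(V) ⟶ V of f is an isomorphism. -/
theorem result {X Y : Scheme.{u}} (f : X ⟶ Y)
    (hXfin : (irreducibleComponents ↥X).Finite) (hYfin : (irreducibleComponents ↥Y).Finite)
    (hbij : Set.BijOn (fun x : X => f.base x) {x : X | closure {x} ∈ irreducibleComponents ↥X}
      {y : Y | closure {y} ∈ irreducibleComponents ↥Y})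
    (hiso : ∀ x : X, closure {x} ∈ irreducibleComponents ↥X → IsIso (f.stalkMap x))
    (hf₁ : QuasiCompact f ∨ IsSeparated f)
    (hf₂ : (LocallyOfFiniteType f ∧ IsReduced Y) ∨ LocallyOfFinitePresentation f) :
    ∃ V : Y.Opens, Dense (V : Set ↥Y) ∧ IsIso (f ∣_ V) := by
  obtain ⟨U, V, hUV, hU, hV, hi, hone⟩ :=
    exists_dense_opens f hbij hiso hYfin fun x hx => by
      rcases hf₂ with ⟨_, _⟩ | _
      · exact exists_isOpenImmersion_of_isReduced f hiso hYfin hx (hbij.mapsTo hx)
      · exact exists_isOpenImmersion_of_lfp f hiso hx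
  rcases hf₁ with hqc | hsep
  · let Z : TopologicalSpace.Closeds X := ⟨(U : Set X)ᶜ, U.2.isClosed_compl⟩
    let I := Scheme.IdealSheafData.vanishingIdeal Z
    have hrange : Set.range I.subschemeι = (U : Set X)ᶜ := by
      rw [I.range_subschemeι]; rfl
    let V' : Y.Opens := V ⊓ ⟨(closure (Set.range (I.subschemeι ≫ f)))ᶜ, isClosed_closure.isOpen_compl⟩
    refine ⟨V', dense_of_gen_subset fun y hy => ⟨hV hy, fun hcl => ?_⟩,
      isIso_morphismRestrict_of_resLE f hUV inf_le_left fun a ha => ?_⟩
    · obtain ⟨z, hz⟩ := Groth.PropsBasic2.exists_specializes_of_mem_closure_range _ hcl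
      obtain ⟨x, hx, rfl⟩ := hbij.surjOn hy
      have h1 : f (I.subschemeι z) = f x :=
        (Groth.PropsBasic2.closure_mem_irreducibleComponents_iff _).mp hy _ hz
      have h2 : I.subschemeι z ∈ (U : Set X)ᶜ := hrange ▸ ⟨z, rfl⟩
      exact h2 (hU (eq_of_apply_eq f hbij hiso hx h1 ▸ hx))
    · by_contra hna
      obtain ⟨z, hz⟩ : a ∈ Set.range I.subschemeι := hrange ▸ hna
      exact ha.2 (subset_closure ⟨z, by rw [Scheme.Hom.comp_apply, hz]⟩)
  · refine ⟨V, dense_of_gen_subset hV, isIso_morphismRestrict_of_resLE f hUV le_rfl ?_⟩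
    let k : U.toScheme ⟶ (f ⁻¹ᵁ V).toScheme := X.homOfLE hUV
    have hk : k ≫ f ∣_ V = f.resLE V U hUV := rfl
    have : IsClosedImmersion (k ≫ f ∣_ V) := by rw [hk]; infer_instance
    have : IsSeparated (f ∣_ V) := IsZariskiLocalAtTarget.restrict hsep V
    have : IsClosedImmersion k := IsClosedImmersion.of_comp k (f ∣_ V)
    intro a ha
    by_contra hna
    obtain ⟨g, hg, hga⟩ := Groth.PropsBasic2.exists_genericPoint_specializes a
    have hgV : g ∈ f ⁻¹ᵁ V := hga.mem_open (f ⁻¹ᵁ V).2 ha
    have hs : (⟨g, hgV⟩ : f ⁻¹ᵁ V) ⤳ ⟨a, ha⟩ := subtype_specializes_iff _ _ |>.mpr hga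
    obtain ⟨u, hu⟩ := hs.mem_closed k.isClosedEmbedding.isClosed_range
      ⟨⟨g, hU hg⟩, Subtype.ext (congr(($(X.homOfLE_ι hUV)).base ⟨g, hU hg⟩))⟩
    have h := congr(($(X.homOfLE_ι hUV)).base u)
    rw [Scheme.Hom.comp_apply] at h
    change (f ⁻¹ᵁ V).ι (k u) = u.1 at h
    rw [hu] at h
    exact hna (show a ∈ U from (show a = u.1 from h) ▸ u.2)

end Groth.Agent.S9679
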