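import Groth.Statements.S3852


set_option autoImplicit false
universe u
open FCompl

namespace Groth.Agent.S3852

open AlgebraicGeometry in
/-- Second assertion; stated for quasi-coherent ideal sheaves, with the condition on supports as an
inclusion, which is what the proof uses: Let X be a Noetherian scheme and I, J ideal sheaves such
that the zero locus of J is contained in the zero locus of I. Then I^n ≤ J for some n ≥ 1. -/
theorem result
    (X : Scheme.{u}) [IsNoetherian X] (I J : X.IdealSheafData)
    (h : (J.support : Set X) ⊆ I.support) :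
    ∃ n : ℕ, I ^ (n + 1) ≤ J := by
  classical
  have hle : I ≤ J.radical := by
    rw [← Scheme.IdealSheafData.vanishingIdeal_support]
    exact Scheme.IdealSheafData.le_support_iff_le_vanishingIdeal.mp h
  obtain ⟨s, hs⟩ := (isCompact_univ (X := X)).elim_finite_subcover
    (fun U : X.affineOpens => (U.1 : Set X)) (fun U => U.1.isOpen) (fun x _ => by
      obtain ⟨U, hU, hxU, -⟩ := X.isBasis_affineOpens.exists_subset_of_mem_open (Set.mem_univ x) isOpen_univ
      obtain ⟨V, hV, rfl⟩ := hU
      exact Set.mem_iUnion.mpr ⟨⟨V, hV⟩, hxU⟩)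
  have hex : ∀ U : X.affineOpens, ∃ n, I.ideal U ^ n ≤ J.ideal U := fun U => by
    haveI := IsLocallyNoetherian.component_noetherian U
    exact Ideal.exists_pow_le_of_le_radical_of_fg_radical (hle U) (IsNoetherian.noetherian _)
  choose m hm using hex
  refine ⟨s.sup m, Scheme.IdealSheafData.le_of_iSup_eq_top (fun U : s => U.1) ?_ fun U => ?_⟩
  · refine top_le_iff.mp fun x _ => ?_
    obtain ⟨U, hUs, hxU⟩ := Set.mem_iUnion₂.mp (hs (Set.mem_univ x))
    exact TopologicalSpace.Opens.mem_iSup.mpr ⟨⟨U, hUs⟩, hxU⟩
  · rw [Scheme.IdealSheafData.ideal_pow, Pi.pow_apply]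
    exact (Ideal.pow_le_pow_right ((Finset.le_sup U.2).trans (Nat.le_succ _))).trans (hm U.1)

end Groth.Agent.S3852
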