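import Groth.Statements.S4886
import Groth.Agent.Calg2.GDomain
import Groth.Agent.S9612
import Mathlib.AlgebraicGeometry.ResidueField


set_option autoImplicit false
universe u
open CategoryTheory AlgebraicGeometry
open EGA43

namespace Groth.Agent.S4886

theorem finite_of_finiteType (K : Type u) [Field K] [IsJacobsonRing ℤ]
    (h : (Int.castRingHom K).FiniteType) : Finite K := by
  have : Algebra.FiniteType ℤ K := RingHom.finiteType_algebraMap.1
    (by convert h using 1; exact Subsingleton.elim _ _)
  exact Groth.Calg2.GDomain.finite_of_finiteType_int K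

/-- Let Y be a scheme of finite type over ℤ. (i) A point y of Y is closed if and only if the residue
field k(y) is finite. (ii) For every prime number p and every integer d ≥ 1, the set of points y of
Y such that k(y) is an extension of 𝔽_p of degree dividing d, i.e. admits a ring homomorphism into
the field with p^d elements, is finite. -/
theorem result (Y : Scheme.{u}) [CompactSpace Y]
    [LocallyOfFiniteType (Limits.IsTerminal.from specULiftZIsTerminal Y)] :
    (∀ y : Y, IsClosed ({y} : Set Y) ↔ Finite ↑(Y.residueField y)) ∧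
    ∀ (p d : ℕ) [Fact p.Prime], 0 < d →
      {y : Y | Nonempty (↑(Y.residueField y) →+* GaloisField p d)}.Finite := by
  open AlgebraicGeometry CategoryTheory in
  classical
  have : IsJacobsonRing ℤ := Groth.Agent.S9612.result
  let f := Limits.IsTerminal.from specULiftZIsTerminal Y
  have hft : ∀ U : Y.Opens, IsAffineOpen U → Algebra.FiniteType ℤ Γ(Y, U) := by
    intro U hU
    have h1 : (f.appLE ⊤ U le_top).hom.FiniteType :=
      HasRingHomProperty.appLE (P := @LocallyOfFiniteType) f inferInstance ⟨⊤, isAffineOpen_top _⟩ ⟨U, hU⟩ le_top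
    let e := (Scheme.ΓSpecIso (CommRingCat.of (ULift.{u} ℤ))).symm.commRingCatIsoToRingEquiv
    have h2 := h1.comp_surjective (f := (f.appLE ⊤ U le_top).hom) (g := RingHom.id _) Function.surjective_id
    have h3 : ((f.appLE ⊤ U le_top).hom.comp (e.toRingHom.comp ULift.ringEquiv.symm.toRingHom)).FiniteType :=
      h1.comp (RingHom.FiniteType.of_surjective _ (e.surjective.comp ULift.ringEquiv.symm.surjective))
    rw [← RingHom.finiteType_algebraMap]
    convert h3 using 1
    exact Subsingleton.elim _ _
  let eκ : ∀ (U : Y.Opens) (hU : IsAffineOpen U) (p : Spec Γ(Y, U)),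
      ↑(Y.residueField (hU.fromSpec p)) ≃+* p.asIdeal.ResidueField := fun U hU p =>
    ((asIso (hU.fromSpec.residueFieldMap p)) ≪≫ Scheme.Spec.residueFieldIso Γ(Y, U) p).commRingCatIsoToRingEquiv
  refine ⟨fun y => ⟨fun hy => ?_, fun hy => ?_⟩, fun p d _ hd => ?_⟩
  · obtain ⟨U, hU, hyU, -⟩ := exists_isAffineOpen_mem_and_subset (U := ⊤) (Set.mem_univ y)
    obtain ⟨p, rfl⟩ : y ∈ Set.range hU.fromSpec := by rw [hU.range_fromSpec]; exact hyU
    have hpc : IsClosed ({p} : Set (Spec Γ(Y, U))) := by
      have h2 : ({p} : Set (Spec Γ(Y, U))) = hU.fromSpec ⁻¹' {hU.fromSpec p} := by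
        ext q
        exact ⟨fun h => h ▸ rfl, fun h => hU.fromSpec.isOpenEmbedding.injective h⟩
      rw [h2]
      exact hy.preimage hU.fromSpec.continuous
    have hpm : p.asIdeal.IsMaximal := (PrimeSpectrum.isClosed_singleton_iff_isMaximal p).1 hpc
    have := hft U hU
    have hsurj : Function.Surjective (algebraMap Γ(Y, U) p.asIdeal.ResidueField) := by
      rw [IsScalarTower.algebraMap_eq Γ(Y, U) (Γ(Y, U) ⧸ p.asIdeal) p.asIdeal.ResidueField]
      exact (Ideal.bijective_algebraMap_quotient_residueField p.asIdeal).2.comp Ideal.Quotient.mk_surjective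
    have hq : ((algebraMap Γ(Y, U) p.asIdeal.ResidueField).comp (algebraMap ℤ Γ(Y, U))).FiniteType :=
      RingHom.FiniteType.comp (RingHom.FiniteType.of_surjective _ hsurj)
        (RingHom.finiteType_algebraMap.2 inferInstance)
    have := finite_of_finiteType p.asIdeal.ResidueField (by
      convert hq using 1 <;> first | rfl | exact Subsingleton.elim _ _)
    exact Finite.of_equiv _ (eκ U hU p).toEquiv.symm
  · rw [← closure_eq_iff_isClosed]
    refine Set.Subset.antisymm (fun z hz => ?_) subset_closure
    obtain ⟨U, hU, hzU, -⟩ := exists_isAffineOpen_mem_and_subset (U := ⊤) (Set.mem_univ z)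
    have hyz : y ⤳ z := specializes_iff_mem_closure.2 hz
    obtain ⟨q, rfl⟩ : z ∈ Set.range hU.fromSpec := by rw [hU.range_fromSpec]; exact hzU
    obtain ⟨p, rfl⟩ : y ∈ Set.range hU.fromSpec := by
      rw [hU.range_fromSpec]; exact hyz.mem_open U.isOpen hzU
    have : Finite p.asIdeal.ResidueField := Finite.of_equiv _ (eκ U hU p).toEquiv
    have : Finite (Γ(Y, U) ⧸ p.asIdeal) := Finite.of_injective _
      p.asIdeal.injective_algebraMap_quotient_residueField
    have hpm : p.asIdeal.IsMaximal := Ideal.Quotient.maximal_of_isField _ (Finite.isField_of_domain _)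
    have hpq : p ⤳ q := hU.fromSpec.isOpenEmbedding.isInducing.specializes_iff.1 hyz
    have := hpq.mem_closed ((PrimeSpectrum.isClosed_singleton_iff_isMaximal p).2 hpm) rfl
    exact congrArg hU.fromSpec this
  · obtain ⟨t, ht⟩ := CompactSpace.isCompact_univ.elim_finite_subcover
      (fun W : Y.affineOpens => (W.1 : Set Y)) (fun W => W.1.isOpen) fun y _ => by
        obtain ⟨U, hU, hyU, -⟩ := exists_isAffineOpen_mem_and_subset (U := ⊤) (Set.mem_univ y)
        exact Set.mem_iUnion.2 ⟨⟨U, hU⟩, hyU⟩
    refine Set.Finite.subset (Set.Finite.biUnion t.finite_toSet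
      (t := fun W => {y : Y | y ∈ W.1 ∧ Nonempty (↑(Y.residueField y) →+* GaloisField p d)})
      fun W _ => ?_) fun y hy => ?_
    · have := hft W.1 W.2
      obtain ⟨n, π, hπ⟩ := Algebra.FiniteType.iff_quotient_mvPolynomial''.1 (hft W.1 W.2)
      have : Finite (GaloisField p d) := inferInstance
      have : Finite (Γ(Y, W.1) →+* GaloisField p d) := Finite.of_injective
        (fun φ => fun i => φ (π (MvPolynomial.X i))) fun φ ψ h => by
          refine RingHom.ext fun a => ?_
          obtain ⟨a, rfl⟩ := hπ a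
          exact DFunLike.congr_fun (MvPolynomial.ringHom_ext (f := φ.comp π.toRingHom) (g := ψ.comp π.toRingHom)
            (fun b => DFunLike.congr_fun (Subsingleton.elim
              ((φ.comp π.toRingHom).comp MvPolynomial.C) ((ψ.comp π.toRingHom).comp MvPolynomial.C)) b)
            (fun i => congrFun h i)) a
      refine Set.Finite.subset (((Set.toFinite (Set.univ : Set (Γ(Y, W.1) →+* GaloisField p d)))).image
        fun φ => W.2.fromSpec ⟨RingHom.ker φ, RingHom.ker_isPrime φ⟩) ?_
      rintro y ⟨hyW, ⟨χ⟩⟩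
      obtain ⟨P, rfl⟩ : y ∈ Set.range W.2.fromSpec := by rw [W.2.range_fromSpec]; exact hyW
      let χ' : P.asIdeal.ResidueField →+* GaloisField p d := χ.comp (eκ W.1 W.2 P).symm.toRingHom
      refine ⟨χ'.comp (algebraMap Γ(Y, W.1) P.asIdeal.ResidueField), trivial, congrArg W.2.fromSpec
        (PrimeSpectrum.ext ?_)⟩
      show RingHom.ker (χ'.comp (algebraMap Γ(Y, W.1) P.asIdeal.ResidueField)) = P.asIdeal
      rw [← RingHom.comap_ker, (RingHom.injective_iff_ker_eq_bot χ').1 χ'.injective,
        ← RingHom.ker_eq_comap_bot, Ideal.ker_algebraMap_residueField]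
    · obtain ⟨W, hW, hyW⟩ := Set.mem_iUnion₂.1 (ht (Set.mem_univ y))
      exact Set.mem_biUnion hW ⟨hyW, hy⟩

end Groth.Agent.S4886
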