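import Groth.Statements.S2355
import Groth.Agent.Ega2Proj.QuasiAffineAmple

set_option autoImplicit false
universe u
open CategoryTheory CategoryTheory.Limits AlgebraicGeometry
open EGA2

namespace Groth.Agent.S2355

/-- Let f : X → Y be quasi-compact, g : X' → X quasi-affine and L an O_X-module ample relative to f.
Then g^* L is ample relative to g ≫ f. -/
theorem result {X X' Y : Scheme.{u}} (f : X ⟶ Y) [QuasiCompact f] (g : X' ⟶ X) (hg : Mor2.IsQuasiAffine g)
    (L : X.Modules) (hL : RelAmple.IsRelAmple f L) :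
    RelAmple.IsRelAmple (g ≫ f) ((Scheme.Modules.pullback g).obj L) := by
  have := hg.1
  refine ⟨inferInstance, fun V => ?_⟩
  let W : X.Opens := f ⁻¹ᵁ V.1
  let Z : X'.Opens := (g ≫ f) ⁻¹ᵁ V.1
  let h : (Z : Scheme.{u}) ⟶ W := g ∣_ W
  have w : h ≫ W.ι = Z.ι ≫ g := morphismRestrict_ι g W
  have : QuasiCompact h := MorphismProperty.of_isPullback (P := @QuasiCompact) (isPullback_morphismRestrict g W).flip hg.1
  refine Groth.Ega2Proj.isAmple_of_iso (Groth.Ega2Proj.restrictPullbackSquare g W.ι Z.ι h w L)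
    (Groth.Ega2Proj.isAmple_pullback_of_quasiAffine h (fun U hU => ?_) (hL.2 V))
  have := hg.2 _ (hU.image_of_isOpenImmersion W.ι)
  have : CompactSpace (h ⁻¹ᵁ U : Z.toScheme.Opens) :=
    isCompact_iff_compactSpace.mp (QuasiCompact.isCompact_preimage _ U.2 hU.isCompact)
  exact Scheme.IsQuasiAffine.of_isImmersion (IsOpenImmersion.lift (g ⁻¹ᵁ (W.ι ''ᵁ U)).ι
    ((h ⁻¹ᵁ U).ι ≫ Z.ι) (by
      rintro _ ⟨⟨z, hz⟩, rfl⟩
      refine ⟨⟨Z.ι z, ⟨h z, hz, congr($w z)⟩⟩, rfl⟩))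

end Groth.Agent.S2355
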