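import Groth.Statements.S1279
import Mathlib
import Groth.Agent.FlatMorOne.FTIdeal
import Groth.Agent.BlowUpBasics.Global

set_option autoImplicit false
universe u
open FlatMor

namespace Groth.Agent.S1279

open AlgebraicGeometry CategoryTheory Limits Topology in
/-- Let X be a quasi-compact and quasi-separated scheme, U ⊆ X a quasi-compact open, and T₁, T₂ ⊆ U
disjoint subsets which are closed and constructible in U. Then there is a U-admissible blow-up b :
X' → X such that the closures in X' of the preimages of T₁ and T₂ are disjoint. (Part (1), about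
strict transforms of closed subschemes, is not stated.) -/
theorem result {X : Scheme.{u}} [CompactSpace X] [QuasiSeparatedSpace X]
    (U : X.Opens) (hU : IsCompact (U : Set X)) (T₁ T₂ : Set U)
    (h₁ : IsClosed T₁) (h₂ : IsClosed T₂) (c₁ : IsConstructible T₁) (c₂ : IsConstructible T₂) (hd : Disjoint T₁ T₂) :
    ∃ (𝓘 : X.IdealSheafData) (X' : Scheme.{u}) (b : X' ⟶ X), BlowUp.IsBlowUp b 𝓘 ∧ BlowUp.IsAdmissibleFor U 𝓘 ∧
      Disjoint (closure (b.base ⁻¹' (Subtype.val '' T₁))) (closure (b.base ⁻¹' (Subtype.val '' T₂))) := by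
  classical
  -- ideals of finite type cutting out `T₁`, `T₂` on `U`
  have main : ∀ T : Set U, IsClosed T → IsConstructible T →
      ∃ I : X.IdealSheafData, (∀ V : X.affineOpens, (I.ideal V).FG) ∧
        ∀ x : U, (x : X) ∈ I.support ↔ x ∈ T := by
    intro T hT cT
    have : CompactSpace U := isCompact_iff_compactSpace.mp hU
    have : QuasiSeparatedSpace U := QuasiSeparatedSpace.of_isOpenEmbedding U.2.isOpenEmbedding_subtypeVal
    have : Nonempty {s : Set U // IsOpen s ∧ IsCompact s} := ⟨⟨∅, isOpen_empty, isCompact_empty⟩⟩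
    have hbasis : TopologicalSpace.IsTopologicalBasis (Set.range fun s : {s : Set U // IsOpen s ∧ IsCompact s} => s.1) := by
      rw [Subtype.range_coe_subtype]
      exact PrespectralSpace.isTopologicalBasis (X := U.toScheme)
    have hc : IsCompact (Subtype.val '' Tᶜ : Set X) := by
      refine IsCompact.image ?_ continuous_subtype_val
      exact IsConstructible.induction_of_isTopologicalBasis (P := fun s _ => IsCompact s)
        (fun s : {s : Set U // IsOpen s ∧ IsCompact s} => s.1) hbasis (fun s => s.2.2)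
        (fun i t ht => i.2.2.diff (isOpen_biUnion fun j _ => j.2.1))
        (fun _ _ _ _ h h' => h.union h') Tᶜ (isConstructible_compl.mpr cT)
    obtain ⟨I, hI, hIs⟩ := Groth.FlatMorOne.exists_ftIdeal_support_eq (X := X)
      ⟨(Subtype.val '' Tᶜ)ᶜ, (U.2.isOpenMap_subtype_val _ hT.isOpen_compl).isClosed_compl⟩
      (show IsCompact ((Subtype.val '' Tᶜ)ᶜ)ᶜ by simpa using hc)
    refine ⟨I, hI, fun x => ?_⟩
    rw [← SetLike.mem_coe, hIs]
    show (x : X) ∈ (Subtype.val '' Tᶜ)ᶜ ↔ _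
    simp only [Set.mem_compl_iff, Subtype.val_injective.mem_set_image]
    exact not_not
  obtain ⟨I₁, hI₁, hs₁⟩ := main T₁ h₁ c₁
  obtain ⟨I₂, hI₂, hs₂⟩ := main T₂ h₂ c₂
  obtain ⟨X', b, hb⟩ := Groth.BlowUpBasics.exists_isBlowUp X (I₁ ⊔ I₂)
  have hadm : BlowUp.IsAdmissibleFor U (I₁ ⊔ I₂) := by
    refine ⟨fun V => Submodule.FG.sup (hI₁ V) (hI₂ V), Set.disjoint_left.mpr fun x hx hxU => ?_⟩
    have e1 := Scheme.IdealSheafData.support_antitone (le_sup_left : I₁ ≤ I₁ ⊔ I₂) hx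
    have e2 := Scheme.IdealSheafData.support_antitone (le_sup_right : I₂ ≤ I₁ ⊔ I₂) hx
    exact Set.disjoint_left.mp hd ((hs₁ ⟨x, hxU⟩).mp e1) ((hs₂ ⟨x, hxU⟩).mp e2)
  refine ⟨I₁ ⊔ I₂, X', b, hb, hadm, Set.disjoint_left.mpr fun y hy₁ hy₂ => ?_⟩
  obtain ⟨W, hyW, e, he, hW⟩ := hb.1 y
  rw [Scheme.IdealSheafData.comap_sup] at hW
  have hW' : (I₁.comap b).ideal W ⊔ (I₂.comap b).ideal W = Ideal.span {e} := hW
  have hsplit : e ∈ (I₁.comap b).ideal W ⊔ (I₂.comap b).ideal W := hW' ▸ Ideal.mem_span_singleton_self e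
  obtain ⟨a₁, ha₁, a₂, ha₂, hsum⟩ := Submodule.mem_sup.mp hsplit
  obtain ⟨c₁', hc₁⟩ := Ideal.mem_span_singleton.mp (hW' ▸ (le_sup_left (b := (I₂.comap b).ideal W) ha₁))
  obtain ⟨c₂', hc₂⟩ := Ideal.mem_span_singleton.mp (hW' ▸ (le_sup_right (a := (I₁.comap b).ideal W) ha₂))
  have hone : c₁' + c₂' = 1 := by
    refine (mem_nonZeroDivisors_iff.mp he).1 (c₁' + c₂' - 1) ?_ |> sub_eq_zero.mp
    rw [mul_sub, mul_add, mul_one, ← hc₁, ← hc₂, hsum, sub_self]
  -- on `D(c)` with `e * c ∈ I`, the ideal `I` becomes the exceptional one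
  have key : ∀ (I : X.IdealSheafData) (T : Set U) (c : Γ(X', W.1)), (∀ x : U, (x : X) ∈ I.support ↔ x ∈ T) →
      e * c ∈ (I.comap b).ideal W → y ∈ X'.basicOpen c → y ∉ closure (b.base ⁻¹' (Subtype.val '' T)) := by
    intro I T c hs hec hyc hcl
    obtain ⟨z, hzD, w, hwT, hwz⟩ := mem_closure_iff.mp hcl (X'.basicOpen c) (X'.basicOpen c).2 hyc
    have hzU : b z ∈ U := show (b.base z) ∈ U from hwz ▸ w.2
    have hzI : z ∈ (I.comap b).support := by
      rw [Scheme.IdealSheafData.support_comap]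
      show b.base z ∈ I.support
      rw [← hwz]; exact (hs w).mpr hwT
    have hzS : z ∈ (((I₁ ⊔ I₂).comap b).support) := by
      rw [Scheme.IdealSheafData.comap_sup, Scheme.IdealSheafData.mem_support_iff_of_mem (X'.basicOpen_le c hzD), Scheme.IdealSheafData.ideal_sup, Pi.sup_apply, hW', Scheme.mem_zeroLocus_iff]
      rintro f hf
      obtain ⟨k, rfl⟩ := Ideal.mem_span_singleton.mp hf
      rw [Scheme.basicOpen_mul]
      intro h
      rw [Scheme.IdealSheafData.mem_support_iff_of_mem (X'.basicOpen_le c hzD), Scheme.mem_zeroLocus_iff] at hzI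
      exact hzI _ hec (by rw [Scheme.basicOpen_mul]; exact ⟨h.1, hzD⟩)
    rw [Scheme.IdealSheafData.support_comap] at hzS
    exact Set.disjoint_left.mp hadm.2 hzS hzU
  have : y ∈ X'.basicOpen c₁' ∨ y ∈ X'.basicOpen c₂' := by
    rw [X'.mem_basicOpen _ _ hyW, X'.mem_basicOpen _ _ hyW]
    refine IsLocalRing.isUnit_or_isUnit_of_add_one ?_
    rw [← map_add, hone, map_one]
  rcases this with h | h
  · exact key I₁ T₁ c₁' hs₁ (hc₁ ▸ ha₁) h hy₁
  · exact key I₂ T₂ c₂' hs₂ (hc₂ ▸ ha₂) h hy₂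

end Groth.Agent.S1279
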