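import Groth.Statements.S17392
import Mathlib
import Groth.Agent.FlatMorOne.BlowUpClosure

set_option autoImplicit false
universe u
open BlowUp

namespace Groth.Agent.S17392

open AlgebraicGeometry CategoryTheory Limits in
/-- Let X₁ and X₂ be quasi-compact quasi-separated schemes, q : X₂ → X₁ a quasi-compact separated
morphism, V₁ ⊆ X₁ a quasi-compact open subscheme and U ⊆ q⁻¹(V₁) an open subscheme of X₂ on which q
restricts to an open immersion (so U is identified with an open of V₁). Let Z₁ ⊆ X₁ be a closed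
subset whose open complement is quasi-compact, put Y₁ = Z₁ ∩ V₁, and let Z₂ ⊆ X₂ be a closed subset
whose open complement is also quasi-compact, with q⁻¹(Y₁) ⊆ Z₂. Then there is a quasi-coherent ideal
E of finite type on X₁ with support contained in Z₁ ∖ V₁ (so that blowing up E is V₁-admissible)
such that, for every blowing up c : X₁' → X₁ of X₁ in E with base change q' : X₂' = X₂ ×_{X₁} X₁' →
X₁' and c₂ : X₂' → X₂, one has q'⁻¹(closure of c⁻¹(Y₁)) ∩ closure(c₂⁻¹(U)) ⊆ c₂⁻¹(Z₂) as subsets of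
X₂'. -/
theorem result
    {X₁ X₂ : Scheme.{u}} [CompactSpace X₁] [QuasiSeparatedSpace X₁] [CompactSpace X₂] [QuasiSeparatedSpace X₂]
    (q : X₂ ⟶ X₁) [QuasiCompact q] [IsSeparated q]
    (V₁ : X₁.Opens) (hV₁ : IsCompact (V₁ : Set X₁))
    (U : X₂.Opens) (hU : U ≤ q ⁻¹ᵁ V₁) [IsOpenImmersion (U.ι ≫ q)]
    (Z₁ : Set X₁) (hZ₁ : IsClosed Z₁) (hZ₁c : IsCompact Z₁ᶜ)
    (Z₂ : Set X₂) (hZ₂ : IsClosed Z₂) (hZ₂c : IsCompact Z₂ᶜ)
    (hYZ : (fun x => q x) ⁻¹' (Z₁ ∩ (V₁ : Set X₁)) ⊆ Z₂) :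
    ∃ 𝓔 : X₁.IdealSheafData, BlowUp.IsFiniteTypeIdeal 𝓔 ∧ (𝓔.support : Set X₁) ⊆ Z₁ \ (V₁ : Set X₁) ∧
      ∀ (X₁' : Scheme.{u}) (c : X₁' ⟶ X₁), BlowUp.IsBlowUp c 𝓔 →
        (fun z => (pullback.snd q c) z) ⁻¹' closure ((fun x => c x) ⁻¹' (Z₁ ∩ (V₁ : Set X₁))) ∩
            closure ((fun z => (pullback.fst q c) z) ⁻¹' (U : Set X₂)) ⊆
          (fun z => (pullback.fst q c) z) ⁻¹' Z₂ := by
  classical
  obtain ⟨I₁, hI₁, hI₁s⟩ := Groth.FlatMorOne.exists_ftIdeal_support_eq (X := X₁) ⟨Z₁, hZ₁⟩ hZ₁c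
  let G : X₂.Opens := ⟨Z₂ᶜ, hZ₂.isOpen_compl⟩
  have : CompactSpace G := isCompact_iff_compactSpace.mp hZ₂c
  let g : (G : Scheme.{u}) ⟶ X₁ := G.ι ≫ q
  have : QuasiCompact g := quasiCompact_of_compactSpace g
  -- the ideal of the image of `V(I₁ 𝒪_G)`
  let K : X₁.IdealSheafData := (I₁.comap g).map g
  have hKs : (K.support : Set X₁) ⊆ (V₁ : Set X₁)ᶜ := by
    rw [Scheme.IdealSheafData.support_map, TopologicalSpace.Closeds.coe_closure]
    refine closure_minimal ?_ V₁.2.isClosed_compl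
    rintro _ ⟨z, hz, rfl⟩ hzV
    rw [SetLike.mem_coe, Scheme.IdealSheafData.support_comap] at hz
    have hz' : g z ∈ (I₁.support : Set X₁) := hz
    rw [hI₁s] at hz'
    exact z.2 (hYZ (show q z.1 ∈ Z₁ ∩ (V₁ : Set X₁) from ⟨hz', hzV⟩))
  let J : X₁.IdealSheafData := Scheme.IdealSheafData.vanishingIdeal ⟨(V₁ : Set X₁)ᶜ, V₁.2.isClosed_compl⟩ * K
  have hJs : (J.support : Set X₁) = (V₁ : Set X₁)ᶜ := by
    rw [Scheme.IdealSheafData.support_mul, TopologicalSpace.Closeds.coe_sup, Scheme.IdealSheafData.coe_support_vanishingIdeal]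
    exact Set.union_eq_left.mpr hKs
  obtain ⟨E₀, hE₀J, hE₀, hE₀s⟩ := Groth.FlatMorOne.exists_ftIdeal_le J (by rw [hJs, compl_compl]; exact hV₁)
  have hE₀s' : (E₀.support : Set X₁) = (V₁ : Set X₁)ᶜ := by rw [hE₀s]; exact hJs
  have hEs : ((I₁ ⊔ E₀).support : Set X₁) ⊆ Z₁ \ (V₁ : Set X₁) := fun x hx =>
    ⟨hI₁s.le (Scheme.IdealSheafData.support_antitone (le_sup_left : I₁ ≤ I₁ ⊔ E₀) hx),
      hE₀s'.le (Scheme.IdealSheafData.support_antitone (le_sup_right : E₀ ≤ I₁ ⊔ E₀) hx)⟩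
  have hEK : I₁ ⊔ E₀ ≤ K := by
    refine sup_le ((I₁.le_map_comap g)) (hE₀J.trans ?_)
    exact fun U => Ideal.mul_le_right
  refine ⟨I₁ ⊔ E₀, fun W => Submodule.FG.sup (hI₁ W) (hE₀ W), hEs, fun X₁' c hc => ?_⟩
  rintro y ⟨hy₁, hy₂⟩
  by_contra hyZ
  have hEg : (I₁ ⊔ E₀).comap g = I₁.comap g :=
    le_antisymm ((Scheme.IdealSheafData.comap_mono g hEK).trans (Scheme.IdealSheafData.comap_map_le _ _))
      (Scheme.IdealSheafData.comap_mono g le_sup_left)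
  let O := pullback.fst q c ⁻¹ᵁ G
  have hw : ∀ I : X₁.IdealSheafData,
      ((I.comap c).comap (pullback.snd q c)).comap O.ι = (I.comap g).comap (pullback.fst q c ∣_ G) := by
    intro I
    simp only [← Scheme.IdealSheafData.comap_comp]
    congr 1
    show O.ι ≫ pullback.snd q c ≫ c = (pullback.fst q c ∣_ G) ≫ G.ι ≫ q
    rw [morphismRestrict_ι_assoc, pullback.condition]
  refine Groth.FlatMorOne.not_mem_closure_of_comap_eq c (pullback.snd q c) (I := I₁) (E := I₁ ⊔ E₀)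
    le_sup_left hc.1 O (by rw [hw, hw, hEg]) ?_ ?_ ?_ (y := y) hyZ hy₁ hy₂
  · rintro z ⟨hz, -⟩
    rw [SetLike.mem_coe, Scheme.IdealSheafData.support_comap]
    exact hI₁s.ge hz
  · rw [Set.disjoint_left]
    rintro z ⟨-, hz⟩ hz'
    rw [SetLike.mem_coe, Scheme.IdealSheafData.support_comap] at hz'
    exact (hEs hz').2 hz
  · intro z hz hz'
    rw [SetLike.mem_coe, Scheme.IdealSheafData.support_comap] at hz'
    refine (hEs hz').2 ?_
    show c (pullback.snd q c z) ∈ (V₁ : Set X₁)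
    rw [show c (pullback.snd q c z) = q (pullback.fst q c z) from congr($((pullback.condition (f := q) (g := c)).symm) z)]
    exact hU hz

end Groth.Agent.S17392
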