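import Groth.Statements.S1694
import Groth.Agent.RefRank.BlowUpTwist
import Groth.Agent.S8907
import Groth.Agent.S1683
-- import your own Groth.Agent.* helpers here

set_option autoImplicit false
universe u
open CategoryTheory CategoryTheory.Limits AlgebraicGeometry TopologicalSpace
open SDiv

namespace Groth.Agent.S1694

/-- Let X be a quasi-compact quasi-separated scheme, 𝓘 a quasi-coherent ideal sheaf of finite type, b :
X' ⟶ X a blowing-up along 𝓘, 𝓙 a quasi-coherent ideal sheaf of finite type on X' and b' : X'' ⟶ X' a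
blowing-up along 𝓙. Then there is a quasi-coherent ideal sheaf 𝓚 of finite type on X whose support
is the union of the support of 𝓘 and the image under b of the support of 𝓙, such that b' ≫ b is a
blowing-up of X along 𝓚. -/
theorem result (X : Scheme.{u}) [CompactSpace ↥X] [QuasiSeparatedSpace ↥X] {X' X'' : Scheme.{u}}
    (𝓘 : X.IdealSheafData) (h𝓘 : BlowUp.IsFiniteTypeIdeal 𝓘) (b : X' ⟶ X) (hb : BlowUp.IsBlowUp b 𝓘)
    (𝓙 : X'.IdealSheafData) (h𝓙 : BlowUp.IsFiniteTypeIdeal 𝓙) (b' : X'' ⟶ X') (hb' : BlowUp.IsBlowUp b' 𝓙) :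
    ∃ 𝓚 : X.IdealSheafData, BlowUp.IsFiniteTypeIdeal 𝓚 ∧
      (𝓚.support : Set ↥X) = (𝓘.support : Set ↥X) ∪ (fun x' => b x') '' (𝓙.support : Set ↥X') ∧
      BlowUp.IsBlowUp (b' ≫ b) 𝓚 := by
  have := Groth.HTopHyper.isProper_of_isBlowUp hb h𝓘
  obtain ⟨n, K, hK, hKb⟩ := Groth.RefRank.exists_ftIdeal_comap_eq_twist hb h𝓘 𝓙 h𝓙
  have hpow : ∀ k : ℕ, BlowUp.IsEffCartierIdeal ((𝓘.comap b) ^ k) := fun k => by
    induction k with
    | zero =>
      rw [pow_zero, Scheme.IdealSheafData.one_eq_top]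
      exact Groth.Divisors.isEffCartierIdeal_top
    | succ k ih => rw [pow_succ]; exact Groth.Divisors.isEffCartierIdeal_mul ih hb.1
  have hE := hpow n
  refine ⟨𝓘 * K, fun V => ?_, ?_, ?_⟩
  · rw [Scheme.IdealSheafData.ideal_mul, Pi.mul_apply]
    exact (h𝓘 V).mul (hK V)
  · have hpre : ∀ x' : X', b x' ∈ K.support ↔
        x' ∈ 𝓙.support ∨ (n ≠ 0 ∧ b x' ∈ 𝓘.support) := by
      intro x'
      have e1 : x' ∈ (K.comap b).support ↔ b x' ∈ K.support := by
        rw [Scheme.IdealSheafData.support_comap]; rfl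
      rw [← e1, hKb, Groth.RefRank.twistIdeal, Scheme.IdealSheafData.support_mul]
      refine or_congr Iff.rfl ?_
      rcases Nat.eq_zero_or_pos n with rfl | hn
      · rw [pow_zero, Scheme.IdealSheafData.one_eq_top, Scheme.IdealSheafData.support_top]
        simp
      · rw [Scheme.IdealSheafData.support_pow (hn := hn.ne'), Scheme.IdealSheafData.support_comap]
        exact ⟨fun h => ⟨hn.ne', h⟩, fun h => h.2⟩
    rw [Scheme.IdealSheafData.support_mul]
    refine Set.ext fun x => ⟨?_, ?_⟩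
    · rintro (hx | hx)
      · exact Or.inl hx
      by_cases hxI : x ∈ 𝓘.support
      · exact Or.inl hxI
      let U : X.Opens := 𝓘.support.compl
      have : IsIso (b ∣_ U) := Groth.BlowUpBasics.isIso_morphismRestrict hb U disjoint_compl_right
      obtain ⟨x', hx'⟩ := (b ∣_ U).surjective ⟨x, hxI⟩
      have hx'' : b x'.1 = x := by
        have h := congrArg Subtype.val hx'
        rwa [morphismRestrict_base] at h
      refine Or.inr ⟨x'.1, ?_, hx''⟩
      rcases (hpre x'.1).1 (hx''.symm ▸ hx) with h | ⟨-, h⟩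
      · exact h
      · exact absurd (hx'' ▸ h) hxI
    · rintro (hx | ⟨x', hx', rfl⟩)
      · exact Or.inl hx
      · exact Or.inr ((hpre x').2 (Or.inl hx'))
  · have h := Groth.Agent.S8907.result 𝓙 ((𝓘.comap b) ^ n) hE b' hb'
    rw [show 𝓙 * (𝓘.comap b) ^ n = K.comap b from hKb.symm] at h
    exact Groth.Agent.S1683.result 𝓘 K b hb b' h

end Groth.Agent.S1694
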