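import Groth.Statements.S4997
import Groth.Agent.EtaleAlgebra.SmoothQuasiFinite
import Groth.Agent.AlgSp2.MonoPoint
-- import your own Groth.Agent.* helpers here

set_option autoImplicit false
universe u
open CategoryTheory CategoryTheory.Limits AlgebraicGeometry TopologicalSpace
open Unram17

namespace Groth.Agent.S4997

/-- A morphism of schemes is etale if and only if it is smooth and locally quasi-finite. -/
theorem result {X Y : Scheme.{u}} (f : X ⟶ Y) :
    Etale f ↔ Smooth f ∧ LocallyQuasiFinite f := by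
  refine ⟨fun h => ⟨inferInstance, Groth.AlgSp2.locallyQuasiFinite_of_etale f⟩, fun ⟨hs, hq⟩ => ?_⟩
  refine ⟨fun {U} hU {V} hV e => ?_⟩
  have h₁ := f.smooth_appLE hU hV e
  have h₂ := hq.quasiFinite_appLE hU hV e
  algebraize [(f.appLE U V e).hom]
  haveI : Algebra.Smooth Γ(Y, U) Γ(X, V) := h₁
  haveI : Algebra.QuasiFinite Γ(Y, U) Γ(X, V) := h₂
  exact Groth.Agent.EtaleAlgebra.SmoothQuasiFinite.etale_of_smooth_of_quasiFinite Γ(Y, U) Γ(X, V)

end Groth.Agent.S4997
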