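import Groth.Statements.S6347
import Groth.Agent.Calg2.ML

set_option autoImplicit false
universe u
open CAlg

namespace Groth.Agent.S6347

open scoped TensorProduct

/-- Over a Noetherian ring R, the product module R^A (functions from any set A to R) is flat and
Mittag-Leffler. -/
theorem result (R : Type u) [CommRing R] [IsNoetherianRing R]
    (A : Type u) : Module.Flat R (A → R) ∧ CAlg.IsMittagLeffler R (A → R) := by
  classical
  have hpi : ∀ (X : Type u) [AddCommGroup X] [Module R X],
      Function.Injective (TensorProduct.piRightHom R R X fun _ : A => R) := by
    intro X _ _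
    refine (injective_iff_map_eq_zero _).2 fun x hx => ?_
    obtain ⟨X', hX', hm⟩ := TensorProduct.exists_finite_submodule_left_of_setFinite {x} (Set.finite_singleton x)
    obtain ⟨x', hx'⟩ := hm (Set.mem_singleton x)
    haveI := Module.finitePresentation_of_finite R X'
    have h0 : x' = 0 := by
      refine (Groth.Calg2.piRightHom_bijective_of_fp (fun _ : A => R)).1 (funext fun a => ?_)
      refine Module.Flat.rTensor_preserves_injective_linearMap (M := R) X'.subtype (Submodule.injective_subtype _) ?_
      refine (Groth.Calg2.piRightHom_natural X'.subtype (fun _ : A => R) x' a).symm.trans ?_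
      rw [hx', hx, map_zero]
      simp
    rw [← hx', h0, map_zero]
  refine ⟨Module.Flat.iff_rTensor_injective'.2 fun I => ?_, fun ι Q _ _ => ?_⟩
  · refine (injective_iff_map_eq_zero _).2 fun z hz => hpi I (funext fun a => ?_)
    refine Module.Flat.rTensor_preserves_injective_linearMap (M := R) I.subtype (Submodule.injective_subtype _) ?_
    refine (Groth.Calg2.piRightHom_natural I.subtype (fun _ : A => R) z a).symm.trans ?_
    rw [hz, map_zero]
    simp
  · refine (injective_iff_map_eq_zero _).2 fun x hx => ?_
    refine (TensorProduct.comm R _ _).injective (hpi (∀ i, Q i) (funext fun a => ?_))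
    simp only [map_zero, Pi.zero_apply]
    refine (TensorProduct.rid R _).injective (funext fun i => ?_)
    have key : ∀ z : (A → R) ⊗[R] (∀ i, Q i),
        TensorProduct.rid R _ (TensorProduct.piRightHom R R (∀ i, Q i) (fun _ : A => R) (TensorProduct.comm R _ _ z) a) i =
        TensorProduct.lid R _ ((LinearMap.proj a).rTensor (Q i) (TensorProduct.piRightHom R R (A → R) Q z i)) := by
      intro z
      induction z with
      | zero => simp
      | tmul f q => simp
      | add a b ha hb => simp only [map_add, Pi.add_apply, ha, hb]
    rw [key, hx]
    simp

end Groth.Agent.S6347
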