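import Groth.Statements.S15315
import Mathlib.Tactic
-- import your own Groth.Agent.* helpers here

set_option autoImplicit false
universe u
open ArLef

namespace Groth.Agent.S15315

/-- For a Noetherian commutative ring A, elements a, b with a a non-zero-divisor on A/(b), and an ideal
I, one has length(A/(aI + bA)) = length(A/(a, b)) + length(A/(I + bA)) as extended natural numbers;
in particular when two of the three quotients have finite length so does the third. -/
theorem result (A : Type u) [CommRing A] [IsNoetherianRing A] (a b : A) (I : Ideal A)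
    (ha : IsSMulRegular (A ⧸ Ideal.span ({b} : Set A)) a) :
    Module.length A (A ⧸ (Ideal.span {a} * I ⊔ Ideal.span {b})) =
      Module.length A (A ⧸ Ideal.span ({a, b} : Set A)) + Module.length A (A ⧸ (I ⊔ Ideal.span {b})) := by
  let f : (A ⧸ (I ⊔ Ideal.span {b})) →ₗ[A] (A ⧸ (Ideal.span {a} * I ⊔ Ideal.span {b})) :=
    Submodule.mapQ _ _ (LinearMap.mulLeft A a) (by
      intro x hx
      obtain ⟨i, hi, j, hj, rfl⟩ := Submodule.mem_sup.mp hx
      rw [Submodule.mem_comap, LinearMap.mulLeft_apply, mul_add]
      exact Submodule.add_mem_sup (Ideal.mul_mem_mul (Ideal.mem_span_singleton_self a) hi)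
        (Ideal.mul_mem_left _ a hj))
  let g : (A ⧸ (Ideal.span {a} * I ⊔ Ideal.span {b})) →ₗ[A] (A ⧸ Ideal.span ({a, b} : Set A)) :=
    Submodule.mapQ _ _ LinearMap.id (by
      rw [Submodule.comap_id]
      exact sup_le (Ideal.mul_le_left.trans (Ideal.span_mono (by simp))) (Ideal.span_mono (by simp)))
  have hf : Function.Injective f := by
    rw [injective_iff_map_eq_zero]
    intro x
    obtain ⟨x, rfl⟩ := Submodule.Quotient.mk_surjective _ x
    intro hx
    rw [Submodule.mapQ_apply, Submodule.Quotient.mk_eq_zero, LinearMap.mulLeft_apply] at hx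
    obtain ⟨u, hu, v, hv, huv⟩ := Submodule.mem_sup.mp hx
    obtain ⟨i, hi, rfl⟩ := Ideal.mem_span_singleton_mul.mp hu
    have h0 : a • (Submodule.Quotient.mk (x - i) : A ⧸ Ideal.span ({b} : Set A)) = a • 0 := by
      rw [smul_zero, ← Submodule.Quotient.mk_smul, Submodule.Quotient.mk_eq_zero, smul_eq_mul,
        mul_sub, ← huv, add_sub_cancel_left]
      exact hv
    have h1 := (Submodule.Quotient.mk_eq_zero _).mp (ha h0)
    rw [Submodule.Quotient.mk_eq_zero]
    exact Submodule.mem_sup.mpr ⟨i, hi, x - i, h1, add_sub_cancel i x⟩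
  have hex : Function.Exact f g := by
    intro y
    obtain ⟨y, rfl⟩ := Submodule.Quotient.mk_surjective _ y
    constructor
    · intro hy
      rw [Submodule.mapQ_apply, Submodule.Quotient.mk_eq_zero, LinearMap.id_apply,
        Ideal.mem_span_pair] at hy
      obtain ⟨u, v, huv⟩ := hy
      refine ⟨Submodule.Quotient.mk u, ?_⟩
      rw [Submodule.mapQ_apply, LinearMap.mulLeft_apply, Submodule.Quotient.eq]
      refine Submodule.mem_sup_right ?_
      rw [Ideal.mem_span_singleton]
      exact ⟨-v, by linear_combination huv⟩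
    · rintro ⟨u, hu⟩
      obtain ⟨u, rfl⟩ := Submodule.Quotient.mk_surjective _ u
      rw [← hu, Submodule.mapQ_apply, Submodule.mapQ_apply, Submodule.Quotient.mk_eq_zero]
      exact Ideal.mul_mem_right _ _ (Ideal.subset_span (by simp))
  have hg : Function.Surjective g := by
    intro y
    obtain ⟨y, rfl⟩ := Submodule.Quotient.mk_surjective _ y
    exact ⟨Submodule.Quotient.mk y, rfl⟩
  rw [Module.length_eq_add_of_exact f g hf hg hex, add_comm]

end Groth.Agent.S15315
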