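import Mathlib
import Groth.Statements.S2102


set_option autoImplicit false
universe u
open CategoryTheory AlgebraicGeometry
open Mor

namespace Groth.Agent.S2102

/-- The ring of global sections of an integral normal scheme is an integrally closed domain. -/
theorem result (X : Scheme.{u}) [IsIntegral X] (hX : Pi1.IsNormalScheme X) :
    IsIntegrallyClosed (Γ(X, ⊤) : Type u) := by
  haveI : Nonempty (⊤ : X.Opens) := ⟨⟨genericPoint X, trivial⟩⟩
  haveI : IsDomain Γ(X, ⊤) := inferInstance
  rw [isIntegrallyClosed_iff (FractionRing Γ(X, ⊤))]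
  intro z hz
  let q : Γ(X, ⊤) →+* X.functionField := (X.germToFunctionField ⊤).hom
  have hq : Function.Injective q := X.germToFunctionField_injective ⊤
  let j : FractionRing Γ(X, ⊤) →+* X.functionField := IsFractionRing.lift hq
  have hj : j.comp (algebraMap Γ(X, ⊤) (FractionRing Γ(X, ⊤))) = q :=
    RingHom.ext fun a => IsFractionRing.lift_algebraMap hq a
  obtain ⟨P, hP, hPz⟩ := hz
  have hint : P.eval₂ q (j z) = 0 := by
    rw [← hj, ← Polynomial.hom_eval₂, hPz, map_zero]
  -- local sections with the given germ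
  have hloc : ∀ x : X, ∃ (U : X.Opens) (_ : x ∈ U) (s : Γ(X, U)),
      ∀ (h : genericPoint X ∈ U), X.presheaf.germ U (genericPoint X) h s = j z := by
    intro x
    haveI : Nonempty (⊤ : X.Opens) := ⟨⟨x, trivial⟩⟩
    haveI := (hX x).1
    haveI := (hX x).2
    have hx : IsIntegral (X.presheaf.stalk x) (j z) := by
      refine ⟨P.map (X.presheaf.germ ⊤ x trivial).hom, hP.map _, ?_⟩
      rw [Polynomial.eval₂_map]
      rw [show (algebraMap (X.presheaf.stalk x) X.functionField).comp
          (X.presheaf.germ ⊤ x trivial).hom = q from RingHom.ext fun a =>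
        Scheme.algebraMap_germ_eq_germToFunctionField (X := X) (U := ⊤) (x := x) trivial a]
      exact hint
    obtain ⟨t, ht⟩ := IsIntegrallyClosed.isIntegral_iff.mp hx
    obtain ⟨U, hxU, s, rfl⟩ := X.presheaf.exists_germ_eq t
    refine ⟨U, hxU, s, fun h => ?_⟩
    haveI : Nonempty U := ⟨⟨x, hxU⟩⟩
    rw [Scheme.algebraMap_germ_eq_germToFunctionField] at ht
    exact ht
  choose U hxU s hs using hloc
  have hgen : ∀ x, genericPoint X ∈ U x := fun x =>
    ((genericPoint_spec X).mem_open_set_iff (U x).isOpen).mpr ⟨x, trivial, hxU x⟩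
  obtain ⟨S, hS, -⟩ := X.sheaf.existsUnique_gluing' U ⊤ (fun x => homOfLE le_top)
    (fun x _ => TopologicalSpace.Opens.mem_iSup.mpr ⟨x, hxU x⟩) s (fun a b => by
      apply germ_injective_of_isIntegral X (U := U a ⊓ U b) (genericPoint X) ⟨hgen a, hgen b⟩
      exact (TopCat.Presheaf.germ_res_apply X.presheaf _ _ _ _).trans
        (((hs a (hgen a)).trans (hs b (hgen b)).symm).trans
          (TopCat.Presheaf.germ_res_apply X.presheaf _ _ _ _).symm))
  refine ⟨S, (RingHom.injective j) ?_⟩
  refine (RingHom.congr_fun hj S).trans ?_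
  let x := genericPoint X
  rw [← hs x (hgen x), ← hS x]
  exact (TopCat.Presheaf.germ_res_apply X.presheaf _ _ _ _).symm

end Groth.Agent.S2102
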