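import Groth.Statements.S7174
import Groth.Agent.PCohHom.PerfStalk

set_option autoImplicit false
universe u
attribute [local instance] HasDerivedCategory.standard
open FlatMor

namespace Groth.Agent.S7174

open AlgebraicGeometry CategoryTheory Limits TopologicalSpace in
set_option backward.isDefEq.respectTransparency false in
set_option backward.isDefEq.respectTransparency.types false in
theorem germ_compat {X Y : Scheme.{u}} (f : X ⟶ Y) (U : Y.Opens) (V : X.Opens) (e : V ≤ f ⁻¹ᵁ U) (x : X)
    (hx : x ∈ V) (a : Γ(Y, U)) :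
    f.stalkMap x (Y.presheaf.germ U (f x) (e hx) a) = X.presheaf.germ V x hx (f.appLE U V e a) := by
  simp only [Scheme.Hom.germ_stalkMap_apply, Scheme.Hom.appLE, CommRingCat.hom_comp, RingHom.coe_comp,
    Function.comp_apply, homOfLE_leOfHom, X.presheaf.germ_res_apply]

open AlgebraicGeometry CategoryTheory Limits in
/-- (1) ⇔ (3): for a pseudo-coherent f : X → S, f is perfect exactly when, at every point x of X, the
stalk O_{X,x}, viewed as a module over O_{S,f(x)} through the stalk map, is of finite tor dimension.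
(The intermediate condition on the structure sheaf as a sheaf of f⁻¹O_S-modules is not restated.) -/
theorem result {X S : Scheme.{u}} (f : X ⟶ S) (hf : MoreMor.IsPseudoCoherentMor f) :
    MoreMor.IsPerfectMor f ↔ ∀ x : X,
      (letI := (f.stalkMap x).hom.toAlgebra
       DRing.HasFiniteTorDim ↑(S.presheaf.stalk (f x)) ↑(X.presheaf.stalk x)) := by
  constructor
  · intro h x
    obtain ⟨U, hU, hfx, -⟩ := exists_isAffineOpen_mem_and_subset (x := f x) (U := ⊤) trivial
    obtain ⟨V, hV, hx, hVU⟩ := exists_isAffineOpen_mem_and_subset (x := x) (U := f ⁻¹ᵁ U) hfx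
    have hP := h V U hV hU hVU
    let _ := (f.appLE U V hVU).hom.toAlgebra
    let _ := S.presheaf.algebra_section_stalk ⟨f x, hVU hx⟩
    have := hU.isLocalization_stalk ⟨f x, hVU hx⟩
    let _ := X.presheaf.algebra_section_stalk ⟨x, hx⟩
    have := hV.isLocalization_stalk ⟨x, hx⟩
    let _ := (f.stalkMap x).hom.toAlgebra
    let _ : Algebra Γ(S, U) (X.presheaf.stalk x) :=
      ((algebraMap Γ(X, V) (X.presheaf.stalk x)).comp (f.appLE U V hVU).hom).toAlgebra
    have : IsScalarTower Γ(S, U) Γ(X, V) (X.presheaf.stalk x) := IsScalarTower.of_algebraMap_eq fun _ => rfl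
    have : IsScalarTower Γ(S, U) (S.presheaf.stalk (f x)) (X.presheaf.stalk x) :=
      IsScalarTower.of_algebraMap_eq fun a => (germ_compat f U V hVU x hx a).symm
    exact Groth.PCohHom.finiteTorDim_localization hP.2 (hU.primeIdealOf ⟨f x, hVU hx⟩).asIdeal
      (hV.primeIdealOf ⟨x, hx⟩).asIdeal _ _
  · intro h V U hV hU hVU
    let _ := (f.appLE U V hVU).hom.toAlgebra
    refine Groth.PCohHom.perfHom_of_localizations (hf V U hV hU hVU) fun q _ => ?_
    let y : PrimeSpectrum Γ(X, V) := ⟨q, inferInstance⟩
    have hx : hV.fromSpec y ∈ V := by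
      rw [← SetLike.mem_coe, ← hV.range_fromSpec]; exact Set.mem_range_self y
    have htor := h (hV.fromSpec y)
    let _ := S.presheaf.algebra_section_stalk ⟨f (hV.fromSpec y), hVU hx⟩
    have := hU.isLocalization_stalk ⟨f (hV.fromSpec y), hVU hx⟩
    let _ := X.presheaf.algebra_section_stalk ⟨hV.fromSpec y, hx⟩
    have : IsLocalization.AtPrime (X.presheaf.stalk (hV.fromSpec y)) q := hV.isLocalization_stalk' y hx
    let _ := (f.stalkMap (hV.fromSpec y)).hom.toAlgebra
    let _ : Algebra Γ(S, U) (X.presheaf.stalk (hV.fromSpec y)) :=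
      ((algebraMap Γ(X, V) (X.presheaf.stalk (hV.fromSpec y))).comp (f.appLE U V hVU).hom).toAlgebra
    have : IsScalarTower Γ(S, U) Γ(X, V) (X.presheaf.stalk (hV.fromSpec y)) :=
      IsScalarTower.of_algebraMap_eq fun _ => rfl
    have : IsScalarTower Γ(S, U) (S.presheaf.stalk (f (hV.fromSpec y))) (X.presheaf.stalk (hV.fromSpec y)) :=
      IsScalarTower.of_algebraMap_eq fun a => (germ_compat f U V hVU _ hx a).symm
    exact Groth.PCohHom.finiteTorDim_of_localization (hU.primeIdealOf ⟨f (hV.fromSpec y), hVU hx⟩).asIdeal q _ _ htor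

end Groth.Agent.S7174
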