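import Groth.Statements.S3839
import Groth.Agent.ParaFormal.DescentDivGlobal
import Groth.Agent.RefRank.BigOpen
import Groth.Agent.Divisors.BlowUpBasic
import Groth.Agent.S9501
import Mathlib.RingTheory.DiscreteValuationRing.TFAE

set_option autoImplicit false
universe u
open CategoryTheory CategoryTheory.Limits AlgebraicGeometry TopologicalSpace
open Div21

namespace Groth.Agent.S3839

open IntMult IsLocalRing

theorem eq_pow_mul_of_mul_eq_pow {B : Type*} [CommRing B] {p : B}
    (hp : (Ideal.span {p}).IsPrime) (hnz : ∀ b, p * b = 0 → b = 0) :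
    ∀ (N : ℕ) (h c : B), h * c = p ^ N → ∃ n, Ideal.span {h} = Ideal.span {p ^ n} := by
  intro N
  induction N with
  | zero =>
    intro h c e
    exact ⟨0, by rw [pow_zero, Ideal.span_singleton_one, Ideal.span_singleton_eq_top]
                 exact IsUnit.of_mul_eq_one (b := c) (by simpa using e)⟩
  | succ N ih =>
    intro h c e
    rcases hp.mem_or_mem (show h * c ∈ Ideal.span {p} from
      Ideal.mem_span_singleton'.2 ⟨p ^ N, by rw [e, pow_succ]⟩) with hh | hh
    · obtain ⟨h', rfl⟩ := Ideal.mem_span_singleton'.1 hh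
      obtain ⟨n, hn⟩ := ih h' c (sub_eq_zero.1 (hnz _ (by linear_combination e)))
      refine ⟨n + 1, ?_⟩
      rw [← Ideal.span_singleton_mul_span_singleton, hn, Ideal.span_singleton_mul_span_singleton,
        ← pow_succ]
    · obtain ⟨c', rfl⟩ := Ideal.mem_span_singleton'.1 hh
      exact ih h c' (sub_eq_zero.1 (hnz _ (by linear_combination e)))

/-- Case of effective divisors: let f : X → Y be a faithfully flat morphism between locally Noetherian
schemes, with f quasi-compact or open; assume Y is normal and that the fibre X_y is integral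
whenever y is a point of Y whose local ring has dimension 1. An effective Cartier divisor D' on X
with ideal sheaf 𝓙 is then the pullback of some effective Cartier divisor on Y if and only if, at
each maximal point η of Y, the pullback of D' to the fibre X_η is zero (its ideal is the unit
ideal). -/
theorem result {X Y : Scheme.{u}} [IsLocallyNoetherian X]
    [IsLocallyNoetherian Y] (f : X ⟶ Y) [Flat f] [Surjective f] (hf : QuasiCompact f ∨ IsOpenMap f)
    (hY : Pi1.IsNormalScheme Y)
    (hfib : ∀ y : ↥Y, ringKrullDim ↑(Y.presheaf.stalk y) = 1 → IsIntegral (f.fiber y))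
    (𝓙 : X.IdealSheafData) (hJ : BlowUp.IsEffCartierIdeal 𝓙) :
    (∃ 𝓘 : Y.IdealSheafData, BlowUp.IsEffCartierIdeal 𝓘 ∧ 𝓘.comap f = 𝓙) ↔
      ∀ η : ↥Y, (∀ z : ↥Y, z ⤳ η → z = η) → 𝓙.comap (f.fiberι η) = ⊤ := by
  have maxdim : ∀ (η : Y), ringKrullDim ↑(Y.presheaf.stalk η) = 0 →
      ∀ z : Y, z ⤳ η → z = η := by
    intro η h z hz
    by_contra hne
    have := ParaFormal.dim_lt_of_specializes hz hne
    rw [h] at this
    exact absurd (ringKrullDim_nonneg_of_nontrivial) (not_le.2 this)
  constructor
  · rintro ⟨𝓘, h𝓘, rfl⟩ η hη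
    rw [← Scheme.IdealSheafData.comap_comp]
    refine Divisors.comap_eq_top_of_disjoint _ _ fun z => ?_
    have hz : f (f.fiberι η z) = η := by
      have : f.fiberι η z ∈ f ⁻¹' {η} := by rw [← Scheme.Hom.range_fiberι]; exact ⟨z, rfl⟩
      exact this
    change f (f.fiberι η z) ∉ _
    rw [hz]
    exact Divisors.not_mem_support_of_maximal h𝓘 hη
  · intro h
    have htop : ∀ x : X, (∀ z, z ⤳ f x → z = f x) → stalkIdeal 𝓙 x = ⊤ := by
      intro x hx
      obtain ⟨η, hη⟩ : ∃ η, f x = η := ⟨_, rfl⟩
      rw [hη] at hx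
      obtain ⟨z, hz⟩ : x ∈ Set.range (f.fiberι η) := by
        rw [Scheme.Hom.range_fiberι]; exact hη
      subst hz
      have h2 := congrArg (fun K => stalkIdeal K z) (h _ hx)
      simp only [ParaFormal.stalkIdeal_comap] at h2
      have h3 : stalkIdeal (⊤ : (f.fiber η).IdealSheafData) z = ⊤ := by
        obtain ⟨U, hU, -⟩ := Divisors.exists_affine_le z ⊤ trivial
        rw [ParaFormal.stalkIdeal_eq _ U hU]
        simp [Ideal.map_top]
      rw [h3] at h2
      by_contra hne
      have h4 := Ideal.map_mono (f := ((f.fiberι _).stalkMap z).hom) (le_maximalIdeal hne)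
      rw [h2] at h4
      exact (maximalIdeal.isMaximal _).ne_top (top_unique (h4.trans (map_maximalIdeal_le _)))
    refine ParaFormal.exists_of_desc hf hJ
      (ParaFormal.desc_of_depth_le_one (ParaFormal.exists_nzd_gen hJ) fun y hy => ?_)
    have := (hY y).1
    have := (hY y).2
    have hdim : ¬ (2 : WithBot ℕ∞) ≤ ringKrullDim ↑(Y.presheaf.stalk y) := fun hd =>
      absurd (RefRank.two_le_depth_of_normal hd) (not_le.2 (lt_of_le_of_lt hy (by norm_num)))
    by_cases h0 : ringKrullDim ↑(Y.presheaf.stalk y) = 0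
    · refine ⟨⊤, fun x hx => ?_⟩
      rw [Ideal.map_top, htop x]
      rw [hx]; exact maxdim y h0
    have hle : ringKrullDim ↑(Y.presheaf.stalk y) ≤ 1 := by
      generalize ringKrullDim ↑(Y.presheaf.stalk y) = d at hdim
      induction d with
      | bot => exact bot_le
      | coe d =>
        have h2 : d < (2 : ℕ∞) := not_le.1 fun h2 => hdim (WithBot.coe_le_coe.2 h2)
        exact WithBot.coe_le_coe.2 (ENat.lt_add_one_iff (by norm_num) |>.1 (by simpa [one_add_one_eq_two] using h2))
    have h1 : ringKrullDim ↑(Y.presheaf.stalk y) = 1 := by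
      refine le_antisymm hle ?_
      have h2 : (0 : WithBot ℕ∞) < ringKrullDim ↑(Y.presheaf.stalk y) :=
        lt_of_le_of_ne ringKrullDim_nonneg_of_nontrivial (Ne.symm h0)
      generalize ringKrullDim ↑(Y.presheaf.stalk y) = d at h2
      induction d with
      | bot => simp at h2
      | coe d => exact WithBot.coe_le_coe.2 (Order.one_le_iff_pos.2 (WithBot.coe_lt_coe.1 h2))
    have hnf : ¬ IsField ↑(Y.presheaf.stalk y) := fun hf' => by
      rw [ringKrullDim_eq_zero_of_isField hf'] at h1
      exact zero_ne_one h1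
    have : Ring.KrullDimLE 1 ↑(Y.presheaf.stalk y) := (Ring.krullDimLE_iff).2 (by simp [h1])
    have : Ring.DimensionLEOne ↑(Y.presheaf.stalk y) := by
      constructor
      intro P hP hP'
      have : (⊥ : Ideal ↑(Y.presheaf.stalk y)).IsPrime := Ideal.isPrime_bot
      exact Ring.krullDimLE_one_iff_of_isPrime_bot.1 inferInstance P hP hP'
    have h3 : IsIntegrallyClosed ↑(Y.presheaf.stalk y) ∧
        ∃! P : Ideal ↑(Y.presheaf.stalk y), P ≠ ⊥ ∧ P.IsPrime :=
      ⟨inferInstance, maximalIdeal ↑(Y.presheaf.stalk y),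
        ⟨fun e => hnf (IsLocalRing.isField_iff_maximalIdeal_eq.2 e), inferInstance⟩,
        fun P hP => IsLocalRing.eq_maximalIdeal (hP.2.isMaximal hP.1)⟩
    have hdvr : IsDiscreteValuationRing ↑(Y.presheaf.stalk y) :=
      ((IsDiscreteValuationRing.TFAE _ hnf).out 0 3).2 h3
    obtain ⟨π, hπ⟩ := IsDiscreteValuationRing.exists_irreducible ↑(Y.presheaf.stalk y)
    have hm : maximalIdeal ↑(Y.presheaf.stalk y) = Ideal.span {π} := hπ.maximalIdeal_eq
    have hint : IsIntegral (f.fiber y) := hfib y h1
    set g := f.fiberι y (genericPoint ↥(f.fiber y)) with hg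
    have hgy : f g = y := by
      have : g ∈ f ⁻¹' {y} := by rw [← Scheme.Hom.range_fiberι]; exact ⟨_, rfl⟩
      exact this
    refine ⟨(stalkIdeal 𝓙 g).comap (ParaFormal.psi f g (specializes_of_eq hgy)), fun x hx => ?_⟩
    obtain ⟨z, hz⟩ : x ∈ Set.range (f.fiberι y) := by
      rw [Scheme.Hom.range_fiberι]; exact hx
    have hgx : g ⤳ x := hz ▸ (genericPoint_specializes z).map (f.fiberι y).continuous
    set ψ := ParaFormal.psi f x (specializes_of_eq hx) with hψ
    have hloc := ParaFormal.isLocalHom_psi f x hx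
    have hprime : (Ideal.span {ψ π}).IsPrime := by
      obtain ⟨hsurj, hker⟩ := Groth.Agent.S9501.result f y z
      subst hz
      have e : (maximalIdeal ↑(Y.presheaf.stalk y)).map ψ =
          RingHom.ker ((f.fiberι y).stalkMap z).hom := by
        rw [hker]
        have key : ∀ (y' : Y) (h : f (f.fiberι y z) = y'),
            (maximalIdeal ↑(Y.presheaf.stalk y')).map (ParaFormal.psi f (f.fiberι y z) (specializes_of_eq h)) =
              (maximalIdeal ↑(Y.presheaf.stalk (f (f.fiberι y z)))).map (f.stalkMap (f.fiberι y z)).hom := by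
          rintro y' rfl; rw [ParaFormal.psi_self]
        exact key y hx
      rw [hm, Ideal.map_span, Set.image_singleton] at e
      rw [e]
      exact RingHom.ker_isPrime _
    have hnz : ∀ b, ψ π * b = 0 → b = 0 := fun b hb =>
      mem_nonZeroDivisors_iff_right.1 (Divisors.mem_nonZeroDivisors_of_flat ψ
        (ParaFormal.flat_psi f x hx) (mem_nonZeroDivisors_of_ne_zero hπ.ne_zero)) b (by rwa [mul_comm])
    obtain ⟨e, -, he⟩ := ParaFormal.exists_nzd_gen hJ x
    have hrad : ψ π ∈ (stalkIdeal 𝓙 x).radical := by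
      rw [Ideal.radical_eq_sInf, Ideal.mem_sInf]
      intro Q ⟨hQ, hQp⟩
      obtain ⟨x', hx', rfl⟩ := ParaFormal.exists_spec_comap_eq x Q
      rw [Ideal.mem_comap, hψ, ← RingHom.comp_apply, ParaFormal.spec_psi]
      by_cases hxy : f x' = y
      · intro hu
        have := ParaFormal.isLocalHom_psi f x' hxy
        exact hπ.not_isUnit (isUnit_of_map_unit (ParaFormal.psi f x' (specializes_of_eq hxy)) _ hu)
      · exfalso
        have h' : f x' ⤳ y := (hx'.map f.continuous).trans (specializes_of_eq hx)
        have hlt := ParaFormal.dim_lt_of_specializes h' hxy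
        rw [h1] at hlt
        have h00 : ringKrullDim ↑(Y.presheaf.stalk (f x')) = 0 := by
          refine le_antisymm ?_ ringKrullDim_nonneg_of_nontrivial
          generalize ringKrullDim ↑(Y.presheaf.stalk (f x')) = d at hlt
          induction d with
          | bot => exact bot_le
          | coe d => exact WithBot.coe_le_coe.2 (Order.lt_one_iff.1 (WithBot.coe_lt_coe.1 hlt)).le
        have h5 := htop x' (maxdim _ h00)
        rw [← ParaFormal.stalkIdeal_spec 𝓙 hx'] at h5
        exact (maximalIdeal.isMaximal _).ne_top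
          (top_unique (h5 ▸ Ideal.map_le_iff_le_comap.2 hQ))
    obtain ⟨N, hN⟩ := hrad
    rw [he] at hN
    obtain ⟨c, hc⟩ := Ideal.mem_span_singleton'.1 hN
    obtain ⟨n, hn⟩ := eq_pow_mul_of_mul_eq_pow hprime hnz N e c (by rw [mul_comm]; exact hc)
    have hJx : stalkIdeal 𝓙 x = (Ideal.span {π ^ n}).map ψ := by
      rw [he, hn, Ideal.map_span, Set.image_singleton, map_pow]
    have hJg : stalkIdeal 𝓙 g = (Ideal.span {π ^ n}).map (ParaFormal.psi f g (specializes_of_eq hgy)) := by
      rw [← ParaFormal.stalkIdeal_spec 𝓙 hgx, hJx, Ideal.map_map, hψ, ParaFormal.spec_psi]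
    rw [hJg, ParaFormal.comap_psi_map f g hgy, hJx]

end Groth.Agent.S3839
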