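import Groth.Statements.S1712
import Groth.Agent.DualCore.CM

set_option autoImplicit false
universe u
open CategoryTheory
attribute [local instance] HasDerivedCategory.standard
open Dual

namespace Groth.Agent.S1712

/-- Let A be a Noetherian local ring with a normalized dualizing complex ω, M a finite A-module and E^j
the A-module of maps M → ω[-j] in D(A). A prime p is in the support of one of E^0, …, E^i if and
only if the depth of M_p over A_p plus the dimension of A/p is at most i. -/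
theorem result (A : Type u) [CommRing A] [IsLocalRing A] [IsNoetherianRing A] (ω : Dual.D A) (hω : Dual.IsDualizing A ω) (hn : Dual.IsNormalized A ω) (M : Type u) [AddCommGroup M] [Module A M] [Module.Finite A M] (i : ℕ) (p : PrimeSpectrum A) : (∃ j : ℕ, j ≤ i ∧ p ∈ Module.support A (Dual.inD A M ⟶ ω⟦(-(j : ℤ))⟧)) ↔ ((LocCoh.depth (Localization.AtPrime p.asIdeal) (LocalizedModule p.asIdeal.primeCompl M) : ℕ∞) : WithBot ℕ∞) + ringKrullDim (A ⧸ p.asIdeal) ≤ (i : WithBot ℕ∞) := by
  obtain ⟨a, b, ha, -⟩ := Groth.DualCore.exists_bounds hω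
  haveI : Nontrivial (A ⧸ p.asIdeal) := Ideal.Quotient.nontrivial_iff.2 p.2.ne_top
  obtain ⟨e, he⟩ : ∃ e : ℕ, ringKrullDim (A ⧸ p.asIdeal) = e := by
    obtain ⟨e, he⟩ := Groth.DualCore.exists_supportDim_eq A (A ⧸ p.asIdeal)
    exact ⟨e, by rw [← Module.supportDim_quotient_eq_ringKrullDim, he]⟩
  have hdeg := Groth.DualCore.degree_normalized hω hn p e he
  haveI : IsNoetherianRing (Localization.AtPrime p.asIdeal) :=
    IsLocalization.isNoetherianRing p.asIdeal.primeCompl _ inferInstance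
  set ω' := ((Groth.DualCore.extD A (Localization.AtPrime p.asIdeal)).obj ω)⟦Groth.DualCore.degree hω p⟧ with hω'def
  have hω' : Dual.IsDualizing _ ω' :=
    Groth.DualCore.isDualizing_shift (Groth.DualCore.isDualizing_atPrime p.asIdeal hω) _
  have hn' : Dual.IsNormalized _ ω' := Groth.DualCore.isNormalized_degree hω p
  let M' := TensorProduct A (Localization.AtPrime p.asIdeal) M
  have key : ∀ j : ℕ, p ∈ Module.support A (Dual.inD A M ⟶ ω⟦(-(j : ℤ))⟧) ↔
      Nontrivial (Dual.inD _ M' ⟶ ω'⟦-(j : ℤ) + e⟧) := by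
    intro j
    rw [Module.mem_support_iff, Groth.DualCore.nontrivial_localized_hom_iff p.asIdeal hω M,
      Groth.DualCore.nontrivial_shift_iff _ _ (Groth.DualCore.degree hω p) (-(j : ℤ))]
    rw [hdeg]; lia
  rw [← Groth.DualCore.depth_congr (Groth.DualCore.tensorEquivLocalized p.asIdeal M), he]
  rcases subsingleton_or_nontrivial M' with hM | hM
  · rw [Groth.DualCore.depth_eq_top_of_subsingleton]
    refine iff_of_false ?_ ?_
    · rintro ⟨j, -, hj⟩
      rw [key] at hj
      exact (not_nontrivial_iff_subsingleton.2 (Groth.DualCore.subsingleton_hom_of_subsingleton ω' M' (-(j : ℤ) + e))) hj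
    · intro h
      have h' : (((⊤ : ℕ∞) + (e : ℕ∞) : ℕ∞) : WithBot ℕ∞) ≤ ((i : ℕ∞) : WithBot ℕ∞) := h
      rw [top_add, WithBot.coe_le_coe, top_le_iff] at h'
      exact ENat.natCast_ne_top i h'
  obtain ⟨a', ha'⟩ := Groth.DualCore.exists_isGE hω'
  obtain ⟨d, hd⟩ := Groth.DualCore.exists_supportDim_eq (Localization.AtPrime p.asIdeal) M'
  obtain ⟨δ, hδ⟩ : ∃ δ : ℕ, LocCoh.depth (Localization.AtPrime p.asIdeal) M' = δ := by
    by_contra hc
    obtain ⟨m, -, hm, rs, hlen, hreg, hmem⟩ := Groth.DualCore.exists_depth_witness ω' a' hω'.finite_cohomology hn' (Groth.DualCore.nontrivial_end hω') d M' hd.le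
    exact hc ⟨m, (Groth.DualCore.depth_eq_iff hω' hn' M' m).2 ⟨fun δ hδ => Groth.DualCore.subsingleton_hom_of_regular ω' a' hω'.finite_cohomology hn' rs M' hreg hmem _ (by lia), hm⟩⟩
  rw [hδ, show ((δ : ℕ∞) : WithBot ℕ∞) + (e : WithBot ℕ∞) = ((δ + e : ℕ) : WithBot ℕ∞) by push_cast; rfl,
    Groth.DualCore.natCast_le_natCast]
  obtain ⟨hlow, htop⟩ := (Groth.DualCore.depth_eq_iff hω' hn' M' δ).1 hδ
  constructor
  · rintro ⟨j, hj, hjs⟩
    rw [key] at hjs
    by_contra hlt
    rcases lt_or_ge (j : ℤ) e with h | h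
    · exact not_subsingleton _ (Groth.DualCore.hom_le_ringKrullDim hω' hn' M' hd.le (-(j : ℤ) + e) (Or.inr (by lia)))
    · haveI := hlow (j - e) (by lia)
      rw [show -(((j - e : ℕ) : ℕ) : ℤ) = -(j : ℤ) + e by lia] at this
      exact not_subsingleton _ this
  · intro h
    refine ⟨δ + e, h, ?_⟩
    rw [key, show -((δ + e : ℕ) : ℤ) + e = -(δ : ℤ) by lia]
    exact htop

end Groth.Agent.S1712
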