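import Groth.Statements.S17762
import Groth.Agent.LocDual.Quotient

set_option autoImplicit false
universe u
open LocCoh

namespace Groth.Agent.S17762

/-- Let R be a Noetherian local ring with maximal ideal m which is a homomorphic image of a Gorenstein
local ring, M a finitely generated R-module, J an ideal of R and i a natural number. Then J is
contained in the radical of the annihilator of H^i_m(M) if and only if for every prime ideal p of R
not containing J, the local cohomology module H^j_{pR_p}(M_p) over R_p vanishes for the index j with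
j + dim(R ⧸ p) = i (no condition when i < dim(R ⧸ p)). -/
theorem result (R : Type u) [CommRing R] [IsNoetherianRing R] [IsLocalRing R] (R' : Type u) [CommRing R'] [LocCoh.IsGorensteinLocalRing R'] (g : R' →+* R) (hg : Function.Surjective g) (M : Type u) [AddCommGroup M] [Module R M] [Module.Finite R M] (J : Ideal R) (i : ℕ) : J ≤ (Module.annihilator R (LocCoh.H (IsLocalRing.maximalIdeal R) i M)).radical ↔ ∀ (p : Ideal R) [p.IsPrime], ¬ J ≤ p → ∀ j : ℕ, (j : WithBot ℕ∞) + ringKrullDim (R ⧸ p) = i → Subsingleton (LocCoh.H (IsLocalRing.maximalIdeal (Localization.AtPrime p)) j (LocalizedModule p.primeCompl M)) := by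
  letI := g.toAlgebra
  rw [Groth.LocDual.le_radical_annihilator_H_iff (R := R') ((GrothGoren.isGorenstein_iff R').1 inferInstance) hg M J i]
  refine ⟨fun h p _ hJ j hj => ?_, fun h p _ hJ e j he hje => h p hJ j (by rw [he, ← hje]; norm_cast)⟩
  haveI : Nontrivial (R ⧸ p) := Ideal.Quotient.nontrivial_iff.2 (Ideal.IsPrime.ne_top inferInstance)
  obtain ⟨e, he⟩ : ∃ e : ℕ, ringKrullDim (R ⧸ p) = e := by
    rw [Groth.Ega4Algebra1.ringKrullDim_quotient_eq_coheight R ⟨p, inferInstance⟩]
    obtain ⟨e, he⟩ := ENat.ne_top_iff_exists.1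
      (Groth.Ega4Algebra1.coheight_ne_top R (⟨p, inferInstance⟩ : PrimeSpectrum R))
    exact ⟨e, by rw [← he]; rfl⟩
  rw [he] at hj
  exact h p hJ e j he (by exact_mod_cast hj)

end Groth.Agent.S17762
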