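import Groth.Statements.S9400
import Groth.Agent.Calg4.Japanese

set_option autoImplicit false
universe u
open CAlg

namespace Groth.Agent.S9400

/-- Being a Nagata ring can be checked on a finite cover of Spec R by principal opens. -/
theorem result (R : Type u) [CommRing R]
    {ι : Type u} [Finite ι] (f : ι → R) (hf : Ideal.span (Set.range f) = ⊤)
    (h : ∀ i, CAlg.IsNagata (Localization.Away (f i))) : CAlg.IsNagata R := by
  refine ⟨isNoetherianRing_iff_ideal_fg R |>.mpr fun I => ?_, fun p _ => ?_⟩
  · refine Ideal.fg_of_localizationSpan (Set.range f) hf ?_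
    rintro ⟨_, i, rfl⟩
    exact (isNoetherianRing_iff_ideal_fg _).mp (h i).1 _
  intro L _ _ _ _ hfin
  let Q := R ⧸ p
  refine Groth.Calg4.finite_ic_of_span (fun i => Ideal.Quotient.mk p (f i)) ?_ fun i => ?_
  · rw [Set.range_comp' (Ideal.Quotient.mk p) f, ← Ideal.map_span, hf, Ideal.map_top]
  rcases eq_or_ne (Ideal.Quotient.mk p (f i)) 0 with h0 | h0
  · exact Or.inl (by simp [h0])
  let K := FractionRing Q
  let A := Localization.Away (f i)
  have hu : IsUnit (algebraMap R K (f i)) := by
    rw [IsScalarTower.algebraMap_apply R Q K]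
    exact IsUnit.mk0 _ ((map_ne_zero_iff _ (IsFractionRing.injective Q K)).mpr h0)
  let φ : A →+* K := IsLocalization.Away.lift (f i) hu
  have hφ : ∀ r, φ (algebraMap R A r) = algebraMap R K r := IsLocalization.Away.lift_eq (f i) hu
  let p' := RingHom.ker φ
  have : p'.IsPrime := RingHom.ker_isPrime φ
  let B := A ⧸ p'
  have hB : IsN2 B := (h i).2 p'
  let : Algebra B K := φ.kerLift.toAlgebra
  have hAK : ∀ a, algebraMap B K (Ideal.Quotient.mk p' a) = φ a := fun a => RingHom.kerLift_mk φ a
  have : FaithfulSMul B K := (faithfulSMul_iff_algebraMap_injective B K).mpr φ.kerLift_injective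
  have : IsFractionRing B K := Groth.Calg4.isFractionRing_of_range Q B K fun q => by
    obtain ⟨r, rfl⟩ := Ideal.Quotient.mk_surjective q
    exact ⟨Ideal.Quotient.mk p' (algebraMap R A r), by
      rw [hAK, hφ, IsScalarTower.algebraMap_apply R Q K]; rfl⟩
  let : Algebra B L := ((algebraMap K L).comp (algebraMap B K)).toAlgebra
  have : IsScalarTower B K L := IsScalarTower.of_algebraMap_eq fun _ => rfl
  let : Algebra A L := ((algebraMap K L).comp φ).toAlgebra
  have : IsScalarTower A B L := IsScalarTower.of_algHom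
    ({ algebraMap B L with commutes' := fun a => congrArg (algebraMap K L) (hAK a) } : B →ₐ[A] L)
  have h1 : Module.Finite A (integralClosure A L) :=
    (Groth.Calg4.finite_ic_iff_of_surjective A B L Ideal.Quotient.mk_surjective).mpr
      (Groth.Calg4.finite_ic_of_isN2 hB K L)
  let : Algebra R L := ((algebraMap Q L).comp (algebraMap R Q)).toAlgebra
  have : IsScalarTower R Q L := IsScalarTower.of_algebraMap_eq fun _ => rfl
  have : IsScalarTower R A L := IsScalarTower.of_algebraMap_eq fun r => by
    change algebraMap Q L (algebraMap R Q r) = algebraMap K L (φ (algebraMap R A r))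
    rw [hφ, IsScalarTower.algebraMap_apply R Q K, ← IsScalarTower.algebraMap_apply Q K L]
  obtain ⟨T, hT, hTi, hTs⟩ := Groth.Calg4.fgAway_of_isLocalizationAway (f i) A h1
  refine Or.inr ⟨T, hT, fun t ht => (hTi t ht).tower_top, fun x hx => ?_⟩
  have : Algebra.IsIntegral R Q := ⟨fun q => by
    obtain ⟨r, rfl⟩ := Ideal.Quotient.mk_surjective q; exact isIntegral_algebraMap⟩
  obtain ⟨k, hk⟩ := hTs x (isIntegral_trans x hx)
  refine ⟨k, Submodule.span_le_restrictScalars R Q T ?_⟩
  rwa [← map_pow, ← Ideal.Quotient.algebraMap_eq, IsScalarTower.algebraMap_smul]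

end Groth.Agent.S9400
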