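import Groth.Statements.S9833
import Mathlib
import Groth.Agent.PropsBasic.NagataLocal
import Groth.Agent.S9400

set_option autoImplicit false
universe u
open CategoryTheory AlgebraicGeometry TopologicalSpace
open Props

namespace Groth.Agent.S9833

/-- If a scheme has an affine open covering by spectra of Nagata rings, then the coordinate ring of
every affine open is Nagata. -/
theorem result (X : Scheme.{u}) {ι : Type u} (U : ι → X.Opens)
    (hU : iSup U = ⊤) (haff : ∀ i, IsAffineOpen (U i)) (hN : ∀ i, CAlg.IsNagata Γ(X, U i))
    (V : X.Opens) (hV : IsAffineOpen V) : CAlg.IsNagata Γ(X, V) := by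
  suffices ∀ W : X.affineOpens, CAlg.IsNagata Γ(X, W.1) from this ⟨V, hV⟩
  intro W
  induction W using of_affine_open_cover
    (fun i => (⟨U i, haff i⟩ : X.affineOpens)) hU with
  | basicOpen W f hW =>
    change CAlg.IsNagata Γ(X, X.basicOpen f)
    haveI := IsAffineOpen.isLocalization_basicOpen W.2 f
    exact Groth.PropsBasic.isNagata_of_isLocalization (Submonoid.powers f) _ hW
  | openCover W s hs hW =>
    refine Groth.Agent.S9400.result _ (fun f : (s : Set Γ(X, W.1)) => f.1) (by simpa using hs) fun f => ?_
    haveI := IsAffineOpen.isLocalization_basicOpen W.2 f.1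
    exact Groth.PropsBasic.isNagata_of_ringEquiv
      (IsLocalization.algEquiv (Submonoid.powers f.1) Γ(X, X.basicOpen f.1) _).toRingEquiv (hW f : CAlg.IsNagata Γ(X, X.basicOpen f.1))
  | hU i => exact hN i

end Groth.Agent.S9833
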