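import Groth.Statements.S5132


set_option autoImplicit false
open CategoryTheory AlgebraicGeometry
universe u
open SGA1

namespace Groth.Agent.S5132

/-- Quasi-compactness of a morphism descends along a surjective and quasi-compact base change; flatness
of the base change is not needed for this property. -/
theorem result :
    MorphismProperty.DescendsAlong @QuasiCompact (@Surjective ⊓ @QuasiCompact : MorphismProperty Scheme.{u}) := by
  refine ⟨fun {A X Y Z fst snd f g} h hf hfst => ?_⟩
  obtain ⟨hfs, hfq⟩ := hf
  haveI : Surjective f := hfs
  haveI : QuasiCompact f := hfq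
  haveI : QuasiCompact fst := hfst
  haveI : Surjective snd := MorphismProperty.of_isPullback h hfs
  refine (quasiCompact_iff g).mpr fun U hU hUc => ?_
  have h1 : IsCompact (fst.base ⁻¹' (f.base ⁻¹' U)) :=
    QuasiCompact.isCompact_preimage (f := fst) _ (hU.preimage f.continuous)
      (QuasiCompact.isCompact_preimage (f := f) _ hU hUc)
  have h2 := h1.image snd.continuous
  have e : fst.base ⁻¹' (f.base ⁻¹' U) = snd.base ⁻¹' (g.base ⁻¹' U) := by
    ext a
    simp only [Set.mem_preimage, ← Scheme.Hom.comp_apply, h.w]
  rw [e, Set.image_preimage_eq _ snd.surjective] at h2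
  exact h2

end Groth.Agent.S5132
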