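import Groth.Statements.S2917
import Mathlib.AlgebraicGeometry.Morphisms.FlatDescent
import Mathlib.AlgebraicGeometry.Morphisms.Proper
import Mathlib.AlgebraicGeometry.Morphisms.Immersion
import Mathlib.AlgebraicGeometry.Morphisms.UniversallyOpen

set_option autoImplicit false
open CategoryTheory CategoryTheory.Limits AlgebraicGeometry Opposite
universe u
open SGA1

namespace Groth.Agent.S2917

variable {A X Y Z : Scheme.{u}}

theorem isOpenMap_of_isPullback {fst : A ⟶ X} {snd : A ⟶ Y} {f : X ⟶ Z} {h : Y ⟶ Z}
    (sq : IsPullback fst snd f h) (hh : Topology.IsQuotientMap h.base) (hs : IsOpenMap snd.base) :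
    IsOpenMap f.base := by
  intro U hU
  rw [← hh.isOpen_preimage, ← Scheme.image_preimage_eq_of_isPullback sq]
  exact hs _ (hU.preimage fst.continuous)

theorem isClosedMap_of_isPullback {fst : A ⟶ X} {snd : A ⟶ Y} {f : X ⟶ Z} {h : Y ⟶ Z}
    (sq : IsPullback fst snd f h) (hh : Topology.IsQuotientMap h.base) (hs : IsClosedMap snd.base) :
    IsClosedMap f.base := by
  intro U hU
  rw [← hh.isClosed_preimage, ← Scheme.image_preimage_eq_of_isPullback sq]
  exact hs _ (hU.preimage fst.continuous)

theorem isQuotientMap_of_univSubmersive {Y Z : Scheme.{u}} {h : Y ⟶ Z} (hh : SGA1.UnivSubmersive h) :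
    Topology.IsQuotientMap h.base := MorphismProperty.universally_le _ _ hh

instance : (SGA1.UnivSubmersive.{u}).IsStableUnderBaseChange :=
  inferInstanceAs (MorphismProperty.universally _).IsStableUnderBaseChange

instance universallyClosed_descends : MorphismProperty.DescendsAlong @UniversallyClosed SGA1.UnivSubmersive.{u} :=
  MorphismProperty.DescendsAlong.mk' fun {X Y Z f g} _ hf hfst => ⟨MorphismProperty.universally_mk' _ _ fun {T} t _ => by
    have hq : SGA1.UnivSubmersive (pullback.fst t f) := MorphismProperty.pullback_fst _ _ hf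
    have hc : UniversallyClosed (pullback.snd (pullback.fst t g) (pullback.fst t f)) := by
      have e : IsPullback (pullback.fst (pullback.fst t g) (pullback.fst t f) ≫ pullback.snd t g)
          (pullback.snd (pullback.fst t g) (pullback.fst t f)) g (pullback.fst t f ≫ t) :=
        (IsPullback.of_hasPullback _ _).paste_horiz (IsPullback.of_hasPullback t g).flip
      rw [pullback.condition] at e
      exact MorphismProperty.of_isPullback
        (IsPullback.of_right' e (IsPullback.of_hasPullback f g).flip) hfst
    exact isClosedMap_of_isPullback (IsPullback.of_hasPullback (pullback.fst t g) (pullback.fst t f))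
      (isQuotientMap_of_univSubmersive hq) (Scheme.Hom.isClosedMap _)⟩

theorem universallyOpen_of_isPullback {fst : A ⟶ X} {snd : A ⟶ Y} {f : X ⟶ Z} {h : Y ⟶ Z}
    (sq : IsPullback fst snd f h) (hh : SGA1.UnivSubmersive h) (hs : UniversallyOpen snd) :
    UniversallyOpen f := ⟨fun X' Z' i₁ i₂ f' hpb => by
  have hq : SGA1.UnivSubmersive (pullback.fst i₂ h) := MorphismProperty.pullback_fst _ _ hh
  have e : IsPullback (pullback.fst f' (pullback.fst i₂ h) ≫ i₁)
      (pullback.snd f' (pullback.fst i₂ h)) f (pullback.fst i₂ h ≫ i₂) :=
    (IsPullback.of_hasPullback _ _).paste_horiz hpb.flip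
  rw [pullback.condition] at e
  have : UniversallyOpen (pullback.snd f' (pullback.fst i₂ h)) :=
    MorphismProperty.of_isPullback (IsPullback.of_right' e sq) hs
  exact isOpenMap_of_isPullback (IsPullback.of_hasPullback f' (pullback.fst i₂ h))
    (isQuotientMap_of_univSubmersive hq) (Scheme.Hom.isOpenMap _)⟩


/-- Let g : S' ⟶ S be universally submersive, f : X ⟶ Y a morphism of S-schemes (Y ⟶ S the structure
map) and f' its base change along S' ⟶ S, realised as X ×_S S' ⟶ Y ×_S S'. If f' is open (resp.
closed) then so is f; if f' is universally open (resp. universally closed, resp. separated) then so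
is f; and if moreover g is quasi-compact and f locally of finite type, then f is proper as soon as
f' is. -/
theorem result {S' S X Y : Scheme.{u}} (g : S' ⟶ S) (hg : SGA1.UnivSubmersive g)
    (f : X ⟶ Y) (q : Y ⟶ S) :
    (IsOpenMap (pullback.map (f ≫ q) g q g f (𝟙 S') (𝟙 S) (Category.comp_id _) ((Category.comp_id _).trans (Category.id_comp _).symm)).base → IsOpenMap f.base) ∧
    (IsClosedMap (pullback.map (f ≫ q) g q g f (𝟙 S') (𝟙 S) (Category.comp_id _) ((Category.comp_id _).trans (Category.id_comp _).symm)).base → IsClosedMap f.base) ∧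
    (UniversallyOpen (pullback.map (f ≫ q) g q g f (𝟙 S') (𝟙 S) (Category.comp_id _) ((Category.comp_id _).trans (Category.id_comp _).symm)) → UniversallyOpen f) ∧
    (UniversallyClosed (pullback.map (f ≫ q) g q g f (𝟙 S') (𝟙 S) (Category.comp_id _) ((Category.comp_id _).trans (Category.id_comp _).symm)) → UniversallyClosed f) ∧
    (IsSeparated (pullback.map (f ≫ q) g q g f (𝟙 S') (𝟙 S) (Category.comp_id _) ((Category.comp_id _).trans (Category.id_comp _).symm)) → IsSeparated f) ∧
    (QuasiCompact g → LocallyOfFiniteType f →
      IsProper (pullback.map (f ≫ q) g q g f (𝟙 S') (𝟙 S) (Category.comp_id _) ((Category.comp_id _).trans (Category.id_comp _).symm)) → IsProper f) := by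
  let m := pullback.map (f ≫ q) g q g f (𝟙 S') (𝟙 S) (Category.comp_id _)
    ((Category.comp_id _).trans (Category.id_comp _).symm)
  have sq : IsPullback (pullback.fst (f ≫ q) g) m f (pullback.fst q g) :=
    IsPullback.of_bot (h₁₁ := pullback.fst (f ≫ q) g)
      (by rw [show m ≫ pullback.snd q g = pullback.snd _ _ from
            (pullback.lift_snd _ _ _).trans (Category.comp_id _)]
          exact IsPullback.of_hasPullback (f ≫ q) g)
      (pullback.lift_fst _ _ _).symm (IsPullback.of_hasPullback q g)
  have hh : SGA1.UnivSubmersive (pullback.fst q g) := MorphismProperty.pullback_fst _ _ hg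
  have hsep : IsSeparated m → IsSeparated f := fun hm => by
    have hd : UniversallyClosed (pullback.diagonal m) := inferInstance
    have : UniversallyClosed (pullback.diagonal f) :=
      MorphismProperty.of_isPullback_of_descendsAlong
        (P := MorphismProperty.diagonal @UniversallyClosed) (Q := SGA1.UnivSubmersive) sq.flip hh hd
    exact ⟨IsClosedImmersion.of_isPreimmersion _ (pullback.diagonal f).isClosedMap.isClosed_range⟩
  have hcl : UniversallyClosed m → UniversallyClosed f := fun hm =>
    MorphismProperty.of_isPullback_of_descendsAlong (P := @UniversallyClosed)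
      (Q := SGA1.UnivSubmersive) sq.flip hh hm
  refine ⟨isOpenMap_of_isPullback sq (isQuotientMap_of_univSubmersive hh),
    isClosedMap_of_isPullback sq (isQuotientMap_of_univSubmersive hh),
    universallyOpen_of_isPullback sq hh, hcl, hsep, fun _ hlft hp => ?_⟩
  have := hsep hp.toIsSeparated
  have := hcl hp.toUniversallyClosed
  exact ⟨⟩

end Groth.Agent.S2917
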