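import Groth.Statements.S3709
import Mathlib

set_option autoImplicit false
set_option backward.isDefEq.respectTransparency false
universe u
open SGA1

namespace Groth.Agent.S3709

open AlgebraicGeometry CategoryTheory CategoryTheory.Limits

theorem isIso_of_isOpenImmersion_surjective {A B : Scheme.{u}} (f : A ⟶ B) [IsOpenImmersion f] [Surjective f] :
    IsIso f := by
  have : Epi f.base := (TopCat.epi_iff_surjective _).2 f.surjective
  exact IsOpenImmersion.isIso f

theorem isIso_of_etale_universallyInjective_surjective {A B : Scheme.{u}} (f : A ⟶ B) [Etale f]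
    [UniversallyInjective f] [Surjective f] : IsIso f := by
  have := (UniversallyInjective.iff_diagonal f).1 inferInstance
  have : IsIso (pullback.diagonal f) := isIso_of_isOpenImmersion_surjective _
  have : Mono f := (pullback.isIso_diagonal_iff f).1 inferInstance
  have : IsOpenImmersion f := IsOpenImmersion.of_flat_of_mono f
  exact isIso_of_isOpenImmersion_surjective f

instance : (SGA1.UnivSubmersive.{u}).IsStableUnderBaseChange :=
  inferInstanceAs (MorphismProperty.universally _).IsStableUnderBaseChange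

instance : MorphismProperty.DescendsAlong @UniversallyInjective.{u} @Surjective := by
  rw [universallyInjective_eq_diagonal]
  infer_instance

/-- Sections of an etale morphism descend along universally submersive morphisms. -/
theorem existsUnique_section {X X' Z : Scheme.{u}} (a : X' ⟶ X) (ha : SGA1.UnivSubmersive a)
    (π : Z ⟶ X) [Etale π] (σ : X' ⟶ Z) (hσ : σ ≫ π = a)
    (hcoc : ∀ {T : Scheme.{u}} (t₁ t₂ : T ⟶ X'), t₁ ≫ a = t₂ ≫ a → t₁ ≫ σ = t₂ ≫ σ) :
    ∃! s : X ⟶ Z, s ≫ π = 𝟙 X ∧ a ≫ s = σ := by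
  have hqm : Topology.IsQuotientMap a.base := MorphismProperty.universally_le _ _ ha
  haveI : Surjective a := ⟨hqm.surjective⟩
  have huniq : ∀ s t : X ⟶ Z, s ≫ π = 𝟙 X → t ≫ π = 𝟙 X → a ≫ s = a ≫ t → s = t := by
    intro s t hs ht hst
    let δ := pullback.diagonal π
    let e := pullback.lift s t (hs.trans ht.symm)
    let j := pullback.snd δ e
    let k : X' ⟶ pullback δ e := pullback.lift (a ≫ s) a (by
      apply pullback.hom_ext <;> simp [δ, e, hst])
    have : Surjective j := ⟨fun x => by
      obtain ⟨x', rfl⟩ := a.surjective x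
      exact ⟨k x', by rw [← Scheme.Hom.comp_apply]; simp [k, j]⟩⟩
    have : IsIso j := isIso_of_isOpenImmersion_surjective j
    have h1 : pullback.fst δ e ≫ δ = j ≫ e := pullback.condition
    have h2 := h1 =≫ pullback.fst π π
    have h3 := h1 =≫ pullback.snd π π
    simp [δ, e] at h2 h3
    exact (cancel_epi j).1 (h2.symm.trans h3)
  let P := pullback π a
  let p₁ : P ⟶ Z := pullback.fst π a
  let p₂ : P ⟶ X' := pullback.snd π a
  let σ' : X' ⟶ P := pullback.lift σ (𝟙 X') (by rw [hσ, Category.id_comp])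
  have hσ'₁ : σ' ≫ p₁ = σ := pullback.lift_fst _ _ _
  have hσ'₂ : σ' ≫ p₂ = 𝟙 X' := pullback.lift_snd _ _ _
  haveI : Mono σ' := mono_of_mono_fac hσ'₂
  haveI : Etale σ' := by
    have : Etale (σ' ≫ p₂) := by rw [hσ'₂]; infer_instance
    exact MorphismProperty.of_postcomp _ σ' p₂ (inferInstance : Etale p₂) this
  haveI : IsOpenImmersion σ' := IsOpenImmersion.of_flat_of_mono σ'
  have hsat : p₁.base ⁻¹' (p₁.base '' Set.range σ') = Set.range σ' := by
    refine subset_antisymm ?_ (Set.subset_preimage_image _ _)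
    rintro z₂ ⟨_, ⟨x₁, rfl⟩, hz⟩
    have hz' : σ x₁ = p₁ z₂ := by rw [← hz, ← hσ'₁]; rfl
    obtain ⟨ξ, hξ₁, hξ₂⟩ := Scheme.Pullback.exists_preimage_pullback (f := σ) (g := p₁) x₁ z₂ hz'
    let t₁ := pullback.fst σ p₁
    let t₂ := pullback.snd σ p₁ ≫ p₂
    have hc : t₁ ≫ a = t₂ ≫ a := by
      rw [← hσ, pullback.condition_assoc, Category.assoc, hσ]
      exact congrArg (pullback.snd σ p₁ ≫ ·) pullback.condition
    have h : pullback.snd σ p₁ = t₂ ≫ σ' := by
      apply pullback.hom_ext
      · show pullback.snd σ p₁ ≫ p₁ = (t₂ ≫ σ') ≫ p₁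
        rw [Category.assoc, hσ'₁, ← hcoc t₁ t₂ hc, pullback.condition]
      · show pullback.snd σ p₁ ≫ p₂ = (t₂ ≫ σ') ≫ p₂
        rw [Category.assoc, hσ'₂, Category.comp_id]
    exact ⟨t₂ ξ, by rw [← hξ₂, ← Scheme.Hom.comp_apply, ← h]⟩
  have hp₁ : Topology.IsQuotientMap p₁.base :=
    MorphismProperty.universally_le _ _ (MorphismProperty.pullback_fst (P := SGA1.UnivSubmersive) π a ha)
  have hopen : IsOpen (p₁.base '' Set.range σ') := by
    rw [← hp₁.isOpen_preimage, hsat]
    exact σ'.isOpenEmbedding.isOpen_range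
  let W : Z.Opens := ⟨_, hopen⟩
  let e := W.ι ≫ π
  let Q := pullback e a
  let q : Q ⟶ P := pullback.lift (pullback.fst e a ≫ W.ι) (pullback.snd e a) (by
    rw [Category.assoc]; exact pullback.condition)
  have hqr : Set.range q ⊆ Set.range σ' := by
    rintro _ ⟨w, rfl⟩
    rw [← hsat]
    show p₁ (q w) ∈ W
    rw [← Scheme.Hom.comp_apply, pullback.lift_fst, Scheme.Hom.comp_apply]
    exact (pullback.fst e a w).2
  let k := IsOpenImmersion.lift σ' q hqr
  have hk : k ≫ σ' = q := IsOpenImmersion.lift_fac _ _ _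
  have hk2 : k = pullback.snd e a := by
    have := hk =≫ p₂
    rwa [Category.assoc, hσ'₂, Category.comp_id, pullback.lift_snd] at this
  have hσW : Set.range σ ⊆ Set.range W.ι := by
    rw [Scheme.Opens.range_ι]
    rintro _ ⟨x, rfl⟩
    exact ⟨σ' x, ⟨x, rfl⟩, by rw [← hσ'₁]; rfl⟩
  let σW : X' ⟶ W := IsOpenImmersion.lift W.ι σ hσW
  have hσWe : σW ≫ e = a := by rw [IsOpenImmersion.lift_fac_assoc, hσ]
  haveI : IsIso (pullback.snd e a) := by
    refine ⟨pullback.lift σW (𝟙 X') (by rw [hσWe, Category.id_comp]), ?_, pullback.lift_snd _ _ _⟩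
    apply pullback.hom_ext
    · rw [Category.assoc, pullback.lift_fst, Category.id_comp, ← cancel_mono W.ι, Category.assoc,
        IsOpenImmersion.lift_fac, ← hσ'₁, ← Category.assoc, ← hk2, hk, pullback.lift_fst]
    · simp
  haveI : UniversallyInjective e :=
    MorphismProperty.of_pullback_snd_of_descendsAlong (P := @UniversallyInjective) (Q := @Surjective)
      (f := e) (g := a) ‹Surjective a› inferInstance
  haveI : Surjective e := ⟨fun x => by
    obtain ⟨x', rfl⟩ := a.surjective x
    exact ⟨σW x', by rw [← Scheme.Hom.comp_apply, hσWe]⟩⟩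
  haveI : IsIso e := isIso_of_etale_universallyInjective_surjective e
  refine ⟨inv e ≫ W.ι, ⟨by rw [Category.assoc, IsIso.inv_hom_id], ?_⟩, fun t ⟨ht, hat⟩ => ?_⟩
  · rw [← Category.assoc, show a ≫ inv e = σW by rw [IsIso.comp_inv_eq, hσWe], IsOpenImmersion.lift_fac]
  · refine huniq t (inv e ≫ W.ι) ht (by rw [Category.assoc, IsIso.inv_hom_id]) ?_
    rw [hat, ← Category.assoc, show a ≫ inv e = σW by rw [IsIso.comp_inv_eq, hσWe], IsOpenImmersion.lift_fac]


open AlgebraicGeometry CategoryTheory CategoryTheory.Limits in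
/-- A universally submersive morphism is a descent morphism for etale schemes (exactness of Hom_S(X, Y)
-> Hom_S'(X', Y') => Hom_S''(X'', Y'')): let g : S' -> S be universally submersive, X and Y schemes
over S with Y etale over S, X' and Y' their base changes along g, and f' : X' -> Y' an S'-morphism
whose two pullbacks to S'' = S' x_S S' coincide (equivalently: the two composites X'' -> X' -> Y' ->
Y along the two projections agree). Then there is exactly one S-morphism u : X -> Y whose base
change is f'. -/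
theorem result {S S' X Y : Scheme.{u}} (g : S' ⟶ S) (hg : SGA1.UnivSubmersive g)
    (p : X ⟶ S) (q : Y ⟶ S) [Etale q]
    (f' : pullback p g ⟶ pullback q g) (hf' : f' ≫ pullback.snd q g = pullback.snd p g)
    (hcoc : pullback.map p (pullback.fst g g ≫ g) p g (𝟙 X) (pullback.fst g g) (𝟙 S)
        ((Category.comp_id _).trans (Category.id_comp _).symm) (Category.comp_id _) ≫ f' ≫ pullback.fst q g =
      pullback.map p (pullback.fst g g ≫ g) p g (𝟙 X) (pullback.snd g g) (𝟙 S)
        ((Category.comp_id _).trans (Category.id_comp _).symm) ((Category.comp_id _).trans pullback.condition) ≫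
        f' ≫ pullback.fst q g) :
    ∃! u : X ⟶ Y, u ≫ q = p ∧ f' ≫ pullback.fst q g = pullback.fst p g ≫ u := by
  have ha : SGA1.UnivSubmersive (pullback.fst p g) :=
    MorphismProperty.pullback_fst _ _ hg
  let φ := f' ≫ pullback.fst q g
  have hφ : φ ≫ q = pullback.fst p g ≫ p := by
    rw [Category.assoc, pullback.condition, ← Category.assoc, hf', pullback.condition]
  let σ : pullback p g ⟶ pullback p q := pullback.lift (pullback.fst p g) φ hφ.symm
  have hcoc' : ∀ {T : Scheme.{u}} (t₁ t₂ : T ⟶ pullback p g),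
      t₁ ≫ pullback.fst p g = t₂ ≫ pullback.fst p g → t₁ ≫ σ = t₂ ≫ σ := by
    intro T t₁ t₂ h
    let s := pullback.lift (t₁ ≫ pullback.snd p g) (t₂ ≫ pullback.snd p g) (by
      rw [Category.assoc, Category.assoc, ← pullback.condition, ← Category.assoc, h, Category.assoc])
    let t : T ⟶ pullback p (pullback.fst g g ≫ g) := pullback.lift (t₁ ≫ pullback.fst p g) s (by
      rw [Category.assoc, pullback.condition, pullback.lift_fst_assoc, Category.assoc])
    have e := congrArg (t ≫ ·) hcoc
    simp only [← Category.assoc] at e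
    have e₁ : t ≫ pullback.map p (pullback.fst g g ≫ g) p g (𝟙 X) (pullback.fst g g) (𝟙 S)
        ((Category.comp_id _).trans (Category.id_comp _).symm) (Category.comp_id _) = t₁ := by
      apply pullback.hom_ext <;> simp [t, s, pullback.map]
    have e₂ : t ≫ pullback.map p (pullback.fst g g ≫ g) p g (𝟙 X) (pullback.snd g g) (𝟙 S)
        ((Category.comp_id _).trans (Category.id_comp _).symm) ((Category.comp_id _).trans pullback.condition) = t₂ := by
      apply pullback.hom_ext <;> simp [t, s, pullback.map, h]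
    rw [e₁, e₂] at e
    apply pullback.hom_ext
    · simp [σ, h]
    · simpa [σ, φ, Category.assoc] using e
  obtain ⟨s, ⟨hs, hsσ⟩, huniq⟩ := existsUnique_section (pullback.fst p g) ha (pullback.fst p q) σ
    (pullback.lift_fst _ _ _) hcoc'
  refine ⟨s ≫ pullback.snd p q, ⟨?_, ?_⟩, fun u ⟨hu, hu'⟩ => ?_⟩
  · rw [Category.assoc, ← pullback.condition, ← Category.assoc, hs, Category.id_comp]
  · rw [← Category.assoc, hsσ, pullback.lift_snd]
  · have := huniq (pullback.lift (𝟙 X) u (by rw [hu, Category.id_comp]))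
      ⟨pullback.lift_fst _ _ _, by apply pullback.hom_ext <;> simp [σ, φ, hu']⟩
    rw [← this, pullback.lift_snd]

end Groth.Agent.S3709
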