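import Groth.Statements.S9216
import Groth.Agent.Limits.FibreDimLimit

set_option autoImplicit false
universe u
open CategoryTheory CategoryTheory.Limits AlgebraicGeometry
open Lim

namespace Groth.Agent.S9216

/-- Let S be a quasi-compact quasi-separated scheme, f : X → S a morphism of finite presentation and d a
natural number. Let Z be a closed subscheme of X such that every fibre of Z → S has dimension at
most d. Then there is a closed subscheme Z' of X containing Z such that Z' → X is of finite
presentation and every fibre of Z' → S has dimension at most d. -/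
theorem result {X S Z : Scheme.{u}} [CompactSpace S]
    [QuasiSeparatedSpace S] (f : X ⟶ S) [LocallyOfFinitePresentation f] [QuasiCompact f] [QuasiSeparated f]
    (d : ℕ) (ι : Z ⟶ X) [IsClosedImmersion ι] (hZ : ∀ s : S, topologicalKrullDim ↥((ι ≫ f).fiber s) ≤ d) :
    ∃ (Z' : Scheme.{u}) (ι' : Z' ⟶ X) (k : Z ⟶ Z'), IsClosedImmersion ι' ∧ LocallyOfFinitePresentation ι' ∧
      k ≫ ι' = ι ∧ ∀ s : S, topologicalKrullDim ↥((ι' ≫ f).fiber s) ≤ d := by
    exact Groth.Limits.exists_fp_closedSubscheme_dim_fiber_le f d ι hZ

end Groth.Agent.S9216
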