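import Groth.Statements.S17758
import Groth.Agent.LocCohTransform.Connectedness

set_option autoImplicit false
universe u
open LocCoh

namespace Groth.Agent.S17758

/-- Let R be a complete Noetherian local domain of Krull dimension d with maximal ideal m, and I a
proper ideal of R of arithmetic rank at most d − 2: there are elements f_1, …, f_t with t + 2 ≤ d
such that I and (f_1, …, f_t) have the same radical. Then the punctured spectrum of R ⧸ I, viewed as
the set of prime ideals of R that contain I and differ from m, is a nonempty connected subset of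
Spec R. (Connectedness is taken here to include nonemptiness, so the unit ideal, whose punctured
spectrum is empty, is excluded; for a proper I nonemptiness is automatic, since otherwise I would be
m-primary and m would be minimal over an ideal generated by t ≤ d − 2 elements, against Krull's
height bound.) -/
theorem result (R : Type u) [CommRing R] [IsDomain R] [IsNoetherianRing R] [IsLocalRing R] [IsAdicComplete (IsLocalRing.maximalIdeal R) R] (d : ℕ) (hd : ringKrullDim R = d) (t : ℕ) (ht : t + 2 ≤ d) (f : Fin t → R) (I : Ideal R) (hItop : I ≠ ⊤) (hI : I.radical = (Ideal.span (Set.range f)).radical) : IsConnected {x : PrimeSpectrum R | I ≤ x.asIdeal ∧ x.asIdeal ≠ IsLocalRing.maximalIdeal R} := by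
  classical
  have hI' : (Ideal.span ((Finset.univ.image f : Finset R) : Set R)).radical = I.radical := by
    rw [Finset.coe_image, Finset.coe_univ, Set.image_univ, hI]
  have h := Groth.LocCohTransform.Connectedness.min_le_connDim_quotient_add I hItop _ hI'
  have hirr : IrreducibleSpace (PrimeSpectrum R) := inferInstance
  have hfin : topologicalKrullDim (PrimeSpectrum R) < ⊤ := by
    rw [PrimeSpectrum.topologicalKrullDim_eq_ringKrullDim]; exact ringKrullDim_lt_top
  have hsub : LocCoh.subdim (PrimeSpectrum R) = d := by
    refine le_antisymm ((iInf₂_le Set.univ (by rw [irreducibleComponents_eq_singleton]; rfl)).trans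
      ((topologicalKrullDim_subspace_le _ _).trans ?_)) ?_
    · rw [PrimeSpectrum.topologicalKrullDim_eq_ringKrullDim, hd]
    · refine le_iInf₂ fun C hC => ?_
      rw [irreducibleComponents_eq_singleton, Set.mem_singleton_iff] at hC
      subst hC
      rw [(Homeomorph.Set.univ (PrimeSpectrum R)).isHomeomorph.topologicalKrullDim_eq,
        PrimeSpectrum.topologicalKrullDim_eq_ringKrullDim, hd]
  rw [(Groth.LocCohTransform.connDim_eq_subdim_iff hfin).2 hirr, hsub] at h
  have hle : ((1 : ℕ) : WithBot ℕ∞) ≤ LocCoh.connDim (PrimeSpectrum (R ⧸ I)) := by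
    by_contra hlt
    rw [not_le] at hlt
    haveI : Nontrivial (R ⧸ I) := Ideal.Quotient.nontrivial_iff.2 hItop
    haveI : IsLocalRing (R ⧸ I) := .of_surjective' (Ideal.Quotient.mk I) Ideal.Quotient.mk_surjective
    have h0 := Groth.LocCohTransform.Connectedness.zero_le_connDim (R := R ⧸ I)
    have hcard : (Finset.univ.image f).card ≤ t := Finset.card_image_le.trans (by simp)
    cases hcd : LocCoh.connDim (PrimeSpectrum (R ⧸ I)) with
    | bot => rw [hcd] at h0; exact absurd h0 (not_le.2 (WithBot.bot_lt_coe 0))
    | coe x =>
      cases x with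
      | top => rw [hcd] at hlt; exact absurd (lt_of_lt_of_le hlt le_top) (lt_irrefl _)
      | coe n =>
        rw [hcd] at h hlt
        rw [min_eq_right (le_add_of_nonneg_right zero_le_one)] at h
        have h1 : n < 1 := by exact_mod_cast hlt
        have h2 : d ≤ n + (Finset.univ.image f).card + 1 := by exact_mod_cast h
        omega
  let e := PrimeSpectrum.comap (Ideal.Quotient.mk I)
  have himg : {x : PrimeSpectrum R | I ≤ x.asIdeal ∧ x.asIdeal ≠ IsLocalRing.maximalIdeal R} =
      e '' ({IsLocalRing.closedPoint R} : Set (PrimeSpectrum R))ᶜ.preimage e := by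
    rw [Set.image_preimage_eq_inter_range, range_comap_of_surjective _ _ Ideal.Quotient.mk_surjective,
      Ideal.mk_ker]
    ext x
    simp [PrimeSpectrum.mem_zeroLocus, PrimeSpectrum.ext_iff, IsLocalRing.closedPoint, and_comm]
  rw [himg]
  refine IsConnected.image ?_ e (PrimeSpectrum.continuous_comap _).continuousOn
  rw [Set.preimage_compl]
  by_contra hconn
  have hZ : LocCoh.connDim (PrimeSpectrum (R ⧸ I)) ≤ topologicalKrullDim ↥(e ⁻¹' {IsLocalRing.closedPoint R}) :=
    iInf₂_le _ ⟨(PrimeSpectrum.isClosed_singleton_iff_isMaximal _ |>.2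
      (IsLocalRing.maximalIdeal.isMaximal R)).preimage (PrimeSpectrum.continuous_comap _), hconn⟩
  haveI : Subsingleton ↥(e ⁻¹' {IsLocalRing.closedPoint R}) := ⟨fun a b => Subtype.ext
    (PrimeSpectrum.comap_injective_of_surjective _ Ideal.Quotient.mk_surjective (a.2.trans b.2.symm))⟩
  have hz : topologicalKrullDim ↥(e ⁻¹' {IsLocalRing.closedPoint R}) ≤ 0 := by
    haveI : Subsingleton (TopologicalSpace.IrreducibleCloseds ↥(e ⁻¹' {IsLocalRing.closedPoint R})) :=
      ⟨fun a b => TopologicalSpace.IrreducibleCloseds.ext (by
        ext z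
        obtain ⟨x, hx⟩ := a.isIrreducible.1
        obtain ⟨y, hy⟩ := b.isIrreducible.1
        exact ⟨fun _ => Subsingleton.elim y z ▸ hy, fun _ => Subsingleton.elim x z ▸ hx⟩)⟩
    exact Order.krullDim_nonpos_of_subsingleton
  have := (hle.trans hZ).trans hz
  exact absurd this (by decide)

end Groth.Agent.S17758
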