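import Groth.Statements.S1455
import Groth.Agent.FlatMorOne.FlatStratScheme

set_option autoImplicit false
universe u
open FlatMor

namespace Groth.Agent.S1455

open AlgebraicGeometry CategoryTheory Limits in
/-- Let f : X → S be of finite presentation with X and S quasi-compact and quasi-separated, and F a
finitely presented quasi-coherent O_X-module. Then there are t ≥ 0 and ideal sheaves I_0 ≤ I_1 ≤ ...
≤ I_t = O_S on S, each of finite type, with I_0 cutting out a thickening of S (its support is all of
S), such that for each i the pullback of F to the part of X over the locally closed stratum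
supp(I_i) ∖ supp(I_{i+1}) is flat over that stratum. -/
theorem result {X S : Scheme.{u}} (f : X ⟶ S) [LocallyOfFinitePresentation f] [QuasiCompact f] [QuasiSeparated f]
    [CompactSpace ↑S] [QuasiSeparatedSpace ↑S] (F : X.Modules) (hq : Coh.IsQCoh F) (hfp : CohB1.IsFP F) :
    ∃ (t : ℕ) (I : Fin (t + 1) → S.IdealSheafData), Monotone I ∧ I (Fin.last t) = ⊤ ∧ ((I 0).support : Set ↑S) = Set.univ ∧
      (∀ i, ∀ U : S.affineOpens, ((I i).ideal U).FG) ∧
      ∀ i : Fin t, FlatMod.IsFlatOver
        (pullback.snd f (((I i.castSucc).subschemeι ⁻¹ᵁ (I i.succ).support.compl).ι ≫ (I i.castSucc).subschemeι))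
        ((Scheme.Modules.pullback (pullback.fst f (((I i.castSucc).subschemeι ⁻¹ᵁ (I i.succ).support.compl).ι ≫ (I i.castSucc).subschemeι))).obj F) := by
  haveI : F.IsQuasicoherent := hq
  obtain ⟨I₀, hI₀, hchain⟩ := Groth.FlatMorOne.exists_stratChain (f := f) hfp
  obtain ⟨t, J, hmono, h0, hlast, hfg, hflat⟩ := hchain.exists_fin
  refine ⟨t, J, hmono, hlast, by rw [h0]; exact hI₀, hfg, fun i x => ?_⟩
  refine hflat i _ ?_ ?_ _ _ (IsPullback.of_hasPullback _ _) x (Set.mem_univ _)
  · rw [Scheme.IdealSheafData.comap_comp, show (J i.castSucc).comap (J i.castSucc).subschemeι = ⊥ from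
      eq_bot_iff.mpr (Scheme.IdealSheafData.le_map_iff_comap_le.mp (by
        rw [Scheme.IdealSheafData.map_bot, Scheme.IdealSheafData.ker_subschemeι])),
      Scheme.IdealSheafData.comap_bot]
  · rw [← Scheme.IdealSheafData.support_eq_bot_iff, Scheme.IdealSheafData.support_comap]
    refine SetLike.coe_injective (Set.eq_empty_of_forall_notMem fun z hz => ?_)
    exact z.2 hz

end Groth.Agent.S1455
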