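import Groth.Statements.S11133
import Groth.Agent.CohBase.FlatBC.SecZero
import Groth.Agent.S14448

set_option autoImplicit false
universe u
open CategoryTheory AlgebraicGeometry
open Coherent

namespace Groth.Agent.S11133

/-- Let f : X → Y be quasi-compact and quasi-separated, g : Y' → Y flat, and X' the fibre product with
projections g' : X' → X, f' : X' → Y'. For a quasi-coherent O_X-module M the base change morphism
g^* f_* M → f'_* g'^* M, namely the composite g^* f_* M → g^* f_* g'_* g'^* M = g^* g_* f'_* g'^* M
→ f'_* g'^* M of the unit of g', the identification of the two composite direct images, and the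
counit of g, is an isomorphism. -/
theorem result {X Y X' Y' : Scheme.{u}} (f : X ⟶ Y) (g : Y' ⟶ Y)
    (g' : X' ⟶ X) (f' : X' ⟶ Y') (h : IsPullback g' f' f g) [QuasiCompact f] [QuasiSeparated f] [Flat g]
    (M : X.Modules) [Coh.IsQCoh M] :
    IsIso ((Scheme.Modules.pullback g).map ((Scheme.Modules.pushforward f).map
        ((Scheme.Modules.pullbackPushforwardAdjunction g').unit.app M)) ≫
      (Scheme.Modules.pullback g).map ((Scheme.Modules.pushforwardComp g' f ≪≫
          Scheme.Modules.pushforwardCongr h.w ≪≫ (Scheme.Modules.pushforwardComp f' g).symm).hom.app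
        ((Scheme.Modules.pullback g').obj M)) ≫
      (Scheme.Modules.pullbackPushforwardAdjunction g).counit.app
        ((Scheme.Modules.pushforward f').obj ((Scheme.Modules.pullback g').obj M))) := by
  set v := (Scheme.Modules.pushforward f).map ((Scheme.Modules.pullbackPushforwardAdjunction g').unit.app M) ≫
      (Scheme.Modules.pushforwardComp g' f).hom.app ((Scheme.Modules.pullback g').obj M) ≫
      (Scheme.Modules.pushforwardCongr h.w).hom.app ((Scheme.Modules.pullback g').obj M) ≫
      (Scheme.Modules.pushforwardComp f' g).inv.app ((Scheme.Modules.pullback g').obj M) with hv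
  have hc : (Scheme.Modules.pullback g).map ((Scheme.Modules.pushforward f).map
        ((Scheme.Modules.pullbackPushforwardAdjunction g').unit.app M)) ≫
      (Scheme.Modules.pullback g).map ((Scheme.Modules.pushforwardComp g' f ≪≫
          Scheme.Modules.pushforwardCongr h.w ≪≫ (Scheme.Modules.pushforwardComp f' g).symm).hom.app
        ((Scheme.Modules.pullback g').obj M)) ≫
      (Scheme.Modules.pullbackPushforwardAdjunction g).counit.app
        ((Scheme.Modules.pushforward f').obj ((Scheme.Modules.pullback g').obj M)) =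
      ((Scheme.Modules.pullbackPushforwardAdjunction g).homEquiv ((Scheme.Modules.pushforward f).obj M)
        ((Scheme.Modules.pushforward f').obj ((Scheme.Modules.pullback g').obj M))).symm v := by
    rw [Adjunction.homEquiv_counit, hv]
    simp only [Functor.map_comp, Iso.trans_hom, NatTrans.comp_app, Iso.symm_hom, Category.assoc]
  rw [hc]
  haveI : M.IsQuasicoherent := ‹Coh.IsQCoh M›
  refine Groth.LocFree.isIso_of_small_affine _ fun x W hx => ?_
  obtain ⟨U, hU, hgx, -⟩ := exists_isAffineOpen_mem_and_subset (U := (⊤ : Y.Opens)) (x := g.base x) trivial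
  obtain ⟨V, hV, hxV, hVW⟩ := exists_isAffineOpen_mem_and_subset (U := W ⊓ g ⁻¹ᵁ U) (x := x) ⟨hx, hgx⟩
  refine ⟨V, hV, hxV, fun y hy => (hVW hy).1, ?_⟩
  refine Groth.CohBase.FlatBC.SecZero.bijective_app M h _ ?_ hU hV (fun y hy => (hVW hy).2)
  intro U V e e' m
  have eq : g' ⁻¹ᵁ f ⁻¹ᵁ U = f' ⁻¹ᵁ g ⁻¹ᵁ U := by
    rw [← Scheme.Hom.comp_preimage, h.w, Scheme.Hom.comp_preimage]
  have e1 := Groth.Agent.S14448.symm_pullSec g (M := (Scheme.Modules.pushforward f).obj M)
    (N := (Scheme.Modules.pushforward f').obj ((Scheme.Modules.pullback g').obj M)) v (U := U) m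
  rw [Groth.PicAux.app_res, e1]
  refine Eq.trans (congrArg (Groth.PicAux.res _ e) ?_) (?_ : Groth.PicAux.res _ e
    (Groth.PicAux.res ((Scheme.Modules.pullback g').obj M) eq.ge (Groth.PicAux.pullSec g' M m) :) = _)
  · simp only [hv, Scheme.Modules.Hom.comp_app, CategoryTheory.comp_apply, Scheme.Modules.pushforwardComp_hom_app_app,
      Scheme.Modules.pushforwardComp_inv_app_app, Scheme.Modules.pushforwardCongr_hom_app_app]
    rfl
  · exact Groth.PicAux.res_res eq.ge (f'.preimage_mono e) _

end Groth.Agent.S11133
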