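import Groth.Statements.S7420
import Groth.Agent.HTopHyper.Local

set_option autoImplicit false
universe u
open CategoryTheory AlgebraicGeometry
open HTop

namespace Groth.Agent.S7420

/-- A scheme `X` is seminormal if and only if `O_X(U)` is seminormal for every affine open `U ⊆ X`; the
same holds with 'seminormal' replaced by 'absolutely weakly normal'. -/
theorem result (X : Scheme.{u}) :
    (HTop.IsSeminormal X ↔ ∀ U : X.affineOpens, HTop.IsSeminormalRing Γ(X, U)) ∧
    (HTop.IsAWN X ↔ ∀ U : X.affineOpens, HTop.IsAWNRing Γ(X, U)) := by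
  refine ⟨⟨Groth.HTopHyper.forall_affine_of_isSeminormal, fun h x => ?_⟩,
    ⟨Groth.HTopHyper.forall_affine_of_isAWN, fun h x => ?_⟩⟩
  all_goals
    obtain ⟨U, hU, hx, -⟩ := X.isBasis_affineOpens.exists_subset_of_mem_open (Set.mem_univ x) isOpen_univ
    obtain ⟨V, hV, rfl⟩ := hU
    exact ⟨⟨V, hV⟩, hx, h _⟩

end Groth.Agent.S7420
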