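import Groth.Statements.S11510
import Groth.Agent.PnEuler.LinRestrict
import Groth.Agent.PnEuler.OmegaTwist
import Groth.Agent.SerreH0.Basic
import Groth.Agent.LocFree.Tensor
import Groth.Agent.Duality.PnStalk
-- import your own Groth.Agent.* helpers here

set_option autoImplicit false
universe u
open VBPn

attribute [local instance] CategoryTheory.Limits.HasFiniteBiproducts.of_hasFiniteProducts

namespace Groth.Agent.S11510

open CategoryTheory CategoryTheory.Limits AlgebraicGeometry Groth.PicAux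

variable {n : ℕ} {k : Type u} [Field k]

theorem hom_twist_eq_zero (hn : 1 ≤ n) {d : ℤ} (hd : d < 0)
    (σ : Coh.structureModule (CohB1.ProjSpace n k) ⟶ Twist.twistProjSpace n k d) : σ = 0 := by
  by_contra h
  exact (Groth.SerreH0.sections_ne_zero_iff _).2 ⟨σ, h⟩
    (Groth.PnCoh.subsingleton_HH_twist (n := n) (R := k) d 0 (by omega) (by omega))

theorem hom_omega_eq_zero (hn : 1 ≤ n)
    (σ : Coh.structureModule (CohB1.ProjSpace n k) ⟶ Omega.sheaf (CohB1.ProjSpace.toSpec n k)) : σ = 0 := by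
  haveI : Mono (Groth.PnEuler.iota n k) := (Groth.PnEuler.shortExact_eulerSeq (n := n) (R := k)).mono_f
  refine (cancel_mono (Groth.PnEuler.iota n k)).1 ?_
  rw [zero_comp]
  exact biproduct.hom_ext (f := Groth.PnEuler.fam n k) _ _ fun l =>
    (hom_twist_eq_zero hn (by norm_num) _).trans zero_comp.symm


open CategoryTheory CategoryTheory.Limits AlgebraicGeometry in
/-- Let k be an algebraically closed field of characteristic zero, u : O(−1) → Ω^1 ⊗ O(1) a monomorphism
of O-modules on P^3_k with cokernel M finite locally free of rank 2 (the dual of a null-correlation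
bundle N; N|H ≅ M|H as c_1 = 0), and i : P^2_k → P^3_k a closed immersion of k-schemes along which
O(1) pulls back to O(1), the embedding of a plane H. Then H^0(P^2_k, i^*M ⊗ O(−1)) = 0 while
H^0(P^2_k, i^*M) ≠ 0. The published statement says N|H is semistable but not stable; for rank 2 with
c_1 = 0 this is the pair of conditions stated here. -/
theorem result (k : Type u) [Field k] [IsAlgClosed k] [CharZero k]
    (u : Twist.twistProjSpace 3 k (-1) ⟶
      CohB1.tensorMod (Omega.sheaf (CohB1.ProjSpace.toSpec 3 k)) (Twist.twistProjSpace 3 k 1))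
    [Mono u] (hM : FlatMod.IsFinLocFreeOfRank 2 (cokernel u))
    (i : CohB1.ProjSpace 2 k ⟶ CohB1.ProjSpace 3 k) [IsClosedImmersion i]
    (hi : i ≫ CohB1.ProjSpace.toSpec 3 k = CohB1.ProjSpace.toSpec 2 k)
    (hO : Nonempty ((Scheme.Modules.pullback i).obj (Twist.twistProjSpace 3 k 1) ≅ Twist.twistProjSpace 2 k 1)) :
    Subsingleton (Coh.HH (CohB1.ProjSpace 2 k)
        (CohB1.tensorMod ((Scheme.Modules.pullback i).obj (cokernel u)) (Twist.twistProjSpace 2 k (-1))) 0) ∧
      Nontrivial (Coh.HH (CohB1.ProjSpace 2 k) ((Scheme.Modules.pullback i).obj (cokernel u)) 0) := by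
  obtain ⟨eO⟩ := hO
  let P := Scheme.Modules.pullback i
  haveI : PreservesColimitsOfSize.{0, 0} P :=
    (Scheme.Modules.pullbackPushforwardAdjunction i).leftAdjoint_preservesColimits
  let f := CohB1.ProjSpace.toSpec 2 k
  have h1 : ∀ d, PicF.IsInvertible (Twist.twistProjSpace 2 k d) := Groth.PnCoh.isInvertible_twist 2 k
  have hinv3 : ∀ d, PicF.IsInvertible (Twist.twistProjSpace 3 k d) := Groth.PnCoh.isInvertible_twist 3 k
  let S : ShortComplex (CohB1.ProjSpace 3 k).Modules := ShortComplex.mk u (cokernel.π u) (cokernel.condition u)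
  have hS : S.ShortExact :=
    { exact := ShortComplex.exact_of_g_is_cokernel _ (cokernelIsCokernel u) }
  have hS' := Groth.KTheory.KvbPull.shortExact_pullback i hS
    (Groth.LocFree.isFinLocFree_of_rank (Groth.LocFree.isInvertible_iff_ofRank_one.1 (hinv3 (-1))))
    (Groth.LocFree.isFinLocFree_of_rank (Groth.LocFree.isFinLocFreeOfRank_tensorMod
      Groth.PnEuler.isFinLocFreeOfRank_omega (Groth.LocFree.isInvertible_iff_ofRank_one.1 (hinv3 1))))
    (Groth.LocFree.isFinLocFree_of_rank hM)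
  obtain ⟨e₁⟩ : Nonempty (P.obj (Twist.twistProjSpace 3 k (-1)) ≅ Twist.twistProjSpace 2 k (-1)) := by
    have h := isInverseOf_pullback i (Groth.Duality.Pn.isInverseOf_twist 3 k 1)
    obtain ⟨t⟩ := Groth.Duality.Pn.isInverseOf_twist 2 k 1
    exact isInverseOf_unique h ⟨PicGrp.tensorModIso eO (Iso.refl _) ≪≫ t⟩
  obtain ⟨q, hq, ⟨eΩ⟩⟩ := Groth.PnEuler.nonempty_pullback_omega (m := 2) (n := 3) i ⟨eO⟩
  obtain rfl : q = 1 := by omega
  let R := Omega.sheaf (CohB1.ProjSpace.toSpec 2 k) ⊞ Twist.twistProjSpace 2 k (-1)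
  let eR : P.obj (Omega.sheaf (CohB1.ProjSpace.toSpec 3 k)) ≅ R :=
    eΩ ≪≫ biprod.mapIso (Iso.refl _) (biproductUniqueIso _)
  let F := DCoh.tensorRightMod (Twist.twistProjSpace 2 k 1)
  haveI := isEquivalence_tensorRightMod_of_isInvertible (h1 1)
  haveI := isEquivalence_tensorRightMod_of_isInvertible (h1 (-1))
  haveI : F.Additive := Functor.additive_of_preserves_binary_products F
  let G := DCoh.tensorRightMod (Twist.twistProjSpace 2 k (-1))
  haveI : G.Additive := Functor.additive_of_preserves_binary_products G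
  obtain ⟨eT, -⟩ := exists_pullback_tensorMod i (Omega.sheaf (CohB1.ProjSpace.toSpec 3 k))
    (Twist.twistProjSpace 3 k 1)
  let eX : P.obj (CohB1.tensorMod (Omega.sheaf (CohB1.ProjSpace.toSpec 3 k)) (Twist.twistProjSpace 3 k 1)) ≅
      F.obj R := eT ≪≫ PicGrp.tensorModIso eR eO
  obtain ⟨e3⟩ := Groth.PnCoh.nonempty_twist_zero_iso (CohB1.polyGrading 2 k)
  constructor
  · have hT := shortExact_tensorRightMod (h1 (-1)) hS'
    obtain ⟨e2⟩ := Groth.Duality.Pn.nonempty_twist_tensor 2 k (-1) (-1)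
    obtain ⟨as, -⟩ := exists_associator R (Twist.twistProjSpace 2 k 1) (Twist.twistProjSpace 2 k (-1))
    obtain ⟨t⟩ := Groth.Duality.Pn.isInverseOf_twist 2 k 1
    let eY : G.obj (F.obj R) ≅ R := as ≪≫ PicGrp.tensorModIso (Iso.refl R) t ≪≫ SecTwist.unitorR R
    haveI : Subsingleton (CohFin.HA f ((S.map P).map G).X₁ 1) :=
      Groth.PnCoh.subsingleton_HH_of_iso f
        (G.mapIso e₁ ≪≫ e2 ≪≫ eqToIso (congrArg (Twist.twistProjSpace 2 k) (show (-1 : ℤ) + -1 = -2 by norm_num))).symm
        (Groth.PnCoh.subsingleton_HH_twist (n := 2) (R := k) (-2) 1 (by omega) (by omega))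
    haveI : Subsingleton (CohFin.HA f ((S.map P).map G).X₂ 0) := by
      by_contra h
      obtain ⟨σ, hσ⟩ := (Groth.SerreH0.sections_ne_zero_iff _).1 h
      apply hσ
      refine (cancel_mono (G.mapIso eX ≪≫ eY).hom).1 ?_
      refine (biprod.hom_ext _ _ ?_ ?_).trans zero_comp.symm
      · exact (hom_omega_eq_zero (by norm_num) _).trans zero_comp.symm
      · exact (hom_twist_eq_zero (by norm_num) (by norm_num) _).trans zero_comp.symm
    refine subsingleton_of_forall_eq (0 : CohFin.HA f ((S.map P).map G).X₃ 0) fun x => ?_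
    obtain ⟨y, rfl⟩ := (CohFin.exact_mapL_delta (f := f) hT 0 x).1 (Subsingleton.elim _ _)
    rw [Subsingleton.elim y 0, map_zero]
  · by_contra hnt
    rw [not_nontrivial_iff_subsingleton] at hnt
    obtain ⟨e2⟩ := Groth.Duality.Pn.nonempty_twist_tensor 2 k (-1) 1
    let eO' : Coh.structureModule (CohB1.ProjSpace 2 k) ≅ F.obj (Twist.twistProjSpace 2 k (-1)) :=
      e3.symm ≪≫ eqToIso (congrArg (Twist.twistProjSpace 2 k) (show (0 : ℤ) = -1 + 1 by norm_num)) ≪≫ e2.symm
    let σ : Coh.structureModule (CohB1.ProjSpace 2 k) ⟶ (S.map P).X₂ :=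
      eO'.hom ≫ F.map biprod.inr ≫ eX.inv
    have hσ : σ ≠ 0 := by
      intro h
      have h2 : F.map (biprod.inr : Twist.twistProjSpace 2 k (-1) ⟶ R) = 0 :=
        (cancel_mono eX.inv).1 (((cancel_epi eO'.hom).1 (h.trans comp_zero.symm)).trans zero_comp.symm)
      have h3 : (biprod.inr : Twist.twistProjSpace 2 k (-1) ⟶ R) = 0 :=
        F.map_injective (h2.trans (F.map_zero _ _).symm)
      have h4 : 𝟙 (Twist.twistProjSpace 2 k (-1)) = 0 := by
        rw [← biprod.inr_snd (X := Omega.sheaf (CohB1.ProjSpace.toSpec 2 k)), h3, zero_comp]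
      have h6 : eO'.hom = 0 := by
        rw [← Category.comp_id eO'.hom, ← F.map_id, h4, F.map_zero, comp_zero]
      have h7 : 𝟙 (Coh.structureModule (CohB1.ProjSpace 2 k)) = 0 := by
        rw [← eO'.hom_inv_id, h6, zero_comp]
      have h8 : oneSec (CohB1.ProjSpace 2 k) ⊤ = 0 :=
        congr(($h7).app ⊤ (oneSec (CohB1.ProjSpace 2 k) ⊤))
      haveI : Nonempty ↥(CohB1.ProjSpace 2 k) := (Groth.Duality.Pn.irreducibleSpace_projSpace 2 k).toNonempty
      haveI : Nonempty ((⊤ : (CohB1.ProjSpace 2 k).Opens)) := ⟨⟨Classical.arbitrary _, trivial⟩⟩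
      have h9 : (1 : Γ(CohB1.ProjSpace 2 k, ⊤)) = 0 :=
        ((gen_oneSec (X := CohB1.ProjSpace 2 k) ⊤) ⊤ le_rfl).1 (by
          simp only [res_oneSec, one_smul, zero_smul]
          exact h8)
      exact one_ne_zero h9
    have hne : ¬ Subsingleton (CohFin.HA f (S.map P).X₂ 0) := (Groth.SerreH0.sections_ne_zero_iff _).2 ⟨σ, hσ⟩
    refine hne (subsingleton_of_forall_eq 0 fun y => ?_)
    haveI : Subsingleton (CohFin.HA f (S.map P).X₁ 0) :=
      Groth.PnCoh.subsingleton_HH_of_iso f e₁.symm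
        (Groth.PnCoh.subsingleton_HH_twist (n := 2) (R := k) (-1) 0 (by omega) (by omega))
    have hy : CohFin.mapL f (S.map P).g 0 y = 0 := @Subsingleton.elim _ hnt _ _
    obtain ⟨z, rfl⟩ := (CohFin.exact_mapL_mapL (f := f) hS' 0 y).1 hy
    rw [Subsingleton.elim z 0, map_zero]

end Groth.Agent.S11510
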