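import Groth.Statements.S11505
import Groth.Agent.PnEuler.RankTwoEnd
-- import your own Groth.Agent.* helpers here

set_option autoImplicit false
universe u
open VBPn

open CategoryTheory CategoryTheory.Limits AlgebraicGeometry Opposite TopologicalSpace
open Groth.PicAux Groth.LocFree Groth.Agent.S11506

namespace Groth.Agent.S11505

variable {k : Type u} [Field k] {n : ℕ}

local notation "P" => CohB1.ProjSpace n k
local notation "O(" d ")" => Twist.twistProjSpace n k d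

theorem isIntegral_P : IsIntegral P := by
  haveI : Nonempty ↥(CohB1.ProjSpace n k) :=
    ⟨(Groth.PnCoh.overIso n k).inv (genericPoint _)⟩
  exact isIntegral_of_isOpenImmersion (Groth.PnCoh.overIso n k).hom

/-- Quadratic equation with constant coefficients of an endomorphism of a plane bundle. -/
theorem exists_quadratic {E : (CohB1.ProjSpace n k).Modules} (hE : FlatMod.IsFinLocFreeOfRank 2 E)
    {c : ℤ} (e : extPow 2 E ≅ Twist.twistProjSpace n k c) (φ : E ⟶ E) :
    ∃ τ δ : k, ∀ (U : (CohB1.ProjSpace n k).Opens) (x : Γ(E, U)),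
      φ.app U (φ.app U x) - PnEuler.scal U τ • φ.app U x + PnEuler.scal U δ • x = 0 := by
  haveI := KTheory.LocFree.isQCoh (isFinLocFree_of_rank hE)
  have key : ∀ θ : extPow 2 E ⟶ extPow 2 E, ∃ r : k, ∀ (U : (CohB1.ProjSpace n k).Opens) (s : Γ(extPow 2 E, U)),
      θ.app U s = PnEuler.scal U r • s := fun θ => by
    obtain ⟨r, hr⟩ := PnEuler.exists_hom_twist_eq_scal c (e.inv ≫ θ ≫ e.hom)
    refine ⟨r, fun U s => ?_⟩
    have h1 : e.hom.app U (θ.app U s) = PnEuler.scal U r • e.hom.app U s := by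
      rw [← hr U (e.hom.app U s)]
      exact congr($((Iso.hom_inv_id_assoc e (θ ≫ e.hom)).symm).app U s)
    refine (ConcreteCategory.bijective_of_isIso (e.hom.app U)).1 (h1.trans ?_)
    exact (Scheme.Modules.Hom.app_smul _ _ _).symm
  obtain ⟨δ, hδ⟩ := key (extHom 2 φ)
  obtain ⟨δ₁, hδ₁⟩ := key (extHom 2 (φ - 𝟙 E))
  refine ⟨1 + δ - δ₁, δ, fun U x => ?_⟩
  choose V s hV hxV hs using fun y : ↥(CohB1.ProjSpace n k) => exists_affine_basis_ofRank hE y
  have hcov : iSup V = ⊤ := eq_top_iff.2 fun y _ => Opens.mem_iSup.2 ⟨y, hxV y⟩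
  refine res_ext (fun y => U ⊓ V y) (fun _ => inf_le_left) (le_iSup_inf hcov U) fun y => ?_
  rw [res_zero, res_add, show ∀ a b, res E (inf_le_left : U ⊓ V y ≤ U) (a - b) = res _ _ a - res _ _ b
    from map_sub _, res_smul, res_smul, ← app_res, ← app_res]
  rw [show resX (CohB1.ProjSpace n k) inf_le_left (PnEuler.scal U (1 + δ - δ₁)) =
      PnEuler.scal (U ⊓ V y) (1 + δ - δ₁) from PnEuler.res_scal _ _,
    show resX (CohB1.ProjSpace n k) inf_le_left (PnEuler.scal U δ) =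
      PnEuler.scal (U ⊓ V y) δ from PnEuler.res_scal _ _]
  generalize res E (inf_le_left : U ⊓ V y ≤ U) x = z
  have hW : U ⊓ V y ≤ V y := inf_le_right
  generalize U ⊓ V y = W at hW z ⊢
  let B₀ := basisOfBasis' (hs y) (le_refl (V y))
  let B := basisOfBasis' (hs y) hW
  have hB : ∀ j, B j = res E hW (B₀ j) := fun j => by
    simp [B, B₀, basisOfBasis', res_self]
  -- the determinant on the basis
  have hinj : ∀ a : Γ(CohB1.ProjSpace n k, V y), a • wdg (V y) (B₀ 0) (B₀ 1) = 0 → a = 0 := by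
    intro a ha
    rw [wdg_eq, ← map_smul] at ha
    have h1 := (extUnit_bijective 2 E (hV y)).1 (ha.trans (map_zero _).symm)
    have h2 := congrArg (exteriorPower.alternatingMapLinearEquiv B₀.det) h1
    rw [map_smul, exteriorPower.alternatingMapLinearEquiv_apply_ιMulti,
      show ![B₀ 0, B₀ 1] = ⇑B₀ by funext i; fin_cases i <;> rfl, B₀.det_self, smul_eq_mul, mul_one] at h2
    exact h2.trans (map_zero _)
  let a := B₀.repr (φ.app (V y) (B₀ 0)) 0
  let c' := B₀.repr (φ.app (V y) (B₀ 0)) 1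
  let b := B₀.repr (φ.app (V y) (B₀ 1)) 0
  let d := B₀.repr (φ.app (V y) (B₀ 1)) 1
  have h0 : φ.app (V y) (B₀ 0) = a • B₀ 0 + c' • B₀ 1 := by
    conv_lhs => rw [← B₀.sum_repr (φ.app (V y) (B₀ 0)), Fin.sum_univ_two]
  have h1 : φ.app (V y) (B₀ 1) = b • B₀ 0 + d • B₀ 1 := by
    conv_lhs => rw [← B₀.sum_repr (φ.app (V y) (B₀ 1)), Fin.sum_univ_two]
  have hdet : ∀ (θ : E ⟶ E) (r : k) (p q r' t : Γ(CohB1.ProjSpace n k, V y)),
      (∀ (U : (CohB1.ProjSpace n k).Opens) (s : Γ(extPow 2 E, U)), (extHom 2 θ).app U s = PnEuler.scal U r • s) →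
      θ.app (V y) (B₀ 0) = p • B₀ 0 + r' • B₀ 1 → θ.app (V y) (B₀ 1) = q • B₀ 0 + t • B₀ 1 →
      p * t - q * r' = PnEuler.scal (V y) r := by
    intro θ r p q r' t hθ hθ0 hθ1
    refine sub_eq_zero.1 (hinj _ ?_)
    have h := hθ (V y) (wdg (V y) (B₀ 0) (B₀ 1))
    change (extHom 2 θ).app (V y) (wedge 2 E ![B₀ 0, B₀ 1]) = _ at h
    rw [extHom_wedge, show (fun j => θ.app (V y) (![B₀ 0, B₀ 1] j)) =
        ![θ.app (V y) (B₀ 0), θ.app (V y) (B₀ 1)] by funext j; fin_cases j <;> rfl] at h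
    change wdg (V y) _ _ = _ at h
    rw [hθ0, hθ1, wdg_add, wdg_smul, wdg_smul, wdg_swap (V y) (_ + _) (B₀ 0),
      wdg_swap (V y) (_ + _) (B₀ 1), wdg_add, wdg_add, wdg_smul, wdg_smul, wdg_smul, wdg_smul,
      wdg_self, wdg_self, wdg_swap (V y) (B₀ 0) (B₀ 1)] at h
    rw [sub_smul, ← h]
    module
  have hd : a * d - b * c' = PnEuler.scal (V y) δ := hdet φ δ a b c' d hδ h0 h1
  have hd₁ : (a - 1) * (d - 1) - b * c' = PnEuler.scal (V y) δ₁ := by
    refine hdet (φ - 𝟙 E) δ₁ (a - 1) b c' (d - 1) hδ₁ ?_ ?_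
    · change φ.app (V y) (B₀ 0) - B₀ 0 = _
      rw [h0]; module
    · change φ.app (V y) (B₀ 1) - B₀ 1 = _
      rw [h1]; module
  have hτ : a + d = PnEuler.scal (V y) (1 + δ - δ₁) := by
    rw [map_sub, map_add, map_one]
    linear_combination hd - hd₁
  have hbasis : ∀ j, φ.app (V y) (φ.app (V y) (B₀ j)) - PnEuler.scal (V y) (1 + δ - δ₁) • φ.app (V y) (B₀ j) +
      PnEuler.scal (V y) δ • B₀ j = 0 := fun j => by
    rw [← hτ, ← hd]
    fin_cases j <;>
      simp only [Fin.zero_eta, Fin.mk_one, h0, h1, map_add, Scheme.Modules.Hom.app_smul] <;> module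
  have hB' : ∀ j, φ.app W (φ.app W (B j)) - PnEuler.scal W (1 + δ - δ₁) • φ.app W (B j) +
      PnEuler.scal W δ • B j = 0 := fun j => by
    have h := congrArg (res E hW) (hbasis j)
    rw [res_add, show ∀ p q, res E hW (p - q) = res _ _ p - res _ _ q from map_sub _, res_smul,
      res_smul, res_zero, ← app_res, ← app_res, ← hB] at h
    rw [← show resX (CohB1.ProjSpace n k) hW (PnEuler.scal (V y) (1 + δ - δ₁)) =
        PnEuler.scal W (1 + δ - δ₁) from PnEuler.res_scal _ _,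
      ← show resX (CohB1.ProjSpace n k) hW (PnEuler.scal (V y) δ) =
        PnEuler.scal W δ from PnEuler.res_scal _ _]
    exact h
  rw [← B.sum_repr z, Fin.sum_univ_two]
  simp only [map_add, Scheme.Modules.Hom.app_smul]
  linear_combination (norm := module) (B.repr z 0) • hB' 0 + (B.repr z 1) • hB' 1

theorem exists_mono_section {X : Scheme.{u}} {N E M : X.Modules} (hM : PicF.IsInvertible M) (ι : N ⟶ E)
    [Mono ι] (e : Coh.structureModule X ≅ CohB1.tensorMod N M) :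
    ∃ s : Coh.structureModule X ⟶ CohB1.tensorMod E M, Mono s := by
  haveI := Groth.PicAux.isEquivalence_tensorRightMod_of_isInvertible hM
  have h : Mono ((DCoh.tensorRightMod M).map ι) := inferInstance
  rw [KoszTw.tensorRightMod_map] at h
  exact ⟨e.hom ≫ KoszTw.tensorMap ι (𝟙 M), @mono_comp _ _ _ _ _ e.hom inferInstance _ h⟩

theorem exists_hom_untwist {X : Scheme.{u}} {L R A Q E : X.Modules} (hQ : PicF.IsInvertible Q)
    (μ : L ⟶ CohB1.tensorMod E A) (hμ : μ ≠ 0) (eR : CohB1.tensorMod L Q ≅ R)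
    (e : CohB1.tensorMod A Q ≅ Coh.structureModule X) : ∃ τ : R ⟶ E, τ ≠ 0 := by
  haveI := Groth.PicAux.isEquivalence_tensorRightMod_of_isInvertible hQ
  obtain ⟨as, -⟩ := exists_associator E A Q
  let b : CohB1.tensorMod (CohB1.tensorMod E A) Q ≅ E :=
    as ≪≫ PicGrp.tensorModIso (Iso.refl E) e ≪≫ SecTwist.unitorR E
  let m : CohB1.tensorMod L Q ⟶ CohB1.tensorMod (CohB1.tensorMod E A) Q := KoszTw.tensorMap μ (𝟙 Q)
  have hm : m ≠ 0 := by
    intro h0
    refine hμ ((DCoh.tensorRightMod Q).map_injective ?_)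
    rw [Functor.map_zero, KoszTw.tensorRightMod_map]
    exact h0
  exact ⟨eR.inv ≫ m ≫ b.hom, fun h0 => hm ((cancel_mono b.hom).1
    (((cancel_epi eR.inv).1 (h0.trans comp_zero.symm)).trans zero_comp.symm))⟩

/-- A plane bundle on `ℙⁿ` with `H⁰(E(k₀)) = 0` receives no nonzero map from `O(m)`, `m ≥ -k₀`. -/
theorem hom_eq_zero {E : (CohB1.ProjSpace n k).Modules} (hE : FlatMod.IsFinLocFreeOfRank 2 E) (k₀ : ℤ)
    (h0 : Subsingleton (Coh.HH (CohB1.ProjSpace n k) (CohB1.tensorMod E (Twist.twistProjSpace n k k₀)) 0))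
    {m : ℤ} (hm : -k₀ ≤ m) (σ : Twist.twistProjSpace n k m ⟶ E) : σ = 0 := by
  haveI := isIntegral_P (n := n) (k := k)
  letI : (CohB1.ProjSpace n k).Over (Spec (CommRingCat.of k)) := ⟨CohB1.ProjSpace.toSpec n k⟩
  have hinv : ∀ d, PicF.IsInvertible (Twist.twistProjSpace n k d) :=
    fun d => Groth.PnCoh.isInvertible_twist n k d
  by_contra hσ
  haveI := RankTwo.mono_of_ne_zero (hinv m) hE hσ
  obtain ⟨d, hd⟩ : ∃ d : ℕ, (d : ℤ) + -k₀ = m := ⟨(m + k₀).toNat, by omega⟩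
  let p : MvPolynomial.homogeneousSubmodule (Fin (n + 1)) k d :=
    ⟨MvPolynomial.X 0 ^ d, MvPolynomial.isHomogeneous_X_pow _ _⟩
  have hp : p ≠ 0 := fun h => pow_ne_zero d (MvPolynomial.X_ne_zero (0 : Fin (n + 1))) (congrArg Subtype.val h)
  have hz : Groth.EulerDeg.h0Equiv k (Twist.twistProjSpace n k (d : ℤ))
      (Groth.PnCoh.h0Equiv (n := n) (R := k) d p) ≠ 0 := fun h =>
    hp ((LinearEquiv.map_eq_zero_iff _).1 ((LinearEquiv.map_eq_zero_iff _).1 h))
  obtain ⟨j, hj⟩ := exists_mono_tensor (hinv _) (hinv (-k₀)) _ hz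
  obtain ⟨e1⟩ := Groth.Duality.Pn.nonempty_twist_tensor n k (d : ℤ) (-k₀)
  let ι : Twist.twistProjSpace n k (-k₀) ⟶ E :=
    j ≫ (e1 ≪≫ eqToIso (congrArg (Twist.twistProjSpace n k) hd)).hom ≫ σ
  haveI := hj
  have hι : Mono ι := by simp only [ι]; infer_instance
  obtain ⟨e2⟩ := Groth.Duality.Pn.nonempty_twist_tensor n k (-k₀) k₀
  obtain ⟨e3⟩ := Groth.PnCoh.nonempty_twist_zero_iso (CohB1.polyGrading n k)
  let e4 : Coh.structureModule (CohB1.ProjSpace n k) ≅
      CohB1.tensorMod (Twist.twistProjSpace n k (-k₀)) (Twist.twistProjSpace n k k₀) :=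
    e3.symm ≪≫ eqToIso (congrArg (Twist.twistProjSpace n k) (show (0 : ℤ) = -k₀ + k₀ by omega)) ≪≫ e2.symm
  obtain ⟨s, hs⟩ := exists_mono_section (hinv k₀) ι e4
  have hv : s.app ⊤ (oneSec _ ⊤) = 0 := by
    have h1 := h0.elim ((Groth.EulerDeg.h0Equiv k _).symm (s.app ⊤ (oneSec _ ⊤))) 0
    exact (LinearEquiv.map_eq_zero_iff _).1 h1
  have hs0 : s = 0 := hom_structure_ext (hv.trans (by rfl))
  have h1 : IsZero (Coh.structureModule (CohB1.ProjSpace n k)) :=
    IsZero.of_mono_eq_zero s hs0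
  have h2 : oneSec (CohB1.ProjSpace n k) ⊤ = 0 :=
    congr(($(h1.eq_of_src (𝟙 (Coh.structureModule (CohB1.ProjSpace n k))) 0)).app ⊤ (oneSec _ ⊤))
  have h3 : (1 : Γ(CohB1.ProjSpace n k, ⊤)) = 0 := ((gen_oneSec (X := CohB1.ProjSpace n k) ⊤) ⊤ le_rfl).1 (by
    simp only [res_oneSec, one_smul, zero_smul]
    exact h2)
  exact one_ne_zero h3

/-- Every invertible module on `ℙⁿ` over a field is a twist. -/
theorem exists_twist_iso (M : (CohB1.ProjSpace n k).Modules) (hM : PicF.IsInvertible M) :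
    ∃ a : ℤ, Nonempty (M ≅ Twist.twistProjSpace n k a) := by
  obtain ⟨a, ha⟩ := PicAux.ProjBundlePic.exists_eq_twK (n := n) k (PicGrp.cls M hM)
  exact ⟨a, (Groth.Abvar.PicCalc.nonempty_iso_iff hM (PicAux.ProjBundlePic.isInvertible_twK n k a)).2 ha⟩


open CategoryTheory CategoryTheory.Limits AlgebraicGeometry in
/-- Let k be a characteristic-zero algebraically closed field and E a finite locally free O-module of
rank 2 on P^n_k with a second exterior power isomorphic to O(c). Let k₀ be the integer with c + 2k₀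
= 0 or c + 2k₀ = −1, so that E ⊗ O(k₀) is the normalised twist, and assume H^0(P^n_k, E ⊗ O(k₀)) =
0. Then every endomorphism of E is a homothety: its underlying map of abelian sheaves is
multiplication by some scalar c' ∈ k. The published statement is for stable bundles of any rank;
this row is the rank-2 case, with stability written as the vanishing of H^0 of the normalised twist,
which is equivalent to it for rank 2. -/
theorem result (k : Type u) [Field k] [IsAlgClosed k] [CharZero k]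
    (n : ℕ) (E : (CohB1.ProjSpace n k).Modules) (hE : FlatMod.IsFinLocFreeOfRank 2 E) (c k₀ : ℤ)
    (hdet : ∃ L : (CohB1.ProjSpace n k).Modules, ExtPow.IsExtPow 2 E L ∧ Nonempty (L ≅ Twist.twistProjSpace n k c))
    (hk₀ : c + 2 * k₀ = 0 ∨ c + 2 * k₀ = -1)
    (h0 : Subsingleton (Coh.HH (CohB1.ProjSpace n k) (CohB1.tensorMod E (Twist.twistProjSpace n k k₀)) 0))
    (φ : E ⟶ E) :
    ∃ c' : k, (SheafOfModules.toSheaf (CohB1.ProjSpace n k).ringCatSheaf).map φ =
      Coh.smulAb E (Coh.toGlobal (CohB1.ProjSpace.toSpec n k) c') := by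
  haveI := isIntegral_P (n := n) (k := k)
  haveI : IsLocallyNoetherian (CohB1.ProjSpace n k) := PnCoh.isLocallyNoetherian_projSpace n k
  haveI : ∀ x : CohB1.ProjSpace n k, UniqueFactorizationMonoid ((CohB1.ProjSpace n k).presheaf.stalk x) :=
    fun x => by
      have := Groth.Duality.Pn.isRegularLocalRing_stalk n k x
      exact (Groth.Agent.S2821.result ((CohB1.ProjSpace n k).presheaf.stalk x)).2
  haveI := KTheory.LocFree.isQCoh (isFinLocFree_of_rank hE)
  obtain ⟨L, hL, ⟨eL⟩⟩ := hdet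
  obtain ⟨e'⟩ := Groth.LocFree.nonempty_iso_extPow hL
  have hinv : ∀ d, PicF.IsInvertible (Twist.twistProjSpace n k d) :=
    fun d => Groth.PnCoh.isInvertible_twist n k d
  have hno : ∀ ψ χ : E ⟶ E, ψ ≠ 0 → χ ≠ 0 → ψ ≫ χ ≠ 0 := by
    intro ψ χ hψ hχ h
    obtain ⟨a, ⟨ea⟩⟩ := exists_twist_iso _ (RankTwo.isInvertible_kernel hE hψ hχ h)
    let σ := ea.inv ≫ kernel.ι χ
    let f := kernel.lift χ ψ h ≫ ea.hom
    have hfσ : f ≫ σ = ψ := by simp [f, σ]
    have hσ : σ ≠ 0 := fun h1 => hψ (by rw [← hfσ, h1, comp_zero])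
    have hf : f ≠ 0 := fun h1 => hψ (by rw [← hfσ, h1, zero_comp])
    have ha : a < -k₀ := lt_of_not_ge fun hge => hσ (hom_eq_zero hE k₀ h0 hge σ)
    let μ : Twist.twistProjSpace n k c ⟶ CohB1.tensorMod E (Twist.twistProjSpace n k a) :=
      (e' ≪≫ eL).inv ≫ RankTwo.cross f
    have hμ : μ ≠ 0 := fun h1 => RankTwo.cross_ne_zero f (hinv a) hE hf
      ((cancel_epi (e' ≪≫ eL).inv).1 (h1.trans comp_zero.symm))
    obtain ⟨e2⟩ := Groth.Duality.Pn.nonempty_twist_tensor n k c (-a)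
    obtain ⟨e5⟩ := Groth.Duality.Pn.nonempty_twist_tensor n k a (-a)
    obtain ⟨e3⟩ := Groth.PnCoh.nonempty_twist_zero_iso (CohB1.polyGrading n k)
    obtain ⟨τ, hτ⟩ := exists_hom_untwist (hinv (-a)) μ hμ e2
      (e5 ≪≫ eqToIso (congrArg (Twist.twistProjSpace n k) (add_neg_cancel a)) ≪≫ e3)
    have hca : c + -a < -k₀ := lt_of_not_ge fun hge => hτ (hom_eq_zero hE k₀ h0 hge τ)
    omega
  obtain ⟨τ, δ, hq⟩ := exists_quadratic hE (e' ≪≫ eL) φ
  obtain ⟨c₁, hc₁⟩ := IsAlgClosed.exists_root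
    (Polynomial.X ^ 2 - Polynomial.C τ * Polynomial.X + Polynomial.C δ) (by
      rw [show (Polynomial.X ^ 2 - Polynomial.C τ * Polynomial.X + Polynomial.C δ) =
        Polynomial.C 1 * Polynomial.X ^ 2 + Polynomial.C (-τ) * Polynomial.X + Polynomial.C δ by simp [sub_eq_add_neg],
        Polynomial.degree_quadratic one_ne_zero]
      decide)
  simp only [Polynomial.IsRoot.def, Polynomial.eval_add, Polynomial.eval_sub, Polynomial.eval_pow,
    Polynomial.eval_mul, Polynomial.eval_X, Polynomial.eval_C] at hc₁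
  let S : k → (E ⟶ E) := fun r => Groth.HilbStab.scalar (PnEuler.scal ⊤ r) E
  have hS : ∀ r, φ = S r → ∃ c' : k, (SheafOfModules.toSheaf (CohB1.ProjSpace n k).ringCatSheaf).map φ =
      Coh.smulAb E (Coh.toGlobal (CohB1.ProjSpace.toSpec n k) c') :=
    fun r hr => ⟨r, hr ▸ PnEuler.toSheaf_map_scalar r E⟩
  by_cases h1 : φ = S c₁
  · exact hS _ h1
  by_cases h2 : φ = S (τ - c₁)
  · exact hS _ h2
  refine absurd ?_ (hno (φ - S (τ - c₁)) (φ - S c₁) (sub_ne_zero.2 h2) (sub_ne_zero.2 h1))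
  refine Groth.CohTwo.hom_ext_app fun U x => ?_
  change (φ - S c₁).app U ((φ - S (τ - c₁)).app U x) = 0
  change φ.app U (φ.app U x - (S (τ - c₁)).app U x) - (S c₁).app U (φ.app U x - (S (τ - c₁)).app U x) = 0
  simp only [S]
  rw [PnEuler.scalar_scal_app, PnEuler.scalar_scal_app, map_sub]
  rw [show φ.app U (PnEuler.scal U (τ - c₁) • x) = PnEuler.scal U (τ - c₁) • φ.app U x from
    φ.app_smul _ _]
  rw [map_sub]
  have hδ : δ = c₁ * τ - c₁ * c₁ := by linear_combination hc₁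
  have h := hq U x
  rw [hδ, map_sub, map_mul, map_mul] at h
  linear_combination (norm := module) h

end Groth.Agent.S11505
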