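import Groth.Statements.S11489
import Groth.Agent.LocFree.ExtPow
import Groth.Agent.QCohMod.Stalk
import Groth.Agent.QCohMod.Affine
import Groth.Agent.Variety2.ProjBasics
import Groth.Agent.Misc15.P1Stalk
import Groth.Agent.PnCoh.OverAffine
import Mathlib.AlgebraicGeometry.Morphisms.Proper
import Mathlib.LinearAlgebra.Determinant

set_option autoImplicit false
universe u
open VBPn

open CategoryTheory CategoryTheory.Limits AlgebraicGeometry Opposite TopologicalSpace
open Groth.PicAux Groth.LocFree

namespace Groth.Agent.S11489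

section Aux

variable {X : Scheme.{u}} {E : X.Modules} {r : ℕ} (ε : extPow r E ≅ Coh.structureModule X)

/-- A determinant trivialisation, as an alternating form on sections. -/
noncomputable def altForm (W : X.Opens) : Γ(E, W) [⋀^Fin r]→ₗ[Γ(X, W)] Γ(X, W) :=
  ({ toFun := fun x => toFun (ε.hom.app W (extUnit r E W x))
     map_add' := fun x y => by rw [map_add, map_add]; rfl
     map_smul' := fun a x => by
       rw [map_smul, Scheme.Modules.Hom.app_smul, toFun_smul]
       rfl } : ESec r E W →ₗ[Γ(X, W)] Γ(X, W)).compAlternatingMap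
    (exteriorPower.ιMulti Γ(X, W) r)

theorem altForm_apply (W : X.Opens) (e : Fin r → Γ(E, W)) :
    altForm ε W e = toFun (ε.hom.app W (wedge r E e)) := rfl

theorem altForm_res {U V : X.Opens} (h : V ≤ U) (e : Fin r → Γ(E, U)) :
    altForm ε V (fun j => res E h (e j)) = resX X h (altForm ε U e) := by
  rw [altForm_apply, altForm_apply, ← res_wedge r E h, ← toFun_res, app_res]

/-- On an affine open the trivialisation takes a unit value on a basis. -/
theorem isUnit_altForm_basis [E.IsQuasicoherent] {U : X.Opens} (hU : IsAffineOpen U)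
    (b : Module.Basis (Fin r) Γ(X, U) Γ(E, U)) : IsUnit (altForm ε U b) := by
  obtain ⟨y, hy⟩ := (extUnit_bijective r E hU).2 (ε.inv.app U (oneSec X U))
  have key : ∀ y : ESec r E U, ∃ c, toFun (ε.hom.app U (extUnit r E U y)) = c * altForm ε U b := by
    intro y
    induction y using esec_induction with
    | wedge e =>
      exact ⟨b.det e, (congrFun (congrArg DFunLike.coe ((altForm ε U).eq_smul_basis_det b)) e).trans
        (mul_comm _ _)⟩
    | zero => exact ⟨0, by rw [map_zero, map_zero, zero_mul]; rfl⟩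
    | add a c ha hc =>
      obtain ⟨x, hx⟩ := ha
      obtain ⟨x', hx'⟩ := hc
      refine ⟨x + x', ?_⟩
      rw [map_add, map_add, add_mul, ← hx, ← hx']
      rfl
    | smul a z hz =>
      obtain ⟨x, hx⟩ := hz
      exact ⟨a * x, by rw [map_smul, Scheme.Modules.Hom.app_smul, toFun_smul, hx, mul_assoc]⟩
  obtain ⟨c, hc⟩ := key y
  refine isUnit_of_dvd_one ⟨c, ?_⟩
  rw [hy] at hc
  rw [mul_comm, ← hc, show ε.hom.app U (ε.inv.app U (oneSec X U)) = oneSec X U from
    congr(($(ε.inv_hom_id)).app U (oneSec X U)), toFun_oneSec]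

/-- Sections with unit determinant form bases near every point. -/
theorem basis'_of_isUnit [E.IsQuasicoherent] {U : X.Opens} {e : Fin r → Γ(E, U)}
    (he : Basis' E U e) (t : Fin r → Γ(E, ⊤)) (ht : IsUnit (altForm ε ⊤ t)) :
    Basis' E U (fun i => res E le_top (t i)) := by
  intro W hW
  let b := basisOfBasis' he hW
  let t' : Fin r → Γ(E, W) := fun i => res E le_top (t i)
  have h1 : altForm ε W t' = altForm ε W b * b.det t' :=
    congrFun (congrArg DFunLike.coe ((altForm ε W).eq_smul_basis_det b)) t'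
  have hdet : IsUnit (b.det t') := by
    refine isUnit_of_mul_isUnit_right (x := altForm ε W b) ?_
    rw [← h1, altForm_res ε le_top t]
    exact ht.map _
  obtain ⟨hli, hsp⟩ := b.is_basis_iff_det.2 hdet
  have hb := (Module.Basis.mk hli hsp.ge).equivFun.symm.bijective
  convert hb using 1
  funext a
  rw [Module.Basis.equivFun_symm_apply]
  refine Finset.sum_congr rfl fun i _ => ?_
  rw [Module.Basis.mk_apply, res_res]

/-- Locally a basis: globally free. -/
theorem nonempty_iso_freeMod {t : Fin r → Γ(E, ⊤)}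
    (h : ∀ x : X, ∃ U : X.Opens, x ∈ U ∧ Basis' E U (fun i => res E le_top (t i))) :
    Nonempty (E ≅ FlatMod.freeMod X r) := by
  obtain ⟨d⟩ := exists_split_free (X := X) r
  let φ : FlatMod.freeMod X r ⟶ E := ∑ i, d.p i ≫ homOfSection (t i)
  let ds : Fin r → Γ(FlatMod.freeMod X r, ⊤) := fun i => (d.s i).app ⊤ (oneSec X ⊤)
  have hφ : ∀ i, φ.app ⊤ (ds i) = t i := by
    intro i
    show (d.s i ≫ φ).app ⊤ (oneSec X ⊤) = t i
    rw [show d.s i ≫ φ = homOfSection (t i) by
      simp only [φ, Preadditive.comp_sum]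
      rw [Finset.sum_eq_single i (fun j _ hj => by rw [← Category.assoc, d.off i j (Ne.symm hj), zero_comp])
        (by simp), ← Category.assoc, d.diag i, Category.id_comp]]
    exact homOfSection_one _
  suffices IsIso φ from ⟨(asIso φ).symm⟩
  refine Groth.QCohMod.isIso_of_stalk φ fun x => ?_
  obtain ⟨U, hxU, hU⟩ := h x
  have hbij : ∀ W : X.Opens, W ≤ U → Function.Bijective (φ.app W) := by
    intro W hW
    have h1 := d.basis W le_top
    have h2 : Function.Bijective fun a : Fin r → Γ(X, W) => ∑ i, a i • res E (le_top : W ≤ ⊤) (t i) := by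
      have := hU W hW
      simpa only [res_res] using this
    refine (Function.Bijective.of_comp_iff _ h1).1 ?_
    convert h2 using 1
    funext a
    simp only [Function.comp_apply, map_sum, Scheme.Modules.Hom.app_smul]
    refine Finset.sum_congr rfl fun i _ => ?_
    rw [app_res, ← hφ i]
  rw [ConcreteCategory.isIso_iff_bijective]
  refine ⟨(injective_iff_map_eq_zero _).2 fun a ha => ?_, fun a => ?_⟩
  · obtain ⟨W, hW, s, rfl⟩ := Groth.QCohMod.exists_germ _ x a
    rw [Groth.QCohMod.stalk_map_germ] at ha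
    obtain ⟨W', hxW', i₁, i₂, he⟩ := TopCat.Presheaf.germ_eq E.presheaf x hW hW (φ.app W s) 0
      (ha.trans (map_zero _).symm)
    have h0 : φ.app (W' ⊓ U) (res _ ((inf_le_left).trans i₁.le) s) = φ.app (W' ⊓ U) 0 := by
      rw [app_res, map_zero, ← res_res i₁.le (inf_le_left : W' ⊓ U ≤ W')]
      show res E _ (E.presheaf.map i₁.op (φ.app W s)) = 0
      rw [he, map_zero]
      exact map_zero _
    have h1 := (hbij _ inf_le_right).1 h0
    rw [← Groth.QCohMod.germ_res _ ((inf_le_left).trans i₁.le) x (⟨hxW', hxU⟩ : x ∈ W' ⊓ U) s]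
    exact (congrArg _ h1).trans (map_zero _)
  · obtain ⟨W, hW, s, rfl⟩ := Groth.QCohMod.exists_germ _ x a
    obtain ⟨m, hm⟩ := (hbij _ inf_le_right).2 (res E (inf_le_left : W ⊓ U ≤ W) s)
    refine ⟨Groth.QCohMod.germ _ x (⟨hW, hxU⟩ : x ∈ W ⊓ U) m, ?_⟩
    rw [Groth.QCohMod.stalk_map_germ, hm]
    exact Groth.QCohMod.germ_res _ (inf_le_left : W ⊓ U ≤ W) x ⟨hW, hxU⟩ s

/-- Globally generated with trivial determinant on a scheme whose functions form a field: free. -/
theorem nonempty_iso_of_generated [Nonempty X] (hK : IsField Γ(X, ⊤))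
    (hE : FlatMod.IsFinLocFreeOfRank r E) {N : ℕ} (ψ : FlatMod.freeMod X N ⟶ E) [Epi ψ] (ε : extPow r E ≅ Coh.structureModule X) :
    Nonempty (E ≅ FlatMod.freeMod X r) := by
  classical
  haveI := KTheory.LocFree.isQCoh (isFinLocFree_of_rank hE)
  obtain ⟨d⟩ := exists_split_free (X := X) N
  let S : Fin N → Γ(E, ⊤) := fun j => ψ.app ⊤ ((d.s j).app ⊤ (oneSec X ⊤))
  obtain ⟨f, hf⟩ : ∃ f : Fin r → Fin N, altForm ε ⊤ (fun i => S (f i)) ≠ 0 := by
    by_contra! hzero
    obtain ⟨x⟩ := (inferInstance : Nonempty X)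
    obtain ⟨U, e, hU, hxU, he⟩ := exists_affine_basis_ofRank hE x
    have hlift : ∀ i, ∃ (W : X.Opens) (_ : x ∈ W) (hWU : W ≤ U) (a : Fin N → Γ(X, W)),
        res E hWU (e i) = ∑ j, a j • res E le_top (S j) := by
      intro i
      obtain ⟨a, ha⟩ := (Groth.QCohMod.epi_iff_stalk ψ).1 inferInstance x
        (Groth.QCohMod.germ E x hxU (e i))
      obtain ⟨W, hW, m, rfl⟩ := Groth.QCohMod.exists_germ _ x a
      rw [Groth.QCohMod.stalk_map_germ] at ha
      obtain ⟨W', hxW', i₁, i₂, he'⟩ := TopCat.Presheaf.germ_eq E.presheaf x hW hxU (ψ.app W m) (e i) ha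
      obtain ⟨a, ha'⟩ := (d.basis W' le_top).2 (res _ i₁.le m)
      refine ⟨W', hxW', i₂.le, a, ?_⟩
      have h1 : ψ.app W' (res _ i₁.le m) = res E i₂.le (e i) := (app_res ψ i₁.le m).trans he'
      rw [← h1, ← ha', map_sum]
      refine Finset.sum_congr rfl fun j _ => ?_
      rw [Scheme.Modules.Hom.app_smul, app_res]
    choose W hxW hWU a ha using hlift
    obtain ⟨W₀, hxW₀, hW₀, hW₀U⟩ : ∃ W₀ : X.Opens, x ∈ W₀ ∧ (∀ i, W₀ ≤ W i) ∧ W₀ ≤ U := by
      refine ⟨⟨⋂ i, (W i : Set X), isOpen_iInter_of_finite fun i => (W i).2⟩ ⊓ U,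
        ⟨Set.mem_iInter.2 hxW, hxU⟩, fun i => inf_le_left.trans ?_, inf_le_right⟩
      exact Set.iInter_subset (fun i => (W i : Set X)) i
    have hsum : (fun i => res E hW₀U (e i)) =
        fun i => ∑ j, resX X (hW₀ i) (a i j) • res E le_top (S j) := by
      funext i
      rw [← res_res (hWU i) (hW₀ i), ha i, res_sum]
      refine Finset.sum_congr rfl fun j _ => ?_
      rw [res_smul, res_res]
    have hu : IsUnit (altForm ε W₀ fun i => res E hW₀U (e i)) := by
      rw [altForm_res ε hW₀U e]
      have hb := isUnit_altForm_basis ε hU (basisOfBasis' he le_rfl)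
      have : (⇑(basisOfBasis' he le_rfl)) = e := by
        funext i
        simp [basisOfBasis', res_self]
      rw [this] at hb
      exact hb.map _
    have hzero' : altForm ε W₀ (fun i => res E hW₀U (e i)) = 0 := by
      rw [hsum]
      show (altForm ε W₀).toMultilinearMap (fun i => ∑ j, resX X (hW₀ i) (a i j) • res E le_top (S j)) = 0
      rw [MultilinearMap.map_sum]
      refine Finset.sum_eq_zero fun g _ => ?_
      rw [MultilinearMap.map_smul_univ]
      show _ • altForm ε W₀ (fun i => res E le_top (S (g i))) = 0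
      rw [altForm_res ε le_top (fun i => S (g i)), hzero g, map_zero, smul_zero]
    rw [hzero'] at hu
    have h2 := hu.map (X.presheaf.germ W₀ x hxW₀).hom
    rw [map_zero] at h2
    exact not_isUnit_zero h2
  have hu : IsUnit (altForm ε ⊤ fun i => S (f i)) := by
    obtain ⟨c, hc⟩ := hK.mul_inv_cancel hf
    exact isUnit_iff_exists_inv.2 ⟨c, hc⟩
  refine nonempty_iso_freeMod (t := fun i => S (f i)) fun x => ?_
  obtain ⟨U, e, -, hxU, he⟩ := exists_affine_basis_ofRank hE x
  exact ⟨U, hxU, basis'_of_isUnit ε he _ hu⟩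

end Aux

open CategoryTheory CategoryTheory.Limits AlgebraicGeometry in
/-- Let k be a characteristic-zero algebraically closed field and E a finite locally free O-module of
rank r on P^n_k. If E is globally generated (there is an epimorphism O^N → E for some N) and its
first Chern class vanishes, in the sense that an r-th exterior power det E of E is isomorphic to O,
then E ≅ O^r. -/
theorem result (k : Type u) [Field k] [IsAlgClosed k] [CharZero k]
    (n r : ℕ) (E : (CohB1.ProjSpace n k).Modules) (hE : FlatMod.IsFinLocFreeOfRank r E)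
    (hgen : ∃ (N : ℕ) (φ : FlatMod.freeMod (CohB1.ProjSpace n k) N ⟶ E), Epi φ)
    (hdet : ∃ L : (CohB1.ProjSpace n k).Modules, ExtPow.IsExtPow r E L ∧
      Nonempty (L ≅ Coh.structureModule (CohB1.ProjSpace n k))) :
    Nonempty (E ≅ FlatMod.freeMod (CohB1.ProjSpace n k) r) := by
  haveI : Nonempty ↥(CohB1.ProjSpace n k) :=
    ⟨(Groth.PnCoh.overIso n k).inv (genericPoint _)⟩
  haveI : IsIntegral (CohB1.ProjSpace n k) :=
    isIntegral_of_isOpenImmersion (Groth.PnCoh.overIso n k).hom
  haveI : IsProper (CohB1.ProjSpace.toSpec n k) := inferInstance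
  obtain ⟨N, ψ, hψ⟩ := hgen
  obtain ⟨L, hL, ⟨eL⟩⟩ := hdet
  haveI := Groth.KTheory.LocFree.isQCoh (Groth.LocFree.isFinLocFree_of_rank hE)
  obtain ⟨e'⟩ := Groth.LocFree.nonempty_iso_extPow hL
  exact nonempty_iso_of_generated (isField_of_universallyClosed k (CohB1.ProjSpace.toSpec n k)) hE ψ
    (e' ≪≫ eL)

end Groth.Agent.S11489
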