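import Groth.Statements.S9560
import Groth.Agent.HensPair.StdLocal
import Mathlib.RingTheory.Smooth.Flat
import Mathlib.RingTheory.Flat.Localization

set_option autoImplicit false
universe u
open EtLocal

namespace Groth.Agent.S9560

/-- Suppose A is a Noetherian ring and B is a finite-type A-algebra, and consider a prime q of B lying
over the prime p of A, where B_q carries its A_p-algebra structure. Then B is étale at q over A (the
local ring B_q is formally étale over A) if and only if the local homomorphism A_p → B_q is étale,
which means three things: B_q is A_p-flat, the ideal p B_q equals the maximal ideal of B_q, and the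
residue field of q is a finite separable extension of the residue field of p (that B_q is
essentially of finite type over A_p holds automatically). -/
theorem result (A B : Type u) [CommRing A] [CommRing B]
    [Algebra A B] [IsNoetherianRing A] [Algebra.FiniteType A B]
    (p : Ideal A) [p.IsPrime] (q : Ideal B) [q.IsPrime] [q.LiesOver p]
    [Algebra (Localization.AtPrime p) (Localization.AtPrime q)]
    [Localization.AtPrime.IsLiesOverAlgebra p q] :
    Algebra.IsEtaleAt A q ↔
      Module.Flat (Localization.AtPrime p) (Localization.AtPrime q) ∧
        p.map (algebraMap A (Localization.AtPrime q)) = IsLocalRing.maximalIdeal (Localization.AtPrime q) ∧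
        Module.Finite p.ResidueField q.ResidueField ∧
        Algebra.IsSeparable p.ResidueField q.ResidueField := by
  have : Algebra.FinitePresentation A B := Algebra.FinitePresentation.of_finiteType.1 ‹_›
  have : IsScalarTower A (Localization.AtPrime p) (Localization.AtPrime q) := inferInstance
  constructor
  · intro _
    obtain ⟨hsep, hmap⟩ := (Algebra.isUnramifiedAt_iff_map_eq A p q).1 inferInstance
    refine ⟨?_, hmap, inferInstance, hsep⟩
    obtain ⟨f, hf, _⟩ := Algebra.exists_etale_of_isEtaleAt (R := A) q
    have hu : IsUnit (algebraMap B (Localization.AtPrime q) f) :=
      IsLocalization.map_units (M := q.primeCompl) _ ⟨f, hf⟩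
    let _ : Algebra (Localization.Away f) (Localization.AtPrime q) :=
      (IsLocalization.Away.lift f hu).toAlgebra
    have : IsScalarTower B (Localization.Away f) (Localization.AtPrime q) :=
      IsScalarTower.of_algebraMap_eq fun x => (IsLocalization.Away.lift_eq f hu x).symm
    have : IsScalarTower A (Localization.Away f) (Localization.AtPrime q) := .to₁₃₄ _ B _ _
    have : IsLocalization (Algebra.algebraMapSubmonoid (Localization.Away f) q.primeCompl) (Localization.AtPrime q) :=
      .isLocalization_of_submonoid_le _ _ (Submonoid.powers f) _ (by
        rintro _ ⟨n, rfl⟩; exact fun h => hf (‹q.IsPrime›.mem_of_pow_mem n h))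
    have : Module.Flat (Localization.Away f) (Localization.AtPrime q) :=
      IsLocalization.flat _ (Algebra.algebraMapSubmonoid (Localization.Away f) q.primeCompl)
    have : Module.Flat A (Localization.AtPrime q) := .trans A (Localization.Away f) _
    exact (Module.flat_iff_of_isLocalization (Localization.AtPrime p) p.primeCompl _).2 this
  · rintro ⟨hflat, hmap, hfin, hsep⟩
    have : Algebra.EssFiniteType (Localization.AtPrime p) (Localization.AtPrime q) := .of_comp A _ _
    have hm : (IsLocalRing.maximalIdeal (Localization.AtPrime p)).map
        (algebraMap (Localization.AtPrime p) (Localization.AtPrime q)) =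
        IsLocalRing.maximalIdeal (Localization.AtPrime q) := by
      rw [← Localization.AtPrime.map_eq_maximalIdeal, Ideal.map_map, ← IsScalarTower.algebraMap_eq, hmap]
    have : IsNoetherianRing (Localization.AtPrime p) := IsLocalization.isNoetherianRing p.primeCompl _ inferInstance
    obtain ⟨P, 𝔮, _, ⟨e⟩⟩ := Groth.HensPair.exists_standardEtale_algEquiv
      (Localization.AtPrime p) (Localization.AtPrime q) hm
    have : Algebra.FormallyEtale (Localization.AtPrime p) (Localization.AtPrime q) := .of_equiv e.symm
    exact Algebra.FormallyEtale.comp A (Localization.AtPrime p) _

end Groth.Agent.S9560
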