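import Groth.Statements.S10857
import Groth.Agent.QCohMod.FiniteType
import Groth.Agent.QCohMod.Coherent
import Groth.Agent.Ega2Proj.IsoAffine

set_option autoImplicit false
universe u
open QCohSup

namespace Groth.Agent.S10857

section
open AlgebraicGeometry CategoryTheory CategoryTheory.Limits Opposite TopologicalSpace
open Groth.QCohMod

variable {X : Scheme.{u}}

lemma epi_of_cover {M N : X.Modules} (φ : M ⟶ N) [M.IsQuasicoherent] [N.IsQuasicoherent]
    {ι : Type*} (U : ι → X.Opens) (hU : ∀ i, IsAffineOpen (U i)) (hcov : iSup U = ⊤)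
    (h : ∀ i, Function.Surjective (φ.app (U i))) : Epi φ := by
  refine Preadditive.epi_of_cokernel_zero ?_
  have hs : ∀ i, Subsingleton Γ(cokernel φ, U i) := fun i => by
    refine ⟨fun a b => ?_⟩
    suffices ∀ c : Γ(cokernel φ, U i), c = 0 from (this a).trans (this b).symm
    intro c
    obtain ⟨n, rfl⟩ := app_surjective_of_epi (cokernel.π φ) (hU i) c
    obtain ⟨m, rfl⟩ := h i n
    exact congr($(congrArg (fun ψ : M ⟶ cokernel φ => ψ.app (U i)) (cokernel.condition φ)) m)
  have : IsIso (0 : cokernel φ ⟶ cokernel φ) :=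
    Groth.Ega2Proj.isIso_of_affine_cover 0 U hU hcov fun i =>
      ⟨fun a b _ => (hs i).elim a b, fun a => ⟨a, (hs i).elim _ a⟩⟩
  exact (cancel_mono (0 : cokernel φ ⟶ cokernel φ)).mp (by simp)

lemma stalk_map_germ_smul {M N : X.Modules} (φ : M ⟶ N) {U : X.Opens} (x : X) (hx : x ∈ U)
    (r : Γ(X, U)) (t : M.presheaf.stalk x) :
    (stalk x).map φ (X.presheaf.germ U x hx r • t) =
      X.presheaf.germ U x hx r • (show N.presheaf.stalk x from (stalk x).map φ t) := by
  obtain ⟨V, hxV, s, rfl⟩ := exists_germ M x t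
  have hx' : x ∈ U ⊓ V := ⟨hx, hxV⟩
  have hr : X.presheaf.germ (U ⊓ V) x hx' (resFun X inf_le_left r) = X.presheaf.germ U x hx r :=
    TopCat.Presheaf.germ_res_apply X.presheaf (homOfLE inf_le_left) x hx' r
  rw [← germ_res M (inf_le_right : U ⊓ V ≤ V) x hx' s, ← hr, ← germ_smul]
  erw [stalk_map_germ, stalk_map_germ]
  rw [φ.app_smul, germ_smul]

/-- On an affine open, some stage of the diagram surjects onto the finitely generated target. -/
lemma exists_surjective {J : Type u} [SmallCategory J] [IsFiltered J] (D : J ⥤ X.Modules)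
    [∀ j, (D.obj j).IsQuasicoherent] (c : Cocone D) (hc : IsColimit c)
    (F : X.Modules) [F.IsQuasicoherent] (hF : CohB1.IsFT F) (u : c.pt ⟶ F) [Epi u]
    {U : X.Opens} (hU : IsAffineOpen U) :
    ∃ j₀ : J, ∀ j : J, Nonempty (j₀ ⟶ j) → Function.Surjective ((c.ι.app j ≫ u).app U) := by
  classical
  let N : J → Submodule Γ(X, U) Γ(F, U) := fun j => LinearMap.range (appₗ (c.ι.app j ≫ u) U)
  have hN : ∀ {i j : J} (a : i ⟶ j), N i ≤ N j := by
    rintro i j a _ ⟨m, rfl⟩
    refine ⟨(D.map a).app U m, ?_⟩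
    exact congr($(congrArg (fun ψ : D.obj i ⟶ F => ψ.app U)
      (show D.map a ≫ c.ι.app j ≫ u = c.ι.app i ≫ u by rw [← Category.assoc, c.w])) m)
  obtain ⟨G, hG⟩ := (finite_sections F hF hU).fg_top
  suffices hg : ∀ g : G, ∃ j, (g : Γ(F, U)) ∈ N j by
    choose jg hjg using hg
    obtain ⟨j₀, hj₀⟩ := IsFiltered.sup_objs_exists (Finset.univ.image jg)
    refine ⟨j₀, fun j ⟨a⟩ => ?_⟩
    suffices N j = ⊤ from LinearMap.range_eq_top.mp this
    rw [eq_top_iff, ← hG, Submodule.span_le]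
    intro g hg
    obtain ⟨b⟩ := hj₀ (Finset.mem_image_of_mem jg (Finset.mem_univ (⟨g, hg⟩ : G)))
    exact hN a (hN b (hjg ⟨g, hg⟩))
  rintro ⟨g, -⟩
  let I : J → Ideal Γ(X, U) := fun j => (N j).comap (LinearMap.toSpanSingleton _ _ g)
  have hdir : Directed (· ≤ ·) I := fun i j => ⟨IsFiltered.max i j,
    Submodule.comap_mono (hN (IsFiltered.leftToMax i j)),
    Submodule.comap_mono (hN (IsFiltered.rightToMax i j))⟩
  suffices htop : iSup I = ⊤ by
    have : Nonempty J := IsFiltered.nonempty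
    obtain ⟨j, hj⟩ := (Submodule.mem_iSup_of_directed I hdir).mp (htop.ge (trivial : (1 : Γ(X, U)) ∈ _))
    exact ⟨j, by simpa [I] using hj⟩
  by_contra hne
  obtain ⟨P, hP, hle⟩ := Ideal.exists_le_maximal _ hne
  let p : PrimeSpectrum Γ(X, U) := ⟨P, hP.isPrime⟩
  have hmem : hU.fromSpec p ∈ U := by
    have h := Set.mem_range_self (f := hU.fromSpec) p
    rwa [hU.range_fromSpec] at h
  have hx : hU.primeIdealOf ⟨hU.fromSpec p, hmem⟩ = p :=
    hU.fromSpec.isOpenEmbedding.injective (hU.fromSpec_primeIdealOf _)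
  set x := hU.fromSpec p
  obtain ⟨t, ht⟩ := (epi_iff_stalk u).mp inferInstance x (germ F x hmem g)
  obtain ⟨j, t, rfl⟩ := Concrete.isColimit_exists_rep _ (isColimitOfPreserves (stalk x) hc) t
  obtain ⟨a, m, ha, ham⟩ := exists_smul_germ_eq (D.obj j) hU x hmem t
  have hgerm : germ F x hmem (a • g - (c.ι.app j ≫ u).app U m) = 0 := by
    rw [map_sub, germ_smul, sub_eq_zero, ← stalk_map_germ, ← ham, ← ht]
    refine Eq.trans ?_ (stalk_map_germ_smul (c.ι.app j ≫ u) x hmem a t).symm
    congr 1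
    exact congr($(((stalk x).map_comp (c.ι.app j) u).symm) t)
  obtain ⟨b, hb, hb0⟩ := exists_smul_eq_zero_of_germ_eq_zero F hU x hmem _ hgerm
  have hmemI : b * a ∈ I j := by
    rw [Submodule.mem_comap, LinearMap.toSpanSingleton_apply, mul_smul]
    rw [smul_sub, sub_eq_zero] at hb0
    rw [hb0]
    exact ⟨b • m, (appₗ (c.ι.app j ≫ u) U).map_smul b m⟩
  have hbP : b * a ∈ P := hle (le_iSup I j hmemI)
  have hba : x ∈ X.basicOpen (b * a) := by
    rw [Scheme.basicOpen_mul]; exact ⟨hb, ha⟩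
  rw [mem_basicOpen_iff_notMem_primeIdealOf hU (b * a) x hmem, hx] at hba
  exact hba hbP

end

open AlgebraicGeometry CategoryTheory CategoryTheory.Limits in
/-- Take a quasi-compact scheme X, a finite-type quasi-coherent O_X-module F, and G a quasi-coherent
O_X-module which is the colimit of a filtered diagram of quasi-coherent O_X-modules G_j. A
homomorphism u : G → F is an epimorphism if and only if there is an index j₀ such that for every
index j admitting a map from j₀ the composite G_j → G → F is an epimorphism. -/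
theorem result {X : Scheme.{u}} [CompactSpace X]
    {J : Type u} [SmallCategory J] [IsFiltered J] (D : J ⥤ X.Modules) [∀ j, Coh.IsQCoh (D.obj j)]
    (c : Cocone D) (hc : IsColimit c) [Coh.IsQCoh c.pt]
    (F : X.Modules) [Coh.IsQCoh F] (hF : CohB1.IsFT F) (u : c.pt ⟶ F) :
    Epi u ↔ ∃ j₀ : J, ∀ j : J, Nonempty (j₀ ⟶ j) → Epi (c.ι.app j ≫ u) := by
  haveI : F.IsQuasicoherent := ‹Coh.IsQCoh F›
  haveI : ∀ j, (D.obj j).IsQuasicoherent := fun j => ‹∀ j, Coh.IsQCoh (D.obj j)› j
  constructor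
  · intro _
    classical
    let W := fun i => (X.affineCover.finiteSubcover.f i).opensRange
    have hW : ∀ i, IsAffineOpen (W i) := fun i => isAffineOpen_opensRange _
    have hsup : iSup W = ⊤ := TopologicalSpace.Opens.ext (Set.eq_univ_of_forall fun x =>
      TopologicalSpace.Opens.mem_iSup.mpr ⟨_, X.affineCover.finiteSubcover.covers x⟩)
    choose j hj using fun i => exists_surjective D c hc F hF u (hW i)
    obtain ⟨j₀, hj₀⟩ := IsFiltered.sup_objs_exists (Finset.univ.image j)
    refine ⟨j₀, fun k ⟨a⟩ => epi_of_cover _ W hW hsup fun i => hj i k ⟨?_⟩⟩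
    exact (hj₀ (Finset.mem_image_of_mem j (Finset.mem_univ i))).some ≫ a
  · rintro ⟨j₀, hj₀⟩
    haveI := hj₀ j₀ ⟨𝟙 _⟩
    exact epi_of_epi (c.ι.app j₀) u

end Groth.Agent.S10857
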