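import Groth.Statements.S14023
import Mathlib.CategoryTheory.Functor.OfSequence
import Mathlib.CategoryTheory.Preadditive.Injective.Basic
-- import your own Groth.Agent.* helpers here

set_option autoImplicit false
open CategoryTheory CategoryTheory.Limits Opposite
universe v u
open ARSys

namespace Groth.Agent.S14023

open ZeroObject

variable {A : Type u} [Category.{v} A] [Abelian A]

section

variable (I : ℕ → A)

/-- `E n = I n ⊞ (I (n-1) ⊞ ⋯)`. -/
noncomputable def towerObj : ℕ → A
  | 0 => I 0
  | n + 1 => I (n + 1) ⊞ towerObj n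

/-- The system with terms `towerObj I n`. -/
noncomputable def tower : ℕᵒᵖ ⥤ A :=
  Functor.ofOpSequence (X := towerObj I) (fun _ => biprod.snd)

lemma tower_map_succ (n : ℕ) :
    (tower I).map (homOfLE (Nat.le_add_right n 1)).op = biprod.snd :=
  Functor.ofOpSequence_map_homOfLE_succ _ n

instance injective_tower [∀ n, Injective (I n)] : Injective (tower I) where
  factors {X Y} g f _ := by
    have hmono : ∀ n : ℕ, Mono (f.app (op n)) := fun n =>
      inferInstanceAs (Mono (((evaluation ℕᵒᵖ A).obj (op n)).map f))
    let w : ∀ n : ℕ, Y.obj (op (n + 1)) ⟶ Y.obj (op n) := fun n => Y.map (homOfLE (Nat.le_add_right n 1)).op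
    have base : ∃ h : Y.obj (op 0) ⟶ (tower I).obj (op 0), f.app (op 0) ≫ h = g.app (op 0) := by
      have : Injective ((tower I).obj (op 0)) := inferInstanceAs (Injective (I 0))
      have := hmono 0
      exact ⟨Injective.factorThru (g.app (op 0)) (f.app (op 0)), Injective.comp_factorThru _ _⟩
    have step : ∀ (n : ℕ) (h : {h : Y.obj (op n) ⟶ (tower I).obj (op n) // f.app (op n) ≫ h = g.app (op n)}),
        ∃ h' : Y.obj (op (n + 1)) ⟶ (tower I).obj (op (n + 1)),
          f.app (op (n + 1)) ≫ h' = g.app (op (n + 1)) ∧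
            h' ≫ (tower I).map (homOfLE (Nat.le_add_right n 1)).op = w n ≫ h.1 := by
      intro n h
      have := hmono (n + 1)
      let a := Injective.factorThru (J := I (n + 1))
        ((g.app (op (n + 1)) : X.obj (op (n + 1)) ⟶ I (n + 1) ⊞ towerObj I n) ≫ biprod.fst)
        (f.app (op (n + 1)))
      refine ⟨(biprod.lift a (w n ≫ h.1) : Y.obj (op (n + 1)) ⟶ I (n + 1) ⊞ towerObj I n), ?_, ?_⟩
      · apply biprod.hom_ext (X := I (n + 1)) (Y := towerObj I n)
        · exact (Category.assoc _ _ _).trans ((congrArg _ (biprod.lift_fst _ _)).trans (Injective.comp_factorThru _ _))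
        · refine (Category.assoc _ _ _).trans ((congrArg _ (biprod.lift_snd _ _)).trans ?_)
          have h1 : f.app (op (n + 1)) ≫ w n ≫ h.1 =
              X.map (homOfLE (Nat.le_add_right n 1)).op ≫ g.app (op n) := by
            rw [← NatTrans.naturality_assoc, h.2]
          refine h1.trans ?_
          rw [g.naturality]
          exact congrArg _ (tower_map_succ I n)
      · rw [tower_map_succ]
        exact biprod.lift_snd _ _
    let h : ∀ n : ℕ, {h : Y.obj (op n) ⟶ (tower I).obj (op n) // f.app (op n) ≫ h = g.app (op n)} :=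
      fun n => Nat.rec ⟨base.choose, base.choose_spec⟩
        (fun k hk => ⟨(step k hk).choose, (step k hk).choose_spec.1⟩) n
    refine ⟨NatTrans.ofOpSequence (fun n => (h n).1) (fun n => ((step n (h n)).choose_spec.2).symm), ?_⟩
    ext ⟨n⟩
    exact (h n).2

end

/-- The system `(a, 0, 0, …)`. -/
noncomputable def atZeroObj (a : A) : ℕ → A
  | 0 => a
  | _ + 1 => 0

noncomputable def atZero (a : A) : ℕᵒᵖ ⥤ A := Functor.ofOpSequence (X := atZeroObj a) (fun _ => 0)

noncomputable def atZeroDesc {a : A} {X : ℕᵒᵖ ⥤ A} (φ : a ⟶ X.obj (op 0)) : atZero a ⟶ X :=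
  NatTrans.ofOpSequence (fun n => match n with
    | 0 => φ
    | _ + 1 => 0) (fun n => by
      refine ((congrArg (fun t => t ≫ _) (Functor.ofOpSequence_map_homOfLE_succ _ n)).trans ?_)
      exact zero_comp.trans zero_comp.symm)

/-- For an abelian category A, the category of inverse systems (A_n)_n indexed by ℕ, i.e. of functors
ℕᵒᵖ ⥤ A, has enough injectives if and only if A has enough injectives. (The second assertion of the
published proposition, describing the injective systems, is not part of this row.) -/
theorem result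
    (A : Type u) [Category.{v} A] [Abelian A] :
    EnoughInjectives (ℕᵒᵖ ⥤ A) ↔ EnoughInjectives A := by
  classical
  constructor
  · intro _
    refine ⟨fun a => ?_⟩
    let pr := (EnoughInjectives.presentation (atZero a)).some
    have : Mono (pr.f.app (op 0)) := inferInstanceAs (Mono (((evaluation ℕᵒᵖ A).obj (op 0)).map pr.f))
    refine ⟨⟨pr.J.obj (op 0), ⟨fun {x y} g f _ => ?_⟩, (pr.f.app (op 0) : a ⟶ pr.J.obj (op 0)), this⟩⟩
    let F : atZero x ⟶ atZero y := atZeroDesc (a := x) (X := atZero y) f
    have : ∀ o : ℕᵒᵖ, Mono (F.app o) := by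
      rintro ⟨_ | n⟩
      · exact inferInstanceAs (Mono f)
      · have hz : IsZero ((atZero x).obj (op (n + 1))) := isZero_zero A
        exact ⟨fun p q _ => hz.eq_of_tgt p q⟩
    have : Mono F := NatTrans.mono_of_mono_app F
    refine ⟨((Injective.factorThru (atZeroDesc g) F).app (op 0) : y ⟶ pr.J.obj (op 0)), ?_⟩
    exact congrArg (fun t => NatTrans.app t (op 0)) (Injective.comp_factorThru (atZeroDesc g) F)
  · intro _
    refine ⟨fun X => ?_⟩
    let p : ∀ n : ℕ, InjectivePresentation (X.obj (op n)) := fun n =>
      (EnoughInjectives.presentation (X.obj (op n))).some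
    let J : ℕ → A := fun n => (p n).J
    let i : ∀ n : ℕ, X.obj (op n) ⟶ towerObj J n := fun n =>
      Nat.rec (motive := fun n => X.obj (op n) ⟶ towerObj J n) (p 0).f
        (fun k ik => biprod.lift (p (k + 1)).f (X.map (homOfLE (Nat.le_add_right k 1)).op ≫ ik)) n
    have hi : ∀ n, Mono (i n) := by
      rintro (_ | n)
      · exact (p 0).mono
      · have := (p (n + 1)).mono
        exact mono_of_mono_fac (biprod.lift_fst (p (n + 1)).f
          (X.map (homOfLE (Nat.le_add_right n 1)).op ≫ i n))
    let ι : X ⟶ tower J := NatTrans.ofOpSequence (G := tower J) i (fun n =>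
      ((biprod.lift_snd _ _).symm.trans (congrArg _ (tower_map_succ J n).symm)))
    have : Mono ι := @NatTrans.mono_of_mono_app _ _ _ _ _ _ ι (fun o => hi o.unop)
    exact ⟨⟨tower J, inferInstance, ι, inferInstance⟩⟩

end Groth.Agent.S14023
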