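import Groth.Statements.S1229
import Groth.Agent.RaynaudGruson.FlatLocusHensel
import Groth.Agent.RaynaudGruson.EtalePushout
import Groth.Agent.S6928
import Mathlib

set_option autoImplicit false
universe u
open FlatMor

namespace Groth.Agent.S1229

open IsLocalRing Groth.RaynaudGruson in
/-- The ideal, with a presentation of `B` as a localisation of a finite type algebra. -/
theorem exists_ideal {A B : Type u} [CommRing A] [HenselianLocalRing A] [CommRing B] [IsLocalRing B] [Algebra A B]
    [IsLocalHom (algebraMap A B)] [Algebra.EssFiniteType A B]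
    (M : Type u) [AddCommGroup M] [Module B M] [Module A M] [IsScalarTower A B M] [Module.Finite B M] :
    ∃ I : Ideal A,
      ∀ (A' B' M' : Type u) [CommRing A'] [IsLocalRing A'] [Algebra A A'] [IsLocalHom (algebraMap A A')]
        [CommRing B'] [Algebra B B'] [Algebra A' B'] [Algebra A B'] [IsScalarTower A B B'] [IsScalarTower A A' B']
        [Algebra.IsPushout A B A' B']
        [AddCommGroup M'] [Module B' M'] [Module B M'] [IsScalarTower B B' M'] [Module A' M'] [IsScalarTower A' B' M']
        (f : M →ₗ[B] M'), IsBaseChange B' f →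
        ((∀ (q : Ideal B') [q.IsPrime], (maximalIdeal A').map (algebraMap A' B') ⊔ (maximalIdeal B).map (algebraMap B B') ≤ q →
            FlatCA.FlatAt A' q M') ↔ I.map (algebraMap A A') = ⊥) := by
  let S := Algebra.EssFiniteType.subalgebra A B
  let U := Algebra.EssFiniteType.submonoid A B
  let q : Ideal S := (maximalIdeal B).comap (algebraMap S B)
  haveI : q.IsPrime := Ideal.IsPrime.comap _
  haveI : (maximalIdeal B).LiesOver q := ⟨rfl⟩
  haveI : q.LiesOver (maximalIdeal A) := ⟨by
    show _ = ((maximalIdeal B).comap (algebraMap S B)).comap (algebraMap A S)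
    rw [Ideal.comap_comap, ← IsScalarTower.algebraMap_eq, IsLocalRing.maximalIdeal_comap]⟩
  haveI : IsLocalization.AtPrime B q := IsLocalization.of_le U q.primeCompl
    (fun x hx hq => (hq : algebraMap S B x ∈ maximalIdeal B) hx)
    (fun x hx => notMem_maximalIdeal.mp hx)
  haveI : IsScalarTower S B M := IsScalarTower.of_algebraMap_smul fun _ _ => rfl
  haveI : IsScalarTower A S M := IsScalarTower.of_algebraMap_smul fun a x => by
    rw [← algebraMap_smul B (algebraMap A S a) x, ← IsScalarTower.algebraMap_apply, algebraMap_smul]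
  obtain ⟨G, hG⟩ := (Module.Finite.fg_top : (⊤ : Submodule B M).FG)
  let N : Submodule S M := Submodule.span S (G : Set M)
  haveI : Module.Finite S N := Module.Finite.iff_fg.mpr ⟨G, rfl⟩
  haveI : IsLocalizedModule q.primeCompl N.subtype := by
    refine ⟨fun t => (Module.End.isUnit_iff _).mpr ?_, fun y => ?_, fun {x₁ x₂} h => ⟨1, by rw [Subtype.ext h]⟩⟩
    · obtain ⟨w, hw⟩ := IsLocalization.map_units B t
      refine ⟨fun a b hab => ?_, fun b => ⟨(↑w⁻¹ : B) • b, ?_⟩⟩
      · have h1 : (w : B) • a = (w : B) • b := by rw [hw, algebraMap_smul, algebraMap_smul]; exact hab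
        exact (w.isUnit.smul_left_cancel).mp h1
      · show (t : S) • ((↑w⁻¹ : B) • b) = b
        rw [← algebraMap_smul B (t : S), smul_smul, ← hw, w.mul_inv, one_smul]
    · have hy : y ∈ Submodule.span B (G : Set M) := hG.symm ▸ Submodule.mem_top
      obtain ⟨t, ht, hty⟩ : ∃ t ∉ q, t • y ∈ N := by
        induction hy using Submodule.span_induction with
        | mem x hx => exact ⟨1, q.primeCompl.one_mem, by rw [one_smul]; exact Submodule.subset_span hx⟩
        | zero => exact ⟨1, q.primeCompl.one_mem, by rw [smul_zero]; exact zero_mem _⟩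
        | add x y _ _ hx hy =>
          obtain ⟨s, hs, hsx⟩ := hx
          obtain ⟨t, ht, hty⟩ := hy
          refine ⟨s * t, q.primeCompl.mul_mem hs ht, ?_⟩
          rw [smul_add]
          exact add_mem (by rw [mul_comm, mul_smul]; exact N.smul_mem t hsx) (by rw [mul_smul]; exact N.smul_mem s hty)
        | smul b x _ hx =>
          obtain ⟨s, hs, hsx⟩ := hx
          obtain ⟨⟨c, t⟩, hb⟩ := IsLocalization.surj q.primeCompl b
          refine ⟨(t : S) * s, q.primeCompl.mul_mem t.2 hs, ?_⟩
          have : ((t : S) * s) • b • x = c • (s • x) := by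
            rw [← algebraMap_smul B ((t : S) * s), ← algebraMap_smul B c, ← algebraMap_smul B s x, smul_smul, smul_smul,
              map_mul, ← hb]
            congr 1; ring
          rw [this]; exact N.smul_mem c hsx
      exact ⟨⟨⟨t • y, hty⟩, ⟨t, ht⟩⟩, rfl⟩
  exact FlatLocusHensel.exists_ideal_of_localization q M N N.subtype (IsLocalizedModule.isBaseChange q.primeCompl B N.subtype)

open IsLocalRing Groth.RaynaudGruson in
set_option maxHeartbeats 1600000 in
/-- Under finite presentation the ideal is finitely generated. -/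
theorem fg_of_ideal {A B : Type u} [CommRing A] [HenselianLocalRing A] [CommRing B] [IsLocalRing B] [Algebra A B]
    [IsLocalHom (algebraMap A B)]
    (M : Type u) [AddCommGroup M] [Module B M] [Module A M] [IsScalarTower A B M]
    (hB : FlatCA.EssFinitePresentation A B) [Module.FinitePresentation B M] (I : Ideal A)
    (hI : ∀ (A' B' M' : Type u) [CommRing A'] [IsLocalRing A'] [Algebra A A'] [IsLocalHom (algebraMap A A')]
        [CommRing B'] [Algebra B B'] [Algebra A' B'] [Algebra A B'] [IsScalarTower A B B'] [IsScalarTower A A' B']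
        [Algebra.IsPushout A B A' B']
        [AddCommGroup M'] [Module B' M'] [Module B M'] [IsScalarTower B B' M'] [Module A' M'] [IsScalarTower A' B' M']
        (f : M →ₗ[B] M'), IsBaseChange B' f →
        ((∀ (q : Ideal B') [q.IsPrime], (maximalIdeal A').map (algebraMap A' B') ⊔ (maximalIdeal B).map (algebraMap B B') ≤ q →
            FlatCA.FlatAt A' q M') ↔ I.map (algebraMap A A') = ⊥)) : I.FG := by
  classical
  rcases eq_or_ne I ⊤ with rfl | htop
  · exact ⟨{1}, by simp⟩
  have hIm : I ≤ maximalIdeal A := le_maximalIdeal htop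
  have hquot : ∀ J : Ideal A, J ≤ maximalIdeal A →
      ∃ _ : IsLocalRing (A ⧸ J), IsLocalHom (algebraMap A (A ⧸ J)) := fun J hJ => by
    haveI : Nontrivial (A ⧸ J) := Ideal.Quotient.nontrivial_iff.mpr (ne_top_of_le_ne_top (maximalIdeal.isMaximal A).ne_top hJ)
    refine ⟨IsLocalRing.of_surjective' (Ideal.Quotient.mk J) Ideal.Quotient.mk_surjective, ⟨fun a ha => ?_⟩⟩
    by_contra hna
    obtain ⟨b, hb⟩ := isUnit_iff_exists_inv.mp ha
    obtain ⟨b, rfl⟩ := Ideal.Quotient.mk_surjective b
    rw [Ideal.Quotient.algebraMap_eq, ← map_mul, ← map_one (Ideal.Quotient.mk J), Ideal.Quotient.eq] at hb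
    have h1 := sub_mem ((maximalIdeal A).mul_mem_right b hna) (hJ hb)
    rw [sub_sub_cancel] at h1
    exact (maximalIdeal A).ne_top_iff_one.mp (maximalIdeal.isMaximal A).ne_top h1
  let ι := {t : Finset A // (t : Set A) ⊆ I}
  let sp : ι → Ideal A := fun t => Ideal.span (t.1 : Set A)
  have hspI : ∀ t, sp t ≤ I := fun t => Ideal.span_le.mpr t.2
  have hspmono : ∀ t s : ι, t ≤ s → sp t ≤ sp s := fun t s h => Ideal.span_mono (Finset.coe_subset.mpr h)
  let G : ι → Type u := fun t => A ⧸ sp t
  letI : ∀ t, Algebra (G t) (A ⧸ I) := fun t => (Ideal.Quotient.factor (hspI t)).toAlgebra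
  haveI : ∀ t, IsScalarTower A (G t) (A ⧸ I) := fun t => .of_algebraMap_eq fun a => rfl
  let g : ∀ t s : ι, t ≤ s → G t →+* G s := fun t s h => Ideal.Quotient.factor (hspmono t s h)
  have hdir : IsDirected ι (· ≤ ·) := ⟨fun t s => ⟨⟨t.1 ∪ s.1, by
    rw [Finset.coe_union]; exact Set.union_subset t.2 s.2⟩, Finset.subset_union_left, Finset.subset_union_right⟩⟩
  have hcolim : FlatCA.IsDirectedColimitRing G g (A ⧸ I) := by
    refine ⟨hdir, ⟨⟨∅, by simp⟩⟩, fun t => ?_, fun t s r h1 h2 => ?_, fun t s h => ?_, fun a => ?_, fun t x hx => ?_⟩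
    · refine Ideal.Quotient.ringHom_ext ?_; ext a; rfl
    · refine Ideal.Quotient.ringHom_ext ?_; ext a; rfl
    · refine Ideal.Quotient.ringHom_ext ?_; ext a; rfl
    · obtain ⟨a, rfl⟩ := Ideal.Quotient.mk_surjective a
      exact ⟨⟨∅, by simp⟩, Ideal.Quotient.mk _ a, rfl⟩
    · obtain ⟨a, rfl⟩ := Ideal.Quotient.mk_surjective x
      refine ⟨⟨t.1 ∪ {a}, ?_⟩, Finset.subset_union_left, Ideal.Quotient.eq_zero_iff_mem.mpr (Ideal.subset_span (by simp))⟩
      rw [Finset.coe_union, Finset.coe_singleton]
      exact Set.union_subset t.2 (Set.singleton_subset_iff.mpr (Ideal.Quotient.eq_zero_iff_mem.mp hx))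
  obtain ⟨_, _⟩ := hquot I hIm
  obtain ⟨S', _, _, _, _, _, _, hpush⟩ := EtalePushout.exists_pushout A B (A ⧸ I)
  haveI := hpush
  haveI : Algebra.IsPushout A B (A ⧸ I) S' := Algebra.IsPushout.symm inferInstance
  obtain ⟨M', _, _, _, _, f, hf⟩ := EtalePushout.exists_baseChange B S' M
  letI : Module (A ⧸ I) M' := Module.compHom M' (algebraMap (A ⧸ I) S')
  haveI : IsScalarTower (A ⧸ I) S' M' := IsScalarTower.of_algebraMap_smul fun _ _ => rfl
  let Il : ∀ t, Ideal (G t) := fun t => (maximalIdeal A).map (algebraMap A (G t))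
  obtain ⟨t, ht⟩ := Groth.Agent.S6928.result (R := A) (S := B) hB (M := M) G g
    (fun t s h => RingHom.ext fun a => rfl) (A ⧸ I) hcolim Il
    (fun t s h => by rw [Ideal.map_map]; exact (congrArg (fun φ => (maximalIdeal A).map φ) (RingHom.ext fun a => rfl : (g t s h).comp (algebraMap A (G t)) = algebraMap A (G s))).le)
    (S' := S') f hf (maximalIdeal B) (fun q' _ hq' => by
      refine (hI (A ⧸ I) S' M' f hf).mpr ?_ q' ((sup_le_sup_right (Ideal.map_mono ?_) _).trans hq')
      · rw [Ideal.Quotient.algebraMap_eq, Ideal.map_quotient_self]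
      · refine le_trans ?_ (le_iSup _ (⟨∅, by simp⟩ : ι))
        intro y hy
        obtain ⟨a, rfl⟩ := Ideal.Quotient.mk_surjective y
        have ha : a ∈ maximalIdeal A := fun hu => hy (hu.map (Ideal.Quotient.mk I))
        exact Ideal.mem_map_of_mem (algebraMap (G ⟨∅, by simp⟩) (A ⧸ I))
          (Ideal.mem_map_of_mem (algebraMap A (G ⟨∅, by simp⟩)) ha))
  obtain ⟨_, _⟩ := hquot (sp t) ((hspI t).trans hIm)
  obtain ⟨Si, _, _, _, _, _, _, hpushi⟩ := EtalePushout.exists_pushout A B (G t)
  haveI := hpushi
  haveI : Algebra.IsPushout A B (G t) Si := Algebra.IsPushout.symm inferInstance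
  obtain ⟨Mi, _, _, _, _, fi, hfi⟩ := EtalePushout.exists_baseChange B Si M
  letI : Module (G t) Mi := Module.compHom Mi (algebraMap (G t) Si)
  haveI : IsScalarTower (G t) Si Mi := IsScalarTower.of_algebraMap_smul fun _ _ => rfl
  have h2 := (hI (G t) Si Mi fi hfi).mp fun q _ hq => ht Si Mi fi hfi q (le_trans (sup_le_sup_right (by
    refine Ideal.map_mono (Ideal.map_le_iff_le_comap.mpr fun a ha => ?_)
    exact fun hu => ha (isUnit_of_map_unit (algebraMap A (G t)) a hu)) _) hq)
  refine ⟨t.1, le_antisymm (hspI t) fun a ha => ?_⟩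
  have h3 := Ideal.mem_map_of_mem (algebraMap A (G t)) ha
  rw [h2] at h3
  exact Ideal.Quotient.eq_zero_iff_mem.mp h3

open IsLocalRing in
/-- Let A be a henselian local ring, A → B a local homomorphism of local rings which is essentially of
finite type, and M a finite B-module. Then some ideal I of A has the following property: for any
local ring A' with a local structure map from A, writing B', M' for the base changes of B, M to A'
(any models), M' is flat over A' at all primes of B' lying above both maximal ideals exactly when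
IA' = 0. If A → B is essentially of finite presentation and M is finitely presented over B then I is
finitely generated. -/
theorem result {A B : Type u} [CommRing A] [HenselianLocalRing A] [CommRing B] [IsLocalRing B] [Algebra A B]
    [IsLocalHom (algebraMap A B)] [Algebra.EssFiniteType A B]
    (M : Type u) [AddCommGroup M] [Module B M] [Module A M] [IsScalarTower A B M] [Module.Finite B M] :
    ∃ I : Ideal A,
      (∀ (A' B' M' : Type u) [CommRing A'] [IsLocalRing A'] [Algebra A A'] [IsLocalHom (algebraMap A A')]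
        [CommRing B'] [Algebra B B'] [Algebra A' B'] [Algebra A B'] [IsScalarTower A B B'] [IsScalarTower A A' B']
        [Algebra.IsPushout A B A' B']
        [AddCommGroup M'] [Module B' M'] [Module B M'] [IsScalarTower B B' M'] [Module A' M'] [IsScalarTower A' B' M']
        (f : M →ₗ[B] M'), IsBaseChange B' f →
        ((∀ (q : Ideal B') [q.IsPrime], (maximalIdeal A').map (algebraMap A' B') ⊔ (maximalIdeal B).map (algebraMap B B') ≤ q →
            FlatCA.FlatAt A' q M') ↔ I.map (algebraMap A A') = ⊥)) ∧
      (FlatCA.EssFinitePresentation A B → Module.FinitePresentation B M → I.FG) := by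
  obtain ⟨I, hI⟩ := exists_ideal (A := A) (B := B) M
  exact ⟨I, hI, fun hB hM => fg_of_ideal M hB I hI⟩

end Groth.Agent.S1229
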