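import Groth.Statements.S18836
import Groth.Agent.QCohMod.Coherent
import Groth.Agent.QCohMod.QCQS
import Groth.Agent.QCohMod.Category
import Groth.Agent.QCohMod.FTCriterion
import Groth.Agent.Flatmor4.FlatModAffine
import Groth.Agent.SchemeMorphisms.PrinParts.FlatExact
import Groth.Agent.CohTwo.Glue
import Groth.Prelude.Def_FrameBundle
import Groth.Agent.KTheory.LocFree
import Groth.Agent.LocFree.Basic
import Mathlib.RingTheory.Flat.TorsionFree
import Mathlib.RingTheory.DiscreteValuationRing.Basic

set_option autoImplicit false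
universe u
open CategoryTheory CategoryTheory.Limits AlgebraicGeometry
open FGA

namespace Groth.Agent.S18836

/-- The fraction field of a discrete valuation ring is obtained by inverting a uniformiser. -/
theorem isLocalization_away (R : Type u) [CommRing R] [IsDomain R] [IsDiscreteValuationRing R] :
    ∃ p : R, IsLocalization.Away p (FractionRing R) := by
  obtain ⟨p, hp⟩ := IsDiscreteValuationRing.exists_irreducible R
  refine ⟨p, ⟨?_, ?_, ?_⟩⟩
  · rintro ⟨_, n, rfl⟩
    refine IsUnit.mk0 _ ?_
    simpa [map_pow] using pow_ne_zero n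
      ((map_ne_zero_iff _ (IsFractionRing.injective R (FractionRing R))).2 hp.ne_zero)
  · intro z
    obtain ⟨a, ⟨b, hb⟩, rfl⟩ := IsLocalization.exists_mk'_eq (nonZeroDivisors R) z
    obtain ⟨n, w, rfl⟩ := IsDiscreteValuationRing.eq_unit_mul_pow_irreducible
      (nonZeroDivisors.ne_zero hb) hp
    refine ⟨(a * ↑w⁻¹, ⟨p ^ n, n, rfl⟩), ?_⟩
    change IsLocalization.mk' (FractionRing R) a _ * algebraMap R _ (p ^ n) =
      algebraMap R _ (a * ↑w⁻¹)
    rw [map_mul (algebraMap R (FractionRing R)) a,
      ← IsLocalization.mk'_spec (FractionRing R) a ⟨↑w * p ^ n, hb⟩, map_mul]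
    have : algebraMap R (FractionRing R) (w : R) * algebraMap R (FractionRing R) (↑w⁻¹ : R) = 1 := by
      rw [← map_mul, Units.mul_inv, map_one]
    linear_combination (-(IsLocalization.mk' (FractionRing R) a ⟨↑w * p ^ n, hb⟩) *
      algebraMap R (FractionRing R) (p ^ n)) * this
  · intro x y h
    exact ⟨1, by simpa using IsFractionRing.injective R (FractionRing R) h⟩

/-- The closure of a quotient of a free module on the open part of a family over a Dedekind domain
is flat. -/
theorem exists_flat_extension {Y U : Scheme.{u}} {R K : CommRingCat.{u}} [IsLocallyNoetherian Y]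
    [IsDomain R] [IsPrincipalIdealRing R] (hK : ∀ r : R, r ≠ 0 → ∀ ψ : R ⟶ K, Function.Injective ψ.hom →
      IsUnit (ψ.hom r))
    (ψ : R ⟶ K) (hψ : Function.Injective ψ.hom) (s : Y ⟶ Spec R) (j : U ⟶ Y) (t : U ⟶ Spec K)
    (w : j ≫ s = t ≫ Spec.map ψ) [IsOpenImmersion j] [QuasiCompact j]
    {F : U.Modules} (hF : Coh.IsCoh F) {N : ℕ} (q : FlatMod.freeMod U N ⟶ F) [Epi q] :
    ∃ (F' : Y.Modules) (q' : FlatMod.freeMod Y N ⟶ F'), Coh.IsCoh F' ∧ Epi q' ∧
      FlatMod.IsFlatOver s F' ∧ Nonempty ((Scheme.Modules.pullback j).obj F' ≅ F) := by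
  have := hF.1
  have hfree : Coh.IsCoh (FlatMod.freeMod Y N) :=
    KTheory.LocFree.isCoh (Groth.LocFree.isFinLocFree_freeMod Y N)
  have := hfree.1
  have : ((Scheme.Modules.pushforward j).obj F).IsQuasicoherent := QCohMod.isQCoh_pushforward (M := F) j
  let adj := Scheme.Modules.pullbackPushforwardAdjunction j
  let q₀ : (Scheme.Modules.pullback j).obj (FlatMod.freeMod Y N) ⟶ F :=
    (FrB.pullbackFreeIso j N).hom ≫ q
  have : Epi q₀ := epi_comp _ _
  let a := adj.homEquiv _ _ q₀
  have hq₀ : (Scheme.Modules.pullback j).map a ≫ adj.counit.app F = q₀ :=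
    (adj.homEquiv_counit _ _ a).symm.trans ((adj.homEquiv _ _).symm_apply_apply q₀)
  let F' := Abelian.image a
  let q' : FlatMod.freeMod Y N ⟶ F' := Abelian.factorThruImage a
  let i : F' ⟶ (Scheme.Modules.pushforward j).obj F := Abelian.image.ι a
  have hfac : q' ≫ i = a := Abelian.image.fac a
  have : Mono i := inferInstanceAs (Mono (kernel.ι _))
  have hq' : Epi q' := inferInstanceAs (Epi (Abelian.factorThruImage a))
  have hcoh : Coh.IsCoh F' := by
    have h1 := Groth.QCohMod.isCoh_kernel a (M := FlatMod.freeMod Y N) hfree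
    have h2 := Groth.QCohMod.isCoh_cokernel (kernel.ι a) (M := kernel a) (N := FlatMod.freeMod Y N)
      (hN := hfree)
    exact Groth.QCohMod.isCoh_of_iso (Abelian.coimageIsoImage a) h2
  refine ⟨F', q', hcoh, hq', ?_, ?_⟩
  · intro y
    obtain ⟨W, hW, hyW, -⟩ := exists_isAffineOpen_mem_and_subset (X := Y) (x := y)
      (U := (⊤ : Y.Opens)) trivial
    have := hcoh.1
    refine (Groth.Flatmor4.flat_sections_iff s F' hW (isAffineOpen_top (Spec R)) (e := le_top)).1
      ?_ y hyW
    let _ := Groth.Flatmor4.sectionModule s F' (U := W) (V := ⊤) le_top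
    let e := (Scheme.ΓSpecIso R).commRingCatIsoToRingEquiv
    have : IsPrincipalIdealRing Γ(Spec R, ⊤) :=
      IsPrincipalIdealRing.of_surjective e.symm.toRingHom e.symm.surjective
    have : IsDomain Γ(Spec R, ⊤) := e.toMulEquiv.isDomain
    refine Module.Flat.flat_iff_torsion_eq_bot_of_isBezout.2 (eq_bot_iff.2 fun m hm => ?_)
    obtain ⟨⟨r, hr⟩, hrm⟩ := hm
    rw [Submodule.mem_bot]
    refine (Groth.CohTwo.mono_iff_app_injective i).1 inferInstance W ?_
    rw [map_zero]
    have h1 : (i.app W) (s.appLE ⊤ W le_top r • m) = 0 := by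
      have : s.appLE ⊤ W le_top r • m = 0 := hrm
      rw [this, map_zero]
    rw [Scheme.Modules.Hom.app_smul] at h1
    have hu : IsUnit (j.app W (s.appLE ⊤ W le_top r)) := by
      have h2 : IsUnit (Spec.map ψ |>.appTop r) := by
        have h3 := hK ((Scheme.ΓSpecIso R).hom r)
          (fun h => nonZeroDivisors.ne_zero hr
            (e.injective (h.trans (map_zero e).symm))) ψ hψ
        have h4 : (Scheme.ΓSpecIso K).hom ((Spec.map ψ).appTop r) = ψ.hom ((Scheme.ΓSpecIso R).hom r) :=
          congr($(Scheme.ΓSpecIso_naturality ψ) r)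
        rw [← h4] at h3
        exact (isUnit_map_iff (Scheme.ΓSpecIso K).commRingCatIsoToRingEquiv _).1 h3
      have h5 : j.app W (s.appLE ⊤ W le_top r) = t.appLE ⊤ (j ⁻¹ᵁ W) le_top ((Spec.map ψ).appTop r) := by
        rw [← Scheme.Hom.appLE_eq_app (f := j), ← CommRingCat.comp_apply, Scheme.Hom.appLE_comp_appLE]
        simp only [w]
        rw [← Scheme.Hom.appLE_comp_appLE (U := ⊤) (V := ⊤) (W := j ⁻¹ᵁ W) t (Spec.map ψ) le_rfl le_top]
        exact congrArg (fun z => t.appLE ⊤ (j ⁻¹ᵁ W) le_top z)
          congr($(Scheme.Hom.appLE_eq_app (f := Spec.map ψ) (U := ⊤)) r)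
      rw [h5]
      exact h2.map _
    have h6 : (j.app W (s.appLE ⊤ W le_top r)) • (show Γ(F, j ⁻¹ᵁ W) from i.app W m) = 0 := h1
    exact (hu.smul_eq_zero (M := Γ(F, j ⁻¹ᵁ W))).1 h6
  · have hm : Mono ((Scheme.Modules.pullback j).map i) :=
      Groth.PrinPartsAux.mono_pullback_map j i
    have hff := (Scheme.Modules.restrictAdjunction j).fullyFaithfulROfIsIsoCounit
    have := hff.full
    have := hff.faithful
    have : IsIso (adj.counit.app F) := inferInstance
    let φ := (Scheme.Modules.pullback j).map i ≫ adj.counit.app F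
    have : Mono φ := mono_comp _ _
    have : Epi φ := by
      refine epi_of_epi_fac (f := (Scheme.Modules.pullback j).map q') (h := q₀) ?_
      simp only [φ, ← Category.assoc, ← Functor.map_comp, hfac]
      exact hq₀
    have : IsIso φ := isIso_of_mono_of_epi φ
    exact ⟨asIso φ⟩

/-- Let k be an algebraically closed field of characteristic zero, X a projective k-scheme (proper over
k, carrying an ample invertible sheaf), R a discrete valuation ring containing k with fraction field
K, X_R = X ×_k Spec R and X_K = X_R ×_(Spec R) Spec K with j : X_K → X_R the canonical open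
immersion. If F is a coherent module on X_K which is a quotient of O^N, then there is a coherent
module F' on X_R, flat over Spec R and again a quotient of O^N, whose restriction j^*F' to X_K is
isomorphic to F. (The Hilbert polynomial of the closed fibre of F' then equals that of F by
flatness; that clause is not restated.) The published statement is for a valuation ring R containing
k; its argument uses a uniformiser, and this row takes R a discrete valuation ring. The row asserts
only the existence of an isomorphism j^*F' ≅ F, not its compatibility with the two quotient maps. -/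
theorem result (k : Type u) [Field k] [IsAlgClosed k] [CharZero k]
    (X : Scheme.{u}) [X.Over (Spec (CommRingCat.of k))] [IsProper (X ↘ Spec (CommRingCat.of k))]
    (L : X.Modules) (hLi : PicF.IsInvertible L) (hL : CohB1.IsAmple L)
    (R : Type u) [CommRing R] [IsDomain R] [IsDiscreteValuationRing R] [Algebra k R]
    (N : ℕ)
    (F : (pullback (pullback.snd (X ↘ Spec (CommRingCat.of k))
              (Spec.map (CommRingCat.ofHom (algebraMap k R))))
            (Spec.map (CommRingCat.ofHom (algebraMap R (FractionRing R))))).Modules)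
    (hF : Coh.IsCoh F)
    (q : FlatMod.freeMod _ N ⟶ F) (hq : Epi q) :
    ∃ (F' : (pullback (X ↘ Spec (CommRingCat.of k)) (Spec.map (CommRingCat.ofHom (algebraMap k R)))).Modules)
      (q' : FlatMod.freeMod _ N ⟶ F'),
      Coh.IsCoh F' ∧ Epi q' ∧
      FlatMod.IsFlatOver (pullback.snd (X ↘ Spec (CommRingCat.of k))
          (Spec.map (CommRingCat.ofHom (algebraMap k R)))) F' ∧
      Nonempty ((Scheme.Modules.pullback
          (pullback.fst (pullback.snd (X ↘ Spec (CommRingCat.of k))
              (Spec.map (CommRingCat.ofHom (algebraMap k R))))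
            (Spec.map (CommRingCat.ofHom (algebraMap R (FractionRing R)))))).obj F' ≅ F) := by
  obtain ⟨p, hp⟩ := isLocalization_away R
  have : IsOpenImmersion (Spec.map (CommRingCat.ofHom (algebraMap R (FractionRing R)))) :=
    IsOpenImmersion.of_isLocalization p
  have : IsLocallyNoetherian (pullback (X ↘ Spec (CommRingCat.of k))
      (Spec.map (CommRingCat.ofHom (algebraMap k R)))) :=
    LocallyOfFiniteType.isLocallyNoetherian
      (pullback.snd (X ↘ Spec (CommRingCat.of k)) (Spec.map (CommRingCat.ofHom (algebraMap k R))))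
  exact exists_flat_extension (R := CommRingCat.of R)
    (fun r hr ψ hψ => IsUnit.mk0 _ fun h => hr (hψ (h.trans (map_zero ψ.hom).symm)))
    (CommRingCat.ofHom (algebraMap R (FractionRing R))) (IsFractionRing.injective R (FractionRing R))
    _ (pullback.fst _ _) (pullback.snd _ _) pullback.condition hF q

end Groth.Agent.S18836
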