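import Groth.Statements.S16627
import Groth.Agent.Variety2.Reg.Pn

set_option autoImplicit false
universe u
open Variety

namespace Groth.Agent.S16627

open AlgebraicGeometry CategoryTheory CategoryTheory.Limits in
/-- Let k be a field, F a coherent module on projective n-space P^n_k which is m-regular, and ι : F ⊗
O(-1) → F a monomorphism of O-modules (such as multiplication by a linear form that is a
nonzerodivisor on F, i.e. a hyperplane avoiding the associated points of F). Then the cokernel of ι
— the restriction of F to the hyperplane, as a module on P^n_k — is again m-regular. (Stated for an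
arbitrary monomorphism F(-1) → F and an arbitrary ground field.) -/
theorem result (k : Type u) [Field k] (n : ℕ)
    (F : (CohB1.ProjSpace n k).Modules) (hF : Coh.IsCoh F) (m : ℤ) (hreg : Curv2.IsMRegular k n F m)
    (ι : CohB1.tensorMod F (Twist.twistProjSpace n k (-1)) ⟶ F) [Mono ι] :
    Curv2.IsMRegular k n (cokernel ι) m := by
  haveI := hF.1
  intro i hi hin
  refine Groth.Variety2.Reg.subsingleton_right k
    (Groth.Variety2.Reg.shortExact_fT (Groth.Variety2.Reg.cokernel_shortExact ι) (m - i))
    (hreg i hi hin) ?_
  exact Groth.Variety2.Reg.subsingleton_twist_twist F rfl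
    (Groth.Variety2.Reg.vanish_of_mReg F hreg (by omega) (by push_cast; omega))

end Groth.Agent.S16627
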