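import Groth.Statements.S15003
import Groth.Agent.Flatmor4.FiniteDominant
import Groth.Agent.Pi1FEt.Points
import Mathlib.AlgebraicGeometry.AlgClosed.Basic
import Mathlib.AlgebraicGeometry.FunctionField

set_option autoImplicit false
universe u
open CategoryTheory CategoryTheory.Limits AlgebraicGeometry
open Harb

namespace Groth.Agent.S15003

/-- The degree of a finite flat cover of integral schemes is the degree at the generic point. -/
theorem finrank_genericPoint {X Y : Scheme.{u}} [IsIntegral X] [IsIntegral Y] (π : Y ⟶ X)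
    [IsFinite π] [Flat π] (e : π.base (genericPoint Y) = genericPoint X) :
    π.finrank (genericPoint X) =
      Models.homDegree (X.presheaf.stalkSpecializes (specializes_of_eq e) ≫ π.stalkMap (genericPoint Y)).hom := by
  obtain ⟨_, ⟨U, hU, rfl⟩, hηU, -⟩ :=
    X.isBasis_affineOpens.exists_subset_of_mem_open (Set.mem_univ (genericPoint X)) isOpen_univ
  change X.Opens at U
  let W := π ⁻¹ᵁ U
  have hW : IsAffineOpen W := hU.preimage π
  have hηW : genericPoint Y ∈ W := show π.base (genericPoint Y) ∈ U from e ▸ hηU
  have : Nonempty U := ⟨⟨_, hηU⟩⟩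
  have : Nonempty W := ⟨⟨_, hηW⟩⟩
  let φ := π.app U
  let ψ := X.presheaf.stalkSpecializes (specializes_of_eq e) ≫ π.stalkMap (genericPoint Y)
  let : Algebra Γ(X, U) Γ(Y, W) := φ.hom.toAlgebra
  let : Algebra X.functionField Y.functionField := ψ.hom.toAlgebra
  let : Algebra Γ(X, U) Y.functionField :=
    ((Y.germToFunctionField W).hom.comp φ.hom).toAlgebra
  have : IsFractionRing Γ(X, U) X.functionField := functionField_isFractionRing_of_isAffineOpen X U hU
  have : IsFractionRing Γ(Y, W) Y.functionField := functionField_isFractionRing_of_isAffineOpen Y W hW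
  have hsq : X.germToFunctionField U ≫ ψ = φ ≫ Y.germToFunctionField W := by
    simp only [ψ, φ, Scheme.germToFunctionField]
    rw [X.presheaf.germ_stalkSpecializes_assoc]
    exact π.germ_stalkMap U (genericPoint Y) hηW
  have : IsScalarTower Γ(X, U) X.functionField Y.functionField :=
    IsScalarTower.of_algebraMap_eq fun a => (ConcreteCategory.congr_hom hsq a).symm
  have : IsScalarTower Γ(X, U) Γ(Y, W) Y.functionField := IsScalarTower.of_algebraMap_eq fun _ => rfl
  have hfin : φ.hom.Finite := π.finite_app U hU
  have : Module.Finite Γ(X, U) Γ(Y, W) := hfin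
  have : Module.Flat Γ(X, U) Γ(Y, W) := by
    have h := HasRingHomProperty.appLE (P := @Flat) π ‹Flat π› ⟨U, hU⟩ ⟨W, hW⟩ le_rfl
    rwa [← Scheme.Hom.app_eq_appLE] at h
  have : FaithfulSMul Γ(X, U) Γ(Y, W) := (faithfulSMul_iff_algebraMap_injective _ _).2 fun a b hab =>
    IsFractionRing.injective Γ(X, U) X.functionField
      ((ψ.hom.injective) (((ConcreteCategory.congr_hom hsq a).trans
        (congrArg (Y.germToFunctionField W).hom hab)).trans (ConcreteCategory.congr_hom hsq b).symm))
  have hpb : IsPullback hW.fromSpec (Spec.map φ) π hU.fromSpec := by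
    refine (IsOpenImmersion.isPullback _ _ _ _ ?_ ?_).flip
    · simp only [φ, Scheme.Hom.app_eq_appLE]
      exact (IsAffineOpen.SpecMap_appLE_fromSpec π hU hW _).symm
    · rw [hW.opensRange_fromSpec, hU.opensRange_fromSpec]
  have hx : genericPoint X ∈ Set.range hU.fromSpec := by rw [hU.range_fromSpec]; exact hηU
  obtain ⟨t, ht⟩ := hx
  refine (congrArg π.finrank ht).symm.trans ?_
  rw [← Scheme.Hom.finrank_of_isPullback _ _ π hU.fromSpec hpb t]
  refine (Scheme.Hom.finrank_SpecMap_algebraMap Γ(X, U) Γ(Y, W) t).trans ?_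
  rw [Module.rankAtStalk_eq, Ideal.finrank_fiber_eq_finrank]
  exact (IsFractionRing.finrank_eq Γ(X, U) X.functionField Γ(Y, W) Y.functionField).symm

/-- Let k be an algebraically closed field and let π : Y → X be a finite, surjective and unramified
k-morphism of smooth varieties over k (X and Y integral, separated and of finite type over k with
all local rings regular) which sends the generic point of Y to the generic point of X, so that the
function field k(X) embeds in k(Y). Then for every closed point p of X the fibre π⁻¹(p) consists of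
exactly deg π points, where deg π = [k(Y) : k(X)] is the degree of that field extension. -/
theorem result (k : Type u) [Field k] [IsAlgClosed k]
    (X Y : Scheme.{u}) [X.Over (Spec (CommRingCat.of k))] [Y.Over (Spec (CommRingCat.of k))]
    [IsIntegral X] [IsIntegral Y]
    [IsSeparated (X ↘ (Spec (CommRingCat.of k)))] [LocallyOfFiniteType (X ↘ (Spec (CommRingCat.of k)))]
    [QuasiCompact (X ↘ (Spec (CommRingCat.of k)))]
    [IsSeparated (Y ↘ (Spec (CommRingCat.of k)))] [LocallyOfFiniteType (Y ↘ (Spec (CommRingCat.of k)))]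
    [QuasiCompact (Y ↘ (Spec (CommRingCat.of k)))]
    (hregX : ∀ x : X, IsRegularLocalRing (X.presheaf.stalk x))
    (hregY : ∀ y : Y, IsRegularLocalRing (Y.presheaf.stalk y))
    (π : Y ⟶ X) (hπ : π ≫ (X ↘ (Spec (CommRingCat.of k))) = (Y ↘ (Spec (CommRingCat.of k))))
    [AlgebraicGeometry.IsFinite π] [AlgebraicGeometry.Surjective π] [AlgebraicGeometry.FormallyUnramified π]
    (e : π.base (genericPoint Y) = genericPoint X) (p : X) (hp : IsClosed ({p} : Set X)) :
    Nat.card {q : Y // π.base q = p} =
      Models.homDegree (X.presheaf.stalkSpecializes (specializes_of_eq e) ≫ π.stalkMap (genericPoint Y)).hom := by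
  have : LocallyOfFinitePresentation π := by
    have : IsLocallyNoetherian X := LocallyOfFiniteType.isLocallyNoetherian (X ↘ (Spec (CommRingCat.of k)))
    infer_instance
  have : Flat π := Groth.Flatmor4.flat_of_finite_of_isMax π hregY hregX fun η hη => by
    have h₁ : genericPoint Y ⤳ η := (genericPoint_spec Y).specializes trivial
    have h₂ : η ⤳ genericPoint Y := hη h₁
    have hg : η = genericPoint Y := (Specializes.antisymm h₂ h₁).eq
    subst hg
    intro x hx
    rw [e]
    exact (genericPoint_spec X).specializes trivial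
  have : Etale π := (Etale.iff_flat_and_formallyUnramified (f := π)).2 ⟨inferInstance, inferInstance, inferInstance⟩
  rw [← finrank_genericPoint π e, ← π.isLocallyConstant_finrank.apply_eq_of_preconnectedSpace p]
  let sX := X ↘ (Spec (CommRingCat.of k))
  let sY := Y ↘ (Spec (CommRingCat.of k))
  let ξ := pointOfClosedPoint sX p hp
  have hξ : ξ ≫ sX = 𝟙 _ := pointOfClosedPoint_comp sX p hp
  have hd : ξ default = p := pointOfClosedPoint_apply sX p hp _
  have : IsFinite (Groth.Pi1FEt.cover π).hom := ‹IsFinite π›
  have : Etale (Groth.Pi1FEt.cover π).hom := ‹Etale π›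
  have : LocallyOfFiniteType sY := ‹LocallyOfFiniteType (Y ↘ (Spec (CommRingCat.of k)))›
  have key := Groth.Pi1FEt.natCard_fiberObj ξ (Groth.Pi1FEt.cover π)
  have hs : ∀ s : FEt.fiberObj ξ (Groth.Pi1FEt.cover π), s.1 ≫ sY = 𝟙 _ := fun s => by
    have h : s.1 ≫ π = ξ := s.2
    show s.1 ≫ sY = 𝟙 _
    exact ((congrArg (s.1 ≫ ·) hπ.symm).trans ((Category.assoc _ _ _).symm.trans
      (congrArg (· ≫ sX) h))).trans hξ
  let F : FEt.fiberObj ξ (Groth.Pi1FEt.cover π) → {q : Y // π.base q = p} := fun s =>
    ⟨s.1 default, ((Scheme.Hom.comp_apply s.1 π default).symm.trans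
      (congrArg (fun a => a default) s.2)).trans hd⟩
  have hF : Function.Bijective F := by
    constructor
    · intro a b hab
      refine Subtype.ext (ext_of_apply_closedPoint_eq (X := Y) (Y ↘ (Spec (CommRingCat.of k))) (hs a) (hs b) ?_)
      have := congrArg Subtype.val hab
      exact (congrArg a.1 (Subsingleton.elim _ _)).trans (this.trans (congrArg b.1 (Subsingleton.elim _ _)))
    · rintro ⟨q, hq⟩
      have hq' : IsClosed ({q} : Set Y) := by
        have hdisc : DiscreteTopology ↥(π.base ⁻¹' ({p} : Set X)) :=
          (π.isDiscrete_preimage_singleton p).to_subtype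
        have hcl : IsClosed (π.base ⁻¹' ({p} : Set X)) := hp.preimage π.continuous
        have := hcl.isClosedEmbedding_subtypeVal.isClosedMap _
          (isClosed_discrete ({⟨q, hq⟩} : Set ↥(π.base ⁻¹' ({p} : Set X))))
        rwa [Set.image_singleton] at this
      refine ⟨⟨pointOfClosedPoint (X := Y) (Y ↘ (Spec (CommRingCat.of k))) q hq', ?_⟩, Subtype.ext (pointOfClosedPoint_apply (X := Y) (Y ↘ (Spec (CommRingCat.of k))) q hq' _)⟩
      show pointOfClosedPoint (Y ↘ (Spec (CommRingCat.of k))) q hq' ≫ π = ξ
      refine ext_of_apply_closedPoint_eq sX ?_ hξ ?_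
      · rw [Category.assoc, show π ≫ sX = _ from hπ, pointOfClosedPoint_comp]
      · rw [Scheme.Hom.comp_apply, pointOfClosedPoint_apply, pointOfClosedPoint_apply]
        exact hq
  rw [← Nat.card_congr (Equiv.ofBijective F hF), key, hd]
  rfl

end Groth.Agent.S15003
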