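import Groth.Statements.S18504
import Mathlib
import Groth.Agent.DescentBase.UnivOpenField
-- import your own Groth.Agent.* helpers here

set_option autoImplicit false
universe u
open CategoryTheory MonoidalCategory CartesianMonoidalCategory MonObj GrpObj AlgebraicGeometry Topology
open EqInt

namespace Groth.Agent.S18504

open CategoryTheory CategoryTheory.Limits AlgebraicGeometry CartesianMonoidalCategory MonoidalCategory in
/-- The base change of an invariant map which is universally submersive with transitive orbits is open. -/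
theorem isOpenMap_of_orbit {S : Scheme.{u}} {G X Y : Over S} [GrpObj G] (a : AlgGrp.Action G X) (φ : X ⟶ Y)
    (h : GIT.IsGeomQuot a φ) [UniversallyOpen G.hom] {X' Y' : Scheme.{u}} (pr : X' ⟶ X.left) (φ' : X' ⟶ Y')
    (b : Y' ⟶ Y.left) (sq : IsPullback φ' pr b φ.left) : IsOpenMap φ'.base := by
  intro U hU
  have hq : Topology.IsQuotientMap φ'.base := h.subm pr b φ' sq
  rw [← hq.isOpen_preimage]
  let p2 : (G ⊗ X).left ⟶ X.left := (snd G X).left
  haveI : UniversallyOpen p2 := inferInstanceAs (UniversallyOpen (Limits.pullback.snd G.hom X.hom))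
  let P := Limits.pullback (p2 ≫ φ.left) b
  let a1 : P ⟶ X' := sq.lift (Limits.pullback.snd (p2 ≫ φ.left) b)
    (Limits.pullback.fst (p2 ≫ φ.left) b ≫ a.act.left)
    (by rw [Category.assoc, h.inv.left, ← pullback.condition])
  let a2 : P ⟶ X' := sq.lift (Limits.pullback.snd (p2 ≫ φ.left) b)
    (Limits.pullback.fst (p2 ≫ φ.left) b ≫ p2)
    (by rw [Category.assoc, ← pullback.condition])
  have ha12 : a1 ≫ φ' = a2 ≫ φ' := (sq.lift_fst _ _ _).trans (sq.lift_fst _ _ _).symm
  haveI : UniversallyOpen a2 := by
    have t : IsPullback a2 (Limits.pullback.fst (p2 ≫ φ.left) b) pr p2 := by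
      refine IsPullback.of_right ?_ (sq.lift_snd _ _ _) sq
      rw [show a2 ≫ φ' = Limits.pullback.snd (p2 ≫ φ.left) b from sq.lift_fst _ _ _]
      exact (IsPullback.of_hasPullback _ _).flip
    exact MorphismProperty.of_isPullback (P := @UniversallyOpen) t.flip inferInstance
  have key : φ'.base ⁻¹' (φ'.base '' U) = a2.base '' (a1.base ⁻¹' U) := by
    ext x
    constructor
    · rintro ⟨x₁, hx₁, e⟩
      obtain ⟨w, hw1, hw2⟩ := Scheme.Pullback.exists_preimage_pullback (f := φ') (g := φ') x₁ x e
      let m : Limits.pullback φ' φ' ⟶ Limits.pullback φ.left φ.left :=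
        Limits.pullback.map _ _ _ _ pr pr b sq.w sq.w
      obtain ⟨v, hv⟩ := h.orbit (m.base w)
      obtain ⟨q, hq1, hq2⟩ := Scheme.Pullback.exists_preimage_pullback (f := GIT.PsiY a φ h.inv) (g := m) v w hv
      have hm1 : m ≫ Limits.pullback.fst φ.left φ.left = Limits.pullback.fst φ' φ' ≫ pr := pullback.lift_fst _ _ _
      have hm2 : m ≫ Limits.pullback.snd φ.left φ.left = Limits.pullback.snd φ' φ' ≫ pr := pullback.lift_snd _ _ _
      have hP1 : GIT.PsiY a φ h.inv ≫ Limits.pullback.fst φ.left φ.left = a.act.left := pullback.lift_fst _ _ _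
      have hP2 : GIT.PsiY a φ h.inv ≫ Limits.pullback.snd φ.left φ.left = p2 := pullback.lift_snd _ _ _
      let r : Limits.pullback (GIT.PsiY a φ h.inv) m ⟶ P := Limits.pullback.lift (Limits.pullback.fst _ _)
        (Limits.pullback.snd _ _ ≫ Limits.pullback.snd φ' φ' ≫ φ') (by
          rw [← hP2, Category.assoc, pullback.condition_assoc, ← Category.assoc m, hm2, Category.assoc,
            Category.assoc, Category.assoc, sq.w])
      have e1 : r ≫ a1 = Limits.pullback.snd _ _ ≫ Limits.pullback.fst φ' φ' := by
        refine sq.hom_ext ?_ ?_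
        · rw [Category.assoc, sq.lift_fst, pullback.lift_snd, Category.assoc, pullback.condition]
        · rw [Category.assoc, sq.lift_snd, pullback.lift_fst_assoc, ← hP1, pullback.condition_assoc, hm1,
            Category.assoc]
      have e2 : r ≫ a2 = Limits.pullback.snd _ _ ≫ Limits.pullback.snd φ' φ' := by
        refine sq.hom_ext ?_ ?_
        · rw [Category.assoc, sq.lift_fst, pullback.lift_snd, Category.assoc]
        · rw [Category.assoc, sq.lift_snd, pullback.lift_fst_assoc, ← hP2, pullback.condition_assoc, hm2,
            Category.assoc]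
      refine ⟨r.base q, ?_, ?_⟩
      · show a1.base (r.base q) ∈ U
        rw [← Scheme.Hom.comp_apply, e1, Scheme.Hom.comp_apply, hq2, hw1]
        exact hx₁
      · rw [← Scheme.Hom.comp_apply, e2, Scheme.Hom.comp_apply, hq2, hw2]
    · rintro ⟨q, hq', rfl⟩
      exact ⟨a1.base q, hq', by rw [← Scheme.Hom.comp_apply, ha12, Scheme.Hom.comp_apply]⟩
  rw [key]
  exact a2.isOpenMap _ (hU.preimage a1.continuous)


/-- Over a field k, let an affine group scheme G of finite type act on X, with X and Y separated of
finite type over k, and let (Y, φ) be a geometric quotient of X by G. Then φ is universally open.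
(The source takes X and Y integral; integrality plays no role. A geometric quotient is taken here
with φ universally submersive, and with this reading the universal openness is what the argument
gives.) -/
theorem result (k : Type u) [Field k]
    (G X Y : Over (Spec (CommRingCat.of k))) [GrpObj G] [IsAffine G.left] [LocallyOfFiniteType G.hom]
    [LocallyOfFiniteType X.hom] [QuasiCompact X.hom] [IsSeparated X.hom]
    [LocallyOfFiniteType Y.hom] [QuasiCompact Y.hom] [IsSeparated Y.hom]
    (a : AlgGrp.Action G X) (φ : X ⟶ Y) (h : GIT.IsGeomQuot a φ) :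
    UniversallyOpen φ.left := by
  haveI : UniversallyOpen G.hom := Groth.DescentBase.universallyOpen_of_field k G.hom
  exact ⟨fun X' Y' i₁ i₂ f' sq => isOpenMap_of_orbit a φ h i₁ f' i₂ sq⟩

end Groth.Agent.S18504
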