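import Groth.Statements.S1227
import Mathlib.LinearAlgebra.TensorProduct.RightExactness
import Mathlib.Algebra.Module.Projective

set_option autoImplicit false
universe u
open FlatMor

namespace Groth.Agent.S1227

open TensorProduct in
/-- Let u be a surjective linear map from a projective A-module M to an A-module N. Then there is an
ideal I of A such that for every A-algebra B, the base change u ⊗ 1 from B ⊗ M to B ⊗ N is bijective
if and only if the image of I in B is zero. -/
theorem result {A : Type u} [CommRing A] {M N : Type u} [AddCommGroup M] [Module A M] [Module.Projective A M]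
    [AddCommGroup N] [Module A N] (u : M →ₗ[A] N) (hu : Function.Surjective u) :
    ∃ I : Ideal A, ∀ (B : Type u) [CommRing B] [Algebra A B],
      Function.Bijective (u.baseChange B) ↔ I.map (algebraMap A B) = ⊥ := by
  classical
  let I : Ideal A := Ideal.span {x | ∃ (φ : M →ₗ[A] A) (k : M), u k = 0 ∧ φ k = x}
  refine ⟨I, fun B _ _ => ?_⟩
  have hsurj : Function.Surjective (u.baseChange B) := LinearMap.lTensor_surjective B hu
  constructor
  · intro h
    rw [Ideal.map_span, Ideal.span_eq_bot]
    rintro _ ⟨_, ⟨φ, k, hk, rfl⟩, rfl⟩
    have h1 : (1 : B) ⊗ₜ[A] k = 0 := h.1 (by simp [hk])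
    have := congrArg (fun z => (TensorProduct.rid A B) (φ.lTensor B z)) h1
    simpa [Algebra.smul_def] using this
  · intro h
    refine ⟨?_, hsurj⟩
    rw [injective_iff_map_eq_zero]
    intro z hz
    obtain ⟨w, rfl⟩ := (lTensor_exact B (LinearMap.exact_subtype_ker_map u) hu z).mp hz
    obtain ⟨s, hs⟩ := (inferInstance : Module.Projective A M).out
    induction w with
    | zero => simp
    | add a b ha hb => rw [map_add, ha ((lTensor_exact B (LinearMap.exact_subtype_ker_map u) hu _).mpr ⟨a, rfl⟩),
        hb ((lTensor_exact B (LinearMap.exact_subtype_ker_map u) hu _).mpr ⟨b, rfl⟩), add_zero]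
    | tmul b k =>
      rw [LinearMap.lTensor_tmul, Submodule.subtype_apply]
      conv_lhs => rw [← hs (k : M), Finsupp.linearCombination_apply, Finsupp.sum, TensorProduct.tmul_sum]
      refine Finset.sum_eq_zero fun m _ => ?_
      have h0 : algebraMap A B (s (k : M) m) = 0 := by
        have hm : s (k : M) m ∈ I :=
          Ideal.subset_span ⟨(Finsupp.lapply m).comp s, k, k.2, rfl⟩
        have h2 := Ideal.mem_map_of_mem (algebraMap A B) hm
        rwa [h, Ideal.mem_bot] at h2
      rw [TensorProduct.tmul_smul, TensorProduct.smul_tmul', Algebra.smul_def, h0, zero_mul,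
        TensorProduct.zero_tmul]

end Groth.Agent.S1227
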