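import Groth.Statements.S6338
import Mathlib

set_option autoImplicit false
universe u
open CAlg

namespace Groth.Agent.S6338

/-- Let M₁ → M₂ be a universally injective map of modules over a commutative ring (equivalently the
first map of a universally exact short exact sequence). If M₂ is Mittag-Leffler then so is M₁. -/
theorem result (R : Type u) [CommRing R] {M₁ M₂ : Type u}
    [AddCommGroup M₁] [Module R M₁] [AddCommGroup M₂] [Module R M₂] (f : M₁ →ₗ[R] M₂)
    (hf : CAlgX.UniversallyInjective R f) (h₂ : CAlg.IsMittagLeffler R M₂) :
    CAlg.IsMittagLeffler R M₁ := by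
  intro ι Q _ _
  have h : (TensorProduct.piRightHom R R M₂ Q).comp (f.rTensor (∀ i, Q i)) =
      (LinearMap.pi fun i => (f.rTensor (Q i)).comp (LinearMap.proj i)).comp
        (TensorProduct.piRightHom R R M₁ Q) := by
    refine TensorProduct.ext' fun x q => ?_
    ext i; simp
  intro a b hab
  refine hf _ (h₂ ι Q ?_)
  have h' := fun z => LinearMap.congr_fun h z
  simp only [LinearMap.comp_apply] at h'
  rw [h', h', hab]

end Groth.Agent.S6338
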