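import Groth.Statements.S6346
import Groth.Agent.Calg2.ML

set_option autoImplicit false
universe u
open scoped TensorProduct
open CAlg

namespace Groth.Agent.S6346

/-- Let M be a flat module over a commutative ring R. Then M is Mittag-Leffler exactly when, for each
finite free module F = R^n and each element x of F ⊗ M there is a smallest submodule F' of F such
that x lies in the image of F' ⊗ M → F ⊗ M. -/
theorem result (R : Type u) [CommRing R] (M : Type u)
    [AddCommGroup M] [Module R M] [Module.Flat R M] :
    CAlg.IsMittagLeffler R M ↔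
      ∀ (n : ℕ) (x : (Fin n → R) ⊗[R] M), ∃ F' : Submodule R (Fin n → R),
        x ∈ LinearMap.range (F'.subtype.rTensor M) ∧
        ∀ F'' : Submodule R (Fin n → R), x ∈ LinearMap.range (F''.subtype.rTensor M) → F' ≤ F'' := by
  classical
  have dual : ∀ {n : ℕ} (v : (Fin n → R)) (N : Type u) [AddCommGroup N] [Module R N] (φ : (Fin n → R) →ₗ[R] N),
      φ v = ∑ j, v j • φ (Pi.single j 1) := by
    intro n v N _ _ φ
    conv_lhs => rw [pi_eq_sum_univ' v, map_sum]
    simp
  constructor
  · intro hM n x
    let S := {F' : Submodule R (Fin n → R) // x ∈ LinearMap.range (F'.subtype.rTensor M)}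
    let Fm : Submodule R (Fin n → R) := ⨅ s : S, s.1
    refine ⟨Fm, ?_, fun F'' hF'' => iInf_le (fun s : S => s.1) ⟨F'', hF''⟩⟩
    let q : (Fin n → R) →ₗ[R] (∀ s : S, (Fin n → R) ⧸ s.1) := LinearMap.pi fun s => s.1.mkQ
    have hex : Function.Exact Fm.subtype q := by
      refine LinearMap.exact_iff.2 ?_
      rw [Submodule.range_subtype]
      ext v
      simp [q, Fm, funext_iff]
    refine (Module.Flat.rTensor_exact M hex x).1 ?_
    refine (TensorProduct.comm R _ _).injective ?_
    rw [map_zero]
    refine hM S (fun s => (Fin n → R) ⧸ s.1) (funext fun s => ?_)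
    rw [map_zero, Pi.zero_apply]
    have key : ∀ z : (Fin n → R) ⊗[R] M,
        TensorProduct.piRightHom R R M (fun s : S => (Fin n → R) ⧸ s.1) (TensorProduct.comm R _ _ (q.rTensor M z)) s
          = TensorProduct.comm R _ _ (s.1.mkQ.rTensor M z) := by
      intro z
      induction z with
      | zero => simp
      | tmul v m => simp [q]
      | add a b ha hb => simp only [map_add, Pi.add_apply, ha, hb]
    obtain ⟨y, hy⟩ := s.2
    rw [key]
    refine (congrArg (fun w => TensorProduct.comm R _ _ (s.1.mkQ.rTensor M w)) hy.symm).trans ?_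
    rw [← LinearMap.rTensor_comp_apply, (LinearMap.exact_subtype_mkQ s.1).linearMap_comp_eq_zero]
    simp
  · intro h
    refine Groth.Calg2.isMittagLeffler_of_dominated fun n f => ?_
    obtain ⟨F', ⟨x', hx'⟩, hmin⟩ := h n (∑ j, Pi.single j 1 ⊗ₜ[R] f (Pi.single j 1))
    obtain ⟨F0, hF0, hm⟩ := TensorProduct.exists_finite_submodule_left_of_setFinite {x'} (Set.finite_singleton x')
    obtain ⟨x0, hx0⟩ := hm (Set.mem_singleton x')
    obtain ⟨r, π, hπ⟩ := Module.Finite.exists_fin' R F0
    obtain ⟨x1, hx1⟩ := LinearMap.rTensor_surjective M hπ x0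
    let V : (Fin r → R) →ₗ[R] (Fin n → R) := F'.subtype ∘ₗ F0.subtype ∘ₗ π
    obtain ⟨mm, hmm⟩ : ∃ mm : Fin r → M, x1 = ∑ k, Pi.single k 1 ⊗ₜ[R] mm k := by
      refine ⟨fun k => (TensorProduct.lid R M) ((LinearMap.proj k).rTensor M x1), ?_⟩
      clear hx1
      induction x1 with
      | zero => simp
      | tmul v m =>
        conv_lhs => rw [pi_eq_sum_univ' v, TensorProduct.sum_tmul]
        refine Finset.sum_congr rfl fun k _ => ?_
        simp [TensorProduct.smul_tmul]
      | add a b ha hb =>
        conv_lhs => rw [ha, hb]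
        simp only [map_add, TensorProduct.tmul_add, Finset.sum_add_distrib]
    have hxV : ∑ k, V (Pi.single k 1) ⊗ₜ[R] mm k = ∑ j, Pi.single j 1 ⊗ₜ[R] f (Pi.single j 1) := by
      rw [← hx', ← hx0, ← hx1, hmm]
      simp [V]
    let a : (Fin n → R) →ₗ[R] (Fin r → R) :=
      Fintype.linearCombination R fun j k => V (Pi.single k 1) j
    refine ⟨Fin r → R, inferInstance, inferInstance, inferInstance, a, fun N _ _ => ?_⟩
    have hfa : f = Fintype.linearCombination R mm ∘ₗ a := by
      refine LinearMap.pi_ext' fun j => LinearMap.ext_ring ?_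
      have := congrArg (fun z => TensorProduct.lid R M ((LinearMap.proj j).rTensor M z)) hxV
      simpa [a, Fintype.linearCombination_apply, Pi.single_apply] using this.symm
    refine le_antisymm (fun z hz => ?_) fun z hz => ?_
    · rw [LinearMap.mem_ker] at hz ⊢
      let E : ∀ (l : ℕ), (Fin l → R) ⊗[R] N ≃ₗ[R] (Fin l → N) :=
        fun l => TensorProduct.comm R _ _ ≪≫ₗ TensorProduct.piScalarRight R R N (Fin l)
      let φ : (Fin n → R) →ₗ[R] N := Fintype.linearCombination R fun j => E n z j
      have hz' : φ.rTensor M (∑ j, Pi.single j 1 ⊗ₜ[R] f (Pi.single j 1)) = TensorProduct.comm R _ _ (f.rTensor N z) := by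
        clear hz hmm hx1
        simp only [φ, map_sum, LinearMap.rTensor_tmul, Fintype.linearCombination_apply_single, one_smul]
        induction z with
        | zero => simp
        | tmul v x =>
          simp only [LinearMap.rTensor_tmul, TensorProduct.comm_tmul]
          rw [dual v M f, TensorProduct.tmul_sum]
          refine Finset.sum_congr rfl fun j _ => ?_
          simp [E, TensorProduct.smul_tmul]
        | add a b ha hb =>
          simp only [map_add, Pi.add_apply, TensorProduct.add_tmul, Finset.sum_add_distrib, ha, hb]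
      rw [hz, map_zero] at hz'
      have hle : F' ≤ LinearMap.ker φ :=
        hmin _ ((Module.Flat.rTensor_exact M (LinearMap.exact_subtype_ker_map φ) _).1 hz')
      refine (E r).injective (funext fun k => ?_)
      have hk : φ (V (Pi.single k 1)) = 0 := hle (F0.subtype (π (Pi.single k 1))).2
      rw [map_zero, Pi.zero_apply, ← hk]
      clear hz hz' hle hk
      simp only [φ, Fintype.linearCombination_apply]
      induction z with
      | zero => simp
      | tmul v x =>
        simp [E, a, Fintype.linearCombination_apply, Finset.sum_apply, Finset.sum_smul, mul_comm (v _), mul_smul]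
      | add a b ha hb => simp only [map_add, Pi.add_apply, smul_add, Finset.sum_add_distrib, ha, hb]
    · rw [LinearMap.mem_ker] at hz ⊢
      rw [hfa, LinearMap.rTensor_comp_apply, hz, map_zero]

end Groth.Agent.S6346
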