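import Groth.Statements.S9026
import Groth.Agent.RaynaudGruson.GenericFreeScheme
import Groth.Agent.Flatmor4.OverRep
-- import your own Groth.Agent.* helpers here

set_option autoImplicit false
set_option linter.style.haveILetI false
universe u
open FlatMor

namespace Groth.Agent.S9026

open CategoryTheory CategoryTheory.Limits AlgebraicGeometry Opposite in
/-- For f : X → S smooth with geometrically irreducible fibres, F a quasi-coherent O_X-module of finite
type and p ≥ 0, the functor H_p on schemes over S (one point on T when the base change F_T is free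
of rank p on a neighbourhood of the generic point of every fibre of X ×_S T → T, empty otherwise;
the subfunctor of the final functor generated by that condition) is representable by a scheme S_p
over S whose structure morphism S_p → S is an immersion (a locally closed immersion). When the
module F is finitely presented, the morphism S_p → S is likewise finitely presented, i.e. locally of
finite presentation, quasi-compact and quasi-separated. -/
theorem result {X S : Scheme.{u}} (f : X ⟶ S) [Smooth f] [GeometricallyIrreducible f] (F : X.Modules) [Coh.IsQCoh F]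
    (hF : CohB1.IsFT F) (p : ℕ) :
    ∃ Z : Over S, IsImmersion Z.hom ∧
      Nonempty ((FlatFun.genPSp S (fun T => FlatFun.FreeAtGenericPts (PicF.XTproj f T) (FGA.ET f F T) p)).RepresentableBy Z) ∧
      (CohB1.IsFP F → LocallyOfFinitePresentation Z.hom ∧ QuasiCompact Z.hom ∧ QuasiSeparated Z.hom) := by
  classical
  haveI : F.IsQuasicoherent := ‹Coh.IsQCoh F›
  haveI hET : ∀ T : Over S, (FGA.ET f F T).IsQuasicoherent := fun T =>
    inferInstanceAs ((Scheme.Modules.pullback (pullback.fst f T.hom)).obj F).IsQuasicoherent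
  have hFT : ∀ T : Over S, CohB1.IsFT (FGA.ET f F T) := fun T =>
    Groth.QCohMod.isFT_pullback (pullback.fst f T.hom) F hF
  haveI hsm : ∀ T : Over S, Smooth (PicF.XTproj f T) := fun T =>
    MorphismProperty.pullback_snd f T.hom inferInstance
  haveI hgi : ∀ T : Over S, GeometricallyIrreducible (PicF.XTproj f T) := fun T =>
    MorphismProperty.pullback_snd f T.hom inferInstance
  let P : Over S → Prop := fun T => FlatFun.FreeAtGenericPts (PicF.XTproj f T) (FGA.ET f F T) p
  let Basis' : ∀ T : Over S, PicF.XT f T → Prop := fun T y =>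
    Nonempty (Module.Basis (Fin p) ((PicF.XT f T).presheaf.stalk y) ((FGA.ET f F T).presheaf.stalk y))
  have hbasis : ∀ T : Over S, P T → ∀ y, FlatFun.IsGenericPtOfFibre (PicF.XTproj f T) y → Basis' T y := by
    intro T hT y hy
    obtain ⟨x, hx1, hx2, hx3⟩ := hT (PicF.XTproj f T y)
    obtain rfl : x = y := ((hx2 y hx1.symm).antisymm (hy x hx1)).eq
    exact Groth.Flatmor4.nonempty_stalkBasis hx3
  have hmk : ∀ T : Over S, (∀ y, FlatFun.IsGenericPtOfFibre (PicF.XTproj f T) y → Basis' T y) → P T := by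
    intro T hb t
    obtain ⟨x, hx1, hx2⟩ := Groth.Flatmor4.exists_isGenericPtOfFibre (PicF.XTproj f T) t
    exact ⟨x, hx1, hx2, Groth.Flatmor4.isFreeOfRankNear_generic (PicF.XTproj f T) _ (hFT T) hb x hx2⟩
  have hstab : ∀ ⦃T T₀ : Over S⦄ (_ : T ⟶ T₀), P T₀ → P T := by
    intro T T₀ g h
    refine hmk T fun y' hy' => ?_
    obtain ⟨y, hy1, hy2⟩ := Groth.Flatmor4.exists_isGenericPtOfFibre (PicF.XTproj f T₀)
      (g.left (PicF.XTproj f T y'))
    obtain rfl := Groth.Flatmor4.XTmap_generic f g y y' hy2 hy' hy1.symm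
    obtain ⟨b⟩ := hbasis T₀ h _ hy2
    letI := Groth.QCohMod.stalkAlg (PicF.XTmap f g) y'
    obtain ⟨e⟩ := Groth.Flatmor4.nonempty_ET_stalkEquiv f F g y'
    exact ⟨(b.baseChange ((PicF.XT f T).presheaf.stalk y')).map e⟩
  have hlocal : ∀ (T : Over S) (𝒰 : Scheme.OpenCover.{u} T.left),
      (∀ i, P (Groth.Flatmor4.OverRep.piece T 𝒰 i)) → P T := by
    intro T 𝒰 h
    refine hmk T fun y hy => ?_
    obtain ⟨i, t', ht⟩ := 𝒰.exists_eq (PicF.XTproj f T y)
    let g := Groth.Flatmor4.OverRep.pieceHom T 𝒰 i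
    haveI : Flat g.left := inferInstanceAs (Flat (𝒰.f i))
    obtain ⟨y', hy1, hy2⟩ := Groth.Flatmor4.exists_isGenericPtOfFibre
      (PicF.XTproj f (Groth.Flatmor4.OverRep.piece T 𝒰 i)) t'
    obtain rfl := Groth.Flatmor4.XTmap_generic f g y y' hy hy2 (by rw [hy1]; exact ht)
    obtain ⟨b'⟩ := hbasis _ (h i) y' hy2
    haveI := Groth.Flatmor4.flat_XTmap f g
    letI := Groth.QCohMod.stalkAlg (PicF.XTmap f g) y'
    haveI := Groth.Flatmor4.faithfullyFlat_stalk (PicF.XTmap f g) y'
    haveI : IsLocalHom (algebraMap ((PicF.XT f T).presheaf.stalk (PicF.XTmap f g y'))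
        ((PicF.XT f (Groth.Flatmor4.OverRep.piece T 𝒰 i)).presheaf.stalk y')) :=
      inferInstanceAs (IsLocalHom ((PicF.XTmap f g).stalkMap y').hom)
    haveI := Groth.Flatmor4.finite_stalk (FGA.ET f F T) (hFT T) (PicF.XTmap f g y')
    obtain ⟨e⟩ := Groth.Flatmor4.nonempty_ET_stalkEquiv f F g y'
    exact Groth.Flatmor4.nonempty_basis_of_faithfullyFlat (b'.map e.symm)
  -- the charts
  let C := RaynaudGruson.GenericFreeScheme.Chart f F p
  choose I hI hIfg using fun c : C => RaynaudGruson.GenericFreeScheme.exists_chart_ideal f F c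
  let h : ∀ c : C, Spec (CommRingCat.of (Γ(S, c.V) ⧸ I c)) ⟶ c.V.toScheme := fun c =>
    Spec.map (CommRingCat.ofHom (Ideal.Quotient.mk (I c))) ≫ c.hV.isoSpec.inv
  haveI hcl : ∀ c : C, IsClosedImmersion (h c) := fun c => by
    haveI := IsClosedImmersion.spec_of_quotient_mk (R := Γ(S, c.V)) (I c)
    exact MorphismProperty.comp_mem _ _ _ this inferInstance
  let H : C → Over S := fun c => Over.mk (h c ≫ c.V.ι)
  have hHhom : ∀ c : C, (H c).hom = Spec.map (CommRingCat.ofHom (Ideal.Quotient.mk (I c))) ≫ c.hV.fromSpec :=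
    fun c => by simp [H, h, IsAffineOpen.isoSpec_inv_ι]
  haveI hmono : ∀ c : C, Mono (H c).hom := fun c => inferInstanceAs (Mono (h c ≫ c.V.ι))
  have hpre : ∀ c : C, (H c).hom ⁻¹ᵁ c.V = ⊤ := fun c => top_le_iff.mp fun z _ => ((h c) z).2
  have hPH : ∀ c : C, P (H c) := fun c => by
    refine hmk _ fun y hy => ?_
    obtain ⟨U, hU, hyU, -⟩ := exists_isAffineOpen_mem_and_subset
      (x := PicF.XTproj f (H c) y) (TopologicalSpace.Opens.mem_top (PicF.XTproj f (H c) y))
    have eU : U ≤ (H c).hom ⁻¹ᵁ c.V := (hpre c).symm ▸ le_top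
    refine ((hI c (H c) U hU eU).mpr ?_) y hy hyU
    rw [Ideal.map_eq_bot_iff_le_ker]
    intro a ha
    let q := CommRingCat.ofHom (Ideal.Quotient.mk (I c))
    have key : Spec.map ((H c).hom.appLE c.V U eU) ≫ c.hV.fromSpec = hU.fromSpec ≫ (H c).hom :=
      c.hV.SpecMap_appLE_fromSpec (H c).hom hU eU
    obtain ⟨χ, hχ⟩ := Spec.map_surjective hU.fromSpec
    rw [show hU.fromSpec ≫ (H c).hom = Spec.map (q ≫ χ) ≫ c.hV.fromSpec by
      rw [hHhom, ← hχ, Spec.map_comp, Category.assoc], cancel_mono] at key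
    rw [RingHom.mem_ker, Spec.map_injective key]
    show χ (Ideal.Quotient.mk (I c) a) = 0
    rw [Ideal.Quotient.eq_zero_iff_mem.mpr ha, map_zero]
  have hfac : ∀ (c : C) (T : Over S), T.hom ⁻¹ᵁ c.V = ⊤ → P T → Nonempty (T ⟶ H c) := by
    intro c T hT hP
    let 𝒰 := T.left.affineCover
    have hloc : ∀ j, ∃ g : 𝒰.X j ⟶ (H c).left, g ≫ (H c).hom = 𝒰.f j ≫ T.hom := fun j => by
      haveI : IsAffine (𝒰.X j) := Scheme.isAffine_affineCover T.left j
      let U := (𝒰.f j).opensRange
      have hU : IsAffineOpen U := isAffineOpen_opensRange _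
      have eU : U ≤ T.hom ⁻¹ᵁ c.V := hT.symm ▸ le_top
      have h0 := (hI c T U hU eU).mp fun y hy _ => hbasis T hP y hy
      rw [Ideal.map_eq_bot_iff_le_ker] at h0
      refine ⟨(𝒰.f j).isoOpensRange.hom ≫ hU.isoSpec.hom ≫ Spec.map (CommRingCat.ofHom
        (Ideal.Quotient.lift (I c) (T.hom.appLE c.V U eU).hom fun a ha => h0 ha)), ?_⟩
      rw [hHhom, Category.assoc, Category.assoc, ← Spec.map_comp_assoc, ← CommRingCat.ofHom_comp,
        Ideal.Quotient.lift_comp_mk, CommRingCat.ofHom_hom, c.hV.SpecMap_appLE_fromSpec T.hom hU eU,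
        IsAffineOpen.isoSpec_hom_fromSpec_assoc, ← Category.assoc]
      congr 1
      exact Scheme.Hom.isoOpensRange_hom_ι _
    choose g hg using hloc
    refine ⟨Over.homMk (𝒰.glueMorphisms g fun j k => ?_) (𝒰.hom_ext _ _ fun j => ?_)⟩
    · rw [← cancel_mono (H c).hom, Category.assoc, Category.assoc, hg, hg, ← Category.assoc, ← Category.assoc,
        pullback.condition]
    · rw [← Category.assoc, Scheme.Cover.ι_glueMorphisms, hg]
  -- representability
  let F' : (Over S)ᵒᵖ ⥤ Type u :=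
    { obj := fun T => ULift.{u} (PLift (P T.unop))
      map := fun {T T'} g => ↾fun x => ⟨⟨hstab g.unop x.down.down⟩⟩
      map_id := fun T => by ext x; exact Subsingleton.elim _ _
      map_comp := fun a b => by ext x; exact Subsingleton.elim _ _ }
  haveI hsub : ∀ T, Subsingleton (F'.obj T) := fun T =>
    inferInstanceAs (Subsingleton (ULift.{u} (PLift (P T.unop))))
  obtain ⟨Z, ⟨R⟩⟩ : ∃ Z : Over S, Nonempty (F'.RepresentableBy Z) := by
    have D : Groth.Flatmor4.OverRep.Atlas F' :=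
      { ι := C
        H := H
        Z := fun c => ⟨⟨hPH c⟩⟩
        loc := fun c {T} _ => T.hom ⁻¹ᵁ c.V
        loc_map := fun c {T T'} g a => by rw [← Scheme.Hom.comp_preimage, Over.w g]
        loc_self := fun c => hpre c
        univ := fun c T a ha => by
          obtain ⟨t⟩ := hfac c T ha a.down.down
          exact ⟨t, Subsingleton.elim _ _, fun t' _ => Over.OverMorphism.ext
            ((cancel_mono (H c).hom).mp ((Over.w t').trans (Over.w t).symm))⟩
        cover := fun T a t =>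
          RaynaudGruson.GenericFreeScheme.exists_chart_of_basis f F hF T t (hbasis T a.down.down) }
    obtain ⟨Z, hZ⟩ := (D.representable fun T 𝒰 a _ =>
      ⟨⟨⟨hlocal T 𝒰 fun i => (a i).down.down⟩⟩, fun i => Subsingleton.elim _ _,
        fun _ _ => Subsingleton.elim _ _⟩).has_representation
    exact ⟨Z, hZ⟩
  haveI hsubZ : ∀ T : Over S, Subsingleton (T ⟶ Z) := fun T => (R.homEquiv (X := T)).subsingleton
  have hPZ : P Z := (R.homEquiv (𝟙 Z)).down.down
  let U : S.Opens := ⨆ c : C, c.V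
  have hrange : ∀ z, Z.hom z ∈ U := fun z => TopologicalSpace.Opens.mem_iSup.mpr
    (RaynaudGruson.GenericFreeScheme.exists_chart_of_basis f F hF Z z (hbasis Z hPZ))
  have hiso : ∀ c : C, ∃ e : ((Z.hom ⁻¹ᵁ c.V).toScheme ≅ (H c).left), Z.hom ∣_ c.V = e.hom ≫ h c := fun c => by
    let PV : Over S := Over.mk ((Z.hom ⁻¹ᵁ c.V).ι ≫ Z.hom)
    have hPV : P PV := hstab (Over.homMk (Z.hom ⁻¹ᵁ c.V).ι rfl : PV ⟶ Z) hPZ
    have hPVpre : PV.hom ⁻¹ᵁ c.V = ⊤ := top_le_iff.mp fun z _ => z.2
    obtain ⟨a⟩ := hfac c PV hPVpre hPV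
    let b : H c ⟶ Z := R.homEquiv.symm ⟨⟨hPH c⟩⟩
    have hbr : Set.range b.left ⊆ Set.range (Z.hom ⁻¹ᵁ c.V).ι := by
      rw [Scheme.Opens.range_ι]
      rintro _ ⟨w, rfl⟩
      show Z.hom (b.left w) ∈ c.V
      rw [← Scheme.Hom.comp_apply, Over.w b]
      exact (hpre c).ge trivial
    let b' := IsOpenImmersion.lift (Z.hom ⁻¹ᵁ c.V).ι b.left hbr
    have hb' : b' ≫ (Z.hom ⁻¹ᵁ c.V).ι = b.left := IsOpenImmersion.lift_fac _ _ _
    refine ⟨⟨a.left, b', ?_, ?_⟩, ?_⟩
    · rw [← cancel_mono (Z.hom ⁻¹ᵁ c.V).ι, Category.assoc, hb', Category.id_comp]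
      exact congrArg (fun m => m.left) (Subsingleton.elim (a ≫ b) (Over.homMk (Z.hom ⁻¹ᵁ c.V).ι rfl : PV ⟶ Z))
    · rw [← cancel_mono (H c).hom, Category.assoc, Over.w a, Category.id_comp]
      show b' ≫ (Z.hom ⁻¹ᵁ c.V).ι ≫ Z.hom = _
      rw [← Category.assoc, hb', Over.w b]
    · rw [← cancel_mono c.V.ι, morphismRestrict_ι, Category.assoc]
      exact (Over.w a).symm
  let j : Z.left ⟶ U.toScheme := IsOpenImmersion.lift U.ι Z.hom (by
    rw [Scheme.Opens.range_ι]; rintro _ ⟨z, rfl⟩; exact hrange z)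
  have hj : j ≫ U.ι = Z.hom := IsOpenImmersion.lift_fac _ _ _
  have hjres : ∀ (Q : MorphismProperty Scheme.{u}) [Q.RespectsIso] [IsZariskiLocalAtTarget Q],
      (∀ c, Q (h c)) → Q j := by
    intro Q _ _ hQ
    refine (IsZariskiLocalAtTarget.iff_of_iSup_eq_top (P := Q) (fun c : C => U.ι ⁻¹ᵁ c.V) ?_).mpr fun c => ?_
    · refine top_le_iff.mp fun x _ => TopologicalSpace.Opens.mem_iSup.mpr ?_
      have hx : x.1 ∈ ⨆ c : C, c.V := x.2
      obtain ⟨c, hc⟩ := TopologicalSpace.Opens.mem_iSup.mp hx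
      exact ⟨c, hc⟩
    · have hle : c.V ≤ U := le_iSup (fun c : C => c.V) c
      haveI : Surjective (U.ι ∣_ c.V) := ⟨fun v => by
        refine ⟨⟨⟨v.1, hle v.2⟩, v.2⟩, Subtype.ext ?_⟩
        exact morphismRestrict_base_coe U.ι c.V _⟩
      haveI : IsIso (U.ι ∣_ c.V) := (isIso_iff_isOpenImmersion_and_epi_base _).mpr
        ⟨inferInstance, (TopCat.epi_iff_surjective _).mpr (Scheme.Hom.surjective _)⟩
      rw [← MorphismProperty.cancel_right_of_respectsIso Q _ (U.ι ∣_ c.V), ← morphismRestrict_comp]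
      obtain ⟨e, he⟩ := hiso c
      have h' : Q (Z.hom ∣_ c.V) := he ▸ (MorphismProperty.cancel_left_of_respectsIso Q e.hom (h c)).mpr (hQ c)
      have hQe : ∀ g, g = Z.hom → Q (g ∣_ c.V) := by rintro g rfl; exact h'
      exact hQe _ hj
  haveI : IsClosedImmersion j := hjres @IsClosedImmersion hcl
  haveI hZimm : IsImmersion Z.hom := hj ▸ inferInstanceAs (IsImmersion (j ≫ U.ι))
  refine ⟨Z, hZimm, ⟨?_⟩, fun hP => ⟨?_, ?_, ?_⟩⟩
  · exact
      { homEquiv := fun {T} =>
          { toFun := fun k => ⟨⟨Z, k, hPZ⟩⟩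
            invFun := fun x => R.homEquiv.symm ⟨⟨x.down.down.elim fun T₀ h => h.elim fun k hk => hstab k hk⟩⟩
            left_inv := fun _ => Subsingleton.elim _ _
            right_inv := fun _ => Subsingleton.elim _ _ }
        homEquiv_comp := fun _ _ => Subsingleton.elim _ _ }
  · haveI : LocallyOfFinitePresentation j := hjres @LocallyOfFinitePresentation fun c => by
      haveI : LocallyOfFinitePresentation (Spec.map (CommRingCat.ofHom (Ideal.Quotient.mk (I c)))) := by
        rw [HasRingHomProperty.Spec_iff (P := @LocallyOfFinitePresentation)]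
        exact RingHom.FinitePresentation.of_surjective _ Ideal.Quotient.mk_surjective
          (by rw [CommRingCat.hom_ofHom, Ideal.mk_ker]; exact hIfg c hP)
      exact MorphismProperty.comp_mem _ _ _ this inferInstance
    exact hj ▸ inferInstanceAs (LocallyOfFinitePresentation (j ≫ U.ι))
  · rw [quasiCompact_iff_forall_isAffineOpen]
    intro A hA
    have hc : IsCompact (U.ι ⁻¹' (A : Set S)) := by
      rw [U.ι.isOpenEmbedding.isEmbedding.isCompact_iff, Set.image_preimage_eq_inter_range, Scheme.Opens.range_ι,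
        Set.inter_comm]
      exact RaynaudGruson.GenericFreeScheme.isCompact_charts f F hF hP hA
    rw [← hj]
    exact j.isClosedEmbedding.isCompact_preimage hc
  · exact inferInstance

end Groth.Agent.S9026
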