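import Groth.Statements.S9029
import Groth.Agent.Flatmor4.GenericFlat

set_option autoImplicit false
universe u
open FlatMor

namespace Groth.Agent.S9029

open CategoryTheory CategoryTheory.Limits AlgebraicGeometry Opposite in
/-- Let X → S be a morphism of affine schemes which is smooth of relative dimension d with geometrically
irreducible fibres, and F a quasi-coherent O_X-module of finite presentation. Then the functor F_d
(F_T flat over T in dimensions ≥ d) is the disjoint union, as a sheaf, of the functors H_p for p =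
0, …, c for some c ≥ 0: there is c such that for every scheme T over S, the base change F_T on X ×_S
T is flat over T in dimensions ≥ d (every point where it is not flat over T has residue field of
transcendence degree less than d over that of its image) if and only if every point of T has an open
neighbourhood V in T and an integer p ≤ c such that F_V is free of rank p on a neighbourhood of the
generic point of every fibre of X ×_S V → V. -/
theorem result {X S : Scheme.{u}} [IsAffine X] [IsAffine S] (f : X ⟶ S) (d : ℕ) [SmoothOfRelativeDimension d f]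
    [GeometricallyIrreducible f] (F : X.Modules) [Coh.IsQCoh F] (hF : CohB1.IsFP F) :
    ∃ c : ℕ, ∀ T : Over S,
      (FlatFun.DimFibresLT d (PicF.XTproj f T)
        {x | ¬ FlatMod.IsFlatOverAt (PicF.XTproj f T) (FGA.ET f F T) x}) ↔
      ∀ t : T.left, ∃ (V : T.left.Opens) (p : ℕ), t ∈ V ∧ p ≤ c ∧
        FlatFun.FreeAtGenericPts (PicF.XTproj f (Over.mk (V.ι ≫ T.hom)))
          (FGA.ET f F (Over.mk (V.ι ≫ T.hom))) p := by
  classical
  haveI : F.IsQuasicoherent := ‹Coh.IsQCoh F›
  haveI : Smooth f := SmoothOfRelativeDimension.smooth d f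
  haveI := Groth.PropsBasic.FPSections.finitePresentation_sections F hF (isAffineOpen_top X)
  obtain ⟨gens, hgens⟩ := (Module.Finite.fg_top (R := Γ(X, ⊤)) (M := Γ(F, ⊤)))
  refine ⟨gens.card, fun T => ?_⟩
  haveI hET : ∀ T : Over S, (FGA.ET f F T).IsQuasicoherent := fun T =>
    inferInstanceAs ((Scheme.Modules.pullback (pullback.fst f T.hom)).obj F).IsQuasicoherent
  have hFP : ∀ T : Over S, CohB1.IsFP (FGA.ET f F T) := fun T =>
    Groth.QCohMod.isFP_pullback (pullback.fst f T.hom) F hF
  haveI := AlgebraicGeometry.smoothOfRelativeDimension_isStableUnderBaseChange (n := d)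
  haveI hsd : ∀ T : Over S, SmoothOfRelativeDimension d (PicF.XTproj f T) := fun T =>
    MorphismProperty.pullback_snd f T.hom inferInstance
  haveI hsm : ∀ T : Over S, Smooth (PicF.XTproj f T) := fun T => SmoothOfRelativeDimension.smooth d _
  haveI hgi : ∀ T : Over S, GeometricallyIrreducible (PicF.XTproj f T) := fun T =>
    MorphismProperty.pullback_snd f T.hom inferInstance
  have hcard : ∀ (y : PicF.XT f T) (n : ℕ),
      Groth.Flatmor4.HasStalkBasis (FGA.ET f F T) n y → n ≤ gens.card := by
    intro y n ⟨b⟩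
    let x := pullback.fst f T.hom y
    have hxt : x ∈ (⊤ : X.Opens) := trivial
    letI := Groth.QCohMod.stalkModule F x hxt
    letI : Algebra Γ(X, ⊤) (X.presheaf.stalk x) :=
      TopCat.Presheaf.algebra_section_stalk X.presheaf ⟨x, hxt⟩
    haveI : IsLocalization.AtPrime (X.presheaf.stalk x) ((isAffineOpen_top X).primeIdealOf ⟨x, hxt⟩).asIdeal :=
      (isAffineOpen_top X).isLocalization_stalk ⟨x, hxt⟩
    haveI : IsScalarTower Γ(X, ⊤) (X.presheaf.stalk x) (F.presheaf.stalk x) :=
      .of_algebraMap_smul fun _ _ => rfl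
    haveI := Groth.QCohMod.isLocalizedModule_germ F (isAffineOpen_top X) x hxt
    have h1 : Submodule.span (X.presheaf.stalk x)
        (Groth.QCohMod.germₗ F x hxt '' (gens : Set Γ(F, ⊤))) = ⊤ :=
      span_eq_top_of_isLocalizedModule (X.presheaf.stalk x)
        ((isAffineOpen_top X).primeIdealOf ⟨x, hxt⟩).asIdeal.primeCompl _ hgens
    letI := Groth.QCohMod.stalkAlg (pullback.fst f T.hom) y
    let b' : Module.Basis (Fin n) ((PicF.XT f T).presheaf.stalk y)
        (TensorProduct (X.presheaf.stalk x) ((PicF.XT f T).presheaf.stalk y) (F.presheaf.stalk x)) :=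
      b.map (Groth.QCohMod.pullStalkEquiv (pullback.fst f T.hom) F y).symm
    let m : {v // v ∈ gens} →
        TensorProduct (X.presheaf.stalk x) ((PicF.XT f T).presheaf.stalk y) (F.presheaf.stalk x) :=
      fun v => TensorProduct.tmul _ 1 (Groth.QCohMod.germₗ F x hxt v.1)
    have h2 : Submodule.span ((PicF.XT f T).presheaf.stalk y) (Set.range m) = ⊤ := by
      rw [eq_top_iff]
      rintro z -
      induction z using TensorProduct.induction_on with
      | zero => exact Submodule.zero_mem _
      | add a a' ha ha' => exact Submodule.add_mem _ ha ha'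
      | tmul a t =>
        have ht : t ∈ Submodule.span (X.presheaf.stalk x)
            (Groth.QCohMod.germₗ F x hxt '' (gens : Set Γ(F, ⊤))) := by rw [h1]; trivial
        induction ht using Submodule.span_induction with
        | mem t ht =>
          obtain ⟨v, hv, rfl⟩ := ht
          rw [show a = a • (1 : (PicF.XT f T).presheaf.stalk y) by rw [smul_eq_mul, mul_one],
            ← TensorProduct.smul_tmul']
          exact Submodule.smul_mem _ _ (Submodule.subset_span ⟨⟨v, hv⟩, rfl⟩)
        | zero => rw [TensorProduct.tmul_zero]; exact Submodule.zero_mem _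
        | add u v _ _ hu hv => rw [TensorProduct.tmul_add]; exact Submodule.add_mem _ hu hv
        | smul r u _ hu => rw [TensorProduct.tmul_smul]; exact Submodule.smul_of_tower_mem _ r hu
    have h3 := Module.finrank_eq_card_basis b'
    have h4 := finrank_range_le_card (R := (PicF.XT f T).presheaf.stalk y) m
    rw [Set.finrank, h2, finrank_top, h3, Fintype.card_fin, Fintype.card_coe] at h4
    exact h4
  constructor
  · intro h t
    obtain ⟨x, hx1, hx2⟩ := Groth.Flatmor4.exists_isGenericPtOfFibre (PicF.XTproj f T) t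
    have hfree : ∀ y, FlatFun.IsGenericPtOfFibre (PicF.XTproj f T) y →
        Module.Free ((PicF.XT f T).presheaf.stalk y) ((FGA.ET f F T).presheaf.stalk y) := by
      intro y hy
      refine Groth.Flatmor4.free_stalk_generic (f := PicF.XTproj f T) _ (hFP T) hy ?_
      by_contra hn
      exact lt_irrefl _ ((Groth.Flatmor4.resTrdeg_generic (PicF.XTproj f T) d hy).symm.trans_lt (h y hn))
    obtain ⟨U, n, hxU, hU⟩ := Groth.PropsBasic.LocFree.exists_free_nhd (FGA.ET f F T) (hFP T) x (hfree x hx2)
    let V : T.left.Opens := ⟨PicF.XTproj f T '' U, (PicF.XTproj f T).isOpenMap _ U.isOpen⟩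
    refine ⟨V, n, ⟨x, hxU, hx1⟩, hcard x n (Groth.Flatmor4.nonempty_stalkBasis ⟨U, hxU, hU⟩), ?_⟩
    intro t'
    obtain ⟨y', hy1, hy2⟩ := Groth.Flatmor4.exists_isGenericPtOfFibre
      (PicF.XTproj f (Over.mk (V.ι ≫ T.hom))) t'
    let g : Over.mk (V.ι ≫ T.hom) ⟶ T := Over.homMk V.ι rfl
    obtain ⟨z, hzU, hz⟩ : g.left (PicF.XTproj f _ y') ∈ V := by
      rw [hy1]; exact t'.2
    obtain ⟨y, hy, hygen⟩ := Groth.Flatmor4.exists_isGenericPtOfFibre (PicF.XTproj f T)
      (g.left (PicF.XTproj f _ y'))
    obtain rfl := Groth.Flatmor4.XTmap_generic f g y y' hygen hy2 hy.symm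
    have hyU : PicF.XTmap f g y' ∈ U := (hygen z (hz.trans hy.symm)).mem_open U.isOpen hzU
    exact ⟨y', hy1, hy2, Groth.Flatmor4.isFreeOfRankNear_of_hasStalkBasis _ (hFP _) y'
      (Groth.Flatmor4.hasStalkBasis_pullback_comp _ _ _ (FGA.XTmap_fst f g) F y'
        (Groth.Flatmor4.nonempty_stalkBasis ⟨U, hyU, hU⟩))⟩
  · intro h x hx
    refine Groth.Flatmor4.resTrdeg_lt_of_not_generic (PicF.XTproj f T) d fun hgen => hx ?_
    obtain ⟨V, p, htV, -, hP⟩ := h (PicF.XTproj f T x)
    let g : Over.mk (V.ι ≫ T.hom) ⟶ T := Over.homMk V.ι rfl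
    haveI : Flat g.left := inferInstanceAs (Flat V.ι)
    obtain ⟨y', hy1, hy2, hy3⟩ := hP ⟨PicF.XTproj f T x, htV⟩
    obtain rfl := Groth.Flatmor4.XTmap_generic f g x y' hgen hy2 (by rw [hy1]; rfl)
    exact Groth.Flatmor4.isFlatOverAt_of_flat_baseChange (Groth.Flatmor4.isPullback_XTmap f g) _ y'
      ((Groth.Flatmor4.isFlatOverAt_ET f g F y').mpr
        (Groth.Flatmor4.isFlatOverAt_of_hasStalkBasis _ _ (Groth.Flatmor4.nonempty_stalkBasis hy3)))

end Groth.Agent.S9029
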