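import Groth.Statements.S9028
import Groth.Agent.RaynaudGruson.TrdegFibre
import Groth.Agent.RaynaudGruson.FlatFibreAssScheme
import Groth.Agent.Flatmor4.FibreAss
import Groth.Agent.AlgSp3.FibreInv

set_option autoImplicit false
set_option linter.style.haveILetI false
universe u
open FlatMor

namespace Groth.Agent.S9028

open CategoryTheory CategoryTheory.Limits AlgebraicGeometry Opposite in
/-- For f : X → S locally of finite type, F a quasi-coherent O_X-module of finite type, an etale
morphism h : X' → X whose image contains every point of the relative assassin of F over S, and n ≥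
0, the functors F_n of F and of h^*F agree: for every scheme T over S, if the base change of h^*F on
X' ×_S T is flat over T in dimensions ≥ n then so is the base change F_T on X ×_S T (the other
implication holds without the hypothesis on the image). -/
theorem result {X X' S : Scheme.{u}} (f : X ⟶ S) [LocallyOfFiniteType f] (F : X.Modules) [Coh.IsQCoh F] (hF : CohB1.IsFT F)
    (h : X' ⟶ X) [Etale h] (hAss : MoreMor.relAss f F ⊆ Set.range h.base) (n : ℕ) (T : Over S)
    (hT : FlatFun.DimFibresLT n (PicF.XTproj (h ≫ f) T)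
        {x | ¬ FlatMod.IsFlatOverAt (PicF.XTproj (h ≫ f) T) (FGA.ET (h ≫ f) ((Scheme.Modules.pullback h).obj F) T) x}) :
    FlatFun.DimFibresLT n (PicF.XTproj f T)
        {x | ¬ FlatMod.IsFlatOverAt (PicF.XTproj f T) (FGA.ET f F T) x} := by
  intro x hx
  haveI : F.IsQuasicoherent := ‹Coh.IsQCoh F›
  let q := PicF.XTproj f T
  let FT : (PicF.XT f T).Modules := FGA.ET f F T
  haveI : LocallyOfFiniteType q := MorphismProperty.pullback_snd f T.hom inferInstance
  haveI hqc : FT.IsQuasicoherent :=
    inferInstanceAs ((Scheme.Modules.pullback (pullback.fst f T.hom)).obj F).IsQuasicoherent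
  have hFT : CohB1.IsFT FT := Groth.QCohMod.isFT_pullback (pullback.fst f T.hom) F hF
  haveI : Coh.IsQCoh FT := hqc
  obtain ⟨y, hyx, hqy, hy, hyn⟩ : ∃ y, y ⤳ x ∧ q y = q x ∧ y ∈ MoreMor.relAss q FT ∧
      ¬ FlatMod.IsFlatOverAt q FT y := by
    by_contra hne
    exact hx (Groth.RaynaudGruson.FlatFibreAss.isFlatOverAt_of_relAss q FT hFT x
      fun y h1 h2 h3 => by_contra fun h4 => hne ⟨y, h1, h2, h3, h4⟩)
  have hy' : pullback.fst f T.hom y ∈ MoreMor.relAss f F :=
    (Groth.Flatmor4.relAss_baseChange (IsPullback.of_hasPullback f T.hom) y).1 hy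
  let m : PicF.XT (h ≫ f) T ⟶ PicF.XT f T := pullback.lift (pullback.fst (h ≫ f) T.hom ≫ h) (pullback.snd (h ≫ f) T.hom) (by rw [Category.assoc, pullback.condition])
  have hm : m ≫ q = PicF.XTproj (h ≫ f) T := pullback.lift_snd _ _ _
  have hmf : m ≫ pullback.fst f T.hom = pullback.fst (h ≫ f) T.hom ≫ h := pullback.lift_fst _ _ _
  have Hm : IsPullback (pullback.fst (h ≫ f) T.hom) m h (pullback.fst f T.hom) := by
    refine IsPullback.of_bot ?_ hmf.symm (IsPullback.of_hasPullback f T.hom)
    rw [hm]
    exact IsPullback.of_hasPullback (h ≫ f) T.hom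
  haveI : Etale m := MorphismProperty.of_isPullback Hm ‹Etale h›
  obtain ⟨a, ha⟩ := hAss hy'
  obtain ⟨y', -, hy'm⟩ := Scheme.exists_preimage_of_isPullback Hm a y ha
  subst hy'm
  have hflat : (m.stalkMap y').hom.Flat := Flat.stalkMap m y'
  let e : (Scheme.Modules.pullback m).obj FT ≅ FGA.ET (h ≫ f) ((Scheme.Modules.pullback h).obj F) T :=
    (Scheme.Modules.pullbackComp m (pullback.fst f T.hom)).app F ≪≫
      (Scheme.Modules.pullbackCongr hmf).app F ≪≫
      ((Scheme.Modules.pullbackComp (pullback.fst (h ≫ f) T.hom) h).app F).symm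
  have hn' : ¬ FlatMod.IsFlatOverAt (PicF.XTproj (h ≫ f) T)
      (FGA.ET (h ≫ f) ((Scheme.Modules.pullback h).obj F) T) y' := fun h0 => hyn <| by
    rw [← hm] at h0
    exact (Groth.Flatmor4.isFlatOverAt_pullback_iff m q FT y' hflat).mpr
      ((Groth.FlatMorOne.isFlatOverAt_congr (m ≫ q) e y').mpr h0)
  have hlt : Dual3.resTrdeg (PicF.XTproj (h ≫ f) T) y' < (n : Cardinal) := hT y' hn'
  rw [← hm, Groth.AlgSp3.resTrdeg_etale_comp] at hlt
  exact (Groth.RaynaudGruson.resTrdeg_le_of_specializes_of_eq q hyx hqy).trans_lt hlt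

end Groth.Agent.S9028
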