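import Groth.Statements.S9027
import Groth.Agent.Flatmor4.FlatModAffine
import Groth.Agent.FlatMorOne.GoodLocus
import Groth.Agent.AlgSp3.FibreInv

set_option autoImplicit false
universe u
open FlatMor

namespace Groth.Agent.S9027

open CategoryTheory CategoryTheory.Limits AlgebraicGeometry Opposite in
/-- For f : X → S locally of finite type, F a quasi-coherent O_X-module of finite type, an etale
morphism h : X' → X and n ≥ 0, the functor F_n of F over S is a subfunctor of the functor F_n of the
pullback h^*F on X' over S: for every scheme T over S, if the base change F_T on X ×_S T is flat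
over T in dimensions ≥ n (transcendence-degree form) then so is the base change of h^*F on X' ×_S T. -/
theorem result {X X' S : Scheme.{u}} (f : X ⟶ S) [LocallyOfFiniteType f] (F : X.Modules) [Coh.IsQCoh F] (hF : CohB1.IsFT F)
    (h : X' ⟶ X) [Etale h] (n : ℕ) (T : Over S)
    (hT : FlatFun.DimFibresLT n (PicF.XTproj f T)
        {x | ¬ FlatMod.IsFlatOverAt (PicF.XTproj f T) (FGA.ET f F T) x}) :
    FlatFun.DimFibresLT n (PicF.XTproj (h ≫ f) T)
        {x | ¬ FlatMod.IsFlatOverAt (PicF.XTproj (h ≫ f) T) (FGA.ET (h ≫ f) ((Scheme.Modules.pullback h).obj F) T) x} := by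
  haveI : F.IsQuasicoherent := ‹Coh.IsQCoh F›
  let e : PicF.XT (h ≫ f) T ⟶ PicF.XT f T :=
    pullback.lift (pullback.fst (h ≫ f) T.hom ≫ h) (pullback.snd (h ≫ f) T.hom)
      (by rw [Category.assoc, pullback.condition])
  have he : IsPullback (pullback.fst (h ≫ f) T.hom) e h (pullback.fst f T.hom) := by
    refine IsPullback.of_bot ?_ (pullback.lift_fst _ _ _).symm (IsPullback.of_hasPullback f T.hom)
    rw [pullback.lift_snd]
    exact IsPullback.of_hasPullback (h ≫ f) T.hom
  haveI : Etale e := MorphismProperty.of_isPullback he inferInstance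
  have hp : PicF.XTproj (h ≫ f) T = e ≫ PicF.XTproj f T := (pullback.lift_snd _ _ _).symm
  haveI : (FGA.ET f F T).IsQuasicoherent :=
    inferInstanceAs ((Scheme.Modules.pullback (pullback.fst f T.hom)).obj F).IsQuasicoherent
  intro x hx
  have h1 : ¬ FlatMod.IsFlatOverAt (PicF.XTproj f T) (FGA.ET f F T) (e x) := by
    intro hfl
    apply hx
    have h2 := (Groth.Flatmor4.isFlatOverAt_pullback_iff e (PicF.XTproj f T) (FGA.ET f F T) x
      (Flat.stalkMap e x)).mp hfl
    rw [hp]
    refine (Groth.FlatMorOne.isFlatOverAt_congr _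
      ((Scheme.Modules.pullbackComp e (pullback.fst f T.hom)).app F ≪≫
        (Scheme.Modules.pullbackCongr he.w.symm).app F ≪≫
        ((Scheme.Modules.pullbackComp (pullback.fst (h ≫ f) T.hom) h).app F).symm) x).mp h2
  have h3 : Dual3.resTrdeg (PicF.XTproj f T) (e x) < (n : Cardinal.{u}) := hT _ h1
  rw [← Groth.AlgSp3.resTrdeg_etale_comp e (PicF.XTproj f T) x, ← hp] at h3
  exact h3

end Groth.Agent.S9027
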