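import Groth.Statements.S9023
import Groth.Agent.Flatmor4.FpqcDims
import Groth.Agent.FlatMorOne.FlatStageGlobal

set_option autoImplicit false
universe u
open FlatMor

namespace Groth.Agent.S9023

open CategoryTheory CategoryTheory.Limits AlgebraicGeometry Opposite in
/-- For f : X → S locally of finite type, F a quasi-coherent O_X-module of finite type and n ≥ 0, the
functor F_n on schemes over S (one point on T when the base change F_T on X_T = X ×_S T is flat over
T in dimensions ≥ n, that is every point of X_T at which F_T is not flat over T has residue field of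
transcendence degree less than n over the residue field of its image in T; empty otherwise; written
as the subfunctor of the final functor generated by that condition) satisfies the sheaf condition
for the fpqc topology. -/
theorem result {X S : Scheme.{u}} (f : X ⟶ S) [LocallyOfFiniteType f] (F : X.Modules) [Coh.IsQCoh F] (hF : CohB1.IsFT F)
    (n : ℕ) :
    Presheaf.IsSheaf (QuotSh.J Scheme.fpqcPrecoverage S)
      (FlatFun.genPSp S (fun T => FlatFun.DimFibresLT n (PicF.XTproj f T)
        {x | ¬ FlatMod.IsFlatOverAt (PicF.XTproj f T) (FGA.ET f F T) x})) := by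
  haveI : F.IsQuasicoherent := ‹Coh.IsQCoh F›
  have hkey : ∀ {T T' : Over S} (g : T' ⟶ T) (x' : PicF.XT f T'),
      ¬ FlatMod.IsFlatOverAt (PicF.XTproj f T') (FGA.ET f F T') x' →
      ¬ FlatMod.IsFlatOverAt (PicF.XTproj f T) (FGA.ET f F T) (PicF.XTmap f g x') := fun {T T'} g x' hn h =>
    hn (Groth.FlatMorOne.isFlatOverAt_of_square F (Groth.Flatmor4.isPullback_XTmap f g) (FGA.XTmap_fst f g) x' h)
  apply Groth.Flatmor4.isSheaf_genPSp
  · intro T T₀ g h x' hx'
    have h1 := h _ (hkey g x' hx')
    have hle : Dual3.resTrdeg (PicF.XTproj f T) x' ≤ Dual3.resTrdeg (PicF.XTproj f T₀) (PicF.XTmap f g x') :=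
      Groth.Flatmor4.resTrdeg_baseChange_le (Groth.Flatmor4.isPullback_XTmap f g) x'
    exact lt_of_le_of_lt hle h1
  · intro T hT x hx
    obtain ⟨T', g, t', hg, ht, hP⟩ := hT (PicF.XTproj f T x)
    haveI := hg
    obtain ⟨x', hx1, hx2, hx3⟩ :=
      Groth.Flatmor4.exists_resTrdeg_eq (Groth.Flatmor4.isPullback_XTmap f g) x t' ht.symm
    subst hx1
    have hn : ¬ FlatMod.IsFlatOverAt (PicF.XTproj f T') (FGA.ET f F T') x' := fun h =>
      hx (Groth.Flatmor4.isFlatOverAt_of_flat_baseChange (Groth.Flatmor4.isPullback_XTmap f g) _ x'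
        ((Groth.Flatmor4.isFlatOverAt_ET f g F x').mpr h))
    have h1 : Dual3.resTrdeg (PicF.XTproj f T') x' < (n : Cardinal) := hP x' hn
    rw [hx3] at h1
    exact h1

end Groth.Agent.S9023
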