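import Groth.Statements.S0407
import Groth.Agent.RaynaudGruson.InjModSetup

set_option autoImplicit false
set_option linter.style.haveILetI false
universe u
open FlatMor

namespace Groth.Agent.S0407

open TensorProduct in
/-- For a local homomorphism A → B essentially of finite type, a flat A-module M, a finite B-module N
and an A-linear map u from N to M that is injective modulo the maximal ideal of A: u is universally
injective over A, N is finitely presented over B and N is flat over A (no Noetherian hypothesis). -/
theorem result {A B M N : Type u} [CommRing A] [CommRing B] [IsLocalRing A] [IsLocalRing B] [Algebra A B] [IsLocalHom (algebraMap A B)] [Algebra.EssFiniteType A B]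
    [AddCommGroup M] [Module A M] [Module.Flat A M]
    [AddCommGroup N] [Module A N] [Module B N] [IsScalarTower A B N] [Module.Finite B N]
    (u : N →ₗ[A] M) (h : Function.Injective (LinearMap.lTensor (IsLocalRing.ResidueField A) u)) :
    (∀ (Q : Type u) [AddCommGroup Q] [Module A Q], Function.Injective (LinearMap.rTensor Q u)) ∧
      Module.FinitePresentation B N ∧ Module.Flat A N := by
  classical
  -- a finitely presented algebra over `A` of which `B` is a localised quotient
  let σ := Algebra.EssFiniteType.finset A B
  let S := MvPolynomial {x // x ∈ σ} A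
  let φ : S →ₐ[A] B := MvPolynomial.aeval fun i => (i : B)
  have hφ : ∀ b : B, ∃ p s : S, IsUnit (φ s) ∧ b * φ s = φ p := by
    intro b
    obtain ⟨⟨x, t, ht⟩, hx⟩ := IsLocalization.surj (Algebra.EssFiniteType.submonoid A B) b
    have hr : ∀ y : Algebra.EssFiniteType.subalgebra A B, ∃ p : S, φ p = y := fun y => by
      have hy : (y : B) ∈ Algebra.adjoin A (σ : Set B) := y.2
      have e : Algebra.adjoin A (σ : Set B) = φ.range := by
        rw [← Algebra.adjoin_range_eq_range_aeval]
        congr 1
        exact Subtype.range_coe.symm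
      rw [e] at hy
      exact hy
    obtain ⟨p, hp⟩ := hr x
    obtain ⟨s, hs⟩ := hr t
    exact ⟨p, s, by rw [hs]; exact ht, by rw [hs, hp]; exact hx⟩
  letI : Module S N := Module.compHom N φ.toRingHom
  haveI : IsScalarTower A S N := IsScalarTower.of_algebraMap_smul fun a n => by
    show φ (algebraMap A S a) • n = a • n
    rw [φ.commutes, algebraMap_smul]
  let q : Ideal S := (IsLocalRing.maximalIdeal B).comap φ
  haveI : q.IsPrime := Ideal.IsPrime.comap φ
  have hqu : ∀ s : S, s ∉ q → IsUnit (φ s) := fun s hs => IsLocalRing.notMem_maximalIdeal.mp hs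
  haveI : q.LiesOver (IsLocalRing.maximalIdeal A) := ⟨Ideal.ext fun a => by
    rw [Ideal.mem_comap, Ideal.mem_comap, φ.commutes, IsLocalRing.mem_maximalIdeal, IsLocalRing.mem_maximalIdeal]
    exact (isUnit_map_iff (algebraMap A B) a).not.symm⟩
  obtain ⟨gens, hgens⟩ := Module.Finite.fg_top (R := B) (M := N)
  let N₀ : Submodule S N := Submodule.span S (gens : Set N)
  haveI : Module.Finite S N₀ := Module.Finite.iff_fg.mpr (Submodule.fg_span gens.finite_toSet)
  haveI : IsLocalizedModule q.primeCompl N₀.subtype :=
    { map_units := fun s => by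
        obtain ⟨v, hv⟩ := hqu s s.2
        rw [Module.End.isUnit_iff]
        refine ⟨fun x y h => ?_, fun y => ⟨(↑v⁻¹ : B) • y, ?_⟩⟩
        · have h' : φ s • x = φ s • y := h
          rw [← hv] at h'
          simpa [smul_smul] using congrArg (fun w => (↑v⁻¹ : B) • w) h'
        · show φ s • (↑v⁻¹ : B) • y = y
          rw [smul_smul, ← hv, Units.mul_inv, one_smul]
      surj := fun n => by
        obtain ⟨s, hs, hn⟩ : ∃ s, s ∉ q ∧ s • n ∈ N₀ := by
          refine Submodule.span_induction (p := fun n _ => ∃ s, s ∉ q ∧ s • n ∈ N₀) (fun x hx => ?_) ?_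
            (fun x y _ _ hx hy => ?_) (fun b x _ hx => ?_) (hgens.ge (Submodule.mem_top (x := n)))
          · exact ⟨1, q.primeCompl.one_mem, by rw [one_smul]; exact Submodule.subset_span hx⟩
          · exact ⟨1, q.primeCompl.one_mem, by rw [smul_zero]; exact N₀.zero_mem⟩
          · obtain ⟨s, hs, hx⟩ := hx
            obtain ⟨t, ht, hy⟩ := hy
            refine ⟨s * t, q.primeCompl.mul_mem hs ht, ?_⟩
            rw [smul_add]
            exact add_mem (by rw [mul_comm, mul_smul]; exact N₀.smul_mem t hx)
              (by rw [mul_smul]; exact N₀.smul_mem s hy)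
          · obtain ⟨s, hs, hx⟩ := hx
            obtain ⟨p, t, ht, hb⟩ := hφ b
            refine ⟨t * s, q.primeCompl.mul_mem (fun h => (IsLocalRing.mem_maximalIdeal _).mp h ht) hs, ?_⟩
            have e : (t * s) • b • x = p • s • x := by
              show φ (t * s) • b • x = φ p • φ s • x
              rw [smul_smul, smul_smul, ← hb, map_mul]
              congr 1
              ring
            rw [e]
            exact N₀.smul_mem p hx
        exact ⟨(⟨s • n, hn⟩, ⟨s, hs⟩), rfl⟩
      exists_of_eq := fun {x y} h => ⟨1, by rw [Subtype.ext h]⟩ }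
  have hT := Groth.RaynaudGruson.InjModSetup.torMin q N₀.subtype u h
  obtain ⟨hflat, f, 𝔮, _, hf, h𝔮, hd, hcoord⟩ :=
    Groth.RaynaudGruson.InjModSetup.flat_and_hasCoord q N₀.subtype hT
  haveI := hflat
  refine ⟨fun Q _ _ => Groth.RaynaudGruson.EtaleCoord.rTensor_injective hf h𝔮 hd hcoord u h Q, ?_, hflat⟩
  -- finite presentation
  let eN : LocalizedModule q.primeCompl N₀ ≃ₗ[S] N := IsLocalizedModule.iso q.primeCompl N₀.subtype
  have hfa : FlatCA.FlatAt A q N₀ := Module.Flat.of_linearEquiv (eN.restrictScalars A)
  haveI := Groth.RaynaudGruson.StalkFP.finitePresentation_stalk (N₀ : Submodule S N) q hfa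
  let Sq := Localization.AtPrime q
  let ψ : Sq →+* B := IsLocalization.lift (M := q.primeCompl) (g := φ.toRingHom) fun s => hqu s s.2
  letI : Algebra Sq B := ψ.toAlgebra
  haveI : Module.Finite Sq B := Module.Finite.of_surjective (Algebra.linearMap Sq B) fun b => by
    obtain ⟨p, s, hs, hb⟩ := hφ b
    have hsq : s ∉ q := fun h => (IsLocalRing.mem_maximalIdeal _).mp h hs
    refine ⟨IsLocalization.mk' Sq p (⟨s, hsq⟩ : q.primeCompl), ?_⟩
    show ψ _ = b
    rw [IsLocalization.lift_mk'_spec, mul_comm]
    exact hb.symm
  letI : Module Sq N := Module.compHom N ψ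
  haveI : IsScalarTower Sq B N := IsScalarTower.of_algebraMap_smul fun _ _ => rfl
  haveI : IsScalarTower S Sq N := IsScalarTower.of_algebraMap_smul fun s n => by
    show ψ (algebraMap S Sq s) • n = φ s • n
    rw [IsLocalization.lift_eq]
    rfl
  haveI : Module.FinitePresentation Sq N :=
    Module.FinitePresentation.of_equiv (M := LocalizedModule q.primeCompl N₀)
      (eN.extendScalarsOfIsLocalization q.primeCompl Sq :)
  exact Groth.RaynaudGruson.DevissageFree.finitePresentation_of_restrictScalars (B := Sq)

end Groth.Agent.S0407
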