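import Groth.Statements.S1291
import Groth.Agent.Misc3Fitt.Props
import Groth.Agent.Misc3Fitt.Prod
import Mathlib.RingTheory.Unramified.Finite
import Mathlib.RingTheory.Ideal.IdempotentFG
import Mathlib.RingTheory.TensorProduct.Quotient

set_option autoImplicit false
universe u
open TensorProduct
open FlatMor

namespace Groth.Agent.S1291

section Helpers

open TensorProduct

theorem fittingZero_eq (R : Type u) [CommRing R] (M : Type u) [AddCommGroup M] [Module R M] :
    FlatCA.fittingZero R M = Fitt.ideal R M 0 := by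
  unfold FlatCA.fittingZero Fitt.ideal
  congr 1
  ext d
  exact ⟨fun ⟨n, x, a, h1, h2, h3⟩ => ⟨n, x, a, h1, fun i _ => h2 i, h3⟩,
    fun ⟨n, x, a, h1, h2, h3⟩ => ⟨n, x, a, h1, fun i => h2 i (by simp), h3⟩⟩

theorem fitt_quotient {R : Type u} [CommRing R] (I : Ideal R) : Fitt.ideal R (R ⧸ I) 0 = I := by
  refine le_antisymm (Groth.Misc3Fitt.ideal_le_annihilator.trans (Ideal.annihilator_quotient (I := I)).le) ?_
  intro a ha
  refine Ideal.subset_span ⟨1, fun _ => Ideal.Quotient.mk I 1, Matrix.diagonal fun _ => a, ?_, ?_, by simp⟩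
  · rw [eq_top_iff]
    rintro x -
    obtain ⟨y, rfl⟩ := Ideal.Quotient.mk_surjective x
    rw [show Ideal.Quotient.mk I y = y • Ideal.Quotient.mk I 1 by
      rw [Algebra.smul_def, Ideal.Quotient.algebraMap_eq, map_one, mul_one]]
    exact Submodule.smul_mem _ _ (Submodule.subset_span ⟨0, rfl⟩)
  · intro i _
    fin_cases i
    simp [Algebra.smul_def, Ideal.Quotient.eq_zero_iff_mem.mpr ha]

set_option maxHeartbeats 1000000 in
/-- The kernel of multiplication `L ⊗ C → L` is generated by an idempotent when `L = C_h` is unramified. -/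
theorem exists_idempotent_ker {A C L : Type u} [CommRing A] [CommRing C] [Algebra A C] [Module.Finite A C]
    [CommRing L] [Algebra A L] [Algebra C L] [IsScalarTower A C L] (h : C) [IsLocalization.Away h L]
    [Algebra.FormallyUnramified A L] [Algebra.EssFiniteType A L] (μ : L ⊗[A] C →ₐ[L] L)
    (hμ : ∀ c, μ (1 ⊗ₜ c) = algebraMap C L c) :
    ∃ e, IsIdempotentElem e ∧ RingHom.ker μ = Ideal.span {e} := by
  let f : Ideal (L ⊗[A] C) := RingHom.ker μ
  have hμ' : ∀ l c, μ (l ⊗ₜ c) = l * algebraMap C L c := fun l c => by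
    rw [show l ⊗ₜ[A] c = l • ((1 : L) ⊗ₜ[A] c) by rw [smul_tmul', smul_eq_mul, mul_one], map_smul, hμ,
      smul_eq_mul]
  let ι : (L ⊗[A] C) →ₐ[A] L ⊗[A] L := Algebra.TensorProduct.map (AlgHom.id A L) (IsScalarTower.toAlgHom A C L)
  have hι : ∀ z, Algebra.TensorProduct.lmul' A (ι z) = μ z := fun z => by
    induction z using TensorProduct.induction_on with
    | zero => simp
    | tmul l c => simp [ι, hμ']
    | add a b ha hb => simp only [map_add, ha, hb]
  let g := AlgebraTensorModule.rTensor A L (Algebra.linearMap C L)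
  have hg : ∀ z, g (TensorProduct.comm A L C z) = TensorProduct.comm A L L (ι z) := fun z => by
    induction z using TensorProduct.induction_on with
    | zero => simp
    | tmul l c => simp [g, ι]
    | add a b ha hb => simp only [map_add, ha, hb]
  let H : (L ⊗[A] C) := 1 ⊗ₜ h
  have hH : ∀ n (z : (L ⊗[A] C)), TensorProduct.comm A L C (H ^ n * z) = h ^ n • TensorProduct.comm A L C z := by
    intro n z
    induction z using TensorProduct.induction_on with
    | zero => simp
    | tmul l c => simp [H, Algebra.TensorProduct.tmul_pow, Algebra.TensorProduct.tmul_mul_tmul, smul_tmul']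
    | add a b ha hb => simp only [mul_add, map_add, smul_add, ha, hb]
  have hker : ∀ z : (L ⊗[A] C), ι z = 0 → ∃ n, H ^ n * z = 0 := fun z hz => by
    obtain ⟨⟨_, n, rfl⟩, hn⟩ := (IsLocalizedModule.eq_zero_iff (Submonoid.powers h) g).mp
      (show g (TensorProduct.comm A L C z) = 0 by rw [hg, hz, map_zero])
    exact ⟨n, (TensorProduct.comm A L C).injective (by rw [hH, map_zero]; exact hn)⟩
  have hsurj : ∀ y, ∃ n z, ι (H ^ n) * y = ι z := fun y => by
    obtain ⟨⟨w, ⟨_, n, rfl⟩⟩, hn⟩ :=
      IsLocalizedModule.surj (Submonoid.powers h) g (TensorProduct.comm A L L y)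
    refine ⟨n, (TensorProduct.comm A L C).symm w, (TensorProduct.comm A L L).injective ?_⟩
    rw [← hg, LinearEquiv.apply_symm_apply, ← hn]
    clear hn
    induction y using TensorProduct.induction_on with
    | zero => simp
    | tmul a b => simp [ι, H, Algebra.TensorProduct.tmul_pow, Algebra.TensorProduct.tmul_mul_tmul,
        smul_tmul', Submonoid.smul_def, Algebra.smul_def]
    | add a b ha hb => simp only [mul_add, map_add, smul_add, ha, hb]
  have hu : IsUnit (μ H) := by
    rw [hμ]
    exact IsLocalization.Away.algebraMap_isUnit h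
  let el := Algebra.FormallyUnramified.elem A L
  have hel : ∀ y, y * el = (Algebra.TensorProduct.lmul' A y ⊗ₜ[A] 1) * el := fun y => by
    induction y using TensorProduct.induction_on with
    | zero => simp
    | tmul a b =>
      rw [show a ⊗ₜ[A] b = (a ⊗ₜ[A] 1) * (1 ⊗ₜ[A] b) by simp, mul_assoc,
        Algebra.FormallyUnramified.one_tmul_mul_elem, ← mul_assoc]
      simp [el]
    | add a b ha hb => simp only [add_mul, map_add, TensorProduct.add_tmul, ha, hb]
  have hff : f ≤ f * f := by
    intro z hz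
    obtain ⟨n, z', hz'⟩ := hsurj (1 - el)
    have hz'f : z' ∈ f := by
      show μ z' = 0
      rw [← hι, ← hz', map_mul, map_sub, map_one, Algebra.FormallyUnramified.lmul_elem, sub_self, mul_zero]
    have h0 : ι (H ^ n * z - z * z') = 0 := by
      rw [map_sub, map_mul, map_mul, ← hz', show ι z * (ι (H ^ n) * (1 - el)) =
        ι (H ^ n) * ι z - ι (H ^ n) * (ι z * el) by ring, hel, hι, show μ z = 0 from hz,
        TensorProduct.zero_tmul, zero_mul, mul_zero, sub_zero, sub_self]
    obtain ⟨m, hm⟩ := hker _ h0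
    have hmem : H ^ (m + n) * z ∈ f * f := by
      rw [pow_add, mul_assoc, show H ^ n * z = (H ^ n * z - z * z') + z * z' by ring, mul_add, hm, zero_add]
      exact Ideal.mul_mem_left _ _ (Ideal.mul_mem_mul hz hz'f)
    let w : (L ⊗[A] C) := algebraMap L (L ⊗[A] C) ↑(hu.pow (m + n)).unit⁻¹
    have hw : 1 - w * H ^ (m + n) ∈ f := by
      show μ _ = 0
      rw [map_sub, map_one, map_mul, AlgHom.commutes, Algebra.algebraMap_self, RingHom.id_apply, map_pow,
        IsUnit.val_inv_mul, sub_self]
    rw [show z = z * (1 - w * H ^ (m + n)) + w * (H ^ (m + n) * z) by ring]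
    exact add_mem (Ideal.mul_mem_mul hz hw) (Ideal.mul_mem_left _ _ hmem)
  have hfg : f.FG := by
    let π : (L ⊗[A] C) →ₗ[L] (L ⊗[A] C) := LinearMap.id - Algebra.linearMap L (L ⊗[A] C) ∘ₗ μ.toLinearMap
    have hπ : LinearMap.range π = f.restrictScalars L := by
      refine le_antisymm ?_ fun x hx => ⟨x, ?_⟩
      · rintro _ ⟨x, rfl⟩
        show μ _ = 0
        simp [π, hμ']
      · simp [π, show μ x = 0 from hx]
    have h1 : (f.restrictScalars L).FG := by
      rw [← hπ, LinearMap.range_eq_map]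
      exact Module.Finite.fg_top.map π
    exact Submodule.FG.of_restrictScalars L h1
  exact (Ideal.isIdempotentElem_iff_of_fg f hfg).mp (le_antisymm Ideal.mul_le_left hff)

end Helpers


/-- Let A → C be finite locally free of rank d (C a finite projective A-module of constant rank d), h ∈
C such that C_h is étale over A, and J an ideal of C. Let I be the zeroth Fitting ideal of C/J
regarded as a finite A-module. Then the extension of I to C_h equals J·J' for some ideal J' of C_h
(J extended to C_h); and if J is finitely generated then so are I and J'. -/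
theorem result {A C : Type u} [CommRing A] [CommRing C] [Algebra A C] [Module.Finite A C] [Module.Projective A C]
    (d : ℕ) (hd : ∀ p : PrimeSpectrum A, Module.rankAtStalk (R := A) C p = d)
    (h : C) [Algebra.Etale A (Localization.Away h)] (J : Ideal C) :
    ∃ J' : Ideal (Localization.Away h),
      (FlatCA.fittingZero A (C ⧸ J)).map (algebraMap A (Localization.Away h)) = J.map (algebraMap C (Localization.Away h)) * J' ∧
      (J.FG → (FlatCA.fittingZero A (C ⧸ J)).FG ∧ J'.FG) := by
  classical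
  rw [fittingZero_eq]
  let L := Localization.Away h
  let μ : L ⊗[A] C →ₐ[L] L :=
    Algebra.TensorProduct.lift (AlgHom.id L L) (IsScalarTower.toAlgHom A C L) fun _ _ => Commute.all _ _
  have hμ : ∀ c, μ (1 ⊗ₜ c) = algebraMap C L c := fun c => by
    simp [μ]
  have hμs : Function.Surjective μ := fun l => ⟨l ⊗ₜ 1, by simp [μ]⟩
  obtain ⟨e, he, hker⟩ := exists_idempotent_ker h μ hμ
  let 𝔍 : Ideal (L ⊗[A] C) := J.map (Algebra.TensorProduct.includeRight : C →ₐ[A] (L ⊗[A] C))
  let I₁ : Ideal (L ⊗[A] C) := 𝔍 ⊔ Ideal.span {e}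
  let I₂ : Ideal (L ⊗[A] C) := 𝔍 ⊔ Ideal.span {1 - e}
  have hco : IsCoprime I₁ I₂ := by
    rw [Ideal.isCoprime_iff_exists]
    exact ⟨e, Ideal.mem_sup_right (Ideal.mem_span_singleton_self _), 1 - e,
      Ideal.mem_sup_right (Ideal.mem_span_singleton_self _), by ring⟩
  have hinf : 𝔍 = I₁ ⊓ I₂ := by
    refine le_antisymm (le_inf le_sup_left le_sup_left) fun x hx => ?_
    obtain ⟨hx1, hx2⟩ := Submodule.mem_inf.mp hx
    obtain ⟨a, ha, b, hb, rfl⟩ := Submodule.mem_sup.mp hx1
    obtain ⟨a', ha', b', hb', hab⟩ := Submodule.mem_sup.mp hx2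
    refine add_mem ha ?_
    obtain ⟨s, rfl⟩ := Ideal.mem_span_singleton.mp hb
    obtain ⟨s', rfl⟩ := Ideal.mem_span_singleton.mp hb'
    have : e * s = e * (a' - a) := by linear_combination (-e) * hab - (s + s') * he.eq
    rw [this]
    exact Ideal.mul_mem_left _ _ (sub_mem ha' ha)
  let Φ : ((L ⊗[A] C) ⧸ 𝔍) →ₗ[L] ((L ⊗[A] C) ⧸ I₁) × ((L ⊗[A] C) ⧸ I₂) :=
    (Ideal.Quotient.factorₐ L (le_sup_left : 𝔍 ≤ I₁)).toLinearMap.prod
      (Ideal.Quotient.factorₐ L (le_sup_left : 𝔍 ≤ I₂)).toLinearMap
  have hΦ : Function.Bijective Φ := by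
    constructor
    · rw [injective_iff_map_eq_zero]
      intro x hx
      obtain ⟨x, rfl⟩ := Ideal.Quotient.mk_surjective x
      obtain ⟨h1, h2⟩ := Prod.mk.injEq .. ▸ (show (Ideal.Quotient.mk I₁ x, Ideal.Quotient.mk I₂ x) = 0 from hx)
      rw [Ideal.Quotient.eq_zero_iff_mem, hinf]
      exact ⟨Ideal.Quotient.eq_zero_iff_mem.mp h1, Ideal.Quotient.eq_zero_iff_mem.mp h2⟩
    · rintro ⟨a, b⟩
      obtain ⟨a, rfl⟩ := Ideal.Quotient.mk_surjective a
      obtain ⟨b, rfl⟩ := Ideal.Quotient.mk_surjective b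
      refine ⟨Ideal.Quotient.mk 𝔍 (a * (1 - e) + b * e), Prod.ext (Ideal.Quotient.eq.mpr ?_) (Ideal.Quotient.eq.mpr ?_)⟩
      · rw [show a * (1 - e) + b * e - a = (b - a) * e by ring]
        exact Ideal.mem_sup_right (Ideal.mul_mem_left _ _ (Ideal.mem_span_singleton_self _))
      · rw [show a * (1 - e) + b * e - b = (a - b) * (1 - e) by ring]
        exact Ideal.mem_sup_right (Ideal.mul_mem_left _ _ (Ideal.mem_span_singleton_self _))
  let E : L ⊗[A] (C ⧸ J) ≃ₗ[L] ((L ⊗[A] C) ⧸ I₁) × ((L ⊗[A] C) ⧸ I₂) :=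
    (Algebra.TensorProduct.tensorQuotientEquiv (R := A) L C L J).toLinearEquiv.trans (LinearEquiv.ofBijective Φ hΦ)
  let JL : Ideal L := J.map (algebraMap C L)
  let ν : (L ⊗[A] C) →ₐ[L] L ⧸ JL := (Ideal.Quotient.mkₐ L JL).comp μ
  have hν : RingHom.ker ν = I₁ := by
    have h1 : 𝔍.map μ = JL := by
      show (J.map _).map μ = _
      rw [← Ideal.map_coe μ, ← Ideal.map_coe (Algebra.TensorProduct.includeRight : C →ₐ[A] (L ⊗[A] C)), Ideal.map_map]
      congr 1
      exact RingHom.ext hμ
    ext x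
    show Ideal.Quotient.mk JL (μ x) = 0 ↔ _
    rw [Ideal.Quotient.eq_zero_iff_mem, ← h1, ← Ideal.mem_comap, Ideal.comap_map_of_surjective μ hμs,
      ← RingHom.ker_eq_comap_bot, hker]
  let e₁ : ((L ⊗[A] C) ⧸ I₁) ≃ₗ[L] L ⧸ JL :=
    ((Ideal.quotientEquivAlgOfEq L hν.symm).trans (Ideal.quotientKerAlgEquivOfSurjective
      (f := ν) (Ideal.Quotient.mk_surjective.comp hμs))).toLinearEquiv
  refine ⟨Fitt.ideal L ((L ⊗[A] C) ⧸ I₂) 0, ?_, fun hJ => ?_⟩
  · rw [← Groth.Misc3Fitt.ideal_baseChange, Groth.Misc3Fitt.ideal_congr E, Groth.Misc3Fitt.ideal_prod,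
      Finset.sum_range_one, Groth.Misc3Fitt.ideal_congr e₁, fitt_quotient]
  · have : Module.FinitePresentation A C := Module.finitePresentation_of_projective A C
    have hJA : (J.restrictScalars A).FG := Submodule.FG.restrictScalars (R := A) hJ
    have : Module.FinitePresentation A (C ⧸ J) :=
      Module.finitePresentation_of_surjective ((Ideal.Quotient.mkₐ A J).toLinearMap)
        Ideal.Quotient.mk_surjective (by
          rw [show LinearMap.ker (Ideal.Quotient.mkₐ A J).toLinearMap = J.restrictScalars A from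
            Submodule.ext fun x => Ideal.Quotient.eq_zero_iff_mem]
          exact hJA)
    refine ⟨Groth.Misc3Fitt.ideal_fg 0, ?_⟩
    have hI₂ : I₂.FG := Submodule.FG.sup (Ideal.FG.map hJ _) (Submodule.fg_span_singleton _)
    have : Module.FinitePresentation L ((L ⊗[A] C) ⧸ I₂) :=
      Module.finitePresentation_of_surjective (Ideal.Quotient.mkₐ L I₂).toLinearMap
        Ideal.Quotient.mk_surjective (by
          rw [show LinearMap.ker (Ideal.Quotient.mkₐ L I₂).toLinearMap = I₂.restrictScalars L from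
            Submodule.ext fun x => Ideal.Quotient.eq_zero_iff_mem]
          exact Submodule.FG.restrictScalars (R := L) hI₂)
    exact Groth.Misc3Fitt.ideal_fg 0

end Groth.Agent.S1291
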