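import Groth.Statements.S6891
import Groth.Agent.Misc3Fitt.Props

set_option autoImplicit false
universe u
open Fitt

namespace Groth.Agent.S6891

/-- Let `M` be a finite `R`-module. Then `Fit_0(M) ⊆ Ann_R(M)`, the closed set `V(Fit_0(M))` equals
`Supp(M)`, and for an ideal `I` one has `Fit_0(R/I) = I`. -/
theorem result {R : Type u} [CommRing R] (M : Type u) [AddCommGroup M]
    [Module R M] [Module.Finite R M] (I : Ideal R) :
    Fitt.ideal R M 0 ≤ Module.annihilator R M ∧
    PrimeSpectrum.zeroLocus (Fitt.ideal R M 0 : Set R) = Module.support R M ∧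
    Fitt.ideal R (R ⧸ I) 0 = I := by
  refine ⟨Groth.Misc3Fitt.ideal_le_annihilator, ?_, ?_⟩
  · rw [Module.support_eq_zeroLocus]
    refine le_antisymm (fun p hp => ?_) (PrimeSpectrum.zeroLocus_anti_mono Groth.Misc3Fitt.ideal_le_annihilator)
    obtain ⟨n, x, hx⟩ := Module.Finite.exists_fin (R := R) (M := M)
    intro g hg
    have : g ^ n ∈ Fitt.ideal R M 0 := by
      refine Ideal.subset_span ⟨n, x, g • 1, hx, fun i _ => ?_, by simp⟩
      simp [Matrix.one_apply, Module.mem_annihilator.1 hg]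
    exact p.isPrime.mem_of_pow_mem n (hp this)
  · have hx : Submodule.span R (Set.range fun _ : Fin 1 => (Submodule.Quotient.mk 1 : R ⧸ I)) = ⊤ := by
      rw [eq_top_iff]
      rintro m -
      obtain ⟨r, rfl⟩ := Submodule.Quotient.mk_surjective _ m
      refine (Submodule.mem_span_range_iff_exists_fun R).2 ⟨fun _ => r, ?_⟩
      simp [Algebra.smul_def]
    rw [Groth.Misc3Fitt.ideal_eq_fitt _ hx, Groth.Misc3Fitt.fitt]
    have hrel : ∀ c : Fin 1 → R, c ∈ Groth.Misc3Fitt.rel (R := R) (fun _ : Fin 1 => (Submodule.Quotient.mk 1 : R ⧸ I)) ↔ c 0 ∈ I := by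
      intro c
      simp [Groth.Misc3Fitt.mem_rel, Algebra.smul_def, Ideal.Quotient.eq_zero_iff_mem]
    refine le_antisymm (Groth.Misc3Fitt.minors_le_iff.2 fun z e hz => ?_) (fun r hr => ?_)
    · have := (hrel _).1 (hz 0)
      simpa [Groth.Misc3Fitt.minor, Subsingleton.elim (e 0) 0] using this
    · have := Groth.Misc3Fitt.minor_mem (z := fun (_ : Fin 1) (_ : Fin 1) => r) id (fun _ => (hrel _).2 hr)
      simpa [Groth.Misc3Fitt.minor] using this

end Groth.Agent.S6891
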