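import Groth.Statements.S1271
import Groth.Agent.S1291
import Groth.Agent.S6891
import Mathlib.RingTheory.Unramified.LocalStructure

set_option autoImplicit false
universe u
open FlatMor

namespace Groth.Agent.S1271

/-- Let A → B be an étale ring map, a ∈ A a nonzerodivisor and J a finitely generated ideal of B with
V(J) ⊆ V(aB), i.e. a lies in the radical of J. Then for every prime q of B there exist a finitely
generated ideal I of A with V(I) ⊆ V(a), an element g of B outside q, and a finitely generated ideal
J' of the localization B_g such that the extension of I to B_g equals the product of the extension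
of J with J'. -/
theorem result {A B : Type u} [CommRing A] [CommRing B] [Algebra A B] [Algebra.Etale A B]
    (a : A) (ha : a ∈ nonZeroDivisors A) (J : Ideal B) (hJ : J.FG) (hJa : algebraMap A B a ∈ J.radical)
    (q : Ideal B) [q.IsPrime] :
    ∃ (I : Ideal A) (g : B) (J' : Ideal (Localization.Away g)), I.FG ∧ a ∈ I.radical ∧ g ∉ q ∧ J'.FG ∧
      I.map (algebraMap A (Localization.Away g)) = J.map (algebraMap B (Localization.Away g)) * J' := by
  obtain ⟨g, hg, hstd⟩ := Algebra.IsEtaleAt.exists_isStandardEtale (R := A) q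
  obtain ⟨P⟩ := hstd.nonempty_standardEtalePresentation
  let C := AdjoinRoot P.f
  let h : C := AdjoinRoot.mk P.f P.g
  let e : Localization.Away g ≃ₐ[A] Localization.Away h := P.equivRing.trans P.P.equivAwayAdjoinRoot
  have : Module.Free A C := P.monic_f.free_adjoinRoot
  have : Module.Finite A C := P.monic_f.finite_adjoinRoot
  have : Algebra.Etale A (Localization.Away h) := Algebra.Etale.of_equiv P.P.equivAwayAdjoinRoot
  let Jg := J.map (algebraMap B (Localization.Away g))
  let Jh := Jg.map e.toRingHom
  have hJh : Jh.FG := (hJ.map _).map _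
  obtain ⟨s, hs⟩ := hJh
  choose z hz using fun x : Localization.Away h => IsLocalization.surj (Submonoid.powers h) x
  obtain ⟨N, hN⟩ := hJa
  let Jt : Ideal C := Ideal.span ((fun x => (z x).1) '' (s : Set _)) ⊔ Ideal.span {algebraMap A C a ^ N}
  have hJt : Jt.FG := (Submodule.fg_span (s.finite_toSet.image _)).sup (Submodule.fg_span_singleton _)
  have haN : algebraMap A (Localization.Away h) a ^ N ∈ Jh := by
    have h1 : e (algebraMap B (Localization.Away g) (algebraMap A B a ^ N)) =
        algebraMap A (Localization.Away h) a ^ N := by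
      rw [map_pow, ← IsScalarTower.algebraMap_apply, map_pow, AlgEquiv.commutes]
    rw [← h1]
    exact Ideal.mem_map_of_mem _ (Ideal.mem_map_of_mem _ hN)
  have hmap : Jt.map (algebraMap C (Localization.Away h)) = Jh := by
    rw [Ideal.map_sup, Ideal.map_span, Ideal.map_span, Set.image_singleton, map_pow,
      ← IsScalarTower.algebraMap_apply]
    refine le_antisymm (sup_le ?_ (Ideal.span_le.2 (Set.singleton_subset_iff.2 haN))) ?_
    · rw [Ideal.span_le]
      rintro _ ⟨_, ⟨x, hx, rfl⟩, rfl⟩
      rw [SetLike.mem_coe, ← hz x]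
      exact Jh.mul_mem_right _ (hs ▸ Ideal.subset_span hx)
    · rw [← hs]
      refine Ideal.span_le.2 fun x hx => Ideal.mem_sup_left ?_
      have hu := IsLocalization.map_units (Localization.Away h) (z x).2
      rw [← Ideal.mul_unit_mem_iff_mem _ hu, hz x]
      exact Ideal.subset_span ⟨_, ⟨x, hx, rfl⟩, rfl⟩
  obtain ⟨J', hJ', hfg⟩ := Groth.Agent.S1291.result (A := A) (C := C) P.f.natDegree
    (fun p => by
      rcases subsingleton_or_nontrivial A with hA | hA
      · exact absurd (Subsingleton.elim p.asIdeal ⊤) p.isPrime.ne_top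
      · rw [Module.rankAtStalk_eq_finrank_of_free, Pi.natCast_def]
        exact (AdjoinRoot.powerBasis' P.monic_f).finrank) h Jt
  obtain ⟨hIfg, hJ'fg⟩ := hfg hJt
  let I := FlatCA.fittingZero A (C ⧸ Jt)
  refine ⟨I, g, J'.map e.symm.toRingHom, hIfg, ?_, hg, hJ'fg.map _, ?_⟩
  · rw [← PrimeSpectrum.vanishingIdeal_zeroLocus_eq_radical]
    show a ∈ PrimeSpectrum.vanishingIdeal (PrimeSpectrum.zeroLocus (I : Set A))
    rw [show I = Fitt.ideal A (C ⧸ Jt) 0 from Groth.Agent.S1291.fittingZero_eq A _,
      (Groth.Agent.S6891.result (C ⧸ Jt) (⊥ : Ideal A)).2.1, PrimeSpectrum.mem_vanishingIdeal]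
    intro p hp
    rw [Module.support_eq_zeroLocus] at hp
    refine p.isPrime.mem_of_pow_mem N (hp ?_)
    rw [SetLike.mem_coe, Module.mem_annihilator]
    intro m
    obtain ⟨m, rfl⟩ := Ideal.Quotient.mk_surjective m
    rw [Algebra.smul_def, IsScalarTower.algebraMap_apply A C (C ⧸ Jt), Ideal.Quotient.algebraMap_eq,
      ← map_mul, Ideal.Quotient.eq_zero_iff_mem, map_pow]
    exact Jt.mul_mem_right _ (Ideal.mem_sup_right (Ideal.mem_span_singleton_self _))
  · have h1 := congrArg (Ideal.map e.symm.toRingHom) hJ'
    rw [Ideal.map_mul, hmap, Ideal.map_map, Ideal.map_map] at h1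
    refine (congrArg (fun φ => Ideal.map φ I) ?_).trans (h1.trans ?_)
    · exact RingHom.ext fun x => (e.symm.commutes x).symm
    · congr 1
      rw [show e.symm.toRingHom.comp e.toRingHom = RingHom.id _ from
        RingHom.ext fun x => e.symm_apply_apply x, Ideal.map_id]

end Groth.Agent.S1271
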