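import Groth.Statements.S1221
import Groth.Agent.RaynaudGruson.AssassinTorsion

set_option autoImplicit false
universe u
open FlatMor

namespace Groth.Agent.S1221

attribute [local instance] Algebra.TensorProduct.rightAlgebra

/-- Let B be a finite type A-algebra, N a finite B-module and p a prime of A such that N is flat over A
at every prime of B over p. Let q' be a prime of B lying over a prime p' ⊆ p, such that the
extension of q' to the fibre ring over p' is an associated prime of the fibre module of N (a point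
of the relative assassin). If q' is contained in some prime of B over p, then it is contained in a
prime q over p whose extension to the fibre ring over p is an associated prime of the fibre module
over p. -/
theorem result {A B : Type u} [CommRing A] [CommRing B] [Algebra A B] [Algebra.FiniteType A B]
    (N : Type u) [AddCommGroup N] [Module B N] [Module A N] [IsScalarTower A B N] [Module.Finite B N] (p : Ideal A) [p.IsPrime]
    (hflat : ∀ (q : Ideal B) [q.IsPrime], q.LiesOver p → FlatCA.FlatAt A q N)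
    (p' : Ideal A) [p'.IsPrime] (hp' : p' ≤ p) (q' : Ideal B) [q'.IsPrime] [q'.LiesOver p']
    (hass : FlatCA.fiberIdeal p' q' ∈ associatedPrimes (p'.Fiber B) (FlatCA.fiberMod p' B N))
    (hspec : ∃ (t : Ideal B), t.IsPrime ∧ q' ≤ t ∧ t.LiesOver p) :
    ∃ (q : Ideal B) (_ : q.IsPrime), q' ≤ q ∧ q.LiesOver p ∧
      FlatCA.fiberIdeal p q ∈ associatedPrimes (p.Fiber B) (FlatCA.fiberMod p B N) := by
  classical
  obtain ⟨t, ht, hq't, htp⟩ := hspec
  haveI := ht; haveI := htp
  haveI : IsNoetherianRing (p'.Fiber B) := Algebra.FiniteType.isNoetherianRing p'.ResidueField _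
  let F := p'.Fiber B
  obtain ⟨-, x, hx⟩ := Groth.Calg5.mem_ass_iff.mp (Groth.RaynaudGruson.mem_ass_of_mem_associatedPrimes hass)
  obtain ⟨d, hd, y, hy⟩ : ∃ d : A, d ∉ p' ∧ ∃ y : N, algebraMap A B d • x = FlatCA.toFiberMod p' B N y := by
    suffices ∀ x : TensorProduct B F N, ∃ d : A, d ∉ p' ∧ ∃ y : N, algebraMap A B d • x = (1 : F) ⊗ₜ[B] y from this x
    intro x
    induction x with
    | zero => exact ⟨1, fun h => ‹p'.IsPrime›.ne_top ((Ideal.eq_top_iff_one p').mpr h), 0, by simp⟩
    | tmul a n =>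
      obtain ⟨d, hd, s, hs⟩ := Groth.Calg5.exists_smul_eq_algebraMap p' a
      refine ⟨d, hd, s • n, ?_⟩
      rw [TensorProduct.smul_tmul', hs, TensorProduct.tmul_smul, TensorProduct.smul_tmul', Algebra.smul_def, mul_one]
    | add a b ha hb =>
      obtain ⟨d, hd, y, hy⟩ := ha
      obtain ⟨d', hd', y', hy'⟩ := hb
      refine ⟨d * d', ‹p'.IsPrime›.mul_notMem hd hd', algebraMap A B d' • y + algebraMap A B d • y', ?_⟩
      rw [map_mul, smul_add, mul_comm (algebraMap A B d), mul_smul, hy, mul_comm (algebraMap A B d'), mul_smul, hy',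
        TensorProduct.tmul_add, TensorProduct.tmul_smul, TensorProduct.tmul_smul]
  have hann : ∀ s : B, s • (y ⊗ₜ[A] (1 : p'.ResidueField)) = 0 → s ∈ q' := by
    intro s hs
    rw [TensorProduct.smul_tmul'] at hs
    obtain ⟨r, hr, hrn⟩ := Groth.SchDom.exists_smul_mem_of_tmul_one_eq_zero p' (s • y) hs
    have h0 := Groth.Calg3.FibreAssTorsion.toFiberMod_eq_zero_of_mem (S := B) N p' hrn
    rw [← algebraMap_smul B r, ← mul_smul, map_smul, ← hy, ← mul_smul, ← algebraMap_smul F] at h0
    have hmem : algebraMap B F (algebraMap A B r * s * algebraMap A B d) ∈ FlatCA.fiberIdeal p' q' :=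
      (hx _).mpr h0
    obtain ⟨Q, hQ⟩ := Flatmor4.exists_fiber_prime p' q'
    rw [← hQ, Groth.RaynaudGruson.fiberIdeal_comap, ← Ideal.mem_comap, hQ] at hmem
    have hover : ∀ c : A, c ∉ p' → algebraMap A B c ∉ q' := fun c hc h =>
      hc ((Ideal.LiesOver.over (p := p') (P := q')).ge h)
    rcases Ideal.IsPrime.mem_or_mem ‹q'.IsPrime› hmem with h1 | h1
    · exact (Ideal.IsPrime.mem_or_mem ‹q'.IsPrime› h1).resolve_left (hover r hr)
    · exact absurd h1 (hover d hd)
  obtain ⟨P, hP, hPp, -, hle, hassP⟩ := Groth.RaynaudGruson.AssassinTorsion.exists_assoc_le N p t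
    (hflat t htp) p'.ResidueField (y ⊗ₜ (1 : p'.ResidueField)) fun s hs => hq't (hann s hs)
  refine ⟨P, hP, fun s hs => hle s ?_, hPp, hassP⟩
  have h1 : algebraMap B F s ∈ FlatCA.fiberIdeal p' q' := Ideal.mem_map_of_mem _ hs
  have h2 : algebraMap B F s • x = 0 := (hx _).mp h1
  rw [algebraMap_smul] at h2
  have h3 : FlatCA.toFiberMod p' B N (s • y) = 0 := by rw [map_smul, ← hy, smul_comm, h2, smul_zero]
  obtain ⟨r, hr, hrn⟩ := Groth.Calg3.FibreAssTorsion.exists_smul_mem_of_toFiberMod_eq_zero N p' h3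
  have hu : IsUnit (algebraMap A p'.ResidueField r) :=
    isUnit_iff_ne_zero.mpr fun h0 => hr (Ideal.algebraMap_residueField_eq_zero.mp h0)
  have h4 : (r • (s • y)) ⊗ₜ[A] (1 : p'.ResidueField) = 0 := by
    refine Submodule.smul_induction_on hrn (fun a ha n _ => ?_) fun a b ha hb => by
      rw [TensorProduct.add_tmul, ha, hb, add_zero]
    rw [TensorProduct.smul_tmul, Algebra.smul_def, Ideal.algebraMap_residueField_eq_zero.mpr ha, zero_mul,
      TensorProduct.tmul_zero]
  rw [TensorProduct.smul_tmul, Algebra.smul_def, mul_one] at h4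
  obtain ⟨w, hw⟩ := hu
  have h5 := congrArg (LinearMap.lTensor N (LinearMap.mulLeft A (↑w⁻¹ : p'.ResidueField))) h4
  rw [map_zero, LinearMap.lTensor_tmul, LinearMap.mulLeft_apply, ← hw, Units.inv_mul] at h5
  rwa [TensorProduct.smul_tmul']

end Groth.Agent.S1221
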