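import Groth.Statements.S1124
import Groth.Agent.DescentBase.TopDescent

set_option autoImplicit false
open CategoryTheory CategoryTheory.Limits AlgebraicGeometry Opposite
universe u
open Desc

namespace Groth.Agent.S1124

/-- If the base change of a morphism of schemes along a quasi-compact, flat, surjective morphism is a
quasi-compact immersion, then the morphism itself is a quasi-compact immersion. (Stated for a single
quasi-compact flat surjective base change; together with Zariski-locality on the target this is fpqc
descent for quasi-compact immersions.) -/
theorem result :
    MorphismProperty.DescendsAlong (@IsImmersion ⊓ @QuasiCompact : MorphismProperty Scheme.{u})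
      (@Surjective ⊓ @Flat ⊓ @QuasiCompact : MorphismProperty Scheme.{u}) := by
  refine ⟨fun {A X Y Z fst snd f g} h hf hfst => ?_⟩
  haveI : Surjective f := hf.1.1
  haveI : Flat f := hf.1.2
  haveI : QuasiCompact f := hf.2
  haveI : QuasiCompact fst := hfst.2
  haveI : IsImmersion fst := hfst.1
  haveI : QuasiCompact g := Groth.DescentBase.quasiCompact_of_isPullback h
  exact ⟨Groth.DescentBase.isImmersion_of_isPullback h
    (Groth.DescentBase.isQuotientMap_of_generalizing f (AlgebraicGeometry.Flat.generalizingMap f))
    (Groth.DescentBase.preimage_closure_range f (AlgebraicGeometry.Flat.generalizingMap f) g)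
    (@Surjective ⊓ @Flat ⊓ @QuasiCompact) hf, inferInstance⟩

end Groth.Agent.S1124
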