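import Groth.Statements.S4100
import Groth.Agent.GrpschSep.Transitive
import Groth.Agent.GrpschAbsch.IdComp
import Groth.Agent.AlgGrp1.Geom

set_option autoImplicit false
universe u
open CategoryTheory MonoidalCategory CartesianMonoidalCategory MonObj GrpObj AlgebraicGeometry CategoryTheory.Limits
open SGA3

namespace Groth.Agent.S4100

/-- The fibres of a scheme with a transitive action of a group with connected fibres are
irreducible. -/
lemma irreducibleSpace_fibre {S : Scheme.{u}} {G X : Over S} [GrpObj G] [LocallyOfFiniteType G.hom]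
    (a : AlgGrp.Action G X) (hΦ : Surjective (lift a.act (snd G X)).left) (s : S)
    (hc : ConnectedSpace ↥(G.hom.fiber s)) (x' : X.left) (hx' : X.hom x' = s) :
    IrreducibleSpace ↥(X.hom.fiber s) := by
  let K := AlgebraicClosure (X.left.residueField x')
  let t₀ : Spec (CommRingCat.of K) ⟶ X.left :=
    Spec.map (CommRingCat.ofHom (algebraMap (X.left.residueField x') K)) ≫
      X.left.fromSpecResidueField x'
  let t : Spec (CommRingCat.of K) ⟶ S := t₀ ≫ X.hom
  let T : Over S := Over.mk t
  let x : T ⟶ X := Over.homMk t₀ rfl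
  let pt : Spec (CommRingCat.of K) := IsLocalRing.closedPoint K
  have hts : t pt = s := by
    show X.hom (t₀ pt) = s
    rw [show t₀ pt = x' from Scheme.fromSpecResidueField_apply x' _]
    exact hx'
  subst hts
  let F : Over (Spec (CommRingCat.of (S.residueField (t pt)))) :=
    Over.mk (pullback.snd G.hom (S.fromSpecResidueField (t pt)))
  letI : GrpObj (Over.mk G.hom) := ‹GrpObj G›
  letI gF : GrpObj F := Over.grpObjMkPullbackSnd
  haveI : LocallyOfFiniteType F.hom := inferInstanceAs (LocallyOfFiniteType (pullback.snd _ _))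
  haveI : ConnectedSpace F.left := hc
  haveI : GeometricallyConnected F.hom :=
    Groth.AlgGrp1.geometricallyConnected_of_point F.hom η[F].left (Over.w η[F])
  let σ : Spec (CommRingCat.of K) ⟶ Spec (S.residueField (t pt)) :=
    Spec.map (Scheme.descResidueField (Scheme.stalkClosedPointTo t))
  have hσ : σ ≫ S.fromSpecResidueField (t pt) = t :=
    Scheme.descResidueField_stalkClosedPointTo_fromSpecResidueField K S t
  let F' : Over (Spec (CommRingCat.of K)) := Over.mk (pullback.snd F.hom σ)
  letI : GrpObj (Over.mk F.hom) := gF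
  letI gF' : GrpObj F' := Over.grpObjMkPullbackSnd
  haveI : LocallyOfFiniteType F'.hom := inferInstanceAs (LocallyOfFiniteType (pullback.snd _ _))
  haveI : GeometricallyConnected F'.hom := inferInstanceAs (GeometricallyConnected (pullback.snd _ _))
  haveI : ConnectedSpace F'.left :=
    inferInstanceAs (ConnectedSpace ↥(pullback F.hom σ))
  have hirr : IrreducibleSpace F'.left := Groth.GrpschAbsch.irreducibleSpace_of_connected_lft F'
  have sqG : IsPullback (pullback.fst F.hom σ ≫ pullback.fst G.hom _) F'.hom G.hom t :=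
    (congrArg (fun r => IsPullback (pullback.fst F.hom σ ≫ pullback.fst G.hom _) F'.hom G.hom r) hσ).mp
      ((IsPullback.of_hasPullback F.hom σ).paste_horiz
        (IsPullback.of_hasPullback G.hom (S.fromSpecResidueField (t pt))))
  haveI : IrreducibleSpace (G ⊗ T).left :=
    ((sqG.isoIsPullback _ _ (Groth.AlgGrp2.isPullback_fst_snd G T)).hom.homeomorph).symm.irreducibleSpace_iff.mpr hirr
  let q : (X ⊗ T).left ⟶ X.hom.fiber (t pt) :=
    pullback.lift (fst X T).left ((snd X T).left ≫ σ) (by
      rw [Category.assoc, hσ]; exact (Groth.AlgGrp2.isPullback_fst_snd X T).w)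
  have hq₁ : q ≫ X.hom.fiberι (t pt) = (fst X T).left := pullback.lift_fst _ _ _
  have hq : IsPullback q (snd X T).left (X.hom.fiberToSpecResidueField (t pt)) σ := by
    refine IsPullback.of_right ?_ (pullback.lift_snd _ _ _)
      (IsPullback.of_hasPullback X.hom (S.fromSpecResidueField (t pt)))
    rw [hσ]
    exact hq₁ ▸ Groth.AlgGrp2.isPullback_fst_snd X T
  haveI : Surjective σ := ⟨fun p ↦ ⟨pt, Subsingleton.elim _ _⟩⟩
  haveI : Surjective q := MorphismProperty.of_isPullback hq.flip inferInstance
  haveI : Surjective (Groth.GrpschSep.orb a x).left :=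
    MorphismProperty.of_isPullback (Groth.GrpschSep.isPullback_orb a x) hΦ
  let o := (Groth.GrpschSep.orb a x).left ≫ q
  have hsurj : Function.Surjective o :=
    (q.surjective).comp (Groth.GrpschSep.orb a x).left.surjective
  rw [irreducibleSpace_def, Set.top_eq_univ, ← hsurj.range_eq, ← Set.image_univ]
  exact (IrreducibleSpace.isIrreducible_univ _).image _ o.continuous.continuousOn


/-- Let G be an S-group scheme locally of finite presentation and universally open over S with connected
fibres, acting on an S-scheme X locally of finite presentation over S in such a way that the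
morphism G ×_S X → X ×_S X, (g, x) ↦ (g·x, x), is surjective. Then X is separated over S. -/
theorem result (S : Scheme.{u}) (G X : Over S) [GrpObj G]
    [LocallyOfFinitePresentation G.hom] [UniversallyOpen G.hom]
    (hconn : ∀ s : S, _root_.IsConnected (G.hom.base ⁻¹' {s}))
    [LocallyOfFinitePresentation X.hom] (a : AlgGrp.Action G X)
    (hΦ : Surjective (lift a.act (snd G X)).left) : IsSeparated X.hom := by
  refine Groth.GrpschSep.isSeparated_of_transitive a hΦ ⊤ (fun _ ↦ trivial)
    (MorphismProperty.comp_mem @UniversallyOpen _ _ inferInstance inferInstance)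
    (fun s ↦ MorphismProperty.pullback_snd _ _ inferInstance) fun s ↦ ?_
  by_cases h : ∃ x₀ : X.hom.fiber s, True
  · obtain ⟨x₀, -⟩ := h
    haveI := isConnected_iff_connectedSpace.mp (hconn s)
    haveI := irreducibleSpace_fibre a hΦ s ((G.hom.fiberHomeo s).connectedSpace_iff.mpr this)
      (X.hom.fiberι s x₀) ((X.hom.range_fiberι s).le ⟨x₀, rfl⟩)
    obtain ⟨_, ⟨U : X.left.Opens, hUa, rfl⟩, hxU, -⟩ :=
      X.left.isBasis_affineOpens.exists_subset_of_mem_open (Set.mem_univ (X.hom.fiberι s x₀)) isOpen_univ
    refine ⟨U, ?_, ?_⟩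
    · have : IsAffine U.toScheme := hUa
      infer_instance
    · have hd : Dense (X.hom.fiberι s ⁻¹' (U : Set X.left)) :=
        (U.2.preimage (X.hom.fiberι s).continuous).dense ⟨x₀, hxU⟩
      rintro y hy
      obtain ⟨w, rfl⟩ := (X.hom.range_fiberι s).ge hy
      have := (X.hom.fiberι s).isEmbedding.isInducing.dense_iff.mp hd w
      rwa [Set.image_preimage_eq_inter_range, X.hom.range_fiberι] at this
  · refine ⟨⊥, ?_, fun y hy ↦ ?_⟩
    · have : IsEmpty (⊥ : X.left.Opens).toScheme := ⟨fun x ↦ x.2.elim⟩
      infer_instance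
    · obtain ⟨w, rfl⟩ := (X.hom.range_fiberι s).ge hy
      exact (h ⟨w, trivial⟩).elim

end Groth.Agent.S4100
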