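import Groth.Statements.S3025
import Groth.Agent.GrpschSep.Fibre
import Groth.Agent.S4100
import Groth.Agent.GrpschAbsch.Basic

set_option autoImplicit false
universe u
open CategoryTheory MonoidalCategory CartesianMonoidalCategory MonObj GrpObj AlgebraicGeometry TensorProduct
open SGA3

namespace Groth.Agent.S3025

/-- Let S be a scheme and G a group scheme over S which is locally of finite presentation and
universally open over S and whose fibres are connected. Then G is separated and quasi-compact (hence
of finite presentation) over S. -/
theorem result (S : Scheme.{u}) (G : Over S) [GrpObj G]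
    [LocallyOfFinitePresentation G.hom] [UniversallyOpen G.hom]
    (hconn : ∀ s : S, _root_.IsConnected (G.hom.base ⁻¹' {s})) :
    IsSeparated G.hom ∧ QuasiCompact G.hom := by
  refine ⟨?_, Groth.GrpschSep.quasiCompact_of_connected_fibres
    (fun s ↦ MorphismProperty.pullback_snd _ _ inferInstance) fun s ↦
      haveI := isConnected_iff_connectedSpace.mp (hconn s)
      (G.hom.fiberHomeo s).connectedSpace_iff.mpr this⟩
  refine Groth.Agent.S4100.result S G G hconn
    { act := μ[G], one_act := MonObj.one_mul G, mul_act := MonObj.mul_assoc G } ?_
  have e : lift μ[G] (snd G G) = (Groth.GrpschAbsch.shearR (𝟙 G)).hom := by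
    rw [MonObj.mul_eq_mul]
    simp
  show Surjective (lift μ[G] (snd G G)).left
  rw [e]
  infer_instance

end Groth.Agent.S3025
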