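import Groth.Statements.S5393
import Groth.Agent.GrpschAbsch.NeutralSet
import Groth.Agent.AlgSp2.FlatFibreScheme
import Groth.Agent.PropsBasic2.Misc

set_option autoImplicit false
universe u
open CategoryTheory CategoryTheory.Limits MonoidalCategory CartesianMonoidalCategory MonObj GrpObj AlgebraicGeometry
open SGA3

namespace Groth.Agent.S5393

open Groth.GrpschAbsch.NeutralSet

variable {S : Scheme.{u}} {H N : Over S}

lemma flat_of_fibres [Flat H.hom] [LocallyOfFinitePresentation H.hom] [LocallyOfFiniteType N.hom]
    (j : H ⟶ N) (hf : ∀ s : S, IsOpenImmersion ((Over.pullback (S.fromSpecResidueField s)).map j).left) :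
    Flat j.left := by
  haveI : Flat (j.left ≫ N.hom) := by rw [Over.w]; infer_instance
  haveI : LocallyOfFinitePresentation (j.left ≫ N.hom) := by rw [Over.w]; infer_instance
  refine Flat.of_stalkMap _ fun x ↦ (Groth.AlgSp2.FlatFib.flat_at_iff_fibre j.left N.hom x).mpr ?_
  let s := N.hom (j.left x)
  haveI := hf s
  have h1 := Groth.AlgSp2.FlatFib.isPullback_fiberMap j.left N.hom s
  have h2 := Groth.GrpschAbsch.FibreFlat.isPullback_map (S.fromSpecResidueField s) j
  let e := h1.isoIsPullback _ _ h2
  haveI : Flat (MoreMor.fiberMap j.left N.hom s) := by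
    rw [← h1.isoIsPullback_hom_snd _ _ h2]
    exact (MorphismProperty.cancel_left_of_respectsIso @Flat _ _).mpr
      (inferInstance : Flat ((Over.pullback (S.fromSpecResidueField s)).map j).left)
  exact Flat.stalkMap _ _

lemma range_eq_fibrewise [GrpObj H] [GrpObj N] (j : H ⟶ N) [IsMonHom j]
    (hH : ∀ s : S, ConnectedSpace ↥(H.hom.fiber s))
    (hf : ∀ s : S, IsOpenImmersion ((Over.pullback (S.fromSpecResidueField s)).map j).left) :
    Set.range j.left = SGA3x.neutralSet N := by
  have hu : SGA3x.neutralSet H = Set.univ := Set.eq_univ_of_forall fun x ↦ (mem_iff H x).2 <| by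
    haveI := hH (H.hom x)
    rw [PreconnectedSpace.connectedComponent_eq_univ]; trivial
  rw [← Set.image_univ, ← hu]
  refine image_neutralSet_eq H j fun s ↦ ?_
  let t : Spec (CommRingCat.of (S.residueField s)) ⟶ S := S.fromSpecResidueField s
  letI : GrpObj ((Over.pullback t).obj H) := Functor.grpObjObj
  letI : GrpObj ((Over.pullback t).obj N) := Functor.grpObjObj
  haveI : IsOpenImmersion ((Over.pullback t).map j).left := hf s
  have h := component_of_openSubgroup (G := (Over.pullback t).obj N) (H := (Over.pullback t).obj H)
    ((Over.pullback t).map j)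
  rw [one_pullback_eq, one_pullback_eq] at h
  exact h


/-- Let G be an S-group scheme locally of finite presentation and quasi-separated over S, H an S-group
scheme smooth and of finite presentation over S with connected fibres, u : H → G a homomorphism
which is a monomorphism, n : N → G the normalizer of H in G (a closed subgroup scheme) and j : H → N
the homomorphism with j n = u. The following are equivalent: (i) j is an open immersion; (ii) H
represents the neutral component of N: a point g : T → N factors through j exactly when the image of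
its underlying map lies in the union of the neutral components of the fibres of N; (iii) for every s
in S, the fibre j_s : H_s → N_s is an open immersion whose image is the neutral component of N_s.
(The published statement asks H only to be smooth over S with connected fibres; this row also asks H
quasi-compact and quasi-separated over S, the hypotheses under which the normalizer is shown to be
representable.) -/
theorem result (S : Scheme.{u}) (G H N : Over S) [GrpObj G] [GrpObj H] [GrpObj N]
    [LocallyOfFinitePresentation G.hom] [QuasiSeparated G.hom] [Smooth H.hom] [QuasiCompact H.hom] [QuasiSeparated H.hom]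
    (hconn : ∀ s : S, _root_.IsConnected (H.hom.base ⁻¹' {s})) (u : H ⟶ G) [IsMonHom u] [Mono u]
    (n : N ⟶ G) [IsClosedImmersion n.left] (hN : Red.IsNormalizerOf u n) (j : H ⟶ N) [IsMonHom j] (hj : j ≫ n = u) :
    (IsOpenImmersion j.left ↔
      ∀ (T : Over S) (g : T ⟶ N), (∃ h : T ⟶ H, h ≫ j = g) ↔ Set.range g.left.base ⊆ SGA3x.neutralSet N) ∧
    (IsOpenImmersion j.left ↔
      ∀ s : S, IsOpenImmersion ((Over.pullback (S.fromSpecResidueField s)).map j).left ∧
        j.left.base '' (H.hom.base ⁻¹' {s}) = SGA3x.neutralSet N ∩ N.hom.base ⁻¹' {s}) := by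
  have hH : ∀ s : S, ConnectedSpace ↥(H.hom.fiber s) := fun s ↦
    haveI := isConnected_iff_connectedSpace.mp (hconn s)
    (H.hom.fiberHomeo s).connectedSpace_iff.mpr this
  haveI : Mono j := by
    haveI : Mono (j ≫ n) := hj ▸ ‹Mono u›
    exact mono_of_mono j n
  haveI : Mono j.left := (Over.forget S).map_mono j
  haveI : LocallyOfFiniteType N.hom := by rw [← Over.w n]; infer_instance
  haveI : LocallyOfFinitePresentation (j.left ≫ N.hom) := by rw [Over.w]; infer_instance
  haveI : LocallyOfFinitePresentation j.left := Groth.PropsBasic2.lfp_of_comp j.left N.hom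
  have fwd : IsOpenImmersion j.left → ∀ (s : S),
      IsOpenImmersion ((Over.pullback (S.fromSpecResidueField s)).map j).left := fun h s ↦
    MorphismProperty.of_isPullback (P := @IsOpenImmersion)
      (Groth.GrpschAbsch.FibreFlat.isPullback_map (S.fromSpecResidueField s) j) h
  have back : (∀ s : S, IsOpenImmersion ((Over.pullback (S.fromSpecResidueField s)).map j).left) →
      IsOpenImmersion j.left := fun hf ↦ by
    haveI := flat_of_fibres j hf
    exact IsOpenImmersion.of_flat_of_mono _
  refine ⟨⟨fun h T g ↦ ?_, fun hrep ↦ back fun s ↦ ?_⟩,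
    ⟨fun h s ↦ ⟨fwd h s, ?_⟩, fun h ↦ back fun s ↦ (h s).1⟩⟩
  · haveI := h
    have hr := range_eq_fibrewise j hH (fwd h)
    constructor
    · rintro ⟨z, rfl⟩
      rw [← hr]
      rintro _ ⟨x, rfl⟩
      exact ⟨z.left x, rfl⟩
    · intro hg
      refine ⟨Over.homMk (IsOpenImmersion.lift j.left g.left (hr.symm ▸ hg)) ?_,
        Over.OverMorphism.ext (IsOpenImmersion.lift_fac _ _ _)⟩
      rw [← Over.w j, IsOpenImmersion.lift_fac_assoc, Over.w g]
  · have hsub : Set.range j.left ⊆ SGA3x.neutralSet N := (hrep H j).1 ⟨𝟙 H, Category.id_comp _⟩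
    let t : Spec (CommRingCat.of (S.residueField s)) ⟶ S := S.fromSpecResidueField s
    letI : GrpObj ((Over.pullback t).obj N) := Functor.grpObjObj
    haveI : LocallyOfFiniteType ((Over.pullback t).obj N).hom :=
      inferInstanceAs (LocallyOfFiniteType (pullback.snd N.hom t))
    obtain ⟨G₀, _, i, _, hi, hr, -⟩ := exists_neutral_openSubgroup ((Over.pullback t).obj N)
    rw [one_pullback_eq] at hr
    haveI := hi
    let g : (Over.map t).obj G₀ ⟶ N := Over.homMk (i.left ≫ pullback.fst N.hom t) (by
      show (i.left ≫ pullback.fst N.hom t) ≫ N.hom = G₀.hom ≫ t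
      rw [Category.assoc, pullback.condition, ← Category.assoc]
      exact congrArg (· ≫ t) (Over.w i))
    obtain ⟨h, hh⟩ := (hrep _ g).2 (by
      rintro _ ⟨x, rfl⟩
      exact (fiberι_mem_iff N s (i.left x)).2 (hr ▸ ⟨x, rfl⟩))
    have hw : h.left ≫ H.hom = G₀.hom ≫ t := Over.w h
    let z : G₀ ⟶ (Over.pullback t).obj H :=
      Over.homMk (pullback.lift h.left G₀.hom hw) (pullback.lift_snd _ _ _)
    have hz : z ≫ (Over.pullback t).map j = i := Over.OverMorphism.ext <| pullback.hom_ext
      (by
        show (pullback.lift h.left G₀.hom hw ≫ pullback.lift _ _ _) ≫ pullback.fst _ _ = _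
        rw [Category.assoc, pullback.lift_fst, pullback.lift_fst_assoc]
        exact congrArg CommaMorphism.left hh)
      (by
        show (pullback.lift h.left G₀.hom hw ≫ pullback.lift _ _ _) ≫ pullback.snd _ _ = _
        rw [Category.assoc, pullback.lift_snd, pullback.lift_snd]
        exact (Over.w i).symm)
    haveI : Mono ((Over.pullback t).map j) := inferInstance
    haveI : Mono i := Over.mono_of_mono_left i
    have hrange : Set.range ((Over.pullback t).map j).left ⊆ Set.range i.left := by
      rintro _ ⟨x, rfl⟩
      rw [hr]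
      refine (fiberι_mem_iff N s _).1 (hsub ⟨H.hom.fiberι s x, ?_⟩)
      exact congr(($((Groth.GrpschAbsch.FibreFlat.isPullback_map t j).w)).base x)
    let w : (Over.pullback t).obj H ⟶ G₀ := Over.homMk (IsOpenImmersion.lift i.left _ hrange) (by
      rw [← Over.w i, IsOpenImmersion.lift_fac_assoc]
      exact Over.w ((Over.pullback t).map j))
    have hwi : w ≫ i = (Over.pullback t).map j :=
      Over.OverMorphism.ext (IsOpenImmersion.lift_fac _ _ _)
    haveI : IsIso w := ⟨z, by
      rw [← cancel_mono ((Over.pullback t).map j), Category.assoc, hz, hwi, Category.id_comp], by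
      rw [← cancel_mono i, Category.assoc, hwi, hz, Category.id_comp]⟩
    haveI : IsIso w.left := inferInstanceAs (IsIso ((Over.forget _).map w))
    show IsOpenImmersion ((Over.pullback t).map j).left
    rw [← hwi, Over.comp_left]
    infer_instance
  · rw [← range_eq_fibrewise j hH (fwd h)]
    ext y
    constructor
    · rintro ⟨x, hx, rfl⟩
      exact ⟨⟨x, rfl⟩, ((congr(($(Over.w j)).base x)).trans hx :)⟩
    · rintro ⟨⟨x, rfl⟩, hy⟩
      exact ⟨x, ((congr(($(Over.w j)).base x)).symm.trans hy :), rfl⟩

end Groth.Agent.S5393
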