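import Groth.Statements.S5263
import Groth.Agent.Reductive.HomScheme.Apps
import Groth.Agent.Reductive.HomDiagDescent
import Groth.Agent.Reductive.FpqcLocalTwo
import Groth.Agent.AlgSp2.SmoothDescent
import Groth.Agent.EtaleBase.FpqcDescent
import Mathlib.AlgebraicGeometry.Morphisms.LocalFlatDescent

set_option autoImplicit false
open CategoryTheory MonoidalCategory CartesianMonoidalCategory MonObj GrpObj AlgebraicGeometry
universe u
open SGA3x

namespace Groth.Agent.S5263

/-- Let G and H be S-groups of multiplicative type which are finite over S. Then the functor of group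
homomorphisms from G to H is representable by an S-scheme which is finite and etale over S (with its
universal family of homomorphisms). -/
theorem result {S : Scheme.{u}} (G H : Over S) [GrpObj G] [GrpObj H]
    (hG : SGA3x.IsMultTypeFT G) [IsFinite G.hom] (hH : SGA3x.IsMultTypeFT H) [IsFinite H.hom] :
    ∃ (A : Over S) (υ : G ⊗ A ⟶ H), AutFam.RepresentsHom G H A υ ∧ IsFinite A.hom ∧ Etale A.hom := by
  obtain ⟨hflat, hlfp⟩ := Groth.Reductive.flat_lfp_of_multTypeFT G hG
    Groth.AlgSp2.flat_descendsAlong inferInstance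
  obtain ⟨A, υ, hυ, hAa, -, -⟩ := Groth.Reductive.HomScheme.exists_homGrp G H
  refine ⟨A, υ, hυ, ?_⟩
  obtain ⟨S₁, f₁, hf₁, -, hqc₁, hloc₁⟩ := hG
  obtain ⟨S₂, f₂, hf₂, -, hqc₂, hloc₂⟩ := hH
  choose U₁ hU₁ M hM hMfg e₁ using hloc₁
  choose U₂ hU₂ N hN hNfg e₂ using hloc₂
  have key : ∀ (T : Scheme.{u}), IsAffine T → ∀ (a : S₁) (b : S₂) (j₁ : T ⟶ U₁ a) (j₂ : T ⟶ U₂ b),
      j₁ ≫ (U₁ a).ι ≫ f₁ = j₂ ≫ (U₂ b).ι ≫ f₂ →
        IsFinite (Limits.pullback.snd A.hom (j₁ ≫ (U₁ a).ι ≫ f₁)) ∧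
          Etale (Limits.pullback.snd A.hom (j₁ ≫ (U₁ a).ι ≫ f₁)) := by
    intro T hT a b j₁ j₂ hj
    haveI := hT
    set g := j₁ ≫ (U₁ a).ι ≫ f₁ with hg
    rcases isEmpty_or_nonempty T with hTe | hTne
    · haveI : IsEmpty ↥(Limits.pullback A.hom g) :=
        ⟨fun x => hTe.false ((Limits.pullback.snd A.hom g).base x)⟩
      haveI : Surjective (Limits.pullback.snd A.hom g) := ⟨fun x => hTe.elim x⟩
      haveI : IsIso (Limits.pullback.snd A.hom g) :=
        (isIso_iff_isOpenImmersion_and_surjective _).mpr ⟨inferInstance, inferInstance⟩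
      exact ⟨inferInstance, inferInstance⟩
    letI := hM a
    letI := hN b
    let eG : Red.DS (U₁ a : Scheme.{u}) (M a) ≅ Red.bc ((U₁ a).ι ≫ f₁) G :=
      ⟨(e₁ a).some.inv.hom.hom, (e₁ a).some.hom.hom.hom,
        congrArg (fun z => z.hom.hom) (e₁ a).some.inv_hom_id,
        congrArg (fun z => z.hom.hom) (e₁ a).some.hom_inv_id⟩
    haveI : IsMonHom eG.hom := inferInstanceAs (IsMonHom (e₁ a).some.inv.hom.hom)
    let eH : Red.DS (U₂ b : Scheme.{u}) (N b) ≅ Red.bc ((U₂ b).ι ≫ f₂) H :=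
      ⟨(e₂ b).some.inv.hom.hom, (e₂ b).some.hom.hom.hom,
        congrArg (fun z => z.hom.hom) (e₂ b).some.inv_hom_id,
        congrArg (fun z => z.hom.hom) (e₂ b).some.hom_inv_id⟩
    haveI : IsMonHom eH.hom := inferInstanceAs (IsMonHom (e₂ b).some.inv.hom.hom)
    obtain ⟨iG, hiG⟩ := Groth.Reductive.FreeDiag.exists_trivialisation_comp G j₁ ((U₁ a).ι ≫ f₁) eG
    have hH' := Groth.Reductive.FreeDiag.exists_trivialisation_comp H j₂ ((U₂ b).ι ≫ f₂) eH
    rw [← hj] at hH'
    obtain ⟨iH, hiH⟩ := hH'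
    have hfin : ∀ (K : Over S), IsFinite K.hom → ∀ (P : Type) [AddCommGroup P],
        (Red.DS T P ≅ Red.bc g K) → Finite P := fun K hK P _ i => by
      refine Groth.Reductive.FreeDiag.finite_of_isFinite_DS (T := T) (M := P) ?_
      rw [← Over.w i.hom]
      haveI : IsIso i.hom.left := (Over.forget T).map_isIso i.hom
      haveI : IsFinite (Red.bc g K).hom := MorphismProperty.pullback_snd _ _ hK
      infer_instance
    haveI := hfin G inferInstance (M a) iG
    haveI := hfin H inferInstance (N b) iH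
    haveI : IsAffine ((Over.pullback g).obj A).left := by
      haveI : IsAffineHom (Limits.pullback.snd A.hom g) := MorphismProperty.pullback_snd _ _ hAa
      exact isAffine_of_isAffineHom (Limits.pullback.snd A.hom g)
    exact Groth.Reductive.FreeDiag.finite_etale_pullback_homScheme υ hυ g iG iH
  exact ⟨Groth.Reductive.of_fpqc_locally₂ @IsFinite inferInstance A.hom f₁ f₂ hf₁ hf₂ hqc₁ hqc₂
      U₁ hU₁ U₂ hU₂ (fun T hT a b j₁ j₂ hj => (key T hT a b j₁ j₂ hj).1),
    Groth.Reductive.of_fpqc_locally₂ @Etale inferInstance A.hom f₁ f₂ hf₁ hf₂ hqc₁ hqc₂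
      U₁ hU₁ U₂ hU₂ (fun T hT a b j₁ j₂ hj => (key T hT a b j₁ j₂ hj).2)⟩

end Groth.Agent.S5263
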