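import Groth.Statements.S5266
import Groth.Agent.Reductive.FpqcLocal
import Groth.Agent.EtaleBase.FpqcDescent

set_option autoImplicit false
open CategoryTheory MonoidalCategory CartesianMonoidalCategory MonObj GrpObj AlgebraicGeometry
universe u
open SGA3x

namespace Groth.Agent.S5266

open Limits in
lemma isFinite_sigmaDesc_id {V : Scheme.{u}} [IsAffine V] (J : Type u) [Finite J] :
    IsFinite (Sigma.desc fun _ : J => 𝟙 V) := by
  let R : CommRingCat.{u} := Γ(V, ⊤)
  let e : (∐ fun _ : J => V) ⟶ ∐ fun _ : J => Spec R := Limits.Sigma.map fun _ => V.isoSpec.hom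
  haveI : IsIso e := inferInstanceAs (IsIso (Sigma.mapIso fun _ : J => V.isoSpec).hom)
  let φ : R ⟶ CommRingCat.of (J → R) := CommRingCat.ofHom (Pi.ringHom fun _ => RingHom.id R)
  have hφ : IsFinite (Spec.map φ) := by
    rw [IsFinite.SpecMap_iff]
    exact RingHom.finite_algebraMap.mpr (inferInstance : Module.Finite R (J → R))
  have : (Sigma.desc fun _ : J => 𝟙 V) =
      e ≫ sigmaSpec (fun _ : J => R) ≫ Spec.map φ ≫ V.isoSpec.inv := by
    refine Sigma.hom_ext _ _ fun j => ?_
    simp only [e, Sigma.ι_desc, Sigma.ι_map_assoc, ι_sigmaSpec_assoc, ← Spec.map_comp_assoc]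
    rw [show φ ≫ CommRingCat.ofHom (Pi.evalRingHom (fun _ : J => R) j) = 𝟙 R from rfl, Spec.map_id,
      Category.id_comp, Iso.hom_inv_id]
  rw [this]
  exact MorphismProperty.comp_mem _ _ _ inferInstance
    (MorphismProperty.comp_mem _ _ _ inferInstance
      (MorphismProperty.comp_mem _ _ _ hφ inferInstance))

open Limits in
lemma isFinite_of_closed_in_const {U : Scheme.{u}} (I : Type u) {Z : Scheme.{u}}
    (h : Z ⟶ (TwC.const U I).left) [IsClosedImmersion h] [QuasiCompact (h ≫ (TwC.const U I).hom)] :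
    IsFinite (h ≫ (TwC.const U I).hom) := by
  classical
  rw [IsZariskiLocalAtTarget.iff_of_openCover (P := @IsFinite) U.affineCover]
  intro k
  let v := U.affineCover.f k
  let c := h ≫ (TwC.const U I).hom
  change IsFinite (pullback.snd c v)
  haveI : IsAffine (U.affineCover.X k) := inferInstanceAs (IsAffine (Spec _))
  have hqc : CompactSpace ↥(pullback c v) := by
    haveI : QuasiCompact (pullback.snd c v) := MorphismProperty.pullback_snd _ _ inferInstance
    exact QuasiCompact.compactSpace_of_compactSpace (pullback.snd c v)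
  let a := pullback.fst c v ≫ h
  let Ui : I → (pullback c v).Opens := fun i => a ⁻¹ᵁ (Sigma.ι (fun _ : I => U) i).opensRange
  have hUi : ∀ z, ∃ i, z ∈ Ui i := fun z => by
    obtain ⟨i, y, hy⟩ := (sigmaOpenCover (fun _ : I => U)).exists_eq (a z)
    exact ⟨i, y, hy⟩
  obtain ⟨J, hJ⟩ := isCompact_univ.elim_finite_subcover (fun i => (Ui i : Set ↥(pullback c v)))
    (fun i => (Ui i).isOpen) (fun z _ => Set.mem_iUnion.mpr (hUi z))
  let j : (∐ fun _ : J => U.affineCover.X k) ⟶ (TwC.const U I).left :=
    Sigma.desc fun i : J => v ≫ Sigma.ι (fun _ : I => U) i.1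
  haveI : IsOpenImmersion j := by
    refine isOpenImmersion_sigmaDesc _ _ fun p q hpq => ?_
    refine Set.disjoint_iff_forall_ne.mpr ?_
    rintro _ ⟨x, rfl⟩ _ ⟨y, rfl⟩ e
    rw [Scheme.Hom.comp_apply, Scheme.Hom.comp_apply, ← sigmaMk_mk, ← sigmaMk_mk] at e
    exact hpq (Subtype.ext (congrArg Sigma.fst ((sigmaMk _).injective e)))
  have hjd : j ≫ (TwC.const U I).hom = (Sigma.desc fun _ : J => 𝟙 (U.affineCover.X k)) ≫ v :=
    Sigma.hom_ext _ _ fun i => by simp [j]
  have hr : Set.range a ⊆ Set.range j := by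
    rintro _ ⟨z, rfl⟩
    obtain ⟨i, hi, hz⟩ : ∃ i ∈ J, z ∈ Ui i := by simpa using hJ (Set.mem_univ z)
    obtain ⟨y, hy⟩ := hz
    have hyv : y = v (pullback.snd c v z) := by
      have e1 : (TwC.const U I).hom (a z) = y := by
        rw [← hy, ← Scheme.Hom.comp_apply]
        simp
      rw [← e1, ← Scheme.Hom.comp_apply, ← Scheme.Hom.comp_apply]
      congr 2
      rw [← pullback.condition]
      simp [a, c]
    refine ⟨Sigma.ι (fun _ : J => U.affineCover.X k) ⟨i, hi⟩ (pullback.snd c v z), ?_⟩
    rw [← Scheme.Hom.comp_apply, Sigma.ι_desc, Scheme.Hom.comp_apply, ← hyv, hy]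
  let l := IsOpenImmersion.lift j a hr
  have hl : l ≫ j = a := IsOpenImmersion.lift_fac _ _ _
  have hls : l ≫ (Sigma.desc fun _ : J => 𝟙 (U.affineCover.X k)) = pullback.snd c v := by
    rw [← cancel_mono v, Category.assoc, ← hjd, ← Category.assoc, hl, ← pullback.condition]
    simp [a, c]
  have hfin : IsFinite (Sigma.desc fun _ : J => 𝟙 (U.affineCover.X k)) := isFinite_sigmaDesc_id _
  rw [← hls]
  -- `l` is a closed immersion: it is so after composing with the projection to `U`
  have hlc : IsClosedImmersion l := by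
    let sq : (∐ fun _ : J => U.affineCover.X k) ⟶ pullback (TwC.const U I).hom v :=
      pullback.lift j (Sigma.desc fun _ => 𝟙 _) hjd
    let m : pullback c v ⟶ pullback (TwC.const U I).hom v :=
      (pullbackRightPullbackFstIso (TwC.const U I).hom v h).inv ≫
        pullback.snd h (pullback.fst (TwC.const U I).hom v)
    have hm1 : m ≫ pullback.fst _ _ = a := by
      simp only [m, Category.assoc, ← pullback.condition]
      rw [← Category.assoc, pullbackRightPullbackFstIso_inv_fst]
    have hm2 : m ≫ pullback.snd _ _ = pullback.snd c v := by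
      simp only [m, Category.assoc, pullbackRightPullbackFstIso_inv_snd_snd]
      rfl
    haveI : IsClosedImmersion (l ≫ sq) := by
      have : l ≫ sq = m := by
        apply pullback.hom_ext
        · rw [Category.assoc, pullback.lift_fst, hl, hm1]
        · rw [Category.assoc, pullback.lift_snd, hls, hm2]
      rw [this]
      infer_instance
    haveI : Mono sq := mono_of_mono_fac (pullback.lift_fst j _ hjd)
    exact IsClosedImmersion.of_comp l sq
  exact MorphismProperty.comp_mem _ _ _ inferInstance hfin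

/-- Let R be a twisted constant S-scheme (fpqc-locally on S isomorphic to a constant scheme, the index
set being allowed to vary) and Z a closed subscheme of R which is quasi-compact over S. Then Z is
finite over S. -/
theorem result {S : Scheme.{u}} (R : Over S) (hR : TwC.IsTwConst TwC.Topology.fpqc R)
    {Z : Scheme.{u}} (z : Z ⟶ R.left) [IsClosedImmersion z] [QuasiCompact (z ≫ R.hom)] :
    IsFinite (z ≫ R.hom) := by
  obtain ⟨S', f, hflat, -, hqc, hloc⟩ := hR
  refine Groth.Reductive.of_fpqc_locally @IsFinite Groth.EtaleBase.descendsAlong_isFinite _ f hflat hqc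
    fun s' => ?_
  obtain ⟨U, hU, I, ⟨e⟩⟩ := hloc s'
  refine ⟨U, hU, ?_⟩
  let a : Limits.pullback (z ≫ R.hom) (U.ι ≫ f) ⟶ Limits.pullback R.hom (U.ι ≫ f) :=
    (Limits.pullbackRightPullbackFstIso R.hom (U.ι ≫ f) z).inv ≫
      Limits.pullback.snd z (Limits.pullback.fst R.hom (U.ι ≫ f))
  have ha : IsClosedImmersion a := inferInstance
  let e' : Limits.pullback R.hom (U.ι ≫ f) ≅ (TwC.const (U : Scheme.{u}) I).left :=
    (CategoryTheory.Over.forget _).mapIso e
  have he : Limits.pullback.snd (z ≫ R.hom) (U.ι ≫ f) =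
      (a ≫ e'.hom) ≫ (TwC.const (U : Scheme.{u}) I).hom := by
    rw [Category.assoc, show e'.hom ≫ (TwC.const (U : Scheme.{u}) I).hom =
      Limits.pullback.snd R.hom (U.ι ≫ f) from Over.w e.hom]
    exact ((Category.assoc _ _ _).trans (Limits.pullbackRightPullbackFstIso_inv_snd_snd _ _ _)).symm
  have hqz : QuasiCompact ((a ≫ e'.hom) ≫ (TwC.const (U : Scheme.{u}) I).hom) := by
    rw [← he]
    exact MorphismProperty.pullback_snd _ _ inferInstance
  rw [he]
  exact isFinite_of_closed_in_const I (a ≫ e'.hom)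

end Groth.Agent.S5266
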