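import Groth.Statements.S1503
import Groth.Agent.FlatmorThree.FiniteFreeResolution
import Mathlib.RingTheory.Polynomial.Basic

set_option autoImplicit false
universe u
attribute [local instance] HasDerivedCategory.standard
open FlatMor

namespace Groth.Agent.S1503

open AlgebraicGeometry CategoryTheory Limits in
/-- Let f : X → S with S locally Noetherian. Then f is pseudo-coherent (affine-locally: pseudo-coherent
ring maps) if and only if f is locally of finite type. -/
theorem result {X S : Scheme.{u}} (f : X ⟶ S) [IsLocallyNoetherian S] :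
    MoreMor.IsPseudoCoherentMor f ↔ LocallyOfFiniteType f := by
  constructor
  · intro h
    refine ⟨fun {V} hV {U} hU e => ?_⟩
    algebraize [(f.appLE V U e).hom]
    obtain ⟨n, φ, hφ, -⟩ := h U V hU hV e
    exact Algebra.FiniteType.of_surjective φ hφ
  · intro h U V hU hV e
    have hft := f.finiteType_appLE hV hU e
    have : IsNoetherianRing Γ(S, V) := IsLocallyNoetherian.component_noetherian ⟨V, hV⟩
    algebraize [(f.appLE V U e).hom]
    obtain ⟨n, φ, hφ⟩ := Algebra.FiniteType.iff_quotient_mvPolynomial''.mp
      (inferInstance : Algebra.FiniteType Γ(S, V) Γ(X, U))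
    refine ⟨n, φ, hφ, ?_⟩
    let := φ.toRingHom.toAlgebra
    have : Module.Finite (MvPolynomial (Fin n) Γ(S, V)) Γ(X, U) :=
      Module.Finite.of_surjective (Algebra.linearMap (MvPolynomial (Fin n) Γ(S, V)) Γ(X, U)) hφ
    exact Groth.FlatmorThree.FFRes.isPseudoCoherentModule'_of_finite _

end Groth.Agent.S1503
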