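import Groth.Statements.S16806
import Groth.Agent.ResGerbe.Mono
-- import your own Groth.Agent.* helpers here

set_option autoImplicit false
universe u
open CategoryTheory AlgebraicGeometry
open Gerb

namespace Groth.Agent.S16806

/-- An algebraic stack 𝒵 is reduced, locally Noetherian and has exactly one point if and only if it
receives a locally finitely presented, surjective, flat morphism from the spectrum of a field. -/
theorem result
    (S : Scheme.{u}) (𝒵 : AlgSt.Cat S) (h𝒵 : AlgSt.IsAlgStack Scheme.fppfPrecoverage 𝒵) :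
    (AlgSt.SmoothLocally (fun T => IsReduced T) 𝒵 ∧ AlgSt.SmoothLocally (fun T => IsLocallyNoetherian T) 𝒵 ∧
        Nonempty (AlgSt.Points 𝒵) ∧ Subsingleton (AlgSt.Points 𝒵)) ↔
      ∃ (k : Type u) (_ : Field k) (a : Spec (CommRingCat.of k) ⟶ S)
        (z : FibCat.overCat (Over.mk a) ⥤ᵇ 𝒵), AlgSt.RepByAlgSpWith (AlgSp.LocP @LocallyOfFinitePresentation) z ∧
          AlgSt.RepByAlgSpWith AlgSp.IsSurjectiveMor z ∧ AlgSt.RepByAlgSpWith (AlgSp.LocP @Flat) z := by
  constructor
  · rintro ⟨hr, hn, hne, hsub⟩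
    obtain ⟨k, hk, a, z, -, hp, hs, hf⟩ := Groth.ResGerbe.exists_lft_flatPoint h𝒵 hr
    exact ⟨k, hk, a, z, hp hn, hs, hf⟩
  · rintro ⟨k, hk, a, z, hp, hs, hf⟩
    exact ⟨Groth.ResGerbe.smoothLocally_isReduced h𝒵 hs hf, Groth.ResGerbe.smoothLocally_isLocallyNoetherian h𝒵 hs hf hp,
      Groth.ResGerbe.points_of_surjective h𝒵 hs⟩

end Groth.Agent.S16806
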