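import Groth.Statements.S16860
import Groth.Agent.StkGerb.GerbeApps

set_option autoImplicit false
universe u
open CategoryTheory AlgebraicGeometry
open Gerb

namespace Groth.Agent.S16860

/-- For a morphism f of algebraic stacks, the source is a gerbe over the target along f if and only if f
and its diagonal are both surjective, flat and locally of finite presentation. -/
theorem result
    (S : Scheme.{u}) (𝒳 𝒴 : AlgSt.Cat S)
    (h𝒳 : AlgSt.IsAlgStack Scheme.fppfPrecoverage 𝒳) (h𝒴 : AlgSt.IsAlgStack Scheme.fppfPrecoverage 𝒴)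
    (f : 𝒳 ⥤ᵇ 𝒴) :
    Gerb.IsGerbeOver (QuotSh.J Scheme.fppfPrecoverage S) f ↔
      (AlgSt.IsSurjective f ∧ AlgSt.LocQ (AlgSp.LocP @Flat) f ∧
        AlgSt.LocQ (AlgSp.LocP @LocallyOfFinitePresentation) f) ∧
      (AlgSt.IsSurjective (FibCat.diag f) ∧ AlgSt.LocQ (AlgSp.LocP @Flat) (FibCat.diag f) ∧
        AlgSt.LocQ (AlgSp.LocP @LocallyOfFinitePresentation) (FibCat.diag f)) := by
  have hff := Groth.AlgStBasic.isAlgStack_fp h𝒴.isStack h𝒴.diag h𝒳 h𝒳 f f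
  constructor
  · intro hf
    obtain ⟨h₁, h₂, h₃⟩ := Groth.StkGerb.repWith_diag_of_isGerbeOver h𝒳 h𝒴 hf
    obtain ⟨k₁, k₂⟩ := Groth.StkGerb.isFL_of_repWith h𝒳 hff h₁ h₂
    exact ⟨Groth.StkGerb.surjective_flat_lfp_of_isGerbeOver h𝒳 h𝒴 hf,
      (Groth.AlgStBasic.isSurjective_iff_repWith h𝒳.1.1 hff.1.1
        (Groth.AlgStBasic.repWith_repByAlgSp1 h₁)).2 h₃, k₁, k₂⟩
  · rintro ⟨⟨a₁, a₂, a₃⟩, b₁, b₂, b₃⟩
    exact ⟨Groth.StkGerb.locSurjObj_of_surjective_flat_lfp h𝒳 h𝒴 a₁ a₂ a₃,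
      Groth.StkGerb.locSurjHom_of_diag h𝒳.1.1 h𝒴.1.1
        (Groth.StkGerb.locSurjObj_of_surjective_flat_lfp h𝒳 hff b₁ b₂ b₃)⟩

end Groth.Agent.S16860
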