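import Groth.Statements.S7386
import Groth.Agent.PropsBasic.ZeroDim

set_option autoImplicit false
universe u
open CategoryTheory AlgebraicGeometry
open Mor

namespace Groth.Agent.S7386

open Groth.PropsBasic.ZD

/-- Let `X` be a quasi-separated scheme, `η_1, …, η_n` generic points of irreducible components of `X`
and `x` any point of `X`. Then some affine open of `X` contains `x` and all the `η_i`. -/
theorem result (X : Scheme.{u}) [QuasiSeparatedSpace X] {n : ℕ}
    (η : Fin n → X) (hη : ∀ i, closure ({η i} : Set X) ∈ irreducibleComponents (X : Type u)) (x : X) :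
    ∃ U : X.Opens, IsAffineOpen U ∧ x ∈ U ∧ ∀ i, η i ∈ U := by
  classical
  obtain ⟨A, hA, hxA, -⟩ := TopologicalSpace.Opens.isBasis_iff_nbhd.mp X.isBasis_affineOpens
    (TopologicalSpace.Opens.mem_top x)
  let T : Finset X := (Finset.univ.image η).filter (· ∉ A)
  have hT : ∀ y ∈ T, (∀ z : X, z ⤳ y → z = y) ∧ y ∉ A := fun y hy => by
    obtain ⟨hy, hyA⟩ := Finset.mem_filter.mp hy
    obtain ⟨i, -, rfl⟩ := Finset.mem_image.mp hy
    exact ⟨maximal_of_mem_irreducibleComponents (hη i), hyA⟩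
  obtain ⟨U, hU, hdA, hd⟩ := exists_disjoint_affine_nhds (fun k => (T.equivFin.symm k : X))
    (Subtype.val_injective.comp T.equivFin.symm.injective)
    (fun k => (hT _ (T.equivFin.symm k).2).1) A (IsAffineOpen.isCompact hA)
    (fun k => (hT _ (T.equivFin.symm k).2).2)
  refine ⟨(⨆ k, U k) ⊔ A, IsAffineOpen.sup_of_disjoint
    (IsAffineOpen.iSup_of_disjoint (fun k => (hU k).1) fun i j h => hd i j h) hA
    (iSup_disjoint_iff.mpr hdA), Or.inr hxA, fun i => ?_⟩
  by_cases hi : η i ∈ A
  · exact Or.inr hi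
  · have hm : η i ∈ T := Finset.mem_filter.mpr ⟨Finset.mem_image_of_mem _ (Finset.mem_univ i), hi⟩
    refine Or.inl (TopologicalSpace.Opens.mem_iSup.mpr ⟨T.equivFin ⟨η i, hm⟩, ?_⟩)
    simpa using (hU (T.equivFin ⟨η i, hm⟩)).2

end Groth.Agent.S7386
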