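import Groth.Statements.S7336
import Groth.Agent.ArSurfBasics.FibreFunction
-- import your own Groth.Agent.* helpers here

set_option autoImplicit false
universe u
open CategoryTheory CategoryTheory.Limits AlgebraicGeometry
open Resolve

namespace Groth.Agent.S7336

/-- Let (A, m) be a local Noetherian normal domain of dimension two and f : X → Spec A a proper morphism
from an integral scheme which is an isomorphism over some nonempty open and is not an isomorphism
(so that every irreducible component of the closed fibre is a curve). Then there is a nonzero a ∈ m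
such that for every irreducible component C of the closed fibre, with generic point ξ, there are a
closed point x ∈ C lying on no other component and a factorization a = g · q in O_{X,x} with g in
the maximal ideal of O_{X,x} and g not vanishing identically on C near x, i.e. the image of g in
O_{X,ξ} is a unit. -/
theorem result (A : Type u) [CommRing A] [IsDomain A] [IsLocalRing A] [IsNoetherianRing A]
    [IsIntegrallyClosed A] (hdim : ringKrullDim A = 2)
    (X : Scheme.{u}) (f : X ⟶ Spec (CommRingCat.of A)) [IsProper f] [IsIntegral X]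
    (hbir : ∃ U : (Spec (CommRingCat.of A)).Opens, (U : Set (Spec (CommRingCat.of A))).Nonempty ∧ IsIso (f ∣_ U)) (hf : ¬ IsIso f) :
    ∃ a : A, a ≠ 0 ∧ a ∈ IsLocalRing.maximalIdeal A ∧
      ∀ C ∈ irreducibleComponents ↥(f.base ⁻¹' {IsLocalRing.closedPoint A}),
        ∃ (x ξ : ↥(f.base ⁻¹' {IsLocalRing.closedPoint A})) (hξx : (ξ : X) ⤳ (x : X)),
          x ∈ C ∧ IsGenericPoint ξ C ∧ IsClosed ({(x : X)} : Set X) ∧
          (∀ C' ∈ irreducibleComponents ↥(f.base ⁻¹' {IsLocalRing.closedPoint A}), C' ≠ C → x ∉ C') ∧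
          ∃ g q : X.presheaf.stalk (x : X), g ∈ IsLocalRing.maximalIdeal (X.presheaf.stalk (x : X)) ∧
            (X.presheaf.germ ⊤ (x : X) trivial).hom (Coh.toGlobal f a) = g * q ∧
            IsUnit ((X.presheaf.stalkSpecializes hξx).hom g) := by
  obtain ⟨U, hU, hiso⟩ := hbir
  haveI := hiso
  haveI : IsLocallyNoetherian X := LocallyOfFiniteType.isLocallyNoetherian f
  haveI : CompactSpace X := QuasiCompact.compactSpace_of_compactSpace f
  haveI : IsNoetherian X := {}
  let y : Spec (CommRingCat.of A) := IsLocalRing.closedPoint A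
  haveI hic : IsIntegrallyClosed ((Spec (CommRingCat.of A)).presheaf.stalk y) :=
    show IsIntegrallyClosed ((Spec.structureSheaf A).presheaf.stalk y) from
    isIntegrallyClosed_of_isLocalization _ (y.asIdeal : Ideal A).primeCompl
      (Ideal.primeCompl_le_nonZeroDivisors (y.asIdeal : Ideal A))
  have hrel : ∀ x, f x = y → ∃ z, f z = y ∧ z ≠ x ∧ (z ⤳ x ∨ x ⤳ z) := by
    refine (Groth.ArSurfBasics.isIso_nhd_or_related f hU y).resolve_left fun ⟨V, hyV, hV⟩ => hf ?_
    exact Groth.ArSurfBasics.isIso_of_forall_nhd f fun w =>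
      ⟨V, (IsLocalRing.specializes_closedPoint w).mem_open V.2 hyV, hV⟩
  let S : Set X := f.base ⁻¹' {IsLocalRing.closedPoint A}
  have hScl : IsClosed S :=
    (IsLocalRing.isClosed_singleton_closedPoint A).preimage f.continuous
  haveI : QuasiSober S := hScl.isClosedEmbedding_subtypeVal.quasiSober
  haveI : TopologicalSpace.NoetherianSpace S :=
    (Topology.IsEmbedding.subtypeVal (p := fun a => a ∈ S)).isInducing.noetherianSpace
  haveI : LocallyOfFiniteType (f.fiberToSpecResidueField y) :=
    MorphismProperty.pullback_snd f ((Spec (CommRingCat.of A)).fromSpecResidueField y) inferInstance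
  haveI : JacobsonSpace (f.fiber y) := LocallyOfFiniteType.jacobsonSpace (f.fiberToSpecResidueField y)
  haveI : JacobsonSpace S := JacobsonSpace.of_isClosedEmbedding (f.fiberHomeo y).symm.isClosedEmbedding
  have hfin : (irreducibleComponents S).Finite :=
    TopologicalSpace.NoetherianSpace.finite_irreducibleComponents
  have key : ∀ C ∈ irreducibleComponents S, ∃ a : A, a ≠ 0 ∧
      ∃ (x ξ : S) (hξx : (ξ : X) ⤳ (x : X)),
          x ∈ C ∧ IsGenericPoint ξ C ∧ IsClosed ({(x : X)} : Set X) ∧
          (∀ C' ∈ irreducibleComponents S, C' ≠ C → x ∉ C') ∧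
          ∃ g : X.presheaf.stalk (x : X), g ∈ IsLocalRing.maximalIdeal (X.presheaf.stalk (x : X)) ∧
            g ∣ Groth.ArSurfBasics.FibreFn.phi f (x : X) a ∧
            IsUnit ((X.presheaf.stalkSpecializes hξx).hom g) := by
    intro C hC
    have hCcl : IsClosed C := isClosed_of_mem_irreducibleComponents C hC
    obtain ⟨ξ, hξ⟩ := QuasiSober.sober hC.1 hCcl
    let O : Set S := (⋃₀ (irreducibleComponents S \ {C}))ᶜ
    have hO : IsOpen O := by
      suffices IsClosed (⋃₀ (irreducibleComponents S \ {C})) from this.isOpen_compl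
      rw [Set.sUnion_eq_biUnion]
      exact hfin.sdiff.isClosed_biUnion fun C' hC' => isClosed_of_mem_irreducibleComponents C' hC'.1
    have hξO : ξ ∈ O := fun ⟨C', hC', h⟩ => hC'.2 <| by
      have hle : C ⊆ C' := hξ.def ▸ closure_minimal (Set.singleton_subset_iff.2 h)
        (isClosed_of_mem_irreducibleComponents C' hC'.1)
      exact Set.Subset.antisymm (hC.2 hC'.1.1 hle) hle
    obtain ⟨x, hxO, hxc⟩ := nonempty_inter_closedPoints
      (⟨ξ, hξ.mem, hξO⟩ : (C ∩ O).Nonempty) (hCcl.isLocallyClosed.inter hO.isLocallyClosed)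
    have hxX : IsClosed ({(x : X)} : Set X) := by
      have := hScl.isClosedEmbedding_subtypeVal.isClosedMap _ hxc
      rwa [Set.image_singleton] at this
    have hξx : (ξ : X) ⤳ (x : X) := (hξ.specializes hxO.1).map continuous_subtype_val
    have hne : (x : X) ≠ ξ := by
      intro e
      obtain ⟨z, hz, hzne, hzx⟩ := hrel x x.2
      refine hzne ?_
      rcases hzx with hzx | hxz
      · have hsp : (⟨z, hz⟩ : S) ⤳ x := (subtype_specializes_iff _ _).2 hzx
        have hle : C ⊆ closure {(⟨z, hz⟩ : S)} := by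
          rw [← hξ.def, show ξ = x from Subtype.ext e.symm]
          exact specializes_iff_closure_subset.1 hsp
        have hzC : (⟨z, hz⟩ : S) ∈ C := hC.2 isIrreducible_singleton.closure hle (subset_closure rfl)
        have hxz := (hξ.specializes hzC).map continuous_subtype_val
        rw [← e] at hxz
        exact hxz.mem_closed hxX rfl
      · exact hxz.mem_closed hxX rfl
    obtain ⟨_, ⟨W, hW, rfl⟩, hxW, -⟩ :=
      X.isBasis_affineOpens.exists_subset_of_mem_open (Set.mem_univ (x : X)) isOpen_univ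
    have hξW : (ξ : X) ∈ W := hξx.mem_open W.2 hxW
    obtain ⟨s, hsx, hsξ⟩ := SetLike.not_le_iff_exists.1
      (show ¬ (hW.primeIdealOf ⟨x, hxW⟩).asIdeal ≤ (hW.primeIdealOf ⟨ξ, hξW⟩).asIdeal from fun h => hne (by
        have h1 := ((PrimeSpectrum.le_iff_specializes _ _).1 h).map hW.fromSpec.continuous
        rw [hW.fromSpec_primeIdealOf, hW.fromSpec_primeIdealOf] at h1
        exact (h1.mem_closed hxX rfl).symm))
    have hb : ∀ {p : X} (hp : p ∈ W), p ∈ X.basicOpen s ↔ s ∉ (hW.primeIdealOf ⟨p, hp⟩).asIdeal :=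
      fun {p} hp => by
        have h := SetLike.ext_iff.1 (hW.fromSpec_preimage_basicOpen s) (hW.primeIdealOf ⟨p, hp⟩)
        have h' : hW.fromSpec (hW.primeIdealOf ⟨p, hp⟩) ∈ X.basicOpen s ↔
            s ∉ (hW.primeIdealOf ⟨p, hp⟩).asIdeal := h
        rwa [hW.fromSpec_primeIdealOf] at h' 
    let g := X.presheaf.germ W (x : X) hxW s
    have hgunit : IsUnit ((X.presheaf.stalkSpecializes hξx).hom g) := by
      rw [show (X.presheaf.stalkSpecializes hξx).hom g = X.presheaf.germ W (ξ : X) hξW s from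
        TopCat.Presheaf.germ_stalkSpecializes_apply _ hxW hξx s]
      exact (Scheme.mem_basicOpen _ s _ hξW).1 ((hb hξW).2 hsξ)
    have hgm : g ∈ IsLocalRing.maximalIdeal (X.presheaf.stalk (x : X)) :=
      fun h => (hb hxW).1 ((Scheme.mem_basicOpen _ s _ hxW).2 h) hsx
    obtain ⟨a, ha0, ha⟩ := Groth.ArSurfBasics.FibreFn.exists_mem_span f hU (x : X) (g := g) fun h => by
      rw [h, map_zero] at hgunit
      exact not_isUnit_zero hgunit
    exact ⟨a, ha0, x, ξ, hξx, hxO.1, hξ, hxX,
      fun C' hC' hCne h => hxO.2 ⟨C', ⟨hC', hCne⟩, h⟩, g, hgm, Ideal.mem_span_singleton.1 ha, hgunit⟩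
  choose a ha0 x ξ hξx hxC hξC hxcl hxoff g hgm hdvd hgu using key
  obtain ⟨m, hm, hm0⟩ : ∃ m ∈ IsLocalRing.maximalIdeal A, m ≠ 0 := by
    by_contra! h
    have hF : IsField A := IsLocalRing.isField_iff_maximalIdeal_eq.2 (eq_bot_iff.2 h)
    rw [ringKrullDim_eq_zero_of_isField hF] at hdim
    exact absurd hdim (by decide)
  classical
  refine ⟨m * ∏ C ∈ hfin.toFinset.attach, a C.1 (hfin.mem_toFinset.1 C.2),
    mul_ne_zero hm0 (Finset.prod_ne_zero_iff.2 fun C _ => ha0 _ _), Ideal.mul_mem_right _ _ hm,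
    fun C hC => ⟨x C hC, ξ C hC, hξx C hC, hxC C hC, hξC C hC, hxcl C hC, hxoff C hC, g C hC, ?_⟩⟩
  have hd : g C hC ∣ Groth.ArSurfBasics.FibreFn.phi f (x C hC : X)
      (m * ∏ C ∈ hfin.toFinset.attach, a C.1 (hfin.mem_toFinset.1 C.2)) := by
    rw [map_mul, map_prod,
      ← Finset.mul_prod_erase _ _ (Finset.mem_attach _ ⟨C, hfin.mem_toFinset.2 hC⟩)]
    exact dvd_mul_of_dvd_right (dvd_mul_of_dvd_left (hdvd C hC) _) _
  obtain ⟨q, hq⟩ := hd
  exact ⟨q, hgm C hC, hq, hgu C hC⟩

end Groth.Agent.S7336
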