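import Groth.Statements.S18879
import Groth.Agent.FibreDim.DimensionFormulaScheme
import Groth.Agent.Hensel1.RadicialBirational
-- import your own Groth.Agent.* helpers here

set_option autoImplicit false
universe u
open CategoryTheory AlgebraicGeometry
open Resolve

namespace Groth.Agent.S18879

/-- The height of a prime is bounded by its heights modulo the minimal primes below it. -/
theorem height_le_of_forall {S : Type u} [CommRing S] (q : Ideal S) [q.IsPrime] (N : ℕ∞)
    (h : ∀ P ∈ minimalPrimes S, P ≤ q → (q.map (Ideal.Quotient.mk P)).height ≤ N) : q.height ≤ N := by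
  rw [show q.height = Order.height (⟨q, ‹_›⟩ : PrimeSpectrum S) from
    PrimeSpectrum.height_eq_orderHeight ⟨q, ‹_›⟩]
  refine Order.height_le fun c hc => ?_
  obtain ⟨P, hP, hPc⟩ := Ideal.exists_minimalPrimes_le (bot_le : (⊥ : Ideal S) ≤ c.head.asIdeal)
  have hle : ∀ i, P ≤ (c i).asIdeal := fun i => hPc.trans (c.monotone (Fin.zero_le i) : c 0 ≤ c i)
  have hpr : ∀ i, ((c i).asIdeal.map (Ideal.Quotient.mk P)).IsPrime := fun i =>
    Ideal.map_isPrime_of_surjective Ideal.Quotient.mk_surjective (by rw [Ideal.mk_ker]; exact hle i)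
  have hback : ∀ i, ((c i).asIdeal.map (Ideal.Quotient.mk P)).comap (Ideal.Quotient.mk P) =
      (c i).asIdeal := fun i => by
    rw [Ideal.comap_map_of_surjective _ Ideal.Quotient.mk_surjective, ← RingHom.ker_eq_comap_bot,
      Ideal.mk_ker, sup_eq_left.2 (hle i)]
  have hq : c.last.asIdeal = q := congrArg PrimeSpectrum.asIdeal hc
  have hPq : P ≤ q := hq ▸ hle (Fin.last _)
  let c' : LTSeries (PrimeSpectrum (S ⧸ P)) := LTSeries.mk c.length
    (fun i => ⟨_, hpr i⟩) (fun i j hij => by
      refine lt_of_le_of_ne (Ideal.map_mono (c.strictMono hij).le) fun e => (c.strictMono hij).ne ?_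
      exact PrimeSpectrum.ext ((hback i).symm.trans
        ((congrArg (Ideal.comap (Ideal.Quotient.mk P)) (congrArg PrimeSpectrum.asIdeal e)).trans (hback j))))
  have hqpr : (q.map (Ideal.Quotient.mk P)).IsPrime :=
    Ideal.map_isPrime_of_surjective Ideal.Quotient.mk_surjective (by rwa [Ideal.mk_ker])
  have hlen := Order.length_le_height (p := c') (x := ⟨_, hqpr⟩)
    (le_of_eq (PrimeSpectrum.ext (congrArg (Ideal.map (Ideal.Quotient.mk P)) hq)))
  calc (c.length : ℕ∞) ≤ _ := hlen
    _ = (q.map (Ideal.Quotient.mk P)).height := (PrimeSpectrum.height_eq_orderHeight ⟨_, hqpr⟩).symm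
    _ ≤ N := h P hP hPq

/-- Passing to a quotient does not increase heights. -/
theorem height_map_mk_le {R : Type u} [CommRing R] (p₀ p : Ideal R) [p.IsPrime] (h : p₀ ≤ p) :
    (p.map (Ideal.Quotient.mk p₀)).height ≤ p.height := by
  have hpr : (p.map (Ideal.Quotient.mk p₀)).IsPrime :=
    Ideal.map_isPrime_of_surjective Ideal.Quotient.mk_surjective (by rwa [Ideal.mk_ker])
  rw [show (p.map (Ideal.Quotient.mk p₀)).height = Order.height (⟨_, hpr⟩ : PrimeSpectrum (R ⧸ p₀)) from
      PrimeSpectrum.height_eq_orderHeight ⟨_, hpr⟩,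
    show p.height = Order.height (⟨p, ‹_›⟩ : PrimeSpectrum R) from PrimeSpectrum.height_eq_orderHeight ⟨p, ‹_›⟩]
  have hback : PrimeSpectrum.comap (Ideal.Quotient.mk p₀) ⟨_, hpr⟩ = (⟨p, ‹_›⟩ : PrimeSpectrum R) := by
    refine PrimeSpectrum.ext ?_
    show (p.map _).comap _ = p
    rw [Ideal.comap_map_of_surjective _ Ideal.Quotient.mk_surjective, ← RingHom.ker_eq_comap_bot,
      Ideal.mk_ker, sup_eq_left.2 h]
  have hsm : StrictMono (PrimeSpectrum.comap (Ideal.Quotient.mk p₀)) := fun a b hab =>
    lt_of_le_of_ne (Ideal.comap_mono hab.le) fun e =>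
      hab.ne (PrimeSpectrum.comap_injective_of_surjective _ Ideal.Quotient.mk_surjective e)
  have := Order.height_le_height_apply_of_strictMono _ hsm ⟨_, hpr⟩
  rwa [hback] at this

/-- Let f : Y ⟶ X be a morphism locally of finite type between Noetherian separated schemes which is
birational: it maps the maximal points of Y bijectively onto the maximal points of X, and over every
maximal point of X its fibre is one point with the same residue field. Then for every point y of Y,
the Krull dimension of the local ring of Y at y is at most the Krull dimension of the local ring of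
X at f y (the codimension of a point does not increase along f). -/
theorem result {X Y : Scheme.{u}} (f : Y ⟶ X)
    [IsNoetherian X] [X.IsSeparated] [IsNoetherian Y] [Y.IsSeparated] [LocallyOfFiniteType f]
    (hf : RadPt.IsBirational f) (y : Y) :
    ringKrullDim (Y.presheaf.stalk y) ≤ ringKrullDim (X.presheaf.stalk (f.base y)) := by
  obtain ⟨U, hU, hfyU, -⟩ := exists_isAffineOpen_mem_and_subset (U := ⊤) (Set.mem_univ (f.base y))
  obtain ⟨V, hV, hyV, hVU⟩ := exists_isAffineOpen_mem_and_subset (U := f ⁻¹ᵁ U) hfyU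
  have e : V ≤ f ⁻¹ᵁ U := hVU
  let := (f.appLE U V e).hom.toAlgebra
  have : Algebra.FiniteType Γ(X, U) Γ(Y, V) := f.finiteType_appLE hU hV e
  have : IsNoetherianRing Γ(X, U) := IsLocallyNoetherian.component_noetherian ⟨U, hU⟩
  have hover : ∀ (z : Y) (hz : z ∈ V),
      (hV.primeIdealOf ⟨z, hz⟩).asIdeal.LiesOver (hU.primeIdealOf ⟨f.base z, e hz⟩).asIdeal := fun z hz => by
    refine ⟨congrArg PrimeSpectrum.asIdeal (hU.fromSpec.isEmbedding.injective
      (a₂ := PrimeSpectrum.comap (f.appLE U V e).hom (hV.primeIdealOf ⟨z, hz⟩)) ?_)⟩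
    rw [hU.fromSpec_primeIdealOf]
    have h := hV.fromSpec_primeIdealOf ⟨z, hz⟩
    exact (congrArg f.base h).symm.trans congr($(hU.SpecMap_appLE_fromSpec f hV e) _).symm
  have key : (hV.primeIdealOf ⟨y, hyV⟩).asIdeal.height ≤ (hU.primeIdealOf ⟨f.base y, e hyV⟩).asIdeal.height := by
    refine height_le_of_forall _ _ fun P hP hPq => ?_
    -- the minimal prime is the prime of a maximal point of `Y`
    have hPp : P.IsPrime := hP.isPrime
    obtain ⟨η, hη⟩ : ∃ η, hV.fromSpec ⟨P, hPp⟩ = η := ⟨_, rfl⟩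
    have hηV : η ∈ V := hη ▸ hV.range_fromSpec.le ⟨_, rfl⟩
    have hηgen : η ∈ genericPoints Y :=
      hη ▸ (Groth.Hensel1.fromSpec_mem_genericPoints_iff hV ⟨P, hPp⟩).2 hP
    have hηP : (hV.primeIdealOf ⟨η, hηV⟩).asIdeal = P :=
      congrArg PrimeSpectrum.asIdeal (hV.fromSpec.isEmbedding.injective
        ((hV.fromSpec_primeIdealOf ⟨η, hηV⟩).trans hη.symm))
    clear hη
    subst hηP
    -- its residue field is that of its image
    have htr : Groth.Variety2.Dim.relTrdeg f η = 0 := by
      have hbij := (hf.2 _ (hf.1.mapsTo hηgen)).2 η rfl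
      let := (f.residueFieldMap η).hom.toAlgebra
      show Algebra.trdeg (X.residueField (f.base η)) (Y.residueField η) = 0
      have : Algebra.IsAlgebraic (X.residueField (f.base η)) (Y.residueField η) := ⟨fun w => by
        obtain ⟨v, rfl⟩ := hbij.2 w
        exact isAlgebraic_algebraMap (R := X.residueField (f.base η)) (A := Y.residueField η) v⟩
      exact trdeg_eq_zero
    have := hover η hηV
    have := hover y hyV
    rw [← Groth.FibreDim.relTrdeg_eq_trdeg_quotient f hU hV e hηV] at htr
    set p₀ := (hU.primeIdealOf ⟨f.base η, e hηV⟩).asIdeal with hp₀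
    set P := (hV.primeIdealOf ⟨η, hηV⟩).asIdeal with hP'
    set p := (hU.primeIdealOf ⟨f.base y, e hyV⟩).asIdeal with hp
    set q := (hV.primeIdealOf ⟨y, hyV⟩).asIdeal with hq
    have hp₀p : p₀ ≤ p := by
      rw [P.over_def p₀, q.over_def p]
      exact Ideal.comap_mono hPq
    have : (p.map (Ideal.Quotient.mk p₀)).IsPrime :=
      Ideal.map_isPrime_of_surjective Ideal.Quotient.mk_surjective (by rwa [Ideal.mk_ker])
    have : (q.map (Ideal.Quotient.mk P)).IsPrime :=
      Ideal.map_isPrime_of_surjective Ideal.Quotient.mk_surjective (by rwa [Ideal.mk_ker])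
    have : FaithfulSMul (Γ(X, U) ⧸ p₀) (Γ(Y, V) ⧸ P) :=
      (faithfulSMul_iff_algebraMap_injective _ _).2 (Groth.FibreDim.quotient_algebraMap_injective p₀ P)
    have : Algebra.FiniteType (Γ(X, U) ⧸ p₀) (Γ(Y, V) ⧸ P) :=
      Algebra.FiniteType.of_restrictScalars_finiteType Γ(X, U) _ _
    have : (q.map (Ideal.Quotient.mk P)).LiesOver (p.map (Ideal.Quotient.mk p₀)) := ⟨by
      refine Ideal.comap_injective_of_surjective _ (Ideal.Quotient.mk_surjective (I := p₀)) ?_
      rw [Ideal.comap_map_of_surjective _ Ideal.Quotient.mk_surjective, ← RingHom.ker_eq_comap_bot,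
        Ideal.mk_ker, sup_eq_left.2 hp₀p]
      show p = ((q.map (Ideal.Quotient.mk P)).comap (Ideal.Quotient.mk P)).comap
        (algebraMap Γ(X, U) Γ(Y, V))
      rw [Ideal.comap_map_of_surjective _ Ideal.Quotient.mk_surjective, ← RingHom.ker_eq_comap_bot,
        Ideal.mk_ker, sup_eq_left.2 hPq]
      exact q.over_def p⟩
    obtain ⟨t, t₀, -, ht₀, hle, -⟩ :=
      Groth.FibreDim.exists_trdeg_add_height (p.map (Ideal.Quotient.mk p₀)) (q.map (Ideal.Quotient.mk P))
    have h0 : t₀ = 0 := by exact_mod_cast ht₀.symm.trans htr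
    rw [h0, Nat.cast_zero, add_zero] at hle
    exact le_self_add.trans (hle.trans (height_map_mk_le p₀ p hp₀p))
  let := X.presheaf.algebra_section_stalk ⟨f.base y, e hyV⟩
  have := hU.isLocalization_stalk ⟨f.base y, e hyV⟩
  let := Y.presheaf.algebra_section_stalk ⟨y, hyV⟩
  have := hV.isLocalization_stalk ⟨y, hyV⟩
  rw [IsLocalization.AtPrime.ringKrullDim_eq_height (hU.primeIdealOf ⟨f.base y, e hyV⟩).asIdeal
      (X.presheaf.stalk (f.base y)),
    IsLocalization.AtPrime.ringKrullDim_eq_height (hV.primeIdealOf ⟨y, hyV⟩).asIdeal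
      (Y.presheaf.stalk y)]
  exact_mod_cast key

end Groth.Agent.S18879
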