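import Groth.Statements.S7298
import Groth.Agent.ResolveSurf.ModificationVanish

set_option autoImplicit false
universe u
open CategoryTheory CategoryTheory.Limits AlgebraicGeometry
open Resolve

namespace Groth.Agent.S7298

/-- Let A be a local normal Nagata domain of dimension two defining a rational singularity, and f : X →
Spec A a proper morphism from an integral normal scheme which is an isomorphism over some nonempty
open of Spec A. Then H^1(X, F) = 0 for every quasi-coherent O_X-module F which is globally generated
(a quotient of a free O_X-module). -/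
theorem result (A : Type u) [CommRing A] [IsDomain A] [IsLocalRing A] [IsNoetherianRing A]
    [IsIntegrallyClosed A] (hN : CAlg.IsNagata A) (hdim : ringKrullDim A = 2) (hA : Curv2.IsRationalSing A)
    (X : Scheme.{u}) (f : X ⟶ Spec (CommRingCat.of A)) [IsProper f] [IsIntegral X] (hXn : Pi1.IsNormalScheme X)
    (hbir : ∃ U : (Spec (CommRingCat.of A)).Opens, (U : Set (Spec (CommRingCat.of A))).Nonempty ∧ IsIso (f ∣_ U))
    (F : X.Modules) (hF : Coh.IsQCoh F) (hgg : Curv2.IsGloballyGenerated F) : Subsingleton (Coh.HH X F 1) := by
  obtain ⟨U, hne, hiso⟩ := hbir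
  letI : X.Over (Spec (CommRingCat.of A)) := ⟨f⟩
  haveI : IsProper (X ↘ Spec (CommRingCat.of A)) := ‹IsProper f›
  haveI : F.IsQuasicoherent := hF
  have hd := Groth.ResolveSurf.ModVanish.fiber_dim_le_one f hdim.le U
    (Groth.ResolveSurf.ModVanish.preimage_nonempty f hne hiso) hiso
  exact Groth.ResolveSurf.ModVanish.subsingleton_of_epi_free (A := A) hd
    (hA X f ‹_› ‹_› hXn ⟨U, hne, hiso⟩) F hgg

end Groth.Agent.S7298
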