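import Groth.Statements.S8804
import Groth.Agent.AdicLinTop.RigClosed
import Groth.Agent.AdicLinTop.Adic

set_option autoImplicit false
universe u
open AdicRing

namespace Groth.Agent.S8804

/-- Let A be a Noetherian ring which is complete for the adic topology of an ideal I, and let q be a
prime ideal of A. The following are equivalent: (1) I ⊄ q and q is maximal among the primes not
containing I; (5) dim(A/q) = 1 and I ⊄ q; (8) A/q is a one-dimensional complete local ring whose
maximal ideal is the radical of the image of I (stated as: the Krull dimension of A/q is 1, every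
maximal ideal of A/q equals the radical of I(A/q), and A/q is adically complete for that radical).
(The other equivalent forms, for other ideals of definition or for the induced topology, are not
stated.) -/
theorem result (A : Type u) [CommRing A] [IsNoetherianRing A] (I : Ideal A) [IsAdicComplete I A] (q : PrimeSpectrum A) : List.TFAE [¬ I ≤ q.asIdeal ∧ ∀ q' : PrimeSpectrum A, q ≤ q' → ¬ I ≤ q'.asIdeal → q' = q, ringKrullDim (A ⧸ q.asIdeal) = 1 ∧ ¬ I ≤ q.asIdeal, ringKrullDim (A ⧸ q.asIdeal) = 1 ∧ (∀ m : Ideal (A ⧸ q.asIdeal), m.IsMaximal → m = (I.map (Ideal.Quotient.mk q.asIdeal)).radical) ∧ IsAdicComplete (I.map (Ideal.Quotient.mk q.asIdeal)).radical (A ⧸ q.asIdeal)] := by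
  classical
  set q' := q.asIdeal with hq'
  let D := A ⧸ q'
  set J := I.map (Ideal.Quotient.mk q') with hJ
  haveI : IsAdicComplete J D :=
    (IsAdicComplete.map_algebraMap_iff (S := D) (I := I) D).mpr
      (Groth.AdicLinTop.Adic.isAdicComplete_of_finite (I := I) (A := A) (M := D))
  have hJbot : J = ⊥ ↔ I ≤ q' := by rw [hJ, Ideal.map_eq_bot_iff_le_ker, Ideal.mk_ker]
  have hJmax : ∀ m : Ideal D, m.IsMaximal → J ≤ m := fun m hm =>
    (IsAdicComplete.le_jacobson_bot J).trans (sInf_le ⟨bot_le, hm⟩)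
  tfae_have 1 → 2 := by
    rintro ⟨hI, hmax⟩
    refine ⟨?_, hI⟩
    obtain ⟨s, hsJ, hs0⟩ := Submodule.exists_mem_ne_zero_of_ne_bot (mt hJbot.mp hI)
    have hall : ∀ P : Ideal D, P.IsPrime → P ≠ ⊥ → s ∈ P := by
      intro P hP hP0
      by_contra hsP
      have hle : q' ≤ P.comap (Ideal.Quotient.mk q') := by
        conv_lhs => rw [← Ideal.mk_ker (I := q')]
        exact Ideal.comap_mono bot_le
      have h := hmax ⟨P.comap (Ideal.Quotient.mk q'), hP.comap _⟩ hle (fun hIP => hsP
        (Ideal.map_le_iff_le_comap.mpr hIP hsJ))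
      apply hP0
      rw [← Ideal.map_comap_of_surjective _ Ideal.Quotient.mk_surjective P,
        show P.comap (Ideal.Quotient.mk q') = q' from congrArg PrimeSpectrum.asIdeal h,
        Ideal.map_quotient_self]
    haveI hle1 : Ring.KrullDimLE 1 D := Ring.KrullDimLE.mk₁' fun P hP0 hP =>
      haveI := hP; Groth.AdicLinTop.RigClosed.isMaximal_of_forall_mem hs0 hall P hP0
    refine le_antisymm (Ring.krullDimLE_iff.mp hle1) ?_
    by_contra hlt
    have h0 : ringKrullDim D ≤ 0 := by
      rw [not_le] at hlt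
      change ringKrullDim D < 1 at hlt
      revert hlt
      induction ringKrullDim D with
      | bot => intro _; exact bot_le
      | coe x =>
        intro hlt
        have hx : x < 1 := WithBot.coe_lt_coe.mp hlt
        rw [Order.lt_one_iff.mp hx]
        rfl
    haveI : Ring.KrullDimLE 0 D := Ring.krullDimLE_iff.mpr h0
    haveI hbot : (⊥ : Ideal D).IsMaximal := Ideal.IsPrime.isMaximal' (Ideal.isPrime_bot)
    exact hI (hJbot.mp (le_bot_iff.mp (hJmax ⊥ hbot)))
  tfae_have 2 → 3 := by
    rintro ⟨hdim, hI⟩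
    haveI : Ring.KrullDimLE 1 D := Ring.krullDimLE_iff.mpr hdim.le
    have hJ0 : J ≠ ⊥ := mt hJbot.mp hI
    have hprime : ∀ P : Ideal D, P.IsPrime → J ≤ P → P.IsMaximal := fun P hP hJP =>
      hP.isMaximal_of_ne_bot fun h0 => hJ0 (le_bot_iff.mp (h0 ▸ hJP))
    have hfin : {m : Ideal D | m.IsMaximal}.Finite := by
      refine (Ideal.finite_minimalPrimes_of_isNoetherianRing D J).subset fun m hm => ?_
      obtain ⟨P, hP, hPm⟩ := @Ideal.exists_minimalPrimes_le _ _ J m hm.isPrime (hJmax m hm)
      rwa [← (hprime P hP.isPrime hP.le).eq_of_le hm.ne_top hPm]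
    have hrad : ∀ y : D, (∀ m : Ideal D, m.IsMaximal → y ∈ m) → y ∈ J.radical := fun y hy => by
      rw [Ideal.radical_eq_sInf, Ideal.mem_sInf]
      intro P hP
      exact hy P (hprime P hP.2 hP.1)
    refine ⟨hdim, fun m hm => le_antisymm (fun y hy => hrad y fun m' hm' => ?_)
      (hm.isPrime.radical_le_iff.mpr (hJmax m hm)), ?_⟩
    · rwa [← Groth.AdicLinTop.RigClosed.maximal_unique J hfin hrad m m' hm hm']
    · obtain ⟨N, hN⟩ := J.exists_radical_pow_le_of_fg (IsNoetherian.noetherian _)
      exact Groth.AdicLinTop.RigClosed.isAdicComplete_of_pow_le Ideal.le_radical hN D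
  tfae_have 3 → 1 := by
    rintro ⟨hdim, hmax, -⟩
    haveI : Ring.KrullDimLE 1 D := Ring.krullDimLE_iff.mpr hdim.le
    have hI : ¬ I ≤ q' := fun hle => by
      obtain ⟨m, hm⟩ := Ideal.exists_maximal D
      have h1 := hmax m hm
      rw [show J = ⊥ from hJbot.mpr hle, Ideal.IsPrime.radical Ideal.isPrime_bot] at h1
      rw [h1] at hm
      haveI := hm
      haveI : Ring.KrullDimLE 0 D := Ring.KrullDimLE.mk₀ fun P hP => by
        rw [← hm.eq_of_le hP.ne_top bot_le]
        exact hm
      have := Ring.krullDimLE_iff.mp ‹Ring.KrullDimLE 0 D›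
      rw [show ringKrullDim D = 1 from hdim] at this
      exact absurd this (by norm_num)
    refine ⟨hI, fun P hle hIP => ?_⟩
    by_contra hne
    apply hIP
    have hle' : q' ≤ P.asIdeal := hle
    haveI hPp : (P.asIdeal.map (Ideal.Quotient.mk q')).IsPrime :=
      Ideal.map_isPrime_of_surjective Ideal.Quotient.mk_surjective (by rwa [Ideal.mk_ker])
    have hP0 : P.asIdeal.map (Ideal.Quotient.mk q') ≠ ⊥ := fun h0 => by
      rw [Ideal.map_eq_bot_iff_le_ker, Ideal.mk_ker] at h0
      exact hne (PrimeSpectrum.ext (le_antisymm h0 hle'))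
    have hm := hPp.isMaximal_of_ne_bot hP0
    have h2 : J ≤ P.asIdeal.map (Ideal.Quotient.mk q') := (hmax _ hm).symm ▸ Ideal.le_radical
    intro x hx
    have h3 := h2 (Ideal.mem_map_of_mem _ hx)
    rw [Ideal.mem_map_iff_of_surjective _ Ideal.Quotient.mk_surjective] at h3
    obtain ⟨y, hy, hyx⟩ := h3
    rw [Ideal.Quotient.eq] at hyx
    simpa using sub_mem hy (hle' hyx)
  tfae_finish

end Groth.Agent.S8804
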