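import Groth.Statements.S0005
import Groth.Agent.Pi1Purity.Extend
import Groth.Agent.Pi1Purity.PurityLocal

set_option autoImplicit false
universe u
open FEt

namespace Groth.Agent.S0005

open CategoryTheory AlgebraicGeometry in
/-- Purity for finite étale covers, global form: let X be a Noetherian scheme all of whose local rings
are regular and U ⊆ X an open subscheme such that every point of X outside U has local ring of Krull
dimension at least 2. Then restriction of finite étale covers from X to U is an equivalence of
categories. -/
theorem result (X : Scheme.{u}) [IsNoetherian X]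
    (hreg : ∀ x : X, IsRegularLocalRing (X.presheaf.stalk x)) (U : X.Opens)
    (hU : ∀ x : X, x ∉ U → (2 : WithBot ℕ∞) ≤ ringKrullDim (X.presheaf.stalk x)) :
    (FEt.restrict U.ι).IsEquivalence := by
  have hd : ∀ x : X, x ∉ U → (2 : ℕ∞) ≤ LocCoh.depth (X.presheaf.stalk x) (X.presheaf.stalk x) := fun x hx => by
    have := hreg x
    have : IsDomain (X.presheaf.stalk x) := Groth.Ega4Algebra1.isDomain_of_isRegularLocalRing _
    have : IsIntegrallyClosed (X.presheaf.stalk x) :=
      Groth.Ega4Algebra1.isIntegrallyClosed_of_isRegularLocalRing _
    exact Groth.RefRank.two_le_depth_of_normal (hU x hx)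
  obtain ⟨hfull, hfaith⟩ := Groth.Pi1FEt.restrict_full_faithful_of_bijective_app _
    (Groth.Pi1Depth.bijective_app_of_two_le_depth U hd)
  have : (FEt.restrict U.ι).EssSurj := Groth.Pi1Purity.restrict_essSurj_of_purity U fun x hx => by
    have := hreg x
    exact Groth.Pi1Purity.purityHolds_of_isRegularLocalRing _ (hU x hx)
  exact { }

end Groth.Agent.S0005
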