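import Groth.Statements.S0011
import Groth.Agent.CohFin.AcycEmb

set_option autoImplicit false
universe u
open Coherent

namespace Groth.Agent.S0011

section Aux

open AlgebraicGeometry CategoryTheory CategoryTheory.Limits TopologicalSpace
open Groth.CohBase Groth.CohFin

lemma exists_emb (X : Scheme.{u}) [CompactSpace X]
    (hd : ∀ V W : X.Opens, IsAffineOpen V → IsAffineOpen W → IsAffineOpen (V ⊓ W))
    (M : X.Modules) [M.IsQuasicoherent] :
    ∃ (M' : X.Modules) (i : M ⟶ M'), Mono i ∧ M'.IsQuasicoherent ∧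
      ∀ n : ℕ, Subsingleton (Coh.HH X M' (n + 1)) := by
  classical
  have haff : ∀ U : X.Opens, IsAffineOpen U → IsAffineHom U.ι := fun U hU => ⟨fun V hV => by
    have h := hd U V hU hV
    rw [← Scheme.Opens.opensRange_ι U, ← Scheme.Hom.image_preimage_eq_opensRange_inf] at h
    exact (U.ι.isAffineOpen_iff_of_isOpenImmersion).1 h⟩
  have hcmp : ∀ U : X.Opens, IsAffineOpen U →
      (cmp U M).IsQuasicoherent ∧ ∀ n, Subsingleton (Coh.HH X (cmp U M) (n + 1)) := by
    intro U hU
    haveI := haff U hU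
    haveI : IsAffine ↑U := hU
    refine ⟨Groth.QCohMod.isQCoh_pushforward (M.restrict U.ι) U.ι, fun n => ?_⟩
    obtain ⟨e⟩ := nonempty_equiv_H_push U.ι (M.restrict U.ι) (n + 1)
    haveI : Subsingleton (Sheaf.H (abSheaf (M.restrict U.ι)) (n + 1) : Type u) :=
      (subsingleton_H_iff _ _).2 (hVanish_of_isAffineOpen _ (isAffineOpen_top _) n)
    exact e.toEquiv.subsingleton
  obtain ⟨T, hT⟩ := Groth.PropsBasic2.exists_finite_affine_cover X
  let C : T → X.Modules := fun V => cmp V.1.1 M
  let u : ∀ V, M ⟶ C V := fun V => (Scheme.Modules.restrictAdjunction V.1.1.ι).unit.app M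
  haveI : ∀ j, ((Discrete.functor C).obj j).IsQuasicoherent := fun j => (hcmp _ j.as.1.2).1
  let S := ∐ C
  have hq : S.IsQuasicoherent :=
    Groth.QCohMod.isQCoh_of_isColimit (Discrete.functor C) _ (colimit.isColimit _)
  let p : ∀ i, S ⟶ C i := fun i =>
    Sigma.desc fun j => if h : j = i then eqToHom (congrArg C h) else 0
  have hp : ∀ j i, Sigma.ι C j ≫ p i = if h : j = i then eqToHom (congrArg C h) else 0 :=
    fun j i => Sigma.ι_desc _ _
  have htot : ∑ i, p i ≫ Sigma.ι C i = 𝟙 S := by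
    refine Sigma.hom_ext _ _ fun j => ?_
    rw [Preadditive.comp_sum, Category.comp_id, Finset.sum_eq_single j]
    · rw [← Category.assoc, hp, dif_pos rfl, eqToHom_refl, Category.id_comp]
    · intro i _ hi
      rw [← Category.assoc, hp, dif_neg (Ne.symm hi), zero_comp]
    · simp
  let ι : M ⟶ S := ∑ i, u i ≫ Sigma.ι C i
  have hι : ∀ i, ι ≫ p i = u i := fun i => by
    rw [Preadditive.sum_comp, Finset.sum_eq_single i]
    · rw [Category.assoc, hp, dif_pos rfl, eqToHom_refl, Category.comp_id]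
    · intro j _ hj
      rw [Category.assoc, hp, dif_neg hj, comp_zero]
    · simp
  refine ⟨S, ι, ?_, hq, fun n =>
    subsingleton_H_of_decomp Finset.univ S C p (Sigma.ι C) htot _ fun i => (hcmp _ i.1.2).2 n⟩
  refine (Groth.CohTwo.mono_iff_app_injective ι).2 fun W => ?_
  refine (injective_iff_map_eq_zero _).2 fun s hs => Groth.CohTwo.eq_of_local M _ _ fun x hx => ?_
  obtain ⟨V, hxV⟩ := Opens.mem_iSup.1 (hT.ge (show x ∈ (⊤ : X.Opens) from trivial))
  have h0 : (u V).app W s = 0 := by
    rw [← hι V]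
    change (p V).app W (ι.app W s) = 0
    rw [hs, map_zero]
  refine ⟨V.1.1.ι ''ᵁ (V.1.1.ι ⁻¹ᵁ W), V.1.1.ι.image_preimage_le W, ?_, ?_⟩
  · rw [Scheme.Hom.image_preimage_eq_opensRange_inf, Scheme.Opens.opensRange_ι]
    exact ⟨hxV, hx⟩
  · refine Eq.trans h0 (map_zero _).symm

end Aux

open AlgebraicGeometry CategoryTheory in
/-- On a quasi-compact scheme in which affine opens have affine intersections, every quasi-coherent
module admits a monomorphism into a quasi-coherent module whose cohomology vanishes in all positive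
degrees. (Part (2), universality of the delta-functor, is not stated.) -/
theorem result (X : Scheme.{u}) [CompactSpace X]
    (hd : ∀ V W : X.Opens, IsAffineOpen V → IsAffineOpen W → IsAffineOpen (V ⊓ W))
    (M : X.Modules) [Coh.IsQCoh M] :
    ∃ (M' : X.Modules) (i : M ⟶ M'), Mono i ∧ Coh.IsQCoh M' ∧
      ∀ p : ℕ, 0 < p → Subsingleton (Coh.HH X M' p) := by
  obtain ⟨M', i, hi, hq, h⟩ := exists_emb X hd M
  refine ⟨M', i, hi, hq, fun p hp => ?_⟩
  obtain ⟨n, rfl⟩ : ∃ n, p = n + 1 := ⟨p - 1, by omega⟩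
  exact h n

end Groth.Agent.S0011
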