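import Groth.Statements.S0018
import Groth.Agent.QCohMod.ExtendFP
import Groth.Agent.QCohMod.Coherent

set_option autoImplicit false
universe u
open Coherent

namespace Groth.Agent.S0018

open AlgebraicGeometry in
/-- On a locally Noetherian scheme an O_X-module is quasi-coherent of finite type if and only if it is
of finite presentation. (Either condition is what 'coherent' means there.) -/
theorem result (X : Scheme.{u}) [IsLocallyNoetherian X] (M : X.Modules) :
    Coh.IsCoh M ↔ CohB1.IsFP M := by
  constructor
  · intro h
    have := h.1
    refine Groth.LocFree.isFP_of_affine_cover M fun x => ?_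
    obtain ⟨U, hU, hx⟩ := Groth.QCohMod.exists_affine_mem x
    have := Groth.QCohMod.finite_sections M h.2 hU
    have : IsNoetherianRing Γ(X, U) := IsLocallyNoetherian.component_noetherian ⟨U, hU⟩
    exact ⟨U, hU, hx, Module.finitePresentation_of_finite _ _⟩
  · intro h
    have : CohB1.IsFP M := h
    have hq : M.IsQuasicoherent := inferInstance
    refine (Groth.QCohMod.isCoh_iff M).2 ⟨hq, fun U hU => ?_⟩
    have := Groth.PropsBasic.FPSections.finitePresentation_sections M h hU
    infer_instance

end Groth.Agent.S0018
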