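import Groth.Statements.S0019
import Groth.Agent.QCohMod.QCQS
import Groth.Agent.QCohMod.Coherent

set_option autoImplicit false
universe u
open Coherent

namespace Groth.Agent.S0019

open AlgebraicGeometry in
/-- If f : X → Y is a finite morphism of schemes with Y locally Noetherian and F is a coherent
O_X-module, then the direct image f_*F is a coherent O_Y-module. -/
theorem result {X Y : Scheme.{u}} (f : X ⟶ Y) [IsFinite f] [IsLocallyNoetherian Y]
    (M : X.Modules) (hM : Coh.IsCoh M) : Coh.IsCoh ((Coh.push f).obj M) := by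
  have := hM.1
  refine (Groth.QCohMod.isCoh_iff _).2 ⟨Groth.QCohMod.isQCoh_pushforward (M := M) f, fun U hU => ?_⟩
  have hU' : IsAffineOpen (f ⁻¹ᵁ U) := hU.preimage f
  have := Groth.QCohMod.finite_sections M hM.2 hU'
  let : Algebra Γ(Y, U) Γ(X, f ⁻¹ᵁ U) := (f.app U).hom.toAlgebra
  have : Module.Finite Γ(Y, U) Γ(X, f ⁻¹ᵁ U) := f.finite_app U hU
  let : Module Γ(Y, U) Γ(M, f ⁻¹ᵁ U) := Module.compHom _ (f.app U).hom
  have : IsScalarTower Γ(Y, U) Γ(X, f ⁻¹ᵁ U) Γ(M, f ⁻¹ᵁ U) := IsScalarTower.of_compHom _ _ _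
  have h : Module.Finite Γ(Y, U) Γ(M, f ⁻¹ᵁ U) := Module.Finite.trans Γ(X, f ⁻¹ᵁ U) _
  exact h

end Groth.Agent.S0019
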