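import Groth.Statements.S0020
import Groth.Agent.QCohMod.FTCriterion
import Groth.Agent.QCohMod.Stalk

set_option autoImplicit false
universe u
open Coherent

namespace Groth.Agent.S0020

open AlgebraicGeometry CategoryTheory CategoryTheory.Limits Groth.QCohMod in
theorem aux {X : Scheme.{u}} {M : X.Modules} {ι : Type u} [Finite ι]
    (π : ∐ (fun _ : ι ↦ Coh.structureModule X) ⟶ M) [Epi π] (x : X)
    (hx : Subsingleton ((stalk x).obj M)) :
    ∃ W : X.Opens, x ∈ W ∧ ∀ y ∈ W, Subsingleton ((stalk y).obj M) := by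
  classical
  have := Fintype.ofFinite ι
  let s : ι → Γ(M, (⊤ : X.Opens)) := fun i =>
    (Sigma.ι (fun _ : ι ↦ Coh.structureModule X) i ≫ π).app ⊤ (oneSec ⊤)
  have hW : ∀ i, ∃ W : X.Opens, x ∈ W ∧ res M (le_top : W ≤ ⊤) (s i) = 0 := fun i => by
    have h0 : M.presheaf.germ ⊤ x (Set.mem_univ x) (s i) = M.presheaf.germ ⊤ x (Set.mem_univ x) 0 :=
      Subsingleton.elim (α := ((stalk x).obj M : Type u)) _ _
    obtain ⟨W, hxW, iU, iV, e⟩ := TopCat.Presheaf.germ_eq M.presheaf x _ _ _ _ h0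
    exact ⟨W, hxW, e.trans (map_zero _)⟩
  choose W hxW hW using hW
  refine ⟨⟨⋂ i, (W i : Set X), isOpen_iInter_of_finite fun i => (W i).2⟩,
    Set.mem_iInter.2 hxW, fun y hy => ?_⟩
  have hi : ∀ i, (stalk y).map (Sigma.ι (fun _ : ι ↦ Coh.structureModule X) i ≫ π) = 0 := fun i => by
    ext t
    obtain ⟨V, hV, r, rfl⟩ := exists_germ _ y t
    have hy' : y ∈ V ⊓ W i := ⟨hV, Set.mem_iInter.1 hy i⟩
    rw [← germ_res _ (inf_le_left : V ⊓ W i ≤ V) y hy' r, stalk_map_germ]
    set r' := res (Coh.structureModule X) (inf_le_left : V ⊓ W i ≤ V) r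
    have h1 : (Sigma.ι (fun _ : ι ↦ Coh.structureModule X) i ≫ π).app (V ⊓ W i) (oneSec (V ⊓ W i)) = 0 := by
      have hz := congrArg (res M (inf_le_right : V ⊓ W i ≤ W i)) (hW i)
      rw [res_res, map_zero] at hz
      refine Eq.trans ?_ hz
      have := (res_app (Sigma.ι (fun _ : ι ↦ Coh.structureModule X) i ≫ π) (le_top : V ⊓ W i ≤ ⊤) (oneSec ⊤)).symm
      refine Eq.trans ?_ this
      exact congrArg _ (map_one (X.presheaf.map (homOfLE (le_top : V ⊓ W i ≤ ⊤)).op).hom).symm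
    rw [← structureModule_eq_smul_one r', Scheme.Modules.Hom.app_smul, h1, smul_zero]
    exact map_zero _
  let p : ι → (∐ (fun _ : ι ↦ Coh.structureModule X) ⟶ Coh.structureModule X) :=
    fun i ↦ Sigma.desc fun j ↦ if i = j then 𝟙 _ else 0
  have hp : ∑ i, p i ≫ Sigma.ι (fun _ : ι ↦ Coh.structureModule X) i = 𝟙 _ := by
    refine Sigma.hom_ext _ _ fun j ↦ ?_
    rw [Preadditive.comp_sum, Finset.sum_eq_single j]
    · simp [p]
    · intro i _ hij
      simp [p, hij]
    · simp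
  have hπ : (stalk y).map π = 0 := by
    have : π = ∑ i, p i ≫ Sigma.ι (fun _ : ι ↦ Coh.structureModule X) i ≫ π := by
      simp_rw [← Category.assoc, ← Preadditive.sum_comp, hp, Category.id_comp]
    rw [this, Functor.map_sum]
    exact Finset.sum_eq_zero fun i _ => by rw [Functor.map_comp, hi i, comp_zero]
  refine ⟨fun a b => ?_⟩
  obtain ⟨a', rfl⟩ := (epi_iff_stalk π).1 inferInstance y a
  obtain ⟨b', rfl⟩ := (epi_iff_stalk π).1 inferInstance y b
  rw [hπ]
  rfl

open AlgebraicGeometry in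
/-- On a scheme X, the set of points at which the stalk of a finite type 𝒪_X-module M is nonzero (the
support of M) is closed. -/
theorem result (X : Scheme.{u}) (M : X.Modules) (hM : CohB1.IsFT M) :
    IsClosed (CohB1.support M) := by
  refine isOpen_compl_iff.1 (isOpen_iff_forall_mem_open.2 fun x hx => ?_)
  obtain ⟨V, hxV, G, hG⟩ := Groth.QCohMod.exists_generators_of_isFT M hM x
  let e := fun y : V.toScheme =>
    ((Scheme.Modules.restrictStalkNatIso V.ι y).app M).addCommGroupIsoToAddEquiv.toEquiv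
  have hx' : Subsingleton ((Groth.QCohMod.stalk (X := V.toScheme) ⟨x, hxV⟩).obj (M.restrict V.ι)) :=
    (e ⟨x, hxV⟩).subsingleton_congr.2 (not_not.1 hx)
  have : Finite G.I := hG
  let π : CategoryTheory.Limits.sigmaObj (fun _ : G.I ↦ Coh.structureModule V.toScheme) ⟶ M.restrict V.ι := G.π
  have : CategoryTheory.Epi π := G.epi
  obtain ⟨W, hxW, hW⟩ := aux (X := V.toScheme) π ⟨x, hxV⟩ hx'
  refine ⟨V.ι ''ᵁ W, ?_, (V.ι ''ᵁ W).2, ⟨⟨x, hxV⟩, hxW, rfl⟩⟩
  rintro _ ⟨y, hy, rfl⟩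
  exact not_not.2 ((e y).subsingleton_congr.1 (hW y hy))


end Groth.Agent.S0020
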