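import Groth.Statements.S0026
import Groth.Agent.CohDev.Filtration
-- import your own Groth.Agent.* helpers here

set_option autoImplicit false
universe u
open Coherent

namespace Groth.Agent.S0026

open AlgebraicGeometry CategoryTheory CategoryTheory.Limits in
/-- On a Noetherian scheme X, every coherent module M admits a finite chain 0 = F_0 → F_1 → … → F_m ≅ M
of monomorphisms between coherent modules such that each quotient F_{j+1}/F_j is isomorphic to the
direct image of a nonzero quasi-coherent ideal sheaf of some integral closed subscheme Z_j → X.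
(Filtration written as a chain of monomorphisms up to isomorphism.) -/
theorem result (X : Scheme.{u}) [IsNoetherian X]
    (M : X.Modules) (hM : Coh.IsCoh M) :
    ∃ (m : ℕ) (F : ℕ → X.Modules) (φ : (j : ℕ) → (F j ⟶ F (j + 1))),
      IsZero (F 0) ∧ Nonempty (F m ≅ M) ∧ (∀ j ≤ m, Coh.IsCoh (F j)) ∧ ∀ j < m, Mono (φ j) ∧
        ∃ (Z : Scheme.{u}) (i : Z ⟶ X), IsClosedImmersion i ∧ IsIntegral Z ∧
          ∃ (I : Z.Modules) (ι : I ⟶ Coh.structureModule Z), Mono ι ∧ Coh.IsQCoh I ∧ ¬ IsZero I ∧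
            Nonempty (cokernel (φ j) ≅ (Coh.push i).obj I) := by
  let P : X.Modules → Prop := fun A => Coh.IsCoh A → Groth.CohDev.Filtered A
  have hiso : ∀ A B : X.Modules, Nonempty (A ≅ B) → P A → P B := fun A B ⟨e⟩ h hB =>
    (h (Groth.QCohMod.isCoh_of_iso e.symm hB)).of_iso e hB
  have h0 : ∀ A : X.Modules, IsZero A → P A := fun A hA hc => .zero hA hc
  have hext : ∀ S : ShortComplex X.Modules, S.ShortExact → Coh.IsCoh S.X₁ → Coh.IsCoh S.X₂ →
      Coh.IsCoh S.X₃ → P S.X₁ → P S.X₃ → P S.X₂ := fun S hS a b c p1 p3 hb =>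
    Groth.CohDev.Filtered.ext (p3 c) S.f S.g S.zero hS (p1 a) hb
  have hF : Groth.CohDev.Filtered M := by
    refine Groth.CohTwo.coh_induction P hiso h0 hext Set.univ ?_ isClosed_univ M hM (Set.subset_univ _) hM
    intro Y ξ hY _ F hF hkill hsmall
    haveI := hF.1
    refine Groth.CohDev.step_ideals P hiso h0 hext hY ?_ hsmall hF
      (hkill.support_subset.trans (by simp)) (fun a ha m => hkill.stalk_maximalIdeal hY a ha m)
    intro Z i hi hZ _ I ι hι hI hc
    by_cases hI0 : IsZero I
    · exact .zero ((Coh.push i).map_isZero hI0) hc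
    haveI := hc.1
    have hz : IsZero (cokernel (𝟙 ((Coh.push i).obj I))) := isZero_cokernel_of_epi _
    haveI : Mono (0 : cokernel (𝟙 ((Coh.push i).obj I)) ⟶ (Coh.push i).obj I) :=
      ⟨fun a b _ => hz.eq_of_tgt a b⟩
    exact .step 0 (.zero hz (Groth.QCohMod.isCoh_cokernel _ hc)) hc
      ⟨Z, i, hi, hZ, I, ι, hι, hI, hI0, ⟨cokernelZeroIsoTarget⟩⟩
  exact hF.chain

end Groth.Agent.S0026
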