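import Groth.Statements.S0027
import Groth.Agent.CohDev.Steps
-- import your own Groth.Agent.* helpers here

set_option autoImplicit false
universe u
open Coherent

namespace Groth.Agent.S0027

open AlgebraicGeometry CategoryTheory CategoryTheory.Limits in
/-- Let X be a nonempty Noetherian scheme and P an isomorphism-invariant property of O_X-modules such
that (1) in a short exact sequence of coherent modules, P for the two outer terms implies P for the
middle term, and (2) P holds for the direct image of every quasi-coherent ideal sheaf of every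
integral closed subscheme of X. Then P holds for every coherent O_X-module. (Nonemptiness of X is
needed for the zero module; the published statement leaves it implicit.) -/
theorem result (X : Scheme.{u}) [IsNoetherian X] [Nonempty X]
    (P : X.Modules → Prop) (hP : ∀ M N : X.Modules, Nonempty (M ≅ N) → P M → P N)
    (h₁ : ∀ S : ShortComplex X.Modules, S.ShortExact → Coh.IsCoh S.X₁ → Coh.IsCoh S.X₂ →
      Coh.IsCoh S.X₃ → P S.X₁ → P S.X₃ → P S.X₂)
    (h₂ : ∀ (Z : Scheme.{u}) (i : Z ⟶ X), IsClosedImmersion i → IsIntegral Z →
      ∀ (I : Z.Modules) (ι : I ⟶ Coh.structureModule Z), Mono ι → Coh.IsQCoh I →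
        P ((Coh.push i).obj I))
    (M : X.Modules) (hM : Coh.IsCoh M) : P M := by
  have h0 : ∀ M : X.Modules, IsZero M → P M := by
    intro M hM
    obtain ⟨x⟩ := ‹Nonempty X›
    let Y : TopologicalSpace.Closeds X := ⟨closure {x}, isClosed_closure⟩
    haveI := Groth.CohTwo.isIntegral_closure_subscheme (Y := Y) (ξ := x) rfl
    let i := (Scheme.IdealSheafData.vanishingIdeal Y).subschemeι
    haveI : IsLocallyNoetherian (Scheme.IdealSheafData.vanishingIdeal Y).subscheme :=
      LocallyOfFiniteType.isLocallyNoetherian i
    let O := Coh.structureModule (Scheme.IdealSheafData.vanishingIdeal Y).subscheme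
    have hO : Coh.IsCoh O := Groth.QCohMod.isCoh_unit
    haveI := hO.1
    have hz : IsZero (cokernel (𝟙 O)) := isZero_cokernel_of_epi _
    haveI : Mono (0 : cokernel (𝟙 O) ⟶ O) := ⟨fun a b _ => hz.eq_of_tgt a b⟩
    exact hP _ _ ⟨((Coh.push i).map_isZero hz).iso hM⟩
      (h₂ _ i inferInstance inferInstance _ 0 inferInstance (Groth.QCohMod.isCoh_cokernel (𝟙 O) hO).1)
  refine Groth.CohTwo.coh_induction P hP h0 h₁ Set.univ ?_ isClosed_univ M hM (Set.subset_univ _)
  intro Y ξ hY _ F hF hkill hsmall
  haveI := hF.1
  exact Groth.CohDev.step_ideals P hP h0 h₁ hY (fun Z i hi hZ _ => h₂ Z i hi hZ) hsmall hF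
    (hkill.support_subset.trans (by simp)) (fun a ha m => hkill.stalk_maximalIdeal hY a ha m)

end Groth.Agent.S0027
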