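import Groth.Statements.S0031
import Groth.Agent.CohBase.RpushAb

set_option autoImplicit false
universe u
open Coherent

namespace Groth.Agent.S0031

open AlgebraicGeometry CategoryTheory in
/-- If f : X → S is quasi-compact and quasi-separated and S is quasi-compact, there is an integer n with
R^p f_* F = 0 for all p ≥ n and all quasi-coherent F (higher direct images of the underlying abelian
sheaves). -/
theorem result {X S : Scheme.{u}} (f : X ⟶ S) [QuasiCompact f]
    [QuasiSeparated f] [CompactSpace S] :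
    ∃ n : ℕ, ∀ (M : X.Modules), Coh.IsQCoh M → ∀ p : ℕ, n ≤ p →
      Limits.IsZero ((Coh.RpushAb f p).obj (Coh.toAb M)) := by
  have key : ∀ V : S.Opens, AlgebraicGeometry.IsAffineOpen V → ∃ d : ℕ, ∀ (M : X.Modules),
      M.IsQuasicoherent → ∀ p, d ≤ p →
        Groth.CohBase.HVanish (X := X.toTopCat) (Groth.CohBase.abSheaf M) p (f ⁻¹ᵁ V) := by
    intro V hV
    have hc : IsCompact ((f ⁻¹ᵁ V : X.Opens) : Set X) :=
      QuasiCompact.isCompact_preimage _ V.2 hV.isCompact
    have : IsAffine V.toScheme := hV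
    have : QuasiSeparatedSpace (f ⁻¹ᵁ V).toScheme := quasiSeparatedSpace_of_quasiSeparated (f ∣_ V)
    have : CompactSpace (f ⁻¹ᵁ V).toScheme := isCompact_iff_compactSpace.mp hc
    obtain ⟨d, hd⟩ := Groth.CohBase.exists_hVanish_of_isCompact
      (⊤ : (f ⁻¹ᵁ V).toScheme.Opens) isCompact_univ
    refine ⟨d, fun M hM p hp => ?_⟩
    have h := (Groth.CohBase.hVanish_restrict_iff (f ⁻¹ᵁ V).ι M p ⊤).mp
      (hd (M.restrict (f ⁻¹ᵁ V).ι)
        (inferInstanceAs ((Scheme.Modules.restrictFunctor (f ⁻¹ᵁ V).ι).obj M).IsQuasicoherent) p hp)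
    rwa [Scheme.Opens.ι_image_top] at h
  choose W hW hxW hWtop using fun x : S =>
    exists_isAffineOpen_mem_and_subset (x := x) (U := (⊤ : S.Opens)) trivial
  choose d hd using fun x => key (W x) (hW x)
  obtain ⟨t, ht⟩ := isCompact_univ.elim_finite_subcover (fun x : S => (W x : Set S))
    (fun x => (W x).2) (fun x _ => Set.mem_iUnion.mpr ⟨x, hxW x⟩)
  refine ⟨t.sup d, fun M hM p hp => ?_⟩
  have : M.IsQuasicoherent := hM
  obtain ⟨a⟩ := Groth.CohBase.nonempty_RpushAb_iso_homology f (injectiveResolution M) p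
  refine Limits.IsZero.of_iso ((Groth.CohBase.toAbF S).map_isZero ?_) a
  refine Groth.CohBase.isZero_homology_pushCx f _ p fun y => ?_
  obtain ⟨x, hx, hy⟩ := Set.mem_iUnion₂.mp (ht (Set.mem_univ y))
  exact ⟨W x, hW x, hy, hd x M hM p ((Finset.le_sup hx).trans hp)⟩

end Groth.Agent.S0031
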