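import Groth.Statements.S0037
import Groth.Agent.Limits.FibreVanishing

set_option autoImplicit false
universe u
open Coherent

namespace Groth.Agent.S0037

open AlgebraicGeometry CategoryTheory in
/-- Let Y be locally Noetherian, f : X → Y proper and y a point whose fibre f⁻¹{y} is finite. Then for
every coherent F on X and every p > 0 the stalk of R^p f_* F at y vanishes. -/
theorem result {X Y : Scheme.{u}} (f : X ⟶ Y) [IsProper f]
    [IsLocallyNoetherian Y] (y : Y) (hy : (f.base ⁻¹' {y}).Finite) (M : X.Modules) (hM : Coh.IsCoh M)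
    (p : ℕ) (hp : 0 < p) :
    Limits.IsZero (TopCat.Presheaf.stalk ((Coh.RpushAb f p).obj (Coh.toAb M)).obj y) := by
  refine Groth.Limits.FibreVanishing.isZero_stalk_RpushAb_of_coh f y 0 ?_ M hM p hp
  haveI : Finite ↥(f.fiber y) := by
    haveI := hy.to_subtype
    exact Finite.of_equiv _ (f.fiberHomeo y).toEquiv.symm
  exact Groth.Limits.FibreVanishing.dim_le_zero_of_finite_fiber f y

end Groth.Agent.S0037
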