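import Groth.Statements.S0039
import Groth.Agent.FormalAlg.Closed
import Groth.Agent.FormalAlg.Levels

set_option autoImplicit false
universe u
open Coherent
set_option backward.isDefEq.respectTransparency false

namespace Groth.Agent.S0039

open AlgebraicGeometry CategoryTheory CategoryTheory.Limits in
/-- Let A be Noetherian and complete for an ideal I, X proper over A and Y separated of finite type over
A. Write X_n, Y_n for the base changes to A/I^(n+1). Then every system of morphisms g_n : X_n → Y_n
over A/I^(n+1), compatible with the transition maps, is induced by a morphism X → Y over A. (The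
published statement also asserts uniqueness, but only existence is stated here.) -/
theorem result (A : Type u) [CommRing A] [IsNoetherianRing A]
    (I : Ideal A) [IsAdicComplete I A] {X Y : Scheme.{u}} (f : X ⟶ Spec (CommRingCat.of A))
    (h : Y ⟶ Spec (CommRingCat.of A)) [IsProper f] [IsSeparated h] [LocallyOfFiniteType h]
    [QuasiCompact h] (g : (n : ℕ) → (CohB1.thick f I n ⟶ CohB1.thick h I n))
    (hg₁ : ∀ n, g n ≫ CohB1.thickToBase h I n = CohB1.thickToBase f I n)
    (hg₂ : ∀ n, CohB1.thickTrans f I n ≫ g (n + 1) = g n ≫ CohB1.thickTrans h I n) :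
    ∃ φ : X ⟶ Y, φ ≫ h = f ∧ ∀ n, CohB1.thickι f I n ≫ φ = g n ≫ CohB1.thickι h I n := by
  let P := pullback f h
  let F : P ⟶ Spec (CommRingCat.of A) := pullback.fst f h ≫ f
  let γ : ∀ n, CohB1.thick f I n ⟶ P := fun n =>
    pullback.lift (CohB1.thickι f I n) (g n ≫ CohB1.thickι h I n) (by
      have e1 : CohB1.thickι f I n ≫ f = CohB1.thickToBase f I n ≫ CohB1.specQuot I n := pullback.condition
      have e2 : CohB1.thickι h I n ≫ h = CohB1.thickToBase h I n ≫ CohB1.specQuot I n := pullback.condition
      rw [e1, Category.assoc, e2, reassoc_of% hg₁ n])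
  have hγ1 : ∀ n, γ n ≫ pullback.fst f h = CohB1.thickι f I n := fun n => pullback.lift_fst _ _ _
  have hγ2 : ∀ n, γ n ≫ pullback.snd f h = g n ≫ CohB1.thickι h I n := fun n => pullback.lift_snd _ _ _
  have hγc : ∀ n, IsClosedImmersion (γ n) := fun n => by
    haveI : IsClosedImmersion (γ n ≫ pullback.fst f h) := by rw [hγ1]; infer_instance
    exact IsClosedImmersion.of_comp (γ n) (pullback.fst f h)
  let D : Groth.FormalAlg.Data F I :=
    { Y := fun n => CohB1.thick f I n
      p := γ
      t := fun n => CohB1.thickTrans f I n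
      ht := fun n => by
        apply pullback.hom_ext
        · rw [Category.assoc, hγ1, hγ1, Groth.FormalAlg.thickTrans_ι]
        · rw [Category.assoc, hγ2, hγ2, reassoc_of% hg₂ n, Groth.FormalAlg.thickTrans_ι]
      fin := fun n => by haveI := hγc n; infer_instance
      q := fun n => CohB1.thickToBase f I n
      cart := fun n => by
        have := Groth.FormalAlg.isPullback_thickTrans f I n
        rwa [← hγ1, Category.assoc] at this }
  haveI : IsClosedImmersion (CohB1.specQuot I 0) :=
    IsClosedImmersion.spec_of_surjective _ Ideal.Quotient.mk_surjective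
  have hp0 : IsProper (D.p 0 ≫ F) := by
    show IsProper (γ 0 ≫ pullback.fst f h ≫ f)
    rw [reassoc_of% hγ1 0]
    infer_instance
  obtain ⟨W, i, w, hi, hip, -, hwi, hpb⟩ := Groth.FormalAlg.algebraize_closed D hγc hp0
  let π := i ≫ pullback.fst f h
  haveI : IsProper π := by
    haveI := hip
    haveI : IsProper (π ≫ f) := by rw [show π ≫ f = i ≫ F from Category.assoc _ _ _]; infer_instance
    exact IsProper.of_comp π f
  have hwπ : ∀ n, w n ≫ π = CohB1.thickι f I n := fun n => by
    rw [show w n ≫ π = (w n ≫ i) ≫ pullback.fst f h from (Category.assoc _ _ _).symm, hwi n]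
    exact hγ1 n
  haveI : IsIso π := Groth.FormalAlg.isIso_of_levels f π w hwπ fun n => by
    have := hpb n
    rwa [show i ≫ F = π ≫ f from (Category.assoc _ _ _).symm] at this
  refine ⟨inv π ≫ i ≫ pullback.snd f h, ?_, fun n => ?_⟩
  · simp only [Category.assoc, ← pullback.condition]
    rw [show i ≫ pullback.fst f h ≫ f = π ≫ f from (Category.assoc _ _ _).symm, IsIso.inv_hom_id_assoc]
  · rw [← hwπ n, Category.assoc, IsIso.hom_inv_id_assoc, reassoc_of% hwi n]
    exact hγ2 n

end Groth.Agent.S0039
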