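import Groth.Statements.S0040
import Groth.Agent.FormalAlg.Closed

set_option autoImplicit false
universe u
open Coherent

namespace Groth.Agent.S0040

open AlgebraicGeometry CategoryTheory CategoryTheory.Limits in
/-- Let A be a Noetherian ring complete with respect to an ideal I, X a scheme separated and of finite
type over Spec A, and X_n = X ×_{Spec A} Spec(A/I^(n+1)) for n ≥ 0. Suppose given closed immersions
Z_n → X_n together with morphisms Z_n → Z_(n+1) forming cartesian squares with the transition maps
X_n → X_(n+1), and suppose Z_0 is proper over Spec(A/I). Then there is a closed subscheme W → X,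
proper over Spec A, with compatible morphisms Z_n → W making each Z_n the pullback W ×_X X_n. (The
published statement assumes only that Z_0 → X_0 is a closed immersion; here it is assumed for every
n.) -/
theorem result (A : Type u) [CommRing A] [IsNoetherianRing A]
    (I : Ideal A) [IsAdicComplete I A] {X : Scheme.{u}} (f : X ⟶ Spec (CommRingCat.of A))
    [IsSeparated f] [LocallyOfFiniteType f] [QuasiCompact f]
    (Z : ℕ → Scheme.{u}) (z : (n : ℕ) → (Z n ⟶ CohB1.thick f I n)) (t : (n : ℕ) → (Z n ⟶ Z (n + 1)))
    (hz : ∀ n, IsClosedImmersion (z n))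
    (ht : ∀ n, IsPullback (t n) (z n) (z (n + 1)) (CohB1.thickTrans f I n))
    (hp : IsProper (z 0 ≫ CohB1.thickToBase f I 0)) :
    ∃ (W : Scheme.{u}) (i : W ⟶ X) (w : (n : ℕ) → (Z n ⟶ W)), IsClosedImmersion i ∧
      IsProper (i ≫ f) ∧ (∀ n, w n = t n ≫ w (n + 1)) ∧ ∀ n, IsPullback (w n) (z n) i (CohB1.thickι f I n) := by
  haveI : ∀ n, IsFinite (z n) := fun n => by haveI := hz n; infer_instance
  let D := Groth.FormalAlg.Data.ofThick Z z t this ht
  haveI : IsClosedImmersion (CohB1.specQuot I 0) :=
    IsClosedImmersion.spec_of_surjective _ Ideal.Quotient.mk_surjective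
  have hp0 : IsProper (D.p 0 ≫ f) := by
    haveI := hp
    rw [D.comm 0]
    show IsProper ((z 0 ≫ CohB1.thickToBase f I 0) ≫ CohB1.specQuot I 0)
    infer_instance
  have hcl : ∀ n, IsClosedImmersion (D.p n) := fun n => by
    haveI := hz n
    show IsClosedImmersion (z n ≫ CohB1.thickι f I n)
    infer_instance
  obtain ⟨W, i, w, hi, hip, hw, hwi, hpb⟩ := Groth.FormalAlg.algebraize_closed D hcl hp0
  refine ⟨W, i, w, hi, hip, hw, fun n => ?_⟩
  exact IsPullback.of_bot (hpb n) (hwi n) (IsPullback.of_hasPullback f (CohB1.specQuot I n))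

end Groth.Agent.S0040
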