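import Groth.Statements.S0043
import Groth.Agent.CohBase.FlatCohBaseChange
import Groth.Agent.Misc13.FlatBC

set_option autoImplicit false
universe u
open Coherent

namespace Groth.Agent.S0043

section Aux

open AlgebraicGeometry CategoryTheory CategoryTheory.Limits TopologicalSpace Opposite
open Groth.CohBase Groth.CohBase.CxRank
open scoped TensorProduct

variable (X : Scheme.{u}) [X.IsQuasiAffine]

lemma affine_of_model (A : Type u) [CommRing A] [X.Over (Spec (CommRingCat.of A))]
    [Flat (X ↘ Spec (CommRingCat.of A))]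
    (hbij : Function.Bijective (Coh.toGlobal (X ↘ Spec (CommRingCat.of A))))
    (h : ∀ p : ℕ, 0 < p → Subsingleton (Coh.HH X (Coh.structureModule X) p)) : IsAffine X := by
  classical
  let O := Coh.structureModule X
  let g : A → Γ(X, ⊤) := Coh.toGlobal (X ↘ Spec (CommRingCat.of A))
  have : O.IsQuasicoherent := Groth.QCohMod.isQCoh_unit X
  have hfl : FlatMod.IsFlatOver (X ↘ Spec (CommRingCat.of A)) O := fun x =>
    (Groth.Misc13.FlatBC.flat_stalkMap_iff_structure _ x).2 (Flat.stalkMap _ x)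
  -- a good cover by affine principal opens
  have hb : ∀ x : X, ∃ r : A, IsAffineOpen (X.basicOpen (g r)) ∧ x ∈ X.basicOpen (g r) := fun x => by
    obtain ⟨_, ⟨_, ⟨r, hr, rfl⟩, rfl⟩, hxr, -⟩ :=
      (Scheme.IsQuasiAffine.isBasis_basicOpen X).exists_subset_of_mem_open (Set.mem_univ x)
        isOpen_univ
    obtain ⟨a, rfl⟩ := hbij.2 r
    exact ⟨a, hr, hxr⟩
  choose r hr hxr using hb
  obtain ⟨s, hs⟩ := isCompact_univ.elim_finite_subcover (fun x : X => (X.basicOpen (g (r x)) : Set X))
    (fun x => (X.basicOpen (g (r x))).2) fun x _ => Set.mem_iUnion.2 ⟨x, hxr x⟩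
  let f : s → A := fun i => r i
  let U : s → X.Opens := fun i => X.basicOpen (g (f i))
  have haff : ∀ {n : ℕ} (x : Fin (n + 1) → s), IsAffineOpen (tupOpen U x) :=
    fun {n} x => isAffineOpen_inter_of_finset U (fun t ht => by
      induction ht using Finset.Nonempty.cons_induction with
      | singleton a => simpa using hr a.1
      | cons a t ha ht ih =>
        rw [Finset.cons_eq_insert, Finset.iInf_insert]
        exact (hr a.1).inf ih) x
  have hcov : ⨆ i, U i = ⊤ := eq_top_iff.2 fun x _ => by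
    obtain ⟨y, hy, hxy⟩ := Set.mem_iUnion₂.1 (hs (Set.mem_univ x))
    exact Opens.mem_iSup.2 ⟨⟨y, hy⟩, hxy⟩
  let G : GoodCover X := ⟨s, U, hcov, haff, fun W hW n x => hW.inf (haff x)⟩
  let L := cxA A G.U O
  have : ∀ i, Module.Flat A (L.X i) := flat_cxA A G.U O fun x => flat_secA A O hfl (G.affine x)
  obtain ⟨b, hb'⟩ := exists_isZero_T A G O
  let e : ∀ p : ℕ, Hk L (p : ℤ) ≃ₗ[A] Coh.HH X O p := fun p =>
    (tOneEquiv L (p : ℤ)).symm.trans (selfLinIso A G O p)
  have hQ := flat_Qc_of_flat_Hk' L b hb' 1 fun i hi => by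
    obtain ⟨p, rfl⟩ : ∃ p : ℕ, i = p := ⟨i.toNat, by omega⟩
    have := h p (by omega)
    have : Subsingleton (Hk L (p : ℤ)) := (e p).injective.subsingleton
    infer_instance
  let I : Ideal A := Ideal.span (Set.range f)
  obtain ⟨t⟩ := nonempty_tEquiv_tensor L ((0 : ℕ) : ℤ) (hQ _ (by simp)) (ModuleCat.of A (A ⧸ I))
  -- the tensored degree zero term vanishes
  let φ := fun x : Fin 1 → s => (secA A O (tupOpen U x) : Type u)
  have hkill : ∀ z : (∀ x, φ x) ⊗[A] (A ⧸ I), z = 0 := by
    intro z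
    induction z using TensorProduct.induction_on with
    | zero => rfl
    | add x y hx hy => rw [hx, hy, add_zero]
    | tmul y m =>
      let yy : ∀ x, φ x := y
      have hy : y = ∑ x, LinearMap.single A φ x (yy x) :=
        (Finset.univ_sum_single yy).symm
      rw [hy, TensorProduct.sum_tmul]
      refine Finset.sum_eq_zero fun x _ => ?_
      have hu : IsUnit (toSec A (tupOpen U x) (f (x 0))) := by
        have h1 := (X.toRingedSpace.isUnit_res_basicOpen (g (f (x 0)))).map
          (Groth.QCohMod.resFun X (inter_le (X := X.toTopCat) U x 0))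
        have h2 := Groth.QCohMod.resFun_resFun (X.basicOpen_le (g (f (x 0))))
          (inter_le (X := X.toTopCat) U x 0) (g (f (x 0)))
        exact h2 ▸ h1
      obtain ⟨v, hv⟩ := hu
      let w : φ x := (show Γ(O, tupOpen U x) from
        (↑v⁻¹ : Γ(X, tupOpen U x)) • (show Γ(O, tupOpen U x) from yy x))
      have hw : yy x = f (x 0) • w := by
        change (show Γ(O, tupOpen U x) from yy x) = toSec A (tupOpen U x) (f (x 0)) •
          ((↑v⁻¹ : Γ(X, tupOpen U x)) • (show Γ(O, tupOpen U x) from yy x))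
        rw [← hv, smul_smul, Units.mul_inv, one_smul]
      have hm : f (x 0) • m = 0 := by
        obtain ⟨m, rfl⟩ := Submodule.Quotient.mk_surjective _ m
        rw [← Submodule.Quotient.mk_smul, Submodule.Quotient.mk_eq_zero]
        exact Ideal.mul_mem_right _ I (Ideal.subset_span ⟨x 0, rfl⟩)
      rw [hw, map_smul, TensorProduct.smul_tmul, hm, TensorProduct.tmul_zero]
  have hT : Subsingleton ((CohIII.TFun L ((0 : ℕ) : ℤ)).obj (ModuleCat.of A (A ⧸ I))) := by
    refine subsingleton_of_forall_eq 0 fun a => ?_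
    obtain ⟨z, rfl⟩ := Groth.FlatCxBase.clsT_surjective L (Groth.FlatCxBase.cochain_next _) _ a
    rw [show z = 0 from Subtype.ext (hkill z.1), map_zero]
  have hH : Subsingleton (Hk L ((0 : ℕ) : ℤ) ⊗[A] (A ⧸ I)) := t.symm.injective.subsingleton
  -- global functions
  let ε : Coh.HH X O 0 ≃+ Γ(X, ⊤) := Sheaf.H.equiv₀ (Coh.toAb O) (T := (⊤ : X.Opens)) isTerminalTop
  have hε : ∀ (c : A) (x : Coh.HH X O 0), ε (c • x) = g c * ε x := fun c x => by
    have h := Sheaf.H.equiv₀_naturality (T := (⊤ : TopologicalSpace.Opens X)) isTerminalTop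
      (Coh.smulAb O (Coh.toGlobal (X ↘ Spec (CommRingCat.of A)) c)) x
    refine h.symm.trans ?_
    rw [Coh.smulAb_app]
    have hres : ∀ q : Coh.Γtop X, Coh.resTop X (op ⊤) q = q := fun q => by
      show (X.ringCatSheaf.obj.map (𝟙 _)).hom q = q
      rw [X.ringCatSheaf.obj.map_id]
      rfl
    erw [hres]
    rfl
  let gE : A ≃+* Γ(X, ⊤) := RingEquiv.ofBijective _ hbij
  let εA : Hk L ((0 : ℕ) : ℤ) ≃ₗ[A] A :=
    (e 0).trans ((ε.trans gE.symm.toAddEquiv).toLinearEquiv fun c x => by
      change gE.symm (ε (c • x)) = c * gE.symm (ε x)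
      rw [hε c x, map_mul]
      exact congrArg (· * _) (gE.symm_apply_apply c))
  have hA : Subsingleton (A ⧸ I) :=
    ((TensorProduct.lid A (A ⧸ I)).symm.trans
      (εA.symm.rTensor (A ⧸ I))).injective.subsingleton
  refine isAffine_of_isAffineOpen_basicOpen (g '' Set.range f) ?_
    (by rintro _ ⟨_, ⟨i, rfl⟩, rfl⟩; exact hr i.1)
  change Ideal.span (Coh.toGlobal (X ↘ Spec (CommRingCat.of A)) '' Set.range f) = ⊤
  rw [← Ideal.map_span (Coh.toGlobal (X ↘ Spec (CommRingCat.of A))),
    show Ideal.span (Set.range f) = ⊤ from Ideal.Quotient.subsingleton_iff.1 hA]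
  exact Ideal.map_top _

lemma affine_aux
    (h : ∀ p : ℕ, 0 < p → Subsingleton (Coh.HH X (Coh.structureModule X) p)) : IsAffine X := by
  let : X.Over (Spec (CommRingCat.of (Γ(X, ⊤) : Type u))) := ⟨X.toSpecΓ⟩
  have : Flat (X ↘ Spec (CommRingCat.of (Γ(X, ⊤) : Type u))) := inferInstanceAs (Flat X.toSpecΓ)
  have hid : ∀ c, Coh.toGlobal (X ↘ Spec (CommRingCat.of (Γ(X, ⊤) : Type u))) c = c := fun c => by
    change X.toSpecΓ.appTop ((Scheme.ΓSpecIso Γ(X, ⊤)).inv c) = _
    rw [Scheme.toSpecΓ_appTop, Iso.inv_hom_id_apply]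
  exact affine_of_model X (Γ(X, ⊤) : Type u)
    ⟨fun a b e => (hid a).symm.trans (e.trans (hid b)), fun c => ⟨c, hid c⟩⟩ h

end Aux

open AlgebraicGeometry in
/-- If X is quasi-affine and H^p(X, O_X) = 0 for all p > 0, then X is affine. -/
theorem result (X : Scheme.{u}) [X.IsQuasiAffine]
    (h : ∀ p : ℕ, 0 < p → Subsingleton (Coh.HH X (Coh.structureModule X) p)) : IsAffine X := by
  exact affine_aux X h

end Groth.Agent.S0043
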