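import Groth.Statements.S0045
import Groth.Agent.CohTwo.SubobjectSections
import Groth.Agent.QCohMod.Coherent

set_option autoImplicit false
universe u
open Coherent

namespace Groth.Agent.S0045

open AlgebraicGeometry CategoryTheory in
/-- On a Noetherian scheme, any increasing sequence of quasi-coherent submodules of a coherent module is
eventually constant. -/
theorem result (X : Scheme.{u}) [IsNoetherian X] (M : X.Modules)
    (hM : Coh.IsCoh M) (F : ℕ →o Subobject M) (hF : ∀ n, Coh.IsQCoh ((F n : Subobject M) : X.Modules)) :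
    ∃ n : ℕ, ∀ m : ℕ, n ≤ m → F m = F n := by
  classical
  have := hM.1
  have hcov : ∀ x : X, ∃ U : X.Opens, IsAffineOpen U ∧ x ∈ U := fun x =>
    Groth.QCohMod.exists_affine_mem x
  choose U hU hx using hcov
  obtain ⟨s, hs⟩ := isCompact_univ.elim_finite_subcover (fun x : X => (U x : Set X))
    (fun x => (U x).2) fun x _ => Set.mem_iUnion.2 ⟨x, hx x⟩
  have key : ∀ x : X, ∃ n : ℕ, ∀ m, n ≤ m →
      Set.range ((F m).arrow.app (U x)) = Set.range ((F n).arrow.app (U x)) := by
    intro x
    have : IsNoetherianRing Γ(X, U x) := IsLocallyNoetherian.component_noetherian ⟨U x, hU x⟩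
    have := Groth.QCohMod.finite_sections M hM.2 (hU x)
    have : IsNoetherian Γ(X, U x) Γ(M, U x) := isNoetherian_of_isNoetherianRing_of_finite _ _
    let S : ℕ →o Submodule Γ(X, U x) Γ(M, U x) :=
      { toFun := fun n => LinearMap.range (Groth.QCohMod.appₗ (F n).arrow (U x))
        monotone' := fun a b hab => by
          rintro _ ⟨t, rfl⟩
          refine ⟨(Subobject.ofLE (F a) (F b) (F.mono hab)).app (U x) t, ?_⟩
          exact congr($(congrArg (fun φ => Scheme.Modules.Hom.app φ (U x))
            (Subobject.ofLE_arrow (F.mono hab))) t) }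
    obtain ⟨n, hn⟩ := monotone_stabilizes_iff_noetherian.2 this S
    exact ⟨n, fun m hm => congrArg (fun P : Submodule Γ(X, U x) Γ(M, U x) => (P : Set Γ(M, U x))) (hn m hm).symm⟩
  choose n hn using key
  refine ⟨s.sup n, fun m hm => ?_⟩
  have := hF m
  have := hF (s.sup n)
  rw [← Subobject.mk_arrow (F m), ← Subobject.mk_arrow (F (s.sup n))]
  refine Groth.CohTwo.subobject_mk_eq_of_cover _ _ (fun i : s => U i) (fun i => hU i)
    (fun x => ?_) fun i => ?_
  · obtain ⟨y, hy, hxy⟩ := Set.mem_iUnion₂.1 (hs (Set.mem_univ x))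
    exact ⟨⟨y, hy⟩, hxy⟩
  · rw [hn i m ((Finset.le_sup i.2).trans hm), hn i _ (Finset.le_sup i.2)]

end Groth.Agent.S0045
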