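import Groth.Statements.S0047
import Groth.Agent.EulerDeg.ClosedSupport
import Groth.Agent.CohTwo.SupportLocal
import Groth.Agent.SiteCohomology.Flasque
import Mathlib.AlgebraicGeometry.Noetherian

set_option autoImplicit false
universe u
open Coherent

namespace Groth.Agent.S0047

open CategoryTheory CategoryTheory.Limits TopologicalSpace Opposite

/-- A sheaf whose stalks vanish outside a closed set all of whose subsets are closed is flasque. -/
theorem isFlasque_of_discrete_support {X : TopCat.{u}} (F : CohTop.Ab X) (C : Set X)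
    (hC : ∀ Z ⊆ C, IsClosed Z) (hF : ∀ x ∉ C, IsZero ((Groth.EulerDeg.stalkAb x).obj F)) :
    TopCat.Sheaf.IsFlasque F := by
  refine ⟨fun {U V} i => (AddCommGrpCat.epi_iff_surjective _).2 fun s => ?_⟩
  let Z : Set X := {x | ∃ hx : x ∈ V.unop, TopCat.Presheaf.germ F.obj V.unop x hx s ≠ 0}
  have hZC : Z ⊆ C := by
    rintro x ⟨hx, hne⟩
    by_contra h
    have := AddCommGrpCat.subsingleton_of_isZero (hF x h)
    exact hne (Subsingleton.elim (α := (Groth.EulerDeg.stalkAb x).obj F) _ _)
  let W : Opens X := ⟨Zᶜ, (hC Z hZC).isOpen_compl⟩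
  obtain ⟨t, ht⟩ := Groth.EulerDeg.exists_extend F (U := V.unop) (W := W)
    (top_unique fun x _ => (em (x ∈ Z)).elim (fun h => Or.inl h.1) Or.inr) s
    (TopCat.Presheaf.section_ext (X := X) F _ _ _ fun x hx => by
      rw [TopCat.Presheaf.germ_res_apply, map_zero]
      by_contra h
      exact hx.2 ⟨hx.1, h⟩)
  refine ⟨F.obj.map (homOfLE (le_top : U.unop ≤ ⊤)).op t, ?_⟩
  rw [← ConcreteCategory.comp_apply, ← Functor.map_comp]
  exact ht

open AlgebraicGeometry in
/-- A closed set of closed points of a locally Noetherian scheme has only closed subsets. -/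
theorem isClosed_of_subset_closed_points {X : Scheme.{u}} [IsLocallyNoetherian X] {C : Set X}
    (hC : IsClosed C) (hpts : ∀ x ∈ C, IsClosed ({x} : Set X)) {Z : Set X} (hZ : Z ⊆ C) : IsClosed Z := by
  refine isOpen_compl_iff.1 (isOpen_iff_forall_mem_open.2 fun x hx => ?_)
  obtain ⟨U, hU, hxU⟩ := Groth.QCohMod.exists_affine_mem x
  have : IsNoetherianRing Γ(X, U) := IsLocallyNoetherian.component_noetherian ⟨U, hU⟩
  have := noetherianSpace_of_isAffineOpen U hU
  have hfin : ((Subtype.val : U → X) ⁻¹' C).Finite :=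
    (Groth.EulerDeg.finite_and_isClosed_of_closed_points (X := TopCat.of (U : Scheme.{u}))
      isOpen_univ (Set.subset_univ _)
      (by rw [Set.inter_univ]; exact ((hC.preimage continuous_subtype_val).closure_eq).le)
      (fun z hz => by
        have h := (hpts _ hz).preimage (continuous_subtype_val (p := fun y => y ∈ U))
        rwa [show Subtype.val ⁻¹' ({z.1} : Set X) = {z} from
          Set.ext fun w => Subtype.val_injective.eq_iff] at h)).1
  refine ⟨(U : Set X) \ (Z ∩ U), fun y hy hyZ => hy.2 ⟨hyZ, hy.1⟩, U.2.sdiff ?_, hxU, fun h => hx h.1⟩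
  have hf : (Z ∩ U).Finite := (hfin.image Subtype.val).subset
    fun y hy => ⟨⟨y, hy.2⟩, hZ hy.1, rfl⟩
  rw [← Set.biUnion_of_singleton (Z ∩ U)]
  exact hf.isClosed_biUnion fun y hy => hpts y (hZ hy.1)

open AlgebraicGeometry in
/-- On a locally Noetherian scheme, a coherent module whose support consists of closed points (i.e. has
dimension ≤ 0) satisfies H^i(X, F) = 0 for all i > 0. (Global generation is not stated.) -/
theorem result (X : Scheme.{u}) [IsLocallyNoetherian X]
    (M : X.Modules) (hM : Coh.IsCoh M) (h0 : ∀ x ∈ CohB1.support M, IsClosed ({x} : Set X))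
    (i : ℕ) (hi : 0 < i) : Subsingleton (Coh.HH X M i) := by
  obtain ⟨n, rfl⟩ : ∃ n, i = n + 1 := ⟨i - 1, by omega⟩
  have : TopCat.Sheaf.IsFlasque (X := X.carrier) (Coh.toAb M) :=
    isFlasque_of_discrete_support (X := X.carrier) (Coh.toAb M) (CohB1.support M)
      (fun Z hZ => isClosed_of_subset_closed_points (Groth.CohTwo.isClosed_support M hM) h0 hZ)
      (fun x hx => by
        have : Subsingleton (M.presheaf.stalk x) := not_not.1 hx
        exact AddCommGrpCat.isZero_of_subsingleton (M.presheaf.stalk x))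
  exact Groth.SiteCohomology.subsingleton_H_succ_of_flasque (X := X.carrier) (Coh.toAb M) n

end Groth.Agent.S0047
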