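import Groth.Statements.S0048
import Mathlib
import Groth.Agent.QCohMod.Local
import Groth.Agent.QCohMod.FTCriterion
import Groth.Agent.QCohMod.QCQS
import Groth.Agent.QCohMod.OpenSupport
-- import your own Groth.Agent.* helpers here

set_option autoImplicit false
universe u
open Coherent

open CategoryTheory
namespace Groth.Agent.S0048

open AlgebraicGeometry in
/-- Let U ⊆ X be open and T ⊆ U a subset closed in X. If F is a coherent (quasi-coherent of finite type,
i.e. `Coh.IsCoh`) module on U with support contained in T, then its direct image along U ↪ X is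
again coherent in the same sense. (The published statement is for coherent modules in the usual
sense; here both hypothesis and conclusion use the notion `Coh.IsCoh`.) -/
theorem result (X : Scheme.{u}) (U : X.Opens) (T : Set X)
    (hT : IsClosed T) (hTU : T ⊆ (U : Set X)) (F : (↑U : Scheme.{u}).Modules) (hF : Coh.IsCoh F)
    (hs : ∀ x : ↥U, x ∈ CohB1.support F → (x : X) ∈ T) : Coh.IsCoh ((Coh.push U.ι).obj F) := by
  haveI := hF.1
  let M := (Scheme.Modules.pushforward U.ι).obj F
  let j := U.ι
  have cover : ∀ x : X, ∃ W : X.Opens, IsAffineOpen W ∧ x ∈ W ∧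
      (W ≤ U ∨ ∀ W' : X.Opens, W' ≤ W → Subsingleton Γ(M, W')) := fun x => by
    by_cases hx : x ∈ U
    · obtain ⟨_, ⟨W, hW, rfl⟩, hxW, hWU⟩ :=
        X.isBasis_affineOpens.exists_subset_of_mem_open (show x ∈ (U : Set X) from hx) U.2
      exact ⟨W, hW, hxW, Or.inl hWU⟩
    · obtain ⟨_, ⟨W, hW, rfl⟩, hxW, hWT⟩ := X.isBasis_affineOpens.exists_subset_of_mem_open
        (show x ∈ Tᶜ from fun h => hx (hTU h)) hT.isOpen_compl
      refine ⟨W, hW, hxW, Or.inr fun W' hW' => ?_⟩
      haveI : Subsingleton Γ(F, j ⁻¹ᵁ W') := by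
        refine ⟨fun a b => TopCat.Presheaf.section_ext ⟨F.presheaf, F.isSheaf⟩ _ a b fun z hz => ?_⟩
        haveI : Subsingleton ↑(F.presheaf.stalk z) :=
          not_not.1 fun h => hWT (hW' hz) (hs z h)
        exact Subsingleton.elim (α := F.presheaf.stalk z) _ _
      exact (Groth.QCohMod.pushEquiv j F W').toEquiv.subsingleton
  haveI : M.IsQuasicoherent := Groth.QCohMod.isQCoh_of_affine_cover M fun x => by
    obtain ⟨W, hW, hxW, hcase⟩ := cover x
    refine ⟨W, hW, hxW, ?_⟩
    rcases hcase with hWU | hzero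
    · have hW' : IsAffineOpen (j ⁻¹ᵁ W) := hW.preimage_of_isOpenImmersion j (by simpa [j] using hWU)
      have hb : ∀ f : Γ(X, W), j ⁻¹ᵁ X.basicOpen f = (↑U : Scheme.{u}).basicOpen (j.app W f) :=
        fun f => Scheme.preimage_basicOpen j f
      refine ⟨fun f s => ?_, fun f t ht => ?_⟩
      · obtain ⟨n, t, ht⟩ := Groth.QCohMod.exists_pow_smul_eq_res F hW' (j.app W f)
          (Groth.QCohMod.res F (hb f).ge (Groth.QCohMod.pushEquiv j F _ s))
        refine ⟨n, (Groth.QCohMod.pushEquiv j F W).symm t, (Groth.QCohMod.pushEquiv j F _).injective ?_⟩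
        have h2 := congrArg (Groth.QCohMod.res F (hb f).le) ht
        rw [Groth.QCohMod.res_res, Groth.QCohMod.res_smul, Groth.QCohMod.res_res,
          Groth.QCohMod.res_self] at h2
        rw [Groth.QCohMod.pushEquiv_res, AddEquiv.apply_symm_apply, Groth.QCohMod.pushEquiv_smul]
        refine h2.trans (congrArg (fun a => a • Groth.QCohMod.pushEquiv j F _ s) ?_)
        rw [map_pow, map_pow]
        congr 1
        show (↑U : Scheme.{u}).presheaf.map _ ((↑U : Scheme.{u}).presheaf.map _ (j.app W f)) =
          j.app (X.basicOpen f) (X.presheaf.map _ f)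
        rw [← ConcreteCategory.comp_apply, ← Functor.map_comp]
        exact (congr($(j.naturality (homOfLE (X.basicOpen_le f)).op) f)).symm
      · obtain ⟨n, hn⟩ := Groth.QCohMod.exists_pow_smul_eq_zero F hW' (j.app W f)
          (Groth.QCohMod.pushEquiv j F W t) (by
            have := congrArg (Groth.QCohMod.pushEquiv j F _) ht
            rw [Groth.QCohMod.pushEquiv_res, map_zero] at this
            rw [← Groth.QCohMod.res_res F (j.preimage_mono (X.basicOpen_le f)) (hb f).ge, this, map_zero])
        refine ⟨n, (Groth.QCohMod.pushEquiv j F W).injective ?_⟩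
        rw [Groth.QCohMod.pushEquiv_smul, map_pow, map_zero]
        exact hn
    · exact ⟨fun f s => ⟨0, 0, @Subsingleton.elim _ (hzero _ (X.basicOpen_le f)) _ _⟩,
        fun f t _ => ⟨0, @Subsingleton.elim _ (hzero W le_rfl) _ _⟩⟩
  refine ⟨inferInstanceAs M.IsQuasicoherent, Groth.QCohMod.isFT_of_affine_cover M fun x => ?_⟩
  obtain ⟨W, hW, hxW, hcase⟩ := cover x
  refine ⟨W, hW, hxW, ?_⟩
  rcases hcase with hWU | hzero
  · have hW' : IsAffineOpen (j ⁻¹ᵁ W) := hW.preimage_of_isOpenImmersion j (by simpa [j] using hWU)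
    obtain ⟨G, hG⟩ := (Groth.QCohMod.finite_sections F hF.2 hW').fg_top
    refine ⟨⟨G.map (Groth.QCohMod.pushEquiv j F W).symm.toEquiv.toEmbedding, eq_top_iff.2 fun y _ => ?_⟩⟩
    obtain ⟨z, rfl⟩ := (Groth.QCohMod.pushEquiv j F W).symm.surjective y
    have hz : z ∈ Submodule.span Γ((↑U : Scheme.{u}), j ⁻¹ᵁ W) (G : Set Γ(F, j ⁻¹ᵁ W)) :=
      hG.ge Submodule.mem_top
    induction hz using Submodule.span_induction with
    | mem s hs => exact Submodule.subset_span (Finset.mem_map_of_mem _ hs)
    | zero => rw [map_zero]; exact zero_mem _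
    | add a b _ _ ha hb => rw [map_add]; exact add_mem (ha trivial) (hb trivial)
    | smul c a _ ha =>
      haveI : IsIso (j.app W) := j.isIso_app W (by simpa [j] using hWU)
      obtain ⟨c, rfl⟩ := (ConcreteCategory.bijective_of_isIso (j.app W)).2 c
      have : (Groth.QCohMod.pushEquiv j F W).symm (j.app W c • a) =
          c • (Groth.QCohMod.pushEquiv j F W).symm a := rfl
      rw [this]
      exact Submodule.smul_mem _ _ (ha trivial)
  · haveI := hzero W le_rfl
    infer_instance

end Groth.Agent.S0048
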