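import Groth.Statements.S0049
import Groth.Agent.CohDev.Steps
-- import your own Groth.Agent.* helpers here

set_option autoImplicit false
universe u
open Coherent

namespace Groth.Agent.S0049

open AlgebraicGeometry CategoryTheory in
/-- On a Noetherian scheme, if the support of a coherent module F is the union of closed sets Z and Z',
there is a short exact sequence 0 → G' → F → G → 0 of coherent modules with G' supported in Z' and G
supported in Z. -/
theorem result (X : Scheme.{u}) [IsNoetherian X] (M : X.Modules) (hM : Coh.IsCoh M)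
    (Z Z' : Set X) (hZ : IsClosed Z) (hZ' : IsClosed Z') (h : CohB1.support M = Z ∪ Z') :
    ∃ S : ShortComplex X.Modules, S.ShortExact ∧ Nonempty (S.X₂ ≅ M) ∧ Coh.IsCoh S.X₁ ∧ Coh.IsCoh S.X₃ ∧
      CohB1.support S.X₁ ⊆ Z' ∧ CohB1.support S.X₃ ⊆ Z := by
  haveI := hM.1
  let Y₁ : TopologicalSpace.Closeds X := ⟨Z, hZ⟩
  let Y₂ : TopologicalSpace.Closeds X := ⟨Z', hZ'⟩
  let J₁ := Scheme.IdealSheafData.vanishingIdeal Y₁
  let J₂ := Scheme.IdealSheafData.vanishingIdeal Y₂
  obtain ⟨m, hm⟩ := Groth.CohTwo.exists_killed_pow hM (J₁ * J₂) (by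
    intro x hx
    rw [Scheme.IdealSheafData.support_mul]
    rcases h.le hx with h' | h'
    · exact Or.inl ((Scheme.IdealSheafData.coe_support_vanishingIdeal Y₁).ge h')
    · exact Or.inr ((Scheme.IdealSheafData.coe_support_vanishingIdeal Y₂).ge h'))
  haveI := Groth.CohTwo.isQCoh_idealMul (J₁ ^ m) M
  have hA := Groth.CohTwo.isCoh_idealMul (J₁ ^ m) M hM
  have hC := Groth.QCohMod.isCoh_cokernel (Dual3.idealMulι (J₁ ^ m) M) hM
  refine ⟨Groth.CohTwo.cokerSeq (Dual3.idealMulι (J₁ ^ m) M), Groth.CohTwo.cokerSeq_shortExact _,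
    ⟨Iso.refl _⟩, hA, hC, ?_, ?_⟩
  · have hk : Groth.CohTwo.Killed (J₂ ^ m) ((Dual3.idealMul (J₁ ^ m)).obj M) :=
      Groth.CohTwo.killed_of_smul_eq_zero fun V hV a ha w => by
        refine Groth.QCohMod.app_injective_of_mono (Dual3.idealMulι (J₁ ^ m) M) _ ?_
        rw [map_zero, Scheme.Modules.Hom.app_smul]
        refine Submodule.smul_induction_on ((Groth.CohTwo.range_idealMulι_pow J₁ m M hV _).1 ⟨w, rfl⟩)
          (fun r hr z _ => ?_) (fun p q hp hq => by rw [smul_add, hp, hq, add_zero])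
        rw [← mul_smul]
        refine hm.smul_eq_zero hV ?_ z
        rw [mul_pow, Scheme.IdealSheafData.ideal_mul, Pi.mul_apply, mul_comm a r]
        refine Ideal.mul_mem_mul ?_ ha
        rwa [Scheme.IdealSheafData.ideal_pow, Pi.pow_apply]
    intro x hx
    have h1 := hk.support_subset hx
    by_contra hx2
    exact Groth.CohTwo.notMem_support_pow J₂ (x := x)
      (fun hh => hx2 ((Scheme.IdealSheafData.coe_support_vanishingIdeal Y₂).le hh)) m h1
  · intro x hx
    by_contra hx1
    exact Groth.CohTwo.notMem_support_cokernel _ x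
      (Groth.CohTwo.bijective_stalk_idealMulι _ M (Groth.CohTwo.notMem_support_pow J₁ (x := x)
        (fun hh => hx1 ((Scheme.IdealSheafData.coe_support_vanishingIdeal Y₁).le hh)) m)).2 hx

end Groth.Agent.S0049
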