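import Groth.Statements.S0054
import Groth.Agent.AmpleFibre.Nhd

set_option autoImplicit false
universe u
open Coherent

namespace Groth.Agent.S0054

open AlgebraicGeometry CategoryTheory in
/-- Let f : X → Y be proper with Y Noetherian, L invertible on X, and y a point such that the pullback
of L to the fibre X_y is ample. Then there is an open neighbourhood V of y such that L is ample on
f⁻¹(W) for every affine open W ⊆ V (i.e. L is relatively ample over V). -/
theorem result {X Y : Scheme.{u}} (f : X ⟶ Y) [IsProper f] [IsNoetherian Y]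
    (L : X.Modules) (hL : PicF.IsInvertible L) (y : Y)
    (hy : CohB1.IsAmple ((Scheme.Modules.pullback (f.fiberι y)).obj L)) :
    ∃ V : Y.Opens, y ∈ V ∧ ∀ W : Y.Opens, W ≤ V → IsAffineOpen W →
      CohB1.IsAmple (L.restrict (f ⁻¹ᵁ W).ι) := by
  obtain ⟨V, -, hyV, hA⟩ := Groth.AmpleFibre.exists_nhd_isAmple f y hL hy
  refine ⟨V, hyV, fun W hW hWaff => ?_⟩
  haveI : CompactSpace ((f ⁻¹ᵁ W : X.Opens) : Scheme) :=
    isCompact_iff_compactSpace.1 (f.isCompact_preimage hWaff.isCompact)
  exact Groth.Ega2Proj.isAmple_restrict_of_range_le _ (f ⁻¹ᵁ V).ι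
    (show Set.range (f ⁻¹ᵁ W).ι ⊆ Set.range (f ⁻¹ᵁ V).ι from by
      rw [Scheme.Opens.range_ι, Scheme.Opens.range_ι]; exact f.preimage_mono hW) hA

end Groth.Agent.S0054
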