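import Groth.Statements.S0058
import Mathlib
import Groth.Agent.CohC3.AdicSeq
import Groth.Agent.CohC3.ProperHelpers
import Groth.Agent.CohC3.Completion

set_option autoImplicit false
universe u
open Coherent

namespace Groth.Agent.S0058

open AlgebraicGeometry CategoryTheory Opposite in
/-- Part (3) (which implies the Mittag-Leffler condition (2)). Same setting as part (1): there is c such
that for all n and all k ≥ n + c, the image of H^p(X, F/I^(k+1)F) → H^p(X, F/I^(n+1)F) equals the
image of H^p(X, F) → H^p(X, F/I^(n+1)F). -/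
theorem result (A : Type u) [CommRing A] [IsNoetherianRing A]
    (I : Ideal A) (X : Scheme.{u}) [X.Over (Spec (CommRingCat.of A))]
    [IsProper (X ↘ Spec (CommRingCat.of A))] (M : X.Modules) (hM : Coh.IsCoh M) (p : ℕ) :
    ∃ c : ℕ, ∀ (n k : ℕ) (h : n ≤ k), n + c ≤ k →
      Set.range (Sheaf.H.map ((SheafOfModules.toSheaf X.ringCatSheaf).map
        ((Formal.completion I M).map (homOfLE h).op)) p) = Set.range (Formal.toHHmodPow I M p n) := by
  have := Groth.CohC3.isNoetherian_of_proper A X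
  have hP := Groth.CohC3.finClass_isCoh (fun G hG q => Groth.CohC3.finite_HH_of_proper A X hG q)
  obtain ⟨c, hc⟩ := Groth.CohC3.exists_range_qTr_le hP (fun n => Groth.CohC3.isCoh_powSub (I := I) hM n) hM p
  refine ⟨c, fun n k h hk => ?_⟩
  have e : (Formal.completion I M).map (homOfLE h).op =
      Groth.CohC3.qTr M (Ideal.pow_le_pow_right (Nat.succ_le_succ h) : I ^ (k + 1) ≤ I ^ (n + 1)) :=
    (Groth.CohC3.isQuot_modPowπ I (k + 1) M).hom_ext
      ((Groth.CohC3.modPowπ_sysMap I M h).trans (Groth.CohC3.modPowπ_qTr M _).symm)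
  rw [e]
  refine Set.Subset.antisymm ?_ ?_
  · rintro _ ⟨y, rfl⟩
    exact hc (n + 1) (k + 1) (by omega) (by omega) y
  · rintro _ ⟨x, rfl⟩
    exact ⟨Groth.CohC3.hmap A (Formal.modPowπ I (k + 1) M) p x,
      (Groth.CohC3.hmap_comp (A := A) _ _ p x).trans (congrArg (fun φ => Groth.CohC3.hmap A φ p x) (Groth.CohC3.modPowπ_qTr M (Ideal.pow_le_pow_right (Nat.succ_le_succ h) : I ^ (k + 1) ≤ I ^ (n + 1))))⟩

end Groth.Agent.S0058
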