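import Groth.Statements.S0059
import Mathlib
import Groth.Agent.CohC3.FFConsequences
import Groth.Agent.CohC3.ProperHelpers

set_option autoImplicit false
universe u
open Coherent

namespace Groth.Agent.S0059

open AlgebraicGeometry CategoryTheory in
/-- Theorem on formal functions, in the following form: let A be a Noetherian ring, I an ideal of A, X a
scheme proper over Spec A and F a coherent O_X-module. Then for every p the I-adic completion of
H^p(X, F) is isomorphic, as an additive group, to the inverse limit of the groups H^p(X, F/IⁿF).
Only the existence of an isomorphism is asserted; the published statement is stronger: the canonical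
map is such an isomorphism (and a homeomorphism). The canonical form is the subject of companion
statements. -/
theorem result (A : Type u) [CommRing A] [IsNoetherianRing A] (I : Ideal A)
    (X : Scheme.{u}) [X.Over (Spec (CommRingCat.of A))] [IsProper (X ↘ Spec (CommRingCat.of A))]
    (M : X.Modules) (hM : Coh.IsCoh M) (p : ℕ) :
    Nonempty (AdicCompletion I (Coh.HH X M p) ≃+ Formal.HHlim I M p) := by
  haveI := Groth.CohC3.isNoetherian_of_proper A X
  exact ⟨AddEquiv.ofBijective (Groth.CohC3.completionToLim I M p)
    (Groth.CohC3.proBij I hM (fun q => Groth.CohC3.finite_HH_of_proper A X hM q) p).completionToLim_bijective⟩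

end Groth.Agent.S0059
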