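import Groth.Statements.S0062
import Groth.Agent.AmpleFibre.Nhd
import Groth.Agent.CohBase.StalkRpush
import Groth.Agent.CohBase.RpushAb
import Groth.Agent.SiteCohomology.ModulesInjective

set_option autoImplicit false
universe u
open Coherent

namespace Groth.Agent.S0062

open AlgebraicGeometry CategoryTheory in
/-- Let f : X → Y be proper with Y Noetherian, L invertible on X, F coherent on X, and y a point such
that the pullback of L to the fibre X_y is ample. Then there is d₀ such that for all d ≥ d₀ and p >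
0 the stalk at y of R^p f_*(F ⊗ L^{⊗d}) vanishes. (The surjectivity assertion on global sections of
the fibre is not stated.) -/
theorem result {X Y : Scheme.{u}} (f : X ⟶ Y) [IsProper f]
    [IsNoetherian Y] (L : X.Modules) (hL : PicF.IsInvertible L) (M : X.Modules) (hM : Coh.IsCoh M) (y : Y)
    (hy : CohB1.IsAmple ((Scheme.Modules.pullback (f.fiberι y)).obj L)) :
    ∃ d₀ : ℕ, ∀ d : ℕ, d₀ ≤ d → ∀ p : ℕ, 0 < p →
      Limits.IsZero (TopCat.Presheaf.stalk
        ((Coh.RpushAb f p).obj (Coh.toAb (CohB1.tensorMod M (CohB1.tensorPow L d)))).obj y) := by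
  haveI : IsLocallyNoetherian X := LocallyOfFiniteType.isLocallyNoetherian f
  let A := Y.presheaf.stalk y
  let X₁ := Limits.pullback f (Y.fromSpecStalk y)
  let q : X₁ ⟶ Spec (CommRingCat.of A) := Limits.pullback.snd f (Y.fromSpecStalk y)
  let g : X₁ ⟶ X := Limits.pullback.fst f (Y.fromSpecStalk y)
  haveI : IsProper q := MorphismProperty.pullback_snd (P := @IsProper) _ _ ‹_›
  letI : X₁.Over (Spec (CommRingCat.of A)) := ⟨q⟩
  haveI : IsNoetherianRing A := inferInstance
  have ha := Groth.AmpleFibre.isAmple_local f y hL hy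
  haveI := hM.1
  haveI := Groth.QCohMod.isQCoh_pullback_obj g M
  haveI : IsAffineHom (Limits.pullback.fst q (CohB1.specQuot (⊥ : Ideal A) 0)) :=
    MorphismProperty.pullback_fst (P := @IsAffineHom) _ _ (isAffineHom_of_isAffine _)
  obtain ⟨d₀, hd₀⟩ := Groth.AmpleFibre.exists_vanishing q (J := ⊥) bot_le
    (Groth.PicAux.isInvertible_pullback g hL)
    (Groth.Chow.isAmple_pullback_of_isAffineHom _ ha)
    _ ⟨inferInstance, Groth.QCohMod.isFT_pullback g M hM.2⟩
  refine ⟨d₀, fun d hd p hp => ?_⟩
  let H := CohB1.tensorMod M (CohB1.tensorPow L d)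
  haveI := Groth.PicAux.isQCoh_of_isInvertible (Groth.PicAux.isInvertible_tensorPow hL d)
  haveI : H.IsQuasicoherent := Groth.QCohMod.isQCoh_tensorMod
  haveI := Groth.CohBase.isQCoh_Rpush f p (M := H)
  obtain ⟨e⟩ := Groth.CohBase.exists_stalk_Rpush_linEquiv f H y p X₁ g
    (IsPullback.of_hasPullback f (Y.fromSpecStalk y))
  have h1 : Subsingleton (Coh.HH X₁ ((Scheme.Modules.pullback g).obj H) p) :=
    Groth.PnCoh.subsingleton_HH_of_iso q
      ((Groth.PicAux.exists_pullback_tensorMod g M (CohB1.tensorPow L d)).choose ≪≫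
        PicGrp.tensorModIso (Iso.refl _) (Groth.PicAux.pullback_tensorPow g L d).some).symm
      (hd₀ d hd p hp)
  have h2 : Subsingleton (((Coh.Rpush f p).obj H).presheaf.stalk y) :=
    e.toEquiv.subsingleton
  obtain ⟨α⟩ := Groth.CohBase.nonempty_toAb_Rpush_iso f p (M := H)
  have h3 : Limits.IsZero (TopCat.Presheaf.stalk (Coh.toAb ((Coh.Rpush f p).obj H)).obj y) :=
    @AddCommGrpCat.isZero_of_subsingleton _ h2
  exact h3.of_iso ((TopCat.Presheaf.stalkFunctor AddCommGrpCat y).mapIso
    ((sheafToPresheaf _ _).mapIso α)).symm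

end Groth.Agent.S0062
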