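import Groth.Statements.S0064
import Groth.Agent.EtaleBase.Sections
-- import your own Groth.Agent.* helpers here

set_option autoImplicit false
open CategoryTheory CategoryTheory.Limits AlgebraicGeometry Opposite
universe u
open EtBase

namespace Groth.Agent.S0064

/-- Let S be a Noetherian scheme, X → S a quasi-compact, separated, unramified morphism (formally
unramified and locally of finite type), and Y a Noetherian scheme with a morphism Y → S. Then there
are only finitely many S-morphisms Y → X. The published statement does not assume X → S separated;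
it is stated here in the separated case. -/
theorem result {X S Y : Scheme.{u}} [IsNoetherian S] [IsNoetherian Y]
    (π : X ⟶ S) [FormallyUnramified π] [LocallyOfFiniteType π] [QuasiCompact π] [IsSeparated π]
    (h : Y ⟶ S) : Set.Finite {f : Y ⟶ X | f ≫ π = h} := by
  have := Groth.EtaleBase.finite_connectedComponents Y
  have hclosed : ∀ c : ConnectedComponents Y, IsClosed (ConnectedComponents.mk ⁻¹' {c}) := fun c => by
    obtain ⟨x, rfl⟩ := ConnectedComponents.surjective_coe c
    have : ConnectedComponents.mk ⁻¹' {ConnectedComponents.mk x} = connectedComponent x := by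
      ext z
      exact ConnectedComponents.coe_eq_coe'
    rw [this]
    exact isClosed_connectedComponent
  have hopen : ∀ c : ConnectedComponents Y, IsOpen (ConnectedComponents.mk ⁻¹' {c}) := fun c => by
    have : ConnectedComponents.mk ⁻¹' {c} =
        (⋃ d : {d : ConnectedComponents Y // d ≠ c}, ConnectedComponents.mk ⁻¹' {d.1})ᶜ := by
      ext z
      simp only [Set.mem_compl_iff, Set.mem_iUnion, Set.mem_preimage, Set.mem_singleton_iff]
      exact ⟨fun h ⟨d, hd⟩ => d.2 (hd.symm.trans h), fun h => not_not.1 fun h' => h ⟨⟨_, h'⟩, rfl⟩⟩
    rw [this]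
    exact (isClosed_iUnion_of_finite
      fun d : {d : ConnectedComponents Y // d ≠ c} => hclosed d.1).isOpen_compl
  choose y hy using ConnectedComponents.surjective_coe (α := Y)
  have := fun c => Groth.EtaleBase.finite_field_points π (Y.residueField (y c))
    (Y.fromSpecResidueField (y c) ≫ h)
  refine Set.finite_coe_iff.1 (Finite.of_injective
    (fun (f : {f : Y ⟶ X | f ≫ π = h}) (c : ConnectedComponents Y) =>
      (⟨Y.fromSpecResidueField (y c) ≫ f.1, by rw [Category.assoc, f.2]⟩ :
        {t : Spec (CommRingCat.of (Y.residueField (y c))) ⟶ X //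
          t ≫ π = Y.fromSpecResidueField (y c) ≫ h})) fun f g hfg => ?_)
  apply Subtype.ext
  let U : ConnectedComponents Y → Y.Opens := fun c => ⟨_, hopen c⟩
  refine Scheme.Cover.hom_ext (Y.openCoverOfIsOpenCover U ?_) _ _ fun c => ?_
  · rw [TopologicalSpace.IsOpenCover, eq_top_iff]
    exact fun x _ => TopologicalSpace.Opens.mem_iSup.2 ⟨_, show ConnectedComponents.mk x = _ from rfl⟩
  · change (U c).ι ≫ f.1 = (U c).ι ≫ g.1
    have hU : (U c : Set Y) = connectedComponent (y c) := by
      ext x
      simp only [U, TopologicalSpace.Opens.coe_mk, Set.mem_preimage, Set.mem_singleton_iff]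
      rw [← ConnectedComponents.coe_eq_coe', hy c]
    have : ConnectedSpace ↥(U c : Scheme.{u}) :=
      isConnected_iff_connectedSpace.1 (hU.symm ▸ isConnected_connectedComponent)
    let y' : (U c : Scheme.{u}) := ⟨y c, hU.superset mem_connectedComponent⟩
    refine Groth.EtaleBase.eq_of_agree_at_point π _ _ (by rw [Category.assoc, Category.assoc, f.2, g.2]) y' ?_
    have h1 := Scheme.Hom.SpecMap_residueFieldMap_fromSpecResidueField (U c).ι y'
    have h2 := congrArg Subtype.val (congrFun hfg c)
    rw [← Category.assoc, ← Category.assoc, ← h1, Category.assoc, Category.assoc]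
    exact congrArg _ h2

end Groth.Agent.S0064
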