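import Groth.Statements.S0109
import Groth.Agent.Misc3Zar.GaCompare
import Groth.Agent.S0007

set_option autoImplicit false
open CategoryTheory CategoryTheory.Limits AlgebraicGeometry Opposite
universe u
open EtBase

namespace Groth.Agent.S0109

/-- On an affine scheme S, the étale cohomology H^p(S_ét, G_a) of the additive group sheaf (the
structure sheaf) vanishes for every p ≥ 1. -/
theorem result (S : Scheme.{u}) [IsAffine S] (p : ℕ) (hp : 1 ≤ p) : Subsingleton (EtCoh.H S (EtCoh.Ga S) p) := by
  obtain ⟨e⟩ := Groth.Misc3Zar.nonempty_H_Ga S p
  haveI : (Coh.structureModule S).IsQuasicoherent := inferInstance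
  haveI := Groth.Agent.S0007.result S (Coh.structureModule S) p (by omega)
  exact e.toEquiv.subsingleton

end Groth.Agent.S0109
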