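import Groth.Statements.S0103
import Groth.Agent.Misc3Zar.ArtinSchreier
import Groth.Agent.Misc3Zar.AffineVanish
import Groth.Agent.S0109
import Groth.Agent.S18415

set_option autoImplicit false
open CategoryTheory CategoryTheory.Limits AlgebraicGeometry Opposite
universe u
open EtBase

namespace Groth.Agent.S0103

/-- Let S be an affine scheme whose ring of global sections has prime characteristic p. Then the étale
cohomology H^q(S, Z/p) with constant Z/p coefficients vanishes for every q ≥ 2. -/
theorem result (S : Scheme.{u}) [IsAffine S] (p : ℕ) [Fact p.Prime] [CharP Γ(S, ⊤) p]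
    (q : ℕ) (hq : 2 ≤ q) : Subsingleton (EtCoh.H S (EtCoh.const S (ZMod p)) q) := by
  obtain ⟨n, rfl⟩ : ∃ n, q = n + 1 := ⟨q - 1, by omega⟩
  have hp : p.Prime := Fact.out
  have h0 : (p : Γ(S, ⊤)) = 0 := CharP.cast_eq_zero _ p
  let f := W4c5etcohweilstudent.artinSchreierEndo S p hp h0
  haveI : Epi f := Groth.Agent.S18415.result p hp h0
  obtain ⟨e⟩ := Groth.Misc3Zar.AS.nonempty_kernel_iso_const p hp h0
  let D := ShortComplex.mk (kernel.ι f) f (kernel.condition _)
  have hD : D.ShortExact := ⟨ShortComplex.exact_of_f_is_kernel D (kernelIsKernel _)⟩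
  haveI h1 : Subsingleton ((EtCoh.HF S (n + 1)).obj D.X₁) :=
    Groth.Misc3Zar.subsingleton_ext_one_succ hD (Groth.Agent.S0109.result S (n + 1) (by omega))
      (Groth.Agent.S0109.result S n (by omega))
  exact (((EtCoh.HF S (n + 1)).mapIso (e.symm : _ ≅ D.X₁)).addCommGroupIsoToAddEquiv.toEquiv).subsingleton

end Groth.Agent.S0103
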