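import Groth.Statements.S0148
import Groth.Agent.EtPbc.FieldCdTrdeg
-- import your own Groth.Agent.* helpers here

set_option autoImplicit false
set_option backward.isDefEq.respectTransparency.types false
universe u
open CategoryTheory CategoryTheory.Limits AlgebraicGeometry Opposite
open EtPBC

namespace Groth.Agent.S0148

/-- For a field extension L/K with cd(K) <= e and transcendence degree <= n one has cd(L) <= e + n. -/
theorem result (K L : Type u) [Field K] [Field L] [Algebra K L]
    (e n : ℕ) (hK : EtCoh.CohDimLE (Spec (CommRingCat.of K)) e) (htr : Algebra.trdeg K L ≤ n) :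
    EtCoh.CohDimLE (Spec (CommRingCat.of L)) (e + n) := by
  intro F hF q hq
  refine Groth.FieldPush.subsingleton_H_torsion_of_killed hF q fun N C hN hC => ?_
  exact Groth.FieldPush.CdK.trdeg_le hN n e K L htr (fun G hG r hr => hK G (Groth.FieldPush.isTorsion_of_nsmul hN hG) r hr) C hC q hq

end Groth.Agent.S0148
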