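import Groth.Statements.S0152
import Groth.Agent.SpectralTopology.Spectral
-- import your own Groth.Agent.* helpers here

set_option autoImplicit false
universe u
open EtPBC

namespace Groth.Agent.S0152

/-- Let X be a spectral space and Z a closed subset such that Z meets the closure of every point of X in
a connected (nonempty) set. If Z is the disjoint union of two closed subsets Z_1, Z_2 then X is the
disjoint union of closed subsets X_1, X_2 with Z_i = Z ∩ X_i. -/
theorem result (X : Type u) [TopologicalSpace X] [SpectralSpace X]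
    (Z : Set X) (hZ : IsClosed Z)
    (hconn : ∀ x : X, IsConnected (Z ∩ closure {x}))
    (Z₁ Z₂ : Set X) (h₁ : IsClosed Z₁) (h₂ : IsClosed Z₂) (hdisj : Disjoint Z₁ Z₂) (hunion : Z₁ ∪ Z₂ = Z) :
    ∃ X₁ X₂ : Set X, IsClosed X₁ ∧ IsClosed X₂ ∧ Disjoint X₁ X₂ ∧ X₁ ∪ X₂ = Set.univ ∧
      Z₁ = Z ∩ X₁ ∧ Z₂ = Z ∩ X₂ := by
  classical
  let G : Set X → Set X := fun W => {x | (W ∩ closure {x}).Nonempty}
  have hexcl : ∀ (x : X), x ∈ G Z₁ → x ∈ G Z₂ → False := by
    intro x h1 h2
    have hp := (hconn x).isPreconnected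
    rw [isPreconnected_closed_iff] at hp
    obtain ⟨y, -, hy1, hy2⟩ := hp Z₁ Z₂ h₁ h₂ (fun y hy => hunion.ge hy.1)
      (h1.imp fun y hy => ⟨⟨hunion.le (Or.inl hy.1), hy.2⟩, hy.1⟩)
      (h2.imp fun y hy => ⟨⟨hunion.le (Or.inr hy.1), hy.2⟩, hy.1⟩)
    exact Set.disjoint_left.1 hdisj hy1 hy2
  have htot : ∀ x, x ∈ G Z₁ ∨ x ∈ G Z₂ := by
    intro x
    obtain ⟨y, hy, hyx⟩ := (hconn x).nonempty
    rcases hunion.ge hy with h | h
    · exact Or.inl ⟨y, h, hyx⟩
    · exact Or.inr ⟨y, h, hyx⟩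
  have hct : ∀ W : Set X, IsClosed W → @IsClosed X (constructibleTopology X) (G W) := by
    intro W hW
    have he : G W = ⋂ U : {U : Set X // IsOpen U ∧ IsCompact U ∧ W ⊆ U}, U.1 := by
      ext x
      simp only [Set.mem_iInter]
      constructor
      · rintro ⟨y, hy, hyx⟩ U
        exact (specializes_iff_mem_closure.2 hyx).mem_open U.2.1 (U.2.2.2 hy)
      · intro hx
        by_contra hne
        have hsub : W ⊆ (closure {x})ᶜ := fun y hy hyx => hne ⟨y, hy, hyx⟩
        have hchoose : ∀ y ∈ W, ∃ V : Set X, (IsOpen V ∧ IsCompact V) ∧ y ∈ V ∧ V ⊆ (closure {x})ᶜ :=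
          fun y hy => PrespectralSpace.isTopologicalBasis.exists_subset_of_mem_open (hsub hy)
            isClosed_closure.isOpen_compl
        choose V hV using hchoose
        obtain ⟨t, ht⟩ := hW.isCompact.elim_finite_subcover (fun y : W => V y.1 y.2) (fun y => (hV y.1 y.2).1.1)
          (fun y hy => Set.mem_iUnion.2 ⟨⟨y, hy⟩, (hV y hy).2.1⟩)
        have hmem := hx ⟨⋃ y ∈ t, V y.1 y.2, isOpen_biUnion fun y _ => (hV y.1 y.2).1.1,
          t.isCompact_biUnion fun y _ => (hV y.1 y.2).1.2, ht⟩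
        obtain ⟨y, -, hxy⟩ := Set.mem_iUnion₂.1 hmem
        exact (hV y.1 y.2).2.2 hxy (subset_closure rfl)
    rw [he]
    exact @isClosed_iInter X _ (constructibleTopology X) _ fun U =>
      Groth.SpectralTopology.isClosed_ct U.2.1 U.2.2.1
  have hmono : ∀ x y : X, x ⤳ y → ∀ W, y ∈ G W → x ∈ G W := fun x y hxy W hy =>
    hy.mono (Set.inter_subset_inter_right _ (closure_minimal (Set.singleton_subset_iff.2
      (specializes_iff_mem_closure.1 hxy)) isClosed_closure))
  have hs₁ : StableUnderSpecialization (G Z₁) := fun x y hxy hx =>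
    (htot y).resolve_right fun h2 => hexcl x hx (hmono x y hxy Z₂ h2)
  have hs₂ : StableUnderSpecialization (G Z₂) := fun x y hxy hx =>
    (htot y).resolve_left fun h1 => hexcl x (hmono x y hxy Z₁ h1) hx
  refine ⟨G Z₁, G Z₂, Groth.SpectralTopology.isClosed_of_isClosed_ct (hct _ h₁) hs₁,
    Groth.SpectralTopology.isClosed_of_isClosed_ct (hct _ h₂) hs₂,
    Set.disjoint_left.2 fun x => hexcl x, Set.eq_univ_of_forall htot, ?_, ?_⟩
  · ext z
    refine ⟨fun hz => ⟨hunion.le (Or.inl hz), z, hz, subset_closure rfl⟩, fun ⟨hz, hzG⟩ => ?_⟩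
    exact (hunion.ge hz).resolve_right fun h => hexcl z hzG ⟨z, h, subset_closure rfl⟩
  · ext z
    refine ⟨fun hz => ⟨hunion.le (Or.inr hz), z, hz, subset_closure rfl⟩, fun ⟨hz, hzG⟩ => ?_⟩
    exact (hunion.ge hz).resolve_left fun h => hexcl z ⟨z, h, subset_closure rfl⟩ hzG

end Groth.Agent.S0152
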