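import Groth.Statements.S0153
import Groth.Agent.HensPair.SheafSections
-- import your own Groth.Agent.* helpers here

set_option autoImplicit false
universe u
open CategoryTheory CategoryTheory.Limits AlgebraicGeometry Opposite
open EtPBC

namespace Groth.Agent.S0153

/-- Let X be a spectral space and Z ⊆ X closed such that Z ∩ closure{x} is connected (nonempty) for
every x. Then for every sheaf of sets F on X restriction Gamma(X, F) -> Gamma(Z, F|_Z) is bijective;
written as the global-sections component of the unit F -> i_* i^* F for the inclusion i : Z -> X. -/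
theorem result (X : TopCat.{u}) [SpectralSpace X]
    (Z : Set X) (hZ : IsClosed Z)
    (hconn : ∀ x : X, IsConnected (Z ∩ closure {x}))
    (F : TopCat.Sheaf (Type u) X) :
    Function.Bijective
      (((TopCat.Sheaf.pullbackPushforwardAdjunction (Type u)
        (TopCat.ofHom ⟨(Subtype.val : Z → X), continuous_subtype_val⟩)).unit.app F).hom.app (op ⊤)) := by
  have hr : Set.range (Subtype.val : Z → X) = Z := Subtype.range_coe
  refine Groth.HensPair.bijective_etaApp_top (TopCat.ofHom ⟨(Subtype.val : Z → X), continuous_subtype_val⟩) F
    Topology.IsEmbedding.subtypeVal ?_ (fun T hT hne => ?_) (fun x => ?_)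
  · show IsClosed (Set.range (Subtype.val : Z → X))
    rwa [hr]
  · show (T ∩ Set.range (Subtype.val : Z → X)).Nonempty
    rw [hr]
    obtain ⟨x, hx⟩ := hne
    obtain ⟨z, hzZ, hzx⟩ := (hconn x).nonempty
    exact ⟨z, hT.closure_subset_iff.2 (Set.singleton_subset_iff.2 hx) hzx, hzZ⟩
  · show _root_.IsPreconnected (closure ({x} : Set X) ∩ Set.range (Subtype.val : Z → X))
    rw [hr, Set.inter_comm]
    exact (hconn x).isPreconnected

end Groth.Agent.S0153
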