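import Groth.Statements.S0168
import Groth.Agent.HensPair.ProperClopenCor
import Groth.Agent.CohFin.ProjFinite
import Groth.Agent.HensPair.SheafSections

set_option autoImplicit false
universe u
open CategoryTheory CategoryTheory.Limits AlgebraicGeometry Opposite
open EtPBC

namespace Groth.Agent.S0168

/-- (A, I) a henselian pair, f : X -> Spec A proper, Z ⊆ X the closed subset X x_{Spec A} Spec (A/I)
(the image of the first projection). For any sheaf of sets F on the underlying topological space of
X, restriction Gamma(X, F) -> Gamma(Z, F|_Z) is bijective; written as the global-sections component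
of the unit F -> i_* i^* F for the inclusion i : Z -> X of topological spaces. -/
theorem result (A : Type u) [CommRing A] (I : Ideal A) [HenselianRing A I]
    (X : Scheme.{u}) (f : X ⟶ Spec (CommRingCat.of A)) [IsProper f]
    (F : TopCat.Sheaf (Type u) X.carrier) :
    Function.Bijective
      (((TopCat.Sheaf.pullbackPushforwardAdjunction (Type u)
        (TopCat.ofHom ⟨(Subtype.val :
          (Set.range (pullback.fst f (Spec.map (CommRingCat.ofHom (Ideal.Quotient.mk I))))) → X),
          continuous_subtype_val⟩)).unit.app F).hom.app (op ⊤)) := by
  set i₀ := pullback.fst f (Spec.map (CommRingCat.ofHom (Ideal.Quotient.mk I)))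
  have : IsClosedImmersion (Spec.map (CommRingCat.ofHom (Ideal.Quotient.mk I))) :=
    IsClosedImmersion.spec_of_surjective _ Ideal.Quotient.mk_surjective
  have : CompactSpace X := QuasiCompact.compactSpace_of_compactSpace f
  have : QuasiSeparatedSpace X := quasiSeparatedSpace_of_quasiSeparated f
  have : SpectralSpace X.carrier := {}
  have hr : Set.range (Subtype.val : Set.range i₀ → X) = Groth.HensPair.overV f I := by
    rw [Subtype.range_coe]
    exact Groth.HensPair.range_pullback_fst_mk I f
  refine Groth.HensPair.bijective_etaApp_top (X := X.carrier)
    (TopCat.ofHom ⟨(Subtype.val : Set.range i₀ → X), continuous_subtype_val⟩) F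
    Topology.IsEmbedding.subtypeVal ?_ (fun T hT hne => ?_) (fun x => ?_)
  · show IsClosed (Set.range (Subtype.val : Set.range i₀ → X))
    rw [hr]; exact Groth.HensPair.isClosed_overV f I
  · show (T ∩ Set.range (Subtype.val : Set.range i₀ → X)).Nonempty
    rw [hr]
    exact Set.nonempty_iff_ne_empty.2 fun h => hne.ne_empty
      (Groth.HensPair.eq_empty_of_inter_overV f (HenselianRing.jac (I := I)) hT h)
  · show _root_.IsPreconnected (closure ({x} : Set X) ∩ Set.range (Subtype.val : Set.range i₀ → X))
    rw [hr]
    exact Groth.HensPair.isPreconnected_closure_inter_overV Groth.CohFin.projFinite I f x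

end Groth.Agent.S0168
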