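import Groth.Statements.S0169
import Groth.Agent.FlatMor2.Weighting.FibreDegree
import Groth.Agent.SpectralTopology.Spectral
import Mathlib.AlgebraicGeometry.ZariskisMainTheorem
import Groth.Agent.DescentBase.DimEtale

set_option autoImplicit false
universe u
open CategoryTheory CategoryTheory.Limits AlgebraicGeometry Opposite
open EtPBC

namespace Groth.Agent.S0169

namespace Aux

open Topology TopologicalSpace Groth.FlatMor2

/-- A locally closed subset is the image of an immersion. -/
theorem exists_immersion {X : Scheme.{u}} (E : Set X) (hE : IsLocallyClosed E) :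
    ∃ (T : Scheme.{u}) (g : T ⟶ X), IsImmersion g ∧ Set.range g = E := by
  obtain ⟨V, Z, hV, hZ, rfl⟩ := hE
  let I := Scheme.IdealSheafData.vanishingIdeal ⟨Z, hZ⟩
  let W : I.subscheme.Opens := I.subschemeι ⁻¹ᵁ ⟨V, hV⟩
  refine ⟨W, W.ι ≫ I.subschemeι, inferInstance, ?_⟩
  rw [Scheme.Hom.comp_base, TopCat.coe_comp, Set.range_comp, Scheme.Opens.range_ι]
  change I.subschemeι '' (I.subschemeι ⁻¹' V) = V ∩ Z
  rw [Set.image_preimage_eq_inter_range, Scheme.IdealSheafData.range_subschemeι,
    Scheme.IdealSheafData.coe_support_vanishingIdeal]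
  rfl

/-- A locally constructible function on a quasi-compact quasi-separated scheme is bounded. -/
theorem finite_range {X : Scheme.{u}} [CompactSpace X] [QuasiSeparatedSpace X] {α : Type*} (d : X → α)
    (h : ∀ a, IsConstructible {x | d x = a}) : (Set.range d).Finite := by
  classical
  have hc : @IsCompact X (constructibleTopology X) Set.univ :=
    @isCompact_univ X (constructibleTopology X) Groth.SpectralTopology.compactSpace_ct
  have ho : ∀ a, IsOpen[constructibleTopology X] {x | d x = a} := fun a =>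
    (Groth.SpectralTopology.isClopen_ct_of_isConstructible (h a)).2
  obtain ⟨s, hs⟩ := @IsCompact.elim_finite_subcover X (constructibleTopology X) _ α hc
    (fun a => {x | d x = a}) ho (fun x _ => Set.mem_iUnion.2 ⟨d x, rfl⟩)
  refine s.finite_toSet.subset ?_
  rintro _ ⟨x, rfl⟩
  obtain ⟨a, ha, hx⟩ := Set.mem_iUnion₂.1 (hs (Set.mem_univ x))
  exact (show d x = a from hx) ▸ ha

theorem quasiCompact_restrict {U X : Scheme.{u}} [QuasiSeparatedSpace X] (j : U ⟶ X) (V : U.Opens)
    (hV : IsCompact (V : Set U)) : QuasiCompact (V.ι ≫ j) := by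
  have : CompactSpace V.toScheme := isCompact_iff_compactSpace.mp hV
  infer_instance

theorem isSeparated_restrict {U X : Scheme.{u}} (j : U ⟶ X) (V W : U.Opens) (hW : IsAffineOpen W)
    (hVW : V ≤ W) : IsSeparated (V.ι ≫ j) := by
  have : IsAffine W.toScheme := hW
  have h : IsSeparated ((V.ι ≫ j) ≫ Limits.terminal.from X) := by
    rw [show (V.ι ≫ j) ≫ Limits.terminal.from X = U.homOfLE hVW ≫ Limits.terminal.from _ from
      Limits.terminal.hom_ext _ _]
    infer_instance
  exact IsSeparated.of_comp _ (Limits.terminal.from X)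

/-- A scheme covered by finitely many opens which, with their intersections, are finite over the base
is finite over the base, if it is locally quasi-finite. -/
theorem isFinite_of_cover {Y T : Scheme.{u}} (p : Y ⟶ T) [LocallyOfFiniteType p] [LocallyQuasiFinite p]
    {ι : Type} [Finite ι] (W : ι → Y.Opens) (hW : ∀ y, ∃ i, y ∈ W i)
    (h1 : ∀ i, IsFinite ((W i).ι ≫ p)) (h2 : ∀ i i', IsFinite ((W i ⊓ W i').ι ≫ p)) : IsFinite p := by
  have hsep : IsSeparated p := by
    refine ⟨IsClosedImmersion.of_isPreimmersion _ ?_⟩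
    rw [← isOpen_compl_iff, isOpen_iff_mem_nhds]
    intro z hz
    obtain ⟨i, hi⟩ := hW (pullback.fst p p z)
    obtain ⟨i', hi'⟩ := hW (pullback.snd p p z)
    let m := pullback.map ((W i).ι ≫ p) ((W i').ι ≫ p) p p (W i).ι (W i').ι (𝟙 T) (by simp) (by simp)
    have : IsOpenImmersion m := inferInstance
    obtain ⟨w, rfl⟩ : z ∈ Set.range m := by
      rw [Scheme.Pullback.range_map]
      simp [hi, hi']
    let δ : (W i ⊓ W i').toScheme ⟶ pullback ((W i).ι ≫ p) ((W i').ι ≫ p) :=
      pullback.lift (Y.homOfLE inf_le_left) (Y.homOfLE inf_le_right) (by simp [← Category.assoc])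
    have hδ : IsFinite δ := by
      have : IsFinite (δ ≫ (pullback.fst ((W i).ι ≫ p) ((W i').ι ≫ p) ≫ ((W i).ι ≫ p))) := by
        rw [← Category.assoc, pullback.lift_fst, ← Category.assoc, Scheme.homOfLE_ι]
        exact h2 i i'
      have := h1 i
      have := h1 i'
      exact MorphismProperty.of_postcomp (W := @IsFinite) (W' := @IsSeparated) δ
        (pullback.fst ((W i).ι ≫ p) ((W i').ι ≫ p) ≫ ((W i).ι ≫ p)) inferInstance ‹IsFinite (δ ≫ _)›
    refine Filter.mem_of_superset ((m.isOpenEmbedding.isOpenMap _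
      δ.isClosedMap.isClosed_range.isOpen_compl).mem_nhds ⟨w, ?_, rfl⟩) ?_
    · rintro ⟨v, rfl⟩
      refine hz ⟨(W i ⊓ W i').ι v, ?_⟩
      have e : δ ≫ m = (W i ⊓ W i').ι ≫ pullback.diagonal p := by
        apply pullback.hom_ext
        · simp only [δ, m, Category.assoc, pullback.lift_fst, pullback.lift_fst_assoc,
            pullback.diagonal_fst, Category.comp_id, Scheme.homOfLE_ι]
        · simp only [δ, m, Category.assoc, pullback.lift_snd, pullback.lift_snd_assoc,
            pullback.diagonal_snd, Category.comp_id, Scheme.homOfLE_ι]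
      exact congr($(e.symm) v)
    · rintro _ ⟨w', hw', rfl⟩ ⟨y, hy⟩
      have hy1 : y = (W i).ι (pullback.fst ((W i).ι ≫ p) ((W i').ι ≫ p) w') := by
        have := congrArg (pullback.fst p p) hy
        rw [← Scheme.Hom.comp_apply, pullback.diagonal_fst, ← Scheme.Hom.comp_apply m,
          pullback.lift_fst] at this
        exact this
      have hy2 : y = (W i').ι (pullback.snd ((W i).ι ≫ p) ((W i').ι ≫ p) w') := by
        have := congrArg (pullback.snd p p) hy
        rw [← Scheme.Hom.comp_apply, pullback.diagonal_snd, ← Scheme.Hom.comp_apply m,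
          pullback.lift_snd] at this
        exact this
      have hyW : y ∈ W i ⊓ W i' := ⟨hy1 ▸ Subtype.prop _, hy2 ▸ Subtype.prop _⟩
      refine hw' ⟨⟨y, hyW⟩, m.isOpenEmbedding.injective ?_⟩
      have e : δ ≫ m = (W i ⊓ W i').ι ≫ pullback.diagonal p := by
        apply pullback.hom_ext
        · simp only [δ, m, Category.assoc, pullback.lift_fst, pullback.lift_fst_assoc,
            pullback.diagonal_fst, Category.comp_id, Scheme.homOfLE_ι]
        · simp only [δ, m, Category.assoc, pullback.lift_snd, pullback.lift_snd_assoc,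
            pullback.diagonal_snd, Category.comp_id, Scheme.homOfLE_ι]
      exact (congr($(e) (⟨y, hyW⟩ : (W i ⊓ W i').toScheme))).trans hy
  have huc : UniversallyClosed p := by
    refine ⟨fun Y' T' a b p' hsq => ?_⟩
    intro C hC
    have : p' '' C = ⋃ i, (((a ⁻¹ᵁ W i).ι ≫ p') '' ((a ⁻¹ᵁ W i).ι ⁻¹' C)) := by
      ext t
      simp only [Set.mem_iUnion, Set.mem_image]
      constructor
      · rintro ⟨y, hy, rfl⟩
        obtain ⟨i, hi⟩ := hW (a y)
        exact ⟨i, ⟨y, hi⟩, hy, rfl⟩
      · rintro ⟨i, y, hy, rfl⟩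
        exact ⟨_, hy, rfl⟩
    rw [this]
    refine isClosed_iUnion_of_finite fun i => ?_
    have hi : IsPullback (a ∣_ W i) ((a ⁻¹ᵁ W i).ι ≫ p') ((W i).ι ≫ p) b :=
      (isPullback_morphismRestrict a (W i)).paste_vert hsq.flip
    have := h1 i
    have : IsFinite ((a ⁻¹ᵁ W i).ι ≫ p') := MorphismProperty.of_isPullback hi this
    exact ((a ⁻¹ᵁ W i).ι ≫ p').isClosedMap _ (hC.preimage (a ⁻¹ᵁ W i).ι.continuous)
  have : IsProper p := {}
  exact IsFinite.of_isProper_of_locallyQuasiFinite p

end Aux

/-- For j : U -> X an etale morphism of quasi-compact quasi-separated schemes there are finitely many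
immersions T_i -> X with pairwise disjoint constructible images covering X such that U x_X T_i ->
T_i is finite (etale) for each i. -/
theorem result {U X : Scheme.{u}} [CompactSpace U] [QuasiSeparatedSpace U]
    [CompactSpace X] [QuasiSeparatedSpace X] (j : U ⟶ X) [Etale j] :
    ∃ (n : ℕ) (T : Fin n → Scheme.{u}) (g : ∀ i, T i ⟶ X),
      (∀ i, IsImmersion (g i)) ∧ (∀ i, Topology.IsConstructible (Set.range (g i))) ∧
      Pairwise (fun i i' => Disjoint (Set.range (g i)) (Set.range (g i'))) ∧
      (⋃ i, Set.range (g i)) = Set.univ ∧ ∀ i, IsFinite (pullback.snd j (g i)) := by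
  classical
  obtain ⟨s, hs⟩ := (CompactSpace.isCompact_univ (X := U)).elim_finite_subcover
    (fun A : U.affineOpens => ((A.1 : U.Opens) : Set U)) (fun A => A.1.isOpen) (fun x _ => by
      obtain ⟨A, hA, hxA, -⟩ := exists_isAffineOpen_mem_and_subset (U := (⊤ : U.Opens)) (x := x) trivial
      exact Set.mem_iUnion.2 ⟨⟨A, hA⟩, hxA⟩)
  let k := s.card
  let A : Fin k → U.Opens := fun i => (s.equivFin.symm i).1.1
  have hA : ∀ i, IsAffineOpen (A i) := fun i => (s.equivFin.symm i).1.2
  have hcov : ∀ u : U, ∃ i, u ∈ A i := fun u => by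
    obtain ⟨a, ha, hu⟩ := Set.mem_iUnion₂.1 (hs (Set.mem_univ u))
    exact ⟨s.equivFin ⟨a, ha⟩, by simpa [A] using hu⟩
  let V : Fin k × Fin k → U.Opens := fun p => A p.1 ⊓ A p.2
  have : LocallyQuasiFinite j := Groth.DescentBase.locallyQuasiFinite_of_etale j
  have hlqf : ∀ p, LocallyQuasiFinite ((V p).ι ≫ j) := fun p => inferInstance
  have hqc : ∀ p, QuasiCompact ((V p).ι ≫ j) := fun p => Aux.quasiCompact_restrict j _
    (QuasiSeparatedSpace.inter_isCompact (A p.1 : Set U) (A p.2 : Set U) (A p.1).isOpen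
      (hA p.1).isCompact (A p.2).isOpen (hA p.2).isCompact)
  have hsp : ∀ p, IsSeparated ((V p).ι ≫ j) := fun p =>
    Aux.isSeparated_restrict j _ _ (hA p.1) inf_le_left
  have hfin : ∀ p, ∀ x : X, (((V p).ι ≫ j) ⁻¹' {x}).Finite := fun p x =>
    have := hqc p
    ((V p).ι ≫ j).finite_preimage_singleton x
  let deg : X → Fin k × Fin k → ℕ := fun x p => Groth.FlatMor2.fibDeg ((V p).ι ≫ j) x
  have hlevel : ∀ d : Fin k × Fin k → ℕ,
      Topology.IsConstructible {x | deg x = d} ∧ IsLocallyClosed {x | deg x = d} := by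
    intro d
    have he : {x | deg x = d} = ⋂ p, {x | Groth.FlatMor2.fibDeg ((V p).ι ≫ j) x = d p} := by
      ext x; simp [deg, funext_iff]
    have hl : ∀ p, IsLocallyClosed {x | Groth.FlatMor2.fibDeg ((V p).ι ≫ j) x = d p} := fun p => by
      have := hsp p
      rw [show {x | Groth.FlatMor2.fibDeg ((V p).ι ≫ j) x = d p} =
        {x | Groth.FlatMor2.fibDeg ((V p).ι ≫ j) x ≤ d p} ∩
          {x | d p ≤ Groth.FlatMor2.fibDeg ((V p).ι ≫ j) x} from by ext x; simp [le_antisymm_iff]]
      exact (Groth.FlatMor2.isClosed_fibDeg_le _ (hfin p) _).isLocallyClosed.inter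
        (Groth.FlatMor2.isOpen_le_fibDeg _ (hfin p) _).isLocallyClosed
    have hc : ∀ p, Topology.IsConstructible {x | Groth.FlatMor2.fibDeg ((V p).ι ≫ j) x = d p} := fun p => by
      have := hsp p
      have := hqc p
      have h := Groth.FlatMor2.isLocallyConstructible_fibreIntegral ((V p).ι ≫ j) _
        (Groth.FlatMor2.isWeighting_flatWeight _) ({(d p : ℤ)} : Set ℤ)
      rw [funext fun x => Groth.FlatMor2.fibreIntegral_eq_fibDeg ((V p).ι ≫ j) x (hfin p x)] at h
      have := h.isConstructible
      convert this using 1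
      ext x; simp
    refine ⟨he ▸ Topology.IsConstructible.iInter hc, he ▸ ?_⟩
    suffices h : ∀ t : Finset (Fin k × Fin k),
        IsLocallyClosed (⋂ p ∈ t, {x | Groth.FlatMor2.fibDeg ((V p).ι ≫ j) x = d p}) by
      simpa using h Finset.univ
    intro t
    induction t using Finset.induction_on with
    | empty => simpa using isOpen_univ.isLocallyClosed
    | insert a t hat ih => rw [Finset.set_biInter_insert]; exact (hl a).inter ih
  let D := (Aux.finite_range deg fun d => (hlevel d).1).toFinset
  let d : Fin D.card → (Fin k × Fin k → ℕ) := fun i => (D.equivFin.symm i).1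
  choose T g hg hr using fun i => Aux.exists_immersion _ (hlevel (d i)).2
  refine ⟨D.card, T, g, hg, fun i => hr i ▸ (hlevel _).1, ?_, ?_, ?_⟩
  · intro i i' hii'
    refine Set.disjoint_left.2 fun x hx hx' => hii' ?_
    rw [hr] at hx hx'
    exact D.equivFin.symm.injective (Subtype.ext ((hx : deg x = d i).symm.trans hx'))
  · refine Set.eq_univ_of_forall fun x => Set.mem_iUnion.2 ⟨D.equivFin ⟨deg x, by simp [D]⟩, ?_⟩
    rw [hr]
    simp [d]
  · intro i
    have hpiece : ∀ p, IsFinite ((pullback.fst j (g i) ⁻¹ᵁ V p).ι ≫ pullback.snd j (g i)) := by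
      intro p
      have := hsp p
      have h := ((Groth.FlatMor2.isFinLocFreeOfDeg_iff ((V p).ι ≫ j) (hfin p) (g i) (d i p)).2 fun t => by
        have ht : g i t ∈ Set.range (g i) := ⟨t, rfl⟩
        rw [hr] at ht
        exact congrFun (show deg (g i t) = d i from ht) p).1.1
      have hP := (isPullback_morphismRestrict (pullback.fst j (g i)) (V p)).paste_vert
        (IsPullback.of_hasPullback j (g i))
      rw [← hP.isoPullback_hom_snd]
      infer_instance
    refine Aux.isFinite_of_cover (pullback.snd j (g i)) (fun a => pullback.fst j (g i) ⁻¹ᵁ A a)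
      (fun y => hcov _) (fun a => ?_) (fun a b => hpiece (a, b))
    have := hpiece (a, a)
    rwa [show V (a, a) = A a from inf_idem _] at this

end Groth.Agent.S0169
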