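import Groth.Statements.S0170
import Groth.Agent.EtPbc.ThickAlg

set_option autoImplicit false
universe u
open CategoryTheory CategoryTheory.Limits AlgebraicGeometry Opposite
open EtPBC

namespace Groth.Agent.S0170

/-- For f : Y -> X quasi-finite and of finite presentation with X and Y affine, one can find an affine
X' mapping onto X such that the base change Y' = X' x_X Y contains a closed subscheme Z' with the
same underlying space (a thickening) for which the composite Z' -> Y' -> X' is finite etale. -/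
theorem result {Y X : Scheme.{u}} [IsAffine X] [IsAffine Y] (f : Y ⟶ X)
    [LocallyQuasiFinite f] [LocallyOfFinitePresentation f] :
    ∃ (X' : Scheme.{u}) (_ : IsAffine X') (a : X' ⟶ X) (_ : Surjective a) (Z' : Scheme.{u})
      (c : Z' ⟶ pullback a f) (_ : IsClosedImmersion c) (_ : Surjective c),
      IsFinite (c ≫ pullback.fst a f) ∧ Etale (c ≫ pullback.fst a f) := by
  let φ : Γ(X, ⊤) ⟶ Γ(Y, ⊤) := f.appTop
  haveI hfp : φ.hom.FinitePresentation :=
    (HasRingHomProperty.iff_of_isAffine (P := @LocallyOfFinitePresentation)).1 ‹_›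
  haveI hqf : φ.hom.QuasiFinite := (HasRingHomProperty.iff_of_isAffine (P := @LocallyQuasiFinite)).1 ‹_›
  algebraize [φ.hom]
  haveI : Algebra.FinitePresentation Γ(X, ⊤) Γ(Y, ⊤) := hfp
  haveI : Algebra.QuasiFinite Γ(X, ⊤) Γ(Y, ⊤) := hqf
  obtain ⟨S, _, _, hsurj, T, _, _, _, _, hTet, hTfin, q, hq, hnil⟩ :=
    Groth.EtPbc.Thick.exists_surjective_etale (A := Γ(X, ⊤)) (C := Γ(Y, ⊤))
  let g : Spec (CommRingCat.of S) ⟶ Spec Γ(X, ⊤) := Spec.map (CommRingCat.ofHom (algebraMap Γ(X, ⊤) S))
  let h : Spec Γ(Y, ⊤) ⟶ Spec Γ(X, ⊤) := Spec.map (CommRingCat.ofHom (algebraMap Γ(X, ⊤) Γ(Y, ⊤)))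
  have w : f ≫ X.isoSpec.hom = Y.isoSpec.hom ≫ h := (Scheme.isoSpec_hom_naturality f).symm
  let a : Spec (CommRingCat.of S) ⟶ X := g ≫ X.isoSpec.inv
  let e : pullback a f ≅ pullback g h :=
    asIso (pullback.map a f g h (𝟙 _) Y.isoSpec.hom X.isoSpec.hom (by rw [Category.id_comp]; exact (Category.assoc g _ _).trans ((congrArg (g ≫ ·) X.isoSpec.inv_hom_id).trans (Category.comp_id g))) w)
  have he : e.inv ≫ pullback.fst a f = pullback.fst g h := by
    rw [Iso.inv_comp_eq]
    exact ((pullback.lift_fst _ _ _).trans (Category.comp_id _)).symm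
  let c : Spec (CommRingCat.of T) ⟶ pullback a f :=
    Spec.map (CommRingCat.ofHom q.toRingHom) ≫ (pullbackSpecIso Γ(X, ⊤) S Γ(Y, ⊤)).inv ≫ e.inv
  have hc : c ≫ pullback.fst a f = Spec.map (CommRingCat.ofHom (algebraMap S T)) := by
    simp only [c, Category.assoc]
    rw [he]
    simp only [g, h]
    rw [pullbackSpecIso_inv_fst', ← Spec.map_comp, ← CommRingCat.ofHom_comp]
    exact congrArg (fun r => Spec.map (CommRingCat.ofHom r)) q.comp_algebraMap
  haveI : IsClosedImmersion (Spec.map (CommRingCat.ofHom q.toRingHom)) :=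
    IsClosedImmersion.spec_of_surjective _ hq
  haveI : Surjective (Spec.map (CommRingCat.ofHom q.toRingHom)) := ⟨fun P' => by
    let P : PrimeSpectrum (TensorProduct Γ(X, ⊤) S Γ(Y, ⊤)) := P'
    have : P ∈ Set.range (PrimeSpectrum.comap q.toRingHom) := by
      rw [range_comap_of_surjective _ _ hq, PrimeSpectrum.mem_zeroLocus]
      exact hnil.trans (nilradical_le_prime P.asIdeal)
    exact this⟩
  refine ⟨Spec (CommRingCat.of S), inferInstance, a, ?_, Spec (CommRingCat.of T), c,
    inferInstance, inferInstance, ?_, ?_⟩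
  · haveI : Surjective g := ⟨fun x => hsurj x⟩
    infer_instance
  · rw [hc]
    exact (IsFinite.SpecMap_iff _).2 (RingHom.finite_algebraMap.2 hTfin)
  · rw [hc]
    exact (HasRingHomProperty.Spec_iff (P := @AlgebraicGeometry.Etale)).2 (RingHom.etale_algebraMap.2 hTet)

end Groth.Agent.S0170
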