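import Groth.Statements.S0175
import Groth.Agent.EtaleBaseTwo.RecollEquiv
-- import your own Groth.Agent.* helpers here

set_option autoImplicit false
universe u
open CategoryTheory CategoryTheory.Limits AlgebraicGeometry Opposite
open EtPBC

namespace Groth.Agent.S0175

/-- Let i : Z → X be a closed immersion of schemes with open complement j : U → X, and I an injective
abelian sheaf on X_ét. Then the subsheaf H_Z(I) of sections supported on Z (the kernel of I → j_*
j^* I), viewed on Z_ét via i^*, is an injective abelian sheaf on Z_ét. -/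
theorem result {Z X U : Scheme.{u}} (i : Z ⟶ X) [IsClosedImmersion i]
    (j : U ⟶ X) [IsOpenImmersion j] (hZU : Set.range j = (Set.range i)ᶜ)
    [EtCoh.BCCont i] [EtCoh.BCCont j] (I : EtCoh.Ab X) [Injective I] :
    Injective ((EtCoh.pull i).obj (kernel ((EtCoh.pullPushAdj j).unit.app I))) := by
  have hZU' : Set.range j.base = (Set.range i.base)ᶜ := hZU
  let ai := EtCoh.pullPushAdj i
  let aj := EtCoh.pullPushAdj j
  haveI := ai.leftAdjoint_preservesColimits.{0, 0}
  haveI := aj.leftAdjoint_preservesColimits.{0, 0}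
  haveI := ai.rightAdjoint_preservesLimits.{0, 0}
  haveI := aj.rightAdjoint_preservesLimits.{0, 0}
  let η : I ⟶ (EtCoh.push j).obj ((EtCoh.pull j).obj I) := aj.unit.app I
  let K := kernel η
  have hK : IsZero ((EtCoh.pull j).obj K) := by
    have h1 : IsIso ((EtCoh.pull j).map η) := by
      haveI := Groth.EtaleBase.isIso_counit_openImmersion j ((EtCoh.pull j).obj I)
      have h2 : IsIso ((EtCoh.pull j).map η ≫ aj.counit.app ((EtCoh.pull j).obj I)) := by
        erw [aj.left_triangle_components]; exact inferInstanceAs (IsIso (𝟙 _))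
      exact IsIso.of_isIso_comp_right _ (aj.counit.app ((EtCoh.pull j).obj I))
    have h0 : (EtCoh.pull j).map (kernel.ι η) = 0 := by
      rw [← cancel_mono ((EtCoh.pull j).map η), ← Functor.map_comp, kernel.condition, Functor.map_zero,
        zero_comp]
    haveI : PreservesFiniteLimits (EtCoh.pull j) := Groth.EtaleBase.pull_preservesFiniteLimits j
    exact IsZero.of_mono_eq_zero _ h0
  have hu : IsIso (ai.unit.app K) := by
    refine Groth.EtaleBaseTwo.isIso_of_pull_isIso hZU' _ ?_ ?_
    · haveI := Groth.EtaleBase.isIso_counit i ((EtCoh.pull i).obj K)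
      have h2 : IsIso ((EtCoh.pull i).map (ai.unit.app K) ≫ ai.counit.app ((EtCoh.pull i).obj K)) := by
        erw [ai.left_triangle_components]; exact inferInstanceAs (IsIso (𝟙 _))
      exact IsIso.of_isIso_comp_right _ (ai.counit.app ((EtCoh.pull i).obj K))
    · exact ⟨0, hK.eq_of_src _ _, (Groth.EtaleBaseTwo.isZero_pull_push hZU' _).eq_of_src _ _⟩
  refine ⟨fun {A B} g f _ => ?_⟩
  let a : (EtCoh.push i).obj A ⟶ K := (EtCoh.push i).map g ≫ inv (ai.unit.app K)
  let b : (EtCoh.push i).obj B ⟶ I := Injective.factorThru (a ≫ kernel.ι η) ((EtCoh.push i).map f)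
  have hb : b ≫ η = 0 := by
    apply (aj.homEquiv _ _).symm.injective
    exact (Groth.EtaleBaseTwo.isZero_pull_push hZU' B).eq_of_src _ _
  haveI := (Groth.EtaleBase.push_fullyFaithful i).1
  haveI := (Groth.EtaleBase.push_fullyFaithful i).2
  refine ⟨(EtCoh.push i).preimage (kernel.lift η b hb ≫ ai.unit.app K), ?_⟩
  apply (EtCoh.push i).map_injective
  rw [Functor.map_comp, Functor.map_preimage, ← Category.assoc,
    show (EtCoh.push i).map f ≫ kernel.lift η b hb = a by
      rw [← cancel_mono (kernel.ι η), Category.assoc, kernel.lift_ι]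
      exact Injective.comp_factorThru _ _]
  simp [a]

end Groth.Agent.S0175
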