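import Groth.Statements.S0181
import Groth.Agent.EtaleDeep.Cons.TorsionColimit
-- import your own Groth.Agent.* helpers here

set_option autoImplicit false
set_option backward.isDefEq.respectTransparency.types false
universe u
open CategoryTheory CategoryTheory.Limits AlgebraicGeometry Opposite
open EtPBC

namespace Groth.Agent.S0181

/-- (2): on a quasi-compact quasi-separated X, if F = colim F_j is a filtered colimit of constructible
abelian sheaves and F is itself constructible, then the ind-object (F_j) is essentially constant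
with value F: there are i and s : F -> F_i splitting F_i -> F such that for every j the transition
F_j -> F_k, for some k beyond i and j, equals F_j -> F -> F_i -> F_k. -/
theorem result (X : Scheme.{u}) [CompactSpace X] [QuasiSeparatedSpace X]
    {J : Type u} [SmallCategory J] [IsFiltered J] (D : J ⥤ EtCoh.Ab X)
    (c : Cocone D) (hc : IsColimit c)
    (hD : ∀ j, EtPBC.IsConstructible (D.obj j)) (hF : EtPBC.IsConstructible c.pt) :
    ∃ (i : J) (s : c.pt ⟶ D.obj i), s ≫ c.ι.app i = 𝟙 c.pt ∧
      ∀ j : J, ∃ (k : J) (a : i ⟶ k) (b : j ⟶ k), D.map b = c.ι.app j ≫ s ≫ D.map a := by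
  have := Groth.EtaleDeep.Cons.preservesColimitsOfShape_coyoneda_small hF J
  obtain ⟨i, s, hs⟩ := Types.jointly_surjective _ (isColimitOfPreserves (coyoneda.obj (op c.pt)) hc) (𝟙 c.pt)
  have hs' : s ≫ c.ι.app i = 𝟙 c.pt := hs
  refine ⟨i, s, hs', fun j => ?_⟩
  have := Groth.EtaleDeep.Cons.preservesColimitsOfShape_coyoneda_small (hD j) J
  obtain ⟨k, f, g, h⟩ := (Types.FilteredColimit.isColimit_eq_iff _
    (isColimitOfPreserves (coyoneda.obj (op (D.obj j))) hc) (i := j) (j := i) (xi := 𝟙 (D.obj j))
    (xj := c.ι.app j ≫ s)).1 (by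
      show 𝟙 (D.obj j) ≫ c.ι.app j = (c.ι.app j ≫ s) ≫ c.ι.app i
      rw [Category.id_comp, Category.assoc, hs']
      exact (Category.comp_id _).symm)
  refine ⟨k, g, f, ?_⟩
  have h' : 𝟙 (D.obj j) ≫ D.map f = (c.ι.app j ≫ s) ≫ D.map g := h
  rw [Category.id_comp, Category.assoc] at h'
  exact h'

end Groth.Agent.S0181
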