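import Groth.Statements.S0182
import Groth.Agent.EtaleDeep.Cons.AbCriteria
-- import your own Groth.Agent.* helpers here

set_option autoImplicit false
set_option backward.isDefEq.respectTransparency.types false
universe u
open CategoryTheory CategoryTheory.Limits AlgebraicGeometry Opposite
open EtPBC

namespace Groth.Agent.S0182

/-- (1), surjectivity case, for abelian sheaves: X quasi-compact and quasi-separated, F -> G a map of
constructible abelian sheaves on X_et; the set of points x of X such that F -> G is surjective on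
stalks at (every) geometric point over x is constructible. The source states this for constructible
sheaves of sets; an abelian constructible sheaf is one, with the same stalks. -/
theorem result (X : Scheme.{u}) [CompactSpace X] [QuasiSeparatedSpace X]
    {F G : EtCoh.Ab X} (φ : F ⟶ G) (hF : EtPBC.IsConstructible F) (hG : EtPBC.IsConstructible G) :
    Topology.IsConstructible {x : X | ∀ (Ω : Type u) [Field Ω] [IsSepClosed Ω]
      (ξ : Spec (CommRingCat.of Ω) ⟶ X), Set.range ξ = {x} →
        Function.Surjective ((EtCoh.stalk ξ).map φ)} := by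
  have hQ := Groth.EtaleDeep.Cons.isConstructible_cokernel φ hF hG
  have hz : ∀ {Ω : Type u} [Field Ω] [IsSepClosed Ω] (ξ : Spec (CommRingCat.of Ω) ⟶ X),
      Function.Surjective ((EtCoh.stalk ξ).map φ) ↔ IsZero ((EtCoh.stalk ξ).obj (cokernel φ)) := by
    intro Ω _ _ ξ
    have hex := (ShortComplex.ab_exact_iff _).1 (Groth.EtaleBase.LocConst.stalk_exact ξ
      (S := ShortComplex.mk φ (cokernel.π φ) (cokernel.condition φ)) (ShortComplex.exact_cokernel φ))
    have hπ := Groth.EtaleBase.LocConst.stalk_surjective_of_epi ξ (cokernel.π φ)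
    rw [AddCommGrpCat.isZero_iff_subsingleton]
    refine ⟨fun hs => subsingleton_of_forall_eq 0 fun q => ?_, fun hs y => ?_⟩
    · obtain ⟨y, rfl⟩ := hπ q
      obtain ⟨z, rfl⟩ := hs y
      show (EtCoh.stalk ξ).map (cokernel.π φ) ((EtCoh.stalk ξ).map φ z) = 0
      rw [← ConcreteCategory.comp_apply, ← Functor.map_comp, cokernel.condition, Functor.map_zero]
      rfl
    · exact hex y (@Subsingleton.elim _ hs _ _)
  have hset : {x : X | ∀ (Ω : Type u) [Field Ω] [IsSepClosed Ω]
      (ξ : Spec (CommRingCat.of Ω) ⟶ X), Set.range ξ = {x} →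
        Function.Surjective ((EtCoh.stalk ξ).map φ)} =
      {x : X | IsZero ((EtCoh.stalk (Groth.EtaleBase.geomPoint x)).obj (cokernel φ))} := by
    ext x
    obtain ⟨M, _, _, hM⟩ := Groth.EtaleDeep.Cons.exists_stalk_equiv hQ x
    obtain ⟨e'⟩ := hM _ _ (Groth.EtaleBase.geomPoint_apply x default)
    refine ⟨fun h => (hz _).1 (h _ _ (Groth.EtaleDeep.Cons.range_eq_singleton
      (Groth.EtaleBase.geomPoint_apply x default))), fun h Ω _ _ ξ hξ => (hz ξ).2 ?_⟩
    obtain ⟨e⟩ := hM Ω ξ (Groth.EtaleDeep.Cons.base_default_of_range hξ)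
    exact h.of_iso (e.symm.trans e').toAddCommGrpIso
  rw [hset]
  exact (Groth.EtaleDeep.Cons.isLocallyConstructible_stalk hQ (fun A => IsZero A)
    fun A B e h => h.of_iso e.symm).isConstructible

end Groth.Agent.S0182
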