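import Groth.Statements.S0191
import Groth.Agent.CSA.TensorSimple
-- import your own Groth.Agent.* helpers here

set_option autoImplicit false
universe u v w
open scoped TensorProduct
open Curves

namespace Groth.Agent.S0191

/-- If K is a skew field with center k, every two-sided ideal of A ⊗ K is generated by the elements a ⊗
1 it contains. -/
theorem result (k : Type u) [Field k] (A : Type v) [Ring A] [Algebra k A]
    (K : Type w) [DivisionRing K] [Algebra k K] [Algebra.IsCentral k K]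
    (I : TwoSidedIdeal (A ⊗[k] K)) :
    I = TwoSidedIdeal.span ((fun a : A => a ⊗ₜ[k] (1 : K)) '' {a : A | a ⊗ₜ[k] (1 : K) ∈ I}) := by
  refine le_antisymm (fun x hx => ?_) (TwoSidedIdeal.span_le.2 (by rintro _ ⟨a, ha, rfl⟩; exact ha))
  let c := Algebra.TensorProduct.comm k K A
  have h := CSA.eq_span_includeRight (A := K) (B := A) (I.comap c)
  have hx' : c.symm x ∈ I.comap c := (TwoSidedIdeal.mem_comap _).2 (by rwa [c.apply_symm_apply])
  rw [h] at hx'
  have hJ : TwoSidedIdeal.span ((fun a : A => (1 : K) ⊗ₜ[k] a) '' {a | (1 : K) ⊗ₜ[k] a ∈ I.comap c}) ≤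
      (TwoSidedIdeal.span ((fun a : A => a ⊗ₜ[k] (1 : K)) '' {a : A | a ⊗ₜ[k] (1 : K) ∈ I})).comap c := by
    rw [TwoSidedIdeal.span_le]
    rintro _ ⟨a, ha, rfl⟩
    refine (TwoSidedIdeal.mem_comap _).2 ?_
    have h2 : c ((1 : K) ⊗ₜ[k] a) = a ⊗ₜ[k] (1 : K) := by simp [c]
    rw [h2]
    refine TwoSidedIdeal.subset_span ⟨a, ?_, rfl⟩
    have h3 := (TwoSidedIdeal.mem_comap _).1 ha
    rwa [h2] at h3
  have h2 := (TwoSidedIdeal.mem_comap _).1 (hJ hx')
  rwa [c.apply_symm_apply] at h2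

end Groth.Agent.S0191
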