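import Groth.Statements.S0195
import Groth.Agent.CSA.Index
import Groth.Agent.CSA.Splitting
-- import your own Groth.Agent.* helpers here

set_option autoImplicit false
universe u v w
open scoped TensorProduct
open Curves

namespace Groth.Agent.S0195

/-- A finite extension k' of k splits a finite central simple algebra A exactly when some algebra
similar to A contains k' with dim equal to [k':k]^2. Uses Mathlib's bundled CSA and Brauer
equivalence. -/
theorem result (k : Type u) [Field k] (A : CSA.{u, u} k)
    (k' : Type u) [Field k'] [Algebra k k'] [FiniteDimensional k k'] :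
    Curves.Splits k A k' ↔ ∃ (B : CSA.{u, u} k) (_ : k' →ₐ[k] B), IsBrauerEquivalent A B ∧
      Module.finrank k B = Module.finrank k k' ^ 2 := by
  constructor
  · intro h
    obtain ⟨B, iB, iBk, hC, hS, hF, hdB, hsim, ⟨ι⟩⟩ := Groth.CSA.exists_sim_embedding h
    exact ⟨{ toAlgCat := AlgCat.of k B }, ι, hsim, hdB⟩
  · rintro ⟨B, ι, hAB, hdB⟩
    exact Groth.CSA.Sim.splits (Groth.CSA.Sim.symm hAB) (Groth.CSA.splits_of_embedding k B k' ι hdB)

end Groth.Agent.S0195
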