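import Groth.Statements.S0196
import Groth.Agent.CSA.Splitting
-- import your own Groth.Agent.* helpers here

set_option autoImplicit false
universe u v w
open scoped TensorProduct
open Curves

namespace Groth.Agent.S0196

/-- In a finite central skew field D over k, a maximal commutative k-subalgebra L satisfies dim D = (dim
L)^2. -/
theorem result (k : Type u) [Field k]
    (D : Type v) [DivisionRing D] [Algebra k D] [Algebra.IsCentral k D] [FiniteDimensional k D]
    (L : Subalgebra k D) (hcomm : ∀ x ∈ L, ∀ y ∈ L, x * y = y * x)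
    (hmax : ∀ L' : Subalgebra k D, (∀ x ∈ L', ∀ y ∈ L', x * y = y * x) → L ≤ L' → L' = L) :
    Module.finrank k D = Module.finrank k L ^ 2 := by
  refine CSA.finrank_eq_sq_of_selfCentralizing k D L hcomm (le_antisymm (fun x hx => ?_)
    fun x hx => (Subalgebra.mem_centralizer_iff _).2 fun y hy => hcomm y hy x hx)
  have hxc : ∀ y ∈ L, y * x = x * y := (Subalgebra.mem_centralizer_iff _).1 hx
  let L' := Algebra.adjoin k (insert x (L : Set D))
  have hc : ∀ a ∈ insert x (L : Set D), ∀ b ∈ insert x (L : Set D), a * b = b * a := by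
    rintro a (rfl | ha) b (rfl | hb)
    · rfl
    · exact (hxc b hb).symm
    · exact hxc a ha
    · exact hcomm a ha b hb
  have h1 : ∀ a ∈ L', ∀ b ∈ L', a * b = b * a := fun a ha b hb =>
    congrArg Subtype.val ((Algebra.adjoinCommRingOfComm k hc).mul_comm ⟨a, ha⟩ ⟨b, hb⟩)
  have h2 : L ≤ L' := fun y hy => Algebra.subset_adjoin (Set.mem_insert_of_mem _ hy)
  rw [← hmax L' h1 h2]
  exact Algebra.subset_adjoin (Set.mem_insert _ _)

end Groth.Agent.S0196
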