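import Groth.Statements.S0207
import Groth.Agent.Misc3Zar.ArtinSchreierVanish

set_option autoImplicit false
universe u
open CategoryTheory CategoryTheory.Limits AlgebraicGeometry
open Curves

namespace Groth.Agent.S0207

/-- On a quasi-compact quasi-separated scheme of dimension d on which the prime p is zero, étale
cohomology with Z/p coefficients vanishes from degree d+2 on. -/
theorem result (p : ℕ) [Fact p.Prime] (S : Scheme.{u}) [CompactSpace S] [QuasiSeparatedSpace S]
    (hp : (p : Γ(S, ⊤)) = 0) (d : ℕ) (hd : topologicalKrullDim S = d) (q : ℕ) (hq : 2 + d ≤ q) :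
    Subsingleton (EtCoh.H S (EtCoh.const S (ZMod p)) q) := by
  exact Groth.Misc3Zar.ASVanish.subsingleton_H_const_above p Fact.out hp hd.le q (by omega)

end Groth.Agent.S0207
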