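import Groth.Statements.S0215
import Mathlib
import Groth.Agent.Curves1.Units

set_option autoImplicit false
universe u
open CategoryTheory CategoryTheory.Limits AlgebraicGeometry TopologicalSpace
open Curves

namespace Groth.Agent.S0215

/-- For a connected reduced scheme locally of finite type over a field k with finitely many irreducible
components, in which every global function integral over k is a constant, the group of invertible
global functions modulo nonzero constants is finitely generated. -/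
theorem result (k : Type u) [Field k] (X : Scheme.{u}) (f : X ⟶ Spec (CommRingCat.of k))
    [LocallyOfFiniteType f] [IsReduced X] [ConnectedSpace X] (hirr : (irreducibleComponents (X : Type u)).Finite)
    (hint : ∀ x : Γ(X, ⊤), (f.appTop.hom.comp (Scheme.ΓSpecIso (CommRingCat.of k)).inv.hom).IsIntegralElem x →
      x ∈ Set.range (f.appTop.hom.comp (Scheme.ΓSpecIso (CommRingCat.of k)).inv.hom)) :
    Group.FG ((Γ(X, ⊤))ˣ ⧸ (Units.map ((f.appTop.hom.comp (Scheme.ΓSpecIso (CommRingCat.of k)).inv.hom : k →+* Γ(X, ⊤)) : k →* Γ(X, ⊤))).range) := by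
  classical
  set φ : k →+* Γ(X, ⊤) := f.appTop.hom.comp (Scheme.ΓSpecIso (CommRingCat.of k)).inv.hom
  have hfin : Finite (irreducibleComponents (X : Type u)) := hirr.to_subtype
  -- affine integral opens, one in each component
  have hU : ∀ Z : irreducibleComponents (X : Type u), ∃ U : X.Opens,
      IsAffineOpen U ∧ (U : Set X).Nonempty ∧ IsPreirreducible (U : Set X) ∧
        (U : Set X) ⊆ (Z : Set X) := by
    intro Z
    have hcl : IsClosed (⋃ W ∈ (irreducibleComponents (X : Type u) \ {(Z : Set X)}), W) :=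
      (hirr.sdiff).isClosed_biUnion fun W hW => isClosed_of_mem_irreducibleComponents W hW.1
    have hsub : (⋃ W ∈ (irreducibleComponents (X : Type u) \ {(Z : Set X)}), W)ᶜ ⊆ (Z : Set X) := by
      intro x hx
      have hmem : irreducibleComponent x ∈ irreducibleComponents (X : Type u) :=
        irreducibleComponent_mem_irreducibleComponents x
      by_contra hxZ
      exact hx (Set.mem_biUnion ⟨hmem, fun he => hxZ (Set.mem_singleton_iff.mp he ▸
        mem_irreducibleComponent)⟩ mem_irreducibleComponent)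
    have hne : ((⋃ W ∈ (irreducibleComponents (X : Type u) \ {(Z : Set X)}), W)ᶜ).Nonempty := by
      rw [Set.nonempty_compl]
      intro heq
      obtain ⟨W, hW, hZW⟩ := (isIrreducible_iff_sUnion_isClosed.mp Z.2.1)
        (hirr.sdiff (t := {(Z : Set X)})).toFinset
        (fun W hW => isClosed_of_mem_irreducibleComponents W ((Set.Finite.mem_toFinset _).mp hW).1)
        (by rw [Set.Finite.coe_toFinset, Set.sUnion_eq_biUnion, heq]; exact Set.subset_univ _)
      rw [Set.Finite.mem_toFinset] at hW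
      exact hW.2 (le_antisymm (Z.2.2 hW.1.1 hZW) hZW)
    obtain ⟨x, hx⟩ := hne
    obtain ⟨U, hUa, hxU, hUO⟩ := Opens.isBasis_iff_nbhd.mp X.isBasis_affineOpens
      (U := ⟨_, hcl.isOpen_compl⟩) hx
    refine ⟨U, hUa, ⟨x, hxU⟩, ?_, fun y hy => hsub (hUO hy)⟩
    exact IsPreirreducible.open_subset Z.2.1.2 U.2 fun y hy => hsub (hUO hy)
  choose U hUa hUne hUirr hUZ using hU
  have hdom : ∀ Z, IsDomain Γ(X, U Z) := by
    intro Z
    have : IrreducibleSpace (U Z).toScheme := by
      have : IsIrreducible (U Z : Set X) := ⟨hUne Z, hUirr Z⟩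
      exact (isIrreducible_iff_irreducibleSpace).mp this
    have := isIntegral_of_irreducibleSpace_of_isReduced (U Z).toScheme
    exact (U Z).topIso.commRingCatIsoToRingEquiv.symm.toMulEquiv.isDomain _
  let ψ : ∀ Z, k →+* Γ(X, U Z) := fun Z =>
    (X.presheaf.map (homOfLE (le_top : U Z ≤ ⊤)).op).hom.comp φ
  have hψ : ∀ Z, (ψ Z).FiniteType := by
    intro Z
    have h1 := f.finiteType_appLE (isAffineOpen_top (Spec (CommRingCat.of k))) (hUa Z) (by simp)
    exact h1.comp (RingHom.FiniteType.of_surjective _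
      (Scheme.ΓSpecIso (CommRingCat.of k)).symm.commRingCatIsoToRingEquiv.surjective)
  have hΨ : ∀ Z, ∃ (ι : Type u) (_ : Finite ι) (Ψ : (Γ(X, U Z))ˣ →* Multiplicative (ι → ℤ)),
      ∀ u, Ψ u = 1 → (ψ Z).IsIntegralElem (u : Γ(X, U Z)) := by
    intro Z
    let := (ψ Z).toAlgebra
    have := hdom Z
    have : Algebra.FiniteType k Γ(X, U Z) := hψ Z
    exact Groth.Curves1.Units.exists_hom k Γ(X, U Z)
  choose ι hι Ψ hΨ using hΨ
  let res : ∀ Z, (Γ(X, ⊤))ˣ →* (Γ(X, U Z))ˣ := fun Z =>
    Units.map ((X.presheaf.map (homOfLE (le_top : U Z ≤ ⊤)).op).hom : Γ(X, ⊤) →* Γ(X, U Z))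
  let Φ : (Γ(X, ⊤))ˣ →* Multiplicative ((Σ Z, ι Z) → ℤ) :=
    MonoidHom.mk' (fun u => Multiplicative.ofAdd fun p => Multiplicative.toAdd (Ψ p.1 (res p.1 u)) p.2)
      fun a b => by
        rw [← ofAdd_add]
        refine congrArg _ (_root_.funext fun p => ?_)
        simp
  refine Groth.Curves1.Units.fg_quotient_of_hom _ Φ fun u hu => ?_
  have hZ : ∀ Z, ∃ q : Polynomial k, q.Monic ∧
      Polynomial.eval₂ (ψ Z) ((res Z u : (Γ(X, U Z))ˣ) : Γ(X, U Z)) q = 0 := fun Z => by
    refine hΨ Z _ (congrArg Multiplicative.ofAdd (_root_.funext fun i => ?_))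
    exact congrFun (congrArg Multiplicative.toAdd (MonoidHom.mem_ker.mp hu)) ⟨Z, i⟩
  choose q hq hq0 using hZ
  have := Fintype.ofFinite (irreducibleComponents (X : Type u))
  have hint' : φ.IsIntegralElem (u : Γ(X, ⊤)) := by
    refine ⟨∏ Z, q Z, Polynomial.monic_prod_of_monic _ _ fun Z _ => hq Z, ?_⟩
    set x := Polynomial.eval₂ φ (u : Γ(X, ⊤)) (∏ Z, q Z)
    have hx : ∀ Z, X.presheaf.map (homOfLE (le_top : U Z ≤ ⊤)).op x = 0 := fun Z => by
      show (X.presheaf.map (homOfLE (le_top : U Z ≤ ⊤)).op).hom x = 0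
      rw [Polynomial.hom_eval₂]
      refine (Polynomial.eval₂_eq_zero_of_dvd_of_eval₂_eq_zero _ _
        (Finset.dvd_prod_of_mem q (Finset.mem_univ Z)) (hq0 Z))
    refine (basicOpen_eq_bot_iff x).mp (Opens.ext (Set.eq_empty_iff_forall_notMem.mpr fun y hy => ?_))
    -- the open set meets the dense union of the `U Z`
    let Z : irreducibleComponents (X : Type u) :=
      ⟨irreducibleComponent y, irreducibleComponent_mem_irreducibleComponents y⟩
    obtain ⟨z, -, hz1, hz2⟩ := Z.2.1.2 _ _ (X.basicOpen x).2 (U Z).2 ⟨y, mem_irreducibleComponent, hy⟩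
      ((hUne Z).mono fun w hw => ⟨hUZ Z hw, hw⟩)
    have h2 := X.basicOpen_res x (homOfLE (le_top : U Z ≤ ⊤)).op
    rw [hx Z, Scheme.basicOpen_zero] at h2
    have h3 : z ∈ U Z ⊓ X.basicOpen x := ⟨hz2, hz1⟩
    rw [← h2] at h3
    exact h3
  obtain ⟨c, hc⟩ := hint _ hint'
  cases subsingleton_or_nontrivial Γ(X, ⊤) with
  | inl h => exact ⟨1, Subsingleton.elim _ _⟩
  | inr h =>
    have hc0 : c ≠ 0 := fun h0 => u.ne_zero (by rw [← hc, h0, map_zero])
    exact ⟨Units.mk0 c hc0, Units.ext hc⟩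

end Groth.Agent.S0215
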