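import Groth.Statements.S0216
import Mathlib
import Groth.Agent.Curves1.ConstantField

set_option autoImplicit false
universe u
open CategoryTheory CategoryTheory.Limits AlgebraicGeometry TopologicalSpace
open Curves

namespace Groth.Agent.S0216


theorem basicOpen_isClosed_of_integral {k : Type u} [Field k] {X : Scheme.{u}} [IsReduced X]
    (φ : k →+* Γ(X, ⊤)) {y : Γ(X, ⊤)}
    (hy : ∀ V : X.Opens, IsAffineOpen V →
      ((X.presheaf.map (homOfLE (le_top : V ≤ ⊤)).op).hom.comp φ).IsIntegralElem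
        (X.presheaf.map (homOfLE (le_top : V ≤ ⊤)).op y)) :
    IsClosed (X.basicOpen y : Set X) := by
  rw [← isOpen_compl_iff, isOpen_iff_forall_mem_open]
  intro x hx
  obtain ⟨V, hV, hxV, -⟩ := Opens.isBasis_iff_nbhd.mp X.isBasis_affineOpens (U := ⊤) (Opens.mem_top x)
  set y' := X.presheaf.map (homOfLE (le_top : V ≤ ⊤)).op y
  let := (((X.presheaf.map (homOfLE (le_top : V ≤ ⊤)).op).hom.comp φ)).toAlgebra
  obtain ⟨z, hz⟩ := Groth.Curves1.ConstantField.exists_mul_one_sub_eq_zero (k := k) (hy V hV)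
  have hres : X.basicOpen y' = V ⊓ X.basicOpen y := X.basicOpen_res y (homOfLE (le_top : V ≤ ⊤)).op
  have hdisj : X.basicOpen y' ⊓ X.basicOpen (1 - y' * z) = ⊥ := by
    rw [← Scheme.basicOpen_mul, hz, Scheme.basicOpen_zero]
  refine ⟨X.basicOpen (1 - y' * z), fun w hw hwy => ?_, (X.basicOpen _).2, ?_⟩
  · have hwV : w ∈ V := X.basicOpen_le _ hw
    have : w ∈ X.basicOpen y' ⊓ X.basicOpen (1 - y' * z) := ⟨by rw [hres]; exact ⟨hwV, hwy⟩, hw⟩
    rw [hdisj] at this
    exact this
  · rw [SetLike.mem_coe, Scheme.mem_basicOpen _ _ _ hxV]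
    by_contra h
    have hy' : ¬ IsUnit (X.presheaf.germ V x hxV y') := fun hu => hx <| by
      have : x ∈ X.basicOpen y' := (Scheme.mem_basicOpen _ _ _ hxV).mpr hu
      rw [hres] at this
      exact this.2
    have hsum := IsLocalRing.isUnit_or_isUnit_of_add_one (R := X.presheaf.stalk x)
      (a := X.presheaf.germ V x hxV (y' * z)) (b := X.presheaf.germ V x hxV (1 - y' * z))
      (by rw [← map_add, add_sub_cancel, map_one])
    rcases hsum with hu | hu
    · rw [map_mul] at hu
      exact hy' (isUnit_of_mul_isUnit_left hu)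
    · exact h hu

theorem integral_elem {k K : Type u} [Field k] [Field K] {X : Scheme.{u}} [IsReduced X]
    [ConnectedSpace X] (a : X ⟶ Spec (CommRingCat.of k)) [LocallyOfFiniteType a]
    (ψ : K →+* Γ(X, ⊤)) (c : K) :
    ((a.appTop).hom.comp (Scheme.ΓSpecIso (CommRingCat.of k)).inv.hom).IsIntegralElem (ψ c) := by
  set φ : k →+* Γ(X, ⊤) := (a.appTop).hom.comp (Scheme.ΓSpecIso (CommRingCat.of k)).inv.hom
  let res : ∀ V : X.Opens, Γ(X, ⊤) →+* Γ(X, V) := fun V =>
    (X.presheaf.map (homOfLE (le_top : V ≤ ⊤)).op).hom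
  have haff : ∀ V : X.Opens, IsAffineOpen V → ((res V).comp φ).IsIntegralElem
      (res V (ψ c)) := by
    intro V hV
    let := ((res V).comp φ).toAlgebra
    have : Algebra.FiniteType k Γ(X, V) := by
      have h1 := a.finiteType_appLE (isAffineOpen_top (Spec (CommRingCat.of k))) hV (by simp)
      exact h1.comp (RingHom.FiniteType.of_surjective _
        (Scheme.ΓSpecIso (CommRingCat.of k)).symm.commRingCatIsoToRingEquiv.surjective)
    exact Groth.Curves1.ConstantField.isIntegral_of_isReduced k Γ(X, V) ((res V).comp ψ) c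
  obtain ⟨x₀⟩ := (inferInstance : Nonempty X)
  obtain ⟨U, hU, hxU, -⟩ := Opens.isBasis_iff_nbhd.mp X.isBasis_affineOpens (U := ⊤) (Opens.mem_top x₀)
  obtain ⟨q, hq, hq0⟩ := haff U hU
  refine ⟨q, hq, ?_⟩
  set y := Polynomial.eval₂ φ (ψ c) q
  have hyU : res U y = 0 := by rw [Polynomial.hom_eval₂]; exact hq0
  have hclosed : IsClosed (X.basicOpen y : Set X) := by
    refine basicOpen_isClosed_of_integral φ fun V hV => ?_
    let := ((res V).comp φ).toAlgebra
    have hmem : res V y = Polynomial.aeval (res V (ψ c)) q := by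
      rw [Polynomial.hom_eval₂, Polynomial.aeval_def]
      rfl
    show IsIntegral k (res V y)
    rw [hmem]
    exact IsIntegral.of_mem_of_fg _ (IsIntegral.fg_adjoin_singleton (haff V hV)) _
      (Polynomial.aeval_mem_adjoin_singleton k _)
  rcases isClopen_iff.mp ⟨hclosed, (X.basicOpen y).2⟩ with h | h
  · exact (basicOpen_eq_bot_iff y).mp (Opens.ext h)
  · exfalso
    have h2 := X.basicOpen_res y (homOfLE (le_top : U ≤ ⊤)).op
    change X.basicOpen (res U y) = _ at h2
    rw [hyU, Scheme.basicOpen_zero] at h2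
    have h3 : x₀ ∈ U ⊓ X.basicOpen y := ⟨hxU, by show x₀ ∈ (X.basicOpen y : Set X); rw [h]; trivial⟩
    rw [← h2] at h3
    exact h3

theorem transfer {k K : Type u} [Field k] [Field K] {R : Type u} [CommRing R] (φ : k →+* R)
    (ψ : K →+* R) (h : ∀ c, φ.IsIntegralElem (ψ c)) {x : R} (hx : ψ.IsIntegralElem x) :
    φ.IsIntegralElem x := by
  obtain ⟨q, hq, hq0⟩ := hx
  let := φ.toAlgebra
  set B := integralClosure k R
  let σ : K →+* B :=
    { toFun := fun c => ⟨ψ c, h c⟩
      map_one' := Subtype.ext (map_one ψ)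
      map_zero' := Subtype.ext (map_zero ψ)
      map_mul' := fun x y => Subtype.ext (map_mul ψ _ _)
      map_add' := fun x y => Subtype.ext (map_add ψ _ _) }
  refine isIntegral_trans (R := k) (A := B) x ⟨q.map σ, hq.map σ, ?_⟩
  rw [Polynomial.eval₂_map]
  exact hq0

/-- If a connected reduced scheme is locally of finite type over two fields k₁ and k₂, then a global
function is integral over k₁ exactly when it is integral over k₂ (the integral closures of the two
base fields in the global functions coincide). -/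
theorem result (X : Scheme.{u}) [IsReduced X] [ConnectedSpace X]
    (k₁ k₂ : Type u) [Field k₁] [Field k₂]
    (a : X ⟶ Spec (CommRingCat.of k₁)) (b : X ⟶ Spec (CommRingCat.of k₂))
    [LocallyOfFiniteType a] [LocallyOfFiniteType b] (x : Coh.Γtop X) :
    (Coh.toGlobal a).IsIntegralElem x ↔ (Coh.toGlobal b).IsIntegralElem x := by
  let φa : k₁ →+* Γ(X, ⊤) := (a.appTop).hom.comp (Scheme.ΓSpecIso (CommRingCat.of k₁)).inv.hom
  let φb : k₂ →+* Γ(X, ⊤) := (b.appTop).hom.comp (Scheme.ΓSpecIso (CommRingCat.of k₂)).inv.hom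
  show φa.IsIntegralElem (x : Γ(X, ⊤)) ↔ φb.IsIntegralElem (x : Γ(X, ⊤))
  exact ⟨transfer φb φa (integral_elem b φa), transfer φa φb (integral_elem a φb)⟩

end Groth.Agent.S0216
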