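import Groth.Statements.S0218
import Mathlib

set_option autoImplicit false
universe u
open Curves

namespace Groth.Agent.S0218

/-- Over an algebraically closed field k, a commutative k-algebra with exactly two k-subalgebras is
isomorphic to k × k or to the dual numbers over k. -/
theorem result (k : Type u) [Field k] [IsAlgClosed k] (A : Type u) [CommRing A] [Algebra k A]
    (h : Nat.card (Subalgebra k A) = 2) :
    Nonempty (A ≃ₐ[k] (k × k)) ∨ Nonempty (A ≃ₐ[k] DualNumber k) := by
  classical
  obtain ⟨-, -⟩ := Nat.card_pos_iff.mp (h ▸ two_pos : 0 < Nat.card (Subalgebra k A))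
  obtain ⟨S₁, S₂, h12, huniv⟩ := Nat.card_eq_two_iff.mp h
  have two : ∀ S : Subalgebra k A, S = ⊥ ∨ S = ⊤ := by
    have hne : (⊥ : Subalgebra k A) ≠ ⊤ := by
      intro e
      have : Subsingleton (Subalgebra k A) :=
        ⟨fun x y => le_antisymm (le_top.trans (e.symm.le.trans bot_le)) (le_top.trans (e.symm.le.trans bot_le))⟩
      exact h12 (Subsingleton.elim _ _)
    intro S
    have hb : (⊥ : Subalgebra k A) ∈ ({S₁, S₂} : Set _) := huniv ▸ Set.mem_univ _
    have ht : (⊤ : Subalgebra k A) ∈ ({S₁, S₂} : Set _) := huniv ▸ Set.mem_univ _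
    have hS : S ∈ ({S₁, S₂} : Set _) := huniv ▸ Set.mem_univ _
    simp only [Set.mem_insert_iff, Set.mem_singleton_iff] at hb ht hS
    grind
  have hne : (⊥ : Subalgebra k A) ≠ ⊤ := fun e => h12 (by
    rcases two S₁ with h₁ | h₁ <;> rcases two S₂ with h₂ | h₂ <;> simp [h₁, h₂, e])
  obtain ⟨a, ha⟩ : ∃ a : A, a ∉ (⊥ : Subalgebra k A) := by
    by_contra hc
    push Not at hc
    exact hne (top_unique fun x _ => hc x)
  have : Nontrivial A := by
    by_contra hn
    rw [not_nontrivial_iff_subsingleton] at hn
    exact ha (by rw [Subsingleton.elim a 0]; exact zero_mem _)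
  have hgen : ∀ x : A, x ∈ Algebra.adjoin k {a} := fun x => by
    rcases two (Algebra.adjoin k {a}) with e | e
    · exact absurd (e ▸ Algebra.self_mem_adjoin_singleton k a) ha
    · rw [e]; trivial
  have hbot : ∀ x : A, x ∈ (⊥ : Subalgebra k A) → ∃ r : k, algebraMap k A r = x := fun x hx =>
    Algebra.mem_bot.mp hx
  -- algebraic
  have hint : IsIntegral k a := by
    rcases two (Algebra.adjoin k {a ^ 2}) with e | e
    · obtain ⟨r, hr⟩ := hbot _ (e ▸ Algebra.self_mem_adjoin_singleton k (a ^ 2))
      refine ⟨Polynomial.X ^ 2 - Polynomial.C r, Polynomial.monic_X_pow_sub_C _ two_ne_zero, ?_⟩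
      simp [hr]
    · obtain ⟨q, hq⟩ : a ∈ (Polynomial.aeval (R := k) (a ^ 2)).range := by
        rw [← Algebra.adjoin_singleton_eq_range_aeval, e]; trivial
      refine IsAlgebraic.isIntegral ⟨q.comp (Polynomial.X ^ 2) - Polynomial.X, fun h0 => ?_, ?_⟩
      · have := congrArg Polynomial.natDegree (sub_eq_zero.mp h0)
        rw [Polynomial.natDegree_comp, Polynomial.natDegree_X_pow, Polynomial.natDegree_X] at this
        omega
      · change (Polynomial.aeval (R := k) (a ^ 2)) q = a at hq
        simp [Polynomial.aeval_comp, hq]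
  set p := minpoly k a
  have hp : p.Monic := minpoly.monic hint
  have small : ∀ q : Polynomial k, Polynomial.aeval a q = 0 → q.natDegree < p.natDegree → q = 0 := by
    intro q hq hd
    by_contra hq0
    exact absurd (Polynomial.natDegree_le_natDegree (minpoly.degree_le_of_ne_zero k a hq0 hq)) (not_le.mpr hd)
  have hn2 : 2 ≤ p.natDegree := minpoly.two_le_natDegree_iff hint |>.mpr fun hr => ha (Algebra.mem_bot.mpr hr)
  obtain ⟨c, hc⟩ := IsAlgClosed.exists_root p (by
    rw [Polynomial.degree_eq_natDegree hp.ne_zero]; exact_mod_cast (by omega : p.natDegree ≠ 0))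
  obtain ⟨q, hpq⟩ := Polynomial.dvd_iff_isRoot.mpr hc
  have hqd : q.natDegree + 1 = p.natDegree := by
    rw [hpq, Polynomial.natDegree_mul (Polynomial.X_sub_C_ne_zero c)
      (fun e => hp.ne_zero (by rw [hpq, e, mul_zero])), Polynomial.natDegree_X_sub_C, add_comm]
  set e := Polynomial.aeval a q
  have hae : (a - algebraMap k A c) * e = 0 := by
    have := minpoly.aeval k a
    rw [show minpoly k a = p from rfl, hpq, map_mul] at this
    simpa using this
  -- the minimal polynomial has degree two
  have hn : p.natDegree = 2 := by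
    by_contra hn
    have hee : ∃ r : k, e * e = algebraMap k A r * e := ⟨q.eval c, by
      obtain ⟨w, hw⟩ := Polynomial.X_sub_C_dvd_sub_C_eval (a := c) (p := q)
      have := congrArg (Polynomial.aeval a) hw
      simp only [map_sub, Polynomial.aeval_C, map_mul, Polynomial.aeval_X] at this
      have h2 : (e - algebraMap k A (q.eval c)) * e = 0 := by
        rw [this, mul_comm (a - algebraMap k A c), mul_assoc, hae, mul_zero]
      linear_combination h2⟩
    obtain ⟨r, hr⟩ := hee
    let S : Subalgebra k A :=
      { carrier := {x | ∃ α β : k, x = algebraMap k A α + algebraMap k A β * e}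
        mul_mem' := by
          rintro _ _ ⟨α, β, rfl⟩ ⟨α', β', rfl⟩
          exact ⟨α * α', α * β' + β * α' + β * β' * r, by
            simp only [map_add, map_mul]; linear_combination (algebraMap k A β * algebraMap k A β') * hr⟩
        add_mem' := by
          rintro _ _ ⟨α, β, rfl⟩ ⟨α', β', rfl⟩
          exact ⟨α + α', β + β', by simp only [map_add]; ring⟩
        algebraMap_mem' := fun α => ⟨α, 0, by simp⟩ }
    have heS : e ∈ S := ⟨0, 1, by simp⟩
    rcases two S with hS | hS
    · obtain ⟨α, hα⟩ := hbot e (hS ▸ heS)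
      have := small (q - Polynomial.C α) (by
        rw [map_sub, Polynomial.aeval_C, hα]
        exact sub_self e)
        (by rw [Polynomial.natDegree_sub_C]; omega)
      rw [sub_eq_zero] at this
      rw [this, Polynomial.natDegree_C] at hqd
      omega
    · obtain ⟨α, β, hαβ⟩ : a ∈ S := by rw [hS]; trivial
      have h0 := small (Polynomial.X - Polynomial.C α - Polynomial.C β * q) (by
          simp only [map_sub, map_mul, Polynomial.aeval_C, Polynomial.aeval_X]
          linear_combination hαβ)
        ((Polynomial.natDegree_sub_le _ _).trans_lt (by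
          have := Polynomial.natDegree_C_mul_le β q
          rw [Polynomial.natDegree_X_sub_C]; omega))
      by_cases hβ : β = 0
      · subst hβ; simp [sub_eq_zero] at h0; exact Polynomial.X_ne_C α h0
      · rw [sub_eq_zero] at h0
        have := congrArg Polynomial.natDegree h0
        rw [Polynomial.natDegree_X_sub_C, Polynomial.natDegree_C_mul hβ] at this
        omega
  have hqm : q.Monic := (Polynomial.monic_X_sub_C c).of_mul_monic_left (hpq ▸ hp)
  have he : e = a + algebraMap k A (q.coeff 0) := by
    change Polynomial.aeval a q = _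
    conv_lhs => rw [hqm.eq_X_add_C (by omega)]
    simp
  set b := a - algebraMap k A c
  have hb : b ∉ (⊥ : Subalgebra k A) := fun hb => ha (by
    have := add_mem hb (Subalgebra.algebraMap_mem (⊥ : Subalgebra k A) c)
    simpa [b] using this)
  have surj : ∀ {B : Type u} [CommRing B] [Algebra k B] (φ : B →ₐ[k] A), b ∈ φ.range →
      Function.Surjective φ := by
    intro B _ _ φ hφ
    rcases two φ.range with e' | e'
    · exact absurd (e' ▸ hφ) hb
    · exact fun x => (by rw [e']; trivial : x ∈ φ.range)
  set δ := q.coeff 0 + c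
  have hb2 : b * (b + algebraMap k A δ) = 0 := by
    rw [← hae, he]; simp only [b, δ, map_add]; ring
  by_cases hδ : δ = 0
  · right
    rw [hδ, map_zero, add_zero] at hb2
    let φ : DualNumber k →ₐ[k] A := DualNumber.lift ⟨(Algebra.ofId k A, b),
      hb2, fun _ => Commute.all _ _⟩
    have hφ : ∀ x : DualNumber k, φ x =
        algebraMap k A x.fst + algebraMap k A x.snd * b := fun x => by
      simp [φ, DualNumber.lift_apply_apply, Algebra.ofId_apply]
    refine ⟨(AlgEquiv.ofBijective φ ⟨?_, surj φ ⟨DualNumber.eps, by simp [hφ]⟩⟩).symm⟩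
    rw [injective_iff_map_eq_zero]
    intro x hx
    rw [hφ] at hx
    have hs : x.snd = 0 := by
      by_contra hs
      refine hb (Algebra.mem_bot.mpr ⟨-(x.snd⁻¹ * x.fst), ?_⟩)
      have h1 : algebraMap k A x.snd⁻¹ * algebraMap k A x.snd = 1 := by
        rw [← map_mul, inv_mul_cancel₀ hs, map_one]
      simp only [map_neg, map_mul]
      linear_combination -(algebraMap k A x.snd⁻¹) * hx + b * h1
    rw [hs, map_zero, zero_mul, add_zero, map_eq_zero] at hx
    exact TrivSqZeroExt.ext hx hs
  · left
    set E := algebraMap k A (-δ⁻¹) * b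
    have hδ' : algebraMap k A δ⁻¹ * algebraMap k A δ = 1 := by
      rw [← map_mul, inv_mul_cancel₀ hδ, map_one]
    have hE : E * E = E := by
      simp only [E, map_neg]
      linear_combination (algebraMap k A δ⁻¹) ^ 2 * hb2 - algebraMap k A δ⁻¹ * b * hδ'
    have hEb : b = -algebraMap k A δ * E := by
      simp only [E, map_neg]; linear_combination -b * hδ'
    let φ : (k × k) →ₐ[k] A :=
      { toFun := fun x => algebraMap k A x.1 * E + algebraMap k A x.2 * (1 - E)
        map_one' := by simp
        map_mul' := fun x y => by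
          simp only [Prod.fst_mul, Prod.snd_mul, map_mul]
          linear_combination -((algebraMap k A x.1 - algebraMap k A x.2) * (algebraMap k A y.1 - algebraMap k A y.2)) * hE
        map_zero' := by simp
        map_add' := fun x y => by simp only [Prod.fst_add, Prod.snd_add, map_add]; ring
        commutes' := fun r => by simp [Prod.algebraMap_apply]; ring }
    refine ⟨(AlgEquiv.ofBijective φ ⟨?_, surj φ ⟨(-δ, 0), ?_⟩⟩).symm⟩
    · rw [injective_iff_map_eq_zero]
      rintro ⟨x, y⟩ hxy
      change algebraMap k A x * E + algebraMap k A y * (1 - E) = 0 at hxy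
      have hx : algebraMap k A x * E = 0 := by
        linear_combination E * hxy - (algebraMap k A x - algebraMap k A y) * hE
      have hy : algebraMap k A y * (1 - E) = 0 := by linear_combination hxy - hx
      refine Prod.ext ?_ ?_
      · by_contra hx0
        have hE0 : E = 0 := (IsUnit.mul_right_eq_zero ((Ne.isUnit hx0).map (algebraMap k A))).mp hx
        exact hb (by rw [hEb, hE0, mul_zero]; exact zero_mem _)
      · by_contra hy0
        have hE1 : 1 - E = 0 := (IsUnit.mul_right_eq_zero ((Ne.isUnit hy0).map (algebraMap k A))).mp hy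
        exact hb (by rw [hEb, ← sub_eq_zero.mp hE1, mul_one, ← map_neg]; exact Subalgebra.algebraMap_mem _ _)
    · change algebraMap k A (-δ) * E + algebraMap k A 0 * (1 - E) = b
      rw [hEb]; simp

end Groth.Agent.S0218
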