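import Groth.Statements.S0219
import Groth.Agent.Curves1.CurveMor.Basic
import Mathlib

set_option autoImplicit false
universe u
open CategoryTheory CategoryTheory.Limits AlgebraicGeometry TopologicalSpace
open Curves

namespace Groth.Agent.S0219

/-- A morphism over a field from a proper scheme of dimension at most one to a separated scheme, which
does not contract any one-dimensional irreducible component to a point, is finite. -/
theorem result (k : Type u) [Field k] (X Y : Scheme.{u}) (p : X ⟶ Spec (CommRingCat.of k)) (q : Y ⟶ Spec (CommRingCat.of k))
    [IsProper p] [IsSeparated q] (f : X ⟶ Y) (hf : f ≫ q = p) (hdim : topologicalKrullDim X ≤ 1)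
    (h : ∀ Z ∈ irreducibleComponents (X : Type u), topologicalKrullDim Z = 1 → (f.base '' Z).Nontrivial) :
    IsFinite f := by
  have : IsProper (f ≫ q) := hf ▸ inferInstance
  have : IsProper f := IsProper.of_comp f q
  have := Groth.Curves1.CurveMor.locallyQuasiFinite_of_map_closed p f hdim
    (fun x hx => Set.image_singleton ▸ f.isClosedMap _ hx)
    (Groth.Curves1.CurveMor.not_isClosed_map_of_nontrivial p f hdim h)
  exact IsFinite.of_isProper_of_locallyQuasiFinite f

end Groth.Agent.S0219
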