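import Groth.Statements.S0221
import Groth.Agent.Misc3Zar.ArtinSchreierVanish
import Groth.Agent.Misc3Zar.ArtinSchreierZar
import Groth.Agent.NagComp.DenseComp
import Groth.Agent.Ega43Dim.DenseFinite
import Groth.Agent.EtaleBase.PullStalk
import Groth.Agent.S0642

set_option autoImplicit false
universe u
open CategoryTheory CategoryTheory.Limits AlgebraicGeometry
open Curves

namespace Groth.Agent.S0221

/-- For a separated finite type scheme of dimension d over an algebraically closed field of
characteristic p, étale cohomology with Z/p coefficients vanishes above degree d. -/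
theorem result (k : Type u) [Field k] [IsAlgClosed k] (p : ℕ) [Fact p.Prime] [CharP k p]
    (X : Scheme.{u}) (f : X ⟶ Spec (CommRingCat.of k)) [IsSeparated f] [LocallyOfFiniteType f] [QuasiCompact f]
    (d : ℕ) (hd : topologicalKrullDim X = d) (q : ℕ) (hq : d + 1 ≤ q) :
    Subsingleton (EtCoh.H X (EtCoh.const X (ZMod p)) q) := by
  have hp : p.Prime := Fact.out
  haveI : CompactSpace X := QuasiCompact.compactSpace_of_compactSpace f
  haveI : QuasiSeparatedSpace X := quasiSeparatedSpace_of_quasiSeparated f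
  have hzero : ∀ {Z : Scheme.{u}} (g : Z ⟶ Spec (CommRingCat.of k)), (p : Γ(Z, ⊤)) = 0 := fun g => by
    have h := congrArg (Coh.toGlobal g) (CharP.cast_eq_zero k p)
    rw [map_natCast, map_zero] at h
    exact h
  by_cases hq' : d + 2 ≤ q
  · exact Groth.Misc3Zar.ASVanish.subsingleton_H_const_above p hp (hzero f) hd.le q hq'
  obtain rfl : q = d + 1 := by omega
  obtain ⟨Cb, j, g, φ, hj, hjq, -, hjd, hg, hjg, -, -⟩ :=
    Groth.NagComp.exists_compactification_over f (𝟙 (Spec (CommRingCat.of k))) f (Category.comp_id f)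
  haveI : CompactSpace Cb := QuasiCompact.compactSpace_of_compactSpace g
  haveI : QuasiSeparatedSpace Cb := quasiSeparatedSpace_of_quasiSeparated g
  haveI : IsLocallyNoetherian Cb := LocallyOfFiniteType.isLocallyNoetherian g
  haveI : AlgebraicGeometry.IsNoetherian Cb := ⟨⟩
  let U : Cb.Opens := j.opensRange
  let i : X ⟶ (U : Scheme.{u}) := j.isoOpensRange.hom
  haveI : IsIso i := inferInstance
  have hU : IsCompact (U : Set Cb) := by
    show IsCompact (Set.range j)
    exact isCompact_range j.continuous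
  have hdU : topologicalKrullDim (U : Scheme.{u}) = d :=
    ((IsHomeomorph.topologicalKrullDim_eq _ (Scheme.homeoOfIso j.isoOpensRange).isHomeomorph).symm.trans hd)
  have hdC : topologicalKrullDim Cb = d :=
    (Groth.Ega43Dim.dim_opens_of_dense g U j.denseRange).symm.trans hdU
  haveI : CompactSpace (U : Scheme.{u}) := isCompact_iff_compactSpace.1 hU
  haveI : QuasiSeparatedSpace (U : Scheme.{u}) := quasiSeparatedSpace_of_quasiSeparated (U.ι ≫ g)
  have hsC := Groth.Misc3Zar.ASProper.surjective_H_artinSchreier p hp (hzero g) g d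
  have hsU := Groth.Misc3Zar.ASZar.surjective_asZar_opens p hp (hzero g) d hdC.le U hU
    ((Groth.Misc3Zar.ASZar.surjective_et_iff p hp (hzero g) d).1 hsC) (hzero (U.ι ≫ g))
  haveI : Subsingleton (EtCoh.H (U : Scheme.{u}) (EtCoh.const (U : Scheme.{u}) (ZMod p)) (d + 1)) :=
    Groth.Misc3Zar.ASVanish.subsingleton_H_const_succ p hp (hzero (U.ι ≫ g)) d
      ((Groth.Misc3Zar.ASZar.surjective_et_iff p hp (hzero (U.ι ≫ g)) d).2 hsU)
      (Groth.Misc3Zar.ASVanish.subsingleton_H_Ga hdU.le (d + 1) (by omega))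
  have hb := Groth.Agent.S0642.result i (EtCoh.const (U : Scheme.{u}) (ZMod p)) (d + 1)
  haveI : Subsingleton (EtCoh.H X ((EtCoh.pull i).obj (EtCoh.const (U : Scheme.{u}) (ZMod p))) (d + 1)) :=
    hb.2.subsingleton
  have h' : Subsingleton ((EtCoh.HF X (d + 1)).obj ((EtCoh.pull i).obj (EtCoh.const (U : Scheme.{u}) (ZMod p)))) :=
    ‹_›
  exact (((EtCoh.HF X (d + 1)).mapIso (EtCore.pullConst i (ZMod p)).symm).addCommGroupIsoToAddEquiv.toEquiv).subsingleton

end Groth.Agent.S0221
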