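import Groth.Statements.S0222
import Groth.Agent.S0002
import Groth.Agent.Lichtenbaum.TopVanish
import Groth.Agent.CohTwo.PushClosed
import Groth.Agent.CohTwo.AmpleTwoPieces

set_option autoImplicit false
set_option linter.style.haveILetI false
universe u
open CategoryTheory CategoryTheory.Limits AlgebraicGeometry
open Curves

open TopologicalSpace

namespace Groth.Agent.S0222

set_option maxHeartbeats 800000 in
/-- Top cohomology of coherent modules is finite: the pieces supported on proper integral closed
subschemes by finiteness on proper schemes, the others by Lichtenbaum vanishing. -/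
theorem hFin_top {k : Type u} [Field k] {X : Scheme.{u}} (f : X ⟶ Spec (CommRingCat.of k))
    [IsSeparated f] [LocallyOfFiniteType f] [QuasiCompact f] (d : ℕ)
    (hdim : topologicalKrullDim X ≤ d) (F : X.Modules) (hF : Coh.IsCoh F) :
    Groth.CohFin.HFin f F d := by
  classical
  haveI := Groth.Lichtenbaum.isNoetherian_of_field f
  haveI := Groth.Lichtenbaum.isSeparated_of_field f
  have hht : ∀ x : X, Order.height x ≤ (d : ℕ∞) := fun x => by
    have := (le_iSup (fun x : X => ((Order.height x : ℕ∞) : WithBot ℕ∞)) x).trans
      ((Groth.Variety2.Dim.dim_eq_iSup_height X).symm.le.trans hdim)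
    exact_mod_cast this
  refine Groth.CohTwo.coh_induction (fun M => Groth.CohFin.HFin f M d) ?_
    (fun M hM => Groth.CohFin.hFin_of_isZero hM d)
    (fun S hS _ _ _ h1 h3 => Groth.CohFin.hFin_middle hS h1 h3)
    Set.univ ?_ isClosed_univ F hF (Set.subset_univ _)
  · rintro M N ⟨e⟩ hM
    exact Groth.CohFin.hFin_of_iso e hM
  intro Y ξ hY _ F hF hk _
  haveI := hF.1
  have hFY : CohB1.support F ⊆ (Y : Set X) := by
    refine hk.support_subset.trans ?_
    rw [Scheme.IdealSheafData.coe_support_vanishingIdeal]
  rcases lt_or_eq_of_le (hht ξ) with hlt | heq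
  · exact Groth.CohFin.hFin_of_subsingleton (Groth.Lichtenbaum.subsingleton_HH_of_height_lt F d
      (fun x hx => lt_of_le_of_lt
        (Order.height_mono (specializes_iff_mem_closure.2 (hY ▸ hFY hx))) hlt) d le_rfl)
  let I := Scheme.IdealSheafData.vanishingIdeal Y
  let i := I.subschemeι
  haveI := Groth.CohTwo.isIntegral_closure_subscheme hY
  have hiη := Groth.CohTwo.apply_genericPoint_eq i
    ((Groth.PropsBasic2.range_vanishingIdeal_subschemeι Y).trans hY)
  have hdZ : topologicalKrullDim I.subscheme = d := by
    rw [Groth.Variety2.Dim.dim_eq_height_genericPoint,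
      ← Groth.Variety2.Dim.height_eq_of_isPreimmersion (i ≫ f) f i rfl, hiη, heq]
    rfl
  let G := (Scheme.Modules.pullback i).obj F
  have hG : Coh.IsCoh G := Groth.FlatStrata.isCoh_pullback i hF
  haveI := hG.1
  haveI : IsIso ((Scheme.Modules.pullbackPushforwardAdjunction i).unit.app F) :=
    (Groth.QCohMod.isIso_unit_closedImmersion_iff i F).2 fun U a ha s =>
      hk.smul_eq_zero U.2 (by rwa [show i.ker = I from I.ker_subschemeι] at ha) s
  let e₀ : F ≅ (Scheme.Modules.pushforward i).obj G :=
    asIso ((Scheme.Modules.pullbackPushforwardAdjunction i).unit.app F)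
  haveI := Groth.Lichtenbaum.isNoetherian_of_field (i ≫ f)
  haveI := Groth.Lichtenbaum.isSeparated_of_field (i ≫ f)
  refine Groth.CohFin.hFin_of_iso e₀.symm ((Groth.CohFin.hFin_push_affine_iff i f d G).2 ?_)
  by_cases hp : IsProper (i ≫ f)
  · exact Groth.CohFin.hFin_of_proper Groth.CohFin.projFinite d I.subscheme (i ≫ f) G hG
  refine Groth.CohFin.hFin_of_subsingleton
    (Groth.Lichtenbaum.subsingleton_HH_top (i ≫ f) d hdZ.le (fun Z j _ _ hZ hpr => hp ?_) G hG)
  have hj : Set.range j = Set.univ := by
    have h1 : Order.height (genericPoint Z) = (d : ℕ∞) := by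
      rw [Groth.Variety2.Dim.dim_eq_height_genericPoint] at hZ
      exact_mod_cast hZ
    have h2 : Order.height (genericPoint I.subscheme) = (d : ℕ∞) := by
      rw [Groth.Variety2.Dim.dim_eq_height_genericPoint] at hdZ
      exact_mod_cast hdZ
    have h3 : j (genericPoint Z) = genericPoint I.subscheme := by
      by_contra hne
      have hlt := Groth.Lichtenbaum.height_lt_of_mem (i ≫ f) (isClosed_closure (s := {j (genericPoint Z)}))
        (ξ := genericPoint I.subscheme) (x := j (genericPoint Z))
        (fun h => hne ((specializes_iff_mem_closure.2 h).antisymm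
          (genericPoint_specializes _)).eq)
        (subset_closure rfl) (genericPoint_specializes _)
      rw [← Groth.Variety2.Dim.height_eq_of_isPreimmersion (j ≫ i ≫ f) (i ≫ f) j rfl] at h1
      exact absurd hlt (by rw [h2, h1]; exact lt_irrefl _)
    exact Set.eq_univ_of_forall fun z =>
      (genericPoint_specializes z).mem_closed j.isClosedEmbedding.isClosed_range ⟨_, h3⟩
  haveI : Surjective j := ⟨Set.range_eq_univ.1 hj⟩
  haveI : IsIso j := isIso_of_isClosedImmersion_of_surjective j
  haveI := hpr
  have : IsProper (inv j ≫ j ≫ i ≫ f) := inferInstance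
  rwa [IsIso.inv_hom_id_assoc] at this

/-- For a separated scheme of finite type and dimension d over a field k and a coherent module F, the
top cohomology H^d(X, F) is finite-dimensional over k (no properness needed). -/
theorem result (k : Type u) [Field k] (X : Scheme.{u}) [X.Over (Spec (CommRingCat.of k))]
    [IsSeparated (X ↘ Spec (CommRingCat.of k))] [LocallyOfFiniteType (X ↘ Spec (CommRingCat.of k))]
    [QuasiCompact (X ↘ Spec (CommRingCat.of k))]
    (F : X.Modules) (hF : Coh.IsCoh F) (d : ℕ) (hd : topologicalKrullDim X = d) :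
    Module.Finite k (Coh.HH X F d) := by
  exact hFin_top (X ↘ Spec (CommRingCat.of k)) d hd.le F hF

end Groth.Agent.S0222
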