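import Groth.Statements.S0224
import Groth.Agent.ModelsGraphs.PicDim.EtH1
import Groth.Agent.ModelsGraphs.PicDim.TorsSep
import Groth.Agent.AbVarMul.ZModFree
import Groth.Agent.ModelsGraphs.GlobalFunctions

set_option autoImplicit false
set_option linter.unusedSimpArgs false
universe u
open CategoryTheory CategoryTheory.Limits AlgebraicGeometry
open Curves
open scoped Groth.Abvar.PicCalc

namespace Groth.Agent.S0224

/-- Let X be a smooth proper curve of genus g over an algebraically closed field k, the genus being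
dim_k H¹(X, O_X), and let n ≥ 1 be an integer invertible in k. Then the first étale cohomology group
of X with coefficients in the constant sheaf ℤ/n is (noncanonically) isomorphic to (ℤ/n)^{2g}. (The
published statement assumes X projective; stated here for X proper.) -/
theorem result (k : Type u) [Field k] [IsAlgClosed k] (X : Scheme.{u}) [X.Over (Spec (CommRingCat.of k))]
    (hX : Curve.IsSmoothProperCurve k X (X ↘ Spec (CommRingCat.of k)))
    (g : ℕ) (hg : Module.finrank k (Coh.HH X (Coh.structureModule X) 1) = g)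
    (n : ℕ) (hn : 1 ≤ n) (hnk : (n : k) ≠ 0) :
    Nonempty (EtCoh.H X (EtCoh.const X (ZMod n)) 1 ≃+ (Fin (2 * g) → ZMod n)) := by
  have hg' := hg; clear hg
  obtain ⟨hP, hS, hI, hdim⟩ := hX
  let p := X ↘ Spec (CommRingCat.of k)
  haveI : IsProper (X ↘ Spec (CommRingCat.of k)) := hP
  haveI : Smooth (X ↘ Spec (CommRingCat.of k)) := hS
  haveI : IsIntegral X := hI
  haveI : JacobsonSpace X := LocallyOfFiniteType.jacobsonSpace p
  obtain ⟨x, -, hx⟩ := nonempty_inter_closedPoints (Z := (Set.univ : Set X))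
    Set.univ_nonempty isOpen_univ.isLocallyClosed
  haveI : GeometricallyConnected p := Groth.AlgGrp1.geometricallyConnected_of_point p
    (pointOfClosedPoint p x hx) (pointOfClosedPoint_comp p x hx)
  let gR : k →+* Γ(X, ⊤) := p.appTop.hom.comp (Scheme.ΓSpecIso (CommRingCat.of k)).inv.hom
  have hg : Function.Bijective gR :=
    (Groth.ModelsGraphs.GlobalFun.appTop_bijective_of_geometricallyConnected p).comp
      (ConcreteCategory.bijective_of_isIso (Scheme.ΓSpecIso (CommRingCat.of k)).inv)
  let E : k ≃+* Γ(X, ⊤) := RingEquiv.ofBijective gR hg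
  have hnΓ : IsUnit (n : Γ(X, ⊤)) := by
    simpa using (isUnit_iff_ne_zero.2 hnk).map gR
  have hdiv : ∀ a : (Γ(X, ⊤) : Type u)ˣ, ∃ b, b ^ n = a := by
    intro a
    let E' := Units.mapEquiv E.toMulEquiv
    obtain ⟨y, hy⟩ := IsAlgClosed.exists_pow_nat_eq ((E'.symm a : kˣ) : k) (n := n) hn
    have hy0 : y ≠ 0 := by
      rintro rfl
      rw [zero_pow (by omega)] at hy
      exact (E'.symm a).ne_zero hy.symm
    refine ⟨E' (Units.mk0 y hy0), ?_⟩
    rw [← map_pow]
    exact (congrArg E' (Units.ext (by simpa using hy))).trans (E'.apply_symm_apply a)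
  obtain ⟨ζ₀, hζ₀⟩ : ∃ ζ : k, (Polynomial.cyclotomic n k).IsRoot ζ :=
    IsAlgClosed.exists_root _ (Polynomial.degree_cyclotomic_pos n k (by omega)).ne'
  have hζ : Polynomial.aeval (gR ζ₀) (Polynomial.cyclotomic n ℤ) = 0 := by
    have h : Polynomial.aeval ζ₀ (Polynomial.cyclotomic n ℤ) = 0 := by
      rw [Polynomial.aeval_def, algebraMap_int_eq, ← Polynomial.eval_map, Polynomial.map_cyclotomic]
      exact hζ₀
    exact (Polynomial.aeval_algHom_apply gR.toIntAlgHom ζ₀ _).trans
      ((congrArg gR h).trans (map_zero _))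
  obtain ⟨e⟩ := Groth.ModelsGraphs.PicDim.nonempty_H1_const_addEquiv X n hn hnΓ (gR ζ₀) hζ hdiv
  let G := (nsmulAddMonoidHom n : Additive (PicLoc.PicSet X) →+ Additive (PicLoc.PicSet X)).ker
  have hc : ∀ d : ℕ, (d : k) ≠ 0 → Nat.card (Groth.ModelsGraphs.PicDim.Tors d X) = d ^ (2 * g) := by
    intro d hd
    have h := Groth.Agent.S6545.result k X hdim d (isUnit_iff_ne_zero.2 hd)
    rw [Groth.ModelsGraphs.PicDim.card_cl_eq, show Curv2.genus k X = g from hg'] at h
    exact h
  obtain ⟨e'⟩ : Nonempty (G ≃+ (Fin (2 * g) → ZMod n)) := by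
    refine Groth.AbVarMul.nonempty_addEquiv_fun_zmod (by omega) (fun x => Subtype.ext x.2) ?_ ?_
    · rw [← hc n hnk]
      exact Nat.card_congr
        { toFun := fun x => ⟨x.1.toMul, x.2⟩
          invFun := fun c => ⟨Additive.ofMul c.1, c.2⟩
          left_inv := fun x => rfl
          right_inv := fun c => rfl }
    · intro q hq hqn
      obtain ⟨m, rfl⟩ := hqn
      rw [← hc q (fun h => hnk (by rw [Nat.cast_mul, h, zero_mul]))]
      exact Nat.card_congr
        { toFun := fun x => ⟨x.1.1.toMul, congrArg (fun y : G => y.1.toMul) x.2⟩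
          invFun := fun c => ⟨⟨Additive.ofMul c.1, by
              show c.1 ^ (q * m) = 1
              rw [pow_mul, c.2, one_pow]⟩, Subtype.ext c.2⟩
          left_inv := fun x => rfl
          right_inv := fun c => rfl }
  exact ⟨e.trans e'⟩

end Groth.Agent.S0224
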