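import Groth.Statements.S0225
import Groth.Agent.ModelsGraphs.PicDim.EtH1
import Groth.Agent.ModelsGraphs.PicDim.PicDeg
import Groth.Agent.S0227
import Groth.Agent.ModelsGraphs.GlobalFunctions

set_option autoImplicit false
set_option linter.unusedSimpArgs false
universe u
open CategoryTheory CategoryTheory.Limits AlgebraicGeometry
open Curves
open scoped Groth.Abvar.PicCalc

namespace Groth.Agent.S0225

/-- For a smooth proper curve X over an algebraically closed field k and an integer n ≥ 1 invertible in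
k, the étale cohomology group H²(X, ℤ/n) of the constant sheaf ℤ/n is isomorphic to ℤ/n. (The
published statement is for smooth projective curves; smooth proper is assumed here.) -/
theorem result (k : Type u) [Field k] [IsAlgClosed k] (X : Scheme.{u}) [X.Over (Spec (CommRingCat.of k))]
    (hX : Curve.IsSmoothProperCurve k X (X ↘ Spec (CommRingCat.of k)))
    (n : ℕ) (hn : 1 ≤ n) (hnk : (n : k) ≠ 0) :
    Nonempty (EtCoh.H X (EtCoh.const X (ZMod n)) 2 ≃+ ZMod n) := by
  obtain ⟨hP, hS, hI, hdim⟩ := hX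
  let p := X ↘ Spec (CommRingCat.of k)
  haveI : IsProper (X ↘ Spec (CommRingCat.of k)) := hP
  haveI : Smooth (X ↘ Spec (CommRingCat.of k)) := hS
  haveI : IsIntegral X := hI
  haveI : JacobsonSpace X := LocallyOfFiniteType.jacobsonSpace p
  obtain ⟨x, -, hx⟩ := nonempty_inter_closedPoints (Z := (Set.univ : Set X))
    Set.univ_nonempty isOpen_univ.isLocallyClosed
  haveI : GeometricallyConnected p := Groth.AlgGrp1.geometricallyConnected_of_point p
    (pointOfClosedPoint p x hx) (pointOfClosedPoint_comp p x hx)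
  let gR : k →+* Γ(X, ⊤) := p.appTop.hom.comp (Scheme.ΓSpecIso (CommRingCat.of k)).inv.hom
  have hg : Function.Bijective gR :=
    (Groth.ModelsGraphs.GlobalFun.appTop_bijective_of_geometricallyConnected p).comp
      (ConcreteCategory.bijective_of_isIso (Scheme.ΓSpecIso (CommRingCat.of k)).inv)
  let E : k ≃+* Γ(X, ⊤) := RingEquiv.ofBijective gR hg
  have hnΓ : IsUnit (n : Γ(X, ⊤)) := by
    simpa using (isUnit_iff_ne_zero.2 hnk).map gR
  obtain ⟨ζ₀, hζ₀⟩ : ∃ ζ : k, (Polynomial.cyclotomic n k).IsRoot ζ :=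
    IsAlgClosed.exists_root _ (Polynomial.degree_cyclotomic_pos n k (by omega)).ne'
  have hζ : Polynomial.aeval (gR ζ₀) (Polynomial.cyclotomic n ℤ) = 0 := by
    have h : Polynomial.aeval ζ₀ (Polynomial.cyclotomic n ℤ) = 0 := by
      rw [Polynomial.aeval_def, algebraMap_int_eq, ← Polynomial.eval_map, Polynomial.map_cyclotomic]
      exact hζ₀
    exact (Polynomial.aeval_algHom_apply gR.toIntAlgHom ζ₀ _).trans
      ((congrArg gR h).trans (map_zero _))
  have hf : Groth.PicCurve.IsPtCurve p := Groth.PicCurve.isPtCurve ⟨hP, hS, hI, hdim⟩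
    (pointOfClosedPoint p x hx) (pointOfClosedPoint_comp p x hx)
  haveI : Subsingleton (EtCoh.H X (EtCoh.Gm X) 2) :=
    Groth.Agent.S0227.result k X p hdim 2 le_rfl
  obtain ⟨e⟩ := Groth.ModelsGraphs.PicDim.nonempty_H2_const_addEquiv X n hn hnΓ (gR ζ₀) hζ
  let d : Additive (PicLoc.PicSet X) →+ ℤ :=
    AddMonoidHom.mk' (fun c => Groth.ModelsGraphs.PicDim.deg0 p c.toMul)
      fun a b => Groth.ModelsGraphs.PicDim.deg0_mul hf a.toMul b.toMul
  obtain ⟨N, hN⟩ := Groth.ModelsGraphs.PicDim.exists_deg0_one hf (pointOfClosedPoint_comp p x hx)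
  let D : Additive (PicLoc.PicSet X) →+ ZMod n := (Int.castAddHom (ZMod n)).comp d
  have hd : ∀ m : ℤ, d (m • Additive.ofMul N) = m := fun m => by
    rw [map_zsmul]
    show m • Groth.ModelsGraphs.PicDim.deg0 p N = m
    rw [hN, smul_eq_mul, mul_one]
  have hD : Function.Surjective D := fun m => by
    obtain ⟨m, rfl⟩ := ZMod.intCast_surjective m
    exact ⟨m • Additive.ofMul N, congrArg (Int.cast : ℤ → ZMod n) (hd m)⟩
  have hDk : (nsmulAddMonoidHom n : Additive (PicLoc.PicSet X) →+ _).range = D.ker := by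
    ext c
    rw [AddMonoidHom.mem_range, AddMonoidHom.mem_ker]
    constructor
    · rintro ⟨y, rfl⟩
      show D (n • y) = 0
      rw [map_nsmul, ← Nat.cast_smul_eq_nsmul (ZMod n), ZMod.natCast_self, zero_smul]
    · intro hc
      obtain ⟨m, hm⟩ := (ZMod.intCast_zmod_eq_zero_iff_dvd (d c) n).1 hc
      obtain ⟨b, hb⟩ := Groth.ModelsGraphs.PicDim.exists_root_of_deg0_zero hf
        (pointOfClosedPoint_comp p x hx) (n := n) (by omega)
        (c := (c - ((n : ℤ) * m) • Additive.ofMul N).toMul)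
        (show d (c - ((n : ℤ) * m) • Additive.ofMul N) = 0 by rw [map_sub, hd, hm, sub_self])
      refine ⟨Additive.ofMul b + m • Additive.ofMul N, ?_⟩
      rw [nsmulAddMonoidHom_apply, nsmul_add, ← ofMul_pow, hb, ofMul_toMul, ← natCast_zsmul, smul_smul,
        sub_add_cancel]
  exact ⟨(e.trans (QuotientAddGroup.quotientAddEquivOfEq hDk)).trans
    (QuotientAddGroup.quotientKerEquivOfSurjective D hD)⟩

end Groth.Agent.S0225
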