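import Groth.Statements.S0226
import Mathlib

set_option autoImplicit false
universe u
open Curves

namespace Groth.Agent.S0226

/-- In a regular local ring of dimension two, an ideal inside the maximal ideal with reduced quotient is
zero, the maximal ideal, or principal. -/
theorem result (A : Type u) [CommRing A] [IsRegularLocalRing A] (hdim : ringKrullDim A = 2)
    (I : Ideal A) (hI : I ≤ IsLocalRing.maximalIdeal A) [IsReduced (A ⧸ I)] :
    I = ⊥ ∨ I = IsLocalRing.maximalIdeal A ∨ ∃ f ∈ IsLocalRing.maximalIdeal A, f ≠ 0 ∧ I = Ideal.span {f} := by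
  classical
  set m := IsLocalRing.maximalIdeal A
  by_cases hbot : I = ⊥
  · exact Or.inl hbot
  by_cases hIm : I = m
  · exact Or.inr (Or.inl hIm)
  right; right
  have hrad : I.IsRadical := (Ideal.isRadical_iff_quotient_reduced I).mpr inferInstance
  have hIrad : I.radical = I := Ideal.radical_eq_iff.mpr hrad
  have hsum : sInf I.minimalPrimes = I := by rw [Ideal.sInf_minimalPrimes]; exact hIrad
  have hfin : I.minimalPrimes.Finite := Ideal.finite_minimalPrimes_of_isNoetherianRing A I
  have hne : ∀ P ∈ I.minimalPrimes, ¬ m ≤ P := by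
    intro P hP hmP
    have hPm : P = m := le_antisymm (IsLocalRing.le_maximalIdeal hP.1.1.ne_top) hmP
    apply hIm
    refine le_antisymm hI ?_
    conv_rhs => rw [← hsum]
    exact le_sInf fun Q hQ => hPm ▸
      hP.2 hQ.1 ((IsLocalRing.le_maximalIdeal hQ.1.1.ne_top).trans hPm.ge)
  -- two generators
  obtain ⟨S, hScard, hS⟩ := Submodule.FG.exists_span_finset_card_eq_spanFinrank
    (IsNoetherian.noetherian (m : Submodule A A))
  have h2 : S.card = 2 := by
    have := IsRegularLocalRing.spanFinrank_maximalIdeal (R := A)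
    rw [hdim, ← hScard] at this
    exact_mod_cast this
  obtain ⟨a, b, -, rfl⟩ := Finset.card_eq_two.mp h2
  have hm2 : ¬ m ≤ m ^ 2 := by
    intro h
    have : m = ⊥ := by
      refine Submodule.eq_bot_of_le_smul_of_le_jacobson_bot m m (IsNoetherian.noetherian m) ?_ ?_
      · rw [smul_eq_mul, ← pow_two]; exact h
      · exact IsLocalRing.maximalIdeal_le_jacobson ⊥
    have h0 := IsRegularLocalRing.spanFinrank_maximalIdeal (R := A)
    rw [hdim, show IsLocalRing.maximalIdeal A = ⊥ from this, Submodule.spanFinrank_bot] at h0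
    exact absurd h0 (by norm_num)
  -- prime avoidance
  obtain ⟨x, hxm, hx⟩ : ∃ x ∈ m, x ∉ m ^ 2 ∧ ∀ P ∈ I.minimalPrimes, x ∉ P := by
    by_contra hc
    push Not at hc
    let F : Option (Ideal A) → Ideal A := fun o => o.getD (m ^ 2)
    have hsub : (m : Set A) ⊆ ⋃ o ∈ (↑(insert none (hfin.toFinset.image some)) : Set (Option (Ideal A))), F o := by
      intro y hy
      simp only [Set.mem_iUnion]
      by_cases hy2 : y ∈ m ^ 2
      · exact ⟨none, by simp, hy2⟩
      · obtain ⟨P, hP, hyP⟩ := hc y hy hy2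
        exact ⟨some P, Finset.mem_coe.mpr (Finset.mem_insert_of_mem (Finset.mem_image_of_mem _ (hfin.mem_toFinset.mpr hP))), hyP⟩
    obtain ⟨o, ho, hle⟩ := (Ideal.subset_union_prime none none (fun o ho h _ => by
      rcases Finset.mem_insert.mp ho with rfl | ho
      · exact absurd rfl h
      · obtain ⟨P, hP, rfl⟩ := Finset.mem_image.mp ho
        exact (hfin.mem_toFinset.mp hP).1.1)).mp hsub
    rcases Finset.mem_insert.mp ho with rfl | ho
    · exact hm2 hle
    · obtain ⟨P, hP, rfl⟩ := Finset.mem_image.mp ho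
      exact hne P (hfin.mem_toFinset.mp hP) hle
  obtain ⟨hx2, hxP⟩ := hx
  have hreg : ∀ p : A, p * x ∈ I → p ∈ I := by
    intro p hp
    rw [← hsum, Ideal.mem_sInf]
    intro P hP
    exact (hP.1.1.mem_or_mem (hP.1.2 hp)).resolve_right (hxP P hP)
  obtain ⟨y, hmxy⟩ : ∃ y, m = Ideal.span {x, y} := by
    have hmab : m = Ideal.span {a, b} := by
      rw [← hS]; simp [Ideal.span]
    obtain ⟨u, v, huv⟩ := Ideal.mem_span_pair.mp (hmab ▸ hxm)
    have ham : a ∈ m := hmab ▸ Ideal.subset_span (Set.mem_insert a {b})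
    have hbm : b ∈ m := hmab ▸ Ideal.subset_span (Set.mem_insert_of_mem a rfl)
    have hu : IsUnit u ∨ IsUnit v := by
      by_contra hc
      push Not at hc
      apply hx2
      rw [← huv, pow_two]
      exact add_mem (Ideal.mul_mem_mul ((IsLocalRing.mem_maximalIdeal u).mpr hc.1) ham)
        (Ideal.mul_mem_mul ((IsLocalRing.mem_maximalIdeal v).mpr hc.2) hbm)
    rcases hu with hu | hv
    · obtain ⟨w, hw⟩ := hu.exists_left_inv
      refine ⟨b, le_antisymm ?_ (Ideal.span_le.mpr (Set.pair_subset hxm hbm))⟩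
      rw [hmab, Ideal.span_le]
      exact Set.pair_subset (Ideal.mem_span_pair.mpr ⟨w, -(w * v),
        by linear_combination -w * huv + a * hw⟩) (Ideal.subset_span (Set.mem_insert_of_mem _ rfl))
    · obtain ⟨w, hw⟩ := hv.exists_left_inv
      refine ⟨a, le_antisymm ?_ (Ideal.span_le.mpr (Set.pair_subset hxm ham))⟩
      rw [hmab, Ideal.span_le]
      exact Set.pair_subset (Ideal.subset_span (Set.mem_insert_of_mem _ rfl))
        (Ideal.mem_span_pair.mpr ⟨w, -(w * u), by linear_combination -w * huv + b * hw⟩)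
  let L : ℕ → Ideal A := fun n => Ideal.span {x} ⊔ Ideal.span {y ^ n}
  have hxI : I ≤ Ideal.span {x} → False := by
    intro h
    apply hbot
    refine Submodule.eq_bot_of_le_smul_of_le_jacobson_bot m I (IsNoetherian.noetherian I) ?_
      (IsLocalRing.maximalIdeal_le_jacobson ⊥)
    intro z hz
    obtain ⟨p, hp⟩ := Ideal.mem_span_singleton'.mp (h hz)
    rw [show z = x • p by rw [← hp, smul_eq_mul, mul_comm]]
    exact Submodule.smul_mem_smul hxm (hreg p (hp.symm ▸ hz))
  obtain ⟨n, hn, hn1⟩ : ∃ n, I ≤ L n ∧ ¬ I ≤ L (n + 1) := by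
    by_contra hc
    push Not at hc
    have hall : ∀ n, I ≤ L n := by
      intro n
      induction n with
      | zero => simp [L]
      | succ n ih => exact hc n ih
    apply hxI
    intro z hz
    have hlocal : IsLocalRing (A ⧸ Ideal.span {x}) :=
      have : Nontrivial (A ⧸ Ideal.span {x}) := Ideal.Quotient.nontrivial_iff.mpr (by
        rw [Ne, Ideal.span_singleton_eq_top]; exact (IsLocalRing.mem_maximalIdeal x).mp hxm)
      IsLocalRing.of_surjective' _ Ideal.Quotient.mk_surjective
    rw [← Ideal.Quotient.eq_zero_iff_mem, ← Ideal.mem_bot,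
      ← Ideal.iInf_pow_eq_bot_of_isLocalRing (IsLocalRing.maximalIdeal (A ⧸ Ideal.span {x}))
        (IsLocalRing.maximalIdeal.isMaximal _).ne_top]
    rw [Ideal.mem_iInf]
    intro n
    obtain ⟨p, hp, q, hq, hpq⟩ := Submodule.mem_sup.mp (hall n hz)
    obtain ⟨c, rfl⟩ := Ideal.mem_span_singleton'.mp hq
    rw [← hpq, map_add, Ideal.Quotient.eq_zero_iff_mem.mpr hp, zero_add, map_mul, map_pow]
    refine Ideal.mul_mem_left _ _ (Ideal.pow_mem_pow ?_ n)
    rw [IsLocalRing.mem_maximalIdeal]
    intro hu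
    have hym : y ∈ m := hmxy ▸ Ideal.subset_span (Set.mem_insert_of_mem x rfl)
    obtain ⟨w, hw⟩ := hu.exists_right_inv
    obtain ⟨w, rfl⟩ := Ideal.Quotient.mk_surjective w
    rw [← map_mul, ← map_one (Ideal.Quotient.mk (Ideal.span {x})), Ideal.Quotient.eq] at hw
    have : (1 : A) ∈ m := by
      have h1 : y * w - (y * w - 1) ∈ m := sub_mem (Ideal.mul_mem_right _ _ hym)
        ((Ideal.span_singleton_le_iff_mem m).mpr hxm hw)
      simpa using h1
    exact (IsLocalRing.maximalIdeal.isMaximal A).ne_top ((Ideal.eq_top_iff_one _).mpr this)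
  obtain ⟨f, hfI, hf⟩ := SetLike.not_le_iff_exists.mp hn1
  obtain ⟨p, hp, q, hq, hpq⟩ := Submodule.mem_sup.mp (hn hfI)
  obtain ⟨u, rfl⟩ := Ideal.mem_span_singleton'.mp hq
  obtain ⟨r, rfl⟩ := Ideal.mem_span_singleton'.mp hp
  have hu : IsUnit u := by
    by_contra hu
    obtain ⟨s, t, hst⟩ := Ideal.mem_span_pair.mp (hmxy ▸ (show u ∈ m from (IsLocalRing.mem_maximalIdeal u).mpr hu))
    refine hf (Submodule.mem_sup.mpr ⟨(r + s * y ^ n) * x, Ideal.mem_span_singleton'.mpr ⟨_, rfl⟩,
      t * y ^ (n + 1), Ideal.mem_span_singleton'.mpr ⟨_, rfl⟩, ?_⟩)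
    rw [← hpq, ← hst]; ring
  obtain ⟨w, hw⟩ := hu.exists_left_inv
  have heq : I = Ideal.span {f} := by
    refine le_antisymm ?_ ((Ideal.span_singleton_le_iff_mem I).mpr hfI)
    refine Submodule.le_of_le_smul_of_le_jacobson_bot (IsNoetherian.noetherian I)
      (IsLocalRing.maximalIdeal_le_jacobson ⊥) ?_
    intro z hz
    obtain ⟨p', hp', q', hq', hz'⟩ := Submodule.mem_sup.mp (hn hz)
    obtain ⟨c, rfl⟩ := Ideal.mem_span_singleton'.mp hq'
    obtain ⟨d, rfl⟩ := Ideal.mem_span_singleton'.mp hp'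
    have hz2 : z = c * w * f + x * (d - c * w * r) := by
      rw [← hpq, ← hz']; linear_combination -c * y ^ n * hw
    rw [hz2]
    refine Submodule.add_mem_sup (Ideal.mul_mem_left _ _ (Ideal.mem_span_singleton_self f)) ?_
    rw [← smul_eq_mul]
    refine Submodule.smul_mem_smul hxm (hreg _ ?_)
    have : (d - c * w * r) * x = z - c * w * f := by rw [hz2]; ring
    rw [this]
    exact sub_mem hz (Ideal.mul_mem_left _ _ hfI)
  refine ⟨f, hI hfI, ?_, heq⟩
  intro h0
  exact hbot (by rw [heq, h0, Ideal.span_singleton_eq_bot])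

end Groth.Agent.S0226
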