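import Groth.Statements.S0230
import Groth.Agent.EtPbc.GmCurve
-- import your own Groth.Agent.* helpers here

set_option autoImplicit false
set_option backward.isDefEq.respectTransparency.types false
universe u
open CategoryTheory CategoryTheory.Limits AlgebraicGeometry
open Curves

namespace Groth.Agent.S0230

/-- For a smooth curve X over an algebraically closed field with generic point η and j the canonical
morphism from Spec of the local ring at η (the function field) to X, the higher direct images R^q
j_* G_m vanish for q ≥ 1. -/
theorem result (k : Type u) [Field k] [IsAlgClosed k] (X : Scheme.{u}) (f : X ⟶ Spec (CommRingCat.of k))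
    [Smooth f] [IsSeparated f] [LocallyOfFiniteType f] [QuasiCompact f] [IsIntegral X]
    (hdim : topologicalKrullDim X = 1)
    [EtCoh.BCCont (X.fromSpecStalk (genericPoint X))] (q : ℕ) (hq : 1 ≤ q) :
    IsZero ((EtCoh.Rpush (X.fromSpecStalk (genericPoint X)) q).obj
      (EtCoh.Gm (Spec (X.presheaf.stalk (genericPoint X))))) := by
  haveI : IsLocallyNoetherian X := LocallyOfFiniteType.isLocallyNoetherian f
  haveI : QuasiSeparatedSpace X := inferInstance
  have hη : genericPoint X ∈ genericPoints X := by
    show closure {genericPoint X} ∈ irreducibleComponents X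
    rw [genericPoint_closure, irreducibleComponents_eq_singleton]
    rfl
  letI : Field (X.presheaf.stalk (genericPoint X)) :=
    (isField_stalk_of_closure_mem_irreducibleComponents X (genericPoint X) hη).toField
  obtain ⟨n, rfl⟩ : ∃ n, q = n + 1 := ⟨q - 1, by omega⟩
  exact Groth.FieldPush.isZero_Rpush_Gm (K := X.presheaf.stalk (genericPoint X))
    (X.fromSpecStalk (genericPoint X)) (Groth.FieldPush.gmAcyclic_stalk f hdim.le _ hη) n

end Groth.Agent.S0230
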