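import Groth.Statements.S0231
import Groth.Agent.EtPbc.GmCurve
-- import your own Groth.Agent.* helpers here

set_option autoImplicit false
set_option backward.isDefEq.respectTransparency.types false
universe u
open CategoryTheory CategoryTheory.Limits AlgebraicGeometry
open Curves

namespace Groth.Agent.S0231

/-- For a smooth curve X over an algebraically closed field and j as in the previous row, the étale
cohomology of j_* G_m on X vanishes in positive degrees. -/
theorem result (k : Type u) [Field k] [IsAlgClosed k] (X : Scheme.{u}) (f : X ⟶ Spec (CommRingCat.of k))
    [Smooth f] [IsSeparated f] [LocallyOfFiniteType f] [QuasiCompact f] [IsIntegral X]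
    (hdim : topologicalKrullDim X = 1)
    [EtCoh.BCCont (X.fromSpecStalk (genericPoint X))] (p : ℕ) (hp : 1 ≤ p) :
    Subsingleton (EtCoh.H X ((EtCoh.push (X.fromSpecStalk (genericPoint X))).obj
      (EtCoh.Gm (Spec (X.presheaf.stalk (genericPoint X))))) p) := by
  haveI : IsLocallyNoetherian X := LocallyOfFiniteType.isLocallyNoetherian f
  haveI : QuasiSeparatedSpace X := inferInstance
  have hη : genericPoint X ∈ genericPoints X := by
    show closure {genericPoint X} ∈ irreducibleComponents X
    rw [genericPoint_closure, irreducibleComponents_eq_singleton]
    rfl
  letI : Field (X.presheaf.stalk (genericPoint X)) :=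
    (isField_stalk_of_closure_mem_irreducibleComponents X (genericPoint X) hη).toField
  haveI := Groth.EtaleBase.pull_preservesFiniteLimits (X.fromSpecStalk (genericPoint X))
  exact Groth.FieldPush.subsingleton_H_push_Gm (K := X.presheaf.stalk (genericPoint X))
    (X.fromSpecStalk (genericPoint X)) (Groth.FieldPush.gmAcyclic_stalk f hdim.le _ hη) p hp

end Groth.Agent.S0231
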