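import Groth.Statements.S0232
import Groth.Agent.CohBase.FlatBC.SecZero
import Groth.Agent.CohC3.HMap
import Groth.Agent.PicAux.Pullback
import Groth.Agent.PicAux.QCoh
import Mathlib.RingTheory.Artinian.Module
import Mathlib.RingTheory.Nakayama
import Mathlib.LinearAlgebra.TensorProduct.RightExactness


set_option autoImplicit false
universe u
open CategoryTheory CategoryTheory.Limits AlgebraicGeometry
open Curves

namespace Groth.Agent.S0232

namespace H0Fin

open Groth

variable {A : Type u} [CommRing A] {X : Scheme.{u}} [X.Over (Spec (CommRingCat.of A))]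

noncomputable abbrev gl : A →+* Γ(X, ⊤) :=
  (X ↘ Spec (CommRingCat.of A)).appTop.hom.comp (Scheme.ΓSpecIso (CommRingCat.of A)).inv.hom

theorem finite_gl (h : Module.Finite A (Coh.HH X (Coh.structureModule X) 0)) :
    (gl (A := A) (X := X)).Finite := by
  let e : Coh.HH X (Coh.structureModule X) 0 ≃+ Γ(Coh.structureModule X, ⊤) :=
    Sheaf.H.equiv₀ (Coh.toAb (Coh.structureModule X)) (Preorder.isTerminalTop X.Opens)
  have key : ∀ (a : A) (x : Coh.HH X (Coh.structureModule X) 0),
      e (a • x) = CohC3.baseApp X ⊤ a • e x := by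
    intro a x
    rw [← CohC3.hmap_smulMod]
    refine (Sheaf.H.equiv₀_naturality (Preorder.isTerminalTop X.Opens)
      ((CohBase.toAbF X).map (Formal.smulMod A (Coh.structureModule X) a)) x).symm.trans ?_
    exact CohC3.smulMod_app (Coh.structureModule X) a ⊤ _
  letI := RingHom.toAlgebra (gl (A := A) (X := X))
  let g : Coh.HH X (Coh.structureModule X) 0 →ₗ[A] Γ(X, ⊤) :=
    { toFun := fun x => e x
      map_add' := fun x y => map_add e x y
      map_smul' := fun a x => by
        refine (key a x).trans ?_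
        rw [RingHom.id_apply, Algebra.smul_def]
        show CohC3.baseApp X ⊤ a * _ = _
        congr 1
        exact congr($(X.presheaf.map_id _) (gl (A := A) (X := X) a)) }
  exact Module.Finite.of_surjective g e.surjective

end H0Fin

namespace CyclicDescent

open TensorProduct

variable {R R' A A' M M' : Type u} [CommRing R] [CommRing R'] [Algebra R R'] [CommRing A] [Algebra R A]
  [CommRing A'] [AddCommGroup M] [Module R M] [Module A M] [IsScalarTower R A M]
  [AddCommGroup M'] [Module A' M']

theorem exists_retract (hR : IsField R) [Nontrivial R'] :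
    ∃ f : R' →ₗ[R] R, f 1 = 1 := by
  letI := hR.toField
  obtain ⟨f, hf⟩ := (Algebra.linearMap R R').exists_leftInverse_of_injective
    (LinearMap.ker_eq_bot.2 (algebraMap R R').injective)
  exact ⟨f, by simpa using LinearMap.congr_fun hf 1⟩

theorem exists_generator (hR : IsField R) (hR' : IsField R') [Module.Finite R A]
    (s : R' →+* A') (φ : A →+* A') (ψ : M →+ M')
    (hψ : ∀ (a : A) (m : M), ψ (a • m) = φ a • ψ m)
    (T : R' ⊗[R] M →+ M') (hT : ∀ c m, T (c ⊗ₜ m) = s c • ψ m) (hTi : Function.Injective T)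
    (hTs : Function.Surjective T)
    (hA : ∀ a : A', a ∈ AddSubgroup.closure (Set.range fun p : R' × A => s p.1 * φ p.2))
    (e : M') (he : ∀ y : M', ∃ a : A', y = a • e) (he0 : ∀ a : A', a • e = 0 → a = 0) :
    ∃ (m : M) (u : A'ˣ), ψ m = (u : A') • e := by
  have := hR'.nontrivial
  obtain ⟨ρ, hρ⟩ := exists_retract (R := R) (R' := R') hR
  obtain ⟨z, hz⟩ := hTs e
  -- the `A`-action on `R' ⊗ M`
  let act : A → (R' ⊗[R] M →ₗ[R] R' ⊗[R] M) := fun a =>
    (LinearMap.lsmul A M a |>.restrictScalars R).lTensor R'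
  have hact : ∀ (a : A) (w : R' ⊗[R] M), T (act a w) = φ a • T w := by
    intro a w
    induction w using TensorProduct.induction_on with
    | zero => simp
    | tmul c m => simp [act, hT, hψ, smul_smul, mul_comm]
    | add x y hx hy => simp [map_add, hx, hy]
  have hsc : ∀ (c : R') (w : R' ⊗[R] M), T (c • w) = s c • T w := by
    intro c w
    induction w using TensorProduct.induction_on with
    | zero => simp
    | tmul d m => simp [smul_tmul', hT, map_mul, mul_smul]
    | add x y hx hy => simp [smul_add, map_add, hx, hy]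
  -- every tensor lies in the submodule generated by `z`
  have hgen : ∀ w : R' ⊗[R] M,
      w ∈ AddSubgroup.closure (Set.range fun p : R' × A => p.1 • act p.2 z) := by
    intro w
    obtain ⟨a, ha⟩ := he (T w)
    suffices h : a • e ∈ (AddSubgroup.closure (Set.range fun p : R' × A => p.1 • act p.2 z)).map T by
      obtain ⟨w', hw', hw''⟩ := h
      rwa [hTi (hw''.trans ha.symm)] at hw'
    refine AddSubgroup.closure_induction (p := fun a _ => a • e ∈
      (AddSubgroup.closure (Set.range fun p : R' × A => p.1 • act p.2 z)).map T) ?_ ?_ ?_ ?_ (hA a)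
    · rintro _ ⟨p, rfl⟩
      exact ⟨_, AddSubgroup.subset_closure ⟨p, rfl⟩, by rw [hsc, hact, hz, ← mul_smul]⟩
    · rw [zero_smul]; exact zero_mem _
    · intro x y _ _ hx hy; rw [add_smul]; exact add_mem hx hy
    · intro x _ hx; rw [neg_smul]; exact neg_mem hx
  classical
  obtain ⟨n, c, mi, hzsum⟩ : ∃ (n : ℕ) (c : Fin n → R') (mi : Fin n → M), z = ∑ i, c i ⊗ₜ mi i := by
    obtain ⟨S, hS⟩ := TensorProduct.exists_finset z
    refine ⟨S.card, fun i => (S.equivFin.symm i).1.1, fun i => (S.equivFin.symm i).1.2, ?_⟩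
    rw [hS, ← Finset.sum_coe_sort S]
    exact (Equiv.sum_comp S.equivFin.symm (fun i : S => i.1.1 ⊗ₜ[R] i.1.2)).symm
  -- `M` is generated by the `mi`
  have hfg : Submodule.span A (Set.range mi) = ⊤ := by
    rw [eq_top_iff]
    intro m _
    let N := Submodule.span A (Set.range mi)
    have key : ∀ w, w ∈ AddSubgroup.closure (Set.range fun p : R' × A => p.1 • act p.2 z) →
        (TensorProduct.lid R M) (ρ.rTensor M w) ∈ N := by
      intro w hw
      refine AddSubgroup.closure_induction (p := fun w _ => (TensorProduct.lid R M) (ρ.rTensor M w) ∈ N)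
        ?_ ?_ ?_ ?_ hw
      · rintro _ ⟨p, rfl⟩
        simp only [hzsum, map_sum, Finset.smul_sum]
        refine sum_mem fun i _ => ?_
        simp only [act, LinearMap.lTensor_tmul, smul_tmul', LinearMap.rTensor_tmul, lid_tmul]
        exact Submodule.smul_of_tower_mem _ _ (N.smul_mem _ (Submodule.subset_span ⟨i, rfl⟩))
      · simp
      · intro x y _ _ hx hy; rw [map_add, map_add]; exact add_mem hx hy
      · intro x _ hx; rw [map_neg, map_neg]; exact neg_mem hx
    have := key _ (hgen (1 ⊗ₜ m))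
    simpa [hρ] using this
  have : IsArtinianRing A := by
    letI := hR.toField
    exact IsArtinianRing.of_finite R A
  -- a vector spanning `M / P M` for every maximal ideal `P`
  have hP : ∀ P : MaximalSpectrum A, ∃ w : M,
      Submodule.span A {w} ⊔ P.asIdeal • (⊤ : Submodule A M) = ⊤ := by
    intro P
    by_cases htop : P.asIdeal • (⊤ : Submodule A M) = ⊤
    · exact ⟨0, by simp [htop]⟩
    obtain ⟨w, hw⟩ : ∃ w, w ∉ P.asIdeal • (⊤ : Submodule A M) := by
      by_contra! h
      exact htop (eq_top_iff.2 fun x _ => h x)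
    refine ⟨w, ?_⟩
    let Q := P.asIdeal • (⊤ : Submodule A M)
    let q : M →ₗ[R] M ⧸ Q := Q.mkQ.restrictScalars R
    let r : A →ₗ[R] A ⧸ P.asIdeal := (Ideal.Quotient.mkₐ R P.asIdeal).toLinearMap
    let β : (A ⧸ P.asIdeal) →ₗ[R] (M ⧸ Q) :=
      { toFun := fun x => x • Submodule.Quotient.mk w
        map_add' := fun x y => add_smul x y _
        map_smul' := fun c x => smul_assoc c x _ }
    have hβ : Function.Injective β := by
      rw [injective_iff_map_eq_zero]
      intro x hx
      obtain ⟨a, rfl⟩ := Ideal.Quotient.mk_surjective x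
      rw [Ideal.Quotient.eq_zero_iff_mem]
      by_contra ha
      apply hw
      have hx' : a • w ∈ Q := (Submodule.Quotient.mk_eq_zero Q).1 hx
      obtain ⟨b, hb⟩ := (Ideal.Quotient.maximal_ideal_iff_isField_quotient _ |>.1 P.isMaximal).mul_inv_cancel
        (a := Ideal.Quotient.mk P.asIdeal a) (by rwa [Ne, Ideal.Quotient.eq_zero_iff_mem])
      obtain ⟨b, rfl⟩ := Ideal.Quotient.mk_surjective b
      rw [← map_mul, ← map_one (Ideal.Quotient.mk P.asIdeal), Ideal.Quotient.eq] at hb
      have : w = b • (a • w) - (a * b - 1) • w := by rw [smul_smul, ← sub_smul]; simp [mul_comm]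
      rw [this]
      exact sub_mem (Q.smul_mem _ hx') (Submodule.smul_mem_smul hb Submodule.mem_top)
    let μ : R' ⊗[R] (A ⧸ P.asIdeal) →ₗ[R'] R' ⊗[R] (M ⧸ Q) :=
      ∑ i, (c i) • LinearMap.baseChange R'
        ({ toFun := fun x => x • Submodule.Quotient.mk (mi i)
           map_add' := fun x y => add_smul x y _
           map_smul' := fun c x => smul_assoc c x _ } : (A ⧸ P.asIdeal) →ₗ[R] (M ⧸ Q))
    have hμ : Function.Surjective μ := by
      intro y
      obtain ⟨x, rfl⟩ := LinearMap.lTensor_surjective R' (show Function.Surjective q from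
        Submodule.mkQ_surjective Q) y
      refine AddSubgroup.closure_induction (p := fun x _ => ∃ a, μ a = q.lTensor R' x) ?_ ?_ ?_ ?_ (hgen x)
      · rintro _ ⟨p, rfl⟩
        refine ⟨p.1 ⊗ₜ Ideal.Quotient.mk _ p.2, ?_⟩
        simp only [μ, hzsum, map_sum, Finset.smul_sum, LinearMap.sum_apply]
        refine Finset.sum_congr rfl fun i _ => ?_
        simp [act, q, smul_tmul', mul_comm]
      · exact ⟨0, by simp⟩
      · rintro x y _ _ ⟨a, ha⟩ ⟨b, hb⟩; exact ⟨a + b, by simp [ha, hb]⟩
      · rintro x _ ⟨a, ha⟩; exact ⟨-a, by simp [ha]⟩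
    letI := hR.toField
    letI := hR'.toField
    have hfinA : Module.Finite R (A ⧸ P.asIdeal) :=
      Module.Finite.of_surjective r Ideal.Quotient.mk_surjective
    have hfinW : Module.Finite R (M ⧸ Q) := by
      have : Module.Finite A M := ⟨⟨Finset.univ.image mi, by simpa using hfg⟩⟩
      have := Module.Finite.trans (R := R) A M
      exact Module.Finite.of_surjective q (Submodule.mkQ_surjective Q)
    have hle : Module.finrank R (M ⧸ Q) ≤ Module.finrank R (A ⧸ P.asIdeal) := by
      have := μ.finrank_le_finrank_of_surjective hμ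
      rwa [Module.finrank_baseChange, Module.finrank_baseChange] at this
    have hβs : Function.Surjective β := by
      have heq : Module.finrank R (A ⧸ P.asIdeal) = Module.finrank R (M ⧸ Q) :=
        le_antisymm (LinearMap.finrank_le_finrank_of_injective hβ) hle
      exact (LinearMap.injective_iff_surjective_of_finrank_eq_finrank heq).1 hβ
    rw [eq_top_iff]
    intro x _
    obtain ⟨a, ha⟩ := hβs (Submodule.Quotient.mk x)
    obtain ⟨a, rfl⟩ := Ideal.Quotient.mk_surjective a
    have : a • w - x ∈ Q := (Submodule.Quotient.eq Q).1 ha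
    rw [show x = a • w - (a • w - x) by abel]
    exact sub_mem (Submodule.mem_sup_left (Submodule.smul_mem _ _ (Submodule.mem_span_singleton_self w)))
      (Submodule.mem_sup_right this)
  choose w hw using hP
  have : Fintype (MaximalSpectrum A) := Fintype.ofFinite _
  have hcop : Pairwise fun P Q : MaximalSpectrum A => IsCoprime P.asIdeal Q.asIdeal := fun P Q h =>
    Ideal.isCoprime_iff_sup_eq.2 (P.isMaximal.coprime_of_ne Q.isMaximal fun he => h (MaximalSpectrum.ext he))
  classical
  choose t ht using fun P : MaximalSpectrum A =>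
    Ideal.exists_forall_sub_mem_ideal (I := fun Q : MaximalSpectrum A => Q.asIdeal) hcop
      (fun Q => if Q = P then 1 else 0)
  let m := ∑ P, t P • w P
  have hm : Submodule.span A {m} = ⊤ := by
    let N := Submodule.span A {m}
    have hall : ∀ P : MaximalSpectrum A, N ⊔ P.asIdeal • (⊤ : Submodule A M) = ⊤ := by
      intro P
      rw [eq_top_iff]
      refine (hw P).ge.trans (sup_le ?_ le_sup_right)
      rw [Submodule.span_singleton_le_iff_mem]
      have h0 : m - w P ∈ P.asIdeal • (⊤ : Submodule A M) := by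
        have : m - w P = ∑ Q, (t Q - if P = Q then 1 else 0) • w Q := by
          simp only [m, sub_smul, Finset.sum_sub_distrib, ite_smul, one_smul, zero_smul,
            Finset.sum_ite_eq, Finset.mem_univ, if_true]
        rw [this]
        exact sum_mem fun Q _ => Submodule.smul_mem_smul (ht Q P) Submodule.mem_top
      rw [show w P = m - (m - w P) by abel]
      exact sub_mem (Submodule.mem_sup_left (Submodule.mem_span_singleton_self m))
        (Submodule.mem_sup_right h0)
    by_contra hne
    obtain ⟨x, hx⟩ : ∃ x, x ∉ N := by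
      by_contra! h
      exact hne (eq_top_iff.2 fun x _ => h x)
    have hann : Submodule.colon N ({x} : Set M) ≠ ⊤ := fun h => hx <| by
      simpa using Submodule.mem_colon.1 (show (1 : A) ∈ Submodule.colon N ({x} : Set M) by rw [h]; trivial) x rfl
    obtain ⟨P, hPm, hPle⟩ := Ideal.exists_le_maximal _ hann
    have hfgQ : (⊤ : Submodule A (M ⧸ N)).FG := by
      have : Module.Finite A M := ⟨⟨Finset.univ.image mi, by simpa using hfg⟩⟩
      exact Module.Finite.fg_top
    obtain ⟨a, ha1, ha0⟩ := Submodule.exists_sub_one_mem_and_smul_eq_zero_of_fg_of_le_smul P ⊤ hfgQ (by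
      intro y _
      obtain ⟨y, rfl⟩ := Submodule.mkQ_surjective N y
      obtain ⟨y₁, h₁, y₂, h₂, rfl⟩ := Submodule.mem_sup.1 ((hall ⟨P, hPm⟩).ge (Submodule.mem_top (x := y)))
      rw [map_add, show N.mkQ y₁ = 0 from (Submodule.Quotient.mk_eq_zero N).2 h₁, zero_add]
      have := Submodule.mem_map_of_mem (f := N.mkQ) h₂
      rw [Submodule.map_smul''] at this
      exact Submodule.smul_mono le_rfl le_top this)
    have ha : a ∈ Submodule.colon N ({x} : Set M) := Submodule.mem_colon.2 fun p hp => by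
      rw [Set.mem_singleton_iff.1 hp]
      exact (Submodule.Quotient.mk_eq_zero N).1 (ha0 (Submodule.Quotient.mk x) Submodule.mem_top)
    exact hPm.ne_top ((Ideal.eq_top_iff_one _).2 (by simpa using sub_mem (hPle ha) ha1))
  obtain ⟨a, ha⟩ := he (ψ m)
  obtain ⟨b, hb⟩ : ∃ b : A', e = b • ψ m := by
    rw [← hz, hzsum, map_sum]
    choose d hd using fun i => Submodule.mem_span_singleton.1 (hm.ge (Submodule.mem_top (x := mi i)))
    exact ⟨∑ i, s (c i) * φ (d i), by
      rw [Finset.sum_smul]; exact Finset.sum_congr rfl fun i _ => by rw [hT, mul_smul, ← hψ, hd]⟩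
  refine ⟨m, Units.mkOfMulEqOne a b ?_, ha⟩
  rw [mul_comm, ← sub_eq_zero]
  exact he0 _ (by rw [sub_smul, mul_smul, one_smul, ← ha, ← hb, sub_self])

end CyclicDescent


attribute [-instance] CategoryTheory.catToReflQuiver in
/-- For a quasi-compact quasi-separated scheme X over a field k with finite-dimensional H^0(X, O_X), an
invertible module on X that becomes trivial after base change to a field extension k' is already
trivial (injectivity of Pic(X) → Pic(X_{k'}), stated on classes without a group structure). The base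
change is given as any pullback square. -/
theorem result (k : Type u) [Field k] (X : Scheme.{u}) [X.Over (Spec (CommRingCat.of k))]
    [CompactSpace X] [QuasiSeparatedSpace X]
    (hfin : Module.Finite k (Coh.HH X (Coh.structureModule X) 0))
    (k' : Type u) [Field k'] [Algebra k k'] (X' : Scheme.{u}) (g : X' ⟶ X) (q : X' ⟶ Spec (CommRingCat.of k'))
    (hpb : IsPullback g q (X ↘ Spec (CommRingCat.of k)) (Spec.map (CommRingCat.ofHom (algebraMap k k'))))
    (L : X.Modules) (hL : PicF.IsInvertible L) (htriv : PicF.IsTrivialCl (PicF.pullCl g (PicF.cl L))) :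
    PicF.IsTrivialCl (PicF.cl L) := by
  let S := Spec (CommRingCat.of k)
  let S' := Spec (CommRingCat.of k')
  let f : X ⟶ S := X ↘ Spec (CommRingCat.of k)
  let γ : S' ⟶ S := Spec.map (CommRingCat.ofHom (algebraMap k k'))
  have hS : IsField Γ(S, ⊤) := MulEquiv.isField (Field.toIsField k)
    (Scheme.ΓSpecIso (CommRingCat.of k)).commRingCatIsoToRingEquiv.toMulEquiv
  have hS' : IsField Γ(S', ⊤) := MulEquiv.isField (Field.toIsField k')
    (Scheme.ΓSpecIso (CommRingCat.of k')).commRingCatIsoToRingEquiv.toMulEquiv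
  have : QuasiCompact f := (quasiCompact_iff_compactSpace f).2 inferInstance
  have : QuasiSeparated f := (quasiSeparated_iff_quasiSeparatedSpace f).2 inferInstance
  have : Flat γ := (HasRingHomProperty.Spec_iff (P := @Flat)).2 (by
    rw [CommRingCat.hom_ofHom, RingHom.flat_algebraMap_iff]; infer_instance)
  have : Surjective γ := ⟨fun y => ⟨IsLocalRing.closedPoint k',
    Subsingleton.elim (α := PrimeSpectrum k) _ _⟩⟩
  have hg : Surjective g := MorphismProperty.of_isPullback (P := @Surjective) hpb.flip inferInstance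
  have e₀ : (⊤ : S'.Opens) ≤ γ ⁻¹ᵁ ⊤ := le_rfl
  have e₁ : (⊤ : X'.Opens) ≤ g ⁻¹ᵁ ⊤ := le_rfl
  have e₂ : (⊤ : X'.Opens) ≤ q ⁻¹ᵁ ⊤ := le_rfl
  have eU : (⊤ : X.Opens) ≤ f ⁻¹ᵁ ⊤ := le_rfl
  letI algA : Algebra Γ(S, ⊤) Γ(X, ⊤) := (f.appLE ⊤ ⊤ eU).hom.toAlgebra
  letI algR : Algebra Γ(S, ⊤) Γ(S', ⊤) := (γ.appLE ⊤ ⊤ e₀).hom.toAlgebra
  letI modM : Module Γ(S, ⊤) Γ(L, ⊤) := Module.compHom _ (f.appLE ⊤ ⊤ eU).hom
  haveI : IsScalarTower Γ(S, ⊤) Γ(X, ⊤) Γ(L, ⊤) := IsScalarTower.of_algebraMap_smul fun _ _ => rfl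
  haveI : L.IsQuasicoherent := Groth.PicAux.isQCoh_of_isInvertible hL
  haveI : (Coh.structureModule X).IsQuasicoherent := inferInstance
  -- finiteness of the functions
  haveI hfinA : Module.Finite Γ(S, ⊤) Γ(X, ⊤) := by
    have h1 : (H0Fin.gl (A := k) (X := X)).Finite := H0Fin.finite_gl hfin
    have h2 : (f.appLE ⊤ ⊤ eU).hom.Finite := by
      have : (f.appLE ⊤ ⊤ eU).hom = (H0Fin.gl (A := k) (X := X)).comp
          (Scheme.ΓSpecIso (CommRingCat.of k)).hom.hom := by
        ext r
        simp [f, H0Fin.gl, Scheme.Hom.appLE]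
      rw [this]
      exact h1.comp (RingHom.Finite.of_surjective _
        (Scheme.ΓSpecIso (CommRingCat.of k)).commRingCatIsoToRingEquiv.surjective)
    exact h2
  have hBC : ∀ (M : X.Modules) [M.IsQuasicoherent],
      Function.Bijective (Groth.CohBase.FlatBC.SecZero.T hpb.w e₀ M eU e₁ e₂) :=
    fun M _ => Groth.CohBase.FlatBC.SecZero.bc_preimage hpb.w e₀ M hpb (isAffineOpen_top S)
      (isAffineOpen_top S') eU ⊤ e₁ e₂ (by simp)
  -- functions on `X'`
  have hA : ∀ a : Γ(X', ⊤), a ∈ AddSubgroup.closure (Set.range fun p : Γ(S', ⊤) × Γ(X, ⊤) =>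
      q.appLE ⊤ ⊤ e₂ p.1 * g.appLE ⊤ ⊤ e₁ p.2) := by
    intro a
    have := Groth.PicAux.isIso_pullUnit g
    let χ := (Groth.PicAux.pullUnit g).app (⊤ : X'.Opens)
    obtain ⟨y, hy⟩ := ((ConcreteCategory.isIso_iff_bijective χ).1 inferInstance).2 a
    obtain ⟨z, rfl⟩ := (hBC (Coh.structureModule X)).2 y
    rw [← hy]
    clear hy
    induction z using TensorProduct.induction_on with
    | zero => rw [map_zero, map_zero]; exact zero_mem _
    | add x y hx hy => rw [map_add, map_add]; exact add_mem hx hy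
    | tmul b m =>
      rw [Groth.CohBase.FlatBC.SecZero.T_tmul]
      refine AddSubgroup.subset_closure ⟨(b, m), ?_⟩
      refine Eq.trans ?_ (Scheme.Modules.Hom.app_smul (Groth.PicAux.pullUnit g) _ _).symm
      show _ = q.appLE ⊤ ⊤ e₂ b * Groth.PicAux.toFun (χ _)
      congr 1
      conv_rhs => rw [Groth.PicAux.eq_toFun_smul_oneSec (X := X) (U := ⊤) m,
        Groth.CohBase.FlatBC.psec_smul]
      have hone : Groth.PicAux.toFun (χ (Groth.CohBase.FlatBC.psec g (Coh.structureModule X) e₁
          (Groth.PicAux.oneSec X ⊤))) = 1 := by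
        show Groth.PicAux.toFun ((Groth.PicAux.pullUnit g).app _ (Groth.PicAux.res _ e₁
          (Groth.PicAux.pullSec g _ (Groth.PicAux.oneSec X ⊤)))) = 1
        rw [Groth.PicAux.app_res, Groth.PicAux.pullbackObjUnit_oneSec, Groth.PicAux.res_oneSec]
        rfl
      have key : ∀ (r : Γ(X', ⊤)) (x : Γ((Scheme.Modules.pullback g).obj (Coh.structureModule X), ⊤)),
          Groth.PicAux.toFun (χ (r • x)) = r * Groth.PicAux.toFun (χ x) := fun r x =>
        congrArg Groth.PicAux.toFun ((Groth.PicAux.pullUnit g).app_smul r x)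
      rw [key, hone, mul_one]
      rfl
  -- the trivialisation upstairs
  obtain ⟨iso⟩ : Nonempty ((Scheme.Modules.pullback g).obj L ≅ Coh.structureModule X') := by
    have gen : ∀ x y : X'.Modules, Relation.EqvGen (fun L L' => Nonempty (L ≅ L')) x y →
        Nonempty (x ≅ y) := by
      intro x y h
      induction h with
      | rel x y h => exact h
      | refl x => exact ⟨Iso.refl x⟩
      | symm x y _ ih => exact ⟨ih.some.symm⟩
      | trans x y z _ _ ih1 ih2 => exact ⟨ih1.some ≪≫ ih2.some⟩
    exact gen _ _ (Quot.eqvGen_exact htriv)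
  obtain ⟨e, he⟩ := Groth.PicAux.nonempty_iso_structure_iff.1 ⟨iso⟩
  let T₁ : TensorProduct Γ(S, ⊤) Γ(S', ⊤) Γ(L, ⊤) →+ Γ((Scheme.Modules.pullback g).obj L, ⊤) :=
    (Groth.CohBase.FlatBC.SecZero.T hpb.w e₀ L eU e₁ e₂).comp
      (TensorProduct.congr
        ({ toFun := fun x => x, invFun := fun x => x, map_add' := fun _ _ => rfl,
           map_smul' := fun _ _ => rfl, left_inv := fun _ => rfl, right_inv := fun _ => rfl } :
          Γ(S', ⊤) ≃ₗ[Γ(S, ⊤)] (Groth.CohBase.FlatBC.SecZero.fnMod γ e₀))
        ({ toFun := fun x => x, invFun := fun x => x, map_add' := fun _ _ => rfl,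
           map_smul' := fun _ _ => rfl, left_inv := fun _ => rfl, right_inv := fun _ => rfl } :
          Γ(L, ⊤) ≃ₗ[Γ(S, ⊤)] (Groth.CohBase.FlatBC.secMod f L eU))).toLinearMap.toAddMonoidHom
  have hT₁ : Function.Bijective T₁ := (hBC L).comp (LinearEquiv.bijective _)
  obtain ⟨m, u, hm⟩ := CyclicDescent.exists_generator hS hS' (q.appLE ⊤ ⊤ e₂).hom
    (g.appLE ⊤ ⊤ e₁).hom (Groth.CohBase.FlatBC.psec g L e₁)
    (fun a m => Groth.CohBase.FlatBC.psec_smul g L e₁ a m) T₁ (fun _ _ => rfl) hT₁.1 hT₁.2 hA e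
    (fun y => by
      obtain ⟨r, hr⟩ := (he ⊤ le_rfl).2 y
      exact ⟨r, by simpa using hr.symm⟩)
    (fun a ha => (he ⊤ le_rfl).1 (by simpa using ha))
  have hm' : Groth.PicAux.Gen ((Scheme.Modules.pullback g).obj L) ⊤ (Groth.CohBase.FlatBC.psec g L e₁ m) :=
    hm ▸ he.smul_unit u.isUnit
  -- `m` generates
  obtain ⟨U, s, hU, -, hs⟩ := Groth.PicAux.exists_gen_cover hL
  have hloc : ∀ x, Groth.PicAux.Gen L (U x) (Groth.PicAux.res L le_top m) := by
    intro x
    obtain ⟨r, hr⟩ := (hs x).exists_coeff le_rfl (Groth.PicAux.res L le_top m)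
    rw [Groth.PicAux.res_self] at hr
    obtain ⟨v, hv⟩ := Groth.PicAux.Gen.exists_unit ((hs x).pull g)
      (hm'.res (le_top : g ⁻¹ᵁ U x ≤ ⊤))
    have hpull : Groth.PicAux.res _ (le_top : g ⁻¹ᵁ U x ≤ ⊤) (Groth.CohBase.FlatBC.psec g L e₁ m) =
        g.app (U x) r • Groth.PicAux.pullSec g L (s x) := by
      rw [← Groth.PicAux.pullSec_smul, ← hr, ← Groth.PicAux.res_pullSec g L le_top m]
      exact Groth.PicAux.res_res _ _ _
    have hu : IsUnit (g.app (U x) r) := by
      have h0 := ((hs x).pull g).smul_inj le_rfl (r := g.app (U x) r) (r' := (v : Γ(X', g ⁻¹ᵁ U x)))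
        (by rw [Groth.PicAux.res_self, ← hpull, hv])
      exact h0 ▸ v.isUnit
    have hru : IsUnit r := by
      have h1 : X.basicOpen r = U x := by
        refine le_antisymm (X.basicOpen_le r) fun y hy => ?_
        obtain ⟨y', rfl⟩ := g.surjective y
        have : y' ∈ X'.basicOpen (g.app (U x) r) := by
          rw [Scheme.basicOpen_of_isUnit _ hu]; exact hy
        rwa [← Scheme.preimage_basicOpen] at this
      exact RingedSpace.isUnit_of_isUnit_germ X.toRingedSpace (U x) r fun y hy =>
        (X.mem_basicOpen r y hy).1 (by rw [h1]; exact hy)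
    rw [hr]
    exact (hs x).smul_unit hru
  have hgen : Groth.PicAux.Gen L ⊤ m := by
    have hiso : IsIso (Groth.PicAux.homOfSection m) := by
      refine Groth.PicAux.isIso_of_cover hU _ fun x V hV => ⟨fun a b hab => ?_, fun y => ?_⟩
      · rw [Groth.PicAux.hom_structure_apply, Groth.PicAux.hom_structure_apply _ V b,
          Groth.PicAux.homOfSection_one] at hab
        exact ((hloc x) V hV).1 (show Groth.PicAux.toFun a • _ = Groth.PicAux.toFun b • _ by simpa using hab)
      · obtain ⟨r, hr⟩ := ((hloc x) V hV).2 y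
        refine ⟨r • Groth.PicAux.oneSec X V, ?_⟩
        rw [Groth.PicAux.hom_structure_apply, Groth.PicAux.homOfSection_one,
          Groth.PicAux.toFun_smul, Groth.PicAux.toFun_oneSec, mul_one]
        simpa using hr
    simpa using (Groth.PicAux.isIso_hom_structure_iff _).1 hiso
  exact Quot.sound (Groth.PicAux.nonempty_iso_structure_iff.2 ⟨m, hgen⟩)


end Groth.Agent.S0232
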