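import Groth.Statements.S0235
import Groth.Agent.PicAux.QCoh
import Mathlib.AlgebraicGeometry.Morphisms.QuasiFinite

set_option autoImplicit false
universe u
open CategoryTheory CategoryTheory.Limits AlgebraicGeometry
open Curves

namespace Groth.Agent.S0235

/-- For a finite morphism π : X → Y and an invertible module L on X, every point y of Y has an open
neighbourhood V such that L is trivial on the preimage of V. -/
theorem result {X Y : Scheme.{u}} (π : X ⟶ Y) [IsFinite π]
    (L : X.Modules) (hL : PicF.IsInvertible L) (y : Y) :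
    ∃ V : Y.Opens, y ∈ V ∧ Nonempty (L.restrict (π ⁻¹ᵁ V).ι ≅ Coh.structureModule (↑(π ⁻¹ᵁ V))) := by
  open Groth.PicAux in
  classical
  have hfin : (π ⁻¹' {y}).Finite := π.finite_preimage_singleton y
  obtain ⟨_, ⟨W, hW, rfl⟩, hyW, -⟩ :=
    Y.isBasis_affineOpens.exists_subset_of_mem_open (Set.mem_univ y) isOpen_univ
  have hdisc : _root_.IsDiscrete (π ⁻¹' {y}) := π.isDiscrete_preimage_singleton y
  obtain ⟨U, -, hTU, s, hs⟩ := exists_affine_trivial_finset_of_antichain hL hfin.toFinset
    (fun x hx x' hx' h => by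
      rw [Set.Finite.mem_toFinset] at hx hx'
      exact hdisc.eq_of_specializes (specializes_iff_mem_closure.2 h) hx' hx |>.symm)
    (hW.preimage π)
    (fun x hx => by
      rw [Set.Finite.mem_toFinset, Set.mem_preimage, Set.mem_singleton_iff] at hx
      change π x ∈ W
      rw [hx]; exact hyW)
  have hcl : IsClosed (π '' (U : Set X)ᶜ) := π.isClosedMap _ U.isOpen.isClosed_compl
  let V : Y.Opens := ⟨(π '' (U : Set X)ᶜ)ᶜ, hcl.isOpen_compl⟩
  refine ⟨V, fun ⟨x, hx, hxy⟩ => hx (hTU x (hfin.mem_toFinset.2 hxy)), ?_⟩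
  refine (nonempty_restrict_iso_iff _).2 ⟨_, hs.res (V := π ⁻¹ᵁ V) fun x hx => ?_⟩
  by_contra hxU
  exact hx ⟨x, hxU, rfl⟩

end Groth.Agent.S0235
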