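import Groth.Statements.S0249
import Mathlib.RingTheory.Ideal.KrullsHeightTheorem

set_option autoImplicit false
universe u
open Pi1

namespace Groth.Agent.S0249

open AlgebraicGeometry CategoryTheory CategoryTheory.Limits in
/-- Let A be a Noetherian local ring of dimension at least 1 and f an element of its maximal ideal. Then
some prime ideal of height exactly 1 contains f. -/
theorem result (A : Type u) [CommRing A] [IsNoetherianRing A] [IsLocalRing A]
    (h : (1 : WithBot ℕ∞) ≤ ringKrullDim A) (f : A) (hf : f ∈ IsLocalRing.maximalIdeal A) :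
    ∃ p : Ideal A, p.IsPrime ∧ f ∈ p ∧ p.height = 1 := by
  have step : ∀ n : ℕ, ∀ P : PrimeSpectrum A, Order.height P = (n + 1 : ℕ) → f ∈ P.asIdeal →
      ∃ p : Ideal A, p.IsPrime ∧ f ∈ p ∧ p.height = 1 := by
    intro n
    induction n with
    | zero =>
      intro P hP hfP
      exact ⟨P.asIdeal, P.2, hfP, by rw [PrimeSpectrum.height_eq_orderHeight, hP]; rfl⟩
    | succ n ih =>
      intro P hP hfP
      obtain ⟨hPfin, h1, h1'⟩ := Order.height_eq_coe_iff.mp hP
      obtain ⟨P1, hP1, hP1h⟩ := h1.resolve_left (by omega)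
      have hP1h' : Order.height P1 = (n + 1 : ℕ) := by rw [hP1h]; norm_cast
      obtain ⟨-, h2, -⟩ := Order.height_eq_coe_iff.mp hP1h'
      obtain ⟨P2, hP2, hP2h⟩ := h2.resolve_left (by omega)
      have hP2h' : Order.height P2 = (n : ℕ) := by rw [hP2h]; norm_cast
      by_cases hf2 : f ∈ P2.asIdeal
      · exact ih P1 hP1h' (hP2.le hf2)
      have hle : P2.asIdeal ⊔ Ideal.span {f} ≤ P.asIdeal :=
        sup_le (hP2.trans hP1).le ((Ideal.span_singleton_le_iff_mem _).mpr hfP)
      obtain ⟨q, hq, hqP⟩ := Ideal.exists_minimalPrimes_le hle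
      have hqp : q.IsPrime := hq.isPrime
      have hfq : f ∈ q := hq.le (Ideal.mem_sup_right (Ideal.mem_span_singleton_self f))
      let Q : PrimeSpectrum A := ⟨q, hqp⟩
      have h2Q : P2 < Q := by
        refine lt_of_le_of_ne (show P2.asIdeal ≤ q from le_sup_left.trans hq.le) ?_
        intro he
        exact hf2 (congrArg PrimeSpectrum.asIdeal he ▸ hfq)
      have hQne : Q ≠ P := by
        intro he
        let π := Ideal.Quotient.mk P2.asIdeal
        have hkP : RingHom.ker π ≤ P.asIdeal := by
          simpa [π] using (hP2.trans hP1).le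
        have hk1 : RingHom.ker π ≤ P1.asIdeal := by simpa [π] using hP2.le
        have hPp : (P.asIdeal.map π).IsPrime := Ideal.map_isPrime_of_surjective Ideal.Quotient.mk_surjective hkP
        have : (P1.asIdeal.map π).IsPrime := Ideal.map_isPrime_of_surjective Ideal.Quotient.mk_surjective hk1
        have hmin : P.asIdeal.map π ∈ (Ideal.span {π f}).minimalPrimes := by
          refine ⟨⟨hPp, by simpa [Ideal.span_singleton_le_iff_mem] using Ideal.mem_map_of_mem π hfP⟩, ?_⟩
          rintro J ⟨hJ, hfJ⟩ hJle
          have hc : P2.asIdeal ⊔ Ideal.span {f} ≤ J.comap π := by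
            refine sup_le ?_ ((Ideal.span_singleton_le_iff_mem _).mpr ?_)
            · intro a ha
              rw [Ideal.mem_comap, show π a = 0 from Ideal.Quotient.eq_zero_iff_mem.mpr ha]
              exact J.zero_mem
            · exact hfJ (Ideal.mem_span_singleton_self _)
          have hJc : J.comap π ≤ P.asIdeal := by
            refine (Ideal.comap_mono hJle).trans ?_
            rw [Ideal.comap_map_of_surjective _ Ideal.Quotient.mk_surjective]
            exact sup_le le_rfl hkP
          have hqJ : q ≤ J.comap π := hq.2 ⟨Ideal.IsPrime.comap π, hc⟩ (hJc.trans (congrArg PrimeSpectrum.asIdeal he).ge)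
          refine Ideal.map_le_iff_le_comap.mpr ?_
          rw [← congrArg PrimeSpectrum.asIdeal he]
          exact hqJ
        have hbot : (⊥ : Ideal (A ⧸ P2.asIdeal)) < P1.asIdeal.map π := by
          refine bot_lt_iff_ne_bot.mpr fun hb => hP2.not_ge ?_
          rw [Ideal.map_eq_bot_iff_le_ker] at hb
          simpa [π] using hb
        have hlt : P1.asIdeal.map π < P.asIdeal.map π := by
          refine lt_of_le_of_ne (Ideal.map_mono hP1.le) fun hb => hP1.ne (PrimeSpectrum.ext ?_)
          have := congrArg (Ideal.comap π) hb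
          rwa [Ideal.comap_map_of_surjective _ Ideal.Quotient.mk_surjective,
            Ideal.comap_map_of_surjective _ Ideal.Quotient.mk_surjective,
            ← RingHom.ker_eq_comap_bot, sup_eq_left.mpr hk1, sup_eq_left.mpr hkP] at this
        have hk := Ideal.height_le_one_of_isPrincipal_of_mem_minimalPrimes (Ideal.span {π f}) (P.asIdeal.map π) hmin
        have a1 := Ideal.height_strict_mono_of_isPrime hlt
        have a2 := Ideal.height_strict_mono_of_isPrime hbot
        exact absurd (lt_of_lt_of_le a1 hk) (not_lt.mpr (Order.one_le_iff_pos.mpr (lt_of_le_of_lt bot_le a2)))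
      have hQP : Q < P := lt_of_le_of_ne hqP hQne
      have hQlt := h1' Q hQP
      have hQge := Order.height_add_one_le h2Q
      rw [hP2h'] at hQge
      refine ih Q (le_antisymm ?_ (le_of_eq_of_le (by norm_cast) hQge)) hfq
      exact (ENat.lt_add_one_iff (by simp)).mp (lt_of_lt_of_eq hQlt (by norm_cast))
  let M : PrimeSpectrum A := ⟨IsLocalRing.maximalIdeal A, inferInstance⟩
  have hM := IsLocalRing.maximalIdeal_height_eq_ringKrullDim (R := A)
  have hfin : (IsLocalRing.maximalIdeal A).height ≠ ⊤ := Ideal.height_ne_top Ideal.IsPrime.ne_top'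
  obtain ⟨d, hd⟩ := ENat.ne_top_iff_exists.mp hfin
  rw [← hM, ← hd] at h
  obtain ⟨k, rfl⟩ : ∃ k, d = k + 1 := Nat.exists_eq_add_of_le' (by exact_mod_cast h)
  exact step k M ((PrimeSpectrum.height_eq_orderHeight M).symm.trans hd.symm) hf

end Groth.Agent.S0249
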