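import Groth.Statements.S0251
import Groth.Agent.Pi1Formal.Purity

set_option autoImplicit false
universe u
open Pi1

namespace Groth.Agent.S0251

open AlgebraicGeometry CategoryTheory CategoryTheory.Limits in
/-- If A is a Noetherian local ring of depth at least 2 and d is at least 1, then purity holds for the
local ring of formal power series in d variables over A. -/
theorem result (A : Type u) [CommRing A] [IsNoetherianRing A] [IsLocalRing A] (hA : (2 : ℕ∞) ≤ LocCoh.depth A A)
    (d : ℕ) (hd : 1 ≤ d) : FEt.PurityHolds (MvPowerSeries (Fin d) A) := by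
  haveI : Nonempty (Fin d) := ⟨⟨0, hd⟩⟩
  obtain ⟨Q, hQ, hQc⟩ := Groth.Pi1Formal.exists_generic_prime (A := A) (σ := Fin d)
  refine Groth.Pi1Formal.restrict_essSurj hA _ (fun q hq (h : q = IsLocalRing.closedPoint _) => hq ?_) Q hQ hQc
  subst h
  ext x
  show algebraMap A (MvPowerSeries (Fin d) A) x ∈ IsLocalRing.maximalIdeal _ ↔ _
  rw [IsLocalRing.mem_maximalIdeal, IsLocalRing.mem_maximalIdeal, mem_nonunits_iff, mem_nonunits_iff,
    MvPowerSeries.isUnit_iff_constantCoeff, MvPowerSeries.algebraMap_apply, MvPowerSeries.constantCoeff_C]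
  simp

end Groth.Agent.S0251
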