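import Groth.Statements.S0253
import Groth.Agent.Pi1Hensel.SepClosed
import Mathlib.RingTheory.Localization.FractionRing
import Mathlib.RingTheory.IntegralClosure.IntegrallyClosed

set_option autoImplicit false
universe u
open Pi1

namespace Groth.Agent.S0253

open AlgebraicGeometry CategoryTheory CategoryTheory.Limits in
/-- Let A be an integrally closed domain whose fraction field is separably closed. Then the residue
field at any nonzero prime ideal of A is algebraically closed. -/
theorem result (A : Type u) [CommRing A] [IsDomain A] [IsIntegrallyClosed A] [IsSepClosed (FractionRing A)]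
    (p : Ideal A) [p.IsPrime] (hp : p ≠ ⊥) : IsAlgClosed p.ResidueField := by
  let R := Localization.AtPrime p
  have : IsIntegrallyClosed R := isIntegrallyClosed_of_isLocalization R p.primeCompl p.primeCompl_le_nonZeroDivisors
  have : IsDomain R := IsLocalization.isDomain_of_le_nonZeroDivisors R p.primeCompl_le_nonZeroDivisors
  have : IsFractionRing R (FractionRing A) :=
    IsFractionRing.isFractionRing_of_isDomain_of_isLocalization p.primeCompl R (FractionRing A)
  let e : FractionRing A ≃+* FractionRing R :=
    (FractionRing.algEquiv R (FractionRing A)).symm.toRingEquiv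
  have : IsSepClosed (FractionRing R) := by
    refine IsSepClosed.of_exists_root _ fun q hq hirr hsep => ?_
    obtain ⟨x, hx⟩ := IsSepClosed.exists_root (q.map e.symm.toRingHom) (by
      rw [Polynomial.degree_map]
      exact (Polynomial.degree_pos_of_irreducible hirr).ne') hsep.map
    refine ⟨e x, e.symm.injective ?_⟩
    rw [map_zero, ← hx.eq_zero, Polynomial.eval_map, ← RingEquiv.coe_toRingHom,
      ← Polynomial.eval₂_at_apply, RingEquiv.coe_toRingHom, RingEquiv.symm_apply_apply]
    rfl
  refine Groth.Pi1Hensel.isAlgClosed_residueField R fun h => hp ?_
  have h2 := congrArg (Ideal.comap (algebraMap A R)) h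
  rwa [← Ideal.under_def, IsLocalization.AtPrime.comap_maximalIdeal R p,
    Ideal.comap_bot_of_injective _ (IsLocalization.injective R p.primeCompl_le_nonZeroDivisors)] at h2

end Groth.Agent.S0253
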