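import Groth.Statements.S0255
import Groth.Agent.Purity.Codim1
import Groth.Agent.Purity.QfScheme
-- import your own Groth.Agent.* helpers here

set_option autoImplicit false
universe u
open Pi1

namespace Groth.Agent.S0255

open AlgebraicGeometry CategoryTheory CategoryTheory.Limits in
/-- Let f be a morphism locally of finite type between locally Noetherian schemes and x a point with
image y, such that the local ring at x is a normal domain, the local ring at y is regular of the
same dimension, this dimension is at least 1, f is quasi-finite at x, and f is unramified at every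
point of dimension one specializing to x. Then f is etale on an open neighbourhood of x. -/
theorem result {X Y : Scheme.{u}} (f : X ⟶ Y) [LocallyOfFiniteType f] [IsLocallyNoetherian X]
    [IsLocallyNoetherian Y] (x : X)
    (hx : IsDomain (X.presheaf.stalk x) ∧ IsIntegrallyClosed (X.presheaf.stalk x))
    (hy : IsRegularLocalRing (Y.presheaf.stalk (f.base x)))
    (hq : f.QuasiFiniteAt x)
    (hdim : ringKrullDim (X.presheaf.stalk x) = ringKrullDim (Y.presheaf.stalk (f.base x)))
    (hdim1 : (1 : WithBot ℕ∞) ≤ ringKrullDim (X.presheaf.stalk x))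
    (hunr : ∀ x' : X, x' ⤳ x → ringKrullDim (X.presheaf.stalk x') = 1 →
      (f.stalkMap x').hom.FormallyUnramified) :
    ∃ U : X.Opens, x ∈ U ∧ Etale (U.ι ≫ f) := by
  obtain ⟨R, S, _, _, _, _, _, q, _, _, ⟨ex⟩, ⟨ey⟩, -, hgen, hend⟩ := Groth.Purity.exists_chart_at f x hq
  refine hend ?_
  obtain ⟨A, C, _, _, _, _, _, _, _, _, hreg, hAd, hCd, hnorm, -, hQ, hfin⟩ := Groth.Purity.exists_finite_local (R := R) q
  obtain ⟨hCdom, hCnorm⟩ := hnorm (Groth.Purity.normalDomain_of_ringEquiv ex hx)
  haveI : IsRegularLocalRing A := hreg (IsRegularLocalRing.of_ringEquiv ey)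
  haveI := Groth.Ega4Algebra1.isDomain_of_isRegularLocalRing A
  have hdimAC : ringKrullDim C = ringKrullDim A := by
    rw [hCd, hAd, ← ringKrullDim_eq_of_ringEquiv ex, hdim, ringKrullDim_eq_of_ringEquiv ey]
  rw [ringKrullDim_eq_of_ringEquiv ex, ← hCd, hdimAC] at hdim1
  obtain ⟨d, hd⟩ : ∃ d : ℕ, ringKrullDim A = (d : WithBot ℕ∞) := by
    obtain ⟨a, ha⟩ := WithBot.ne_bot_iff_exists.mp (ringKrullDim_ne_bot (R := A))
    obtain ⟨d, hd⟩ := ENat.ne_top_iff_exists.mp (fun h : a = ⊤ => ringKrullDim_ne_top (R := A) (by rw [← ha, h]; rfl))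
    exact ⟨d, by rw [← ha, ← hd]; rfl⟩
  have hinj : Function.Injective (algebraMap A C) := by
    rw [RingHom.injective_iff_ker_eq_bot]
    by_contra hne
    obtain ⟨r, hr, hr0⟩ := Submodule.exists_mem_ne_zero_of_ne_bot hne
    letI : Algebra (A ⧸ Ideal.span {r}) C := (Ideal.Quotient.lift _ (algebraMap A C) fun a ha => by
      obtain ⟨b, rfl⟩ := Ideal.mem_span_singleton'.mp ha
      rw [map_mul, RingHom.mem_ker.mp hr, mul_zero]).toAlgebra
    haveI : IsScalarTower A (A ⧸ Ideal.span {r}) C := IsScalarTower.of_algebraMap_eq fun a => rfl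
    haveI : Algebra.IsIntegral A C := Algebra.IsIntegral.of_finite A C
    haveI : Algebra.IsIntegral (A ⧸ Ideal.span {r}) C := Algebra.IsIntegral.tower_top (R := A)
    have h1 : ringKrullDim C ≤ ringKrullDim (A ⧸ Ideal.span {r}) :=
      Order.krullDim_le_of_strictMono (fun P => PrimeSpectrum.comap (algebraMap (A ⧸ Ideal.span {r}) C) P)
        fun P Q hPQ => Ideal.IsIntegral.comap_lt_comap (R := A ⧸ Ideal.span {r}) hPQ
    have h2 := ringKrullDim_quotient_succ_le_of_nonZeroDivisor (R := A) (mem_nonZeroDivisors_of_ne_zero hr0)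
    have h3 : (d : WithBot ℕ∞) + 1 ≤ d := by
      have h4 := (add_le_add (hdimAC ▸ h1) (le_refl (1 : WithBot ℕ∞))).trans h2
      rwa [hd] at h4
    norm_cast at h3
    omega
  haveI := Groth.Purity.etale_of_codim_one d A hd (by rw [hd] at hdim1; exact_mod_cast hdim1) C hinj
    fun Q hQp hQ1 => by
      haveI := hQp
      obtain ⟨hht, hle, hur⟩ := hQ Q
      obtain ⟨x', hx', ⟨e'⟩, hu⟩ := hgen _ hle
      refine hur (hu (hunr x' hx' ?_))
      rw [ringKrullDim_eq_of_ringEquiv e', IsLocalization.AtPrime.ringKrullDim_eq_height (Q.comap (algebraMap S C)), hht, hQ1]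
      rfl
  exact hfin inferInstance

end Groth.Agent.S0255
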