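import Groth.Statements.S0257
import Groth.Agent.Purity.FreePurity
import Groth.Agent.Purity.QfScheme
-- import your own Groth.Agent.* helpers here

set_option autoImplicit false
universe u
open Pi1

namespace Groth.Agent.S0257

open AlgebraicGeometry CategoryTheory CategoryTheory.Limits in
/-- Let f be flat and locally of finite type between locally Noetherian schemes, x a point of X which is
not a generic point of an irreducible component (its local ring has dimension at least 1), with f
quasi-finite at x and unramified at all points of dimension one specializing to x. Then f is etale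
on an open neighbourhood of x. -/
theorem result {X Y : Scheme.{u}} (f : X ⟶ Y) [LocallyOfFiniteType f] [Flat f] [IsLocallyNoetherian X]
    [IsLocallyNoetherian Y] (x : X) (hq : f.QuasiFiniteAt x)
    (hdim1 : (1 : WithBot ℕ∞) ≤ ringKrullDim (X.presheaf.stalk x))
    (hunr : ∀ x' : X, x' ⤳ x → ringKrullDim (X.presheaf.stalk x') = 1 →
      (f.stalkMap x').hom.FormallyUnramified) :
    ∃ U : X.Opens, x ∈ U ∧ Etale (U.ι ≫ f) := by
  obtain ⟨R, S, _, _, _, _, _, q, _, _, ⟨ex⟩, -, hflat, hgen, hend⟩ := Groth.Purity.exists_chart_at f x hq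
  refine hend ?_
  haveI := hflat inferInstance
  obtain ⟨A, C, _, _, _, _, _, _, _, _, -, -, hC, -, hfl, hQ, hfin⟩ := Groth.Purity.exists_finite_local (R := R) q
  haveI := hfl inferInstance
  haveI : Module.Free A C := Module.free_of_flat_of_isLocalRing
  rw [ringKrullDim_eq_of_ringEquiv ex, ← hC] at hdim1
  haveI : IsNoetherianRing C := IsNoetherianRing.of_finite A C
  have hA : (1 : WithBot ℕ∞) ≤ ringKrullDim A := by
    rw [← IsLocalRing.maximalIdeal_height_eq_ringKrullDim] at hdim1 ⊢
    rw [Groth.Purity.height_eq_of_finite_flat (A := A)] at hdim1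
    haveI : (IsLocalRing.maximalIdeal C).under A |>.IsMaximal := Ideal.isMaximal_comap_of_isIntegral_of_isMaximal _
    rw [IsLocalRing.eq_maximalIdeal (inferInstance : ((IsLocalRing.maximalIdeal C).under A).IsMaximal)] at hdim1
    exact hdim1
  refine hfin (Groth.Purity.etale_of_free_unramified_codim_one hA fun Q _ hQ1 => ?_)
  obtain ⟨hht, hle, hur⟩ := hQ Q
  obtain ⟨x', hx', ⟨e'⟩, hu⟩ := hgen _ hle
  refine hur (hu (hunr x' hx' ?_))
  rw [ringKrullDim_eq_of_ringEquiv e', IsLocalization.AtPrime.ringKrullDim_eq_height (Q.comap (algebraMap S C)), hht, hQ1]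
  rfl

end Groth.Agent.S0257
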