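import Groth.Statements.S0260
import Groth.Agent.Pi1Lef.Apply
import Groth.Agent.LocCohBase.Ischebeck
import Groth.Agent.LocCohBase.CM
import Groth.Agent.Calg1.BEConverse

set_option backward.isDefEq.respectTransparency false
set_option linter.style.haveILetI false
-- import your own Groth.Agent.* helpers here

set_option autoImplicit false
universe u
open Pi1

namespace Groth.Agent.S0260

open AlgebraicGeometry CategoryTheory CategoryTheory.Limits in
/-- Let A be a henselian Noetherian local ring of depth at least 3 and f an element of the maximal
ideal. Then restricting finite etale covers from the punctured spectrum of A to the punctured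
spectrum of A/fA is fully faithful. -/
theorem result (A : Type u) [CommRing A] [IsNoetherianRing A] [HenselianLocalRing A] (hA : (3 : ℕ∞) ≤ LocCoh.depth A A)
    (f : A) (hf : f ∈ IsLocalRing.maximalIdeal A) :
    (FEt.restrict (pullback.fst (FEt.puncturedSpec A).ι
      (Spec.map (CommRingCat.ofHom (Ideal.Quotient.mk (Ideal.span {f})))))).Full ∧
    (FEt.restrict (pullback.fst (FEt.puncturedSpec A).ι
      (Spec.map (CommRingCat.ofHom (Ideal.Quotient.mk (Ideal.span {f})))))).Faithful := by
  haveI : HenselianRing A (Ideal.span {f}) :=
    Groth.Hensel1.henselianRing_le (J := IsLocalRing.maximalIdeal A)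
      ((Ideal.span_singleton_le_iff_mem _).2 hf)
  haveI := Groth.Calg6.LimitFlat.faithfullyFlat_completion A
  haveI := Groth.Pi1Lef.completion_isNoetherianRing A
  let C := AdicCompletion (IsLocalRing.maximalIdeal A) A
  haveI : IsLocalHom (algebraMap A C) := by
    refine ⟨fun a ha => by_contra fun hna => ?_⟩
    exact (IsLocalRing.mem_maximalIdeal _).1 ((Groth.Pi1Lef.completion_map_maximalIdeal A).le
      (Ideal.mem_map_of_mem _ ((IsLocalRing.mem_maximalIdeal a).2 hna))) ha
  have hC : (3 : ℕ∞) ≤ LocCoh.depth C C := hA.trans (Groth.Calg4.le_depth_of_flat (A := A) (B := C))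
  refine Groth.Pi1Lef.fullyFaithful_of_completion_conditions hf (fun p hp _ => ?_) fun p _ _ h1 => ?_
  · have hass : p ∈ associatedPrimes C C := by
      refine Module.associatedPrimes.minimalPrimes_annihilator_subset_associatedPrimes C C ?_
      rwa [Module.annihilator_eq_bot.2 inferInstance]
    exact le_trans (WithBot.coe_le_coe.2 hC) (Groth.LocCohBase.depth_le_ringKrullDim_quotient hass)
  · have h := Groth.LocCohBase.depth_le_depth_localized_add p (k := 1) h1.le C
    rw [Groth.Calg1.BE.depth_localizedModule_self] at h
    have h3 := hC.trans h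
    exact (ENat.add_le_add_iff_right (k := 1) (by simp)).1 (le_trans (by norm_num) h3)

end Groth.Agent.S0260
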