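import Groth.Statements.S0262
import Groth.Agent.Pi1Lef.Extends
-- import your own Groth.Agent.* helpers here

set_option autoImplicit false
set_option backward.isDefEq.respectTransparency false
set_option backward.defeqAttrib.useBackward true
set_option linter.style.haveILetI false
universe u
open Pi1

namespace Groth.Agent.S0262

open AlgebraicGeometry CategoryTheory CategoryTheory.Limits in
/-- Let A be a Noetherian local ring with completion A^, U the punctured spectrum of A and U' its base
change to Spec A^. A finite etale cover V of U is the restriction of a finite etale cover of Spec A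
if and only if the base change of V to U' is the restriction of a finite etale cover of Spec A^. -/
theorem result (A : Type u) [CommRing A] [IsNoetherianRing A] [IsLocalRing A]
    (V : FEt.Cat (FEt.puncturedSpec A : Scheme.{u})) :
    (∃ Y : FEt.Cat (Spec (CommRingCat.of A)),
      Nonempty ((FEt.restrict (FEt.puncturedSpec A).ι).obj Y ≅ V)) ↔
    (∃ Y' : FEt.Cat (Spec (CommRingCat.of (AdicCompletion (IsLocalRing.maximalIdeal A) A))),
      Nonempty ((FEt.restrict (pullback.snd (FEt.puncturedSpec A).ι
        (Spec.map (CommRingCat.ofHom
          (algebraMap A (AdicCompletion (IsLocalRing.maximalIdeal A) A)))))).obj Y' ≅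
        (FEt.restrict (pullback.fst (FEt.puncturedSpec A).ι
        (Spec.map (CommRingCat.ofHom
          (algebraMap A (AdicCompletion (IsLocalRing.maximalIdeal A) A)))))).obj V)) := by
  haveI := Groth.Pi1Lef.completion_isNoetherianRing A
  haveI := Groth.Calg6.LimitFlat.faithfullyFlat_completion A
  constructor
  · rintro ⟨Y, ⟨ε⟩⟩
    exact ⟨(FEt.restrict _).obj Y, ⟨Groth.Pi1Lef.restrictSquare pullback.condition.symm Y ≪≫
      (FEt.restrict _).mapIso ε⟩⟩
  · rintro ⟨Y', ⟨e⟩⟩
    exact Groth.Pi1Lef.extends_of_extends_base (Groth.Pi1Lef.completion_map_maximalIdeal A)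
      (Groth.Pi1Lef.completion_exists_sub_mem A) V Y' e

end Groth.Agent.S0262
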