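import Groth.Statements.S0268
import Groth.Agent.Pi1Field.Basic

set_option backward.isDefEq.respectTransparency false
set_option linter.style.haveILetI false

set_option autoImplicit false
universe u
open Pi1

namespace Groth.Agent.S0268

open AlgebraicGeometry CategoryTheory CategoryTheory.Limits in
/-- Functor form of the surjectivity of pi_1(X) -> pi_1(Spec k): Let X be quasi-compact and
quasi-separated over a field k with X_{kbar} connected. Then the functor pulling back finite etale
k-schemes to X is full and faithful. -/
theorem result (k : Type u) [Field k] {X : Scheme.{u}} (f : X ⟶ Spec (CommRingCat.of k)) [CompactSpace X]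
    [QuasiSeparatedSpace X]
    [ConnectedSpace ↥(pullback f (Spec.map (CommRingCat.ofHom (algebraMap k (AlgebraicClosure k)))))] :
    (FEt.restrict f).Full ∧ (FEt.restrict f).Faithful := by
  haveI hconn : ConnectedSpace ↥(pullback f (Groth.Pi1Field.geomPt k)) := ‹_›
  obtain ⟨x₀⟩ : Nonempty X :=
    ⟨(pullback.fst f (Groth.Pi1Field.geomPt k)).base (Classical.arbitrary _)⟩
  haveI : Surjective f := ⟨fun y => ⟨x₀, Subsingleton.elim _ _⟩⟩
  have hinj : ∀ (A : FEt.Cat (Spec (CommRingCat.of k))) (C : Set ↥A.left), IsClopen C →
      Set.range (pullback.fst A.hom f).base ⊆ C → C = Set.univ := by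
    intro A C _ hsub
    haveI : Surjective (pullback.fst A.hom f) := MorphismProperty.pullback_fst _ _ inferInstance
    exact Set.univ_subset_iff.1 ((pullback.fst A.hom f).surjective.range_eq ▸ hsub)
  refine ⟨Groth.Pi1FEt.restrict_full_of_clopen f hinj fun A C₀ hC₀ => ?_,
    Groth.Pi1Etale.restrict_faithful_of_clopen f hinj⟩
  let a : A.left ⟶ Spec (CommRingCat.of k) := A.hom
  haveI : IsFinite a := A.prop.1
  have hfin : Finite ↥A.left := by
    have := a.finite_preimage_singleton (IsLocalRing.closedPoint k)
    have huniv : a.base ⁻¹' {IsLocalRing.closedPoint k} = Set.univ :=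
      Set.eq_univ_of_forall fun _ => Subsingleton.elim _ _
    exact Set.finite_univ_iff.mp (huniv ▸ this)
  haveI := hfin
  haveI : JacobsonSpace ↥A.left := LocallyOfFiniteType.jacobsonSpace a
  haveI : DiscreteTopology ↥A.left := inferInstance
  refine ⟨(pullback.fst A.hom f).base '' C₀, isClopen_discrete _, ?_⟩
  refine Set.Subset.antisymm ?_ (Set.subset_preimage_image _ _)
  rintro y ⟨y', hy', hyy'⟩
  exact (Groth.Pi1Field.isPreconnected_preimage f a _).subset_isClopen hC₀ ⟨y', hyy', hy'⟩
    (show y ∈ (pullback.fst A.hom f).base ⁻¹' {(pullback.fst A.hom f).base y} from rfl)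

end Groth.Agent.S0268
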