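import Groth.Statements.S0270
import Groth.Agent.Pi1Field.Sep
import Mathlib.RingTheory.Etale.Pi
import Mathlib.RingTheory.Etale.Field
import Mathlib.AlgebraicGeometry.Limits
import Mathlib.CategoryTheory.Extensive

set_option backward.isDefEq.respectTransparency false
set_option linter.style.haveILetI false

set_option autoImplicit false
universe u
open Pi1

namespace Groth.Agent.S0270

open AlgebraicGeometry CategoryTheory CategoryTheory.Limits Groth.Pi1Field in
theorem prop_desc (k : Type u) [Field k] (n : ℕ) (L : Type u) [Field L] [Algebra k L]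
    [FiniteDimensional k L] [Algebra.IsSeparable k L] :
    FEt.prop (Sigma.desc fun _ : Fin n => ext k L) := by
  let e : (∐ fun _ : Fin n => Spec (CommRingCat.of L)) ≅
      ∐ fun _ : ULift.{u} (Fin n) => Spec (CommRingCat.of L) :=
    Sigma.whiskerEquiv (f := fun _ : Fin n => Spec (CommRingCat.of L))
      (g := fun _ : ULift.{u} (Fin n) => Spec (CommRingCat.of L)) Equiv.ulift.symm
      (fun _ => Iso.refl _)
  have h : (Sigma.desc fun _ : Fin n => ext k L) =
      (e.hom ≫ sigmaSpec (fun _ : ULift.{u} (Fin n) => CommRingCat.of L)) ≫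
        Spec.map (CommRingCat.ofHom (algebraMap k (ULift.{u} (Fin n) → L))) := by
    refine Sigma.hom_ext _ _ fun i => ?_
    simp only [e, Sigma.whiskerEquiv_hom, Sigma.ι_desc, Sigma.ι_comp_map'_assoc, Category.assoc,
      Iso.refl_inv, Category.id_comp, ι_sigmaSpec_assoc, ← Spec.map_comp]
    rfl
  rw [h]
  refine MorphismProperty.comp_mem _ _ _
    ⟨MorphismProperty.of_isIso @IsFinite _, MorphismProperty.of_isIso @Etale _⟩
    ⟨(IsFinite.SpecMap_iff _).mpr (RingHom.finite_algebraMap.mpr inferInstance), ?_⟩
  haveI : Algebra.Etale k L :=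
    ⟨Algebra.FormallyEtale.of_isSeparable k L, Algebra.FinitePresentation.of_finiteType.mp inferInstance⟩
  exact (HasRingHomProperty.Spec_iff (P := @Etale)).mpr (RingHom.etale_algebraMap.mpr inferInstance)

open AlgebraicGeometry CategoryTheory CategoryTheory.Limits in
/-- (Exactness of the homotopy sequence of etale fundamental groups at pi_1(X), in functor form.) Let X
be quasi-compact and quasi-separated over a field k with X_{kbar} connected, kbar an algebraic
closure of k. If a finite etale cover U of X becomes completely split (a disjoint union of copies of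
X_{kbar}) after base change to kbar, then there are a finite etale k-scheme V and an X-morphism from
V x_k X to U which is surjective. -/
theorem result (k : Type u) [Field k] {X : Scheme.{u}} (f : X ⟶ Spec (CommRingCat.of k)) [CompactSpace X]
    [QuasiSeparatedSpace X]
    [ConnectedSpace ↥(pullback f (Spec.map (CommRingCat.ofHom (algebraMap k (AlgebraicClosure k)))))]
    (U : FEt.Cat X) (hU : Pi1.IsSplit ((FEt.restrict (pullback.fst f (Spec.map (CommRingCat.ofHom (algebraMap k (AlgebraicClosure k)))))).obj U)) :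
    ∃ (V : FEt.Cat (Spec (CommRingCat.of k))) (e : (FEt.restrict f).obj V ⟶ U), Surjective e.left := by
  obtain ⟨ι, hι, eU, heU⟩ := hU
  haveI := hι
  obtain ⟨n, ⟨eι⟩⟩ := Finite.exists_equiv_fin ι
  let g : U.left ⟶ X := U.hom
  haveI : Etale g := U.prop.2
  haveI : IsFinite g := U.prop.1
  let q := pullback.fst f (Groth.Pi1Field.geomPt k)
  let σ : Fin n → (pullback f (Groth.Pi1Field.geomPt k) ⟶ U.left) := fun i =>
    Sigma.ι (fun _ : ι => pullback f (Groth.Pi1Field.geomPt k)) (eι.symm i) ≫ eU.inv ≫
      pullback.fst g q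
  have hσ : ∀ i, σ i ≫ g = pullback.fst f (Groth.Pi1Field.geomPt k) := fun i => by
    simp only [σ, Category.assoc, pullback.condition]
    exact (congrArg (Sigma.ι _ (eι.symm i) ≫ ·) (Category.assoc _ _ _).symm).trans
      ((Category.assoc _ _ _).symm.trans
        ((congrArg (· ≫ q) (heU (eι.symm i))).trans (Category.id_comp _)))
  choose τ hτ hτg using fun i => Groth.Pi1Field.exists_hom_sep f g (σ i) (hσ i)
  obtain ⟨L, hL, hb⟩ := Groth.Pi1Field.exists_descend_hom (Groth.Pi1Field.sepLvl k) f g τ hτg
  haveI := hL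
  choose b hb hbg using hb L le_rfl
  let V : FEt.Cat (Spec (CommRingCat.of k)) :=
    MorphismProperty.Over.mk ⊤ (Sigma.desc fun _ : Fin n => Groth.Pi1Field.ext k L) (prop_desc k n L)
  let v : (∐ fun _ : Fin n => Spec (CommRingCat.of L)) ⟶ Spec (CommRingCat.of k) :=
    Sigma.desc fun _ : Fin n => Groth.Pi1Field.ext k L
  let w : pullback v f ⟶ ∐ fun _ : Fin n => Spec (CommRingCat.of L) := pullback.fst v f
  have hι' : ∀ i, Sigma.ι (fun _ : Fin n => Spec (CommRingCat.of L)) i ≫ v =
      Groth.Pi1Field.ext k L := fun i => Sigma.ι_desc _ _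
  let d : (∐ fun i => pullback w (Sigma.ι (fun _ : Fin n => Spec (CommRingCat.of L)) i)) ⟶
      pullback v f := Sigma.desc fun i => pullback.fst w _
  haveI : IsIso d := FinitaryPreExtensive.isIso_sigmaDesc_fst
    (Sigma.ι fun _ : Fin n => Spec (CommRingCat.of L)) w (by
      rw [show Sigma.desc (Sigma.ι fun _ : Fin n => Spec (CommRingCat.of L)) = 𝟙 _ from
        Sigma.hom_ext _ _ fun i => (Sigma.ι_desc _ _).trans (Category.comp_id _).symm]
      infer_instance)
  let m : ∀ i, pullback w (Sigma.ι (fun _ : Fin n => Spec (CommRingCat.of L)) i) ⟶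
      pullback f (Groth.Pi1Field.ext k L) := fun i =>
    pullback.lift (pullback.fst w _ ≫ pullback.snd v f) (pullback.snd w _) (by
      rw [Category.assoc, ← pullback.condition, ← hι' i, ← Category.assoc, pullback.condition,
        Category.assoc])
  let e : pullback v f ⟶ U.left := inv d ≫ Sigma.desc fun i => m i ≫ b i
  have he : e ≫ g = pullback.snd v f := by
    rw [← cancel_epi d]
    refine Sigma.hom_ext _ _ fun i => ?_
    simp only [e, d, IsIso.hom_inv_id_assoc, Category.assoc, Sigma.ι_desc_assoc, hbg]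
    exact pullback.lift_fst _ _ _
  refine ⟨V, MorphismProperty.Over.homMk e he, ⟨fun u => ?_⟩⟩
  haveI : Surjective (pullback.fst g q) := MorphismProperty.pullback_fst _ _ inferInstance
  obtain ⟨z, rfl⟩ := (pullback.fst g q).surjective u
  obtain ⟨i, x, hix⟩ := (AlgebraicGeometry.sigmaOpenCover fun _ : ι =>
    pullback f (Groth.Pi1Field.geomPt k)).exists_eq (eU.hom.base z)
  let j : pullback f (Groth.Pi1Field.ext k L) ⟶ pullback v f :=
    pullback.lift (pullback.snd f _ ≫ Sigma.ι (fun _ : Fin n => Spec (CommRingCat.of L)) (eι i)) (pullback.fst f _) (by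
      rw [Category.assoc, hι', pullback.condition])
  let j' : pullback f (Groth.Pi1Field.ext k L) ⟶
      pullback w (Sigma.ι (fun _ : Fin n => Spec (CommRingCat.of L)) (eι i)) :=
    pullback.lift j (pullback.snd f _) (pullback.lift_fst _ _ _)
  have hj' : j' ≫ m (eι i) = 𝟙 _ := by
    apply pullback.hom_ext
    · rw [Category.assoc, pullback.lift_fst, pullback.lift_fst_assoc, pullback.lift_snd,
        Category.id_comp]
    · rw [Category.assoc, pullback.lift_snd, pullback.lift_snd, Category.id_comp]
  have hje : j ≫ e = b (eι i) := by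
    have h1 : j' ≫ Sigma.ι (fun i => pullback w (Sigma.ι (fun _ : Fin n => Spec (CommRingCat.of L)) i)) (eι i) ≫ d = j := by
      simp only [d, Sigma.ι_desc]
      exact pullback.lift_fst _ _ _
    rw [← h1]
    simp only [Category.assoc, e, IsIso.hom_inv_id_assoc, Sigma.ι_desc]
    rw [reassoc_of% hj']
  refine ⟨j.base ((Groth.Pi1Field.proj _ f L).base
    ((Groth.Pi1Field.proj _ f (Groth.Pi1Field.sepLvl k)).base x)), ?_⟩
  show e.base _ = _
  rw [← Scheme.Hom.comp_apply, hje, ← Scheme.Hom.comp_apply, hb, ← Scheme.Hom.comp_apply, hτ]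
  simp only [σ, Scheme.Hom.comp_apply, Equiv.symm_apply_apply]
  congr 1
  have : eU.inv.base (eU.hom.base z) = z := by
    rw [← Scheme.Hom.comp_apply, Iso.hom_inv_id]
    rfl
  rw [← this, ← hix]
  rfl

end Groth.Agent.S0270
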