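import Groth.Statements.S9249
import Groth.Agent.Calg4.FlatDepth
import Groth.Agent.Calg1.CompletionLocal

set_option autoImplicit false
universe u
open CAlg

namespace Groth.Agent.S9249

/-- A Noetherian local ring is Cohen-Macaulay if and only if its completion is. -/
theorem result (A : Type u) [CommRing A] [IsLocalRing A]
    [IsNoetherianRing A] :
    LocCoh.IsCohenMacaulayLocalRing A ↔
      LocCoh.IsCohenMacaulayLocalRing (AdicCompletion (IsLocalRing.maximalIdeal A) A) := by
  let C := AdicCompletion (IsLocalRing.maximalIdeal A) A
  have : IsNoetherianRing C :=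
    Groth.Calg1.isNoetherianRing_adicCompletion _ (IsNoetherian.noetherian (IsLocalRing.maximalIdeal A))
  have hd : LocCoh.depth C C = LocCoh.depth A A :=
    le_antisymm (Groth.Calg4.depth_le_of_flat (by rw [AdicCompletion.maximalIdeal_eq_map]; exact Ideal.le_radical))
      Groth.Calg4.le_depth_of_flat
  have hk : Module.supportDim C C = Module.supportDim A A := by
    rw [Module.supportDim_self_eq_ringKrullDim, Module.supportDim_self_eq_ringKrullDim,
      Groth.Calg1.ringKrullDim_adicCompletion]
  exact ⟨fun h => ⟨by rw [hk, h.supportDim_eq_depth, hd]⟩,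
    fun h => ⟨by rw [← hk, h.supportDim_eq_depth, hd]⟩⟩

end Groth.Agent.S9249
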