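import Groth.Statements.S0272
import Groth.Agent.ParaLift82.PurityCI
import Groth.Agent.S9249

set_option autoImplicit false
universe u
open Pi1

namespace Groth.Agent.S0272

open AlgebraicGeometry CategoryTheory CategoryTheory.Limits in
/-- Let A be a Noetherian local ring which is a complete intersection (its completion is a regular local
ring modulo a regular sequence) of dimension at least 3. Then every finite etale cover of the
punctured spectrum of A extends to Spec A. -/
theorem result (A : Type u) [CommRing A] [IsNoetherianRing A] [IsLocalRing A] (hA : Pi1.IsCompleteIntersection A)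
    (hd : (3 : WithBot ℕ∞) ≤ ringKrullDim A) : FEt.PurityHolds A := by
  obtain ⟨B, _, _, rs, -, hreg, ⟨e⟩⟩ := hA
  let C := AdicCompletion (IsLocalRing.maximalIdeal A) A
  have : IsNoetherianRing C :=
    Groth.Calg1.isNoetherianRing_adicCompletion _ (IsNoetherian.noetherian (IsLocalRing.maximalIdeal A))
  let π : B →+* C := e.symm.toRingHom.comp (Ideal.Quotient.mk _)
  have hπ : Groth.ParaLift82.CIPres rs.length C :=
    ⟨B, inferInstance, inferInstance, π, rs, e.symm.surjective.comp Ideal.Quotient.mk_surjective, rfl, hreg,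
      by rw [RingHom.ker_equiv_comp, Ideal.mk_ker]⟩
  have hC : (3 : WithBot ℕ∞) ≤ ringKrullDim C := by rwa [Groth.Calg1.ringKrullDim_adicCompletion]
  have hCMC : LocCoh.IsCohenMacaulayLocalRing C := by
    have h := Groth.Calg6.TorCM.isCM_quotient_regularSeq B rs hreg
    refine ⟨?_⟩
    have h1 : LocCoh.depth C C = LocCoh.depth (B ⧸ Ideal.ofList rs) (B ⧸ Ideal.ofList rs) :=
      le_antisymm (Groth.ParaFormal.FsReduce.depth_le_of_ringEquiv e)
        (Groth.ParaFormal.FsReduce.depth_le_of_ringEquiv e.symm)
    rw [Module.supportDim_self_eq_ringKrullDim, h1, ringKrullDim_eq_of_ringEquiv e,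
      ← h.supportDim_eq_depth, Module.supportDim_self_eq_ringKrullDim]
  have hCMA : LocCoh.IsCohenMacaulayLocalRing A := (Groth.Agent.S9249.result A).2 hCMC
  have hdepth : (2 : ℕ∞) ≤ LocCoh.depth A A := by
    have h := hd
    rw [← Module.supportDim_self_eq_ringKrullDim, hCMA.supportDim_eq_depth] at h
    exact le_trans (by norm_num) (WithBot.coe_le_coe.1 h : (3 : ℕ∞) ≤ LocCoh.depth A A)
  exact Groth.Pi1Formal.purityHolds_of_completion hdepth
    (Groth.ParaLift82.purityHolds_of_ciPres _ C hπ hC)

end Groth.Agent.S0272
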