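import Groth.Statements.S0275
import Groth.Agent.Pi1UnivInj.Descent

set_option autoImplicit false
universe u
open scoped TensorProduct
open Pi1

namespace Groth.Agent.S0275

/-- Let R -> S be universally injective and M an R-module such that S ⊗_R M is finitely generated over
S. Then M is finitely generated over R. -/
theorem result (R S : Type u) [CommRing R] [CommRing S] [Algebra R S]
    (h : Pi1.UnivInjective R S) (M : Type u) [AddCommGroup M] [Module R M]
    [Module.Finite S (S ⊗[R] M)] : Module.Finite R M := by
  have hS : ∀ (M : Type u) [AddCommGroup M] [Module R M],
      Function.Injective (fun m : M => (1 : S) ⊗ₜ[R] m) := Groth.Pi1UnivInj.mk_one_injective h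
  exact Groth.Pi1UnivInj.finite_of_finite_tensor hS M

end Groth.Agent.S0275
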