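import Groth.Statements.S0278
import Groth.Agent.Pi1UnivInj.Descent

set_option autoImplicit false
universe u
open scoped TensorProduct
open Pi1

namespace Groth.Agent.S0278

/-- Let R -> S be universally injective and A an R-algebra such that S ⊗_R A is of finite presentation
over S. Then A is of finite presentation over R. -/
theorem result (R S : Type u) [CommRing R] [CommRing S] [Algebra R S]
    (h : Pi1.UnivInjective R S) (A : Type u) [CommRing A] [Algebra R A]
    [Algebra.FinitePresentation S (S ⊗[R] A)] : Algebra.FinitePresentation R A := by
  have hS : ∀ (M : Type u) [AddCommGroup M] [Module R M],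
      Function.Injective (fun m : M => (1 : S) ⊗ₜ[R] m) := Groth.Pi1UnivInj.mk_one_injective h
  exact Groth.Pi1UnivInj.algFinitePresentation_of_tensor hS A

end Groth.Agent.S0278
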