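import Groth.Statements.S0279
import Groth.Agent.Pi1UnivInj.Descent
import Mathlib.RingTheory.Smooth.Fiber

set_option autoImplicit false
universe u
open scoped TensorProduct
open Pi1

namespace Groth.Agent.S0279

/-- Let R → S be a universally injective ring map and A an R-algebra such that S ⊗_R A is étale over S.
Then A is étale over R. -/
theorem result (R S : Type u) [CommRing R] [CommRing S] [Algebra R S]
    (h : Pi1.UnivInjective R S) (A : Type u) [CommRing A] [Algebra R A]
    [Algebra.Etale S (S ⊗[R] A)] : Algebra.Etale R A := by
  have hS : ∀ (M : Type u) [AddCommGroup M] [Module R M],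
      Function.Injective (fun m : M => (1 : S) ⊗ₜ[R] m) := Groth.Pi1UnivInj.mk_one_injective h
  have : Algebra.FinitePresentation R A := Groth.Pi1UnivInj.algFinitePresentation_of_tensor hS A
  have : Algebra.FormallyUnramified R A := Groth.Pi1UnivInj.formallyUnramified_of_tensor hS A
  have : Module.Flat R A := Groth.Pi1UnivInj.flat_of_flat_tensor h A
  exact Algebra.Etale.of_formallyUnramified_of_flat

end Groth.Agent.S0279
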