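import Groth.Statements.S0280
import Groth.Agent.Achinger.Core
-- import your own Groth.Agent.* helpers here

set_option autoImplicit false
universe u
open Pi1

namespace Groth.Agent.S0280

/-- Let k be a field of characteristic p > 0 and C a k-algebra which is etale over the polynomial ring
in n variables. Then there is a (possibly different) k-algebra map from that polynomial ring to C
which is finite etale. -/
theorem result (k : Type u) [Field k] (p : ℕ)
    [Fact p.Prime] [CharP k p] (n : ℕ) (C : Type u) [CommRing C]
    [Algebra (MvPolynomial (Fin n) k) C] [Algebra k C] [IsScalarTower k (MvPolynomial (Fin n) k) C]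
    [Algebra.Etale (MvPolynomial (Fin n) k) C] :
    ∃ φ : MvPolynomial (Fin n) k →ₐ[k] C, φ.toRingHom.Finite ∧ φ.toRingHom.Etale := by
  classical
  let P := MvPolynomial (Fin n) k
  have : Algebra.FiniteType k C := .trans (S := P) inferInstance inferInstance
  obtain ⟨s, hs⟩ := Algebra.FiniteType.out (R := k) (A := C)
  have hpC : (p : C) = 0 := by
    rw [← map_natCast (algebraMap k C), CharP.cast_eq_zero, map_zero]
  let z : Fin s.card → C := fun i => s.equivFin.symm i
  let x : Fin n → C := fun i => algebraMap P C (MvPolynomial.X i)
  obtain ⟨x', -, hD, hint⟩ := Groth.Achinger.exists_finite_perturbation p (Fact.out : p.Prime).pos hpC ⊤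
    (Groth.Achinger.not_algebraicIndependent (C := C)) s.card x z (fun _ => trivial) (fun c => by
      have hc : c ∈ Algebra.adjoin k (Set.range (Fin.append x z)) := by
        have : c ∈ Algebra.adjoin k (s : Set C) := hs ▸ Algebra.mem_top
        refine Algebra.adjoin_mono ?_ this
        intro a ha
        refine ⟨Fin.natAdd n (s.equivFin ⟨a, ha⟩), ?_⟩
        simp [z]
      exact isIntegral_algebraMap (A := C) (x := (⟨c, hc⟩ : Algebra.adjoin k (Set.range (Fin.append x z)))))
  exact ⟨MvPolynomial.aeval x', Groth.Achinger.finite_etale_of_perturbation x' hD hint⟩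

end Groth.Agent.S0280
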