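import Groth.Statements.S0281
import Groth.Agent.Achinger.Core
import Groth.Agent.EtaleAlgebra.QuotLift
-- import your own Groth.Agent.* helpers here

set_option autoImplicit false
universe u
open scoped TensorProduct
open Pi1

namespace Groth.Agent.S0281

/-- Let k be a field of characteristic p > 0, I an ideal of the polynomial ring P in n variables over k,
and B a finite etale algebra over P/I. Then there are a finite etale P-algebra C and a surjective
P/I-algebra map from (P/I) ⊗_P C onto B (so Spec B is an open and closed subscheme of Spec C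
restricted to V(I)). -/
theorem result (k : Type u) [Field k] (p : ℕ)
    [Fact p.Prime] [CharP k p] (n : ℕ) (I : Ideal (MvPolynomial (Fin n) k)) (B : Type u) [CommRing B]
    [Algebra (MvPolynomial (Fin n) k ⧸ I) B] [Module.Finite (MvPolynomial (Fin n) k ⧸ I) B]
    [Algebra.Etale (MvPolynomial (Fin n) k ⧸ I) B] :
    ∃ (C : Type u) (_ : CommRing C) (_ : Algebra (MvPolynomial (Fin n) k) C),
      Module.Finite (MvPolynomial (Fin n) k) C ∧ Algebra.Etale (MvPolynomial (Fin n) k) C ∧
      ∃ ψ : (MvPolynomial (Fin n) k ⧸ I) ⊗[MvPolynomial (Fin n) k] C →ₐ[MvPolynomial (Fin n) k ⧸ I] B,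
        Function.Surjective ψ := by
  classical
  obtain ⟨C, _, _, _, ⟨e⟩⟩ :=
    Groth.EtaleAlgebra.exists_etale_lift_quot (MvPolynomial (Fin n) k) I B
  let P := MvPolynomial (Fin n) k
  let : Algebra k C := ((algebraMap P C).comp (algebraMap k P)).toAlgebra
  have : IsScalarTower k P C := IsScalarTower.of_algebraMap_eq fun _ => rfl
  let : Algebra P B := ((algebraMap (P ⧸ I) B).comp (Ideal.Quotient.mk I)).toAlgebra
  have : IsScalarTower P (P ⧸ I) B := ⟨fun a b c => by
    obtain ⟨b, rfl⟩ := Ideal.Quotient.mk_surjective b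
    show Ideal.Quotient.mk I (a * b) • c = a • (Ideal.Quotient.mk I b • c)
    rw [map_mul, Algebra.smul_def, Algebra.smul_def, Algebra.smul_def, map_mul, mul_assoc]
    rfl⟩
  have : Module.Finite P (P ⧸ I) := .of_surjective (Ideal.Quotient.mkₐ P I).toLinearMap
    Ideal.Quotient.mk_surjective
  have : Module.Finite P B := .trans (P ⧸ I) B
  let π : C →ₐ[P] B := (e.toAlgHom.restrictScalars P).comp
    (Algebra.TensorProduct.includeRight : C →ₐ[P] (P ⧸ I) ⊗[P] C)
  have hπ : Function.Surjective π := fun b => by
    obtain ⟨c, hc⟩ := Algebra.TensorProduct.includeRight_surjective C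
      (R := P) (S := P ⧸ I) Ideal.Quotient.mk_surjective (e.symm b)
    exact ⟨c, (congrArg e hc).trans (e.apply_symm_apply b)⟩
  have : Algebra.FiniteType k C := .trans (S := P) inferInstance inferInstance
  obtain ⟨s, hs⟩ := Algebra.FiniteType.out (R := k) (A := C)
  let J : Ideal C := RingHom.ker π
  have hmon : ∀ y : C, ∃ q : Polynomial P, q.Monic ∧ 0 < q.degree ∧ Polynomial.aeval y q ∈ J := fun y => by
    obtain ⟨q, hq, hq0⟩ := Algebra.IsIntegral.isIntegral (R := P) (π y)
    refine ⟨q * Polynomial.X, hq.mul Polynomial.monic_X, ?_, ?_⟩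
    · rcases subsingleton_or_nontrivial P with hP | hP
      · exact absurd (Subsingleton.elim (1 : P) 0) one_ne_zero
      rw [Polynomial.degree_mul, Polynomial.degree_X, Polynomial.degree_eq_natDegree hq.ne_zero]
      exact_mod_cast Nat.succ_pos _
    · show π _ = 0
      rw [← Polynomial.aeval_algHom_apply, map_mul, Polynomial.aeval_def, hq0, zero_mul]
  choose q hqm hqd hqJ using hmon
  let z : Fin s.card → C := fun i => Polynomial.aeval (s.equivFin.symm i : C) (q (s.equivFin.symm i))
  let x : Fin n → C := fun i => algebraMap P C (MvPolynomial.X i)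
  have hpC : (p : C) = 0 := by
    rw [← map_natCast (algebraMap k C), CharP.cast_eq_zero, map_zero]
  obtain ⟨x', hxJ, hD, hint⟩ := Groth.Achinger.exists_finite_perturbation p (Fact.out : p.Prime).pos hpC J
    (Groth.Achinger.not_algebraicIndependent (C := C)) s.card x z (fun _ => hqJ _) (fun c => by
      set A := Algebra.adjoin k (Set.range (Fin.append x z))
      have hP : ∀ a : P, algebraMap P C a ∈ A := fun a => by
        rw [← MvPolynomial.aeval_X_left_apply a, ← IsScalarTower.toAlgHom_apply k P C,
          ← AlgHom.comp_apply, MvPolynomial.comp_aeval]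
        refine Algebra.adjoin_mono ?_ (((Algebra.adjoin_range_eq_range_aeval k x).symm ▸
          (⟨a, rfl⟩ : MvPolynomial.aeval x a ∈ (MvPolynomial.aeval x).range)) : _ ∈ Algebra.adjoin k (Set.range x))
        rintro _ ⟨i, rfl⟩
        exact ⟨Fin.castAdd _ i, Fin.append_left _ _ i⟩
      have hz : ∀ i, z i ∈ A := fun i => Algebra.subset_adjoin ⟨Fin.natAdd n i, Fin.append_right _ _ i⟩
      have hy : ∀ y ∈ (s : Set C), IsIntegral A y := fun y hy => by
        let i := s.equivFin ⟨y, hy⟩
        let g : P →+* A := (algebraMap P C).codRestrict A.toSubsemiring hP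
        refine ⟨(q y).map g - Polynomial.C ⟨z i, hz i⟩, ?_, ?_⟩
        · rcases subsingleton_or_nontrivial A with hA | hA
          · exact Subsingleton.elim _ _
          refine Polynomial.Monic.sub_of_left ((hqm y).map g) (lt_of_le_of_lt Polynomial.degree_C_le ?_)
          rw [(hqm y).degree_map]
          exact hqd y
        · rw [Polynomial.eval₂_sub, Polynomial.eval₂_C, Polynomial.eval₂_map]
          show Polynomial.eval₂ (algebraMap P C) y (q y) - z i = 0
          simp [z, i, ← Polynomial.aeval_def]
      have hle : Algebra.adjoin k (s : Set C) ≤ (integralClosure A C).restrictScalars k :=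
        Algebra.adjoin_le hy
      exact hle (hs ▸ Algebra.mem_top))
  obtain ⟨hfin, het⟩ := Groth.Achinger.finite_etale_of_perturbation x' hD hint
  let φ : P →ₐ[k] C := MvPolynomial.aeval x'
  refine ⟨C, inferInstance, φ.toRingHom.toAlgebra, hfin, het, ?_⟩
  have hcomp : (π.toRingHom.comp φ.toRingHom) = algebraMap P B := by
    refine MvPolynomial.ringHom_ext (fun a => ?_) fun i => ?_
    · show π (φ (algebraMap k P a)) = _
      rw [φ.commutes, IsScalarTower.algebraMap_apply k P C, π.commutes]
      rfl
    · have : π (x' i - x i) = 0 := hxJ i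
      rw [map_sub, sub_eq_zero] at this
      show π (φ (MvPolynomial.X i)) = _
      rw [MvPolynomial.aeval_X, this]
      exact π.commutes _
  let π' : @AlgHom P C B _ _ _ φ.toRingHom.toAlgebra _ :=
    @AlgHom.mk P C B _ _ _ φ.toRingHom.toAlgebra _ π.toRingHom fun a => RingHom.congr_fun hcomp a
  letI := φ.toRingHom.toAlgebra
  exact ⟨Algebra.TensorProduct.lift (Algebra.ofId (P ⧸ I) B) π' fun _ _ => Commute.all _ _,
    fun b => (hπ b).elim fun c hc => ⟨1 ⊗ₜ c, by
      rw [Algebra.TensorProduct.lift_tmul, map_one, one_mul]; exact hc⟩⟩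

end Groth.Agent.S0281
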