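import Groth.Statements.S0282
import Groth.Agent.S0281
-- import your own Groth.Agent.* helpers here

set_option autoImplicit false
universe u
open scoped TensorProduct
open Pi1

namespace Groth.Agent.S0282

/-- Let R be a ring of prime characteristic p, A a quotient ring of R and B a finite étale A-algebra.
Then there are a finite étale R-algebra C and a surjective A-algebra homomorphism from A ⊗_R C onto
B. (This covering-level statement yields the injectivity of π₁(Spec A) → π₁(Spec R).) -/
theorem result (p : ℕ) [Fact p.Prime] (R A B : Type u)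
    [CommRing R] [CommRing A] [CommRing B] [CharP R p] [Algebra R A]
    (hRA : Function.Surjective (algebraMap R A)) [Algebra A B] [Module.Finite A B]
    [Algebra.Etale A B] :
    ∃ (C : Type u) (_ : CommRing C) (_ : Algebra R C), Module.Finite R C ∧ Algebra.Etale R C ∧
      ∃ ψ : A ⊗[R] C →ₐ[A] B, Function.Surjective ψ := by
  classical
  obtain ⟨ι, σ, _, _, S, hS⟩ := (Algebra.Etale.iff_isStandardSmoothOfRelativeDimension_zero.1
    (inferInstance : Algebra.Etale A B)).out
  have : Fintype σ := Fintype.ofFinite σ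
  -- monic equations of the generators, as combinations of the relations
  have hext : ∀ j : ι, ∃ (q : Polynomial A) (w : σ → MvPolynomial ι A), q.Monic ∧
      Polynomial.aeval (MvPolynomial.X j : MvPolynomial ι A) q = ∑ i, w i * S.relation i := by
    intro j
    obtain ⟨q, hq, hq0⟩ := Algebra.IsIntegral.isIntegral (R := A) (S.val j)
    have hker : Polynomial.aeval (MvPolynomial.X j : MvPolynomial ι A) q ∈
        Ideal.span (Set.range S.relation) := by
      rw [S.span_range_relation_eq_ker, S.toGenerators.ker_eq_ker_aeval_val, RingHom.mem_ker,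
        ← Polynomial.aeval_algHom_apply, MvPolynomial.aeval_X]
      exact hq0
    obtain ⟨w, hw⟩ := (Ideal.mem_span_range_iff_exists_fun).1 hker
    exact ⟨q, w, hq, hw.symm⟩
  have : Fintype ι := Fintype.ofFinite ι
  choose q w hq hqw using hext
  let s : Set A := S.coeffs ∪ ⋃ j, ((q j).coeffs : Set A) ∪ ⋃ i, ((w j i).coeffs : Set A)
  have hs : s.Finite := S.finite_coeffs.union (Set.finite_iUnion fun j =>
    (Finset.finite_toSet _).union (Set.finite_iUnion fun i => Finset.finite_toSet _))
  choose l hl using fun a : hs.toFinset => hRA a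
  let a : Fin hs.toFinset.card → R := fun i => l (hs.toFinset.equivFin.symm i)
  let : Algebra (ZMod p) R := ZMod.algebra R p
  let P := MvPolynomial (Fin hs.toFinset.card) (ZMod p)
  let g : P →+* R := (MvPolynomial.aeval a).toRingHom
  let I : Ideal P := RingHom.ker ((algebraMap R A).comp g)
  let : Algebra (P ⧸ I) A := (RingHom.kerLift ((algebraMap R A).comp g)).toAlgebra
  let : Algebra (P ⧸ I) B := ((algebraMap A B).comp (algebraMap (P ⧸ I) A)).toAlgebra
  have : IsScalarTower (P ⧸ I) A B := IsScalarTower.of_algebraMap_eq fun _ => rfl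
  have hinj : Function.Injective (algebraMap (P ⧸ I) A) := RingHom.kerLift_injective _
  have : FaithfulSMul (P ⧸ I) A := (faithfulSMul_iff_algebraMap_injective _ _).2 hinj
  have hrange : s ⊆ Set.range (algebraMap (P ⧸ I) A) := by
    intro x hx
    refine ⟨Ideal.Quotient.mk I (MvPolynomial.X (hs.toFinset.equivFin ⟨x, hs.mem_toFinset.2 hx⟩)), ?_⟩
    show algebraMap R A (MvPolynomial.aeval a (MvPolynomial.X _)) = x
    rw [MvPolynomial.aeval_X]
    show algebraMap R A (l (hs.toFinset.equivFin.symm _)) = x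
    rw [Equiv.symm_apply_apply, hl]
  have : S.HasCoeffs (P ⧸ I) := ⟨Set.subset_union_left.trans hrange⟩
  let B₀ := S.ModelOfHasCoeffs (P ⧸ I)
  have : Algebra.Etale (P ⧸ I) B₀ := by
    refine Algebra.Etale.iff_isStandardSmoothOfRelativeDimension_zero.2 ?_
    exact (S.ofHasCoeffs (P ⧸ I)).isStandardSmoothOfRelativeDimension (by
      simpa [Algebra.Presentation.dimension] using hS)
  let mk : MvPolynomial ι (P ⧸ I) →ₐ[P ⧸ I] B₀ := Ideal.Quotient.mkₐ _ _
  have hgen : ∀ j, IsIntegral (P ⧸ I) (mk (MvPolynomial.X j)) := fun j => by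
    have hl : q j ∈ Polynomial.lifts (algebraMap (P ⧸ I) A) := by
      rw [Polynomial.lifts_iff_coeff_lifts]
      intro n
      by_cases h0 : (q j).coeff n = 0
      · exact ⟨0, by rw [h0, map_zero]⟩
      · exact hrange (Or.inr (Set.mem_iUnion.2 ⟨j, Or.inl
          (Finset.mem_coe.2 (Polynomial.coeff_mem_coeffs h0))⟩))
    obtain ⟨q', hq', -, hq'm⟩ := Polynomial.lifts_and_natDegree_eq_and_monic hl (hq j)
    choose w' hw' using fun i => (MvPolynomial.mem_range_map_iff_coeffs_subset
      (f := algebraMap (P ⧸ I) A) (x := w j i)).2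
        ((Set.subset_iUnion (fun i => ((w j i).coeffs : Set A)) i).trans
          (Set.subset_union_right.trans ((Set.subset_iUnion
            (fun j => ((q j).coeffs : Set A) ∪ ⋃ i, ((w j i).coeffs : Set A)) j).trans
            (Set.subset_union_right.trans hrange))))
    have key : Polynomial.aeval (MvPolynomial.X j : MvPolynomial ι (P ⧸ I)) q' =
        ∑ i, w' i * S.relationOfHasCoeffs (P ⧸ I) i := by
      apply MvPolynomial.map_injective _ hinj
      rw [Polynomial.aeval_def, Polynomial.hom_eval₂, map_sum]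
      simp only [map_mul, hw', S.map_relationOfHasCoeffs, MvPolynomial.map_X]
      rw [← hqw j, ← hq', Polynomial.aeval_def, Polynomial.eval₂_map]
      congr 1
      ext x <;> simp
    refine ⟨q', hq'm, ?_⟩
    rw [← Polynomial.aeval_def, Polynomial.aeval_algHom_apply, key, map_sum]
    refine Finset.sum_eq_zero fun i _ => ?_
    rw [map_mul, show mk (S.relationOfHasCoeffs (P ⧸ I) i) = 0 from
      Ideal.Quotient.eq_zero_iff_mem.2 (Ideal.subset_span ⟨i, rfl⟩), mul_zero]
  have : Algebra.IsIntegral (P ⧸ I) B₀ := ⟨fun x => by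
    obtain ⟨f, rfl⟩ := Ideal.Quotient.mk_surjective x
    have hle : Algebra.adjoin (P ⧸ I) (Set.range fun j => mk (MvPolynomial.X j)) ≤
        integralClosure (P ⧸ I) B₀ := Algebra.adjoin_le (by rintro _ ⟨j, rfl⟩; exact hgen j)
    refine hle ?_
    rw [Algebra.adjoin_range_eq_range_aeval]
    exact ⟨f, DFunLike.congr_fun (MvPolynomial.algHom_ext (f := MvPolynomial.aeval fun j => mk (MvPolynomial.X j))
      (g := mk) fun j => MvPolynomial.aeval_X _ _) f⟩⟩
  have : Module.Finite (P ⧸ I) B₀ := Algebra.IsIntegral.finite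
  obtain ⟨C, _, _, hCf, hCe, ψ, hψ⟩ := Groth.Agent.S0281.result (ZMod p) p _ I B₀
  let : Algebra P R := g.toAlgebra
  refine ⟨R ⊗[P] C, inferInstance, inferInstance, inferInstance, inferInstance, ?_⟩
  let : Algebra R B := ((algebraMap A B).comp (algebraMap R A)).toAlgebra
  have : IsScalarTower R A B := IsScalarTower.of_algebraMap_eq fun _ => rfl
  let e := S.tensorModelOfHasCoeffsEquiv (P ⧸ I)
  let π : C →+* B := (e.toAlgHom.toRingHom.comp
    ((Algebra.TensorProduct.includeRight : B₀ →ₐ[P ⧸ I] A ⊗[P ⧸ I] B₀).toRingHom)).comp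
    (ψ.toRingHom.comp (Algebra.TensorProduct.includeRight : C →ₐ[P] (P ⧸ I) ⊗[P] C).toRingHom)
  let : Algebra P B := ((algebraMap R B).comp g).toAlgebra
  have : IsScalarTower P R B := IsScalarTower.of_algebraMap_eq fun _ => rfl
  have hπ : ∀ x : P, π (algebraMap P C x) = algebraMap P B x := fun x => by
    show e (1 ⊗ₜ[P ⧸ I] ψ (1 ⊗ₜ[P] algebraMap P C x)) = _
    rw [Algebra.algebraMap_eq_smul_one, ← TensorProduct.smul_tmul, Algebra.smul_def, mul_one,
      show ((algebraMap P (P ⧸ I) x) ⊗ₜ[P] (1 : C)) = algebraMap (P ⧸ I) _ (Ideal.Quotient.mk I x) from rfl,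
      ψ.commutes, Algebra.algebraMap_eq_smul_one (Ideal.Quotient.mk I x), ← TensorProduct.smul_tmul,
      Algebra.smul_def, mul_one]
    exact (e.commutes (algebraMap (P ⧸ I) A (Ideal.Quotient.mk I x))).trans rfl
  let πA : C →ₐ[P] B := { π with commutes' := hπ }
  let φ : R ⊗[P] C →ₐ[R] B := Algebra.TensorProduct.lift (Algebra.ofId R B) πA fun _ _ => Commute.all _ _
  refine ⟨Algebra.TensorProduct.lift (Algebra.ofId A B) φ fun _ _ => Commute.all _ _, fun b => ?_⟩
  obtain ⟨t, rfl⟩ := e.surjective b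
  induction t using TensorProduct.induction_on with
  | zero => exact ⟨0, by simp⟩
  | tmul x y =>
    obtain ⟨z, rfl⟩ := hψ y
    obtain ⟨c, rfl⟩ := Algebra.TensorProduct.includeRight_surjective C (R := P) (S := P ⧸ I)
      Ideal.Quotient.mk_surjective z
    refine ⟨x ⊗ₜ (1 ⊗ₜ c), ?_⟩
    rw [Algebra.TensorProduct.lift_tmul,
      show φ ((1 : R) ⊗ₜ[P] c) = e (1 ⊗ₜ[P ⧸ I] ψ (1 ⊗ₜ[P] c)) by
        show algebraMap R B 1 * _ = _
        rw [map_one, one_mul]; rfl,
      show (Algebra.ofId A B) x = e (x ⊗ₜ[P ⧸ I] 1) from (e.commutes x).symm,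
      ← map_mul, Algebra.TensorProduct.tmul_mul_tmul, mul_one, one_mul]
    rfl
  | add u v hu hv =>
    obtain ⟨u', hu'⟩ := hu
    obtain ⟨v', hv'⟩ := hv
    exact ⟨u' + v', by rw [map_add, map_add, hu', hv']⟩

end Groth.Agent.S0282
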