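import Groth.Statements.S0286
import Groth.Agent.Pi1Inv.Universal
import Mathlib.FieldTheory.IsPerfectClosure

set_option autoImplicit false
universe u
open Pi1

namespace Groth.Agent.S0286

open AlgebraicGeometry CategoryTheory CategoryTheory.Limits in
/-- For a scheme X over a field k of characteristic p (p a prime), pulling back finite étale covers
along the projection X ×_{Spec k} Spec(k^perf) → X, where k^perf is the perfect closure of k, is an
equivalence of categories. -/
theorem result (k : Type u) [Field k] (p : ℕ) [Fact p.Prime] [CharP k p] {X : Scheme.{u}}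
    (f : X ⟶ Spec (CommRingCat.of k)) :
    (FEt.restrict (pullback.fst f
      (Spec.map (CommRingCat.ofHom (PerfectClosure.of k p))))).IsEquivalence := by
  have hp : p.Prime := Fact.out
  let i := PerfectClosure.of k p
  have hpow : ∀ x, ∃ (n : ℕ) (y : k), i y = x ^ p ^ n := IsPRadical.pow_mem i p
  have hint : i.IsIntegral := fun x => by
    obtain ⟨n, y, hy⟩ := hpow x
    refine ⟨Polynomial.X ^ p ^ n - Polynomial.C y,
      Polynomial.monic_X_pow_sub_C _ (pow_ne_zero _ hp.ne_zero), ?_⟩
    rw [Polynomial.eval₂_sub, Polynomial.eval₂_X_pow, Polynomial.eval₂_C, hy, sub_self]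
  have hui : Groth.PropsBasic.UH.UI i := fun K _ g₁ g₂ e => RingHom.ext fun x => by
    obtain ⟨n, y, hy⟩ := hpow x
    have h := RingHom.congr_fun e y
    simp only [RingHom.comp_apply, hy, map_pow] at h
    have : CharP K p := charP_of_injective_ringHom (g₁.comp i).injective p
    have : ExpChar K p := ExpChar.prime hp
    exact iterateFrobenius_inj K p n (by simpa [iterateFrobenius_def] using h)
  let g := Spec.map (CommRingCat.ofHom i)
  have h1 : IsIntegralHom g := IsIntegralHom.SpecMap_iff.2 hint
  have h2 : UniversallyInjective g := (Groth.PropsBasic.UH.UI.spec_iff i).2 hui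
  have h3 : Surjective g := ⟨hint.comap_surjective i.injective⟩
  have : IsIntegralHom (pullback.fst f g) := MorphismProperty.pullback_fst _ _ h1
  have : UniversallyInjective (pullback.fst f g) := MorphismProperty.pullback_fst _ _ h2
  have : Surjective (pullback.fst f g) := MorphismProperty.pullback_fst _ _ h3
  exact Groth.Pi1Inv.isEquivalence_of_isIntegralHom (pullback.fst f g)

end Groth.Agent.S0286
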