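import Groth.Statements.S0287
import Groth.Agent.Purity.CodimOneExtend
-- import your own Groth.Agent.* helpers here

set_option autoImplicit false
set_option backward.isDefEq.respectTransparency.types false
set_option linter.style.haveILetI false
universe u
open Pi1

namespace Groth.Agent.S0287

open AlgebraicGeometry CategoryTheory CategoryTheory.Limits in
/-- Let X be locally Noetherian, U a dense open, Y a finite etale cover of U such that the local rings
of X at points outside U are regular and, at each such point of dimension one, the restriction of Y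
to the punctured local scheme extends over the local scheme (Y is unramified over X in codimension
1). Then Y extends to a finite etale cover of X. -/
theorem result {X : Scheme.{u}} [IsLocallyNoetherian X] (U : X.Opens) (hU : Dense (U : Set X))
    (Y : FEt.Cat (U : Scheme.{u}))
    (hreg : ∀ x : X, x ∉ U → IsRegularLocalRing (X.presheaf.stalk x))
    (hunr : ∀ ξ : X, ξ ∉ U → ringKrullDim (X.presheaf.stalk ξ) = 1 →
      ∃ Yξ : FEt.Cat (Spec (X.presheaf.stalk ξ)),
        Nonempty ((FEt.restrict (pullback.snd U.ι (X.fromSpecStalk ξ))).obj Yξ ≅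
          (FEt.restrict (pullback.fst U.ι (X.fromSpecStalk ξ))).obj Y)) :
    ∃ Y' : FEt.Cat X, Nonempty ((FEt.restrict U.ι).obj Y' ≅ Y) := by
  haveI : IsFinite Y.hom := Y.prop.1
  haveI : Etale Y.hom := Y.prop.2
  haveI : QuasiCompact U.ι := inferInstance
  let g := Y.hom ≫ U.ι
  have key : ∀ (W : X.Opens) (hUW : U ≤ W) (T : Scheme.{u}) (t : T ⟶ (W : Scheme.{u})) (_ : FEt.prop t)
      (γ : Y.left ⟶ T), IsPullback γ Y.hom t (X.homOfLE hUW) →
      ∃ σ : T ≅ pullback g.fromNormalization W.ι, σ.hom ≫ pullback.snd g.fromNormalization W.ι = t := by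
    intro W hUW T t ht γ hγ
    haveI : IsFinite t := ht.1
    haveI : Etale t := ht.2
    haveI : IsOpenImmersion γ := MorphismProperty.of_isPullback (P := @IsOpenImmersion) hγ.flip inferInstance
    have hw : pullback.snd g W.ι = (pullback.fst g W.ι ≫ γ) ≫ t := by
      rw [← cancel_mono W.ι, ← pullback.condition, Category.assoc, Category.assoc, reassoc_of% hγ.w, Scheme.homOfLE_ι]
    haveI : IsIso (pullback.fst g W.ι) := ⟨pullback.lift (𝟙 _) (Y.hom ≫ X.homOfLE hUW)
      (by simp [g, Scheme.homOfLE_ι]), pullback.hom_ext (by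
        rw [Category.assoc, pullback.lift_fst, Category.comp_id, Category.id_comp]) (by
        rw [← cancel_mono W.ι]
        simp only [Category.assoc, pullback.lift_snd_assoc, Scheme.homOfLE_ι, Category.id_comp]
        exact pullback.condition), pullback.lift_fst _ _ _⟩
    let O : (W : Scheme.{u}).Opens := W.ι ⁻¹ᵁ U
    have hO : Dense (O : Set (W : Scheme.{u})) := hU.preimage W.ι.isOpenEmbedding.isOpenMap
    have hj : Set.range (pullback.fst g W.ι ≫ γ) = t ⁻¹' (O : Set (W : Scheme.{u})) := by
      have hr : Set.range (X.homOfLE hUW) = (O : Set (W : Scheme.{u})) := by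
        ext w
        constructor
        · rintro ⟨v, rfl⟩
          show W.ι (X.homOfLE hUW v) ∈ U
          rw [← Scheme.Hom.comp_apply, Scheme.homOfLE_ι]
          exact v.2
        · intro hw'
          refine ⟨⟨W.ι w, hw'⟩, W.ι.isOpenEmbedding.injective ?_⟩
          show (X.homOfLE hUW ≫ W.ι) _ = _
          rw [Scheme.homOfLE_ι]
          rfl
      rw [Scheme.Hom.comp_base, TopCat.coe_comp, Set.range_comp,
        Set.range_eq_univ.mpr (Scheme.Hom.surjective (pullback.fst g W.ι)), Set.image_univ, ← hr]
      exact Groth.Purity.range_fst_of_isPullback hγ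
    haveI := Groth.Purity.isIso_normalizationDesc_of_cover O hO (fun w hw' => by
      haveI : IsRegularLocalRing (X.presheaf.stalk w.1) := hreg (W.ι w) hw'
      exact IsRegularLocalRing.of_ringEquiv (W.stalkIso w).commRingCatIsoToRingEquiv.symm) t
      (pullback.fst g W.ι ≫ γ) hj (pullback.snd g W.ι) hw
    refine ⟨(asIso ((pullback.snd g W.ι).normalizationDesc _ t hw)).symm ≪≫ asIso (g.normalizationPullback W.ι), ?_⟩
    rw [Iso.trans_hom, Category.assoc, asIso_hom, Scheme.Hom.normalizationPullback_snd, Iso.symm_hom, Iso.inv_comp_eq,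
      asIso_hom, Scheme.Hom.normalizationDesc_comp]
  have hfet : FEt.prop g.fromNormalization := by
    have hloc : ∀ x : X, ∃ W : X.Opens, x ∈ W ∧ FEt.prop (g.fromNormalization ∣_ W) := fun x => by
      obtain ⟨_, ⟨W₀, hW₀, rfl⟩, hxW₀, -⟩ :=
        X.isBasis_affineOpens.exists_subset_of_mem_open (Set.mem_univ x) isOpen_univ
      obtain ⟨W, hUW, hle, T, t, ht, γ, hγ⟩ := Groth.Purity.exists_extend_affine U hU Y hreg hunr hW₀
      obtain ⟨σ, hσ⟩ := key W hUW T t ht γ hγ
      refine ⟨W, hle hxW₀, ?_⟩
      haveI : IsFinite t := ht.1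
      haveI : Etale t := ht.2
      have h : g.fromNormalization ∣_ W = (pullbackRestrictIsoRestrict g.fromNormalization W).inv ≫ σ.inv ≫ t := by
        rw [← hσ, Iso.inv_hom_id_assoc, Iso.eq_inv_comp]
        exact pullbackRestrictIsoRestrict_hom_morphismRestrict g.fromNormalization W
      exact ⟨by rw [h]; infer_instance, by rw [h]; infer_instance⟩
    choose W hxW hW using hloc
    have hcov : ⨆ x, W x = ⊤ := TopologicalSpace.Opens.ext (Set.eq_univ_of_forall fun x => by
      simp only [TopologicalSpace.Opens.coe_iSup, Set.mem_iUnion]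
      exact ⟨x, hxW x⟩)
    exact ⟨(IsZariskiLocalAtTarget.iff_of_iSup_eq_top (P := (@IsFinite : MorphismProperty Scheme.{u})) W hcov).mpr fun x => (hW x).1,
      (IsZariskiLocalAtTarget.iff_of_iSup_eq_top (P := (@Etale : MorphismProperty Scheme.{u})) W hcov).mpr fun x => (hW x).2⟩
  haveI : IsIso (𝟙 Y.left) := IsIso.id _
  haveI : IsIso (𝟙 (U : Scheme.{u})) := IsIso.id _
  haveI : IsIso (X.homOfLE (le_refl U)) := by rw [Scheme.homOfLE_rfl]; infer_instance
  obtain ⟨σ, hσ⟩ := key U le_rfl Y.left Y.hom Y.prop (𝟙 _) (by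
    rw [Scheme.homOfLE_rfl]
    exact IsPullback.of_horiz_isIso ⟨(Category.id_comp _).trans (Category.comp_id _).symm⟩)
  exact ⟨MorphismProperty.Over.mk ⊤ g.fromNormalization hfet, ⟨(MorphismProperty.Over.isoMk σ hσ).symm⟩⟩

end Groth.Agent.S0287
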