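import Groth.Statements.S0288
import Groth.Agent.EtaleBaseTwo.UnramifiedGeomUnibranch
import Groth.Agent.S9812
-- import your own Groth.Agent.* helpers here

set_option autoImplicit false
universe u
open Pi1

namespace Groth.Agent.S0288

open AlgebraicGeometry CategoryTheory CategoryTheory.Limits in
/-- Let X be a normal integral scheme with function field K, L a finite field extension of K and Y -> X
the normalization of X in Spec L. If Y -> X is unramified (formally unramified and locally of finite
type), then it is etale, and finite. -/
theorem result {X : Scheme.{u}} [IsIntegral X] (hX : Pi1.IsNormalScheme X) (L : Type u) [Field L]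
    [Algebra X.functionField L] [FiniteDimensional X.functionField L]
    [QuasiCompact (Spec.map (CommRingCat.ofHom (algebraMap X.functionField L)) ≫ X.fromSpecStalk (genericPoint X))]
    [QuasiSeparated (Spec.map (CommRingCat.ofHom (algebraMap X.functionField L)) ≫ X.fromSpecStalk (genericPoint X))]
    [FormallyUnramified (Spec.map (CommRingCat.ofHom (algebraMap X.functionField L)) ≫ X.fromSpecStalk (genericPoint X)).fromNormalization]
    [LocallyOfFiniteType (Spec.map (CommRingCat.ofHom (algebraMap X.functionField L)) ≫ X.fromSpecStalk (genericPoint X)).fromNormalization] :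
    Etale (Spec.map (CommRingCat.ofHom (algebraMap X.functionField L)) ≫ X.fromSpecStalk (genericPoint X)).fromNormalization ∧
    IsFinite (Spec.map (CommRingCat.ofHom (algebraMap X.functionField L)) ≫ X.fromSpecStalk (genericPoint X)).fromNormalization := by
  set g := Spec.map (CommRingCat.ofHom (algebraMap X.functionField L)) ≫ X.fromSpecStalk (genericPoint X) with hg
  let pt : Spec (CommRingCat.of L) := (default : PrimeSpectrum L)
  have hpt : g pt = genericPoint X := by
    rw [hg, Scheme.Hom.comp_apply]
    have : (Spec.map (CommRingCat.ofHom (algebraMap X.functionField L))) pt = IsLocalRing.closedPoint X.functionField :=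
      @Subsingleton.elim (PrimeSpectrum X.functionField) _ _ _
    rw [this]
    exact Scheme.fromSpecStalk_closedPoint
  let η := g.toNormalization pt
  have hη : ∀ z : g.normalization, η ⤳ z := fun z => by
    rw [specializes_iff_mem_closure]
    have hd : DenseRange g.toNormalization := g.toNormalization.denseRange
    have hr : Set.range g.toNormalization = {η} := by
      haveI : Subsingleton (Spec (CommRingCat.of L)) := inferInstanceAs (Subsingleton (PrimeSpectrum L))
      exact Set.eq_singleton_iff_unique_mem.mpr ⟨⟨pt, rfl⟩, by rintro _ ⟨w, rfl⟩; rw [Subsingleton.elim w pt]⟩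
    rw [← hr]
    exact hd.closure_range ▸ Set.mem_univ z
  have hfη : g.fromNormalization η = genericPoint X := by
    rw [← Scheme.Hom.comp_apply, Scheme.Hom.toNormalization_fromNormalization, hpt]
  have hloc : ∀ z : g.normalization, ∃ U : g.normalization.Opens, z ∈ U ∧ Etale (U.ι ≫ g.fromNormalization) := fun z => by
    obtain ⟨hd, hn⟩ := hX (g.fromNormalization z)
    exact Groth.EtaleBaseTwo.etaleAt_of_unramifiedAt g.fromNormalization z
      (Groth.Agent.S9812.result _) ⟨η, hη z, hfη⟩
      ⟨⊤, Set.mem_univ z, MorphismProperty.comp_mem _ _ _ (inferInstance : FormallyUnramified (⊤ : g.normalization.Opens).ι) inferInstance⟩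
  choose U hzU hU using hloc
  refine ⟨?_, IsFinite.iff_isIntegralHom_and_locallyOfFiniteType _ |>.mpr ⟨inferInstance, inferInstance⟩⟩
  exact (IsZariskiLocalAtSource.iff_of_iSup_eq_top (P := @Etale) U
    (TopologicalSpace.Opens.ext (Set.eq_univ_of_forall fun z => by
      simp only [TopologicalSpace.Opens.coe_iSup, Set.mem_iUnion]
      exact ⟨z, hzU z⟩))).mpr hU

end Groth.Agent.S0288
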