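import Groth.Statements.S0291
import Groth.Agent.Pi1Depth.Basic
import Mathlib.RingTheory.Ideal.GoingUp

set_option autoImplicit false
universe u
open Pi1

namespace Groth.Agent.S0291

open AlgebraicGeometry CategoryTheory CategoryTheory.Limits in
/-- Let A be a Noetherian local ring and B a finite A-algebra such that the local rings of Spec B at all
closed points have depth at least 2. Then restriction from global sections of Spec B to sections
over the preimage of the punctured spectrum of A is an isomorphism. -/
theorem result (A B : Type u) [CommRing A] [IsNoetherianRing A] [IsLocalRing A] [CommRing B] [Algebra A B]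
    [Module.Finite A B]
    (h : ∀ (m : Ideal B) (_ : m.IsMaximal), (2 : ℕ∞) ≤ LocCoh.depth (Localization.AtPrime m) (Localization.AtPrime m)) :
    IsIso ((Spec (CommRingCat.of B)).presheaf.map (homOfLE (le_top :
      Spec.map (CommRingCat.ofHom (algebraMap A B)) ⁻¹ᵁ FEt.puncturedSpec A ≤ ⊤)).op) := by
  haveI : IsNoetherianRing B := IsNoetherianRing.of_finite A B
  let U := Spec.map (CommRingCat.ofHom (algebraMap A B)) ⁻¹ᵁ FEt.puncturedSpec A
  have hb := Groth.Pi1Depth.bijective_app_spec U fun p _ x hx hxU => h p (by
    subst hx
    have h1 : PrimeSpectrum.comap (algebraMap A B) x = IsLocalRing.closedPoint A := not_not.1 hxU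
    have h2 : (x.asIdeal.comap (algebraMap A B)).IsMaximal := by
      rw [← PrimeSpectrum.comap_asIdeal, h1]
      exact IsLocalRing.maximalIdeal.isMaximal A
    exact Ideal.isMaximal_of_isIntegral_of_isMaximal_comap x.asIdeal h2) 
  rw [ConcreteCategory.isIso_iff_bijective]
  have h3 := hb ⊤
  rw [Scheme.Opens.ι_app] at h3
  have h4 : Function.Bijective ((Spec (CommRingCat.of B)).presheaf.map
      (eqToHom (Scheme.Opens.ι_image_top U).symm).op) := ConcreteCategory.bijective_of_isIso _
  convert h4.comp h3 using 1
  funext x
  exact congrArg (fun φ => φ.hom x) ((Spec (CommRingCat.of B)).presheaf.map_comp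
    (homOfLE (U.ι.image_preimage_le ⊤)).op (eqToHom (Scheme.Opens.ι_image_top U).symm).op)

end Groth.Agent.S0291
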