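import Groth.Statements.S0293
import Groth.Agent.Pi1Depth.FlatEtale
import Mathlib.AlgebraicGeometry.Noetherian

set_option autoImplicit false
universe u
open Pi1

namespace Groth.Agent.S0293

open AlgebraicGeometry CategoryTheory CategoryTheory.Limits in
/-- Let X be a locally Noetherian scheme, U ⊆ X an open subset such that the local rings of X at points
outside U have depth at least 2, and π : Y → X a finite morphism which is étale over U and such that
the local rings of Y at points outside the preimage of U have depth at least 2. Then π is étale if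
and only if it is flat. -/
theorem result {X : Scheme.{u}} [IsLocallyNoetherian X] (U : X.Opens)
    (hU : ∀ x : X, x ∉ U → (2 : ℕ∞) ≤ LocCoh.depth (X.presheaf.stalk x) (X.presheaf.stalk x)) {Y : Scheme.{u}} (π : Y ⟶ X)
    [IsFinite π] [Etale (pullback.snd π U.ι)]
    (hY : ∀ y : Y, π.base y ∉ U → (2 : ℕ∞) ≤ LocCoh.depth (Y.presheaf.stalk y) (Y.presheaf.stalk y)) :
    Etale π ↔ Flat π := by
  refine ⟨fun _ => inferInstance, fun _ => ?_⟩
  have : LocallyOfFinitePresentation π := LocallyOfFinitePresentation.iff_locallyOfFiniteType.2 inferInstance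
  have : Etale (π ∣_ U) := by
    unfold morphismRestrict
    infer_instance
  rw [IsZariskiLocalAtTarget.iff_of_iSup_eq_top (P := @Etale) (fun V : X.affineOpens => V.1)
    (iSup_affineOpens_eq_top X)]
  intro V
  have hb : ∀ W : (V.1 : Scheme.{u}).Opens, Function.Bijective ((V.1.ι ⁻¹ᵁ U).ι.app W) := by
    refine Groth.Pi1Depth.bijective_app_of_affine _ fun W hW => Groth.Misc7.DepthTwo.bijective_app (fun z hz => ?_) hW
    exact Groth.Pi1Depth.exists_pair_of_ringEquiv (V.1.stalkIso z).symm.commRingCatIsoToRingEquiv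
      (Groth.PicAux.exists_regular_pair (hU z.1 hz))
  have : IsAffine (V.1 : Scheme.{u}) := V.2
  let Y₁ := (π ∣_ V.1) ⁻¹ᵁ (V.1.ι ⁻¹ᵁ U)
  have hle : Set.range (Y₁.ι ≫ (π ⁻¹ᵁ V.1).ι).base ⊆ Set.range (π ⁻¹ᵁ U).ι.base := by
    rintro _ ⟨y, rfl⟩
    rw [Scheme.Opens.range_ι]
    have hy : (π ∣_ V.1 ≫ V.1.ι) (Y₁.ι y) ∈ U := y.2
    rw [morphismRestrict_ι] at hy
    exact hy
  have : Etale (Y₁.ι ≫ π ∣_ V.1) := by
    have : Etale ((π ⁻¹ᵁ U).ι ≫ π) := by rw [← morphismRestrict_ι]; infer_instance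
    have : IsOpenImmersion (IsOpenImmersion.lift (π ⁻¹ᵁ U).ι (Y₁.ι ≫ (π ⁻¹ᵁ V.1).ι) hle) :=
      have : IsOpenImmersion (IsOpenImmersion.lift (π ⁻¹ᵁ U).ι (Y₁.ι ≫ (π ⁻¹ᵁ V.1).ι) hle ≫ (π ⁻¹ᵁ U).ι) := by
        rw [IsOpenImmersion.lift_fac]; infer_instance
      IsOpenImmersion.of_comp _ (π ⁻¹ᵁ U).ι
    have : Etale ((Y₁.ι ≫ π ∣_ V.1) ≫ V.1.ι) := by
      rw [Category.assoc, morphismRestrict_ι, ← Category.assoc,
        ← IsOpenImmersion.lift_fac (π ⁻¹ᵁ U).ι (Y₁.ι ≫ (π ⁻¹ᵁ V.1).ι) hle, Category.assoc]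
      infer_instance
    exact Etale.of_comp _ V.1.ι
  exact Groth.Pi1Depth.etale_of_restrict hb (π ∣_ V.1)

end Groth.Agent.S0293
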