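import Groth.Statements.S0294
import Mathlib.RingTheory.Artinian.Ring
import Mathlib.AlgebraicGeometry.Morphisms.Finite

set_option autoImplicit false
universe u
open Pi1

namespace Groth.Agent.S0294

open AlgebraicGeometry CategoryTheory CategoryTheory.Limits in
/-- For a finite étale cover Y of a scheme X and a point ξ : Spec Ω → X with values in a field Ω, the
fibre of Y over ξ (the set of Ω-valued points of Y lying over ξ) is finite. -/
theorem result {X : Scheme.{u}} {Ω : Type u} [Field Ω] (ξ : Spec (CommRingCat.of Ω) ⟶ X) (Y : FEt.Cat X) :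
    Finite (FEt.fiberObj ξ Y) := by
  have hY : IsFinite Y.hom := Y.prop.1
  let P := pullback Y.hom ξ
  let π : P ⟶ Spec (CommRingCat.of Ω) := pullback.snd Y.hom ξ
  have : IsAffine P := isAffine_of_isAffineHom π
  let ι : CommRingCat.of Ω ⟶ Γ(P, ⊤) := (Scheme.ΓSpecIso (CommRingCat.of Ω)).inv ≫ π.appTop
  have hι : ι.hom.Finite := by
    have h := π.finite_appTop
    exact h.comp (RingHom.Finite.of_surjective _
      (Scheme.ΓSpecIso (CommRingCat.of Ω)).symm.commRingCatIsoToRingEquiv.surjective)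
  algebraize [ι.hom]
  have : IsArtinianRing Γ(P, ⊤) := IsArtinianRing.of_finite Ω Γ(P, ⊤)
  let T := {φ : Γ(P, ⊤) →ₐ[Ω] Ω // True}
  have hT : Finite T := by
    refine Finite.of_injective
      (fun φ : T => (⟨RingHom.ker φ.1.toRingHom, RingHom.ker_isPrime _⟩ : PrimeSpectrum Γ(P, ⊤))) ?_
    rintro ⟨φ, _⟩ ⟨ψ, _⟩ h
    refine Subtype.ext (AlgHom.ext fun b => ?_)
    have hk : b - algebraMap Ω Γ(P, ⊤) (φ b) ∈ RingHom.ker φ.toRingHom := by simp [RingHom.mem_ker]
    rw [show RingHom.ker φ.toRingHom = RingHom.ker ψ.toRingHom from congrArg PrimeSpectrum.asIdeal h] at hk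
    exact (sub_eq_zero.mp (by simpa [RingHom.mem_ker] using hk : ψ b - φ b = 0)).symm
  let sec : FEt.fiberObj ξ Y → (Spec (CommRingCat.of Ω) ⟶ P) := fun s =>
    pullback.lift s.1 (𝟙 _) (by rw [s.2, Category.id_comp])
  have hsec : ∀ s, sec s ≫ π = 𝟙 _ := fun s => pullback.lift_snd _ _ _
  let toT : FEt.fiberObj ξ Y → T := fun s =>
    ⟨{ toRingHom := ((sec s).appTop ≫ (Scheme.ΓSpecIso (CommRingCat.of Ω)).hom).hom
       commutes' := fun r => by
        have e : ι ≫ ((sec s).appTop ≫ (Scheme.ΓSpecIso (CommRingCat.of Ω)).hom) = 𝟙 _ := by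
          simp only [ι, Category.assoc, ← Scheme.Hom.comp_appTop_assoc, hsec]
          simp
        exact congrArg (fun f => f.hom r) e }, trivial⟩
  refine Finite.of_injective toT fun s t h => ?_
  have h1 : (sec s).appTop ≫ (Scheme.ΓSpecIso (CommRingCat.of Ω)).hom =
      (sec t).appTop ≫ (Scheme.ΓSpecIso (CommRingCat.of Ω)).hom :=
    CommRingCat.hom_ext (congrArg (fun φ : T => φ.1.toRingHom) h)
  have h2 : sec s = sec t := ext_of_isAffine ((cancel_mono _).mp h1)
  have h3 := congrArg (· ≫ pullback.fst Y.hom ξ) h2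
  simp only [sec, pullback.lift_fst] at h3
  exact Subtype.ext h3

end Groth.Agent.S0294
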