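import Groth.Statements.S0328
import Groth.Agent.LocCohBase.Nonvanishing

set_option autoImplicit false
universe u v
open LocCoh

namespace Groth.Agent.S0328

/-- In a Noetherian local ring, if a prime p and a proper ideal I together have radical the maximal
ideal and dim R/p = d ≥ 1, then local cohomology with support in I does not vanish in all degrees ≥
d. -/
theorem result (R : Type u) [CommRing R] [IsLocalRing R] [IsNoetherianRing R] (I : Ideal R) (hI : I ≠ ⊤) (p : Ideal R) [p.IsPrime] (hpI : (p ⊔ I).radical = IsLocalRing.maximalIdeal R) (d : ℕ) (hd : ringKrullDim (R ⧸ p) = d) (hd1 : 1 ≤ d) : ¬ LocCoh.CdLE R I (d - 1) := by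
  intro hcd
  have : Nontrivial (R ⧸ p) := Ideal.Quotient.nontrivial_iff.2 (Ideal.IsPrime.ne_top inferInstance)
  have hn : Module.supportDim R (R ⧸ p) = d := (Module.supportDim_quotient_eq_ringKrullDim p).trans hd
  have hnt := Groth.LocCohBase.nontrivial_H_supportDim (R ⧸ p) d hn
  have htor : LocCoh.IsPowerTorsion p (R ⧸ p) := fun z => ⟨1, fun a ha => by
    rw [pow_one] at ha
    obtain ⟨z, rfl⟩ := Submodule.Quotient.mk_surjective _ z
    rw [← Submodule.Quotient.mk_smul, Submodule.Quotient.mk_eq_zero]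
    exact p.mul_mem_right z ha⟩
  have h1 := Groth.LocCohTransform.hmap_bijective (le_sup_left : I ≤ I ⊔ p) le_rfl d
    (ModuleCat.of R (R ⧸ p)) htor
  have hle : I ⊔ p ≤ IsLocalRing.maximalIdeal R :=
    sup_le (IsLocalRing.le_maximalIdeal hI) (IsLocalRing.le_maximalIdeal (Ideal.IsPrime.ne_top inferInstance))
  have h2 := Groth.LocCohBase.hmap_bijective_of_forall hle (fun q hq => by
    rw [← hpI]
    exact q.2.radical_le_iff.2 (sup_comm p I ▸ hq)) d (ModuleCat.of R (R ⧸ p))
  have hs : Subsingleton (Groth.LocCohBase.HH' I d (ModuleCat.of R (R ⧸ p))) :=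
    hcd (R ⧸ p) d (by omega)
  have hs2 : Subsingleton (Groth.LocCohBase.HH' (I ⊔ p) d (ModuleCat.of R (R ⧸ p))) := h1.1.subsingleton
  have hs3 : Subsingleton (LocCoh.H (IsLocalRing.maximalIdeal R) d (R ⧸ p)) := h2.1.subsingleton
  exact not_subsingleton _ hs3

end Groth.Agent.S0328
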