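import Groth.Statements.S0329
import Groth.Agent.LocFinite.Annihilated

set_option autoImplicit false
universe u v
open LocCoh

namespace Groth.Agent.S0329

/-- Part (1): ⇔(2) with T = V(I) (Faltings): for a finite module M over a Noetherian ring, the local
cohomology modules H^i_I(M) for i ≤ n are all finitely generated exactly when some ideal J with I
contained in the radical of J kills all of them. -/
theorem result (R : Type u) [CommRing R] [IsNoetherianRing R] (I : Ideal R) (M : Type u) [AddCommGroup M] [Module R M] [Module.Finite R M] (n : ℕ) : (∀ i : ℕ, i ≤ n → Module.Finite R (LocCoh.H I i M)) ↔ ∃ J : Ideal R, I ≤ J.radical ∧ ∀ i : ℕ, i ≤ n → ∀ a ∈ J, ∀ x : LocCoh.H I i M, a • x = 0 := by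
  constructor
  · intro h
    obtain ⟨k, hk⟩ := Groth.LocFinite.exists_pow_le_annihilator_H_le I n M h
    exact ⟨I ^ k, fun a ha => ⟨k, Ideal.pow_mem_pow ha k⟩, fun i hi a ha x =>
      Module.mem_annihilator.1 (hk i hi ha) x⟩
  · rintro ⟨J, hJ, h⟩
    obtain ⟨k, hk⟩ := Ideal.exists_pow_le_of_le_radical_of_fg hJ (IsNoetherian.noetherian I)
    exact Groth.LocFinite.finite_H_of_annihilated I n k M fun i hi a ha =>
      Module.mem_annihilator.2 fun x => h i hi a (hk ha) x

end Groth.Agent.S0329
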