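import Groth.Statements.S0331
import Groth.Agent.LocFinite.Annihilated

set_option autoImplicit false
universe u v
open LocCoh

namespace Groth.Agent.S0331

/-- Over a Noetherian ring, if H^i_I(R) is finitely generated for i ≤ n, then so is H^i_I(M) for i ≤ n
for every finite module M that becomes finite projective after inverting any single element of I. -/
theorem result (R : Type u) [CommRing R] [IsNoetherianRing R] (I : Ideal R) (n : ℕ) (hR : ∀ i : ℕ, i ≤ n → Module.Finite R (LocCoh.H I i R)) (M : Type u) [AddCommGroup M] [Module R M] [Module.Finite R M] (hM : ∀ f ∈ I, Module.Projective (Localization.Away f) (LocalizedModule (Submonoid.powers f) M)) (i : ℕ) (hi : i ≤ n) : Module.Finite R (LocCoh.H I i M) := by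
  obtain ⟨k, hk⟩ := Groth.LocFinite.exists_pow_le_annihilator_H_le I n R hR
  have hm : ∀ j, j ≤ n → ∃ m, I ^ m ≤ Module.annihilator R (LocCoh.H I j M) := fun j hj =>
    Groth.LocFinite.exists_pow_le_annihilator_H_of_projective I I le_rfl j k (hk j hj) M hM
  choose m hm using fun j => hm j
  classical
  let K := (Finset.range (n + 1)).sup fun j => if h : j ≤ n then m j h else 0
  refine Groth.LocFinite.finite_H_of_annihilated I n K M (fun j hj => ?_) i hi
  refine (Ideal.pow_le_pow_right ?_).trans (hm j hj)
  have := Finset.le_sup (f := fun j => if h : j ≤ n then m j h else 0)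
    (Finset.mem_range.2 (Nat.lt_succ_of_le hj))
  simpa only [dif_pos hj] using this

end Groth.Agent.S0331
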