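import Groth.Statements.S0333
import Groth.Agent.LocCohTransform.TopVanishGeneral

set_option autoImplicit false
universe u v
open LocCoh

namespace Groth.Agent.S0333

/-- Over a Noetherian ring of dimension d, if H^d_I(M) = 0 for one finite module M whose support
contains every minimal prime p with dim R/p = d, then H^i_I vanishes in degrees ≥ d on all modules. -/
theorem result (R : Type u) [CommRing R] [IsNoetherianRing R] (I : Ideal R) (d : ℕ) (hd : ringKrullDim R = d) (M : Type u) [AddCommGroup M] [Module R M] [Module.Finite R M] (hsupp : ∀ p ∈ minimalPrimes R, ringKrullDim (R ⧸ p) = d → ∀ hp : p.IsPrime, (⟨p, hp⟩ : PrimeSpectrum R) ∈ Module.support R M) (hvan : Subsingleton (LocCoh.H I d M)) (N : Type u) [AddCommGroup N] [Module R N] (i : ℕ) (hi : d ≤ i) : Subsingleton (LocCoh.H I i N) := by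
  open Groth.LocCohTransform Groth.LocCohBase in
  rcases lt_or_eq_of_le hi with hlt | rfl
  · exact Groth.LocCohBase.cdLE_of_dim_le I d hd.le N i hlt
  refine Groth.LocCohTransform.HLVT.subsingleton_H_of_ring (Groth.LocCohBase.cdLE_of_dim_le I d hd.le) ?_ N
  refine (Module.support_eq_empty_iff (R := R)).1 (Set.eq_empty_iff_forall_notMem.2 fun q hq => ?_)
  obtain ⟨m, hm, hqm⟩ := Ideal.exists_le_maximal q.asIdeal q.2.ne_top
  have hm' : (⟨m, hm.isPrime⟩ : PrimeSpectrum R) ∈ Module.support R (LocCoh.H I d R) :=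
    Module.mem_support_mono hqm hq
  let Rm := Localization.AtPrime m
  haveI : IsNoetherianRing Rm := IsLocalization.isNoetherianRing m.primeCompl Rm inferInstance
  obtain ⟨e⟩ := Groth.LocCohTransform.nonempty_baseChange_equiv Rm I R d
  suffices h : Subsingleton (LocCoh.H (I.map (algebraMap R Rm)) d Rm) by
    have h1 := (Groth.LocCohBase.subsingleton_H_congr (I.map (algebraMap R Rm)) d
      (TensorProduct.AlgebraTensorModule.rid R Rm Rm)).2 h
    have h2 : Subsingleton (TensorProduct R Rm (LocCoh.H I d R)) := e.toEquiv.subsingleton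
    have h3 : Subsingleton (LocalizedModule m.primeCompl (LocCoh.H I d R)) :=
      (LocalizedModule.equivTensorProduct m.primeCompl (LocCoh.H I d R)).toEquiv.subsingleton
    rw [Module.mem_support_iff] at hm'
    exact not_subsingleton (LocalizedModule m.primeCompl (LocCoh.H I d R)) h3
  obtain ⟨n, hn⟩ := Groth.LocCohTransform.DimCd.exists_nat_ringKrullDim (A := Rm)
  have hle : n ≤ d := by
    have h0 : ringKrullDim Rm ≤ ringKrullDim R := by
      rw [IsLocalization.AtPrime.ringKrullDim_eq_height m Rm]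
      exact Ideal.height_le_ringKrullDim_of_isPrime
    rw [hn, hd] at h0
    exact_mod_cast h0
  rcases lt_or_eq_of_le hle with hlt | rfl
  · exact Groth.LocCohBase.cdLE_of_dim_le (I.map (algebraMap R Rm)) n hn.le Rm d hlt
  refine Groth.LocCohTransform.TopGeneral.subsingleton_H_of_quotients _ hn fun P hP hPd => ?_
  haveI := hP
  have hPmin := Groth.LocCohTransform.HLVT.mem_minimalPrimes_of_dim_eq hn P hPd
  have hpmin : P.comap (algebraMap R Rm) ∈ minimalPrimes R := by
    have h1 := IsLocalization.minimalPrimes_comap m.primeCompl Rm (⊥ : Ideal Rm)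
    have h2 : P.comap (algebraMap R Rm) ∈ ((⊥ : Ideal Rm).comap (algebraMap R Rm)).minimalPrimes :=
      h1 ▸ ⟨P, hPmin, rfl⟩
    refine ⟨⟨inferInstance, bot_le⟩, fun Q hQ hQP => h2.2 ⟨hQ.1, ?_⟩ hQP⟩
    intro x hx
    obtain ⟨⟨s, hs⟩, hsx⟩ := (IsLocalization.map_eq_zero_iff m.primeCompl Rm x).1 hx
    rcases hQ.1.mem_or_mem (show s * x ∈ Q by rw [show s * x = 0 from hsx]; exact zero_mem Q) with h | h
    · exact absurd (IsLocalRing.le_maximalIdeal hP.ne_top (hQP h)) (fun hmem => hs
        ((IsLocalization.AtPrime.to_map_mem_maximal_iff Rm m s).1 hmem))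
    · exact h
  have hpd : ringKrullDim (R ⧸ P.comap (algebraMap R Rm)) = (n : ℕ) := by
    refine le_antisymm ((ringKrullDim_quotient_le _).trans hd.le) ?_
    rw [← hPd, ringKrullDim_quotient, ringKrullDim_quotient]
    refine Order.krullDim_le_of_strictMono (fun Q => ⟨PrimeSpectrum.comap (algebraMap R Rm) Q.1,
      Ideal.comap_mono Q.2⟩) fun Q Q' hQ => ?_
    refine lt_of_le_of_ne (Ideal.comap_mono hQ.le) fun h => hQ.ne (Subtype.ext ?_)
    exact PrimeSpectrum.localization_comap_injective Rm m.primeCompl (congrArg Subtype.val h)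
  have hp := Groth.LocCohTransform.TopGeneral.subsingleton_H_quotient_of_support I hd M hvan
    ⟨_, Ideal.IsPrime.comap _⟩ (hsupp _ hpmin hpd (Ideal.IsPrime.comap _)) hpd
  obtain ⟨e'⟩ := Groth.LocCohTransform.nonempty_baseChange_equiv Rm I (R ⧸ P.comap (algebraMap R Rm)) n
  have h1 : Subsingleton (LocCoh.H (I.map (algebraMap R Rm)) n (TensorProduct R Rm (R ⧸ P.comap (algebraMap R Rm)))) :=
    e'.symm.toEquiv.subsingleton
  have h2 := (Groth.LocCohBase.subsingleton_H_congr (I.map (algebraMap R Rm)) n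
    (Algebra.TensorProduct.quotIdealMapEquivTensorQuot Rm (P.comap (algebraMap R Rm))).toLinearEquiv).2 h1
  exact (Groth.LocCohBase.subsingleton_H_congr (I.map (algebraMap R Rm)) n
    (Submodule.quotEquivOfEq _ _ (IsLocalization.map_comap m.primeCompl Rm P))).1 h2

end Groth.Agent.S0333
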