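import Groth.Statements.S0334
import Groth.Agent.LocCohBase.TopDegree

set_option autoImplicit false
universe u v
open LocCoh

namespace Groth.Agent.S0334

/-- Over a Noetherian local ring of dimension d, multiplication by an element lying in no minimal prime
p with dim R/p = d is surjective on H^d_I(M) for every finite module M and every ideal I. -/
theorem result (R : Type u) [CommRing R] [IsLocalRing R] [IsNoetherianRing R] (I : Ideal R) (d : ℕ) (hd : ringKrullDim R = d) (f : R) (hf : ∀ p ∈ minimalPrimes R, ringKrullDim (R ⧸ p) = d → f ∉ p) (M : Type u) [AddCommGroup M] [Module R M] [Module.Finite R M] : Function.Surjective (fun x : LocCoh.H I d M => f • x) := by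
  refine Groth.LocCohBase.H_top_smul_surjective I M f
    ((Module.supportDim_le_ringKrullDim R M).trans hd.le) fun q _ hfq => ?_
  refine lt_of_le_of_ne ?_ fun hq => ?_
  · have := Order.coheight_le_krullDim q
    rw [show Order.krullDim (PrimeSpectrum R) = ringKrullDim R from rfl, hd] at this
    exact WithBot.coe_le_coe.1 this
  · refine hf q.asIdeal ⟨⟨q.isPrime, bot_le⟩, fun Q hQ hQq => ?_⟩ ?_ hfq
    · exact (congrArg PrimeSpectrum.asIdeal
        (Groth.LocCohBase.mem_minimalPrimes_of_coheight_eq hd hq.ge (p := ⟨Q, hQ.1⟩) hQq)).ge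
    · rw [Groth.Ega4Algebra1.ringKrullDim_quotient_eq_coheight R q, hq]
      rfl

end Groth.Agent.S0334
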