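import Groth.Statements.S0336
import Groth.Agent.FrobLCI.Kunz

set_option autoImplicit false
set_option linter.style.haveILetI false
universe u v
open LocCoh

namespace Groth.Agent.S0336

theorem comap_frobenius {R : Type u} [CommRing R] (p : ℕ) [Fact p.Prime] [CharP R p] (P : Ideal R) [hP : P.IsPrime] :
    P = Ideal.comap (frobenius R p) P := by
  ext a
  rw [Ideal.mem_comap, frobenius_def, hP.pow_mem_iff_mem p (Fact.out : p.Prime).pos]

theorem charP_atPrime {R : Type u} [CommRing R] (p : ℕ) [Fact p.Prime] [CharP R p] (P : Ideal R) [P.IsPrime] :
    CharP (Localization.AtPrime P) p := by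
  rw [CharP.charP_iff_prime_eq_zero (Fact.out : p.Prime), ← map_natCast (algebraMap R (Localization.AtPrime P)),
    CharP.cast_eq_zero, map_zero]

theorem localRingHom_eq {R : Type u} [CommRing R] (p : ℕ) [Fact p.Prime] [CharP R p] (P : Ideal R) [P.IsPrime]
    [CharP (Localization.AtPrime P) p] :
    Localization.localRingHom P P (frobenius R p) (comap_frobenius p P) = frobenius (Localization.AtPrime P) p :=
  Localization.localRingHom_unique _ _ _ _ fun x => by
    rw [frobenius_def, frobenius_def, map_pow]

/-- A Noetherian ring of prime characteristic p is regular exactly when its Frobenius endomorphism is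
flat. -/
theorem result (p : ℕ) [Fact p.Prime] (R : Type u) [CommRing R] [IsNoetherianRing R] [CharP R p] : IsRegularRing R ↔ (frobenius R p).Flat := by
  constructor
  · intro hR
    refine RingHom.Flat.ofLocalizationPrime _ fun P _ => ?_
    haveI := charP_atPrime p P
    have e : Ideal.comap (frobenius R p) P = P := (comap_frobenius p P).symm
    suffices h : (Localization.localRingHom P P (frobenius R p) (comap_frobenius p P)).Flat by
      have key : ∀ (Q : Ideal R) [Q.IsPrime] (hQ : Q = Ideal.comap (frobenius R p) P), Q = P →
          (Localization.localRingHom Q P (frobenius R p) hQ).Flat := by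
        intro Q _ hQ hQP
        subst hQP
        exact h
      exact key _ rfl e
    rw [localRingHom_eq]
    exact Groth.Kunz.flat_frobenius_of_isRegularLocalRing p
  · intro hflat
    refine isRegularRing_iff.2 fun P hP => ?_
    haveI := charP_atPrime p P
    refine Groth.Kunz.isRegularLocalRing_of_flat p ?_
    rw [← localRingHom_eq]
    exact hflat.localRingHom P P (comap_frobenius p P)

end Groth.Agent.S0336
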