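import Groth.Statements.S0337
import Mathlib.RingTheory.LocalRing.Module

set_option autoImplicit false
universe u v
open CategoryTheory
open LocCoh
open scoped TensorProduct

namespace Groth.Agent.S0337

/-- Over a Noetherian local ring of prime characteristic p, a finite module isomorphic to its own base
change along Frobenius is free. -/
theorem result (p : ℕ) [Fact p.Prime] (R : Type u) [CommRing R] [IsLocalRing R] [IsNoetherianRing R] [CharP R p] (M : Type u) [AddCommGroup M] [Module R M] [Module.Finite R M] (h : Nonempty ((ModuleCat.extendScalars (frobenius R p)).obj (ModuleCat.of R M) ≅ ModuleCat.of R M)) : Module.Free R M := by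
  classical
  obtain ⟨e⟩ := h
  -- a minimal generating family of M
  let k := IsLocalRing.ResidueField R
  let n := Module.finrank k (TensorProduct R k M)
  let b : Module.Basis (Fin n) k (TensorProduct R k M) := Module.finBasis _ _
  obtain ⟨fm, hfm⟩ := (TensorProduct.mk_surjective R M k Ideal.Quotient.mk_surjective).comp_left b
  have hspan : Submodule.span R (Set.range fm) = ⊤ :=
    IsLocalRing.span_eq_top_of_tmul_eq_basis fm b (fun i => congr_fun hfm i)
  let π : (Fin n → R) →ₗ[R] M := Fintype.linearCombination R fm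
  have hπa : ∀ v, π v = ∑ i, v i • fm i := fun v => rfl
  have hπ : Function.Surjective π := by
    rw [← LinearMap.range_eq_top, Fintype.range_linearCombination, hspan]
  have hmin : ∀ v, π v = 0 → ∀ i, v i ∈ IsLocalRing.maximalIdeal R := by
    intro v hv i
    have h1 : ∑ j, IsLocalRing.residue R (v j) • b j = 0 := by
      have h2 : ((1 : k) ⊗ₜ[R] π v) = 0 := by rw [hv, TensorProduct.tmul_zero]
      rw [hπa, TensorProduct.tmul_sum] at h2
      refine (Finset.sum_congr rfl fun j _ => ?_).trans h2
      rw [← congr_fun hfm j, TensorProduct.tmul_smul]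
      exact (algebraMap_smul k (v j) _)
    have h3 := Fintype.linearIndependent_iff.1 b.linearIndependent _ h1 i
    exact Ideal.Quotient.eq_zero_iff_mem.1 h3
  -- the ideal of entries of relations
  let J0 : Ideal R := Ideal.span {x | ∃ v, π v = 0 ∧ ∃ i, v i = x}
  let J' : Ideal R := J0.map (frobenius R p)
  have hJ0m : J0 ≤ IsLocalRing.maximalIdeal R := by
    rw [Ideal.span_le]
    rintro x ⟨v, hv, i, rfl⟩
    exact hmin v hv i
  have hJ' : J' ≤ J0 • J0 := by
    rw [Ideal.map_le_iff_le_comap]
    intro x hx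
    rw [Ideal.mem_comap, frobenius_def, smul_eq_mul, ← pow_two]
    exact Ideal.pow_le_pow_right (Fact.out (p := p.Prime)).two_le (Ideal.pow_mem_pow hx p)
  -- the semilinear coordinate map on M
  let T : ModuleCat.{u} R := ModuleCat.of R (Fin n → R ⧸ J')
  let c : (Fin n → R) → (Fin n → R ⧸ J') := fun v i => Ideal.Quotient.mk J' (frobenius R p (v i))
  have hc : ∀ v w, π v = π w → c v = c w := by
    intro v w hvw
    funext i
    refine Ideal.Quotient.eq.2 ?_
    rw [← map_sub]
    refine Ideal.mem_map_of_mem _ (Ideal.subset_span ⟨v - w, ?_, i, rfl⟩)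
    rw [map_sub, hvw, sub_self]
  let ψ : M →ₗ[R] (ModuleCat.restrictScalars (frobenius R p)).obj T :=
    { toFun := fun m => c (Function.surjInv hπ m)
      map_add' := fun x y => by
        have h1 := hc (Function.surjInv hπ (x + y)) (Function.surjInv hπ x + Function.surjInv hπ y)
          (by simp only [map_add, Function.surjInv_eq hπ])
        refine h1.trans ?_
        funext i
        simp only [c, Pi.add_apply, map_add]
        rfl
      map_smul' := fun a x => by
        have h1 := hc (Function.surjInv hπ (a • x)) (a • Function.surjInv hπ x)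
          (by simp only [map_smul, Function.surjInv_eq hπ])
        refine h1.trans ?_
        funext i
        simp only [c, Pi.smul_apply, smul_eq_mul, map_mul]
        rfl }
  let w : Fin n → (Fin n → R ⧸ J') := fun j => c (Function.surjInv hπ (fm j))
  have hψ : ∀ j i, w j i = if i = j then 1 else 0 := by
    intro j i
    have h1 := hc (Function.surjInv hπ (fm j)) (Pi.single j (1 : R))
      (by rw [Function.surjInv_eq hπ, hπa]; simp [Pi.single_apply])
    refine (congr_fun h1 i).trans ?_
    simp only [c, Pi.single_apply]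
    split <;> simp
  let F := (ModuleCat.extendScalars (frobenius R p)).obj (ModuleCat.of R M)
  let Ψ : F ⟶ T := ((ModuleCat.extendRestrictScalarsAdj (frobenius R p)).homEquiv _ _).symm
    (ModuleCat.ofHom (Y := (ModuleCat.restrictScalars (frobenius R p)).obj T) ψ)
  have hΨ : ∀ m : M, Ψ ((1 : R) ⊗ₜ m) = ψ m := by
    intro m
    have h1 := ModuleCat.extendRestrictScalarsAdj_homEquiv_apply Ψ m
    rw [Equiv.apply_symm_apply] at h1
    exact h1.symm
  let gF : Fin n → F := fun i => (1 : R) ⊗ₜ fm i
  let πF : (Fin n → R) →ₗ[R] F := Fintype.linearCombination R gF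
  have hπFa : ∀ v, πF v = ∑ i, v i • gF i := fun v => rfl
  have hkerF : ∀ v, πF v = 0 → ∀ i, v i ∈ J' := by
    intro v hv i
    rw [← Ideal.Quotient.eq_zero_iff_mem]
    have h1 : (Ψ (πF v) : Fin n → R ⧸ J') i = 0 := by rw [hv, map_zero]; rfl
    rw [hπFa, map_sum] at h1
    refine Eq.trans ?_ h1
    simp only [map_smul]
    have h2 : ∀ j, (Ψ (gF j) : Fin n → R ⧸ J') = w j := fun j => hΨ (fm j)
    have h3 : (∑ j, v j • (Ψ (gF j) : Fin n → R ⧸ J')) = ∑ j, v j • w j :=
      Finset.sum_congr rfl fun j _ => congrArg (v j • ·) (h2 j)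
    show _ = (∑ j, v j • (Ψ (gF j) : Fin n → R ⧸ J')) i
    refine Eq.trans ?_ (congr_fun h3 i).symm
    rw [Finset.sum_apply, Finset.sum_eq_single i]
    · rw [Pi.smul_apply, hψ, if_pos rfl, Algebra.smul_def, mul_one]; rfl
    · intro j _ hj
      rw [Pi.smul_apply, hψ, if_neg (Ne.symm hj), smul_zero]
    · simp
  have hπF : Function.Surjective πF := by
    rw [← LinearMap.range_eq_top, ← Submodule.ker_mkQ (LinearMap.range πF), LinearMap.ker_eq_top]
    have h0 : (ModuleCat.ofHom (X := F) (LinearMap.range πF).mkQ :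
        F ⟶ ModuleCat.of R (F ⧸ LinearMap.range πF)) = 0 := by
      apply ModuleCat.ExtendScalars.hom_ext
      intro m
      obtain ⟨v, rfl⟩ := hπ m
      refine (Submodule.Quotient.mk_eq_zero _).2 ?_
      let η := ((ModuleCat.extendRestrictScalarsAdj (frobenius R p)).unit.app (ModuleCat.of R M)).hom
      have h1 : η (π v) = ∑ i, η (v i • fm i) := by rw [hπa]; exact map_sum η _ _
      have h2 : η (π v) = (∑ i, frobenius R p (v i) • gF i : F) :=
        h1.trans (Finset.sum_congr rfl fun i _ => η.map_smul (v i) (fm i))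
      refine ⟨fun i => frobenius R p (v i), ?_⟩
      rw [hπFa]
      exact h2.symm
    exact congrArg ModuleCat.Hom.hom h0
  let e' : F ≃ₗ[R] M := e.toLinearEquiv
  let π' : (Fin n → R) →ₗ[R] M := e'.toLinearMap ∘ₗ πF
  have hπ' : Function.Surjective π' := e'.surjective.comp hπF
  -- compare the two presentations
  obtain ⟨g, hg⟩ := Module.projective_lifting_property π' π hπ'
  obtain ⟨h', hh⟩ := Module.projective_lifting_property π π' hπ
  have hhg : ∀ v, π (h' (g v)) = π v := fun v => by
    rw [← LinearMap.comp_apply, hh, ← LinearMap.comp_apply, hg]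
  have hsur : Function.Surjective (h' ∘ₗ g) := by
    rw [← LinearMap.range_eq_top]
    refine top_le_iff.1 (Submodule.le_of_le_smul_of_le_jacobson_bot (I := IsLocalRing.maximalIdeal R)
      Module.Finite.fg_top (IsLocalRing.maximalIdeal_le_jacobson _) ?_)
    intro v _
    have h1 : v = h' (g v) + (v - h' (g v)) := by abel
    rw [h1]
    refine Submodule.add_mem_sup ⟨v, rfl⟩ ?_
    have h2 : ∀ i, (v - h' (g v)) i ∈ IsLocalRing.maximalIdeal R :=
      hmin _ (by rw [map_sub, hhg, sub_self])
    rw [← (Pi.basisFun R (Fin n)).sum_repr (v - h' (g v))]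
    exact Submodule.sum_mem _ fun i _ =>
      Submodule.smul_mem_smul (h2 i) Submodule.mem_top
  let E : (Fin n → R) ≃ₗ[R] (Fin n → R) :=
    LinearEquiv.ofBijective _ ⟨OrzechProperty.injective_of_surjective_endomorphism _ hsur, hsur⟩
  have hmem : ∀ (u : (Fin n → R) →ₗ[R] (Fin n → R)) (v : Fin n → R), (∀ i, v i ∈ J') →
      ∀ i, u v i ∈ J' := by
    intro u v hv i
    rw [← (Pi.basisFun R (Fin n)).sum_repr v, map_sum, Finset.sum_apply]
    refine Ideal.sum_mem _ fun j _ => ?_
    rw [map_smul, Pi.smul_apply, smul_eq_mul]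
    exact Ideal.mul_mem_right _ _ (hv j)
  have hJ0J' : J0 ≤ J' := by
    rw [Ideal.span_le]
    rintro x ⟨v, hv, i, rfl⟩
    have h1 : π' (g v) = 0 := by rw [← LinearMap.comp_apply, hg, hv]
    have h2 : ∀ i, g v i ∈ J' := hkerF _ (e'.injective (by rw [map_zero]; exact h1))
    have h3 := hmem (E.symm.toLinearMap ∘ₗ h') (g v) h2 i
    have h4 : E.symm (h' (g v)) = v := E.symm_apply_apply v
    rwa [LinearMap.comp_apply, LinearEquiv.coe_coe, h4] at h3
  have hzero : J0 = ⊥ := Submodule.eq_bot_of_le_smul_of_le_jacobson_bot J0 J0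
    (IsNoetherian.noetherian _) (hJ0J'.trans hJ')
    (hJ0m.trans (IsLocalRing.maximalIdeal_le_jacobson _))
  have hinj : Function.Injective π := by
    rw [injective_iff_map_eq_zero]
    intro v hv
    funext i
    have h1 : v i ∈ J0 := Ideal.subset_span ⟨v, hv, i, rfl⟩
    rw [hzero] at h1
    exact h1
  exact Module.Free.of_equiv (LinearEquiv.ofBijective π ⟨hinj, hπ⟩)

end Groth.Agent.S0337
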