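import Groth.Statements.S0338
import Groth.Agent.FrobLCI.KunzTorsion
import Groth.Agent.FrobLCI.Kunz
import Groth.Agent.Matlis.Hull

set_option autoImplicit false
set_option linter.style.haveILetI false
universe u v
open CategoryTheory
open LocCoh

namespace Groth.Agent.S0338

open IsLocalRing

theorem pIdeal_one {R : Type u} [CommRing R] [IsLocalRing R] {n : ℕ} (x : Fin n → R) :
    Groth.Kunz.pIdeal x 1 ∅ = Ideal.span (Set.range x) := by
  simp [Groth.Kunz.pIdeal, Groth.Kunz.expo]

theorem pIdeal_eq {R : Type u} [CommRing R] [IsLocalRing R] {n : ℕ} (x : Fin n → R) (q : ℕ) :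
    Groth.Kunz.pIdeal x q ∅ = Ideal.span (Set.range fun i => x i ^ q) := by
  simp [Groth.Kunz.pIdeal, Groth.Kunz.expo]

theorem exists_basis_torsion {R : Type u} [CommRing R] [IsLocalRing R] (M : Type u) [AddCommGroup M] [Module R M] :
    ∃ ι : Type u, Nonempty (LocCoh.torsionBy (maximalIdeal R) M ≃ₗ[R] ι →₀ R ⧸ maximalIdeal R) := by
  let T := LocCoh.torsionBy (maximalIdeal R) M
  have hT : Module.IsTorsionBySet R T (maximalIdeal R : Set R) := fun x a =>
    Subtype.ext ((Submodule.mem_torsionBySet_iff _ _).1 x.2 a)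
  letI := hT.module
  letI : Field (R ⧸ maximalIdeal R) := Ideal.Quotient.field _
  haveI : IsScalarTower R (R ⧸ maximalIdeal R) T := ⟨fun r c x => by
    obtain ⟨c, rfl⟩ := Ideal.Quotient.mk_surjective c
    rw [Algebra.smul_def, Ideal.Quotient.algebraMap_eq, ← map_mul]
    show (r * c) • x = r • (c • x)
    rw [mul_smul]⟩
  exact ⟨_, ⟨((Module.Free.chooseBasis (R ⧸ maximalIdeal R) T).repr).restrictScalars R⟩⟩

theorem nonempty_torsion_of_iso (p : ℕ) [Fact p.Prime] (R : Type u) [CommRing R] [CharP R p]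
    (hflat : (frobenius R p).Flat) {n : ℕ} (x : Fin n → R) (M : Type u) [AddCommGroup M] [Module R M]
    (h : Nonempty ((ModuleCat.extendScalars (frobenius R p)).obj (ModuleCat.of R M) ≅ ModuleCat.of R M))
    {ι : Type u} (e : LocCoh.torsionBy (Ideal.span (Set.range x)) M ≃ₗ[R] ι →₀ R ⧸ Ideal.span (Set.range x)) :
    Nonempty (LocCoh.torsionBy (Ideal.span (Set.range fun i => x i ^ p)) M ≃ₗ[R]
      ι →₀ R ⧸ Ideal.span (Set.range fun i => x i ^ p)) := by
  obtain ⟨φ⟩ := h
  let I' := Ideal.span (Set.range fun i => x i ^ p)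
  have key : Nonempty (LocCoh.torsionBy I' ((ModuleCat.extendScalars (frobenius R p)).obj (ModuleCat.of R M))
      ≃ₗ[R] ι →₀ R ⧸ I') :=
    @Groth.Kunz.nonempty_torsion_baseChange R R _ _ (frobenius R p).toAlgebra hflat n x M _ _ ι e
  obtain ⟨e'⟩ := key
  let ψ := φ.toLinearEquiv
  have hmap : (LocCoh.torsionBy I' ((ModuleCat.extendScalars (frobenius R p)).obj (ModuleCat.of R M))).map ψ.toLinearMap =
      LocCoh.torsionBy I' M := by
    ext m
    rw [Submodule.mem_map, Submodule.mem_torsionBySet_iff]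
    constructor
    · rintro ⟨z, hz, rfl⟩ a
      exact ((ψ.map_smul (a : R) z).symm.trans (congrArg ψ ((Submodule.mem_torsionBySet_iff _ _).1 hz a))).trans ψ.map_zero
    · intro hm
      refine ⟨ψ.symm m, (Submodule.mem_torsionBySet_iff _ _).2 fun a => ?_, ψ.apply_symm_apply m⟩
      exact ((ψ.symm.map_smul (a : R) m).symm.trans (congrArg ψ.symm (hm a))).trans ψ.symm.map_zero
  exact ⟨((ψ.submoduleMap _).trans (LinearEquiv.ofEq _ _ hmap)).symm.trans e'⟩

/-- Over a regular local ring of prime characteristic p, let M be a module killed elementwise by powers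
of the maximal ideal and isomorphic to its own base change along Frobenius; then M is isomorphic to
a (possibly infinite) sum of copies of E, where E is an injective hull of the residue field. -/
theorem result (p : ℕ) [Fact p.Prime] (R : Type u) [CommRing R] [IsRegularLocalRing R] [CharP R p] (E : Type u) [AddCommGroup E] [Module R E] (f : IsLocalRing.ResidueField R →ₗ[R] E) (hf : InjHull.IsInjectiveHull f) (M : Type u) [AddCommGroup M] [Module R M] (hM : LocCoh.IsPowerTorsion (IsLocalRing.maximalIdeal R) M) (h : Nonempty ((ModuleCat.extendScalars (frobenius R p)).obj (ModuleCat.of R M) ≅ ModuleCat.of R M)) : ∃ ι : Type u, Nonempty (M ≃ₗ[R] (ι →₀ E)) := by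
  classical
  set n := (maximalIdeal R).spanFinrank with hn
  have hfg : (maximalIdeal R).FG := IsNoetherian.noetherian _
  have hfin := Submodule.FG.finite_generators hfg
  have hcard : hfin.toFinset.card = n := by
    rw [hn, ← Submodule.FG.generators_ncard hfg, Set.ncard_eq_toFinset_card _ hfin]
  let x : Fin n → R := fun i => (hfin.toFinset.equivFin.symm (Fin.cast hcard.symm i)).1
  have hx : Ideal.span (Set.range x) = maximalIdeal R := by
    have hr : Set.range x = Submodule.generators (maximalIdeal R) := by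
      ext y
      constructor
      · rintro ⟨i, rfl⟩
        exact hfin.mem_toFinset.1 (hfin.toFinset.equivFin.symm _).2
      · intro hy
        exact ⟨Fin.cast hcard (hfin.toFinset.equivFin ⟨y, hfin.mem_toFinset.2 hy⟩), by simp [x]⟩
    rw [hr]
    exact Submodule.span_generators _
  have hflat := Groth.Kunz.flat_frobenius_of_isRegularLocalRing (R := R) p
  obtain ⟨ι, ⟨b⟩⟩ := exists_basis_torsion (R := R) M
  refine ⟨ι, ?_⟩
  -- torsion for all Frobenius powers
  have htor : ∀ e : ℕ, Nonempty (LocCoh.torsionBy (Ideal.span (Set.range fun i => x i ^ p ^ e)) M ≃ₗ[R]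
      ι →₀ R ⧸ Ideal.span (Set.range fun i => x i ^ p ^ e)) := by
    intro e
    induction e with
    | zero =>
      have e0 : Ideal.span (Set.range fun i => x i ^ p ^ 0) = maximalIdeal R :=
        (congrArg (fun v : Fin n → R => Ideal.span (Set.range v)) (funext fun i => by rw [pow_zero, pow_one])).trans hx
      rw [e0]
      exact ⟨b⟩
    | succ e ih =>
      obtain ⟨e'⟩ := ih
      have h' := nonempty_torsion_of_iso p R hflat (fun i => x i ^ p ^ e) M h e'
      have e1 : (fun i => (x i ^ p ^ e) ^ p) = fun i => x i ^ p ^ (e + 1) :=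
        funext fun i => by rw [← pow_mul, ← pow_succ]
      rw [e1] at h'
      exact h'
  have hinjJ : Module.Injective R (ι →₀ E) :=
    GrothMatlis.injective_of_equiv (GrothMatlis.directSum_injective (fun _ : ι => E) fun _ => hf.isInjective)
      (finsuppLEquivDirectSum R E ι)
  -- the socle map and its extension
  let s : LocCoh.torsionBy (maximalIdeal R) M →ₗ[R] (ι →₀ E) :=
    (Finsupp.mapRange.linearMap (f : (R ⧸ maximalIdeal R) →ₗ[R] E)) ∘ₗ b.toLinearMap
  obtain ⟨g, hg⟩ := hinjJ.out (LocCoh.torsionBy (maximalIdeal R) M).subtype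
    (Submodule.injective_subtype _) s
  have hs : Function.Injective s := (Finsupp.mapRange_injective f (map_zero f) hf.injective).comp b.injective
  have hg_inj : Function.Injective g := by
    rw [← LinearMap.ker_eq_bot, Submodule.eq_bot_iff]
    intro m hm
    by_contra hm0
    obtain ⟨N, hN⟩ := hM m
    obtain ⟨r, hr0, hr⟩ := GrothMatlis.exists_smul_torsion N hm0 hN
    have hmem : r • m ∈ LocCoh.torsionBy (maximalIdeal R) M :=
      (Submodule.mem_torsionBySet_iff _ _).2 fun a => hr a a.2
    refine hr0 (congrArg Subtype.val (hs (a₁ := ⟨r • m, hmem⟩) (a₂ := 0) ?_))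
    rw [map_zero, ← hg]
    show g (r • m) = 0
    rw [map_smul, LinearMap.mem_ker.1 hm, smul_zero]
  refine ⟨LinearEquiv.ofBijective g ⟨hg_inj, fun y => ?_⟩⟩
  -- surjectivity
  have hE := GrothMatlis.hull_isPowerTorsion hf
  choose NE hNE using fun i => hE (y i)
  set N := y.support.sup NE + 1 with hNdef
  have hq : N ≤ p ^ N := (Nat.lt_pow_self (Fact.out : p.Prime).one_lt).le
  set I := Ideal.span (Set.range fun i => x i ^ p ^ N) with hI
  have hIy : ∀ a ∈ I, a • y = 0 := by
    intro a ha
    have ha' : a ∈ maximalIdeal R ^ N := by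
      refine (show I ≤ maximalIdeal R ^ N from Ideal.span_le.2 ?_) ha
      rintro _ ⟨i, rfl⟩
      exact Ideal.pow_le_pow_right hq (Ideal.pow_mem_pow (hx ▸ Ideal.subset_span ⟨i, rfl⟩) _)
    ext i
    rw [Finsupp.smul_apply, Finsupp.zero_apply]
    by_cases hi : i ∈ y.support
    · exact hNE i a (Ideal.pow_le_pow_right ((Finset.le_sup hi).trans (Nat.le_succ _)) ha')
    · rw [Finsupp.notMem_support_iff.1 hi, smul_zero]
  have hIm : I ≤ maximalIdeal R := by
    rw [hI, Ideal.span_le]
    rintro _ ⟨i, rfl⟩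
    exact Ideal.pow_mem_of_mem _ (hx ▸ Ideal.subset_span ⟨i, rfl⟩) _ (pow_pos (Fact.out : p.Prime).pos N)
  obtain ⟨c⟩ := htor N
  obtain ⟨d⟩ := Groth.Kunz.nonempty_quot_equiv_torsion hf x hx (Nat.one_le_pow N p (Fact.out : p.Prime).pos)
    (Groth.Kunz.indep_pow p hflat x hx hn.symm N)
  let d' : (R ⧸ I) ≃ₗ[R] LocCoh.torsionBy I E :=
    (Submodule.quotEquivOfEq _ _ (pIdeal_eq x (p ^ N)).symm) ≪≫ₗ d ≪≫ₗ
      LinearEquiv.ofEq _ _ (by rw [pIdeal_eq])
  let i : LocCoh.torsionBy I M →ₗ[R] (ι →₀ E) :=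
    (Finsupp.mapRange.linearMap (LocCoh.torsionBy I E).subtype) ∘ₗ
      (c ≪≫ₗ Finsupp.mapRange.linearEquiv d').toLinearMap
  have hi : Function.Injective i :=
    (Finsupp.mapRange_injective _ (map_zero _) (Submodule.injective_subtype _)).comp (LinearEquiv.injective _)
  have hi_surj : ∀ z : ι →₀ E, (∀ a ∈ I, a • z = 0) → ∃ w, i w = z := by
    intro z hz
    let z' : ι →₀ LocCoh.torsionBy I E := Finsupp.onFinset z.support
      (fun k => ⟨z k, (Submodule.mem_torsionBySet_iff _ _).2 fun a => by
        have := congrArg (fun w : ι →₀ E => w k) (hz a a.2)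
        simpa using this⟩) fun k hk => Finsupp.mem_support_iff.2 fun h0 => hk (Subtype.ext h0)
    refine ⟨(c ≪≫ₗ Finsupp.mapRange.linearEquiv d').symm z', ?_⟩
    show Finsupp.mapRange.linearMap _ ((c ≪≫ₗ Finsupp.mapRange.linearEquiv d') _) = z
    rw [LinearEquiv.apply_symm_apply]
    ext k
    rfl
  let j := g ∘ₗ (LocCoh.torsionBy I M).subtype
  obtain ⟨h', hh'⟩ := hinjJ.out j (hg_inj.comp (Submodule.injective_subtype _)) i
  obtain ⟨w, hw⟩ := hi_surj (h' y) fun a ha => by rw [← map_smul, hIy a ha, map_zero]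
  refine ⟨w, sub_eq_zero.1 ?_⟩
  by_contra hz0
  have hzI : ∀ a ∈ I, a • (g w - y) = 0 := fun a ha => by
    have hw' := (Submodule.mem_torsionBySet_iff _ _).1 w.2 ⟨a, ha⟩
    rw [smul_sub, hIy a ha, sub_zero, ← map_smul]
    exact (congrArg g hw').trans (map_zero g)
  have hz' : h' (g w - y) = 0 := by
    rw [map_sub, show h' (g w) = i w from hh' w, hw, sub_self]
  obtain ⟨N', hN'⟩ := Groth.Kunz.prim_powers x hx (fun _ => p ^ N)
  obtain ⟨r, hr0, hr⟩ := GrothMatlis.exists_smul_torsion N' hz0 fun a ha => hzI a (hN' ha)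
  -- a socle element of the sum of hulls comes from the socle of `M`
  have hsoc : ∀ k, ∃ v : R ⧸ maximalIdeal R, f v = (r • (g w - y)) k := fun k => by
    have hmem : (r • (g w - y)) k ∈ LocCoh.torsionBy (maximalIdeal R) E :=
      (Submodule.mem_torsionBySet_iff _ _).2 fun a => by
        have := congrArg (fun z : ι →₀ E => z k) (hr a a.2)
        simpa using this
    rw [GrothMatlis.socle_eq hf.toIsEssentialInj] at hmem
    exact hmem
  choose v hv using hsoc
  let v' : ι →₀ R ⧸ maximalIdeal R := Finsupp.onFinset (r • (g w - y)).support v fun k hk =>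
    Finsupp.mem_support_iff.2 fun h0 => hk (hf.injective (show f (v k) = f 0 by rw [map_zero, hv, h0]))
  have hsv : s (b.symm v') = r • (g w - y) := by
    show Finsupp.mapRange.linearMap _ (b (b.symm v')) = _
    rw [LinearEquiv.apply_symm_apply]
    ext k
    exact hv k
  have hmI : ((b.symm v' : LocCoh.torsionBy (maximalIdeal R) M) : M) ∈ LocCoh.torsionBy I M :=
    (Submodule.mem_torsionBySet_iff _ _).2 fun a =>
      (Submodule.mem_torsionBySet_iff _ _).1 (b.symm v').2 ⟨a, hIm a.2⟩
  have h1 : i ⟨_, hmI⟩ = 0 := by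
    rw [← hh']
    show h' (g (b.symm v' : LocCoh.torsionBy (maximalIdeal R) M)) = 0
    rw [show g (b.symm v' : LocCoh.torsionBy (maximalIdeal R) M) = s (b.symm v') from hg _, hsv, map_smul, hz',
      smul_zero]
  have h2 : b.symm v' = 0 := by
    have h3 := hi (h1.trans (map_zero i).symm)
    exact Subtype.ext (congrArg Subtype.val h3 :)
  exact hr0 (by rw [← hsv, h2, map_zero])

end Groth.Agent.S0338
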