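import Groth.Statements.S0343
import Groth.Agent.Gorenstein.Basic

set_option autoImplicit false
universe u v
open Goren

namespace Groth.Agent.S0343

/-- For a Noetherian local ring A and a non-zero-divisor f in the maximal ideal, A is Gorenstein exactly
when A/(f) is. -/
theorem result (A : Type u) [CommRing A] [IsLocalRing A] [IsNoetherianRing A] (f : A) (hf : f ∈ IsLocalRing.maximalIdeal A) (hreg : IsSMulRegular A f) : LocCoh.IsGorensteinLocalRing A ↔ LocCoh.IsGorensteinLocalRing (A ⧸ Ideal.span {f}) := by
  haveI : Nontrivial (A ⧸ Ideal.span {f}) := Ideal.Quotient.nontrivial_iff.2 fun hb =>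
    (IsLocalRing.maximalIdeal.isMaximal A).ne_top
      (top_le_iff.1 (hb ▸ (Ideal.span_singleton_le_iff_mem _).2 hf))
  haveI : IsLocalRing (A ⧸ Ideal.span {f}) :=
    .of_surjective' (Ideal.Quotient.mk _) Ideal.Quotient.mk_surjective
  rw [GrothGoren.isGorenstein_iff, GrothGoren.isGorenstein_iff]
  exact GrothGoren.exists_injLT_quotient_iff A hf hreg

end Groth.Agent.S0343
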