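import Groth.Statements.S0345
import Groth.Agent.Gorenstein.Regular

set_option autoImplicit false
universe u v
open Goren

namespace Groth.Agent.S0345

/-- For a Noetherian ring A, the A-module A has finite injective dimension exactly when every
localization of A at a prime is Gorenstein and A has finite Krull dimension. -/
theorem result (A : Type u) [CommRing A] [IsNoetherianRing A] : (∃ n : ℕ, CategoryTheory.HasInjectiveDimensionLT (ModuleCat.of A A) n) ↔ (LocCoh.IsGorensteinRing A ∧ ringKrullDim A < ⊤) := by
  constructor
  · rintro ⟨n, hn⟩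
    obtain ⟨hG, hd⟩ := GrothGoren.isGorensteinRing_and_dim hn
    exact ⟨hG, lt_of_le_of_lt hd (WithBot.coe_lt_coe.2 (ENat.coe_lt_top n))⟩
  · rintro ⟨hG, hd⟩
    obtain ⟨D, hD⟩ : ∃ D : ℕ, ringKrullDim A ≤ (D : WithBot ℕ∞) := by
      cases h : ringKrullDim A with
      | bot => exact ⟨0, bot_le⟩
      | coe a =>
        cases a with
        | top => rw [h] at hd; exact absurd hd (lt_irrefl _)
        | coe m => exact ⟨m, le_rfl⟩
    exact ⟨_, GrothGoren.exists_injLT_of_isGorensteinRing hD⟩

end Groth.Agent.S0345
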