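import Groth.Statements.S0350
import Groth.Agent.GrpschAbsch.FieldComp


set_option autoImplicit false
universe u v
open CategoryTheory MonoidalCategory CartesianMonoidalCategory MonObj GrpObj AlgebraicGeometry
open GrpSch

namespace Groth.Agent.S0350

/-- Let G be a group scheme over a field K. Then for every point x of G the local ring O_{G,x} has at
most one (hence exactly one) minimal prime, and there is exactly one irreducible component of G
passing through the identity point. The published statement also asserts that this component is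
geometrically irreducible, which is not asserted here. -/
theorem result (K : Type u) [Field K] (G : Over (Spec (CommRingCat.of K))) [GrpObj G] : (∀ x : G.left, (minimalPrimes (G.left.presheaf.stalk x)).Subsingleton) ∧ ∃! Z : Set G.left, Z ∈ irreducibleComponents (G.left : Type u) ∧ η[G].left (IsLocalRing.closedPoint K) ∈ Z := by
  have huniq : ∀ {a b x : G.left}, IsMax a → IsMax b → x ≤ a → x ≤ b → a = b := fun ha hb hxa hxb ↦
    Groth.GrpschAbsch.isMax_unique G ha hb hxa hxb
  refine ⟨fun x p hp q hq ↦ ?_, ?_⟩
  · have key : ∀ {r : Ideal (G.left.presheaf.stalk x)} (hr : r ∈ minimalPrimes (G.left.presheaf.stalk x)),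
        IsMax (G.left.fromSpecStalk x ⟨r, hr.1.1⟩) ∧ x ≤ G.left.fromSpecStalk x ⟨r, hr.1.1⟩ := by
      intro r hr
      have hmem : G.left.fromSpecStalk x ⟨r, hr.1.1⟩ ∈ Set.range (G.left.fromSpecStalk x) := ⟨_, rfl⟩
      rw [Scheme.range_fromSpecStalk] at hmem
      refine ⟨fun z hz ↦ ?_, Scheme.le_iff_specializes.mpr hmem⟩
      have hz' := Scheme.le_iff_specializes.mp hz
      have hzx : z ∈ Set.range (G.left.fromSpecStalk x) := by
        rw [Scheme.range_fromSpecStalk]; exact hz'.trans hmem
      obtain ⟨s, rfl⟩ := hzx
      have hs : s ⤳ (⟨r, hr.1.1⟩ : PrimeSpectrum (G.left.presheaf.stalk x)) :=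
        (G.left.fromSpecStalk x).isEmbedding.isInducing.specializes_iff.mp hz'
      have hle : s.asIdeal ≤ r := (PrimeSpectrum.le_iff_specializes _ _).mpr hs
      have : s = ⟨r, hr.1.1⟩ := PrimeSpectrum.ext (hle.antisymm (hr.2 ⟨s.2, bot_le⟩ hle))
      rw [this]
    have := huniq (key hp).1 (key hq).1 (key hp).2 (key hq).2
    exact congrArg PrimeSpectrum.asIdeal ((G.left.fromSpecStalk x).isEmbedding.injective this)
  · obtain ⟨ξ, hle, hmax⟩ := Groth.GrpschAbsch.exists_isMax_ge (η[G].left (IsLocalRing.closedPoint K))
    refine ⟨closure {ξ}, ⟨Groth.GrpschAbsch.closure_mem_irreducibleComponents hmax,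
      specializes_iff_mem_closure.mp (Scheme.le_iff_specializes.mp hle)⟩, fun C ⟨hC, heC⟩ ↦ ?_⟩
    obtain ⟨c, hc⟩ := QuasiSober.sober hC.1 (isClosed_of_mem_irreducibleComponents _ hC)
    have hcmax : IsMax c := fun z hz ↦ by
      have h1 : C ⊆ closure {z} := by
        rw [← hc]
        exact closure_minimal (Set.singleton_subset_iff.mpr
          ((Scheme.le_iff_specializes.mp hz).mem_closed isClosed_closure (subset_closure rfl))) isClosed_closure
      exact Scheme.le_iff_specializes.mpr (hc.specializes
        (hC.2 isIrreducible_singleton.closure h1 (subset_closure rfl)))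
    rw [← hc, huniq hcmax hmax (Scheme.le_iff_specializes.mpr (hc.specializes heC)) hle]

end Groth.Agent.S0350
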