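import Groth.Statements.S0356
import Groth.Agent.KoszulCone.SupportsCase
import Groth.Agent.KoszulCone.LocalCoh
import Groth.Agent.KoszulCone.Colim
import Groth.Agent.CohBase.Modules

set_option autoImplicit false
universe u v
open CategoryTheory AlgebraicGeometry
open LocCoh

namespace Groth.Agent.S0356

/-- Let R be a Noetherian ring, I an ideal, M an R-module and U = Spec R ∖ V(I) the punctured open. For
every p ≥ 1, the cohomology group H^p(U, M̃|_U) of the restriction to U of the quasi-coherent sheaf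
associated with M is isomorphic to the local cohomology H^(p+1)_I(M). (The published statement also
gives a four-term exact sequence in low degrees, which is not stated here; here R is Noetherian.) -/
theorem result (R : Type u) [CommRing R] [IsNoetherianRing R] (I : Ideal R) (M : Type u) [AddCommGroup M] [Module R M] (p : ℕ) (hp : 1 ≤ p) : Nonempty (Coh.HH (↑(LocCoh.puncturedOpen R I)) ((AlgebraicGeometry.tilde (R := CommRingCat.of R) (ModuleCat.of R M)).restrict (LocCoh.puncturedOpen R I).ι) p ≃+ LocCoh.H I (p + 1) M) := by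
  obtain ⟨q, rfl⟩ : ∃ q, p = q + 1 := ⟨p - 1, by omega⟩
  obtain ⟨t, ht⟩ := IsNoetherian.noetherian I
  have hI : Ideal.span {a | a ∈ t.toList} = I := by
    rw [← ht]; congr 1; ext a; simp
  obtain ⟨a⟩ := Groth.KoszulCone.nonempty_HH'_equiv_Kinf t.toList (q + 1 + 1) (ModuleCat.of R M)
  obtain ⟨b⟩ := Groth.KoszulCone.nonempty_koszulHLim_equiv_Kinf t.toList (ModuleCat.of R M) (q + 1 + 1)
  obtain ⟨c⟩ := Groth.KoszulCone.nonempty_koszulHLim_equiv_HZM (ModuleCat.of R M) t.toList (q + 1 + 1)
  subst hI
  let X : Scheme.{u} := Spec (CommRingCat.of R)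
  let F : X.Modules := tilde (R := CommRingCat.of R) (ModuleCat.of R M)
  let W : X.Opens := LocCoh.puncturedOpen R (Ideal.span {a | a ∈ t.toList})
  obtain ⟨e⟩ := CohBase.nonempty_equiv_HHon F W (q + 1)
  have hv : ∀ n : ℕ, Subsingleton (CohTop.HU (X := X.toTopCat) (Coh.toAb F) (n + 1) ⊤) := fun n =>
    CohBase.hVanish_of_isAffineOpen F (isAffineOpen_top X) n
  have := hv q
  have := hv (q + 1)
  let d : CohTop.HU (X := X.toTopCat) (Coh.toAb F) (q + 1) W ≃+ LocCohZ.HZM X F (q + 1 + 1) W :=
    AddEquiv.ofBijective (LocCohZ.delta (Coh.toAb F) (q + 1) (le_top : W ≤ ⊤))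
      ⟨LocCohZBase.delta_injective _ _ _, LocCohZBase.delta_surjective _ _ _⟩
  exact ⟨e.trans (d.trans (c.symm.trans (b.toAddEquiv.trans a.symm.toAddEquiv)))⟩

end Groth.Agent.S0356
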