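import Groth.Statements.S0357
import Groth.Agent.Lichtenbaum.Nonvanish

set_option autoImplicit false
universe u v
open CategoryTheory AlgebraicGeometry
open Dual

namespace Groth.Agent.S0357

/-- (1)⇔(3): let X be nonempty, separated and of finite type over a field, of dimension d. Then H^d(X,
F) vanishes for every coherent F exactly when no irreducible closed subscheme of X of dimension d is
proper over the field. ((3) is phrased with irreducible closed subschemes of dimension d, which are
the same as irreducible components of dimension d.) -/
theorem result (k : Type u) [Field k] (X : Scheme.{u}) (f : X ⟶ Spec (CommRingCat.of k)) [IsSeparated f] [LocallyOfFiniteType f] [QuasiCompact f] [Nonempty X] (d : ℕ) (hd : topologicalKrullDim X = d) : (∀ M : X.Modules, Coh.IsCoh M → Subsingleton (Coh.HH X M d)) ↔ ∀ (Z : Scheme.{u}) (i : Z ⟶ X) [IsClosedImmersion i] [IrreducibleSpace Z], topologicalKrullDim Z = d → ¬ IsProper (i ≫ f) := by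
  refine ⟨fun h Z i _ _ hZ hp => ?_, fun h M hM =>
    Groth.Lichtenbaum.subsingleton_HH_top f d hd.le (fun Z i _ _ hdZ => h Z i hdZ) M hM⟩
  -- replace `Z` by its reduction
  let J : Z.IdealSheafData := Scheme.IdealSheafData.vanishingIdeal (⊤ : TopologicalSpace.Closeds Z)
  haveI : IsReduced J.subscheme := Groth.PropsBasic2.isReduced_vanishingIdeal_subscheme _
  have hr : Set.range J.subschemeι = Set.univ := Groth.PropsBasic2.range_vanishingIdeal_subschemeι _
  haveI : Surjective J.subschemeι := ⟨Set.range_eq_univ.1 hr⟩
  let e := J.subschemeι.isClosedEmbedding.isEmbedding.toHomeomorphOfSurjective J.subschemeι.surjective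
  haveI : IrreducibleSpace J.subscheme := e.irreducibleSpace_iff.2 inferInstance
  haveI : IsIntegral J.subscheme := isIntegral_of_irreducibleSpace_of_isReduced _
  have hdim : topologicalKrullDim J.subscheme = d :=
    (IsHomeomorph.topologicalKrullDim_eq _ e.isHomeomorph).trans hZ
  haveI : IsProper ((J.subschemeι ≫ i) ≫ f) := by
    haveI := hp
    rw [Category.assoc]
    infer_instance
  obtain ⟨F, hF, hne⟩ :=
    Groth.Lichtenbaum.exists_coh_nontrivial_top f (J.subschemeι ≫ i) d hdim inferInstance
  exact hne (h F hF)

end Groth.Agent.S0357
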