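import Groth.Statements.S0358
import Groth.Agent.Ega4Algebra2.DepthFlat
import Groth.Agent.LocCohBase.CM

set_option autoImplicit false
universe u v
open LocCoh

namespace Groth.Agent.S0358

/-- For a flat local homomorphism R → S of Noetherian local rings whose closed fibre S/m_R S is
Cohen–Macaulay, and a proper ideal I of S, the I-depth of S is at least dim(S/m_R S) − dim(S/(m_R S
+ I)); stated additively. -/
theorem result (R : Type u) [CommRing R] [IsLocalRing R] [IsNoetherianRing R] (S : Type u) [CommRing S] [IsLocalRing S] [IsNoetherianRing S] [Algebra R S] [IsLocalHom (algebraMap R S)] [Module.Flat R S] (hCM : LocCoh.IsCohenMacaulayLocalRing (S ⧸ (IsLocalRing.maximalIdeal R).map (algebraMap R S))) (I : Ideal S) (hI : I ≠ ⊤) : ringKrullDim (S ⧸ (IsLocalRing.maximalIdeal R).map (algebraMap R S)) ≤ ringKrullDim (S ⧸ ((IsLocalRing.maximalIdeal R).map (algebraMap R S) ⊔ I)) + ((LocCoh.idealDepth I S : ℕ∞) : WithBot ℕ∞) := by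
  have key : ∀ (g : ℕ) (N : Type u) [AddCommGroup N] [Module S N] [Module R N] [IsScalarTower R S N]
      [Module.Finite S N] [Module.Flat R N] [Nontrivial N],
      (g : ℕ∞) ≤ LocCoh.idealDepth I (TensorProduct R N (R ⧸ IsLocalRing.maximalIdeal R)) →
        (g : ℕ∞) ≤ LocCoh.idealDepth I N := by
    intro g
    induction g with
    | zero => intros; simp
    | succ g ih =>
      intro N _ _ _ _ _ _ _ hg
      haveI := Groth.Ega4b.nontrivial_tensor (R := R) S N (R ⧸ IsLocalRing.maximalIdeal R)
      have hIF := Groth.LocCohBase.smul_maximalIdeal_ne_top (R := S)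
        (TensorProduct R N (R ⧸ IsLocalRing.maximalIdeal R)) hI
      obtain ⟨y, hyI, hy⟩ := Groth.LocCohBase.exists_regular_of_one_le hIF
        (le_trans (by exact_mod_cast Nat.succ_pos g) hg)
      have hym : y ∈ IsLocalRing.maximalIdeal S := IsLocalRing.le_maximalIdeal hI hyI
      haveI := Groth.Ega4b.flat_quotSMulTop_of_fibre N hy
      have hyN : IsSMulRegular N y :=
        (LinearEquiv.isSMulRegular_congr (TensorProduct.AlgebraTensorModule.rid R S N) y).1
          (Groth.Ega4b.isSMulRegular_tensor_of_fibre N hy R)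
      have hIN := Groth.LocCohBase.smul_maximalIdeal_ne_top (R := S) N hI
      haveI : Nontrivial (QuotSMulTop y N) := by
        refine Submodule.Quotient.nontrivial_iff.mpr fun h => ?_
        refine hIN (top_unique (le_of_eq_of_le h.symm ?_))
        rw [← Submodule.ideal_span_singleton_smul]
        exact Submodule.smul_mono_left ((Ideal.span_singleton_le_iff_mem _).mpr hyI)
      obtain ⟨e1⟩ := Groth.Ega4b.exists_quotSMulTop_tensor_left (R := R) (S := S) N
        (R ⧸ IsLocalRing.maximalIdeal R) y
      have h1 := Groth.LocCohBase.idealDepth_quotSMulTop_add_one I _ hIF hyI hy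
      rw [Groth.LocCohBase.idealDepth_congr e1] at h1
      rw [← h1, Nat.cast_succ] at hg
      have h2 := ih (QuotSMulTop y N) ((ENat.add_le_add_iff_right (by simp)).1 hg)
      rw [← Groth.LocCohBase.idealDepth_quotSMulTop_add_one I N hIN hyI hyN, Nat.cast_succ]
      exact add_le_add h2 le_rfl
  set mS := (IsLocalRing.maximalIdeal R).map (algebraMap R S) with hmS
  obtain ⟨e⟩ := Groth.Ega4b.exists_tensor_quotient (S := S) S (IsLocalRing.maximalIdeal R)
  let e₁ : (S ⧸ mS) ≃ₗ[S] TensorProduct R S (R ⧸ IsLocalRing.maximalIdeal R) :=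
    (Submodule.quotEquivOfEq _ _ (by simp [hmS])).trans e
  haveI : IsLocalRing (S ⧸ mS) := hCM.toIsLocalRing
  have hCMS : LocCoh.IsCohenMacaulayModule S (S ⧸ mS) := by
    show Module.supportDim S (S ⧸ mS) = _
    rw [Module.supportDim_quotient_eq_ringKrullDim, ← Module.supportDim_self_eq_ringKrullDim,
      hCM.supportDim_eq_depth, Groth.Ega4b.depth_eq_of_surjective_algebraMap
        (A := S) (B := S ⧸ mS) Ideal.Quotient.mk_surjective (S ⧸ mS)]
  haveI : Nontrivial (S ⧸ mS) := Groth.LocCohBase.nontrivial_of_CM hCMS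
  obtain ⟨g, hg⟩ : ∃ g : ℕ, LocCoh.idealDepth I (S ⧸ mS) = g :=
    ⟨_, (ENat.coe_toNat (Groth.LocCohBase.idealDepth_ne_top
      (Groth.LocCohBase.smul_maximalIdeal_ne_top (S ⧸ mS) hI))).symm⟩
  have h1 := Groth.LocCohBase.supportDim_eq_add_idealDepth hI g (S ⧸ mS) hCMS hg
  rw [Module.supportDim_quotient_eq_ringKrullDim] at h1
  rw [h1]
  refine add_le_add ?_ ?_
  · rw [Module.supportDim_eq_ringKrullDim_quotient_annihilator]
    refine ringKrullDim_le_of_surjective _ (Ideal.Quotient.factor_surjective (sup_le ?_ ?_))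
    · intro s hs
      rw [Module.mem_annihilator]
      intro z
      obtain ⟨z, rfl⟩ := Submodule.Quotient.mk_surjective _ z
      rw [← Submodule.Quotient.mk_smul]
      refine (Submodule.Quotient.mk_eq_zero _).2 ?_
      have : s • z = 0 := by
        obtain ⟨w, rfl⟩ := Submodule.Quotient.mk_surjective _ z
        rw [← Submodule.Quotient.mk_smul]
        exact (Submodule.Quotient.mk_eq_zero mS).2 (mS.mul_mem_right w hs)
      rw [this]
      exact Submodule.zero_mem _
    · intro s hs
      rw [Module.mem_annihilator]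
      intro z
      obtain ⟨z, rfl⟩ := Submodule.Quotient.mk_surjective _ z
      rw [← Submodule.Quotient.mk_smul]
      exact (Submodule.Quotient.mk_eq_zero _).2 (Submodule.smul_mem_smul hs Submodule.mem_top)
  · exact WithBot.coe_le_coe.2 (key g S (by rw [← Groth.LocCohBase.idealDepth_congr e₁, hg]))

end Groth.Agent.S0358
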