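import Groth.Statements.S0362
import Groth.Agent.Matlis.Duality
import Mathlib.RingTheory.Nakayama

set_option autoImplicit false
universe u v
open CategoryTheory
open Dual

namespace Groth.Agent.S0362

section Helpers

open IsLocalRing CategoryTheory.Limits

variable {A : Type u} [CommRing A]

/-- The linear map underlying a morphism of finite length modules. -/
def lm {M N : Dual.FinLen A} (f : M ⟶ N) : M.obj →ₗ[A] N.obj := f.hom.hom

/-- A linear map as a morphism of finite length modules. -/
def mkHom {M N : Dual.FinLen A} (g : M.obj →ₗ[A] N.obj) : M ⟶ N :=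
  ObjectProperty.homMk (ModuleCat.ofHom g)

lemma hom_ext {M N : Dual.FinLen A} {f g : M ⟶ N} (h : ∀ x, lm f x = lm g x) : f = g :=
  ObjectProperty.hom_ext _ (ModuleCat.hom_ext (LinearMap.ext h))

lemma epi_of_surjective {M N : Dual.FinLen A} (f : M ⟶ N) (hf : Function.Surjective (lm f)) :
    Epi f :=
  ⟨fun g h hgh => hom_ext fun y => by
    obtain ⟨x, rfl⟩ := hf y
    exact congrArg (fun k => lm k x) hgh⟩

lemma surjective_of_epi {M N : Dual.FinLen A} (f : M ⟶ N) [Epi f] : Function.Surjective (lm f) := by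
  let P : Dual.FinLen A := ⟨ModuleCat.of A (N.obj ⧸ LinearMap.range (lm f)),
    N.property.of_surjective (f := (LinearMap.range (lm f)).mkQ) (Submodule.mkQ_surjective _)⟩
  have h0 : (mkHom (LinearMap.range (lm f)).mkQ : N ⟶ P) = mkHom 0 := by
    rw [← cancel_epi f]
    exact hom_ext fun x => (Submodule.Quotient.mk_eq_zero _).2 (LinearMap.mem_range_self _ x)
  intro y
  exact (Submodule.Quotient.mk_eq_zero _).1 (congrArg (fun k => lm k y) h0)

variable (G : Dual.FinLen A ⥤ Dual.FinLen A) [G.Additive] [G.Linear A]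

lemma annihilates_iff [G.Faithful] (M : Dual.FinLen A) (a : A) :
    (∀ x : (G.obj M).obj, a • x = 0) ↔ ∀ x : M.obj, a • x = 0 := by
  have key : ∀ N : Dual.FinLen A, (∀ x : N.obj, a • x = 0) ↔ a • 𝟙 N = 0 := fun N =>
    ⟨fun h => hom_ext fun x => h x, fun h x => congrArg (fun k => lm k x) h⟩
  rw [key, key, ← G.map_id, ← G.map_smul]
  exact ⟨fun h => G.map_injective (h.trans (G.map_zero _ _).symm), fun h => by rw [h, G.map_zero]⟩

lemma eq_of_agree_generator {M N : Dual.FinLen A} {y : M.obj} (hy : Submodule.span A {y} = ⊤)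
    {f g : M ⟶ N} (h : lm f y = lm g y) : f = g := by
  have := LinearMap.ext_on (s := {y}) hy (f := lm f) (g := lm g) (by simpa [Set.eqOn_singleton] using h)
  exact hom_ext fun x => LinearMap.congr_fun this x

variable [IsLocalRing A] [IsNoetherianRing A]

variable (A) in
/-- The module `A / m ^ (n + 1)`. -/
def Q (n : ℕ) : Dual.FinLen A :=
  ⟨ModuleCat.of A (A ⧸ maximalIdeal A ^ (n + 1)), GrothMatlis.isFiniteLength_quotient_pow (n + 1)⟩

variable (A) in
/-- The class of one. -/
def one (n : ℕ) : (Q A n).obj := Ideal.Quotient.mk (maximalIdeal A ^ (n + 1)) 1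

lemma span_one (n : ℕ) : Submodule.span A {one A n} = ⊤ := by
  rw [Submodule.eq_top_iff']
  intro z
  obtain ⟨a, rfl⟩ := Ideal.Quotient.mk_surjective (I := maximalIdeal A ^ (n + 1)) z
  refine Submodule.mem_span_singleton.2 ⟨a, ?_⟩
  change Submodule.Quotient.mk (a • (1 : A)) = Submodule.Quotient.mk a
  rw [smul_eq_mul, mul_one]

lemma smul_one_eq_zero (n : ℕ) (a : A) : a • one A n = 0 ↔ a ∈ maximalIdeal A ^ (n + 1) := by
  change Submodule.Quotient.mk (a • (1 : A)) = 0 ↔ _
  rw [Submodule.Quotient.mk_eq_zero, smul_eq_mul, mul_one]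

lemma kills_Q (n : ℕ) (a : A) (ha : a ∈ maximalIdeal A ^ (n + 1)) (x : (Q A n).obj) :
    a • x = 0 := by
  have hx : x ∈ Submodule.span A {one A n} := span_one (A := A) n ▸ Submodule.mem_top
  obtain ⟨b, rfl⟩ := Submodule.mem_span_singleton.1 hx
  rw [smul_comm, (smul_one_eq_zero n a).2 ha, smul_zero]

/-- The morphism from `A / m ^ (n + 1)` sending one to a given element. -/
def φ (n : ℕ) {M : Dual.FinLen A} (x : M.obj)
    (h : ∀ a ∈ maximalIdeal A ^ (n + 1), a • x = 0) : Q A n ⟶ M :=
  mkHom (Submodule.liftQ (maximalIdeal A ^ (n + 1)) (LinearMap.toSpanSingleton A M.obj x) h)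

lemma φ_one (n : ℕ) {M : Dual.FinLen A} (x : M.obj)
    (h : ∀ a ∈ maximalIdeal A ^ (n + 1), a • x = 0) : lm (φ n x h) (one A n) = x :=
  one_smul A x

variable (A) in
/-- The projection between consecutive quotients. -/
def π (n : ℕ) : Q A (n + 1) ⟶ Q A n :=
  φ (n + 1) (one A n) fun a ha =>
    kills_Q n a (Ideal.pow_le_pow_right (Nat.le_succ _) ha) _

lemma surjective_π (n : ℕ) : Function.Surjective (lm (π A n)) := by
  intro z
  have hz : z ∈ Submodule.span A {one A n} := span_one (A := A) n ▸ Submodule.mem_top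
  obtain ⟨b, rfl⟩ := Submodule.mem_span_singleton.1 hz
  exact ⟨b • one A (n + 1), by rw [map_smul]; exact congrArg (b • ·) (φ_one _ _ _)⟩

omit [IsNoetherianRing A] in
lemma span_eq_top_of_sup {M : Type u} [AddCommGroup M] [Module A M] [Module.Finite A M]
    (N : Submodule A M) (h : N ⊔ maximalIdeal A • (⊤ : Submodule A M) = ⊤) : N = ⊤ :=
  top_le_iff.1 (Submodule.le_of_le_smul_of_le_jacobson_bot Module.Finite.fg_top
    (IsLocalRing.maximalIdeal_le_jacobson ⊥) h.ge)

omit [IsLocalRing A] [IsNoetherianRing A] in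
lemma moduleFinite (M : Dual.FinLen A) : Module.Finite A M.obj := by
  have := (isFiniteLength_iff_isNoetherian_isArtinian.1 M.property).1
  infer_instance

variable [G.IsEquivalence]

omit [G.Linear A] in
lemma span_of_ne_zero {x : (G.obj (Q A 0)).obj} (hx : x ≠ 0) : Submodule.span A {x} = ⊤ := by
  let N : Dual.FinLen A := ⟨ModuleCat.of A (Submodule.span A {x}),
    (G.obj (Q A 0)).property.of_injective (Submodule.injective_subtype _)⟩
  let g : N ⟶ G.obj (Q A 0) := mkHom (Submodule.span A {x}).subtype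
  let i := G.objObjPreimageIso N
  obtain ⟨h, hh⟩ := G.map_surjective (i.hom ≫ g)
  obtain ⟨w, hw⟩ : ∃ w, lm h w ≠ 0 := by
    by_contra hw
    push Not at hw
    have : h = 0 := hom_ext hw
    rw [this, G.map_zero] at hh
    have hg : g = 0 := (cancel_epi i.hom).1 (hh.symm.trans Limits.comp_zero.symm)
    exact hx (congrArg (fun k : N ⟶ G.obj (Q A 0) => lm k (⟨x, Submodule.mem_span_singleton_self x⟩ : Submodule.span A {x})) hg)
  have : Epi h := epi_of_surjective h fun z => by
    have hz : z ∈ Submodule.span A {one A 0} := span_one (A := A) 0 ▸ Submodule.mem_top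
    have hw' : lm h w ∈ Submodule.span A {one A 0} := span_one (A := A) 0 ▸ Submodule.mem_top
    obtain ⟨b, rfl⟩ := Submodule.mem_span_singleton.1 hz
    obtain ⟨c, hc⟩ := Submodule.mem_span_singleton.1 hw'
    have hcu : IsUnit c := by
      by_contra hcu
      exact hw (hc.symm.trans ((smul_one_eq_zero 0 c).2 (by
        rw [zero_add, pow_one]; exact (IsLocalRing.mem_maximalIdeal c).2 hcu)))
    obtain ⟨d, hd⟩ := hcu.exists_left_inv
    refine ⟨(b * d) • w, ?_⟩
    rw [map_smul, ← hc, smul_smul, mul_assoc, hd, mul_one]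
  have : Epi (i.hom ≫ g) := hh ▸ inferInstance
  have : Epi g := epi_of_epi i.hom g
  refine Submodule.eq_top_iff'.2 fun z => ?_
  obtain ⟨⟨z', hz'⟩, rfl⟩ := surjective_of_epi g z
  exact hz'

lemma exists_generator_zero : ∃ y : (G.obj (Q A 0)).obj, Submodule.span A {y} = ⊤ := by
  obtain ⟨y, hy⟩ : ∃ y : (G.obj (Q A 0)).obj, y ≠ 0 := by
    by_contra h
    push Not at h
    have h1 := (annihilates_iff G (Q A 0) 1).1 (fun z => by rw [h z, smul_zero]) (one A 0)
    rw [smul_one_eq_zero, zero_add, pow_one] at h1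
    exact (IsLocalRing.mem_maximalIdeal 1).1 h1 isUnit_one
  exact ⟨y, span_of_ne_zero G hy⟩

lemma exists_generator (n : ℕ) : ∃ y : (G.obj (Q A n)).obj, Submodule.span A {y} = ⊤ := by
  obtain ⟨y₀, hy₀⟩ := exists_generator_zero G
  let K := G.obj (Q A n)
  let P : Dual.FinLen A := ⟨ModuleCat.of A (K.obj ⧸ maximalIdeal A • (⊤ : Submodule A K.obj)),
    K.property.of_surjective (f := (maximalIdeal A • (⊤ : Submodule A K.obj)).mkQ)
      (Submodule.mkQ_surjective _)⟩
  let p : K ⟶ P := mkHom (maximalIdeal A • (⊤ : Submodule A K.obj)).mkQ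
  let i := G.objObjPreimageIso P
  obtain ⟨g, hg⟩ := G.map_surjective (p ≫ i.inv)
  have : Epi p := epi_of_surjective p (Submodule.mkQ_surjective _)
  have : Epi (G.map g) := hg ▸ inferInstance
  have : Epi g := G.epi_of_epi_map this
  have hP : ∀ a ∈ maximalIdeal A, ∀ z : (G.obj (G.objPreimage P)).obj, a • z = 0 := by
    intro a ha z
    have h1 : a • lm i.hom z = 0 := by
      obtain ⟨w, hw⟩ := Submodule.mkQ_surjective _ (lm i.hom z)
      rw [← hw]
      exact (Submodule.Quotient.mk_eq_zero _).2 (Submodule.smul_mem_smul ha Submodule.mem_top)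
    have h2 : lm i.inv (lm i.hom z) = z := congrArg (fun k => lm k z) i.hom_inv_id
    rw [← h2, ← map_smul, h1, map_zero]
  let h : Q A 0 ⟶ G.objPreimage P := φ 0 (lm g (one A n)) fun a ha =>
    (annihilates_iff G _ a).1 (hP a (by rwa [zero_add, pow_one] at ha)) _
  have : Epi h := epi_of_surjective h fun z => by
    obtain ⟨w, rfl⟩ := surjective_of_epi g z
    have hw : w ∈ Submodule.span A {one A n} := span_one (A := A) n ▸ Submodule.mem_top
    obtain ⟨b, rfl⟩ := Submodule.mem_span_singleton.1 hw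
    exact ⟨b • one A 0, by rw [map_smul, map_smul, φ_one]⟩
  obtain ⟨x, hx⟩ := Submodule.mkQ_surjective _ (lm (G.map h ≫ i.hom) y₀)
  refine ⟨x, (haveI := moduleFinite K; span_eq_top_of_sup _ (Submodule.eq_top_iff'.2 fun z => ?_))⟩
  obtain ⟨w, hw⟩ := surjective_of_epi (G.map h ≫ i.hom) (lm p z)
  have hw' : w ∈ Submodule.span A {y₀} := hy₀ ▸ Submodule.mem_top
  obtain ⟨b, rfl⟩ := Submodule.mem_span_singleton.1 hw'
  rw [map_smul, ← hx, ← map_smul] at hw
  rw [show z = b • x + (z - b • x) by abel]
  refine Submodule.add_mem_sup (Submodule.smul_mem _ _ (Submodule.mem_span_singleton_self x)) ?_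
  exact (Submodule.Quotient.eq _).1 hw.symm

lemma mem_pow_of_smul_generator {n : ℕ} {y : (G.obj (Q A n)).obj}
    (hy : Submodule.span A {y} = ⊤) {a : A} (ha : a • y = 0) : a ∈ maximalIdeal A ^ (n + 1) := by
  refine (smul_one_eq_zero n a).1 ((annihilates_iff G _ a).1 (fun z => ?_) _)
  have hz : z ∈ Submodule.span A {y} := hy ▸ Submodule.mem_top
  obtain ⟨b, rfl⟩ := Submodule.mem_span_singleton.1 hz
  rw [smul_comm, ha, smul_zero]

lemma exists_lift {n : ℕ} {y : (G.obj (Q A n)).obj} (hy : Submodule.span A {y} = ⊤) :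
    ∃ x : (G.obj (Q A (n + 1))).obj,
      Submodule.span A {x} = ⊤ ∧ lm (G.map (π A n)) x = y := by
  have : Epi (π A n) := epi_of_surjective _ (surjective_π n)
  have hs := surjective_of_epi (G.map (π A n))
  obtain ⟨x, hx⟩ := hs y
  obtain ⟨g, hg⟩ := exists_generator G (n + 1)
  refine ⟨x, (haveI := moduleFinite (G.obj (Q A (n + 1))); span_eq_top_of_sup _ (Submodule.eq_top_iff'.2 fun z => ?_)), hx⟩
  obtain ⟨b, hb⟩ := Submodule.mem_span_singleton.1
    (show lm (G.map (π A n)) z ∈ Submodule.span A {y} from hy ▸ Submodule.mem_top)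
  obtain ⟨c, hc⟩ := Submodule.mem_span_singleton.1
    (show z - b • x ∈ Submodule.span A {g} from hg ▸ Submodule.mem_top)
  have hgen : Submodule.span A {lm (G.map (π A n)) g} = ⊤ := by
    rw [← Set.image_singleton, ← Submodule.map_span, hg, Submodule.map_top]
    exact LinearMap.range_eq_top.2 hs
  have hc0 : c • lm (G.map (π A n)) g = 0 := by
    rw [← map_smul, hc, map_sub, map_smul, hx, hb, sub_self]
  have hcm : c ∈ maximalIdeal A :=
    Ideal.pow_le_self (Nat.succ_ne_zero n) (mem_pow_of_smul_generator G hgen hc0)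
  rw [show z = b • x + (z - b • x) by abel, ← hc]
  exact Submodule.add_mem_sup (Submodule.smul_mem _ _ (Submodule.mem_span_singleton_self x))
    (Submodule.smul_mem_smul hcm Submodule.mem_top)

lemma exists_system : ∃ e : ∀ n, (G.obj (Q A n)).obj,
    (∀ n, Submodule.span A {e n} = ⊤) ∧ ∀ n, lm (G.map (π A n)) (e (n + 1)) = e n := by
  let s : ∀ n, { y : (G.obj (Q A n)).obj // Submodule.span A {y} = ⊤ } := fun n =>
    Nat.rec (motive := fun n => { y : (G.obj (Q A n)).obj // Submodule.span A {y} = ⊤ })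
      ⟨(exists_generator_zero G).choose, (exists_generator_zero G).choose_spec⟩
      (fun n y => ⟨(exists_lift G y.2).choose, (exists_lift G y.2).choose_spec.1⟩) n
  exact ⟨fun n => (s n).1, fun n => (s n).2, fun n => (exists_lift G (s n).2).choose_spec.2⟩

omit [IsLocalRing A] [IsNoetherianRing A] in
lemma exists_kill [IsLocalRing A] (M : Dual.FinLen A) :
    ∃ n : ℕ, ∀ a ∈ maximalIdeal A ^ (n + 1), ∀ x : M.obj, a • x = 0 := by
  obtain ⟨hN, hA⟩ := isFiniteLength_iff_isNoetherian_isArtinian.1 M.property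
  obtain ⟨n, hn⟩ := IsArtinian.monotone_stabilizes (R := A) (M := M.obj)
    ⟨fun k => OrderDual.toDual (maximalIdeal A ^ k • (⊤ : Submodule A M.obj)),
      fun i j hij => Submodule.smul_mono (Ideal.pow_le_pow_right hij) le_rfl⟩
  have h0 : maximalIdeal A ^ n • (⊤ : Submodule A M.obj) = ⊥ := by
    refine Submodule.eq_bot_of_le_smul_of_le_jacobson_bot (maximalIdeal A) _
      (IsNoetherian.noetherian _) ?_ (IsLocalRing.maximalIdeal_le_jacobson ⊥)
    rw [← Submodule.mul_smul, ← pow_succ']
    exact le_of_eq (OrderDual.toDual_inj.1 (hn (n + 1) (Nat.le_succ n)))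
  refine ⟨n, fun a ha x => ?_⟩
  have : a • x ∈ maximalIdeal A ^ n • (⊤ : Submodule A M.obj) :=
    Submodule.smul_mem_smul (Ideal.pow_le_pow_right (Nat.le_succ n) ha) Submodule.mem_top
  rwa [h0, Submodule.mem_bot] at this

theorem exists_natIso : Nonempty (G ≅ 𝟭 (Dual.FinLen A)) := by
  obtain ⟨e, hgen, hcomp⟩ := exists_system G
  choose N hN using exists_kill (A := A)
  let v : ∀ (M : Dual.FinLen A) (n : ℕ) (x : M.obj),
      (∀ a ∈ maximalIdeal A ^ (n + 1), a • x = 0) → (G.obj M).obj :=
    fun M n x h => lm (G.map (φ n x h)) (e n)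
  have hv : ∀ (M : Dual.FinLen A) (n d : ℕ) (x : M.obj)
      (h : ∀ a ∈ maximalIdeal A ^ (n + 1), a • x = 0) (h' : ∀ a ∈ maximalIdeal A ^ (n + d + 1), a • x = 0),
      v M (n + d) x h' = v M n x h := by
    intro M n d
    induction d with
    | zero => intro x h h'; rfl
    | succ d ih =>
      intro x h h'
      have h'' : ∀ a ∈ maximalIdeal A ^ (n + d + 1), a • x = 0 := fun a ha =>
        h a (Ideal.pow_le_pow_right (by omega) ha)
      have hf : φ (n + d + 1) x h' = π A (n + d) ≫ φ (n + d) x h'' :=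
        eq_of_agree_generator (span_one _) (by
          change _ = lm (φ (n + d) x h'') (lm (π A (n + d)) (one A (n + d + 1)))
          rw [show lm (π A (n + d)) (one A (n + d + 1)) = one A (n + d) from φ_one _ _ _,
            φ_one, φ_one])
      rw [← ih x h h'']
      change lm (G.map (φ (n + d + 1) x h')) (e (n + d + 1)) = _
      rw [hf, G.map_comp]
      exact congrArg (lm (G.map (φ (n + d) x h''))) (hcomp (n + d))
  have hlin : ∀ (M : Dual.FinLen A) (a : A) (x y : M.obj),
      v M (N M) (a • x + y) (fun c hc => hN M c hc _) =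
        a • v M (N M) x (fun c hc => hN M c hc _) + v M (N M) y (fun c hc => hN M c hc _) := by
    intro M a x y
    have hf : φ (N M) (a • x + y) (fun c hc => hN M c hc _) =
        a • φ (N M) x (fun c hc => hN M c hc _) + φ (N M) y (fun c hc => hN M c hc _) :=
      eq_of_agree_generator (span_one _) (by
        refine (φ_one _ _ _).trans ?_
        change _ = a • lm (φ (N M) x _) (one A (N M)) + lm (φ (N M) y _) (one A (N M))
        rw [φ_one, φ_one])
    change lm (G.map _) (e (N M)) = _
    rw [hf, G.map_add, G.map_smul]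
    rfl
  let η : ∀ M : Dual.FinLen A, M.obj →ₗ[A] (G.obj M).obj := fun M =>
    have h0 : v M (N M) 0 (fun c hc => hN M c hc _) = 0 := by
      have h := hlin M 1 0 0
      simp only [one_smul, add_zero] at h
      exact add_eq_left.1 h.symm
    { toFun := fun x => v M (N M) x (fun c hc => hN M c hc _)
      map_add' := fun x y => by
        have h := hlin M 1 x y
        simp only [one_smul] at h
        exact h
      map_smul' := fun a x => by
        have h := hlin M a x 0
        simp only [add_zero, h0] at h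
        exact h }
  have hbij : ∀ M, Function.Bijective (η M) := by
    intro M
    refine ⟨fun x y hxy => ?_, fun z => ?_⟩
    · have := G.map_injective (eq_of_agree_generator (hgen _) hxy)
      rw [← φ_one (N M) x (fun c hc => hN M c hc _), ← φ_one (N M) y (fun c hc => hN M c hc _), this]
    · have hz : ∀ a ∈ maximalIdeal A ^ (N M + 1), a • z = 0 := fun a ha =>
        (annihilates_iff G M a).2 (hN M a ha) z
      let T := LinearMap.toSpanSingleton A (G.obj (Q A (N M))).obj (e (N M))
      have hT : Function.Surjective T := fun w =>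
        Submodule.mem_span_singleton.1
          (show w ∈ Submodule.span A {e (N M)} from hgen (N M) ▸ Submodule.mem_top)
      have hk : LinearMap.ker T ≤ LinearMap.ker (LinearMap.toSpanSingleton A (G.obj M).obj z) :=
        fun a ha => LinearMap.mem_ker.2 (hz a (mem_pow_of_smul_generator G (hgen _)
          (LinearMap.mem_ker.1 ha)))
      let ψ := (Submodule.liftQ (LinearMap.ker T) _ hk).comp
        (T.quotKerEquivOfSurjective hT).symm.toLinearMap
      obtain ⟨f, hf⟩ := G.map_surjective (mkHom ψ : G.obj (Q A (N M)) ⟶ G.obj M)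
      refine ⟨lm f (one A (N M)), ?_⟩
      have hφ : φ (N M) (lm f (one A (N M))) (fun c hc => hN M c hc _) = f :=
        eq_of_agree_generator (span_one _) (φ_one _ _ _)
      change lm (G.map _) (e (N M)) = z
      rw [hφ, hf]
      change ψ (e (N M)) = z
      have : (T.quotKerEquivOfSurjective hT).symm (e (N M)) = Submodule.Quotient.mk 1 := by
        rw [LinearEquiv.symm_apply_eq]
        exact (one_smul A _).symm
      simp only [ψ, LinearMap.comp_apply, LinearEquiv.coe_coe, this, Submodule.liftQ_apply,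
        LinearMap.toSpanSingleton_apply, one_smul]
  let i : ∀ M : Dual.FinLen A, M ≅ G.obj M := fun M =>
    ObjectProperty.isoMk _ (LinearEquiv.ofBijective (η M) (hbij M)).toModuleIso
  refine ⟨(NatIso.ofComponents (F := 𝟭 (Dual.FinLen A)) (G := G) i fun {M M'} f => ?_).symm⟩
  refine hom_ext fun x => ?_
  change v M' (N M') (lm f x) _ = lm (G.map f) (v M (N M) x _)
  have hx : ∀ n, N M ≤ n → ∀ a ∈ maximalIdeal A ^ (n + 1), a • x = 0 := fun n hn a ha =>
    hN M a (Ideal.pow_le_pow_right (by omega) ha) x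
  have hy : ∀ n, N M' ≤ n → ∀ a ∈ maximalIdeal A ^ (n + 1), a • lm f x = 0 := fun n hn a ha =>
    hN M' a (Ideal.pow_le_pow_right (by omega) ha) _
  rw [← hv M (N M) (N M') x _ (hx _ (Nat.le_add_right _ _)),
    ← hv M' (N M') (N M) (lm f x) _ (hy _ (Nat.le_add_right _ _))]
  have hsw : ∀ (n n' : ℕ) (h : n = n') (p : ∀ a ∈ maximalIdeal A ^ (n + 1), a • lm f x = 0)
      (p' : ∀ a ∈ maximalIdeal A ^ (n' + 1), a • lm f x = 0),
      v M' n (lm f x) p = v M' n' (lm f x) p' := by rintro n _ rfl p p'; rfl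
  rw [hsw _ _ (Nat.add_comm (N M') (N M)) _ (hy _ (Nat.le_add_left _ _))]
  have hf : φ (N M + N M') (lm f x) (hy _ (Nat.le_add_left _ _)) =
      φ (N M + N M') x (hx _ (Nat.le_add_right _ _)) ≫ f :=
    eq_of_agree_generator (span_one _) (by
      refine (φ_one _ _ _).trans ?_
      change _ = lm f (lm (φ (N M + N M') x _) (one A (N M + N M')))
      rw [φ_one])
  change lm (G.map _) (e (N M + N M')) = _
  rw [hf, G.map_comp]
  rfl

end Helpers

/-- Over a Noetherian local ring A, an additive A-linear equivalence from the category of finite length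
A-modules to itself is naturally isomorphic to the identity. -/
theorem result (A : Type u) [CommRing A] [IsLocalRing A] [IsNoetherianRing A] (F : Dual.FinLen A ≌ Dual.FinLen A) [F.functor.Additive] [F.functor.Linear A] : Nonempty (F.functor ≅ 𝟭 (Dual.FinLen A)) := by
  exact exists_natIso F.functor

end Groth.Agent.S0362
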