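import Groth.Statements.S0363
import Groth.Agent.Gorenstein.TorDual
import Groth.Agent.CanMod.Basic
import Groth.Agent.LocDual.Top
import Groth.Agent.Matlis.Duality

set_option autoImplicit false
universe u v
open CategoryTheory
open Goren

namespace Groth.Agent.S0363

/-- Over a Gorenstein local ring of dimension d with E an injective hull of the residue field κ,
Tor_i(E, κ) vanishes for i ≠ d and Tor_d(E, κ) is isomorphic to κ. -/
theorem result (A : Type u) [CommRing A] [LocCoh.IsGorensteinLocalRing A] (d : ℕ) (hd : ringKrullDim A = d) (E : Type u) [AddCommGroup E] [Module A E] (f : IsLocalRing.ResidueField A →ₗ[A] E) (hf : InjHull.IsInjectiveHull f) : (∀ i : ℕ, i ≠ d → Limits.IsZero (((Tor (ModuleCat.{u} A) i).obj (ModuleCat.of A E)).obj (ModuleCat.of A (IsLocalRing.ResidueField A)))) ∧ Nonempty ((((Tor (ModuleCat.{u} A) d).obj (ModuleCat.of A E)).obj (ModuleCat.of A (IsLocalRing.ResidueField A))) ≅ ModuleCat.of A (IsLocalRing.ResidueField A)) := by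
  classical
  obtain ⟨n₀, hn₀⟩ := (GrothGoren.isGorenstein_iff A).1 ‹LocCoh.IsGorensteinLocalRing A›
  have hCM := GrothGoren.isCohenMacaulay A ⟨n₀, hn₀⟩
  obtain ⟨-, g, hg⟩ := Groth.LocDual.exists_hull_H_top d A ⟨n₀, hn₀⟩ hd
  obtain ⟨eh, -⟩ := GrothMatlis.hull_unique hf hg
  let eK : (A →ₗ[A] E) ≃ₗ[A] LocCoh.H (IsLocalRing.maximalIdeal A) d A :=
    (LinearMap.ringLmapEquivSelf A A E).trans eh
  let N : Groth.FlatmorThree.FFRes.FinMod A :=
    ⟨ModuleCat.of A (IsLocalRing.ResidueField A), inferInstance⟩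
  refine ⟨fun i hi => ?_, ?_⟩
  · obtain ⟨iso⟩ := Groth.TorDual.nonempty_tor_iso (E := E) N hf.isInjective i
    haveI : Subsingleton (CategoryTheory.Abelian.Ext N.M (ModuleCat.of A A) i) :=
      Groth.CanMod.extZ_residueField hCM hd hf eK hi
    haveI : Subsingleton (CategoryTheory.Abelian.Ext N.M (ModuleCat.of A A) i →ₗ[A] E) :=
      ⟨fun a b => LinearMap.ext fun v => by rw [Subsingleton.elim v 0, map_zero, map_zero]⟩
    exact (ModuleCat.isZero_of_subsingleton _).of_iso iso
  · obtain ⟨iso⟩ := Groth.TorDual.nonempty_tor_iso (E := E) N hf.isInjective d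
    let X := CategoryTheory.Abelian.Ext N.M (ModuleCat.of A A) d
    have h1 : Module.length A X = 1 := Groth.CanMod.bassNumLocal_eq_one hCM hd hf eK
    have hfl : IsFiniteLength A X :=
      Module.length_ne_top_iff.1 (by rw [h1]; exact ENat.one_ne_top)
    haveI : IsSimpleModule A (X →ₗ[A] E) := by
      rw [← Module.length_eq_one_iff, GrothMatlis.length_dual hf hfl, h1]
    obtain ⟨I, hI, ⟨e⟩⟩ := (isSimpleModule_iff_quot_maximal (R := A) (M := X →ₗ[A] E)).1 inferInstance
    obtain rfl := IsLocalRing.eq_maximalIdeal hI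
    exact ⟨iso ≪≫ e.toModuleIso⟩


end Groth.Agent.S0363
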