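import Groth.Statements.S0368
import Groth.Agent.DualCore.Depth

set_option autoImplicit false
universe u v
open CategoryTheory
attribute [local instance] HasDerivedCategory.standard
open Dual

namespace Groth.Agent.S0368

/-- (1)⇔(3): for a Noetherian local ring with normalized dualizing complex ω, a nonzero finite module M
with support of dimension d is Cohen–Macaulay exactly when Hom(M, ω[−i]) vanishes in D(A) for every
i ≠ d. -/
theorem result (A : Type u) [CommRing A] [IsLocalRing A] [IsNoetherianRing A] (ω : Dual.D A) (hω : Dual.IsDualizing A ω) (hn : Dual.IsNormalized A ω) (M : Type u) [AddCommGroup M] [Module A M] [Module.Finite A M] [Nontrivial M] (d : ℕ) (hd : Module.supportDim A M = d) : LocCoh.IsCohenMacaulayModule A M ↔ ∀ i : ℤ, i ≠ d → Subsingleton (Dual.inD A M ⟶ ω⟦(-i)⟧) := by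
  have hvan : ∀ i : ℤ, i < 0 ∨ (d : ℤ) < i → Subsingleton (Dual.inD A M ⟶ ω⟦(-i)⟧) :=
    fun i hi => Groth.DualCore.hom_le_ringKrullDim hω hn M hd.le (-i) (by lia)
  constructor
  · intro hcm i hi
    have hdep : LocCoh.depth A M = d := by
      have h := hd.symm.trans hcm
      exact (WithBot.coe_injective h).symm
    obtain ⟨h1, -⟩ := (Groth.DualCore.depth_eq_iff hω hn M d).1 hdep
    rcases lt_or_gt_of_ne hi with h | h
    · rcases lt_or_ge i 0 with h0 | h0
      · exact hvan i (Or.inl h0)
      · obtain ⟨δ, rfl⟩ := Int.eq_ofNat_of_zero_le h0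
        exact h1 δ (by exact_mod_cast h)
    · exact hvan i (Or.inr h)
  · intro h
    obtain ⟨a, ha⟩ := Groth.DualCore.exists_isGE hω
    obtain ⟨m, -, hm, -⟩ := Groth.DualCore.exists_depth_witness ω a hω.finite_cohomology hn
      (Groth.DualCore.nontrivial_end hω) d M hd.le
    obtain rfl : m = d := by
      by_contra hne
      exact not_subsingleton _ (h m (by exact_mod_cast hne))
    have hdep := (Groth.DualCore.depth_eq_iff hω hn M m).2
      ⟨fun δ hδ => h δ (by lia), hm⟩
    show Module.supportDim A M = _
    rw [hd, hdep]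
    rfl

end Groth.Agent.S0368
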