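import Groth.Statements.S0369
import Groth.Agent.DualCore.LocalDuality
import Groth.Agent.S7696
import Groth.Agent.Matlis.Hull

set_option autoImplicit false
universe u v
open CategoryTheory
attribute [local instance] HasDerivedCategory.standard
open Dual

namespace Groth.Agent.S0369

/-- For a Noetherian local ring of dimension d with normalized dualizing complex ω, the module ω_A =
H^{−d}(ω) has support equal to the union of those irreducible components of Spec A whose dimension
is d, and satisfies Serre's condition (S_2). -/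
theorem result (A : Type u) [CommRing A] [IsLocalRing A] [IsNoetherianRing A] (ω : Dual.D A) (hω : Dual.IsDualizing A ω) (hn : Dual.IsNormalized A ω) (d : ℕ) (hd : ringKrullDim A = d) : Module.support A (Dual.HD A ω (-(d : ℤ))) = {p : PrimeSpectrum A | ∃ q ∈ minimalPrimes A, q ≤ p.asIdeal ∧ ringKrullDim (A ⧸ q) = d} ∧ LocCoh.HasSk 2 A (Dual.HD A ω (-(d : ℤ))) := by
  obtain ⟨E, _, _, f, hf⟩ := GrothMatlis.exists_hull A (IsLocalRing.ResidueField A)
  obtain ⟨H, _, _, _, ⟨σ⟩, ⟨e⟩⟩ := Groth.DualCore.exists_localCohomology_equiv hω hn hf A d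
  let K := Dual.HD A ω (-(d : ℤ))
  let τ : H ≃ₗ[A] K := σ.trans (Groth.DualCore.homAEquiv ω (-(d : ℤ)))
  haveI : Module.Finite A K := Module.Finite.equiv τ
  let eK : (K →ₗ[A] E) ≃ₗ[A] LocCoh.H (IsLocalRing.maximalIdeal A) d A :=
    (LinearEquiv.arrowCongr τ (LinearEquiv.refl A E)).symm.trans e.symm
  refine ⟨?_, Groth.Agent.S7696.result A d hd E f hf K eK⟩
  ext p
  constructor
  · intro hp
    obtain ⟨P, hP, hle⟩ := Ideal.exists_minimalPrimes_le (Module.mem_support_iff_of_finite.1 hp)
    haveI := hP.1.1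
    have hco := (Groth.LocCohBase.mem_associatedPrimes_iff hd hf eK ⟨P, inferInstance⟩).1
      (Module.associatedPrimes.minimalPrimes_annihilator_subset_associatedPrimes A K hP)
    refine ⟨P, ⟨⟨inferInstance, bot_le⟩, fun Q hQ hQP => ?_⟩, hle, ?_⟩
    · exact (congrArg PrimeSpectrum.asIdeal
        (Groth.LocCohBase.mem_minimalPrimes_of_coheight_eq hd hco.ge (p := ⟨Q, hQ.1⟩) hQP)).ge
    · rw [Groth.Ega4Algebra1.ringKrullDim_quotient_eq_coheight A ⟨P, inferInstance⟩, hco]
      rfl
  · rintro ⟨q, hq, hle, hdim⟩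
    haveI := hq.1.1
    refine Module.mem_support_mono hle (p := ⟨q, inferInstance⟩) ?_
    refine Groth.LocCohBase.mem_support_of_coheight_eq hd eK ?_
    rw [Groth.Ega4Algebra1.ringKrullDim_quotient_eq_coheight A ⟨q, inferInstance⟩] at hdim
    exact WithBot.coe_injective hdim

end Groth.Agent.S0369
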