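import Groth.Statements.S0370
import Groth.Agent.DualCore.CM

set_option autoImplicit false
universe u v
open CategoryTheory
attribute [local instance] HasDerivedCategory.standard
open Dual

namespace Groth.Agent.S0370

/-- A Noetherian ring admitting a finite module which, placed in degree 0, is a dualizing complex, is
Cohen–Macaulay. -/
theorem result (A : Type u) [CommRing A] [IsNoetherianRing A] (W : Type u) [AddCommGroup W] [Module A W] [Module.Finite A W] (h : Dual.IsDualizing A (Dual.inD A W)) : LocCoh.IsCohenMacaulayRing A := by
  have hc : ∀ (p : Ideal A) [p.IsPrime],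
      LocCoh.IsCohenMacaulayLocalRing (Localization.AtPrime p) := by
    intro p _
    refine (Groth.DualCore.isCMLocal_iff p h).2 fun i j hi hj => ?_
    have key : ∀ k : ℤ, Nontrivial (LocalizedModule p.primeCompl (Dual.inD A A ⟶ (Dual.inD A W)⟦k⟧)) → k = 0 := by
      intro k hk
      by_contra hk0
      haveI : Subsingleton (Dual.HD A (Dual.inD A W) k) := by
        apply ModuleCat.isZero_iff_subsingleton.1
        rcases lt_or_gt_of_ne hk0 with h' | h'
        · exact DerivedCategory.isZero_of_isGE _ 0 k h'
        · exact DerivedCategory.isZero_of_isLE _ 0 k h'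
      haveI := (Groth.DualCore.homAEquiv (Dual.inD A W) k).toEquiv.subsingleton
      haveI := hk
      exact not_subsingleton (LocalizedModule p.primeCompl (Dual.inD A A ⟶ (Dual.inD A W)⟦k⟧)) inferInstance
    rw [key i hi, key j hj]
  exact { isCohenMacaulayLocalRing_localization := hc }

end Groth.Agent.S0370
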