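import Groth.Statements.S0372
import Groth.Agent.DualCore.CM

set_option autoImplicit false
universe u v
open CategoryTheory
attribute [local instance] HasDerivedCategory.standard
open Dual

namespace Groth.Agent.S0372

/-- If a Noetherian ring has a dualizing complex then the set of primes at which the localization is
Cohen–Macaulay is open and dense in the prime spectrum. -/
theorem result (A : Type u) [CommRing A] [IsNoetherianRing A] (ω : Dual.D A) (hω : Dual.IsDualizing A ω) : IsOpen {p : PrimeSpectrum A | LocCoh.IsCohenMacaulayLocalRing (Localization.AtPrime p.asIdeal)} ∧ Dense {p : PrimeSpectrum A | LocCoh.IsCohenMacaulayLocalRing (Localization.AtPrime p.asIdeal)} := by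
  refine ⟨?_, ?_⟩
  · convert Groth.DualCore.isOpen_single_degree hω A using 1
    ext p
    exact Groth.DualCore.isCMLocal_iff p.asIdeal hω
  · intro p
    have hp : p ∈ Module.support A A := by
      rw [Module.support_eq_zeroLocus, Module.annihilator_eq_bot.2 inferInstance]
      simp
    refine closure_mono (fun q hq => ?_) (Groth.DualCore.support_subset_closure_CM A hp)
    haveI : Nontrivial (LocalizedModule q.asIdeal.primeCompl A) := hq.2
    exact (Groth.DualCore.isCMLocal_iff q.asIdeal hω).2
      ((Groth.DualCore.isCM_localized_iff q.asIdeal hω A).1 hq.1).2

end Groth.Agent.S0372
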