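import Groth.Statements.S0373
import Groth.Agent.DualCore.Regular
import Groth.Agent.DualCore.CM
import Mathlib.RingTheory.Spectrum.Prime.FreeLocus

set_option autoImplicit false
universe u v
open CategoryTheory
attribute [local instance] HasDerivedCategory.standard
open Dual

namespace Groth.Agent.S0373

/-- If a Noetherian ring has a dualizing complex then the set of primes at which the localization is
Gorenstein is open. -/
theorem result (A : Type u) [CommRing A] [IsNoetherianRing A] (ω : Dual.D A) (hω : Dual.IsDualizing A ω) : IsOpen {p : PrimeSpectrum A | LocCoh.IsGorensteinLocalRing (Localization.AtPrime p.asIdeal)} := by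
  classical
  obtain ⟨a, b, hab⟩ := hω.finite_injective_dimension
  haveI := hω.finite_cohomology
  let S : ℤ → Set (PrimeSpectrum A) := fun i => Module.support A (Dual.HD A ω i)
  have hS : ∀ i, IsClosed (S i) := fun i => by
    show IsClosed (Module.support A (Dual.HD A ω i))
    rw [Module.support_eq_zeroLocus]
    exact PrimeSpectrum.isClosed_zeroLocus _
  have hzero : ∀ i, (i < a ∨ b < i) → ∀ p : PrimeSpectrum A, p ∉ S i := by
    intro i hi p hp
    haveI := hab A i hi
    haveI := (Groth.DualCore.homAEquiv ω i).symm.toEquiv.subsingleton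
    rw [show S i = ∅ from Module.support_eq_empty (R := A) (M := Dual.HD A ω i)] at hp
    exact hp
  let F : ℤ → Set (PrimeSpectrum A) := fun i =>
    {p | p ∈ Module.freeLocus A (Dual.HD A ω i) ∧ Module.rankAtStalk (Dual.HD A ω i) p = 1}
  have hF : ∀ i, IsOpen (F i) := fun i => by
    haveI : Module.FinitePresentation A (Dual.HD A ω i) :=
      Module.finitePresentation_of_finite A _
    have h1 := (Module.isLocallyConstant_rankAtStalk_freeLocus (R := A) (M := Dual.HD A ω i)) {1}
    have h2 := Module.isOpen_freeLocus.isOpenMap_subtype_val _ h1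
    convert h2 using 1
    ext p
    constructor
    · exact fun h => ⟨⟨p, h.1⟩, h.2, rfl⟩
    · rintro ⟨⟨q, hq⟩, hq', rfl⟩
      exact ⟨hq, hq'⟩
  let Z : ℤ → Set (PrimeSpectrum A) := fun i => ⋃ j ∈ (Finset.Icc a b).erase i, S j
  have hZ : ∀ i, IsClosed (Z i) := fun i => Set.Finite.isClosed_biUnion (Finset.finite_toSet _) fun j _ => hS j
  have hloc : ∀ (p : PrimeSpectrum A) (j : ℤ),
      p ∉ S j ↔ Subsingleton (Dual.HD (Localization.AtPrime p.asIdeal)
        ((Groth.DualCore.extD A (Localization.AtPrime p.asIdeal)).obj ω) j) := fun p j => by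
    show ¬ p ∈ Module.support A (Dual.HD A ω j) ↔ _
    rw [Module.mem_support_iff, Groth.DualCore.mem_support_iff_tensor, not_nontrivial_iff_subsingleton,
      (Groth.DualCore.HDExtEquiv ω j).toEquiv.subsingleton_congr]
  convert isOpen_iUnion (fun i => ((hZ i).isOpen_compl.inter (hF i))) using 1
  ext p
  haveI : IsNoetherianRing (Localization.AtPrime p.asIdeal) :=
    IsLocalization.isNoetherianRing p.asIdeal.primeCompl _ inferInstance
  rw [Set.mem_ofPred_eq, GrothGoren.isGorenstein_iff,
    Groth.DualCore.exists_injLT_iff_single_degree (Groth.DualCore.isDualizing_atPrime p.asIdeal hω),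
    Set.mem_iUnion]
  refine exists_congr fun i => and_congr ?_ ?_
  · rw [Set.mem_compl_iff, Set.mem_iUnion₂]
    constructor
    · rintro h ⟨j, hj, hj'⟩
      exact (hloc p j).2 (h j (Finset.mem_erase.1 hj).1) hj'
    · intro h j hj
      refine (hloc p j).1 fun hc => ?_
      by_cases hr : j ∈ Finset.Icc a b
      · exact h ⟨j, Finset.mem_erase.2 ⟨hj, hr⟩, hc⟩
      · exact hzero j (by simp at hr; lia) p hc
  · let e : LocalizedModule p.asIdeal.primeCompl (Dual.HD A ω i) ≃ₗ[Localization.AtPrime p.asIdeal]
        Dual.HD (Localization.AtPrime p.asIdeal) ((Groth.DualCore.extD A (Localization.AtPrime p.asIdeal)).obj ω) i :=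
      (Groth.DualCore.tensorEquivLocalized p.asIdeal (Dual.HD A ω i)).symm.trans (Groth.DualCore.HDExtEquiv ω i)
    constructor
    · rintro ⟨f⟩
      refine ⟨Module.Free.of_equiv (e.trans f).symm, ?_⟩
      show Module.finrank _ _ = 1
      rw [(e.trans f).finrank_eq, Module.finrank_self]
    · rintro ⟨hfree, hrank⟩
      haveI : Module.Free (Localization.AtPrime p.asIdeal) (LocalizedModule p.asIdeal.primeCompl (Dual.HD A ω i)) := hfree
      haveI : Module.Finite (Localization.AtPrime p.asIdeal) (LocalizedModule p.asIdeal.primeCompl (Dual.HD A ω i)) :=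
        Module.Finite.of_isLocalizedModule p.asIdeal.primeCompl (LocalizedModule.mkLinearMap p.asIdeal.primeCompl (Dual.HD A ω i))
      exact ⟨e.symm.trans (LinearEquiv.ofFinrankEq _ _ (hrank.trans (Module.finrank_self _).symm))⟩

end Groth.Agent.S0373
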