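import Groth.Statements.S0377
import Groth.Agent.DualCore.SmoothBC
import Mathlib

set_option autoImplicit false
universe u v
open CategoryTheory
attribute [local instance] HasDerivedCategory.standard
open Dual

namespace Groth.Agent.S0377

/-- If a Noetherian ring A has a dualizing complex then so does every A-algebra essentially of finite
type. -/
theorem result (A : Type u) [CommRing A] [IsNoetherianRing A] (ω : Dual.D A) (hω : Dual.IsDualizing A ω) (B : Type u) [CommRing B] [Algebra A B] [Algebra.EssFiniteType A B] : ∃ ω' : Dual.D B, Dual.IsDualizing B ω' := by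
  haveI : IsNoetherianRing (Algebra.EssFiniteType.subalgebra A B) := Algebra.FiniteType.isNoetherianRing A _
  obtain ⟨n, f, hf⟩ := Algebra.FiniteType.iff_quotient_mvPolynomial''.1
    (inferInstance : Algebra.FiniteType A (Algebra.EssFiniteType.subalgebra A B))
  haveI : Algebra.Smooth A (MvPolynomial (Fin n) A) := ⟨inferInstance, inferInstance⟩
  have hP := Groth.DualCore.isDualizing_extD_of_smooth (B := MvPolynomial (Fin n) A) hω
  letI : Algebra (MvPolynomial (Fin n) A) (Algebra.EssFiniteType.subalgebra A B) := f.toRingHom.toAlgebra
  haveI : Module.Finite (MvPolynomial (Fin n) A) (Algebra.EssFiniteType.subalgebra A B) :=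
    Module.Finite.of_surjective (Algebra.linearMap (MvPolynomial (Fin n) A) _) hf
  obtain ⟨W, hW⟩ := Groth.DualCore.exists_isDualizing_finite (Algebra.EssFiniteType.subalgebra A B) hP
  haveI : Module.Flat (Algebra.EssFiniteType.subalgebra A B) B :=
    IsLocalization.flat B (Algebra.EssFiniteType.submonoid A B)
  exact ⟨_, Groth.DualCore.isDualizing_extD (Algebra.EssFiniteType.submonoid A B) hW⟩

end Groth.Agent.S0377
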