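import Groth.Statements.S0392
import Groth.Agent.FlatMorOne.FlatnessCriteria

set_option autoImplicit false
universe u
open FlatMor

namespace Groth.Agent.S0392

open TensorProduct in
/-- Fibrewise criterion of flatness, Noetherian local form: for local homomorphisms R → S → S' of
Noetherian local rings and a nonzero finite S'-module M that is flat over R and whose reduction
modulo the maximal ideal of R is flat over the corresponding fibre ring of S, the ring S is flat
over R and M is flat over S. -/
theorem result {R S S' M : Type u} [CommRing R] [CommRing S] [CommRing S'] [IsLocalRing R] [IsLocalRing S] [IsLocalRing S']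
    [IsNoetherianRing R] [IsNoetherianRing S] [IsNoetherianRing S'] [Algebra R S] [Algebra S S'] [Algebra R S'] [IsScalarTower R S S']
    [IsLocalHom (algebraMap R S)] [IsLocalHom (algebraMap S S')]
    [AddCommGroup M] [Module S' M] [Module S M] [Module R M] [IsScalarTower S S' M] [IsScalarTower R S M]
    [Module.Finite S' M] [Nontrivial M] [Module.Flat R M]
    (h : Module.Flat (S ⧸ ((IsLocalRing.maximalIdeal R).map (algebraMap R S))) ((S ⧸ ((IsLocalRing.maximalIdeal R).map (algebraMap R S))) ⊗[S] M)) :
    Module.Flat R S ∧ Module.Flat S M := by
  let J := (IsLocalRing.maximalIdeal R).map (algebraMap R S)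
  have hJ : J ≠ ⊤ := by
    refine ne_top_of_le_ne_top (IsLocalRing.maximalIdeal.isMaximal S).ne_top ?_
    rw [Ideal.map_le_iff_le_comap]
    intro a ha hu
    exact ha (isUnit_of_map_unit _ a hu)
  have hflat : Module.Flat S M := Groth.FlatMorOne.flat_of_rTensor_injective (S := S') J
    (Groth.FlatMorOne.map_le_jacobson_of_isLocalHom hJ)
    (Groth.FlatMorOne.rTensor_map_injective_of_flat _)
  refine ⟨?_, hflat⟩
  have : Module.FaithfullyFlat S M := by
    rw [Module.FaithfullyFlat.iff_flat_and_proper_ideal]
    refine ⟨hflat, fun I hI htop => ?_⟩
    have h1 : (⊤ : Submodule S' M) ≤ I.map (algebraMap S S') • ⊤ := by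
      intro x h0
      clear h0
      have hx : x ∈ I • (⊤ : Submodule S M) := htop.ge trivial
      induction hx using Submodule.smul_induction_on' with
      | smul a ha y _ =>
        rw [← algebraMap_smul S' a y]
        exact Submodule.smul_mem_smul (Ideal.mem_map_of_mem _ ha) trivial
      | add y _ z _ hy hz => exact add_mem hy hz
    have h2 := Submodule.eq_bot_of_le_smul_of_le_jacobson_bot _ _ Module.Finite.fg_top h1
      (Groth.FlatMorOne.map_le_jacobson_of_isLocalHom hI)
    exact top_ne_bot (α := Submodule S' M) h2
  exact Groth.FlatMorOne.flat_of_faithfullyFlat_module M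

end Groth.Agent.S0392
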