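import Groth.Statements.S0394
import Groth.Agent.FlatMorOne.FlatnessCriteria

set_option autoImplicit false
universe u
open FlatMor

namespace Groth.Agent.S0394

open TensorProduct in
/-- For a local homomorphism R → S of Noetherian local rings and a nonzero finite S-module M flat over R
whose fibre M/mM is free over S/mS (m the maximal ideal of R), M is free over S and S is flat over
R. -/
theorem result {R S M : Type u} [CommRing R] [CommRing S] [IsLocalRing R] [IsLocalRing S] [IsNoetherianRing R] [IsNoetherianRing S] [Algebra R S] [IsLocalHom (algebraMap R S)]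
    [AddCommGroup M] [Module R M] [Module S M] [IsScalarTower R S M] [Module.Finite S M] [Nontrivial M] [Module.Flat R M]
    (h : Module.Free (S ⧸ ((IsLocalRing.maximalIdeal R).map (algebraMap R S))) ((S ⧸ ((IsLocalRing.maximalIdeal R).map (algebraMap R S))) ⊗[S] M)) :
    Module.Free S M ∧ Module.Flat R S := by
  have : IsLocalHom (algebraMap S S) := ⟨fun a h => h⟩
  let J := (IsLocalRing.maximalIdeal R).map (algebraMap R S)
  have hJ : J ≠ ⊤ := by
    refine ne_top_of_le_ne_top (IsLocalRing.maximalIdeal.isMaximal S).ne_top ?_
    rw [Ideal.map_le_iff_le_comap]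
    intro a ha hu
    exact ha (isUnit_of_map_unit _ a hu)
  have hflat : Module.Flat S M := Groth.FlatMorOne.flat_of_rTensor_injective (S := S) J
    (Groth.FlatMorOne.map_le_jacobson_of_isLocalHom hJ)
    (Groth.FlatMorOne.rTensor_map_injective_of_flat _)
  have hfree : Module.Free S M := Module.free_of_flat_of_isLocalRing
  exact ⟨hfree, Groth.FlatMorOne.flat_of_faithfullyFlat_module M⟩

end Groth.Agent.S0394
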