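import Groth.Statements.S0397
import Mathlib.RingTheory.LocalRing.Module

set_option autoImplicit false
universe u
open FlatMor

namespace Groth.Agent.S0397

/-- Over a local ring whose maximal ideal is nilpotent, every flat module (not necessarily finitely
generated) is free. -/
theorem result {R M : Type u} [CommRing R] [IsLocalRing R] (hR : IsNilpotent (IsLocalRing.maximalIdeal R))
    [AddCommGroup M] [Module R M] [Module.Flat R M] : Module.Free R M := by
  classical
  let k := IsLocalRing.ResidueField R
  let w := Module.Free.chooseBasis k (TensorProduct R k M)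
  obtain ⟨v, eq⟩ := (TensorProduct.mk_surjective R M k Ideal.Quotient.mk_surjective).comp_left w
  have hli : LinearIndependent (IsLocalRing.ResidueField R) (TensorProduct.mk R k M 1 ∘ v) := by
    convert! w.linearIndependent using 1
  refine .of_basis (.mk (Module.IsLocalRing.linearIndependent_of_flat v hli) ?_)
  set N := Submodule.span R (Set.range v)
  have hN : (⊤ : Submodule R M) ≤ N ⊔ IsLocalRing.maximalIdeal R • ⊤ := by
    have h1 : Submodule.span R (Set.range (TensorProduct.mk R k M 1 ∘ v)) = ⊤ := by
      have e : TensorProduct.mk R k M 1 ∘ v = w := eq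
      rw [e, ← Submodule.restrictScalars_span R k Ideal.Quotient.mk_surjective, w.span_eq]
      rfl
    rw [Set.range_comp, Submodule.span_image] at h1
    rw [← LinearMap.ker_tensorProductMk, ← Submodule.comap_map_eq]
    intro x _
    rw [Submodule.mem_comap]
    exact h1.ge Submodule.mem_top
  have : ∀ n : ℕ, (⊤ : Submodule R M) ≤ N ⊔ IsLocalRing.maximalIdeal R ^ n • ⊤ := by
    intro n
    induction n with
    | zero => simp
    | succ n ih =>
      calc (⊤ : Submodule R M) ≤ N ⊔ IsLocalRing.maximalIdeal R ^ n • ⊤ := ih
        _ ≤ N ⊔ IsLocalRing.maximalIdeal R ^ n • (N ⊔ IsLocalRing.maximalIdeal R • ⊤) :=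
            sup_le_sup_left (Submodule.smul_mono le_rfl hN) _
        _ ≤ N ⊔ IsLocalRing.maximalIdeal R ^ (n + 1) • ⊤ := by
            rw [Submodule.smul_sup, ← Submodule.smul_assoc, smul_eq_mul, ← pow_succ, ← sup_assoc]
            exact sup_le_sup_right (sup_le le_rfl Submodule.smul_le_right) _
  obtain ⟨n, hn⟩ := hR
  have := this n
  rw [hn, Submodule.zero_eq_bot, Submodule.bot_smul, sup_bot_eq] at this
  exact this

end Groth.Agent.S0397
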