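import Groth.Statements.S0398
import Groth.Agent.FlatMorOne.ArtinianFlat

set_option autoImplicit false
universe u
open FlatMor

namespace Groth.Agent.S0398

open TensorProduct in
/-- For an injective ring map R → S with R Artinian and an R-module M, if S ⊗ M is flat over S then M is
flat over R. -/
theorem result {R S M : Type u} [CommRing R] [CommRing S] [IsArtinianRing R] [Algebra R S] (hinj : Function.Injective (algebraMap R S))
    [AddCommGroup M] [Module R M] [Module.Flat S (S ⊗[R] M)] : Module.Flat R M := by
  apply Module.flat_of_localized_maximal
  intro p _
  let A := Localization.AtPrime p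
  let MA := A ⊗[R] M
  suffices Module.Flat A MA by
    have : Module.Flat R MA := Module.Flat.trans R A MA
    exact Module.Flat.of_linearEquiv ((LocalizedModule.equivTensorProduct p.primeCompl M).restrictScalars R)
  let B := A ⊗[R] S
  have hinjB : Function.Injective (algebraMap A B) := by
    have h1 : Function.Injective ((Algebra.linearMap R S).lTensor A) :=
      Module.Flat.lTensor_preserves_injective_linearMap _ hinj
    intro x y hxy
    apply (TensorProduct.rid R A).symm.injective
    apply h1
    have h2 : x ⊗ₜ[R] (1 : S) = y ⊗ₜ[R] (1 : S) := hxy
    simpa using h2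
  have hflatB : Module.Flat B (B ⊗[A] MA) := by
    letI : Algebra S B := Algebra.TensorProduct.rightAlgebra
    have : IsScalarTower R S B := .of_algebraMap_eq fun r => by
      rw [RingHom.algebraMap_toAlgebra]
      show _ = (1 : A) ⊗ₜ[R] algebraMap R S r
      rw [Algebra.TensorProduct.algebraMap_apply, ← mul_one (algebraMap R A r),
        ← Algebra.smul_def, ← mul_one (algebraMap R S r), ← Algebra.smul_def, TensorProduct.smul_tmul]
    exact Module.Flat.of_linearEquiv ((AlgebraTensorModule.cancelBaseChange R A B B M).trans
      (AlgebraTensorModule.cancelBaseChange R S B B M).symm)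
  have hm : IsNilpotent (IsLocalRing.maximalIdeal A) := by
    have := IsArtinianRing.isNilpotent_jacobson_bot (R := A)
    rwa [IsLocalRing.jacobson_eq_maximalIdeal _ bot_ne_top] at this
  have := Groth.FlatMorOne.free_of_injective_of_flat_baseChange (A := A) (B := B) hm hinjB MA
  infer_instance

end Groth.Agent.S0398
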