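import Groth.Statements.S0399
import Groth.Agent.FlatMorOne.TorZero
import Mathlib.RingTheory.Flat.Localization
import Mathlib.RingTheory.Flat.Stability
import Mathlib.RingTheory.Localization.BaseChange

set_option autoImplicit false
universe u
open FlatMor

namespace Groth.Agent.S0399

open TensorProduct in
/-- For a ring A, a module M and an element f that is a nonzerodivisor on A and on M, if M_f is flat
over A_f and M/fM is flat over A/fA then M is flat over A (the source's companion statement for
faithful flatness is not stated). -/
theorem result {A M : Type u} [CommRing A] [AddCommGroup M] [Module A M] (f : A) (hA : f ∈ nonZeroDivisors A) (hM : IsSMulRegular M f)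
    [Module.Flat (Localization.Away f) (LocalizedModule (Submonoid.powers f) M)]
    [Module.Flat (A ⧸ Ideal.span {f}) ((A ⧸ Ideal.span {f}) ⊗[A] M)] : Module.Flat A M := by
  let Af := Localization.Away f
  let Mf := LocalizedModule (Submonoid.powers f) M
  have : Module.Flat A Af := IsLocalization.flat Af (Submonoid.powers f)
  have : Module.Flat A Mf := Module.Flat.trans A Af Mf
  let I := Ideal.span {f}
  have h1 : Function.Injective (I.subtype.rTensor M) := by
    let φ : A →ₗ[A] I := (LinearMap.toSpanSingleton A A f).codRestrict I fun a => by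
      simp only [LinearMap.toSpanSingleton_apply, smul_eq_mul]
      exact I.mul_mem_left a (Ideal.subset_span rfl)
    have hφ : Function.Surjective φ := by
      rintro ⟨x, hx⟩
      obtain ⟨a, rfl⟩ := Ideal.mem_span_singleton'.mp hx
      exact ⟨a, Subtype.ext rfl⟩
    rw [injective_iff_map_eq_zero]
    intro z hz
    obtain ⟨z, rfl⟩ := LinearMap.rTensor_surjective M hφ z
    obtain ⟨m, rfl⟩ := (TensorProduct.lid A M).symm.surjective z
    have e : I.subtype.rTensor M (φ.rTensor M ((TensorProduct.lid A M).symm m)) =
        (TensorProduct.lid A M).symm (f • m) := by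
      simp [φ, TensorProduct.smul_tmul']
    rw [e, LinearEquiv.map_eq_zero_iff] at hz
    rw [hM (hz.trans (smul_zero f).symm), map_zero, map_zero]
  rw [Module.Flat.iff_lTensor_injective]
  intro J _
  rw [injective_iff_map_eq_zero]
  intro z hz
  let g := LocalizedModule.mkLinearMap (Submonoid.powers f) M
  have hg0 : AlgebraTensorModule.rTensor A J g z = AlgebraTensorModule.rTensor A J g 0 := by
    rw [map_zero]
    apply Module.Flat.lTensor_preserves_injective_linearMap (M := Mf) J.subtype Subtype.val_injective
    show J.subtype.lTensor Mf (g.rTensor J z) = J.subtype.lTensor Mf 0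
    rw [map_zero, ← LinearMap.comp_apply, LinearMap.lTensor_comp_rTensor,
      ← LinearMap.rTensor_comp_lTensor, LinearMap.comp_apply, hz, map_zero]
  obtain ⟨⟨_, n, rfl⟩, hc⟩ :=
    IsLocalizedModule.exists_of_eq (S := Submonoid.powers f) (f := AlgebraTensorModule.rTensor A J g) hg0
  simp only [smul_zero, Submonoid.smul_def] at hc
  let μ : J →ₗ[A] J := (LinearMap.lsmul A J) (f ^ n)
  have hμ : Function.Injective μ := by
    intro x y hxy
    exact Subtype.ext ((mul_cancel_left_mem_nonZeroDivisors (pow_mem hA n)).mp
      (congrArg Subtype.val hxy :))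
  have hT : Groth.FlatMorOne.TorZero A M (J ⧸ LinearMap.range μ) := by
    refine Groth.FlatMorOne.torZero_of_pow_smul_eq_zero I h1 n _ fun a ha x => ?_
    obtain ⟨x, rfl⟩ := Submodule.mkQ_surjective _ x
    rw [Ideal.span_singleton_pow, Ideal.mem_span_singleton'] at ha
    obtain ⟨b, rfl⟩ := ha
    rw [← map_smul, Submodule.mkQ_apply, Submodule.Quotient.mk_eq_zero, mul_comm, mul_smul]
    exact ⟨b • x, rfl⟩
  have hz' := hT.lTensor_injective hμ (LinearMap.exact_map_mkQ_range μ) (Submodule.mkQ_surjective _)
  apply hz'
  rw [map_zero]
  refine Eq.trans ?_ hc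
  clear hz hg0 hc
  induction z with
  | zero => simp
  | tmul m x => simp only [μ, LinearMap.lTensor_tmul, LinearMap.lsmul_apply, TensorProduct.tmul_smul]
  | add a b ha hb => rw [map_add, smul_add, ha, hb]

end Groth.Agent.S0399
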