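import Groth.Statements.S0401
import Mathlib.RingTheory.QuasiFinite.Basic
import Mathlib.RingTheory.KrullDimension.Basic
import Mathlib.RingTheory.Localization.AtPrime.Basic

set_option autoImplicit false
universe u
open FlatMor

namespace Groth.Agent.S0401

/-- For a finite type ring map R → S quasi-finite at a prime q lying over p, the dimension of S_q is at
most the dimension of R_p. -/
theorem result {R S : Type u} [CommRing R] [CommRing S] [Algebra R S] [Algebra.FiniteType R S] (q : Ideal S) [q.IsPrime] [Algebra.QuasiFiniteAt R q] :
    ringKrullDim (Localization.AtPrime q) ≤ ringKrullDim (Localization.AtPrime (q.under R)) := by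
  let p := q.under R
  let A := Localization.AtPrime q
  let f : PrimeSpectrum A → PrimeSpectrum (Localization.AtPrime p) :=
    PrimeSpectrum.comap (Localization.localRingHom p q (algebraMap R S) rfl)
  refine Order.krullDim_le_of_strictMono f ?_
  intro P Q hPQ
  refine lt_of_le_of_ne (Ideal.comap_mono hPQ.le) fun h => hPQ.ne ?_
  have h' := congrArg (fun x : PrimeSpectrum _ =>
    x.asIdeal.comap (algebraMap R (Localization.AtPrime p))) h
  have e : (Localization.localRingHom p q (algebraMap R S) rfl).comp
      (algebraMap R (Localization.AtPrime p)) = algebraMap R A := by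
    ext r
    rw [RingHom.comp_apply, Localization.localRingHom_to_map, ← IsScalarTower.algebraMap_apply]
  simp only [f, PrimeSpectrum.comap_asIdeal, Ideal.comap_comap, e] at h'
  have : Algebra.QuasiFinite R A := inferInstanceAs (Algebra.QuasiFiniteAt R q)
  exact PrimeSpectrum.ext (Algebra.QuasiFinite.eq_of_le_of_under_eq P.asIdeal Q.asIdeal hPQ.le h')

end Groth.Agent.S0401
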