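import Groth.Statements.S0406
import Groth.Agent.RaynaudGruson.DomainFP

set_option autoImplicit false
universe u
open FlatMor

namespace Groth.Agent.S0406

/-- Raynaud–Gruson, algebra case: a flat finite type algebra over a domain is finitely presented. -/
theorem result {R S : Type u} [CommRing R] [IsDomain R] [CommRing S] [Algebra R S] [Algebra.FiniteType R S] [Module.Flat R S] :
    Algebra.FinitePresentation R S := by
  obtain ⟨n, φ, hφ⟩ := Algebra.FiniteType.iff_quotient_mvPolynomial''.mp ‹Algebra.FiniteType R S›
  letI : Algebra (MvPolynomial (Fin n) R) S := φ.toRingHom.toAlgebra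
  haveI : IsScalarTower R (MvPolynomial (Fin n) R) S :=
    IsScalarTower.of_algebraMap_eq fun r => (φ.commutes r).symm
  haveI : Module.Finite (MvPolynomial (Fin n) R) S := Module.Finite.of_surjective (Algebra.linearMap _ S) hφ
  haveI := Groth.RaynaudGruson.DomainFP.finitePresentation_of_flat R (MvPolynomial (Fin n) R) S
  haveI : Algebra.FinitePresentation (MvPolynomial (Fin n) R) S :=
    Algebra.FinitePresentation.of_finitePresentation _ S
  exact Algebra.FinitePresentation.trans R (MvPolynomial (Fin n) R) S

end Groth.Agent.S0406
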