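import Groth.Statements.S0409
import Groth.Agent.LocImm.DenseFinite
-- import your own Groth.Agent.* helpers here

set_option autoImplicit false
universe u
open FlatMor

namespace Groth.Agent.S0409


open AlgebraicGeometry CategoryTheory Limits in
/-- A quasi-finite morphism (locally of finite type, quasi-compact, with finite fibres) is finite over a
dense open subset of the target. -/
theorem result {Y X : Scheme.{u}} (f : Y ⟶ X) [LocallyQuasiFinite f] [LocallyOfFiniteType f] [QuasiCompact f] :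
    ∃ U : X.Opens, Dense (U : Set ↑X) ∧ IsFinite (f ∣_ U) := by
  let S : Set X.Opens := {V | IsFinite (f ∣_ V)}
  refine ⟨sSup S, ?_, ?_⟩
  · rw [dense_iff_inter_open]
    intro W hW hne
    obtain ⟨V, hVW, ⟨x, hx⟩, hfin⟩ :=
      Groth.LocImmersion.DenseFinite.exists_isFinite_restrict f (W := ⟨W, hW⟩) hne
    exact ⟨x, hVW hx, TopologicalSpace.Opens.mem_sSup.mpr ⟨V, hfin, hx⟩⟩
  · refine (IsZariskiLocalAtTarget.iff_of_iSup_eq_top (P := @IsFinite) (f := f ∣_ sSup S)
      (fun V : S => (sSup S).ι ⁻¹ᵁ V.1) ?_).mpr fun V => ?_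
    · refine top_le_iff.mp fun z _ => ?_
      obtain ⟨V, hV, hz⟩ := TopologicalSpace.Opens.mem_sSup.mp z.2
      exact TopologicalSpace.Opens.mem_iSup.mpr ⟨⟨V, hV⟩, hz⟩
    · rw [MorphismProperty.arrow_mk_iso_iff @IsFinite (morphismRestrictRestrict f (sSup S) _)]
      have h : (sSup S).ι ''ᵁ ((sSup S).ι ⁻¹ᵁ V.1) = V.1 := by
        rw [Scheme.Hom.image_preimage_eq_opensRange_inf, Scheme.Opens.opensRange_ι]
        exact inf_eq_right.mpr (le_sSup V.2)
      rw [h]; exact V.2

end Groth.Agent.S0409
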