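import Groth.Statements.S0416
import Groth.Agent.HTopHyper.UnivHomeo

set_option autoImplicit false
universe u
open FlatMor

namespace Groth.Agent.S0416

open AlgebraicGeometry CategoryTheory Limits in
/-- When a composite of two morphisms is a universal homeomorphism and so is either factor, the
remaining factor is a universal homeomorphism as well. -/
theorem result {X Y Z : Scheme.{u}} (g : X ⟶ Y) (h : Y ⟶ Z) :
    (FlatMor.IsUnivHomeo (g ≫ h) → FlatMor.IsUnivHomeo g → FlatMor.IsUnivHomeo h) ∧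
    (FlatMor.IsUnivHomeo (g ≫ h) → FlatMor.IsUnivHomeo h → FlatMor.IsUnivHomeo g) := by
  refine ⟨fun hgh hg => ?_, fun hgh hh => ?_⟩
  · have := Groth.HTopHyper.surjective_of_isUnivHomeo hg
    exact Groth.HTopHyper.isUnivHomeo_of_comp_surjective g h hgh
  · obtain ⟨h1, h2, h3⟩ := Groth.HTopHyper.isUnivHomeo_iff.mp hgh
    obtain ⟨k1, k2, k3⟩ := Groth.HTopHyper.isUnivHomeo_iff.mp hh
    refine Groth.HTopHyper.isUnivHomeo_iff.mpr ⟨IsIntegralHom.of_comp g h, ?_, ?_⟩
    · refine ((tfae_universallyInjective g).out 0 1 rfl rfl).mpr fun K _ a b hab => ?_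
      have inj : Function.Injective fun a : Spec (.of K) ⟶ X ↦ a ≫ g ≫ h :=
        ((tfae_universallyInjective (g ≫ h)).out 0 1 rfl rfl).mp h2 K
      exact inj (by simp only at hab ⊢; rw [reassoc_of% hab])
    · refine ⟨fun y => ?_⟩
      obtain ⟨x, hx⟩ := h3.surj (h y)
      exact ⟨x, h.injective (by rw [← Scheme.Hom.comp_apply]; exact hx)⟩

end Groth.Agent.S0416
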