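import Groth.Statements.S0417
import Mathlib.AlgebraicGeometry.Morphisms.Finite
import Mathlib.AlgebraicGeometry.Morphisms.Proper
import Groth.Agent.FlatMorOne.ClosedImmNil

set_option autoImplicit false
universe u
open FlatMor

namespace Groth.Agent.S0417

open AlgebraicGeometry CategoryTheory Limits in
/-- Let i : S' → S be a closed immersion that is bijective on points and f : X → S a morphism of finite
type (locally of finite type and quasi-compact) whose base change X ×_S S' → S' is a closed
immersion. Then f is a closed immersion. The published statement alternatively allows S' → S of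
finite presentation in place of the finite-type hypothesis on f; only the first alternative is
stated. -/
theorem result {X S S' : Scheme.{u}} (f : X ⟶ S) (i : S' ⟶ S) [IsClosedImmersion i] (hi : Function.Bijective i)
    [LocallyOfFiniteType f] [QuasiCompact f] [IsClosedImmersion (pullback.snd f i)] : IsClosedImmersion f := by
  -- topology: `f` is a closed embedding, hence affine, and universally closed
  have : Surjective i := ⟨hi.2⟩
  let p1 := pullback.fst f i
  let p2 := pullback.snd f i
  have : Surjective p1 := inferInstance
  have : IsClosedImmersion p1 := inferInstance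
  have hfac : p1 ≫ f = p2 ≫ i := pullback.condition
  have : IsClosedImmersion (p1 ≫ f) := by rw [hfac]; infer_instance
  have hhomeo : IsHomeomorph p1 := isHomeomorph_iff_isEmbedding_surjective.mpr
    ⟨p1.isClosedEmbedding.isEmbedding, p1.surjective⟩
  have hemb : Topology.IsClosedEmbedding f := by
    have h := (p1 ≫ f).isClosedEmbedding
    let e := hhomeo.homeomorph
    have : (f : X → S) = (p1 ≫ f) ∘ e.symm := by
      funext x
      exact congrArg f (e.apply_symm_apply x).symm
    rw [this]
    exact h.comp e.symm.isClosedEmbedding
  have : IsAffineHom f := isAffineHom_of_isInducing f hemb.isInducing hemb.isClosed_range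
  have : UniversallyClosed f := .of_comp_surjective p1 f
  have : IsIntegralHom f := IsIntegralHom.iff_universallyClosed_and_isAffineHom.mpr ⟨‹_›, ‹_›⟩
  have : IsFinite f := (IsFinite.iff_isIntegralHom_and_locallyOfFiniteType f).mpr ⟨‹_›, ‹_›⟩
  rw [IsZariskiLocalAtTarget.iff_of_openCover (P := @IsClosedImmersion) S.affineCover]
  intro j
  let g : pullback f (S.affineCover.f j) ⟶ S.affineCover.X j := pullback.snd _ _
  let i' : pullback i (S.affineCover.f j) ⟶ S.affineCover.X j := pullback.snd _ _
  have : IsClosedImmersion (pullback.snd g i') := by
    let k := pullback.fst i (S.affineCover.f j)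
    have h1 : IsPullback (pullback.fst g i' ≫ pullback.fst f (S.affineCover.f j)) (pullback.snd g i') f
        (i' ≫ S.affineCover.f j) :=
      (IsPullback.of_hasPullback g i').paste_horiz (IsPullback.of_hasPullback f (S.affineCover.f j))
    rw [← pullback.condition (f := i) (g := S.affineCover.f j)] at h1
    have h2 : IsPullback (pullback.lift (pullback.fst g i' ≫ pullback.fst f (S.affineCover.f j))
        (pullback.snd g i' ≫ k) (by simpa using h1.w)) (pullback.snd g i') p2 k := by
      refine IsPullback.of_right ?_ (pullback.lift_snd _ _ _) (IsPullback.of_hasPullback f i)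
      rw [pullback.lift_fst]
      exact h1
    exact MorphismProperty.of_isPullback h2 inferInstance
  exact Groth.FlatMorOne.isClosedImmersion_of_isFinite_of_nil g i'

end Groth.Agent.S0417
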