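import Groth.Statements.S0418
import Groth.Agent.PropsBasic.UnivHomeoTower
import Mathlib.Algebra.CharP.Reduced
import Mathlib.RingTheory.Coprime.Lemmas

set_option autoImplicit false
set_option linter.style.haveILetI false
universe u
open FlatMor

namespace Groth.Agent.S0418

open Groth.PropsBasic.UH

open AlgebraicGeometry in
/-- For a prime number p and a ring map A → B that becomes an isomorphism after inverting p, Spec B →
Spec A is a universal homeomorphism if and only if the kernel consists of nilpotents and every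
element of B has some p-power multiple and p-power power in the image. -/
theorem result {A B : Type u} [CommRing A] [CommRing B] (φ : A →+* B) (p : ℕ) (hp : p.Prime)
    (h : Function.Bijective (Localization.awayMap φ (p : A))) :
    FlatMor.IsUnivHomeo (Spec.map (CommRingCat.ofHom φ)) ↔
      (∀ a ∈ RingHom.ker φ, IsNilpotent a) ∧ ∀ b : B, ∃ n : ℕ, (p ^ n : B) * b ∈ φ.range ∧ b ^ (p ^ n) ∈ φ.range := by
  have hp0 : 0 < p := hp.pos
  have hloc : ∀ b : B, ∃ n : ℕ, (p ^ n : B) * b ∈ φ.range := by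
    intro b
    obtain ⟨z, hz⟩ := h.2 (algebraMap B (Localization.Away (φ (p : A))) b)
    obtain ⟨k, a, ha⟩ := IsLocalization.Away.surj (p : A) z
    have h1 := congrArg (Localization.awayMap φ (p : A)) ha
    rw [map_mul, hz, map_pow] at h1
    simp only [Localization.awayMap, IsLocalization.Away.map, IsLocalization.map_eq] at h1
    rw [← map_pow, ← map_mul] at h1
    obtain ⟨⟨_, m, rfl⟩, hm⟩ := (IsLocalization.eq_iff_exists (Submonoid.powers (φ (p : A)))
      (Localization.Away (φ (p : A)))).1 h1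
    refine ⟨m + k, (p : A) ^ m * a, ?_⟩
    simp only [map_natCast] at hm
    rw [map_mul, map_pow, map_natCast, ← hm, pow_add]
    ring
  constructor
  · intro hU
    obtain ⟨hint, hui, hsur⟩ := (spec_isUnivHomeo_iff φ).1 hU
    refine ⟨fun a ha => nilpotent_iff_mem_prime.2 fun P hP => ?_, ?_⟩
    · obtain ⟨Q, hQ⟩ := hsur ⟨P, hP⟩
      have h2 : P = Q.asIdeal.comap φ := congrArg PrimeSpectrum.asIdeal hQ.symm
      rw [h2, Ideal.mem_comap, RingHom.mem_ker.1 ha]
      exact Q.asIdeal.zero_mem
    -- the set of elements with a `p`-power power in the image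
    have hmono : ∀ {b : B} {n : ℕ}, b ^ p ^ n ∈ φ.range → ∀ m, n ≤ m → b ^ p ^ m ∈ φ.range := by
      intro b n hb m hnm
      obtain ⟨d, rfl⟩ := Nat.exists_eq_add_of_le hnm
      rw [pow_add, pow_mul]
      exact pow_mem hb _
    have hadd : ∀ {b c : B}, (∃ n, b ^ p ^ n ∈ φ.range) → (∃ n, c ^ p ^ n ∈ φ.range) →
        ∃ n, (b + c) ^ p ^ n ∈ φ.range := by
      rintro b c ⟨n₁, h₁⟩ ⟨n₂, h₂⟩
      set n := max n₁ n₂
      have hb := hmono h₁ n (le_max_left _ _)
      have hc := hmono h₂ n (le_max_right _ _)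
      choose f hf using hloc
      set M := (Finset.range (p ^ n) ×ˢ Finset.range (p ^ n)).sup fun rs => f (b ^ rs.1 * c ^ rs.2)
      refine ⟨M + n, ?_⟩
      rw [add_pow]
      refine sum_mem fun i hi => ?_
      have hi' : i ≤ p ^ (M + n) := Nat.lt_succ_iff.1 (Finset.mem_range.1 hi)
      set j := p ^ (M + n) - i with hj
      by_cases hdvd : p ^ n ∣ i
      · obtain ⟨q, rfl⟩ := hdvd
        obtain ⟨q', hq'⟩ : p ^ n ∣ j := Nat.dvd_sub (pow_dvd_pow p (Nat.le_add_left n M)) (Dvd.intro q rfl)
        rw [hq', pow_mul, pow_mul]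
        exact mul_mem (mul_mem (pow_mem hb _) (pow_mem hc _)) (natCast_mem _ _)
      · have hC : p ^ M ∣ (p ^ (M + n)).choose i := by
          obtain ⟨i', rfl⟩ : ∃ i', i = i' + 1 :=
            ⟨i - 1, by
              have : i ≠ 0 := fun h0 => hdvd (by rw [h0]; exact dvd_zero _)
              omega⟩
          have h1 : (p ^ (M + n)) ∣ (p ^ (M + n)).choose (i' + 1) * (i' + 1) := by
            have h0 := Nat.add_one_mul_choose_eq (p ^ (M + n) - 1) i'
            rw [Nat.sub_add_cancel (Nat.one_le_pow _ _ hp0)] at h0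
            exact h0 ▸ dvd_mul_right _ _
          obtain ⟨k, m, hm, hkm⟩ := Nat.exists_eq_pow_mul_and_not_dvd (Nat.succ_ne_zero i') p hp.ne_one
          rw [show i' + 1 = p ^ k * m from hkm] at h1 hdvd ⊢
          have hk : k ≤ n := by
            by_contra hk
            exact hdvd (Dvd.dvd.mul_right (pow_dvd_pow p (by omega)) m)
          have h2 : p ^ (M + n - k) * p ^ k ∣ ((p ^ (M + n)).choose (p ^ k * m) * m) * p ^ k := by
            rw [← pow_add, Nat.sub_add_cancel (by omega), mul_assoc, mul_comm m]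
            exact h1
          have h3 := Nat.dvd_of_mul_dvd_mul_right (pow_pos hp0 k) h2
          have h4 := (Nat.Coprime.dvd_of_dvd_mul_right
            (Nat.Coprime.pow_left _ (hp.coprime_iff_not_dvd.2 hm)) h3)
          exact (pow_dvd_pow p (by omega)).trans h4
        obtain ⟨t, ht⟩ := hC
        have hrs : f (b ^ (i % p ^ n) * c ^ (j % p ^ n)) ≤ M :=
          Finset.le_sup (f := fun rs => f (b ^ rs.1 * c ^ rs.2)) (b := (i % p ^ n, j % p ^ n))
            (Finset.mem_product.2 ⟨Finset.mem_range.2 (Nat.mod_lt _ (pow_pos hp0 _)),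
              Finset.mem_range.2 (Nat.mod_lt _ (pow_pos hp0 _))⟩)
        obtain ⟨d, hd⟩ := Nat.exists_eq_add_of_le hrs
        have key : b ^ i * c ^ j * ((p ^ (M + n)).choose i : B) =
            ((b ^ p ^ n) ^ (i / p ^ n) * (c ^ p ^ n) ^ (j / p ^ n)) * ((p : B) ^ d * (t : B)) *
              ((p : B) ^ f (b ^ (i % p ^ n) * c ^ (j % p ^ n)) * (b ^ (i % p ^ n) * c ^ (j % p ^ n))) := by
          rw [ht]
          have e1 : b ^ i = (b ^ p ^ n) ^ (i / p ^ n) * b ^ (i % p ^ n) := by
            rw [← pow_mul, ← pow_add, Nat.div_add_mod]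
          have e2 : c ^ j = (c ^ p ^ n) ^ (j / p ^ n) * c ^ (j % p ^ n) := by
            rw [← pow_mul, ← pow_add, Nat.div_add_mod]
          rw [e1, e2, show p ^ M = p ^ (f (b ^ (i % p ^ n) * c ^ (j % p ^ n))) * p ^ d by
            rw [← pow_add, ← hd]]
          push_cast
          ring
        rw [key]
        exact mul_mem (mul_mem (mul_mem (pow_mem hb _) (pow_mem hc _))
          (mul_mem (pow_mem (natCast_mem _ _) _) (natCast_mem _ _))) (hf _)
    letI := φ.toAlgebra
    let T : Subalgebra A B :=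
      { carrier := {b | ∃ n, b ^ p ^ n ∈ φ.range}
        algebraMap_mem' := fun a => ⟨0, by rw [pow_zero, pow_one]; exact ⟨a, rfl⟩⟩
        add_mem' := fun hb hc => hadd hb hc
        mul_mem' := fun {b c} ⟨n, hn⟩ ⟨m, hm⟩ => ⟨max n m, by
          rw [mul_pow]
          exact mul_mem (hmono hn _ (le_max_left _ _)) (hmono hm _ (le_max_right _ _))⟩ }
    have hrange : ∀ y : B, y ∈ φ.range → y ∈ T := fun y ⟨a, ha⟩ => ha ▸ T.algebraMap_mem a
    have hstep : ∀ (C : Subalgebra A B), C ≤ T → ∀ x, SQP C x → x ∈ T := by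
      intro C hC x hx
      have hpow : x ^ p ∈ T → x ∈ T := fun ⟨n, hn⟩ => ⟨n + 1, by
        rw [pow_succ', pow_mul]; exact hn⟩
      rcases hx with ⟨h2, h3⟩ | ⟨l, hl, hlx, hxl⟩
      · refine hpow ?_
        obtain ⟨e, he⟩ : ∃ e, p = 2 * e ∨ p = 2 * e + 3 := by
          rcases Nat.even_or_odd' p with ⟨e, he | he⟩
          · exact ⟨e, Or.inl he⟩
          · exact ⟨e - 1, Or.inr (by have := hp.two_le; omega)⟩
        rcases he with rfl | rfl
        · rw [pow_mul]; exact pow_mem (hC h2) _
        · rw [pow_add, pow_mul]; exact mul_mem (pow_mem (hC h2) _) (hC h3)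
      · rcases eq_or_ne l p with rfl | hne
        · exact hpow (hC hxl)
        · obtain ⟨n, hn⟩ := hloc x
          have hco : Nat.Coprime l (p ^ n) :=
            Nat.Coprime.pow_right _ ((Nat.coprime_primes hl hp).2 hne)
          obtain ⟨u, v, huv⟩ := (Nat.isCoprime_iff_coprime.2 hco)
          have hx' : x = (u : B) * ((l : B) * x) + (v : B) * ((p : B) ^ n * x) := by
            have h5 : ((u : B) * (l : B) + (v : B) * (p : B) ^ n) = 1 := by
              have := congrArg (fun z : ℤ => (z : B)) huv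
              simpa using this
            rw [← mul_assoc, ← mul_assoc, ← add_mul, h5, one_mul]
          rw [hx']
          exact add_mem (mul_mem (intCast_mem _ _) (hC hlx)) (mul_mem (intCast_mem _ _) (hrange _ hn))
    intro b
    obtain ⟨l, hl, hb⟩ := reach_SQP_eq_top (A := A) (B := B) hint hui b
    obtain ⟨n, hn⟩ := hl.le_of_forall (S := T) hstep hb
    obtain ⟨m, hm⟩ := hloc b
    refine ⟨max n m, ?_, hmono hn _ (le_max_left _ _)⟩
    obtain ⟨d, hd⟩ := Nat.exists_eq_add_of_le (le_max_right n m)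
    rw [hd, pow_add, mul_comm ((p : B) ^ m), mul_assoc]
    exact mul_mem (pow_mem (natCast_mem _ _) _) hm
  · rintro ⟨hk, hb⟩
    have hint : φ.IsIntegral := fun b => by
      obtain ⟨n, -, a, ha⟩ := hb b
      refine ⟨Polynomial.X ^ p ^ n - Polynomial.C a,
        Polynomial.monic_X_pow_sub_C a (pow_ne_zero _ hp0.ne'), ?_⟩
      simp [ha]
    refine (spec_isUnivHomeo_iff φ).2 ⟨hint, fun K _ g₁ g₂ e => RingHom.ext fun b => ?_,
      comap_surjective_of_isIntegral hint fun a ha => hk a ha⟩
    obtain ⟨n, ⟨a₁, ha₁⟩, ⟨a₂, ha₂⟩⟩ := hb b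
    have e' : ∀ a, g₁ (φ a) = g₂ (φ a) := fun a => RingHom.congr_fun e a
    by_cases hK : (p : K) = 0
    · haveI := Fact.mk hp
      haveI : CharP K p := (CharP.charP_iff_prime_eq_zero hp).2 hK
      have h1 := e' a₂
      rw [ha₂, map_pow, map_pow] at h1
      exact (iterateFrobenius_inj K p n) (by simpa [iterateFrobenius_def] using h1)
    · have h1 := e' a₁
      rw [ha₁, map_mul, map_mul, map_pow, map_pow, map_natCast, map_natCast] at h1
      exact mul_left_cancel₀ (pow_ne_zero n hK) h1

end Groth.Agent.S0418
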