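import Groth.Statements.S0428
import Groth.Agent.RaynaudGruson.DomainFP

set_option autoImplicit false
universe u
open FlatMor

namespace Groth.Agent.S0428

/-- Let R be a domain, S an R-algebra of finite type and M a finite S-module. Then the set of primes q
of S such that the localization M_q is flat over R is open in Spec S. (The published statement
assumes only that R has finitely many weakly associated primes, which a domain has, and also
describes the module over principal opens inside this set; neither refinement is stated here.) -/
theorem result {R S M : Type u} [CommRing R] [IsDomain R] [CommRing S] [Algebra R S] [Algebra.FiniteType R S]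
    [AddCommGroup M] [Module S M] [Module R M] [IsScalarTower R S M] [Module.Finite S M] :
    IsOpen {q : PrimeSpectrum S | Module.Flat R (LocalizedModule q.asIdeal.primeCompl M)} := by
  obtain ⟨n, φ, hφ⟩ := Algebra.FiniteType.iff_quotient_mvPolynomial''.mp ‹Algebra.FiniteType R S›
  letI : Algebra (MvPolynomial (Fin n) R) S := φ.toRingHom.toAlgebra
  haveI : IsScalarTower R (MvPolynomial (Fin n) R) S :=
    IsScalarTower.of_algebraMap_eq fun r => (φ.commutes r).symm
  letI : Module (MvPolynomial (Fin n) R) M := Module.compHom M φ.toRingHom
  haveI : IsScalarTower (MvPolynomial (Fin n) R) S M := IsScalarTower.of_algebraMap_smul fun p m => rfl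
  haveI : IsScalarTower R (MvPolynomial (Fin n) R) M := IsScalarTower.of_algebraMap_smul fun r m => by
    show φ (algebraMap R (MvPolynomial (Fin n) R) r) • m = r • m
    rw [φ.commutes, algebraMap_smul]
  haveI : Module.Finite (MvPolynomial (Fin n) R) S := Module.Finite.of_surjective (Algebra.linearMap _ S) hφ
  haveI : Module.Finite (MvPolynomial (Fin n) R) M := Module.Finite.trans S M
  convert (Groth.RaynaudGruson.DomainFP.isOpen_flatLocus R (MvPolynomial (Fin n) R) M).preimage
    (PrimeSpectrum.continuous_comap φ.toRingHom) using 1
  ext q
  simp only [Set.mem_preimage, Set.mem_ofPred_eq, Groth.RaynaudGruson.FlatPred.flat_iff]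
  constructor
  · exact Groth.RaynaudGruson.FlatPred.Pred.of_dvd fun u hu => by
      obtain ⟨p, rfl⟩ := hφ u
      exact ⟨p, 1, hu, fun m => one_smul _ _⟩
  · exact Groth.RaynaudGruson.FlatPred.Pred.of_dvd fun p hp => ⟨φ p, 1, hp, fun m => one_smul _ _⟩

end Groth.Agent.S0428
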