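import Groth.Statements.S0429
import Groth.Agent.S0406

set_option autoImplicit false
universe u
open FlatMor

namespace Groth.Agent.S0429

open AlgebraicGeometry CategoryTheory Limits in
/-- A flat morphism locally of finite type to an integral scheme is locally of finite presentation. -/
theorem result {X S : Scheme.{u}} (f : X ⟶ S) [IsIntegral S] [Flat f] [LocallyOfFiniteType f] : LocallyOfFinitePresentation f := by
  rw [HasRingHomProperty.iff_appLE (P := @LocallyOfFinitePresentation)]
  intro U V e
  have hfl : (f.appLE U.1 V.1 e).hom.Flat := HasRingHomProperty.appLE @Flat f ‹_› U V e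
  have hft : (f.appLE U.1 V.1 e).hom.FiniteType :=
    HasRingHomProperty.appLE @LocallyOfFiniteType f ‹_› U V e
  rcases isEmpty_or_nonempty (V.1 : X.Opens) with hV | hV
  · have : V.1 = ⊥ := eq_bot_iff.mpr fun x hx => (hV.false ⟨x, hx⟩).elim
    haveI : Subsingleton Γ(X, V.1) := by rw [this]; infer_instance
    refine RingHom.FinitePresentation.of_surjective _ (fun x => ⟨0, Subsingleton.elim _ _⟩) ?_
    rw [show RingHom.ker (f.appLE U.1 V.1 e).hom = ⊤ from eq_top_iff.mpr fun x _ => Subsingleton.elim _ _]
    exact ⟨{1}, by simp [Ideal.span_singleton_one, Ideal.submodule_span_eq]⟩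
  · obtain ⟨⟨x, hx⟩⟩ := hV
    haveI : Nonempty (U.1 : S.Opens) := ⟨⟨f x, e hx⟩⟩
    letI := (f.appLE U.1 V.1 e).hom.toAlgebra
    haveI : Algebra.FiniteType Γ(S, U.1) Γ(X, V.1) := hft
    haveI : Module.Flat Γ(S, U.1) Γ(X, V.1) := hfl
    exact Groth.Agent.S0406.result

end Groth.Agent.S0429
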