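import Groth.Statements.S0432
import Groth.Agent.SpecFerrand.Covers

set_option autoImplicit false
universe u
open FlatMor

namespace Groth.Agent.S0432

open AlgebraicGeometry CategoryTheory Limits in
/-- The pushout of two closed immersions Z → X and Z → Y exists in schemes, both maps into it are closed
immersions and the square is cartesian. -/
theorem result {X Y Z : Scheme.{u}} (i : Z ⟶ X) (j : Z ⟶ Y) [IsClosedImmersion i] [IsClosedImmersion j] :
    ∃ (P : Scheme.{u}) (a : X ⟶ P) (b : Y ⟶ P), IsPushout i j a b ∧ IsPullback i j a b ∧ IsClosedImmersion a ∧ IsClosedImmersion b := by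
  have hc : Groth.SpecFerrand.Glue.Covers i j := Groth.SpecFerrand.Glue.covers_of_fibres i j fun y => by
    by_cases h : (j ⁻¹' {y}).Nonempty
    · obtain ⟨z, hz⟩ := h
      obtain ⟨U, hU, hzU, -⟩ := exists_isAffineOpen_mem_and_subset (x := i z) (U := ⊤) trivial
      refine ⟨U, hU, fun w hw => ?_⟩
      rw [j.isClosedEmbedding.injective (hw.trans hz.symm : j w = j z)]
      exact hzU
    · exact ⟨⊥, isAffineOpen_bot X, fun w hw => (h ⟨w, hw⟩).elim⟩
  exact ⟨_, _, _, Groth.SpecFerrand.Glue.isPushout hc, Groth.SpecFerrand.Glue.isPullback hc,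
    Groth.SpecFerrand.Glue.isClosedImmersion_a i j hc, Groth.SpecFerrand.Glue.isClosedImmersion_b hc⟩

end Groth.Agent.S0432
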