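import Groth.Statements.S0433
import Groth.Agent.SpecFerrand.Basic

set_option autoImplicit false
universe u
open FlatMor

namespace Groth.Agent.S0433

open AlgebraicGeometry CategoryTheory Limits in
/-- For a surjective ring map A' → A and any ring map B → A, the spectra of A, A', B and of the fibre
product ring B ×_A A' form a pushout square of schemes. -/
theorem result {A A' B : Type u} [CommRing A] [CommRing A'] [CommRing B] (p : A' →+* A) (hp : Function.Surjective p) (q : B →+* A) :
    IsPushout (Spec.map (CommRingCat.ofHom p)) (Spec.map (CommRingCat.ofHom q))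
      (Spec.map (pullback.snd (CommRingCat.ofHom q) (CommRingCat.ofHom p)))
      (Spec.map (pullback.fst (CommRingCat.ofHom q) (CommRingCat.ofHom p))) := by
  have hsq : Groth.SpecFerrand.Sq (pullback.fst (CommRingCat.ofHom q) (CommRingCat.ofHom p)).hom
      (pullback.snd (CommRingCat.ofHom q) (CommRingCat.ofHom p)).hom q p := by
    refine ⟨congrArg CommRingCat.Hom.hom (pullback.condition (f := CommRingCat.ofHom q) (g := CommRingCat.ofHom p)),
      hp, fun b a hab => ?_⟩
    let c := CommRingCat.pullbackCone (CommRingCat.ofHom q) (CommRingCat.ofHom p)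
    let i := (CommRingCat.pullbackConeIsLimit (CommRingCat.ofHom q) (CommRingCat.ofHom p)).conePointUniqueUpToIso
      (limit.isLimit (cospan (CommRingCat.ofHom q) (CommRingCat.ofHom p)))
    have h1 : i.hom ≫ pullback.fst _ _ = c.fst := IsLimit.conePointUniqueUpToIso_hom_comp _ _ WalkingCospan.left
    have h2 : i.hom ≫ pullback.snd _ _ = c.snd := IsLimit.conePointUniqueUpToIso_hom_comp _ _ WalkingCospan.right
    refine ⟨i.hom ⟨(b, a), hab⟩, ⟨congr($(h1).hom ⟨(b, a), hab⟩), congr($(h2).hom ⟨(b, a), hab⟩)⟩, ?_⟩
    rintro x ⟨hx1, hx2⟩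
    obtain ⟨y, rfl⟩ := i.commRingCatIsoToRingEquiv.surjective x
    refine congrArg _ (Subtype.ext (Prod.ext ?_ ?_))
    · exact (congr($(h1).hom y)).symm.trans hx1
    · exact (congr($(h2).hom y)).symm.trans hx2
  exact (Groth.SpecFerrand.isPushout_Sp hsq).flip

end Groth.Agent.S0433
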