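import Groth.Statements.S0436
import Mathlib
import Groth.Agent.FlatMorOne.DVRFibre

set_option autoImplicit false
universe u
open FlatMor

namespace Groth.Agent.S0436

open AlgebraicGeometry CategoryTheory Limits in
/-- For a proper flat morphism to the spectrum of a discrete valuation ring whose special fibre is
reduced, both the total space and the generic fibre are reduced. (The published statement is
stronger: instead of flatness it only needs every irreducible component of the total space to
dominate the base.) -/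
theorem result {R : Type u} [CommRing R] [IsDomain R] [IsDiscreteValuationRing R] {X : Scheme.{u}}
    (f : X ⟶ Spec (CommRingCat.of R)) [IsProper f] [Flat f]
    (hred : IsReduced (f.fiber (IsLocalRing.closedPoint R))) :
    IsReduced X ∧ IsReduced (f.fiber (⟨⊥, Ideal.isPrime_bot⟩ : PrimeSpectrum R)) := by
  classical
  obtain ⟨ϖ, hϖ⟩ := IsDiscreteValuationRing.exists_irreducible R
  have hX : IsReduced X := by
    have : IsLocallyNoetherian X := LocallyOfFiniteType.isLocallyNoetherian f
    refine @isReduced_of_isReduced_stalk X (fun x => ?_)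
    -- a specialization of `x` over the closed point
    obtain ⟨y, hxy, hy⟩ : ∃ y, x ⤳ y ∧ f y = IsLocalRing.closedPoint R := by
      have hcl : IsClosed (f '' closure {x}) := f.isClosedMap _ isClosed_closure
      have hmem : IsLocalRing.closedPoint R ∈ f '' closure {x} :=
        IsLocalRing.specializes_closedPoint (f x) |>.mem_closed hcl ⟨x, subset_closure rfl, rfl⟩
      obtain ⟨y, hy, hy'⟩ := hmem
      exact ⟨y, specializes_iff_mem_closure.mpr hy, hy'⟩
    obtain ⟨U, hU, hyU, -⟩ := exists_isAffineOpen_mem_and_subset (x := y) (U := ⊤) trivial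
    have hxU : x ∈ U := hxy.mem_open U.2 hyU
    obtain ⟨φ, hφ, hreg, hrad⟩ :=
      Groth.FlatMorOne.exists_algebra_of_affine f hred hU.fromSpec hϖ
    have : IsNoetherianRing Γ(X, U) := IsLocallyNoetherian.component_noetherian ⟨U, hU⟩
    have hPϖ : φ ϖ ∈ (hU.primeIdealOf ⟨y, hyU⟩).asIdeal := by
      have h1 : Spec.map φ (hU.primeIdealOf ⟨y, hyU⟩) = IsLocalRing.closedPoint R := by
        rw [← hφ]
        show f (hU.fromSpec (hU.primeIdealOf ⟨y, hyU⟩)) = _
        exact (congrArg f (hU.fromSpec_primeIdealOf ⟨y, hyU⟩)).trans hy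
      have h2 : ϖ ∈ (IsLocalRing.closedPoint R).asIdeal := by
        show ϖ ∈ IsLocalRing.maximalIdeal R
        exact hϖ.not_isUnit
      rw [← h1] at h2
      exact h2
    have hle : (hU.primeIdealOf ⟨x, hxU⟩).asIdeal ≤ (hU.primeIdealOf ⟨y, hyU⟩).asIdeal := by
      refine (PrimeSpectrum.le_iff_specializes _ _).mpr ?_
      refine hU.fromSpec.isOpenEmbedding.isInducing.specializes_iff.mp ?_
      have e1 := hU.fromSpec_primeIdealOf ⟨x, hxU⟩
      have e2 := hU.fromSpec_primeIdealOf ⟨y, hyU⟩
      exact (congrArg (· ⤳ _) e1).mpr ((congrArg (x ⤳ ·) e2).mpr hxy)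
    set N := nilradical Γ(X, U)
    have hN : N ≤ Ideal.span {φ ϖ} • N := by
      intro a ha
      obtain ⟨n, hn⟩ := ha
      obtain ⟨b, rfl⟩ := hrad a n (hn ▸ dvd_zero _)
      refine Submodule.smul_mem_smul (Ideal.mem_span_singleton_self _) ⟨n, ?_⟩
      rw [mul_pow] at hn
      clear hrad
      induction n with
      | zero => simpa using hn
      | succ k ih =>
        have : ∀ m : ℕ, ∀ c : Γ(X, U), φ ϖ ^ m * c = 0 → c = 0 := by
          intro m
          induction m with
          | zero => simp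
          | succ m ihm => intro c hc; rw [pow_succ, mul_assoc] at hc; exact hreg c (ihm _ hc)
        exact this _ _ hn
    obtain ⟨r, hr1, hr0⟩ := Submodule.exists_sub_one_mem_and_smul_eq_zero_of_fg_of_le_smul
      (Ideal.span {φ ϖ}) N (IsNoetherian.noetherian N) hN
    have hrQ : r ∈ (hU.primeIdealOf ⟨x, hxU⟩).asIdeal.primeCompl := by
      intro hr
      have h3 := hle hr
      obtain ⟨c, hc⟩ := Ideal.mem_span_singleton.mp hr1
      apply (hU.primeIdealOf ⟨y, hyU⟩).2.ne_top
      rw [Ideal.eq_top_iff_one, show (1 : Γ(X, U)) = r - (r - 1) by ring, hc]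
      exact Ideal.sub_mem _ h3 (Ideal.mul_mem_right _ _ hPϖ)
    letI : Algebra Γ(X, U) (X.presheaf.stalk x) := X.presheaf.algebra_section_stalk ⟨x, hxU⟩
    have := hU.isLocalization_stalk ⟨x, hxU⟩
    refine ⟨fun z hz => ?_⟩
    obtain ⟨a, s, rfl⟩ := IsLocalization.exists_mk'_eq (hU.primeIdealOf ⟨x, hxU⟩).asIdeal.primeCompl z
    obtain ⟨n, hn⟩ := hz
    rw [← IsLocalization.mk'_pow, IsLocalization.mk'_eq_zero_iff] at hn
    obtain ⟨t, ht⟩ := hn
    rw [IsLocalization.mk'_eq_zero_iff]
    refine ⟨⟨r * t, Submonoid.mul_mem _ hrQ t.2⟩, ?_⟩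
    have hta : (t : Γ(X, U)) * a ∈ N := by
      refine ⟨n + 1, ?_⟩
      calc ((t : Γ(X, U)) * a) ^ (n + 1) = (t : Γ(X, U)) ^ n * a * (t * a ^ n) := by ring
        _ = 0 := by rw [ht, mul_zero]
    simpa [mul_assoc] using hr0 _ hta
  have := Groth.FlatMorOne.isOpenImmersion_fromSpecResidueField_generic (R := R)
  have hoi : IsOpenImmersion (f.fiberι (⟨⊥, Ideal.isPrime_bot⟩ : PrimeSpectrum R)) :=
    MorphismProperty.pullback_fst (P := @IsOpenImmersion) f _ this
  exact ⟨hX, @isReduced_of_isOpenImmersion _ _ (f.fiberι (⟨⊥, Ideal.isPrime_bot⟩ : PrimeSpectrum R)) hoi hX⟩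

end Groth.Agent.S0436
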