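import Groth.Statements.S0438
import Groth.Agent.ValReduced.Scheme

set_option autoImplicit false
universe u
open FlatMor

namespace Groth.Agent.S0438

open AlgebraicGeometry CategoryTheory Limits in
/-- For a proper flat morphism to the spectrum of a valuation ring whose special fibre is reduced, the
total space and every fibre are reduced. -/
theorem result {R : Type u} [CommRing R] [IsDomain R] [ValuationRing R] {X : Scheme.{u}}
    (f : X ⟶ Spec (CommRingCat.of R)) [IsProper f] [Flat f]
    (hred : IsReduced (f.fiber (IsLocalRing.closedPoint R))) :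
    IsReduced X ∧ ∀ s : ↑(Spec (CommRingCat.of R)), IsReduced (f.fiber s) := by
  let e : R ≃+* Γ(Spec (CommRingCat.of R), ⊤) :=
    (Scheme.ΓSpecIso (CommRingCat.of R)).symm.commRingCatIsoToRingEquiv
  haveI : IsDomain Γ(Spec (CommRingCat.of R), ⊤) := e.symm.injective.isDomain e.symm.toRingHom
  haveI : ValuationRing Γ(Spec (CommRingCat.of R), ⊤) :=
    Function.Surjective.valuationRing e.toRingHom e.surjective
  exact Groth.Agent.ValReduced.isReduced_of_reduced_closedFibre f (IsLocalRing.closedPoint R)
    ((isAffineOpen_top _).primeIdealOf_isMaximal_of_isClosed ⟨_, trivial⟩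
      (IsLocalRing.isClosed_singleton_closedPoint R)) hred

end Groth.Agent.S0438
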