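import Groth.Statements.S0439
import Groth.Agent.LocImm.DenseFinite
-- import your own Groth.Agent.* helpers here

set_option autoImplicit false
universe u
open FlatMor AlgebraicGeometry CategoryTheory

namespace Groth.Agent.S0439

theorem exists_mul_nilpotent {B : Type*} [CommRing B] {q : Ideal B} (hq : q ∈ minimalPrimes B)
    {g : B} (hg : g ∈ q) : ∃ t ∉ q, IsNilpotent (t * g) := by
  have := Ideal.minimalPrimes_isPrime hq
  by_contra h
  push Not at h
  let S : Submonoid B := q.primeCompl ⊔ Submonoid.powers g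
  have hd : Disjoint ((⊥ : Ideal B) : Set B) (S : Set B) := by
    rw [Set.disjoint_left]
    intro x hx hxS
    obtain ⟨t, ht, y, ⟨n, rfl⟩, hty⟩ := Submonoid.mem_sup.mp hxS
    refine h t ht ⟨n + 1, ?_⟩
    have : t * g ^ n = 0 := hty.trans hx
    rw [mul_pow, show t ^ (n + 1) * g ^ (n + 1) = (t ^ n * g) * (t * g ^ n) by ring, this, mul_zero]
  obtain ⟨P, hP, -, hPS⟩ := Ideal.exists_le_prime_disjoint _ S hd
  have hPq : P ≤ q := fun x hx => by
    by_contra hxq
    exact Set.disjoint_left.mp hPS hx (Submonoid.mem_sup_left hxq)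
  have hqP : q ≤ P := hq.2 ⟨hP, bot_le⟩ hPq
  exact Set.disjoint_left.mp hPS (hqP hg) (Submonoid.mem_sup_right (Submonoid.mem_powers g))

/-- A closed subset of the spectrum of a finite algebra which surjects onto the base has nonempty
interior. -/
theorem exists_isOpen_subset {A B : Type*} [CommRing A] [CommRing B] [Algebra A B] [Nontrivial A]
    [Module.Finite A B] {T : Set (PrimeSpectrum B)} (hT : IsClosed T)
    (hsurj : PrimeSpectrum.comap (algebraMap A B) '' T = Set.univ) :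
    ∃ V : Set (PrimeSpectrum B), IsOpen V ∧ V.Nonempty ∧ V ⊆ T := by
  classical
  obtain ⟨I, rfl⟩ := (PrimeSpectrum.isClosed_iff_zeroLocus_ideal T).mp hT
  obtain ⟨s, hs, G₀, hG₀, hfin, hQ⟩ :=
    Groth.LocImmersion.DenseFinite.exists_finite_control (A := A) (I : Set B)
  obtain ⟨p, hp, hsp⟩ : ∃ p ∈ minimalPrimes A, s ∉ p := by
    by_contra h
    push Not at h
    refine hs ?_
    rw [← mem_nilradical, nilradical, ← Ideal.sInf_minimalPrimes]
    exact Submodule.mem_sInf.mpr h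
  have := Ideal.minimalPrimes_isPrime hp
  obtain ⟨q, hqT, hqp⟩ := hsurj.ge (Set.mem_univ (⟨p, this⟩ : PrimeSpectrum A))
  have hqp' : q.asIdeal.comap (algebraMap A B) = p := congrArg PrimeSpectrum.asIdeal hqp
  have hqmin : q.asIdeal ∈ minimalPrimes B := by
    refine ⟨⟨q.2, bot_le⟩, ?_⟩
    rintro r ⟨hr, -⟩ hrq
    by_contra hqr
    have := hr
    have hlt := Ideal.IsIntegral.comap_lt_comap (R := A) (lt_of_le_not_ge hrq hqr)
    rw [hqp'] at hlt
    exact hlt.not_ge (hp.2 ⟨Ideal.IsPrime.comap _, bot_le⟩ hlt.le)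
  have hsq : algebraMap A B s ∉ q.asIdeal := fun h => hsp (hqp' ▸ h)
  choose t ht hnil using fun g : hfin.toFinset => exists_mul_nilpotent hqmin
    (hqT (hG₀ (hfin.mem_toFinset.mp g.2)))
  let b : B := algebraMap A B s * ∏ g, t g
  have hb : b ∉ q.asIdeal := by
    intro h
    rcases q.2.mem_or_mem h with h | h
    · exact hsq h
    · obtain ⟨g, -, hg⟩ := q.2.prod_mem_iff.mp h
      exact ht g hg
  refine ⟨PrimeSpectrum.basicOpen b, (PrimeSpectrum.basicOpen b).2, ⟨q, hb⟩, fun r hr => ?_⟩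
  refine hQ r.asIdeal r.2 (fun h => hr (r.asIdeal.mul_mem_right _ h)) fun g hg => ?_
  have hmem : t ⟨g, hfin.mem_toFinset.mpr hg⟩ * g ∈ r.asIdeal := by
    obtain ⟨n, hn⟩ := hnil ⟨g, hfin.mem_toFinset.mpr hg⟩
    exact r.2.mem_of_pow_mem n (hn ▸ zero_mem _)
  exact (r.2.mem_or_mem hmem).resolve_left fun h =>
    hr (r.asIdeal.mul_mem_left _ (r.asIdeal.prod_mem (Finset.mem_univ _) h))

open AlgebraicGeometry CategoryTheory Limits in
/-- A quasi-finite morphism (locally of finite type, quasi-compact, with discrete fibres) maps closed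
nowhere dense subsets to nowhere dense subsets. -/
theorem result {Y X : Scheme.{u}} (f : Y ⟶ X) [LocallyQuasiFinite f] [LocallyOfFiniteType f] [QuasiCompact f]
    (T : Set ↑Y) (hT : IsClosed T) (hT' : IsNowhereDense T) : IsNowhereDense (f '' T) := by
  rw [IsNowhereDense, Set.eq_empty_iff_forall_notMem]
  intro x hx
  obtain ⟨V₀, hV₀W, hV₀ne, hfin₀⟩ := Groth.LocImmersion.DenseFinite.exists_isFinite_restrict f
    (W := ⟨interior (closure (f '' T)), isOpen_interior⟩) ⟨x, hx⟩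
  obtain ⟨y, hy⟩ := hV₀ne
  obtain ⟨_, ⟨V : X.Opens, hV, rfl⟩, hyV, hVV₀⟩ :=
    X.isBasis_affineOpens.exists_subset_of_mem_open hy V₀.2
  have := Groth.PropsBasic.GenericFinite.isFinite_restrict_of_le f hVV₀ hfin₀
  have : IsAffine V := hV
  let g := f ∣_ V
  have : IsAffine (f ⁻¹ᵁ V).toScheme := isAffine_of_isAffineHom g
  have : Nonempty V := ⟨⟨y, hyV⟩⟩
  let T' : Set (f ⁻¹ᵁ V).toScheme := (f ⁻¹ᵁ V).ι ⁻¹' T
  have hT'c : IsClosed T' := hT.preimage (f ⁻¹ᵁ V).ι.continuous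
  have hval : ∀ z, (g z).1 = f z.1 := fun z => by
    show ((f ∣_ V) z).1 = _
    rw [morphismRestrict_base]; rfl
  have hclosed : IsClosed (g '' T') := g.isClosedMap _ hT'c
  have hall : g '' T' = Set.univ := by
    refine Set.eq_univ_of_forall fun v => hclosed.closure_subset ?_
    refine (Topology.IsInducing.subtypeVal.closure_eq_preimage_closure_image _).ge
      (show v.1 ∈ closure (Subtype.val '' (g '' T')) from ?_)
    have h1 : v.1 ∈ closure (f '' T) := interior_subset (hV₀W (hVV₀ v.2))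
    refine closure_mono ?_ (V.2.inter_closure ⟨v.2, h1⟩)
    rintro _ ⟨hV', z, hz, rfl⟩
    exact ⟨⟨f z, hV'⟩, ⟨⟨z, hV'⟩, hz, Subtype.ext (hval _)⟩, rfl⟩
  let φ := g.appTop
  algebraize [φ.hom]
  have : Module.Finite Γ(V, ⊤) Γ(f ⁻¹ᵁ V, ⊤) := g.finite_appTop
  have : Nontrivial Γ(V, ⊤) := by
    rw [← not_subsingleton_iff_nontrivial]
    intro h
    exact isEmpty_iff.mp (Function.isEmpty (V.toScheme).isoSpec.hom (β := PrimeSpectrum Γ(V, ⊤)))
      (Classical.arbitrary V)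
  let eY := (f ⁻¹ᵁ V).toScheme.isoSpec
  let eX := V.toScheme.isoSpec
  let T₁ : Set (PrimeSpectrum Γ(f ⁻¹ᵁ V, ⊤)) := eY.inv ⁻¹' T'
  obtain ⟨O, hO, ⟨q, hq⟩, hOT⟩ := exists_isOpen_subset (A := Γ(V, ⊤)) (T := T₁)
    (hT'c.preimage eY.inv.continuous) (Set.eq_univ_of_forall fun p => by
      obtain ⟨z, hz, hzp⟩ := hall.ge (Set.mem_univ (eX.inv p))
      refine ⟨eY.hom z, ?_, ?_⟩
      · show eY.inv (eY.hom z) ∈ T'
        simpa [← Scheme.Hom.comp_apply] using hz
      · show Spec.map g.appTop (eY.hom z) = p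
        rw [← Scheme.Hom.comp_apply, Scheme.isoSpec_hom_naturality, Scheme.Hom.comp_apply, hzp,
          ← Scheme.Hom.comp_apply, eX.inv_hom_id]
        simp)
  have hint : interior (closure T) = ∅ := hT'
  rw [hT.closure_eq] at hint
  have : (f ⁻¹ᵁ V).ι (eY.inv q) ∈ interior T := by
    refine mem_interior.mpr ⟨(fun z => (f ⁻¹ᵁ V).ι (eY.inv z)) '' O, ?_, ?_, q, hq, rfl⟩
    · rintro _ ⟨z, hz, rfl⟩; exact hOT hz
    · exact ((eY.inv ≫ (f ⁻¹ᵁ V).ι).isOpenEmbedding.isOpenMap _ hO)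
  simp [hint] at this

end Groth.Agent.S0439
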