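import Groth.Statements.S0443
import Mathlib.AlgebraicGeometry.Morphisms.Finite
import Mathlib.RingTheory.Unramified.LocalRing

set_option autoImplicit false
universe u
open FlatMor

namespace Groth.Agent.S0443

open AlgebraicGeometry CategoryTheory Limits in
/-- For a finite morphism π : X → Y and a point x of X that is the only point of its fibre, the induced
homomorphism of local rings O_{Y,π(x)} → O_{X,x} is finite. (The published lemma has further parts,
not stated here.) -/
theorem result {X Y : Scheme.{u}} (π : X ⟶ Y) [IsFinite π] (x : X) (hx : ∀ x' : ↑X, π x' = π x → x' = x) :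
    (π.stalkMap x).hom.Finite := by
  obtain ⟨U, hU, hxU, -⟩ := exists_isAffineOpen_mem_and_subset (x := π x) (U := ⊤) trivial
  have hV : IsAffineOpen (π ⁻¹ᵁ U) := hU.preimage π
  have hfin : (π.appLE U (π ⁻¹ᵁ U) le_rfl).hom.Finite := by
    rw [← Scheme.Hom.app_eq_appLE]; exact π.finite_app U hU
  suffices RingHom.toMorphismProperty RingHom.Finite (π.stalkMap x) from this
  have := RingHom.toMorphismProperty_respectsIso_iff.mp RingHom.finite_respectsIso
  refine ((RingHom.toMorphismProperty RingHom.Finite).arrow_mk_iso_iff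
    (IsAffineOpen.arrowStalkMapIso π U hU (π ⁻¹ᵁ U) hV le_rfl (x := x) hxU)).mpr ?_
  show RingHom.Finite _
  set R := Γ(Y, U); set B := Γ(X, π ⁻¹ᵁ U)
  algebraize [(π.appLE U (π ⁻¹ᵁ U) le_rfl).hom]
  let p := (hU.primeIdealOf ⟨π x, hxU⟩).asIdeal
  let q := (hV.primeIdealOf ⟨x, hxU⟩).asIdeal
  have : q.LiesOver p :=
    ⟨congr($(IsAffineOpen.comap_primeIdealOf_appLE U hU (π ⁻¹ᵁ U) hV le_rfl hxU).1).symm⟩
  letI := Localization.AtPrime.algebraOfLiesOver p q
  have hq : p.primesOver B = {q} := by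
    refine Set.eq_singleton_iff_unique_mem.mpr ⟨⟨inferInstance, ‹_›⟩, fun Q hQ => ?_⟩
    obtain ⟨hQp, hQo⟩ := hQ
    have h1 : Spec.map (π.appLE U (π ⁻¹ᵁ U) le_rfl) ⟨Q, hQp⟩ = hU.primeIdealOf ⟨π x, hxU⟩ :=
      PrimeSpectrum.ext hQo.over.symm
    have h2 : π (hV.fromSpec ⟨Q, hQp⟩) = π x := by
      refine Eq.trans ?_ (hU.fromSpec_primeIdealOf ⟨π x, hxU⟩)
      refine Eq.trans ?_ (congrArg hU.fromSpec h1)
      exact congr($((IsAffineOpen.SpecMap_appLE_fromSpec π hU hV le_rfl).symm) ⟨Q, hQp⟩)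
    have h3 : (⟨Q, hQp⟩ : PrimeSpectrum B) = hV.primeIdealOf ⟨x, hxU⟩ :=
      hV.fromSpec.isOpenEmbedding.injective
        ((hx _ h2).trans (hV.fromSpec_primeIdealOf ⟨x, hxU⟩).symm)
    exact congr($(h3).asIdeal)
  exact RingHom.finite_algebraMap.mpr (Localization.finite_of_primesOver_eq_singleton hq)

end Groth.Agent.S0443
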