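import Groth.Statements.S0444
import Groth.Agent.Misc8.ValFibreDim

set_option autoImplicit false
universe u
open FlatMor AlgebraicGeometry CategoryTheory

namespace Groth.Agent.S0444

open TensorProduct in
/-- Let R be a valuation ring with residue field κ and fraction field K, and S a domain of finite type
over R with R → S injective. If the special fibre κ ⊗_R S is nonzero, then its Krull dimension
equals the Krull dimension of the generic fibre K ⊗_R S. (The published statement also asserts that
the special fibre is equidimensional; that is not stated here.) -/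
theorem result {R S : Type u} [CommRing R] [IsDomain R] [ValuationRing R] [CommRing S] [IsDomain S] [Algebra R S]
    (hinj : Function.Injective (algebraMap R S)) [Algebra.FiniteType R S]
    [Nontrivial (IsLocalRing.ResidueField R ⊗[R] S)] :
    ringKrullDim (IsLocalRing.ResidueField R ⊗[R] S) = ringKrullDim (FractionRing R ⊗[R] S) := by
  let f : Spec (CommRingCat.of S) ⟶ Spec (CommRingCat.of R) := Spec.map (CommRingCat.ofHom (algebraMap R S))
  haveI : LocallyOfFiniteType f := (HasRingHomProperty.Spec_iff (P := @LocallyOfFiniteType)).mpr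
    (RingHom.finiteType_algebraMap.mpr inferInstance)
  haveI : IsDominant f := ⟨(PrimeSpectrum.denseRange_comap_iff_ker_le_nilRadical (algebraMap R S)).2 (by
    rw [(RingHom.injective_iff_ker_eq_bot _).1 hinj]; exact bot_le)⟩
  haveI : IrreducibleSpace ↥(Spec (CommRingCat.of S)) := inferInstanceAs (IrreducibleSpace (PrimeSpectrum S))
  have key : ∀ (p : PrimeSpectrum R) (L : Type u) [CommRing L] [Algebra R L],
      (p.asIdeal.ResidueField ≃ₐ[R] L) → topologicalKrullDim ↥(f.fiber p) = ringKrullDim (L ⊗[R] S) := by
    intro p L _ _ e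
    rw [← ringKrullDim_eq_of_ringEquiv (Algebra.TensorProduct.congr e (AlgEquiv.refl : S ≃ₐ[R] S)).toRingEquiv,
      ← PrimeSpectrum.topologicalKrullDim_eq_ringKrullDim]
    exact IsHomeomorph.topologicalKrullDim_eq _
      ((f.fiberHomeo p).trans (PrimeSpectrum.preimageHomeomorphFiber R S p)).isHomeomorph
  haveI : IsFractionRing R (⊥ : Ideal R).ResidueField := Groth.Misc8.ValFibre.isFractionRing_residueField_bot
  rw [← key (⟨⊥, Ideal.isPrime_bot⟩ : PrimeSpectrum R) (FractionRing R) (FractionRing.algEquiv R _).symm,
    ← key (IsLocalRing.closedPoint R) (IsLocalRing.ResidueField R)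
      (Groth.Misc8.ValFibre.residueFieldMaxEquiv R)]
  refine Groth.Misc8.ValFibre.dim_closed_fiber_eq f ?_
  obtain ⟨q⟩ : Nonempty (PrimeSpectrum (IsLocalRing.ResidueField R ⊗[R] S)) := inferInstance
  refine ⟨((f.fiberHomeo _).trans (PrimeSpectrum.preimageHomeomorphFiber R S (IsLocalRing.closedPoint R))).symm
    (PrimeSpectrum.comap (Algebra.TensorProduct.congr (Groth.Misc8.ValFibre.residueFieldMaxEquiv R)
      (AlgEquiv.refl : S ≃ₐ[R] S)).toRingHom q)⟩

end Groth.Agent.S0444
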