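import Groth.Statements.S0445
import Mathlib.AlgebraicGeometry.Morphisms.FormallyUnramified
import Mathlib.AlgebraicGeometry.ResidueField

set_option autoImplicit false
universe u
open FlatMor

namespace Groth.Agent.S0445

open AlgebraicGeometry CategoryTheory Limits in
/-- Two morphisms over S into an S-scheme unramified over S which agree at a point and induce the same
map on residue fields there agree on an open neighbourhood of that point. -/
theorem result {X Y S : Scheme.{u}} (p : Y ⟶ S) [FormallyUnramified p] [LocallyOfFiniteType p] (f g : X ⟶ Y) (hfg : f ≫ p = g ≫ p)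
    (x : X) (h1 : f x = g x) (h2 : f.residueFieldMap x = (Y.residueFieldCongr h1).hom ≫ g.residueFieldMap x) :
    ∃ U : X.Opens, x ∈ U ∧ U.ι ≫ f = U.ι ≫ g := by
  let h : X ⟶ pullback p p := pullback.lift f g hfg
  let Δ := pullback.diagonal p
  refine ⟨h ⁻¹ᵁ Δ.opensRange, ?_, ?_⟩
  · have key : X.fromSpecResidueField x ≫ f = X.fromSpecResidueField x ≫ g := by
      rw [← Scheme.Hom.SpecMap_residueFieldMap_fromSpecResidueField, h2, Spec.map_comp,
        Category.assoc, Scheme.residueFieldCongr_fromSpecResidueField,
        Scheme.Hom.SpecMap_residueFieldMap_fromSpecResidueField]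
    have key2 : X.fromSpecResidueField x ≫ h = (X.fromSpecResidueField x ≫ f) ≫ Δ := by
      apply pullback.hom_ext
      · rw [Category.assoc, Category.assoc, pullback.diagonal_fst, Category.comp_id]
        exact congr(_ ≫ $(pullback.lift_fst f g hfg))
      · rw [Category.assoc, Category.assoc, pullback.diagonal_snd, Category.comp_id, key]
        exact congr(_ ≫ $(pullback.lift_snd f g hfg))
    obtain ⟨s⟩ : Nonempty (Spec (X.residueField x)) := inferInstance
    have : h x = Δ (f x) := by
      have h3 := congr($key2 s)
      simpa [Scheme.fromSpecResidueField_apply] using h3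
    show h x ∈ Δ.opensRange
    exact this ▸ ⟨f x, rfl⟩
  · have hr : Set.range ((h ⁻¹ᵁ Δ.opensRange).ι ≫ h) ⊆ Set.range Δ := by
      rintro _ ⟨u, rfl⟩
      exact u.2
    have h4 := IsOpenImmersion.lift_fac Δ _ hr
    have hf : (h ⁻¹ᵁ Δ.opensRange).ι ≫ f = IsOpenImmersion.lift Δ _ hr := by
      have := congr($h4 ≫ pullback.fst p p)
      rw [Category.assoc, Category.assoc, pullback.diagonal_fst, Category.comp_id] at this
      rw [this]; exact congr(_ ≫ $(pullback.lift_fst f g hfg)).symm
    have hg : (h ⁻¹ᵁ Δ.opensRange).ι ≫ g = IsOpenImmersion.lift Δ _ hr := by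
      have := congr($h4 ≫ pullback.snd p p)
      rw [Category.assoc, Category.assoc, pullback.diagonal_snd, Category.comp_id] at this
      rw [this]; exact congr(_ ≫ $(pullback.lift_snd f g hfg)).symm
    rw [hf, hg]

end Groth.Agent.S0445
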