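import Groth.Statements.S0451
import Groth.Agent.RaynaudGruson.LocalFP

set_option autoImplicit false
universe u
open FlatMor

namespace Groth.Agent.S0451

open AlgebraicGeometry CategoryTheory Limits in
/-- A flat morphism locally of finite type which is locally of finite presentation over a quasi-compact
scheme-theoretically dense open of the target is locally of finite presentation. -/
theorem result {X S : Scheme.{u}} (f : X ⟶ S) [LocallyOfFiniteType f] [Flat f] (U : S.Opens)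
    [QuasiCompact U.ι] [IsSchemeTheoreticallyDominant U.ι] [LocallyOfFinitePresentation (f ∣_ U)] : LocallyOfFinitePresentation f := by
  classical
  rw [HasRingHomProperty.iff_appLE (P := @LocallyOfFinitePresentation)]
  intro W V e
  have hfl : (f.appLE W.1 V.1 e).hom.Flat := HasRingHomProperty.appLE @Flat f ‹_› W V e
  have hft : (f.appLE W.1 V.1 e).hom.FiniteType := HasRingHomProperty.appLE @LocallyOfFiniteType f ‹_› W V e
  obtain ⟨σ, hσfin, hσ⟩ : ∃ σ : Set Γ(S, W.1), σ.Finite ∧ ((W.1 : Set S) ∩ U) = ⋃ r ∈ σ, (S.basicOpen r : Set S) := by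
    have hK : IsCompact ((W.1 : Set S) ∩ U) := by
      have h2 := (U.ι.isCompact_preimage W.2.isCompact).image U.ι.continuous
      rwa [Scheme.Hom.coe_preimage, Set.image_preimage_eq_inter_range, Scheme.Opens.range_ι] at h2
    obtain ⟨T, hT⟩ := hK.elim_finite_subcover
      (fun r : {r : Γ(S, W.1) // S.basicOpen r ≤ U} => (S.basicOpen r.1 : Set S)) (fun r => (S.basicOpen r.1).isOpen)
      (fun x hx => by
        obtain ⟨r, hr, hxr⟩ := W.2.exists_basicOpen_le ⟨x, hx.2⟩ hx.1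
        exact Set.mem_iUnion.mpr ⟨⟨r, hr⟩, hxr⟩)
    refine ⟨Subtype.val '' (T : Set {r : Γ(S, W.1) // S.basicOpen r ≤ U}), T.finite_toSet.image _, Set.Subset.antisymm ?_ ?_⟩
    · intro x hx
      obtain ⟨r, hr, hxr⟩ := Set.mem_iUnion₂.mp (hT hx)
      exact Set.mem_iUnion₂.mpr ⟨r.1, Set.mem_image_of_mem _ hr, hxr⟩
    · intro x hx
      simp only [Set.mem_iUnion] at hx
      obtain ⟨_, ⟨r, -, rfl⟩, hxr⟩ := hx
      exact ⟨S.basicOpen_le r.1 hxr, r.2 hxr⟩
  letI := (f.appLE W.1 V.1 e).hom.toAlgebra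
  haveI : Module.Flat Γ(S, W.1) Γ(X, V.1) := hfl
  haveI : Algebra.FiniteType Γ(S, W.1) Γ(X, V.1) := hft
  obtain ⟨n, φ, hφ⟩ := Algebra.FiniteType.iff_quotient_mvPolynomial''.mp hft
  have hU : ∀ r : σ, ∃ I : Ideal (MvPolynomial (Fin n) Γ(S, W.1)), I.FG ∧ I ≤ RingHom.ker φ ∧
      ∀ u ∈ RingHom.ker φ, ∃ t ∈ Submonoid.powers r.1, MvPolynomial.C t * u ∈ I := by
    intro r
    have hrU : S.basicOpen r.1 ≤ U := fun x hx =>
      ((hσ.ge (Set.mem_iUnion₂.mpr ⟨r.1, r.2, hx⟩) : x ∈ (W.1 : Set S) ∩ U)).2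
    let g : Γ(X, V.1) := (f.appLE W.1 V.1 e).hom r.1
    have hle' : X.basicOpen g ≤ f ⁻¹ᵁ S.basicOpen r.1 := by
      show X.basicOpen ((f.appLE W.1 V.1 e).hom r.1) ≤ _
      rw [Scheme.basicOpen_appLE]
      exact inf_le_right
    have hD := W.2.basicOpen r.1
    have hE := V.2.basicOpen g
    have hfp : (f.appLE (S.basicOpen r.1) (X.basicOpen g) hle').hom.FinitePresentation := by
      have hV' : X.basicOpen g ≤ f ⁻¹ᵁ U := hle'.trans fun x hx => hrU hx
      have h1 := HasRingHomProperty.appLE @LocallyOfFinitePresentation (f ∣_ U) ‹_›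
        ⟨U.ι ⁻¹ᵁ S.basicOpen r.1, hD.preimage_of_isOpenImmersion U.ι (by simpa using hrU)⟩
        ⟨(f ⁻¹ᵁ U).ι ⁻¹ᵁ X.basicOpen g, hE.preimage_of_isOpenImmersion _ (by simpa using hV')⟩
        (by
          intro x hx
          show U.ι ((f ∣_ U) x) ∈ S.basicOpen r.1
          rw [← Scheme.Hom.comp_apply, morphismRestrict_ι, Scheme.Hom.comp_apply]
          exact hle' hx)
      rw [morphismRestrict_appLE] at h1
      have e1 : U.ι ''ᵁ (U.ι ⁻¹ᵁ S.basicOpen r.1) = S.basicOpen r.1 := by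
        rw [Scheme.Hom.image_preimage_eq_opensRange_inf, Scheme.Opens.opensRange_ι]
        exact inf_eq_right.mpr hrU
      have e2 : (f ⁻¹ᵁ U).ι ''ᵁ ((f ⁻¹ᵁ U).ι ⁻¹ᵁ X.basicOpen g) = X.basicOpen g := by
        rw [Scheme.Hom.image_preimage_eq_opensRange_inf, Scheme.Opens.opensRange_ι]
        exact inf_eq_right.mpr hV'
      exact (f.appLE_congr _ e1 e2 (fun h => h.hom.FinitePresentation)).mp h1
    letI := (f.appLE (S.basicOpen r.1) (X.basicOpen g) hle').hom.toAlgebra
    haveI := W.2.isLocalization_basicOpen r.1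
    haveI := V.2.isLocalization_basicOpen g
    haveI : IsLocalization (Algebra.algebraMapSubmonoid Γ(X, V.1) (Submonoid.powers r.1)) Γ(X, X.basicOpen g) := by
      rw [Algebra.algebraMapSubmonoid_powers]
      exact V.2.isLocalization_basicOpen g
    letI : Algebra Γ(S, W.1) Γ(X, X.basicOpen g) :=
      ((algebraMap Γ(X, V.1) Γ(X, X.basicOpen g)).comp (algebraMap Γ(S, W.1) Γ(X, V.1))).toAlgebra
    haveI : IsScalarTower Γ(S, W.1) Γ(X, V.1) Γ(X, X.basicOpen g) := .of_algebraMap_eq fun _ => rfl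
    haveI : IsScalarTower Γ(S, W.1) Γ(S, S.basicOpen r.1) Γ(X, X.basicOpen g) := .of_algebraMap_eq' (by
      show (f.appLE W.1 V.1 e ≫ X.presheaf.map (homOfLE (X.basicOpen_le g)).op).hom =
        (S.presheaf.map (homOfLE (S.basicOpen_le r.1)).op ≫ f.appLE (S.basicOpen r.1) (X.basicOpen g) hle').hom
      rw [Scheme.Hom.appLE_map, Scheme.Hom.map_appLE])
    haveI : Algebra.FinitePresentation Γ(S, S.basicOpen r.1) Γ(X, X.basicOpen g) := hfp
    exact Groth.RaynaudGruson.LocalFP.exists_relations_localization φ hφ (Submonoid.powers r.1)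
      Γ(S, S.basicOpen r.1) Γ(X, X.basicOpen g)
  choose I hIfg hIle hIsat using hU
  haveI := hσfin.to_subtype
  haveI := Fintype.ofFinite σ
  refine (Groth.RaynaudGruson.LocalFP.finitePresentation_of_relations φ hφ (⨆ r, I r)
    (Submodule.fg_iSup I hIfg) (iSup_le hIle) fun u hu => ?_ :)
  choose t ht htI using fun r => hIsat r u hu
  refine ⟨Finset.univ.image t, fun a ha => ?_, fun a ha => ?_⟩
  · apply U.ι.app_injective W.1
    rw [map_zero]
    apply (U : Scheme.{u}).sheaf.eq_of_locally_eq' (fun r : σ => U.ι ⁻¹ᵁ S.basicOpen r.1) _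
      (fun r => homOfLE (U.ι.preimage_mono (S.basicOpen_le r.1)))
    · intro x hx
      obtain ⟨r, hr, hxr⟩ := Set.mem_iUnion₂.mp (hσ.le (⟨hx, x.2⟩ : U.ι x ∈ (W.1 : Set S) ∩ U))
      exact TopologicalSpace.Opens.mem_iSup.mpr ⟨⟨r, hr⟩, hxr⟩
    · intro r
      haveI := W.2.isLocalization_basicOpen r.1
      have h0 : S.presheaf.map (homOfLE (S.basicOpen_le r.1)).op a = 0 :=
        (IsLocalization.map_eq_zero_iff (Submonoid.powers r.1) Γ(S, S.basicOpen r.1) a).mpr
          ⟨⟨t r, ht r⟩, ha _ (Finset.mem_image_of_mem _ (Finset.mem_univ r))⟩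
      have h1 := congrArg (fun m => m a) (U.ι.naturality (homOfLE (S.basicOpen_le r.1)).op)
      simp only [CommRingCat.comp_apply] at h1
      rw [h0, map_zero] at h1
      exact h1.symm.trans (map_zero _).symm
  · obtain ⟨r, -, rfl⟩ := Finset.mem_image.mp ha
    exact le_iSup I r (htI r)

end Groth.Agent.S0451
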