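import Groth.Statements.S0480
import Groth.Agent.DerivedCoh.KInj.Lifting

set_option autoImplicit false
universe v u
open CategoryTheory
open CohDer

namespace Groth.Agent.S0480
open Groth.DerivedCoh.KInjRes

open CategoryTheory.Limits in
/-- In an abelian category, if the product of a family of K-injective cochain complexes exists (it is
then the termwise product), it is again K-injective. -/
theorem result {A : Type u} [Category.{v} A] [Abelian A] {T : Type v} (I : T → CochainComplex A ℤ)
    [HasProduct I] (h : ∀ t, (I t).IsKInjective) : (∏ᶜ I).IsKInjective := by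
  constructor
  intro K f hK
  have hh := fun t => (h t).nonempty_homotopy_zero (f ≫ Pi.π I t) hK
  let H := fun t => (hh t).some
  have hext : ∀ {a : A} (j : ℤ) (x y : a ⟶ (∏ᶜ I).X j),
      (∀ t, x ≫ (Pi.π I t).f j = y ≫ (Pi.π I t).f j) → x = y := fun {a} j x y hxy => by
    have h0 : fromDisk' x = fromDisk' y := Pi.hom_ext _ _ fun t => by
      refine HomologicalComplex.from_double_hom_ext ?_ ?_
      · simp [fromDisk', hxy]
      · simp only [fromDisk', HomologicalComplex.comp_f, HomologicalComplex.mkHomFromDouble_f₁,
          Category.assoc, ← (Pi.π I t).comm]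
        rw [← Category.assoc x, hxy t, Category.assoc]
    have := congrArg (fun z => z.f j) h0
    simpa [fromDisk'] using this
  let lift : ∀ i j, K.X i ⟶ (∏ᶜ I).X j := fun i j =>
    (HomologicalComplex.doubleXIso₀ (𝟙 (K.X i)) (relUp' j)).inv ≫
      (Pi.lift fun t => fromDisk' ((H t).hom i j)).f j
  have hfac : ∀ i j t, lift i j ≫ (Pi.π I t).f j = (H t).hom i j := fun i j t => by
    simp [lift, fromDisk', ← HomologicalComplex.comp_f]
  refine ⟨{ hom := lift, zero := fun i j hij => ?_, comm := fun i => ?_ }⟩
  · refine hext j _ _ fun t => ?_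
    rw [zero_comp]
    exact (hfac i j t).trans ((H t).zero i j hij)
  · refine hext i _ _ fun t => ?_
    have hr : (ComplexShape.up ℤ).Rel i (i + 1) := by simp
    have hl : (ComplexShape.up ℤ).Rel (i - 1) i := by simp
    have := (H t).comm i
    rw [dNext_eq _ hr, prevD_eq _ hl] at this ⊢
    simp only [HomologicalComplex.comp_f, HomologicalComplex.zero_f, add_zero] at this
    simp only [HomologicalComplex.zero_f, add_zero,
      Preadditive.add_comp, Category.assoc]
    refine this.trans (congrArg₂ (· + ·) ?_ ?_)
    · rw [← hfac (i + 1) i t]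
    · rw [← (Pi.π I t).comm (i - 1) i, ← Category.assoc, hfac i (i - 1) t]

end Groth.Agent.S0480
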