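import Groth.Statements.S0481
-- import your own Groth.Agent.* helpers here

set_option autoImplicit false
universe v u
open CategoryTheory
open CohDer

namespace Groth.Agent.S0481

open CategoryTheory.Limits in
/-- Let u : A ⥤ B be right adjoint to an exact additive functor w : B ⥤ A between abelian categories.
Then u applied termwise sends K-injective complexes to K-injective complexes. -/
theorem result {A : Type u} [Category.{v} A] [Abelian A]
    {B : Type u} [Category.{v} B] [Abelian B] (u : A ⥤ B) (w : B ⥤ A) (adj : w ⊣ u)
    [u.Additive] [w.Additive] [PreservesFiniteLimits w] [PreservesFiniteColimits w]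
    (I : CochainComplex A ℤ) (h : I.IsKInjective) :
    CochainComplex.IsKInjective ((u.mapHomologicalComplex (ComplexShape.up ℤ)).obj I) := by
  constructor
  intro K f hK
  let W := w.mapHomologicalComplex (ComplexShape.up ℤ)
  have hWK : (W.obj K).Acyclic := fun i => by
    rw [HomologicalComplex.exactAt_iff]
    exact (hK i).map w
  let η : K ⟶ (u.mapHomologicalComplex (ComplexShape.up ℤ)).obj (W.obj K) :=
    { f := fun i => adj.unit.app (K.X i)
      comm' := fun i j _ => (adj.unit.naturality (K.d i j)).symm }
  let ε : W.obj ((u.mapHomologicalComplex (ComplexShape.up ℤ)).obj I) ⟶ I :=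
    { f := fun i => adj.counit.app (I.X i)
      comm' := fun i j _ => (adj.counit.naturality (I.d i j)).symm }
  let g : W.obj K ⟶ I := W.map f ≫ ε
  obtain ⟨H⟩ := h.nonempty_homotopy_zero g hWK
  have e : f = η ≫ (u.mapHomologicalComplex _).map g := by
    ext i
    change f.f i = adj.unit.app (K.X i) ≫ u.map (w.map (f.f i) ≫ adj.counit.app (I.X i))
    rw [u.map_comp, ← Category.assoc]
    erw [adj.unit_naturality (f.f i)]
    rw [Category.assoc]
    exact ((congrArg (f.f i ≫ ·) (adj.right_triangle_components (I.X i))).trans (Category.comp_id _)).symm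
  exact ⟨(Homotopy.ofEq e).trans (((u.mapHomotopy H).compLeft η).trans (Homotopy.ofEq (by simp)))⟩

end Groth.Agent.S0481
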