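import Groth.Statements.S0489
import Mathlib

set_option autoImplicit false
universe v u
open CategoryTheory
open CohDer

namespace Groth.Agent.S0489

open CategoryTheory.Limits Opposite in
/-- Let … → I_3 → I_2 → I_1 be an inverse system of K-injective cochain complexes in an abelian category
with sequential limits, such that each transition map is a split epimorphism in each degree. Then
the (termwise) limit complex is K-injective. -/
theorem result {A : Type u} [Category.{v} A] [Abelian A] [HasLimitsOfShape ℕᵒᵖ A]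
    (I : ℕᵒᵖ ⥤ CochainComplex A ℤ) (h1 : ∀ n : ℕ, (I.obj (op n)).IsKInjective)
    (h2 : ∀ (n : ℕ) (m : ℤ), IsSplitEpi ((I.map (homOfLE (Nat.le_succ n)).op).f m)) :
    (limit I).IsKInjective := by

  refine ⟨fun {K} f hK => ?_⟩
  let fn : ∀ n : ℕ, K ⟶ I.obj (op n) := fun n => f ≫ limit.π I (op n)
  let π : ∀ n : ℕ, I.obj (op (n + 1)) ⟶ I.obj (op n) := fun n => I.map (homOfLE (Nat.le_succ n)).op
  have hfn : ∀ n, fn (n + 1) ≫ π n = fn n := fun n => by simp [fn, π]
  have hex : ∀ n, ∃ z : CochainComplex.HomComplex.Cochain K (I.obj (op n)) (-1),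
      CochainComplex.HomComplex.δ (-1) 0 z = CochainComplex.HomComplex.Cochain.ofHom (fn n) := fun n => by
    have := h1 n
    exact CochainComplex.IsKInjective.eq_δ_of_cocycle (CochainComplex.HomComplex.Cocycle.ofHom (fn n)) hK (-1) (by simp)
  have hstep : ∀ n (z : CochainComplex.HomComplex.Cochain K (I.obj (op n)) (-1)),
      CochainComplex.HomComplex.δ (-1) 0 z = CochainComplex.HomComplex.Cochain.ofHom (fn n) →
      ∃ z' : CochainComplex.HomComplex.Cochain K (I.obj (op (n + 1))) (-1),
        CochainComplex.HomComplex.δ (-1) 0 z' = CochainComplex.HomComplex.Cochain.ofHom (fn (n + 1)) ∧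
          z'.comp (CochainComplex.HomComplex.Cochain.ofHom (π n)) (add_zero (-1)) = z := by
    intro n z hz
    obtain ⟨w, hw⟩ := hex (n + 1)
    have := h1 n
    obtain ⟨c, hc⟩ := CochainComplex.IsKInjective.eq_δ_of_cocycle
      (CochainComplex.HomComplex.Cocycle.mk (w.comp (CochainComplex.HomComplex.Cochain.ofHom (π n)) (add_zero (-1)) - z) 0 rfl
        (by rw [CochainComplex.HomComplex.δ_sub, CochainComplex.HomComplex.δ_comp_ofHom, hw, hz,
          ← CochainComplex.HomComplex.Cochain.ofHom_comp, hfn, sub_self])) hK (-2) rfl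
    let c' : CochainComplex.HomComplex.Cochain K (I.obj (op (n + 1))) (-2) :=
      CochainComplex.HomComplex.Cochain.mk fun p q hpq => c.v p q hpq ≫ (have := h2 n q; CategoryTheory.section_ ((π n).f q))
    have hc' : c'.comp (CochainComplex.HomComplex.Cochain.ofHom (π n)) (add_zero (-2)) = c := by
      refine CochainComplex.HomComplex.Cochain.ext _ _ fun p q hpq => ?_
      have := h2 n q
      simp [c', π]
    refine ⟨w - CochainComplex.HomComplex.δ (-2) (-1) c', ?_, ?_⟩
    · rw [CochainComplex.HomComplex.δ_sub, CochainComplex.HomComplex.δ_δ, sub_zero, hw]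
    · rw [CochainComplex.HomComplex.Cochain.sub_comp, ← CochainComplex.HomComplex.δ_comp_ofHom, hc', hc]
      show w.comp _ _ - (w.comp _ _ - z) = z
      rw [sub_sub_cancel]
  choose z₁ hz₁ hz₁' using hstep
  choose z₀ hz₀ using hex
  let Z : ∀ n, {z : CochainComplex.HomComplex.Cochain K (I.obj (op n)) (-1) //
      CochainComplex.HomComplex.δ (-1) 0 z = CochainComplex.HomComplex.Cochain.ofHom (fn n)} :=
    fun n => Nat.recOn n ⟨z₀ 0, hz₀ 0⟩ fun m p => ⟨z₁ m p.1 p.2, hz₁ m p.1 p.2⟩
  have hZ : ∀ n, (Z (n + 1)).1.comp (CochainComplex.HomComplex.Cochain.ofHom (π n)) (add_zero (-1)) = (Z n).1 :=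
    fun n => hz₁' n _ _
  let ev := fun q : ℤ => HomologicalComplex.eval A (ComplexShape.up ℤ) q
  let lim' := fun q : ℤ => isLimitOfPreserves (ev q) (limit.isLimit I)
  have hzc : ∀ (p q : ℤ) (hpq : p + (-1) = q) (a b : ℕᵒᵖ) (g : a ⟶ b),
      (Z a.unop).1.v p q hpq ≫ (I.map g).f q = (Z b.unop).1.v p q hpq := by
    intro p q hpq a b g
    obtain ⟨a⟩ := a
    obtain ⟨b⟩ := b
    have hba : b ≤ a := leOfHom g.unop
    rw [Subsingleton.elim g (homOfLE hba).op]
    clear g
    induction a, hba using Nat.le_induction with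
    | base => simp
    | succ a hba ih =>
      show (Z (a + 1)).1.v p q hpq ≫ (I.map (homOfLE (hba.trans (Nat.le_succ a))).op).f q = (Z b).1.v p q hpq
      rw [← homOfLE_comp hba (Nat.le_succ a), op_comp, I.map_comp, HomologicalComplex.comp_f, ← Category.assoc]
      have h := congrArg (fun w => CochainComplex.HomComplex.Cochain.v w p q hpq) (hZ a)
      simp only [CochainComplex.HomComplex.Cochain.comp_zero_cochain_v, CochainComplex.HomComplex.Cochain.ofHom_v, π] at h
      rw [h]
      exact ih
  let zinf : CochainComplex.HomComplex.Cochain K (limit I) (-1) := CochainComplex.HomComplex.Cochain.mk fun p q hpq =>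
    (lim' q).lift ⟨K.X p, { app := fun a => (Z a.unop).1.v p q hpq, naturality := fun a b g => (Category.id_comp _).trans (hzc p q hpq a b g).symm }⟩
  have hzinf : ∀ n, zinf.comp (CochainComplex.HomComplex.Cochain.ofHom (limit.π I (op n))) (add_zero (-1)) = (Z n).1 := by
    intro n
    refine CochainComplex.HomComplex.Cochain.ext _ _ fun p q hpq => ?_
    rw [CochainComplex.HomComplex.Cochain.comp_zero_cochain_v, CochainComplex.HomComplex.Cochain.ofHom_v]
    exact (lim' q).fac _ (op n)
  have hfin : CochainComplex.HomComplex.δ (-1) 0 zinf = CochainComplex.HomComplex.Cochain.ofHom f := by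
    refine CochainComplex.HomComplex.Cochain.ext₀ _ _ fun p => (lim' p).hom_ext fun a => ?_
    obtain ⟨n⟩ := a
    have h := congrArg (fun w => CochainComplex.HomComplex.Cochain.v w p p (add_zero p))
      ((CochainComplex.HomComplex.δ_comp_ofHom zinf (limit.π I (op n)) 0).symm.trans ((congrArg (CochainComplex.HomComplex.δ (-1) 0) (hzinf n)).trans (Z n).2))
    simp only [CochainComplex.HomComplex.Cochain.comp_zero_cochain_v, CochainComplex.HomComplex.Cochain.ofHom_v, fn, HomologicalComplex.comp_f] at h ⊢
    exact h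
  exact ⟨(CochainComplex.HomComplex.Cochain.equivHomotopy f 0).symm ⟨zinf, by simp [hfin]⟩⟩

end Groth.Agent.S0489
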