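import Groth.Statements.S0490
import Mathlib.CategoryTheory.Triangulated.Orthogonal
import Mathlib.CategoryTheory.Adjunction.Comma

set_option autoImplicit false
universe v u
open CategoryTheory
open CohDer

namespace Groth.Agent.S0490

open CategoryTheory.Pretriangulated in
/-- Let A be a full triangulated subcategory of a pretriangulated category D (an object property
containing zero, stable under shifts and closed under extensions). The inclusion A → D is a left
adjoint (i.e. has a right adjoint) if and only if every object X of D fits in a distinguished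
triangle A → X → B → A[1] with A in the subcategory and B right orthogonal to it. (The source's
further conclusions about saturation are not asserted.) -/
theorem result {D : Type u} [Category.{v} D] [Preadditive D] [Limits.HasZeroObject D] [HasShift D ℤ]
    [∀ n : ℤ, (shiftFunctor D n).Additive] [Pretriangulated D]
    (P : ObjectProperty D) [P.IsTriangulated] :
    P.ι.IsLeftAdjoint ↔ ∀ X : D, ∃ (A B : D) (f : A ⟶ X) (g : X ⟶ B) (h : B ⟶ (shiftFunctor D (1 : ℤ)).obj A),
      Triangle.mk f g h ∈ distinguishedTriangles ∧ P A ∧ P.rightOrthogonal B := by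
  constructor
  · intro hL X
    let adj := Adjunction.ofIsLeftAdjoint P.ι
    obtain ⟨B, g, h, hT⟩ := distinguished_cocone_triangle (adj.counit.app X)
    refine ⟨_, B, adj.counit.app X, g, h, hT, (P.ι.rightAdjoint.obj X).2, fun a φ ha => ?_⟩
    let R := P.ι.rightAdjoint.obj X
    have hinj : ∀ (a' : D), P a' → ∀ ψ : a' ⟶ R.obj, ψ ≫ adj.counit.app X = 0 → ψ = 0 := fun a' ha' ψ hψ => by
      let ψ' : (⟨a', ha'⟩ : P.FullSubcategory) ⟶ R := ObjectProperty.homMk ψ
      have h1 : (adj.homEquiv ⟨a', ha'⟩ X).symm ψ' = (adj.homEquiv ⟨a', ha'⟩ X).symm (ObjectProperty.homMk 0) := by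
        rw [Adjunction.homEquiv_counit, Adjunction.homEquiv_counit]
        exact hψ.trans (Limits.zero_comp).symm
      exact congrArg (fun z => P.ι.map z) ((Equiv.injective _) h1)
    let S := (shiftEquiv D (1 : ℤ)).symm.toAdjunction
    have h1 : φ ≫ h = 0 := by
      apply (S.homEquiv a R.obj).symm.injective
      have e : (S.homEquiv a R.obj).symm 0 = 0 := by simp [Adjunction.homEquiv_counit]
      refine Eq.trans ?_ e.symm
      refine hinj _ (P.le_shift (-(1 : ℤ)) _ ha) _ ?_
      have h31 := comp_distTriang_mor_zero₃₁ _ hT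
      refine (S.homEquiv_naturality_right_symm _ _).symm.trans ?_
      refine (congrArg (S.homEquiv _ _).symm ((Category.assoc _ _ _).trans ((congrArg (φ ≫ ·) h31).trans Limits.comp_zero))).trans ?_
      rw [Adjunction.homEquiv_counit]
      exact (congrArg (· ≫ _) ((shiftFunctor D (-(1 : ℤ))).map_zero _ _)).trans Limits.zero_comp
    obtain ⟨β, hβ⟩ := Triangle.coyoneda_exact₃ _ hT φ h1
    have hsurj : ∃ β' : a ⟶ R.obj, β' ≫ adj.counit.app X = β := by
      refine ⟨P.ι.map (adj.homEquiv ⟨a, ha⟩ X β), ?_⟩
      exact (adj.homEquiv_counit _ _ _).symm.trans (Equiv.symm_apply_apply _ _)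
    obtain ⟨β', rfl⟩ := hsurj
    refine hβ.trans ?_
    exact (Category.assoc _ _ _).trans ((congrArg (β' ≫ ·) (comp_distTriang_mor_zero₁₂ _ hT)).trans Limits.comp_zero)
  · intro H
    rw [isLeftAdjoint_iff_hasTerminal_costructuredArrow]
    intro X
    obtain ⟨A, B, f, g, h, hT, hA, hB⟩ := H X
    have hlift : ∀ (a : P.FullSubcategory) (β : a.obj ⟶ X), ∃! γ : a.obj ⟶ A, γ ≫ f = β := fun a β => by
      obtain ⟨γ, hγ⟩ : ∃ γ : a.obj ⟶ A, β = γ ≫ f := Triangle.coyoneda_exact₂ _ hT β (hB _ a.property)
      refine ⟨γ, hγ.symm, fun γ' hγ' => sub_eq_zero.1 ?_⟩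
      change γ' ≫ f = β at hγ'
      have h0 : (γ' - γ) ≫ f = 0 := by
        rw [Preadditive.sub_comp, hγ']
        exact sub_eq_zero.2 hγ
      obtain ⟨δ, hδ⟩ := Triangle.coyoneda_exact₂ _ (inv_rot_of_distTriang _ hT) (γ' - γ) h0
      rw [hδ, show δ = 0 from P.rightOrthogonal.le_shift (-(1 : ℤ)) _ hB δ a.property]
      exact Limits.zero_comp
    let Y : CostructuredArrow P.ι X := CostructuredArrow.mk (Y := (⟨A, hA⟩ : P.FullSubcategory)) f
    let L : ∀ Z : CostructuredArrow P.ι X, Z ⟶ Y := fun Z =>
      CostructuredArrow.homMk (f := Z) (f' := Y) (ObjectProperty.homMk (hlift Z.left Z.hom).choose)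
        (hlift Z.left Z.hom).choose_spec.1
    exact (Limits.IsTerminal.ofUniqueHom (Y := Y) L
      (fun Z m => CostructuredArrow.hom_ext _ _ (P.ι.map_injective
        ((hlift Z.left Z.hom).unique (CostructuredArrow.w m) (hlift Z.left Z.hom).choose_spec.1)))).hasTerminal

end Groth.Agent.S0490
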