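import Groth.Statements.S0495
import Groth.Agent.Hensel1.Local

set_option autoImplicit false
universe u
open Hensel

namespace Groth.Agent.S0495

/-- A local ring whose Krull dimension is zero is henselian. -/
theorem result (R : Type u) [CommRing R] [IsLocalRing R]
    (h : ringKrullDim R = 0) : HenselianLocalRing R := by
  have : HenselianRing R (IsLocalRing.maximalIdeal R) := by
    refine Groth.Hensel1.henselianRing_of_forall_isNilpotent fun x hx => ?_
    haveI : Ring.KrullDimLE 0 R := Ring.krullDimLE_iff.mpr (by simp [h])
    have hall := Ring.KrullDimLE.eq_maximalIdeal_of_isPrime (R := R)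
    rw [← mem_nilradical, nilradical_eq_sInf]
    exact Ideal.mem_sInf.mpr fun {p} (hp : p.IsPrime) => by
      haveI := hp
      rw [hall p]; exact hx
  exact Groth.Hensel1.henselianLocalRing_of_henselianRing

end Groth.Agent.S0495
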