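import Groth.Statements.S0496
import Groth.Agent.Hensel1.Local
import Mathlib.Dynamics.Newton

set_option autoImplicit false
universe u
open Hensel

namespace Groth.Agent.S0496

/-- If every factorization of the reduction of a monic polynomial into two coprime factors over the
residue field lifts to a factorization over the local ring, then the local ring is henselian. -/
theorem result (R : Type u) [CommRing R] [IsLocalRing R]
    (h : ∀ f : Polynomial R, f.Monic →
      ∀ g₀ h₀ : Polynomial (IsLocalRing.ResidueField R), IsCoprime g₀ h₀ →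
      Polynomial.map (IsLocalRing.residue R) f = g₀ * h₀ →
      ∃ g h : Polynomial R, f = g * h ∧ Polynomial.map (IsLocalRing.residue R) g = g₀ ∧
        Polynomial.map (IsLocalRing.residue R) h = h₀) :
    HenselianLocalRing R := by
  refine ⟨fun f hf a₀ h₁ h₂ => ?_⟩
  set b := IsLocalRing.residue R a₀ with hb
  set f₀ := f.map (IsLocalRing.residue R) with hf₀
  have hroot : f₀.IsRoot b := by
    rw [Polynomial.IsRoot, hf₀, hb, Polynomial.eval_map_apply]
    exact Ideal.Quotient.eq_zero_iff_mem.mpr h₁
  set q := f₀ /ₘ (Polynomial.X - Polynomial.C b) with hq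
  have hfac : (Polynomial.X - Polynomial.C b) * q = f₀ :=
    Polynomial.mul_divByMonic_eq_iff_isRoot.mpr hroot
  have hqb : q.eval b ≠ 0 := by
    have := congr_arg (fun p => (Polynomial.derivative p).eval b) hfac
    simp [hf₀, hb, Polynomial.derivative_map, Polynomial.eval_map_apply] at this
    rw [hb, this]
    exact (h₂.map (IsLocalRing.residue R)).ne_zero
  obtain ⟨g, k, e, eg, -⟩ := h f hf _ q
    ((Polynomial.irreducible_X_sub_C b).coprime_iff_not_dvd.mpr fun hdvd =>
      hqb (Polynomial.dvd_iff_isRoot.mp hdvd)) hfac.symm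
  -- `g` is a linear polynomial up to nilpotent higher coefficients
  set d := f.natDegree with hd
  have hnil : ∀ i, 2 ≤ i → IsNilpotent (g.coeff i) := fun i hi => by
    rw [← mem_nilradical, nilradical_eq_sInf]
    refine Ideal.mem_sInf.mpr fun {p} (hp : p.IsPrime) => ?_
    rw [← Ideal.Quotient.eq_zero_iff_mem, ← Polynomial.coeff_map]
    refine Polynomial.coeff_eq_zero_of_natDegree_lt (lt_of_lt_of_le ?_ hi)
    have hpm : p ≤ IsLocalRing.maximalIdeal R := IsLocalRing.le_maximalIdeal hp.ne_top
    let π : R ⧸ p →+* IsLocalRing.ResidueField R :=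
      Ideal.Quotient.lift p (IsLocalRing.residue R) fun x hx =>
        (IsLocalRing.residue_eq_zero_iff x).mpr (hpm hx)
    have hcomp : π.comp (Ideal.Quotient.mk p) = IsLocalRing.residue R := RingHom.ext fun x => by
      simp [π]
    have hg1 : (g.map (IsLocalRing.residue R)).natDegree = 1 := by
      rw [eg, Polynomial.natDegree_X_sub_C]
    have hkne : k.map (IsLocalRing.residue R) ≠ 0 := fun h0 =>
      (hf.map (IsLocalRing.residue R)).ne_zero (by rw [e, Polynomial.map_mul, h0, mul_zero])
    have hgne : g.map (IsLocalRing.residue R) ≠ 0 := by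
      rw [eg]; exact Polynomial.X_sub_C_ne_zero b
    have hk1 : (k.map (IsLocalRing.residue R)).natDegree + 1 = d := by
      have h5 := Polynomial.natDegree_mul hgne hkne
      rw [← Polynomial.map_mul, ← e, hf.natDegree_map, hg1] at h5
      omega
    have h3 := congr_arg (Polynomial.natDegree ∘ Polynomial.map (Ideal.Quotient.mk p)) e
    simp only [Function.comp_apply, Polynomial.map_mul, hf.natDegree_map] at h3
    have hgp : g.map (Ideal.Quotient.mk p) ≠ 0 := fun h0 => by
      have := congr_arg (Polynomial.map π) h0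
      rw [Polynomial.map_map, hcomp, Polynomial.map_zero, eg] at this
      exact Polynomial.X_sub_C_ne_zero b this
    have hkp : k.map (Ideal.Quotient.mk p) ≠ 0 := fun h0 => (hf.map (Ideal.Quotient.mk p)).ne_zero
      (by rw [e, Polynomial.map_mul, h0, mul_zero])
    rw [Polynomial.natDegree_mul hgp hkp] at h3
    have h4 : (k.map (IsLocalRing.residue R)).natDegree ≤ (k.map (Ideal.Quotient.mk p)).natDegree := by
      rw [← hcomp, ← Polynomial.map_map]; exact Polynomial.natDegree_map_le
    omega
  have hfr : ∀ x, g.IsRoot x → f.IsRoot x := fun x hx => by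
    rw [Polynomial.IsRoot, e, Polynomial.eval_mul, hx.eq_zero, zero_mul]
  -- Newton's method for `g` at the root of its linear part
  have hc1 : IsUnit (g.coeff 1) := by
    refine IsUnit.of_map (IsLocalRing.residue R) _ ?_
    rw [← Polynomial.coeff_map, eg]; simp
  set x₀ := -g.coeff 0 * (↑hc1.unit⁻¹ : R) with hx₀
  have hmk : ∀ p : Ideal R, (∀ i, 2 ≤ i → g.coeff i ∈ p) →
      g.map (Ideal.Quotient.mk p) = Polynomial.C (Ideal.Quotient.mk p (g.coeff 1)) * Polynomial.X +
        Polynomial.C (Ideal.Quotient.mk p (g.coeff 0)) := fun p hp => by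
    ext i
    rcases i with _ | _ | i
    · simp
    · simp
    · simp [Polynomial.coeff_C, Polynomial.coeff_X, Ideal.Quotient.eq_zero_iff_mem.mpr (hp (i + 2) (by omega))]
  have hev : IsNilpotent (g.eval x₀) := by
    rw [← mem_nilradical, ← Ideal.Quotient.eq_zero_iff_mem, ← Polynomial.eval_map_apply,
      hmk _ fun i hi => mem_nilradical.mpr (hnil i hi)]
    simp only [Polynomial.eval_add, Polynomial.eval_mul, Polynomial.eval_C, Polynomial.eval_X,
      ← map_mul, ← map_add, hx₀]
    rw [mul_left_comm, IsUnit.mul_val_inv, mul_one, neg_add_cancel, map_zero]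
  have hder : IsUnit (g.derivative.eval x₀) := by
    refine IsUnit.of_map (IsLocalRing.residue R) _ ?_
    rw [← Polynomial.eval_map_apply, ← Polynomial.derivative_map, eg]
    simp
  obtain ⟨x, ⟨hxn, hx⟩, -⟩ := Polynomial.existsUnique_nilpotent_sub_and_aeval_eq_zero
    (P := g) (x := x₀) (by rwa [Polynomial.coe_aeval_eq_eval])
    (by rwa [Polynomial.coe_aeval_eq_eval])
  rw [Polynomial.coe_aeval_eq_eval] at hx
  refine ⟨x, hfr x hx, ?_⟩
  have hgx : (g.map (IsLocalRing.residue R)).eval (IsLocalRing.residue R x) = 0 := by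
    rw [Polynomial.eval_map_apply, hx, map_zero]
  rw [eg, Polynomial.eval_sub, Polynomial.eval_X, Polynomial.eval_C, hb, ← map_sub] at hgx
  exact Ideal.Quotient.eq_zero_iff_mem.mp hgx

end Groth.Agent.S0496
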