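import Groth.Statements.S0498
import Groth.Agent.Hensel1.Local

set_option autoImplicit false
universe u
open Hensel

namespace Groth.Agent.S0498

/-- Over a henselian local ring, a simple root in the residue field of the reduction of an arbitrary
polynomial (monic or not) lifts to a root in the ring. -/
theorem result (R : Type u) [CommRing R] [HenselianLocalRing R]
    (f : Polynomial R) (a₀ : IsLocalRing.ResidueField R)
    (h₁ : Polynomial.eval₂ (IsLocalRing.residue R) a₀ f = 0)
    (h₂ : Polynomial.eval₂ (IsLocalRing.residue R) a₀ (Polynomial.derivative f) ≠ 0) :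
    ∃ a : R, Polynomial.IsRoot f a ∧ IsLocalRing.residue R a = a₀ := by
  set a' := Function.surjInv IsLocalRing.residue_surjective a₀ with ha'
  have hres : IsLocalRing.residue R a' = a₀ := Function.surjInv_eq _ _
  set F := f.comp (Polynomial.X + Polynomial.C a') with hF
  set c₀ := F.coeff 0 with hc₀
  have hc₀m : c₀ ∈ IsLocalRing.maximalIdeal R := by
    rw [← IsLocalRing.residue_eq_zero_iff, hc₀, Polynomial.coeff_zero_eq_eval_zero, hF,
      Polynomial.eval_comp, ← Polynomial.eval₂_at_apply]
    simpa [hres] using h₁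
  have hc₁ : IsUnit (F.coeff 1) := by
    refine IsUnit.of_map (IsLocalRing.residue R) _ (isUnit_iff_ne_zero.mpr ?_)
    have e : F.coeff 1 = (Polynomial.derivative F).eval 0 := by
      rw [← Polynomial.coeff_zero_eq_eval_zero, Polynomial.coeff_derivative]; simp
    rw [e, hF, Polynomial.derivative_comp, ← Polynomial.eval₂_at_apply]
    simpa [hres, Polynomial.eval₂_comp] using h₂
  set u : R := ↑hc₁.unit⁻¹ with hu
  set N := F.natDegree + 2 with hN
  set p : Polynomial R := ∑ i ∈ Finset.Icc 2 N,
    Polynomial.C (F.coeff i * (-u) ^ i * c₀ ^ (i - 1)) * Polynomial.X ^ (N - i) with hp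
  have hpdeg : p.natDegree ≤ N - 1 := by
    refine Polynomial.natDegree_sum_le_of_forall_le _ _ fun i hi => ?_
    refine (Polynomial.natDegree_C_mul_X_pow_le _ _).trans ?_
    simp only [Finset.mem_Icc] at hi
    omega
  have hpI : ∀ j, p.coeff j ∈ IsLocalRing.maximalIdeal R := fun j => by
    rw [hp, Polynomial.finsetSum_coeff]
    refine Ideal.sum_mem _ fun i hi => ?_
    simp only [Finset.mem_Icc] at hi
    rw [Polynomial.coeff_C_mul]
    exact Ideal.mul_mem_right _ _ (Ideal.mul_mem_left _ _ (Ideal.pow_mem_of_mem _ hc₀m _ (by omega)))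
  obtain ⟨α, hα, hr⟩ := (Groth.Hensel1.gabber_of_henselianRing
    (I := IsLocalRing.maximalIdeal R)).root (N - 1) (by omega) p hpdeg hpI
  obtain ⟨v, hv⟩ := Groth.Hensel1.isUnit_of_sub_one_mem
    (IsLocalRing.maximalIdeal_le_jacobson ⊥) hα
  set x : R := -u * c₀ * ↑v⁻¹ with hx
  have hx0 : F.eval x = 0 := by
    have key : F.eval x * α ^ N = c₀ * (α ^ (N - 1) * (α - 1) + p.eval α) := by
      have hu1 : F.coeff 1 * u = 1 := IsUnit.mul_val_inv hc₁
      have hval : α * (↑v⁻¹ : R) = 1 := by rw [← hv]; exact Units.mul_inv v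
      rw [Polynomial.eval_eq_sum_range' (n := N + 1) (show F.natDegree < N + 1 by omega),
        Finset.sum_mul]
      have hsplit : Finset.range (N + 1) = insert 0 (insert 1 (Finset.Icc 2 N)) := by
        ext i; simp only [Finset.mem_range, Finset.mem_insert, Finset.mem_Icc]; omega
      rw [hsplit, Finset.sum_insert (by simp), Finset.sum_insert (by simp), hp,
        Polynomial.eval_finsetSum, mul_add, Finset.mul_sum]
      have h01 : F.coeff 0 * x ^ 0 * α ^ N + F.coeff 1 * x ^ 1 * α ^ N =
          c₀ * (α ^ (N - 1) * (α - 1)) := by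
        have hpow : α ^ N = α ^ (N - 1) * α := by rw [← pow_succ]; congr 1
        rw [hpow, hx, ← hc₀]
        linear_combination (-(c₀ * α ^ (N - 1))) * hu1 - (F.coeff 1 * u * c₀ * α ^ (N - 1)) * hval
      rw [← add_assoc, h01]
      congr 1
      refine Finset.sum_congr rfl fun i hi => ?_
      simp only [Finset.mem_Icc] at hi
      have hpow : α ^ N = α ^ (N - i) * α ^ i := by rw [← pow_add]; congr 1; omega
      have hc : c₀ ^ i = c₀ ^ (i - 1) * c₀ := by rw [← pow_succ]; congr 1; omega
      have hval' : (↑v⁻¹ : R) ^ i * α ^ i = 1 := by rw [← mul_pow, mul_comm, hval, one_pow]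
      simp only [Polynomial.eval_mul, Polynomial.eval_C, Polynomial.eval_pow, Polynomial.eval_X]
      rw [hpow, hx, mul_pow, mul_pow, hc]
      linear_combination (F.coeff i * (-u) ^ i * c₀ ^ (i - 1) * c₀ * α ^ (N - i)) * hval'
    have h0 : α ^ (N - 1) * (α - 1) + p.eval α = 0 := by simpa using hr
    rw [h0, mul_zero, ← hv] at key
    exact (v.isUnit.pow N).mul_left_eq_zero.mp key
  refine ⟨x + a', ?_, ?_⟩
  · rw [hF, Polynomial.eval_comp] at hx0
    simpa [Polynomial.IsRoot] using hx0
  · have hxm : IsLocalRing.residue R x = 0 := by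
      rw [IsLocalRing.residue_eq_zero_iff, hx]
      exact Ideal.mul_mem_right _ _ (Ideal.mul_mem_left _ _ hc₀m)
    rw [map_add, hres, hxm, zero_add]

end Groth.Agent.S0498
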