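import Groth.Statements.S0502
import Groth.Agent.Hensel1.Local

set_option autoImplicit false
universe u
open Hensel

namespace Groth.Agent.S0502

/-- A local ring `R` is henselian as soon as every étale `R`-algebra having a prime over the maximal
ideal with trivial residue field extension admits an `R`-algebra retraction to `R`. -/
theorem result (R : Type u) [CommRing R] [IsLocalRing R]
    (h : ∀ (S : Type u) [CommRing S] [Algebra R S] [Algebra.Etale R S] (q : Ideal S) [q.IsPrime],
      q.LiesOver (IsLocalRing.maximalIdeal R) → Function.Surjective (algebraMap R q.ResidueField) →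
      Nonempty (S →ₐ[R] R)) :
    HenselianLocalRing R := by
  refine ⟨fun f hf a₀ h₁ h₂ => ?_⟩
  set k := IsLocalRing.ResidueField R
  set b := IsLocalRing.residue R a₀ with hb
  set f₀ := f.map (IsLocalRing.residue R) with hf₀
  have hroot : f₀.IsRoot b := by
    rw [Polynomial.IsRoot, hf₀, hb, Polynomial.eval_map_apply]
    exact Ideal.Quotient.eq_zero_iff_mem.mpr h₁
  obtain ⟨h', hh'⟩ := Polynomial.map_surjective (IsLocalRing.residue R)
    IsLocalRing.residue_surjective (f₀ /ₘ (Polynomial.X - Polynomial.C b))
  have hfac : (Polynomial.X - Polynomial.C b) * h'.map (IsLocalRing.residue R) = f₀ := by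
    rw [hh']; exact Polynomial.mul_divByMonic_eq_iff_isRoot.mpr hroot
  let P : StandardEtalePair R :=
    ⟨f, hf, f.derivative * h', h', 0, 1, by simp⟩
  have hd : (h'.map (IsLocalRing.residue R)).eval b ≠ 0 := by
    have := congr_arg (fun p => (Polynomial.derivative p).eval b) hfac
    simp [hf₀, hb, Polynomial.derivative_map, Polynomial.eval_map_apply] at this
    rw [hb, Polynomial.eval_map_apply, this]
    exact (h₂.map (IsLocalRing.residue R)).ne_zero
  have hP : P.HasMap b := by
    have e : ∀ p : Polynomial R, Polynomial.aeval b p = (p.map (IsLocalRing.residue R)).eval b :=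
      fun p => by rw [Polynomial.eval_map]; rfl
    refine ⟨(e f).trans hroot, ?_⟩
    rw [e, Polynomial.map_mul, Polynomial.eval_mul, hb]
    refine isUnit_iff_ne_zero.mpr (mul_ne_zero ?_ (hb ▸ hd))
    rw [Polynomial.eval_map_apply]
    exact (h₂.map (IsLocalRing.residue R)).ne_zero
  let σ := P.lift b hP
  have hσ : Function.Surjective σ := fun y => by
    obtain ⟨r, rfl⟩ := IsLocalRing.residue_surjective y
    exact ⟨algebraMap R _ r, σ.commutes r⟩
  haveI : (RingHom.ker σ.toRingHom).IsMaximal := RingHom.ker_isMaximal_of_surjective _ hσ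
  haveI : (RingHom.ker σ.toRingHom).LiesOver (IsLocalRing.maximalIdeal R) := ⟨by
    rw [Ideal.under, RingHom.comap_ker]
    have : σ.toRingHom.comp (algebraMap R P.Ring) = IsLocalRing.residue R :=
      RingHom.ext fun r => σ.commutes r
    rw [this, IsLocalRing.ker_residue]⟩
  have hsurj : Function.Surjective (algebraMap R (RingHom.ker σ.toRingHom).ResidueField) := by
    intro y
    obtain ⟨z, rfl⟩ := (RingHom.ker σ.toRingHom).algebraMap_residueField_surjective y
    obtain ⟨r, hr⟩ := IsLocalRing.residue_surjective (σ z)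
    refine ⟨r, ?_⟩
    rw [IsScalarTower.algebraMap_apply R P.Ring, ← sub_eq_zero, ← map_sub, ← RingHom.mem_ker,
      Ideal.ker_algebraMap_residueField, RingHom.mem_ker]
    show σ (algebraMap R P.Ring r - z) = 0
    rw [map_sub, σ.commutes, ← hr]
    exact sub_self _
  obtain ⟨τ⟩ := h P.Ring (RingHom.ker σ.toRingHom) inferInstance hsurj
  have hm := P.hasMap_X.map τ
  refine ⟨τ P.X, by rw [Polynomial.IsRoot, ← Polynomial.coe_aeval_eq_eval]; exact hm.1, ?_⟩
  have hu : (h'.map (IsLocalRing.residue R)).eval (IsLocalRing.residue R (τ P.X)) ≠ 0 := by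
    rw [Polynomial.eval_map_apply]
    have := hm.2
    rw [show P.g = f.derivative * h' from rfl, map_mul, IsUnit.mul_iff,
      Polynomial.coe_aeval_eq_eval] at this
    exact (this.2.map (IsLocalRing.residue R)).ne_zero
  have h0 : f₀.eval (IsLocalRing.residue R (τ P.X)) = 0 := by
    rw [hf₀, Polynomial.eval_map_apply]
    have := hm.1
    rw [Polynomial.coe_aeval_eq_eval] at this
    rw [show P.f = f from rfl] at this
    rw [this, map_zero]
  rw [← hfac, Polynomial.eval_mul, mul_eq_zero] at h0
  rcases h0 with h0 | h0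
  · rw [Polynomial.eval_sub, Polynomial.eval_X, Polynomial.eval_C, hb, ← map_sub] at h0
    exact Ideal.Quotient.eq_zero_iff_mem.mp h0
  · exact absurd h0 hu

end Groth.Agent.S0502
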