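import Groth.Statements.S0508
import Groth.Agent.Hensel1.Std

set_option autoImplicit false
universe u
open Hensel

namespace Groth.Agent.S0508

/-- The henselization of a local ring induces an isomorphism on residue fields. -/
theorem result (R : Type u) [CommRing R] [IsLocalRing R] (S : Type u) [CommRing S] [IsLocalRing S]
    [Algebra R S] [IsLocalHom (algebraMap R S)] [Hensel.IsHenselization R S] :
    Function.Bijective (IsLocalRing.ResidueField.map (algebraMap R S)) := by
  obtain ⟨e⟩ := Groth.Hensel1.exists_algEquiv_of_isHenselization R S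
  refine ⟨RingHom.injective _, fun y => ?_⟩
  obtain ⟨s, rfl⟩ := IsLocalRing.residue_surjective y
  obtain ⟨r, hr⟩ := IsLocalRing.residue_surjective (Groth.Hensel1.Hens.pt (e.symm s))
  refine ⟨IsLocalRing.residue R r, ?_⟩
  rw [IsLocalRing.ResidueField.map_residue]
  refine Ideal.Quotient.eq.mpr ?_
  show algebraMap R S r - s ∈ IsLocalRing.maximalIdeal S
  have h1 : e.symm (algebraMap R S r - s) ∈
      IsLocalRing.maximalIdeal (Groth.Hensel1.Hens R (IsLocalRing.ResidueField R)) := by
    rw [Groth.Hensel1.Hens.mem_maximalIdeal_iff, map_sub, e.symm.commutes, map_sub,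
      AlgHom.commutes, ← hr, IsLocalRing.ResidueField.algebraMap_eq, sub_self]
  rw [IsLocalRing.mem_maximalIdeal, mem_nonunits_iff] at h1 ⊢
  exact fun h => h1 (h.map e.symm)

end Groth.Agent.S0508
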