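import Groth.Statements.S0510
import Groth.Agent.Hensel1.Std

set_option autoImplicit false
universe u
open Hensel

namespace Groth.Agent.S0510

/-- For a local ring `R` with henselization `S` and every `n`, the natural map from `R` modulo the
`n`-th power of its maximal ideal to `S` modulo the extension of that power is a bijection. -/
theorem result (R : Type u) [CommRing R] [IsLocalRing R] (S : Type u) [CommRing S] [IsLocalRing S]
    [Algebra R S] [IsLocalHom (algebraMap R S)] [Hensel.IsHenselization R S] (n : ℕ) :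
    Function.Bijective (Ideal.quotientMap
      (Ideal.map (algebraMap R S) (IsLocalRing.maximalIdeal R ^ n)) (algebraMap R S)
      Ideal.le_comap_map) := by
  obtain ⟨e⟩ := Groth.Hensel1.exists_algEquiv_of_isHenselization R S
  have : Module.Flat R S := Module.Flat.of_linearEquiv e.symm.toLinearEquiv
  have : Module.FaithfullyFlat R S := Module.FaithfullyFlat.of_flat_of_isLocalHom
  have hm : Ideal.map (algebraMap R S) (IsLocalRing.maximalIdeal R) = IsLocalRing.maximalIdeal S := by
    have h1 := congr_arg (Ideal.map e.toAlgHom.toRingHom)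
      (Groth.Hensel1.Hens.map_maximalIdeal (R := R) (Ω := IsLocalRing.ResidueField R))
    have h2 := IsLocalRing.map_maximalIdeal_of_surjective e.toAlgHom.toRingHom e.surjective
    rw [h2, Ideal.map_map] at h1
    rw [← h1]
    congr 1
    exact e.toAlgHom.comp_algebraMap.symm
  have hsurj : ∀ y : S, ∃ r : R, y - algebraMap R S r ∈ IsLocalRing.maximalIdeal S := fun y => by
    obtain ⟨r, hr⟩ := IsLocalRing.residue_surjective (Groth.Hensel1.Hens.pt (e.symm y))
    refine ⟨r, ?_⟩
    have h1 : e.symm (y - algebraMap R S r) ∈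
        IsLocalRing.maximalIdeal (Groth.Hensel1.Hens R (IsLocalRing.ResidueField R)) := by
      rw [Groth.Hensel1.Hens.mem_maximalIdeal_iff, map_sub, e.symm.commutes, map_sub,
        AlgHom.commutes, ← hr, IsLocalRing.ResidueField.algebraMap_eq, sub_self]
    rw [IsLocalRing.mem_maximalIdeal, mem_nonunits_iff] at h1 ⊢
    exact fun h => h1 (h.map e.symm)
  refine ⟨Ideal.quotientMap_injective' ?_, fun y => ?_⟩
  · exact (Ideal.comap_map_eq_self_of_faithfullyFlat (B := S) _).le
  obtain ⟨y, rfl⟩ := Ideal.Quotient.mk_surjective y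
  suffices ∀ k : ℕ, ∀ y : S, ∃ r : R,
      y - algebraMap R S r ∈ Ideal.map (algebraMap R S) (IsLocalRing.maximalIdeal R ^ k) by
    obtain ⟨r, hr⟩ := this n y
    exact ⟨Ideal.Quotient.mk _ r, by rw [Ideal.quotientMap_mk]; exact (Ideal.Quotient.eq.mpr hr).symm⟩
  intro k
  induction k with
  | zero => exact fun y => ⟨0, by simp [Ideal.map_top]⟩
  | succ k ih =>
    intro y
    obtain ⟨r, hr⟩ := ih y
    suffices ∀ z ∈ Ideal.map (algebraMap R S) (IsLocalRing.maximalIdeal R ^ k),
        ∃ a : R, z - algebraMap R S a ∈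
          Ideal.map (algebraMap R S) (IsLocalRing.maximalIdeal R ^ (k + 1)) by
      obtain ⟨a, ha⟩ := this _ hr
      exact ⟨r + a, by rw [map_add, ← sub_sub]; exact ha⟩
    intro z hz
    induction hz using Submodule.span_induction with
    | mem z hz => obtain ⟨a, ha, rfl⟩ := hz; exact ⟨a, by simp⟩
    | zero => exact ⟨0, by simp⟩
    | add z₁ z₂ _ _ h₁ h₂ =>
      obtain ⟨a₁, h₁⟩ := h₁; obtain ⟨a₂, h₂⟩ := h₂
      exact ⟨a₁ + a₂, by rw [map_add, add_sub_add_comm]; exact add_mem h₁ h₂⟩
    | smul c z hz h =>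
      obtain ⟨a, ha⟩ := h
      obtain ⟨d, hd⟩ := hsurj c
      refine ⟨d * a, ?_⟩
      have : c * z - algebraMap R S (d * a) =
          (c - algebraMap R S d) * z + algebraMap R S d * (z - algebraMap R S a) := by
        rw [map_mul]; ring
      rw [smul_eq_mul, this]
      refine add_mem ?_ (Ideal.mul_mem_left _ _ ha)
      rw [pow_succ', Ideal.map_mul, hm]
      exact Ideal.mul_mem_mul hd hz

end Groth.Agent.S0510
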