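import Groth.Statements.S0516
import Groth.Agent.Hensel1.QFSplit
import Mathlib.RingTheory.Unramified.LocalRing
import Mathlib.RingTheory.Unramified.LocalStructure
import Mathlib.FieldTheory.IsSepClosed
import Mathlib.Tactic.LinearCombination
import Mathlib.Algebra.Algebra.Prod
import Mathlib.Algebra.Algebra.Pi

set_option autoImplicit false
universe u
open Hensel

namespace Groth.Agent.S0516

/-- An unramified algebra `S` (formally unramified of finite type) over a strictly henselian local ring
`R` is isomorphic over `R` to a product of finitely many quotient rings of `R` and an `R`-algebra in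
which the maximal ideal of `R` generates the unit ideal. -/
theorem result (R : Type u) [CommRing R]
    [HenselianLocalRing R] [IsSepClosed (IsLocalRing.ResidueField R)] (S : Type u) [CommRing S] [Algebra R S]
    [Algebra.Unramified R S] :
    ∃ (ι : Type u) (_ : Fintype ι) (A : ι → Type u) (_ : ∀ i, CommRing (A i))
      (_ : ∀ i, Algebra R (A i)) (B : Type u) (_ : CommRing B) (_ : Algebra R B),
      (∀ i, Function.Surjective (algebraMap R (A i))) ∧
      Ideal.map (algebraMap R B) (IsLocalRing.maximalIdeal R) = ⊤ ∧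
      Nonempty (S ≃ₐ[R] ((∀ i, A i) × B)) := by
  obtain ⟨e, he, hq⟩ := Groth.Hensel1.exists_fgIdem_forall_quasiFiniteAt (R := R) (S := S)
  have := he.finite
  let S₁ := S ⧸ Ideal.span {1 - e}
  let B := S ⧸ Ideal.span {e}
  obtain ⟨ι, _, ε, hε, hloc⟩ := Groth.Hensel1.exists_completeOrthogonalIdempotents_local R S₁
  refine ⟨ι, inferInstance, fun i => S₁ ⧸ Ideal.span {1 - ε i}, inferInstance, inferInstance, B,
    inferInstance, inferInstance, fun i => ?_, ?_, ?_⟩
  · have := hloc i
    let A := S₁ ⧸ Ideal.span {1 - ε i}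
    have : Module.Finite R A := Module.Finite.of_surjective
      (Ideal.Quotient.mkₐ R (Ideal.span {1 - ε i})).toLinearMap Ideal.Quotient.mk_surjective
    have hne : Ideal.map (algebraMap R A) (IsLocalRing.maximalIdeal R) ≠ ⊤ := fun htop => by
      have h1 : (⊤ : Submodule R A) ≤ ⊥ := by
        refine Submodule.le_of_le_smul_of_le_jacobson_bot Module.Finite.fg_top
          (IsLocalRing.jacobson_eq_maximalIdeal ⊥ bot_ne_top).ge (fun y _ => ?_)
        rw [bot_sup_eq, Ideal.smul_top_eq_map, htop]
        trivial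
      exact one_ne_zero (α := A) ((Submodule.mem_bot R).mp (h1 Submodule.mem_top))
    have : IsLocalHom (algebraMap R A) :=
      ((IsLocalRing.local_hom_TFAE (algebraMap R A)).out 0 2 rfl rfl).mpr
        (IsLocalRing.le_maximalIdeal hne)
    have : Algebra.FormallyUnramified R S₁ := Algebra.FormallyUnramified.comp R S S₁
    have : Algebra.FormallyUnramified R A := Algebra.FormallyUnramified.comp R S₁ A
    intro y
    have h2 : (⊤ : Submodule R A) ≤ Submodule.span R {(1 : A)} := by
      refine Submodule.le_of_le_smul_of_le_jacobson_bot Module.Finite.fg_top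
        (IsLocalRing.jacobson_eq_maximalIdeal ⊥ bot_ne_top).ge (fun z _ => ?_)
      obtain ⟨c, hc⟩ := IsSepClosed.algebraMap_surjective (IsLocalRing.ResidueField R)
        (IsLocalRing.ResidueField A) (IsLocalRing.residue A z)
      obtain ⟨r, rfl⟩ := IsLocalRing.residue_surjective c
      rw [show z = algebraMap R A r + (z - algebraMap R A r) by ring]
      refine Submodule.add_mem_sup ?_ ?_
      · rw [Algebra.algebraMap_eq_smul_one]
        exact Submodule.smul_mem _ _ (Submodule.mem_span_singleton_self _)
      · rw [Ideal.smul_top_eq_map, Submodule.restrictScalars_mem,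
          Algebra.FormallyUnramified.map_maximalIdeal, ← IsLocalRing.residue_eq_zero_iff, map_sub,
          ← hc]
        exact sub_eq_zero.mpr rfl
    obtain ⟨r, hr⟩ := Submodule.mem_span_singleton.mp (h2 (Submodule.mem_top (x := y)))
    exact ⟨r, (Algebra.algebraMap_eq_smul_one r).trans hr⟩
  · by_contra hne
    obtain ⟨q, hqm, hle⟩ := Ideal.exists_le_maximal _ hne
    have hq0 : e ∈ q.comap (Ideal.Quotient.mk (Ideal.span {e})) := by
      rw [Ideal.mem_comap, Ideal.Quotient.eq_zero_iff_mem.mpr (Ideal.mem_span_singleton_self _)]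
      exact q.zero_mem
    have : (q.comap (Ideal.Quotient.mk (Ideal.span {e}))).LiesOver (IsLocalRing.maximalIdeal R) :=
      ⟨(IsLocalRing.maximalIdeal.isMaximal R).eq_of_le
        ((inferInstance : ((q.comap (Ideal.Quotient.mk (Ideal.span {e}))).under R).IsPrime).ne_top)
        (fun x hx => Ideal.map_le_iff_le_comap.mp hle hx)⟩
    exact hq _ inferInstance hq0
  · let φ : S →ₐ[R] S₁ × B := (Ideal.Quotient.mkₐ R _).prod (Ideal.Quotient.mkₐ R _)
    have hφ : Function.Bijective φ := by
      refine ⟨(injective_iff_map_eq_zero φ).mpr fun x hx => ?_, fun y => ?_⟩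
      · obtain ⟨c, hc⟩ := Ideal.mem_span_singleton.mp
          (Ideal.Quotient.eq_zero_iff_mem.mp (congr_arg Prod.fst hx))
        obtain ⟨d, hd⟩ := Ideal.mem_span_singleton.mp
          (Ideal.Quotient.eq_zero_iff_mem.mp (congr_arg Prod.snd hx))
        linear_combination e * hc + (1 - e) * hd + (c + d) * he.1.mul_one_sub_self
      · obtain ⟨y₁, y₂⟩ := y
        obtain ⟨a, rfl⟩ := Ideal.Quotient.mk_surjective y₁
        obtain ⟨b, rfl⟩ := Ideal.Quotient.mk_surjective y₂
        refine ⟨e * a + (1 - e) * b, Prod.ext ?_ ?_⟩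
        · exact Ideal.Quotient.eq.mpr (Ideal.mem_span_singleton.mpr ⟨b - a, by ring⟩)
        · exact Ideal.Quotient.eq.mpr (Ideal.mem_span_singleton.mpr ⟨a - b, by ring⟩)
    let ψ : S₁ →ₐ[R] ∀ i, S₁ ⧸ Ideal.span {1 - ε i} :=
      Pi.algHom R _ fun i => Ideal.Quotient.mkₐ R _
    exact ⟨(AlgEquiv.ofBijective φ hφ).trans
      (AlgEquiv.prodCongr (AlgEquiv.ofBijective ψ hε.bijective_pi) AlgEquiv.refl)⟩

end Groth.Agent.S0516
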