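import Groth.Statements.S0517
import Groth.Agent.Hensel1.SepPoints
open scoped TensorProduct

set_option autoImplicit false
universe u
open Hensel

namespace Groth.Agent.S0517

/-- Given strictly henselian local rings `R` and `S`, a local ring map `φ` between them, and a square
system of `n` polynomial equations in `n` unknowns over `R` whose quotient algebra is étale over
`R`, applying `φ` coordinatewise matches the solutions of the system in `Rⁿ` bijectively with the
solutions of the transported system in `Sⁿ`. -/
theorem result (R : Type u) [CommRing R]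
    [HenselianLocalRing R] [IsSepClosed (IsLocalRing.ResidueField R)] (S : Type u) [CommRing S]
    [HenselianLocalRing S] [IsSepClosed (IsLocalRing.ResidueField S)] (φ : R →+* S) [IsLocalHom φ] (n : ℕ)
    (P : Fin n → MvPolynomial (Fin n) R)
    [Algebra.Etale R (MvPolynomial (Fin n) R ⧸ Ideal.span (Set.range P))] :
    Set.BijOn (fun r : Fin n → R => φ ∘ r)
      {r : Fin n → R | ∀ i, MvPolynomial.eval r (P i) = 0}
      {s : Fin n → S | ∀ i, MvPolynomial.eval s (MvPolynomial.map φ (P i)) = 0} := by
  let E := MvPolynomial (Fin n) R ⧸ Ideal.span (Set.range P)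
  let k := IsLocalRing.ResidueField R
  let k' := IsLocalRing.ResidueField S
  let := φ.toAlgebra
  have hSR : IsLocalHom (algebraMap R S) := ‹IsLocalHom φ›
  let t : Fin n → E := fun i => Ideal.Quotient.mk _ (MvPolynomial.X i)
  have hsol : ∀ (T : Type u) [CommRing T] [Algebra R T] (s : Fin n → T),
      (∀ i, MvPolynomial.aeval s (P i) = 0) → ∃ τ : E →ₐ[R] T, ∀ i, τ (t i) = s i := by
    intro T _ _ s hs
    refine ⟨Ideal.Quotient.liftₐ _ (MvPolynomial.aeval s) fun x hx => ?_, fun i => ?_⟩
    swap
    · show MvPolynomial.aeval s (MvPolynomial.X i) = s i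
      simp
    refine (Ideal.span_le (I := RingHom.ker (MvPolynomial.aeval s (R := R)))).mpr ?_ hx
    rintro _ ⟨i, rfl⟩
    exact hs i
  have hext : ∀ (T : Type u) [CommRing T] [Algebra R T] (τ τ' : E →ₐ[R] T),
      (∀ i, τ (t i) = τ' (t i)) → τ = τ' := fun T _ _ τ τ' h =>
    Ideal.Quotient.algHom_ext R (MvPolynomial.algHom_ext h)
  have hback : ∀ (T : Type u) [CommRing T] [Algebra R T] (τ : E →ₐ[R] T) (i : Fin n),
      MvPolynomial.aeval (fun j => τ (t j)) (P i) = 0 := by
    intro T _ _ τ i
    have h1 : MvPolynomial.aeval (fun j => τ (t j)) = τ.comp (Ideal.Quotient.mkₐ R _) :=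
      MvPolynomial.algHom_ext fun j => by rw [MvPolynomial.aeval_X]; rfl
    rw [h1, AlgHom.comp_apply, Ideal.Quotient.mkₐ_eq_mk,
      Ideal.Quotient.eq_zero_iff_mem.mpr (Ideal.subset_span (Set.mem_range_self i)), map_zero]
  have hmap : ∀ (r : Fin n → R) (p : MvPolynomial (Fin n) R),
      MvPolynomial.eval (φ ∘ r) (MvPolynomial.map φ p) = φ (MvPolynomial.eval r p) := fun r p => by
    induction p using MvPolynomial.induction_on with
    | C a => simp
    | add p q hp hq => simp [hp, hq]
    | mul_X p i hp => simp [hp]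
  refine ⟨fun r hr i => by rw [hmap, hr i, map_zero], fun r hr r' hr' hrr' => ?_, fun s hs => ?_⟩
  · obtain ⟨τ, hτ⟩ := hsol R r fun i => by
      rw [MvPolynomial.aeval_eq_eval]; exact hr i
    obtain ⟨τ', hτ'⟩ := hsol R r' fun i => by
      rw [MvPolynomial.aeval_eq_eval]; exact hr' i
    have heq : (IsScalarTower.toAlgHom R R (IsLocalRing.ResidueField R)).comp τ =
        (IsScalarTower.toAlgHom R R (IsLocalRing.ResidueField R)).comp τ' := by
      refine hext _ _ _ fun i => (IsLocalRing.ResidueField.map φ).injective ?_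
      simp only [AlgHom.comp_apply, hτ, hτ', IsScalarTower.coe_toAlgHom',
        IsLocalRing.ResidueField.algebraMap_eq, IsLocalRing.ResidueField.map_residue]
      rw [show φ (r i) = φ (r' i) from congr_fun hrr' i]
    obtain ⟨f, -, huniq⟩ := Groth.Hensel1.existsUnique_algHom_lift_residue
      ((IsScalarTower.toAlgHom R R (IsLocalRing.ResidueField R)).comp τ)
    have h1 : τ = τ' := (huniq τ fun a => rfl).trans
      (huniq τ' fun a => (DFunLike.congr_fun heq a).symm).symm
    funext i
    rw [← hτ i, ← hτ' i, h1]
  · obtain ⟨σ, hσ⟩ := hsol S s fun i => by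
      rw [MvPolynomial.aeval_def, ← MvPolynomial.eval_map]; exact hs i
    have : IsScalarTower R k k' := IsScalarTower.of_algebraMap_eq fun r => rfl
    let ψ : k ⊗[R] E →ₐ[k] k' := Algebra.TensorProduct.lift (Algebra.ofId k k')
      ((IsScalarTower.toAlgHom R S k').comp σ) fun _ _ => Commute.all _ _
    have : Algebra.Etale R E := ‹_›
    have : Algebra.Etale k (k ⊗[R] E) := inferInstance
    obtain ⟨c, hc⟩ := Groth.Hensel1.exists_algHom_of_isSepClosed (A := k ⊗[R] E) (K := k') ψ
    obtain ⟨τ, hτ, -⟩ := Groth.Hensel1.existsUnique_algHom_lift_residue (T := R)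
      ((c.restrictScalars R).comp Algebra.TensorProduct.includeRight)
    refine ⟨fun i => τ (t i), fun i => ?_, ?_⟩
    · have := hback R τ i
      rwa [MvPolynomial.aeval_eq_eval] at this
    · obtain ⟨f, -, huniq⟩ := Groth.Hensel1.existsUnique_algHom_lift_residue (T := S)
        ((IsScalarTower.toAlgHom R S k').comp σ)
      have h1 : (IsScalarTower.toAlgHom R R S).comp τ = σ := by
        refine (huniq _ fun a => ?_).trans (huniq σ fun a => rfl).symm
        show IsLocalRing.residue S (φ (τ a)) = _
        rw [← IsLocalRing.ResidueField.map_residue, hτ]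
        have := DFunLike.congr_fun hc (1 ⊗ₜ a)
        simp [ψ] at this
        exact this
      funext i
      rw [← hσ i]
      exact DFunLike.congr_fun h1 (t i)

end Groth.Agent.S0517
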