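import Groth.Statements.S0520
import Groth.Agent.Hensel1.Local

set_option autoImplicit false
universe u
open Hensel

namespace Groth.Agent.S0520

/-- A ring `A` is Henselian at an ideal `I` in Mathlib's sense (simple roots lift) exactly when `I` lies
in the Jacobson radical and every factorization of the reduction of a monic polynomial into two
comaximal monic factors over `A/I` lifts to a factorization into monic polynomials over `A`. -/
theorem result (A : Type u) [CommRing A] (I : Ideal A) :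
    HenselianRing A I ↔ (I ≤ Ideal.jacobson ⊥ ∧
      ∀ f : Polynomial A, f.Monic → ∀ g₀ h₀ : Polynomial (A ⧸ I), g₀.Monic → h₀.Monic →
        IsCoprime g₀ h₀ → Polynomial.map (Ideal.Quotient.mk I) f = g₀ * h₀ →
        ∃ g h : Polynomial A, g.Monic ∧ h.Monic ∧ f = g * h ∧
          Polynomial.map (Ideal.Quotient.mk I) g = g₀ ∧ Polynomial.map (Ideal.Quotient.mk I) h = h₀) := by
  refine ⟨fun h => ⟨h.jac, fun f hf g₀ h₀ hg hh hc he => ?_⟩, fun ⟨hjac, h⟩ => ?_⟩
  · obtain ⟨g, k, hg', hk', e, eg, ek, -⟩ :=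
      Groth.Hensel1.exists_monic_factor_lift (I := I) hf hg hh hc he
    exact ⟨g, k, hg', hk', e, eg, ek⟩
  refine ⟨hjac, fun f hf a₀ h₁ h₂ => ?_⟩
  rcases subsingleton_or_nontrivial A with hA | hA
  · exact ⟨a₀, Subsingleton.elim _ _, by simp⟩
  have : Nontrivial (A ⧸ I) := Ideal.Quotient.nontrivial_iff.mpr fun hI =>
    zero_ne_one (α := A) (by
      have := Ideal.mem_jacobson_bot.mp (hjac (hI ▸ Submodule.mem_top : (-1 : A) ∈ I)) 1
      simp at this)
  set f₀ := f.map (Ideal.Quotient.mk I) with hf₀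
  set b := Ideal.Quotient.mk I a₀ with hb
  have hroot : f₀.IsRoot b := by
    rw [Polynomial.IsRoot, hf₀, hb, Polynomial.eval_map_apply]
    exact Ideal.Quotient.eq_zero_iff_mem.mpr h₁
  have hfac : (Polynomial.X - Polynomial.C b) * (f₀ /ₘ (Polynomial.X - Polynomial.C b)) = f₀ :=
    Polynomial.mul_divByMonic_eq_iff_isRoot.mpr hroot
  set q := f₀ /ₘ (Polynomial.X - Polynomial.C b) with hq
  have hqb : IsUnit (q.eval b) := by
    have := congr_arg (fun p => (Polynomial.derivative p).eval b) hfac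
    simp [hf₀, hb, Polynomial.derivative_map, Polynomial.eval_map_apply] at this
    rw [hb, this]; exact h₂
  have hc : IsCoprime (Polynomial.X - Polynomial.C b) q := by
    obtain ⟨r, hr⟩ := Polynomial.X_sub_C_dvd_sub_C_eval (a := b) (p := q)
    refine ⟨-(Polynomial.C (↑hqb.unit⁻¹ : A ⧸ I) * r), Polynomial.C (↑hqb.unit⁻¹ : A ⧸ I), ?_⟩
    have h1 : Polynomial.C (↑hqb.unit⁻¹ : A ⧸ I) * Polynomial.C (q.eval b) = 1 := by
      rw [← Polynomial.C_mul, IsUnit.val_inv_mul, Polynomial.C_1]
    linear_combination (Polynomial.C (↑hqb.unit⁻¹ : A ⧸ I)) * hr + h1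
  have hqm : q.Monic := (Polynomial.monic_X_sub_C b).of_mul_monic_left (hfac ▸ hf.map _)
  obtain ⟨g, k, hg, hk, e, eg, -⟩ :=
    h f hf _ q (Polynomial.monic_X_sub_C b) hqm hc hfac.symm
  have hdeg : g.natDegree = 1 := by
    rw [← hg.natDegree_map (Ideal.Quotient.mk I), eg, Polynomial.natDegree_X_sub_C]
  have hgX := Polynomial.eq_X_add_C_of_natDegree_le_one hdeg.le
  rw [show g.coeff 1 = 1 by rw [← hdeg]; exact hg.coeff_natDegree, Polynomial.C_1, one_mul] at hgX
  refine ⟨-g.coeff 0, ?_, ?_⟩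
  · rw [Polynomial.IsRoot, e, hgX]; simp
  · rw [← Ideal.Quotient.eq, map_neg]
    have := congr_arg (Polynomial.coeff · 0) eg
    simp at this
    rw [this, hb]; simp

end Groth.Agent.S0520
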