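import Groth.Statements.S0524
import Groth.Agent.Hensel1.Local

set_option autoImplicit false
universe u
open Hensel

namespace Groth.Agent.S0524

/-- (1) iff (5) with the uniqueness complement: `A` is Henselian at `I` exactly when `I` lies in the
Jacobson radical and, for every `n ≥ 1` and every polynomial `p` of degree at most `n` with all
coefficients in `I`, the polynomial `Tⁿ(T-1) + p` has exactly one root congruent to `1` modulo `I`. -/
theorem result (A : Type u) [CommRing A] (I : Ideal A) :
    HenselianRing A I ↔ (I ≤ Ideal.jacobson ⊥ ∧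
      ∀ (n : ℕ), 0 < n → ∀ p : Polynomial A, p.natDegree ≤ n → (∀ i, p.coeff i ∈ I) →
        ∃! α : A, α - 1 ∈ I ∧
          Polynomial.IsRoot (Polynomial.X ^ n * (Polynomial.X - 1) + p) α) := by
  have hiff : HenselianRing A I ↔ Groth.Hensel1.Gabber I := Groth.Hensel1.henselianRing_iff_gabber
  refine ⟨fun h => ⟨h.jac, fun n hn p hp hpI => ?_⟩, fun ⟨hjac, h⟩ => hiff.mpr
    ⟨hjac, fun n hn p hp hpI => (h n hn p hp hpI).exists⟩⟩
  obtain ⟨α, hα, hr⟩ := (hiff.mp h).root n hn p hp hpI
  refine ⟨α, ⟨hα, hr⟩, fun β ⟨hβ, hr'⟩ => ?_⟩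
  obtain ⟨c, hc⟩ := Polynomial.exists_mul_sq_add_linear_part_eq_eval_add
    (Polynomial.X ^ n * (Polynomial.X - 1) + p) α (β - α)
  set q := Polynomial.X ^ n * (Polynomial.X - 1) + p with hq
  have hd : Ideal.Quotient.mk I (q.derivative.eval α) = 1 := by
    have hα' : Ideal.Quotient.mk I α = 1 := by
      rw [← map_one (Ideal.Quotient.mk I)]; exact Ideal.Quotient.eq.mpr hα
    have hp' : Ideal.Quotient.mk I (p.derivative.eval α) = 0 :=
      Ideal.Quotient.eq_zero_iff_mem.mpr (Groth.Hensel1.eval_mem_of_coeff_mem (fun i => by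
        rw [Polynomial.coeff_derivative]; exact Ideal.mul_mem_right _ _ (hpI _)) _)
    simp [hq, hα', hp']
  have hu : IsUnit (c * (β - α) + q.derivative.eval α) := by
    refine Groth.Hensel1.isUnit_of_sub_one_mem h.jac (Ideal.Quotient.eq.mp ?_)
    have : Ideal.Quotient.mk I (β - α) = 0 := Ideal.Quotient.eq_zero_iff_mem.mpr (by
      have := I.sub_mem hβ hα; simpa using this)
    rw [map_add, map_mul, this, hd, map_one, mul_zero, zero_add]
  have h0 : (c * (β - α) + q.derivative.eval α) * (β - α) = 0 := by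
    rw [Polynomial.IsRoot] at hr hr'
    rw [add_sub_cancel, hr', hr] at hc
    linear_combination hc
  exact sub_eq_zero.mp (hu.mul_right_eq_zero.mp h0)

end Groth.Agent.S0524
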