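import Groth.Statements.S0529
import Groth.Agent.Hensel1.Local
import Mathlib.Algebra.Group.Pi.Units

set_option autoImplicit false
universe u
open Hensel

namespace Groth.Agent.S0529

/-- A product of rings, with the product ideal, is Henselian exactly when every factor is Henselian at
its ideal. -/
theorem result (J : Type u) (A : J → Type u) [∀ j, CommRing (A j)]
    (I : ∀ j, Ideal (A j)) :
    HenselianRing (∀ j, A j) (⨅ j, Ideal.comap (Pi.evalRingHom A j) (I j)) ↔
      ∀ j, HenselianRing (A j) (I j) := by
  constructor
  · intro h j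
    have hmap : Ideal.map (Pi.evalRingHom A j) (⨅ j, Ideal.comap (Pi.evalRingHom A j) (I j)) = I j := by
      refine le_antisymm (Ideal.map_le_iff_le_comap.mpr (iInf_le _ j)) fun x hx => ?_
      classical
      have h0 : Pi.single j x ∈ ⨅ j, Ideal.comap (Pi.evalRingHom A j) (I j) :=
        Ideal.mem_iInf.mpr fun i => by
          show Pi.single j x i ∈ I i
          rcases eq_or_ne i j with rfl | hi
          · rwa [Pi.single_eq_same]
          · rw [Pi.single_eq_of_ne hi]; exact Ideal.zero_mem _
      simpa using Ideal.mem_map_of_mem (Pi.evalRingHom A j) h0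
    let := (Pi.evalRingHom A j).toAlgebra
    have : Algebra.IsIntegral (∀ j, A j) (A j) := ⟨fun x => by
      obtain ⟨y, rfl⟩ := Function.surjective_eval j x
      exact isIntegral_algebraMap (x := y)⟩
    have h' := Groth.Hensel1.henselianRing_of_isIntegral
      (I := ⨅ j, Ideal.comap (Pi.evalRingHom A j) (I j)) (A j)
    rwa [RingHom.algebraMap_toAlgebra, hmap] at h'
  · intro h
    refine Groth.Hensel1.henselianRing_iff_gabber.mpr ⟨fun x hx => ?_, fun n hn p hp hpI => ?_⟩
    · refine Ideal.mem_jacobson_bot.mpr fun y => Pi.isUnit_iff.2 fun i => ?_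
      exact Ideal.mem_jacobson_bot.mp ((h i).jac (Ideal.mem_iInf.mp hx i)) (y i)
    choose α hα hr using fun i => ((Groth.Hensel1.henselianRing_iff_gabber.mp (h i))).root n hn
      (p.map (Pi.evalRingHom A i)) (Polynomial.natDegree_map_le.trans hp)
      (fun k => by rw [Polynomial.coeff_map]; exact Ideal.mem_iInf.mp (hpI k) i)
    refine ⟨α, Ideal.mem_iInf.mpr fun i => hα i, funext fun i => ?_⟩
    show Pi.evalRingHom A i (Polynomial.eval α _) = 0
    rw [← Polynomial.eval_map_apply]
    simpa using hr i

end Groth.Agent.S0529
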