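import Groth.Statements.S0530
import Groth.Agent.Hensel1.Local

set_option autoImplicit false
universe u
open Hensel

namespace Groth.Agent.S0530

/-- If `A` is Henselian at `I` and `p` is a prime ideal of `A`, then the spectrum of `A/(p + I)` is
connected. -/
theorem result (A : Type u) [CommRing A] (I : Ideal A) [HenselianRing A I]
    (p : Ideal A) [p.IsPrime] : ConnectedSpace (PrimeSpectrum (A ⧸ p ⊔ I)) := by
  have hne : p ⊔ I ≠ ⊤ := fun htop => by
    obtain ⟨x, hx, y, hy, hxy⟩ := Submodule.mem_sup.mp (htop ▸ Submodule.mem_top : (1 : A) ∈ p ⊔ I)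
    have := Ideal.mem_jacobson_bot.mp ((HenselianRing.jac (I := I)) hy) (-1)
    rw [show y * -1 + 1 = x by linear_combination -hxy] at this
    exact ‹p.IsPrime›.ne_top (Ideal.eq_top_of_isUnit_mem _ hx this)
  have : Nontrivial (A ⧸ p ⊔ I) := Ideal.Quotient.nontrivial_iff.mpr hne
  refine { toNonempty := inferInstance, toPreconnectedSpace := ?_ }
  refine preconnectedSpace_iff_clopen.mpr fun s hs => ?_
  obtain ⟨e, he, rfl⟩ := PrimeSpectrum.isClopen_iff.mp hs
  obtain ⟨b', hb'⟩ := Ideal.Quotient.mk_surjective e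
  have hb : b' * b' - b' ∈ p ⊔ I := by
    rw [← Ideal.Quotient.eq, map_mul, hb']; exact he
  obtain ⟨E, hE, hEb⟩ := Groth.Hensel1.exists_idempotent_lift (I := I) (B := A ⧸ p)
    (Ideal.Quotient.mk p b') (by
      rw [← map_mul, ← map_sub, Ideal.Quotient.algebraMap_eq]
      obtain ⟨x, hx, y, hy, hxy⟩ := Submodule.mem_sup.mp hb
      rw [← hxy, map_add, Ideal.Quotient.eq_zero_iff_mem.mpr hx, zero_add]
      exact Ideal.mem_map_of_mem _ hy)
  have hle : p ≤ p ⊔ I := le_sup_left
  have hmap : Ideal.Quotient.factor hle E = e := by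
    have h0 : Ideal.Quotient.factor hle (E - Ideal.Quotient.mk p b') = 0 := by
      have : (I.map (algebraMap A (A ⧸ p))) ≤ RingHom.ker (Ideal.Quotient.factor hle) := by
        refine Ideal.map_le_iff_le_comap.mpr fun y hy => ?_
        show Ideal.Quotient.factor hle (Ideal.Quotient.mk p y) = 0
        rw [Ideal.Quotient.factor_mk]
        exact Ideal.Quotient.eq_zero_iff_mem.mpr (Ideal.mem_sup_right hy)
      exact this hEb
    rw [map_sub, sub_eq_zero, Ideal.Quotient.factor_mk, hb'] at h0
    exact h0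
  rcases IsIdempotentElem.iff_eq_zero_or_one.mp hE with rfl | rfl
  · left; rw [← hmap, map_zero, PrimeSpectrum.basicOpen_zero]; rfl
  · right; rw [← hmap, map_one, PrimeSpectrum.basicOpen_one]; rfl

end Groth.Agent.S0530
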