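import Groth.Statements.S0534
import Groth.Agent.Hensel1.MatrixLift
import Mathlib.RingTheory.Finiteness.Projective
import Mathlib.LinearAlgebra.Matrix.ToLin

set_option autoImplicit false
universe u
open Hensel

namespace Groth.Agent.S0534

/-- If `R` is Henselian at `I`, every finitely generated projective `R/I`-module is the base change of a
finitely generated projective `R`-module. -/
theorem result (R : Type u) [CommRing R] (I : Ideal R)
    [HenselianRing R I] (Q : Type u) [AddCommGroup Q] [Module (R ⧸ I) Q] [Module.Finite (R ⧸ I) Q]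
    [Module.Projective (R ⧸ I) Q] :
    ∃ (P : Type u) (_ : AddCommGroup P) (_ : Module R P), Module.Finite R P ∧ Module.Projective R P ∧
      Nonempty (TensorProduct R (R ⧸ I) P ≃ₗ[R ⧸ I] Q) := by
  classical
  obtain ⟨n, π, s, -, -, hπs⟩ := Module.Finite.exists_comp_eq_id_of_projective (R ⧸ I) Q
  let M₀ : Matrix (Fin n) (Fin n) (R ⧸ I) := LinearMap.toMatrix' (s ∘ₗ π)
  choose M hM using fun i j => Ideal.Quotient.mk_surjective (I := I) (M₀ i j)
  have hM' : (Matrix.of M).map (Ideal.Quotient.mk I) = M₀ := Matrix.ext hM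
  have hidem : IsIdempotentElem M₀ := by
    show M₀ * M₀ = M₀
    rw [← LinearMap.toMatrix'_comp]
    congr 1
    refine LinearMap.ext fun v => ?_
    show s (π (s (π v))) = s (π v)
    rw [show π (s (π v)) = π v from LinearMap.congr_fun hπs (π v)]
  obtain ⟨Q', hQ', hQM⟩ := Groth.Hensel1.exists_matrix_idempotent_lift I (Matrix.of M) (hM' ▸ hidem)
  exact Groth.Hensel1.exists_projective_of_idempotent I hQ' π s hπs fun v => by
    rw [hQM, hM', LinearMap.toMatrix'_mulVec]
    rfl

end Groth.Agent.S0534
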