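import Groth.Statements.S0535
import Mathlib.LinearAlgebra.TensorProduct.Quotient
import Mathlib.RingTheory.FiniteType
import Mathlib.RingTheory.Nakayama

set_option autoImplicit false
universe u
open Hensel

namespace Groth.Agent.S0535

/-- If `R` is Henselian at `I` and two finitely generated projective `R`-modules become isomorphic after
base change to `R/I`, then they are isomorphic. -/
theorem result (R : Type u) [CommRing R] (I : Ideal R)
    [HenselianRing R I] (P₁ P₂ : Type u) [AddCommGroup P₁] [Module R P₁] [AddCommGroup P₂]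
    [Module R P₂] [Module.Finite R P₁] [Module.Projective R P₁] [Module.Finite R P₂]
    [Module.Projective R P₂]
    (e : TensorProduct R (R ⧸ I) P₁ ≃ₗ[R ⧸ I] TensorProduct R (R ⧸ I) P₂) :
    Nonempty (P₁ ≃ₗ[R] P₂) := by
  have hjac : I ≤ Ideal.jacobson ⊥ := HenselianRing.jac
  have hsurj : ∀ (P : Type u) [AddCommGroup P] [Module R P],
      Function.Surjective (TensorProduct.mk R (R ⧸ I) P 1) := fun P _ _ =>
    TensorProduct.mk_surjective R P (R ⧸ I) Ideal.Quotient.mk_surjective
  obtain ⟨f, hf⟩ := Module.projective_lifting_property (TensorProduct.mk R (R ⧸ I) P₂ 1)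
    ((e.restrictScalars R).toLinearMap ∘ₗ TensorProduct.mk R (R ⧸ I) P₁ 1) (hsurj P₂)
  obtain ⟨g, hg⟩ := Module.projective_lifting_property (TensorProduct.mk R (R ⧸ I) P₁ 1)
    ((e.symm.restrictScalars R).toLinearMap ∘ₗ TensorProduct.mk R (R ⧸ I) P₂ 1) (hsurj P₁)
  have hbij : ∀ (P : Type u) [AddCommGroup P] [Module R P] [Module.Finite R P] (k : P →ₗ[R] P),
      (TensorProduct.mk R (R ⧸ I) P 1).comp k = TensorProduct.mk R (R ⧸ I) P 1 →
      Function.Bijective k := by
    intro P _ _ _ k hk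
    refine OrzechProperty.bijective_of_surjective_endomorphism k ?_
    rw [← LinearMap.range_eq_top, ← top_le_iff]
    refine Submodule.le_of_le_smul_of_le_jacobson_bot Module.Finite.fg_top hjac fun y _ => ?_
    have h0 : (TensorProduct.mk R (R ⧸ I) P 1) (y - k y) = 0 := by
      rw [map_sub, show (TensorProduct.mk R (R ⧸ I) P 1) (k y) = _ from LinearMap.congr_fun hk y,
        sub_self]
    have h1 : y - k y ∈ (I • ⊤ : Submodule R P) := by
      have := congr_arg (TensorProduct.quotTensorEquivQuotSMul P I) h0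
      rw [map_zero] at this
      exact (Submodule.Quotient.mk_eq_zero _).mp (Eq.trans ((TensorProduct.quotTensorEquivQuotSMul_mk_tmul I 1 _).trans (by simp)).symm this)
    rw [show y = k y + (y - k y) by abel]
    exact Submodule.add_mem_sup ⟨y, rfl⟩ h1
  have h12 : ∀ x, (1 : R ⧸ I) ⊗ₜ[R] (f x) = e (1 ⊗ₜ x) := fun x => LinearMap.congr_fun hf x
  have h21 : ∀ x, (1 : R ⧸ I) ⊗ₜ[R] (g x) = e.symm (1 ⊗ₜ x) := fun x => LinearMap.congr_fun hg x
  have hgf := hbij P₁ (g ∘ₗ f) (LinearMap.ext fun x => by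
    show (1 : R ⧸ I) ⊗ₜ[R] g (f x) = 1 ⊗ₜ x
    rw [h21, h12, e.symm_apply_apply])
  have hfg := hbij P₂ (f ∘ₗ g) (LinearMap.ext fun x => by
    show (1 : R ⧸ I) ⊗ₜ[R] f (g x) = 1 ⊗ₜ x
    rw [h12, h21, e.apply_symm_apply])
  exact ⟨LinearEquiv.ofBijective f ⟨Function.Injective.of_comp (f := g) hgf.1,
    Function.Surjective.of_comp (g := g) hfg.2⟩⟩

end Groth.Agent.S0535
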