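import Groth.Statements.S0551
import Groth.Agent.Calg1.CompletionModuleFlat
import Groth.Agent.Calg1.Completion
import Groth.Agent.FlatMorOne.FlatnessCriteria

set_option autoImplicit false
universe u
open CAlg

namespace Groth.Agent.S0551

open TensorProduct Groth.FlatMorOne

theorem flat_quotient_pow_tensor (R : Type u) [CommRing R] (I : Ideal R) (M : Type u)
    [AddCommGroup M] [Module R M] [Module.Flat (R ⧸ I) (M ⧸ (I • ⊤ : Submodule R M))]
    (hT : Function.Injective
      (TensorProduct.lift ((LinearMap.lsmul R M).comp (Submodule.subtype I)))) (n : ℕ) :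
    Module.Flat (R ⧸ I ^ n) ((R ⧸ I ^ n) ⊗[R] M) := by
  have h1 : Function.Injective (I.subtype.rTensor M) := by
    have he : TensorProduct.lift ((LinearMap.lsmul R M).comp (Submodule.subtype I)) =
        (TensorProduct.lid R M).toLinearMap ∘ₗ I.subtype.rTensor M :=
      TensorProduct.ext' fun a m => by simp
    rw [he] at hT
    exact Function.Injective.of_comp hT
  have : Module.Flat (R ⧸ I) ((R ⧸ I) ⊗[R] M) :=
    Module.Flat.of_linearEquiv ((TensorProduct.quotTensorEquivQuotSMul M I).extendScalarsOfSurjective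
      (Ideal.Quotient.mk_surjective : Function.Surjective (algebraMap R (R ⧸ I))))
  rw [Module.Flat.iff_rTensor_injective]
  intro J _
  refine (rTensor_baseChange_injective_iff (R := R) (M := M) J.subtype).mpr ?_
  refine TorZero.rTensor_injective (R := R) (Q := (R ⧸ I ^ n) ⧸ J)
    (torZero_of_pow_smul_eq_zero I h1 n _ fun a ha x => ?_) Subtype.val_injective
    (g := (Submodule.mkQ J).restrictScalars R)
    (LinearMap.exact_subtype_mkQ J) (Submodule.mkQ_surjective J)
  obtain ⟨x, rfl⟩ := Submodule.mkQ_surjective J x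
  obtain ⟨x, rfl⟩ := Ideal.Quotient.mk_surjective x
  have h0 : a • Ideal.Quotient.mk (I ^ n) x = 0 := by
    rw [← Ideal.Quotient.eq_zero_iff_mem.mpr (Ideal.mul_mem_right x (I ^ n) ha)]
    rfl
  rw [← LinearMap.map_smul_of_tower, h0, map_zero]

theorem levelFlat (R : Type u) [CommRing R] (I : Ideal R) (hI : I.FG) (M : Type u)
    [AddCommGroup M] [Module R M] (hflat : ∀ n, Module.Flat (R ⧸ I ^ n) ((R ⧸ I ^ n) ⊗[R] M)) :
    Groth.Calg1.CompleteFlat.LevelFlat (I.map (algebraMap R (AdicCompletion I R)))
      (AdicCompletion I M) := by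
  intro n k a z haz
  have hmem : ∀ v : AdicCompletion I M,
      v ∈ ((I.map (algebraMap R (AdicCompletion I R))) ^ n • ⊤ :
        Submodule (AdicCompletion I R) (AdicCompletion I M)) ↔ v.val n = 0 := by
    intro v
    rw [← Submodule.restrictScalars_mem R, ← Ideal.map_pow, Submodule.restrictScalars_map_smul_eq,
      Submodule.restrictScalars_top, AdicCompletion.pow_smul_top_eq_ker_eval hI, LinearMap.mem_ker]
    rfl
  have hmem' : ∀ v : AdicCompletion I R,
      v.val n = 0 → v ∈ (I.map (algebraMap R (AdicCompletion I R))) ^ n := by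
    intro v hv
    have h0 : v ∈ (I ^ n • ⊤ : Submodule R (AdicCompletion I R)) := by
      rw [AdicCompletion.pow_smul_top_eq_ker_eval hI, LinearMap.mem_ker]; exact hv
    rw [← Ideal.map_pow]
    rw [Ideal.smul_top_eq_map] at h0
    exact h0
  choose r hr using fun i => Submodule.Quotient.mk_surjective _ ((a i).val n)
  choose m hm using fun i => Submodule.Quotient.mk_surjective _ ((z i).val n)
  have hsum : ∑ i, r i • m i ∈ (I ^ n • ⊤ : Submodule R M) := by
    rw [← Submodule.Quotient.mk_eq_zero, ← (hmem _).mp haz, AdicCompletion.val_sum_apply]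
    rw [← Submodule.mkQ_apply, map_sum]
    refine Finset.sum_congr rfl fun i _ => ?_
    rw [AdicCompletion.smul_eval, ← hr i, ← hm i]
    rfl
  let e := TensorProduct.quotTensorEquivQuotSMul M (I ^ n)
  have hrel : ∑ i, Ideal.Quotient.mk (I ^ n) (r i) • ((1 : R ⧸ I ^ n) ⊗ₜ[R] m i) = 0 := by
    have h0 : ∀ i, Ideal.Quotient.mk (I ^ n) (r i) • ((1 : R ⧸ I ^ n) ⊗ₜ[R] m i) =
        r i • ((1 : R ⧸ I ^ n) ⊗ₜ[R] m i) := fun i => by
      rw [← Ideal.Quotient.algebraMap_eq, algebraMap_smul]
    simp only [h0, ← tmul_smul, ← tmul_sum]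
    apply e.injective
    rw [map_zero]
    rw [← map_one (Ideal.Quotient.mk (I ^ n))]
    exact (TensorProduct.quotTensorEquivQuotSMul_mk_tmul (I ^ n) 1 _).trans
      (by rw [one_smul, (Submodule.Quotient.mk_eq_zero _).mpr hsum])
  have := hflat n
  obtain ⟨k', b, w, hw, hb⟩ := Module.Flat.isTrivialRelation_of_sum_smul_eq_zero hrel
  choose b' hb' using fun i j => Ideal.Quotient.mk_surjective (b i j)
  choose w' hw' using fun j => TensorProduct.mk_surjective R M (R ⧸ I ^ n)
    Ideal.Quotient.mk_surjective (w j)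
  refine ⟨k', fun i j => algebraMap R _ (b' i j), fun j => AdicCompletion.of I M (w' j),
    fun i => ?_, fun j => hmem' _ ?_⟩
  · rw [hmem, AdicCompletion.val_sub_apply, sub_eq_zero, AdicCompletion.val_sum_apply]
    have h1 : (Submodule.Quotient.mk (m i) : M ⧸ (I ^ n • ⊤ : Submodule R M)) =
        ∑ j, b' i j • Submodule.Quotient.mk (w' j) := by
      have h2 : (1 : R ⧸ I ^ n) ⊗ₜ[R] m i = (1 : R ⧸ I ^ n) ⊗ₜ[R] (∑ j, b' i j • w' j) := by
        rw [show (1 : R ⧸ I ^ n) ⊗ₜ[R] m i = ∑ j, b i j • w j from hw i, tmul_sum]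
        refine Finset.sum_congr rfl fun j _ => ?_
        rw [tmul_smul, ← hw' j, ← hb' i j, ← Ideal.Quotient.algebraMap_eq, algebraMap_smul]
        rfl
      have h3 := congrArg e h2
      simp only [e, ← map_one (Ideal.Quotient.mk (I ^ n)),
        TensorProduct.quotTensorEquivQuotSMul_mk_tmul, one_smul] at h3
      rw [h3, ← Submodule.mkQ_apply, map_sum]
      simp
    rw [← hm i, h1]
    refine Finset.sum_congr rfl fun j _ => ?_
    rw [algebraMap_smul, AdicCompletion.val_smul_apply]
    rfl
  · have h1 : Ideal.Quotient.mk (I ^ n) (∑ i, r i * b' i j) = 0 := by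
      rw [map_sum, ← hb j]
      exact Finset.sum_congr rfl fun i _ => by rw [map_mul, hb']
    rw [Ideal.Quotient.eq_zero_iff_mem] at h1
    rw [AdicCompletion.val_sum_apply]
    calc ∑ i, (a i * algebraMap R (AdicCompletion I R) (b' i j)).val n
        = ∑ i, (Submodule.Quotient.mk (r i * b' i j) : R ⧸ (I ^ n • ⊤ : Ideal R)) :=
          Finset.sum_congr rfl fun i _ => by rw [AdicCompletion.val_mul, ← hr i]; rfl
      _ = Submodule.mkQ _ (∑ i, r i * b' i j) := (map_sum (Submodule.mkQ _) _ _).symm
      _ = 0 := by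
          rw [Submodule.mkQ_apply, Submodule.Quotient.mk_eq_zero, smul_eq_mul, Ideal.mul_top]
          exact h1

/-- Let `R` be a ring, `I` a finitely generated ideal with `R/I` Noetherian, and `M` an `R`-module such
that `M/IM` is flat over `R/I` and the multiplication map `I ⊗ M → M` is injective (the vanishing of
the first Tor of `M` against `R/I`). Then the `I`-adic completion of `M` is flat over the `I`-adic
completion of `R`. (The published statement also records that the completed ring is Noetherian; that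
is stated separately.) -/
theorem result (R : Type u) [CommRing R] (I : Ideal R) (hI : I.FG)
    [IsNoetherianRing (R ⧸ I)] (M : Type u) [AddCommGroup M] [Module R M]
    [Module.Flat (R ⧸ I) (M ⧸ (I • ⊤ : Submodule R M))]
    (hT : Function.Injective (TensorProduct.lift ((LinearMap.lsmul R M).comp (Submodule.subtype I)))) :
    Module.Flat (AdicCompletion I R) (AdicCompletion I M) := by
  have := Groth.Calg1.isNoetherianRing_adicCompletion I hI
  have : IsAdicComplete (I.map (algebraMap R (AdicCompletion I R))) (AdicCompletion I M) :=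
    (IsAdicComplete.map_algebraMap_iff _ _).mpr (AdicCompletion.isAdicComplete hI)
  exact Groth.Calg1.CompleteFlat.flat_of_levelFlat
    (levelFlat R I hI M fun n => flat_quotient_pow_tensor R I M hT n)

end Groth.Agent.S0551
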