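import Groth.Statements.S0556
import Groth.Agent.Calg4.KrullAkizuki

set_option autoImplicit false
universe u
open CAlg

namespace Groth.Agent.S0556

/-- Any domain `A` sandwiched between a one-dimensional Noetherian domain `R` and a field `L` of finite
degree over the fraction field of `R` is itself Noetherian. -/
theorem result (R : Type u) [CommRing R]
    [IsDomain R] [IsNoetherianRing R] (hdim : ringKrullDim R = 1) (K L : Type u) [Field K] [Field L]
    [Algebra R K] [IsFractionRing R K] [Algebra K L] [FiniteDimensional K L] [Algebra R L]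
    [IsScalarTower R K L] (A : Type u) [CommRing A] [Algebra R A] [Algebra A L]
    [IsScalarTower R A L] (hA : Function.Injective (algebraMap A L)) :
    IsNoetherianRing A := by
  have : Ring.KrullDimLE 1 R := Ring.krullDimLE_iff.mpr (by simp [hdim])
  let j : A →ₗ[R] (Fin (Module.finrank K L) → K) :=
    ((Module.finBasis K L).equivFun.toLinearMap.restrictScalars R).comp
      (IsScalarTower.toAlgHom R A L).toLinearMap
  have hj : Function.Injective j := (Module.finBasis K L).equivFun.injective.comp hA
  refine isNoetherianRing_iff_ideal_fg A |>.2 fun J => ?_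
  by_cases hJ : J = ⊥
  · exact hJ ▸ Submodule.fg_bot
  obtain ⟨a, haJ, ha0⟩ := Submodule.exists_mem_ne_zero_of_ne_bot hJ
  have halg : IsAlgebraic R a :=
    (isAlgebraic_algebraMap_iff hA).mp
      ((IsFractionRing.isAlgebraic_iff R K L).mpr (IsAlgebraic.of_finite K _))
  have hdom : IsDomain A := hA.isDomain _
  obtain ⟨x, hx0, hxa⟩ := halg.exists_nonzero_dvd (mem_nonZeroDivisors_of_ne_zero ha0)
  have hxJ : algebraMap R A x ∈ J := by
    obtain ⟨c, hc⟩ := hxa
    rw [hc]
    exact J.mul_mem_right _ haJ
  let I : Ideal A := Ideal.span {algebraMap R A x}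
  have hI : I.restrictScalars R = Ideal.span {x} • (⊤ : Submodule R A) := by
    rw [Ideal.smul_top_eq_map, Ideal.map_span, Set.image_singleton]
  have hlen : Module.length R (A ⧸ I) ≠ ⊤ := by
    rw [← (Submodule.Quotient.restrictScalarsEquiv R I).length_eq,
      (Submodule.quotEquivOfEq _ _ (hI.trans (Submodule.ideal_span_singleton_smul x _))).length_eq]
    exact ne_top_of_le_ne_top
      (WithTop.mul_ne_top (ENat.natCast_ne_top _) (Ring.ord_ne_top (mem_nonZeroDivisors_of_ne_zero hx0)))
      (Groth.Calg4.length_quotient_le_mul K _ j hj hx0)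
  have hn : IsNoetherian R (A ⧸ I) :=
    (isFiniteLength_iff_isNoetherian_isArtinian.mp (Module.length_ne_top_iff.mp hlen)).1
  have : IsNoetherian A (A ⧸ I) := isNoetherian_of_tower R hn
  refine Submodule.fg_of_fg_map_of_fg_inf_ker I.mkQ (IsNoetherian.noetherian _) ?_
  rw [Submodule.ker_mkQ, inf_eq_right.mpr ((Ideal.span_singleton_le_iff_mem _).mpr hxJ)]
  exact Submodule.fg_span_singleton _

end Groth.Agent.S0556
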