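import Groth.Statements.S0562
import Groth.Agent.Ega4Algebra1.RegularLocal

set_option autoImplicit false
universe u
open CategoryTheory
open CAlg

namespace Groth.Agent.S0562

/-- If the residue field of a Noetherian local ring `R` has finite projective dimension as an
`R`-module, then `R` is a regular local ring. -/
theorem result (R : Type u) [CommRing R]
    [IsLocalRing R] [IsNoetherianRing R] (n : ℕ)
    (h : HasProjectiveDimensionLT (ModuleCat.of R (IsLocalRing.ResidueField R)) n) :
    IsRegularLocalRing R := by
  have hnt : Nontrivial (IsLocalRing.ResidueField R) :=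
    Ideal.Quotient.nontrivial_iff.mpr (IsLocalRing.maximalIdeal.isMaximal R).ne_top
  have : Module.Finite R (IsLocalRing.ResidueField R) :=
    Module.Finite.of_surjective (Algebra.linearMap R _) IsLocalRing.residue_surjective
  refine Groth.Ega4Algebra1.isRegularLocalRing_of_pdLT R (IsLocalRing.ResidueField R) (fun y hy z => ?_) n
    (Groth.Ega4Algebra1.PdLT.mono (Nat.le_succ n) h)
  rw [Algebra.smul_def, show algebraMap R (IsLocalRing.ResidueField R) y = 0 from
    (IsLocalRing.residue_eq_zero_iff y).mpr hy, zero_mul]

end Groth.Agent.S0562
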