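import Groth.Statements.S0567
import Groth.Agent.Calg1.NagataTheorem

set_option autoImplicit false
universe u
open CAlg

namespace Groth.Agent.S0567

/-- A ring is Nagata exactly when it is Noetherian and universally Japanese. -/
theorem result (R : Type u) [CommRing R] :
    CAlg.IsNagata R ↔ (IsNoetherianRing R ∧ CAlg.IsUniversallyJapanese R) := by
  constructor
  · intro hR
    refine ⟨hR.1, fun S _ _ _ hS => ?_⟩
    haveI := hS
    exact Groth.Calg1.isN2_self_of_isNagata (Groth.Calg1.isNagata_of_finiteType (R := R) (S := S) hR)
  · rintro ⟨hN, hU⟩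
    exact ⟨hN, fun p _ => hU (R ⧸ p) inferInstance⟩

end Groth.Agent.S0567
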