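import Groth.Statements.S0577
import Groth.Agent.Calg1.AnalyticUnramifiedNagata

set_option autoImplicit false
universe u
open CAlg

namespace Groth.Agent.S0577

/-- Let `A` be a Noetherian local domain of prime characteristic `p` which is a Nagata ring. If `a ∈ A`
has a `p`-th root in the completion of `A`, then it has a `p`-th root in `A`. -/
theorem result (A : Type u) [CommRing A] [IsDomain A]
    [IsLocalRing A] (hA : CAlg.IsNagata A) (p : ℕ) [Fact p.Prime] [CharP A p] (a : A)
    (h : ∃ α : AdicCompletion (IsLocalRing.maximalIdeal A) A,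
      α ^ p = algebraMap A (AdicCompletion (IsLocalRing.maximalIdeal A) A) a) :
    ∃ b : A, b ^ p = a := by
  classical
  haveI := hA.1
  haveI : IsReduced (AdicCompletion (IsLocalRing.maximalIdeal A) A) :=
    Groth.Calg1.isReduced_completion_of_isNagata A hA
  haveI : ExpChar A p := ExpChar.prime Fact.out
  have hp : p.Prime := Fact.out
  obtain ⟨α, hα⟩ := h
  let Ah := AdicCompletion (IsLocalRing.maximalIdeal A) A
  let K := FractionRing A
  by_contra hcon
  -- no root in the fraction field
  have hK : ∀ b : K, b ^ p ≠ algebraMap A K a := by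
    intro b hb
    obtain ⟨u, v, hv, rfl⟩ := IsFractionRing.div_surjective A b
    have hv0 : v ≠ 0 := nonZeroDivisors.ne_zero hv
    have hvK : algebraMap A K v ≠ 0 := IsFractionRing.to_map_ne_zero_of_mem_nonZeroDivisors hv
    have huv : u ^ p = a * v ^ p := by
      refine IsFractionRing.injective A K ?_
      rw [div_pow, div_eq_iff (pow_ne_zero _ hvK)] at hb
      rw [map_pow, map_mul, map_pow, hb]
    haveI : Module.FaithfullyFlat A Ah := Module.FaithfullyFlat.of_flat_of_isLocalHom
    haveI : CharP Ah p := charP_of_injective_algebraMap (FaithfulSMul.algebraMap_injective A Ah) p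
    have hzero : algebraMap A Ah u - α * algebraMap A Ah v = 0 := by
      refine IsReduced.eq_zero _ ⟨p, ?_⟩
      rw [sub_pow_char, mul_pow, hα, ← map_pow, ← map_pow, ← map_mul, huv, sub_self]
    have hmem : u ∈ Ideal.comap (algebraMap A Ah) ((Ideal.span {v}).map (algebraMap A Ah)) := by
      rw [Ideal.mem_comap, Ideal.map_span, Set.image_singleton, sub_eq_zero.1 hzero]
      exact Ideal.mul_mem_left _ _ (Ideal.mem_span_singleton_self _)
    rw [Ideal.comap_map_eq_self_of_faithfullyFlat] at hmem
    obtain ⟨c, hc⟩ := Ideal.mem_span_singleton'.1 hmem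
    refine hcon ⟨c, mul_right_cancel₀ (pow_ne_zero p hv0) ?_⟩
    rw [← mul_pow, hc, huv]
  let f : Polynomial A := Polynomial.X ^ p - Polynomial.C a
  have hfm : f.Monic := Polynomial.monic_X_pow_sub_C a hp.ne_zero
  have hfirr : Irreducible (f.map (algebraMap A K)) := by
    rw [Polynomial.map_sub, Polynomial.map_pow, Polynomial.map_X, Polynomial.map_C]
    exact X_pow_sub_C_irreducible_of_prime hp hK
  haveI : Fact (Irreducible (f.map (algebraMap A K))) := ⟨hfirr⟩
  let B := AdjoinRoot f
  let φ : B →+* AdjoinRoot (f.map (algebraMap A K)) :=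
    AdjoinRoot.lift ((AdjoinRoot.of _).comp (algebraMap A K)) (AdjoinRoot.root _) (by
      rw [← Polynomial.eval₂_map]; exact AdjoinRoot.eval₂_root _)
  have hφ : Function.Injective φ := by
    refine (injective_iff_map_eq_zero _).2 fun z hz => ?_
    obtain ⟨g, rfl⟩ := AdjoinRoot.mk_surjective z
    rw [AdjoinRoot.lift_mk, ← Polynomial.eval₂_map] at hz
    have hdvd : f.map (algebraMap A K) ∣ g.map (algebraMap A K) := by
      rw [← AdjoinRoot.mk_eq_zero, ← hz, ← AdjoinRoot.aeval_eq]; rfl
    exact AdjoinRoot.mk_eq_zero.2 (Polynomial.map_dvd_map _ (IsFractionRing.injective A K) hfm |>.1 hdvd)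
  haveI : IsDomain B := hφ.isDomain
  haveI : Module.Finite A B := hfm.finite_adjoinRoot
  haveI : IsNoetherianRing B := IsNoetherianRing.of_finite A B
  have hAB : Function.Injective (algebraMap A B) :=
    AdjoinRoot.of.injective_of_degree_ne_zero (by
      rw [Polynomial.degree_X_pow_sub_C hp.pos]; exact_mod_cast hp.ne_zero)
  haveI : CharP B p := charP_of_injective_algebraMap hAB p
  haveI : ExpChar B p := ExpChar.prime Fact.out
  have hroot : AdjoinRoot.root f ^ p = algebraMap A B a := by
    have := AdjoinRoot.eval₂_root f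
    rw [Polynomial.eval₂_sub, Polynomial.eval₂_pow, Polynomial.eval₂_X, Polynomial.eval₂_C, sub_eq_zero] at this
    exact this
  have hpow : ∀ z : B, ∃ c : A, z ^ p = algebraMap A B c := by
    intro z
    induction z using AdjoinRoot.induction_on with
    | ih g =>
      induction g using Polynomial.induction_on' with
      | add q r hq hr =>
        obtain ⟨c, hc⟩ := hq
        obtain ⟨d, hd⟩ := hr
        exact ⟨c + d, by rw [map_add (AdjoinRoot.mk f), add_pow_char, hc, hd, map_add]⟩
      | monomial n c =>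
        refine ⟨c ^ p * a ^ n, ?_⟩
        rw [← Polynomial.C_mul_X_pow_eq_monomial, map_mul, map_pow, AdjoinRoot.mk_C, AdjoinRoot.mk_X,
          mul_pow, ← pow_mul, mul_comm n p, pow_mul, hroot, map_mul, map_pow, map_pow]
        rfl
  haveI : IsLocalRing B := IsLocalRing.of_isUnit_or_isUnit_one_sub_self fun z => by
    obtain ⟨c, hc⟩ := hpow z
    rcases IsLocalRing.isUnit_or_isUnit_one_sub_self c with hu | hu
    · left
      exact (isUnit_pow_iff hp.ne_zero).1 (hc ▸ hu.map (algebraMap A B))
    · right
      refine (isUnit_pow_iff hp.ne_zero).1 ?_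
      rw [sub_pow_char, one_pow, hc, ← map_one (algebraMap A B), ← map_sub]
      exact hu.map (algebraMap A B)
  have hle : (IsLocalRing.maximalIdeal A).map (algebraMap A B) ≤ IsLocalRing.maximalIdeal B := by
    rw [Ideal.map_le_iff_le_comap,
      IsLocalRing.eq_maximalIdeal (Ideal.isMaximal_comap_of_isIntegral_of_isMaximal (R := A) (IsLocalRing.maximalIdeal B))]
  haveI := Groth.Calg1.isReduced_completion_of_isNagata B (Groth.Calg1.isNagata_of_finite (S := B) hA)
  let Ψ := Groth.PropsBasic.GRingLocal.cplMap (IsLocalRing.maximalIdeal A) (IsLocalRing.maximalIdeal B)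
    (algebraMap A B) hle
  have hΨ : ∀ c : A, Ψ (algebraMap A Ah c) =
      algebraMap B (AdicCompletion (IsLocalRing.maximalIdeal B) B) (algebraMap A B c) := fun c =>
    AdicCompletion.ext_evalₐ fun n => by
      rw [Groth.PropsBasic.GRingLocal.evalₐ_cplMap _ _ _ hle n _ c ((AdicCompletion.evalₐ _ n).commutes c)]
      exact ((AdicCompletion.evalₐ _ n).commutes (algebraMap A B c)).symm
  haveI : CharP (AdicCompletion (IsLocalRing.maximalIdeal B) B) p := by
    haveI : Module.FaithfullyFlat B (AdicCompletion (IsLocalRing.maximalIdeal B) B) :=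
      Module.FaithfullyFlat.of_flat_of_isLocalHom
    exact charP_of_injective_algebraMap
      (FaithfulSMul.algebraMap_injective B (AdicCompletion (IsLocalRing.maximalIdeal B) B)) p
  have hz : algebraMap B (AdicCompletion (IsLocalRing.maximalIdeal B) B) (AdjoinRoot.root f) - Ψ α = 0 :=
    IsReduced.eq_zero _ ⟨p, by rw [sub_pow_char, ← map_pow, ← map_pow, hα, hΨ, hroot, sub_self]⟩
  obtain ⟨e, he⟩ := Ideal.exists_pow_le_of_le_radical_of_fg
    (I := IsLocalRing.maximalIdeal B) (J := (IsLocalRing.maximalIdeal A).map (algebraMap A B)) (by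
      rw [Ideal.radical_eq_sInf]
      refine le_sInf fun q ⟨hq, hqp⟩ => ?_
      haveI := hqp
      have hmax : q.IsMaximal := by
        refine Ideal.isMaximal_of_isIntegral_of_isMaximal_comap (R := A) q ?_
        rw [← (IsLocalRing.maximalIdeal.isMaximal A).eq_of_le (Ideal.IsPrime.ne_top inferInstance)
          (Ideal.map_le_iff_le_comap.1 hq)]
        exact IsLocalRing.maximalIdeal.isMaximal A
      exact (IsLocalRing.eq_maximalIdeal hmax).ge) (IsNoetherian.noetherian _)
  obtain ⟨c, hc⟩ := Ideal.Quotient.mk_surjective (AdicCompletion.evalₐ (IsLocalRing.maximalIdeal A) e α)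
  have h1 := congrArg (AdicCompletion.evalₐ (IsLocalRing.maximalIdeal B) e) (sub_eq_zero.1 hz)
  rw [Groth.PropsBasic.GRingLocal.evalₐ_cplMap _ _ _ hle e α c hc.symm] at h1
  have h2 : AdjoinRoot.root f - algebraMap A B c ∈ (IsLocalRing.maximalIdeal A).map (algebraMap A B) :=
    he (Ideal.Quotient.eq.1 (((AdicCompletion.evalₐ _ e).commutes _).symm.trans h1))
  -- reduce modulo the maximal ideal
  let π := IsLocalRing.residue A
  let χ : B →+* AdjoinRoot (f.map π) :=
    AdjoinRoot.lift ((AdjoinRoot.of _).comp π) (AdjoinRoot.root _) (by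
      rw [← Polynomial.eval₂_map]; exact AdjoinRoot.eval₂_root _)
  have h3 : χ (AdjoinRoot.root f - algebraMap A B c) = 0 := by
    refine (Ideal.map_le_iff_le_comap.2 (fun m hm => ?_) : _ ≤ RingHom.ker χ) h2
    change χ (AdjoinRoot.of f m) = 0
    rw [AdjoinRoot.lift_of, RingHom.comp_apply, (IsLocalRing.residue_eq_zero_iff m).2 hm, map_zero]
  rw [map_sub, AdjoinRoot.lift_root, AdjoinRoot.algebraMap_eq, AdjoinRoot.lift_of, RingHom.comp_apply,
    ← AdjoinRoot.mk_X, ← AdjoinRoot.mk_C, ← map_sub] at h3
  refine AdjoinRoot.mk_ne_zero_of_degree_lt (hfm.map π) (Polynomial.X_sub_C_ne_zero _) ?_ h3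
  rw [Polynomial.degree_X_sub_C, hfm.degree_map, Polynomial.degree_X_pow_sub_C hp.pos]
  exact_mod_cast hp.one_lt

end Groth.Agent.S0577
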