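import Groth.Statements.S0580
import Groth.Agent.Calg2.CompleteStructure

set_option autoImplicit false
universe u
open CAlg

namespace Groth.Agent.S0580

/-- A local ring complete with respect to a finitely generated maximal ideal is a quotient of a power
series ring in finitely many variables over a ring which is either a field or a Cohen ring. -/
theorem result (R : Type u) [CommRing R]
    [IsLocalRing R] [IsAdicComplete (IsLocalRing.maximalIdeal R) R]
    (hfg : (IsLocalRing.maximalIdeal R).FG) :
    ∃ (Λ : Type u) (_ : CommRing Λ) (n : ℕ) (f : MvPowerSeries (Fin n) Λ →+* R),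
      (IsField Λ ∨ CAlg.IsCohenRing Λ) ∧ Function.Surjective f := by
  obtain ⟨Λ, _, ι, hι, hcase⟩ := Calg2.CompleteStructure.exists_coefficient R
  obtain ⟨s, hs⟩ := hfg
  let a : Fin s.card → R := fun i => (s.equivFin.symm i : R)
  have hspan : Ideal.span (Set.range a) = IsLocalRing.maximalIdeal R := by
    refine Eq.trans (congrArg Ideal.span ?_) hs
    ext x
    exact ⟨fun ⟨i, hi⟩ => hi ▸ (s.equivFin.symm i).2, fun hx => ⟨s.equivFin ⟨x, hx⟩, by simp [a]⟩⟩
  have ha : ∀ i, a i ∈ IsLocalRing.maximalIdeal R := fun i => hspan ▸ Ideal.subset_span ⟨i, rfl⟩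
  exact ⟨Λ, inferInstance, s.card, Calg2.CompleteStructure.ev ι a ha, hcase.imp_right And.left,
    Calg2.CompleteStructure.surjective_ev ι hι a ha hspan⟩

end Groth.Agent.S0580
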