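import Groth.Statements.S0592
import Groth.Agent.Limits.DescentStage

set_option autoImplicit false
universe u
open CategoryTheory AlgebraicGeometry
open Lim

namespace Groth.Agent.S0592

/-- Let `S` be the limit of a cofiltered system of quasi-compact quasi-separated schemes with affine
transition morphisms. If `S` is separated, then there is an index `i₀` such that every stage mapping
to `i₀` is separated. -/
theorem result {I : Type u} [SmallCategory I] [IsCofiltered I]
    (D : I ⥤ Scheme.{u}) (c : Limits.Cone D) (hc : Limits.IsLimit c)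
    [∀ (i j : I) (f : i ⟶ j), IsAffineHom (D.map f)] [∀ i, CompactSpace (D.obj i)]
    [∀ i, QuasiSeparatedSpace (D.obj i)]
    [IsSeparated (Limits.IsTerminal.from specULiftZIsTerminal c.pt)] :
    ∃ i₀ : I, ∀ (i : I) (_ : i ⟶ i₀),
      IsSeparated (Limits.IsTerminal.from specULiftZIsTerminal (D.obj i)) := by
  obtain ⟨i₀⟩ := IsCofiltered.nonempty (C := I)
  let t : D ⟶ (Functor.const I).obj _ :=
    { app := fun i ↦ Limits.IsTerminal.from specULiftZIsTerminal (D.obj i)
      naturality := fun i j m ↦ specULiftZIsTerminal.hom_ext _ _ }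
  have : IsSeparated (c.π.app i₀ ≫ t.app i₀) := by
    have e : (c.π.app i₀ ≫ t.app i₀ : c.pt ⟶ _) = specULiftZIsTerminal.from c.pt :=
      specULiftZIsTerminal.hom_ext _ _
    exact e ▸ ‹IsSeparated (specULiftZIsTerminal.from c.pt)›
  have : ∀ i, QuasiCompact (t.app i) := fun i ↦
    inferInstanceAs (QuasiCompact (Limits.IsTerminal.from specULiftZIsTerminal (D.obj i)))
  have : ∀ i, QuasiSeparated (t.app i) := fun i ↦
    inferInstanceAs (QuasiSeparated (Limits.IsTerminal.from specULiftZIsTerminal (D.obj i)))
  exact Groth.Limits.exists_isSeparated_app t hc i₀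

end Groth.Agent.S0592
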