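import Groth.Statements.S0596
import Groth.Agent.Calg1.Popescu.Approximation
import Groth.Agent.PropsBasic.RegularCompletion

set_option autoImplicit false
universe u
open CAlg

namespace Groth.Agent.S0596

/-- Let `R` be a henselian Noetherian local G-ring and `f₁, …, f_m` polynomials in `n` variables over
`R`. If the system has a solution `a` in the completion of `R`, then for every `N` there is a
solution `b` in `R` with `aᵢ - bᵢ` in the `N`-th power of the maximal ideal of the completion. -/
theorem result (R : Type u) [CommRing R] [HenselianLocalRing R]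
    (hG : CAlg.IsGRing R) (n m : ℕ) (F : Fin m → MvPolynomial (Fin n) R)
    (a : Fin n → (AdicCompletion (IsLocalRing.maximalIdeal R) R))
    (ha : ∀ j, MvPolynomial.eval a (MvPolynomial.map (algebraMap R (AdicCompletion (IsLocalRing.maximalIdeal R) R)) (F j)) = 0) (N : ℕ) :
    ∃ b : Fin n → R, (∀ j, MvPolynomial.eval b (F j) = 0) ∧
      ∀ i, a i - algebraMap R (AdicCompletion (IsLocalRing.maximalIdeal R) R) (b i) ∈
        (IsLocalRing.maximalIdeal R ^ N).map (algebraMap R (AdicCompletion (IsLocalRing.maximalIdeal R) R)) := by
  have : IsNoetherianRing R := hG.1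
  have hreg : CAlg.IsRegularHom R (AdicCompletion (IsLocalRing.maximalIdeal R) R) :=
    Groth.PropsBasic.RegularCompletion.isRegularHom_adicCompletion _ fun m _ => hG.2 m
  have ha' : ∀ j, MvPolynomial.aeval a (F j) = 0 := fun j => by
    rw [← ha j, MvPolynomial.eval_map]
    rfl
  obtain ⟨b, hb, hab⟩ := Groth.Calg1.Popescu.exists_approx (IsLocalRing.maximalIdeal R) hreg F a ha' N
  exact ⟨b, fun j => (congrArg (fun f => f (F j)) (show (MvPolynomial.aeval b : MvPolynomial (Fin n) R → R) =
    MvPolynomial.eval b from rfl)).symm.trans (hb j), hab⟩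

end Groth.Agent.S0596
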