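import Groth.Statements.S0605
import Groth.Agent.FrobLCI.MinimalComplex
import Groth.Agent.Ega4Algebra1.GlobalDim
import Mathlib.RingTheory.LocalRing.Module

set_option autoImplicit false
universe u
open CAlg

namespace Groth.Agent.S0605

/-- Over a regular local ring, a finitely generated module whose depth equals the dimension of the ring
(a maximal Cohen–Macaulay module) is free. -/
theorem result (R : Type u) [CommRing R]
    [IsRegularLocalRing R] (M : Type u) [AddCommGroup M] [Module R M] [Module.Finite R M]
    (h : ((LocCoh.depth R M : ℕ∞) : WithBot ℕ∞) = ringKrullDim R) : Module.Free R M := by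
  rcases subsingleton_or_nontrivial M with hM | hM
  · exact Module.Free.of_subsingleton R M
  obtain ⟨d, hd⟩ : ∃ d : ℕ, ringKrullDim R = d := by
    obtain ⟨d, hd⟩ := Groth.LocCohBase.exists_depth_eq (R := R) M
    exact ⟨d, by rw [← h, hd]; rfl⟩
  obtain ⟨e, -, heq, he, -⟩ := Groth.FrobLCI.exists_depth_eq_add d
    (Groth.Ega4Algebra1.pdLT_all_of_isRegularLocalRing R d hd (ModuleCat.of R M))
  have hM' : LocCoh.depth R M = (d : ℕ∞) := by rw [hd] at h; exact_mod_cast h
  rw [hM', Groth.FrobLCI.depth_eq_of_isRegularLocalRing R hd, ← Nat.cast_add, Nat.cast_inj] at heq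
  obtain rfl : e = 0 := by omega
  have := Groth.Ega4Algebra1.PdLT.one_iff.1 he
  exact Module.free_of_flat_of_isLocalRing

end Groth.Agent.S0605
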