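import Groth.Statements.S0611
import Groth.Agent.Ega4Algebra2.RegularIdeal

set_option autoImplicit false
universe u
open RRAlg

namespace Groth.Agent.S0611

/-- In a Noetherian local ring, any minimal generating set of an ideal generated by a regular sequence
is again a regular sequence: if a₁, …, aₙ is a regular sequence and b₁, …, bₙ are n elements
generating the same ideal, then b₁, …, bₙ is a regular sequence. (A regular sequence of length n
generating an ideal I is a minimal generating set of I, so "minimal" amounts to "of length n".) -/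
theorem result {A : Type u} [CommRing A] [IsLocalRing A] [IsNoetherianRing A]
    {n : ℕ} (a b : Fin n → A) (ha : RingTheory.Sequence.IsRegular A (List.ofFn a))
    (hab : Ideal.span (Set.range a) = Ideal.span (Set.range b)) :
    RingTheory.Sequence.IsRegular A (List.ofFn b) := by
  classical
  have hne : (⊤ : Submodule A A) ≠ Ideal.ofList (List.ofFn a) • ⊤ := ha.top_ne_smul
  have hI : Ideal.ofList (List.ofFn a) = Ideal.span (Set.range a) := Groth.Ega4b.ofList_ofFn_eq_span a
  have hIne : Ideal.span (Set.range a) ≠ ⊤ := fun h => hne (by rw [hI, h, Ideal.smul_eq_mul, Ideal.mul_top])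
  have hle : Ideal.span (Set.range a) ≤ IsLocalRing.maximalIdeal A := IsLocalRing.le_maximalIdeal hIne
  have hma : ∀ i, a i ∈ IsLocalRing.maximalIdeal A := fun i => hle (Ideal.subset_span ⟨i, rfl⟩)
  have hmin := Groth.Ega4b.minimal_of_isWeaklyRegular a hma ha.toIsWeaklyRegular
  choose U hU using fun i => Ideal.mem_span_range_iff_exists_fun.mp
    (hab.symm.le (Ideal.subset_span ⟨i, rfl⟩) : b i ∈ Ideal.span (Set.range a))
  choose V hV using fun i => Ideal.mem_span_range_iff_exists_fun.mp
    (hab.le (Ideal.subset_span ⟨i, rfl⟩) : a i ∈ Ideal.span (Set.range b))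
  let π := Ideal.Quotient.mk (IsLocalRing.maximalIdeal A)
  let Um : Matrix (Fin n) (Fin n) A := U
  let Vm : Matrix (Fin n) (Fin n) A := V
  have hVU : Vm.map π * Um.map π = 1 := by
    ext i j
    rw [← Matrix.map_mul, Matrix.map_apply]
    have h := hmin ((Vm * Um) i - (1 : Matrix (Fin n) (Fin n) A) i) (by
      convert zero_mem (IsLocalRing.maximalIdeal A * Ideal.span (Set.range a))
      simp only [Pi.sub_apply, sub_mul, Finset.sum_sub_distrib, Matrix.mul_apply, Finset.sum_mul]
      rw [Finset.sum_comm]
      simp_rw [mul_assoc, ← Finset.mul_sum, Um, Vm, hU, hV]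
      simp [Matrix.one_apply]) j
    have h' : π (((Vm * Um) i - (1 : Matrix (Fin n) (Fin n) A) i) j) = 0 :=
      Ideal.Quotient.eq_zero_iff_mem.mpr h
    rw [Pi.sub_apply, map_sub, sub_eq_zero] at h'
    rw [h', Matrix.one_apply, Matrix.one_apply]
    split_ifs <;> simp
  have hUV : Um.map π * Vm.map π = 1 := mul_eq_one_comm.1 hVU
  have hminb : Groth.Ega4b.Minimal b := by
    intro c hc i
    rw [← hab] at hc
    have h1 : ∀ k, π (Matrix.vecMul c Um k) = 0 := fun k => by
      refine Ideal.Quotient.eq_zero_iff_mem.2 (hmin _ ?_ k)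
      convert hc using 1
      simp only [Matrix.vecMul, dotProduct, Finset.sum_mul]
      rw [Finset.sum_comm]
      simp_rw [mul_assoc, ← Finset.mul_sum, Um, hU]
    rw [← Ideal.Quotient.eq_zero_iff_mem]
    have h2 : Matrix.vecMul (π ∘ c) (Um.map π) = 0 := funext fun k => by
      rw [← RingHom.map_vecMul]; exact h1 k
    have h3 := congrArg (fun v => Matrix.vecMul v (Vm.map π)) h2
    simp only [Matrix.vecMul_vecMul, hUV, Matrix.vecMul_one, Matrix.zero_vecMul] at h3
    exact congrFun h3 i
  refine ⟨Groth.Ega4b.isWeaklyRegular_of_minimal a hma ha.toIsWeaklyRegular b hab.symm hminb, ?_⟩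
  intro h
  refine hne ?_
  rwa [hI, hab, ← Groth.Ega4b.ofList_ofFn_eq_span b]

end Groth.Agent.S0611
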