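import Groth.Statements.S0614
import Groth.Agent.NeronArea.PotentialGoodReduction

set_option autoImplicit false
universe u
open Neron

namespace Groth.Agent.S0614

open Groth.NeronArea.PotentialGoodReduction in
/-- (c) (the base Dedekind scheme taken local): an elliptic curve E over the fraction field K of a
discrete valuation ring R has integral j-invariant if and only if it has potential good reduction
(stated here with a finite extension: there are a finite extension L of K and a discrete valuation
ring R_L of L dominating R over which a minimal Weierstrass equation of E_L has good reduction). -/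
theorem result {R : Type u} [CommRing R] [IsDomain R]
    [IsDiscreteValuationRing R] {K : Type u} [Field K] [Algebra R K] [IsFractionRing R K]
    (W : WeierstrassCurve K) [W.IsElliptic] :
    (∃ r : R, algebraMap R K r = W.j) ↔
      ∃ (L : Type u) (_ : Field L) (_ : Algebra K L) (_ : FiniteDimensional K L) (RL : Type u)
        (_ : CommRing RL) (_ : IsDomain RL) (_ : IsDiscreteValuationRing RL) (_ : Algebra RL L)
        (_ : IsFractionRing RL L) (φ : R →+* RL), IsLocalHom φ ∧
        (∀ r : R, algebraMap K L (algebraMap R K r) = algebraMap RL L (φ r)) ∧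
        ((W.baseChange L).minimal RL).HasGoodReduction RL := by
  refine ⟨fun ⟨r, hr⟩ => exists_goodReduction_of_integral_j W r hr, ?_⟩
  rintro ⟨L, _, _, _, RL, _, _, _, _, _, φ, hφ, hcomm, hgood⟩
  haveI := hφ
  haveI : (W.baseChange L).IsElliptic := inferInstanceAs (W.map (algebraMap K L)).IsElliptic
  obtain ⟨s, hs⟩ := exists_j_of_hasGoodReduction (W.baseChange L) hgood
  have hs' : algebraMap RL L s = algebraMap K L W.j := hs.trans (W.map_j (algebraMap K L))
  rcases ValuationRing.isInteger_or_isInteger R W.j with ⟨r, hr⟩ | ⟨r, hr⟩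
  · exact ⟨r, hr⟩
  · rcases eq_or_ne W.j 0 with h0 | h0
    · exact ⟨0, by rw [map_zero, h0]⟩
    have h1 : φ r * s = 1 := IsFractionRing.injective RL L (by
      rw [map_mul, map_one, ← hcomm, hs', hr, ← map_mul, inv_mul_cancel₀ h0, map_one])
    obtain ⟨v, hv⟩ := isUnit_of_map_unit φ r (IsUnit.of_mul_eq_one _ h1)
    refine ⟨↑v⁻¹, ?_⟩
    have h2 : algebraMap R K ↑v⁻¹ * algebraMap R K r = 1 := by
      rw [← map_mul, ← hv, Units.inv_mul, map_one]
    rw [hr] at h2
    calc algebraMap R K ↑v⁻¹ = algebraMap R K ↑v⁻¹ * W.j⁻¹ * W.j := by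
          rw [inv_mul_cancel_right₀ h0]
      _ = W.j := by rw [h2, _root_.one_mul]

end Groth.Agent.S0614
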