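import Groth.Statements.S0615
import Groth.Agent.Misc1.ReesKernel
import Mathlib.RingTheory.Localization.Away.Basic

set_option autoImplicit false
universe u
open RRAlg

namespace Groth.Agent.S0615

/-- Let A be a commutative ring and a_0, a_1, …, a_n a weakly regular sequence in A (for each i, a_i is
a non-zero-divisor on A/(a_0, …, a_{i−1}); the sequence is indexed here by Fin (n+1)). Then the
kernel of the A-algebra homomorphism A[T_1, …, T_n] → A[1/a_0] sending T_i to a_i/a_0 is the ideal
generated by the elements a_0 T_i − a_i for 1 ≤ i ≤ n (a presentation of the affine blow-up algebra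
A[a_1/a_0, …, a_n/a_0]). -/
theorem result {A : Type u} [CommRing A] {n : ℕ}
    (a : Fin (n + 1) → A) (ha : RingTheory.Sequence.IsWeaklyRegular A (List.ofFn a)) :
    RingHom.ker (MvPolynomial.aeval (R := A) (S₁ := Localization.Away (a 0))
      (fun i : Fin n => IsLocalization.mk' (Localization.Away (a 0)) (a i.succ)
        (⟨a 0, Submonoid.mem_powers (a 0)⟩ : Submonoid.powers (a 0)))) =
      Ideal.span (Set.range fun i : Fin n =>
        MvPolynomial.C (a 0) * MvPolynomial.X i - MvPolynomial.C (a i.succ)) := by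
  classical
  set t : Fin n → Localization.Away (a 0) := fun i => IsLocalization.mk' (Localization.Away (a 0)) (a i.succ)
    (⟨a 0, Submonoid.mem_powers (a 0)⟩ : Submonoid.powers (a 0)) with ht
  have hst : ∀ i, algebraMap A (Localization.Away (a 0)) (a 0) * t i = algebraMap A _ (a i.succ) := fun i =>
    IsLocalization.mk'_spec' (Localization.Away (a 0)) (a i.succ)
      (⟨a 0, Submonoid.mem_powers (a 0)⟩ : Submonoid.powers (a 0))
  have hu : IsUnit (algebraMap A (Localization.Away (a 0)) (a 0)) :=
    IsLocalization.Away.algebraMap_isUnit (a 0)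
  refine le_antisymm (fun P hP => ?_) (Ideal.span_le.2 ?_)
  swap
  · rintro _ ⟨i, rfl⟩
    simp only [SetLike.mem_coe, RingHom.mem_ker, map_sub, map_mul, MvPolynomial.aeval_C, MvPolynomial.aeval_X,
      hst, sub_self]
  have hinj : Function.Injective (algebraMap A (Localization.Away (a 0))) := by
    have h0 : IsSMulRegular A (a 0) := by
      have := ha
      rw [List.ofFn_succ, RingTheory.Sequence.isWeaklyRegular_cons_iff] at this
      exact this.1
    refine IsLocalization.injective _ (M := Submonoid.powers (a 0)) ?_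
    rintro _ ⟨m, rfl⟩
    exact mem_nonZeroDivisors_iff_right.2 fun z hz =>
      (IsSMulRegular.pow m h0).right_eq_zero_of_smul (by simpa [mul_comm] using hz)
  -- homogenise
  let N := P.totalDegree
  let Q := fun j => MvPolynomial.homogeneousComponent j P
  let Ph : MvPolynomial (Fin (n + 1)) A :=
    ∑ j ∈ Finset.range (N + 1), MvPolynomial.X 0 ^ (N - j) * MvPolynomial.rename Fin.succ (Q j)
  have hhom : Ph.IsHomogeneous N := by
    refine MvPolynomial.IsHomogeneous.sum _ _ _ fun j hj => ?_
    have := ((MvPolynomial.isHomogeneous_X_pow (R := A) (0 : Fin (n + 1)) (N - j))).mul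
      ((MvPolynomial.homogeneousComponent_isHomogeneous j P).rename_isHomogeneous (f := Fin.succ))
    rwa [Nat.sub_add_cancel (Nat.lt_succ_iff.1 (Finset.mem_range.1 hj))] at this
  have heval : MvPolynomial.eval a Ph = 0 := by
    refine hinj ?_
    rw [map_zero, map_sum, map_sum]
    have hP' : MvPolynomial.aeval t P = 0 := hP
    rw [← MvPolynomial.sum_homogeneousComponent P, map_sum] at hP'
    rw [Finset.sum_congr rfl (g := fun j => algebraMap A (Localization.Away (a 0)) (a 0) ^ N *
      MvPolynomial.aeval t (Q j)) fun j hj => ?_, ← Finset.mul_sum, hP', mul_zero]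
    rw [map_mul, map_pow, MvPolynomial.eval_X, MvPolynomial.eval_rename, map_mul, map_pow,
      show algebraMap A (Localization.Away (a 0)) (MvPolynomial.eval (a ∘ Fin.succ) (Q j)) =
        MvPolynomial.aeval (fun i => algebraMap A (Localization.Away (a 0)) (a i.succ)) (Q j) from
        congrArg (fun g : MvPolynomial (Fin n) A →ₐ[A] Localization.Away (a 0) => g (Q j))
          (MvPolynomial.comp_aeval (a ∘ Fin.succ) (IsScalarTower.toAlgHom A A (Localization.Away (a 0))))]
    simp only [← hst]
    rw [Groth.Misc1.ReesKernel.aeval_scale (MvPolynomial.homogeneousComponent_isHomogeneous j P), ← mul_assoc,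
      ← pow_add, Nat.sub_add_cancel (Nat.lt_succ_iff.1 (Finset.mem_range.1 hj))]
  -- dehomogenise
  let δ : MvPolynomial (Fin (n + 1)) A →ₐ[A] MvPolynomial (Fin n) A :=
    MvPolynomial.aeval (Fin.cons 1 MvPolynomial.X)
  have hδ : δ Ph = P := by
    conv_rhs => rw [← MvPolynomial.sum_homogeneousComponent P]
    rw [map_sum]
    refine Finset.sum_congr rfl fun j _ => ?_
    rw [map_mul, map_pow, MvPolynomial.aeval_X, Fin.cons_zero, one_pow, one_mul, MvPolynomial.aeval_rename,
      show (Fin.cons (1 : MvPolynomial (Fin n) A) MvPolynomial.X : Fin (n + 1) → _) ∘ Fin.succ = MvPolynomial.X from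
        funext fun i => Fin.cons_succ _ _ _, MvPolynomial.aeval_X_left_apply]
  rw [← hδ]
  refine (Ideal.span_le.2 ?_ : Groth.Misc1.ReesKernel.relIdeal a ≤ Ideal.comap δ (Ideal.span (Set.range fun i : Fin n =>
      MvPolynomial.C (a 0) * MvPolynomial.X i - MvPolynomial.C (a i.succ))))
    (Groth.Misc1.ReesKernel.mem_relIdeal_of_eval a ha hhom heval)
  rintro _ ⟨i, j, rfl⟩
  rw [SetLike.mem_coe, Ideal.mem_comap]
  set J := Ideal.span (Set.range fun i : Fin n =>
    MvPolynomial.C (a 0) * MvPolynomial.X i - MvPolynomial.C (a i.succ)) with hJ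
  have hg : ∀ i : Fin (n + 1), MvPolynomial.C (a 0) * (Fin.cons 1 MvPolynomial.X : Fin (n + 1) → MvPolynomial (Fin n) A) i -
      MvPolynomial.C (a i) ∈ J := fun i => by
    cases i using Fin.cases with
    | zero => simp
    | succ i => rw [Fin.cons_succ]; exact Ideal.subset_span ⟨i, rfl⟩
  have : δ (MvPolynomial.C (a i) * MvPolynomial.X j - MvPolynomial.C (a j) * MvPolynomial.X i) =
      (Fin.cons 1 MvPolynomial.X : Fin (n + 1) → MvPolynomial (Fin n) A) i *
          (MvPolynomial.C (a 0) * (Fin.cons 1 MvPolynomial.X : Fin (n + 1) → MvPolynomial (Fin n) A) j -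
            MvPolynomial.C (a j)) -
        (Fin.cons 1 MvPolynomial.X : Fin (n + 1) → MvPolynomial (Fin n) A) j *
          (MvPolynomial.C (a 0) * (Fin.cons 1 MvPolynomial.X : Fin (n + 1) → MvPolynomial (Fin n) A) i -
            MvPolynomial.C (a i)) := by
    simp only [δ, map_sub, map_mul, MvPolynomial.aeval_C, MvPolynomial.aeval_X, MvPolynomial.algebraMap_eq]
    ring
  rw [this]
  exact J.sub_mem (J.mul_mem_left _ (hg j)) (J.mul_mem_left _ (hg i))

end Groth.Agent.S0615
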