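import Groth.Statements.S0619
import Groth.Agent.ZetaAn.CurveWeil

set_option autoImplicit false
set_option linter.style.haveILetI false
universe u
open AlgebraicGeometry CategoryTheory
open Zeta

namespace Groth.Agent.S0619

/-- For a geometrically connected smooth proper curve of genus g over a finite field k with q elements
and a finite extension k' of degree n, |#C(k') − (qⁿ + 1)| ≤ 2g·q^(n/2). -/
theorem result {k : Type u} [Field k] [Finite k] {C : Scheme.{u}}
    (f : C ⟶ Spec (CommRingCat.of k)) (hC : Curve.IsSmoothProperCurve k C f)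
    [GeometricallyIrreducible f] (g : ℕ)
    (hg : Nat.card (Coh.HH C (Coh.structureModule C) 1) = Nat.card k ^ g)
    (k' : Type u) [Field k'] [Algebra k k'] [Finite k'] :
    |(SgaExt.pointCount f k' : ℝ) - ((Nat.card k : ℝ) ^ Module.finrank k k' + 1)| ≤
      2 * g * (Nat.card k : ℝ) ^ ((Module.finrank k k' : ℝ) / 2) := by
  obtain ⟨hp, hs, hi, hdim⟩ := hC
  haveI := hi
  letI : C.Over (Spec (CommRingCat.of k)) := ⟨f⟩
  haveI : IsProper (C ↘ Spec (CommRingCat.of k)) := hp
  haveI : Smooth (C ↘ Spec (CommRingCat.of k)) := hs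
  haveI : GeometricallyIrreducible (C ↘ Spec (CommRingCat.of k)) := ‹GeometricallyIrreducible f›
  obtain ⟨α, -, hα, -, hN⟩ := Groth.ZetaAn.weil_conjectures_curve hdim g hg
  set n := Module.finrank k k'
  set q : ℝ := (Nat.card k : ℝ) with hqdef
  have hq : 0 ≤ q := Nat.cast_nonneg _
  have h2 : (((SgaExt.pointCount f k' : ℝ) - (q ^ n + 1) : ℝ) : ℂ) = - ∑ i, α i ^ n := by
    push_cast [q]
    rw [show (SgaExt.pointCount f k' : ℂ) = (Nat.card k : ℂ) ^ n + 1 - ∑ i, α i ^ n from hN k']
    ring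
  rw [← Real.norm_eq_abs, ← Complex.norm_real, h2, norm_neg]
  refine (norm_sum_le _ _).trans (le_of_eq ?_)
  have h3 : ∀ i, ‖α i‖ = q ^ ((1 : ℝ) / 2) := fun i => by
    rw [← Real.sqrt_eq_rpow, ← Real.sqrt_sq (norm_nonneg (α i)), hα i]
  rw [Finset.sum_congr rfl fun i _ => by rw [norm_pow, h3 i, ← Real.rpow_natCast, ← Real.rpow_mul hq],
    Finset.sum_const, Finset.card_univ, Fintype.card_fin, nsmul_eq_mul, one_div_mul_eq_div]
  push_cast
  rfl

end Groth.Agent.S0619
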