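import Groth.Statements.S0627
import Groth.Agent.EtaleBase.NormalConst

set_option autoImplicit false
open CategoryTheory CategoryTheory.Limits AlgebraicGeometry Opposite
universe u
open EtCore

namespace Groth.Agent.S0627

/-- Let X be an integral normal scheme (every local ring integrally closed), U a nonempty open subscheme
with inclusion j : U → X, and M an abelian group. Then the adjunction unit from the constant étale
sheaf with value M on X to j_* of its pullback to U is an isomorphism. -/
theorem result (X : Scheme.{u}) [IsIntegral X]
    (hN : ∀ x : X, IsIntegrallyClosed (X.presheaf.stalk x)) (U : X.Opens) (hU : (U : Set X).Nonempty)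
    (M : Type) [AddCommGroup M] :
    IsIso ((EtCoh.pullPushAdj U.ι).unit.app (EtCoh.const X M)) :=
  Groth.EtaleBase.NormalConst.isIso_unit U.ι (EtCoh.const X M) _ hN
    (Groth.EtaleBase.LocConst.exists_stalkBij_const (EtCoh.top X) (ULift.{u + 1} M))
    (by rw [Scheme.Opens.range_ι]; exact ((genericPoint_spec X).mem_open_set_iff U.isOpen).2 (by simpa using hU))

end Groth.Agent.S0627
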