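import Groth.Statements.S0632
import Groth.Agent.EtaleBase.ClosedLift

set_option autoImplicit false
open CategoryTheory CategoryTheory.Limits AlgebraicGeometry Opposite
universe u
open EtCore

namespace Groth.Agent.S0632

/-- Let X -> Y be a closed immersion and U_i -> X (i in ι) a jointly surjective family of etale
morphisms. Then one can find a jointly surjective family of etale Y-schemes V_j each of which either
has empty preimage over X or, after base change to X, maps into one of the U_i over X. -/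
theorem result {X Y : Scheme.{u}} (f : X ⟶ Y) [IsClosedImmersion f]
    {ι : Type u} (U : ι → X.Etale) (hU : EtCoh.Covers U) :
    ∃ (κ : Type u) (V : κ → Y.Etale), EtCoh.Covers V ∧
      ∀ j, IsEmpty ↥(pullback (V j).hom f) ∨
        ∃ (i : ι) (h : pullback (V j).hom f ⟶ (U i).left), h ≫ (U i).hom = pullback.snd (V j).hom f := by
  choose V v hv h hh _ hu using
    fun p : Σ i, (U i).left => Groth.EtaleBase.exists_etale_lift f (U p.1).hom p.2
  let O : Y.Opens := ⟨(Set.range f.base)ᶜ, f.isClosedEmbedding.isClosed_range.isOpen_compl⟩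
  refine ⟨(Σ i, (U i).left) ⊕ PUnit.{u + 1},
    Sum.elim (fun p => Scheme.Etale.mk (v p)) fun _ => Scheme.Etale.mk O.ι, fun y => ?_, ?_⟩
  · by_cases hy : y ∈ Set.range f.base
    · obtain ⟨x, rfl⟩ := hy
      obtain ⟨i, z, rfl⟩ := hU x
      obtain ⟨w, hw⟩ := hu ⟨i, z⟩
      refine ⟨.inl ⟨i, z⟩, (pullback.fst (v ⟨i, z⟩) f).base w, ?_⟩
      show (v ⟨i, z⟩).base _ = _
      rw [← Scheme.Hom.comp_apply, pullback.condition, ← hh ⟨i, z⟩]
      simp only [Scheme.Hom.comp_apply]
      exact congrArg (fun a => f.base ((U i).hom.base a)) hw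
    · exact ⟨.inr ⟨⟩, ⟨y, hy⟩, rfl⟩
  · rintro (p | _)
    · exact Or.inr ⟨p.1, h p, hh p⟩
    · refine Or.inl ⟨fun z => ?_⟩
      have h1 : O.ι.base ((pullback.fst O.ι f).base z) = f.base ((pullback.snd O.ι f).base z) := by
        rw [← Scheme.Hom.comp_apply, ← Scheme.Hom.comp_apply, pullback.condition]
      exact ((pullback.fst O.ι f).base z).2 ⟨_, h1.symm⟩

end Groth.Agent.S0632
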