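import Groth.Statements.S0643
-- import your own Groth.Agent.* helpers here

set_option autoImplicit false
universe u
open EtCore

namespace Groth.Agent.S0643

open Polynomial in
/-- Let A be a ring, assumed nonzero here (the published statement does not say so; over the zero ring
no polynomial has positive degree in Lean's sense), and a, b elements generating the unit ideal such
that some positive power of a is congruent to 1 modulo b. Then there is a monic polynomial P of
positive degree over A such that in B = A[y]/(P) the element a - b y is a unit. -/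
theorem result (A : Type u) [CommRing A] [Nontrivial A] (a b : A) (hab : IsCoprime a b)
    (hroot : ∃ n : ℕ, 0 < n ∧ a ^ n - 1 ∈ Ideal.span ({b} : Set A)) :
    ∃ P : A[X], P.Monic ∧ 0 < P.natDegree ∧
      IsUnit (algebraMap A (AdjoinRoot P) a - algebraMap A (AdjoinRoot P) b * AdjoinRoot.root P) := by
  obtain ⟨u, v, huv⟩ := hab
  obtain ⟨n, hn, hmem⟩ := hroot
  obtain ⟨c, hc⟩ := Ideal.mem_span_singleton'.mp hmem
  obtain ⟨m, rfl⟩ : ∃ m, n = m + 1 := ⟨n - 1, by omega⟩
  let d : ℕ → A := fun k => c * u ^ k * v ^ (m - k) * (m.choose k : A)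
  have hd : ∑ k ∈ Finset.range (m + 1), d k * a ^ k * b ^ (m - k) = c := by
    calc ∑ k ∈ Finset.range (m + 1), d k * a ^ k * b ^ (m - k)
        = c * ∑ k ∈ Finset.range (m + 1), (u * a) ^ k * (v * b) ^ (m - k) * (m.choose k : A) := by
          rw [Finset.mul_sum]
          refine Finset.sum_congr rfl fun k _ => ?_
          simp only [d]
          ring
      _ = c := by rw [← add_pow, huv, one_pow, mul_one]
  let Q : A[X] := ∑ k ∈ Finset.range (m + 1), C (d k) * X ^ k
  have hQ : Q.degree < ((m + 1 : ℕ) : WithBot ℕ) := by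
    refine lt_of_le_of_lt (degree_sum_le _ _) ?_
    refine (Finset.sup_lt_iff (WithBot.bot_lt_coe _)).2 fun k hk => ?_
    exact lt_of_le_of_lt (degree_C_mul_X_pow_le k (d k))
      (by exact_mod_cast Finset.mem_range.mp hk)
  let P : A[X] := X ^ (m + 1) - Q
  have hP : P.Monic := monic_X_pow_sub hQ
  have hdeg : P.natDegree = m + 1 := by
    apply natDegree_eq_of_degree_eq_some
    have h : Q.degree < ((X : A[X]) ^ (m + 1)).degree := by rw [degree_X_pow]; exact hQ
    simp only [P]
    rw [degree_sub_eq_left_of_degree_lt h, degree_X_pow]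
  refine ⟨P, hP, by omega, ?_⟩
  let G : A[X] := X ^ (m + 1) - ∑ k ∈ Finset.range (m + 1), C (d k * b ^ (m + 1 - k)) * X ^ k
  let φ := algebraMap A (AdjoinRoot P)
  let y := AdjoinRoot.root P
  have hGa : G.eval a = 1 := by
    have h1 : ∀ k ∈ Finset.range (m + 1),
        d k * b ^ (m + 1 - k) * a ^ k = b * (d k * a ^ k * b ^ (m - k)) := by
      intro k hk
      have : m + 1 - k = (m - k) + 1 := by have := Finset.mem_range.mp hk; omega
      rw [this, pow_succ]
      ring
    simp only [G, eval_sub, eval_pow, eval_X, eval_finsetSum, eval_mul, eval_C]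
    rw [Finset.sum_congr rfl h1, ← Finset.mul_sum, hd]
    linear_combination -hc
  have hy : eval₂ φ y P = 0 := AdjoinRoot.eval₂_root P
  have hGy : eval₂ φ (φ b * y) G = 0 := by
    have h2 : eval₂ φ (φ b * y) G = φ b ^ (m + 1) * eval₂ φ y P := by
      simp only [G, P, Q, eval₂_sub, eval₂_pow, eval₂_X, eval₂_finsetSum, eval₂_mul, eval₂_C,
        map_mul, map_pow, mul_sub, Finset.mul_sum]
      congr 1
      · ring
      · refine Finset.sum_congr rfl fun k hk => ?_
        have e : φ b ^ (m + 1) = φ b ^ (m + 1 - k) * φ b ^ k := by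
          rw [← pow_add]
          congr 1
          have := Finset.mem_range.mp hk; omega
        rw [e]
        ring
    rw [h2, hy, mul_zero]
  have hdvd : φ a - φ b * y ∣ (G.map φ).eval (φ a) - (G.map φ).eval (φ b * y) :=
    Polynomial.sub_dvd_eval_sub _ _ _
  rw [eval_map, eval_map, hGy, sub_zero, eval₂_hom, hGa, map_one] at hdvd
  exact isUnit_of_dvd_one hdvd

end Groth.Agent.S0643
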