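import Groth.Statements.S0644
import Groth.Agent.EtaleBase.Support
-- import your own Groth.Agent.* helpers here

set_option autoImplicit false
open CategoryTheory CategoryTheory.Limits AlgebraicGeometry Opposite
universe u
open EtCore

namespace Groth.Agent.S0644

/-- Let F be a sheaf of sets on the small etale site of S which is a subsheaf of the final sheaf, i.e.
every set of sections has at most one element. Then there is exactly one open W of S such that F is
isomorphic to the sheaf represented by W (viewed as a scheme etale over S). -/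
theorem result (S : Scheme.{u}) (F : Sheaf S.smallEtaleTopology (Type u))
    (hF : ∀ U : S.Etale, Subsingleton (F.obj.obj (op U))) :
    ∃! W : S.Opens, Nonempty (F.obj ≅ yoneda.obj (Scheme.Etale.mk W.ι)) := by
  let W : S.Opens := ⟨⋃ (V : S.Etale) (_ : Nonempty (F.obj.obj (op V))), Set.range V.hom.base,
    isOpen_iUnion fun V => isOpen_iUnion fun _ => (Groth.EtaleBase.isOpenMap_hom V).isOpen_range⟩
  have hsub : ∀ (W' : S.Opens) (U : S.Etale),
      Subsingleton (U ⟶ Scheme.Etale.mk W'.ι) := fun W' U => ⟨fun a b => by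
    apply MorphismProperty.Over.Hom.ext
    exact (cancel_mono W'.ι).1 ((Over.w a.hom).trans (Over.w b.hom).symm)⟩
  have hyon : ∀ (W' : S.Opens) (U : S.Etale),
      Nonempty (U ⟶ Scheme.Etale.mk W'.ι) ↔ Set.range U.hom.base ⊆ (W' : Set S) := fun W' U => by
    constructor
    · rintro ⟨a⟩ _ ⟨x, rfl⟩
      have h : (a.left ≫ W'.ι).base x = U.hom.base x :=
        congrArg (fun ψ : U.left ⟶ S => ψ.base x) (Over.w a.hom)
      rw [← h]
      exact (a.left.base x).2
    · intro h
      let q : U.left ⟶ S := U.hom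
      have hq : Set.range q.base ⊆ Set.range W'.ι.base := h.trans W'.range_ι.superset
      let l : U.left ⟶ (W' : Scheme.{u}) := IsOpenImmersion.lift W'.ι q hq
      exact ⟨MorphismProperty.Over.homMk l (IsOpenImmersion.lift_fac W'.ι q hq)⟩
  have hF' : ∀ U : S.Etale, Nonempty (F.obj.obj (op U)) ↔ Set.range U.hom.base ⊆ (W : Set S) := fun U => by
    refine ⟨fun hU => fun x hx => Set.mem_biUnion hU hx, fun h => ?_⟩
    let R : Sieve U :=
      { arrows := fun V g => Nonempty (F.obj.obj (op V))
        downward_closed := fun {_ _ _} ⟨a⟩ g => ⟨F.obj.map g.op a⟩ }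
    have hR : R ∈ S.smallEtaleTopology U := by
      rw [Groth.EtaleBase.mem_topology_iff]
      intro u
      obtain ⟨V, hV, ⟨v, hv⟩⟩ : ∃ V : S.Etale, Nonempty (F.obj.obj (op V)) ∧
          U.hom.base u ∈ Set.range V.hom.base := by
        simpa [W] using h ⟨u, rfl⟩
      obtain ⟨z, hz, -⟩ := Scheme.Pullback.exists_preimage_pullback
        (f := (U.hom : U.left ⟶ S)) (g := (V.hom : V.left ⟶ S)) u v hv.symm
      refine ⟨Scheme.Etale.mk (pullback.fst (C := Scheme) (Z := S) U.hom V.hom ≫ U.hom),
        MorphismProperty.Over.homMk (pullback.fst (C := Scheme) (Z := S) U.hom V.hom), z, ?_, hz⟩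
      obtain ⟨a⟩ := hV
      exact ⟨F.obj.map (Quiver.Hom.op (MorphismProperty.Over.homMk
        (pullback.snd (C := Scheme) (Z := S) U.hom V.hom) pullback.condition.symm)) a⟩
    exact ⟨((isSheaf_iff_isSheaf_of_type _ _).1 F.property R hR).amalgamate
      (fun V g hg => hg.some) (fun _ _ _ _ _ _ _ _ _ _ => (hF _).elim _ _)⟩
  have key : ∀ W' : S.Opens, Nonempty (F.obj ≅ yoneda.obj (Scheme.Etale.mk W'.ι)) ↔
      ∀ U : S.Etale, Nonempty (F.obj.obj (op U)) ↔ Set.range U.hom.base ⊆ (W' : Set S) := fun W' => by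
    constructor
    · rintro ⟨e⟩ U
      rw [← hyon W' U]
      exact ⟨fun ⟨a⟩ => ⟨e.hom.app _ a⟩, fun ⟨a⟩ => ⟨e.inv.app _ a⟩⟩
    · intro h
      refine ⟨NatIso.ofComponents (fun U => Equiv.toIso
        { toFun := fun a => ((hyon W' U.unop).2 ((h U.unop).1 ⟨a⟩)).some
          invFun := fun a => ((h U.unop).2 ((hyon W' U.unop).1 ⟨a⟩)).some
          left_inv := fun a => (hF _).elim _ _
          right_inv := fun a => (hsub W' U.unop).elim _ _ }) ?_⟩
      intro U V g
      ext a
      exact (hsub W' V.unop).elim _ _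
  refine ⟨W, (key W).2 hF', fun W' hW' => SetLike.ext' ?_⟩
  have h1 := (key W').1 hW'
  apply subset_antisymm
  · have : Set.range (Scheme.Etale.mk W'.ι).hom.base ⊆ (W : Set S) :=
      (hF' _).1 ((h1 _).2 W'.range_ι.subset)
    exact W'.range_ι.superset.trans this
  · have : Set.range (Scheme.Etale.mk W.ι).hom.base ⊆ (W' : Set S) :=
      (h1 _).1 ((hF' _).2 W.range_ι.subset)
    exact W.range_ι.superset.trans this

end Groth.Agent.S0644
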