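import Groth.Statements.S0658
import Mathlib.AlgebraicGeometry.Morphisms.Etale
import Mathlib.AlgebraicGeometry.Limits
import Mathlib.RingTheory.Etale.Field
import Mathlib.RingTheory.Unramified.Field
import Mathlib.RingTheory.Unramified.Finite
import Mathlib.RingTheory.Artinian.Ring
import Mathlib.RingTheory.Spectrum.Prime.Noetherian

set_option autoImplicit false
open CategoryTheory CategoryTheory.Limits AlgebraicGeometry Opposite
universe u
open EtCore

namespace Groth.Agent.S0658

variable {k : Type u} [Field k] {U : Scheme.{u}} (φ : U ⟶ Spec (CommRingCat.of k))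

/-- Sections of an affine open of an etale scheme over a field. -/
lemma exists_etale_algebra [AlgebraicGeometry.Etale φ] {W : U.Opens} (hW : IsAffineOpen W) :
    ∃ g : k →+* Γ(U, W), g.Etale ∧
      hW.fromSpec ≫ φ = Spec.map (CommRingCat.ofHom g) := by
  obtain ⟨θ, hθ⟩ := Spec.map_surjective (hW.fromSpec ≫ φ)
  refine ⟨θ.hom, (HasRingHomProperty.Spec_iff (P := @AlgebraicGeometry.Etale)).1 ?_, hθ.symm⟩
  rw [hθ]
  infer_instance

lemma isOpen_singleton [AlgebraicGeometry.Etale φ] (x : U) : IsOpen ({x} : Set U) := by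
  obtain ⟨_, ⟨W, hW, rfl⟩, hx, -⟩ := U.isBasis_affineOpens.exists_subset_of_mem_open
    (Set.mem_univ x) isOpen_univ
  obtain ⟨g, hg, -⟩ := exists_etale_algebra φ hW
  let := g.toAlgebra
  have : Algebra.Etale k Γ(U, W) := hg
  have : Module.Finite k Γ(U, W) := Algebra.FormallyUnramified.finite_of_free k _
  have : IsArtinianRing Γ(U, W) := isArtinian_of_tower k inferInstance
  obtain ⟨p, rfl⟩ : x ∈ Set.range hW.fromSpec.base := by rwa [IsAffineOpen.range_fromSpec]
  rw [← Set.image_singleton]
  exact hW.fromSpec.isOpenEmbedding.isOpenMap _ (isOpen_discrete (α := PrimeSpectrum Γ(U, W)) {p})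

lemma etale_iff_exists :
    AlgebraicGeometry.Etale φ ↔
      ∃ (ι : Type u) (K : ι → Type u) (_ : ∀ i, Field (K i)) (_ : ∀ i, Algebra k (K i))
        (_ : ∀ i, FiniteDimensional k (K i)) (_ : ∀ i, Algebra.IsSeparable k (K i))
        (e : (∐ fun i => Spec (CommRingCat.of (K i))) ≅ U),
        ∀ i, Sigma.ι (fun i => Spec (CommRingCat.of (K i))) i ≫ e.hom ≫ φ =
          Spec.map (CommRingCat.ofHom (algebraMap k (K i))) := by
  constructor
  · intro _
    have hW : ∀ x : U, ∃ W : U.Opens, IsAffineOpen W ∧ (W : Set U) = {x} := by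
      intro x
      obtain ⟨_, ⟨W, hW, rfl⟩, hx, hs⟩ := U.isBasis_affineOpens.exists_subset_of_mem_open
        (Set.mem_singleton x) (isOpen_singleton φ x)
      exact ⟨W, hW, hs.antisymm (Set.singleton_subset_iff.2 hx)⟩
    choose W hWa hWs using hW
    choose g hg hgφ using fun x => exists_etale_algebra φ (hWa x)
    let K : U → Type u := fun x => Γ(U, W x)
    let algK : ∀ x, Algebra k (K x) := fun x => (g x).toAlgebra
    have hfin : ∀ x, Module.Finite k (K x) := fun x => by
      have : Algebra.Etale k (K x) := hg x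
      exact Algebra.FormallyUnramified.finite_of_free k _
    have hF : ∀ x, IsField (K x) := fun x => by
      have : Algebra.Etale k (K x) := hg x
      have := hfin x
      have : IsArtinianRing (K x) := isArtinian_of_tower k inferInstance
      have : _root_.IsReduced (K x) := Algebra.FormallyUnramified.isReduced_of_field k _
      have hr : Set.range (hWa x).fromSpec.base = {x} := by
        rw [IsAffineOpen.range_fromSpec]; exact hWs x
      obtain ⟨p, hp⟩ : x ∈ Set.range (hWa x).fromSpec.base := hr ▸ rfl
      have : Subsingleton (PrimeSpectrum (K x)) := ⟨fun a b =>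
        (hWa x).fromSpec.isOpenEmbedding.injective
          ((hr.le ⟨a, rfl⟩).trans (hr.le ⟨b, rfl⟩).symm)⟩
      have : IsLocalRing (K x) := IsLocalRing.of_unique_max_ideal (by
        have : Nontrivial (K x) := PrimeSpectrum.nonempty_iff_nontrivial.1 ⟨p⟩
        obtain ⟨m, hm⟩ := Ideal.exists_maximal (K x)
        exact ⟨m, hm, fun n hn => congrArg PrimeSpectrum.asIdeal
          (Subsingleton.elim (⟨n, hn.isPrime⟩ : PrimeSpectrum (K x)) ⟨m, hm.isPrime⟩)⟩)
      exact IsArtinianRing.isField_of_isReduced_of_isLocalRing _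
    let fK : ∀ x, Field (K x) := fun x => (hF x).toField
    have hsep : ∀ x, Algebra.IsSeparable k (K x) := fun x => by
      have : Algebra.Etale k (K x) := hg x
      exact Algebra.FormallyUnramified.isSeparable k (K x)
    let α : ∀ x, Spec (CommRingCat.of (K x)) ⟶ U := fun x => (hWa x).fromSpec
    have : ∀ x, IsOpenImmersion (α x) := fun x => (hWa x).isOpenImmersion_fromSpec
    have hr : ∀ x, Set.range (α x).base = {x} := fun x =>
      (IsAffineOpen.range_fromSpec (hWa x)).trans (hWs x)
    have hdis : Pairwise (Function.onFun Disjoint fun x => Set.range (α x).base) := fun a b hab => by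
      simp only [Function.onFun, hr, Set.disjoint_singleton]
      exact hab
    have : IsOpenImmersion (Sigma.desc α) := isOpenImmersion_sigmaDesc _ α hdis
    have : Surjective (Sigma.desc α) := ⟨fun x => by
      obtain ⟨p, hp⟩ : x ∈ Set.range (α x).base := (hr x).symm ▸ rfl
      refine ⟨(Sigma.ι (fun x => Spec (CommRingCat.of (K x))) x).base p, ?_⟩
      rw [← Scheme.Hom.comp_apply, Sigma.ι_desc]
      exact hp⟩
    have : IsIso (Sigma.desc α) := isIso_of_isOpenImmersion_of_opensRange_eq_top _
      (TopologicalSpace.Opens.ext (Set.range_eq_univ.2 (Sigma.desc α).surjective))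
    refine ⟨U, K, fK, algK, hfin, hsep, asIso (Sigma.desc α), fun x => ?_⟩
    rw [asIso_hom, ← Category.assoc, Sigma.ι_desc]
    exact hgφ x
  · rintro ⟨ι, K, _, _, _, _, e, he⟩
    have hφ : φ = e.inv ≫ Sigma.desc (fun i => Spec.map (CommRingCat.ofHom (algebraMap k (K i)))) := by
      rw [Iso.eq_inv_comp]
      refine Sigma.hom_ext _ _ fun i => ?_
      rw [Sigma.ι_desc]
      exact he i
    have : ∀ i, AlgebraicGeometry.Etale (Spec.map (CommRingCat.ofHom (algebraMap k (K i)))) := fun i => by
      rw [HasRingHomProperty.Spec_iff (P := @AlgebraicGeometry.Etale), CommRingCat.hom_ofHom,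
        RingHom.etale_algebraMap]
      have : Algebra.FormallyEtale k (K i) := Algebra.FormallyEtale.iff_isSeparable k (K i) |>.2 inferInstance
      have : Algebra.FinitePresentation k (K i) := Algebra.FinitePresentation.of_finiteType.1 inferInstance
      exact { }
    have : AlgebraicGeometry.Etale
        (Sigma.desc (fun i => Spec.map (CommRingCat.ofHom (algebraMap k (K i))))) :=
      IsZariskiLocalAtSource.sigmaDesc (P := @AlgebraicGeometry.Etale) this
    rw [hφ]
    infer_instance

theorem result (k : Type u) [Field k] (U : Scheme.{u}) (φ : U ⟶ Spec (CommRingCat.of k)) :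
    AlgebraicGeometry.Etale φ ↔
      ∃ (ι : Type u) (K : ι → Type u) (_ : ∀ i, Field (K i)) (_ : ∀ i, Algebra k (K i))
        (_ : ∀ i, FiniteDimensional k (K i)) (_ : ∀ i, Algebra.IsSeparable k (K i))
        (e : (∐ fun i => Spec (CommRingCat.of (K i))) ≅ U),
        ∀ i, Sigma.ι (fun i => Spec (CommRingCat.of (K i))) i ≫ e.hom ≫ φ =
          Spec.map (CommRingCat.ofHom (algebraMap k (K i))) :=
  etale_iff_exists φ

end Groth.Agent.S0658
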