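import Groth.Statements.S0662
import Groth.Agent.ModelsGraphs.OpenCurve.Final

set_option autoImplicit false
set_option linter.unusedSimpArgs false
open CategoryTheory CategoryTheory.Limits AlgebraicGeometry Opposite
universe u
open EtCore
open scoped Groth.Abvar.PicCalc

namespace Groth.Agent.S0662

/-- Let k be an algebraically closed field, Xb a smooth proper curve over k of genus g (the k-dimension
of H^1 of the structure sheaf), U the open complement of r ≥ 1 closed points of Xb (an affine smooth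
curve with its smooth proper compactification) and n ≥ 1 invertible in k. Then H^1 of U with
coefficients in the sheaf of n-th roots of unity is (noncanonically) isomorphic to (Z/n)^(2g + r -
1). -/
theorem result (k : Type u) [Field k] [IsAlgClosed k] (Xb : Scheme.{u})
    [Xb.Over (Spec (CommRingCat.of k))] (hXb : Curve.IsSmoothProperCurve k Xb (Xb ↘ Spec (CommRingCat.of k)))
    (g : ℕ) (hg : Module.finrank k (Coh.HH Xb (Coh.structureModule Xb) 1) = g)
    (U : Xb.Opens) (r : ℕ) (hr : 1 ≤ r) (hUc : ((U : Set Xb)ᶜ).Finite) (hUr : Nat.card ↥((U : Set Xb)ᶜ) = r)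
    (n : ℕ) (hn : 1 ≤ n) (hnk : (n : k) ≠ 0) :
    Nonempty (EtCoh.H (↑U : Scheme.{u}) (EtCoh.mu ↑U n) 1 ≃+ (Fin (2 * g + r - 1) → ZMod n)) := by
  obtain ⟨hP, hS, hI, hdim⟩ := hXb
  haveI : IsProper (Xb ↘ Spec (CommRingCat.of k)) := hP
  haveI : Smooth (Xb ↘ Spec (CommRingCat.of k)) := hS
  haveI : IsIntegral Xb := hI
  have h := Groth.CurveBridge.isRegCurve_of_smooth k Xb hdim
  have hU := Groth.ModelsGraphs.OpenCurve.generic_mem_of_finite_compl k h U hUc
  have hne : ((U : Set Xb)ᶜ).Nonempty := by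
    rw [Set.nonempty_iff_ne_empty]
    intro e
    rw [e, Nat.card_of_isEmpty] at hUr
    omega
  have hm : ∀ m, m ∣ n → (m : k) ≠ 0 := fun m ⟨d, hd⟩ e => hnk (by rw [hd, Nat.cast_mul, e, zero_mul])
  refine Groth.ModelsGraphs.OpenCurve.nonempty_H1_mu_addEquiv _ hn
    (Groth.ModelsGraphs.OpenCurve.isUnit_natCast U hnk) _ (fun m hmn => ?_) (fun m hmn => ?_)
    fun a b hab => Groth.ModelsGraphs.OpenCurve.exists_root_unit k h U hU a b
      (by rintro rfl; omega) (by rintro rfl; omega)
  · rw [Groth.ModelsGraphs.OpenCurve.card_H1_mu _ (Groth.ModelsGraphs.OpenCurve.isUnit_natCast U (hm m hmn)),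
      (Groth.ModelsGraphs.OpenCurve.card_units_pic h U hU (hm m hmn) hUc hne).1, hUr,
      show Curv2.genus k Xb = g from hg]
  · haveI := Groth.ModelsGraphs.OpenCurve.subsingleton_H_Gm k h U hU (le_refl 2)
    exact Groth.ModelsGraphs.OpenCurve.subsingleton_H2_mu _
      (Groth.ModelsGraphs.OpenCurve.isUnit_natCast U (hm m hmn))
      (Groth.ModelsGraphs.OpenCurve.card_units_pic h U hU (hm m hmn) hUc hne).2

end Groth.Agent.S0662
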