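import Groth.Statements.S0663
import Groth.Agent.ModelsGraphs.OpenCurve.Final

set_option autoImplicit false
set_option linter.unusedSimpArgs false
open CategoryTheory CategoryTheory.Limits AlgebraicGeometry Opposite
universe u
open EtCore
open scoped Groth.Abvar.PicCalc

namespace Groth.Agent.S0663

/-- Let k be an algebraically closed field, Xb a smooth proper curve over k, U the open complement of r
≥ 1 closed points of Xb and n ≥ 1 invertible in k. Then the global sections of the sheaf of n-th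
roots of unity on U form a group isomorphic to the n-th roots of unity of k, and H^q(U, μ_n)
vanishes for q ≥ 2. -/
theorem result (k : Type u) [Field k] [IsAlgClosed k] (Xb : Scheme.{u})
    [Xb.Over (Spec (CommRingCat.of k))] (hXb : Curve.IsSmoothProperCurve k Xb (Xb ↘ Spec (CommRingCat.of k)))
    (U : Xb.Opens) (r : ℕ) (hr : 1 ≤ r) (hUc : ((U : Set Xb)ᶜ).Finite) (hUr : Nat.card ↥((U : Set Xb)ᶜ) = r)
    (n : ℕ) (hn : 1 ≤ n) (hnk : (n : k) ≠ 0) :
    Nonempty (EtCoh.H (↑U : Scheme.{u}) (EtCoh.mu ↑U n) 0 ≃+ Additive ↥(rootsOfUnity n k)) ∧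
    ∀ q : ℕ, 2 ≤ q → Subsingleton (EtCoh.H (↑U : Scheme.{u}) (EtCoh.mu ↑U n) q) := by
  obtain ⟨hP, hS, hI, hdim⟩ := hXb
  haveI : IsProper (Xb ↘ Spec (CommRingCat.of k)) := hP
  haveI : Smooth (Xb ↘ Spec (CommRingCat.of k)) := hS
  haveI : IsIntegral Xb := hI
  have h := Groth.CurveBridge.isRegCurve_of_smooth k Xb hdim
  have hU := Groth.ModelsGraphs.OpenCurve.generic_mem_of_finite_compl k h U hUc
  have hne : ((U : Set Xb)ᶜ).Nonempty := by
    rw [Set.nonempty_iff_ne_empty]
    intro e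
    rw [e, Nat.card_of_isEmpty] at hUr
    omega
  refine ⟨?_, fun q hq => ?_⟩
  · obtain ⟨a⟩ := Groth.ModelsGraphs.OpenCurve.nonempty_H0_mu (U : Scheme.{u}) (n := n)
    obtain ⟨b⟩ := Groth.ModelsGraphs.OpenCurve.nonempty_tor_units (k := k) h U hU n (by omega)
    exact ⟨a.trans b⟩
  · have hnU := Groth.ModelsGraphs.OpenCurve.isUnit_natCast (k := k) U hnk
    rcases Nat.lt_or_ge 2 q with hq' | hq'
    · obtain ⟨q, rfl⟩ : ∃ p, q = p + 1 := ⟨q - 1, by omega⟩
      haveI := Groth.ModelsGraphs.OpenCurve.subsingleton_H_Gm k h U hU (q := q) (by omega)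
      haveI := Groth.ModelsGraphs.OpenCurve.subsingleton_H_Gm k h U hU (q := q + 1) (by omega)
      exact Groth.ModelsGraphs.OpenCurve.subsingleton_H_mu _ hnU q
    · obtain rfl : q = 2 := by omega
      haveI := Groth.ModelsGraphs.OpenCurve.subsingleton_H_Gm k h U hU (le_refl 2)
      exact Groth.ModelsGraphs.OpenCurve.subsingleton_H2_mu _ hnU
        (Groth.ModelsGraphs.OpenCurve.card_units_pic h U hU hnk hUc hne).2

end Groth.Agent.S0663
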