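import Groth.Statements.S0671
import Groth.Agent.EtaleBase.Support
-- import your own Groth.Agent.* helpers here

set_option autoImplicit false
open CategoryTheory CategoryTheory.Limits AlgebraicGeometry Opposite
universe u
open EtCore

namespace Groth.Agent.S0671

/-- For an abelian sheaf F on the small etale site of S and a section σ over an etale S-scheme U, the
support of σ is a closed subset of U; and a point of S has a nonzero geometric stalk exactly when it
is the image of a point lying in the support of some section over some etale S-scheme. -/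
theorem result {S : Scheme.{u}} (F : EtCoh.Ab S) :
    (∀ (U : S.Etale) (σ : EtCoh.sect F U), IsClosed (EtShriek.sectSupp F U σ)) ∧
    EtPBC.supp F = ⋃ (U : S.Etale) (σ : EtCoh.sect F U), U.hom.base '' EtShriek.sectSupp F U σ := by
  refine ⟨fun U σ => ?_, ?_⟩
  · have : EtShriek.sectSupp F U σ = (Groth.EtaleBase.vanishSet F U σ)ᶜ := by
      ext x
      constructor
      · rintro hx ⟨V, g, hv, hz⟩
        exact hx V g hv hz
      · intro hx V g hv hz
        exact hx ⟨V, g, hv, hz⟩
    rw [this]
    exact (Groth.EtaleBase.isOpen_vanishSet F U σ).isClosed_compl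
  ext x
  simp only [Set.mem_iUnion, Set.mem_image]
  constructor
  · rintro ⟨Ω, _, _, ξ, hξ, hne⟩
    have hx : ξ.base default = x := by
      have : ξ.base default ∈ ({x} : Set S) := hξ ▸ ⟨default, rfl⟩
      exact this
    by_contra hcon
    push Not at hcon
    refine hne (@AddCommGrpCat.isZero_of_subsingleton _ ⟨fun a b => ?_⟩)
    have key : ∀ a : (EtCoh.stalk ξ).obj F, a = 0 := fun a => by
      obtain ⟨U, t, σ, rfl⟩ := Groth.EtaleBase.germ_surjective ξ F a
      rw [Groth.EtaleBase.germ_eq_zero_iff_mem]
      by_contra hmem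
      exact hcon U σ _ (fun V g hv hz => hmem ⟨V, g, hv, hz⟩)
        ((Groth.EtaleBase.hom_fiberPoint ξ t).trans hx)
    rw [key a, key b]
  · rintro ⟨U, σ, u, hu, rfl⟩
    obtain ⟨t, ht⟩ := Groth.EtaleBase.exists_geomPoint_lift U u
    refine ⟨_, inferInstance, inferInstance, Groth.EtaleBase.geomPoint (U.hom.base u),
      Set.eq_singleton_iff_unique_mem.2 ⟨⟨default, Groth.EtaleBase.geomPoint_apply _ _⟩,
        by rintro _ ⟨a, rfl⟩; exact Groth.EtaleBase.geomPoint_apply _ a⟩, fun h => ?_⟩
    have h0 : Groth.EtaleBase.germ (Groth.EtaleBase.geomPoint (U.hom.base u)) F U t σ = 0 :=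
      (AddCommGrpCat.subsingleton_of_isZero h).elim _ _
    obtain ⟨V, g, ⟨v, hv⟩, hz⟩ := (Groth.EtaleBase.germ_eq_zero_iff_mem _ F U σ t).1 h0
    exact hu V g ⟨v, hv.trans ht⟩ hz

end Groth.Agent.S0671
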