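import Groth.Statements.S0682
import Groth.Agent.EtaleShriek.Filtered
import Groth.Agent.EtaleShriek.Coproducts

set_option autoImplicit false
open CategoryTheory CategoryTheory.Limits AlgebraicGeometry Opposite
universe u
open EtShriek

namespace Groth.Agent.S0682

/-- For f : X -> Y separated and locally of finite type, the functor f_! on abelian etale sheaves
commutes with direct sums (coproducts indexed by any small type). -/
theorem result {X Y : Scheme.{u}} (f : X ⟶ Y) [IsSeparated f]
    [LocallyOfFiniteType f] (ι : Type u) :
    PreservesColimitsOfShape (Discrete ι) (EtShriek.lowerShriek f) := by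
  classical
  have := Groth.EtaleShriek.Filtered.preservesFilteredColimits f
  have : PreservesColimitsOfShape (Finset (Discrete ι)) (EtShriek.lowerShriek f) :=
    PreservesFilteredColimitsOfSize.preserves_filtered_colimits _
  exact Groth.EtaleShriek.Coproducts.preservesColimitsOfShape_discrete _ ι

end Groth.Agent.S0682
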