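import Groth.Statements.S0697
import Groth.Agent.EtaleDeep.IndEt.Realize
-- import your own Groth.Agent.* helpers here

set_option autoImplicit false
open CategoryTheory CategoryTheory.Limits AlgebraicGeometry Opposite Topology
universe u
open ProEtW

namespace Groth.Agent.S0697

/-- Let A be a ring, X = Spec A, T a profinite space and g : T -> pi_0(X) continuous. Then there is an
ind-Zariski A-algebra B, with Y = Spec B, and a homeomorphism e : pi_0(Y) -> T over pi_0(X) such
that Y -> X x T, y |-> (image of y, e [y]) is a topological embedding with image the fibre product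
of X and T over pi_0(X); that is, the square Y -> pi_0(Y) = T, Y -> X is cartesian in topological
spaces. -/
theorem result (A : Type u) [CommRing A] (T : Type u)
    [TopologicalSpace T] [CompactSpace T] [T2Space T] [TotallyDisconnectedSpace T]
    (g : C(T, _root_.ConnectedComponents (PrimeSpectrum A))) :
    ∃ (B : Type u) (_ : CommRing B) (_ : Algebra A B) (e : _root_.ConnectedComponents (PrimeSpectrum B) ≃ₜ T),
      EtPBC.IsIndZariski A B ∧
      (∀ y : PrimeSpectrum B,
        g (e (_root_.ConnectedComponents.mk y)) = _root_.ConnectedComponents.mk (PrimeSpectrum.comap (algebraMap A B) y)) ∧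
      Topology.IsEmbedding (fun y : PrimeSpectrum B =>
        (PrimeSpectrum.comap (algebraMap A B) y, e (_root_.ConnectedComponents.mk y))) ∧
      Set.range (fun y : PrimeSpectrum B =>
        (PrimeSpectrum.comap (algebraMap A B) y, e (_root_.ConnectedComponents.mk y))) =
        {p : PrimeSpectrum A × T | _root_.ConnectedComponents.mk p.1 = g p.2} := by
  obtain ⟨e, h, hh⟩ := Groth.EtaleDeep.IndEt.exists_realize_components g
  refine ⟨Groth.EtaleDeep.IndEt.Realize g, inferInstance, inferInstance, e,
    Groth.EtaleDeep.IndEt.isIndZariski_realize g Groth.EtaleDeep.IndEt.isIndZariski_self,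
    fun y => ?_, ?_, ?_⟩
  · have := (h y).2
    rw [(hh y).1] at this
    exact this.symm
  · have heq : (fun y => (PrimeSpectrum.comap (algebraMap A (Groth.EtaleDeep.IndEt.Realize g)) y,
        e (_root_.ConnectedComponents.mk y))) = Subtype.val ∘ h := funext fun y => (hh y).1.symm
    rw [heq]
    exact Topology.IsEmbedding.subtypeVal.comp h.isEmbedding
  · have heq : (fun y => (PrimeSpectrum.comap (algebraMap A (Groth.EtaleDeep.IndEt.Realize g)) y,
        e (_root_.ConnectedComponents.mk y))) = Subtype.val ∘ h := funext fun y => (hh y).1.symm
    rw [heq, Set.range_comp, h.surjective.range_eq, Set.image_univ, Subtype.range_coe_subtype]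

end Groth.Agent.S0697
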