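import Groth.Statements.S0702
import Groth.Agent.EtaleDeep.IndEt.ProfiniteSpec
-- import your own Groth.Agent.* helpers here

set_option autoImplicit false
open CategoryTheory CategoryTheory.Limits AlgebraicGeometry Opposite Topology
universe u
open ProEtW

namespace Groth.Agent.S0702

/-- Let Spec A be profinite and A -> B induce algebraic extensions of residue fields at all primes. Then
Spec B is profinite. -/
theorem result (A B : Type u) [CommRing A] [CommRing B]
    [Algebra A B] [T2Space (PrimeSpectrum A)] [TotallyDisconnectedSpace (PrimeSpectrum A)]
    (h : ProEtW.AlgebraicResidueExtensions A B) :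
    ProEtW.IsProfinite (PrimeSpectrum B) := by
  exact Groth.EtaleDeep.IndEt.isProfinite_of_incomparable
    (Groth.EtaleDeep.IndEt.incomparable_of_algebraicResidue h)

end Groth.Agent.S0702
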