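import Groth.Statements.S0706
-- import your own Groth.Agent.* helpers here

set_option autoImplicit false
open CategoryTheory CategoryTheory.Limits AlgebraicGeometry Opposite Topology
universe u
open ProEtW

namespace Groth.Agent.S0706

/-- Let f be an element and I an ideal of A, and Z the intersection of D(f) and V(I) in Spec A. There is
a multiplicative subset S of A for which the image of Spec(S^{-1}A) in Spec A consists precisely of
the points having a specialization in Z. -/
theorem result (A : Type u) [CommRing A] (f : A) (I : Ideal A) :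
    ∃ S : Submonoid A,
      Set.range (PrimeSpectrum.comap (algebraMap A (Localization S))) =
        {x | ∃ z : PrimeSpectrum A,
          z ∈ (PrimeSpectrum.basicOpen f : Set (PrimeSpectrum A)) ∩ PrimeSpectrum.zeroLocus I ∧ x ⤳ z} := by
  let S : Submonoid A :=
    { carrier := {a | ∃ (c : A) (k : ℕ), a * c - f ^ k ∈ I}
      one_mem' := ⟨1, 0, by simp⟩
      mul_mem' := by
        rintro a b ⟨c, k, hc⟩ ⟨d, l, hd⟩
        refine ⟨c * d, k + l, ?_⟩
        have := I.add_mem (I.mul_mem_right (b * d) hc) (I.mul_mem_left (f ^ k) hd)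
        convert this using 1
        ring }
  refine ⟨S, ?_⟩
  rw [PrimeSpectrum.localization_comap_range (Localization S) S]
  ext q
  simp only [Set.mem_ofPred_eq]
  constructor
  · intro hq
    have hd : Disjoint ((q.asIdeal ⊔ I : Ideal A) : Set A) (Submonoid.powers f : Set A) := by
      rw [Set.disjoint_left]
      rintro x hx ⟨k, rfl⟩
      obtain ⟨a, ha, i, hi, hai⟩ := Submodule.mem_sup.1 hx
      refine Set.disjoint_left.1 hq (show a ∈ S from ⟨1, k, ?_⟩) ha
      simp only at hai
      rw [← hai, mul_one, sub_add_cancel_left]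
      exact I.neg_mem hi
    obtain ⟨z, hz, hle, hzd⟩ := Ideal.exists_le_prime_disjoint _ _ hd
    refine ⟨⟨z, hz⟩, ⟨?_, ?_⟩, ?_⟩
    · exact fun h => Set.disjoint_left.1 hzd h (Submonoid.mem_powers f)
    · exact (PrimeSpectrum.mem_zeroLocus _ _).2 (SetLike.coe_subset_coe.2 (le_trans le_sup_right hle))
    · exact (PrimeSpectrum.le_iff_specializes q ⟨z, hz⟩).1 (le_trans le_sup_left hle : q.asIdeal ≤ z)
  · rintro ⟨z, ⟨hfz, hIz⟩, hqz⟩
    rw [Set.disjoint_left]
    rintro a ⟨c, k, hc⟩ ha
    have haz : a ∈ z.asIdeal := (PrimeSpectrum.le_iff_specializes q z).2 hqz ha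
    have : f ^ k ∈ z.asIdeal := by
      have h1 := (PrimeSpectrum.mem_zeroLocus _ _).1 hIz hc
      simpa using z.asIdeal.sub_mem (z.asIdeal.mul_mem_right c haz) h1
    exact hfz (z.isPrime.mem_of_pow_mem k this)

end Groth.Agent.S0706
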