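import Groth.Statements.S0714
import Groth.Agent.EtaleDeep.ProEt.Objects

set_option autoImplicit false
open CategoryTheory CategoryTheory.Limits AlgebraicGeometry Opposite
universe u
open ProEtS

namespace Groth.Agent.S0714

/-- In the small pro-étale site X_proét of a scheme X, every object U whose underlying scheme is
quasi-compact admits a covering {V → U} by a single object V which is affine and weakly
contractible. -/
theorem result {X : Scheme.{u}} (U : X.ProEt)
    [CompactSpace ↥U.left] :
    ∃ (V : X.ProEt) (g : V ⟶ U),
      Sieve.generate (Presieve.singleton g) ∈ Scheme.ProEt.topology X U ∧ IsAffine V.left ∧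
        ProEtS.IsWC V := by
  have : ∀ j, IsAffine (U.left.affineCover.finiteSubcover.X j) := fun j =>
    inferInstanceAs (IsAffine (U.left.affineCover.X _))
  obtain ⟨V, g, h1, h2⟩ :=
    Groth.EtaleDeep.ProEt.exists_wContractible_family U U.left.affineCover.finiteSubcover
  refine ⟨_, _, Groth.EtaleDeep.ProEt.sigmaDesc_mem_topology V g h1, ?_,
    Groth.EtaleDeep.ProEt.isWC_sigmaObj V fun i =>
      have := (h2 i).1
      (Groth.EtaleDeep.ProEt.isWContractible_iff_isWC (V i)).1 (h2 i).2⟩
  have : ∀ i, IsAffine (V i).left := fun i => (h2 i).1
  exact inferInstanceAs (IsAffine (∐ fun i => (V i).left))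

end Groth.Agent.S0714
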