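import Groth.Statements.S0738
import Groth.Agent.EtaleDeep.Spectral
-- import your own Groth.Agent.* helpers here

set_option autoImplicit false
open Topology
universe u
open ProEtW

namespace Groth.Agent.S0738

/-- A closed subset of a w-local spectral space is w-local (with the subspace topology). -/
theorem result (X : Type u) [TopologicalSpace X] (hX : ProEtW.IsWLocal X)
    (Y : Set X) (hY : IsClosed Y) : ProEtW.IsWLocal ↥Y := by
  obtain ⟨hsp, hcl, huniq⟩ := hX
  have := hsp
  have hval : Topology.IsClosedEmbedding (Subtype.val : Y → X) := hY.isClosedEmbedding_subtypeVal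
  have hpt : ∀ y : Y, IsClosed ({y} : Set Y) ↔ IsClosed ({(y : X)} : Set X) := fun y => by
    rw [hval.isClosed_iff_image_isClosed, Set.image_singleton]
  refine ⟨Groth.EtaleDeep.spectralSpace_subtype hY, ?_, ?_⟩
  · have : {y : Y | IsClosed ({y} : Set Y)} = Subtype.val ⁻¹' {x : X | IsClosed ({x} : Set X)} :=
      Set.ext hpt
    rw [this]
    exact hcl.preimage continuous_subtype_val
  · intro y
    obtain ⟨z, ⟨hz, hyz⟩, hzu⟩ := huniq (y : X)
    have hzY : z ∈ Y := hyz.mem_closed hY y.2
    refine ⟨⟨z, hzY⟩, ⟨(hpt _).2 hz, (subtype_specializes_iff y ⟨z, hzY⟩).2 hyz⟩, ?_⟩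
    rintro w ⟨hw, hyw⟩
    exact Subtype.ext (hzu _ ⟨(hpt _).1 hw, (subtype_specializes_iff y w).1 hyw⟩)

end Groth.Agent.S0738
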