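import Groth.Statements.S0743
-- import your own Groth.Agent.* helpers here

set_option autoImplicit false
set_option backward.isDefEq.respectTransparency.types false
open CategoryTheory CategoryTheory.Limits AlgebraicGeometry Opposite
universe u
open ProEtS

namespace Groth.Agent.S0743

/-- For an etale morphism j : U -> X and an abelian sheaf G on U_et, eps^{-1} (j_! G) and j_! (eps^{-1}
G) are isomorphic as abelian sheaves on X_proet (existence of an isomorphism; continuity binders
assumed). -/
theorem result {U X : Scheme.{u}} (j : U ⟶ X) [Etale j] [EtShriek.JCont j]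
    [ProEtS.JPCont j] [ProEtS.EpsCont U] [ProEtS.EpsCont X] (G : EtCoh.Ab U) :
    Nonempty ((ProEtS.epsPull X).obj ((EtShriek.extZero j).obj G) ≅
      (ProEtS.extZeroP j).obj ((ProEtS.epsPull U).obj G)) := by
  let adj₁ := (EtShriek.extZeroAdj j).comp (ProEtS.epsAdj X)
  let adj₂ := (ProEtS.epsAdj U).comp (ProEtS.extZeroPAdj j)
  let i : EtShriek.compEtale j ⋙ ProEtS.eps X ≅ ProEtS.eps U ⋙ ProEtS.compP j :=
    NatIso.ofComponents (fun V => MorphismProperty.Over.isoMk (Iso.refl _) (Category.id_comp _))
      (fun f => MorphismProperty.Over.Hom.ext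
        ((Category.comp_id _).trans (Category.id_comp _).symm))
  let R : ProEtS.epsPush X ⋙ EtShriek.restrAlong j ≅ ProEtS.restrP j ⋙ ProEtS.epsPush U :=
    NatIso.ofComponents (fun G => (fullyFaithfulSheafToPresheaf _ _).preimageIso
        (Functor.isoWhiskerRight (NatIso.op i.symm) G.obj))
      (fun {G G'} φ => by
        ext E x
        exact (NatTrans.naturality_apply φ.hom (i.inv.app E.unop).op x).symm)
  exact ⟨(Adjunction.leftAdjointUniq (adj₁.ofNatIsoRight R) adj₂).app G⟩

end Groth.Agent.S0743
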