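import Groth.Statements.S0745
import Groth.Agent.DescentBase.BigCart.Compare

set_option autoImplicit false
open CategoryTheory CategoryTheory.Limits AlgebraicGeometry Opposite
universe u
open EtFppf

namespace Groth.Agent.S0745

/-- For a finite morphism f : X -> Y and an abelian sheaf F on X_et, for every i the sheaves a_Y^{-1}
(R^i f_{small,*} F) and R^i f_{big,fppf,*} (a_X^{-1} F) are isomorphic (existence; continuity
binders assumed). -/
theorem result {X Y : Scheme.{u}} (f : X ⟶ Y) [IsFinite f] [EtFppf.ACont X]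
    [EtFppf.ACont Y] (F : EtCoh.Ab X) (i : ℕ) :
    Nonempty ((EtFppf.aPull Y).obj ((EtCoh.Rpush f i).obj F) ≅
      (EtFppf.RpushBig f i).obj ((EtFppf.aPull X).obj F)) := by
  rcases Nat.eq_zero_or_pos i with rfl | hi
  · obtain ⟨e⟩ := Groth.DescentBase.BigCart.nonempty_piEtPull_push_iso f F
    let e' : Groth.DescentBase.BigCart.piFppf ((EtCoh.push f).obj F) ≅
        (EtFppf.pushBig f).obj (Groth.DescentBase.BigCart.piFppf F) :=
      (Groth.DescentBase.BigCart.epsKFullyFaithful Scheme.fppfPrecoverage Y).preimageIso e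
    have : PreservesFiniteLimits (EtCoh.push f) :=
      (EtCoh.pullPushAdj f).rightAdjoint_preservesLimits.{0, 0}.preservesFiniteLimits
    have : PreservesFiniteLimits (EtFppf.pushBig f) :=
      Groth.DescentBase.BigCart.preservesFiniteLimits_pushK Scheme.fppfPrecoverage f
    exact ⟨(EtFppf.aPull Y).mapIso ((EtCoh.push f).rightDerivedZeroIsoSelf.app F) ≪≫
      Groth.DescentBase.BigCart.aPullIso _ ≪≫ e' ≪≫
        (EtFppf.pushBig f).mapIso (Groth.DescentBase.BigCart.aPullIso F).symm ≪≫
          ((EtFppf.pushBig f).rightDerivedZeroIsoSelf.app _).symm⟩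
  · have : (EtFppf.aPull Y).Additive := (EtFppf.aAdj Y).left_adjoint_additive
    have h1 : IsZero ((EtFppf.RpushBig f i).obj (Groth.DescentBase.BigCart.piFppf F)) :=
      Groth.DescentBase.BigCart.isZero_RpushK_of_pos Scheme.fppfPrecoverage f
        (Groth.DescentBase.BigCart.isCart_piK Scheme.fppfPrecoverage F) i hi
    exact ⟨((EtFppf.aPull Y).map_isZero (Groth.EtaleBase.isZero_Rpush f F i hi)).iso
      (h1.of_iso ((EtFppf.RpushBig f i).mapIso (Groth.DescentBase.BigCart.aPullIso F)))⟩

end Groth.Agent.S0745
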