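import Groth.Statements.S0747
import Groth.Agent.DescentBase.BigCart.Compare

set_option autoImplicit false
open CategoryTheory CategoryTheory.Limits AlgebraicGeometry Opposite
universe u
open EtFppf

namespace Groth.Agent.S0747

/-- For an abelian sheaf F on X_et (a complex in degree 0): the unit F -> a_* a^{-1} F is an isomorphism
and R^q a_* (a^{-1} F) = 0 for q > 0, where a compares the big fppf site with the small etale site
(continuity binder assumed). -/
theorem result (X : Scheme.{u}) [EtFppf.ACont X] (F : EtCoh.Ab X) :
    IsIso ((EtFppf.aAdj X).unit.app F) ∧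
      ∀ q : ℕ, 0 < q → IsZero ((EtFppf.RaPush X q).obj ((EtFppf.aPull X).obj F)) := by
  refine ⟨Groth.DescentBase.BigCart.isIso_aAdj_unit F, fun q hq => ?_⟩
  have h := Groth.DescentBase.BigCart.isZero_RresEt Scheme.fppfPrecoverage
    (M := Groth.DescentBase.BigCart.piK Scheme.fppfPrecoverage F)
    (Groth.DescentBase.BigCart.isCart_piK _ F) q hq
  exact h.of_iso ((EtFppf.RaPush X q).mapIso (Groth.DescentBase.BigCart.aPullIso F))

end Groth.Agent.S0747
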