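import Groth.Statements.S0748
import Groth.Agent.DescentBase.BigCart.Compare

set_option autoImplicit false
open CategoryTheory CategoryTheory.Limits AlgebraicGeometry Opposite
universe u
open EtFppf

namespace Groth.Agent.S0748

/-- For an abelian sheaf F on X_et and every q, H^q(X_et, F) and H^q_fppf(X, a^{-1} F) are isomorphic
(continuity binder assumed). -/
theorem result (X : Scheme.{u}) [EtFppf.ACont X] (F : EtCoh.Ab X) (q : ℕ) :
    Nonempty (EtCoh.H X F q ≃+ EtFppf.HF X ((EtFppf.aPull X).obj F) q) := by
  let M := (EtFppf.aPull X).obj F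
  have e := Groth.DescentBase.BigCart.aPullIso F
  have hM : Groth.DescentBase.BigCart.IsCart
      ((Groth.DescentBase.BigCart.epsK Scheme.fppfPrecoverage X).obj M) :=
    (Groth.DescentBase.BigCart.isCart_piK Scheme.fppfPrecoverage F).of_iso
      ((Groth.DescentBase.BigCart.epsK Scheme.fppfPrecoverage X).mapIso e.symm)
  obtain ⟨h⟩ := Groth.DescentBase.BigCart.nonempty_H_equiv Scheme.fppfPrecoverage hM q
  have := Groth.DescentBase.BigCart.isIso_aAdj_unit F
  exact ⟨(Groth.SiteCohomology.extIsoRight (asIso ((EtFppf.aAdj X).unit.app F)) _ q).trans h⟩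

end Groth.Agent.S0748
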