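import Groth.Prelude.Def_PBC
import Groth.Prelude.Def_EtBase
import Groth.Prelude.Def_Hensel
import Groth.Prelude.Def_DCoh2
import Mathlib.CategoryTheory.Shift.Basic
import Groth.Agent.EtPbc.LeftComplete.Etale

set_option autoImplicit false
set_option backward.isDefEq.respectTransparency.types false
open CategoryTheory CategoryTheory.Limits AlgebraicGeometry Opposite
open scoped TensorProduct
universe u
attribute [local instance] HasDerivedCategory.standard
open EtRest

namespace Groth.Agent.S0749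

/-- Let K be a separably closed field, X of finite type over K and Q an object of D(X_et) whose
cohomology sheaves have zero stalks at every geometric point lying over a non-closed point of X.
Then Q = 0 if and only if H^i(X, Q) = Hom(Z, Q[i]) vanishes for all integers i. -/
theorem result {K : Type u} [Field K] [IsSepClosed K]
    {X : Scheme.{u}} (a : X ⟶ Spec (CommRingCat.of K)) [LocallyOfFiniteType a] [QuasiCompact a]
    (Q : DCoh.DEt X)
    (hQ : ∀ (x : ↥X), ¬ IsClosed ({x} : Set ↥X) → ∀ (Ω : Type u) [Field Ω] [IsSepClosed Ω]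
      (ξ : Spec (CommRingCat.of Ω) ⟶ X), Set.range ξ.base = {x} →
        ∀ i : ℤ, IsZero ((EtCoh.stalk ξ).obj (DCoh.HDEt Q i))) :
    IsZero Q ↔ ∀ i : ℤ, Subsingleton
      ((DerivedCategory.singleFunctor (EtCoh.Ab X) 0).obj (EtCoh.const X ℤ) ⟶ (shiftFunctor (DCoh.DEt X) i).obj Q) := by
  refine ⟨fun hz i => ⟨fun f g => ((shiftFunctor (DCoh.DEt X) i).map_isZero hz).eq_of_tgt f g⟩, fun h => ?_⟩
  have hsupp : ∀ i, ∀ x ∈ EtPBC.supp (DCoh.HDEt Q i), IsClosed ({x} : Set X) := fun i x ⟨Ω, _, _, ξ, hξ, hne⟩ =>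
    by_contra fun hx => hne (hQ x hx Ω ξ hξ i)
  have hb := fun q => Groth.EtPbc.LeftComplete.bijective_hMap.{u + 1} Q (Groth.EtPbc.LeftComplete.gen (X := X))
    (fun g hg => Groth.EtPbc.LeftComplete.eq_zero_of_gen g hg)
    (fun V i => Groth.EtPbc.LeftComplete.noExt_gen a _ (hsupp i) V) (EtCoh.const X ℤ)
    (fun i n => Groth.EtPbc.PointSupp.subsingleton_H a _ (hsupp i) (n + 1) n.succ_pos) q
  have hH : ∀ i : ℤ, IsZero ((DerivedCategory.homologyFunctor (EtCoh.Ab X) i).obj Q) := fun i => by
    refine Groth.EtPbc.LeftComplete.isZero_of_hom_const_eq_zero a _ (hsupp i) fun φ => ?_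
    obtain ⟨f, rfl⟩ := (hb i).2 φ
    let e := ((DerivedCategory.singleFunctors (EtCoh.Ab X)).shiftIso i 0 i (add_zero i)).app (EtCoh.const X ℤ)
    have hf : f = 0 := by
      apply (shiftFunctor (DCoh.DEt X) i).map_injective
      rw [Functor.map_zero, ← cancel_epi e.inv]
      haveI := h i
      exact Subsingleton.elim _ _
    rw [hf, map_zero]
  have hiso : IsIso (0 : Q ⟶ Q) := by
    rw [DerivedCategory.isIso_iff]
    intro i
    exact ⟨⟨0, (hH i).eq_of_src _ _, (hH i).eq_of_src _ _⟩⟩
  exact (isIsoZeroSelfEquiv Q) hiso |> fun e => (IsZero.iff_id_eq_zero Q).2 e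

end Groth.Agent.S0749
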