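import Groth.Statements.S0777
import Groth.Agent.EtaleDeep.DC.LambdaHat
import Groth.Agent.EtaleDeep.DC.Spanning
import Groth.Agent.S0776
-- import your own Groth.Agent.* helpers here

set_option autoImplicit false
set_option backward.isDefEq.respectTransparency.types false
open CategoryTheory CategoryTheory.Limits AlgebraicGeometry Opposite
universe u
open ProEtDC Groth.EtaleDeep Groth.EtaleDeep.DC Groth.DerComplete

namespace Groth.Agent.S0777

/-- Let X be an affine scheme whose ring of functions is w-contractible (a weakly contractible affine),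
L a Noetherian ring (value universe), I an ideal generated by a_1, ..., a_r, and F a sheaf of
L-modules on X_proet which is derived complete with respect to I and such that F/IF (the cokernel of
F^r -> F, (s_k) |-> sum a_k s_k) is a locally constant sheaf of finite presentation. Then for some t
there is an epimorphism (L^)^t -> F from a finite direct sum of copies of the completed constant
sheaf. -/
theorem result (X : Scheme.{u}) [IsAffine X]
    (hX : EtPBC.IsWContractible ↥(Γ(X, ⊤))) (Λ : Type (u + 1)) [CommRing Λ] [IsNoetherianRing Λ]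
    {r : ℕ} (a : Fin r → Λ) (F : EtModW.ModP Λ X)
    (hF : ProEtDC.IsDCSheaf Λ (Ideal.span (Set.range a)) F)
    (hq : EtModW.IsFPLocConstP Λ (cokernel (ProEtDC.gensMap Λ a F))) :
    ∃ (t : ℕ) (φ : (⨁ fun _ : Fin t => ProEtDC.lambdaHat Λ X (Ideal.span (Set.range a))) ⟶ F), Epi φ := by
  classical
  let T := ProEtS.topP X
  have hT : IsAffine T.left := inferInstanceAs (IsAffine X)
  have hW : ProEtS.IsWC T := (ProEt.isWContractible_iff_isWC T).1 hX
  set I := Ideal.span (Set.range a)
  let q : F ⟶ cokernel (ProEtDC.gensMap Λ a F) := cokernel.π _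
  obtain ⟨t, f, hf⟩ := exists_global_gens hT hW _ hq
  choose s hs using fun i => surjective_of_epi Λ q hW (f i)
  choose ψ hψ using fun i => exists_hom_const F (s i)
  choose Φ hΦ using fun i => exists_extend_lambdaHat a F hF (ψ i)
  let φ : (⨁ fun _ : Fin t => ProEtDC.lambdaHat Λ X I) ⟶ F := biproduct.desc Φ
  refine ⟨t, φ, ?_⟩
  have : Epi (φ ≫ q) := by
    refine epi_of_global_gens (φ ≫ q) f hf fun i => ?_
    obtain ⟨x, hx⟩ := exists_lift_section I T (cst (ModuleCat.of Λ Λ) T (1 : Λ))
    refine ⟨((biproduct.ι (fun _ : Fin t => ProEtDC.lambdaHat Λ X I) i).hom.app (op T)).hom x, ?_⟩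
    rw [← hs i, ← hψ i, ← hΦ i T hT hW _ x hx]
    exact congrArg (q.hom.app (op T)).hom
      (ConcreteCategory.congr_hom (congrArg (fun e => e.hom.app (op T)) (biproduct.ι_desc Φ i)) x)
  let C := cokernel φ
  have hC : ProEtDC.ModGensIsZero Λ a C := by
    let g := ProEtDC.gensMap Λ a C
    have hnat : ProEtDC.gensMap Λ a F ≫ cokernel.π φ =
        biproduct.map (fun _ : Fin r => cokernel.π φ) ≫ g := by
      refine biproduct.hom_ext' _ _ fun k => ?_
      simp only [g, ProEtDC.gensMap, biproduct.ι_desc_assoc, biproduct.ι_map_assoc, biproduct.ι_desc]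
      exact Sheaf.hom_ext (NatTrans.ext (funext fun U => ModuleCat.hom_ext (LinearMap.ext fun x =>
        ((cokernel.π φ).hom.app U).hom.map_smul (a k) x)))
    have h0 : ProEtDC.gensMap Λ a F ≫ cokernel.π φ ≫ cokernel.π g = 0 := by
      rw [← Category.assoc, hnat, Category.assoc, cokernel.condition, comp_zero]
    have h1 : cokernel.desc _ (cokernel.π φ ≫ cokernel.π g) h0 = 0 := by
      rw [← cancel_epi (φ ≫ q), Category.assoc, comp_zero]
      simp [q]
    have h2 : cokernel.π φ ≫ cokernel.π g = 0 := by
      rw [← cokernel.π_desc _ _ h0, h1, comp_zero]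
    exact Abelian.epi_of_cokernel_π_eq_zero _ (Cofork.IsColimit.hom_ext (cokernelIsCokernel φ)
      (h2.trans comp_zero.symm))
  have hsrc : ProEtDC.IsDCSheaf Λ I (⨁ fun _ : Fin t => ProEtDC.lambdaHat Λ X I) := by
    have hL := Groth.Agent.S0776.result X Λ I
    rw [isDCSheaf_iff] at hL ⊢
    intro b hb V hA hWV
    have := preservesHomology_R Λ hWV
    exact (dc_congr ((R Λ V).mapBiproduct _ ≪≫ ModuleCat.biproductIsoPi _).toLinearEquiv).2
      (hL b hb V hA hWV).pi
  exact Preadditive.epi_of_isZero_cokernel φ
    (isZero_of_modGensIsZero a C (isDCSheaf_kernel_cokernel φ hsrc hF).2 hC)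

end Groth.Agent.S0777
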