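import Groth.Statements.S0782
import Groth.Agent.DescentBase.Canonical
import Groth.Agent.DescentBase.EtaleDesc

set_option autoImplicit false
open CategoryTheory CategoryTheory.Limits AlgebraicGeometry Opposite
universe u
open Desc

namespace Groth.Agent.S0782

/-- Let p : X ⟶ S be a morphism such that for every scheme U étale over S the projection X ×_S U ⟶ U is
a quotient map of topological spaces (submersive; U = S is allowed). Then for U₁, U₂ étale over S,
every morphism between their canonical descent data relative to p comes from an S-morphism U₁ ⟶ U₂:
the canonical-descent-datum functor is full on schemes étale over S (injectivity of this assignment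
is a companion statement). (Descent data are taken in functor-of-points form, equivalent by the
Yoneda lemma to the usual form of an isomorphism over X ×_S X satisfying the cocycle condition.) -/
theorem result {X S : Scheme.{u}} (p : X ⟶ S)
    (hp : ∀ U : Over S, Etale U.hom → Topology.IsQuotientMap (pullback.snd p U.hom).base) (U₁ U₂ : Over S)
    [Etale U₁.hom] [Etale U₂.hom] : Function.Surjective ((Desc.toDD p).map : (U₁ ⟶ U₂) → _) := by
  intro η
  obtain ⟨f, hf, hk⟩ := Groth.DescentBase.exists_desc_of_quotientMap p hp U₁.hom U₂.hom
    (Groth.DescentBase.component η) (Groth.DescentBase.component_comp η)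
    (Groth.DescentBase.component_compat η)
  exact ⟨Over.homMk f hf, Groth.DescentBase.map_eq_of_component η _ hk⟩

end Groth.Agent.S0782
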