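import Groth.Statements.S0784
import Groth.Agent.HensPair.ProperPart
import Groth.Agent.HensPair.ProperClopenCor
import Groth.Agent.DescentBase.DimEtale
import Groth.Agent.CohFin.ProjFinite
-- import your own Groth.Agent.* helpers here

set_option autoImplicit false
open CategoryTheory CategoryTheory.Limits AlgebraicGeometry Opposite
universe u
open Desc

namespace Groth.Agent.S0784

/-- Let (A, I) be a henselian pair and g : U ⟶ Spec A quasi-compact, separated and etale such that the
base change of U to Spec(A/I) is finite over Spec(A/I). Then U is the disjoint union of an open and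
closed subscheme finite over Spec A and an open and closed subscheme with no points lying over V(I). -/
theorem result (A : Type u) [CommRing A] (I : Ideal A) [HenselianRing A I]
    {U : Scheme.{u}} (g : U ⟶ Spec (CommRingCat.of A)) [QuasiCompact g] [IsSeparated g] [Etale g]
    (hfin : IsFinite (pullback.snd g (Spec.map (CommRingCat.ofHom (Ideal.Quotient.mk I))))) :
    ∃ W : U.Opens, IsClosed (W : Set U) ∧ IsFinite (W.ι ≫ g) ∧
      ∀ u : U, u ∉ W → ¬ I ≤ (g.base u : PrimeSpectrum A).asIdeal := by
  let m := Spec.map (CommRingCat.ofHom (Ideal.Quotient.mk I))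
  have : IsClosedImmersion m := IsClosedImmersion.spec_of_surjective _ Ideal.Quotient.mk_surjective
  let q := pullback.fst g m
  have hYp : IsProper ((⊤ : (pullback g m).Opens).ι ≫ q ≫ g) := by
    rw [show q ≫ g = pullback.snd g m ≫ m from pullback.condition]
    have : IsFinite (pullback.snd g m) := hfin
    have : IsIso (⊤ : (pullback g m).Opens).ι := ⟨inv (pullback g m).topIso.hom, by simp, by simp⟩
    infer_instance
  obtain ⟨W, hWc, hWp, hWY⟩ := Groth.HensPair.exists_proper_clopen Groth.CohFin.projFinite I g q
    (Groth.HensPair.range_pullback_fst_mk I g) ⊤ hYp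
  have : LocallyQuasiFinite g := Groth.DescentBase.locallyQuasiFinite_of_etale g
  refine ⟨W, hWc, IsFinite.of_isProper_of_locallyQuasiFinite _, fun u hu hI => hu ?_⟩
  obtain ⟨z, rfl⟩ : u ∈ Set.range q.base := by
    rw [Groth.HensPair.range_pullback_fst_mk]
    exact hI
  exact (show z ∈ q ⁻¹ᵁ W by rw [hWY]; trivial)

end Groth.Agent.S0784
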