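import Groth.Statements.S5755
import Groth.Agent.LocCohBase.DepthLocal

set_option autoImplicit false
universe u
open EGA41

namespace Groth.Agent.S5755

/-- A reduced Noetherian local ring A has depth 0 if and only if A is a field. -/
theorem result (A : Type u) [CommRing A] [IsLocalRing A]
    [IsNoetherianRing A] [IsReduced A] : LocCoh.depth A A = 0 ↔ IsField A := by
  rw [← Order.lt_one_iff, ← not_le, LocCoh.depth, Groth.LocCohBase.one_le_idealDepth_iff]
  constructor
  · intro h
    push Not at h
    obtain ⟨q, hq, hle⟩ := h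
    obtain rfl := le_antisymm hle (IsLocalRing.le_maximalIdeal hq.isPrime.ne_top)
    obtain ⟨hprime, a, ha⟩ := isAssociatedPrime_iff.mp (AssociatedPrimes.mem_iff.mp hq)
    have hm : ∀ y ∈ IsLocalRing.maximalIdeal A, a * y = 0 := fun y hy => by
      rw [ha, Submodule.mem_colon_singleton, Submodule.mem_bot, smul_eq_mul] at hy
      rw [mul_comm]; exact hy
    have hau : IsUnit a := by
      by_contra hu
      have h2 := hm a ((IsLocalRing.mem_maximalIdeal a).mpr hu)
      have h0 : a = 0 := IsReduced.eq_zero a ⟨2, by rw [pow_two]; exact h2⟩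
      exact hprime.ne_top ((Ideal.eq_top_iff_one _).mpr
        (by rw [ha, Submodule.mem_colon_singleton, h0, smul_zero]; exact zero_mem _))
    refine IsLocalRing.isField_iff_maximalIdeal_eq.mpr (eq_bot_iff.mpr fun y hy => ?_)
    exact hau.mul_right_eq_zero.mp (hm y hy)
  · intro hA hall
    obtain ⟨q, hq⟩ := associatedPrimes.nonempty A A
    exact hall q hq (by rw [IsLocalRing.isField_iff_maximalIdeal_eq.mp hA]; exact bot_le)

end Groth.Agent.S5755
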