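import Groth.Statements.S0797
import Mathlib

set_option autoImplicit false
universe u
open Formal2

namespace Groth.Agent.S0797

/-- The module-theoretic heart, over a base that is already complete (so that the completion of A is A).
Let A be Noetherian and I-adically complete, and let (M_n, f_n : M_{n+1} → M_n) be an inverse system
of finite A-modules with M_n annihilated by I^(n+1) and f_n surjective with kernel I^(n+1) M_{n+1}
(indices shifted by one). Then the A-module of compatible sequences is finitely generated, each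
projection to M_n is surjective, and its kernel is I^(n+1) times the module of compatible sequences. -/
theorem result (A : Type u) [CommRing A] [IsNoetherianRing A] (I : Ideal A)
    [IsAdicComplete I A] (M : ℕ → Type u) [∀ n, AddCommGroup (M n)] [∀ n, Module A (M n)]
    [∀ n, Module.Finite A (M n)] (f : ∀ n, M (n + 1) →ₗ[A] M n) (hf : ∀ n, Function.Surjective (f n))
    (hk : ∀ n, I ^ (n + 1) • (⊤ : Submodule A (M n)) = ⊥)
    (hker : ∀ n, LinearMap.ker (f n) = I ^ (n + 1) • (⊤ : Submodule A (M (n + 1))))
    (L : Submodule A (∀ n, M n)) (hL : ∀ x : ∀ n, M n, x ∈ L ↔ ∀ n, f n (x (n + 1)) = x n) :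
    Module.Finite A L ∧ ∀ n, Function.Surjective ((LinearMap.proj n).comp L.subtype : L →ₗ[A] M n) ∧
      LinearMap.ker ((LinearMap.proj n).comp L.subtype : L →ₗ[A] M n) = I ^ (n + 1) • (⊤ : Submodule A L) := by
  classical
  let π : ∀ n, L →ₗ[A] M n := fun n => (LinearMap.proj n).comp L.subtype
  have hπf : ∀ n (x : L), f n (π (n + 1) x) = π n x := fun n x => (hL x.1).1 x.2 n
  have hsurjπ : ∀ n, Function.Surjective (π n) := by
    intro n y
    choose s hs using hf
    let z : ∀ k, M (n + k) := fun k => Nat.rec (motive := fun k => M (n + k)) y (fun k zk => s (n + k) zk) k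
    let down : ∀ i j, i ≤ j → M j →ₗ[A] M i := fun i j h => Nat.leRecOn h
      (C := fun j => M j →ₗ[A] M i) (fun {k} g => g.comp (f k)) LinearMap.id
    have down_self : ∀ i (w : M i), down i i le_rfl w = w := fun i w => by simp [down, Nat.leRecOn_self]
    have down_succ : ∀ i j (h : i ≤ j) (w : M (j + 1)), down i (j + 1) (h.trans (Nat.le_succ j)) w = down i j h (f j w) :=
      fun i j h w => by simp [down, Nat.leRecOn_succ h]
    have f_down : ∀ i j (h : i + 1 ≤ j) (w : M j), f i (down (i + 1) j h w) = down i j ((Nat.le_succ i).trans h) w := by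
      intro i j h
      induction j, h using Nat.le_induction with
      | base => intro w; rw [down_self, down_succ i i le_rfl, down_self]
      | succ j hj ih => intro w; rw [down_succ _ j hj, down_succ i j ((Nat.le_succ i).trans hj), ih]
    let x : ∀ i, M i := fun i => down i (n + i) (Nat.le_add_left i n) (z i)
    have hx : x ∈ L := (hL x).2 fun i => by
      simp only [x]
      rw [f_down]
      change down i (n + i + 1) _ (s (n + i) (z i)) = down i (n + i) _ (z i)
      rw [down_succ i (n + i) (Nat.le_add_left i n), hs]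
    refine ⟨⟨x, hx⟩, ?_⟩
    change down n (n + n) _ (z n) = y
    have key : ∀ k (h : n ≤ n + k), down n (n + k) h (z k) = y := by
      intro k
      induction k with
      | zero => intro h; exact down_self n y
      | succ k ih =>
        intro h
        change down n (n + k + 1) _ (s (n + k) (z k)) = y
        rw [down_succ n (n + k) (Nat.le_add_right n k), hs]; exact ih _
    exact key n _
  obtain ⟨r, v, hv⟩ := Module.Finite.exists_fin (R := A) (M := M 0)
  choose lift hlift using fun i => hsurjπ 0 (v i)
  let g : (Fin r → A) →ₗ[A] L := Fintype.linearCombination A lift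
  let gn : ∀ n, (Fin r → A) →ₗ[A] M n := fun n => (π n).comp g
  have hgn : ∀ n, Function.Surjective (gn n) := by
    intro n
    induction n with
    | zero =>
      rw [← LinearMap.range_eq_top, eq_top_iff, ← hv, Submodule.span_le]
      rintro _ ⟨i, rfl⟩
      exact ⟨Pi.single i 1, by simp [gn, g, hlift]⟩
    | succ n ih =>
      set N := LinearMap.range (gn (n + 1))
      have hN : (⊤ : Submodule A (M (n + 1))) ≤ N ⊔ I • ⊤ := by
        intro y _
        obtain ⟨a, ha⟩ := ih (f n y)
        have hy : y - gn (n + 1) a ∈ LinearMap.ker (f n) := by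
          simp only [gn, LinearMap.comp_apply] at ha ⊢
          rw [LinearMap.mem_ker, map_sub, hπf, ha, sub_self]
        rw [hker] at hy
        exact Submodule.mem_sup.2 ⟨_, ⟨a, rfl⟩, _, Submodule.smul_mono_left (Ideal.pow_le_self (Nat.succ_ne_zero n)) hy,
          add_sub_cancel _ _⟩
      have hk' : ∀ k, (⊤ : Submodule A (M (n + 1))) ≤ N ⊔ I ^ k • ⊤ := by
        intro k
        induction k with
        | zero => simp
        | succ k ihk =>
          refine hN.trans (sup_le le_sup_left ((Submodule.smul_mono le_rfl ihk).trans ?_))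
          rw [Submodule.smul_sup, ← Submodule.mul_smul, ← pow_succ']
          exact sup_le_sup Submodule.smul_le_right le_rfl
      have := hk' (n + 1 + 1)
      rw [hk (n + 1), sup_bot_eq, top_le_iff] at this
      exact LinearMap.range_eq_top.1 this
  have hmem : ∀ n (J : Ideal A) (y : M n), y ∈ J • (⊤ : Submodule A (M n)) → ∃ d, (∀ i, d i ∈ J) ∧ gn n d = y := by
    intro n J y hy
    rw [← LinearMap.range_eq_top.2 (hgn n), LinearMap.range_eq_map, ← (Pi.basisFun A (Fin r)).span_eq,
      Submodule.map_span, ← Set.range_comp] at hy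
    obtain ⟨a, ha, rfl⟩ := (Submodule.mem_ideal_smul_span_iff_exists_sum _ _ _).1 hy
    refine ⟨fun i => a i, ha, ?_⟩
    rw [Finsupp.sum_fintype _ _ (by simp)]
    conv_lhs => rw [pi_eq_sum_univ' (fun i => a i), map_sum]
    simp [Pi.single_smul]
  have hgJ : ∀ (J : Ideal A) (a : Fin r → A), (∀ i, a i ∈ J) → g a ∈ J • (⊤ : Submodule A L) := by
    intro J a ha
    simp only [g, Fintype.linearCombination_apply]
    exact Submodule.sum_mem _ fun i _ => Submodule.smul_mem_smul (ha i) trivial
  have hπJ : ∀ n (z : L), z ∈ I ^ (n + 1) • (⊤ : Submodule A L) → π n z = 0 := by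
    intro n z hz
    have : π n z ∈ (I ^ (n + 1) • (⊤ : Submodule A L)).map (π n) := ⟨z, hz, rfl⟩
    rw [Submodule.map_smul''] at this
    have := (Submodule.smul_mono le_rfl le_top : I ^ (n + 1) • Submodule.map (π n) ⊤ ≤ I ^ (n + 1) • ⊤) this
    rwa [hk, Submodule.mem_bot] at this
  have main : ∀ (x : L) (m : ℕ) (a₀ : Fin r → A), gn m a₀ = π m x →
      ∃ a, (∀ i, a i - a₀ i ∈ I ^ (m + 1)) ∧ g a = x := by
    intro x m a₀ h₀
    have step : ∀ k (a : Fin r → A), gn k a = π k x →
        ∃ d, (∀ i, d i ∈ I ^ (k + 1)) ∧ gn (k + 1) (a + d) = π (k + 1) x := by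
      intro k a ha
      have : π (k + 1) x - gn (k + 1) a ∈ LinearMap.ker (f k) := by
        simp only [gn, LinearMap.comp_apply] at ha ⊢
        rw [LinearMap.mem_ker, map_sub, hπf, hπf, ha, sub_self]
      rw [hker] at this
      obtain ⟨d, hd, hdy⟩ := hmem _ _ _ this
      exact ⟨d, hd, by rw [map_add, hdy, add_sub_cancel]⟩
    choose d hd hd' using step
    let b : ∀ k, {a : Fin r → A // gn (m + k) a = π (m + k) x} := fun k =>
      Nat.rec (motive := fun k => {a : Fin r → A // gn (m + k) a = π (m + k) x}) ⟨a₀, h₀⟩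
        (fun k bk => ⟨bk.1 + d (m + k) bk.1 bk.2, hd' _ _ _⟩) k
    have hb : ∀ i k l, k ≤ l → (b l).1 i - (b k).1 i ∈ I ^ (m + k + 1) := by
      intro i k l hkl
      induction l, hkl using Nat.le_induction with
      | base => simp
      | succ l hl ih =>
        change (b l).1 i + d (m + l) (b l).1 (b l).2 i - (b k).1 i ∈ _
        rw [add_sub_right_comm]
        exact Ideal.add_mem _ ih (Ideal.pow_le_pow_right (by omega) (hd _ _ _ i))
    have hlim : ∀ i, ∃ a : A, ∀ k, a - (b k).1 i ∈ I ^ (m + k + 1) := by
      intro i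
      obtain ⟨a, ha⟩ := IsPrecomplete.prec (I := I) inferInstance (f := fun k => (b k).1 i) (fun {k l} hkl => by
        rw [SModEq.comm, SModEq.sub_mem, smul_eq_mul, Ideal.mul_top]
        exact Ideal.pow_le_pow_right (by omega) (hb i k l hkl))
      refine ⟨a, fun k => ?_⟩
      have h1 := ha (m + k + 1)
      rw [SModEq.comm, SModEq.sub_mem, smul_eq_mul, Ideal.mul_top] at h1
      have h2 := Ideal.add_mem _ h1 (hb i k (m + k + 1) (by omega))
      rwa [sub_add_sub_cancel] at h2
    choose a ha using hlim
    refine ⟨a, fun i => ha i 0, Subtype.ext (funext fun n => ?_)⟩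
    have hn : ∀ k, π (m + k) (g a) = π (m + k) x := fun k => by
      rw [← (b k).2, ← sub_eq_zero]
      simp only [gn, LinearMap.comp_apply, ← map_sub]
      exact hπJ _ _ (hgJ _ _ fun i => ha i k)
    have down : ∀ j, n ≤ j → π j (g a) = π j x → π n (g a) = π n x := by
      intro j hj
      induction j, hj using Nat.le_induction with
      | base => exact id
      | succ j _ ih => exact fun e => ih (by rw [← hπf j, ← hπf j, e])
    exact down _ (Nat.le_add_left n m) (hn n)
  refine ⟨Module.Finite.of_surjective g fun x => ?_, fun n => ⟨hsurjπ n, ?_⟩⟩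
  · obtain ⟨a₀, ha₀⟩ := hgn 0 (π 0 x)
    obtain ⟨a, -, ha⟩ := main x 0 a₀ ha₀
    exact ⟨a, ha⟩
  · refine le_antisymm (fun x hx => ?_) (fun x hx => hπJ n x hx)
    obtain ⟨a, ha, rfl⟩ := main x n 0 (by rw [map_zero]; exact (LinearMap.mem_ker.1 hx).symm)
    exact hgJ _ _ fun i => by simpa using ha i

end Groth.Agent.S0797
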