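import Groth.Statements.S0798
import Mathlib
import Groth.Agent.CohC3.ProperOverBasic
import Groth.Agent.CohC3.ExistenceProper
import Groth.Agent.CohC3.ProperSupport

set_option autoImplicit false
universe u
open Formal

namespace Groth.Agent.S0798

open CategoryTheory AlgebraicGeometry Opposite in
/-- Grothendieck's existence Theorem with proper supports, full faithfulness half. Let A be a Noetherian
ring complete with respect to an ideal I, and X a scheme separated and of finite type over Spec A.
For coherent O_X-modules M and N whose supports are proper over Spec A, every morphism between the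
inverse systems (M/I^(n+1)M)_{n ≥ 0} and (N/I^(n+1)N)_{n ≥ 0} is induced by exactly one morphism M ⟶
N. -/
theorem result (A : Type u) [CommRing A] [IsNoetherianRing A]
    (I : Ideal A) [IsAdicComplete I A] (X : Scheme.{u}) [X.Over (Spec (CommRingCat.of A))]
    [IsSeparated (X ↘ Spec (CommRingCat.of A))] [LocallyOfFiniteType (X ↘ Spec (CommRingCat.of A))]
    [QuasiCompact (X ↘ Spec (CommRingCat.of A))] (M N : X.Modules) (hM : Coh.IsCoh M) (hN : Coh.IsCoh N)
    (hMs : ClSub.IsProperOver (X ↘ Spec (CommRingCat.of A)) (CohB1.support M))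
    (hNs : ClSub.IsProperOver (X ↘ Spec (CommRingCat.of A)) (CohB1.support N))
    (ψ : Formal.completion I M ⟶ Formal.completion I N) :
    ∃! φ : M ⟶ N, ∀ n : ℕ, Formal.modPowπ I (n + 1) M ≫ ψ.app (op n) = φ ≫ Formal.modPowπ I (n + 1) N := by
  have := Groth.CohC3.isNoetherian_of_finiteType A X
  exact Groth.CohC3.existsUnique_hom I hM hN (fun q => Groth.CohC3.hFin_of_properSupport Groth.CohFin.projFinite _
    (Groth.CohC3.isProperOver_mono hMs (Set.inter_subset_left : CohB1.support M ∩ CohB1.support N ⊆ _)
      ((Groth.CohC3.isClosed_support_of_isCoh M hM).inter (Groth.CohC3.isClosed_support_of_isCoh N hN)))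
    (Groth.RefRank.isCoh_homSh hM hN)
    (Groth.CohC3.support_homSh_subset (Groth.CohC3.isClosed_support_of_isCoh M hM)
      (Groth.CohC3.isClosed_support_of_isCoh N hN)) q) ψ

end Groth.Agent.S0798
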