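import Groth.Statements.S0800
import Groth.Agent.FlatMor2.ColimCoh.Space
import Groth.Agent.SiteCohomology.RpushColimit

set_option autoImplicit false
universe u
open Coherent

set_option linter.style.haveILetI false
namespace Groth.Agent.S0800

open CategoryTheory CategoryTheory.Limits AlgebraicGeometry in
/-- Let f : X → S be quasi-compact and quasi-separated. Then for every p the higher direct image functor
R^p f_* on abelian sheaves (on the underlying spaces) preserves filtered colimits. -/
theorem result {X S : Scheme.{u}} (f : X ⟶ S) [QuasiCompact f]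
    [QuasiSeparated f] (p : ℕ) (J : Type u) [SmallCategory J] [IsFiltered J] :
    PreservesColimitsOfShape J (Coh.RpushAb f p) := ⟨fun {F} => by
    haveI : PrespectralSpace X.toTopCat := inferInstanceAs (PrespectralSpace X)
    refine Groth.SiteCohomology.preservesColimit_Rpush (Opens.grothendieckTopology S)
      (Opens.grothendieckTopology X) (TopologicalSpace.Opens.map f.base) F p fun V => ?_
    refine ⟨{W : S.Opens // IsAffineOpen W ∧ W ≤ V}, fun W => W.1, fun W => homOfLE W.2.2,
      fun x hx => ?_, fun W => ?_⟩
    · obtain ⟨W, hW, hxW, hWV⟩ := TopologicalSpace.Opens.isBasis_iff_nbhd.1 S.isBasis_affineOpens hx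
      exact ⟨W, homOfLE hWV, Sieve.ofArrows_mk _ (fun W : {W : S.Opens // IsAffineOpen W ∧ W ≤ V} =>
        homOfLE W.2.2) ⟨W, hW, hWV⟩, hxW⟩
    · exact Groth.FlatMor2.ColimCoh.preservesColimit_HU_space X.toTopCat _
        (QuasiCompact.isCompact_preimage (f := f) _ W.1.2 W.2.1.isCompact)
        (f.isQuasiSeparated_preimage W.2.1.isQuasiSeparated) p F⟩

end Groth.Agent.S0800
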