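import Groth.Statements.S0807
import Groth.Agent.LocCohTransform.FormalHigher
import Groth.Agent.LocCohTransform.FormalSectionsApply

set_option autoImplicit false
universe u
open CategoryTheory
attribute [local instance] HasDerivedCategory.standard
open Formal2

namespace Groth.Agent.S0807

open AlgebraicGeometry in
/-- Algebraization of formal sections on the punctured spectrum. Let (A, 𝔪) be a Noetherian local ring
with a dualizing complex, complete with respect to an ideal I, let d be a natural number with cd(A,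
I) ≤ d, let M be a finite A-module, s a natural number, and U the punctured spectrum of A. Assume
that for every prime 𝔭 not containing I for which some non-maximal prime contains 𝔭 + I, either
depth M_𝔭 ≥ s or depth M_𝔭 + dim A/𝔭 > d + s. Then there is an open V₀ ⊆ U containing U ∩ V(I) such
that for every open V ⊆ V₀ containing U ∩ V(I) and every i < s the canonical map H^i(V, M̃) → lim_n
H^i(V, (M/IⁿM)̃) is bijective (injective, and every compatible family of classes comes from a class
on M̃). The published statement is for a general coherent module on U (here it is the one attached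
to a finite A-module M), carries a finiteness addendum not asserted here, and writes the limit with
cohomology over U rather than V; the terms agree since the quotient sheaves are supported in U ∩
V(I) ⊆ V. -/
theorem result (A : Type u) [CommRing A] [IsNoetherianRing A]
    [IsLocalRing A] (I : Ideal A) [IsAdicComplete I A] (hω : ∃ ω : Dual.D A, Dual.IsDualizing A ω)
    (d : ℕ) (hd : LocCoh.CdLE A I d) (M : Type u) [AddCommGroup M] [Module A M] [Module.Finite A M]
    (s : ℕ)
    (h₂ : ∀ (p : Ideal A) [p.IsPrime], ¬ I ≤ p →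
      (∃ r : Ideal A, r.IsPrime ∧ p ≤ r ∧ I ≤ r ∧ r ≠ IsLocalRing.maximalIdeal A) →
        (s : ℕ∞) ≤ LocCoh.depth (Localization.AtPrime p) (LocalizedModule p.primeCompl M) ∨
          ((d + s : ℕ) : WithBot ℕ∞) <
            ((LocCoh.depth (Localization.AtPrime p) (LocalizedModule p.primeCompl M) : ℕ∞) : WithBot ℕ∞) +
              ringKrullDim (A ⧸ p)) :
    ∃ V₀ : (Spec (CommRingCat.of A)).Opens,
      Formal2.Admissible A I (LocCoh.puncturedOpen A (IsLocalRing.maximalIdeal A)) V₀ ∧
      ∀ V : (Spec (CommRingCat.of A)).Opens,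
        Formal2.Admissible A I (LocCoh.puncturedOpen A (IsLocalRing.maximalIdeal A)) V → V ≤ V₀ →
          ∀ i : ℕ, i < s → Formal2.FormalCohBijective A I M i V := by
  obtain ⟨ω, hω⟩ := hω
  haveI := Groth.DAlg.DCompletion.hasDerivedCompletion I (IsNoetherian.noetherian I)
  let m := IsLocalRing.maximalIdeal A
  let cl : PrimeSpectrum A := IsLocalRing.closedPoint A
  have hC : Groth.LocCohTransform.DualKillColimit.Cond4 M I m s d := by
    intro p hI hT q hpq hq _
    simp only [not_forall, exists_prop] at hT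
    obtain ⟨r, hpr, hIr, hr⟩ := hT
    have hqm : q = cl := PrimeSpectrum.ext
      ((IsLocalRing.maximalIdeal.isMaximal A).eq_of_le q.2.ne_top hq).symm
    subst hqm
    rw [Groth.LocCohTransform.AlgebraizeApply.dimBetween_closedPoint hω p]
    exact h₂ p.asIdeal hI ⟨r.asIdeal, r.2, hpr, hIr, fun e => hr e.ge⟩
  obtain ⟨J₀, hJ₀, hV₀, hbij⟩ :=
    Groth.LocCohTransform.AlgebraizeApply.exists_algebraization I m M hω s d hd hC
  refine ⟨LocCoh.puncturedOpen A J₀, ⟨fun p hp hmem => ?_, fun p hp hIp hmem => ?_⟩, fun V hV hle i hi => ?_⟩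
  · exact hp (hJ₀.trans (IsLocalRing.maximalIdeal.isMaximal A |>.eq_of_le p.2.ne_top hmem).le)
  · exact hp ((Set.ext_iff.1 hV₀ p).1 ⟨hmem, hIp⟩).1
  let J : Ideal A := PrimeSpectrum.vanishingIdeal ((V.carrier)ᶜ) ⊓ J₀
  have hmemJ : ∀ p : PrimeSpectrum A, J ≤ p.asIdeal ↔ p ∉ V := by
    intro p
    have h1 : PrimeSpectrum.vanishingIdeal ((V.carrier)ᶜ) ≤ p.asIdeal ↔ p ∉ V := by
      change p ∈ PrimeSpectrum.zeroLocus
        (PrimeSpectrum.vanishingIdeal ((V.carrier)ᶜ) : Set A) ↔ _
      rw [PrimeSpectrum.zeroLocus_vanishingIdeal_eq_closure]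
      exact iff_of_eq (congrArg (p ∈ ·) (V.2.isClosed_compl.closure_eq))
    refine ⟨fun h hp => ?_, fun h => inf_le_left.trans (h1.2 h)⟩
    rcases p.2.inf_le.1 h with h' | h'
    · exact h1.1 h' hp
    · exact hle hp h'
  obtain ⟨gens, hgens⟩ := IsNoetherian.noetherian J
  have hfs : Ideal.span {x | x ∈ gens.toList} = J := by
    rw [← hgens]; simp only [Finset.mem_toList]; rfl
  have hU : LocCoh.puncturedOpen A (Ideal.span {x | x ∈ gens.toList}) = V := by
    rw [hfs]
    ext p
    exact not_iff_comm.1 (hmemJ p).symm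
  have hJm : J ≤ m := inf_le_right.trans hJ₀
  have hVI : ∀ p : PrimeSpectrum A, I ≤ p.asIdeal → (J ≤ p.asIdeal ↔ m ≤ p.asIdeal) := by
    refine fun p hIp => ⟨fun h => ?_, fun h => hJm.trans h⟩
    by_contra hm
    exact (hmemJ p).1 h (hV.2 p hm hIp)
  have hrad : m ≤ (I ⊔ J).radical := by
    rw [Ideal.radical_eq_sInf]
    refine le_sInf fun q ⟨hq, hqp⟩ => ?_
    exact (hVI ⟨q, hqp⟩ (le_sup_left.trans hq)).1 (le_sup_right.trans hq)
  haveI := Groth.LocCohTransform.DualVanishing.hasRgammaI (Ideal.span {x : A | x ∈ gens.toList})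
  have hb := hbij (Ideal.span {x : A | x ∈ gens.toList}) (by rw [hfs]; exact inf_le_right) (by
    rw [hfs]
    ext p
    simp only [Set.mem_inter_iff, PrimeSpectrum.mem_zeroLocus, SetLike.coe_subset_coe]
    exact ⟨fun h => ⟨(hVI p h.2).1 h.1, h.2⟩, fun h => ⟨(hVI p h.2).2 h.1, h.2⟩⟩)
  rw [← hU]
  cases i with
  | zero =>
    exact Groth.LocCohTransform.FormalHigher.formalCohBijective_zero I M _
      fun j hj => hb j (by omega)
  | succ p =>
    exact Groth.LocCohTransform.FormalHigher.formalCohBijective_succ I M _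
      (by rw [hfs]; exact hJm) (by rw [hfs]; exact hrad) p (hb _ (by omega))

end Groth.Agent.S0807
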