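import Groth.Statements.S0810
import Groth.Agent.ParaLift82.CIInduction

set_option autoImplicit false
universe u
open Formal2

namespace Groth.Agent.S0810

open CategoryTheory AlgebraicGeometry in
/-- Let A be a Noetherian local ring which is a complete intersection (its completion is a regular local
ring modulo a regular sequence) of dimension at least 4. Then every invertible module on the
punctured spectrum of A is trivial. -/
theorem result (A : Type u) [CommRing A] [IsNoetherianRing A]
    [IsLocalRing A] (hci : Pi1.IsCompleteIntersection A) (hdim : (4 : WithBot ℕ∞) ≤ ringKrullDim A) :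
    Formal2.PicTrivial (↑(FEt.puncturedSpec A) : Scheme.{u}) := by
  let C := AdicCompletion (IsLocalRing.maximalIdeal A) A
  have : IsNoetherianRing C :=
    Groth.Calg1.isNoetherianRing_adicCompletion _ (IsNoetherian.noetherian (IsLocalRing.maximalIdeal A))
  have hloc : IsLocalHom (algebraMap A C) := by
    refine ((IsLocalRing.local_hom_TFAE (algebraMap A C)).out 3 0).mp fun x hx => ?_
    rw [Ideal.mem_comap, AdicCompletion.maximalIdeal_eq_map]
    exact Ideal.mem_map_of_mem _ hx
  obtain ⟨k, hk⟩ := Groth.ParaLift82.exists_ciPres C hci
  have hC := Groth.ParaLift82.isParafactorial_of_ciPres k C hk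
    (hdim.trans (Groth.Calg1.ringKrullDim_adicCompletion A).ge)
  have hA : ParaF.IsParafactorialLocalRing A := by
    refine Groth.Agent.S2865.result A C ?_ hC
    rw [← AdicCompletion.maximalIdeal_eq_map]
    exact ringKrullDim_eq_zero_of_isField
      ((Ideal.Quotient.maximal_ideal_iff_isField_quotient _).1 (IsLocalRing.maximalIdeal.isMaximal C))
  exact ((Groth.Agent.S2824.result A).1 hA).2

end Groth.Agent.S0810
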