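import Groth.Statements.S0812
import Groth.Agent.LocCohTransform.FormalLine
import Groth.Agent.LocCohTransform.LocalPicExtend

set_option autoImplicit false
universe u
open Formal2

namespace Groth.Agent.S0812

open CategoryTheory AlgebraicGeometry in
/-- Let (A, 𝔪) be a Noetherian local ring and f ∈ 𝔪 a nonzerodivisor such that A is f-adically complete,
the local cohomology modules H^i_𝔪(A/fA) for i = 1, 2 are finitely generated over A, and H^3_𝔪(A/fA)
vanishes. Assume moreover that for every prime 𝔮 not containing f and maximal with this property,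
the punctured spectrum of A_𝔮 has trivial Picard group. Then every invertible module on the
punctured spectrum of A/fA is the pullback of an invertible module on the punctured spectrum of A. -/
theorem result (A : Type u) [CommRing A] [IsNoetherianRing A] [IsLocalRing A]
    (f : A) (hf : f ∈ IsLocalRing.maximalIdeal A) [IsAdicComplete (Ideal.span {f}) A]
    (hnzd : f ∈ nonZeroDivisors A)
    (h₁ : Module.Finite A (LocCoh.H (IsLocalRing.maximalIdeal A) 1 (A ⧸ Ideal.span {f})))
    (h₂ : Module.Finite A (LocCoh.H (IsLocalRing.maximalIdeal A) 2 (A ⧸ Ideal.span {f})))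
    (h₃ : Subsingleton (LocCoh.H (IsLocalRing.maximalIdeal A) 3 (A ⧸ Ideal.span {f})))
    (h₅ : ∀ (q : Ideal A) [q.IsPrime], f ∉ q → (∀ (q' : Ideal A), q'.IsPrime → q ≤ q' → f ∉ q' → q' = q) →
      Formal2.PicTrivial (↑(FEt.puncturedSpec (Localization.AtPrime q)) : Scheme.{u})) :
    Formal2.PicPullbackSurjective (Formal2.specQuotMap A f ∣_ FEt.puncturedSpec A) := by
  have hU : FEt.puncturedSpec A = LocCoh.puncturedOpen A (IsLocalRing.maximalIdeal A) := by
    ext x
    refine not_congr ⟨fun h => ?_, fun h => ?_⟩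
    · rw [show x = IsLocalRing.closedPoint A from h]
      exact le_refl (IsLocalRing.maximalIdeal A)
    · exact PrimeSpectrum.ext ((IsLocalRing.maximalIdeal.isMaximal A).eq_of_le x.2.ne_top h).symm
  intro L₀ hL₀
  have key : ∀ (L₀ : (↑(Formal2.specQuotMap A f ⁻¹ᵁ FEt.puncturedSpec A) : Scheme.{u}).Modules),
      PicF.IsInvertible L₀ →
      ∃ (U' : (Spec (CommRingCat.of A)).Opens) (_ : U' ≤ FEt.puncturedSpec A)
        (h : Formal2.specQuotMap A f ⁻¹ᵁ FEt.puncturedSpec A ≤ Formal2.specQuotMap A f ⁻¹ᵁ U')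
        (L : (↑U' : Scheme.{u}).Modules), PicF.IsInvertible L ∧
          Nonempty ((Scheme.Modules.pullback ((Formal2.specQuotMap A f).resLE U' _ h)).obj L ≅ L₀) := by
    rw [hU]
    exact fun L₀ hL₀ =>
      Groth.LocCohTransform.FormalLine.exists_extension _ f hnzd h₁ h₂ h₃ L₀ hL₀
  obtain ⟨U', hU', h, L, hL, ⟨e⟩⟩ := key L₀ hL₀
  obtain ⟨L', hL', ⟨e'⟩⟩ :=
    Groth.LocCohTransform.LocalPicExtend.exists_extension f hf h₅ U' h L hL
  exact ⟨L', hL', ⟨e' ≪≫ e⟩⟩

end Groth.Agent.S0812
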