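import Groth.Statements.S0813
import Groth.Agent.VarietyBC.FFSections
import Groth.Agent.Pi1Depth.Basic
import Groth.Agent.PicAux.QCoh
import Groth.Agent.Calg4.FlatDepth
import Groth.Agent.Calg1.CompletionLocal
-- import your own Groth.Agent.* helpers here

set_option autoImplicit false
universe u
open Formal2

namespace Groth.Agent.S0813

open CategoryTheory AlgebraicGeometry

open Groth.PicAux in
/-- The generating locus of an inverse image of a section. -/
theorem mem_gloc_pullSec_iff {X Y : Scheme.{u}} (g : X ⟶ Y) {L : Y.Modules} (hL : PicF.IsInvertible L)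
    (s : Γ(L, (⊤ : Y.Opens))) (y : X) :
    y ∈ Groth.PropsBasic.Ample.gloc (show Γ((Scheme.Modules.pullback g).obj L, (⊤ : X.Opens)) from pullSec g L s) ↔
      g y ∈ Groth.PropsBasic.Ample.gloc s := by
  obtain ⟨U, e, hxU, he⟩ := (isInvertible_iff_exists_gen L).1 hL (g y)
  obtain ⟨c, hc⟩ := he.exists_coeff le_rfl (res L le_top s)
  rw [res_self] at hc
  have hc' : res _ (le_top : g ⁻¹ᵁ U ≤ ⊤) (show Γ((Scheme.Modules.pullback g).obj L, (⊤ : X.Opens)) from pullSec g L s) =
      g.app U c • pullSec g L e := by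
    refine (res_pullSec g L (le_top : U ≤ ⊤) s).trans ?_
    rw [hc, pullSec_smul]
  have h1 := Groth.PropsBasic.Ample.gloc_inf_eq_basicOpen he hc
  have h2 := Groth.PropsBasic.Ample.gloc_inf_eq_basicOpen (Gen.pull g he) hc'
  constructor
  · intro h
    have : y ∈ X.basicOpen (g.app U c) := h2.le ⟨h, hxU⟩
    rw [← Scheme.preimage_basicOpen] at this
    exact (h1.ge this).1
  · intro h
    have : g y ∈ Y.basicOpen c := h1.le ⟨h, hxU⟩
    refine (h2.ge (x := y) ?_).1
    rw [← Scheme.preimage_basicOpen]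
    exact this

open CategoryTheory AlgebraicGeometry in
/-- Let (A, 𝔪) be a Noetherian local ring of depth at least 2, A^ its 𝔪-adic completion, U the punctured
spectrum of A and U^ its preimage in Spec A^ (the punctured spectrum of A^). Then an invertible
O_U-module whose pullback to U^ is trivial is trivial. -/
theorem result (A : Type u) [CommRing A] [IsNoetherianRing A]
    [IsLocalRing A] (hdepth : (2 : ℕ∞) ≤ LocCoh.depth A A) :
    Formal2.PicPullbackInjective
      (Spec.map (CommRingCat.ofHom (algebraMap A (AdicCompletion (IsLocalRing.maximalIdeal A) A))) ∣_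
        FEt.puncturedSpec A) := by
  intro L hL hiso
  obtain ⟨φ⟩ := hiso
  let C := AdicCompletion (IsLocalRing.maximalIdeal A) A
  have : IsNoetherianRing C :=
    Groth.Calg1.isNoetherianRing_adicCompletion _ (IsNoetherian.noetherian (IsLocalRing.maximalIdeal A))
  let π := Spec.map (CommRingCat.ofHom (algebraMap A C))
  let U := FEt.puncturedSpec A
  let g : (π ⁻¹ᵁ U).toScheme ⟶ U.toScheme := π ∣_ U
  have hdC : (2 : ℕ∞) ≤ LocCoh.depth C C := hdepth.trans Groth.Calg4.le_depth_of_flat
  have hpre : π ⁻¹ᵁ U = FEt.puncturedSpec C := by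
    ext q
    show PrimeSpectrum.comap (algebraMap A C) q ≠ IsLocalRing.closedPoint A ↔ q ≠ IsLocalRing.closedPoint C
    refine not_congr ⟨fun h => ?_, fun h => h ▸ IsLocalRing.comap_closedPoint (algebraMap A C)⟩
    refine PrimeSpectrum.ext ((IsLocalRing.le_maximalIdeal q.2.ne_top).antisymm ?_)
    have hq : q.asIdeal.comap (algebraMap A C) = IsLocalRing.maximalIdeal A := congrArg PrimeSpectrum.asIdeal h
    change IsLocalRing.maximalIdeal C ≤ q.asIdeal
    rw [AdicCompletion.maximalIdeal_eq_map, Ideal.map_le_iff_le_comap, hq]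
  have : IsLocalRing Γ((π ⁻¹ᵁ U).toScheme, ⊤) := by
    rw [hpre]
    have hb := Groth.Pi1Depth.bijective_app_puncturedSpec C hdC ⊤
    have := (Scheme.ΓSpecIso (CommRingCat.of C)).commRingCatIsoToRingEquiv.symm.isLocalRing
    exact (RingEquiv.ofBijective ((FEt.puncturedSpec C).ι.app ⊤).hom hb).isLocalRing
  have : QuasiCompact U.ι := inferInstance
  have : Module.FaithfullyFlat A C := Module.FaithfullyFlat.of_flat_of_isLocalHom
  obtain ⟨hflat, hsurj⟩ : Flat π ∧ Surjective π :=
    (flat_and_surjective_SpecMap_iff _).2 ((RingHom.faithfullyFlat_algebraMap_iff).2 inferInstance)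
  have : L.IsQuasicoherent := Groth.PicAux.isQCoh_of_isInvertible hL
  let e : Γ((Scheme.Modules.pullback g).obj L, ⊤) := φ.inv.app ⊤ (Groth.PicAux.oneSec _ ⊤)
  have he : Groth.PicAux.Gen ((Scheme.Modules.pullback g).obj L) ⊤ e :=
    (Groth.PicAux.gen_oneSec ⊤).map φ.inv
  have key := Groth.VarietyBC.FFSections.mem_span_pullSec (isPullback_morphismRestrict π U) L e
  obtain ⟨s, hs⟩ : ∃ s : Γ(L, (⊤ : U.toScheme.Opens)),
      Groth.PropsBasic.Ample.gloc (Groth.VarietyBC.FFSections.pullTop g L s) = ⊤ := by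
    by_contra hcon
    push Not at hcon
    have hle : Submodule.span _ (Set.range (Groth.VarietyBC.FFSections.pullTop g L)) ≤
        Submodule.map (LinearMap.toSpanSingleton Γ((π ⁻¹ᵁ U).toScheme, ⊤) _ e)
          (IsLocalRing.maximalIdeal Γ((π ⁻¹ᵁ U).toScheme, ⊤)) := by
      rw [Submodule.span_le]
      rintro _ ⟨s, rfl⟩
      obtain ⟨c, hc⟩ := he.exists_coeff le_rfl (Groth.VarietyBC.FFSections.pullTop g L s)
      rw [Groth.PicAux.res_self] at hc
      refine ⟨c, fun hu => hcon s (top_le_iff.mp (Groth.PropsBasic.Ample.le_gloc ?_)), hc.symm⟩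
      rw [Groth.PicAux.res_self, hc]
      exact he.smul_unit hu
    obtain ⟨c, hc, hce⟩ := hle key
    have : c = 1 := he.smul_inj le_rfl (r' := 1) (by
      rw [Groth.PicAux.res_self, one_smul]; exact hce)
    exact (IsLocalRing.maximalIdeal.isMaximal _).ne_top ((Ideal.eq_top_iff_one _).mpr (this ▸ hc))
  have hgen : Groth.PicAux.Gen L ⊤ s := by
    have h := Groth.PropsBasic.Ample.gen_gloc s (V := ⊤) fun x _ => by
      have : Surjective g := MorphismProperty.of_isPullback (P := @Surjective) (isPullback_morphismRestrict π U).flip hsurj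
      obtain ⟨y, rfl⟩ := g.surjective x
      exact (mem_gloc_pullSec_iff g hL s y).1 (hs.ge (Set.mem_univ y))
    rwa [Groth.PicAux.res_self] at h
  have : IsIso (Groth.PicAux.homOfSection s) :=
    (Groth.PicAux.isIso_hom_structure_iff _).2 (by simpa using hgen)
  exact ⟨(asIso (Groth.PicAux.homOfSection s)).symm⟩

end Groth.Agent.S0813
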