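import Groth.Statements.S0816
import Groth.Agent.CohExtHom.Deligne
import Groth.Agent.RefRank.BigOpen

set_option autoImplicit false
universe u
open Coherent

namespace Groth.Agent.S0816

open CategoryTheory AlgebraicGeometry in
/-- Let X be locally Noetherian, F and G coherent O_X-modules, U ⊆ X open and φ : F|_U → G|_U a map of
O_U-modules. Then there are a coherent submodule F' ⊆ F whose inclusion is an isomorphism over U and
a map φ' : F' → G whose restriction to U is φ (composed with that isomorphism). -/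
theorem result (X : Scheme.{u}) [IsLocallyNoetherian X] (F G : X.Modules)
    (hF : Coh.IsCoh F) (hG : Coh.IsCoh G) (U : X.Opens)
    (φ : (Scheme.Modules.restrictFunctor U.ι).obj F ⟶ (Scheme.Modules.restrictFunctor U.ι).obj G) :
    ∃ (F' : X.Modules) (ι : F' ⟶ F) (φ' : F' ⟶ G), Mono ι ∧ Coh.IsCoh F' ∧
      IsIso ((Scheme.Modules.restrictFunctor U.ι).map ι) ∧
      (Scheme.Modules.restrictFunctor U.ι).map φ' = (Scheme.Modules.restrictFunctor U.ι).map ι ≫ φ := by
  open Groth.QCohMod Groth.CohExtHom Limits in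
  classical
  have : F.IsQuasicoherent := hF.1
  have : G.IsQuasicoherent := hG.1
  have : ((Scheme.Modules.restrictFunctor U.ι).obj F).IsQuasicoherent := inferInstanceAs
    ((F.restrict U.ι).IsQuasicoherent)
  let E := F ⊞ G
  have : E.IsQuasicoherent := isQCoh_biprod F G
  have hE := isCoh_biprod hF hG
  let R := Scheme.Modules.restrictFunctor U.ι
  let i : R.obj F ⟶ R.obj E := R.map biprod.inl + φ ≫ R.map biprod.inr
  have hfst : i ≫ R.map (biprod.fst : E ⟶ F) = 𝟙 _ := by
    simp only [i, Preadditive.add_comp, Category.assoc, ← R.map_comp, biprod.inl_fst,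
      biprod.inr_fst, R.map_id]
    simp [R]
  have hsnd : i ≫ R.map (biprod.snd : E ⟶ G) = φ := by
    simp only [i, Preadditive.add_comp, Category.assoc, ← R.map_comp, biprod.inl_snd,
      biprod.inr_snd, R.map_id]
    simp [R]
  have : Mono i := mono_of_mono_fac hfst
  have hi : ∀ B g, (R.map (biprod.fst : E ⟶ F)).app B (i.app B g) = g := fun B g =>
    congr(($hfst).app B g)
  have hFT : CohB1.IsFT (R.obj F) := (Groth.RefRank.isCoh_restrict hF U).2
  have hinj₀ : InjOn (biprod.fst : E ⟶ F) (imgSub i) U := by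
    intro Y hY s hs h0
    obtain ⟨B, rfl⟩ : ∃ B : (U : Scheme.{u}).Opens, U.ι ''ᵁ B = Y :=
      ⟨U.ι ⁻¹ᵁ Y, by rw [Scheme.Hom.image_preimage_eq_opensRange_inf]; simpa using hY⟩
    obtain ⟨g, rfl⟩ := (mem_imgSub_image i s).mp hs
    have : g = 0 := (hi B g).symm.trans h0
    rw [this, map_zero]
    rfl
  obtain ⟨P, hagree, hgood, hinj⟩ := exists_injective_extension (ψ := (biprod.fst : E ⟶ F))
    hE.2 (imgSub_goodOn i hFT) hinj₀
  obtain ⟨hq, hft⟩ := SubMod.isQCoh_toMod hgood
  let ι' : P.toMod ⟶ F := P.ι ≫ biprod.fst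
  have hι : ∀ W, Function.Injective (ι'.app W) := fun W => by
    refine (injective_iff_map_eq_zero _).mpr fun s hs => P.ι_app_injective W ?_
    rw [map_zero]
    exact hinj W le_top _ (P.ι_app_mem s) hs
  have hmem : ∀ (B : (U : Scheme.{u}).Opens) (t : Γ(P.toMod, U.ι ''ᵁ B)),
      ∃ g, ofRestr E U B (i.app B g) = P.ι.app _ t := fun B t =>
    (mem_imgSub_image i _).mp (hagree _ (U.ι_image_le B) ▸ P.ι_app_mem t)
  refine ⟨P.toMod, ι', P.ι ≫ biprod.snd, (Groth.CohTwo.mono_iff_app_injective ι').mpr hι,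
    ⟨hq, hft⟩, Scheme.Modules.Hom.isIso_iff_isIso_app.mpr fun B => ?_, ?_⟩
  · rw [ConcreteCategory.isIso_iff_bijective]
    refine ⟨hι _, fun g => ?_⟩
    obtain ⟨t, ht⟩ := P.exists_ι_app_eq (ofRestr E U B (i.app B g))
      (hagree _ (U.ι_image_le B) ▸ (mem_imgSub_image i _).mpr ⟨g, rfl⟩)
    refine ⟨t, ?_⟩
    change (biprod.fst : E ⟶ F).app (U.ι ''ᵁ B) (P.ι.app _ t) = g
    rw [ht]
    exact hi B g
  · apply Scheme.Modules.hom_ext
    intro B
    ext t
    obtain ⟨g, hg⟩ := hmem B t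
    change (biprod.snd : E ⟶ G).app (U.ι ''ᵁ B) (P.ι.app _ t) =
      φ.app B ((biprod.fst : E ⟶ F).app (U.ι ''ᵁ B) (P.ι.app _ t))
    rw [← hg]
    exact congr(($hsnd).app B g).trans (congrArg (φ.app B) (hi B g).symm)

end Groth.Agent.S0816
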