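import Groth.Statements.S0818
import Groth.Agent.CohDev.Steps

set_option autoImplicit false
universe u
open Coherent

namespace Groth.Agent.S0818

open CategoryTheory AlgebraicGeometry in
/-- Let X be a nonempty Noetherian scheme and P an isomorphism-invariant property of O_X-modules such
that (1) in every short exact sequence of coherent O_X-modules, if two of the three terms satisfy P
then so does the third, and (2) for every integral scheme Z and closed immersion i : Z → X, with ξ
the generic point of Z, there is a coherent O_X-module G satisfying P whose support is exactly i(Z)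
and whose stalk at i(ξ) is isomorphic, as a module over the local ring O_{X,i(ξ)}, to the residue
field of that local ring. Then every coherent O_X-module satisfies P. (The published statement
leaves the nonemptiness of X implicit; it is needed to handle the zero module and is assumed
explicitly here.) -/
theorem result (X : Scheme.{u}) [IsNoetherian X] [Nonempty X]
    (P : X.Modules → Prop) (hP : ∀ M N : X.Modules, Nonempty (M ≅ N) → P M → P N)
    (h₁ : ∀ S : ShortComplex X.Modules, S.ShortExact → Coh.IsCoh S.X₁ → Coh.IsCoh S.X₂ → Coh.IsCoh S.X₃ →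
      (P S.X₁ → P S.X₂ → P S.X₃) ∧ (P S.X₁ → P S.X₃ → P S.X₂) ∧ (P S.X₂ → P S.X₃ → P S.X₁))
    (h₂ : ∀ (Z : Scheme.{u}) (i : Z ⟶ X) [IsClosedImmersion i] [IsIntegral Z],
      ∃ G : X.Modules, Coh.IsCoh G ∧ CohB1.support G = Set.range ⇑i ∧
        Nonempty (↑(G.presheaf.stalk (i (genericPoint Z))) ≃ₗ[X.presheaf.stalk (i (genericPoint Z))]
          IsLocalRing.ResidueField (X.presheaf.stalk (i (genericPoint Z)))) ∧ P G)
    (M : X.Modules) (hM : Coh.IsCoh M) : P M := by
  have hstep : ∀ (Y : TopologicalSpace.Closeds X) (ξ : X), (Y : Set X) = closure {ξ} →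
      ∃ G : X.Modules, Coh.IsCoh G ∧ CohB1.support G = (Y : Set X) ∧
        Nonempty (↑(G.presheaf.stalk ξ) ≃ₗ[X.presheaf.stalk ξ]
          IsLocalRing.ResidueField (X.presheaf.stalk ξ)) ∧ P G := by
    intro Y ξ hY
    have := Groth.CohTwo.isIntegral_closure_subscheme hY
    let J := Scheme.IdealSheafData.vanishingIdeal Y
    have hr : Set.range ⇑J.subschemeι = (Y : Set X) :=
      J.range_subschemeι.trans (Scheme.IdealSheafData.coe_support_vanishingIdeal Y)
    have hgen : J.subschemeι (genericPoint J.subscheme) = ξ := by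
      refine IsGenericPoint.eq (S := (Y : Set X)) ?_ hY.symm
      have h := (genericPoint_spec J.subscheme).image J.subschemeι.continuous
      rw [Set.image_univ, hr] at h
      exact h.trans Y.isClosed.closure_eq
    obtain ⟨G, hG, hs, e, hp⟩ := h₂ J.subscheme J.subschemeι
    exact ⟨G, hG, hs.trans hr, hgen ▸ e, hp⟩
  have h0 : ∀ M : X.Modules, Limits.IsZero M → P M := by
    intro M hM
    obtain ⟨x⟩ := (inferInstance : Nonempty X)
    obtain ⟨G, hG, -, -, hPG⟩ := hstep ⟨closure {x}, isClosed_closure⟩ x rfl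
    have := hG.1
    have hC := Groth.QCohMod.isCoh_cokernel (𝟙 G) hG
    have hz : Limits.IsZero (Limits.cokernel (𝟙 G)) := Limits.isZero_cokernel_of_epi _
    have hS : (ShortComplex.mk (0 : Limits.cokernel (𝟙 G) ⟶ G) (𝟙 G) Limits.zero_comp).ShortExact :=
      ShortComplex.Splitting.shortExact
        { r := 0
          s := 𝟙 G
          f_r := hz.eq_of_src _ _
          s_g := Category.id_comp _
          id := by simp }
    exact hP _ _ ⟨hz.iso hM⟩ ((h₁ _ hS hC hG hG).2.2 hPG hPG)
  have hext : ∀ S : ShortComplex X.Modules, S.ShortExact → Coh.IsCoh S.X₁ → Coh.IsCoh S.X₂ →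
      Coh.IsCoh S.X₃ → P S.X₁ → P S.X₃ → P S.X₂ := fun S hS a b c => (h₁ S hS a b c).2.1
  refine Groth.CohTwo.coh_induction P hP h0 hext Set.univ ?_ isClosed_univ M hM (Set.subset_univ _)
  intro Y ξ hY _ F hF hkill hsmall
  have := hF.1
  have hFY : CohB1.support F ⊆ (Y : Set X) := hkill.support_subset.trans (by simp)
  have hFk := fun a ha m => hkill.stalk_maximalIdeal hY a ha m
  obtain ⟨G, hG, hGs, ⟨eG⟩, hPG⟩ := hstep Y ξ hY
  have : Nontrivial ↑(G.presheaf.stalk ξ) := eG.toEquiv.nontrivial
  refine Groth.CohDev.step_cyclic P h0 (Y := (Y : Set X)) hext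
    (fun S hS a b c _ q2 q3 => (h₁ S hS a b c).2.2 q2 q3) hsmall hG hPG hGs.le
    ⟨eG.symm (IsLocalRing.residue _ 1), fun x => ?_⟩ ?_ hF hFY hFk
  · obtain ⟨a, ha⟩ := IsLocalRing.residue_surjective (eG x)
    refine ⟨a, eG.injective ?_⟩
    rw [map_smul, LinearEquiv.apply_symm_apply, ← ha, Algebra.smul_def, map_one, mul_one]
    rfl
  · intro a ha m
    apply eG.injective
    rw [map_smul, map_zero, Algebra.smul_def]
    exact mul_eq_zero_of_left ((IsLocalRing.residue_eq_zero_iff a).2 ha) _

end Groth.Agent.S0818
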