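import Groth.Statements.S0819
import Groth.Agent.CohDev.Steps
-- import your own Groth.Agent.* helpers here

set_option autoImplicit false
universe u
open Coherent

open CategoryTheory.Limits
namespace Groth.Agent.S0819

open CategoryTheory AlgebraicGeometry in
/-- Let X be a Noetherian scheme, Z₀ ⊆ X an irreducible closed subset with generic point ξ, and P an
isomorphism-invariant property of O_X-modules such that: (1) in every short exact sequence of
coherent modules supported in Z₀, P for two of the terms implies P for the third; (2) P holds for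
i_* I whenever i : Z → X is an integral closed subscheme with i(Z) a proper subset of Z₀ and I ⊆ O_Z
is a quasi-coherent ideal sheaf; (3) there is a coherent G with support exactly Z₀, stalk at ξ
isomorphic to the residue field over the local ring, and P(G). Then P holds for every coherent
module whose support is contained in Z₀. -/
theorem result (X : Scheme.{u}) [IsNoetherian X]
    (Z₀ : Set X) (hZ₀ : IsClosed Z₀) (hirr : IsIrreducible Z₀) (ξ : X) (hξ : ξ ∈ Z₀ ∧ closure {ξ} = Z₀)
    (P : X.Modules → Prop) (hP : ∀ M N : X.Modules, Nonempty (M ≅ N) → P M → P N)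
    (h₁ : ∀ S : ShortComplex X.Modules, S.ShortExact → Coh.IsCoh S.X₁ → Coh.IsCoh S.X₂ → Coh.IsCoh S.X₃ →
      CohB1.support S.X₂ ⊆ Z₀ →
      (P S.X₁ → P S.X₂ → P S.X₃) ∧ (P S.X₁ → P S.X₃ → P S.X₂) ∧ (P S.X₂ → P S.X₃ → P S.X₁))
    (h₂ : ∀ (Z : Scheme.{u}) (i : Z ⟶ X), IsClosedImmersion i → IsIntegral Z →
      Set.range ⇑i ⊆ Z₀ → Set.range ⇑i ≠ Z₀ →
      ∀ (I : Z.Modules) (ι : I ⟶ Coh.structureModule Z), Mono ι → Coh.IsQCoh I →
        P ((Coh.push i).obj I))
    (h₃ : ∃ G : X.Modules, Coh.IsCoh G ∧ CohB1.support G = Z₀ ∧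
      Nonempty (↑(G.presheaf.stalk ξ) ≃ₗ[X.presheaf.stalk ξ] IsLocalRing.ResidueField (X.presheaf.stalk ξ)) ∧ P G)
    (M : X.Modules) (hM : Coh.IsCoh M) (hsupp : CohB1.support M ⊆ Z₀) : P M := by
  obtain ⟨hξZ, hcl⟩ := hξ
  let Q : X.Modules → Prop := fun M => CohB1.support M ⊆ Z₀ → P M
  obtain ⟨G, hG, hGs, ⟨eG⟩, hPG⟩ := h₃
  have h0 : ∀ M : X.Modules, IsZero M → P M := by
    intro M hM
    haveI := hG.1
    have hC := Groth.QCohMod.isCoh_cokernel (𝟙 G) hG
    have hz : IsZero (cokernel (𝟙 G)) := Limits.isZero_cokernel_of_epi _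
    have hS : (ShortComplex.mk (0 : cokernel (𝟙 G) ⟶ G) (𝟙 G) Limits.zero_comp).ShortExact :=
      ShortComplex.Splitting.shortExact
        { r := 0
          s := 𝟙 G
          f_r := hz.eq_of_src _ _
          s_g := Category.id_comp _
          id := by simp }
    exact hP _ _ ⟨hz.iso hM⟩ ((h₁ _ hS hC hG hG hGs.le).2.2 hPG hPG)
  have hext : ∀ S : ShortComplex X.Modules, S.ShortExact → Coh.IsCoh S.X₁ → Coh.IsCoh S.X₂ →
      Coh.IsCoh S.X₃ → Q S.X₁ → Q S.X₃ → Q S.X₂ := fun S hS a b c q1 q3 h => by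
    haveI := hS.mono_f
    haveI := hS.epi_g
    exact (h₁ S hS a b c h).2.1 (q1 ((Groth.CohTwo.support_subset_of_mono S.f).trans h))
      (q3 ((Groth.CohTwo.support_subset_of_epi S.g).trans h))
  refine Groth.CohTwo.coh_induction Q (fun A B e h hB => hP A B e (h ?_)) (fun A hA _ => h0 A hA) hext
    Z₀ ?_ hZ₀ M hM hsupp hsupp
  · obtain ⟨e⟩ := e
    exact (Groth.CohTwo.support_subset_of_mono e.hom).trans hB
  intro Y ξ' hY hYZ F hF hkill hsmall
  haveI := hF.1
  have hFY : CohB1.support F ⊆ (Y : Set X) := hkill.support_subset.trans (by simp)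
  have hFk := fun a ha m => hkill.stalk_maximalIdeal hY a ha m
  by_cases hYeq : (Y : Set X) = Z₀
  · have e : closure ({ξ'} : Set X) = closure {ξ} := hY.symm.trans (hYeq.trans hcl.symm)
    obtain rfl : ξ' = ξ := IsGenericPoint.eq (S := closure ({ξ'} : Set X)) rfl e.symm
    haveI : Nontrivial ↑(G.presheaf.stalk ξ') := eG.toEquiv.nontrivial
    refine Groth.CohDev.step_cyclic Q (fun A hA _ => h0 A hA) (Y := (Y : Set X)) hext ?_ hsmall hG
      (fun _ => hPG) (hGs.le.trans hYeq.ge) ⟨eG.symm (IsLocalRing.residue _ 1), fun x => ?_⟩ ?_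
      hF hFY hFk
    · intro S hS a b c hsY q2 q3 hsupp1
      haveI := hS.epi_g
      have h2 : CohB1.support S.X₂ ⊆ Z₀ := hsY.trans hYeq.le
      exact (h₁ S hS a b c h2).2.2 (q2 h2)
        (q3 ((Groth.CohTwo.support_subset_of_epi S.g).trans h2))
    · obtain ⟨a, ha⟩ := IsLocalRing.residue_surjective (eG x)
      refine ⟨a, eG.injective ?_⟩
      rw [map_smul, LinearEquiv.apply_symm_apply, ← ha, Algebra.smul_def, map_one, mul_one]
      rfl
    · intro a ha m
      apply eG.injective
      rw [map_smul, map_zero, Algebra.smul_def]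
      exact mul_eq_zero_of_left ((IsLocalRing.residue_eq_zero_iff a).2 ha) _
  · refine Groth.CohDev.step_ideals Q (fun A B e h hB => hP A B e (h ?_)) (fun A hA _ => h0 A hA) hext hY
      (fun Z i hi hZ hr I ι hι hI _ => h₂ Z i hi hZ (hr.trans_subset hYZ)
        (fun h => hYeq (hr.symm.trans h)) I ι hι hI) hsmall hF hFY hFk
    obtain ⟨e⟩ := e
    exact (Groth.CohTwo.support_subset_of_mono e.hom).trans hB

end Groth.Agent.S0819
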