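import Groth.Statements.S0820
import Groth.Agent.CohDev.PushUnit
import Groth.Agent.CohDev.Steps
-- import your own Groth.Agent.* helpers here

set_option autoImplicit false
universe u
open Coherent

namespace Groth.Agent.S0820

open CategoryTheory AlgebraicGeometry in
/-- Let f : Y → X be finite and surjective with X locally Noetherian, and let i : Z → X be a closed
immersion from an integral scheme, ξ the image of the generic point of Z. Then some coherent
O_Y-module F has f_* F supported exactly on i(Z), with the stalk of f_* F at ξ killed by every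
element of 𝔪_{X,ξ}, the maximal ideal of O_{X,ξ}. -/
theorem result {Y X : Scheme.{u}} (f : Y ⟶ X) [IsFinite f]
    [Surjective f] [IsLocallyNoetherian X] (Z : Scheme.{u}) (i : Z ⟶ X) [IsClosedImmersion i] [IsIntegral Z] :
    ∃ F : Y.Modules, Coh.IsCoh F ∧ CohB1.support ((Coh.push f).obj F) = Set.range ⇑i ∧
      ∀ a ∈ IsLocalRing.maximalIdeal (X.presheaf.stalk (i (genericPoint Z))),
        ∀ m : ↑(((Coh.push f).obj F).presheaf.stalk (i (genericPoint Z))), a • m = 0 := by
  haveI : IsLocallyNoetherian Y := LocallyOfFiniteType.isLocallyNoetherian f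
  let ξ := i (genericPoint Z)
  obtain ⟨y, hy⟩ := f.surjective ξ
  let C : TopologicalSpace.Closeds Y := ⟨closure {y}, isClosed_closure⟩
  haveI := Groth.CohTwo.isIntegral_closure_subscheme (Y := C) (ξ := y) rfl
  let j := (Scheme.IdealSheafData.vanishingIdeal C).subschemeι
  haveI : IsLocallyNoetherian (Scheme.IdealSheafData.vanishingIdeal C).subscheme :=
    LocallyOfFiniteType.isLocallyNoetherian j
  have hO : Coh.IsCoh (Coh.structureModule (Scheme.IdealSheafData.vanishingIdeal C).subscheme) :=
    Groth.QCohMod.isCoh_unit
  let F := (Scheme.Modules.pushforward j).obj (Coh.structureModule (Scheme.IdealSheafData.vanishingIdeal C).subscheme)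
  let G := (Scheme.Modules.pushforward (j ≫ f)).obj
    (Coh.structureModule (Scheme.IdealSheafData.vanishingIdeal C).subscheme)
  let e : (Coh.push f).obj F ≅ G := (Scheme.Modules.pushforwardComp j f).app _
  have hG : Coh.IsCoh G := Groth.Cycles.isCoh_push_of_isFinite (j ≫ f) hO
  haveI := hG.1
  have hrj : Set.range j = closure {y} := Groth.PropsBasic2.range_vanishingIdeal_subschemeι C
  have hri : Set.range i = closure {ξ} := by
    have h := (genericPoint_spec ↥Z).image i.continuous
    rw [Set.image_univ, i.isClosedEmbedding.isClosed_range.closure_eq] at h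
    exact h.def.symm
  have hrh : Set.range (j ≫ f) = Set.range i := by
    rw [Scheme.Hom.comp_base, TopCat.coe_comp, Set.range_comp, hrj, hri]
    refine Set.Subset.antisymm ?_ ?_
    · exact (image_closure_subset_closure_image f.continuous).trans (by rw [Set.image_singleton, hy])
    · rw [← hy, ← Set.image_singleton]
      exact (f.isClosedMap _ isClosed_closure).closure_subset_iff.2 (Set.image_mono subset_closure)
  let C' : TopologicalSpace.Closeds X := ⟨Set.range i, i.isClosedEmbedding.isClosed_range⟩
  have hk := Groth.CohDev.killed_push_of_isReduced (j ≫ f) (Y := C') hrh.le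
  refine ⟨F, Groth.CohTwo.isCoh_push j hO, Set.Subset.antisymm ?_ ?_, fun a ha m => ?_⟩
  · refine (Groth.CohTwo.support_subset_of_mono e.hom).trans (hk.support_subset.trans ?_)
    exact (Scheme.IdealSheafData.coe_support_vanishingIdeal C').le
  · refine subset_trans ?_ (Groth.CohTwo.support_subset_of_mono e.inv)
    rw [hri, (Groth.CohTwo.isClosed_support G hG).closure_subset_iff, Set.singleton_subset_iff]
    obtain ⟨w, hw⟩ := hrj.ge (subset_closure rfl : y ∈ closure {y})
    refine not_subsingleton_iff_nontrivial.2 ?_
    rw [show ξ = (j ≫ f) w by rw [Scheme.Hom.comp_apply, hw, hy]]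
    exact Groth.CohDev.nontrivial_stalk_push_unit (j ≫ f) w
  · have hbij : Function.Bijective (Groth.CohTwo.stalkLin e.hom (i (genericPoint Z))) :=
      ConcreteCategory.bijective_of_isIso ((Groth.CohTwo.stalkAb X (i (genericPoint Z))).map e.hom)
    refine hbij.1 ?_
    rw [map_smul, map_zero]
    exact hk.stalk_maximalIdeal (Y := C') hri a ha _

end Groth.Agent.S0820
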