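import Groth.Statements.S0824
import Groth.Agent.Ega2Proj.SpansFinite
import Groth.Agent.CohFin.AcycEmb
import Groth.Agent.CohBase.MayerVietoris
import Groth.Agent.LocFree.SES
import Groth.Agent.LocFree.Tensor
import Groth.Agent.DerivedCoh.PCoh.TensorPerfect
import Groth.Agent.PropsBasic.AmpleSep

set_option autoImplicit false
universe u
open Coherent

namespace Groth.Agent.S0824

section Aux

open AlgebraicGeometry CategoryTheory CategoryTheory.Limits TopologicalSpace Opposite
open Groth.CohBase Groth.CohFin Groth.PicAux Groth.PropsBasic.Ample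

variable {X : Scheme.{u}}

/-- `v ↦ e (v ⊗ s)`. -/
noncomputable def mulInto {P M : X.Modules} (e : CohB1.tensorMod P M ≅ Coh.structureModule X)
    (s : Γ(M, ⊤)) : P ⟶ Coh.structureModule X :=
  ⟨PresheafOfModules.homMk
    { app := fun U => AddCommGrpCat.ofHom (AddMonoidHom.mk'
        (fun v : Γ(P, U.unop) => e.hom.app U.unop (tmulSec v (Groth.PicAux.res M le_top s)))
        fun v w => (congrArg _ (tmulSec_add_left v w _)).trans (map_add _ _ _))
      naturality := fun U V g => AddCommGrpCat.ext fun (v : Γ(P, U.unop)) => by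
        change e.hom.app V.unop (tmulSec (Groth.PicAux.res P g.unop.le v)
            (Groth.PicAux.res M le_top s)) =
          Groth.PicAux.res _ g.unop.le
            (e.hom.app U.unop (tmulSec v (Groth.PicAux.res M le_top s)))
        rw [← app_res, res_tmulSec, Groth.PicAux.res_res] }
    fun U (r : Γ(X, U.unop)) (v : Γ(P, U.unop)) => by
      change e.hom.app U.unop (tmulSec (r • v) (Groth.PicAux.res M le_top s)) =
        r • e.hom.app U.unop (tmulSec v (Groth.PicAux.res M le_top s))
      rw [tmulSec_smul_left, Scheme.Modules.Hom.app_smul]⟩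

lemma mulInto_app {P M : X.Modules} (e : CohB1.tensorMod P M ≅ Coh.structureModule X)
    (s : Γ(M, ⊤)) (U : X.Opens) (v : Γ(P, U)) :
    (mulInto e s).app U v = e.hom.app U (tmulSec v (Groth.PicAux.res M le_top s)) := rfl

lemma comp_eq_zero_imp {P M Z : X.Modules} (e : CohB1.tensorMod P M ≅ Coh.structureModule X)
    (hP : PicF.IsInvertible P) (s : Γ(M, ⊤)) (g : Coh.structureModule X ⟶ Z)
    (h : mulInto e s ≫ g = 0) {x : X} (hx : x ∈ gloc s) {W : X.Opens} (hxW : x ∈ W)
    (r : Γ(Coh.structureModule X, W)) :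
    ∃ (V : X.Opens) (hle : V ≤ W), x ∈ V ∧ g.app V (Groth.PicAux.res _ hle r) = 0 := by
  obtain ⟨U, v, -, hxU, hv, -⟩ := PropsBasic.Ample.exists_gen_cover hP
  let V := W ⊓ (gloc s ⊓ U x)
  have hgen : Gen (CohB1.tensorMod P M) V (tmulSec (Groth.PicAux.res P
      (inf_le_right.trans inf_le_right : V ≤ U x) (v x)) (Groth.PicAux.res M le_top s)) :=
    ((hv x).res _).tensor (gen_gloc s (inf_le_right.trans inf_le_left))
  obtain ⟨c, hc⟩ := (hgen.map e.hom).exists_coeff le_rfl
    (Groth.PicAux.res _ (inf_le_left : V ≤ W) r)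
  rw [Groth.PicAux.res_self] at hc
  refine ⟨V, inf_le_left, ⟨hxW, hx, hxU x⟩, ?_⟩
  have h0 : g.app V ((mulInto e s).app V
      (Groth.PicAux.res P (inf_le_right.trans inf_le_right : V ≤ U x) (v x))) = 0 :=
    ConcreteCategory.congr_hom (congrArg (fun γ => Scheme.Modules.Hom.app γ V) h) _
  rw [hc, Scheme.Modules.Hom.app_smul]
  exact (congrArg (c • ·) h0).trans (smul_zero c)

lemma isFinLocFree_of_isInvertible {M : X.Modules} (h : PicF.IsInvertible M) :
    FlatMod.IsFinLocFree M :=
  LocFree.isFinLocFree_of_rank (LocFree.isInvertible_iff_ofRank_one.1 h)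

variable {L L' : X.Modules} (hL : CohB1.IsAmple L) (hinv : ClSub.IsInverseOf L L') (n₀ : ℕ)
  (h : ∀ n : ℕ, n₀ ≤ n → ∀ p : ℕ, 0 < p → Subsingleton (Coh.HH X (CohB1.tensorPow L' n) p))

lemma subsingleton_of_iso {M N : X.Modules} (e : M ≅ N) (n : ℕ)
    (hM : Subsingleton (Coh.HH X M n)) : Subsingleton (Coh.HH X N n) :=
  subsingleton_of_forall_eq 0 fun y => by
    refine ((mapL_id X.toSpecΓ N n y).symm.trans ?_)
    rw [← e.inv_hom_id, mapL_comp]
    have : mapL X.toSpecΓ e.inv n y = 0 := @Subsingleton.elim _ hM _ _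
    rw [this, map_zero]
    rfl

include hL hinv h in
/-- Finite locally free modules are acyclic. -/
lemma subsingleton_HH_of_finLocFree (M : X.Modules) (hM : FlatMod.IsFinLocFree M) (p : ℕ) :
    Subsingleton (Coh.HH X M (p + 1)) := by
  classical
  have := hL.2.1
  have := isSeparated_of_cover hL.1 hL.2.2
  have hL' := isInvertible_of_isInverseOf hL.1 hinv
  obtain ⟨d, hd⟩ := exists_hVanish_of_isCompact (X := X) ⊤ isCompact_univ
  suffices ∀ j p : ℕ, d ≤ p + 1 + j → ∀ M : X.Modules, FlatMod.IsFinLocFree M →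
      Subsingleton (Coh.HH X M (p + 1)) from this d p (by omega) M hM
  intro j
  induction j with
  | zero =>
    intro p hp M hM
    exact (subsingleton_H_iff _ _).2 (hd M (KTheory.LocFree.isQCoh hM) (p + 1) (by omega))
  | succ j ih =>
    intro p hp M hM
    have := KTheory.LocFree.isQCoh hM
    have hFT := (KTheory.LocFree.isCoh hM).2
    obtain ⟨N, hN⟩ := Ega2Proj.exists_spans_twist hL M hFT
    let n := max N n₀
    have hLn := isInvertible_tensorPow hL.1 n
    have hPn := isInvertible_tensorPow hL' n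
    let P := CohB1.tensorPow L' n
    have := KTheory.LocFree.isQCoh (isFinLocFree_of_isInvertible hLn)
    have : (CohB1.tensorMod M (CohB1.tensorPow L n)).IsQuasicoherent :=
      Groth.QCohMod.isQCoh_tensorMod
    obtain ⟨k, q, hq⟩ := Ega2Proj.exists_epi_freeMod_of_spans
      (CohB1.tensorMod M (CohB1.tensorPow L n))
      (Groth.QCohMod.isFT_tensorMod hFT (Ega2Proj.isFT_of_isInvertible hLn)) (hN n (le_max_left _ _))
    haveI : (DCoh.tensorRightMod P).IsEquivalence := isEquivalence_tensorRightMod_of_isInvertible hPn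
    let F := DCoh.tensorRightMod P
    let tgt : F.obj (CohB1.tensorMod M (CohB1.tensorPow L n)) ≅ M :=
      (exists_associator M _ P).choose ≪≫
        PicGrp.tensorModIso (Iso.refl M) (isInverseOf_tensorPow hinv n).some ≪≫ SecTwist.unitorR M
    let π := F.map q ≫ tgt.hom
    haveI : Epi π := by
      have := Functor.map_epi F q
      exact epi_comp _ _
    let S := ShortComplex.mk (kernel.ι π) π (kernel.condition π)
    have hS : S.ShortExact :=
      { exact := ShortComplex.exact_of_f_is_kernel _ (kernelIsKernel π) }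
    have hmid : FlatMod.IsFinLocFree (F.obj (FlatMod.freeMod X k)) :=
      LocFree.isFinLocFree_tensorMod (LocFree.isFinLocFree_freeMod X k)
        (isFinLocFree_of_isInvertible hPn)
    have hK := LocFree.isFinLocFree_left hS hmid hM
    have hKv : Subsingleton (Coh.HH X S.X₁ (p + 1 + 1)) := ih (p + 1) (by omega) _ hK
    -- the middle term
    obtain ⟨lu, -⟩ := exists_leftUnitor P
    let C : Fin k → X.Modules := fun _ => Coh.structureModule X
    let pr : ∀ i, (∐ C) ⟶ C i := fun i =>
      Sigma.desc fun l => if hl : l = i then eqToHom (congrArg C hl) else 0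
    have hpr : ∀ l i, Sigma.ι C l ≫ pr i = if hl : l = i then eqToHom (congrArg C hl) else 0 :=
      fun l i => Sigma.ι_desc _ _
    have htot : ∑ i, pr i ≫ Sigma.ι C i = 𝟙 (∐ C) := by
      refine Sigma.hom_ext _ _ fun l => ?_
      rw [Preadditive.comp_sum, Category.comp_id, Finset.sum_eq_single l]
      · rw [← Category.assoc, hpr, dif_pos rfl, eqToHom_refl, Category.id_comp]
      · intro i _ hi
        rw [← Category.assoc, hpr, dif_neg (Ne.symm hi), zero_comp]
      · simp
    haveI : F.Additive := inferInstance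
    have hmidv : Subsingleton (Coh.HH X (F.obj (FlatMod.freeMod X k)) (p + 1)) := by
      refine subsingleton_H_of_decomp Finset.univ (F.obj (∐ C)) (fun i => F.obj (C i))
        (fun i => F.map (pr i)) (fun i => F.map (Sigma.ι C i)) ?_ (p + 1) fun i =>
          subsingleton_of_iso lu.symm _ (h n (le_max_right _ _) (p + 1) (by omega))
      simp only [← F.map_comp]
      rw [← F.map_sum]
      exact (congrArg F.map htot).trans (F.map_id _)
    refine subsingleton_of_forall_eq 0 fun x => ?_
    obtain ⟨y, hy⟩ := (exact_mapL_delta (f := X.toSpecΓ) hS (p + 1) x).1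
      (@Subsingleton.elim _ hKv _ _)
    rw [← hy, @Subsingleton.elim _ hmidv y 0]
    exact map_zero _

include hL hinv h in
theorem isAffine_aux : IsAffine X := by
  classical
  have := hL.2.1
  have := isSeparated_of_cover hL.1 hL.2.2
  have hL' := isInvertible_of_isInverseOf hL.1 hinv
  choose m s hx hs using hL.2.2
  obtain ⟨T, hT⟩ := isCompact_univ.elim_finite_subcover
    (fun x => (CohB1.genLocus _ (s x) : Set X)) (fun x => (CohB1.genLocus _ (s x)).isOpen)
    (fun x _ => Set.mem_iUnion.2 ⟨x, hx x⟩)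
  let pt : Fin T.card → X := fun i => (T.equivFin.symm i).1
  let t : ∀ i, Γ(CohB1.tensorPow L (m (pt i) + 1), ⊤) := fun i => gsec (s (pt i))
  let P : Fin T.card → X.Modules := fun i => CohB1.tensorPow L' (m (pt i) + 1)
  let e : ∀ i, CohB1.tensorMod (P i) (CohB1.tensorPow L (m (pt i) + 1)) ≅ Coh.structureModule X :=
    fun i => (exists_braiding _ _).choose ≪≫ (isInverseOf_tensorPow hinv (m (pt i) + 1)).some
  have hP : ∀ i, PicF.IsInvertible (P i) := fun i => isInvertible_tensorPow hL' _
  let φ : (∐ P) ⟶ Coh.structureModule X := Sigma.desc fun i => mulInto (e i) (t i)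
  haveI : Epi φ := Preadditive.epi_of_cancel_zero _ fun {Z} g hg => by
    refine Scheme.Modules.hom_ext _ _ fun W => AddCommGrpCat.ext fun r => ?_
    change g.app W r = 0
    refine CohTwo.eq_of_local Z _ _ fun x hxW => ?_
    obtain ⟨y, hy, hxy⟩ := Set.mem_iUnion₂.1 (hT (Set.mem_univ x))
    let i := T.equivFin ⟨y, hy⟩
    have hpt : pt i = y := congrArg Subtype.val (T.equivFin.symm_apply_apply ⟨y, hy⟩)
    have hxt : x ∈ gloc (t i) := by
      rw [← genLocus_eq_gloc]
      rw [← hpt] at hxy
      exact hxy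
    have hi : mulInto (e i) (t i) ≫ g = 0 := by
      rw [show mulInto (e i) (t i) = Sigma.ι P i ≫ φ from
        (Sigma.ι_desc (fun i => mulInto (e i) (t i)) i).symm, Category.assoc,
        hg, comp_zero]
    obtain ⟨V, hle, hxV, hV⟩ := comp_eq_zero_imp (e i) (hP i) (t i) g hi hxt hxW r
    exact ⟨V, hle, hxV, (Groth.QCohMod.res_app g hle r).trans (hV.trans (map_zero _).symm)⟩
  let S := ShortComplex.mk (kernel.ι φ) φ (kernel.condition φ)
  have hS : S.ShortExact := { exact := ShortComplex.exact_of_f_is_kernel _ (kernelIsKernel φ) }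
  have hK := LocFree.isFinLocFree_left hS
    (DerivedCoh.PCoh.isFinLocFree_sigma_finite _ P fun i => isFinLocFree_of_isInvertible (hP i))
    (LocFree.isFinLocFree_unit X)
  have hK1 : Subsingleton (Coh.HH X S.X₁ 1) := subsingleton_HH_of_finLocFree hL hinv n₀ h _ hK 0
  obtain ⟨y, hy⟩ := (exact_mapL_delta (f := X.toSpecΓ) hS 0
    ((equivSections X.toSpecΓ (Coh.structureModule X)).symm (oneSec X ⊤))).1
      (@Subsingleton.elim _ hK1 _ _)
  replace hy := congrArg (equivSections X.toSpecΓ (Coh.structureModule X)) hy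
  rw [equivSections_mapL, AddEquiv.apply_symm_apply] at hy
  let z : Γ(∐ P, ⊤) := equivSections X.toSpecΓ (∐ P) y
  let pr : ∀ i, (∐ P) ⟶ P i := fun i =>
    Sigma.desc fun l => if hl : l = i then eqToHom (congrArg P hl) else 0
  have hφ : φ = ∑ i, pr i ≫ mulInto (e i) (t i) := by
    refine Sigma.hom_ext _ _ fun l => ?_
    rw [Sigma.ι_desc, Preadditive.comp_sum, Finset.sum_eq_single l]
    · rw [← Category.assoc, Sigma.ι_desc, dif_pos rfl, eqToHom_refl, Category.id_comp]
    · intro i _ hi
      rw [← Category.assoc, Sigma.ι_desc, dif_neg (Ne.symm hi), zero_comp]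
    · simp
  let f : Fin T.card → Γ(X, ⊤) := fun i =>
    toFun ((e i).hom.app ⊤ (tmulSec ((pr i).app ⊤ z) (t i)))
  have hsum : ∑ i, f i = 1 := by
    let E : ((∐ P) ⟶ Coh.structureModule X) →+ Γ(Coh.structureModule X, ⊤) :=
      AddMonoidHom.mk' (fun ψ => ψ.app ⊤ z) fun _ _ => rfl
    have h1 : oneSec X ⊤ = ∑ i, E (pr i ≫ mulInto (e i) (t i)) := by
      rw [← map_sum, ← hφ]
      exact hy.symm
    refine Eq.trans (Finset.sum_congr rfl fun i _ => ?_) h1.symm
    change _ = (mulInto (e i) (t i)).app ⊤ ((pr i).app ⊤ z)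
    rw [mulInto_app, Groth.PicAux.res_self]
    rfl
  refine isAffine_of_isAffineOpen_basicOpen (Set.range f)
    (Ideal.eq_top_iff_one _ |>.2 (hsum ▸ Ideal.sum_mem _ fun i _ =>
      Ideal.subset_span ⟨i, rfl⟩)) ?_
  rintro _ ⟨i, rfl⟩
  let w := tmulSec ((pr i).app ⊤ z) (t i)
  have hle : X.basicOpen (f i) ≤ CohB1.genLocus _ (s (pt i)) := by
    have h2 := gloc_inf_eq_basicOpen (gen_oneSec (X := X) ⊤)
      (t := (e i).hom.app ⊤ w) (c := f i)
      ((Groth.PicAux.res_self _ _).trans (eq_toFun_smul_oneSec _))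
    rw [← h2, gloc_map, gloc_tmulSec (hP i) (isInvertible_tensorPow hL.1 _), genLocus_eq_gloc]
    exact inf_le_left.trans inf_le_right
  have h3 := (hs (pt i)).basicOpen (X.presheaf.map (homOfLE le_top).op (f i))
  rwa [X.basicOpen_res, inf_eq_right.2 hle] at h3

end Aux

open CategoryTheory AlgebraicGeometry in
/-- Let X be a scheme with an ample invertible module L, and let L' be an inverse of L (L ⊗ L' ≅ O_X).
If there is n₀ such that H^p(X, L'^n) = 0 for all n ≥ n₀ and all p > 0, then X is affine. -/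
theorem result (X : Scheme.{u}) (L L' : X.Modules)
    (hL : CohB1.IsAmple L) (hinv : Nonempty (CohB1.tensorMod L L' ≅ Coh.structureModule X)) (n₀ : ℕ)
    (h : ∀ n : ℕ, n₀ ≤ n → ∀ p : ℕ, 0 < p → Subsingleton (Coh.HH X (CohB1.tensorPow L' n) p)) :
    IsAffine X := by
  exact isAffine_aux hL hinv n₀ h

end Groth.Agent.S0824
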