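import Groth.Statements.S0825
import Groth.Agent.LocCohBase.Basic
import Mathlib.Algebra.Category.ModuleCat.Projective
import Mathlib.Algebra.Homology.DerivedCategory.Ext.ExactSequences

set_option autoImplicit false
universe u
open scoped BigOperators
open LocCoh

namespace Groth.Agent.S0825

open CategoryTheory in
/-- The short complex of a kernel. -/
noncomputable abbrev kerSC {R : Type u} [CommRing R] {A B : Type u} [AddCommGroup A] [Module R A]
    [AddCommGroup B] [Module R B] (g : A →ₗ[R] B) : ShortComplex (ModuleCat.{u} R) :=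
  ShortComplex.mk (ModuleCat.ofHom (X := LinearMap.ker g) (Y := A) (LinearMap.ker g).subtype)
    (ModuleCat.ofHom (X := A) (Y := B) g) (by ext x; exact x.2)

open CategoryTheory in
theorem kerSC_shortExact {R : Type u} [CommRing R] {A B : Type u} [AddCommGroup A] [Module R A]
    [AddCommGroup B] [Module R B] (g : A →ₗ[R] B) (hg : Function.Surjective g) :
    (kerSC g).ShortExact where
  exact := (ShortComplex.ShortExact.moduleCat_exact_iff_function_exact _).2
    (LinearMap.exact_subtype_ker_map g)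
  mono_f := (ModuleCat.mono_iff_injective _).2 Subtype.val_injective
  epi_g := (ModuleCat.epi_iff_surjective _).2 hg

open CategoryTheory in
/-- `J → R → R/J`. -/
noncomputable abbrev quotSC {R : Type u} [CommRing R] (J : Ideal R) : ShortComplex (ModuleCat.{u} R) :=
  ShortComplex.mk (ModuleCat.ofHom (X := J) (Y := R) (Submodule.subtype J))
    (ModuleCat.ofHom (X := R) (Y := R ⧸ J) (Submodule.mkQ J))
    (by ext x; exact (Submodule.Quotient.mk_eq_zero J).2 x.2)

open CategoryTheory in
theorem quotSC_shortExact {R : Type u} [CommRing R] (J : Ideal R) : (quotSC J).ShortExact where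
  exact := (ShortComplex.ShortExact.moduleCat_exact_iff_function_exact _).2
    (LinearMap.exact_subtype_mkQ J)
  mono_f := (ModuleCat.mono_iff_injective _).2 Subtype.val_injective
  epi_g := (ModuleCat.epi_iff_surjective _).2 (Submodule.mkQ_surjective J)

/-- Let A be a Noetherian ring and I the ideal generated by f_1, …, f_r, with cohomological dimension
exactly 1. Then there are c ≥ 1 and A-linear maps φ_j : I^c → A such that x = Σ_j f_j φ_j(x) for
every x ∈ I^c. -/
theorem result (A : Type u) [CommRing A] [IsNoetherianRing A] (r : ℕ) (f : Fin r → A)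
    (h₁ : LocCoh.CdLE A (Ideal.span (Set.range f)) 1) (h₀ : ¬ LocCoh.CdLE A (Ideal.span (Set.range f)) 0) :
    ∃ (c : ℕ) (φ : Fin r → (↥(Ideal.span (Set.range f) ^ (c + 1)) →ₗ[A] A)),
      ∀ x : ↥(Ideal.span (Set.range f) ^ (c + 1)), (x : A) = ∑ j, f j * φ j x := by
  classical
  set I := Ideal.span (Set.range f) with hI
  let π : (Fin r → A) →ₗ[A] A := Fintype.linearCombination A f
  have hπa : ∀ v, π v = ∑ j, v j * f j := fun v => rfl
  have hπI : ∀ v, π v ∈ I := fun v => by
    rw [hπa]
    exact Ideal.sum_mem _ fun j _ => Ideal.mul_mem_left _ _ (Ideal.subset_span ⟨j, rfl⟩)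
  let q : (Fin r → A) →ₗ[A] I := LinearMap.codRestrict I π hπI
  have hq : Function.Surjective q := fun x => by
    obtain ⟨v, hv⟩ := (Submodule.mem_span_range_iff_exists_fun A).1 x.2
    exact ⟨v, Subtype.ext hv⟩
  have hS : (kerSC q).ShortExact := kerSC_shortExact q hq
  let T : ℕ → CategoryTheory.ShortComplex (ModuleCat.{u} A) := fun m => quotSC (I ^ m)
  have hT : ∀ m, (T m).ShortExact := fun m => quotSC_shortExact (I ^ m)
  let i1 : (T 1).X₁ ⟶ ModuleCat.of A I := ModuleCat.ofHom (Submodule.inclusion (pow_one I).le)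
  let η : CategoryTheory.Abelian.Ext (Groth.LocCohBase.quotPow I 1) (kerSC q).X₁ 2 :=
    (hT 1).extClass.comp ((CategoryTheory.Abelian.Ext.mk₀ i1).comp hS.extClass (zero_add 1))
      (show 1 + 1 = 2 from rfl)
  have hz : Groth.LocCohBase.ι I 2 _ 1 η = 0 :=
    @Subsingleton.elim _ (h₁ (kerSC q).X₁ 2 one_lt_two) _ _
  obtain ⟨m, hm, hη⟩ := (Groth.LocCohBase.ι_eq_zero_iff 2 _ η).1 hz
  obtain ⟨c, rfl⟩ : ∃ c, m = c + 1 := ⟨m - 1, by omega⟩
  let τ : T (c + 1) ⟶ T 1 :=
    { τ₁ := ModuleCat.ofHom (Submodule.inclusion (Ideal.pow_le_pow_right hm))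
      τ₂ := CategoryTheory.CategoryStruct.id _
      τ₃ := Groth.LocCohBase.trans I hm
      comm₁₂ := by ext x; rfl
      comm₂₃ := by ext x; rfl }
  let j := CategoryTheory.CategoryStruct.comp τ.τ₁ i1
  have h2 : (hT (c + 1)).extClass.comp
      ((CategoryTheory.Abelian.Ext.mk₀ j).comp hS.extClass (zero_add 1)) (show 1 + 1 = 2 from rfl) = 0 := by
    rw [← hη]
    simp only [η, j]
    rw [← CategoryTheory.Abelian.Ext.mk₀_comp_mk₀, CategoryTheory.Abelian.Ext.comp_assoc_of_second_deg_zero,
      ← CategoryTheory.Abelian.Ext.comp_assoc_of_second_deg_zero,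
      CategoryTheory.ShortComplex.ShortExact.extClass_naturality (hT (c + 1)) (hT 1) τ,
      CategoryTheory.Abelian.Ext.comp_assoc (a₂ := 1) (a₁₂ := 1) (a₂₃ := 2) _ _ _ (zero_add 1)
        rfl (by omega)]
  obtain ⟨x₂, hx₂⟩ := CategoryTheory.Abelian.Ext.contravariant_sequence_exact₁ (hT (c + 1)) _ _
    (show 1 + 1 = 2 from rfl) h2
  haveI : CategoryTheory.Projective (T (c + 1)).X₂ :=
    inferInstanceAs (CategoryTheory.Projective (ModuleCat.of A A))
  rw [CategoryTheory.Abelian.Ext.eq_zero_of_projective x₂, CategoryTheory.Abelian.Ext.comp_zero] at hx₂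
  obtain ⟨x₂', hx₂'⟩ := CategoryTheory.Abelian.Ext.covariant_sequence_exact₃ _ hS
    (CategoryTheory.Abelian.Ext.mk₀ j) (zero_add 1) hx₂.symm
  obtain ⟨s, rfl⟩ := (CategoryTheory.Abelian.Ext.mk₀_bijective _ _).2 x₂'
  rw [CategoryTheory.Abelian.Ext.mk₀_comp_mk₀] at hx₂'
  have hs := (CategoryTheory.Abelian.Ext.mk₀_bijective _ _).1 hx₂'
  refine ⟨c, fun k => (LinearMap.proj k : (Fin r → A) →ₗ[A] A) ∘ₗ s.hom, fun x => ?_⟩
  have h3 : q (s.hom x) = j.hom x := congrArg (fun g => g.hom x) hs
  have h4 : π (s.hom x) = (x : A) := congrArg Subtype.val h3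
  rw [← h4, hπa]
  exact Finset.sum_congr rfl fun k _ => mul_comm _ _

end Groth.Agent.S0825
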