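import Groth.Statements.S0827
import Groth.Agent.CohDev.FormalLimit
import Groth.Agent.CohDev.MilnorSeq
-- import your own Groth.Agent.* helpers here

set_option autoImplicit false
universe u
open Formal2

open TopologicalSpace

namespace Groth.Agent.S0827

open CategoryTheory CategoryTheory.Limits AlgebraicGeometry Opposite in
/-- Part (3), for the ideal sheaf generated by an ideal I of a base ring A. Let X be a scheme over Spec
A and (G_n) an inverse system of quasi-coherent O_X-modules with G_n killed by I^(n+1) and G_n =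
G_{n+1}/I^(n+1)G_{n+1}. Then for every p there is a short exact sequence 0 → R^1 lim_n H^p(X, G_n) →
H^(p+1)(X, lim G_n) → lim_n H^(p+1)(X, G_n) → 0 of abelian groups, the second map being induced by
the projections lim G_n → G_n (the degree-0 statement is not restated). -/
theorem result (A : Type u) [CommRing A] (I : Ideal A) (X : Scheme.{u})
    [X.Over (Spec (CommRingCat.of A))] (G : ℕᵒᵖ ⥤ X.Modules) (hG : Formal2.IsQCohFormal I G) (p : ℕ) :
    ∃ (α : Formal2.limOne (fun n => Coh.HH X (G.obj (op n)) p) (Formal2.HHsysMap G p) →+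
        Coh.HH X (limit G) (p + 1))
      (β : Coh.HH X (limit G) (p + 1) →+
        Formal2.limZero (fun n => Coh.HH X (G.obj (op n)) (p + 1)) (Formal2.HHsysMap G (p + 1))),
      Function.Injective α ∧ Function.Surjective β ∧ α.range = β.ker ∧
      ∀ (x : Coh.HH X (limit G) (p + 1)) (n : ℕ),
        (β x : ∀ n, Coh.HH X (G.obj (op n)) (p + 1)) n =
          Sheaf.H.map ((SheafOfModules.toSheaf _).map (limit.π G (op n))) (p + 1) x := by
  obtain ⟨ea, hea⟩ := Groth.CohDev.nonempty_toSheafLimit G
  let Z := (constantSheaf (Opens.grothendieckTopology X.toTopCat) AddCommGrpCat.{u}).obj (AddCommGrpCat.of (ULift.{u} ℤ))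
  obtain ⟨α, β, hα, hβ, hαβ, hβπ⟩ := Groth.CohDev.exists_milnor_ext (Groth.CohDev.isBasis_affine X)
    (Groth.CohDev.acyclicOn_abTower hG) (fun V hV n => Groth.CohDev.surjective_trans hG V hV n) Z p
  let e : Coh.HH X (limit G : X.Modules) (p + 1) ≃+ Abelian.Ext Z (limit (Groth.CohDev.abTower G)) (p + 1) :=
    (((Abelian.extFunctor (p + 1)).obj (op Z)).mapIso ea).addCommGroupIsoToAddEquiv
  refine ⟨e.symm.toAddMonoidHom.comp α, β.comp e.toAddMonoidHom, e.symm.injective.comp hα, hβ.comp e.surjective, ?_, fun x n => ?_⟩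
  · ext x
    rw [AddMonoidHom.mem_range, AddMonoidHom.mem_ker]
    change (∃ y, e.symm (α y) = x) ↔ β (e x) = 0
    rw [← AddMonoidHom.mem_ker, ← hαβ, AddMonoidHom.mem_range]
    exact exists_congr fun y => e.symm_apply_eq
  · refine (hβπ (e x) n).trans ?_
    change Abelian.Ext.comp (x.comp (Abelian.Ext.mk₀ ea.hom) (add_zero (p + 1))) (Abelian.Ext.mk₀ (limit.π (Groth.CohDev.abTower G) (op n))) (add_zero (p + 1)) =
      x.comp (Abelian.Ext.mk₀ ((SheafOfModules.toSheaf _).map (limit.π G (op n)))) (add_zero (p + 1))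
    rw [Abelian.Ext.comp_assoc_of_second_deg_zero, Abelian.Ext.mk₀_comp_mk₀, hea]

end Groth.Agent.S0827
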