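import Groth.Statements.S0828
import Groth.Agent.KTheory.LocFree
import Groth.Agent.Calg6.CMSop
import Groth.Agent.S0605
import Groth.Agent.Ega4Algebra1.RegularLocal
import Mathlib.LinearAlgebra.Dimension.Free

set_option autoImplicit false
universe u
open Coherent

namespace Groth.Agent.S0828

open CategoryTheory CategoryTheory.Limits AlgebraicGeometry TopologicalSpace Opposite

/-- Over a regular local ring a module with zero annihilator has full support dimension. -/
theorem supportDim_eq_of_annihilator {R : Type u} [CommRing R] {M : Type u} [AddCommGroup M] [Module R M]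
    [Module.Finite R M] (h : Module.annihilator R M = ⊥) : Module.supportDim R M = ringKrullDim R := by
  rw [Module.supportDim_eq_ringKrullDim_quotient_annihilator,
    ringKrullDim_eq_of_ringEquiv ((Ideal.quotEquivOfEq h).trans (RingEquiv.quotientBot R))]

/-- A nonzero finite free module over a regular local ring is Cohen-Macaulay. -/
theorem isCM_of_free (R : Type u) [CommRing R] [IsRegularLocalRing R] (M : Type u) [AddCommGroup M]
    [Module R M] [Module.Finite R M] [Module.Free R M] [Nontrivial M] :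
    LocCoh.IsCohenMacaulayModule R M := by
  obtain ⟨k, hk⟩ : ∃ k, Fintype.card (Module.Free.ChooseBasisIndex R M) = k + 1 :=
    ⟨_, (Nat.succ_pred_eq_of_ne_zero fun h => by
      have := Fintype.card_eq_zero_iff.1 h
      exact not_subsingleton M ((Module.Free.chooseBasis R M).repr.toEquiv.subsingleton)).symm⟩
  let e : M ≃ₗ[R] (Fin (k + 1) → R) :=
    ((Module.Free.chooseBasis R M).reindex ((Fintype.equivFin _).trans (finCongr hk))).equivFun
  have h1 : Module.supportDim R (Fin (k + 1) → R) = ringKrullDim R :=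
    supportDim_eq_of_annihilator (bot_unique fun r hr => by
      have := congrFun (Module.mem_annihilator.1 hr (fun _ => 1)) 0
      simpa using this)
  rw [LocCoh.IsCohenMacaulayModule, Module.supportDim_eq_of_equiv e, h1,
    show LocCoh.depth R M = _ from Groth.LocCohBase.idealDepth_congr e]
  change ringKrullDim R = ((LocCoh.depth R (Fin (k + 1) → R) : ℕ∞) : WithBot ℕ∞)
  rw [Groth.FrobLCI.depth_pi, ← Module.supportDim_self_eq_ringKrullDim]
  exact Groth.Calg6.isCohenMacaulayModule_of_isRegularLocalRing R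

open Groth.QCohMod in
/-- If the support is everything, stalks at points with domain local rings have zero annihilator. -/
theorem annihilator_stalk_eq_bot {X : Scheme.{u}} (F : X.Modules) [F.IsQuasicoherent]
    (hs : CohB1.support F = Set.univ) (x : X) [IsDomain (X.presheaf.stalk x)] :
    Module.annihilator (X.presheaf.stalk x) (F.presheaf.stalk x) = ⊥ := by
  obtain ⟨U, hU, hxU⟩ := exists_affine_mem x
  let φ : Γ(X, U) →+* X.presheaf.stalk x := (X.presheaf.germ U x hxU).hom
  let p : PrimeSpectrum Γ(X, U) := ⟨Ideal.comap φ ⊥, Ideal.IsPrime.comap φ⟩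
  have hy : hU.fromSpec p ∈ U := by
    rw [← SetLike.mem_coe, ← hU.range_fromSpec]
    exact Set.mem_range_self p
  have hp : hU.primeIdealOf ⟨hU.fromSpec p, hy⟩ = p :=
    hU.fromSpec.isOpenEmbedding.injective (hU.fromSpec_primeIdealOf ⟨hU.fromSpec p, hy⟩)
  have h := (mem_support_iff F hU _ hy).1 (hs ▸ Set.mem_univ _)
  rw [hp, Module.mem_support_iff'] at h
  obtain ⟨m, hm⟩ := h
  refine bot_unique fun r hr => ?_
  have hunit : ∀ t : Γ(X, U), x ∈ X.basicOpen t → φ t ≠ 0 := fun t ht =>
    ((Scheme.mem_basicOpen X t x hxU).1 ht).ne_zero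
  by_contra hr0
  let : Algebra Γ(X, U) (X.presheaf.stalk x) := φ.toAlgebra
  have := hU.isLocalization_stalk ⟨x, hxU⟩
  obtain ⟨⟨a, s⟩, has⟩ := IsLocalization.surj (hU.primeIdealOf ⟨x, hxU⟩).asIdeal.primeCompl r
  have has' : r * φ s.1 = φ a := has
  have hs0 : φ s.1 ≠ 0 := hunit _ ((mem_basicOpen_iff_notMem_primeIdealOf hU s.1 x hxU).2 s.2)
  have ha : φ a ≠ 0 := by
    rw [← has']
    exact mul_ne_zero hr0 hs0
  have hz : germ F x hxU (a • m) = 0 := by
    rw [germ_smul, show X.presheaf.germ U x hxU a = φ a from rfl, ← has', mul_comm, mul_smul,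
      Module.mem_annihilator.1 hr, smul_zero]
  obtain ⟨t, ht, htm⟩ := exists_smul_eq_zero_of_germ_eq_zero F hU x hxU (a • m) hz
  refine hm (t * a) ?_ (by rw [mul_smul]; exact htm)
  change φ (t * a) ∉ (⊥ : Ideal _)
  rw [map_mul, Ideal.mem_bot]
  exact mul_ne_zero (hunit t ht) ha

/-- The stalks of a locally free module of rank `n` vanish iff `n = 0`. -/
theorem nontrivial_stalk_iff {X : Scheme.{u}} (F : X.Modules) {U : X.Opens} {n : ℕ}
    (e : F.restrict U.ι ≅ FlatMod.freeMod (↑U) n) {x : X} (hx : x ∈ U) :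
    ¬ Subsingleton (F.presheaf.stalk x) ↔ 0 < n := by
  let y : (U : Scheme.{u}) := ⟨x, hx⟩
  let St := Groth.QCohMod.stalk (X := (U : Scheme.{u})) y
  let i : St.obj (FlatMod.freeMod (↑U) n) ≅ (Groth.QCohMod.stalk x).obj F :=
    St.mapIso e.symm ≪≫ (Scheme.Modules.restrictStalkNatIso U.ι y).app F
  rw [show Subsingleton (F.presheaf.stalk x) ↔ Subsingleton (St.obj (FlatMod.freeMod (↑U) n)) from
    i.addCommGroupIsoToAddEquiv.toEquiv.subsingleton_congr.symm]
  constructor
  · intro h
    rcases Nat.eq_zero_or_pos n with rfl | hn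
    · refine absurd ?_ h
      have hz : IsZero (FlatMod.freeMod (↑U : Scheme.{u}) 0) :=
        (IsZero.iff_id_eq_zero _).2 (Sigma.hom_ext _ _ fun j => Fin.elim0 j)
      exact AddCommGrpCat.subsingleton_of_isZero (St.map_isZero hz)
    · exact hn
  · intro hn hsub
    let O := Coh.structureModule (↑U : Scheme.{u})
    have h1 : Subsingleton (St.obj O) := by
      refine ⟨fun a b => ?_⟩
      let i0 := Sigma.ι (fun _ : Fin n => O) ⟨0, hn⟩
      let d := Sigma.desc fun _ : Fin n => 𝟙 O
      have : St.map i0 ≫ St.map d = 𝟙 _ := by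
        rw [← St.map_comp, colimit.ι_desc, Cofan.mk_ι_app, St.map_id]
      rw [← ConcreteCategory.id_apply (C := AddCommGrpCat) a,
        ← ConcreteCategory.id_apply (C := AddCommGrpCat) b, ← this, ConcreteCategory.comp_apply,
        ConcreteCategory.comp_apply, Subsingleton.elim (St.map i0 a) (St.map i0 b)]
    obtain ⟨V, hV, m⟩ : ∃ V : (U : Scheme.{u}).Opens, y ∈ V ∧ True := ⟨⊤, trivial, trivial⟩
    have h2 := @Subsingleton.elim _ h1 (Groth.QCohMod.germ O y hV (1 : Γ(↑U, V)))
      (Groth.QCohMod.germ O y hV (0 : Γ(↑U, V)))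
    obtain ⟨W, hyW, i₁, i₂, hW⟩ := TopCat.Presheaf.germ_eq O.presheaf y hV hV _ _ h2
    have h3 := hW
    have h4 : ((U : Scheme.{u}).presheaf.map i₁.op) 1 = ((U : Scheme.{u}).presheaf.map i₂.op) 0 := h3
    rw [map_one, map_zero] at h4
    have h5 := congrArg ((U : Scheme.{u}).presheaf.germ W y hyW) h4
    rw [map_one, map_zero] at h5
    exact one_ne_zero h5

open CategoryTheory AlgebraicGeometry in
/-- Let X be a regular scheme (locally Noetherian with regular local rings) and F a coherent O_X-module.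
Then F has support all of X and Cohen–Macaulay stalks if and only if F is finite locally free of
positive rank near every point. -/
theorem result (X : Scheme.{u}) [IsLocallyNoetherian X]
    (hreg : ∀ x : X, IsRegularLocalRing (X.presheaf.stalk x)) (F : X.Modules) (hF : Coh.IsCoh F) :
    (CohB1.support F = Set.univ ∧
        ∀ x : X, LocCoh.IsCohenMacaulayModule (X.presheaf.stalk x) ↑(F.presheaf.stalk x)) ↔
      ∀ x : X, ∃ (U : X.Opens) (n : ℕ), x ∈ U ∧ 0 < n ∧
        Nonempty (F.restrict U.ι ≅ FlatMod.freeMod (↑U) n) := by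
  have := hF.1
  constructor
  · rintro ⟨hs, hcm⟩ x
    have hfree : ∀ z : X, Module.Free (X.presheaf.stalk z) (F.presheaf.stalk z) := fun z => by
      have := hreg z
      have := Groth.QCohMod.finite_stalk F hF.2 z
      have := Groth.Ega4Algebra1.isDomain_of_isRegularLocalRing (X.presheaf.stalk z)
      refine Groth.Agent.S0605.result _ _ ?_
      rw [← (hcm z : Module.supportDim _ _ = _)]
      exact supportDim_eq_of_annihilator (annihilator_stalk_eq_bot F hs z)
    obtain ⟨U, n, hxU, ⟨e⟩⟩ := Groth.KTheory.LocFree.isFinLocFree_of_free_stalks hF hfree x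
    exact ⟨U, n, hxU, (nontrivial_stalk_iff F e hxU).1 (hs.symm ▸ Set.mem_univ x : x ∈ CohB1.support F), ⟨e⟩⟩
  · intro h
    have hs : ∀ x : X, ¬ Subsingleton (F.presheaf.stalk x) := fun x => by
      obtain ⟨U, n, hxU, hn, ⟨e⟩⟩ := h x
      exact (nontrivial_stalk_iff F e hxU).2 hn
    refine ⟨Set.eq_univ_of_forall hs, fun x => ?_⟩
    have := hreg x
    have := Groth.QCohMod.finite_stalk F hF.2 x
    have : Nontrivial (F.presheaf.stalk x) := not_subsingleton_iff_nontrivial.1 (hs x)
    have : Module.Free (X.presheaf.stalk x) (F.presheaf.stalk x) :=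
      Groth.KTheory.LocFree.free_stalk (fun z => by
        obtain ⟨U, n, hzU, -, he⟩ := h z
        exact ⟨U, n, hzU, he⟩) x
    exact isCM_of_free _ _

end Groth.Agent.S0828
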