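import Groth.Statements.S0829
import Mathlib
import Groth.Agent.CohC3.Lifting

set_option autoImplicit false
universe u
open Formal2

namespace Groth.Agent.S0829

open CategoryTheory CategoryTheory.Limits AlgebraicGeometry Opposite in
/-- Let A be a ring, I ⊆ A an ideal and X a Noetherian scheme over Spec A; inverse systems are indexed
so that position n holds the quotient by I^(n+1). Let G be a coherent O_X-module, (F_n) a coherent
formal module for I (every F_n coherent and killed by I^(n+1), with transition maps inducing
isomorphisms F_{n+1}/I^(n+1)F_{n+1} ≅ F_n), and α : (F_n) → (G/I^(n+1)G) a map of inverse systems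
such that one fixed power of I kills the kernel and the cokernel of every component α_n. Then there
are a coherent O_X-module F, a map a : F → G whose kernel and cokernel are killed by a power of I,
and an isomorphism of systems β : (F_n) ≅ (F/I^(n+1)F) under which α becomes the map of systems
induced by a: for every n, the projection F → F/I^(n+1)F followed by β_n⁻¹ and then α_n equals a
followed by the projection G → G/I^(n+1)G. (The published statement also asserts uniqueness of (F,
a, β) and has a further part; only existence is stated here.) -/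
theorem result (A : Type u) [CommRing A] (I : Ideal A) (X : Scheme.{u})
    [X.Over (Spec (CommRingCat.of A))] [IsNoetherian X] (G : X.Modules) (hG : Coh.IsCoh G)
    (F : ℕᵒᵖ ⥤ X.Modules) (hF : Formal.IsCohFormal I F) (α : F ⟶ Formal.completion I G)
    (hα : Formal2.KerCokerKilledByIPow I α) :
    ∃ (F' : X.Modules) (a : F' ⟶ G) (β : F ≅ Formal.completion I F'), Coh.IsCoh F' ∧
      Formal2.KerCokerKilledByIPowHom I a ∧
      ∀ n : ℕ, Formal.modPowπ I (n + 1) F' ≫ β.inv.app (op n) ≫ α.app (op n) = a ≫ Formal.modPowπ I (n + 1) G := by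
  obtain ⟨t, ht⟩ := hα
  have hK : ∀ n, I ^ (t + 1) ≤ Groth.CohC3.annHom (kernel.ι (α.app (op n))) ∧
      I ^ (t + 1) ≤ Groth.CohC3.annHom (cokernel.π (α.app (op n))) := fun n =>
    ⟨fun a ha => by
      rw [Groth.CohC3.mem_annHom, (ht n).1 a ha, Limits.zero_comp],
     Groth.CohC3.le_annHom_of_killedBy (ht n).2 _⟩
  have hF' := Groth.CohC3.isSys_of_isCohFormal hF
  obtain ⟨e, he⟩ := Groth.CohC3.exists_completion_iso I (Groth.CohC3.Lifting.obj α) F
    (Groth.CohC3.Lifting.proj α)
    (Groth.CohC3.Lifting.isQuot_proj α hK rfl hG hF' hF.1)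
    (fun n => Groth.CohC3.Lifting.proj_sysMap α (Nat.le_succ n))
  refine ⟨_, Groth.CohC3.Lifting.toG α, e.symm, Groth.CohC3.Lifting.isCoh_obj α hK rfl hG hF' hF.1,
    ⟨2 * t + 1, ?_, ?_⟩, fun n => ?_⟩
  · intro a ha
    rw [← cancel_mono (kernel.ι (Groth.CohC3.Lifting.toG α)), Limits.zero_comp]
    exact Groth.CohC3.Lifting.le_annHom_kernel α hK
      (Ideal.pow_le_pow_right (show t + 1 ≤ 2 * t + 1 + 1 by omega) ha)
  · refine Groth.CohC3.killedBy_of_epi (cokernel.π _) (le_trans (le_of_eq ?_)
      (Groth.CohC3.Lifting.mul_le_annHom_cokernel α hK))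
    rw [← pow_add]
    congr 1; omega
  · refine (Category.assoc _ _ _).symm.trans ?_
    erw [he]
    exact Groth.CohC3.Lifting.proj_comp α n

end Groth.Agent.S0829
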