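import Groth.Statements.S0835
import Mathlib
import Groth.Agent.CohC3.QuotSections
import Groth.Agent.QCohMod.PullbackQCoh

set_option autoImplicit false
universe u
open Formal2

namespace Groth.Agent.S0835

open CategoryTheory AlgebraicGeometry in
/-- First assertion, for ideal sheaves generated by an ideal I of a base ring A. Let f : X → Y be a
morphism of Noetherian schemes over Spec A and (G_n) a coherent formal module for I on Y. Then the
componentwise pullback (f^* G_n) is a coherent formal module for I on X. (Exactness properties of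
this functor are not stated.) -/
theorem result (A : Type u) [CommRing A] (I : Ideal A) (X Y : Scheme.{u})
    [X.Over (Spec (CommRingCat.of A))] [Y.Over (Spec (CommRingCat.of A))] [IsNoetherian X] [IsNoetherian Y]
    (f : X ⟶ Y) (hf : f ≫ (Y ↘ Spec (CommRingCat.of A)) = X ↘ Spec (CommRingCat.of A))
    (G : ℕᵒᵖ ⥤ Y.Modules) (hG : Formal.IsCohFormal I G) :
    Formal.IsCohFormal I (G ⋙ Scheme.Modules.pullback f) := by
  have hs := Groth.CohC3.isSys_of_isCohFormal hG
  have hq : ∀ n, Groth.CohC3.IsQuot (I ^ (n + 1))
      ((Scheme.Modules.pullback f).map (G.map (homOfLE (Nat.le_succ n)).op)) := fun n =>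
    (hs.isQuot_succ n).map_adj (Scheme.Modules.pullbackPushforwardAdjunction f) hf
  refine ⟨fun n => ?_, fun n => ?_, fun n => (hq n).isIso_desc⟩
  · have := (hG.1 n).1
    exact ⟨Groth.QCohMod.isQCoh_pullback_obj f _, Groth.QCohMod.isFT_pullback f _ (hG.1 n).2⟩
  · exact (hq n).killedBy

end Groth.Agent.S0835
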