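import Groth.Statements.S0837
import Groth.Agent.CohDev.AdicBounds
-- import your own Groth.Agent.* helpers here

set_option autoImplicit false
universe u
open Coherent

namespace Groth.Agent.S0837

open CategoryTheory CategoryTheory.Limits AlgebraicGeometry in
/-- Let A be a Noetherian ring, I an ideal, X proper over Spec A and F a coherent O_X-module. For every
p there is c ≥ 0 such that for all n ≥ c the kernel of H^p(X, I^nF) → H^p(X, F) equals the kernel of
H^p(X, I^nF) → H^p(X, I^(n−c)F). (Here I^nF ⊆ F is the kernel of F → F/I^nF.) -/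
theorem result (A : Type u) [CommRing A] [IsNoetherianRing A]
    (I : Ideal A) (X : Scheme.{u}) [X.Over (Spec (CommRingCat.of A))] [IsProper (X ↘ Spec (CommRingCat.of A))]
    (F : X.Modules) (hF : Coh.IsCoh F) (p : ℕ) :
    ∃ c : ℕ, ∀ (n : ℕ) (h : c ≤ n),
      (Sheaf.H.map ((SheafOfModules.toSheaf _).map (Formal2.idealPowModι I n F)) p).ker =
        (Sheaf.H.map ((SheafOfModules.toSheaf _).map (Formal2.idealPowIncl I (Nat.sub_le n c) F)) p).ker := by
  have := Groth.CohC3.isNoetherian_of_proper A X
  have hP := Groth.CohC3.finClass_isCoh (fun G hG q => Groth.CohC3.finite_HH_of_proper A X hG q)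
  obtain ⟨c, hc⟩ := Groth.CohDev.exists_ker_lower hP
    (fun n => Groth.CohC3.isCoh_powSub (I := I) hF n) hF p
  refine ⟨c, fun n h => ?_⟩
  ext z
  constructor
  · intro hz
    exact hc n h z hz
  · intro hz
    have hz' : Groth.CohC3.hmap A (Groth.CohC3.lower I F (Nat.sub_le n c)) p z = 0 := hz
    change Groth.CohC3.hmap A (Groth.CohC3.powSubι I F n) p z = 0
    rw [← Groth.CohC3.lower_ι I F (Nat.sub_le n c), ← Groth.CohC3.hmap_comp, hz', map_zero]

end Groth.Agent.S0837
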