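import Groth.Statements.S0842
import Groth.Agent.CohDev.CdOneTopology
import Groth.Agent.S0825
-- import your own Groth.Agent.* helpers here

set_option autoImplicit false
universe u
open scoped BigOperators
open Formal2

namespace Groth.Agent.S0842

open CategoryTheory AlgebraicGeometry Opposite in
/-- Let A be a Noetherian ring and I an ideal of cohomological dimension exactly 1, X a Noetherian
scheme over Spec A, and (F_n) a coherent formal module for I (coherent terms with F_n =
F_{n+1}/I^nF_{n+1}; indices shifted by one). Then for every p and m there is c such that every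
compatible family x = (x_n) in the product of the H^p(X, F_n) whose component x_c vanishes is a
finite sum of products a · y with a ∈ I^m and y a compatible family. (The reverse inclusion, that
I^m times the limit dies in H^p(X, F_n) for n small, is immediate and not stated.) -/
theorem result (A : Type u) [CommRing A] [IsNoetherianRing A] (I : Ideal A)
    (h₁ : LocCoh.CdLE A I 1) (h₀ : ¬ LocCoh.CdLE A I 0) (X : Scheme.{u}) [X.Over (Spec (CommRingCat.of A))]
    [IsNoetherian X] (G : ℕᵒᵖ ⥤ X.Modules) (hG : Formal.IsCohFormal I G) (p m : ℕ) :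
    ∃ c : ℕ, ∀ x : ∀ n, Coh.HH X (G.obj (op n)) p,
      (∀ n, Formal2.HHsysMap G p n (x (n + 1)) = x n) → x c = 0 →
        ∃ (k : ℕ) (a : Fin k → A) (y : Fin k → ∀ n, Coh.HH X (G.obj (op n)) p),
          (∀ i, a i ∈ I ^ m ∧ ∀ n, Formal2.HHsysMap G p n (y i (n + 1)) = y i n) ∧ x = ∑ i, a i • y i := by
  rcases Nat.eq_zero_or_pos m with rfl | hm
  · exact ⟨0, fun x hx _ => ⟨1, fun _ => 1, fun _ => x,
      fun _ => ⟨by simp, hx⟩, by simp⟩⟩
  obtain ⟨r, g, hg⟩ := Submodule.fg_iff_exists_fin_generating_family.1 (IsNoetherian.noetherian (I ^ m : Ideal A))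
  have hgI : Ideal.span (Set.range g) = I ^ m := hg
  have hrad : (Ideal.span (Set.range g)).radical = I.radical := by
    rw [hgI, Ideal.radical_pow I hm.ne']
  have hcd : ∀ d, LocCoh.CdLE A (Ideal.span (Set.range g)) d ↔ LocCoh.CdLE A I d := by
    intro d
    constructor <;> intro h M _ _ i hi
    · have := h M i hi
      exact ((localCohomology.isoOfSameRadical hrad i).app (ModuleCat.of A M)).toLinearEquiv.symm.toEquiv.subsingleton
    · have := h M i hi
      exact ((localCohomology.isoOfSameRadical hrad i).app (ModuleCat.of A M)).toLinearEquiv.toEquiv.subsingleton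
  obtain ⟨c, φ, hφ⟩ := Groth.Agent.S0825.result A r g ((hcd 1).2 h₁) (fun h => h₀ ((hcd 0).1 h))
  have hle : I ^ (m * (c + 1)) ≤ Ideal.span (Set.range g) ^ (c + 1) := by rw [hgI, ← pow_mul]
  obtain ⟨s, hs⟩ := Groth.CohDev.CdOne.exists_level hG (c := m * (c + 1)) g
    (fun j => (φ j).comp (Submodule.inclusion hle)) (fun x => hφ (Submodule.inclusion hle x)) p
  refine ⟨s, fun x hx hxs => ?_⟩
  obtain ⟨y, hy, hxy⟩ := hs x hx hxs
  exact ⟨r, g, y, fun i => ⟨hgI ▸ Ideal.subset_span ⟨i, rfl⟩, hy i⟩, hxy⟩

end Groth.Agent.S0842
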