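import Groth.Statements.S0847
import Groth.Agent.PnCoh.AmpleVanishing
import Groth.Agent.PnCoh.GeneralTwist

set_option autoImplicit false
universe u
open Coherent

namespace Groth.Agent.S0847

open CategoryTheory AlgebraicGeometry in
lemma twist_pow {R A : Type u} [CommRing R] [CommRing A] [Algebra R A]
    (𝒜 : ℕ → Submodule R A) [GradedAlgebra 𝒜] {L : ℕ} (hL : 0 < L)
    (hcov : ⨆ f : 𝒜 L, Proj.basicOpen 𝒜 (f : A) = ⊤) : ∀ k : ℕ,
    Nonempty (CohB1.tensorPow (Twist.twist 𝒜 (L : ℤ)) k ≅ Twist.twist 𝒜 ((k : ℤ) * L))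
  | 0 => by
      obtain ⟨e⟩ := Groth.PnCoh.nonempty_twist_zero_iso 𝒜
      rw [Nat.cast_zero, zero_mul]
      exact ⟨e.symm⟩
  | k + 1 => by
      obtain ⟨e⟩ := twist_pow 𝒜 hL hcov k
      obtain ⟨e'⟩ := Groth.PnCoh.nonempty_twist_tensor hL hcov ((k : ℤ) * L) 1
      rw [one_mul] at e'
      rw [show ((k + 1 : ℕ) : ℤ) * L = (k : ℤ) * L + L by push_cast; ring]
      exact ⟨PicGrp.tensorModIso e (Iso.refl _) ≪≫ e'⟩

open CategoryTheory AlgebraicGeometry in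
/-- Let A be a Noetherian graded ring (graded by ℕ as an R-algebra), X = Proj A, F a coherent O_X-module
and p > 0. Then the twists F(d) = F ⊗ O_X(d) have vanishing H^p for every sufficiently large d. -/
theorem result {R A : Type u} [CommRing R] [CommRing A] [Algebra R A]
    (𝒜 : ℕ → Submodule R A) [GradedAlgebra 𝒜] [IsNoetherianRing A] (F : (Proj 𝒜).Modules) (hF : Coh.IsCoh F)
    (p : ℕ) (hp : 0 < p) :
    ∃ d₀ : ℤ, ∀ d : ℤ, d₀ ≤ d → Subsingleton (Coh.HH (Proj 𝒜) (Twist.twistBy 𝒜 F d) p) := by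
  haveI := (Groth.Ega2Proj.irrelevant_fg_iff_finiteType 𝒜).mp (IsNoetherian.noetherian _)
  haveI := Groth.Ega2Proj.isNoetherianRing_zero 𝒜
  haveI : IsNoetherian (Proj 𝒜) := Groth.Agent.S2357.result 𝒜
  obtain ⟨L, hL, hcov'⟩ := Groth.Misc1.TwistCover.exists_degree_cover (𝒜 := 𝒜) ⊤ isCompact_univ
  have hcov : ⨆ f : 𝒜 L, Proj.basicOpen 𝒜 (f : A) = ⊤ := eq_top_iff.mpr fun y hy => by
    obtain ⟨f, hf, hyf⟩ := hcov' y hy
    exact TopologicalSpace.Opens.mem_iSup.mpr ⟨⟨f, hf⟩, hyf⟩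
  have hamp := Groth.PnCoh.isAmple_twist_of_cover hL hcov
  choose d hd using fun a : Fin L => Groth.PnCoh.exists_subsingleton_of_isAmple
    (Proj.toSpecZero 𝒜 : Proj 𝒜 ⟶ Spec (CommRingCat.of (𝒜 0))) hamp
    (Twist.twistBy 𝒜 F ((a : ℕ) : ℤ))
    (Groth.RefRank.isCoh_tensorMod hF (Groth.PnCoh.isCoh_twist_proj _))
  refine ⟨((L * (Finset.univ.sup d + 1) : ℕ) : ℤ), fun t ht => ?_⟩
  obtain ⟨t, rfl⟩ : ∃ u : ℕ, t = u := ⟨t.toNat, (Int.toNat_of_nonneg (by omega)).symm⟩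
  replace ht : L * (Finset.univ.sup d + 1) ≤ t := by exact_mod_cast ht
  let a : Fin L := ⟨t % L, Nat.mod_lt _ hL⟩
  have hk : d a ≤ t / L := by
    have h1 : d a ≤ Finset.univ.sup d := Finset.le_sup (Finset.mem_univ a)
    have h2 : Finset.univ.sup d + 1 ≤ t / L :=
      (Nat.le_div_iff_mul_le hL).mpr (by rw [mul_comm]; exact ht)
    omega
  obtain ⟨e₁⟩ := twist_pow 𝒜 hL hcov (t / L)
  obtain ⟨e₂⟩ := Groth.PnCoh.nonempty_twist_tensor hL hcov ((t % L : ℕ) : ℤ) ((t / L : ℕ) : ℤ)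
  rw [show ((t % L : ℕ) : ℤ) + ((t / L : ℕ) : ℤ) * L = (t : ℤ) by
    have := congrArg (fun u : ℕ => (u : ℤ)) (Nat.mod_add_div t L)
    push_cast at this ⊢
    linarith] at e₂
  refine Groth.PnCoh.subsingleton_HH_of_iso (Proj.toSpecZero 𝒜) ?_ (hd a (t / L) hk p hp)
  exact (Groth.PicAux.exists_associator _ _ _).choose ≪≫
    PicGrp.tensorModIso (Iso.refl F) (PicGrp.tensorModIso (Iso.refl _) e₁ ≪≫ e₂)

end Groth.Agent.S0847
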