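import Groth.Statements.S0851
import Mathlib
import Groth.Agent.CohC3.ExtendAlg

set_option autoImplicit false
universe u
open Formal2

namespace Groth.Agent.S0851

open CategoryTheory CategoryTheory.Limits AlgebraicGeometry Opposite in
/-- Part (2), existence, for the ideal sheaf I·O_X of an ideal I of a base ring A (position n of a
system holds the quotient by I^(n+1)). Let X be a Noetherian scheme over Spec A, G a coherent
O_X-module and (F_n) a coherent formal module for I. Suppose α : (G/I^nG) → (F_n) is a map of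
systems such that one fixed power of I kills the kernel and the cokernel of every component. Then
there are a coherent O_X-module F, a map a : G → F with I-power-torsion kernel and cokernel, and an
isomorphism β : (F/I^nF) ≅ (F_n) under which α becomes the map induced by a. -/
theorem result (A : Type u) [CommRing A] (I : Ideal A) (X : Scheme.{u})
    [X.Over (Spec (CommRingCat.of A))] [IsNoetherian X] (G : X.Modules) (hG : Coh.IsCoh G)
    (F : ℕᵒᵖ ⥤ X.Modules) (hF : Formal.IsCohFormal I F) (α : Formal.completion I G ⟶ F)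
    (hα : Formal2.KerCokerKilledByIPow I α) :
    ∃ (F' : X.Modules) (a : G ⟶ F') (β : Formal.completion I F' ≅ F), Coh.IsCoh F' ∧
      Formal2.KerCokerKilledByIPowHom I a ∧
      ∀ n : ℕ, Formal.modPowπ I (n + 1) G ≫ α.app (op n) = a ≫ Formal.modPowπ I (n + 1) F' ≫ β.hom.app (op n) := by
  obtain ⟨t, ht⟩ := hα
  have hK : ∀ n, I ^ (t + 1) ≤ Groth.CohC3.annHom (kernel.ι (α.app (op n))) ∧
      I ^ (t + 1) ≤ Groth.CohC3.annHom (cokernel.π (α.app (op n))) := fun n =>
    ⟨fun a ha => by
      rw [Groth.CohC3.mem_annHom, (ht n).1 a ha, Limits.zero_comp],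
     Groth.CohC3.le_annHom_of_killedBy (ht n).2 _⟩
  obtain ⟨F', a, e, hc, hk₁, hk₂, he⟩ := Groth.CohC3.exists_algebraization_of_completion_map hG
    (Groth.CohC3.isSys_of_isCohFormal hF) hF.1 α t hK
  refine ⟨F', a, e, hc, ⟨4 * t + 3, fun b hb => ?_, ?_⟩, he⟩
  · rw [← cancel_mono (kernel.ι a), Limits.zero_comp]
    exact hk₁ (Ideal.pow_le_pow_right (show 4 * t + 4 ≤ 4 * t + 3 + 1 by omega) hb)
  · exact Groth.CohC3.killedBy_of_epi (cokernel.π _)
      ((Ideal.pow_le_pow_right (show 4 * t + 4 ≤ 4 * t + 3 + 1 by omega)).trans hk₂)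

end Groth.Agent.S0851
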