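import Groth.Statements.S0853
import Groth.Agent.CohDev.AdicBounds
-- import your own Groth.Agent.* helpers here

set_option autoImplicit false
universe u
open Coherent

namespace Groth.Agent.S0853

open CategoryTheory CategoryTheory.Limits AlgebraicGeometry in
/-- Let A be a Noetherian ring, I an ideal, X proper over Spec A and F a coherent O_X-module, and fix p.
Then there is c ≥ 0 such that for all n, m with n + m ≥ c the image of H^p(X, I^(n+m)F) → H^p(X,
I^nF) is contained in I^(m−e) H^p(X, I^nF), where e = max(0, c − n). (Here I^nF ⊆ F is the kernel of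
F → F/I^nF, and H^p(X, I^nF) is an A-module through the structure morphism.) -/
theorem result (A : Type u) [CommRing A] [IsNoetherianRing A]
    (I : Ideal A) (X : Scheme.{u}) [X.Over (Spec (CommRingCat.of A))] [IsProper (X ↘ Spec (CommRingCat.of A))]
    (F : X.Modules) (hF : Coh.IsCoh F) (p : ℕ) :
    ∃ c : ℕ, ∀ (n m : ℕ), c ≤ n + m →
      Set.range (Sheaf.H.map ((SheafOfModules.toSheaf _).map (Formal2.idealPowIncl I (Nat.le_add_right n m) F)) p) ⊆
        SetLike.coe (I ^ (m - (c - n)) • (⊤ : Submodule A (Coh.HH X (Formal2.idealPowMod I n F) p))) := by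
  have := Groth.CohC3.isNoetherian_of_proper A X
  have hP := Groth.CohC3.finClass_isCoh (fun G hG q => Groth.CohC3.finite_HH_of_proper A X hG q)
  obtain ⟨c, hc⟩ := Groth.CohDev.exists_range_lower_le hP
    (fun n => Groth.CohC3.isCoh_powSub (I := I) hF n) hF p
  refine ⟨c, fun n m h => ?_⟩
  rintro _ ⟨z, rfl⟩
  have e : Formal2.idealPowIncl I (Nat.le_add_right n m) F = Groth.CohC3.lower I F (Nat.le_add_right n m) := by
    rw [← cancel_mono (Limits.kernel.ι (Formal.modPowπ I n F))]
    exact (Limits.kernel.lift_ι _ _ _).trans (Groth.CohC3.lower_ι I F _).symm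
  have e' : (Sheaf.H.map ((SheafOfModules.toSheaf _).map (Formal2.idealPowIncl I (Nat.le_add_right n m) F)) p) z =
      Groth.CohC3.hmap A (Groth.CohC3.lower I F (Nat.le_add_right n m)) p z := by
    rw [e]; rfl
  rw [SetLike.mem_coe, e']
  exact hc n m h z

end Groth.Agent.S0853
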