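import Groth.Statements.S0857
import Groth.Agent.SiteCohomology.ExtProduct

set_option autoImplicit false
universe u
open CategoryTheory
open CohSite

namespace Groth.Agent.S0857

open Opposite CategoryTheory.Limits in
/-- For a family of abelian sheaves F_i on a site and an object U, the map H^1(U, ∏ F_i) -> ∏ H^1(U,
F_i) induced by the projections is injective. (The degree-zero part of the published statement, that
sections of a product are the product of sections, is not restated.) -/
theorem result {C : Type u} [SmallCategory C] {J : GrothendieckTopology C}
    {I : Type u} (F : I → Sheaf J AddCommGrpCat.{u}) (U : C) :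
    Function.Injective (fun (x : CohSite.HU (∏ᶜ F) 1 U) (i : I) =>
      (((Sheaf.cohomologyPresheafFunctor J 1).map (Pi.π F i)).app (op U)).hom x) := by
  intro x y hxy
  refine sub_eq_zero.1 (Groth.SiteCohomology.injective_ext_one_product F _ (x - y) fun i => ?_)
  have h := congrFun hxy i
  simp only at h
  have e1 : ∀ (a b : CohSite.HU (∏ᶜ F) 1 U), (CategoryTheory.Abelian.Ext.postcomp (CategoryTheory.Abelian.Ext.mk₀ (CategoryTheory.Limits.Pi.π F i)) _ (add_zero 1)) (a - b) = _ - _ :=
    fun a b => map_sub _ a b
  exact (e1 x y).trans (sub_eq_zero.2 h)

end Groth.Agent.S0857
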