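import Groth.Statements.S0876
import Mathlib.Algebra.Homology.DerivedCategory.SingleTriangle
import Mathlib.CategoryTheory.Sites.MayerVietorisSquare
import Groth.Agent.Misc7.HDU.MV
import Mathlib.Algebra.Homology.ShortComplex.Ab

set_option autoImplicit false
universe u
open CategoryTheory
open CohSite

namespace Groth.Agent.S0876

theorem exact_of_elements {A B C : AddCommGrpCat.{u}} (f : A ⟶ B) (g : B ⟶ C)
    (h1 : ∀ x, g (f x) = 0) (h2 : ∀ y, g y = 0 → ∃ x, f x = y) :
    (ComposableArrows.mk₂ f g).Exact :=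
  ComposableArrows.exact₂_mk _ (AddCommGrpCat.ext h1) ((ShortComplex.ab_exact_iff _).2 h2)

open CategoryTheory.Limits in
/-- As a long exact sequence of cohomology groups rather than a triangle of complexes: let S be a
Mayer-Vietoris square of a site, with corners X₁ (playing the role of the intersection), X₂, X₃ and
X₄ (the union). For every object K of the derived category of abelian sheaves there are connecting
homomorphisms H^n(X₁, K) -> H^{n+1}(X₄, K) which together with the restriction maps (sum into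
H^n(X₂, K) ⊕ H^n(X₃, K), difference out of it) form a long exact sequence ... -> H^n(X₄, K) ->
H^n(X₂, K) ⊕ H^n(X₃, K) -> H^n(X₁, K) -> H^{n+1}(X₄, K) -> .... Here H^n(U, K) is the group of maps
from the free abelian sheaf on U to K[n]. -/
theorem result {C : Type u} [SmallCategory C] {J : GrothendieckTopology C}
    [HasWeakSheafify J (Type u)] [HasDerivedCategory.{u} (Sheaf J AddCommGrpCat.{u})]
    (S : J.MayerVietorisSquare) (K : DerivedCategory (Sheaf J AddCommGrpCat.{u})) :
    ∃ δ : ∀ n : ℤ, CohCx.HDU K n S.X₁ →+ CohCx.HDU K (n + 1) S.X₄,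
      ∀ n : ℤ,
        (ComposableArrows.mk₂
          (AddCommGrpCat.ofHom ((CohCx.HDUres K n S.f₂₄).prod (CohCx.HDUres K n S.f₃₄)))
          (AddCommGrpCat.ofHom ((CohCx.HDUres K n S.f₁₂).coprod (-(CohCx.HDUres K n S.f₁₃))))).Exact ∧
        (ComposableArrows.mk₂
          (AddCommGrpCat.ofHom ((CohCx.HDUres K n S.f₁₂).coprod (-(CohCx.HDUres K n S.f₁₃))))
          (AddCommGrpCat.ofHom (δ n))).Exact ∧
        (ComposableArrows.mk₂ (AddCommGrpCat.ofHom (δ n))
          (AddCommGrpCat.ofHom ((CohCx.HDUres K (n + 1) S.f₂₄).prod (CohCx.HDUres K (n + 1) S.f₃₄)))).Exact := by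
  let T := DerivedCategory (Sheaf J AddCommGrpCat.{u})
  let F := DerivedCategory.singleFunctor (Sheaf J AddCommGrpCat.{u}) 0
  let c := S.shortComplex_shortExact.singleδ
  have hT := S.shortComplex_shortExact.singleTriangle_distinguished
  let e := fun n : ℤ => ((shiftFunctorAdd' T n 1 (n + 1) rfl).app K).symm
  let δ : ∀ n : ℤ, CohCx.HDU K n S.X₁ →+ CohCx.HDU K (n + 1) S.X₄ := fun n =>
    ((Preadditive.leftComp _ c).comp (Preadditive.rightComp _ (e n).hom)).comp
      (shiftFunctor T (1 : ℤ)).mapAddHom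
  refine ⟨δ, fun n => ?_⟩
  obtain ⟨h1, h2, h3, h4, h5, h6⟩ := Groth.Misc7.HDU.mayerVietoris F
    (CohCx.freeSheafMap J S.f₁₂) (CohCx.freeSheafMap J S.f₁₃)
    (CohCx.freeSheafMap J S.f₂₄) (CohCx.freeSheafMap J S.f₃₄) c hT
    (K := (shiftFunctor T n).obj K)
  refine ⟨exact_of_elements _ _ (fun x => ?_) (fun y hy => ?_),
    exact_of_elements _ _ (fun x => ?_) (fun y hy => ?_),
    exact_of_elements _ _ (fun x => ?_) (fun y hy => ?_)⟩
  · exact h1 x
  · obtain ⟨a, b⟩ := y
    obtain ⟨w, hr, hs⟩ := h2 a b hy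
    exact ⟨w, Prod.ext hr hs⟩
  · obtain ⟨a, b⟩ := x
    exact ((Category.assoc _ _ _).symm.trans ((congrArg (· ≫ (e n).hom) (h3 a b)).trans zero_comp))
  · obtain ⟨a, b, hab⟩ := h4 y ((cancel_mono (e n).hom).1
      ((Category.assoc _ _ _).trans (hy.trans zero_comp.symm)))
    exact ⟨(a, b), hab⟩
  · refine Prod.ext ?_ ?_
    · exact ((congrArg (F.map _ ≫ ·) (Category.assoc _ _ _).symm).trans (Category.assoc _ _ _).symm).trans
        ((congrArg (· ≫ (e n).hom) (h5 x).1).trans zero_comp)
    · exact ((congrArg (F.map _ ≫ ·) (Category.assoc _ _ _).symm).trans (Category.assoc _ _ _).symm).trans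
        ((congrArg (· ≫ (e n).hom) (h5 x).2).trans zero_comp)
  · obtain ⟨x, hx⟩ := h6 (y ≫ (e n).inv)
      ((Category.assoc _ _ _).symm.trans ((congrArg (· ≫ (e n).inv) (congrArg Prod.fst hy)).trans zero_comp))
      ((Category.assoc _ _ _).symm.trans ((congrArg (· ≫ (e n).inv) (congrArg Prod.snd hy)).trans zero_comp))
    exact ⟨x, (Category.assoc _ _ _).symm.trans ((congrArg (· ≫ (e n).hom) hx).trans
      ((Category.assoc _ _ _).trans ((congrArg (y ≫ ·) (e n).inv_hom_id).trans (Category.comp_id _))))⟩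

end Groth.Agent.S0876
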