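import Groth.Statements.S0883
import Groth.Agent.Misc7.HDU.Push

set_option autoImplicit false
universe u
open CategoryTheory
open CohTop

namespace Groth.Agent.S0883

open TopologicalSpace CategoryTheory.Limits Opposite in
/-- Part (1) (abelian sheaves; the assertion about Rf_* K is not included): given a continuous map f : X
-> Y, a basis B of opens of Y and an object K of the derived category of abelian sheaves on X such
that H^i(f^{-1}V, K) = 0 for all i < 0 and V in B. Then H^i(f^{-1}V, K) = 0 for i < 0 and every open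
V of Y, and the presheaf V ↦ H^0(f^{-1}V, K) is a sheaf on Y. -/
theorem result {X Y : TopCat.{u}} (f : X ⟶ Y)
    [HasDerivedCategory.{u} (CohTop.Ab X)] (B : Set (Opens Y)) (hB : Opens.IsBasis B)
    (K : DerivedCategory (CohTop.Ab X))
    (h : ∀ V ∈ B, ∀ i : ℤ, i < 0 → Subsingleton (CohCx.HDU K i ((Opens.map f).obj V))) :
    (∀ (V : Opens Y) (i : ℤ), i < 0 → Subsingleton (CohCx.HDU K i ((Opens.map f).obj V))) ∧
    Presheaf.IsSheaf (Opens.grothendieckTopology Y) ((Opens.map f).op ⋙ CohCx.HDUPresheaf K 0) := by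
  obtain ⟨M, ⟨eM⟩⟩ : ∃ M, Nonempty (DerivedCategory.Q.obj M ≅ K) :=
    ⟨_, ⟨DerivedCategory.Q.objObjPreimageIso K⟩⟩
  obtain ⟨I, i, -, hi, hI, -⟩ := Groth.DerivedCoh.KInjRes.exists_resolution M
  let e : K ≅ DerivedCategory.Q.obj I := eM.symm ≪≫ asIso (DerivedCategory.Q.map i)
  haveI := Groth.SiteCohomology.preservesFiniteLimits_pull f
  haveI : (CohTop.pull f).Additive := (Groth.SiteCohomology.pullPushAdj f).left_adjoint_additive
  haveI : PreservesFiniteColimits (CohTop.pull f) :=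
    haveI := (Groth.SiteCohomology.pullPushAdj f).leftAdjoint_preservesColimits
    inferInstance
  let L : CochainComplex (CohTop.Ab Y) ℤ := ((CohTop.push f).mapHomologicalComplex (ComplexShape.up ℤ)).obj I
  haveI : L.IsKInjective :=
    Groth.Misc7.HDU.isKInjective_map_of_adjunction (Groth.SiteCohomology.pullPushAdj f) I
  let W : ((Opens X)ᵒᵖ ⥤ AddCommGrpCat.{u}) ⥤ ((Opens Y)ᵒᵖ ⥤ AddCommGrpCat.{u}) :=
    (Functor.whiskeringLeft _ _ _).obj (Opens.map f).op
  have hiso : ∀ n : ℤ, Nonempty ((Groth.Misc7.HDU.preZ L).homology n ≅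
      (Opens.map f).op ⋙ CohCx.HDUPresheaf K n) := fun n => by
    obtain ⟨a⟩ := Groth.Misc7.HDU.nonempty_homology_iso_HDUPresheaf I n
    let b : CohCx.HDUPresheaf (DerivedCategory.Q.obj I) n ≅ CohCx.HDUPresheaf K n :=
      Functor.isoWhiskerLeft _ (preadditiveYoneda.mapIso
        ((shiftFunctor (DerivedCategory (CohTop.Ab X)) n).mapIso e.symm))
    exact ⟨((Groth.Misc7.HDU.preZ I).sc n).mapHomologyIso W ≪≫ W.mapIso (a ≪≫ b)⟩
  have hsh : ∀ n : ℤ, n < 0 → IsZero (L.homology n) := fun n hn => by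
    obtain ⟨a⟩ := Groth.Misc7.HDU.nonempty_presheafToSheaf_homology_iso L n
    obtain ⟨b⟩ := hiso n
    refine IsZero.of_iso (Groth.Misc7.HDU.isZero_presheafToSheaf_obj _ fun U => ?_) a.symm
    refine ⟨⟨fun V _ => ∃ V' ∈ B, V ≤ V' ∧ V' ≤ U,
      fun {V V'} g hg a => ⟨hg.choose, hg.choose_spec.1, (leOfHom a).trans hg.choose_spec.2.1,
        hg.choose_spec.2.2⟩⟩, ?_, ?_⟩
    · intro x hx
      obtain ⟨V, hVB, hxV, hVU⟩ := Opens.isBasis_iff_nbhd.1 hB hx
      exact ⟨V, homOfLE hVU, ⟨V, hVB, le_rfl, hVU⟩, hxV⟩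
    · rintro V g ⟨V', hV', h1, h2⟩
      refine ⟨V', homOfLE h1, homOfLE h2, Subsingleton.elim _ _, ?_⟩
      haveI : Subsingleton (((Opens.map f).op ⋙ CohCx.HDUPresheaf K n).obj (op V') :
          AddCommGrpCat.{u}) := h V' hV' n hn
      exact (b.app (op V')).addCommGroupIsoToAddEquiv.toEquiv.subsingleton
  obtain ⟨h0, h1⟩ := Groth.Misc7.HDU.sections_of_kInjective L hsh
  obtain ⟨b⟩ := hiso 0
  refine ⟨fun V n hn => ?_, (Presheaf.isSheaf_of_iso_iff b).1 h1⟩
  obtain ⟨c⟩ := hiso n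
  exact AddCommGrpCat.subsingleton_of_isZero (((h0 n hn).of_iso c.symm).obj (op V))

end Groth.Agent.S0883
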