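import Groth.Statements.S0884
import Groth.Agent.CohTopBC.SpectralSoft

set_option autoImplicit false
universe u
open CategoryTheory
open CohTop
open scoped Topology

namespace Groth.Agent.S0884

open CategoryTheory CategoryTheory.Limits TopologicalSpace Opposite
open Groth.SiteCohomology Groth.Agent.CohTopBC
open Groth.Agent.CohDescent (gm gm_res gm_eq gm_map gm_surjective sect_ext tau tau_gm bijective_tau pb res_res pushGerm pushGerm_gm)

section Aux

variable {X Y : TopCat.{u}} [SpectralSpace X] [SpectralSpace Y] (f : X ⟶ Y) (hf : IsSpectralMap f) (y : Y)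

/-- The inverse image of the generalizations of the point. -/
abbrev preGen : Set X := {x : X | y ∈ closure {f x}}

lemma mem_of_gen {y z : Y} (h : y ∈ closure {z}) {N : Set Y} (hN : IsOpen N) (hy : y ∈ N) : z ∈ N := by
  obtain ⟨w, hwN, hw⟩ := mem_closure_iff.1 h N hN hy
  exact (Set.mem_singleton_iff.1 hw) ▸ hwN

lemma isQcInter_genPt : IsQcInter {z : Y | y ∈ closure {z}} := fun z hz => by
  obtain ⟨V, ⟨hVo, hVc⟩, hyV, hV⟩ := PrespectralSpace.isTopologicalBasis.exists_subset_of_mem_open
    (show y ∈ (closure {z})ᶜ from hz) isClosed_closure.isOpen_compl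
  exact ⟨V, hVo, hVc, fun w hw => mem_of_gen hw hVo hyV, fun h => hV h (subset_closure rfl)⟩

include hf in
lemma isQcInter_preGen : IsQcInter (preGen f y) := fun x hx => by
  obtain ⟨V, hVo, hVc, hsub, hfx⟩ := isQcInter_genPt y (f x) hx
  exact ⟨f ⁻¹' V, hVo.preimage f.hom.continuous, hf.isCompact_preimage_of_isOpen hVo hVc, fun z hz => hsub hz, hfx⟩

include hf in
lemma exists_nhd_le (Ω : Opens X) (hΩ : preGen f y ⊆ Ω) :
    ∃ V : Opens Y, y ∈ V ∧ (Opens.map f).obj V ≤ Ω := by
  let C : Set Y := f '' (Ω : Set X)ᶜ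
  have hC : IsClosed[constructibleTopology Y] C :=
    @IsCompact.isClosed Y (constructibleTopology Y) Groth.SpectralTopology.t2Space_ct _
      (@IsCompact.image X Y (constructibleTopology X) (constructibleTopology Y) _ f
        (Groth.SpectralTopology.isCompact_ct_of_isClosed_ct
          (Groth.SpectralTopology.isClosed_ct_of_isClosed Ω.2.isClosed_compl))
        (Groth.SpectralTopology.continuous_ct hf))
  obtain ⟨N, hNo, -, hsub, hd⟩ := exists_nhd_disjoint (isQcInter_genPt y) hC
    (Set.eq_empty_iff_forall_notMem.2 fun z ⟨hz, x, hx, e⟩ => hx (hΩ (show y ∈ closure {f x} from e ▸ hz)))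
  refine ⟨⟨N, hNo⟩, hsub (subset_closure rfl : y ∈ closure {y}), fun x hx => by_contra fun h => ?_⟩
  exact (Set.eq_empty_iff_forall_notMem.1 hd) (f x) ⟨hx, x, h, rfl⟩

/-- The inclusion of the inverse image of the generalizations. -/
abbrev incl : TopCat.of (preGen f y) ⟶ X := TopCat.ofHom ⟨Subtype.val, continuous_subtype_val⟩

lemma top_le (U : Opens Y) (hy : y ∈ U) :
    (⊤ : Opens (TopCat.of (preGen f y))) ≤ (Opens.map (incl f y)).obj ((Opens.map f).obj U) :=
  fun z _ => mem_of_gen z.2 U.2 hy

/-- From the stalk of the direct image to sections along the subset. -/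
noncomputable def stalkRes (G : CohTop.Ab X) :
    (sfib y).obj ((CohTop.push f).obj G) ⟶ ((CohTop.pull (incl f y)).obj G).obj.obj (op ⊤) :=
  (Opens.pointGrothendieckTopology y).presheafFiberDesc
    (fun U hy => pb (incl f y) G ((Opens.map f).obj U) ≫
      ((CohTop.pull (incl f y)).obj G).obj.map (homOfLE (top_le f y U hy.down.down)).op)
    (fun {U V} k hy => by
      refine ConcreteCategory.hom_ext _ _ fun s => ?_
      refine (congrArg (((CohTop.pull (incl f y)).obj G).obj.map _)
        (NatTrans.naturality_apply ((pullPushAdj (incl f y)).unit.app G).hom ((Opens.map f).map k).op s)).trans ?_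
      exact res_res _ _ _ _ _)

lemma gm_stalkRes (G : CohTop.Ab X) (U : Opens Y) (hy : y ∈ U) (s : G.obj.obj (op ((Opens.map f).obj U)))
    (z : preGen f y) :
    gm ((CohTop.pull (incl f y)).obj G) z ⊤ trivial (stalkRes f y G (gm ((CohTop.push f).obj G) y U hy s)) =
      tau (incl f y) (rfl : incl f y z = z.1) G (gm G z.1 ((Opens.map f).obj U) (mem_of_gen z.2 U.2 hy) s) := by
  have e := ConcreteCategory.congr_hom (show gm ((CohTop.push f).obj G) y U hy ≫ stalkRes f y G = _ by
    exact colimit.ι_desc _ _) s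
  refine (congrArg (gm ((CohTop.pull (incl f y)).obj G) z ⊤ trivial) e).trans ?_
  exact (gm_res _ _ _ _ _).trans (tau_gm (incl f y) G rfl _ _ s).symm

include hf in
lemma bijective_stalkRes (G : CohTop.Ab X) : Function.Bijective (stalkRes f y G) := by
  refine ⟨fun a b h => ?_, fun t => ?_⟩
  · obtain ⟨U, hU, s, rfl⟩ := gm_surjective _ y a
    obtain ⟨U', hU', s', rfl⟩ := gm_surjective _ y b
    let A : Opens X := ⟨_, isOpen_gm_eq G (U := (Opens.map f).obj U) (V := (Opens.map f).obj U') s s'⟩
    obtain ⟨V, hyV, hVA⟩ := exists_nhd_le f hf y A fun z hz => by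
      have e := congrArg (gm ((CohTop.pull (incl f y)).obj G) ⟨z, hz⟩ ⊤ trivial) h
      rw [gm_stalkRes, gm_stalkRes] at e
      exact ⟨mem_of_gen hz U.2 hU, mem_of_gen hz U'.2 hU', (bijective_tau (incl f y) G rfl).1 e⟩
    let W := V ⊓ (U ⊓ U')
    have hW₁ : W ≤ U := inf_le_right.trans inf_le_left
    have hW₂ : W ≤ U' := inf_le_right.trans inf_le_right
    rw [← gm_res _ y hW₁ ⟨hyV, hU, hU'⟩ s, ← gm_res _ y hW₂ ⟨hyV, hU, hU'⟩ s']
    refine congrArg _ (sect_ext (G := G) (W := (Opens.map f).obj W) _ _ fun z hz => ?_)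
    obtain ⟨_, _, e⟩ := hVA (show z ∈ (Opens.map f).obj V from hz.1)
    exact (gm_res G z ((Opens.map f).map (homOfLE hW₁)).le hz s).trans
      (e.trans (gm_res G z ((Opens.map f).map (homOfLE hW₂)).le hz s').symm)
  · obtain ⟨b, hb, hbt⟩ := exists_locRep_down (i := incl f y) Topology.IsEmbedding.subtypeVal G
      (A := Set.univ) (fun z _ => gm ((CohTop.pull (incl f y)).obj G) z ⊤ trivial t)
      (fun z _ => ⟨⊤, t, trivial, fun _ _ _ => rfl⟩)
    have hsub : preGen f y ∩ (⊤ : Opens X) ⊆ incl f y '' Set.univ := fun x hx => ⟨⟨x, hx.1⟩, trivial, rfl⟩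
    have hK := isQcInter_preGen f hf y
    have hc : IsCompact (preGen f y ∩ (⊤ : Opens X) : Set X) := by
      rw [show ((⊤ : Opens X) : Set X) = Set.univ from rfl, Set.inter_univ]
      exact Groth.SpectralTopology.isCompact_of_isClosed_ct (isClosed_ct_of_isQcInter hK)
    obtain ⟨U, hU, s, hs⟩ := exists_extend_qcInter hK G ⊤ hc _ (locRep_mono hb hsub)
    obtain ⟨V, hyV, hVU⟩ := exists_nhd_le f hf y U fun z hz => hU ⟨hz, trivial⟩
    refine ⟨gm ((CohTop.push f).obj G) y V hyV (G.obj.map (homOfLE hVU).op s), sect_ext _ _ fun z _ => ?_⟩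
    rw [gm_stalkRes]
    exact (congrArg _ ((gm_res G z.1 _ _ s).trans (hs z.1 ⟨z.2, trivial⟩))).trans (hbt z trivial)

end Aux

open TopologicalSpace in
/-- Let f : X -> Y be a spectral map of spectral spaces, y a point of Y, E ⊆ Y the set of points
specializing to y, and F an abelian sheaf on X. Then the stalk (R^p f_* F)_y is isomorphic to
H^p(f^{-1}(E), F|_{f^{-1}(E)}), the cohomology of the pullback of F to the subspace f^{-1}(E). -/
theorem result {X Y : TopCat.{u}} [SpectralSpace X] [SpectralSpace Y]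
    (f : X ⟶ Y) (hf : IsSpectralMap f) (y : Y) (F : CohTop.Ab X) (p : ℕ) :
    Nonempty (CohTop.stalk ((CohTop.Rpush f p).obj F) y ≃+
      CohTop.H ((CohTop.pull (TopCat.ofHom ⟨Subtype.val, continuous_subtype_val⟩ :
          TopCat.of {x : X | y ∈ closure {f x}} ⟶ X)).obj F) p) := by
  haveI : SpectralSpace (TopCat.of (preGen f y)) :=
    Groth.SpectralTopology.spectralSpace_of_isClosed_ct (isClosed_ct_of_isQcInter (isQcInter_preGen f hf y))
  haveI : (sfib y).Additive := Functor.additive_of_preserves_binary_products _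
  haveI : (CohTop.pull (incl f y)).Additive := additive_inverseImage _
  haveI : PreservesFiniteColimits (CohTop.pull (incl f y)) := preservesFiniteColimits_pull _
  haveI : PreservesFiniteLimits (CohTop.pull (incl f y)) := preservesFiniteLimits_pull _
  obtain ⟨e₁⟩ := nonempty_rightDerived_comp_exact (CohTop.push f) (sfib y) (CohTop.push f ⋙ sfib y) (Iso.refl _) F p
  obtain ⟨e₂⟩ := nonempty_rightDerived_sections (CohTop.pull (incl f y))
    (fun I hI n => by
      haveI := isFlasque_of_injective I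
      refine subsingleton_ext_free_of_qcSoft n _ (isQcSoft_pull_flasque (incl f y) Topology.IsEmbedding.subtypeVal ?_ I)
      rw [show Set.range (incl f y) = preGen f y from Subtype.range_coe]
      exact isQcInter_preGen f hf y)
    (CohTop.push f ⋙ sfib y)
    (fun G => haveI := (ConcreteCategory.isIso_iff_bijective _).2 (bijective_stalkRes f hf y G)
      asIso (stalkRes f y G))
    (fun {G G'} φ a => by
      obtain ⟨U, hU, s, rfl⟩ := gm_surjective ((CohTop.push f).obj G) y a
      refine sect_ext _ _ fun z _ => ?_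
      change gm _ z ⊤ _ (stalkRes f y G' ((sfib y).map ((CohTop.push f).map φ) (gm _ y U hU s))) =
        gm _ z ⊤ _ (((CohTop.pull (incl f y)).map φ).hom.app (op ⊤) (stalkRes f y G (gm _ y U hU s)))
      rw [gm_map, gm_stalkRes]
      refine Eq.trans ?_ (gm_map _ _ _ _ _)
      rw [gm_stalkRes]
      refine (tau_gm (incl f y) G' rfl _ _ _).trans (Eq.trans ?_ (congrArg _ (tau_gm (incl f y) G rfl _ _ s)).symm)
      refine Eq.trans ?_ (gm_map _ _ _ _ _).symm
      exact congrArg _ (ConcreteCategory.congr_hom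
        (congrArg (fun k => k.hom.app (op ((Opens.map f).obj U))) ((pullPushAdj (incl f y)).unit.naturality φ)) s))
    F p
  obtain ⟨e'⟩ := nonempty_sfib_iso_stalk ((CohTop.Rpush f p).obj F) y
  exact ⟨(e'.symm ≪≫ e₁.symm ≪≫ e₂).addCommGroupIsoToAddEquiv⟩

end Groth.Agent.S0884
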