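import Groth.Statements.S0891
import Groth.Agent.Misc6.BidualLocFree
import Groth.Agent.CohTwo.LocFreeExt

set_option autoImplicit false
universe u
open CategoryTheory CategoryTheory.Limits AlgebraicGeometry
open Coh

namespace Groth.Agent.S0891

open AlgebraicGeometry in
/-- On a scheme X, let I be an injective 𝒪_X-module and E a finite locally free 𝒪_X-module. Then E ⊗ I
is an injective 𝒪_X-module. (The published statement is for ringed spaces; it is stated here for
schemes.) -/
theorem result {X : Scheme.{u}} (I E : X.Modules) [Injective I]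
    (hE : FlatMod.IsFinLocFree E) : Injective (CohB1.tensorMod E I) := by
  let E' := Groth.CohTwo.LocFreeDual.dual E
  have hE' : FlatMod.IsFinLocFree E' :=
    Groth.LocFree.isFinLocFree_homSh hE (Groth.LocFree.isFinLocFree_unit X)
  haveI := Groth.CohTwo.LocFreeExt.hasSheafHom E'
  haveI : IsIso (RefHull.bidualMap E) := Groth.Misc6.BidualLocFree.isReflexive_of_isFinLocFree hE
  have e : E ≅ Groth.CohTwo.LocFreeDual.dual E' := asIso (RefHull.bidualMap E)
  have adj := Groth.CohTwo.LocFreeDual.dualAdj hE'
  haveI : PreservesFiniteLimits (Groth.CohTwo.LocFreeExt.tR E') :=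
    (Groth.CohTwo.LocFreeExt.preservesFinite_tR hE').1
  haveI : PreservesFiniteLimits (Groth.CohTwo.SheafHomIso.tF E') :=
    preservesFiniteLimits_of_natIso (Groth.CohTwo.LocFreeExt.flipIso E')
  exact Injective.of_iso ((((DCoh.tensorBi (X := X)).mapIso e).app I).symm)
    (adj.map_injective I inferInstance)

end Groth.Agent.S0891
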