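import Groth.Statements.S0896
import Groth.Agent.HTopHyper.Hyper.FiniteRefine
import Mathlib.CategoryTheory.Limits.Constructions.Over.Basic

set_option autoImplicit false
universe u
open CategoryTheory
open Hyper

namespace Groth.Agent.S0896

open Opposite CategoryTheory.Limits in
/-- Let C be a site with fibre products and B a class of objects such that (2) every object X has a
finite covering {U_i -> X} with all U_i in B, and (3) adding one more morphism U -> X with U in B to
such a finite covering again gives a covering. Then every object X has a hypercovering K such that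
each K_n is a finite family of objects of B over X. -/
theorem result {C : Type u} [SmallCategory C] [HasPullbacks C]
    (J : GrothendieckTopology C) (B : Set C)
    (h2 : ∀ X : C, ∃ (ι : Type u) (_ : Finite ι) (U : ι → C) (f : ∀ i, U i ⟶ X),
      Sieve.ofArrows U f ∈ J X ∧ ∀ i, U i ∈ B)
    (h3 : ∀ (X : C) (ι : Type u) [Finite ι] (U : ι → C) (f : ∀ i, U i ⟶ X),
      Sieve.ofArrows U f ∈ J X → (∀ i, U i ∈ B) → ∀ (V : C) (g : V ⟶ X), V ∈ B →
      Sieve.ofArrows (Option.elim' V U) (fun o => Option.rec g f o) ∈ J X)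
    (X : C) [∀ (n : ℕ) (F : (SimplexCategory.Truncated n)ᵒᵖ ⥤ Limits.FormalCoproduct.{u} (Over X)),
      (SimplexCategory.Truncated.inclusion n).op.HasRightKanExtension F] :
    ∃ K : SimplicialObject (FormalCoproduct.{u} (Over X)), Hyper.IsHypercovering J X K ∧
      ∀ n : ℕ, Finite (K.obj (op (SimplexCategory.mk n))).I ∧
        ∀ i, ((K.obj (op (SimplexCategory.mk n))).obj i).left ∈ B := by
  have : HasFiniteLimits (Over X) := hasFiniteLimits_of_hasTerminal_and_pullbacks
  let E := (SimplicialObject.const ((Over X)ᵒᵖ ⥤ Type u)).obj (Groth.HyperLib.ptPresheaf (C := Over X))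
  obtain ⟨L, hL, hfin⟩ := Groth.HyperLib.exists_finite_fillable
    (J := J.over X) (Groth.HyperLib.resObj E fun Y : Over X => Y.left ∈ B) Over.mkIdTerminal
    (fun Y : Over X => Y.left ∈ B) (fun W => by
      obtain ⟨ι, hι, U, f, hf, hU⟩ := h2 W.left
      refine ⟨ι, hι, fun a => Over.mk (f a ≫ W.hom), fun a => Over.homMk (f a), ?_, hU⟩
      change Sieve.overEquiv W _ ∈ J W.left
      refine J.superset_covering ?_ hf
      rintro Y g ⟨Z, q, _, ⟨a⟩, rfl⟩
      rw [Sieve.overEquiv_iff]
      exact ⟨_, (Over.homMk q (by simp) : Over.mk ((q ≫ f a) ≫ W.hom) ⟶ Over.mk (f a ≫ W.hom)), _,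
        Presieve.ofArrows.mk (f := fun a => (Over.homMk (f a) : Over.mk (f a ≫ W.hom) ⟶ W)) a,
        Over.OverMorphism.ext rfl⟩)
    (fun n D => D.mem _ _)
    (fun V hV => ⟨(Groth.HyperLib.exists_resObj_point (E := E) hV PUnit.unit).choose⟩)
    (fun k V hV x hx => by
      obtain ⟨b, hb, -⟩ := Groth.HyperLib.exists_resObj_fill (E := E) hV x hx PUnit.unit fun i => rfl
      exact ⟨b, hb⟩)
  exact ⟨L, hL.isHypercovering, hfin⟩

end Groth.Agent.S0896
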