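import Groth.Statements.S0907
import Groth.Agent.HTopHyper.Hyper.Existence

set_option autoImplicit false
universe u
open CategoryTheory
open Hyper

namespace Groth.Agent.S0907

open TopologicalSpace Opposite CategoryTheory.Limits in
/-- Phrased in the site of opens of X, with X the top open: let B be a basis for the topology of X. Then
there is a hypercovering K of X such that every open occurring in every K_n belongs to B. -/
theorem result {X : TopCat.{u}} (B : Set (Opens X)) (hB : Opens.IsBasis B)
    [∀ (n : ℕ) (F : (SimplexCategory.Truncated n)ᵒᵖ ⥤ Limits.FormalCoproduct.{u} (Over (⊤ : Opens X))),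
      (SimplexCategory.Truncated.inclusion n).op.HasRightKanExtension F] :
    ∃ K : SimplicialObject (FormalCoproduct.{u} (Over (⊤ : Opens X))),
      Hyper.IsHypercovering (Opens.grothendieckTopology X) ⊤ K ∧
      ∀ (n : ℕ) (i : (K.obj (op (SimplexCategory.mk n))).I),
        ((K.obj (op (SimplexCategory.mk n))).obj i).left ∈ B := by
  obtain ⟨L, hL, hB'⟩ := Groth.HyperLib.exists_isFillable
    (Groth.HyperLib.covers_over (Opens.grothendieckTopology X) B ⊤ fun U x hx => by
      obtain ⟨V, hVB, hxV, hVU⟩ := Opens.isBasis_iff_nbhd.1 hB hx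
      exact ⟨V, homOfLE hVU, ⟨V, 𝟙 V, homOfLE hVU, hVB, Category.id_comp _⟩, hxV⟩)
  exact ⟨L, hL.isHypercovering, hB'⟩

end Groth.Agent.S0907
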