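import Groth.Statements.S0909
import Mathlib
import Groth.Agent.SitesTopoi.Deligne.Main

set_option autoImplicit false
universe u
open CategoryTheory
open CohDer

namespace Groth.Agent.S0909

open CategoryTheory.Limits in
/-- Let A be a small abelian category, made into a site by declaring the single epimorphisms to be
coverings (Mathlib's regular topology; the regularity instance is assumed). Then the functor X ↦
h_X, viewed in abelian sheaves (here: additive Yoneda followed by sheafification, which does not
change h_X since representables are sheaves), is fully faithful and exact, and the site has enough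
points (a small conservative family of points, with fibre functors valued in Type u). -/
theorem result {A : Type u} [SmallCategory A] [Abelian A] [Preregular A] :
    (preadditiveYoneda ⋙ presheafToSheaf (regularTopology A) AddCommGrpCat.{u}).Full ∧
    (preadditiveYoneda ⋙ presheafToSheaf (regularTopology A) AddCommGrpCat.{u}).Faithful ∧
    PreservesFiniteLimits (preadditiveYoneda ⋙ presheafToSheaf (regularTopology A) AddCommGrpCat.{u}) ∧
    PreservesFiniteColimits (preadditiveYoneda ⋙ presheafToSheaf (regularTopology A) AddCommGrpCat.{u}) ∧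
    GrothendieckTopology.HasEnoughPoints.{u, u, u} (regularTopology A) := by
  let J := regularTopology A
  let P := presheafToSheaf J AddCommGrpCat.{u}
  have hsheaf : ∀ X : A, Presheaf.IsSheaf J ((preadditiveYoneda (C := A)).obj X) := fun X => by
    rw [Presheaf.isSheaf_iff_isSheaf_forget J _ (forget AddCommGrpCat.{u}), isSheaf_iff_isSheaf_of_type]
    exact regularTopology.isSheaf_yoneda_obj X
  let G : A ⥤ Sheaf J AddCommGrpCat.{u} :=
    ObjectProperty.lift _ (preadditiveYoneda (C := A)) hsheaf
  let eG : G ⋙ sheafToPresheaf J AddCommGrpCat.{u} ≅ preadditiveYoneda := Iso.refl _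
  let eL : preadditiveYoneda ⋙ P ≅ G :=
    Functor.isoWhiskerRight eG.symm P ≪≫ Functor.associator _ _ _ ≪≫
      Functor.isoWhiskerLeft G (asIso (sheafificationAdjunction J AddCommGrpCat.{u}).counit) ≪≫
      G.rightUnitor
  haveI : (G ⋙ sheafToPresheaf J AddCommGrpCat.{u}).Full := Functor.Full.of_iso eG.symm
  haveI : (G ⋙ sheafToPresheaf J AddCommGrpCat.{u}).Faithful := Functor.Faithful.of_iso eG.symm
  haveI : G.Full := Functor.Full.of_comp_faithful G (sheafToPresheaf J AddCommGrpCat.{u})
  haveI : G.Faithful := Functor.Faithful.of_comp G (sheafToPresheaf J AddCommGrpCat.{u})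
  haveI : PreservesFiniteLimits (preadditiveYoneda (C := A)) := ⟨fun K _ _ => by
    refine preservesLimitsOfShape_of_evaluation _ _ fun X => ?_
    exact inferInstanceAs (PreservesLimitsOfShape K (preadditiveCoyoneda.obj X))⟩
  haveI hlim : PreservesFiniteLimits (preadditiveYoneda ⋙ P) := comp_preservesFiniteLimits _ _
  haveI : Functor.PreservesZeroMorphisms (preadditiveYoneda ⋙ P) :=
    Functor.preservesZeroMorphisms_of_preserves_terminal_object
  haveI : PreservesBinaryBiproducts (preadditiveYoneda ⋙ P) :=
    preservesBinaryBiproducts_of_preservesBinaryProducts _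
  haveI : (preadditiveYoneda ⋙ P).Additive := Functor.additive_of_preservesBinaryBiproducts _
  refine ⟨Functor.Full.of_iso eL.symm, Functor.Faithful.of_iso eL.symm, hlim, ?_, ?_⟩
  · rw [Functor.preservesFiniteColimits_iff_forall_exact_map_and_epi]
    intro S hS
    refine ⟨((Functor.preservesFiniteLimits_iff_forall_exact_map_and_mono _).1 hlim S hS).1, ?_⟩
    haveI : Epi S.g := hS.epi_g
    haveI : Sheaf.IsLocallySurjective (G.map S.g) := by
      refine (regularTopology.isLocallySurjective_iff AddCommGrpCat.{u} _).2 fun X y => ?_
      let y' : X ⟶ S.X₃ := y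
      haveI : Epi (pullback.fst y' S.g) := Abelian.epi_pullback_of_epi_g y' S.g
      haveI := IsRegularEpiCategory.regularEpiOfEpi (pullback.fst y' S.g)
      exact ⟨pullback y' S.g, pullback.fst y' S.g, inferInstance, pullback.snd y' S.g,
        (pullback.condition (f := y') (g := S.g)).symm⟩
    have h : Epi (G.map S.g) := inferInstance
    rw [← NatIso.naturality_2 eL S.g]
    infer_instance
  · refine Groth.SitesTopoi.Deligne.hasEnoughPoints fun U R hR => ?_
    obtain ⟨Y, π, hπ, hRπ⟩ := (regularTopology.mem_sieves_iff_hasEffectiveEpi R).1 hR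
    exact ⟨1, fun _ => Y, fun _ => π, fun _ => hRπ,
      regularTopology.mem_sieves_of_hasEffectiveEpi _ ⟨Y, π, hπ, Sieve.ofArrows_mk _ (fun _ : Fin 1 => π) 0⟩⟩

end Groth.Agent.S0909
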