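import Groth.Statements.S0919
import Mathlib.CategoryTheory.Adjunction.AdjointFunctorTheorems
import Mathlib.CategoryTheory.Abelian.Subobject

set_option autoImplicit false
universe v u
open CategoryTheory
open CohDer

namespace Groth.Agent.S0919

open CategoryTheory.Limits in
/-- Let A be a Grothendieck abelian category and F a contravariant functor from A to sets (a functor on
the opposite category). Then F is representable if and only if F turns all small colimits of A into
limits, i.e. preserves small limits as a functor on the opposite category. -/
theorem result {A : Type u} [Category.{v} A] [Abelian A]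
    [IsGrothendieckAbelian.{v} A] (F : Aᵒᵖ ⥤ Type v) :
    F.IsRepresentable ↔ PreservesLimitsOfSize.{v, v} F := by
  constructor
  · intro h
    exact preservesLimits_of_natIso F.representableBy.toIso
  · intro h
    haveI : HasLimits Aᵒᵖ := inferInstance
    obtain ⟨G, hG⟩ := (inferInstance : HasSeparator A).hasSeparator
    haveI : WellPowered.{v} Aᵒᵖ := inferInstance
    haveI := isRightAdjoint_of_preservesLimits_of_isCoseparating (D := Aᵒᵖ)
      ((isCoseparator_op_iff G).2 hG) F
    let L := F.leftAdjoint
    let adj := Adjunction.ofIsRightAdjoint F
    exact ⟨(L.obj PUnit).unop, ⟨{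
      homEquiv := fun {X} => (Equiv.mk Quiver.Hom.op Quiver.Hom.unop (fun _ => rfl) (fun _ => rfl)).trans
        ((adj.homEquiv PUnit (Opposite.op X)).trans
          { toFun := fun f => f PUnit.unit
            invFun := fun x => TypeCat.ofHom fun _ => x
            left_inv := fun f => by ext ⟨⟩; rfl
            right_inv := fun x => rfl })
      homEquiv_comp := fun {X X'} f g => by
        exact ConcreteCategory.congr_hom (adj.homEquiv_naturality_right g.op f.op) PUnit.unit }⟩⟩

end Groth.Agent.S0919
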