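import Groth.Statements.S0930
import Groth.Agent.S12541
import Groth.Agent.SiteCohomology.Flasque

set_option autoImplicit false
universe u
open CategoryTheory
attribute [local instance] HasDerivedCategory.standard
open CohTop

namespace Groth.Agent.S0930

/-- For continuous maps f : X -> Y and g : Y -> Z, the composite of the right derived functors Rf_* :
D^+(X) -> D^+(Y) and Rg_* : D^+(Y) -> D^+(Z) is isomorphic to R(g ∘ f)_* (existence of an
isomorphism of functors between bounded below derived categories). -/
theorem result {X Y Z : TopCat.{u}} (f : X ⟶ Y) (g : Y ⟶ Z) :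
    Nonempty ((CohTop.push f).rightDerivedFunctorPlus ⋙ (CohTop.push g).rightDerivedFunctorPlus ≅
      (CohTop.push (f ≫ g)).rightDerivedFunctorPlus) := by
  haveI : CategoryTheory.Limits.PreservesFiniteLimits (CohTop.push f) :=
    ⟨fun _ _ _ => (TopCat.Sheaf.pullbackPushforwardAdjunction AddCommGrpCat.{u} f).rightAdjoint_preservesLimits.preservesLimitsOfShape⟩
  haveI : CategoryTheory.Limits.PreservesFiniteLimits (CohTop.push g) :=
    ⟨fun _ _ _ => (TopCat.Sheaf.pullbackPushforwardAdjunction AddCommGrpCat.{u} g).rightAdjoint_preservesLimits.preservesLimitsOfShape⟩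
  have h := Groth.Agent.S12541.result (CohTop.push f) (CohTop.push g) fun I hI => by
    haveI := Groth.SiteCohomology.injective_push (hI := hI) I f
    refine (Groth.Agent.RPlusBase.isIso_unit_single_iff (CohTop.push g) _).2 ⟨inferInstance, fun i hi => ?_⟩
    obtain ⟨j, rfl⟩ := Nat.exists_eq_succ_of_ne_zero hi.ne'
    exact Functor.isZero_rightDerived_obj_injective_succ _ _ _
  let e : CohTop.push f ⋙ CohTop.push g ≅ CohTop.push (f ≫ g) := NatIso.ofComponents fun _ => Iso.refl _
  exact ⟨@Functor.rightDerivedNatIso _ _ _ _ _ _ _ _ _ _ _ _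
    (CohTop.push (f ≫ g)).rightDerivedFunctorPlusUnit (HomotopyCategory.Plus.quasiIso _) _ h _
    (Functor.isoWhiskerRight ((Functor.mapHomotopyCategoryPlusCompIso (Iso.refl (CohTop.push f ⋙ CohTop.push g))).symm ≪≫
      Functor.mapHomotopyCategoryPlusCompIso e) DerivedCategory.Plus.Qh)⟩

end Groth.Agent.S0930
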