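import Groth.Statements.S0935
import Groth.Agent.Misc7.SchemePush.LeftAdj
import Groth.Agent.DAlg.RFTriangle

set_option autoImplicit false
universe u
open CategoryTheory
attribute [local instance] HasDerivedCategory.standard
open DCoh

namespace Groth.Agent.S0935

open AlgebraicGeometry CategoryTheory.Limits in
/-- Let f : X → Y be a morphism of schemes and (K_n)_{n ≥ 0} an inverse system in D(O_X) with derived
limit L. Then Rf_*L is a derived limit of the system (Rf_*K_n). Here Rf_* is the total right derived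
functor of f_* under its existence binder, and the two countable products ∏ K_n and ∏ Rf_*K_n are
assumed to exist. (The published statement is for morphisms of ringed spaces; stated here for
schemes.) -/
theorem result {X Y : Scheme.{u}} (f : X ⟶ Y) [DCoh.HasRpush f]
    (K : ℕ → DCoh.D X) (t : ∀ n, K (n + 1) ⟶ K n) [HasProduct K] [HasProduct fun n => (DCoh.Rpush f).obj (K n)]
    (L : DCoh.D X) (hL : DCoh.IsRlim K t L) :
    DCoh.IsRlim (fun n => (DCoh.Rpush f).obj (K n)) (fun n => (DCoh.Rpush f).map (t n)) ((DCoh.Rpush f).obj L) := by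
  obtain ⟨a, c, hc⟩ := hL
  obtain ⟨c', hc'⟩ := Groth.DAlg.RFTriangle.exists_distinguished (Scheme.Modules.pushforward f) (DCoh.Rpush f)
    ((DCoh.pushKh f).totalRightDerivedUnit DerivedCategory.Qh
      (HomotopyCategory.quasiIso X.Modules (ComplexShape.up ℤ))) _ hc
  have := Groth.Misc7.SchemePush.isRightAdjoint_Rpush f
  let R := DCoh.Rpush f
  let adj := Adjunction.ofIsRightAdjoint R
  letI := adj.rightAdjoint_preservesLimits
  haveI : R.Additive := by
    haveI : PreservesFiniteProducts R := ⟨fun n => inferInstance⟩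
    exact Functor.additive_of_preserves_binary_products R
  let p : R.obj (∏ᶜ K) ≅ ∏ᶜ fun n => R.obj (K n) := PreservesProduct.iso R K
  have hp : ∀ n, p.hom ≫ Pi.π (fun n => R.obj (K n)) n = R.map (Pi.π K n) := fun n => by
    simp [p]
  refine ⟨R.map a ≫ p.hom, p.inv ≫ c', Pretriangulated.isomorphic_distinguished _ hc' _
    (Pretriangulated.Triangle.isoMk _ _ (Iso.refl _) p.symm p.symm ?_ ?_ ?_)⟩
  · change (R.map a ≫ p.hom) ≫ p.inv = 𝟙 _ ≫ R.map a
    rw [Category.id_comp, Category.assoc, Iso.hom_inv_id, Category.comp_id]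
  · change Pi.lift _ ≫ p.inv = p.inv ≫ R.map (Pi.lift fun n => Pi.π K n - Pi.π K (n + 1) ≫ t n)
    rw [Iso.comp_inv_eq, Category.assoc, Iso.eq_inv_comp]
    refine Limits.Pi.hom_ext _ _ fun n => ?_
    rw [Category.assoc, Category.assoc, Pi.lift_π, hp, Preadditive.comp_sub, hp, reassoc_of% (hp (n + 1)),
      ← Functor.map_comp, ← Functor.map_comp, Pi.lift_π, Functor.map_sub]
  · change (p.inv ≫ c') ≫ (shiftFunctor _ (1 : ℤ)).map (𝟙 _) = p.inv ≫ c'
    rw [CategoryTheory.Functor.map_id]
    exact Category.comp_id _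

end Groth.Agent.S0935
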