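import Groth.Statements.S0938
import Groth.Agent.LocFree.Basic
import Groth.Agent.Misc15.RankLe
import Mathlib.CategoryTheory.Idempotents.Basic

set_option autoImplicit false
universe u
open CategoryTheory
open Coh
open AlgebraicGeometry CategoryTheory.Limits

namespace Groth.Agent.S0938

open AlgebraicGeometry CategoryTheory.Limits in
open Groth.PicAux in
/-- A map out of a free module with prescribed values on the basis, and uniqueness. -/
theorem exists_unique_hom {X : Scheme.{u}} (n : ℕ) :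
    ∃ s : Fin n → Γ(FlatMod.freeMod X n, ⊤), Basis' (FlatMod.freeMod X n) ⊤ s ∧
      ∀ (N : X.Modules) (m : Fin n → Γ(N, ⊤)),
        (∃ h : FlatMod.freeMod X n ⟶ N, ∀ i, h.app ⊤ (s i) = m i) ∧
        ∀ h h' : FlatMod.freeMod X n ⟶ N, (∀ i, h.app ⊤ (s i) = h'.app ⊤ (s i)) → h = h' := by
  obtain ⟨d⟩ := exists_split_free (X := X) n
  refine ⟨_, d.basis, fun N m => ⟨⟨∑ j, d.p j ≫ homOfSection (m j), fun i => ?_⟩, fun h h' e => ?_⟩⟩
  · have hd : d.s i ≫ (∑ j, d.p j ≫ homOfSection (m j)) = homOfSection (m i) := by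
      rw [Preadditive.comp_sum, Finset.sum_eq_single i]
      · rw [← Category.assoc, d.diag, Category.id_comp]
      · intro j _ hj
        rw [← Category.assoc, d.off i j (Ne.symm hj), zero_comp]
      · simp
    exact (congr(($hd).app ⊤ (oneSec X ⊤))).trans (homOfSection_one _)
  · have : ∀ i, d.s i ≫ h = d.s i ≫ h' := fun i => hom_structure_ext (e i)
    rw [← Category.id_comp h, ← Category.id_comp h', ← d.total, Preadditive.sum_comp, Preadditive.sum_comp]
    simp only [Category.assoc, this]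

/-- For a scheme X with R = Γ(X, O_X), the full subcategory of O_X-modules which are retracts of a
finite free O_X-module is equivalent to the full subcategory of R-modules which are finite and
projective (existence of an equivalence of categories). The published statement is for ringed
spaces; stated here for schemes. -/
theorem result {X : Scheme.{u}} :
    Nonempty ((ObjectProperty.FullSubcategory fun M : X.Modules =>
        ∃ (n : ℕ) (i : M ⟶ FlatMod.freeMod X n) (r : FlatMod.freeMod X n ⟶ M), i ≫ r = 𝟙 M) ≌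
      (ObjectProperty.FullSubcategory fun N : ModuleCat.{u} (Γ(X, ⊤)) =>
        Module.Finite (Γ(X, ⊤)) N ∧ Module.Projective (Γ(X, ⊤)) N)) := by
  let Γf := Groth.Misc15.sectionsFunctor X ⊤
  let P : ObjectProperty X.Modules := fun M =>
    ∃ (n : ℕ) (i : M ⟶ FlatMod.freeMod X n) (r : FlatMod.freeMod X n ⟶ M), i ≫ r = 𝟙 M
  let Q : ObjectProperty (ModuleCat.{u} Γ(X, ⊤)) := fun N =>
    Module.Finite Γ(X, ⊤) N ∧ Module.Projective Γ(X, ⊤) N
  have hbas : ∀ n, ∃ b : Module.Basis (Fin n) Γ(X, ⊤) Γ(FlatMod.freeMod X n, ⊤), ∀ (N : X.Modules),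
      (∀ m : Fin n → Γ(N, ⊤), ∃ h : FlatMod.freeMod X n ⟶ N, ∀ i, h.app ⊤ (b i) = m i) ∧
        ∀ h h' : FlatMod.freeMod X n ⟶ N, (∀ i, h.app ⊤ (b i) = h'.app ⊤ (b i)) → h = h' := by
    intro n
    obtain ⟨s, hs, huni⟩ := exists_unique_hom (X := X) n
    have hb := hs ⊤ le_rfl
    simp only [Groth.PicAux.res_self] at hb
    let e : (Fin n → Γ(X, ⊤)) ≃ₗ[Γ(X, ⊤)] Γ(FlatMod.freeMod X n, ⊤) :=
      LinearEquiv.ofBijective (Fintype.linearCombination Γ(X, ⊤) s)
        (by convert hb using 1; funext r; exact Fintype.linearCombination_apply _ _ _)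
    let b := (Pi.basisFun Γ(X, ⊤) (Fin n)).map e
    have hbs : ∀ i, b i = s i := fun i => by simp [b, e]
    exact ⟨b, fun N => ⟨fun m => (huni N m).1.imp fun h hh i => by rw [hbs, hh],
      fun h h' hh => (huni N 0).2 h h' fun i => by rw [← hbs, hh]⟩⟩
  have hQ : ∀ M : P.FullSubcategory, Q (Γf.obj M.obj) := by
    rintro ⟨M, n, i, r, hir⟩
    obtain ⟨b, -⟩ := hbas n
    haveI : Module.Finite Γ(X, ⊤) (Γf.obj (FlatMod.freeMod X n)) := Module.Finite.of_basis b
    haveI : Module.Projective Γ(X, ⊤) (Γf.obj (FlatMod.freeMod X n)) := Module.Projective.of_basis b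
    have hsplit : (Γf.map r).hom.comp (Γf.map i).hom = LinearMap.id := by
      rw [← ModuleCat.hom_comp, ← Γf.map_comp, hir, Γf.map_id]; rfl
    exact ⟨Module.Finite.of_surjective (Γf.map r).hom fun y =>
      ⟨(Γf.map i).hom y, LinearMap.congr_fun hsplit y⟩,
      Module.Projective.of_split (Γf.map i).hom (Γf.map r).hom hsplit⟩
  let F : P.FullSubcategory ⥤ Q.FullSubcategory := Q.lift (P.ι ⋙ Γf) hQ
  haveI : F.Faithful := ⟨fun {M N} {f g} h => by
    obtain ⟨n, i, r, hir⟩ := M.property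
    obtain ⟨b, hb⟩ := hbas n
    have h' : Γf.map f.hom = Γf.map g.hom := congrArg (fun t => t.hom) h
    haveI : IsSplitEpi r := ⟨⟨⟨i, hir⟩⟩⟩
    apply ObjectProperty.hom_ext
    rw [← cancel_epi r]
    exact (hb N.obj).2 _ _ fun j => LinearMap.congr_fun (congrArg ModuleCat.Hom.hom h') (r.app ⊤ (b j))⟩
  haveI : F.Full := ⟨fun {M N} φ => by
    obtain ⟨n, i, r, hir⟩ := M.property
    obtain ⟨b, hb⟩ := hbas n
    obtain ⟨h, hh⟩ := (hb N.obj).1 fun j => φ.hom.hom (r.app ⊤ (b j))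
    refine ⟨ObjectProperty.homMk (i ≫ h), ?_⟩
    apply ObjectProperty.hom_ext
    apply ModuleCat.hom_ext
    have e : (Γf.map h).hom = φ.hom.hom.comp (Γf.map r).hom := b.ext fun j => hh j
    change (Γf.map (i ≫ h)).hom = φ.hom.hom
    rw [Γf.map_comp, ModuleCat.hom_comp, e, LinearMap.comp_assoc, ← ModuleCat.hom_comp, ← Γf.map_comp,
      hir, Γf.map_id]
    rfl⟩
  haveI : F.EssSurj := ⟨fun N => by
    obtain ⟨hfin, hproj⟩ := N.property
    obtain ⟨n, π, hπ⟩ := Module.Finite.exists_fin' Γ(X, ⊤) N.obj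
    obtain ⟨σ, hσ⟩ := Module.projective_lifting_property π LinearMap.id hπ
    obtain ⟨b, hb⟩ := hbas n
    let ev : Γ(FlatMod.freeMod X n, ⊤) ≃ₗ[Γ(X, ⊤)] (Fin n → Γ(X, ⊤)) := b.equivFun
    let ψ : Γ(FlatMod.freeMod X n, ⊤) →ₗ[Γ(X, ⊤)] Γ(FlatMod.freeMod X n, ⊤) :=
      ev.symm.toLinearMap ∘ₗ σ ∘ₗ π ∘ₗ ev.toLinearMap
    obtain ⟨p, hp⟩ := (hb _).1 fun j => ψ (b j)
    have hpψ : ∀ v, p.app ⊤ v = ψ v := fun v =>
      LinearMap.congr_fun (b.ext (f₁ := (Γf.map p).hom) (f₂ := ψ) fun j => hp j) v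
    have hπσ : ∀ w, π (σ w) = w := LinearMap.congr_fun hσ
    have hidem : p ≫ p = p := (hb _).2 _ _ fun j => by
      change p.app ⊤ (p.app ⊤ (b j)) = p.app ⊤ (b j)
      rw [hpψ, hpψ]
      simp [ψ, hπσ]
    obtain ⟨M, i, r, hir, hri⟩ := IsIdempotentComplete.idempotents_split _ p hidem
    let M' : P.FullSubcategory := ⟨M, n, i, r, hir⟩
    let f : Γ(M, ⊤) →ₗ[Γ(X, ⊤)] N.obj := π ∘ₗ ev.toLinearMap ∘ₗ (Γf.map i).hom
    let g : N.obj →ₗ[Γ(X, ⊤)] Γ(M, ⊤) := (Γf.map r).hom ∘ₗ ev.symm.toLinearMap ∘ₗ σ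
    have hfg : ∀ w, f (g w) = w := fun w => by
      have hi : ∀ v, (Γf.map i).hom ((Γf.map r).hom v) = p.app ⊤ v := fun v => by rw [← hri]; rfl
      change π (ev ((Γf.map i).hom ((Γf.map r).hom (ev.symm (σ w))))) = w
      rw [hi, hpψ]
      simp [ψ, hπσ]
    have hgf : ∀ v, g (f v) = v := fun v => by
      have hv : (Γf.map r).hom ((Γf.map i).hom v) = v :=
        LinearMap.congr_fun (congrArg ModuleCat.Hom.hom ((Γf.map_comp i r).symm.trans
          ((congrArg Γf.map hir).trans (Γf.map_id M)))) v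
      have : g (f v) = (Γf.map r).hom (p.app ⊤ ((Γf.map i).hom v)) := by
        rw [hpψ]; rfl
      rw [this, ← hri]
      exact (congrArg (Γf.map r).hom (show _ = (Γf.map i).hom v from congrArg (Γf.map i).hom hv)).trans hv
    let el : Γ(M, ⊤) ≃ₗ[Γ(X, ⊤)] N.obj := { f with invFun := g, left_inv := hgf, right_inv := hfg }
    exact ⟨M', ⟨ObjectProperty.isoMk Q el.toModuleIso⟩⟩⟩
  haveI : F.IsEquivalence := {}
  exact ⟨F.asEquivalence⟩

end Groth.Agent.S0938
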