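import Groth.Statements.S0946
import Groth.Agent.CohTopBC.Fibre

set_option autoImplicit false
universe u
open CategoryTheory
open CohTop

namespace Groth.Agent.S0946

open CategoryTheory.Limits TopologicalSpace Opposite
open Groth.SiteCohomology Groth.Agent.CohTopBC
open Groth.Agent.CohDescent (gm gm_res gm_eq gm_map sect_ext tau tau_gm bijective_tau pb res_res)

section Aux

variable {X : TopCat.{u}} (Z : Set X)

/-- The opens containing the subset, with inclusions reversed. -/
abbrev Nbhds := ObjectProperty.FullSubcategory (fun U : (Opens X)ᵒᵖ => Z ⊆ (U.unop : Set X))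

instance : IsFiltered (Nbhds Z) :=
  haveI : Nonempty (Nbhds Z) := ⟨⟨op ⊤, fun _ _ => trivial⟩⟩
  haveI : IsFilteredOrEmpty (Nbhds Z) :=
    { cocone_objs := fun U V => ⟨⟨op (U.obj.unop ⊓ V.obj.unop), fun z hz => ⟨U.property hz, V.property hz⟩⟩,
        ObjectProperty.homMk (homOfLE inf_le_left).op, ObjectProperty.homMk (homOfLE inf_le_right).op, trivial⟩
      cocone_maps := fun U V f g => ⟨V, 𝟙 V, by
        apply ObjectProperty.hom_ext
        exact Quiver.Hom.unop_inj (Subsingleton.elim _ _)⟩ }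
  ⟨⟩

/-- The colimit of a presheaf over the neighbourhoods. -/
noncomputable abbrev nbhdColim : ((Opens X)ᵒᵖ ⥤ AddCommGrpCat.{u}) ⥤ AddCommGrpCat.{u} :=
  (Functor.whiskeringLeft _ _ _).obj (ObjectProperty.ι (fun U : (Opens X)ᵒᵖ => Z ⊆ (U.unop : Set X))) ⋙ colim

/-- The inclusion of the subset. -/
abbrev incl : TopCat.of Z ⟶ X := TopCat.ofHom ⟨Subtype.val, continuous_subtype_val⟩

lemma top_le (U : Nbhds Z) : (⊤ : Opens (TopCat.of Z)) ≤ (Opens.map (incl Z)).obj U.obj.unop :=
  fun z _ => U.property z.2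

/-- Restriction of germs of sections near the subset to sections along it. -/
noncomputable def restrictColim (G : CohTop.Ab X) :
    (nbhdColim Z).obj G.obj ⟶ ((CohTop.pull (incl Z)).obj G).obj.obj (op ⊤) :=
  colimit.desc _
    { pt := ((CohTop.pull (incl Z)).obj G).obj.obj (op ⊤)
      ι :=
        { app := fun U => pb (incl Z) G U.obj.unop ≫ ((CohTop.pull (incl Z)).obj G).obj.map (homOfLE (top_le Z U)).op
          naturality := fun U V k => by
            refine ConcreteCategory.hom_ext _ _ fun s => ?_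
            refine (congrArg (((CohTop.pull (incl Z)).obj G).obj.map _)
              (NatTrans.naturality_apply ((pullPushAdj (incl Z)).unit.app G).hom k.hom s)).trans ?_
            exact res_res _ _ _ _ _ } }

lemma restrictColim_ι (G : CohTop.Ab X) (U : Nbhds Z) (s : G.obj.obj U.obj) (z : Z) :
    gm ((CohTop.pull (incl Z)).obj G) z ⊤ trivial
        (restrictColim Z G (colimit.ι (ObjectProperty.ι (fun U : (Opens X)ᵒᵖ => Z ⊆ (U.unop : Set X)) ⋙ G.obj) U s)) =
      tau (incl Z) (rfl : incl Z z = z.1) G (gm G z.1 U.obj.unop (U.property z.2) s) := by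
  have e := ConcreteCategory.congr_hom
    (show colimit.ι (ObjectProperty.ι (fun U : (Opens X)ᵒᵖ => Z ⊆ (U.unop : Set X)) ⋙ G.obj) U ≫ restrictColim Z G =
      pb (incl Z) G U.obj.unop ≫ ((CohTop.pull (incl Z)).obj G).obj.map (homOfLE (top_le Z U)).op from
        colimit.ι_desc _ _) s
  refine (congrArg (gm ((CohTop.pull (incl Z)).obj G) z ⊤ trivial) e).trans ?_
  exact (gm_res _ _ _ _ _).trans (tau_gm (incl Z) G rfl _ _ s).symm

variable (hZ : IsCompact Z)
  (hsep : ∀ x ∈ Z, ∀ y ∈ Z, x ≠ y → ∃ U V : Opens X, x ∈ U ∧ y ∈ V ∧ Disjoint U V)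

lemma sep_sets (hsep : ∀ x ∈ Z, ∀ y ∈ Z, x ≠ y → ∃ U V : Opens X, x ∈ U ∧ y ∈ V ∧ Disjoint U V) :
    ∀ x ∈ Z, ∀ y ∈ Z, x ≠ y → ∃ U V : Set X, IsOpen U ∧ IsOpen V ∧ x ∈ U ∧ y ∈ V ∧ Disjoint U V := by
  intro x hx y hy h
  obtain ⟨U, V, hxU, hyV, hd⟩ := hsep x hx y hy h
  refine ⟨U, V, U.2, V.2, hxU, hyV, ?_⟩
  rw [Set.disjoint_iff]
  intro z hz
  exact (disjoint_iff_inf_le.1 hd : U ⊓ V ≤ ⊥) hz

include hZ hsep in
lemma bijective_restrictColim (G : CohTop.Ab X) : Function.Bijective (restrictColim Z G) := by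
  let D := ObjectProperty.ι (fun U : (Opens X)ᵒᵖ => Z ⊆ (U.unop : Set X)) ⋙ G.obj
  refine ⟨fun a b h => ?_, fun t => ?_⟩
  · obtain ⟨U, s, rfl⟩ := Concrete.colimit_exists_rep D a
    obtain ⟨V, t, rfl⟩ := Concrete.colimit_exists_rep D b
    let I : Opens X := U.obj.unop ⊓ V.obj.unop
    let s' := G.obj.map (homOfLE (inf_le_left : I ≤ _)).op s
    let t' := G.obj.map (homOfLE (inf_le_right : I ≤ _)).op t
    have key : ∀ z : Z, ∃ N : Opens X, z.1 ∈ N ∧ ∃ hN : N ≤ I,
        G.obj.map (homOfLE hN).op s' = G.obj.map (homOfLE hN).op t' := fun z => by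
      have e := congrArg (gm ((CohTop.pull (incl Z)).obj G) z ⊤ trivial) h
      rw [restrictColim_ι, restrictColim_ι] at e
      have e' := (bijective_tau (incl Z) G rfl).1 e
      rw [← gm_res G z.1 (inf_le_left : I ≤ _) ⟨U.property z.2, V.property z.2⟩,
        ← gm_res G z.1 (inf_le_right : I ≤ _) ⟨U.property z.2, V.property z.2⟩] at e'
      obtain ⟨N, hN, hzN, e''⟩ := gm_eq _ _ _ _ _ e'
      exact ⟨N, hzN, hN, e''⟩
    choose N hzN hN he using key
    let W : Nbhds Z := ⟨op (⨆ z, N z), fun z hz => Opens.mem_iSup.2 ⟨⟨z, hz⟩, hzN _⟩⟩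
    have hW : W.obj.unop ≤ I := iSup_le hN
    refine (Concrete.colimit_rep_eq_iff_exists D s t).2 ⟨W,
      ObjectProperty.homMk (homOfLE (hW.trans inf_le_left)).op,
      ObjectProperty.homMk (homOfLE (hW.trans inf_le_right)).op, sect_ext _ _ fun z hz => ?_⟩
    obtain ⟨x, hx⟩ := Opens.mem_iSup.1 hz
    change gm G z _ hz (G.obj.map (homOfLE (hW.trans inf_le_left)).op s) =
      gm G z _ hz (G.obj.map (homOfLE (hW.trans inf_le_right)).op t)
    rw [gm_res, gm_res, ← gm_res G z ((hN x).trans inf_le_left) hx s, ← gm_res G z ((hN x).trans inf_le_right) hx t]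
    exact congrArg _ ((res_res G (homOfLE inf_le_left).op (homOfLE (hN x)).op _ s).symm.trans
      ((he x).trans (res_res G (homOfLE inf_le_right).op (homOfLE (hN x)).op _ t)))
  · obtain ⟨b, hb, hbt⟩ := exists_locRep_down (i := incl Z) Topology.IsEmbedding.subtypeVal G
      (A := Set.univ) (fun z _ => gm ((CohTop.pull (incl Z)).obj G) z ⊤ trivial t)
      (fun z _ => ⟨⊤, t, trivial, fun _ _ _ => rfl⟩)
    have hsub : Z ⊆ incl Z '' Set.univ := fun x hx => ⟨⟨x, hx⟩, trivial, rfl⟩
    obtain ⟨U, hU, s, hs⟩ := exists_extend hZ (sep_sets Z hsep) G _ (locRep_mono hb hsub)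
    refine ⟨colimit.ι D ⟨op U, hU⟩ s, sect_ext _ _ fun z _ => ?_⟩
    rw [restrictColim_ι]
    exact (congrArg _ (hs z.1 z.2)).trans (hbt z trivial)

end Aux

open TopologicalSpace Opposite CategoryTheory.Limits in
/-- Take a quasi-compact subset Z of a topological space X whose points are pairwise separated by
disjoint opens of X, and an abelian sheaf F on X. For every p the group H^p(Z, F|_Z) (cohomology of
the pullback of F to the subspace Z) is isomorphic to the colimit of the groups H^p(U, F) over the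
open neighbourhoods U of Z (existence of an isomorphism with the colimit of the cohomology presheaf
restricted to the opens containing Z). -/
theorem result {X : TopCat.{u}} (Z : Set X) (hZ : IsCompact Z)
    (hsep : ∀ x ∈ Z, ∀ y ∈ Z, x ≠ y → ∃ U V : Opens X, x ∈ U ∧ y ∈ V ∧ Disjoint U V)
    (F : CohTop.Ab X) (p : ℕ) :
    Nonempty ((colimit (ObjectProperty.ι (fun U : (Opens X)ᵒᵖ => Z ⊆ (U.unop : Set X)) ⋙
        (Sheaf.cohomologyPresheafFunctor (Opens.grothendieckTopology X) p).obj F) : AddCommGrpCat.{u}) ≃+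
      CohTop.H ((CohTop.pull (TopCat.ofHom ⟨Subtype.val, continuous_subtype_val⟩ : TopCat.of Z ⟶ X)).obj F) p) := by
  haveI : CompactSpace (TopCat.of Z) := isCompact_iff_compactSpace.1 hZ
  haveI : T2Space (TopCat.of Z) := ⟨fun (x y : Z) h => by
    obtain ⟨U, V, hU, hV, hxU, hyV, hd⟩ := sep_sets Z hsep x.1 x.2 y.1 y.2 fun e => h (Subtype.ext e)
    exact ⟨_, _, hU.preimage continuous_subtype_val, hV.preimage continuous_subtype_val, hxU, hyV, hd.preimage _⟩⟩
  haveI : (CohTop.pull (incl Z)).Additive := additive_inverseImage _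
  haveI : PreservesFiniteColimits (CohTop.pull (incl Z)) := preservesFiniteColimits_pull _
  haveI : PreservesFiniteLimits (CohTop.pull (incl Z)) := preservesFiniteLimits_pull _
  haveI : PreservesFiniteLimits (nbhdColim Z) := comp_preservesFiniteLimits _ _
  haveI : PreservesFiniteColimits (nbhdColim Z) := comp_preservesFiniteColimits _ _
  haveI : (nbhdColim Z).Additive := Functor.additive_of_preserves_binary_products _
  obtain ⟨e₁⟩ := nonempty_rightDerived_comp_exact (sheafToPresheaf (Opens.grothendieckTopology X) AddCommGrpCat.{u})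
    (nbhdColim Z) (sheafToPresheaf (Opens.grothendieckTopology X) AddCommGrpCat.{u} ⋙ nbhdColim Z) (Iso.refl _) F p
  obtain ⟨e₂⟩ := nonempty_rightDerived_sections (CohTop.pull (incl Z))
    (fun I hI n => by
      haveI := isFlasque_of_injective I
      exact subsingleton_ext_free_of_soft n _ (isSoftSh_pull_flasque (incl Z) Topology.IsEmbedding.subtypeVal
        (fun (x y : Z) h => sep_sets Z hsep x.1 x.2 y.1 y.2 fun e => h (Subtype.ext e)) I))
    (sheafToPresheaf (Opens.grothendieckTopology X) AddCommGrpCat.{u} ⋙ nbhdColim Z)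
    (fun G => haveI := (ConcreteCategory.isIso_iff_bijective _).2 (bijective_restrictColim Z hZ hsep G)
      asIso (restrictColim Z G))
    (fun {G G'} φ a => by
      obtain ⟨U, s, rfl⟩ := Concrete.colimit_exists_rep
        (ObjectProperty.ι (fun U : (Opens X)ᵒᵖ => Z ⊆ (U.unop : Set X)) ⋙ G.obj) a
      have hm : (nbhdColim Z).map φ.hom (colimit.ι
          (ObjectProperty.ι (fun U : (Opens X)ᵒᵖ => Z ⊆ (U.unop : Set X)) ⋙ G.obj) U s) =
          colimit.ι (ObjectProperty.ι (fun U : (Opens X)ᵒᵖ => Z ⊆ (U.unop : Set X)) ⋙ G'.obj) U (φ.hom.app U.obj s) :=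
        ConcreteCategory.congr_hom (ι_colimMap _ U) s
      refine sect_ext _ _ fun z _ => ?_
      change gm _ z ⊤ _ (restrictColim Z G' ((nbhdColim Z).map φ.hom _)) =
        gm _ z ⊤ _ (((CohTop.pull (incl Z)).map φ).hom.app (op ⊤) (restrictColim Z G _))
      rw [hm, restrictColim_ι]
      refine Eq.trans ?_ (gm_map _ _ _ _ _)
      rw [restrictColim_ι]
      refine (tau_gm (incl Z) G' rfl _ _ _).trans (Eq.trans ?_ (congrArg _ (tau_gm (incl Z) G rfl _ _ s)).symm)
      refine Eq.trans ?_ (gm_map _ _ _ _ _).symm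
      exact congrArg _ (ConcreteCategory.congr_hom
        (congrArg (fun k => k.hom.app U.obj) ((pullPushAdj (incl Z)).unit.naturality φ)) s))
    F p
  exact ⟨(((nbhdColim Z).mapIso ((rightDerivedSheafToPresheafIso (J := Opens.grothendieckTopology X) p).app F)).symm
    ≪≫ e₁.symm ≪≫ e₂).addCommGroupIsoToAddEquiv⟩

end Groth.Agent.S0946
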