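import Groth.Statements.S0947
import Groth.Agent.CohTopBC.SpectralSoft

set_option autoImplicit false
universe u
open CategoryTheory
open CohTop

namespace Groth.Agent.S0947

open CategoryTheory.Limits TopologicalSpace Opposite
open Groth.SiteCohomology Groth.Agent.CohTopBC
open Groth.Agent.CohDescent (gm gm_res gm_eq gm_map sect_ext tau tau_gm bijective_tau pb res_res)

section Aux

variable {X : TopCat.{u}} [SpectralSpace X] (E : Set X)

/-- The points specializing to the subset. -/
abbrev gen : Set X := {x : X | ∃ e ∈ E, e ∈ closure {x}}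

lemma gen_subset {E : Set X} {N : Set X} (hN : IsOpen N) (h : E ⊆ N) : gen E ⊆ N := by
  rintro x ⟨e, he, hex⟩
  obtain ⟨z, hzN, hz⟩ := mem_closure_iff.1 hex N hN (h he)
  exact (Set.mem_singleton_iff.1 hz) ▸ hzN

lemma isQcInter_gen (hE : IsCompact E) : IsQcInter (gen E) := by
  intro x hx
  obtain ⟨N, hNo, hNc, hEN, hxN⟩ := hE.induction_on
    (p := fun S => ∃ N : Set X, IsOpen N ∧ IsCompact N ∧ S ⊆ N ∧ x ∉ N)
    ⟨∅, isOpen_empty, isCompact_empty, subset_rfl, fun h => h⟩
    (fun S S' h ⟨N, h1, h2, h3, h4⟩ => ⟨N, h1, h2, h.trans h3, h4⟩)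
    (fun S S' ⟨N, h1, h2, h3, h4⟩ ⟨M, g1, g2, g3, g4⟩ => ⟨N ∪ M, h1.union g1, h2.union g2,
      Set.union_subset_union h3 g3, fun h => h.elim h4 g4⟩)
    (fun e he => by
      obtain ⟨V, ⟨hVo, hVc⟩, heV, hV⟩ := PrespectralSpace.isTopologicalBasis.exists_subset_of_mem_open
        (show e ∈ (closure {x})ᶜ from fun h => hx ⟨e, he, h⟩) isClosed_closure.isOpen_compl
      exact ⟨V, mem_nhdsWithin_of_mem_nhds (hVo.mem_nhds heV), V, hVo, hVc, subset_rfl,
        fun h => hV h (subset_closure rfl)⟩)
  exact ⟨N, hNo, hNc, gen_subset hNo hEN, hxN⟩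

/-- The quasi-compact open neighbourhoods, with inclusions reversed. -/
abbrev Nbhds := ObjectProperty.FullSubcategory
  (fun U : (Opens X)ᵒᵖ => E ⊆ (U.unop : Set X) ∧ IsCompact (U.unop : Set X))

instance : IsFiltered (Nbhds E) :=
  haveI : Nonempty (Nbhds E) := ⟨⟨op ⊤, fun _ _ => trivial, by simpa using isCompact_univ⟩⟩
  haveI : IsFilteredOrEmpty (Nbhds E) :=
    { cocone_objs := fun U V => ⟨⟨op (U.obj.unop ⊓ V.obj.unop), fun z hz => ⟨U.property.1 hz, V.property.1 hz⟩,
        QuasiSeparatedSpace.inter_isCompact _ _ U.obj.unop.2 U.property.2 V.obj.unop.2 V.property.2⟩,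
        ObjectProperty.homMk (homOfLE inf_le_left).op, ObjectProperty.homMk (homOfLE inf_le_right).op, trivial⟩
      cocone_maps := fun U V f g => ⟨V, 𝟙 V, by
        apply ObjectProperty.hom_ext
        exact Quiver.Hom.unop_inj (Subsingleton.elim _ _)⟩ }
  ⟨⟩

/-- The colimit of a presheaf over the neighbourhoods. -/
noncomputable abbrev nbhdColim : ((Opens X)ᵒᵖ ⥤ AddCommGrpCat.{u}) ⥤ AddCommGrpCat.{u} :=
  (Functor.whiskeringLeft _ _ _).obj
    (ObjectProperty.ι (fun U : (Opens X)ᵒᵖ => E ⊆ (U.unop : Set X) ∧ IsCompact (U.unop : Set X))) ⋙ colim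

/-- The inclusion of the generalizations. -/
abbrev incl : TopCat.of (gen E) ⟶ X := TopCat.ofHom ⟨Subtype.val, continuous_subtype_val⟩

lemma top_le (U : Nbhds E) : (⊤ : Opens (TopCat.of (gen E))) ≤ (Opens.map (incl E)).obj U.obj.unop :=
  fun z _ => gen_subset U.obj.unop.2 U.property.1 z.2

/-- Restriction of germs of sections near the subset to sections along it. -/
noncomputable def restrictColim (G : CohTop.Ab X) :
    (nbhdColim E).obj G.obj ⟶ ((CohTop.pull (incl E)).obj G).obj.obj (op ⊤) :=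
  colimit.desc _
    { pt := ((CohTop.pull (incl E)).obj G).obj.obj (op ⊤)
      ι :=
        { app := fun U => pb (incl E) G U.obj.unop ≫ ((CohTop.pull (incl E)).obj G).obj.map (homOfLE (top_le E U)).op
          naturality := fun U V k => by
            refine ConcreteCategory.hom_ext _ _ fun s => ?_
            refine (congrArg (((CohTop.pull (incl E)).obj G).obj.map _)
              (NatTrans.naturality_apply ((pullPushAdj (incl E)).unit.app G).hom k.hom s)).trans ?_
            exact res_res _ _ _ _ _ } }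

lemma restrictColim_ι (G : CohTop.Ab X) (U : Nbhds E) (s : G.obj.obj U.obj) (z : gen E) :
    gm ((CohTop.pull (incl E)).obj G) z ⊤ trivial
        (restrictColim E G (colimit.ι (ObjectProperty.ι (fun U : (Opens X)ᵒᵖ => E ⊆ (U.unop : Set X) ∧ IsCompact (U.unop : Set X)) ⋙ G.obj) U s)) =
      tau (incl E) (rfl : incl E z = z.1) G (gm G z.1 U.obj.unop (gen_subset U.obj.unop.2 U.property.1 z.2) s) := by
  have e := ConcreteCategory.congr_hom
    (show colimit.ι (ObjectProperty.ι (fun U : (Opens X)ᵒᵖ => E ⊆ (U.unop : Set X) ∧ IsCompact (U.unop : Set X)) ⋙ G.obj) U ≫ restrictColim E G =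
      pb (incl E) G U.obj.unop ≫ ((CohTop.pull (incl E)).obj G).obj.map (homOfLE (top_le E U)).op from
        colimit.ι_desc _ _) s
  refine (congrArg (gm ((CohTop.pull (incl E)).obj G) z ⊤ trivial) e).trans ?_
  exact (gm_res _ _ _ _ _).trans (tau_gm (incl E) G rfl _ _ s).symm

variable (hE : IsCompact E)

include hE in
lemma bijective_restrictColim (G : CohTop.Ab X) : Function.Bijective (restrictColim E G) := by
  let D := ObjectProperty.ι (fun U : (Opens X)ᵒᵖ => E ⊆ (U.unop : Set X) ∧ IsCompact (U.unop : Set X)) ⋙ G.obj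
  refine ⟨fun a b h => ?_, fun t => ?_⟩
  · obtain ⟨U, s, rfl⟩ := Concrete.colimit_exists_rep D a
    obtain ⟨V, t, rfl⟩ := Concrete.colimit_exists_rep D b
    let I : Opens X := U.obj.unop ⊓ V.obj.unop
    let A : Set X := {z | ∃ (hU : z ∈ U.obj.unop) (hV : z ∈ V.obj.unop), gm G z _ hU s = gm G z _ hV t}
    have hEA : E ⊆ A := fun e he => by
      have hge : e ∈ gen E := ⟨e, he, subset_closure rfl⟩
      have e' := congrArg (gm ((CohTop.pull (incl E)).obj G) ⟨e, hge⟩ ⊤ trivial) h
      rw [restrictColim_ι, restrictColim_ι] at e'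
      exact ⟨U.property.1 he, V.property.1 he, (bijective_tau (incl E) G rfl).1 e'⟩
    obtain ⟨W, hWc, hWo, hEW, hWA⟩ := PrespectralSpace.exists_isCompact_and_isOpen_between hE (isOpen_gm_eq G s t) hEA
    have hWU : (⟨W, hWo⟩ : Opens X) ≤ U.obj.unop := fun z hz => (hWA hz).1
    have hWV : (⟨W, hWo⟩ : Opens X) ≤ V.obj.unop := fun z hz => (hWA hz).2.1
    refine (Concrete.colimit_rep_eq_iff_exists D s t).2 ⟨⟨op ⟨W, hWo⟩, hEW, hWc⟩,
      ObjectProperty.homMk (homOfLE hWU).op, ObjectProperty.homMk (homOfLE hWV).op, sect_ext _ _ fun z hz => ?_⟩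
    change gm G z _ hz (G.obj.map (homOfLE hWU).op s) = gm G z _ hz (G.obj.map (homOfLE hWV).op t)
    rw [gm_res, gm_res]
    exact (hWA hz).2.2
  · have hK := isQcInter_gen E hE
    obtain ⟨b, hb, hbt⟩ := exists_locRep_down (i := incl E) Topology.IsEmbedding.subtypeVal G
      (A := Set.univ) (fun z _ => gm ((CohTop.pull (incl E)).obj G) z ⊤ trivial t)
      (fun z _ => ⟨⊤, t, trivial, fun _ _ _ => rfl⟩)
    have hsub : gen E ∩ (⊤ : Opens X) ⊆ incl E '' Set.univ := fun x hx => ⟨⟨x, hx.1⟩, trivial, rfl⟩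
    have hc : IsCompact (gen E ∩ (⊤ : Opens X) : Set X) := by
      rw [show ((⊤ : Opens X) : Set X) = Set.univ from rfl, Set.inter_univ]
      exact Groth.SpectralTopology.isCompact_of_isClosed_ct (isClosed_ct_of_isQcInter hK)
    obtain ⟨U, hU, s, hs⟩ := exists_extend_qcInter hK G ⊤ hc _ (locRep_mono hb hsub)
    obtain ⟨W, hWc, hWo, hEW, hWU⟩ := PrespectralSpace.exists_isCompact_and_isOpen_between hE U.2
      (fun e he => hU ⟨⟨e, he, subset_closure rfl⟩, trivial⟩)
    refine ⟨colimit.ι D ⟨op ⟨W, hWo⟩, hEW, hWc⟩ (G.obj.map (homOfLE (show (⟨W, hWo⟩ : Opens X) ≤ U from hWU)).op s),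
      sect_ext _ _ fun z _ => ?_⟩
    rw [restrictColim_ι]
    refine (congrArg _ ((gm_res G z.1 _ _ s).trans (hs z.1 ⟨z.2, trivial⟩))).trans (hbt z trivial)

end Aux

open TopologicalSpace Opposite CategoryTheory.Limits in
/-- Let X be a spectral space, F an abelian sheaf on X, E ⊆ X a quasi-compact subset and W the set of
points of X specializing to some point of E. Then for every p the group H^p(W, F|_W) (cohomology of
the pullback of F to the subspace W) is isomorphic to the colimit of the groups H^p(U, F) over the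
quasi-compact open neighbourhoods U of E (existence of an isomorphism). -/
theorem result {X : TopCat.{u}} [SpectralSpace X] (E : Set X)
    (hE : IsCompact E) (F : CohTop.Ab X) (p : ℕ) :
    Nonempty ((colimit (ObjectProperty.ι (fun U : (Opens X)ᵒᵖ => E ⊆ (U.unop : Set X) ∧ IsCompact (U.unop : Set X)) ⋙
        (Sheaf.cohomologyPresheafFunctor (Opens.grothendieckTopology X) p).obj F) : AddCommGrpCat.{u}) ≃+
      CohTop.H ((CohTop.pull (TopCat.ofHom ⟨Subtype.val, continuous_subtype_val⟩ :
        TopCat.of {x : X | ∃ e ∈ E, e ∈ closure {x}} ⟶ X)).obj F) p) := by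
  haveI : SpectralSpace (TopCat.of (gen E)) :=
    Groth.SpectralTopology.spectralSpace_of_isClosed_ct (isClosed_ct_of_isQcInter (isQcInter_gen E hE))
  haveI : (CohTop.pull (incl E)).Additive := additive_inverseImage _
  haveI : PreservesFiniteColimits (CohTop.pull (incl E)) := preservesFiniteColimits_pull _
  haveI : PreservesFiniteLimits (CohTop.pull (incl E)) := preservesFiniteLimits_pull _
  haveI : PreservesFiniteLimits (nbhdColim E) := comp_preservesFiniteLimits _ _
  haveI : PreservesFiniteColimits (nbhdColim E) := comp_preservesFiniteColimits _ _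
  haveI : (nbhdColim E).Additive := Functor.additive_of_preserves_binary_products _
  obtain ⟨e₁⟩ := nonempty_rightDerived_comp_exact (sheafToPresheaf (Opens.grothendieckTopology X) AddCommGrpCat.{u})
    (nbhdColim E) (sheafToPresheaf (Opens.grothendieckTopology X) AddCommGrpCat.{u} ⋙ nbhdColim E) (Iso.refl _) F p
  obtain ⟨e₂⟩ := nonempty_rightDerived_sections (CohTop.pull (incl E))
    (fun I hI n => by
      haveI := isFlasque_of_injective I
      refine subsingleton_ext_free_of_qcSoft n _ (isQcSoft_pull_flasque (incl E) Topology.IsEmbedding.subtypeVal ?_ I)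
      rw [show Set.range (incl E) = gen E from Subtype.range_coe]
      exact isQcInter_gen E hE)
    (sheafToPresheaf (Opens.grothendieckTopology X) AddCommGrpCat.{u} ⋙ nbhdColim E)
    (fun G => haveI := (ConcreteCategory.isIso_iff_bijective _).2 (bijective_restrictColim E hE G)
      asIso (restrictColim E G))
    (fun {G G'} φ a => by
      obtain ⟨U, s, rfl⟩ := Concrete.colimit_exists_rep
        (ObjectProperty.ι (fun U : (Opens X)ᵒᵖ => E ⊆ (U.unop : Set X) ∧ IsCompact (U.unop : Set X)) ⋙ G.obj) a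
      have hm : (nbhdColim E).map φ.hom (colimit.ι
          (ObjectProperty.ι (fun U : (Opens X)ᵒᵖ => E ⊆ (U.unop : Set X) ∧ IsCompact (U.unop : Set X)) ⋙ G.obj) U s) =
          colimit.ι (ObjectProperty.ι (fun U : (Opens X)ᵒᵖ => E ⊆ (U.unop : Set X) ∧ IsCompact (U.unop : Set X)) ⋙ G'.obj) U (φ.hom.app U.obj s) :=
        ConcreteCategory.congr_hom (ι_colimMap _ U) s
      refine sect_ext _ _ fun z _ => ?_
      change gm _ z ⊤ _ (restrictColim E G' ((nbhdColim E).map φ.hom _)) =
        gm _ z ⊤ _ (((CohTop.pull (incl E)).map φ).hom.app (op ⊤) (restrictColim E G _))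
      rw [hm, restrictColim_ι]
      refine Eq.trans ?_ (gm_map _ _ _ _ _)
      rw [restrictColim_ι]
      refine (tau_gm (incl E) G' rfl _ _ _).trans (Eq.trans ?_ (congrArg _ (tau_gm (incl E) G rfl _ _ s)).symm)
      refine Eq.trans ?_ (gm_map _ _ _ _ _).symm
      exact congrArg _ (ConcreteCategory.congr_hom
        (congrArg (fun k => k.hom.app U.obj) ((pullPushAdj (incl E)).unit.naturality φ)) s))
    F p
  exact ⟨(((nbhdColim E).mapIso ((rightDerivedSheafToPresheafIso (J := Opens.grothendieckTopology X) p).app F)).symm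
    ≪≫ e₁.symm ≪≫ e₂).addCommGroupIsoToAddEquiv⟩

end Groth.Agent.S0947
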