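import Groth.Statements.S0973
import Groth.Agent.KTheory.DerivedSplit
import Mathlib.CategoryTheory.Preadditive.Biproducts

set_option autoImplicit false
universe w v u
open CategoryTheory CategoryTheory.Limits
open CohDer

namespace Groth.Agent.S0973

/-- Let K be an object of the derived category of an abelian category with cohomology concentrated in
degrees a, …, b. Suppose that for all i > j and p ≥ 2 every morphism H^i(K) ⟶ H^j(K)[p] in the
derived category (an element of Ext^p) vanishes. Then K splits: it is isomorphic to ⨁_{a ≤ i ≤ b}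
Hⁱ(K)[-i]. -/
theorem result {A : Type u} [Category.{v} A] [Abelian A] [HasDerivedCategory.{w} A]
    (K : DerivedCategory A) (a b : ℤ) [K.IsGE a] [K.IsLE b]
    (hExt : ∀ (i j : ℤ) (p : ℕ), j < i → 2 ≤ p →
      ∀ f : (DerivedCategory.singleFunctor A 0).obj ((DerivedCategory.homologyFunctor A i).obj K) ⟶
        ((DerivedCategory.singleFunctor A 0).obj ((DerivedCategory.homologyFunctor A j).obj K))⟦(p : ℤ)⟧, f = 0)
    [HasBiproduct (fun i : Finset.Icc a b => (DerivedCategory.singleFunctor A (i : ℤ)).obj ((DerivedCategory.homologyFunctor A (i : ℤ)).obj K))] :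
    Nonempty (K ≅ ⨁ (fun i : Finset.Icc a b => (DerivedCategory.singleFunctor A (i : ℤ)).obj ((DerivedCategory.homologyFunctor A (i : ℤ)).obj K))) := by
  classical
  obtain ⟨p, i, h1, h2, h3⟩ := Groth.Agent.DerivedSplit.exists_split a (b + 1 - a).toNat b K
    (by omega) inferInstance inferInstance (fun i j _ hji _ φ =>
      Groth.Agent.DerivedSplit.hom_shift_eq_zero i j (i + 1 - j).toNat (by omega)
        (hExt i j _ hji (by omega)) φ)
  let B : Bicone (fun i : Finset.Icc a b => (DerivedCategory.singleFunctor A (i : ℤ)).obj ((DerivedCategory.homologyFunctor A (i : ℤ)).obj K)) :=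
    { pt := K
      π := fun j => p j.1
      ι := fun j => i j.1
      ι_π := fun j k => by
        by_cases h : j = k
        · subst h
          simpa using h1 j.1 j.2
        · rw [dif_neg h]
          exact h2 j.1 j.2 k.1 k.2 (fun e => h (Subtype.ext e)) }
  exact ⟨biproduct.uniqueUpToIso _ (isBilimitOfTotal B (by
    change ∑ j : Finset.Icc a b, p j.1 ≫ i j.1 = 𝟙 K
    rw [Finset.univ_eq_attach, Finset.sum_attach (Finset.Icc a b) (fun j => p j ≫ i j)]
    exact h3))⟩

end Groth.Agent.S0973
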