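import Groth.Statements.S6585
import Groth.Agent.DerivedCoh.TriBasic

set_option autoImplicit false
universe v u
open CategoryTheory CategoryTheory.Limits
open CohDer

namespace Groth.Agent.S6585

open CategoryTheory.Limits CategoryTheory.Pretriangulated ZeroObject

open CategoryTheory.Pretriangulated in
/-- Let D be a triangulated category and E, K objects of D. Then Hom(E, K⟦i⟧) = 0 for all integers i if
and only if Hom(E', K) = 0 for every E' in ⟨E⟩, the smallest strictly full saturated triangulated
subcategory of D containing E (the objects obtained from E by shifts, finite direct sums, direct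
summands and extensions). -/
theorem result {D : Type u} [Category.{v} D] [Preadditive D] [HasZeroObject D] [HasShift D ℤ]
    [∀ n : ℤ, (shiftFunctor D n).Additive] [Pretriangulated D] [IsTriangulated D]
    (E K : D) :
    (∀ (i : ℤ) (f : E ⟶ (shiftFunctor D i).obj K), f = 0) ↔
      ∀ (E' : D), (ObjectProperty.singleton E).triangEnvelope E' → ∀ f : E' ⟶ K, f = 0 := by
  constructor
  · intro h E' hE' f
    let Q : ObjectProperty D := fun X => ∀ (i : ℤ) (g : X ⟶ (shiftFunctor D i).obj K), g = 0
    let R : ObjectProperty D := fun X => ∃ i : ℤ, Nonempty (X ≅ (shiftFunctor D i).obj K)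
    haveI : R.IsStableUnderShift ℤ :=
      ⟨fun a => ⟨fun X ⟨i, ⟨e⟩⟩ => ⟨i + a, ⟨(shiftFunctor D a).mapIso e ≪≫ ((shiftFunctorAdd D i a).app K).symm⟩⟩⟩⟩
    have eQ : Q = R.leftOrthogonal := by
      ext X
      refine ⟨fun hX Y g ⟨i, ⟨e⟩⟩ => ?_, fun hX i g => hX g ⟨i, ⟨Iso.refl _⟩⟩⟩
      simpa using hX i (g ≫ e.hom)
    haveI : Q.IsTriangulated := by rw [eQ]; infer_instance
    haveI : Q.IsStableUnderRetracts := ⟨fun r hY i g => by
      have := congr_arg (fun x => r.i ≫ x) (hY i (r.r ≫ g))
      simpa using this⟩
    have hQ : (ObjectProperty.singleton E).triangEnvelope ≤ Q :=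
      (ObjectProperty.triangEnvelope_le_iff _).2 (by simpa [ObjectProperty.singleton_le_iff] using h)
    have := hQ _ hE' 0 (f ≫ (shiftFunctorZero D ℤ).inv.app K)
    simpa using this
  · intro h i f
    have hE : (ObjectProperty.singleton E).triangEnvelope (E⟦(-i : ℤ)⟧) :=
      (ObjectProperty.singleton E).triangEnvelope.le_shift (-i) _
        ((ObjectProperty.singleton E).le_triangEnvelope _ (ObjectProperty.singleton_iff _ _ |>.2 rfl))
    exact Groth.DerivedCoh.shift_hom_eq_zero' (fun u => h _ hE u) f

end Groth.Agent.S6585
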