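import Groth.Statements.S0978
import Groth.Agent.Misc1.CellularTower
import Groth.Agent.Misc1.CompactEnvelope
import Groth.Agent.S6585

set_option autoImplicit false
universe v u
open CategoryTheory
open CohDer

namespace Groth.Agent.S0978

open CategoryTheory.Limits CategoryTheory.Pretriangulated in
/-- Let D be a triangulated category with all small direct sums and E a compact object. Then E generates
D (an object admitting only zero maps from all shifts of E is zero) if and only if D is compactly
generated and every compact object lies in the triangulated envelope of E (objects reachable from E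
by shifts, finite sums, direct summands and extensions). -/
theorem result {D : Type u} [Category.{v} D] [Preadditive D] [Limits.HasZeroObject D] [HasShift D ℤ]
    [∀ n : ℤ, (shiftFunctor D n).Additive] [Pretriangulated D] [IsTriangulated D] [HasCoproducts.{v} D]
    [HasColimitsOfShape (Discrete ℕ) D]
    (E : D) (hE : CohDer.IsCompactObject E) :
    CohDer.Generates (fun _ : Unit => E) ↔
      (CohDer.IsCompactlyGenerated D ∧ ∀ X : D, CohDer.IsCompactObject X → ObjectProperty.triangEnvelope (fun Y : D => Y = E) X) := by
  classical
  constructor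
  · intro hg
    have hg' : CohDer.Generates (fun _ : PUnit.{v + 1} => E) := fun K hK => hg K fun _ n f => hK ⟨⟩ n f
    have hc : ∀ _ : PUnit.{v + 1}, CohDer.IsCompactObject E := fun _ => hE
    refine ⟨⟨PUnit.{v + 1}, fun _ => E, hc, hg'⟩, fun X hX => ?_⟩
    obtain ⟨K, f, i, ⟨c, hT⟩, h0, hstep⟩ := Groth.Misc1.CellularTower.exists_tower (fun _ : PUnit.{v + 1} => E) hc hg' X
    have hi : ∀ n, f n ≫ i (n + 1) = i n := fun n => by
      have h0 : (𝟙 (∐ K) - DerLim.shiftMap K f) ≫ Sigma.desc i = 0 := comp_distTriang_mor_zero₁₂ _ hT
      have h := congrArg (Sigma.ι K n ≫ ·) h0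
      simp only [Preadditive.sub_comp, Category.id_comp, Preadditive.comp_sub, DerLim.shiftMap,
        Sigma.ι_desc_assoc, Category.assoc, Sigma.ι_desc, comp_zero, sub_eq_zero] at h
      exact h.symm
    obtain ⟨N, b, hb⟩ := Groth.Misc1.CellularTower.exists_factor K f hX i c hT hi (𝟙 X)
    obtain ⟨s, B, g, h, hB, hBc, hgh⟩ := Groth.Misc1.CompactEnvelope.fact_tower hc K f h0 hstep N X hX b
    have hle : Groth.Misc1.CompactEnvelope.env (fun _ : PUnit.{v + 1} => E) s ≤
        ObjectProperty.triangEnvelope (fun Y : D => Y = E) :=
      ObjectProperty.monotone_triangEnvelope fun Y ⟨_, _, hY⟩ => hY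
    haveI : ObjectProperty.Nonempty (fun Y : D => Y = E) := ObjectProperty.nonempty_of_prop (X := E) rfl
    refine (ObjectProperty.triangEnvelope (fun Y : D => Y = E)).prop_of_retract
      { i := g, r := h ≫ i N, retract := ?_ } (hle _ hB)
    rw [← Category.assoc, hgh, ← hb]
  · rintro ⟨⟨ι, G, hG, hgen⟩, henv⟩ K hK
    refine hgen K fun j n f => ?_
    have h2 := (Groth.Agent.S6585.result E (K⟦n⟧)).1 fun m g => by
      let e := ((shiftFunctorAdd D n m).app K).symm
      rw [← cancel_mono e.hom, zero_comp]
      exact hK () (n + m) _
    refine h2 (G j) ?_ f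
    have e : (ObjectProperty.singleton E : ObjectProperty D) = fun Y : D => Y = E := by
      ext Y; exact (ObjectProperty.singleton_iff _ _).trans eq_comm
    rw [e]
    exact henv _ (hG j)

end Groth.Agent.S0978
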