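import Groth.Statements.S0982
import Groth.Agent.AbSub.TruncFactor

set_option autoImplicit false
universe w v u
open CategoryTheory CategoryTheory.Limits
open CohDer

namespace Groth.Agent.S0982

/-- Let K : ℕ ⥤ CochainComplex A ℤ be a sequence of cochain maps K₀ → K₁ → K₂ → … in an abelian category
with Hⁱ(K₀) = 0 for i > 0 and such that for every j < n the map H⁻ʲ(Kⱼ) → H⁻ʲ(Kⱼ₊₁) is zero. Then in
the derived category the composite K₀ → Kₙ factors through the canonical truncation τ_{≤ -n}Kₙ → Kₙ. -/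
theorem result {A : Type u} [Category.{v} A] [Abelian A] [HasDerivedCategory.{w} A]
    (K : ℕ ⥤ CochainComplex A ℤ) (n : ℕ)
    (h0 : ∀ i : ℤ, 0 < i → IsZero ((K.obj 0).homology i))
    (hz : ∀ j : ℕ, j < n → HomologicalComplex.homologyMap (K.map (homOfLE (Nat.le_succ j))) (-(j : ℤ)) = 0) :
    ∃ φ : DerivedCategory.Q.obj (K.obj 0) ⟶ DerivedCategory.Q.obj ((K.obj n).truncLE (-(n : ℤ))),
      φ ≫ DerivedCategory.Q.map ((K.obj n).ιTruncLE (-(n : ℤ))) = DerivedCategory.Q.map (K.map (homOfLE (Nat.zero_le n))) := by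
  induction n with
  | zero =>
    have : (K.obj 0).IsLE 0 := by
      rw [CochainComplex.isLE_iff]
      intro i hi
      rw [HomologicalComplex.exactAt_iff_isZero_homology]
      exact h0 i hi
    have : QuasiIso ((K.obj 0).ιTruncLE (-((0 : ℕ) : ℤ))) := by
      rw [CochainComplex.quasiIso_ιTruncLE_iff]; simpa using this
    have : IsIso (DerivedCategory.Q.map ((K.obj 0).ιTruncLE (-((0 : ℕ) : ℤ)))) := inferInstance
    refine ⟨inv (DerivedCategory.Q.map ((K.obj 0).ιTruncLE (-((0 : ℕ) : ℤ)))), ?_⟩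
    rw [IsIso.inv_hom_id, show (homOfLE (Nat.zero_le 0)) = 𝟙 _ from rfl, K.map_id, DerivedCategory.Q.map_id]
  | succ n ih =>
    obtain ⟨φ, hφ⟩ := ih (fun j hj => hz j (by omega))
    let L := K.obj (n + 1)
    let f : K.obj n ⟶ L := K.map (homOfLE (Nat.le_succ n))
    let M := L.truncLE (-(n : ℤ))
    let m := CochainComplex.truncLEMap f (-(n : ℤ))
    have hm : HomologicalComplex.homologyMap m (-(n : ℤ)) = 0 := by
      have : QuasiIsoAt (L.ιTruncLE (-(n : ℤ))) (-(n : ℤ)) := L.quasiIsoAt_ιTruncLE _ _ le_rfl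
      have h := congrArg (fun t => HomologicalComplex.homologyMap t (-(n : ℤ)))
        (CochainComplex.ιTruncLE_naturality f (-(n : ℤ)))
      rw [HomologicalComplex.homologyMap_comp, HomologicalComplex.homologyMap_comp,
        hz n (Nat.lt_succ_self n), comp_zero] at h
      exact (cancel_mono (HomologicalComplex.homologyMap (L.ιTruncLE (-(n : ℤ))) (-(n : ℤ)))).1
        (h.trans zero_comp.symm)
    obtain ⟨ψ, hψ⟩ := Groth.TruncFactor.exists_fac_truncLE (DerivedCategory.Q.map m)
      (-(n : ℤ)) (-((n + 1 : ℕ) : ℤ)) (by omega)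
      ((Groth.TruncFactor.homology_map_Q_eq_zero_iff m _).2 hm)
    refine ⟨φ ≫ ψ ≫ DerivedCategory.Q.map
      (CochainComplex.truncLEMap (L.ιTruncLE (-(n : ℤ))) (-((n + 1 : ℕ) : ℤ))), ?_⟩
    rw [Category.assoc, Category.assoc, ← Functor.map_comp, CochainComplex.ιTruncLE_naturality,
      Functor.map_comp, reassoc_of% hψ, ← Functor.map_comp, CochainComplex.ιTruncLE_naturality,
      Functor.map_comp, reassoc_of% hφ, ← Functor.map_comp, ← Functor.map_comp, homOfLE_comp]

end Groth.Agent.S0982
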