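import Groth.Statements.S0983
-- import your own Groth.Agent.* helpers here

set_option autoImplicit false
universe v u
open CategoryTheory
open CohDer

namespace Groth.Agent.S0983

open CategoryTheory.Pretriangulated in
/-- In a triangulated category, a commutative square f ≫ v = u ≫ f' (with f : X ⟶ Y, f' : X' ⟶ Y', u : X
⟶ X', v : Y ⟶ Y') extends to a diagram with three distinguished rows (X, Y, Z), (X', Y', Z'), (X'',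
Y'', Z'') and three distinguished columns (X, X', X''), (Y, Y', Y''), (Z, Z', Z''), in which all
squares commute except the one formed by the third morphisms of the last row and last column, which
anticommutes; the fourth row and column are the shifts of the first ones. -/
theorem result {D : Type u} [Category.{v} D] [Preadditive D] [Limits.HasZeroObject D] [HasShift D ℤ]
    [∀ n : ℤ, (shiftFunctor D n).Additive] [Pretriangulated D] [IsTriangulated D]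
    {X Y X' Y' : D} (f : X ⟶ Y) (f' : X' ⟶ Y') (u : X ⟶ X') (v : Y ⟶ Y') (comm : f ≫ v = u ≫ f') :
    ∃ (Z Z' X'' Y'' Z'' : D) (g : Y ⟶ Z) (h : Z ⟶ (shiftFunctor D (1 : ℤ)).obj X)
      (g' : Y' ⟶ Z') (h' : Z' ⟶ (shiftFunctor D (1 : ℤ)).obj X')
      (f'' : X'' ⟶ Y'') (g'' : Y'' ⟶ Z'') (h'' : Z'' ⟶ (shiftFunctor D (1 : ℤ)).obj X'')
      (u' : X' ⟶ X'') (u'' : X'' ⟶ (shiftFunctor D (1 : ℤ)).obj X)
      (v' : Y' ⟶ Y'') (v'' : Y'' ⟶ (shiftFunctor D (1 : ℤ)).obj Y)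
      (w : Z ⟶ Z') (w' : Z' ⟶ Z'') (w'' : Z'' ⟶ (shiftFunctor D (1 : ℤ)).obj Z),
      Triangle.mk f g h ∈ distinguishedTriangles ∧ Triangle.mk f' g' h' ∈ distinguishedTriangles ∧
      Triangle.mk f'' g'' h'' ∈ distinguishedTriangles ∧
      Triangle.mk u u' u'' ∈ distinguishedTriangles ∧ Triangle.mk v v' v'' ∈ distinguishedTriangles ∧
      Triangle.mk w w' w'' ∈ distinguishedTriangles ∧
      g ≫ w = v ≫ g' ∧ h ≫ (shiftFunctor D (1 : ℤ)).map u = w ≫ h' ∧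
      f' ≫ v' = u' ≫ f'' ∧ g' ≫ w' = v' ≫ g'' ∧ h' ≫ (shiftFunctor D (1 : ℤ)).map u' = w' ≫ h'' ∧
      f'' ≫ v'' = u'' ≫ (shiftFunctor D (1 : ℤ)).map f ∧ g'' ≫ w'' = v'' ≫ (shiftFunctor D (1 : ℤ)).map g ∧
      h'' ≫ (shiftFunctor D (1 : ℤ)).map u'' = -(w'' ≫ (shiftFunctor D (1 : ℤ)).map h) := by
  obtain ⟨Z, g, h, hZ⟩ := distinguished_cocone_triangle f
  obtain ⟨Z', g', h', hZ'⟩ := distinguished_cocone_triangle f'
  obtain ⟨X'', u', u'', hX''⟩ := distinguished_cocone_triangle u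
  obtain ⟨Y'', v', v'', hY''⟩ := distinguished_cocone_triangle v
  obtain ⟨C, q, r, hC⟩ := distinguished_cocone_triangle (f ≫ v)
  let O₁ := Triangulated.someOctahedron (u₁₂ := f) (u₂₃ := v) rfl hZ hY'' hC
  let O₂ := Triangulated.someOctahedron (u₁₂ := u) (u₂₃ := f') comm.symm hX'' hZ' hC
  obtain ⟨Z'', w', w'', hZ''⟩ := distinguished_cocone_triangle (O₁.m₁ ≫ O₂.m₃)
  have hrot : Triangle.mk O₂.m₃ (h' ≫ u'⟦(1 : ℤ)⟧') (-(O₂.m₁⟦(1 : ℤ)⟧')) ∈ distinguishedTriangles :=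
    rot_of_distTriang _ O₂.mem
  let O₃ := Triangulated.someOctahedron (u₁₂ := O₁.m₁) (u₂₃ := O₂.m₃) rfl O₁.mem hrot hZ''
  refine ⟨Z, Z', X'', Y'', Z'', g, h, g', h', O₂.m₁ ≫ O₁.m₃, O₃.m₁, O₃.m₃, u', u'', v', v'',
    O₁.m₁ ≫ O₂.m₃, w', w'', hZ, hZ', ?_, hX'', hY'', hZ'', ?_, ?_, ?_, ?_, ?_, ?_, ?_, ?_⟩
  · rw [rotate_distinguished_triangle]
    refine isomorphic_distinguished _ O₃.mem _ (Triangle.isoMk _ _ (Iso.refl _) (Iso.refl _) (Iso.refl _) ?_ ?_ ?_)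
    all_goals simp [Functor.map_comp, Triangle.rotate, Triangle.mk, Preadditive.neg_comp]
  · rw [O₁.comm₁_assoc, O₂.comm₃]
  · rw [Category.assoc, ← O₂.comm₄, O₁.comm₂_assoc]
  · rw [O₂.comm₁_assoc, O₁.comm₃]
  · have h1 : O₁.m₃ ≫ O₃.m₁ = O₂.m₃ ≫ w' := O₃.comm₁
    calc g' ≫ w' = (q ≫ O₂.m₃) ≫ w' := congrArg (· ≫ w') O₂.comm₃.symm
      _ = (q ≫ O₁.m₃) ≫ O₃.m₁ := by rw [Category.assoc, Category.assoc, h1]
      _ = v' ≫ O₃.m₁ := congrArg (· ≫ O₃.m₁) O₁.comm₃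
  · exact O₃.comm₃.symm
  · rw [Category.assoc, ← O₁.comm₄, O₂.comm₂_assoc]
  · exact O₃.comm₂
  · have h2 : w'' ≫ O₁.m₁⟦(1 : ℤ)⟧' = O₃.m₃ ≫ (-(O₂.m₁⟦(1 : ℤ)⟧')) := O₃.comm₄
    calc O₃.m₃ ≫ u''⟦(1 : ℤ)⟧' = O₃.m₃ ≫ (O₂.m₁ ≫ r)⟦(1 : ℤ)⟧' :=
          congrArg (fun t => O₃.m₃ ≫ t⟦(1 : ℤ)⟧') O₂.comm₂.symm
      _ = -((O₃.m₃ ≫ (-(O₂.m₁⟦(1 : ℤ)⟧'))) ≫ r⟦(1 : ℤ)⟧') := by
        simp only [Functor.map_comp, Preadditive.comp_neg, Preadditive.neg_comp, neg_neg, Category.assoc]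
      _ = -((w'' ≫ O₁.m₁⟦(1 : ℤ)⟧') ≫ r⟦(1 : ℤ)⟧') := by rw [h2]
      _ = -(w'' ≫ (O₁.m₁ ≫ r)⟦(1 : ℤ)⟧') := by rw [Category.assoc, Functor.map_comp]
      _ = -(w'' ≫ h⟦(1 : ℤ)⟧') := congrArg (fun t => -(w'' ≫ t⟦(1 : ℤ)⟧')) O₁.comm₂

end Groth.Agent.S0983
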