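import Groth.Statements.S0987
import Groth.Agent.KTheory.DbEuler

set_option autoImplicit false
universe w v u
open CategoryTheory CategoryTheory.Limits
open KZero

namespace Groth.Agent.S0987

/-- For an abelian category A there is an isomorphism between K₀(A) and K₀ of the bounded derived
category D^b(A) (objects of D(A) with bounded cohomology, with the distinguished triangles of D(A))
which sends the class of an object X to the class of X placed in degree 0. -/
theorem result (A : Type u) [Category.{v} A] [Abelian A] [HasDerivedCategory.{w} A] :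
    ∃ φ : KZero.K0 A ≃+ KZero.K0tr (fun X : DerivedCategory A => ∃ a b : ℤ, X.IsGE a ∧ X.IsLE b),
      ∀ X : A, φ (KZero.cl X) =
        KZero.clTr (fun X : DerivedCategory A => ∃ a b : ℤ, X.IsGE a ∧ X.IsLE b) ((DerivedCategory.singleFunctor A 0).obj X) := by
  let B : ObjectProperty (DerivedCategory A) := fun X => ∃ a b : ℤ, X.IsGE a ∧ X.IsLE b
  change ∃ φ : KZero.K0 A ≃+ KZero.K0tr B, ∀ X : A, φ (KZero.cl X) =
    KZero.clTr B ((DerivedCategory.singleFunctor A 0).obj X)
  have hB : Groth.KTheory.dbProp (⊤ : ObjectProperty A) = B :=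
    funext fun K => propext ⟨fun h => h.2, fun h => ⟨fun _ => trivial, h⟩⟩
  let ψ : KZero.K0 A ≃+ KZero.K0sub (⊤ : ObjectProperty A) := AddMonoidHom.toAddEquiv
    (Groth.KTheory.lift (KZero.clSub ⊤) fun S hS => Groth.KTheory.clSub_rel S hS trivial trivial trivial)
    (Groth.KTheory.liftSub _ KZero.cl fun S hS _ _ _ => Groth.KTheory.cl_rel S hS)
    (Groth.KTheory.k0_hom_ext fun X => by
      simp [Groth.KTheory.lift_cl, Groth.KTheory.liftSub_clSub (P := (⊤ : ObjectProperty A)) _ _ (X := X) trivial])
    (Groth.KTheory.k0sub_hom_ext fun X hX => by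
      simp [Groth.KTheory.lift_cl, Groth.KTheory.liftSub_clSub _ _ hX])
  refine hB ▸ ?_
  obtain ⟨φ, hφ⟩ := Groth.KTheory.exists_k0sub_equiv_dbProp (⊤ : ObjectProperty A)
  exact ⟨ψ.trans φ, fun X => by
    simp only [AddEquiv.trans_apply, ψ, AddMonoidHom.toAddEquiv_apply, Groth.KTheory.lift_cl]
    exact hφ X trivial⟩

end Groth.Agent.S0987
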