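import Groth.Statements.S0989
import Mathlib

set_option autoImplicit false
universe w v u
open CategoryTheory CategoryTheory.Limits
open CohDer
open scoped ZeroObject

namespace Groth.Agent.S0989

/-- Let P be a weak Serre class in an abelian category A: P is closed under isomorphisms, holds for a
zero object, and whenever X₀ → X₁ → X₂ → X₃ → X₄ is exact with P holding for X₀, X₁, X₃, X₄ it holds
for X₂. Then the class of objects of the derived category all of whose cohomology objects satisfy P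
is a triangulated subcategory (contains zero, stable under shifts, closed under extensions) which is
moreover closed under retracts (saturated). -/
theorem result {A : Type u} [Category.{v} A] [Abelian A] [HasDerivedCategory.{w} A]
    (P : ObjectProperty A) [P.IsClosedUnderIsomorphisms] (h0 : ∃ Z : A, IsZero Z ∧ P Z)
    (hP : ∀ S : ComposableArrows A 4, S.Exact → P (S.obj 0) → P (S.obj 1) → P (S.obj 3) → P (S.obj 4) → P (S.obj 2)) :
    ObjectProperty.IsTriangulated (fun X : DerivedCategory A => ∀ n : ℤ, P ((DerivedCategory.homologyFunctor A n).obj X)) ∧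
    ObjectProperty.IsStableUnderRetracts (fun X : DerivedCategory A => ∀ n : ℤ, P ((DerivedCategory.homologyFunctor A n).obj X)) := by
  let H := DerivedCategory.homologyFunctor A
  let P' : ObjectProperty (DerivedCategory A) := fun X => ∀ n : ℤ, P ((H n).obj X)
  have hiso : P'.IsClosedUnderIsomorphisms := ⟨fun e hX n => P.prop_of_iso ((H n).mapIso e) (hX n)⟩
  have hzero : ∀ Z : A, IsZero Z → P Z := fun Z hZ => by
    obtain ⟨Z₀, hZ₀, hP₀⟩ := h0
    exact P.prop_of_iso (hZ₀.iso hZ) hP₀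
  have h5 : ∀ {X₀ X₁ X₂ X₃ X₄ : A} (f₀ : X₀ ⟶ X₁) (f₁ : X₁ ⟶ X₂) (f₂ : X₂ ⟶ X₃) (f₃ : X₃ ⟶ X₄)
      (w₁ : f₀ ≫ f₁ = 0) (w₂ : f₁ ≫ f₂ = 0) (w₃ : f₂ ≫ f₃ = 0)
      (_ : (ShortComplex.mk f₀ f₁ w₁).Exact) (_ : (ShortComplex.mk f₁ f₂ w₂).Exact) (_ : (ShortComplex.mk f₂ f₃ w₃).Exact),
      P X₀ → P X₁ → P X₃ → P X₄ → P X₂ := by
    intro X₀ X₁ X₂ X₃ X₄ f₀ f₁ f₂ f₃ w₁ w₂ w₃ e₁ e₂ e₃ p₀ p₁ p₃ p₄
    refine hP (ComposableArrows.mk₄ f₀ f₁ f₂ f₃) ?_ p₀ p₁ p₃ p₄
    exact ComposableArrows.exact_of_δ₀ e₁.exact_toComposableArrows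
      (ComposableArrows.exact_of_δ₀ e₂.exact_toComposableArrows e₃.exact_toComposableArrows)
  refine ⟨{ toContainsZero := ⟨⟨0, isZero_zero _, fun n => hzero _ ((H n).map_isZero (isZero_zero _))⟩⟩
            toIsStableUnderShift := ⟨fun a => ⟨fun X hX n => ?_⟩⟩
            toIsTriangulatedClosed₂ := haveI := hiso; ObjectProperty.IsTriangulatedClosed₂.mk' (P := P') fun T hT h₁ h₃ n => ?_ },
    ⟨fun {X Y} r hY n => ?_⟩⟩
  · exact P.prop_of_iso (((DerivedCategory.homologyFunctor A 0).shiftIso a n (a + n) rfl).app X).symm (hX (a + n))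
  · obtain ⟨m, rfl⟩ : ∃ m, n = m + 1 := ⟨n - 1, by omega⟩
    exact h5 (DerivedCategory.HomologySequence.δ T m (m + 1) rfl) ((H (m + 1)).map T.mor₁) ((H (m + 1)).map T.mor₂)
      (DerivedCategory.HomologySequence.δ T (m + 1) (m + 1 + 1) rfl) _ _ _
      (DerivedCategory.HomologySequence.exact₁ T hT m (m + 1) rfl) (DerivedCategory.HomologySequence.exact₂ T hT (m + 1))
      (DerivedCategory.HomologySequence.exact₃ T hT (m + 1) (m + 1 + 1) rfl) (h₃ m) (h₁ _) (h₃ _) (h₁ _)
  · let r' := r.map (H n)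
    have hmono : Mono r'.i := mono_of_mono_fac r'.retract
    have hexact : (ShortComplex.mk r'.i (𝟙 _ - r'.r ≫ r'.i) (by simp [r'.retract_assoc])).Exact := by
      refine ShortComplex.exact_of_f_is_kernel _ (KernelFork.IsLimit.ofι' _ _ fun {W} k hk => ⟨k ≫ r'.r, ?_⟩)
      show (k ≫ r'.r) ≫ r'.i = k
      have hk' : k ≫ (𝟙 _ - r'.r ≫ r'.i) = 0 := hk
      rw [Preadditive.comp_sub, Category.comp_id, sub_eq_zero] at hk'
      rw [Category.assoc, ← hk']
    exact h5 (0 : (0 : A) ⟶ 0) (0 : (0 : A) ⟶ (H n).obj X) r'.i (𝟙 _ - r'.r ≫ r'.i) (by simp) (by simp) (by simp [r'.retract_assoc])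
      (ShortComplex.exact_of_isZero_X₂ _ (isZero_zero A)) ((ShortComplex.exact_iff_mono _ rfl).2 hmono) hexact
      (hzero _ (isZero_zero A)) (hzero _ (isZero_zero A)) (hY n) (hY n)

end Groth.Agent.S0989
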