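import Groth.Statements.S0990
import Mathlib.CategoryTheory.Abelian.SerreClass.Localization
import Mathlib.CategoryTheory.Limits.Preserves.Shapes.Kernels

set_option autoImplicit false
universe w w' v v' u u'
open CategoryTheory CategoryTheory.Limits
open CohDer

namespace Groth.Agent.S0990

section Helpers

variable {A : Type u} [Category.{v} A] [Abelian A] {Q : Type u'} [Category.{v'} Q] [Abelian Q]
  (L : A ⥤ Q)

/-- A lift of one differential of a complex. -/
structure Edge (K : CochainComplex Q ℤ) (n : ℤ) where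
  /-- The source. -/
  X : A
  /-- The target. -/
  Y : A
  /-- The lifted differential. -/
  f : X ⟶ Y
  /-- The identification of the source. -/
  eX : L.obj X ≅ K.X n
  /-- The identification of the target. -/
  eY : L.obj Y ≅ K.X (n + 1)
  comm : L.map f ≫ eY.hom = eX.hom ≫ K.d n (n + 1)

variable (W : MorphismProperty A) [L.IsLocalization W] {K : CochainComplex Q ℤ}

include W in
omit [Abelian A] in
lemma nonempty_edge [W.HasLeftCalculusOfFractions] (n : ℤ) : Nonempty (Edge L K n) := by
  have := Localization.essSurj L W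
  let a := L.objObjPreimageIso (K.X n)
  let b := L.objObjPreimageIso (K.X (n + 1))
  obtain ⟨φ, hφ⟩ := Localization.exists_leftFraction L W (a.hom ≫ K.d n (n + 1) ≫ b.inv)
  have hs : IsIso (L.map φ.s) := Localization.inverts L W _ φ.hs
  refine ⟨⟨_, _, φ.f, a, (asIso (L.map φ.s)).symm ≪≫ b, ?_⟩⟩
  have h := MorphismProperty.LeftFraction.map_comp_map_s φ L (Localization.inverts L W)
  rw [← hφ] at h
  rw [← h]
  simp

variable [L.Additive]

include W in
lemma exists_next [W.HasLeftCalculusOfFractions] [PreservesFiniteColimits L] {n : ℤ}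
    (E : Edge L K n) : ∃ E' : Edge L K (n + 1), ∃ h : E'.X = E.Y,
      E.f ≫ eqToHom h.symm ≫ E'.f = 0 ∧ eqToHom (congrArg L.obj h.symm) ≫ E'.eX.hom = E.eY.hom := by
  have := Localization.essSurj L W
  let b := L.objObjPreimageIso (K.X (n + 1 + 1))
  obtain ⟨φ, hφ⟩ := Localization.exists_leftFraction L W (E.eY.hom ≫ K.d (n + 1) (n + 1 + 1) ≫ b.inv)
  have hs : IsIso (L.map φ.s) := Localization.inverts L W _ φ.hs
  have h := MorphismProperty.LeftFraction.map_comp_map_s φ L (Localization.inverts L W)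
  rw [← hφ] at h
  have h0 : L.map (E.f ≫ φ.f) = 0 := by
    rw [L.map_comp, ← h, ← Category.assoc, ← Category.assoc, E.comm]
    simp
  have hπ : IsIso (L.map (cokernel.π (E.f ≫ φ.f))) := by
    rw [← π_comp_cokernelComparison (E.f ≫ φ.f) L]
    have : IsIso (cokernel.π (L.map (E.f ≫ φ.f))) :=
      ⟨cokernel.desc _ (𝟙 _) (by rw [h0, zero_comp]), cokernel.π_desc _ _ _, by
        rw [← cancel_epi (cokernel.π (L.map (E.f ≫ φ.f)))]; simp⟩
    infer_instance
  refine ⟨⟨E.Y, _, φ.f ≫ cokernel.π (E.f ≫ φ.f), E.eY,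
    (asIso (L.map φ.s ≫ L.map (cokernel.π (E.f ≫ φ.f)))).symm ≪≫ b, ?_⟩, rfl, ?_, ?_⟩
  · rw [L.map_comp, ← h]
    simp
  · simp only [eqToHom_refl, Category.id_comp, ← Category.assoc, cokernel.condition]
  · simp

include W in
lemma exists_prev [W.HasRightCalculusOfFractions] [PreservesFiniteLimits L] {n : ℤ}
    (E : Edge L K (n + 1)) : ∃ E' : Edge L K n, ∃ h : E'.Y = E.X,
      E'.f ≫ eqToHom h ≫ E.f = 0 ∧ eqToHom (congrArg L.obj h) ≫ E.eX.hom = E'.eY.hom := by
  have := Localization.essSurj L W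
  let a := L.objObjPreimageIso (K.X n)
  obtain ⟨φ, hφ⟩ := Localization.exists_rightFraction L W (a.hom ≫ K.d n (n + 1) ≫ E.eX.inv)
  have hs : IsIso (L.map φ.s) := Localization.inverts L W _ φ.hs
  have h := MorphismProperty.RightFraction.map_s_comp_map φ L (Localization.inverts L W)
  rw [← hφ] at h
  have h0 : L.map (φ.f ≫ E.f) = 0 := by
    rw [L.map_comp, ← h, ← cancel_mono E.eY.hom]
    simp [E.comm]
  have hι : IsIso (L.map (kernel.ι (φ.f ≫ E.f))) := by
    rw [← kernelComparison_comp_ι (φ.f ≫ E.f) L]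
    have : IsIso (kernel.ι (L.map (φ.f ≫ E.f))) :=
      ⟨kernel.lift _ (𝟙 _) (by rw [h0, comp_zero]), by
        rw [← cancel_mono (kernel.ι (L.map (φ.f ≫ E.f)))]; simp, kernel.lift_ι _ _ _⟩
    infer_instance
  refine ⟨⟨_, E.X, kernel.ι (φ.f ≫ E.f) ≫ φ.f,
    asIso (L.map (kernel.ι (φ.f ≫ E.f)) ≫ L.map φ.s) ≪≫ a, E.eX, ?_⟩, rfl, ?_, ?_⟩
  · rw [L.map_comp, ← h]
    simp
  · simp only [eqToHom_refl, Category.id_comp, Category.assoc, kernel.condition]
  · simp

theorem exists_lift [W.HasLeftCalculusOfFractions] [W.HasRightCalculusOfFractions]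
    [PreservesFiniteLimits L] [PreservesFiniteColimits L]
    (K : CochainComplex Q ℤ) :
    ∃ M : CochainComplex A ℤ, Nonempty ((L.mapHomologicalComplex _).obj M ≅ K) := by
  obtain ⟨E₀⟩ := nonempty_edge L W (K := K) 0
  let up : ∀ k : ℕ, Edge L K (k : ℤ) := fun k =>
    Nat.rec (motive := fun (k : ℕ) => Edge L K (k : ℤ)) E₀
      (fun _ E => (exists_next L W E).choose) k
  let down : ∀ k : ℕ, Edge L K (Int.negSucc k) := fun k =>
    Nat.rec (motive := fun (k : ℕ) => Edge L K (Int.negSucc k))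
      (exists_prev L W (n := Int.negSucc 0) E₀).choose
      (fun k E => (exists_prev L W (n := Int.negSucc (k + 1)) E).choose) k
  have hup : ∀ k : ℕ, ∃ h : (up (k + 1)).X = (up k).Y,
      (up k).f ≫ eqToHom h.symm ≫ (up (k + 1)).f = 0 ∧
        eqToHom (congrArg L.obj h.symm) ≫ (up (k + 1)).eX.hom = (up k).eY.hom :=
    fun k => (exists_next L W (up k)).choose_spec
  have hdown₀ : ∃ h : (down 0).Y = (up 0).X, (down 0).f ≫ eqToHom h ≫ (up 0).f = 0 ∧
      eqToHom (congrArg L.obj h) ≫ (up 0).eX.hom = (down 0).eY.hom :=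
    (exists_prev L W (n := Int.negSucc 0) E₀).choose_spec
  have hdown : ∀ k : ℕ, ∃ h : (down (k + 1)).Y = (down k).X,
      (down (k + 1)).f ≫ eqToHom h ≫ (down k).f = 0 ∧
        eqToHom (congrArg L.obj h) ≫ (down k).eX.hom = (down (k + 1)).eY.hom :=
    fun k => (exists_prev L W (n := Int.negSucc (k + 1)) (down k)).choose_spec
  let X : ℤ → A := fun n =>
    match n with
    | Int.ofNat k => (up k).X
    | Int.negSucc k => (down k).X
  let d : ∀ n : ℤ, X n ⟶ X (n + 1) := fun n =>
    match n with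
    | Int.ofNat k => ((up k).f ≫ eqToHom (hup k).choose.symm : (up k).X ⟶ (up (k + 1)).X)
    | Int.negSucc 0 => ((down 0).f ≫ eqToHom hdown₀.choose : (down 0).X ⟶ (up 0).X)
    | Int.negSucc (k + 1) =>
        ((down (k + 1)).f ≫ eqToHom (hdown k).choose : (down (k + 1)).X ⟶ (down k).X)
  have sq : ∀ n : ℤ, d n ≫ d (n + 1) = 0 := by
    intro n
    rcases n with k | (_ | (_ | k))
    · change ((up k).f ≫ eqToHom (hup k).choose.symm) ≫ (up (k + 1)).f ≫ eqToHom _ = 0
      rw [Category.assoc, ← Category.assoc (eqToHom (hup k).choose.symm), ← Category.assoc (up k).f,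
        (hup k).choose_spec.1, zero_comp]
    · change ((down 0).f ≫ eqToHom hdown₀.choose) ≫ (up 0).f ≫ eqToHom _ = 0
      rw [Category.assoc, ← Category.assoc (eqToHom hdown₀.choose), ← Category.assoc (down 0).f,
        hdown₀.choose_spec.1, zero_comp]
    · change ((down (0 + 1)).f ≫ eqToHom (hdown 0).choose) ≫ (down 0).f ≫ eqToHom _ = 0
      rw [Category.assoc, ← Category.assoc (eqToHom (hdown 0).choose), ← Category.assoc (down (0 + 1)).f,
        (hdown 0).choose_spec.1, zero_comp]
    · change ((down (k + 2)).f ≫ eqToHom (hdown (k + 1)).choose) ≫ (down (k + 1)).f ≫ eqToHom _ = 0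
      rw [Category.assoc, ← Category.assoc (eqToHom (hdown (k + 1)).choose),
        ← Category.assoc (down (k + 2)).f, (hdown (k + 1)).choose_spec.1, zero_comp]
  let e : ∀ n : ℤ, L.obj (X n) ≅ K.X n := fun n =>
    match n with
    | Int.ofNat k => (up k).eX
    | Int.negSucc k => (down k).eX
  refine ⟨CochainComplex.of X d sq,
    ⟨HomologicalComplex.Hom.isoOfComponents e fun i j hij => ?_⟩⟩
  obtain rfl : i + 1 = j := hij
  change (e i).hom ≫ K.d i (i + 1) = L.map (CochainComplex.of.d X d i (i + 1)) ≫ (e (i + 1)).hom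
  rw [CochainComplex.of_d]
  rcases i with k | (_ | k)
  · change (up k).eX.hom ≫ K.d _ _ = L.map ((up k).f ≫ eqToHom _) ≫ (up (k + 1)).eX.hom
    rw [L.map_comp, eqToHom_map, Category.assoc, (hup k).choose_spec.2, (up k).comm]
    rfl
  · change (down 0).eX.hom ≫ K.d _ _ = L.map ((down 0).f ≫ eqToHom _) ≫ (up 0).eX.hom
    rw [L.map_comp, eqToHom_map, Category.assoc, hdown₀.choose_spec.2, (down 0).comm]
    rfl
  · change (down (k + 1)).eX.hom ≫ K.d _ _ =
      L.map ((down (k + 1)).f ≫ eqToHom _) ≫ (down k).eX.hom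
    rw [L.map_comp, eqToHom_map, Category.assoc, (hdown k).choose_spec.2, (down (k + 1)).comm]
    rfl

end Helpers

/-- Let P be a Serre class in an abelian category A and let L : A ⥤ Q be a model of the quotient A/P,
i.e. an exact functor to an abelian category which is a localization at the morphisms whose kernel
and cokernel satisfy P. Then the induced functor on derived categories D(A) ⥤ D(Q) is essentially
surjective. -/
theorem result {A : Type u} [Category.{v} A] [Abelian A] [HasDerivedCategory.{w} A]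
    (P : ObjectProperty A) [P.IsSerreClass]
    {Q : Type u'} [Category.{v'} Q] [Abelian Q] [HasDerivedCategory.{w'} Q]
    (L : A ⥤ Q) [L.IsLocalization P.isoModSerre] [L.Additive] [PreservesFiniteLimits L] [PreservesFiniteColimits L] :
    L.mapDerivedCategory.EssSurj := by
  constructor
  intro X
  obtain ⟨M, ⟨i⟩⟩ := exists_lift L P.isoModSerre (DerivedCategory.Q.objPreimage X)
  exact ⟨DerivedCategory.Q.obj M, ⟨L.mapDerivedCategoryFactors.app M ≪≫ DerivedCategory.Q.mapIso i ≪≫
    DerivedCategory.Q.objObjPreimageIso X⟩⟩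

end Groth.Agent.S0990
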