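import Groth.Statements.S0992
import Mathlib

set_option autoImplicit false
universe w
open CategoryTheory CategoryTheory.Limits Opposite
open CohDer

namespace Groth.Agent.S0992

section Aux

variable {I : Type w} [LinearOrder I] [WellFoundedLT I] (K : Iᵒᵖ ⥤ CochainComplex AddCommGrpCat.{w} ℤ)

/-- The transition maps. -/
def tr (n : ℤ) {γ δ : I} (h : δ ≤ γ) (z : (K.obj (op γ)).X n) : (K.obj (op δ)).X n :=
  ((K.map (homOfLE h).op).f n).hom z

variable {K}

theorem tr_refl (n : ℤ) {γ : I} (z : (K.obj (op γ)).X n) : tr K n le_rfl z = z := by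
  have : (homOfLE (le_refl γ)).op = 𝟙 (op γ) := Subsingleton.elim _ _
  simp [tr, this]

theorem tr_tr (n : ℤ) {γ δ ε : I} (h : δ ≤ γ) (h' : ε ≤ δ) (z : (K.obj (op γ)).X n) :
    tr K n h' (tr K n h z) = tr K n (h'.trans h) z := by
  have : (homOfLE (h'.trans h)).op = (homOfLE h).op ≫ (homOfLE h').op := Subsingleton.elim _ _
  simp [tr, this]

theorem tr_d (i j : ℤ) {γ δ : I} (h : δ ≤ γ) (z : (K.obj (op γ)).X i) :
    tr K j h (((K.obj (op γ)).d i j).hom z) = ((K.obj (op δ)).d i j).hom (tr K i h z) := by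
  exact (ConcreteCategory.congr_hom ((K.map (homOfLE h).op).comm i j) z).symm

/-- Compatible families on a set of indices. -/
def Compat (D : Set I) (n : ℤ) (y : ∀ γ : I, (K.obj (op γ)).X n) : Prop :=
  ∀ γ ∈ D, ∀ δ (h : δ ≤ γ), tr K n h (y γ) = y δ

/-- Compatible families of cycles on `D` have compatible primitives. -/
def Prim (D : Set I) : Prop :=
  ∀ i j k : ℤ, i + 1 = j → j + 1 = k → ∀ x : ∀ γ : I, (K.obj (op γ)).X j, Compat D j x →
    (∀ γ ∈ D, ((K.obj (op γ)).d j k).hom (x γ) = 0) →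
      ∃ y : ∀ γ : I, (K.obj (op γ)).X i, Compat D i y ∧ ∀ γ ∈ D, ((K.obj (op γ)).d i j).hom (y γ) = x γ

variable (hac : ∀ (β : I) (n : ℤ), (K.obj (op β)).ExactAt n)
  (hsurj : ∀ (β : I) (n : ℤ) (x : ∀ γ : {γ : I // γ < β}, (K.obj (op γ.1)).X n),
    (∀ (γ γ' : {γ : I // γ < β}) (h : γ.1 ≤ γ'.1), tr K n h (x γ') = x γ) →
    ∃ y : (K.obj (op β)).X n, ∀ γ : {γ : I // γ < β}, tr K n γ.2.le y = x γ)

include hac hsurj in
theorem step {β : I} (hT : Prim (K := K) (Set.Iio β)) {i j k : ℤ} (hij : i + 1 = j) (hjk : j + 1 = k)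
    (x : (K.obj (op β)).X j) (hx : ((K.obj (op β)).d j k).hom x = 0)
    (y : ∀ δ, δ < β → (K.obj (op δ)).X i)
    (hy : ∀ γ (hγ : γ < β) δ (h : δ ≤ γ), tr K i h (y γ hγ) = y δ (lt_of_le_of_lt h hγ))
    (hdy : ∀ γ (hγ : γ < β), ((K.obj (op γ)).d i j).hom (y γ hγ) = tr K j hγ.le x) :
    ∃ z : (K.obj (op β)).X i, ((K.obj (op β)).d i j).hom z = x ∧ ∀ δ (h : δ < β), tr K i h.le z = y δ h := by
  classical
  obtain ⟨z, hz⟩ := hsurj β i (fun γ => y γ.1 γ.2) (fun γ γ' h => hy γ'.1 γ'.2 γ.1 h)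
  have hex : ∀ (l m : ℤ), l + 1 = m → ∀ (e : (K.obj (op β)).X m),
      ((K.obj (op β)).d m (m + 1)).hom e = 0 → ∃ w, ((K.obj (op β)).d l m).hom w = e := by
    intro l m hlm e he
    obtain rfl : l = m - 1 := by omega
    exact (ShortComplex.ab_exact_iff _).1 (((K.obj (op β)).exactAt_iff' (m - 1) m (m + 1) (by simp) (by simp)).1 (hac β m)) e he
  subst hjk
  obtain ⟨w, hw⟩ := hex i j hij (x - ((K.obj (op β)).d i j).hom z) (by
    rw [map_sub, hx, zero_sub, neg_eq_zero]
    exact ConcreteCategory.congr_hom ((K.obj (op β)).d_comp_d i j (j + 1)) z)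
  let wf : ∀ γ : I, (K.obj (op γ)).X i := fun γ => if h : γ < β then tr K i h.le w else 0
  obtain ⟨v, hv, hdv⟩ := hT (i - 1) i j (by omega) hij wf (fun γ hγ δ h => by
      have hδ : δ < β := lt_of_le_of_lt h hγ
      simp only [wf, dif_pos (show γ < β from hγ), dif_pos hδ]
      exact tr_tr i _ h w)
    (fun γ hγ => by
      simp only [wf, dif_pos (show γ < β from hγ)]
      rw [← tr_d, hw]
      show ((K.map _).f j).hom (x - _) = 0
      rw [map_sub]
      show tr K j _ x - tr K j _ (((K.obj (op β)).d i j).hom z) = 0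
      rw [tr_d, hz ⟨γ, hγ⟩, hdy γ hγ, sub_self])
  obtain ⟨v', hv'⟩ := hsurj β (i - 1) (fun γ => v γ.1) (fun γ γ' h => hv γ'.1 γ'.2 γ.1 h)
  refine ⟨z + w - ((K.obj (op β)).d (i - 1) i).hom v', ?_, fun δ hδ => ?_⟩
  · have h0 : ((K.obj (op β)).d i j).hom (((K.obj (op β)).d (i - 1) i).hom v') = 0 :=
      ConcreteCategory.congr_hom ((K.obj (op β)).d_comp_d (i - 1) i j) v'
    rw [map_sub, map_add, hw, h0, sub_zero, add_sub_cancel]
  · show ((K.map _).f i).hom _ = _
    rw [map_sub, map_add]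
    show tr K i _ z + tr K i _ w - tr K i _ (((K.obj (op β)).d (i - 1) i).hom v') = _
    rw [tr_d, hz ⟨δ, hδ⟩, hv' ⟨δ, hδ⟩, hdv δ hδ]
    simp [wf, hδ]

include hac hsurj in
theorem prim_of_lower (D : Set I) (hD : ∀ γ ∈ D, ∀ δ ≤ γ, δ ∈ D)
    (hT : ∀ γ ∈ D, Prim (K := K) (Set.Iio γ)) : Prim (K := K) D := by
  classical
  intro i j k hij hjk x hx hdx
  let P : ∀ γ : I, (∀ δ, δ < γ → (K.obj (op δ)).X i) → (K.obj (op γ)).X i → Prop :=
    fun γ prev z => ((K.obj (op γ)).d i j).hom z = x γ ∧ ∀ δ (h : δ < γ), tr K i h.le z = prev δ h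
  let F : ∀ γ : I, (∀ δ, δ < γ → (K.obj (op δ)).X i) → (K.obj (op γ)).X i :=
    fun γ prev => if h : ∃ z, P γ prev z then h.choose else 0
  let y : ∀ γ : I, (K.obj (op γ)).X i := (wellFounded_lt : WellFounded ((· < ·) : I → I → Prop)).fix F
  have hfix : ∀ γ, y γ = F γ (fun δ _ => y δ) := fun γ => WellFounded.fix_eq _ _ γ
  have main : ∀ γ ∈ D, P γ (fun δ _ => y δ) (y γ) := by
    intro γ
    induction γ using (wellFounded_lt : WellFounded ((· < ·) : I → I → Prop)).induction with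
    | _ γ ih =>
      intro hγ
      have hlt : ∀ δ, δ < γ → δ ∈ D := fun δ h => hD γ hγ δ h.le
      have hex : ∃ z, P γ (fun δ _ => y δ) z := step hac hsurj (hT γ hγ) hij hjk (x γ) (hdx γ hγ)
        (fun δ _ => y δ)
        (fun δ hδ ε h => by
          rcases h.eq_or_lt with rfl | h'
          · exact tr_refl i _
          · exact (ih δ hδ (hlt δ hδ)).2 ε h')
        (fun δ hδ => by rw [(ih δ hδ (hlt δ hδ)).1, hx γ hγ δ hδ.le])
      rw [hfix γ]
      simp only [F, dif_pos hex]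
      exact hex.choose_spec
  refine ⟨y, fun γ hγ δ h => ?_, fun γ hγ => (main γ hγ).1⟩
  rcases h.eq_or_lt with rfl | h'
  · exact tr_refl i _
  · exact (main γ hγ).2 δ h'

include hac hsurj in
theorem prim_univ : Prim (K := K) Set.univ := by
  have h : ∀ β : I, Prim (K := K) (Set.Iio β) := by
    intro β
    induction β using (wellFounded_lt : WellFounded ((· < ·) : I → I → Prop)).induction with
    | _ β ih =>
      exact prim_of_lower hac hsurj _ (fun γ hγ δ h => lt_of_le_of_lt h hγ) fun γ hγ => ih γ hγ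
  exact prim_of_lower hac hsurj _ (fun _ _ _ _ => trivial) fun γ _ => h γ

end Aux

/-- Let I be a well-ordered type and K : Iᵒᵖ ⥤ CochainComplex Ab an inverse system of acyclic complexes
of abelian groups such that for every β and every degree n, each family of elements of the Kⁿ_γ (γ <
β) compatible under the transition maps lifts to an element of Kⁿ_β (i.e. Kⁿ_β → lim_{γ<β} Kⁿ_γ is
surjective). Then the limit complex lim K is acyclic. -/
theorem result {I : Type w} [LinearOrder I] [WellFoundedLT I]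
    (K : Iᵒᵖ ⥤ CochainComplex AddCommGrpCat.{w} ℤ)
    (hac : ∀ (β : I) (n : ℤ), (K.obj (op β)).ExactAt n)
    (hsurj : ∀ (β : I) (n : ℤ) (x : ∀ γ : {γ : I // γ < β}, (K.obj (op γ.1)).X n),
      (∀ (γ γ' : {γ : I // γ < β}) (h : γ.1 ≤ γ'.1), ((K.map (homOfLE h).op).f n).hom (x γ') = x γ) →
      ∃ y : (K.obj (op β)).X n, ∀ γ : {γ : I // γ < β}, ((K.map (homOfLE γ.2.le).op).f n).hom y = x γ)
    (n : ℤ) : (limit K).ExactAt n := by
  rw [(limit K).exactAt_iff' (n - 1) n (n + 1) (by simp) (by simp), ShortComplex.ab_exact_iff]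
  intro x hx
  let E := fun m : ℤ => HomologicalComplex.eval AddCommGrpCat.{w} (ComplexShape.up ℤ) m
  let hl := fun m : ℤ => isLimitOfPreserves (E m) (limit.isLimit K)
  let xf : ∀ γ : I, (K.obj (op γ)).X n := fun γ => ((limit.π K (op γ)).f n).hom x
  obtain ⟨y, hy, hdy⟩ := prim_univ hac hsurj (n - 1) n (n + 1) (by omega) rfl xf
    (fun γ _ δ h => by
      show ((K.map (homOfLE h).op).f n).hom (((limit.π K (op γ)).f n).hom x) = ((limit.π K (op δ)).f n).hom x
      rw [← limit.w K (homOfLE h).op]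
      rfl)
    (fun γ _ => by
      show ((K.obj (op γ)).d n (n + 1)).hom (((limit.π K (op γ)).f n).hom x) = 0
      refine (ConcreteCategory.congr_hom ((limit.π K (op γ)).comm n (n + 1)) x).trans ?_
      show ((limit.π K (op γ)).f (n + 1)).hom (((limit K).d n (n + 1)).hom x) = 0
      rw [show ((limit K).d n (n + 1)).hom x = 0 from hx, map_zero])
  let sec : ((K ⋙ E (n - 1)) ⋙ forget AddCommGrpCat.{w}).sections :=
    ⟨fun γ => y γ.unop, fun {a b} g => hy a.unop trivial b.unop (leOfHom g.unop)⟩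
  let x₁ : (limit K).X (n - 1) :=
    (Types.isLimitEquivSections (isLimitOfPreserves (forget AddCommGrpCat.{w}) (hl (n - 1)))).symm sec
  have hx₁ : ∀ γ, ((limit.π K (op γ)).f (n - 1)).hom x₁ = y γ := fun γ =>
    Types.isLimitEquivSections_symm_apply (isLimitOfPreserves (forget AddCommGrpCat.{w}) (hl (n - 1))) sec (op γ)
  refine ⟨x₁, Concrete.isLimit_ext _ (hl n) _ _ fun γ => ?_⟩
  obtain ⟨γ⟩ := γ
  show ((limit.π K (op γ)).f n).hom (((limit K).d (n - 1) n).hom x₁) = ((limit.π K (op γ)).f n).hom x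
  refine (ConcreteCategory.congr_hom ((limit.π K (op γ)).comm (n - 1) n) x₁).symm.trans ?_
  show ((K.obj (op γ)).d (n - 1) n).hom (((limit.π K (op γ)).f (n - 1)).hom x₁) = _
  rw [hx₁]
  exact hdy γ trivial

end Groth.Agent.S0992
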