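import Groth.Statements.S10034
import Groth.Agent.AlgSp2.Approx.ClosedLimit
import Groth.Agent.AlgSp2.Approx.FiniteFP
-- import your own Groth.Agent.* helpers here

set_option autoImplicit false
universe u
open CategoryTheory CategoryTheory.Limits AlgebraicGeometry
open AlgSp

namespace Groth.Agent.S10034

/-- Let `Y` be an algebraic space, quasi-compact and quasi-separated over the scheme `S`, and `f : X ⟶
Y` a finite morphism from another algebraic space. Then `X` is the limit of a directed system of
algebraic spaces `X_i`, each finite and of finite presentation over `Y`, whose transition maps are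
closed immersions (limit in fppf sheaves, indexed by a nonempty directed preorder, compatible with
`f`). (The published statement allows any base scheme and uses absolute quasi-separatedness; this
row assumes the base quasi-separated, over which quasi-separatedness relative to the base is the
absolute notion.) -/
theorem result (S : Scheme.{u}) [QuasiSeparatedSpace S]
    {X Y : AlgSp.Space S} (f : X ⟶ Y) (hf : AlgSp.IsFiniteMor f.hom) (hYqc : AlgSp.IsQuasiCompactSp Y.obj) (hYqs : AlgSp.IsQuasiSeparatedSp Y.obj) :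
    ∃ (I : Type u) (_ : Preorder I) (_ : IsDirected I (fun a b => a ≤ b)) (_ : Nonempty I) (D : Iᵒᵖ ⥤ AlgSp.Sp S)
      (t : D ⟶ (Functor.const Iᵒᵖ).obj Y.obj) (c : Cone D) (_ : IsLimit c) (e : c.pt ≅ X.obj),
      (∀ i, AlgSp.IsAlgSpace (D.obj i)) ∧ (∀ (i j : Iᵒᵖ) (φ : i ⟶ j), AlgSp.RepWith @IsClosedImmersion (D.map φ)) ∧
      (∀ i, AlgSp.IsFiniteMor (t.app i) ∧ AlgSp.IsFinitePresentationMor (t.app i)) ∧ (∀ i, e.inv ≫ c.π.app i ≫ t.app i = f.hom) := by
  have hf' : Groth.AlgSpBasic.AffWith @IsFinite f.hom := Groth.AlgSpBasic.affWith_isFinite_iff.2 hf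
  obtain ⟨T, ν, h, hT, hν, hνfp, hh, hfac⟩ :=
    Groth.AlgSp2.Approx.exists_envelope hf' Y.property hYqc hYqs
  obtain ⟨A⟩ := Groth.AlgSp2.Approx.exists_atlas Y.property hYqc hYqs
  have hνa : AlgSp.IsAffineMor ν := Groth.AlgSpBasic.affWith_isAffineHom_iff.1
    (Groth.AlgSpBasic.affWith_mono (Q := @IsFinite) (Q' := @IsAffineHom)
      (fun _ _ k (_ : IsFinite k) => inferInstance) hν)
  obtain ⟨I, i1, i2, i3, D, t, π, hlim, h1, h2, h3, h4⟩ :=
    Groth.AlgSp2.Approx.exists_closed_limit hνa hh Y.property hT A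
  refine ⟨I, i1, i2, i3, D, t ≫ (Functor.const Iᵒᵖ).map ν, Cone.mk X.obj π, hlim, Iso.refl _, h1, h2,
    fun i => ?_, fun i => ?_⟩
  · exact Groth.AlgSp2.Approx.closed_comp_finite (h1 i) hT Y.property hν hνfp (h3 i).1 (h3 i).2.1
  · simp only [Iso.refl_inv, Category.id_comp]
    show π.app i ≫ t.app i ≫ ν = f.hom
    rw [reassoc_of% (h4 i), hfac]

end Groth.Agent.S10034
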