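import Groth.Statements.S10036
import Groth.Agent.AlgSp2.Absolute.ClosedApprox
-- import your own Groth.Agent.* helpers here

set_option autoImplicit false
set_option backward.isDefEq.respectTransparency.types false
universe u
open CategoryTheory CategoryTheory.Limits AlgebraicGeometry
open AlgSp

namespace Groth.Agent.S10036

/-- Let `f : X ⟶ Y`, a morphism of algebraic spaces over `S`, be quasi-affine and locally of finite
type; suppose the target `Y` is quasi-compact and quasi-separated over `S`. Then `f` factors as a
closed immersion `X ⟶ X'` followed by a morphism `X' ⟶ Y` of finite presentation. (The published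
statement allows any base scheme and uses absolute quasi-separatedness; this row assumes the base
quasi-separated, over which quasi-separatedness relative to the base is the absolute notion.) -/
theorem result (S : Scheme.{u}) [QuasiSeparatedSpace S]
    {X Y : AlgSp.Space S} (f : X ⟶ Y) (hft : AlgSp.LocP @LocallyOfFiniteType f.hom) (hqa : AlgSp.IsQuasiAffineMor f.hom) (hYqc : AlgSp.IsQuasiCompactSp Y.obj) (hYqs : AlgSp.IsQuasiSeparatedSp Y.obj) :
    ∃ (X' : AlgSp.Space S) (i : X ⟶ X') (f' : X' ⟶ Y), i ≫ f' = f ∧
      AlgSp.RepWith @IsClosedImmersion i.hom ∧ AlgSp.IsFinitePresentationMor f'.hom := by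
  obtain ⟨hXqc, hXqs⟩ :=
    Groth.AlgSp2.Absolute.qcqs_of_quasiAffine Y.property hqa X.property hYqc hYqs
  obtain ⟨T, i, ν, h, hT, -, -, hi, hν⟩ :=
    Groth.AlgSp2.Absolute.exists_closed_fp X.property hXqc hXqs Y.property hYqc hYqs hft
  exact ⟨⟨T, hT⟩, ObjectProperty.homMk i, ObjectProperty.homMk ν, ObjectProperty.hom_ext _ h, hi, hν⟩

end Groth.Agent.S10036
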