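import Groth.Statements.S10038
import Groth.Agent.AlgSp2.Absolute.ClosedApprox
-- import your own Groth.Agent.* helpers here

set_option autoImplicit false
set_option backward.isDefEq.respectTransparency.types false
universe u
open CategoryTheory CategoryTheory.Limits AlgebraicGeometry
open AlgSp

namespace Groth.Agent.S10038

/-- Let `f : X ⟶ Y` be a separated morphism of finite type of algebraic spaces over `S`; suppose the
target `Y` is quasi-compact and quasi-separated over `S`. Then `f` factors as a closed immersion `X
⟶ X'` followed by a separated morphism `X' ⟶ Y` of finite presentation. (The published statement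
allows any base scheme and uses absolute quasi-separatedness; this row assumes the base
quasi-separated, over which quasi-separatedness relative to the base is the absolute notion.) -/
theorem result (S : Scheme.{u}) [QuasiSeparatedSpace S]
    {X Y : AlgSp.Space S} (f : X ⟶ Y) (hft : AlgSp.IsFiniteTypeMor f.hom) (hsep : AlgSp.IsSeparatedMor f.hom) (hYqc : AlgSp.IsQuasiCompactSp Y.obj) (hYqs : AlgSp.IsQuasiSeparatedSp Y.obj) :
    ∃ (X' : AlgSp.Space S) (i : X ⟶ X') (f' : X' ⟶ Y), i ≫ f' = f ∧
      AlgSp.RepWith @IsClosedImmersion i.hom ∧ AlgSp.IsFinitePresentationMor f'.hom ∧ AlgSp.IsSeparatedMor f'.hom := by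
  obtain ⟨I, hI, hI', hIne, D, t, π, -, hD, -, hπc, -, ht, hπ, i₀, hs⟩ :=
    Groth.AlgSp2.Absolute.exists_limit_closed_separated X.property Y.property hYqc hYqs hft hsep
  exact ⟨⟨D.obj i₀, hD i₀⟩, ObjectProperty.homMk (π.app i₀), ObjectProperty.homMk (t.app i₀),
    ObjectProperty.hom_ext _ (hπ i₀), hπc i₀, ht i₀, hs i₀ (𝟙 i₀)⟩

end Groth.Agent.S10038
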