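import Groth.Statements.S10043
import Groth.Agent.AlgSp2.Chevalley.Main
-- import your own Groth.Agent.* helpers here

set_option autoImplicit false
set_option backward.isDefEq.respectTransparency.types false
universe u
open CategoryTheory CategoryTheory.Limits AlgebraicGeometry
open AlgSp

namespace Groth.Agent.S10043

/-- Let `f : X ⟶ Y` be a finite and surjective morphism of algebraic spaces over `S` with `X` an affine
scheme. Then `Y` is an affine scheme. -/
theorem result (S : Scheme.{u}) {X Y : AlgSp.Space S} (f : X ⟶ Y)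
    (hfin : AlgSp.IsFiniteMor f.hom) (hsurj : AlgSp.IsSurjectiveMor f.hom) (hX : ∃ (T : Over S), IsAffine T.left ∧ Nonempty ((AlgSp.yon S).obj T ≅ X.obj)) :
    ∃ (T : Over S), IsAffine T.left ∧ Nonempty ((AlgSp.yon S).obj T ≅ Y.obj) := by
  obtain ⟨T, hT, ⟨e⟩⟩ := hX
  have := hT
  have hs : AlgSp.IsSurjectiveMor (e.hom ≫ f.hom) := fun y => by
    obtain ⟨x, rfl⟩ := hsurj y
    exact ⟨AlgSp.Points.map e.inv x, by rw [← AlgSp.Points.map_comp, Iso.inv_hom_id_assoc]⟩
  have hfR : AlgSp.RepWith @IsFinite f.hom := (Groth.AlgSp2.isFiniteMor_iff X.property Y.property).1 hfin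
  have h1 : AlgSp.RepWith @UniversallyClosed (e.hom ≫ f.hom) :=
    Groth.AlgSpBasic.repWith_comp (Groth.AlgSpBasic.repWith_isIso e.hom)
      (Groth.AlgSpBasic.repWith_mono (fun _ _ k (_ : IsFinite k) => (inferInstance : UniversallyClosed k)) hfR)
  exact Groth.AlgSp2.Chevalley.exists_iso_affine Y.property hs
    (Groth.AlgSp2.Chevalley.isUnivClosedMor_of_repWith h1)

end Groth.Agent.S10043
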