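import Groth.Statements.S10044
import Groth.Agent.AlgSp2.Chevalley.Main
-- import your own Groth.Agent.* helpers here

set_option autoImplicit false
set_option backward.isDefEq.respectTransparency.types false
universe u
open CategoryTheory CategoryTheory.Limits AlgebraicGeometry
open AlgSp

namespace Groth.Agent.S10044

/-- Let `f : X ⟶ Y` be a surjective and universally closed morphism of algebraic spaces over `S` with
`X` an affine scheme. Then `Y` is an affine scheme. -/
theorem result (S : Scheme.{u}) {X Y : AlgSp.Space S} (f : X ⟶ Y)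
    (hsurj : AlgSp.IsSurjectiveMor f.hom) (huc : AlgSp.IsUnivClosedMor f.hom) (hX : ∃ (T : Over S), IsAffine T.left ∧ Nonempty ((AlgSp.yon S).obj T ≅ X.obj)) :
    ∃ (T : Over S), IsAffine T.left ∧ Nonempty ((AlgSp.yon S).obj T ≅ Y.obj) := by
  obtain ⟨T, hT, ⟨e⟩⟩ := hX
  have := hT
  have hs : AlgSp.IsSurjectiveMor (e.hom ≫ f.hom) := fun y => by
    obtain ⟨x, rfl⟩ := hsurj y
    exact ⟨AlgSp.Points.map e.inv x, by rw [← AlgSp.Points.map_comp, Iso.inv_hom_id_assoc]⟩
  exact Groth.AlgSp2.Chevalley.exists_iso_affine Y.property hs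
    (Groth.AlgSpBasic.isUnivClosedMor_comp X.property Y.property
      (Groth.AlgSp2.Chevalley.isUnivClosedMor_of_repWith
        (Groth.AlgSpBasic.repWith_isIso e.hom)) huc)

end Groth.Agent.S10044
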