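import Groth.Statements.S10045
import Groth.Agent.AlgSpBasic.DimZeroSpace
import Groth.Agent.AlgSpBasic.SepLQFScheme
import Groth.Agent.AlgSpThick.Scheme

set_option autoImplicit false
universe u
open CategoryTheory CategoryTheory.Limits AlgebraicGeometry
open AlgSp Groth.AlgSpBasic

namespace Groth.Agent.S10045

/-- Let `X` be an algebraic space over `S` and `X_red ⟶ X` its reduction (the reduced closed subspace
with the same points). If `X_red` is a scheme, then `X` is a scheme. -/
theorem result (S : Scheme.{u}) (X Z : AlgSp.Space S) (i : Z ⟶ X)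
    (hi : AlgSp.IsRedInduced Set.univ i.hom) (hZ : Z.obj.obj.IsRepresentable) : X.obj.obj.IsRepresentable := by
  obtain ⟨G, ⟨e⟩⟩ := Groth.AlgSpBasic.exists_iso_of_representable Z hZ
  have hsurj : AlgSp.RepWith @Surjective i.hom :=
    Groth.AlgSpBasic.repWith_surjective_of_points hi.1.rep fun x => hi.2.1.ge (Set.mem_univ x)
  have hthick : AlgSp.IsThickMor (e.hom ≫ i.hom) :=
    Groth.AlgSpBasic.repWith_inf_iff.2
      ⟨Groth.AlgSpBasic.repWith_comp (Groth.AlgSpBasic.repWith_isIso _) hi.1,
        Groth.AlgSpBasic.repWith_comp (Groth.AlgSpBasic.repWith_isIso _) hsurj⟩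
  obtain ⟨T', ⟨e'⟩⟩ := Groth.AlgSpThick.exists_iso_yon_of_thick X.property hthick
  exact Groth.AlgSpBasic.isRepresentable_of_iso e'

end Groth.Agent.S10045
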