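import Groth.Statements.S10046
import Groth.Agent.AlgSp2.Chevalley.Main
import Groth.Agent.AlgSpBasic.DimZeroSpace
import Groth.Agent.AlgSpBasic.AffineMor
-- import your own Groth.Agent.* helpers here

set_option autoImplicit false
set_option backward.isDefEq.respectTransparency.types false
universe u
open CategoryTheory CategoryTheory.Limits AlgebraicGeometry
open AlgSp Groth.AlgSpBasic

namespace Groth.Agent.S10046

/-- Let `f : X ⟶ Y`, a morphism of algebraic spaces over `S`, be integral and induce a bijection on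
points. Then `X` is representable by a scheme over `S` exactly when `Y` is. -/
theorem result (S : Scheme.{u}) {X Y : AlgSp.Space S} (f : X ⟶ Y)
    (hint : AlgSp.IsIntegralMor f.hom) (hbij : Function.Bijective (AlgSp.Points.map f.hom)) :
    X.obj.obj.IsRepresentable ↔ Y.obj.obj.IsRepresentable := by
  have hi : RepWith @IsIntegralHom f.hom := Groth.AlgSpBasic.isIntegralMor_iff_repWith.1 hint
  constructor
  · intro hX
    obtain ⟨G, ⟨e⟩⟩ := Groth.AlgSpBasic.exists_iso_of_representable X hX
    have heb : Function.Bijective (AlgSp.Points.map e.hom) := by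
      refine Function.bijective_iff_has_inverse.2 ⟨AlgSp.Points.map e.inv, fun z => ?_, fun z => ?_⟩
      · rw [← AlgSp.Points.map_comp, e.hom_inv_id]; exact AlgSp.Points.map_id z
      · rw [← AlgSp.Points.map_comp, e.inv_hom_id]; exact AlgSp.Points.map_id z
    let k : (yon S).obj G ⟶ Y.obj := e.hom ≫ f.hom
    have hk : RepWith @IsIntegralHom k := repWith_comp (repWith_isIso e.hom) hi
    have hkb : Function.Bijective (AlgSp.Points.map k) := by
      have : AlgSp.Points.map k = AlgSp.Points.map f.hom ∘ AlgSp.Points.map e.hom :=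
        funext fun z => AlgSp.Points.map_comp _ _ z
      rw [this]; exact hbij.comp heb
    have hcl : IsClosedMap (AlgSp.Points.map k) :=
      Groth.AlgSpBasic.isClosedMap_map_of_repWith
        (fun _ _ φ (_ : IsIntegralHom φ) => φ.isClosedMap) hk
    refine Groth.AlgSpBasic.isRepresentable_of_schematic Y fun y => ?_
    obtain ⟨x, rfl⟩ := hkb.2 y
    obtain ⟨t, rfl⟩ := (AlgSp.Points.schemeHomeo G).surjective x
    obtain ⟨U, hU, htU, -⟩ := exists_isAffineOpen_mem_and_subset (X := G.left) (x := t)
      (U := (⊤ : G.left.Opens)) trivial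
    let W : Set (AlgSp.Points Y.obj) :=
      AlgSp.Points.map k '' (AlgSp.Points.schemeHomeo G '' (U : Set ↥G.left))
    have hW : IsOpen W := by
      rw [← isClosed_compl_iff, ← Set.image_compl_eq hkb]
      exact hcl _ (((AlgSp.Points.schemeHomeo G).isOpenMap _ U.2).isClosed_compl)
    have hι := Groth.AlgSpBasic.repWith_openSubι (X := Y.obj) hW
    obtain ⟨M, mj, l, sq⟩ := hι.rep k
    have : IsOpenImmersion mj.left := hι.property k l mj sq
    have hrg : Set.range mj.left = (U : Set ↥G.left) := by
      ext z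
      constructor
      · rintro ⟨v, rfl⟩
        have hv : AlgSp.Points.map k (AlgSp.Points.schemeHomeo G (mj.left v)) ∈ W := by
          rw [← Groth.AlgSpBasic.range_map_openSubι (X := Y.obj) (W := W)]
          refine ⟨AlgSp.Points.map l (AlgSp.Points.schemeHomeo M v), ?_⟩
          rw [← AlgSp.Points.map_comp, sq.w, AlgSp.Points.map_comp,
            AlgSp.Points.map_yon_map_apply]
        obtain ⟨_, ⟨u, hu, rfl⟩, hu'⟩ := hv
        rw [← (AlgSp.Points.schemeHomeo G).injective (hkb.1 hu')]
        exact hu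
      · intro hz
        have hzW : AlgSp.Points.map k (AlgSp.Points.schemeHomeo G z) ∈ W :=
          ⟨_, ⟨z, hz, rfl⟩, rfl⟩
        rw [← Groth.AlgSpBasic.range_map_openSubι (X := Y.obj) (W := W)] at hzW
        obtain ⟨w, hw⟩ := hzW
        obtain ⟨v, -, hv⟩ := Groth.AlgSpBasic.exists_point_of_isPullback sq w
          (AlgSp.Points.schemeHomeo G z) hw
        obtain ⟨v, rfl⟩ := (AlgSp.Points.schemeHomeo M).surjective v
        rw [AlgSp.Points.map_yon_map_apply] at hv
        exact ⟨v, (AlgSp.Points.schemeHomeo G).injective hv⟩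
    have : IsAffine M.left := by
      have h : IsAffineOpen mj.left.opensRange := by
        have : mj.left.opensRange = U := TopologicalSpace.Opens.ext hrg
        rw [this]; exact hU
      have : IsAffine _ := h
      exact IsAffine.of_isIso mj.left.isoOpensRange.hom
    have hl : RepWith @IsIntegralHom l := repWith_of_isPullback sq.flip hk
    have hls : IsSurjectiveMor l := by
      intro w
      obtain ⟨x', hx'⟩ := hkb.2 (AlgSp.Points.map (Groth.AlgSpBasic.openSubι Y.obj W) w)
      obtain ⟨v, hv, -⟩ := Groth.AlgSpBasic.exists_point_of_isPullback sq w x' hx'.symm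
      exact ⟨v, hv⟩
    have hlu : IsUnivClosedMor l := Groth.AlgSp2.Chevalley.isUnivClosedMor_of_repWith
      (Groth.AlgSpBasic.repWith_mono (fun _ _ φ (_ : IsIntegralHom φ) =>
        (inferInstance : UniversallyClosed φ)) hl)
    obtain ⟨T', hT', ⟨eT⟩⟩ := Groth.AlgSp2.Chevalley.exists_iso_affine
      (Groth.AlgSpBasic.isAlgSpace_openSub Y.property hW) hls hlu
    refine ⟨T', eT.hom ≫ Groth.AlgSpBasic.openSubι Y.obj W,
      repWith_comp (repWith_isIso eT.hom) hι, ?_⟩
    have hyW : AlgSp.Points.map k (AlgSp.Points.schemeHomeo G t) ∈ W := ⟨_, ⟨t, htU, rfl⟩, rfl⟩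
    rw [← Groth.AlgSpBasic.range_map_openSubι (X := Y.obj) (W := W)] at hyW
    obtain ⟨w, hw⟩ := hyW
    obtain ⟨s, hs⟩ := (AlgSp.Points.schemeHomeo T').surjective (AlgSp.Points.map eT.inv w)
    refine ⟨s, ?_⟩
    have h1 : AlgSp.Points.map eT.hom (AlgSp.Points.schemeHomeo T' s) = w := by
      rw [hs, ← AlgSp.Points.map_comp, eT.inv_hom_id]
      exact AlgSp.Points.map_id w
    rw [← hw, ← h1, ← AlgSp.Points.map_comp, Groth.AlgSpBasic.ofPt_eq_map]
    rfl
  · intro hY
    obtain ⟨G, ⟨e⟩⟩ := Groth.AlgSpBasic.exists_iso_of_representable Y hY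
    obtain ⟨M, mj, l, sq⟩ := hi.rep e.hom
    have : IsIso l := sq.isIso_fst_of_isIso
    exact Groth.AlgSpBasic.isRepresentable_of_iso (asIso l)

end Groth.Agent.S10046
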