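import Groth.Statements.S10050
import Groth.Agent.AlgSp2.Approx.UnionScheme
import Groth.Agent.AlgSpThick.Scheme
-- import your own Groth.Agent.* helpers here

set_option autoImplicit false
set_option backward.isDefEq.respectTransparency.types false
universe u
open CategoryTheory CategoryTheory.Limits AlgebraicGeometry
open AlgSp

namespace Groth.Agent.S10050

/-- Let `X` be an algebraic space, quasi-compact and quasi-separated over the scheme `S`, which is not a
scheme although every proper closed subspace of `X` is one. Then `X` is reduced and irreducible.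
(The published statement allows any base scheme and uses absolute quasi-separatedness; this row
assumes the base quasi-separated, over which quasi-separatedness relative to the base is the
absolute notion.) -/
theorem result (S : Scheme.{u}) [QuasiSeparatedSpace S]
    (X : AlgSp.Space S) (hXqc : AlgSp.IsQuasiCompactSp X.obj) (hXqs : AlgSp.IsQuasiSeparatedSp X.obj) (hX : ¬ X.obj.obj.IsRepresentable)
    (hmin : ∀ (Z : AlgSp.Space S) (i : Z ⟶ X), AlgSp.RepWith @IsClosedImmersion i.hom → ¬ IsIso i → Z.obj.obj.IsRepresentable) :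
    AlgSp.IsReducedSp X.obj ∧ IrreducibleSpace (AlgSp.Points X.obj) := by
  classical
  have hXa := X.property
  have hrepiso : ∀ {A B : AlgSp.Sp S}, (A ≅ B) → A.obj.IsRepresentable → B.obj.IsRepresentable :=
    fun {A B} e ⟨W, ⟨r⟩⟩ =>
      (AlgSp.representableByOfIso (AlgSp.isoOfRepresentableBy r ≪≫ e)).isRepresentable
  have hclosed : ∀ {T : Set (AlgSp.Points X.obj)}, IsClosed T → T ≠ Set.univ →
      ∃ (W : Over S) (a : (AlgSp.yon S).obj W ⟶ X.obj), AlgSp.RepWith @IsClosedImmersion a ∧
        Set.range (AlgSp.Points.map a) = T := by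
    intro T hT hne
    obtain ⟨Z, i, hZ, hi, hrg, -⟩ := Groth.AlgSpCartier.exists_isRedInduced hXa hT
    have hrepZ : Z.obj.IsRepresentable := hmin ⟨Z, hZ⟩ (ObjectProperty.homMk i) hi fun h => hne (by
      have : IsIso i := inferInstanceAs (IsIso (((ObjectProperty.ι _).map (ObjectProperty.homMk i :
        (⟨Z, hZ⟩ : AlgSp.Space S) ⟶ X))))
      rw [← hrg]
      exact Set.range_eq_univ.2 fun x => ⟨AlgSp.Points.map (inv i) x, by
        rw [← AlgSp.Points.map_comp, IsIso.inv_hom_id, AlgSp.Points.map_id]⟩)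
    obtain ⟨W, ⟨r⟩⟩ := hrepZ
    refine ⟨W, (AlgSp.isoOfRepresentableBy r).hom ≫ i,
      Groth.AlgSpBasic.repWith_comp (Groth.AlgSpBasic.repWith_isIso _) hi, ?_⟩
    apply Set.Subset.antisymm
    · rintro _ ⟨x, rfl⟩
      rw [AlgSp.Points.map_comp, ← hrg]
      exact ⟨_, rfl⟩
    · intro y hy
      obtain ⟨x, rfl⟩ := hrg.ge hy
      exact ⟨AlgSp.Points.map (AlgSp.isoOfRepresentableBy r).inv x, by
        rw [← AlgSp.Points.map_comp, Iso.inv_hom_id_assoc]⟩
  -- reduced
  have hred : AlgSp.IsReducedSp X.obj := by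
    obtain ⟨Z, i, hZ, hi, hrg, U, p, hp, hps, hU⟩ :=
      Groth.AlgSpCartier.exists_isRedInduced hXa (T := Set.univ) isClosed_univ
    by_cases hiso : IsIso i
    · exact ⟨U, p ≫ i, Groth.AlgSpBasic.repWith_comp hp (Groth.AlgSpBasic.repWith_isIso i),
        Groth.AlgSpBasic.repWith_comp hps (Groth.AlgSpBasic.repWith_isIso i), hU⟩
    · exfalso
      obtain ⟨W, ⟨r⟩⟩ := hmin ⟨Z, hZ⟩ (ObjectProperty.homMk i) hi fun h => hiso
        (inferInstanceAs (IsIso (((ObjectProperty.ι _).map (ObjectProperty.homMk i :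
          (⟨Z, hZ⟩ : AlgSp.Space S) ⟶ X)))))
      let a := (AlgSp.isoOfRepresentableBy r).hom ≫ i
      have ha : AlgSp.RepWith @IsClosedImmersion a :=
        Groth.AlgSpBasic.repWith_comp (Groth.AlgSpBasic.repWith_isIso _) hi
      have has : AlgSp.RepWith @Surjective a :=
        Groth.AlgSpBasic.repWith_surjective_of_points ha.rep fun y => by
          obtain ⟨x, rfl⟩ := hrg.ge (Set.mem_univ y)
          exact ⟨AlgSp.Points.map (AlgSp.isoOfRepresentableBy r).inv x, by
            rw [← AlgSp.Points.map_comp, Iso.inv_hom_id_assoc]⟩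
      obtain ⟨T', ⟨e⟩⟩ := Groth.AlgSpThick.exists_iso_yon_of_thick hXa
        (i := a) (Groth.AlgSpBasic.repWith_of_representable ha.rep fun _ _ g fst snd sq =>
          ⟨ha.property g fst snd sq, has.property g fst snd sq⟩)
      exact hX (AlgSp.representableByOfIso e).isRepresentable
  -- nonempty
  have hne : Nonempty (AlgSp.Points X.obj) := by
    by_contra hempty
    obtain ⟨V, φ, hV, hφ, hφs⟩ := Groth.AlgSpBasic.exists_affine_chart hXa hXqc
    have hVe : IsEmpty ↥V.left := ⟨fun v => hempty ⟨AlgSp.Points.ofPt φ v⟩⟩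
    have := Groth.AlgSpBasic.isLocallySurjective_of_etale φ hφ hφs
    have : Mono φ := ⟨fun {F} α β _ => Groth.AlgSp2.hom_ext_yon fun T z => by
      obtain ⟨u, hu⟩ := (AlgSp.yon S).map_surjective (z ≫ α)
      obtain ⟨v, hv⟩ := (AlgSp.yon S).map_surjective (z ≫ β)
      have hTe : IsEmpty ↥T.left := Function.isEmpty u.left
      rw [← hu, ← hv, show u = v from Over.OverMorphism.ext (isInitialOfIsEmpty.hom_ext _ _)]⟩
    have : Epi φ := (Sheaf.isLocallySurjective_iff_epi _).1 inferInstance
    have : IsIso φ := isIso_of_mono_of_epi φ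
    exact hX (AlgSp.representableByOfIso (asIso φ)).isRepresentable
  have hpre : PreirreducibleSpace (AlgSp.Points X.obj) := by
    refine ⟨isPreirreducible_iff_isClosed_union_isClosed.2 fun z₁ z₂ h₁ h₂ hu => ?_⟩
    by_contra hcon
    push Not at hcon
    obtain ⟨WA, a₀, ha₀, hra⟩ := hclosed h₁ fun h => hcon.1 h.ge
    obtain ⟨WB, b₀, hb₀, hrb⟩ := hclosed h₂ fun h => hcon.2 h.ge
    exact hX (Groth.AlgSp2.Approx.isRepresentable_of_union hXa hXqc hred ha₀ hb₀ fun x => by
      rw [hra, hrb]
      exact hu (Set.mem_univ x))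
  exact ⟨hred, { toPreirreducibleSpace := hpre, toNonempty := hne }⟩

end Groth.Agent.S10050
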