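import Groth.Statements.S10054
import Groth.Agent.AlgSpDVR.Core
import Groth.Agent.AlgSp2.InfSmallExt
import Groth.Agent.Limits.DVRPoints
import Mathlib.RingTheory.PowerSeries.Inverse

set_option autoImplicit false
set_option backward.isDefEq.respectTransparency.types false
universe u
open CategoryTheory CategoryTheory.Limits AlgebraicGeometry
open AlgSp Groth.AlgSpBasic

namespace Groth.Agent.S10054

/-- Let `f : X ⟶ Y` be a morphism of finite type of algebraic spaces over `S` with `Y` locally
Noetherian, and `y ∈ |Y|` a point lying in the closure of `f`'s image on points. Then one can find a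
discrete valuation ring `A` with fraction field `K` and a commutative square `Spec K ⟶ X`, `Spec A ⟶
Y` (over `f` and `Spec K ⟶ Spec A`) sending the closed point of `Spec A` to `y`. (The refinement
that the `K`-point may be taken at a codimension-0 point with `K` a residue field of an etale chart
is not included.) -/
theorem result (S : Scheme.{u}) {X Y : AlgSp.Space S} (f : X ⟶ Y)
    (hft : AlgSp.IsFiniteTypeMor f.hom) (hY : AlgSp.IsLocNoethSp Y.obj) (y : AlgSp.Points Y.obj)
    (hy : y ∈ closure (Set.range (AlgSp.Points.map f.hom))) :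
    ∃ (A : Type u) (_ : CommRing A) (_ : IsDomain A) (_ : IsDiscreteValuationRing A)
      (a : Spec (CommRingCat.of A) ⟶ S)
      (α : (AlgSp.yon S).obj (Over.mk a) ⟶ Y.obj)
      (κ : (AlgSp.yon S).obj (Over.mk (Spec.map (CommRingCat.ofHom (algebraMap A (FractionRing A))) ≫ a)) ⟶ X.obj),
      κ ≫ f.hom = (AlgSp.yon S).map (Over.homMk (Spec.map (CommRingCat.ofHom (algebraMap A (FractionRing A))))) ≫ α ∧
      AlgSp.Points.map α (AlgSp.Points.schemeEquiv (Over.mk a) (IsLocalRing.closedPoint A)) = y := by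
  obtain ⟨V₀, b₀, hb₀, hb₀s⟩ := Y.property.atlas
  obtain ⟨v₀, hv₀⟩ := surjective_ofPt_of_repWith hb₀s y
  obtain ⟨O, hO, hvO, -⟩ :=
    exists_isAffineOpen_mem_and_subset (X := V₀.left) (x := v₀) (U := ⊤) trivial
  let V : Over S := Over.mk (O.ι ≫ V₀.hom)
  let iO : V ⟶ V₀ := Over.homMk O.ι rfl
  have : IsAffine V.left := hO
  have : Etale iO.left := inferInstanceAs (Etale O.ι)
  let b := (yon S).map iO ≫ b₀
  have hb : RepWith @Etale b := repWith_comp ((repWith_yon_map_iff _ iO).2 inferInstance) hb₀
  let v : V.left := (⟨v₀, hvO⟩ : O.toScheme)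
  have hv : Points.ofPt b v = y := by
    rw [ofPt_comp_yon]
    exact hv₀
  have : IsLocallyNoetherian V.left :=
    Groth.AlgSp2.isLocallyNoetherian_of_etale Y.property hY hb
  have sq := IsPullback.of_hasPullback f.hom b
  have hP := isAlgSpace_of_isPullback sq Y.property.diag X.property (IsAlgSpace.yon_obj V)
  have hPc : IsQuasiCompactSp (pullback f.hom b) := hft.2 (IsAlgSpace.yon_obj V)
    ((isQuasiCompactSp_yon_iff _).2 (inferInstance : CompactSpace V.left)) b _ _ sq
  obtain ⟨W, w, hW, hwe, hws⟩ := exists_affine_chart hP hPc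
  have : IsAffine W.left := hW
  obtain ⟨h, hh⟩ := (yon S).map_surjective (w ≫ pullback.snd f.hom b)
  have : LocallyOfFiniteType h.left :=
    locP_of_isPullback X.property Y.property (IsAlgSpace.yon_obj V) sq hft.1 w (𝟙 _) h hwe
      (AlgSp.repWith_id @Etale V) (by rw [Category.comp_id, hh])
  have comm : (w ≫ pullback.fst f.hom b) ≫ f.hom = (yon S).map h ≫ b := by
    rw [hh, Category.assoc, Category.assoc, pullback.condition]
  have hvc : v ∈ closure (Set.range h.left) := by
    refine mem_closure_iff.2 fun N hN hvN => ?_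
    obtain ⟨_, ⟨n, hn, rfl⟩, x, hx⟩ :=
      mem_closure_iff.1 hy _ (isOpenMap_ofPt_of_etale hb N hN) ⟨v, hvN, hv⟩
    obtain ⟨p, -, hp⟩ := exists_point_of_isPullback sq x (Points.schemeHomeo V n)
      (hx.trans (ofPt_eq_map b n))
    obtain ⟨u, rfl⟩ := surjective_ofPt_of_repWith hws p
    have hu : h.left u = n := (Points.schemeHomeo V).injective (by
      refine ((Points.map_yon_map_apply h u).symm.trans ?_).trans hp
      rw [hh, Points.map_comp]
      exact congrArg (Points.map (pullback.snd f.hom b)) (ofPt_eq_map w u).symm)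
    exact ⟨n, hn, u, hu⟩
  obtain ⟨u, hu⟩ := Groth.SchemeMorphisms.exists_specializes_of_mem_closure_range h.left hvc
  obtain ⟨A, i₁, i₂, i₃, g, k, hgc, hg⟩ : ∃ (A : Type u) (_ : CommRing A) (_ : IsDomain A)
      (_ : IsDiscreteValuationRing A) (g : Spec (CommRingCat.of A) ⟶ V.left)
      (k : Spec (CommRingCat.of (FractionRing A)) ⟶ W.left),
      g (IsLocalRing.closedPoint A) = v ∧
      k ≫ h.left = Spec.map (CommRingCat.ofHom (algebraMap A (FractionRing A))) ≫ g := by
    by_cases hne : v = h.left u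
    · let c : Spec (CommRingCat.of (PowerSeries (W.left.residueField u))) ⟶ W.left :=
        Spec.map (CommRingCat.ofHom (PowerSeries.C : W.left.residueField u →+* _)) ≫
          W.left.fromSpecResidueField u
      refine ⟨PowerSeries (W.left.residueField u), inferInstance, inferInstance, inferInstance,
        c ≫ h.left, Spec.map (CommRingCat.ofHom (algebraMap _ _)) ≫ c, ?_, Category.assoc _ _ _⟩
      simp only [c, Scheme.Hom.comp_apply]
      exact (congrArg h.left (Scheme.fromSpecResidueField_apply u _)).trans hne.symm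
    · obtain ⟨A, i₁, i₂, i₃, e, -, g, hgc, hg⟩ := Groth.Limits.exists_dvr_square h.left u v hu hne
      exact ⟨A, i₁, i₂, i₃, g, Spec.map e ≫ W.left.fromSpecResidueField u, hgc, hg.symm⟩
  let gO : Over.mk (g ≫ V.hom) ⟶ V := Over.homMk g rfl
  let kO : Over.mk (Spec.map (CommRingCat.ofHom (algebraMap A (FractionRing A))) ≫ g ≫ V.hom) ⟶
      W := Over.homMk k (by
    show k ≫ W.hom = _
    rw [← Over.w h, ← Category.assoc, hg, Category.assoc]
    rfl)
  let jj : Over.mk (Spec.map (CommRingCat.ofHom (algebraMap A (FractionRing A))) ≫ g ≫ V.hom) ⟶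
      Over.mk (g ≫ V.hom) :=
    Over.homMk (Spec.map (CommRingCat.ofHom (algebraMap A (FractionRing A)))) rfl
  have ecomm : kO ≫ h = jj ≫ gO := Over.OverMorphism.ext hg
  have e₁ : ((yon S).map kO ≫ w ≫ pullback.fst f.hom b) ≫ f.hom =
      (yon S).map jj ≫ ((yon S).map gO ≫ b) := by
    refine (Category.assoc _ _ _).trans ((congrArg ((yon S).map kO ≫ ·) comm).trans ?_)
    exact ((yon S).map_comp_assoc kO h b).symm.trans
      ((congrArg (fun t => (yon S).map t ≫ b) ecomm).trans ((yon S).map_comp_assoc jj gO b))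
  refine ⟨A, i₁, i₂, i₃, g ≫ V.hom, (yon S).map gO ≫ b,
    (yon S).map kO ≫ w ≫ pullback.fst f.hom b, e₁, ?_⟩
  · refine (ofPt_eq_map _ _).symm.trans ?_
    rw [ofPt_comp_yon]
    exact (congrArg (Points.ofPt b) hgc).trans hv

end Groth.Agent.S10054
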