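import Groth.Statements.S10065
import Groth.Agent.AlgSpDVR.Criteria

set_option autoImplicit false
set_option backward.isDefEq.respectTransparency.types false
universe u
open CategoryTheory CategoryTheory.Limits AlgebraicGeometry
open AlgSp

namespace Groth.Agent.S10065

/-- Let `f : X ⟶ Y` be quasi-separated and of finite type with `Y` locally Noetherian. Then `f` is
proper if and only if every valuative test square for `f` whose valuation ring is a discrete
valuation ring admits exactly one dotted arrow (a lift `Spec A ⟶ X`, with no extension of `A`). (The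
published statement also lists as equivalent conditions the valuative criterion and the same
unique-lift condition over arbitrary valuation rings, and a refinement to squares hitting a
codimension-0 point; this row states only the discrete valuation ring form.) -/
theorem result (S : Scheme.{u}) {X Y : AlgSp.Space S} (f : X ⟶ Y)
    (hqs : AlgSp.IsQuasiSeparatedMor f.hom) (hft : AlgSp.IsFiniteTypeMor f.hom) (hY : AlgSp.IsLocNoethSp Y.obj) :
    AlgSp.IsProperMor f.hom ↔ ∀ sq : AlgSp.ValSq f.hom, IsDiscreteValuationRing sq.A → sq.HasLift ∧ sq.HasUniq := by
  refine ⟨fun h sq _ => ⟨Groth.AlgSpDVR.hasLift_of_separated_univClosed X.property Y.property hqs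
      h.1 h.2.2 sq, Groth.AlgSpDVR.hasUniq_of_separated h.1 sq⟩, fun h => ?_⟩
  exact ⟨Groth.AlgSpDVR.isSeparatedMor_of_uniqDVR f hY hft.1 hqs fun sq hA => (h sq hA).2, hft,
    Groth.AlgSpDVR.isUnivClosedMor_of_liftsDVR f hft hY fun sq hA =>
      Groth.AlgSp3.hasLiftExt_of_hasLift sq (h sq hA).1⟩

end Groth.Agent.S10065
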