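import Groth.Statements.S10066
import Groth.Agent.AlgSp2.Approx.SchemeCover
import Groth.Agent.AlgSp2.LocPFpqc
import Groth.Agent.S10068
import Groth.Agent.S10421
-- import your own Groth.Agent.* helpers here

set_option autoImplicit false
set_option backward.isDefEq.respectTransparency.types false
universe u
open CategoryTheory CategoryTheory.Limits AlgebraicGeometry
open AlgSp

namespace Groth.Agent.S10066

/-- Let `X` be an algebraic space, quasi-compact and quasi-separated over the scheme `S`, whose space of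
points `|X|` has only finitely many irreducible components, and `V ⟶ X` a surjective etale morphism
from a scheme. Then there are a scheme `Y`, a finite surjective morphism `g : Y ⟶ X` of finite
presentation which is finite etale over some quasi-compact dense open subspace `U ⊂ X`, and for
every point of `Y` an open neighbourhood whose map to `X` factors through `V`. (Part (1) of the
published statement, the existence of such `Y ⟶ X` and `U`, is the case where `V` is an etale atlas
of `X`.) (The published statement allows any base scheme and uses absolute quasi-separatedness; this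
row assumes the base quasi-separated, over which quasi-separatedness relative to the base is the
absolute notion.) -/
theorem result (S : Scheme.{u}) [QuasiSeparatedSpace S]
    (X : AlgSp.Space S) (hXqc : AlgSp.IsQuasiCompactSp X.obj) (hXqs : AlgSp.IsQuasiSeparatedSp X.obj)
    (hirr : (irreducibleComponents (AlgSp.Points X.obj)).Finite)
    (V : Over S) (p : (AlgSp.yon S).obj V ⟶ X.obj) (hpe : AlgSp.RepWith @Etale p) (hps : AlgSp.RepWith @Surjective p) :
    ∃ (Y : Over S) (g : (AlgSp.yon S).obj Y ⟶ X.obj) (U : AlgSp.Space S) (j : U ⟶ X),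
      AlgSp.IsFiniteMor g ∧ AlgSp.IsSurjectiveMor g ∧ AlgSp.IsFinitePresentationMor g ∧
      AlgSp.RepWith @IsOpenImmersion j.hom ∧ AlgSp.IsQuasiCompactSp U.obj ∧ Dense (Set.range (AlgSp.Points.map j.hom)) ∧
      (∀ (P : AlgSp.Sp S) (fst : P ⟶ (AlgSp.yon S).obj Y) (snd : P ⟶ U.obj), IsPullback fst snd g j.hom →
        AlgSp.IsFiniteMor snd ∧ AlgSp.IsEtaleMor snd) ∧
      ∀ y : ↥Y.left, ∃ (W : Y.left.Opens), y ∈ W ∧
        ∃ k : Over.mk (W.ι ≫ Y.hom) ⟶ V, (AlgSp.yon S).map k ≫ p = (AlgSp.yon S).map (Over.homMk W.ι) ≫ g := by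
  obtain ⟨Y₀, g₀, U, jU, hg₀, hs₀, hjU, hUqc, hdense, hover, hf₀⟩ :=
    Groth.Agent.S10421.result X hXqc hXqs hirr p hpe hps
  have hY₀ : IsAlgSpace ((AlgSp.yon S).obj Y₀) := IsAlgSpace.yon_obj Y₀
  have sqV := IsPullback.of_hasPullback g₀ jU.hom
  obtain ⟨hfin, het⟩ := hover _ _ _ sqV
  have hPV : IsAlgSpace (pullback g₀ jU.hom) :=
    Groth.AlgSpBasic.isAlgSpace_of_representable U.property _ hfin.rep
  have hfp : AlgSp.LocP @LocallyOfFinitePresentation (pullback.snd g₀ jU.hom) :=
    Groth.SpLimit.locP_lfp_of_etale het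
  obtain ⟨I, _, _, _, D, t, c, hc, e, hD, hDa, ht, he, hiso⟩ := Groth.Agent.S10068.result S
    (X := ⟨(AlgSp.yon S).obj Y₀, hY₀⟩) (Y := X) (ObjectProperty.homMk g₀)
    ((Groth.AlgSp2.isIntegralMor_iff hY₀ X.property).2 hg₀) hXqc hXqs U jU hjU hUqc _ _ _ sqV
    ((Groth.AlgSp2.isFiniteMor_iff hPV U.property).2 hfin)
    (Groth.AlgSp2.Approx.isFinitePresentationMor_of_finite hPV U.property hfin hfp)
  have hlf : Groth.AlgSpBasic.LocalFactor p g₀ := fun y => by
    obtain ⟨W, k, hy, hk⟩ := hf₀ y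
    exact ⟨Over.mk (W.ι ≫ Y₀.hom), Over.homMk W.ι rfl, k, inferInstanceAs (IsOpenImmersion W.ι),
      ⟨(⟨y, hy⟩ : ↥W.toScheme), rfl⟩, hk⟩
  obtain ⟨i, Y, e', h₁, h₂, h₃, h₄⟩ := Groth.AlgSp2.Approx.exists_cover_stage X.property hXqc hXqs
    D t hc hD hDa ht e he hpe hlf hs₀
  refine ⟨Y, e'.hom ≫ t.app i, U, jU, h₁, h₂, h₃, hjU, hUqc, hdense, fun P fst snd sq => ?_,
    fun y => ?_⟩
  · have sq' : IsPullback (fst ≫ e'.hom) snd (t.app i) jU.hom :=
      sq.of_iso (Iso.refl _) e' (Iso.refl _) (Iso.refl _) (by simp) (by simp) (by simp) (by simp)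
    let k := sq'.lift (pullback.fst g₀ jU.hom ≫ e.inv ≫ c.π.app i) (pullback.snd g₀ jU.hom) (by
      simp only [Category.assoc]
      exact (congrArg (pullback.fst g₀ jU.hom ≫ ·) (he i)).trans pullback.condition)
    have := hiso i P _ _ sq' k (sq'.lift_fst _ _ _) (sq'.lift_snd _ _ _)
    have hs : snd = inv k ≫ pullback.snd g₀ jU.hom := by
      rw [IsIso.eq_inv_comp]; exact sq'.lift_snd _ _ _
    have hP : IsAlgSpace P := Groth.AlgSpBasic.isAlgSpace_of_representable hPV (inv k)
      (Groth.AlgSpBasic.repWith_isIso (P := @IsFinite) (inv k)).rep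
    rw [hs]
    exact ⟨(Groth.AlgSp2.isFiniteMor_iff hP U.property).2
      (Groth.AlgSpBasic.repWith_comp (Groth.AlgSpBasic.repWith_isIso _) hfin),
      Groth.AlgSpBasic.isEtaleMor_of_locP U.property (Groth.AlgSpBasic.locP_of_repWith
        (Groth.AlgSpBasic.repWith_comp (Groth.AlgSpBasic.repWith_isIso _) het))⟩
  · obtain ⟨W, k, hy, hk⟩ := Groth.AlgSpBasic.localFactor_opens h₄ y
    exact ⟨W, hy, k, hk⟩

end Groth.Agent.S10066
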