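import Groth.Statements.S10067
import Groth.Agent.SpLimit.RelLimit

set_option autoImplicit false
set_option backward.isDefEq.respectTransparency false
set_option backward.isDefEq.respectTransparency.types false
universe u
open CategoryTheory CategoryTheory.Limits AlgebraicGeometry
open AlgSp

namespace Groth.Agent.S10067

/-- A transformation `a : F ⟶ G` of presheaves of sets on schemes over `S` is relatively limit
preserving if and only if, for every directed limit `T = lim T_i` of affine schemes over `S` (with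
`T` affine), the square formed by `colim F(T_i) → F(T)`, `colim G(T_i) → G(T)` and the two maps
induced by `a` is cartesian in sets. -/
theorem result (S : Scheme.{u}) {F G : AlgSp.PSp S} (a : F ⟶ G) :
    AlgSp.IsRelLimitPreserving a ↔
      ∀ ⦃I : Type u⦄ [SmallCategory I] [IsCofiltered I] (D : I ⥤ Over S) (c : Cone D),
        IsLimit ((Over.forget S).mapCone c) → (∀ i, IsAffine (D.obj i).left) → IsAffine c.pt.left →
          IsPullback (colimMap (Functor.whiskerLeft D.op a)) (colimit.desc (D.op ⋙ F) (F.mapCocone c.op))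
            (colimit.desc (D.op ⋙ G) (G.mapCocone c.op)) (a.app (Opposite.op c.pt)) := by
  classical
  rw [Groth.SpLimit.isRelLimitPreserving_iff]
  have hι : ∀ {I : Type u} [SmallCategory I] [IsCofiltered I] (D : I ⥤ Over S) (c : Cone D)
      (F : PSp S) (j : Iᵒᵖ) (x : F.obj (Opposite.op (D.obj j.unop))),
      colimit.desc (D.op ⋙ F) (F.mapCocone c.op) (colimit.ι (D.op ⋙ F) j x) = F.map (c.π.app j.unop).op x :=
    fun D c F j x => ConcreteCategory.congr_hom (colimit.ι_desc (F.mapCocone c.op) j) x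
  have hm : ∀ {I : Type u} [SmallCategory I] [IsCofiltered I] (D : I ⥤ Over S) (j : Iᵒᵖ)
      (x : F.obj (Opposite.op (D.obj j.unop))),
      colimMap (Functor.whiskerLeft D.op a) (colimit.ι (D.op ⋙ F) j x) =
        colimit.ι (D.op ⋙ G) j (a.app (Opposite.op (D.obj j.unop)) x) :=
    fun D j x => ConcreteCategory.congr_hom (ι_colimMap (Functor.whiskerLeft D.op a) j) x
  constructor
  · rintro ⟨h₁, h₂⟩ I _ _ D c hc hD hT
    let A : Groth.SpLimit.AffSys S I := ⟨D, c, hc, hD, hT⟩
    rw [Types.isPullback_iff]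
    refine ⟨colimit.hom_ext fun j => ConcreteCategory.hom_ext _ _ fun x => ?_, fun x₁ y₁ h => ?_, fun x₂ x₃ h => ?_⟩
    · refine (congrArg (colimit.desc (D.op ⋙ G) (G.mapCocone c.op)) (hm D j x)).trans ?_
      refine (hι D c G j _).trans ?_
      refine Eq.trans ?_ (congrArg (a.app (Opposite.op c.pt)) (hι D c F j x)).symm
      exact (Groth.SpLimit.app_map_apply a _ _).symm
    · obtain ⟨j₁, z₁, rfl⟩ := Types.jointly_surjective' x₁
      obtain ⟨j₂, z₂, rfl⟩ := Types.jointly_surjective' y₁
      obtain ⟨e₁, e₂⟩ := h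
      rw [hm, hm] at e₁
      rw [hι, hι] at e₂
      obtain ⟨k, f, g, hk⟩ := (Types.FilteredColimit.colimit_eq_iff _).1 e₁
      change G.map (D.map f.unop).op (a.app _ z₁) = G.map (D.map g.unop).op (a.app _ z₂) at hk
      rw [← Groth.SpLimit.app_map_apply, ← Groth.SpLimit.app_map_apply] at hk
      obtain ⟨l, φ, hl⟩ := h₂ A k.unop _ _ hk
        ((Groth.SpLimit.map_congr F (c.w f.unop) z₁).trans
          (e₂.trans (Groth.SpLimit.map_congr F (c.w g.unop) z₂).symm))
      refine (Types.FilteredColimit.colimit_eq_iff _).2 ⟨Opposite.op l, f ≫ φ.op, g ≫ φ.op, ?_⟩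
      show F.map (D.map (φ ≫ f.unop)).op z₁ = F.map (D.map (φ ≫ g.unop)).op z₂
      exact (Groth.SpLimit.map_congr F (D.map_comp φ f.unop).symm z₁).symm.trans
        (hl.trans (Groth.SpLimit.map_congr F (D.map_comp φ g.unop).symm z₂))
    · obtain ⟨j, y, rfl⟩ := Types.jointly_surjective' x₂
      rw [hι] at h
      obtain ⟨l, φ, x', hx, hy⟩ := h₁ A j.unop y x₃ h.symm
      refine ⟨colimit.ι (D.op ⋙ F) (Opposite.op l) x', ?_, (hι D c F _ x').trans hx⟩
      rw [hm]
      exact (congrArg (colimit.ι (D.op ⋙ G) (Opposite.op l)) hy).trans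
        (ConcreteCategory.congr_hom (colimit.w (D.op ⋙ G) φ.op) y)
  · intro h
    refine ⟨fun I _ _ A i y x hx => ?_, fun I _ _ A i x₁ x₂ ha he => ?_⟩
    · obtain ⟨z, hz₁, hz₂⟩ := Types.exists_of_isPullback (h A.D A.c A.isLimit A.aff A.affPt)
        (colimit.ι (A.D.op ⋙ G) (Opposite.op i) y) x ((hι A.D A.c G _ y).trans hx.symm)
      obtain ⟨j, z, rfl⟩ := Types.jointly_surjective' z
      rw [hm] at hz₁
      rw [hι] at hz₂
      obtain ⟨k, f, g, hk⟩ := (Types.FilteredColimit.colimit_eq_iff _).1 hz₁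
      refine ⟨k.unop, g.unop, F.map (A.D.map f.unop).op z,
        (Groth.SpLimit.map_congr F (A.c.w f.unop) z).trans hz₂, ?_⟩
      exact (Groth.SpLimit.app_map_apply a _ _).trans hk
    · have e : colimit.ι (A.D.op ⋙ F) (Opposite.op i) x₁ = colimit.ι (A.D.op ⋙ F) (Opposite.op i) x₂ :=
        Types.ext_of_isPullback (h A.D A.c A.isLimit A.aff A.affPt)
          (by rw [hm, hm, ha]) (by rw [hι, hι, he])
      obtain ⟨k, f, g, hk⟩ := (Types.FilteredColimit.colimit_eq_iff _).1 e
      refine ⟨IsCofiltered.eq f.unop g.unop, IsCofiltered.eqHom f.unop g.unop ≫ f.unop, ?_⟩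
      have hw : IsCofiltered.eqHom f.unop g.unop ≫ f.unop = IsCofiltered.eqHom f.unop g.unop ≫ g.unop :=
        IsCofiltered.eq_condition _ _
      refine (Groth.SpLimit.map_congr F (A.D.map_comp _ _).symm x₁).symm.trans
        ((congrArg (F.map (A.D.map _).op) hk).trans ?_)
      exact (Groth.SpLimit.map_congr F (A.D.map_comp _ _).symm x₂).trans (by rw [hw])

end Groth.Agent.S10067
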