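import Groth.Statements.S10075
import Groth.Agent.S10058
import Groth.Agent.AlgSp2.AffineCriteria
import Groth.Agent.AlgSpBasic.Immersion
import Groth.Agent.SpLimit.Charts
-- import your own Groth.Agent.* helpers here

set_option autoImplicit false
set_option backward.isDefEq.respectTransparency.types false
universe u
open CategoryTheory CategoryTheory.Limits AlgebraicGeometry
open AlgSp

namespace Groth.Agent.S10075

/-- Let `X` be the limit, in fppf sheaves over `S`, of a cofiltered system `(X_i)` of decent algebraic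
spaces over `S` with affine transition morphisms, and `x ∈ |X|` with images `x_i ∈ |X_i|`. Then the
closure of `x` is the limit of the closures of the `x_i` as sets, and, endowing these closures with
their reduced induced subspace structures `Z ⊂ X`, `Z_i ⊂ X_i` (with the induced maps), `Z = lim
Z_i` as algebraic spaces. -/
theorem result (S : Scheme.{u}) {I : Type u} [SmallCategory I] [IsCofiltered I]
    (D : I ⥤ AlgSp.Sp S) (hD : ∀ i, AlgSp.IsAlgSpace (D.obj i))
    (hDa : ∀ (i j : I) (φ : i ⟶ j), AlgSp.IsAffineMor (D.map φ))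
    (c : Cone D) (hc : IsLimit c)
    (hdec : ∀ i, AlgSp.IsDecent (D.obj i))
    (x : AlgSp.Points c.pt) :
    closure {x} = {x' | ∀ i, AlgSp.Points.map (c.π.app i) x' ∈ closure {AlgSp.Points.map (c.π.app i) x}} ∧
    ∀ (Z : AlgSp.Space S) (zι : Z.obj ⟶ c.pt) (_ : AlgSp.IsRedInduced (closure {x}) zι)
      (DZ : I ⥤ AlgSp.Sp S) (_ : ∀ i, AlgSp.IsAlgSpace (DZ.obj i)) (ι : DZ ⟶ D)
      (_ : ∀ i, AlgSp.IsRedInduced (closure {AlgSp.Points.map (c.π.app i) x}) (ι.app i))
      (ξ : (Functor.const I).obj Z.obj ⟶ DZ) (_ : ∀ i, ξ.app i ≫ ι.app i = zι ≫ c.π.app i),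
      Nonempty (IsLimit (Cone.mk Z.obj ξ)) := by
  have htop := Groth.Agent.S10058.result S D hD hDa c hc hdec
  have h1 : closure {x} = {x' | ∀ i, AlgSp.Points.map (c.π.app i) x' ∈
      closure {AlgSp.Points.map (c.π.app i) x}} := by
    ext x'
    simp only [Set.mem_ofPred_eq, ← specializes_iff_mem_closure, specializes_iff_pure,
      ← Filter.map_pure]
    have hn : nhds x' = ⨅ i, Filter.comap (AlgSp.Points.map (c.π.app i))
        (nhds (AlgSp.Points.map (c.π.app i) x')) := by
      rw [htop, nhds_iInf]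
      exact iInf_congr fun i => nhds_induced _ _
    rw [hn, le_iInf_iff]
    exact forall_congr' fun i => Filter.map_le_iff_le_comap.symm
  refine ⟨h1, fun Z zι hzι DZ hDZ ι hι ξ hξ => ?_⟩
  have hmι : ∀ i, Mono (ι.app i) := fun i => Groth.AlgSpBasic.mono_of_repWith
    (fun _ _ k (_ : IsClosedImmersion k) => inferInstance) (hι i).1
  have : Mono zι := Groth.AlgSpBasic.mono_of_repWith
    (fun _ _ k (_ : IsClosedImmersion k) => inferInstance) hzι.1
  have hDZa : ∀ (i j : I) (φ : i ⟶ j), AlgSp.IsAffineMor (DZ.map φ) := fun i j φ => by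
    have := hmι j
    refine Groth.AlgSp2.isAffineMor_of_comp (DZ.map φ) (ι.app j) ?_
      (Groth.AlgSp2.isAffineMor_of_repWith le_rfl (Groth.AlgSpBasic.repWith_isIso _))
    rw [ι.naturality φ]
    exact Groth.AlgSp2.isAffineMor_comp
      (Groth.AlgSp2.isAffineMor_of_repWith (fun _ _ k (_ : IsClosedImmersion k) => inferInstance)
        (hι i).1) (hDa i j φ)
  let c' := limit.cone DZ
  have hc' : IsLimit c' := limit.isLimit DZ
  let m : c'.pt ⟶ c.pt := hc.lift ((Cone.postcompose ι).obj c')
  have hm : ∀ i, m ≫ c.π.app i = c'.π.app i ≫ ι.app i := fun i =>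
    hc.fac ((Cone.postcompose ι).obj c') i
  have : Mono m := ⟨fun {T} a b h => hc'.hom_ext fun i => by
    have := hmι i
    rw [← cancel_mono (ι.app i), Category.assoc, Category.assoc, ← hm, ← Category.assoc, h,
      Category.assoc]⟩
  let k : Z.obj ⟶ c'.pt := hc'.lift (Cone.mk Z.obj ξ)
  have hk : ∀ i, k ≫ c'.π.app i = ξ.app i := fun i => hc'.fac (Cone.mk Z.obj ξ) i
  have hkm : k ≫ m = zι := hc.hom_ext fun i => by
    rw [Category.assoc, hm, ← Category.assoc, hk, hξ]
  obtain ⟨l, hl⟩ := Groth.AlgSpBasic.exists_lift_of_range_closedImmersion hzι.1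
    (Groth.SpLimit.isReducedSp_pt DZ hDZa hc' hDZ fun i => (hι i).2.2) m (by
      rintro _ ⟨y, rfl⟩
      rw [hzι.2.1, h1]
      intro i
      rw [← AlgSp.Points.map_comp, hm, AlgSp.Points.map_comp]
      exact (hι i).2.1.le ⟨_, rfl⟩)
  let e : c'.pt ≅ Z.obj :=
    { hom := l
      inv := k
      hom_inv_id := by rw [← cancel_mono m, Category.assoc, hkm, hl, Category.id_comp]
      inv_hom_id := by rw [← cancel_mono zι, Category.assoc, hl, hkm, Category.id_comp] }
  exact ⟨hc'.ofIsoLimit (Cone.ext e fun i => by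
    show c'.π.app i = l ≫ ξ.app i
    rw [← hk, ← Category.assoc, show l ≫ k = 𝟙 _ from e.hom_inv_id, Category.id_comp])⟩

end Groth.Agent.S10075
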