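import Groth.Agent.ModEtQCoh.AnnSub
import Groth.Agent.AlgSpBasic.QComp
-- import your own Groth.Agent.* helpers here

set_option autoImplicit false
universe u
open CategoryTheory CategoryTheory.Limits AlgebraicGeometry Opposite
open AlgSp

namespace Groth.Agent.S10085

/-- Let `X` be an algebraic space over a scheme `S`, `j : U ⟶ X` an open subspace whose inclusion is
quasi-compact, `T` the closed subset of points of `X` complementary to the image of `U`, and `F` a
quasi-coherent `O_X`-module on the small etale site of `X`. Then, first, on every affine object `W ⟶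
X` of the site the inverse image of `T` is the zero locus of a finitely generated ideal of the
global functions on `W`; second, the subsheaf of sections of `F` supported on `T` is a
quasi-coherent submodule: there is a monomorphism `F' ⟶ F` with `F'` quasi-coherent whose image over
every affine object `W` is the set of sections `x` of `F` over `W` whose support (the zero locus of
the annihilator ideal of `x` in the global functions on `W`) lies in the inverse image of `T`, and
is also, for any finitely generated ideal `I` of the functions on `W` with zero locus the inverse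
image of `T`, the set of sections of `F` over `W` annihilated by some power of `I`. -/
theorem result {S : Scheme.{u}} (X : AlgSp.Space S)
    (U : AlgSp.Space S) (j : U ⟶ X) (hj : AlgSp.RepWith @IsOpenImmersion j.hom)
    (hjqc : AlgSp.IsQuasiCompactMor j.hom)
    (T : Set (AlgSp.Points X.obj)) (hT : T = (Set.range (AlgSp.Points.map j.hom))ᶜ)
    (F : AlgSp.ModEt X.obj) [F.IsQuasicoherent] :
    (∀ (W : AlgSp.EtOver X.obj), IsAffine W.obj.left.left →
      ∃ I : Ideal Γ(W.obj.left.left, ⊤), I.FG ∧
        W.obj.left.left.zeroLocus (U := ⊤) (I : Set Γ(W.obj.left.left, ⊤)) =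
          {w | AlgSp.Points.ofPt W.obj.hom w ∈ T}) ∧
    ∃ (F' : AlgSp.ModEt X.obj) (ι : F' ⟶ F), Mono ι ∧ F'.IsQuasicoherent ∧
      (∀ (W : AlgSp.EtOver X.obj), IsAffine W.obj.left.left →
        Set.range (ι.val.app (op W)).hom =
          {x : AlgSp.sectModEt F W | W.obj.left.left.zeroLocus (U := ⊤)
              ((AlgSp.annSect x : Ideal Γ(W.obj.left.left, ⊤)) : Set Γ(W.obj.left.left, ⊤)) ⊆
            {w | AlgSp.Points.ofPt W.obj.hom w ∈ T}}) ∧
      ∀ (W : AlgSp.EtOver X.obj), IsAffine W.obj.left.left →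
        ∀ I : Ideal Γ(W.obj.left.left, ⊤), I.FG →
          W.obj.left.left.zeroLocus (U := ⊤) (I : Set Γ(W.obj.left.left, ⊤)) =
            {w | AlgSp.Points.ofPt W.obj.hom w ∈ T} →
          Set.range (ι.val.app (op W)).hom =
            {x : AlgSp.sectModEt F W | ∃ n : ℕ, ∀ a ∈ I ^ n, (AlgSp.upΓ W a) • x = 0} := by
  have hT1 : ∀ (W : EtOver X.obj), IsAffine W.obj.left.left →
      ∃ I : Ideal Γ(W.obj.left.left, ⊤), I.FG ∧
        W.obj.left.left.zeroLocus (U := ⊤) (I : Set Γ(W.obj.left.left, ⊤)) =
          {w | Points.ofPt W.obj.hom w ∈ T} := by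
    intro W hW
    let π := (EtOver.bcπ hj.1 W).left
    have : QuasiCompact π := (Groth.AlgSpBasic.repWith_of_isQuasiCompactMor hj.1 hjqc).property
      W.obj.hom _ _ (EtOver.isPullback_bcObj hj.1 W)
    have : IsOpenImmersion π := hj.property W.obj.hom _ _ (EtOver.isPullback_bcObj hj.1 W)
    have : CompactSpace (EtOver.bcObj hj.1 W).obj.left.left := QuasiCompact.compactSpace_of_compactSpace π
    have hmem : ∀ w : W.obj.left.left, Points.ofPt W.obj.hom w ∈ T ↔ w ∉ Set.range π := by
      intro w
      rw [hT]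
      refine not_congr ⟨?_, ?_⟩
      · rintro ⟨z, hz⟩
        obtain ⟨v, -, hv⟩ := (Groth.AlgSpBasic.map_eq_ofPt_iff (EtOver.isPullback_bcObj hj.1 W) z w).1 hz
        exact ⟨v, hv⟩
      · rintro ⟨v, rfl⟩
        exact ⟨Points.ofPt (EtOver.bcObj hj.1 W).obj.hom v,
          (Groth.AlgSpBasic.map_eq_ofPt_iff (EtOver.isPullback_bcObj hj.1 W) _ _).2 ⟨v, rfl, rfl⟩⟩
    obtain ⟨s, hs, hfin, hsO⟩ : ∃ s : Set Γ(W.obj.left.left, ⊤), True ∧ s.Finite ∧
        Set.range π = ⋃ a ∈ s, (W.obj.left.left.basicOpen a : Set W.obj.left.left) := by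
      choose f hf1 hf2 using fun v : Set.range π => (isBasis_basicOpen W.obj.left.left).exists_subset_of_mem_open
        v.2 π.isOpenEmbedding.isOpen_range
      have hf1' : ∀ v, ∃ a : Γ(W.obj.left.left, ⊤), (W.obj.left.left.basicOpen a : Set W.obj.left.left) = f v := by
        intro v
        obtain ⟨_, ⟨a, rfl⟩, ha⟩ := hf1 v
        exact ⟨a, ha⟩
      choose a ha using hf1'
      obtain ⟨t, ht⟩ := (isCompact_range π.continuous).elim_finite_subcover
        (fun v : Set.range π => (W.obj.left.left.basicOpen (a v) : Set W.obj.left.left))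
        (fun v => (W.obj.left.left.basicOpen _).isOpen) fun x hx => Set.mem_iUnion.2 ⟨⟨x, hx⟩, by
          have := (hf2 ⟨x, hx⟩).1; rw [← ha] at this; exact this⟩
      refine ⟨a '' t, trivial, t.finite_toSet.image _, Set.Subset.antisymm ?_ ?_⟩
      · intro x hx
        obtain ⟨v, hv, hxv⟩ := Set.mem_iUnion₂.1 (ht hx)
        exact Set.mem_iUnion₂.2 ⟨_, ⟨v, hv, rfl⟩, hxv⟩
      · intro x hx
        obtain ⟨_, ⟨v, hv, rfl⟩, hxv⟩ := Set.mem_iUnion₂.1 hx
        refine (hf2 v).2 ?_
        rw [← ha]
        exact hxv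
    refine ⟨Ideal.span s, ⟨hfin.toFinset, by rw [hfin.coe_toFinset]⟩, ?_⟩
    rw [Scheme.zeroLocus_span]
    ext w
    rw [Scheme.mem_zeroLocus_iff, Set.mem_setOf_eq, hmem w, hsO]
    simp
  refine ⟨hT1, ?_⟩
  exact Groth.ModEtQCoh.AnnSub.exists_supported_sub T hT1 F

end Groth.Agent.S10085
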