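import Groth.Statements.S10088
import Groth.Agent.AlgSpBasic.StrataAbsolute

set_option autoImplicit false
universe u
open CategoryTheory CategoryTheory.Limits AlgebraicGeometry Opposite
open AlgSp Groth.AlgSpBasic Groth.AlgSpBasic.FiniteStrata
open Groth.AlgSp3 (shriek shriekYonIso)

namespace Groth.Agent.S10088

/-- Let `S` be a quasi-separated scheme and `X` an algebraic space over `S`, quasi-compact and
quasi-separated over `S`. Then there are `t ≥ 0` and closed subspaces `Z_0, …, Z_t` of `X`, each of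
finite presentation over `X`, with `|Z_0| ⊇ |Z_1| ⊇ ⋯ ⊇ |Z_t|`, `Z_0 ⟶ X` a thickening and `Z_t`
empty, and for every `k < t` a scheme `Y_k` with a finite surjective morphism `Y_k ⟶ Z_k` of finite
presentation which is finite etale over the open subspace of `Z_k` with points `|Z_k| ∖ |Z_{k+1}|`.
(The inclusions among the `Z_k` are recorded on points.) (The published statement allows any base
scheme and uses absolute quasi-separatedness; this row assumes the base quasi-separated, over which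
quasi-separatedness relative to the base is the absolute notion.) -/
theorem result (S : Scheme.{u}) [QuasiSeparatedSpace ↥S]
    (X : AlgSp.Space S) (hXqc : AlgSp.IsQuasiCompactSp X.obj) (hXqs : AlgSp.IsQuasiSeparatedSp X.obj) :
    ∃ (t : ℕ) (Z : Fin (t + 1) → AlgSp.Space S) (z : ∀ k, Z k ⟶ X),
      (∀ k, AlgSp.RepWith @IsClosedImmersion (z k).hom ∧ AlgSp.IsFinitePresentationMor (z k).hom) ∧
      (∀ k l : Fin (t + 1), k ≤ l →
        Set.range (AlgSp.Points.map (z l).hom) ⊆ Set.range (AlgSp.Points.map (z k).hom)) ∧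
      AlgSp.IsThickMor (z 0).hom ∧ IsEmpty (AlgSp.Points (Z (Fin.last t)).obj) ∧
      ∀ k : Fin t, ∃ (Y : Over S) (g : (AlgSp.yon S).obj Y ⟶ (Z k.castSucc).obj),
        AlgSp.IsFiniteMor g ∧ AlgSp.IsSurjectiveMor g ∧ AlgSp.IsFinitePresentationMor g ∧
        ∀ (W : AlgSp.Space S) (j : W ⟶ Z k.castSucc), AlgSp.RepWith @IsOpenImmersion j.hom →
          Set.range (AlgSp.Points.map (j ≫ z k.castSucc).hom) =
            Set.range (AlgSp.Points.map (z k.castSucc).hom) \ Set.range (AlgSp.Points.map (z k.succ).hom) →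
          ∀ (P : AlgSp.Sp S) (fst : P ⟶ (AlgSp.yon S).obj Y) (snd : P ⟶ W.obj), IsPullback fst snd g j.hom →
            AlgSp.IsFiniteMor snd ∧ AlgSp.IsEtaleMor snd := by
  let S' : Scheme.{u} := Spec (CommRingCat.of (ULift.{u} ℤ))
  let γ : S ⟶ S' := specULiftZIsTerminal.from S
  have : IsNoetherianRing (ULift.{u} ℤ) := isNoetherianRing_of_ringEquiv ℤ ULift.ringEquiv.symm
  obtain ⟨X₀, a, hX₀, hc₀, hs₀, hN₀, ha⟩ := exists_noetherian_model γ X.property hXqc hXqs
  obtain ⟨t, C, hC0, hCt, hCa, hstep⟩ := exists_strata hX₀ hc₀ hs₀ hN₀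
  have key : ∀ k, ∃ (Z : Sp S') (i : Z ⟶ X₀), IsAlgSpace Z ∧ IsRedInduced (C k : Set (Points X₀)) i ∧
      (k < t → GoodStep X₀ (C k) (C (k + 1)) i) := by
    intro k
    by_cases hk : k < t
    · obtain ⟨Z, i, h⟩ := hstep k hk
      exact ⟨Z, i, h.2.2.2.1, ⟨h.1, h.2.1, h.2.2.1⟩, fun _ => h⟩
    · obtain ⟨Z, i, hZ, h⟩ := Groth.AlgSp3.exists_isRedInduced hX₀ (C k).isClosed
      exact ⟨Z, i, hZ, h, fun h => absurd h hk⟩
  choose Z₀ i₀ hZ₀ hi₀ hgood using key
  choose Z i G hZ sq hi using fun k => exists_pullback_closed (a := a) X.property (hi₀ k).1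
  have hZqs : ∀ k, IsQuasiSeparatedSp (Z k) := fun k =>
    Groth.AlgSp2.Approx.isQuasiSeparatedSp_of_affineMor (hZ k) (isAffineMor_iff_repWith.2
      (repWith_mono (fun _ _ g (_ : IsClosedImmersion g) => inferInstanceAs (IsAffineHom g)) (hi k)))
      hXqs
  refine ⟨t, fun k => ⟨Z k, hZ k⟩, fun k => ObjectProperty.homMk (i k), fun k => ⟨hi k, ?_⟩,
    fun k l hkl => ?_, ?_, ?_, fun k => ?_⟩
  · refine ⟨locP_of_repWith ?_, isQuasiCompactMor_of_repWith (hZ k) X.property
      (repWith_mono (fun _ _ g (_ : IsClosedImmersion g) => inferInstanceAs (QuasiCompact g)) (hi k)),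
      isQuasiSeparatedMor_of_sp (hZqs k) _⟩
    refine Groth.AlgSp3.repWith_of_shriek_map γ (repWith_of_isPullback (sq k) ?_)
    exact repWith_of_locP hX₀ (hi₀ k).1.rep (Groth.AlgSp2.locP_lfp_of_isFiniteMor (hZ₀ k) hX₀ hN₀
      (isFiniteMor_iff_repWith.2 (repWith_mono
        (fun _ _ g (_ : IsClosedImmersion g) => inferInstanceAs (IsFinite g)) (hi₀ k).1)))
  · have : Mono (i₀ k) := mono_of_repWith
      (fun _ _ g (_ : IsClosedImmersion g) => (inferInstance : Mono g)) (hi₀ k).1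
    obtain ⟨j, hj⟩ := exists_lift_of_range_closedImmersion (hi₀ k).1 (hi₀ l).2.2 (i₀ l) (by
      rw [(hi₀ l).2.1, (hi₀ k).2.1]
      exact hCa (show (k : ℕ) ≤ l from hkl))
    obtain ⟨m, hm⟩ := exists_lift_of_model (sq k) (i l) (G l ≫ j) (by
      rw [Category.assoc, hj, (sq l).w])
    rintro _ ⟨x, rfl⟩
    refine ⟨Points.map m x, ?_⟩
    show Points.map (i k) (Points.map m x) = Points.map (i l) x
    rw [← Points.map_comp, hm]
  · refine Groth.AlgSp3.repWith_of_shriek_map γ (repWith_of_isPullback (sq _) ?_)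
    have h0 : Set.range (Points.map (i₀ ((0 : Fin (t + 1)) : ℕ))) = Set.univ := by
      rw [(hi₀ _).2.1]
      show ((C 0 : TopologicalSpace.Closeds (Points X₀)) : Set (Points X₀)) = _
      rw [hC0]
      rfl
    exact repWith_inf_iff.2 ⟨(hi₀ _).1, repWith_surjective_of_points (hi₀ _).1.rep
      (Set.range_eq_univ.1 h0)⟩
  · refine ⟨fun x => ?_⟩
    obtain ⟨T, g, p, -⟩ := exists_ofPt x
    have h0 : Points.map (i₀ t)
        (Points.ofPt ((shriekYonIso γ T).inv ≫ (shriek γ).map g ≫ G t)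
          (p : ↥((Over.map γ).obj T).left)) ∈ (C t : Set (Points X₀)) :=
      (hi₀ t).2.1.le ⟨_, rfl⟩
    rw [hCt] at h0
    exact h0
  · obtain ⟨Y, g, hgf, hgs, hgl, het⟩ :=
      exists_cover_of_goodStep X.property ha (hgood k k.2) (hZ k) (sq k)
    refine ⟨Y, g, isFiniteMor_iff_repWith.2 hgf, surjective_map_of_repWith hgs,
      ⟨locP_of_repWith hgl, isQuasiCompactMor_of_repWith (IsAlgSpace.yon_obj Y) (hZ k)
        (repWith_mono (fun _ _ g (_ : IsFinite g) => inferInstanceAs (QuasiCompact g)) hgf),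
        isQuasiSeparatedMor_of_sp (Groth.AlgSp2.Approx.isQuasiSeparatedSp_of_affineMor
          (IsAlgSpace.yon_obj Y) (isAffineMor_iff_repWith.2 (repWith_mono
            (fun _ _ g (_ : IsFinite g) => inferInstanceAs (IsAffineHom g)) hgf)) (hZqs k)) _⟩,
      fun W j hj hjr P fst snd sqP => ?_⟩
    have hsf : RepWith @IsFinite snd := repWith_of_isPullback sqP hgf
    refine ⟨isFiniteMor_iff_repWith.2 hsf, ColimitSep.isEtaleMor_of_repWith W.property
      (repWith_of_representable hsf.rep fun T V t' fst' snd' sq' => ?_)⟩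
    refine het T (t' ≫ j.hom) (fun p hp => ?_) V (fst' ≫ fst) snd' (sq'.paste_horiz sqP)
    have h1 := mem_range_of_model (hi₀ (k + 1)).1 (sq (k + 1)) ((t' ≫ j.hom) ≫ i k) p
      ((hi₀ (k + 1)).2.1.ge hp)
    have h2 : Points.ofPt ((t' ≫ j.hom) ≫ i k) p ∈ Set.range (Points.map (i k)) \
        Set.range (Points.map (i (k + 1))) := by
      refine hjr.le ⟨Points.ofPt t' p, ?_⟩
      rw [Points.map_ofPt, Category.assoc]
      rfl
    exact h2.2 h1

end Groth.Agent.S10088
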