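import Groth.Statements.S1010
import Groth.Agent.DerivedCoh.HomVanish

set_option autoImplicit false
universe u
open CategoryTheory CategoryTheory.Limits AlgebraicGeometry
attribute [local instance] HasDerivedCategory.standard
open Perf

namespace Groth.Agent.S1010

open Groth.DerivedCoh Groth.DerivedCoh.KFlat Groth.DerivedCoh.Duality HomologicalComplex Pretriangulated

/-- `RHom` out of a finite locally free module keeps upper bounds -/
theorem isLE_rhom_finLocFree {X : Scheme.{u}} (F : X.Modules) (hF : FlatMod.IsFinLocFree F)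
    [DCoh.HasLTensorCx ((single X.Modules (ComplexShape.up ℤ) 0).obj F)]
    [DCoh.HasRSheafHom ((single X.Modules (ComplexShape.up ℤ) 0).obj F)]
    (a : ℤ) (M : DCoh.D X) (hM : M.IsLE a) :
    ((DCoh.RSheafHom ((single X.Modules (ComplexShape.up ℤ) 0).obj F)).obj M).IsLE a := by
  let K := (single X.Modules (ComplexShape.up ℤ) 0).obj F
  have hK : IsKFlat (T X) K := PCoh.isKFlat_of_isStrictlyPerfect (isStrictlyPerfect_single hF 0)
  refine (DerivedCategory.isLE_iff _ _).2 fun i hi => Groth.KTheory.Perf.isZero_of_local fun x => ?_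
  obtain ⟨V, n, hxV, ⟨f⟩⟩ := hF x
  let P := (single (V : Scheme.{u}).Modules (ComplexShape.up ℤ) 0).obj (FlatMod.freeMod (V : Scheme.{u}) n)
  have hP0 : ∀ q : ℤ, q < 0 ∨ 0 < q → IsZero (P.X q) := fun q hq => isZero_single_obj_X _ _ _ _ (by omega)
  let δ := dualCxOf P 0 0 hP0 fun q => if h : q = 0 then
      (show Nonempty (DP (P.X q)) by
        subst h
        exact nonempty_dp_free (singleObjXSelf (ComplexShape.up ℤ) 0 _)).some
    else dpZero (isZero_single_obj_X _ _ _ _ h)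
  have hE : IsKFlat (T _) P := PCoh.isKFlat_of_isStrictlyPerfect
    (isStrictlyPerfect_single (Groth.LocFree.isFinLocFree_freeMod _ n) 0)
  have hKV : IsKFlat (T _) ((ExtZero.resCx V.ι).obj K) := PCoh.isKFlat_rc V.ι hK
  haveI := KFlat.hasLTensorCx ((ExtZero.resCx V.ι).obj K)
  haveI := KFlat.hasLTensorCx P
  haveI := KFlat.hasLTensorCx δ.V
  obtain ⟨c⟩ := nonempty_ltcx_congr hKV hE (DerivedCategory.Q.mapIso
    ((singleMapHomologicalComplex (Scheme.Modules.restrictFunctor V.ι) (ComplexShape.up ℤ) 0).app F ≪≫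
      (single _ _ 0).mapIso f))
  let adj : DCoh.LTensorCx ((ExtZero.resCx V.ι).obj K) ⊣ DCoh.LTensorCx δ.V :=
    (derivedTotAdj δ hE (PCoh.isKFlat_of_isStrictlyPerfect δ.isStrictlyPerfect)).ofNatIsoLeft c.symm
  haveI := adj.isLeftAdjoint
  let e := (ExtZero.restrRHomIso V.ι K ≪≫
    Functor.isoWhiskerLeft _ ((DCoh.RSheafHomAdj ((ExtZero.resCx V.ι).obj K)).rightAdjointUniq adj)).app M
  refine ⟨V, hxV, ?_⟩
  obtain ⟨h⟩ := Groth.KTheory.Perf.nonempty_hdRd V.ι ((DCoh.RSheafHom K).obj M) i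
  refine IsZero.of_iso ?_ h.symm
  haveI hMV : ((Groth.KTheory.Perf.Rd V.ι).obj M).IsLE a := (DerivedCategory.isLE_iff _ _).2 fun k hk => by
    obtain ⟨h'⟩ := Groth.KTheory.Perf.nonempty_hdRd V.ι M k
    exact ((Scheme.Modules.restrictFunctor V.ι).map_isZero
      ((DerivedCategory.isLE_iff M a).1 hM k hk)).of_iso h'
  obtain ⟨N, hN, ⟨eN⟩⟩ := DerivedCategory.exists_iso_Q_obj_of_isLE ((Groth.KTheory.Perf.Rd V.ι).obj M) a
  haveI := hN
  haveI := HomVanish.isStrictlyLE_tot N δ.V a 0 fun q hq => δ.zero q (by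
    show q ∉ Finset.Icc (-(0 : ℤ)) (-(0 : ℤ))
    simp only [Finset.mem_Icc]; omega)
  haveI hle : (DerivedCategory.Q.obj (tot (T _) N δ.V)).IsLE (a + 0) := ⟨_, Iso.refl _, inferInstance⟩
  refine IsZero.of_iso (DerivedCategory.isZero_of_isLE (DerivedCategory.Q.obj (tot (T _) N δ.V))
    (a + 0) i (by omega)) ((DerivedCategory.homologyFunctor _ i).mapIso ?_)
  exact e ≪≫ (DCoh.LTensorCx δ.V).mapIso eN ≪≫
    KFlat.ltcxIso δ.V (PCoh.isKFlat_of_isStrictlyPerfect δ.isStrictlyPerfect) N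



/-- Let the scheme X be quasi-compact and quasi-separated and E a bounded object of D(O_X) with
quasi-coherent cohomology sheaves. There is an integer n₀ > 0 such that for every finite locally
free O_X-module F and every n ≥ n₀, every morphism F ⟶ E[n] in D(O_X) (an element of Extⁿ(F, E)) is
zero. -/
theorem result (X : Scheme.{u}) [CompactSpace ↥X] [QuasiSeparatedSpace ↥X]
    (E : DCoh.D X) (hE : DCoh.IsQCohD E) (a b : ℤ) [E.IsGE a] [E.IsLE b] :
    ∃ n₀ : ℤ, 0 < n₀ ∧ ∀ (F : X.Modules), FlatMod.IsFinLocFree F → ∀ n : ℤ, n₀ ≤ n →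
      ∀ φ : DCoh.inD X F ⟶ E⟦n⟧, φ = 0 := by
  obtain ⟨e, he⟩ := HomVanish.exists_hom_structure_eq_zero (X := X)
  refine ⟨max 1 (b - e), lt_of_lt_of_le one_pos (le_max_left _ _), fun F hF n hn φ => ?_⟩
  let K := (single X.Modules (ComplexShape.up ℤ) 0).obj F
  have hsp := isStrictlyPerfect_single hF 0
  have hK : IsKFlat (T X) K := PCoh.isKFlat_of_isStrictlyPerfect hsp
  haveI := KFlat.hasLTensorCx K
  haveI := Groth.Misc4.HasRSheafHom.hasRSheafHom K hK fun q => PCoh.isFlat_of_isFinLocFree (hsp.2 q)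
  let adj := DCoh.RSheafHomAdj K
  let eU := Groth.Misc4.PerfectCompact.ltcxUnitIso K hK
  let eS := (DerivedCategory.singleFunctorIsoCompQ X.Modules 0).app F
  haveI : (DCoh.LTensorCx K).Additive := Groth.Misc4.HasRSheafHom.additive_ltcx K hK
  let t := (DerivedCategory.TStructure.t : Triangulated.TStructure (DCoh.D X))
  have hle : (E⟦n⟧).IsLE e := by
    haveI : t.IsLE E b := inferInstanceAs (E.IsLE b)
    haveI := t.isLE_shift E b n (b - n) (by omega)
    exact t.isLE_of_le (E⟦n⟧) (b - n) e (by omega)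
  have h := he _ (Groth.Misc4.QCohDPerf.isQCohD_rhom K (Groth.Misc4.QCohDRHom.isPerfect_toD hsp)
    (Groth.Misc4.QCohDPerf.isQCohD_shift hE n)) (isLE_rhom_finLocFree F hF e _ hle)
    (adj.homEquiv _ _ (eU.hom ≫ eS.inv ≫ φ))
  have h2 : eU.hom ≫ eS.inv ≫ φ = 0 := (adj.homAddEquiv _ _).injective (h.trans (map_zero _).symm)
  refine (cancel_epi eS.inv).1 ((cancel_epi eU.hom).1 (h2.trans ?_))
  exact comp_zero.symm.trans (congrArg (fun t => eU.hom ≫ t) comp_zero.symm)

end Groth.Agent.S1010
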