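import Groth.Statements.S10100
import Groth.Agent.AlgSpBasic.SepMono

set_option autoImplicit false
set_option backward.isDefEq.respectTransparency.types false
universe u
open CategoryTheory CategoryTheory.Limits AlgebraicGeometry
open AlgSp Groth.AlgSpBasic

namespace Groth.Agent.S10100

/-- Let `F` be a presheaf of sets on schemes over `S`, `X` a scheme over `S` and `h_X ⟶ F` a map which
is representable by algebraic spaces and locally quasi-finite. Then `h_X ⟶ F` is representable by
schemes. -/
theorem result (S : Scheme.{u}) (F : AlgSp.PSp S) (X : Over S)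
    (p : (AlgSp.pyon S).obj X ⟶ F)
    (hp : AlgSp.RepBySpWith (AlgSp.LocP (@LocallyQuasiFinite ⊓ @LocallyOfFiniteType)) p) :
    (AlgSp.pyon S).relativelyRepresentable p := by
  intro U ξ
  obtain ⟨h, hA, hQ⟩ := hp ξ _ _ (IsPullback.of_hasPullback p ξ)
  let Z : AlgSp.Sp S := ⟨pullback p ξ, h⟩
  let a : Z ⟶ (AlgSp.yon S).obj X := ObjectProperty.homMk (pullback.fst p ξ)
  let b : Z ⟶ (AlgSp.yon S).obj U := ObjectProperty.homMk (pullback.snd p ξ)
  obtain ⟨G, ⟨e⟩⟩ := exists_iso_of_lqf_of_mono hA a b (fun c d h₁ h₂ =>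
    ObjectProperty.hom_ext _ (pullback.hom_ext (congrArg InducedCategory.Hom.hom h₁)
      (congrArg InducedCategory.Hom.hom h₂))) hQ
  obtain ⟨l, hl⟩ := (AlgSp.yon S).map_surjective (e.hom ≫ b)
  let e' : (AlgSp.pyon S).obj G ≅ pullback p ξ := (sheafToPresheaf _ _).mapIso e
  exact ⟨G, l, e'.hom ≫ pullback.fst p ξ,
    (IsPullback.of_hasPullback p ξ).of_iso e'.symm (Iso.refl _) (Iso.refl _) (Iso.refl _)
      (by simp) (by
        simp only [Iso.refl_hom, Iso.symm_hom, Category.comp_id]
        rw [Iso.eq_inv_comp]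
        exact (congrArg InducedCategory.Hom.hom hl).symm) (by simp) (by simp)⟩

end Groth.Agent.S10100
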