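import Groth.Statements.S10105
import Groth.Agent.AlgSpFppf.SpaceDescent

set_option autoImplicit false
set_option backward.isDefEq.respectTransparency false
set_option backward.isDefEq.respectTransparency.types false
universe u
open CategoryTheory CategoryTheory.Limits AlgebraicGeometry
open AlgSp

namespace Groth.Agent.S10105

/-- Let `F` be an fppf sheaf of sets over `S` and `{S_i ⟶ S}` an fppf covering. If every `h_{S_i} × F`
is an algebraic space and the coproduct `∐ h_{S_i} × F` (in sheaves) is an algebraic space, then `F`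
is an algebraic space: being an algebraic space is fppf local on the base. -/
theorem result (S : Scheme.{u}) (F : AlgSp.Sp S) {ι : Type u} (Si : ι → Over S)
    (hfl : ∀ i, Flat (Si i).hom) (hfp : ∀ i, LocallyOfFinitePresentation (Si i).hom)
    (hsurj : ∀ x : ↥S, ∃ (i : ι) (y : ↥(Si i).left), (Si i).hom.base y = x)
    (halg : ∀ i, AlgSp.IsAlgSpace ((AlgSp.yon S).obj (Si i) ⨯ F))
    (c : Cofan (fun i => (AlgSp.yon S).obj (Si i) ⨯ F)) (hc : IsColimit c) (hcop : AlgSp.IsAlgSpace c.pt) :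
    AlgSp.IsAlgSpace F := by
  choose W q hq hqs using fun i => (halg i).atlas
  have hterm := Over.mkIdTerminal.isTerminalObj (AlgSp.yon S) (Over.mk (𝟙 S))
  have hsnd : ∀ i, AlgSp.RepWith (@Flat ⊓ @LocallyOfFinitePresentation)
      (prod.snd : (AlgSp.yon S).obj (Si i) ⨯ F ⟶ F) := fun i => by
    refine Groth.AlgSpBasic.repWith_of_isPullback
      (IsPullback.of_is_product' (prodIsProd ((AlgSp.yon S).obj (Si i)) F) hterm) ?_
    rw [hterm.hom_ext (hterm.from _) ((AlgSp.yon S).map (Over.mkIdTerminal.from (Si i)))]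
    refine (AlgSp.repWith_yon_map_iff _ _).2 ?_
    simp only [Over.mkIdTerminal_from_left]
    exact ⟨hfl i, hfp i⟩
  refine Groth.AlgSpFppf.isAlgSpace_of_family W (fun i => q i ≫ prod.snd) (fun i =>
    Groth.AlgSpBasic.repWith_comp (Groth.AlgSpBasic.repWith_mono
      (fun _ _ f (hf : Etale f) => ⟨inferInstance, inferInstance⟩) (hq i)) (hsnd i)) fun z => ?_
  obtain ⟨T, g, t, rfl⟩ := Groth.AlgSpBasic.exists_ofPt z
  obtain ⟨i, y, hy⟩ := hsurj (T.hom t)
  obtain ⟨K, x₁, x₂⟩ := Scheme.Pullback.exists_preimage_pullback t y hy.symm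
  let V : Over S := Over.mk (pullback.fst T.hom (Si i).hom ≫ T.hom)
  let a : V ⟶ T := Over.homMk (pullback.fst T.hom (Si i).hom) rfl
  let b : V ⟶ Si i := Over.homMk (pullback.snd T.hom (Si i).hom) pullback.condition.symm
  obtain ⟨w, hw⟩ := Groth.AlgSpBasic.surjective_map_of_repWith (hqs i)
    (AlgSp.Points.ofPt (prod.lift ((AlgSp.yon S).map b) ((AlgSp.yon S).map a ≫ g)) K)
  obtain ⟨v, rfl⟩ := (AlgSp.Points.schemeHomeo (W i)).surjective w
  refine ⟨i, v, ?_⟩
  rw [Groth.AlgSpBasic.ofPt_eq_map, AlgSp.Points.map_comp]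
  refine (congrArg _ hw).trans ?_
  rw [Groth.AlgSpBasic.ofPt_eq_map, ← AlgSp.Points.map_comp, prod.lift_snd, ← Groth.AlgSpBasic.ofPt_eq_map,
    Groth.AlgSpBasic.ofPt_comp_yon]
  exact congrArg (AlgSp.Points.ofPt g) x₁

end Groth.Agent.S10105
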