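import Groth.Statements.S1011
import Groth.Agent.DerivedCoh.HomVanish
import Groth.Agent.KTheory.RelPCBounded

set_option autoImplicit false
universe u
open CategoryTheory CategoryTheory.Limits AlgebraicGeometry
attribute [local instance] HasDerivedCategory.standard
open Perf

namespace Groth.Agent.S1011

open Groth.DerivedCoh Groth.DerivedCoh.PCoh Pretriangulated

/-- Let the scheme X be quasi-compact and quasi-separated and K a perfect object of D(O_X). (1) There
are integers a ≤ b such that every morphism K ⟶ L vanishes whenever L has quasi-coherent cohomology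
sheaves which are zero in all degrees of the interval [a, b]. (2) If L ∈ D_QCoh(O_X) is bounded,
then the set of n for which there is a nonzero morphism K ⟶ L[n] is finite. -/
theorem result (X : Scheme.{u}) [CompactSpace ↥X] [QuasiSeparatedSpace ↥X]
    (K : DCoh.D X) (hK : DCoh.IsPerfect K) :
    (∃ a b : ℤ, a ≤ b ∧ ∀ L : DCoh.D X, DCoh.IsQCohD L → (∀ i : ℤ, a ≤ i → i ≤ b → IsZero (DCoh.HD L i)) →
      ∀ φ : K ⟶ L, φ = 0) ∧
    ∀ (L : DCoh.D X) (a' b' : ℤ), DCoh.IsQCohD L → L.IsGE a' → L.IsLE b' →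
      {n : ℤ | ∃ φ : K ⟶ L⟦n⟧, φ ≠ 0}.Finite := by
  obtain ⟨C, ⟨eC⟩⟩ := Groth.KTheory.Perf.exists_rep K
  obtain ⟨b₀, hb₀⟩ := Groth.KTheory.RelPC.exists_isZero_homology
    (isPseudoCoherentD_of_iso eC.symm (isPseudoCoherentD_of_isPerfect hK 0))
  have hb : K.IsLE b₀ := (DerivedCategory.isLE_iff _ _).2 fun i hi =>
    ((hb₀ i hi).of_iso ((DerivedCategory.homologyFunctorFactors _ i).app C)).of_iso
      ((DerivedCategory.homologyFunctor _ i).mapIso eC.symm)
  obtain ⟨e, he⟩ := HomVanish.exists_hom_eq_zero_low hK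
  let t := (DerivedCategory.TStructure.t : Triangulated.TStructure (DCoh.D X))
  let a := min e b₀
  have main : ∀ L : DCoh.D X, DCoh.IsQCohD L →
      (∀ i : ℤ, a ≤ i → i ≤ b₀ → IsZero (DCoh.HD L i)) → ∀ φ : K ⟶ L, φ = 0 := by
    intro L hL hz φ
    let T := (t.triangleLTGE a).obj L
    have hT : T ∈ distTriang _ := t.triangleLTGE_distinguished a L
    haveI h₁ : T.obj₁.IsLE (a - 1) := t.isLE_truncLT_obj L a (a - 1) (by omega)
    haveI h₃ : T.obj₃.IsGE a := t.isGE_truncGE_obj L a a le_rfl
    have h₁z : ∀ i, a ≤ i → IsZero ((DerivedCategory.homologyFunctor _ i).obj T.obj₁) := fun i hi =>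
      DerivedCategory.isZero_of_isLE _ (a - 1) i (by omega)
    have h₃z : ∀ i, i < a → IsZero ((DerivedCategory.homologyFunctor _ i).obj T.obj₃) := fun i hi =>
      DerivedCategory.isZero_of_isGE _ a i hi
    haveI h₃' : T.obj₃.IsGE (b₀ + 1) := (DerivedCategory.isGE_iff _ _).2 fun i hi => by
      rcases lt_or_ge i a with h | h
      · exact h₃z i h
      · exact (DerivedCategory.HomologySequence.exact₃ T hT i (i + 1) rfl).isZero_of_both_zeros
          ((hz i h (by omega)).eq_of_src _ _) ((h₁z (i + 1) (by omega)).eq_of_tgt _ _)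
    have hq : DCoh.IsQCohD T.obj₁ := fun i => by
      rcases lt_or_ge i a with hi | hi
      · haveI : Epi ((DerivedCategory.homologyFunctor _ i).map T.mor₁) :=
          (DerivedCategory.HomologySequence.epi_homologyMap_mor₁_iff T hT i).2 ((h₃z i hi).eq_of_tgt _ _)
        haveI : Mono ((DerivedCategory.homologyFunctor _ i).map T.mor₁) :=
          (DerivedCategory.HomologySequence.mono_homologyMap_mor₁_iff T hT (i - 1) i (by omega)).2
            ((h₃z (i - 1) (by omega)).eq_of_src _ _)
        haveI := isIso_of_mono_of_epi ((DerivedCategory.homologyFunctor _ i).map T.mor₁)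
        exact (Groth.QCohMod.isQCoh_iff_of_iso
          (asIso ((DerivedCategory.homologyFunctor _ i).map T.mor₁))).2 (hL i)
      · exact Groth.Misc4.QCohDPerf.isQCoh_isZero (h₁z i hi)
    haveI : t.IsLE K b₀ := hb
    haveI : t.IsGE T.obj₃ (b₀ + 1) := h₃'
    obtain ⟨g, hg⟩ := Triangle.coyoneda_exact₂ T hT φ (t.zero (φ ≫ T.mor₂) b₀ (b₀ + 1) (by omega))
    have hle : T.obj₁.IsLE e := (DerivedCategory.isLE_iff _ _).2 fun i hi => by
      rcases lt_or_ge i a with h | h
      · exfalso
        omega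
      · exact h₁z i h
    rw [hg, he T.obj₁ hq hle g]
    exact zero_comp
  refine ⟨⟨a, b₀, min_le_right _ _, main⟩, fun L a' b' hL hGE hLE => ?_⟩
  refine (Set.finite_Icc (a' - b₀) (b' - a)).subset fun n ⟨φ, hφ⟩ => ?_
  by_contra hn
  rw [Set.mem_Icc] at hn
  refine hφ (main _ (Groth.Misc4.QCohDPerf.isQCohD_shift hL n) (fun i h1 h2 => ?_) φ)
  refine IsZero.of_iso ?_ (((DerivedCategory.homologyFunctor X.Modules 0).shiftIso n i (n + i) rfl).app L)
  rcases not_and_or.1 hn with h | h
  · exact DerivedCategory.isZero_of_isGE _ a' (n + i) (by omega)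
  · exact DerivedCategory.isZero_of_isLE _ b' (n + i) (by omega)

end Groth.Agent.S1011
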