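import Groth.Statements.S10113
import Mathlib.CategoryTheory.Sites.RegularEpi
-- import your own Groth.Agent.* helpers here

set_option autoImplicit false
universe u
open CategoryTheory CategoryTheory.Limits AlgebraicGeometry
open AlgSp

namespace Groth.Agent.S10113

/-- Let `s, t : R ⟶ U` be a pre-relation of algebraic spaces, `M` an algebraic space and `U ⟶ M` a
morphism which coequalizes `s, t`, is a surjection of sheaves, and for which `(t, s) : R ⟶ U ×_M U`
is a surjection of sheaves. Then the induced map `U/R ⟶ M` is an isomorphism: `M` represents the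
quotient sheaf. -/
theorem result (S : Scheme.{u}) (R U M : AlgSp.Sp S)
    (hR : AlgSp.IsAlgSpace R) (hU : AlgSp.IsAlgSpace U) (hM : AlgSp.IsAlgSpace M) (s t : R ⟶ U)
    (q : U ⟶ M) (w : s ≫ q = t ≫ q) [Epi q] [Epi (pullback.lift t s w.symm : R ⟶ pullback q q)] :
    IsIso (AlgSp.quotSpDesc q w) := by
  obtain ⟨⟨r⟩⟩ := IsRegularEpiCategory.regularEpiOfEpi q
  have h₀ : pullback.fst q q ≫ AlgSp.quotSpπ s t = pullback.snd q q ≫ AlgSp.quotSpπ s t := by
    rw [← cancel_epi (pullback.lift t s w.symm : R ⟶ pullback q q), ← Category.assoc,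
      ← Category.assoc, pullback.lift_fst, pullback.lift_snd]
    exact (AlgSp.quotSp_condition s t).symm
  let ψ : M ⟶ AlgSp.quotSp s t := Cofork.IsColimit.desc r.isColimit (AlgSp.quotSpπ s t) (by
    have := congrArg (pullback.lift r.left r.right r.w ≫ ·) h₀
    simp only [← Category.assoc, pullback.lift_fst, pullback.lift_snd] at this
    exact this)
  have hψ : q ≫ ψ = AlgSp.quotSpπ s t := Cofork.IsColimit.π_desc r.isColimit
  refine ⟨ψ, ?_, ?_⟩
  · refine Cofork.IsColimit.hom_ext (AlgSp.quotSpIsCoequalizer s t) ?_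
    show AlgSp.quotSpπ s t ≫ AlgSp.quotSpDesc q w ≫ ψ = AlgSp.quotSpπ s t ≫ 𝟙 _
    rw [← Category.assoc, AlgSp.quotSpπ_desc, hψ, Category.comp_id]
  · rw [← cancel_epi q, ← Category.assoc, hψ, AlgSp.quotSpπ_desc, Category.comp_id]

end Groth.Agent.S10113
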