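import Groth.Statements.S10114
import Groth.Agent.AlgSp2.QuotPreEqv
-- import your own Groth.Agent.* helpers here

set_option autoImplicit false
set_option backward.isDefEq.respectTransparency.types false
universe u
open CategoryTheory CategoryTheory.Limits AlgebraicGeometry
open AlgSp

namespace Groth.Agent.S10114

/-- Let `s, t : R ⟶ U` be a pre-equivalence relation of algebraic spaces, `g : U' ⟶ U` a morphism of
algebraic spaces and `s', t' : R' ⟶ U'` the restriction of the pre-relation along `g` (so `R' = (U'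
× U') ×_{U × U} R`). Then the induced map of quotient sheaves `U'/R' ⟶ U/R` is injective, and it is
an isomorphism when `g` is a surjection of sheaves. -/
theorem result (S : Scheme.{u}) (R U R' U' : AlgSp.Sp S)
    (hR : AlgSp.IsAlgSpace R) (hU : AlgSp.IsAlgSpace U) (hR' : AlgSp.IsAlgSpace R') (hU' : AlgSp.IsAlgSpace U')
    (s t : R ⟶ U) (hpre : AlgSp.IsPreEqvRelSp s t) (g : U' ⟶ U) (s' t' : R' ⟶ U') (r : R' ⟶ R)
    (hsq : IsPullback (prod.lift t' s') r (prod.map g g) (prod.lift t s))
    (ψ : AlgSp.quotSp s' t' ⟶ AlgSp.quotSp s t) (hψ : AlgSp.quotSpπ s' t' ≫ ψ = g ≫ AlgSp.quotSpπ s t) :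
    Mono ψ ∧ (Epi g → IsIso ψ) := by
  have hw₁ : r ≫ t = t' ≫ g := by
    have := hsq.w =≫ prod.fst
    rw [Category.assoc, Category.assoc, prod.map_fst, prod.lift_fst, prod.lift_fst_assoc] at this
    exact this.symm
  have hw₂ : r ≫ s = s' ≫ g := by
    have := hsq.w =≫ prod.snd
    rw [Category.assoc, Category.assoc, prod.map_snd, prod.lift_snd, prod.lift_snd_assoc] at this
    exact this.symm
  have hm : Mono ψ := Groth.AlgSp2.QuotPreEqv.mono_of_lift hpre g (fun {Z} a b x hx₁ hx₂ => by
    have e : prod.lift a b ≫ prod.map g g = x ≫ prod.lift t s := by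
      apply prod.hom_ext
      · rw [Category.assoc, Category.assoc, prod.map_fst, prod.lift_fst_assoc, prod.lift_fst, hx₁]
      · rw [Category.assoc, Category.assoc, prod.map_snd, prod.lift_snd_assoc, prod.lift_snd, hx₂]
    refine ⟨hsq.lift _ _ e, ?_, ?_⟩
    · have := hsq.lift_fst _ _ e =≫ prod.fst
      rwa [Category.assoc, prod.lift_fst, prod.lift_fst] at this
    · have := hsq.lift_fst _ _ e =≫ prod.snd
      rwa [Category.assoc, prod.lift_snd, prod.lift_snd] at this) ψ hψ
  refine ⟨hm, fun hg => ?_⟩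
  have : Epi (AlgSp.quotSpπ s t) := inferInstanceAs (Epi (coequalizer.π s t))
  exact Groth.AlgSp2.QuotPreEqv.isIso_of_epi g ψ hψ

end Groth.Agent.S10114
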