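import Groth.Statements.S10115
import Groth.Agent.AlgSp2.QuotPreEqv
import Groth.Agent.AlgSp2.GrpdRestrict
-- import your own Groth.Agent.* helpers here

set_option autoImplicit false
set_option backward.isDefEq.respectTransparency.types false
universe u
open CategoryTheory CategoryTheory.Limits AlgebraicGeometry
open AlgSp AlgSp.GroupoidSp

namespace Groth.Agent.S10115

/-- For a groupoid `(U, R, s, t, c)` in algebraic spaces over `B`, let `(U', R', s', t', c')` be its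
restriction along a morphism `g : U' ⟶ U` over `B`. Then `U'/R' ⟶ U/R` is injective; if the
composite `h : U' ×_{g, U, t} R ⟶ R ⟶ U` of the projection with `s` is a surjection of fppf sheaves
(for instance if `g` is), then it is bijective. -/
theorem result (S : Scheme.{u}) (B : AlgSp.Sp S) (hB : AlgSp.IsAlgSpace B)
    (G G' : AlgSp.GroupoidSp B) (hU : AlgSp.IsAlgSpace G.U) (hR : AlgSp.IsAlgSpace G.R)
    (hU' : AlgSp.IsAlgSpace G'.U) (hR' : AlgSp.IsAlgSpace G'.R) (φ : AlgSp.GroupoidSp.Hom G' G)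
    (hφ : φ.IsRestriction) (ψ : G'.quot ⟶ G.quot) (hψ : G'.quotπ ≫ ψ = φ.fU ≫ G.quotπ) :
    Mono ψ ∧ (Epi (pullback.snd φ.fU G.t ≫ G.s) → IsIso ψ) := by
  have hm : Mono ψ := Groth.AlgSp2.QuotPreEqv.mono_of_lift
    (Groth.AlgSp2.QuotPreEqv.isPreEqvRelSp_groupoid G) φ.fU (fun a b x hx₁ hx₂ =>
      (Groth.AlgSp2.GrpdRestrict.exists_lift φ hφ a b x hx₁ hx₂).imp fun _ h => ⟨h.1, h.2.1⟩) ψ hψ
  refine ⟨hm, fun hh => ?_⟩
  have hπ : Epi (AlgSp.quotSpπ G.s G.t) := inferInstanceAs (Epi (coequalizer.π G.s G.t))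
  have : Epi (φ.fU ≫ AlgSp.quotSpπ G.s G.t) := by
    have e : pullback.fst φ.fU G.t ≫ φ.fU ≫ AlgSp.quotSpπ G.s G.t =
        (pullback.snd φ.fU G.t ≫ G.s) ≫ AlgSp.quotSpπ G.s G.t := by
      rw [← Category.assoc, pullback.condition, Category.assoc, Category.assoc,
        AlgSp.quotSp_condition]
    have : Epi (pullback.fst φ.fU G.t ≫ φ.fU ≫ AlgSp.quotSpπ G.s G.t) := by
      rw [e]; infer_instance
    exact epi_of_epi (pullback.fst φ.fU G.t) _
  exact @Groth.AlgSp2.QuotPreEqv.isIso_of_epi _ _ _ _ _ _ _ _ _ φ.fU ψ hψ hm this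

end Groth.Agent.S10115
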