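import Groth.Statements.S10118
import Groth.Agent.AlgSp2.TorsorLocal
-- import your own Groth.Agent.* helpers here

set_option autoImplicit false
set_option backward.isDefEq.respectTransparency.types false
universe u
open CategoryTheory CategoryTheory.Limits AlgebraicGeometry MonoidalCategory MonObj
open AlgSp AlgSp.GAction

namespace Groth.Agent.S10118

/-- Let `X` be a pseudo-torsor under a group algebraic space `G` over an algebraic space `B`, where both
`G` and `X` are locally of finite type over `B`. Whenever `G ⟶ B` is unramified, `X ⟶ B` is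
unramified too; likewise, local quasi-finiteness passes from `G ⟶ B` to `X ⟶ B`. -/
theorem result (S : Scheme.{u}) (B : AlgSp.Sp S) (hB : AlgSp.IsAlgSpace B)
    (G X : Over B) [GrpObj G] (hG : AlgSp.IsAlgSpace G.left) (hX : AlgSp.IsAlgSpace X.left)
    (a : AlgSp.GAction G X) (ha : a.IsPseudoTorsor)
    (hGt : AlgSp.LocP @LocallyOfFiniteType G.hom) (hXt : AlgSp.LocP @LocallyOfFiniteType X.hom) :
    (AlgSp.LocP (@LocallyOfFiniteType ⊓ @FormallyUnramified) G.hom →
        AlgSp.LocP (@LocallyOfFiniteType ⊓ @FormallyUnramified) X.hom) ∧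
      (AlgSp.LocP (@LocallyQuasiFinite ⊓ @LocallyOfFiniteType) G.hom →
        AlgSp.LocP (@LocallyQuasiFinite ⊓ @LocallyOfFiniteType) X.hom) := by
  refine ⟨fun h => ?_, fun h => ?_⟩
  · exact Groth.AlgSpBasic.locP_unramified_of_diagonal hXt
      (Groth.AlgSp2.TorsorLocal.repWith_diagonal_of_pseudoTorsor a ha
        (Groth.AlgSpBasic.repWith_diagonal_of_unramified hG hB h))
  · obtain ⟨m, sq⟩ := Groth.AlgSp2.TorsorLocal.isPullback_shear a ha
    exact Groth.AlgSp2.TorsorLocal.lqf_of_self_baseChange hX hB hXt
      (Groth.AlgSpBasic.locP_of_isPullback hG hB hX sq h)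

end Groth.Agent.S10118
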