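import Groth.Statements.S10121
import Groth.Agent.AlgSp2.GrpdAlg
-- import your own Groth.Agent.* helpers here

set_option autoImplicit false
set_option backward.isDefEq.respectTransparency.types false
universe u
open CategoryTheory CategoryTheory.Limits AlgebraicGeometry
open AlgSp

namespace Groth.Agent.S10121

/-- For a pre-equivalence relation `s, t : R ⟶ U` of algebraic spaces, the relation on points of `U`
given by `x ∼ y` when some point `r` of `R` has `t(r) = x` and `s(r) = y` is an equivalence relation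
on `|U|`. -/
theorem result (S : Scheme.{u}) (R U : AlgSp.Sp S)
    (hR : AlgSp.IsAlgSpace R) (hU : AlgSp.IsAlgSpace U) (s t : R ⟶ U) (h : AlgSp.IsPreEqvRelSp s t) :
    _root_.Equivalence (fun x y : AlgSp.Points U =>
      ∃ r : AlgSp.Points R, AlgSp.Points.map t r = x ∧ AlgSp.Points.map s r = y) := by
  refine ⟨fun x => ?_, ?_, ?_⟩
  · obtain ⟨T, g, p, rfl⟩ := Groth.AlgSpBasic.exists_ofPt x
    obtain ⟨r, h₁, h₂⟩ := (h T).refl g
    exact ⟨AlgSp.Points.ofPt r p, by rw [Points.map_ofPt, h₁], by rw [Points.map_ofPt, h₂]⟩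
  · rintro x y ⟨r, rfl, rfl⟩
    obtain ⟨T, g, p, rfl⟩ := Groth.AlgSpBasic.exists_ofPt r
    obtain ⟨r', h₁, h₂⟩ := (h T).symm ⟨g, rfl, rfl⟩
    exact ⟨AlgSp.Points.ofPt r' p, by rw [Points.map_ofPt, h₁, Points.map_ofPt],
      by rw [Points.map_ofPt, h₂, Points.map_ofPt]⟩
  · rintro x y z ⟨r₁, rfl, rfl⟩ ⟨r₂, h₂, rfl⟩
    obtain ⟨q, hq₁, hq₂⟩ := Groth.AlgSpBasic.exists_point_of_isPullback
      (IsPullback.of_hasPullback s t) r₁ r₂ h₂.symm
    obtain ⟨T, g, p, rfl⟩ := Groth.AlgSpBasic.exists_ofPt q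
    obtain ⟨r, h₁, h₂⟩ := (h T).trans ⟨g ≫ pullback.fst s t, rfl, rfl⟩
      ⟨g ≫ pullback.snd s t, by rw [Category.assoc, Category.assoc, pullback.condition], rfl⟩
    refine ⟨AlgSp.Points.ofPt r p, ?_, ?_⟩
    · rw [Points.map_ofPt, h₁, ← hq₁, Points.map_ofPt, Points.map_ofPt]
    · rw [Points.map_ofPt, h₂, ← hq₂, Points.map_ofPt, Points.map_ofPt]

end Groth.Agent.S10121
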