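import Groth.Statements.S10122
import Groth.Agent.AlgSp2.GrpdStabilizer
import Groth.Agent.AlgSpBasic.QComp
import Groth.Agent.AlgSpBasic.Proper
-- import your own Groth.Agent.* helpers here

set_option autoImplicit false
set_option backward.isDefEq.respectTransparency.types false
universe u
open CategoryTheory CategoryTheory.Limits AlgebraicGeometry
open AlgSp AlgSp.GroupoidSp

namespace Groth.Agent.S10122

/-- Let `(U, R, s, t, c)` be a groupoid in algebraic spaces over `B` with stabilizer `G ⟶ U` and unit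
section `e : U ⟶ G`. Then (1) `j : R ⟶ U ×_B U` is separated iff `G ⟶ U` is separated iff `e` is a
closed immersion; (3) `j` is quasi-separated iff `G ⟶ U` is quasi-separated iff `e` is
quasi-compact; (2) if `j` or `G ⟶ U` is locally separated then `e` is an immersion. The unit section
is written as any morphism `U ⟶ G` lifting the identity `e : U ⟶ R` of the groupoid. (The published
part (2) is a three-way equivalence; this row states only that `j` locally separated, or `G ⟶ U`
locally separated, implies that `e` is an immersion.) -/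
theorem result (S : Scheme.{u}) (B : AlgSp.Sp S) (hB : AlgSp.IsAlgSpace B)
    (G : AlgSp.GroupoidSp B) (hU : AlgSp.IsAlgSpace G.U) (hR : AlgSp.IsAlgSpace G.R)
    (eG : G.U ⟶ G.stabilizer) (heG : eG ≫ G.stabilizerι = G.e) :
    ((AlgSp.IsSeparatedMor G.j ↔ AlgSp.IsSeparatedMor G.stabilizerToU) ∧
        (AlgSp.IsSeparatedMor G.j ↔ AlgSp.RepWith @IsClosedImmersion eG)) ∧
      ((AlgSp.IsQuasiSeparatedMor G.j ↔ AlgSp.IsQuasiSeparatedMor G.stabilizerToU) ∧
        (AlgSp.IsQuasiSeparatedMor G.j ↔ AlgSp.IsQuasiCompactMor eG)) ∧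
      ((AlgSp.IsLocallySeparatedMor G.j → AlgSp.RepWith @IsImmersion eG) ∧
        (AlgSp.IsLocallySeparatedMor G.stabilizerToU → AlgSp.RepWith @IsImmersion eG)) := by
  have hjs : AlgSp.IsAlgSpace G.stabilizer := by
    have hP : AlgSp.IsAlgSpace (pullback G.pU G.pU) :=
      Groth.AlgSpBasic.isAlgSpace_pullback ⟨_, hU⟩ ⟨_, hU⟩ ⟨B, hB⟩ G.pU G.pU
    exact Groth.AlgSpBasic.isAlgSpace_pullback ⟨_, hR⟩ ⟨_, hU⟩ ⟨_, hP⟩ G.j G.diag
  have hbc : ∀ {P : MorphismProperty Scheme.{u}}, AlgSp.RepWith P (pullback.diagonal G.j) →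
      AlgSp.RepWith P (pullback.diagonal G.stabilizerToU) := fun h =>
    Groth.AlgSpBasic.repWith_diagonal_baseChange (IsPullback.of_hasPullback G.j G.diag) h
  obtain ⟨d, sqd⟩ := Groth.AlgSp2.GrpdStabilizer.exists_isPullback_diagonal G eG heG
  have sqe := Groth.AlgSp2.GrpdStabilizer.isPullback_section G.stabilizerToU eG
    (Groth.AlgSp2.GrpdStabilizer.section_of_unit G eG heG)
  have he : ∀ {P : MorphismProperty Scheme.{u}}, AlgSp.RepWith P (pullback.diagonal G.stabilizerToU) →
      AlgSp.RepWith P eG := fun h => Groth.AlgSpBasic.repWith_of_isPullback sqe h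
  have hd : ∀ {P : MorphismProperty Scheme.{u}}, AlgSp.RepWith P eG →
      AlgSp.RepWith P (pullback.diagonal G.j) := fun h => Groth.AlgSpBasic.repWith_of_isPullback sqd h
  have hrep := (he (Groth.AlgSpBasic.monoLFT_diagonal hjs G.stabilizerToU)).rep
  refine ⟨⟨⟨fun h => hbc h, fun h => hd (he h)⟩, ⟨fun h => he (hbc h), fun h => hd h⟩⟩,
    ⟨⟨fun h => hbc h, fun h => hd (he h)⟩, ⟨fun h => ?_, fun h => ?_⟩⟩,
    ⟨fun h => he (hbc h), fun h => he h⟩⟩
  · exact Groth.AlgSpBasic.isQuasiCompactMor_of_repWith hU hjs (he (hbc h))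
  · exact hd (Groth.AlgSpBasic.repWith_of_isQuasiCompactMor hrep h)

end Groth.Agent.S10122
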