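import Groth.Statements.S10124
import Groth.Agent.AlgSp2.GrpdAlg
-- import your own Groth.Agent.* helpers here

set_option autoImplicit false
set_option backward.isDefEq.respectTransparency.types false
universe u
open CategoryTheory CategoryTheory.Limits AlgebraicGeometry
open AlgSp AlgSp.GroupoidSp

namespace Groth.Agent.S10124

/-- Let `(U, R, s, t, c)` be a groupoid in algebraic spaces over `B`, `K` a field and `r, r' : Spec K ⟶
R` with `t ∘ r = t ∘ r'`; put `u = s ∘ r`, `u' = s ∘ r'`. Then the fibres `Spec K ×_{u, U, s} R` and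
`Spec K ×_{u', U, s} R` are isomorphic as spaces over `Spec K` (existence of an isomorphism over
`Spec K`). -/
theorem result (S : Scheme.{u}) (B : AlgSp.Sp S) (hB : AlgSp.IsAlgSpace B)
    (G : AlgSp.GroupoidSp B) (hU : AlgSp.IsAlgSpace G.U) (hR : AlgSp.IsAlgSpace G.R)
    (K : Type u) [Field K] (σ : Spec (CommRingCat.of K) ⟶ S)
    (r r' : (AlgSp.yon S).obj (Over.mk σ) ⟶ G.R) (h : r ≫ G.t = r' ≫ G.t) :
    Nonempty (Over.mk (pullback.fst (r ≫ G.s) G.s) ≅ Over.mk (pullback.fst (r' ≫ G.s) G.s)) := by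
  let fw : ∀ (p q : (AlgSp.yon S).obj (Over.mk σ) ⟶ G.R), p ≫ G.t = q ≫ G.t →
      (pullback (p ≫ G.s) G.s ⟶ pullback (q ≫ G.s) G.s) := fun p q hpq =>
    pullback.lift (pullback.fst (p ≫ G.s) G.s)
      (Groth.AlgSp2.GrpdAlg.comp G
        (Groth.AlgSp2.GrpdAlg.comp G (pullback.snd (p ≫ G.s) G.s)
          ((pullback.fst (p ≫ G.s) G.s ≫ p) ≫ G.i)
          (by rw [Groth.AlgSp2.GrpdAlg.inv_tgt, Category.assoc, pullback.condition]))
        (pullback.fst (p ≫ G.s) G.s ≫ q)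
        (by rw [Groth.AlgSp2.GrpdAlg.comp_src, Groth.AlgSp2.GrpdAlg.inv_src, Category.assoc,
          Category.assoc, hpq]))
      (by rw [Groth.AlgSp2.GrpdAlg.comp_src, Category.assoc])
  have key : ∀ (p q : (AlgSp.yon S).obj (Over.mk σ) ⟶ G.R) (hpq : p ≫ G.t = q ≫ G.t),
      fw p q hpq ≫ fw q p hpq.symm = 𝟙 _ := by
    intro p q hpq
    have e₁ : fw p q hpq ≫ pullback.fst (q ≫ G.s) G.s = pullback.fst (p ≫ G.s) G.s :=
      pullback.lift_fst _ _ _
    apply pullback.hom_ext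
    · rw [Category.assoc, pullback.lift_fst, e₁, Category.id_comp]
    · rw [Category.assoc, pullback.lift_snd, Category.id_comp, Groth.AlgSp2.GrpdAlg.nat]
      let P := pullback.fst (p ≫ G.s) G.s
      have hA : (Groth.AlgSp2.GrpdAlg.comp G (pullback.snd (p ≫ G.s) G.s) ((P ≫ p) ≫ G.i)
          (by rw [Groth.AlgSp2.GrpdAlg.inv_tgt, Category.assoc, pullback.condition])) ≫ G.s =
            (P ≫ q) ≫ G.t := by
        rw [Groth.AlgSp2.GrpdAlg.comp_src, Groth.AlgSp2.GrpdAlg.inv_src, Category.assoc,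
          Category.assoc, hpq]
      refine (Groth.AlgSp2.GrpdAlg.comp_congr G
        (α' := Groth.AlgSp2.GrpdAlg.comp G (pullback.snd (p ≫ G.s) G.s) ((P ≫ p) ≫ G.i)
          (by rw [Groth.AlgSp2.GrpdAlg.inv_tgt, Category.assoc, pullback.condition]))
        (β' := P ≫ p) ?_ (by rw [← Category.assoc, e₁])).trans
        (Groth.AlgSp2.GrpdAlg.cancel_inv_left G _)
      rw [Groth.AlgSp2.GrpdAlg.nat]
      refine (Groth.AlgSp2.GrpdAlg.comp_congr G (pullback.lift_snd _ _ _) ?_).trans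
        (Groth.AlgSp2.GrpdAlg.cancel_inv_right G hA)
      simp only [← Category.assoc, e₁, P]
  refine ⟨Over.isoMk ⟨fw r r' h, fw r' r h.symm, key r r' h, key r' r h.symm⟩ ?_⟩
  exact pullback.lift_fst _ _ _

end Groth.Agent.S10124
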