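import Groth.Statements.S10125
import Groth.Agent.AlgSp2.OverField
import Mathlib.CategoryTheory.Monoidal.Cartesian.Grp
-- import your own Groth.Agent.* helpers here

set_option autoImplicit false
set_option backward.isDefEq.respectTransparency.types false
universe u
open CategoryTheory CategoryTheory.Limits AlgebraicGeometry MonoidalCategory MonObj
open AlgSp CategoryTheory.CartesianMonoidalCategory CategoryTheory.MonObj CategoryTheory.MonoidalCategory

namespace Groth.Agent.S10125

/-- For a group algebraic space `G` over a field `k`, the multiplication `m` of `G`, a morphism `G ×_k G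
⟶ G`, is both flat and universally open. (The published situation allows any base scheme `S` with
`k` a field over `S`; this row takes `S = Spec k`.) -/
theorem result (k : Type u) [Field k]
    (G : Over ((AlgSp.yon (Spec (CommRingCat.of k))).obj (Over.mk (𝟙 _)))) [GrpObj G]
    (hG : AlgSp.IsAlgSpace G.left) :
    AlgSp.LocP @Flat (μ[G]).left ∧ AlgSp.IsUnivOpenMor (μ[G]).left := by
  have hK : AlgSp.IsAlgSpace ((AlgSp.yon (Spec (CommRingCat.of k))).obj (Over.mk (𝟙 _))) :=
    AlgSp.IsAlgSpace.yon_obj _
  obtain ⟨hf, ho⟩ := Groth.AlgSp2.OverField.flat_univOpen hG G.hom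
  let τ : G ⊗ G ⟶ G ⊗ G :=
    lift (CartesianMonoidalCategory.fst G G * CartesianMonoidalCategory.snd G G)
      (CartesianMonoidalCategory.snd G G)
  let τ' : G ⊗ G ⟶ G ⊗ G :=
    lift (CartesianMonoidalCategory.fst G G * (CartesianMonoidalCategory.snd G G)⁻¹)
      (CartesianMonoidalCategory.snd G G)
  have h₁ : τ ≫ τ' = 𝟙 _ := by
    refine CartesianMonoidalCategory.hom_ext _ _ ?_ ?_
    · simp only [τ, τ', Category.assoc, lift_fst, lift_snd, comp_mul, GrpObj.comp_inv,
        Category.id_comp, mul_inv_cancel_right]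
    · simp only [τ, τ', Category.assoc, lift_snd, Category.id_comp]
  have h₂ : τ' ≫ τ = 𝟙 _ := by
    refine CartesianMonoidalCategory.hom_ext _ _ ?_ ?_
    · simp only [τ, τ', Category.assoc, lift_fst, lift_snd, comp_mul,
        Category.id_comp, inv_mul_cancel_right]
    · simp only [τ, τ', Category.assoc, lift_snd, Category.id_comp]
  have hμ : μ[G] = CartesianMonoidalCategory.fst G G * CartesianMonoidalCategory.snd G G := by
    rw [Hom.mul_def]
    simp
  have : IsIso τ := ⟨τ', h₁, h₂⟩
  let σ : pullback G.hom G.hom ⟶ pullback G.hom G.hom := τ.left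
  have hσ : IsIso σ := Functor.map_isIso (Over.forget _) τ
  have hσ₁ : σ ≫ pullback.fst G.hom G.hom = (μ[G]).left := by
    have := congrArg (fun m : G ⊗ G ⟶ G => m.left) ((lift_fst
      (CartesianMonoidalCategory.fst G G * CartesianMonoidalCategory.snd G G)
      (CartesianMonoidalCategory.snd G G)).trans hμ.symm)
    exact (Over.comp_left _ _ _ _ _).symm.trans this
  have sq : IsPullback (σ ≫ pullback.snd G.hom G.hom) (μ[G]).left G.hom G.hom :=
    (IsPullback.of_hasPullback G.hom G.hom).flip.of_iso (asIso σ).symm (Iso.refl _) (Iso.refl _)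
      (Iso.refl _) (by simp) (by simp [← hσ₁]) (by simp) (by simp)
  exact ⟨Groth.AlgSpBasic.locP_of_isPullback hG hK hG sq hf,
    fun Z Z' hZ a fst snd sq' => ho hZ (a ≫ G.hom) _ snd (sq'.paste_horiz sq)⟩

end Groth.Agent.S10125
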