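import Groth.Statements.S10126
import Groth.Agent.AlgSp2.OverField
import Groth.Agent.AlgSp2.InvariantLargest
-- import your own Groth.Agent.* helpers here

set_option autoImplicit false
set_option backward.isDefEq.respectTransparency.types false
universe u
open CategoryTheory CategoryTheory.Limits AlgebraicGeometry
open AlgSp AlgSp.GroupoidSp

namespace Groth.Agent.S10126

/-- Let `(U, R, s, t, c)` be a groupoid in algebraic spaces over `B` whose object space is `U = Spec k`,
with `k` a field. Then the composition `c : R ×_{s, U, t} R ⟶ R` is flat and universally open. -/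
theorem result (S : Scheme.{u}) (B : AlgSp.Sp S) (hB : AlgSp.IsAlgSpace B)
    (G : AlgSp.GroupoidSp B) (hR : AlgSp.IsAlgSpace G.R) (k : Type u) [Field k]
    (σ : Spec (CommRingCat.of k) ⟶ S) (eU : G.U ≅ (AlgSp.yon S).obj (Over.mk σ)) :
    AlgSp.LocP @Flat G.c ∧ AlgSp.IsUnivOpenMor G.c := by
  have hU : AlgSp.IsAlgSpace G.U := AlgSp.IsAlgSpace.of_iso (AlgSp.IsAlgSpace.yon_obj _) eU.symm
  obtain ⟨hf, ho⟩ := Groth.AlgSp2.OverField.flat_univOpen_of_iso hR eU G.s
  have sq := (Groth.AlgSp2.InvariantLargest.isPullback_comp G).flip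
  exact ⟨Groth.AlgSpBasic.locP_of_isPullback hR hU hR sq hf,
    fun Z Z' hZ a fst snd sq' => ho hZ (a ≫ G.s) _ snd (sq'.paste_horiz sq)⟩

end Groth.Agent.S10126
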