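import Groth.Statements.S10127
import Groth.Agent.AlgSp2.SectionPoint
import Groth.Agent.AlgSp2.GrpDiagonal
-- import your own Groth.Agent.* helpers here

set_option autoImplicit false
set_option backward.isDefEq.respectTransparency.types false
universe u
open CategoryTheory CategoryTheory.Limits AlgebraicGeometry MonoidalCategory MonObj
open AlgSp

namespace Groth.Agent.S10127

/-- A group algebraic space over a field `k` which is a decent algebraic space is separated. (The
published situation allows any base scheme `S` with `k` a field over `S`; this row takes `S = Spec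
k`.) -/
theorem result (k : Type u) [Field k]
    (G : Over ((AlgSp.yon (Spec (CommRingCat.of k))).obj (Over.mk (𝟙 _)))) [GrpObj G]
    (hG : AlgSp.IsAlgSpace G.left) (hd : AlgSp.IsDecent G.left) : AlgSp.IsSeparatedSp G.left := by
  have he : AlgSp.RepWith @IsClosedImmersion (η[G]).left :=
    Groth.AlgSp2.SectionPoint.repWith_closedImmersion_section hG hd (η[G]).left G.hom (Over.w η[G])
  exact Groth.AlgSp2.SectionPoint.isSeparatedSp_of_isSeparatedMor
    (Groth.AlgSp2.SectionPoint.isTerminalYon _) G.hom
    (Groth.AlgSpBasic.repWith_of_isPullback (Groth.AlgSp2.GrpDiagonal.isPullback_diagonal G) he)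

end Groth.Agent.S10127
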