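import Groth.Statements.S10129
import Groth.Agent.S9972
import Groth.Agent.S9969
import Groth.Agent.S9973
import Groth.Agent.AlgSpBasic.ClosedQC
import Groth.Agent.AlgSp2.FlatDense
import Mathlib.CategoryTheory.Sites.RegularEpi
-- import your own Groth.Agent.* helpers here

set_option autoImplicit false
set_option backward.isDefEq.respectTransparency.types false
universe u
open CategoryTheory CategoryTheory.Limits AlgebraicGeometry
open AlgSp

namespace Groth.Agent.S10129

/-- Consider morphisms `g : X ⟶ Z` and `f : X ⟶ Y` of algebraic spaces over `B`, with `Y ⟶ B` separated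
and `g` surjective, flat and locally of finite presentation, and let `V ⊂ Z` be a scheme
theoretically dense open subspace with `V ⟶ Z` quasi-compact such that `f` restricted to `g⁻¹(V)`
factors through `g⁻¹(V) ⟶ V`. Then `f` factors through `g`. (The published statement does not ask
the open immersion `V ⟶ Z` to be quasi-compact; the published proof pulls the scheme theoretic
density of `V` back along a flat morphism by a lemma that requires it, so this row assumes it.) -/
theorem result (S : Scheme.{u}) (B : AlgSp.Sp S) (hB : AlgSp.IsAlgSpace B)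
    (X Y Z : AlgSp.Space S) (pX : X.obj ⟶ B) (pY : Y.obj ⟶ B) (pZ : Z.obj ⟶ B)
    (f : X.obj ⟶ Y.obj) (g : X.obj ⟶ Z.obj) (hf : f ≫ pY = pX) (hg : g ≫ pZ = pX)
    (hY : AlgSp.IsSeparatedMor pY)
    (hgs : AlgSp.IsSurjectiveMor g) (hgf : AlgSp.LocP @Flat g) (hgp : AlgSp.LocP @LocallyOfFinitePresentation g)
    (V : AlgSp.Sp S) (v : V ⟶ Z.obj) (hv : AlgSp.IsSchDense v) (hvq : AlgSp.IsQuasiCompactMor v)
    (hfac : ∃ φ : V ⟶ Y.obj, pullback.fst g v ≫ f = pullback.snd g v ≫ φ) :
    ∃ h : Z.obj ⟶ Y.obj, g ≫ h = f := by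
  obtain ⟨W₀, a, ha, has⟩ := X.property.atlas
  have hr := Z.property.representable_from_yon (a ≫ g)
  have hls : Sheaf.IsLocallySurjective (a ≫ g) := by
    refine Groth.AlgSpBasic.isLocallySurjective_of_repWith (a ≫ g)
      (Groth.AlgSpBasic.repWith_of_locP Z.property hr (Groth.AlgSpBasic.locP_comp
        (AlgSp.IsAlgSpace.yon_obj W₀) X.property Z.property (Groth.AlgSpBasic.locP_of_repWith
          (Groth.AlgSpBasic.repWith_mono (fun _ _ k (_ : Etale k) => (inferInstance : Flat k)) ha)) hgf))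
      (Groth.AlgSpBasic.repWith_of_locP Z.property hr (Groth.AlgSpBasic.locP_comp
        (AlgSp.IsAlgSpace.yon_obj W₀) X.property Z.property (Groth.AlgSpBasic.locP_of_repWith
          (Groth.AlgSpBasic.repWith_mono
            (fun _ _ k (_ : Etale k) => (inferInstance : LocallyOfFinitePresentation k)) ha)) hgp))
      (Groth.AlgSpBasic.repWith_of_representable hr fun T Q b fst snd sq => ⟨fun t => ?_⟩)
    obtain ⟨x, hx⟩ := hgs (AlgSp.Points.ofPt b t)
    obtain ⟨w, rfl⟩ := Groth.AlgSpBasic.surjective_ofPt_of_repWith has x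
    obtain ⟨q, -, hq⟩ := (Groth.AlgSpBasic.map_eq_ofPt_iff sq (AlgSp.Points.ofScheme W₀ w) t).1 (by
      rw [← AlgSp.Points.ofPt_eq_map_ofScheme, ← hx, AlgSp.Points.map_ofPt])
    exact ⟨q, hq⟩
  have : Epi (a ≫ g) := (Sheaf.isLocallySurjective_iff_epi _).1 hls
  have hge : Epi g := epi_of_epi a g
  -- the kernel pair
  obtain ⟨φ, hφ⟩ := hfac
  let XX : AlgSp.Space S := ⟨pullback g g,
    Groth.AlgSpBasic.isAlgSpace_pullback X X Z g g⟩
  let p₁ : XX ⟶ X := ⟨pullback.fst g g⟩
  let p₂ : XX ⟶ X := ⟨pullback.snd g g⟩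
  let π : XX ⟶ Z := ⟨pullback.fst g g ≫ g⟩
  have hπ : AlgSp.LocP @Flat π.hom := Groth.AlgSpBasic.locP_comp XX.property X.property Z.property
    (Groth.AlgSpBasic.locP_of_isPullback X.property Z.property X.property
      (IsPullback.of_hasPullback g g).flip hgf) hgf
  let Vs : AlgSp.Space S := ⟨V, Groth.AlgSpBasic.isAlgSpace_of_representable Z.property v hv.1.rep⟩
  let j : Vs ⟶ Z := ⟨v⟩
  let sq := IsPullback.of_hasPullback j.hom π.hom
  let V' : AlgSp.Space S := ⟨pullback j.hom π.hom,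
    Groth.AlgSpBasic.isAlgSpace_pullback Vs XX Z j.hom π.hom⟩
  let q₁ : V' ⟶ Vs := ⟨pullback.fst j.hom π.hom⟩
  let jX : V' ⟶ XX := ⟨pullback.snd j.hom π.hom⟩
  have hd' : AlgSp.IsSchDense jX.hom := Groth.Agent.S9973.result π hπ j hv hvq q₁ jX sq
  have hq' : AlgSp.IsQuasiCompactMor jX.hom :=
    Groth.AlgSpBasic.isQuasiCompactMor_of_isPullback sq hvq
  let f₁ : XX ⟶ Y := ⟨pullback.fst g g ≫ f⟩
  let f₂ : XX ⟶ Y := ⟨pullback.snd g g ≫ f⟩
  have e₁ : (jX.hom ≫ pullback.fst g g) ≫ g = q₁.hom ≫ v := by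
    rw [Category.assoc]; exact sq.w.symm
  have e₂ : (jX.hom ≫ pullback.snd g g) ≫ g = q₁.hom ≫ v := by
    rw [Category.assoc, ← pullback.condition]; exact sq.w.symm
  have heq : jX ≫ f₁ = jX ≫ f₂ := by
    ext : 1
    show jX.hom ≫ pullback.fst g g ≫ f = jX.hom ≫ pullback.snd g g ≫ f
    have h₁ := pullback.lift _ _ e₁ ≫= hφ
    have h₂ := pullback.lift _ _ e₂ ≫= hφ
    rw [pullback.lift_fst_assoc, pullback.lift_snd_assoc, Category.assoc] at h₁ h₂
    rw [h₁, h₂]
  have hfe := Groth.Agent.S9972.result (B := ⟨B, hB⟩) (⟨pY⟩ : Y ⟶ (⟨B, hB⟩ : AlgSp.Space S)) hY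
    f₁ f₂ (by
      ext : 1
      show (pullback.fst g g ≫ f) ≫ pY = (pullback.snd g g ≫ f) ≫ pY
      rw [Category.assoc, Category.assoc, hf, ← hg, ← Category.assoc, pullback.condition,
        Category.assoc]) jX hd'.1
    ((Groth.Agent.S9969.result jX hd'.1 hq').1 hd') heq
  have hfe' : pullback.fst g g ≫ f = pullback.snd g g ≫ f := congrArg (fun k => k.hom) hfe
  obtain ⟨⟨r⟩⟩ := IsRegularEpiCategory.regularEpiOfEpi g
  refine ⟨Cofork.IsColimit.desc r.isColimit f ?_, Cofork.IsColimit.π_desc r.isColimit⟩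
  have := pullback.lift r.left r.right r.w ≫= hfe'
  rwa [pullback.lift_fst_assoc, pullback.lift_snd_assoc] at this

end Groth.Agent.S10129
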