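import Groth.Statements.S10131
import Groth.Agent.AlgSp2.GrpdAlg
import Groth.Agent.AlgSpBasic.SepLocal
import Groth.Agent.AlgSpBasic.DecentFiniteFibre
-- import your own Groth.Agent.* helpers here

set_option autoImplicit false
set_option backward.isDefEq.respectTransparency.types false
universe u
open CategoryTheory CategoryTheory.Limits AlgebraicGeometry
open AlgSp AlgSp.GroupoidSp

namespace Groth.Agent.S10131

/-- Let `(U, R, s, t, c)` be a groupoid in algebraic spaces over `B` with `s, t` open and quasi-compact.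
Then `U` has an open covering by `R`-invariant quasi-compact open subspaces. -/
theorem result (S : Scheme.{u}) (B : AlgSp.Sp S) (hB : AlgSp.IsAlgSpace B)
    (G : AlgSp.GroupoidSp B) (hU : AlgSp.IsAlgSpace G.U) (hR : AlgSp.IsAlgSpace G.R)
    (hs : AlgSp.IsOpenMor G.s ∧ AlgSp.IsQuasiCompactMor G.s) (ht : AlgSp.IsOpenMor G.t ∧ AlgSp.IsQuasiCompactMor G.t)
    (x : AlgSp.Points G.U) :
    ∃ (W : AlgSp.Sp S) (w : W ⟶ G.U), AlgSp.RepWith @IsOpenImmersion w ∧ G.IsInvariant w ∧
      AlgSp.IsQuasiCompactSp W ∧ x ∈ Set.range (AlgSp.Points.map w) := by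
  obtain ⟨K, hKo, hKc, hKx, -⟩ := Groth.AlgSpBasic.exists_compact_open_nhd hU (Set.finite_singleton x)
    isOpen_univ (Set.subset_univ _)
  let O := AlgSp.Points.map G.s '' (AlgSp.Points.map G.t ⁻¹' K)
  have hO : IsOpen O := hs.1 _ (hKo.preimage (AlgSp.Points.continuous_map _))
  have hOc : IsCompact O := (Groth.AlgSpBasic.isCompact_preimage_of_isQuasiCompactMor hR hU ht.2
    hKo hKc).image (AlgSp.Points.continuous_map _)
  have hj := Groth.AlgSpBasic.repWith_openSubι (X := G.U) hO
  refine ⟨_, Groth.AlgSpBasic.openSubι G.U O, hj, ?_, ?_, ?_⟩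
  · refine Groth.AlgSp2.GrpdAlg.isInvariant_of_points G _ hj fun p => ?_
    rw [Groth.AlgSpBasic.range_map_openSubι]
    exact Groth.AlgSp2.GrpdAlg.saturated_image_preimage G _ p
  · refine (Groth.AlgSpBasic.isQuasiCompactSp_iff_compactSpace
      (Groth.AlgSpBasic.isAlgSpace_openSub hU hO)).2 ⟨?_⟩
    refine ((Groth.AlgSpBasic.isEmbedding_map_of_immersion hU (Groth.AlgSpBasic.repWith_mono
      (fun _ _ g (_ : IsOpenImmersion g) => (inferInstance : IsImmersion g)) hj)).1).isCompact_iff.2 ?_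
    rw [Set.image_univ, Groth.AlgSpBasic.range_map_openSubι]
    exact hOc
  · rw [Groth.AlgSpBasic.range_map_openSubι]
    refine ⟨AlgSp.Points.map G.e x, ?_, ?_⟩
    · show AlgSp.Points.map G.t (AlgSp.Points.map G.e x) ∈ K
      rw [← Points.map_comp, G.e_t, Points.map_id]
      exact hKx rfl
    · rw [← Points.map_comp, G.e_s, Points.map_id]

end Groth.Agent.S10131
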