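import Groth.Statements.S10132
import Groth.Agent.AlgSp2.OverField
import Groth.Agent.AlgSpBasic.AffineMor
import Groth.Agent.AlgSpCartier.NoethFibre
-- import your own Groth.Agent.* helpers here

set_option autoImplicit false
set_option backward.isDefEq.respectTransparency.types false
universe u
open CategoryTheory CategoryTheory.Limits AlgebraicGeometry
open AlgSp AlgSp.GroupoidSp

namespace Groth.Agent.S10132

/-- Let `(U, R, s, t, c)` be a groupoid in algebraic spaces over `B` whose object space is `U = Spec k`,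
let `k ⊂ k'` be a field extension and `(U', R', s', t', c')` the restriction along `Spec k' ⟶ Spec
k`. Then `s, t, s', t'`, `Spec k' ⟶ Spec k` and `R' ⟶ R` are surjective, flat and universally open,
and `R' ⟶ R` is moreover affine. (The published statement lists every arrow of the restriction
diagram; this row omits the six arrows through `R ×_{s,U} U'` and `U' ×_{U,t} R`, each a base change
of `s`, `t` or `Spec k' ⟶ Spec k`.) -/
theorem result (S : Scheme.{u}) (B : AlgSp.Sp S) (hB : AlgSp.IsAlgSpace B)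
    (G G' : AlgSp.GroupoidSp B) (hR : AlgSp.IsAlgSpace G.R) (hR' : AlgSp.IsAlgSpace G'.R)
    (k k' : Type u) [Field k] [Field k'] [Algebra k k'] (σ : Spec (CommRingCat.of k) ⟶ S)
    (eU : G.U ≅ ((AlgSp.yon S).obj (Over.mk σ)))
    (eU' : G'.U ≅ ((AlgSp.yon S).obj (Over.mk (Spec.map (CommRingCat.ofHom (algebraMap k k')) ≫ σ))))
    (φ : AlgSp.GroupoidSp.Hom G' G) (hφ : φ.IsRestriction)
    (hfU : φ.fU = eU'.hom ≫ (AlgSp.yon S).map (Over.homMk (Spec.map (CommRingCat.ofHom (algebraMap k k'))) rfl :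
      Over.mk (Spec.map (CommRingCat.ofHom (algebraMap k k')) ≫ σ) ⟶ Over.mk σ) ≫ eU.inv) :
    (∀ f ∈ [G.s, G.t], AlgSp.IsSurjectiveMor f ∧ AlgSp.LocP @Flat f ∧ AlgSp.IsUnivOpenMor f) ∧
      (∀ f ∈ [G'.s, G'.t], AlgSp.IsSurjectiveMor f ∧ AlgSp.LocP @Flat f ∧ AlgSp.IsUnivOpenMor f) ∧
      (AlgSp.IsSurjectiveMor φ.fU ∧ AlgSp.LocP @Flat φ.fU ∧ AlgSp.IsUnivOpenMor φ.fU) ∧
      (AlgSp.IsSurjectiveMor φ.fR ∧ AlgSp.LocP @Flat φ.fR ∧ AlgSp.IsUnivOpenMor φ.fR ∧ AlgSp.IsAffineMor φ.fR) := by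
  have hq : AlgSp.IsAlgSpace G.U := AlgSp.IsAlgSpace.of_iso (AlgSp.IsAlgSpace.yon_obj _) eU.symm
  have hq' : AlgSp.IsAlgSpace G'.U := AlgSp.IsAlgSpace.of_iso (AlgSp.IsAlgSpace.yon_obj _) eU'.symm
  have sec : ∀ {X U : AlgSp.Sp S} (f : X ⟶ U) (e : U ⟶ X), e ≫ f = 𝟙 U → AlgSp.IsSurjectiveMor f :=
    fun f e h x => ⟨AlgSp.Points.map e x, by rw [← AlgSp.Points.map_comp, h, AlgSp.Points.map_id]⟩
  let Q₀ : MorphismProperty Scheme.{u} := (@Flat ⊓ @Surjective ⊓ @UniversallyOpen) ⊓ @IsAffineHom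
  have hyon : AlgSp.RepWith Q₀ ((AlgSp.yon S).map (Over.homMk (Spec.map (CommRingCat.ofHom (algebraMap k k'))) rfl :
      Over.mk (Spec.map (CommRingCat.ofHom (algebraMap k k')) ≫ σ) ⟶ Over.mk σ)) := by
    refine Groth.AlgSpBasic.repWith_inf_iff.2 ⟨Groth.AlgSpCartier.repWith_yon_field _ ?_ ?_ ?_, ?_⟩
    · exact Groth.AlgSpCartier.flat_of_field _ _ _
    · exact ⟨fun y => ⟨IsLocalRing.closedPoint _,
        Subsingleton.elim (α := Spec (CommRingCat.of k)) _ _⟩⟩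
    · exact Groth.DescentBase.universallyOpen_of_field k _
    · exact (AlgSp.repWith_yon_map_iff _ _).2
        (inferInstanceAs (IsAffineHom (Spec.map (CommRingCat.ofHom (algebraMap k k')))))
  have hg : AlgSp.RepWith Q₀ φ.fU := by
    rw [hfU]
    exact ((MorphismProperty.cancel_left_of_respectsIso (AlgSp.RepWith Q₀) eU'.hom _).2
      ((MorphismProperty.cancel_right_of_respectsIso (AlgSp.RepWith Q₀) _ eU.inv).2 hyon))
  let M₁ := pullback.lift (pullback.fst G'.pU G'.pU ≫ φ.fU) (pullback.snd G'.pU G'.pU)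
    (by rw [Category.assoc, φ.fU_over]; exact pullback.condition :
      (pullback.fst G'.pU G'.pU ≫ φ.fU) ≫ G.pU = pullback.snd G'.pU G'.pU ≫ G'.pU)
  let M₂ := pullback.lift (pullback.fst G.pU G'.pU) (pullback.snd G.pU G'.pU ≫ φ.fU)
    (by rw [Category.assoc, φ.fU_over]; exact pullback.condition :
      pullback.fst G.pU G'.pU ≫ G.pU = (pullback.snd G.pU G'.pU ≫ φ.fU) ≫ G.pU)
  have sq₁ : IsPullback (pullback.fst G'.pU G'.pU) M₁ φ.fU (pullback.fst G.pU G'.pU) := by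
    refine (IsPullback.of_right ?_ (pullback.lift_fst _ _ _)
      (IsPullback.of_hasPullback G.pU G'.pU).flip).flip
    rw [show M₁ ≫ pullback.snd G.pU G'.pU = pullback.snd _ _ from pullback.lift_snd _ _ _, φ.fU_over]
    exact (IsPullback.of_hasPullback G'.pU G'.pU).flip
  have sq₂ : IsPullback (pullback.snd G.pU G'.pU) M₂ φ.fU (pullback.snd G.pU G.pU) := by
    refine (IsPullback.of_right ?_ (pullback.lift_snd _ _ _)
      (IsPullback.of_hasPullback G.pU G.pU)).flip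
    rw [show M₂ ≫ pullback.fst G.pU G.pU = pullback.fst _ _ from pullback.lift_fst _ _ _, φ.fU_over]
    exact IsPullback.of_hasPullback G.pU G'.pU
  have hM : M₁ ≫ M₂ = φ.prodMap := by
    apply pullback.hom_ext
    · simp only [M₁, M₂, Category.assoc, AlgSp.GroupoidSp.Hom.prodMap, pullback.map, pullback.lift_fst]
    · simp only [M₁, M₂, Category.assoc, AlgSp.GroupoidSp.Hom.prodMap, pullback.map, pullback.lift_snd,
        pullback.lift_snd_assoc]
  have hR₀ : AlgSp.RepWith Q₀ φ.fR :=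
    Groth.AlgSpBasic.repWith_of_isPullback (IsPullback.flip hφ) (hM ▸ Groth.AlgSpBasic.repWith_comp
      (Groth.AlgSpBasic.repWith_of_isPullback sq₁ hg) (Groth.AlgSpBasic.repWith_of_isPullback sq₂ hg))
  have conc : ∀ {X U : AlgSp.Sp S} {f : X ⟶ U}, AlgSp.RepWith Q₀ f →
      AlgSp.IsSurjectiveMor f ∧ AlgSp.LocP @Flat f ∧ AlgSp.IsUnivOpenMor f ∧ AlgSp.IsAffineMor f := by
    intro X U f h
    obtain ⟨h', ha⟩ := Groth.AlgSpBasic.repWith_inf_iff.1 h
    obtain ⟨h'', ho⟩ := Groth.AlgSpBasic.repWith_inf_iff.1 h'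
    obtain ⟨hf, hs⟩ := Groth.AlgSpBasic.repWith_inf_iff.1 h''
    exact ⟨Groth.AlgSpBasic.surjective_map_of_repWith hs, Groth.AlgSpBasic.locP_of_repWith hf,
      Groth.AlgSp2.OverField.isUnivOpenMor_of_repWith ho,
      Groth.AlgSpBasic.isAffineMor_iff_repWith.2 ha⟩
  obtain ⟨u₁, u₂, u₃, -⟩ := conc hg
  refine ⟨?_, ?_, ⟨u₁, u₂, u₃⟩, conc hR₀⟩
  · simp only [List.mem_cons, List.mem_nil_iff, or_false]
    rintro f (rfl | rfl)
    · exact ⟨sec _ G.e G.e_s, Groth.AlgSp2.OverField.flat_univOpen_of_iso hR eU _⟩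
    · exact ⟨sec _ G.e G.e_t, Groth.AlgSp2.OverField.flat_univOpen_of_iso hR eU _⟩
  · simp only [List.mem_cons, List.mem_nil_iff, or_false]
    rintro f (rfl | rfl)
    · exact ⟨sec _ G'.e G'.e_s, Groth.AlgSp2.OverField.flat_univOpen_of_iso hR' eU' _⟩
    · exact ⟨sec _ G'.e G'.e_t, Groth.AlgSp2.OverField.flat_univOpen_of_iso hR' eU' _⟩

end Groth.Agent.S10132
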