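import Groth.Statements.S10138
import Groth.Agent.AlgSpFppf.QuotSpace

set_option autoImplicit false
set_option backward.isDefEq.respectTransparency false
set_option backward.isDefEq.respectTransparency.types false
universe u
open CategoryTheory CategoryTheory.Limits AlgebraicGeometry
open AlgSp

namespace Groth.Agent.S10138

/-- Let `{X_i ⟶ X}` be an fppf covering of algebraic spaces over `S`. Then every descent datum for
algebraic spaces relative to it is effective; concretely, an fppf sheaf `F ⟶ X` all of whose base
changes `F ×_X X_i` are algebraic spaces is an algebraic space. (The published statement asks the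
index set to be countable, which is only a size condition and may be ignored; this row allows any
index type in the universe of `S`. The published part (2), which asks the `Y_i ⟶ X_i` to be of
finite type instead, is then a special case of this row.) -/
theorem result (S : Scheme.{u}) (X : AlgSp.Space S) {ι : Type u}
    (Xi : ι → AlgSp.Space S) (g : ∀ i, (Xi i).obj ⟶ X.obj) (hcov : AlgSp.IsFppfCover (fun i => (Xi i).obj) g)
    (F : AlgSp.Sp S) (p : F ⟶ X.obj)
    (h : ∀ (i : ι) (P : AlgSp.Sp S) (fst : P ⟶ F) (snd : P ⟶ (Xi i).obj), IsPullback fst snd p (g i) → AlgSp.IsAlgSpace P) :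
    AlgSp.IsAlgSpace F := by
  obtain ⟨U, q, hq, hqs⟩ := X.property.atlas
  have sqF := IsPullback.of_hasPullback p q
  have hFU : AlgSp.IsAlgSpace (pullback p q) := by
    have hU := AlgSp.IsAlgSpace.yon_obj U
    have hY : ∀ i, AlgSp.IsAlgSpace (pullback q (g i)) := fun i =>
      Groth.AlgSpBasic.isAlgSpace_of_isPullback (IsPullback.of_hasPullback q (g i)) X.property.diag hU
        (Xi i).property
    choose W w hw hws using fun i => (hY i).atlas
    choose e he using fun i => (AlgSp.yon S).map_surjective (w i ≫ pullback.fst q (g i))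
    have hloc : ∀ (Q : MorphismProperty Scheme.{u}) [Groth.AlgSpBasic.EtaleLocal Q],
        (∀ i, AlgSp.LocP Q (g i)) → ∀ i, Q (e i).left := fun Q _ hg i => by
      refine AlgSp.locP_yon_map (P := Q) ?_
      rw [he]
      exact Groth.AlgSpBasic.locP_comp (AlgSp.IsAlgSpace.yon_obj (W i)) (hY i) hU
        (Groth.AlgSpBasic.locP_of_repWith (Groth.AlgSpBasic.repWith_mono
          (fun _ _ f (hf : Etale f) => Groth.AlgSpBasic.EtaleLocal.of_etale f hf) (hw i)))
        (Groth.AlgSpBasic.locP_of_isPullback (Xi i).property X.property hU
          (IsPullback.of_hasPullback q (g i)).flip (hg i))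
    refine Groth.AlgSpFppf.isAlgSpace_of_baseChange (pullback.snd p q) W e
      (hloc @Flat fun i => (hcov.1 i).1) (hloc @LocallyOfFinitePresentation fun i => (hcov.1 i).2)
      (fun t => ?_) fun i => ?_
    · obtain ⟨i, x, hx⟩ := hcov.2 (AlgSp.Points.map q (AlgSp.Points.schemeHomeo U t))
      obtain ⟨y, hy, -⟩ := Groth.AlgSpBasic.exists_point_of_isPullback
        (IsPullback.of_hasPullback q (g i)) (AlgSp.Points.schemeHomeo U t) x hx.symm
      obtain ⟨z, rfl⟩ := Groth.AlgSpBasic.surjective_map_of_repWith (hws i) y
      obtain ⟨v, rfl⟩ := (AlgSp.Points.schemeHomeo (W i)).surjective z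
      refine ⟨i, v, (AlgSp.Points.schemeHomeo U).injective ?_⟩
      rw [← AlgSp.Points.map_yon_map_apply, he, AlgSp.Points.map_comp]
      exact hy
    · have sqi := IsPullback.of_hasPullback p (g i)
      have sqW := IsPullback.of_hasPullback (pullback.snd p q) ((AlgSp.yon S).map (e i))
      refine Groth.AlgSpBasic.isAlgSpace_of_isPullback
        (fst := sqi.lift (pullback.fst _ _ ≫ pullback.fst p q) (pullback.snd _ _ ≫ w i ≫ pullback.snd q (g i)) ?_)
        (snd := pullback.snd _ _) (f := pullback.snd p (g i)) (g := w i ≫ pullback.snd q (g i))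
        (IsPullback.of_right ?_ (sqi.lift_snd _ _ _) sqi) (Xi i).property.diag
        (h i _ _ _ sqi) (AlgSp.IsAlgSpace.yon_obj _)
      · rw [Category.assoc, pullback.condition, ← Category.assoc, pullback.condition, he]
        simp only [Category.assoc, pullback.condition]
      · rw [sqi.lift_fst, show (w i ≫ pullback.snd q (g i)) ≫ g i = (AlgSp.yon S).map (e i) ≫ q by
          rw [he, Category.assoc, Category.assoc, pullback.condition]]
        exact sqW.paste_horiz sqF
  exact Groth.FppfBoot.isAlgSpace_of_fppf_cover (X := ⟨_, hFU⟩) (p := pullback.fst p q)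
    (Groth.AlgSpFppf.repBySpWith_fppf_of_repWith
      (Groth.AlgSpBasic.repWith_of_isPullback sqF.flip hqs)
      (Groth.AlgSpBasic.repWith_of_isPullback sqF.flip
        (Groth.AlgSpBasic.repWith_mono (fun _ _ f (hf : Etale f) => by infer_instance) hq))
      (Groth.AlgSpBasic.repWith_of_isPullback sqF.flip
        (Groth.AlgSpBasic.repWith_mono (fun _ _ f (hf : Etale f) => by infer_instance) hq)))

end Groth.Agent.S10138
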