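import Groth.Statements.S10139
import Groth.Agent.AlgSpFppf.QuotSpace
import Groth.Agent.AlgSpFppf.SliceCover

set_option autoImplicit false
set_option backward.isDefEq.respectTransparency false
set_option backward.isDefEq.respectTransparency.types false
universe u
open CategoryTheory CategoryTheory.Limits AlgebraicGeometry
open AlgSp

namespace Groth.Agent.S10139

/-- Take an equivalence relation `j : R ⟶ U ×_S U` of schemes over `S`, with `s, t` flat and locally of
finite presentation. Then there exist an equivalence relation `j' : R' ⟶ U' ×_S U'` on schemes over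
`S` with `s', t'` flat, locally of finite presentation and locally quasi-finite, and a morphism `U'
⟶ U` mapping `R'` into `R` which induces an isomorphism of fppf quotient sheaves `U'/R' ⟶ U/R`. -/
theorem result (S : Scheme.{u}) {R U : Over S} (s t : R ⟶ U)
    (h : AlgSp.IsEqvRel s t) [Flat s.left] [LocallyOfFinitePresentation s.left]
    [Flat t.left] [LocallyOfFinitePresentation t.left] :
    ∃ (R' U' : Over S) (s' t' : R' ⟶ U') (g : U' ⟶ U) (r : R' ⟶ R)
      (ψ : QuotSh.quot Scheme.fppfPrecoverage s' t' ⟶ QuotSh.quot Scheme.fppfPrecoverage s t),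
      AlgSp.IsEqvRel s' t' ∧ r ≫ s = s' ≫ g ∧ r ≫ t = t' ≫ g ∧
      Flat s'.left ∧ LocallyOfFinitePresentation s'.left ∧ LocallyQuasiFinite s'.left ∧
      Flat t'.left ∧ LocallyOfFinitePresentation t'.left ∧ LocallyQuasiFinite t'.left ∧
      QuotSh.quotπ Scheme.fppfPrecoverage s' t' ≫ ψ = QuotSh.repMap Scheme.fppfPrecoverage g ≫ QuotSh.quotπ Scheme.fppfPrecoverage s t ∧ IsIso ψ := by
  have hsurj := Groth.AlgSpBasic.isLocallySurjective_yonQuotπ s t
  have sq := Groth.AlgSpBasic.isPullback_yonQuot h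
  have hd := Groth.AlgSpFppf.representable_diag_of_kernelPair sq
  obtain ⟨U', g, -, -, hfl, hfp, hqf, hsu⟩ := Groth.AlgSpFppf.exists_lqf_cover_over sq hd
  let π' : (AlgSp.yon S).obj U' ⟶ QuotSh.quot Scheme.fppfPrecoverage s t :=
    (AlgSp.yon S).map g ≫ Groth.AlgSpBasic.yonQuotπ s t
  obtain ⟨R', t', s', sq'⟩ := Groth.AlgSpBasic.exists_pullback_of_diag hd π' π'
  have hls : Sheaf.IsLocallySurjective π' := Groth.AlgSpBasic.isLocallySurjective_of_repWith π' hfl hfp hsu
  obtain ⟨r, hr⟩ := (AlgSp.yon S).map_surjective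
    (sq.lift ((AlgSp.yon S).map t' ≫ (AlgSp.yon S).map g) ((AlgSp.yon S).map s' ≫ (AlgSp.yon S).map g)
      (by rw [Category.assoc, Category.assoc]; exact sq'.w))
  have hrs : r ≫ s = s' ≫ g := (AlgSp.yon S).map_injective (by
    rw [Functor.map_comp, Functor.map_comp, hr, sq.lift_snd])
  have hrt : r ≫ t = t' ≫ g := (AlgSp.yon S).map_injective (by
    rw [Functor.map_comp, Functor.map_comp, hr, sq.lift_fst])
  obtain ⟨hcol⟩ := Groth.AlgSpBasic.isColimit_of_isLocallySurjective sq'
  let e := (Groth.AlgSpBasic.isColimitYonQuot s' t').coconePointUniqueUpToIso hcol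
  have he : Groth.AlgSpBasic.yonQuotπ s' t' ≫ e.hom = π' :=
    IsColimit.comp_coconePointUniqueUpToIso_hom (Groth.AlgSpBasic.isColimitYonQuot s' t') hcol
      WalkingParallelPair.one
  refine ⟨R', U', s', t', g, r, e.hom, Groth.AlgSpBasic.isEqvRel_of_isPullback sq', hrs, hrt,
    Groth.AlgSpBasic.repWith_fst_of_isPullback sq' hfl, Groth.AlgSpBasic.repWith_fst_of_isPullback sq' hfp,
    Groth.AlgSpBasic.repWith_fst_of_isPullback sq' hqf, Groth.AlgSpBasic.repWith_fst_of_isPullback sq'.flip hfl,
    Groth.AlgSpBasic.repWith_fst_of_isPullback sq'.flip hfp,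
    Groth.AlgSpBasic.repWith_fst_of_isPullback sq'.flip hqf, ?_, inferInstance⟩
  rw [← cancel_epi (QuotSh.repIsoUliftYoneda Scheme.fppfPrecoverage U').inv, ← Category.assoc]
  refine he.trans ?_
  show (AlgSp.yon S).map g ≫ (QuotSh.repIsoUliftYoneda Scheme.fppfPrecoverage U).inv ≫ _ = _
  rw [← Category.assoc, Groth.AlgSpBasic.repMap_comp_iso, Category.assoc]

end Groth.Agent.S10139
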