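import Groth.Statements.S10140
import Groth.Agent.GitQuot.QuotSheaf
import Groth.Agent.GitQuot.SubQuot.Descend
-- import your own Groth.Agent.* helpers here

set_option autoImplicit false
universe u
open CategoryTheory CategoryTheory.Limits AlgebraicGeometry
open Grpd

namespace Groth.Agent.S10140

/-- Let `(U, R, s, t, c)` be a groupoid scheme over `S` with `U` affine and `j : R ⟶ U ×_S U` separated
and locally quasi-finite, and let `P ⟶ R` be a monomorphism such that `(U, P, s|_P, t|_P, c|_P)` is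
a groupoid scheme, `s|_P, t|_P` are finite locally free and `j|_P` is a monomorphism. Then `U/P` is
represented by an affine scheme `Ū`, the quotient map `U ⟶ Ū` is finite locally free with `P = U ×_Ū
U`, and `R` is the restriction along `U ⟶ Ū` of a groupoid scheme `(Ū, R̄, s̄, t̄, c̄)`. -/
theorem result (S : Scheme.{u}) (G : Grpd.GroupoidScheme S) [IsAffine G.U]
    [IsSeparated G.j] [LocallyQuasiFinite G.j] [LocallyOfFiniteType G.j]
    (P : Scheme.{u}) (ιP : P ⟶ G.R) [Mono ιP]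
    (he : ∃ eP : G.U ⟶ P, eP ≫ ιP = G.e) (hi : ∃ iP : P ⟶ P, iP ≫ ιP = ιP ≫ G.i)
    (hc : ∃ cP : pullback (ιP ≫ G.s) (ιP ≫ G.t) ⟶ P,
      cP ≫ ιP = pullback.map (ιP ≫ G.s) (ιP ≫ G.t) G.s G.t ιP ιP (𝟙 G.U) (Category.comp_id _) (Category.comp_id _) ≫ G.c)
    [IsFinite (ιP ≫ G.s)] [Flat (ιP ≫ G.s)] [LocallyOfFinitePresentation (ιP ≫ G.s)]
    [IsFinite (ιP ≫ G.t)] [Flat (ιP ≫ G.t)] [LocallyOfFinitePresentation (ιP ≫ G.t)] [Mono (ιP ≫ G.j)] :
    ∃ (H : Grpd.GroupoidScheme S) (φ : Grpd.GroupoidScheme.Hom G H),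
      IsAffine H.U ∧
      QuotSh.IsQuotient Scheme.fppfPrecoverage
        (Over.homMk (ιP ≫ G.s) ((Category.assoc _ _ _).trans (congrArg (ιP ≫ ·) G.s_over)) :
          (Over.mk (ιP ≫ G.pR) : Over S) ⟶ Over.mk G.pU)
        (Over.homMk (ιP ≫ G.t) ((Category.assoc _ _ _).trans (congrArg (ιP ≫ ·) G.t_over)) :
          (Over.mk (ιP ≫ G.pR) : Over S) ⟶ Over.mk G.pU)
        (Over.homMk φ.fU φ.fU_over : Over.mk G.pU ⟶ Over.mk H.pU) ∧
      IsFinite φ.fU ∧ Flat φ.fU ∧ LocallyOfFinitePresentation φ.fU ∧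
      IsPullback (ιP ≫ G.t) (ιP ≫ G.s) φ.fU φ.fU ∧
      IsPullback φ.fR G.j H.j
        (pullback.map G.pU G.pU H.pU H.pU φ.fU φ.fU (𝟙 S)
          ((Category.comp_id _).trans φ.fU_over.symm) ((Category.comp_id _).trans φ.fU_over.symm)) := by
  obtain ⟨eP, he⟩ := he
  obtain ⟨iP, hi⟩ := hi
  obtain ⟨cP, hc⟩ := hc
  have hQ : ∀ D : Groth.SubQuot.SubData G, IsFinite D.q ∧ Flat D.q ∧ LocallyOfFinitePresentation D.q ∧ Surjective D.q :=
    fun D => ⟨inferInstance, inferInstance, inferInstance, inferInstance⟩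
  let D : Groth.SubQuot.SubData G :=
    ⟨P, ιP, eP, he, iP, hi, cP, hc, ‹_›, ‹_›, ‹_›, ‹_›, ‹_›, ‹_›, ‹_›⟩
  obtain ⟨q1, q2, q3, q4⟩ := hQ D
  refine ⟨D.quotGrpd, D.homQ, inferInstanceAs (IsAffine D.Q), ?_, q1, q2, q3, D.isPullback_q, D.isPullback_j⟩
  let qO : Over.mk G.pU ⟶ Over.mk D.quotGrpd.pU := Over.homMk D.homQ.fU D.homQ.fU_over
  have h1 : Surjective D.homQ.fU := q4
  have h2 : Flat D.homQ.fU := q2
  have h3 : LocallyOfFinitePresentation D.homQ.fU := q3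
  refine Groth.QuotSheaf.isQuotient_of_epi _ (Over.OverMorphism.ext D.isPullback_q.w.symm) D.isPullback_q.w
    (@Groth.QuotSheaf.epi_repMap _ _ _ qO (by exact h1) (by exact h2) (by exact h3))
    (a := (Over.homMk (ιP ≫ G.t) ((Category.assoc _ _ _).trans (congrArg (ιP ≫ ·) G.t_over)) :
      (Over.mk (ιP ≫ G.pR) : Over S) ⟶ Over.mk G.pU))
    (b := (Over.homMk (ιP ≫ G.s) ((Category.assoc _ _ _).trans (congrArg (ιP ≫ ·) G.s_over)) :
      (Over.mk (ιP ≫ G.pR) : Over S) ⟶ Over.mk G.pU)) D.isPullback_q (𝟙 _)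
    (Category.id_comp _) (Category.id_comp _) ?_
  rw [← Groth.QuotSheaf.repFunctor_map, CategoryTheory.Functor.map_id]
  exact ⟨fun g h e => (Category.id_comp g).symm.trans (e.trans (Category.id_comp h))⟩

end Groth.Agent.S10140
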