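import Groth.Statements.S10142
-- import your own Groth.Agent.* helpers here

set_option autoImplicit false
universe u
open CategoryTheory CategoryTheory.Limits AlgebraicGeometry
open AlgSp AlgSp.GroupoidSp

namespace Groth.Agent.S10142

/-- For a groupoid in algebraic spaces `(U, R, s, t, c, e, i)` over `B`: the square with sides `c : R
×_{s,U,t} R ⟶ R`, `pr_1 : R ×_{s,U,t} R ⟶ R`, `s` and `s` is cartesian, and the morphism `R
×_{t,U,t} R ⟶ R ×_{s,U,t} R`, `(α, β) ↦ (α, i(α) ∘ β)`, is an isomorphism whose composite with `c`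
is the second projection `pr_1 : R ×_{t,U,t} R ⟶ R`. (The published statement also lists the square
formed by `pr_0`, `pr_1`, `s`, `t`, which is cartesian by definition of the fibre product.) -/
theorem result (S : Scheme.{u}) (B : AlgSp.Sp S) (hB : AlgSp.IsAlgSpace B)
    (G : AlgSp.GroupoidSp B) (hU : AlgSp.IsAlgSpace G.U) (hR : AlgSp.IsAlgSpace G.R) :
    IsPullback G.c (pullback.snd G.s G.t) G.s G.s ∧
      ∀ φ : pullback G.t G.t ⟶ pullback G.s G.t,
        φ ≫ pullback.fst G.s G.t = pullback.fst G.t G.t →
        φ ≫ pullback.snd G.s G.t =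
          pullback.lift (pullback.fst G.t G.t ≫ G.i) (pullback.snd G.t G.t)
            ((Category.assoc _ _ _).trans ((congrArg (pullback.fst G.t G.t ≫ ·) G.i_s).trans pullback.condition)) ≫ G.c →
        IsIso φ ∧ φ ≫ G.c = pullback.snd G.t G.t := by
  have ce : ∀ {T : AlgSp.Sp S} (α : T ⟶ G.R) (β : T ⟶ G.R) (h : α ≫ G.s = β ≫ G.t),
      β = α ≫ G.s ≫ G.e → pullback.lift α β h ≫ G.c = α := by
    rintro T α _ h rfl
    exact G.comp_e α
  have ec : ∀ {T : AlgSp.Sp S} (α : T ⟶ G.R) (β : T ⟶ G.R) (h : α ≫ G.s = β ≫ G.t),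
      α = β ≫ G.t ≫ G.e → pullback.lift α β h ≫ G.c = β := by
    rintro T _ β h rfl
    exact G.e_comp β
  have cong : ∀ {T : AlgSp.Sp S} {α α' β β' : T ⟶ G.R} (h : α ≫ G.s = β ≫ G.t)
      (h' : α' ≫ G.s = β' ≫ G.t), α = α' → β = β' →
        pullback.lift α β h ≫ G.c = pullback.lift α' β' h' ≫ G.c := by
    rintro T α α' β β' h h' rfl rfl
    rfl
  have split : ∀ {T : AlgSp.Sp S} (x : T ⟶ pullback G.s G.t),
      pullback.lift (x ≫ pullback.fst G.s G.t) (x ≫ pullback.snd G.s G.t)
        (by rw [Category.assoc, Category.assoc, pullback.condition]) = x := fun x =>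
    pullback.hom_ext (pullback.lift_fst _ _ _) (pullback.lift_snd _ _ _)
  refine ⟨?_, ?_⟩
  · have w : G.c ≫ G.s = pullback.snd G.s G.t ≫ G.s := by
      have := G.comp_s (pullback.fst G.s G.t) (pullback.snd G.s G.t) pullback.condition
      rwa [show pullback.lift (pullback.fst G.s G.t) (pullback.snd G.s G.t) pullback.condition = 𝟙 _
        from pullback.hom_ext (by simp) (by simp), Category.id_comp] at this
    have ha : ∀ {T : AlgSp.Sp S} (a b : T ⟶ G.R), a ≫ G.s = b ≫ G.s → a ≫ G.s = (b ≫ G.i) ≫ G.t :=
      fun a b h => by rw [Category.assoc, G.i_t, h]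
    refine ⟨⟨w⟩, ⟨PullbackCone.IsLimit.mk w (fun s => pullback.lift
      (pullback.lift s.fst (s.snd ≫ G.i) (ha _ _ s.condition) ≫ G.c) s.snd
      (by rw [G.comp_s, Category.assoc, G.i_s])) (fun s => ?_)
      (fun s => pullback.lift_snd _ _ _) (fun s m h₁ h₂ => ?_)⟩⟩
    · have h₂ : (s.snd ≫ G.i) ≫ G.s = s.snd ≫ G.t := by rw [Category.assoc, G.i_s]
      refine (G.assoc s.fst (s.snd ≫ G.i) s.snd (ha _ _ s.condition) h₂).trans (ce _ _ _ ?_)
      rw [G.i_comp]
      simp only [← Category.assoc]
      rw [s.condition]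
    · refine pullback.hom_ext ?_ (h₂.trans (pullback.lift_snd _ _ _).symm)
      rw [pullback.lift_fst]
      let α := m ≫ pullback.fst G.s G.t
      have hαb : α ≫ G.s = s.snd ≫ G.t := by
        simp only [α, Category.assoc, pullback.condition]
        rw [← h₂, Category.assoc]
      have e1 : pullback.lift α s.snd hαb ≫ G.c = s.fst := by
        rw [← h₁]
        refine congrArg (· ≫ G.c) (pullback.hom_ext ?_ ?_)
        · rw [pullback.lift_fst]
        · rw [pullback.lift_snd, h₂]
      have hbi : s.snd ≫ G.s = (s.snd ≫ G.i) ≫ G.t := by rw [Category.assoc, G.i_t]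
      refine Eq.trans ?_ (cong ((G.comp_s α s.snd hαb).trans hbi) (ha _ _ s.condition) e1 rfl)
      rw [G.assoc α s.snd (s.snd ≫ G.i) hαb hbi]
      refine (ce _ _ _ ?_).symm
      rw [G.comp_i]
      simp only [← Category.assoc]
      rw [hαb]
  · intro φ hφ₁ hφ₂
    have hs : (pullback.fst G.t G.t ≫ G.i) ≫ G.s = pullback.snd G.t G.t ≫ G.t := by
      rw [Category.assoc, G.i_s, pullback.condition]
    let ψ : pullback G.s G.t ⟶ pullback G.t G.t := pullback.lift (pullback.fst G.s G.t) G.c (by
      have := G.comp_t (pullback.fst G.s G.t) (pullback.snd G.s G.t) pullback.condition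
      rwa [show pullback.lift (pullback.fst G.s G.t) (pullback.snd G.s G.t) pullback.condition = 𝟙 _
        from pullback.hom_ext (by simp) (by simp), Category.id_comp, eq_comm] at this)
    have hc : φ ≫ G.c = pullback.snd G.t G.t := by
      have hw : (φ ≫ pullback.fst G.s G.t) ≫ G.s = (φ ≫ pullback.snd G.s G.t) ≫ G.t := by
        rw [Category.assoc, Category.assoc, pullback.condition]
      rw [← split φ]
      have hai : pullback.fst G.t G.t ≫ G.s = (pullback.fst G.t G.t ≫ G.i) ≫ G.t := by
        rw [Category.assoc, G.i_t]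
      refine (cong hw (hai.trans (G.comp_t _ _ hs).symm) hφ₁ hφ₂).trans ?_
      rw [← G.assoc _ _ _ hai hs]
      refine ec _ _ _ ?_
      rw [G.comp_i]
      simp only [← Category.assoc]
      rw [pullback.condition]
    refine ⟨⟨ψ, ?_, ?_⟩, hc⟩
    · apply pullback.hom_ext
      · rw [Category.assoc, pullback.lift_fst, hφ₁, Category.id_comp]
      · rw [Category.assoc, pullback.lift_snd, hc, Category.id_comp]
    · apply pullback.hom_ext
      · rw [Category.assoc, hφ₁, pullback.lift_fst, Category.id_comp]
      · rw [Category.assoc, hφ₂, Category.id_comp, ← Category.assoc]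
        have hfs : ψ ≫ pullback.fst G.t G.t = pullback.fst G.s G.t := pullback.lift_fst _ _ _
        have hsn : ψ ≫ pullback.snd G.t G.t = G.c := pullback.lift_snd _ _ _
        have hcomp : ψ ≫ pullback.lift (pullback.fst G.t G.t ≫ G.i) (pullback.snd G.t G.t) hs =
            pullback.lift (pullback.fst G.s G.t ≫ G.i) G.c
              (by rw [← hfs, ← hsn]; simp only [Category.assoc]; rw [G.i_s, pullback.condition]) :=
          pullback.hom_ext
            (by rw [Category.assoc, pullback.lift_fst, pullback.lift_fst, ← Category.assoc, hfs])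
            (by rw [Category.assoc, pullback.lift_snd]; exact hsn.trans (pullback.lift_snd _ _ _).symm)
        rw [hcomp]
        have h₁ : (pullback.fst G.s G.t ≫ G.i) ≫ G.s = pullback.fst G.s G.t ≫ G.t := by
          rw [Category.assoc, G.i_s]
        have e1 : pullback.lift (pullback.fst G.s G.t) (pullback.snd G.s G.t) pullback.condition =
            𝟙 _ := pullback.hom_ext (by simp) (by simp)
        have hcc : pullback.lift (pullback.fst G.s G.t) (pullback.snd G.s G.t) pullback.condition
            ≫ G.c = G.c := by rw [e1, Category.id_comp]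
        refine Eq.trans (cong _ (h₁.trans (G.comp_t _ _ pullback.condition).symm) rfl hcc.symm) ?_
        rw [← G.assoc _ _ _ h₁ pullback.condition]
        refine ec _ _ _ ?_
        rw [G.i_comp]
        simp only [← Category.assoc]
        rw [pullback.condition]

end Groth.Agent.S10142
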