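import Groth.Statements.S10145
import Groth.Agent.AlgSp2.GrpdAlg
-- import your own Groth.Agent.* helpers here

set_option autoImplicit false
set_option backward.isDefEq.respectTransparency.types false
universe u
open CategoryTheory CategoryTheory.Limits AlgebraicGeometry
open AlgSp AlgSp.GroupoidSp

namespace Groth.Agent.S10145

/-- Let `(U, R, s, t, c)` be a groupoid in algebraic spaces over `B` whose object space is `U = Spec k`,
and let `r : Spec k ⟶ R` be such that `s ∘ r` and `t ∘ r` are automorphisms of `Spec k`; write `a =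
r ∘ (s ∘ r)⁻¹`, so that `s ∘ a = id` and `t ∘ a` is an automorphism. Then `R ⟶ R`, `f ↦ c(a ∘ t ∘ f,
f)`, is an automorphism of `R` mapping `e` to `a` (the point `r`). -/
theorem result (S : Scheme.{u}) (B : AlgSp.Sp S) (hB : AlgSp.IsAlgSpace B)
    (G : AlgSp.GroupoidSp B) (hR : AlgSp.IsAlgSpace G.R) (k : Type u) [Field k]
    (σ : Spec (CommRingCat.of k) ⟶ S) (eU : G.U ≅ (AlgSp.yon S).obj (Over.mk σ))
    (a : G.U ⟶ G.R) (ha : a ≫ G.s = 𝟙 G.U) [IsIso (a ≫ G.t)] :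
    IsIso (pullback.lift (G.t ≫ a) (𝟙 G.R) (((Category.assoc _ _ _).trans (congrArg (G.t ≫ ·) ha)).trans ((Category.comp_id _).trans (Category.id_comp _).symm)) ≫ G.c) ∧
      G.e ≫ (pullback.lift (G.t ≫ a) (𝟙 G.R) (((Category.assoc _ _ _).trans (congrArg (G.t ≫ ·) ha)).trans ((Category.comp_id _).trans (Category.id_comp _).symm)) ≫ G.c) = a := by
  let ψ := inv (a ≫ G.t)
  let a' := G.t ≫ ψ ≫ a
  have hs : a' ≫ G.s = G.t ≫ ψ := by simp only [a', Category.assoc, ha, Category.comp_id]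
  have ht : a' ≫ G.t = G.t := by simp only [a', ψ, Category.assoc, IsIso.inv_hom_id, Category.comp_id]
  have hi : (a' ≫ G.i) ≫ G.s = 𝟙 G.R ≫ G.t := by
    rw [Groth.AlgSp2.GrpdAlg.inv_src, ht, Category.id_comp]
  have hf : (G.t ≫ a) ≫ G.s = 𝟙 G.R ≫ G.t := by rw [Category.assoc, ha, Category.comp_id, Category.id_comp]
  refine ⟨⟨Groth.AlgSp2.GrpdAlg.comp G (a' ≫ G.i) (𝟙 G.R) hi, ?_, ?_⟩, ?_⟩
  · show Groth.AlgSp2.GrpdAlg.comp G (G.t ≫ a) (𝟙 G.R) hf ≫ _ = _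
    have e : Groth.AlgSp2.GrpdAlg.comp G (G.t ≫ a) (𝟙 G.R) hf ≫ a' = G.t ≫ a := by
      simp only [a', ← Category.assoc, Groth.AlgSp2.GrpdAlg.comp_tgt]
      simp only [ψ, Category.assoc]
      rw [← Category.assoc a G.t, IsIso.hom_inv_id_assoc]
    rw [Groth.AlgSp2.GrpdAlg.nat]
    refine (Groth.AlgSp2.GrpdAlg.comp_congr G (α' := (G.t ≫ a) ≫ G.i)
      (β' := Groth.AlgSp2.GrpdAlg.comp G (G.t ≫ a) (𝟙 G.R) hf) ?_ (Category.comp_id _)).trans
      (Groth.AlgSp2.GrpdAlg.inv_comp_cancel G hf)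
    rw [← Category.assoc, e]
  · show Groth.AlgSp2.GrpdAlg.comp G (a' ≫ G.i) (𝟙 G.R) hi ≫
      Groth.AlgSp2.GrpdAlg.comp G (G.t ≫ a) (𝟙 G.R) hf = _
    rw [Groth.AlgSp2.GrpdAlg.nat]
    refine (Groth.AlgSp2.GrpdAlg.comp_congr G (α' := a')
      (β' := Groth.AlgSp2.GrpdAlg.comp G (a' ≫ G.i) (𝟙 G.R) hi) ?_ (Category.comp_id _)).trans
      (Groth.AlgSp2.GrpdAlg.comp_inv_cancel G hi)
    rw [← Category.assoc, Groth.AlgSp2.GrpdAlg.comp_tgt, Groth.AlgSp2.GrpdAlg.inv_tgt, hs]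
    simp only [a', Category.assoc]
  · show G.e ≫ Groth.AlgSp2.GrpdAlg.comp G (G.t ≫ a) (𝟙 G.R) hf = a
    rw [Groth.AlgSp2.GrpdAlg.nat]
    refine (Groth.AlgSp2.GrpdAlg.comp_congr G (α' := a) (β' := a ≫ G.s ≫ G.e) ?_ ?_).trans
      (Groth.AlgSp2.GrpdAlg.comp_unit G _ rfl)
    · rw [← Category.assoc, G.e_t, Category.id_comp]
    · rw [Category.comp_id, ← Category.assoc, ha, Category.id_comp]

end Groth.Agent.S10145
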