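import Groth.Statements.S10147
import Mathlib.Topology.Algebra.OpenSubgroup

set_option autoImplicit false
universe u v w
open LinTop

namespace Groth.Agent.S10147

/-- Let M be a topological module over a ring R whose additive group is a topological group, and let
(M_i) be a family of submodules of M forming a fundamental system of neighbourhoods of 0. For every
submodule N of M, the closure of N is the intersection over i of the submodules N + M_i. -/
theorem result
    {R : Type u} [Ring R] {M : Type v} [AddCommGroup M] [Module R M] [TopologicalSpace M]
    [IsTopologicalAddGroup M] {ι : Type w} (B : ι → Submodule R M)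
    (hB : (nhds (0 : M)).HasBasis (fun _ => True) (fun i => (B i : Set M)))
    (N : Submodule R M) :
    closure (N : Set M) = ⋂ i, ((N ⊔ B i : Submodule R M) : Set M) := by
  ext x
  simp only [Set.mem_iInter, SetLike.mem_coe]
  constructor
  · intro hx i
    have hopen : IsOpen ((N ⊔ B i : Submodule R M) : Set M) :=
      (N ⊔ B i).toAddSubgroup.isOpen_of_mem_nhds (g := (0 : M))
        (Filter.mem_of_superset (hB.mem_of_mem trivial)
          (SetLike.coe_subset_coe.mpr le_sup_right))
    exact closure_minimal (SetLike.coe_subset_coe.mpr le_sup_left)
      (AddSubgroup.isClosed_of_isOpen (N ⊔ B i).toAddSubgroup hopen) hx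
  · intro h
    rw [mem_closure_iff_nhds]
    intro t ht
    have ht' : (fun z => x + z) ⁻¹' t ∈ nhds (0 : M) := by
      apply (continuous_const_add x).continuousAt.preimage_mem_nhds
      simpa using ht
    obtain ⟨i, -, hi⟩ := hB.mem_iff.mp ht'
    obtain ⟨a, ha, b, hb, hab⟩ := Submodule.mem_sup.mp (h i)
    refine ⟨a, ?_, ha⟩
    have := hi ((B i).neg_mem hb)
    simp only [Set.mem_preimage, ← hab, add_neg_cancel_right] at this
    exact this

end Groth.Agent.S10147
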