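import Groth.Statements.S10148
import Groth.Agent.AdicLinTop.Taut
import Mathlib.RingTheory.Henselian

set_option autoImplicit false
universe u
open LinTop

namespace Groth.Agent.S10148

/-- Let A be a weakly admissible topological ring (linearly topologized, Hausdorff and complete, having
a weak ideal of definition) and let I be a weak ideal of definition of A, that is, an open ideal
consisting of topologically nilpotent elements. Then (A, I) is a henselian pair. -/
theorem result
    (A : Type u) [CommRing A] [UniformSpace A] [IsUniformAddGroup A] [IsTopologicalRing A]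
    (hA : LinTop.IsWeaklyAdmissible A) (I : Ideal A) (hI : LinTop.IsWeakIdealOfDefinition A I) :
    HenselianRing A I := by
  obtain ⟨⟨hlin, -⟩, ht2, hc⟩ := hA
  refine ⟨Groth.AdicLinTop.le_jacobson_of_topNilp hI.2, fun f hf a₀ h₁ h₂ => ?_⟩
  have hu : IsUnit (f.derivative.eval a₀) :=
    (Groth.AdicLinTop.isUnit_iff_isUnit_mk hI.2 _).mpr h₂
  haveI := Groth.AdicLinTop.isAdicComplete_span_of_topNilp (hI.2 _ h₁)
  obtain ⟨a, ha, hae⟩ := HenselianRing.is_henselian (I := Ideal.span {f.eval a₀}) f hf a₀
    (Ideal.mem_span_singleton_self _) (hu.map _)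
  exact ⟨a, ha, (Ideal.span_singleton_le_iff_mem I).mpr h₁ hae⟩

end Groth.Agent.S10148
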