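import Groth.Statements.S1015
import Groth.Agent.Misc4.QCohRpushD
import Groth.Agent.DerivedCoh.KFlat.RpushComp
import Groth.Agent.DerivedCoh.PushPull.FinitePush

set_option autoImplicit false
universe u
open CategoryTheory CategoryTheory.Limits AlgebraicGeometry
attribute [local instance] HasDerivedCategory.standard
open Perf

namespace Groth.Agent.S1015

/-- Let U ⊆ X be an open subscheme whose inclusion is quasi-compact. Every object F of D(O_U) with
quasi-coherent cohomology sheaves is the restriction of such an object on X: there is a complex G of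
O_X-modules with quasi-coherent cohomology sheaves whose termwise restriction to U is isomorphic to
F in D(O_U). -/
theorem result (X : Scheme.{u}) (U : X.Opens) [QuasiCompact U.ι]
    (F : DCoh.D (U : Scheme.{u})) (hF : DCoh.IsQCohD F) :
    ∃ G : CochainComplex X.Modules ℤ, DCoh.IsQCohD (DCoh.toD X G) ∧
      Nonempty (DerivedCategory.Q.obj ((DCoh.restrictCx U).obj G) ≅ F) := by
  obtain ⟨L, ⟨eL⟩⟩ := Groth.KTheory.Perf.exists_rep F
  let J := (Groth.DerivedCoh.KFlat.kres (U : Scheme.{u})).obj L
  let G := (Groth.DerivedCoh.KFlat.pushCx U.ι).obj J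
  haveI := Groth.DerivedCoh.PushPull.hasRpush U.ι
  let eR := (Groth.DerivedCoh.KFlat.RpushResIso U.ι).app L
  haveI : IsIso (Scheme.Modules.restrictAdjunction U.ι).counit := inferInstance
  let eP : ((Scheme.Modules.restrictFunctor U.ι).mapHomologicalComplex (ComplexShape.up ℤ)).obj G ≅ J :=
    HomologicalComplex.Hom.isoOfComponents
      (fun q => (asIso (Scheme.Modules.restrictAdjunction U.ι).counit).app (J.X q))
      (fun p q _ => ((Scheme.Modules.restrictAdjunction U.ι).counit.naturality (J.d p q)).symm)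
  have hJ : QuasiIso ((Groth.DerivedCoh.KFlat.kresAug (U : Scheme.{u})).app L) :=
    (Groth.DerivedCoh.KFlat.kresAug_spec L).2.1
  haveI : IsIso (DerivedCategory.Q.map ((Groth.DerivedCoh.KFlat.kresAug (U : Scheme.{u})).app L)) :=
    (DerivedCategory.isIso_Q_map_iff_quasiIso _ _).2 hJ
  refine ⟨G, fun i => ?_, ⟨DerivedCategory.Q.mapIso eP ≪≫
    (asIso (DerivedCategory.Q.map ((Groth.DerivedCoh.KFlat.kresAug (U : Scheme.{u})).app L))).symm ≪≫ eL⟩⟩
  exact (Groth.QCohMod.isQCoh_iff_of_iso ((DerivedCategory.homologyFunctor X.Modules i).mapIso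
    (((DCoh.Rpush U.ι).mapIso eL).symm ≪≫ eR))).1 (Groth.Misc4.QCohRpushD.isQCohD U.ι F hF i)

end Groth.Agent.S1015
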