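import Groth.Statements.S10152
import Groth.Agent.AdicLinTop.Taut

set_option autoImplicit false
universe u v
open LinTop

namespace Groth.Agent.S10152

/-- Let φ : A → B be a taut homomorphism of linearly topologized rings. If A has a countable fundamental
system of open ideals, then so does B (equivalently, the neighbourhood filters of 0 are countably
generated). -/
theorem result
    (A : Type u) [CommRing A] [TopologicalSpace A] [IsTopologicalRing A] [IsLinearTopology A A]
    (B : Type v) [CommRing B] [TopologicalSpace B] [IsTopologicalRing B] [IsLinearTopology B B]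
    (φ : A →+* B) (hφ : LinTop.IsTaut φ) (hA : (nhds (0 : A)).IsCountablyGenerated) :
    (nhds (0 : B)).IsCountablyGenerated := by
  obtain ⟨s, hs⟩ := (nhds (0 : A)).exists_antitone_basis
  choose I hI hIs using fun n => Groth.AdicLinTop.exists_open_ideal_subset (hs.mem n)
  have hb : (nhds (0 : B)).HasBasis (fun _ : ℕ => True)
      (fun n => closure (((I n).map φ : Ideal B) : Set B)) := by
    refine ⟨fun U => ⟨fun hU => ?_, fun ⟨n, _, hn⟩ =>
      Filter.mem_of_superset ((hφ.2.1 _ (hI n)).mem_nhds (subset_closure (zero_mem _))) hn⟩⟩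
    obtain ⟨J, hJ, hJU⟩ := hφ.2.2 U hU
    obtain ⟨n, -, hn⟩ := hs.toHasBasis.mem_iff.mp (hJ.mem_nhds J.zero_mem)
    exact ⟨n, trivial,
      subset_trans (Groth.AdicLinTop.closure_mono (Ideal.map_mono fun x hx => hn (hIs n hx))) hJU⟩
  exact hb.isCountablyGenerated

end Groth.Agent.S10152
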