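import Groth.Statements.S10155
import Groth.Agent.AdicLinTop.Taut
import Groth.Agent.AdicLinTop.OpenMapping

set_option autoImplicit false
universe u v
open LinTop

namespace Groth.Agent.S10155

/-- Let φ : A → B be a taut homomorphism of linearly topologized rings with dense image. Assume A is
Hausdorff and complete with a countable fundamental system of open ideals and B is Hausdorff. Then φ
is surjective and open, so that B is the quotient of A by the closed ideal ker φ with the quotient
topology, and B is complete. -/
theorem result
    (A : Type u) [CommRing A] [UniformSpace A] [IsUniformAddGroup A] [IsTopologicalRing A]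
    [IsLinearTopology A A] [T2Space A] [CompleteSpace A] (hA : (nhds (0 : A)).IsCountablyGenerated)
    (B : Type v) [CommRing B] [UniformSpace B] [IsUniformAddGroup B] [IsTopologicalRing B]
    [IsLinearTopology B B] [T2Space B]
    (φ : A →+* B) (hφ : LinTop.IsTaut φ) (hd : DenseRange φ) :
    Function.Surjective φ ∧ IsOpenQuotientMap φ ∧ CompleteSpace B := by
  haveI : NonarchimedeanAddGroup A := { (Groth.AdicLinTop.nonarchimedeanRing (A := A)) with }
  have hopen : ∀ U : OpenAddSubgroup A, closure (φ.toAddMonoidHom '' U) ∈ nhds (0 : B) := by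
    intro U
    obtain ⟨I, hI, hIU⟩ := Groth.AdicLinTop.exists_open_ideal_subset (U.mem_nhds_zero)
    refine Filter.mem_of_superset ((hφ.2.1 I hI).mem_nhds (subset_closure (zero_mem _))) ?_
    rw [Groth.AdicLinTop.closure_map_eq_closure_image hd I]
    exact closure_mono (Set.image_mono hIU)
  obtain ⟨h1, h2⟩ := Groth.AdicLinTop.OpenMapping.surjective_and_isOpenMap φ.toAddMonoidHom hφ.1
    hd hA hopen
  exact ⟨h1, ⟨h1, hφ.1, h2⟩,
    Groth.AdicLinTop.OpenMapping.completeSpace_of_open φ.toAddMonoidHom hφ.1 h1 h2 hA⟩

end Groth.Agent.S10155
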