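import Groth.Statements.S10156
import Groth.Agent.AdicLinTop.Taut

set_option autoImplicit false
universe u v w
open LinTop

namespace Groth.Agent.S10156

/-- Given pre-adic rings A, B, C and continuous ring maps ψ : B → C and φ : A → B, adicness of the
composite A → C implies that ψ is adic. -/
theorem result
    (A : Type u) [CommRing A] [TopologicalSpace A] [IsTopologicalRing A] (hA : LinTop.IsPreadic A)
    (B : Type v) [CommRing B] [TopologicalSpace B] [IsTopologicalRing B] (hB : LinTop.IsPreadic B)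
    (C : Type w) [CommRing C] [TopologicalSpace C] [IsTopologicalRing C] (hC : LinTop.IsPreadic C)
    (φ : A →+* B) (ψ : B →+* C) (hφ : Continuous φ) (hψ : Continuous ψ)
    (h : LinTop.IsAdicHom (ψ.comp φ)) : LinTop.IsAdicHom ψ := by
  obtain ⟨J, hJ⟩ := hB
  obtain ⟨I, hI, hIC⟩ := h
  rw [isAdic_iff] at hJ hIC
  have hJdef : IsIdealOfDefinition B J := by
    refine ⟨by simpa using hJ.1 1, fun U hU => ?_⟩
    obtain ⟨n, hn⟩ := hJ.2 U hU
    exact ⟨n + 1, n.succ_pos, subset_trans (Ideal.pow_le_pow_right n.le_succ) hn⟩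
  refine ⟨J, hJdef, isAdic_iff.mpr ⟨fun k => ?_, fun s hs => ?_⟩⟩
  · obtain ⟨n, -, hn⟩ := Groth.AdicLinTop.exists_pow_le hI (U := J.comap φ) (hJdef.1.preimage hφ)
    refine Groth.AdicLinTop.isOpen_of_le (hIC.1 (n * k)) ?_
    rw [pow_mul, ← Ideal.map_pow]
    refine Ideal.pow_right_mono ?_ k
    rw [← Ideal.map_map]
    exact Ideal.map_mono (Ideal.map_le_iff_le_comap.mpr hn)
  · obtain ⟨k, hk⟩ := hIC.2 s hs
    obtain ⟨n, -, hn⟩ := Groth.AdicLinTop.exists_pow_le hJdef
      (U := ((I.map (ψ.comp φ)) ^ k).comap ψ) ((hIC.1 k).preimage hψ)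
    refine ⟨n, subset_trans ?_ hk⟩
    rw [← Ideal.map_pow]
    exact Ideal.map_le_iff_le_comap.mpr hn

end Groth.Agent.S10156
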