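import Groth.Statements.S10157
import Groth.Agent.AdicLinTop.Taut

set_option autoImplicit false
universe u v
open LinTop

namespace Groth.Agent.S10157

/-- A continuous adic homomorphism φ : A → B between pre-adic topological rings is taut. -/
theorem result
    (A : Type u) [CommRing A] [TopologicalSpace A] [IsTopologicalRing A] (hA : LinTop.IsPreadic A)
    (B : Type v) [CommRing B] [TopologicalSpace B] [IsTopologicalRing B] (hB : LinTop.IsPreadic B)
    (φ : A →+* B) (hφ : Continuous φ) (h : LinTop.IsAdicHom φ) : LinTop.IsTaut φ := by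
  obtain ⟨J, hJ⟩ := hB
  haveI := Groth.AdicLinTop.isLinearTopology_of_isAdic hJ
  obtain ⟨I₀, hI₀, hB'⟩ := h
  rw [isAdic_iff] at hB'
  refine Groth.AdicLinTop.isTaut_mk hφ fun I hI => ?_
  obtain ⟨n, -, hn⟩ := Groth.AdicLinTop.exists_pow_le hI₀ hI
  refine Groth.AdicLinTop.isOpen_of_le (J := (I.map φ).closure) (hB'.1 n)
    (le_trans ?_ (Groth.AdicLinTop.le_closure _))
  rw [← Ideal.map_pow]
  exact Ideal.map_mono hn

end Groth.Agent.S10157
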