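import Groth.Statements.S10158
import Groth.Agent.AdicLinTop.Taut

set_option autoImplicit false
universe u v
open LinTop

namespace Groth.Agent.S10158

/-- Let φ : A → B be a taut homomorphism of linearly topologized rings. Assume A is pre-adic with a
finitely generated ideal of definition I and B is Hausdorff and complete. Then the topology of B is
the φ(I)B-adic topology; in particular B is adic with a finitely generated ideal of definition and φ
is adic. -/
theorem result
    (A : Type u) [CommRing A] [TopologicalSpace A] [IsTopologicalRing A] (hA : LinTop.IsPreadic A)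
    (I : Ideal A) (hI : LinTop.IsIdealOfDefinition A I) (hfg : I.FG)
    (B : Type v) [CommRing B] [UniformSpace B] [IsUniformAddGroup B] [IsTopologicalRing B]
    [IsLinearTopology B B] [T2Space B] [CompleteSpace B]
    (φ : A →+* B) (hφ : LinTop.IsTaut φ) :
    IsAdic (I.map φ) := by
  obtain ⟨J, hJ⟩ := hA
  rw [isAdic_iff] at hJ
  refine Groth.AdicLinTop.isAdic_of_fg (hfg.map φ) (fun n => ?_) fun U hU => ?_
  · rw [← Ideal.map_pow]
    obtain ⟨a, ha⟩ := hJ.2 _ (hI.1.mem_nhds I.zero_mem)
    refine hφ.2.1 _ (Groth.AdicLinTop.isOpen_of_le (hJ.1 (a * n)) ?_)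
    rw [pow_mul]
    exact Ideal.pow_right_mono ha n
  · obtain ⟨I', hI', hIU⟩ := hφ.2.2 U hU
    obtain ⟨n, -, hn⟩ := Groth.AdicLinTop.exists_pow_le hI hI'
    refine ⟨n, subset_trans ?_ hIU⟩
    rw [← Ideal.map_pow]
    exact Groth.AdicLinTop.closure_mono (Ideal.map_mono hn)

end Groth.Agent.S10158
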