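import Groth.Statements.S10159
import Groth.Agent.AdicLinTop.Taut
import Mathlib.Tactic.TFAE

set_option autoImplicit false
universe u
open LinTop

namespace Groth.Agent.S10159

theorem isTaut_from_adic {A' : Type*} [CommRing A'] [TopologicalSpace A'] [IsTopologicalRing A']
    {A : Type*} [CommRing A] [TopologicalSpace A] [IsTopologicalRing A]
    {I : Ideal A'} (hI : IsAdic I) (φ : A' →+* A)
    (hopen : ∀ n : ℕ, IsOpen (closure (((I ^ n).map φ : Ideal A) : Set A)))
    (hbasis : ∀ U ∈ nhds (0 : A), ∃ n : ℕ, closure (((I ^ n).map φ : Ideal A) : Set A) ⊆ U) :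
    IsTaut φ := by
  rw [isAdic_iff] at hI
  refine ⟨continuous_of_continuousAt_zero φ ?_, fun J hJ => ?_, fun U hU => ?_⟩
  · refine Filter.tendsto_def.mpr fun U hU => ?_
    obtain ⟨n, hn⟩ := hbasis U (by simpa using hU)
    exact Filter.mem_of_superset ((hI.1 n).mem_nhds (zero_mem _))
      fun x hx => hn (subset_closure (Ideal.mem_map_of_mem φ hx))
  · obtain ⟨n, hn⟩ := hI.2 _ (hJ.mem_nhds J.zero_mem)
    exact Groth.AdicLinTop.isOpen_of_le (J := (J.map φ).closure) (I := ((I ^ n).map φ).closure)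
      (hopen n) (Groth.AdicLinTop.closure_mono (Ideal.map_mono hn))
  · obtain ⟨n, hn⟩ := hbasis U hU
    exact ⟨I ^ n, hI.1 n, hn⟩

/-- For a ring A carrying a linear topology, the following four conditions are equivalent: (1) A is
weakly pre-adic; (2) there exist a pre-adic topological ring A' and a taut continuous ring
homomorphism A' → A (A' is taken in the universe of A, which suffices since A with an adic topology
serves); (3) A has an ideal of definition, and for at least one ideal of definition I every closure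
cl(I^n) with n ≥ 1 is open; (4) A has an ideal of definition, and for each of its ideals of
definition I every closure cl(I^n) with n ≥ 1 is open. -/
theorem result
    (A : Type u) [CommRing A] [TopologicalSpace A] [IsTopologicalRing A] [IsLinearTopology A A] :
    List.TFAE [LinTop.IsWeaklyPreadic A,
      ∃ (A' : Type u) (_ : CommRing A') (_ : TopologicalSpace A') (_ : IsTopologicalRing A')
        (φ : A' →+* A), LinTop.IsPreadic A' ∧ LinTop.IsTaut φ,
      LinTop.IsPreadmissible A ∧ ∃ I : Ideal A, LinTop.IsIdealOfDefinition A I ∧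
        ∀ n : ℕ, 0 < n → IsOpen (closure ((I ^ n : Ideal A) : Set A)),
      LinTop.IsPreadmissible A ∧ ∀ I : Ideal A, LinTop.IsIdealOfDefinition A I →
        ∀ n : ℕ, 0 < n → IsOpen (closure ((I ^ n : Ideal A) : Set A))] := by
  tfae_have 1 → 2 := by
    rintro ⟨-, I, hopen, hbasis⟩
    refine ⟨A, inferInstance, I.adicTopology, (Ideal.nonarchimedean I).toIsTopologicalRing,
      RingHom.id A, ⟨I, rfl⟩, ?_⟩
    refine @isTaut_from_adic A _ I.adicTopology (Ideal.nonarchimedean I).toIsTopologicalRing A _ _ _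
      I rfl (RingHom.id A) ?_ ?_
    · simpa [Ideal.map_id] using hopen
    · simpa [Ideal.map_id] using hbasis
  tfae_have 2 → 1 := by
    rintro ⟨A', i1, i2, i3, φ, ⟨I, hI⟩, hφ⟩
    rw [isAdic_iff] at hI
    refine Groth.AdicLinTop.weaklyPreadic_map hφ I (fun n => ?_) fun U hU => ?_
    · exact Groth.AdicLinTop.isOpen_of_le (J := (I ^ n).closure) (hI.1 n)
        (Groth.AdicLinTop.le_closure _)
    · obtain ⟨n, hn⟩ := hI.2 U hU
      refine ⟨n, ?_⟩
      rwa [(Groth.AdicLinTop.isClosed_of_isOpen (hI.1 n)).closure_eq]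
  tfae_have 1 → 4 := by
    rintro ⟨-, I, hopen, hbasis⟩
    exact ⟨⟨‹_›, _, Groth.AdicLinTop.idd_closure_of_weaklyPreadic hopen hbasis⟩,
      fun J hJ n _ => Groth.AdicLinTop.isOpen_closure_pow_of_idd hopen hbasis hJ n⟩
  tfae_have 4 → 3 := by
    rintro ⟨⟨h1, I, hI⟩, h⟩
    exact ⟨⟨h1, I, hI⟩, I, hI, h I hI⟩
  tfae_have 3 → 1 := by
    rintro ⟨-, I, hI, h⟩
    refine ⟨‹_›, I, fun n => ?_, fun U hU => ?_⟩
    · rcases n.eq_zero_or_pos with rfl | hn
      · simp
      · exact h n hn
    · obtain ⟨W, hW, hWU⟩ := Groth.AdicLinTop.exists_open_ideal_subset hU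
      obtain ⟨n, -, hn⟩ := Groth.AdicLinTop.exists_pow_le hI hW
      exact ⟨n, subset_trans (SetLike.coe_subset_coe.mpr
        (Groth.AdicLinTop.closure_le_of_isOpen hW hn)) hWU⟩
  tfae_finish

end Groth.Agent.S10159
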