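import Groth.Statements.S10164
import Groth.Agent.AdicLinTop.Taut

set_option autoImplicit false
universe u
open LinTop

namespace Groth.Agent.S10164

/-- Let A be weakly adic and I an ideal of definition of A with I/I₂ finitely generated, where I₂
denotes the closure of I^2 (here: I maps onto a finitely generated ideal of A/I₂). Then A is adic,
and some finitely generated ideal of A is an ideal of definition. -/
theorem result
    (A : Type u) [CommRing A] [UniformSpace A] [IsUniformAddGroup A] [IsTopologicalRing A] (hA : LinTop.IsWeaklyAdic A)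
    (I : Ideal A) (hI : LinTop.IsIdealOfDefinition A I)
    (hfg : (I.map (Ideal.Quotient.mk ((I ^ 2).closure))).FG) :
    LinTop.IsAdicRing A ∧ ∃ J : Ideal A, LinTop.IsIdealOfDefinition A J ∧ J.FG := by
  obtain ⟨⟨hlin, I₀, hopen₀, hbasis₀⟩, ht2, hc⟩ := hA
  have hopen : ∀ n : ℕ, IsOpen (closure ((I ^ n : Ideal A) : Set A)) :=
    fun n => Groth.AdicLinTop.isOpen_closure_pow_of_idd hopen₀ hbasis₀ hI n
  have hbasis : ∀ U ∈ nhds (0 : A), ∃ n : ℕ, closure ((I ^ n : Ideal A) : Set A) ⊆ U := by
    intro U hU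
    obtain ⟨W, hW, hWU⟩ := Groth.AdicLinTop.exists_open_ideal_subset hU
    obtain ⟨n, -, hn⟩ := Groth.AdicLinTop.exists_pow_le hI hW
    exact ⟨n, subset_trans (SetLike.coe_subset_coe.mpr
      (Groth.AdicLinTop.closure_le_of_isOpen hW hn)) hWU⟩
  have hIc : IsClosed (I : Set A) := Groth.AdicLinTop.isClosed_of_isOpen hI.1
  classical
  obtain ⟨S, hS⟩ := hfg
  have hlift : ∀ y ∈ S, ∃ a ∈ I, Ideal.Quotient.mk (I ^ 2).closure a = y := fun y hy =>
    (Ideal.mem_map_iff_of_surjective _ Ideal.Quotient.mk_surjective).mp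
      (hS ▸ Submodule.subset_span hy)
  choose! g hgI hg using hlift
  obtain ⟨J, hJfg, hJI, hIJ⟩ : ∃ J : Ideal A, J.FG ∧ J ≤ I ∧ I ≤ J ⊔ (I ^ 2).closure := by
    refine ⟨Ideal.span (S.image g), ⟨S.image g, rfl⟩, ?_, fun x hx => ?_⟩
    · rw [Ideal.span_le, Finset.coe_image]
      rintro _ ⟨y, hy, rfl⟩
      exact hgI y hy
    · have h1 : I.map (Ideal.Quotient.mk (I ^ 2).closure) ≤
          (Ideal.span ((S.image g : Finset A) : Set A)).map (Ideal.Quotient.mk (I ^ 2).closure) := by
        rw [← hS, Submodule.span_le]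
        intro y hy
        rw [← hg y hy]
        exact Ideal.mem_map_of_mem _
          (Submodule.subset_span (Finset.mem_coe.mpr (Finset.mem_image_of_mem g hy)))
      have h2 : x ∈ (Ideal.span ((S.image g : Finset A) : Set A) |>.map
          (Ideal.Quotient.mk (I ^ 2).closure)).comap (Ideal.Quotient.mk (I ^ 2).closure) :=
        h1 (Ideal.mem_map_of_mem _ hx)
      rwa [Ideal.comap_map_of_surjective _ Ideal.Quotient.mk_surjective,
        ← RingHom.ker_eq_comap_bot, Ideal.mk_ker] at h2
  have hstep : ∀ k : ℕ, I ^ k ≤ J ^ k ⊔ (I ^ (k + 1)).closure := by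
    intro k
    induction k with
    | zero => simp
    | succ k ih =>
      calc I ^ (k + 1) = I ^ k * I := pow_succ I k
        _ ≤ (J ^ k ⊔ (I ^ (k + 1)).closure) * I := Ideal.mul_mono_left ih
        _ = J ^ k * I ⊔ (I ^ (k + 1)).closure * I := Ideal.sup_mul _ _ _
        _ ≤ _ := sup_le (le_trans (Ideal.mul_mono_right hIJ) (by
              rw [Ideal.mul_sup]
              refine sup_le_sup (pow_succ J k).ge ?_
              rw [show k + 1 + 1 = k + 2 from rfl, pow_add I k 2]
              exact le_trans (Ideal.mul_mono_left ((Ideal.pow_right_mono hJI k).trans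
                (Groth.AdicLinTop.le_closure _))) (Groth.AdicLinTop.closure_mul_le _ _)))
            (le_sup_of_le_right (by
              rw [pow_succ I (k + 1)]
              exact le_trans (Ideal.mul_mono_right (Groth.AdicLinTop.le_closure I))
                (Groth.AdicLinTop.closure_mul_le _ _)))
  have hclstep : ∀ k : ℕ, (I ^ k).closure ≤ J ^ k ⊔ (I ^ (k + 1)).closure := fun k =>
    Groth.AdicLinTop.closure_le_of_isOpen
      (Groth.AdicLinTop.isOpen_of_le (J := J ^ k ⊔ (I ^ (k + 1)).closure)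
        (I := (I ^ (k + 1)).closure) (hopen _) le_sup_right) (hstep k)
  have hsmall : ∀ n : ℕ, ∀ U ∈ nhds (0 : A), ∃ m, ∀ k, m ≤ k →
      ((I ^ (n + k)).closure : Set A) ⊆ U := by
    intro n U hU
    obtain ⟨m, hm⟩ := hbasis U hU
    exact ⟨m, fun k hk => subset_trans
      (Groth.AdicLinTop.closure_mono (Ideal.pow_le_pow_right (hk.trans (Nat.le_add_left k n)))) hm⟩
  have key : ∀ n : ℕ, (I ^ n).closure ≤ J ^ n := by
    intro n
    refine le_of_eq_of_le (by simp) (Groth.AdicLinTop.le_of_approx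
      (Ideal.FG.pow hJfg : (J ^ n).FG) (K := fun k => J ^ k)
      (L := fun k => (I ^ (n + k)).closure) ?_ (hsmall n) fun k => ?_)
    · intro U hU
      obtain ⟨m, hm⟩ := hsmall 0 U hU
      exact ⟨m, fun k hk x hx => hm k hk (by
        simpa using subset_closure (Ideal.pow_right_mono hJI k hx))⟩
    · rw [← pow_add, add_comm k n]
      exact hclstep (n + k)
  have hJ : IsIdealOfDefinition A J := by
    refine ⟨Groth.AdicLinTop.isOpen_of_le (I := (I ^ 1).closure) (hopen 1)
      (by simpa using key 1), fun U hU => ?_⟩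
    obtain ⟨n, hn, h⟩ := hI.2 U hU
    exact ⟨n, hn, subset_trans (SetLike.coe_subset_coe.mpr (Ideal.pow_right_mono hJI n)) h⟩
  refine ⟨⟨⟨J, isAdic_iff.mpr ⟨fun n => Groth.AdicLinTop.isOpen_of_le (I := (I ^ n).closure)
    (hopen n) (key n), fun s hs => ?_⟩⟩, ht2, hc⟩, J, hJ, hJfg⟩
  obtain ⟨n, -, h⟩ := hJ.2 s hs
  exact ⟨n, h⟩

end Groth.Agent.S10164
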