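import Groth.Statements.S10166
import Groth.Agent.AdicLinTop.Taut

set_option autoImplicit false
universe u v
open LinTop

namespace Groth.Agent.S10166

/-- Let φ : A → B be a taut homomorphism of linearly topologized rings such that for every open ideal I
of A, with J the closure of φ(I)B, the induced map A/I → B/J is faithfully flat. If B has a
countable fundamental system of open ideals, then so does A. -/
theorem result
    (A : Type u) [CommRing A] [TopologicalSpace A] [IsTopologicalRing A] [IsLinearTopology A A]
    (B : Type v) [CommRing B] [TopologicalSpace B] [IsTopologicalRing B] [IsLinearTopology B B]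
    (φ : A →+* B) (hφ : LinTop.IsTautFFlat φ) (hB : (nhds (0 : B)).IsCountablyGenerated) :
    (nhds (0 : A)).IsCountablyGenerated := by
  obtain ⟨s, hs⟩ := (nhds (0 : B)).exists_antitone_basis
  choose W hW hWs using fun n => Groth.AdicLinTop.exists_open_ideal_subset (hs.mem n)
  have hb : (nhds (0 : A)).HasBasis (fun _ : ℕ => True)
      (fun n => ((W n).comap φ : Set A)) := by
    refine ⟨fun U => ⟨fun hU => ?_, fun ⟨n, _, hn⟩ =>
      Filter.mem_of_superset
        (((hW n).preimage hφ.1.1).mem_nhds (by simp)) hn⟩⟩
    obtain ⟨I, hI, hIU⟩ := Groth.AdicLinTop.exists_open_ideal_subset hU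
    obtain ⟨n, -, hn⟩ := hs.toHasBasis.mem_iff.mp
      ((hφ.1.2.1 I hI).mem_nhds (subset_closure (zero_mem _)))
    exact ⟨n, trivial, fun x hx =>
      hIU (Groth.AdicLinTop.mem_of_map_mem hφ hI (hn (hWs n hx)))⟩
  exact hb.isCountablyGenerated

end Groth.Agent.S10166
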