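import Groth.Statements.S10169
import Groth.Agent.AdicLinTop.Taut

set_option autoImplicit false
universe u v
open LinTop

namespace Groth.Agent.S10169

/-- Let φ : A → B be a taut homomorphism of linearly topologized rings such that for every open ideal I
of A the induced ring map A/I → B/J, where J denotes the closure of φ(I)B, is faithfully flat. Weak
pre-adicness then descends: when B is weakly pre-adic, A is as well. -/
theorem result
    (A : Type u) [CommRing A] [TopologicalSpace A] [IsTopologicalRing A] [IsLinearTopology A A]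
    (B : Type v) [CommRing B] [TopologicalSpace B] [IsTopologicalRing B] [IsLinearTopology B B]
    (φ : A →+* B) (hφ : LinTop.IsTautFFlat φ) (hB : LinTop.IsWeaklyPreadic B) :
    LinTop.IsWeaklyPreadic A := by
  obtain ⟨-, J, hopen, hbasis⟩ := hB
  have hI := Groth.AdicLinTop.isTautFFlat_idd hφ
    (Groth.AdicLinTop.idd_closure_of_weaklyPreadic hopen hbasis)
  set I := J.closure.comap φ
  refine ⟨‹_›, I, fun n => ?_, fun U hU => ?_⟩
  · have hn := Groth.AdicLinTop.isOpen_closure_pow_of_idd hopen hbasis
      (Groth.AdicLinTop.idd_closure_map hφ.1 hI) n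
    have hV : IsOpen ((((I ^ n).map φ).closure.comap φ : Ideal A) : Set A) := by
      refine IsOpen.preimage hφ.1.1 (Groth.AdicLinTop.isOpen_of_le
        (I := ((I.map φ).closure ^ n).closure) (J := ((I ^ n).map φ).closure) hn ?_)
      rw [Ideal.map_pow, ← Groth.AdicLinTop.closure_closure_ideal ((I.map φ) ^ n)]
      exact Groth.AdicLinTop.closure_mono (Groth.AdicLinTop.closure_pow_le _ n)
    refine Groth.AdicLinTop.isOpen_of_le (J := (I ^ n).closure) hV fun x hx => ?_
    refine Groth.AdicLinTop.mem_closure_iff.mpr fun W hW => ?_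
    exact Groth.AdicLinTop.mem_of_map_mem hφ (Groth.AdicLinTop.isOpen_of_le hW le_sup_right)
      (Groth.AdicLinTop.closure_mono (Ideal.map_mono le_sup_left) hx)
  · obtain ⟨W, hW, hWU⟩ := Groth.AdicLinTop.exists_open_ideal_subset hU
    obtain ⟨n, -, hn⟩ := Groth.AdicLinTop.exists_pow_le hI hW
    exact ⟨n, subset_trans (SetLike.coe_subset_coe.mpr
      (Groth.AdicLinTop.closure_le_of_isOpen hW hn)) hWU⟩

end Groth.Agent.S10169
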