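import Groth.Statements.S11160
import Groth.Agent.KTheory.BoundedInjective
import Mathlib.Algebra.Homology.DerivedCategory.ExactFunctor
import Mathlib.CategoryTheory.Retract

set_option autoImplicit false
universe w w' v v' u u'
open CategoryTheory CategoryTheory.Limits
open CohDer

namespace Groth.Agent.S11160

/-- Let ι : A' ⥤ A be an exact fully faithful functor of abelian categories whose essential image is
closed under extensions (a thick abelian subcategory), and suppose every object of A' admits a
monomorphism into an object of A' whose image in A is injective (A' has enough A-injectives). Then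
the induced triangulated functor D(A') ⥤ D(A) is fully faithful on cohomologically bounded below
objects. -/
theorem result {A' : Type u'} [Category.{v'} A'] [Abelian A'] [HasDerivedCategory.{w'} A']
    {A : Type u} [Category.{v} A] [Abelian A] [HasDerivedCategory.{w} A]
    (ι : A' ⥤ A) [ι.Additive] [PreservesFiniteLimits ι] [PreservesFiniteColimits ι] [ι.Full] [ι.Faithful]
    (hext : ∀ S : ShortComplex A, S.ShortExact → ι.essImage S.X₁ → ι.essImage S.X₃ → ι.essImage S.X₂)
    (hinj : ∀ X' : A', ∃ (Y' : A') (i : X' ⟶ Y'), Mono i ∧ Injective (ι.obj Y'))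
    (X Y : DerivedCategory A') (a b : ℤ) [X.IsGE a] [Y.IsGE b] :
    Function.Bijective (fun f : X ⟶ Y => ι.mapDerivedCategory.map f) := by
  open Groth.Agent.BoundedInjective HomologicalComplex in
  have : EnoughInjectives A' := ⟨fun X' => by
    obtain ⟨Y', i, hi, hY'⟩ := hinj X'
    refine ⟨⟨Y', ⟨fun g f _ => ?_⟩, i, hi⟩⟩
    exact ⟨ι.preimage (Injective.factorThru (ι.map g) (ι.map f)), ι.map_injective (by simp)⟩⟩
  have hI : ∀ J : A', Injective J → Injective (ι.obj J) := fun J _ => by
    obtain ⟨Y', i, hi, hY'⟩ := hinj J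
    exact (Retract.map ⟨i, Injective.factorThru (𝟙 J) i, Injective.comp_factorThru _ _⟩ ι).injective
  obtain ⟨L, _, ⟨eY⟩⟩ := DerivedCategory.exists_iso_Q_obj_of_isGE Y b
  obtain ⟨I, i, _, hinjI, _⟩ := CochainComplex.Plus.modelCategoryQuillen.exists_quasiIso_injective L b
  let K := DerivedCategory.Q.objPreimage X
  let eX : DerivedCategory.Q.obj K ≅ X := DerivedCategory.Q.objObjPreimageIso X
  let eY' : DerivedCategory.Q.obj I ≅ Y := (asIso (DerivedCategory.Q.map i)).symm ≪≫ eY.symm
  let ιK : CochainComplex A ℤ := (ι.mapHomologicalComplex (ComplexShape.up ℤ)).obj I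
  have : ∀ n, Injective (ιK.X n) := fun n => hI _ (hinjI n)
  have : I.IsKInjective := CochainComplex.isKInjective_of_injective I b
  have hge : ιK.IsStrictlyGE b := (CochainComplex.isStrictlyGE_iff _ _).2
    (fun n hn => ι.map_isZero (I.isZero_of_isStrictlyGE b n hn))
  have : ιK.IsKInjective := CochainComplex.isKInjective_of_injective ιK b
  let F := ι.mapHomologicalComplex (ComplexShape.up ℤ)
  let θ := ι.mapDerivedCategoryFactors
  have key : Function.Bijective (fun φ : DerivedCategory.Q.obj K ⟶ DerivedCategory.Q.obj I =>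
      ι.mapDerivedCategory.map φ) := by
    constructor
    · intro φ ψ h
      obtain ⟨f, rfl⟩ := Q_map_surjective K I φ
      obtain ⟨g, rfl⟩ := Q_map_surjective K I ψ
      have h0 : DerivedCategory.Q.map (F.map (f - g)) = 0 := by
        rw [← cancel_epi (θ.hom.app K), comp_zero]
        refine (ι.mapDerivedCategoryFactors_hom_naturality (f - g)).symm.trans ?_
        dsimp only at h
        rw [Functor.map_sub, Functor.map_sub, h, sub_self, zero_comp]
      obtain ⟨H⟩ := homotopic_zero (I := ιK) (F.map (f - g)) h0
      have h2 : (HomotopyCategory.quotient A' (ComplexShape.up ℤ)).map (f - g) = 0 := by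
        apply (ι.mapHomotopyCategory (ComplexShape.up ℤ)).map_injective
        rw [Functor.map_zero]
        exact (HomotopyCategory.eq_of_homotopy _ _ H).trans (Functor.map_zero _ _ _)
      rw [Functor.map_sub, sub_eq_zero] at h2
      have e := DerivedCategory.quotientCompQhIso A'
      rw [← cancel_epi (e.hom.app K)]
      refine (e.hom.naturality f).symm.trans (Eq.trans ?_ (e.hom.naturality g))
      exact congrArg (fun x => DerivedCategory.Qh.map x ≫ e.hom.app I) h2
    · intro φ
      obtain ⟨f, hf⟩ := Q_map_surjective (F.obj K) ιK (θ.inv.app K ≫ φ ≫ θ.hom.app I)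
      obtain ⟨f', rfl⟩ := F.map_surjective f
      refine ⟨DerivedCategory.Q.map f', ?_⟩
      dsimp only
      rw [← cancel_mono (θ.hom.app I)]
      refine (ι.mapDerivedCategoryFactors_hom_naturality f').trans ?_
      exact (congrArg (θ.hom.app K ≫ ·) hf).trans (Iso.hom_inv_id_app_assoc _ _ _)
  have : (fun f : X ⟶ Y => ι.mapDerivedCategory.map f) =
      (fun φ => (ι.mapDerivedCategory.mapIso eX).inv ≫ φ ≫ (ι.mapDerivedCategory.mapIso eY').hom) ∘
      (fun φ => ι.mapDerivedCategory.map φ) ∘ (fun f : X ⟶ Y => eX.hom ≫ f ≫ eY'.inv) := by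
    funext f; simp [← Functor.map_comp]
  rw [this]
  refine Function.Bijective.comp ?_ (key.comp ?_)
  · exact ((ι.mapDerivedCategory.mapIso eX).homCongr (ι.mapDerivedCategory.mapIso eY')).bijective
  · exact ((eX.homCongr eY').symm).bijective

end Groth.Agent.S11160
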