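import Groth.Statements.S11166
import Groth.Agent.CohTwo.QCohInjective
import Groth.Agent.CohTwo.QCohExt
import Groth.Agent.S11160
import Groth.Agent.S11161

set_option autoImplicit false
universe u
open CategoryTheory CategoryTheory.Limits AlgebraicGeometry
attribute [local instance] HasDerivedCategory.standard
open Coherent

namespace Groth.Agent.S11166

/-- For a locally Noetherian scheme X the natural functor D⁺(QCoh(X)) ⥤ D⁺_qc(O_X) is an equivalence:
granting that quasi-coherent modules form an abelian full subcategory of all O_X-modules with exact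
inclusion (instance hypotheses that always hold), the induced functor D(QCoh(X)) ⥤ D(O_X) is fully
faithful on cohomologically bounded below objects, and every object of D(O_X) with Hⁱ = 0 for i < a
and quasi-coherent cohomology sheaves is isomorphic to the image of an object of D(QCoh(X)) with Hⁱ
= 0 for i < a. -/
theorem result (X : Scheme.{u}) [IsLocallyNoetherian X]
    [ObjectProperty.ContainsZero (fun M : X.Modules => Coh.IsQCoh M)] [ObjectProperty.IsClosedUnderKernels (fun M : X.Modules => Coh.IsQCoh M)]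
    [ObjectProperty.IsClosedUnderCokernels (fun M : X.Modules => Coh.IsQCoh M)] [ObjectProperty.IsClosedUnderFiniteProducts (fun M : X.Modules => Coh.IsQCoh M)]
    [PreservesFiniteLimits (ObjectProperty.ι (fun M : X.Modules => Coh.IsQCoh M))] [PreservesFiniteColimits (ObjectProperty.ι (fun M : X.Modules => Coh.IsQCoh M))] :
    (∀ (M N : DerivedCategory (ObjectProperty.FullSubcategory (fun M : X.Modules => Coh.IsQCoh M))) (a b : ℤ), M.IsGE a → N.IsGE b →
        Function.Bijective (fun f : M ⟶ N => (ObjectProperty.ι (fun M : X.Modules => Coh.IsQCoh M)).mapDerivedCategory.map f)) ∧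
      ∀ (K : DCoh.D X) (a : ℤ), K.IsGE a → DCoh.IsQCohD K →
        ∃ M : DerivedCategory (ObjectProperty.FullSubcategory (fun M : X.Modules => Coh.IsQCoh M)), M.IsGE a ∧
          Nonempty ((ObjectProperty.ι (fun M : X.Modules => Coh.IsQCoh M)).mapDerivedCategory.obj M ≅ K) := by
  let ι := ObjectProperty.ι (fun M : X.Modules => Coh.IsQCoh M)
  have hext : ∀ S : ShortComplex X.Modules, S.ShortExact → ι.essImage S.X₁ → ι.essImage S.X₃ →
      ι.essImage S.X₂ := by
    intro S hS h₁ h₃
    obtain ⟨A, ⟨eA⟩⟩ := h₁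
    obtain ⟨B, ⟨eB⟩⟩ := h₃
    haveI : S.X₁.IsQuasicoherent := (Groth.QCohMod.isQCoh_iff_of_iso eA).1 A.property
    haveI : S.X₃.IsQuasicoherent := (Groth.QCohMod.isQCoh_iff_of_iso eB).1 B.property
    exact ⟨⟨S.X₂, Groth.CohTwo.QCohExt.isQCoh_of_shortExact hS⟩, ⟨Iso.refl _⟩⟩
  have hinj : ∀ X' : ObjectProperty.FullSubcategory (fun M : X.Modules => Coh.IsQCoh M),
      ∃ (Y' : _) (i : X' ⟶ Y'), Mono i ∧ Injective (ι.obj Y') := by
    intro X'
    haveI : X'.obj.IsQuasicoherent := X'.property
    obtain ⟨Q, β, hβ, hq, hQ⟩ := Groth.CohTwo.QCohInj.exists_mono_qcoh_injective X'.obj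
    exact ⟨⟨Q, hq⟩, ObjectProperty.homMk β, ι.mono_of_mono_map hβ, hQ⟩
  refine ⟨fun M N a b hM hN => ?_, fun K a hK hKq => ?_⟩
  · haveI := hM
    haveI := hN
    exact Groth.Agent.S11160.result ι hext hinj M N a b
  · haveI := hK
    obtain ⟨I, hI, -, ⟨e⟩⟩ := Groth.Agent.S11161.result ι hext hinj K a
      (fun i => ⟨⟨_, hKq i⟩, ⟨Iso.refl _⟩⟩)
    haveI := hI
    exact ⟨DerivedCategory.Q.obj I, inferInstance, ⟨e⟩⟩

end Groth.Agent.S11166
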