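import Groth.Statements.S1017
import Groth.Agent.CohExtendCx.Main
import Groth.Agent.S11166
import Groth.Agent.QCohMod.QCohCatAbelian
import Groth.Agent.KTheory.PerfCoh

set_option autoImplicit false
universe u
open CategoryTheory CategoryTheory.Limits AlgebraicGeometry
attribute [local instance] HasDerivedCategory.standard
open Perf

namespace Groth.Agent.S1017

open HomologicalComplex

/-- homology of a complex of coherent modules -/
theorem isCoh_homology {X : Scheme.{u}} [IsLocallyNoetherian X] (G : CochainComplex X.Modules ℤ)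
    (hG : ∀ n, Coh.IsCoh (G.X n)) (n : ℤ) : Coh.IsCoh (G.homology n) := by
  haveI : ∀ q, (G.X q).IsQuasicoherent := fun q => (hG q).1
  haveI := Groth.Dual3Deligne.isQCoh_cycles G n
  exact Groth.QCohMod.isCoh_of_iso
    ((cokernelIsCokernel (G.toCycles (n - 1) n)).coconePointUniqueUpToIso
      (G.homologyIsCokernel (n - 1) n (by simp)))
    (Groth.QCohMod.isCoh_cokernel _ (Groth.QCohMod.isCoh_of_mono (G.iCycles n) (hG n)))

/-- Let X be a Noetherian scheme and U ⊆ X an open subscheme. Every bounded object F of D(O_U) with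
coherent cohomology sheaves is the restriction of such an object on X: there is a complex G of
O_X-modules, bounded with coherent cohomology as an object of D(O_X), whose termwise restriction to
U is isomorphic to F in D(O_U). -/
theorem result (X : Scheme.{u}) [IsNoetherian X] (U : X.Opens)
    (F : DCoh.D (U : Scheme.{u})) (hF : DCoh.IsCohD F) (a b : ℤ) [F.IsGE a] [F.IsLE b] :
    ∃ (G : CochainComplex X.Modules ℤ) (a' b' : ℤ), DCoh.IsCohD (DCoh.toD X G) ∧ (DCoh.toD X G).IsGE a' ∧ (DCoh.toD X G).IsLE b' ∧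
      Nonempty (DerivedCategory.Q.obj ((DCoh.restrictCx U).obj G) ≅ F) := by
  let V : Scheme.{u} := (U : Scheme.{u})
  let R := Scheme.Modules.restrictFunctor U.ι
  let ι := QCohCat.isQCoh V |>.ι
  haveI : PreservesFiniteColimits ι := inferInstance
  have hext : ∀ S : ShortComplex V.Modules, S.ShortExact → ι.essImage S.X₁ → ι.essImage S.X₃ →
      ι.essImage S.X₂ := by
    intro S hS ⟨A, ⟨eA⟩⟩ ⟨B, ⟨eB⟩⟩
    haveI : S.X₁.IsQuasicoherent := (Groth.QCohMod.isQCoh_iff_of_iso eA).1 A.property
    haveI : S.X₃.IsQuasicoherent := (Groth.QCohMod.isQCoh_iff_of_iso eB).1 B.property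
    exact ⟨⟨S.X₂, Groth.CohTwo.QCohExt.isQCoh_of_shortExact hS⟩, ⟨Iso.refl _⟩⟩
  have hinj : ∀ X' : QCohCat.QCoh V, ∃ (Y' : _) (i : X' ⟶ Y'), Mono i ∧ Injective (ι.obj Y') := by
    intro X'
    haveI : X'.obj.IsQuasicoherent := X'.property
    obtain ⟨Q, β, hβ, hq, hQ⟩ := Groth.CohTwo.QCohInj.exists_mono_qcoh_injective X'.obj
    exact ⟨⟨Q, hq⟩, ObjectProperty.homMk β, ι.mono_of_mono_map hβ, hQ⟩
  obtain ⟨I, hI, -, ⟨eI⟩⟩ := Groth.CohTwo.EssResolution.exists_iso ι hext hinj F a
    (fun i => ⟨⟨_, (hF i).1⟩, ⟨Iso.refl _⟩⟩)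
  let J := (ι.mapHomologicalComplex (ComplexShape.up ℤ)).obj I
  let eJ : DerivedCategory.Q.obj J ≅ F := (ι.mapDerivedCategoryFactors.app I).symm ≪≫ eI
  let P := ((Scheme.Modules.pushforward U.ι).mapHomologicalComplex (ComplexShape.up ℤ)).obj J
  haveI : QuasiCompact U.ι := inferInstance
  haveI : ∀ q, (P.X q).IsQuasicoherent := fun q => by
    haveI : (J.X q).IsQuasicoherent := (I.X q).property
    exact Groth.QCohMod.isQCoh_pushforward (M := J.X q) U.ι
  haveI : IsIso (Scheme.Modules.restrictAdjunction U.ι).counit := inferInstance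
  let eP : (R.mapHomologicalComplex (ComplexShape.up ℤ)).obj P ≅ J :=
    HomologicalComplex.Hom.isoOfComponents
      (fun q => (asIso (Scheme.Modules.restrictAdjunction U.ι).counit).app (J.X q))
      (fun p q _ => ((Scheme.Modules.restrictAdjunction U.ι).counit.naturality (J.d p q)).symm)
  have eH : ∀ n, Nonempty (R.obj (P.homology n) ≅ DCoh.HD F n) := fun n =>
    ⟨((P.sc n).mapHomologyIso R).symm ≪≫
      (HomologicalComplex.homologyFunctor V.Modules (ComplexShape.up ℤ) n).mapIso eP ≪≫
      ((DerivedCategory.homologyFunctorFactors V.Modules n).app J).symm ≪≫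
      (DerivedCategory.homologyFunctor V.Modules n).mapIso eJ⟩
  obtain ⟨G, i, hG, hGa, hGb, hqi⟩ := Groth.CohExtendCx.exists_coherent_subcomplex U P b
    (fun n => Groth.QCohMod.isCoh_of_iso (eH n).some.symm (hF n))
    (fun n hn => (DerivedCategory.isZero_of_isLE F b n hn).of_iso (eH n).some) a
    (fun n hn => (Scheme.Modules.pushforward U.ι).map_isZero
      (ι.map_isZero (I.isZero_of_isStrictlyGE a n hn)))
  haveI : G.IsStrictlyGE a := (CochainComplex.isStrictlyGE_iff G a).2 hGa
  haveI : G.IsStrictlyLE b := (CochainComplex.isStrictlyLE_iff G b).2 hGb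
  haveI := hqi
  haveI : IsIso (DerivedCategory.Q.map ((R.mapHomologicalComplex (ComplexShape.up ℤ)).map i)) :=
    (DerivedCategory.isIso_Q_map_iff_quasiIso _ _).2 hqi
  exact ⟨G, a, b, fun n => Groth.QCohMod.isCoh_of_iso
      ((DerivedCategory.homologyFunctorFactors X.Modules n).app G).symm (isCoh_homology G hG n),
    (inferInstance : (DerivedCategory.Q.obj G).IsGE a),
    (inferInstance : (DerivedCategory.Q.obj G).IsLE b),
    ⟨asIso (DerivedCategory.Q.map ((R.mapHomologicalComplex (ComplexShape.up ℤ)).map i)) ≪≫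
      DerivedCategory.Q.mapIso eP ≪≫ eJ⟩⟩

end Groth.Agent.S1017
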