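import Groth.Statements.S10170
import Groth.Agent.AdicLinTop.Taut
import Mathlib.RingTheory.Nakayama

set_option autoImplicit false
universe u v
open LinTop

namespace Groth.Agent.S10170

/-- Let φ : A → B be a taut homomorphism of linearly topologized rings such that for every open ideal I
of A the induced ring map A/I → B/J, where J denotes the closure of φ(I)B, is faithfully flat.
Suppose A is Hausdorff and complete, and B is adic with some finitely generated ideal of definition.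
Then A is adic, and some finitely generated ideal of A is an ideal of definition. -/
theorem result
    (A : Type u) [CommRing A] [UniformSpace A] [IsUniformAddGroup A] [IsTopologicalRing A] [IsLinearTopology A A] [T2Space A] [CompleteSpace A]
    (B : Type v) [CommRing B] [UniformSpace B] [IsUniformAddGroup B] [IsTopologicalRing B] (hB : LinTop.IsAdicRing B)
    (hJ : ∃ J : Ideal B, LinTop.IsIdealOfDefinition B J ∧ J.FG)
    (φ : A →+* B) (hφ : LinTop.IsTautFFlat φ) :
    LinTop.IsAdicRing A ∧ ∃ I : Ideal A, LinTop.IsIdealOfDefinition A I ∧ I.FG := by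
  obtain ⟨J, hJ, hJfg⟩ := hJ
  obtain ⟨⟨J₁, hJ₁⟩, hT2, hC⟩ := hB
  haveI := Groth.AdicLinTop.isLinearTopology_of_isAdic hJ₁
  rw [isAdic_iff] at hJ₁
  have hJopen : ∀ n : ℕ, IsOpen ((J ^ n : Ideal B) : Set B) := fun n => by
    obtain ⟨a, ha⟩ := hJ₁.2 _ (hJ.1.mem_nhds J.zero_mem)
    refine Groth.AdicLinTop.isOpen_of_le (hJ₁.1 (a * n)) ?_
    rw [pow_mul]
    exact Ideal.pow_right_mono ha n
  have hI := Groth.AdicLinTop.isTautFFlat_idd hφ hJ
  set I := J.comap φ with hIdef
  obtain ⟨c, hc, hcle⟩ := Groth.AdicLinTop.exists_pow_le hJ (U := (I.map φ).closure)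
    (hφ.1.2.1 I hI.1)
  classical
  obtain ⟨S, hS⟩ := (Ideal.FG.pow hJfg : (J ^ c).FG)
  have hkey : J ^ c ≤ I.map φ ⊔ J ^ (c + c) := le_trans hcle
    (Groth.AdicLinTop.closure_le_of_isOpen
      (Groth.AdicLinTop.isOpen_of_le (hJopen (c + c)) le_sup_right) le_sup_left)
  have hTex : ∀ y ∈ S, ∃ T : Finset A, (T : Set A) ⊆ I ∧
      y ∈ (Ideal.span (T : Set A)).map φ ⊔ J ^ (c + c) := by
    intro y hy
    obtain ⟨a, ha, b, hb, rfl⟩ := Submodule.mem_sup.mp (hkey (hS.le (Submodule.subset_span hy)))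
    rw [Ideal.map, Ideal.span] at ha
    obtain ⟨T, hTI, hT⟩ := Submodule.mem_span_finite_of_mem_span ha
    have hTpre : ∀ t ∈ T, ∃ s ∈ I, φ s = t := fun t ht => hTI ht
    choose! s hsI hs using hTpre
    refine ⟨T.image s, ?_, ?_⟩
    · rw [Finset.coe_image]
      rintro _ ⟨t, ht, rfl⟩
      exact hsI t ht
    · refine Submodule.add_mem_sup ?_ hb
      refine (Submodule.span_le.mpr ?_) hT
      intro t ht
      rw [← hs t ht]
      exact Ideal.mem_map_of_mem φ
        (Submodule.subset_span (Finset.mem_coe.mpr (Finset.mem_image_of_mem s ht)))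
  choose! T hTI hT using hTex
  obtain ⟨I₀, hI₀fg, hI₀I, hI₀⟩ : ∃ I₀ : Ideal A, I₀.FG ∧ I₀ ≤ I ∧
      J ^ c ≤ I₀.map φ ⊔ J ^ c * J ^ c := by
    refine ⟨Ideal.span (S.biUnion T : Finset A), ⟨_, rfl⟩, ?_, ?_⟩
    · rw [Ideal.span_le, Finset.coe_biUnion]
      exact Set.iUnion₂_subset hTI
    · rw [← pow_add]
      conv_lhs => rw [← hS]
      rw [Submodule.span_le]
      intro y hy
      refine (SetLike.le_def.mp (sup_le_sup (Ideal.map_mono (Ideal.span_mono ?_)) le_rfl)) (hT y hy)
      exact Finset.coe_subset.mpr (Finset.subset_biUnion_of_mem T hy)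
  have hjac : J ^ c ≤ (⊥ : Ideal B).jacobson := le_trans (Ideal.pow_le_self hc.ne')
    (Groth.AdicLinTop.le_jacobson_of_topNilp fun x hx =>
      Groth.AdicLinTop.isTopologicallyNilpotent_of_mem hJ hx)
  have hle : J ^ c ≤ I₀.map φ :=
    Submodule.le_of_le_smul_of_le_jacobson_bot (Ideal.FG.pow hJfg) hjac hI₀
  have hA : IsAdic I₀ := by
    refine Groth.AdicLinTop.isAdic_of_fg hI₀fg (fun n => ?_) fun U hU => ?_
    · have hV : IsOpen ((((I₀.map φ) ^ n).comap φ : Ideal A) : Set A) := by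
        refine IsOpen.preimage hφ.1.1 (Groth.AdicLinTop.isOpen_of_le (hJopen (c * n)) ?_)
        rw [pow_mul]
        exact Ideal.pow_right_mono hle n
      refine Groth.AdicLinTop.isOpen_of_le (J := (I₀ ^ n).closure) hV fun x hx => ?_
      refine Groth.AdicLinTop.mem_closure_iff.mpr fun W hW => ?_
      refine Groth.AdicLinTop.mem_of_map_mem hφ (Groth.AdicLinTop.isOpen_of_le hW le_sup_right) ?_
      rw [Ideal.mem_comap, ← Ideal.map_pow] at hx
      exact Groth.AdicLinTop.le_closure _ (Ideal.map_mono le_sup_left hx)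
    · obtain ⟨W, hW, hWU⟩ := Groth.AdicLinTop.exists_open_ideal_subset hU
      obtain ⟨n, -, hn⟩ := Groth.AdicLinTop.exists_pow_le hI hW
      exact ⟨n, subset_trans (SetLike.coe_subset_coe.mpr (Groth.AdicLinTop.closure_le_of_isOpen hW
        ((Ideal.pow_right_mono hI₀I n).trans hn))) hWU⟩
  refine ⟨⟨⟨I₀, hA⟩, inferInstance, inferInstance⟩, I₀, ⟨?_, fun U hU => ?_⟩, hI₀fg⟩
  · simpa using (isAdic_iff.mp hA).1 1
  · obtain ⟨n, hn, h⟩ := hI.2 U hU
    exact ⟨n, hn, subset_trans (SetLike.coe_subset_coe.mpr (Ideal.pow_right_mono hI₀I n)) h⟩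

end Groth.Agent.S10170
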