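import Groth.Statements.S10173
import Groth.Agent.AdicLinTop.ModuleCompletion

set_option autoImplicit false
universe u v
open LinTop

namespace Groth.Agent.S10173

/-- Let R be a commutative ring, I a finitely generated ideal and M a topological R-module (additive
uniform structure, each scalar acting uniformly continuously) having an open submodule M' whose
topology is the I-adic one, i.e. the I^n M' are open in M and form a fundamental system of
neighbourhoods of 0. Then the separated completion M^ has an open submodule whose topology is I-adic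
in the same sense, and for every n ≥ 1 the map M → M^/I^n M^ is surjective with kernel I^n M,
identifying M^/I^n M^ with M/I^n M. -/
theorem result
    {R : Type u} [CommRing R] (I : Ideal R) (hI : I.FG)
    {M : Type v} [AddCommGroup M] [Module R M] [UniformSpace M] [IsUniformAddGroup M]
    [UniformContinuousConstSMul R M]
    (M' : Submodule R M) (hopen : ∀ n : ℕ, IsOpen ((I ^ n • M' : Submodule R M) : Set M))
    (hbasis : ∀ U ∈ nhds (0 : M), ∃ n : ℕ, ((I ^ n • M' : Submodule R M) : Set M) ⊆ U) :
    (∃ M'' : Submodule R (UniformSpace.Completion M),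
        (∀ n : ℕ, IsOpen ((I ^ n • M'' : Submodule R (UniformSpace.Completion M)) :
          Set (UniformSpace.Completion M))) ∧
        ∀ U ∈ nhds (0 : UniformSpace.Completion M), ∃ n : ℕ,
          ((I ^ n • M'' : Submodule R (UniformSpace.Completion M)) :
            Set (UniformSpace.Completion M)) ⊆ U) ∧
      ∀ n : ℕ, 0 < n →
        Function.Surjective ((QuotientAddGroup.mk' (I ^ n • ⊤ : Submodule R (UniformSpace.Completion M)).toAddSubgroup).comp
          (UniformSpace.Completion.toCompl : M →+ UniformSpace.Completion M)) ∧
        ((QuotientAddGroup.mk' (I ^ n • ⊤ : Submodule R (UniformSpace.Completion M)).toAddSubgroup).comp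
          (UniformSpace.Completion.toCompl : M →+ UniformSpace.Completion M)).ker = (I ^ n • ⊤ : Submodule R M).toAddSubgroup := by
  have hbD := Groth.AdicLinTop.ModuleCompletion.hasBasis_D hopen hbasis
  have heq : ∀ n : ℕ, I ^ n • Groth.AdicLinTop.ModuleCompletion.D I M' 0 =
      Groth.AdicLinTop.ModuleCompletion.D I M' n := fun n =>
    le_antisymm (Groth.AdicLinTop.ModuleCompletion.smul_D_le I M' n)
      (Groth.AdicLinTop.ModuleCompletion.D_le_smul hI hopen hbasis n)
  refine ⟨⟨Groth.AdicLinTop.ModuleCompletion.D I M' 0, fun n => ?_, fun U hU => ?_⟩, fun n hn => ?_⟩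
  · rw [heq]
    exact (Groth.AdicLinTop.ModuleCompletion.D I M' n).toAddSubgroup.isOpen_of_mem_nhds (g := 0)
      (hbD.mem_of_mem trivial)
  · obtain ⟨n, -, hn⟩ := hbD.mem_iff.mp hU
    exact ⟨n, by rw [heq]; exact hn⟩
  · have hDle : ∀ m : ℕ, Groth.AdicLinTop.ModuleCompletion.D I M' m ≤
        (I ^ m • ⊤ : Submodule R (UniformSpace.Completion M)) := fun m =>
      (heq m).ge.trans (Submodule.smul_mono le_rfl le_top)
    refine ⟨fun z => ?_, ?_⟩
    · obtain ⟨z, rfl⟩ := QuotientAddGroup.mk_surjective z
      obtain ⟨_, ⟨m, rfl⟩, hm⟩ := Groth.AdicLinTop.ModuleCompletion.exists_near hopen hbasis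
        (UniformSpace.Completion.denseRange_coe z) n
      refine ⟨m, ?_⟩
      refine (QuotientAddGroup.eq).mpr ?_
      have := hDle n hm
      simpa [UniformSpace.Completion.toCompl, neg_add_eq_sub] using this
    · ext m
      rw [AddMonoidHom.mem_ker, AddMonoidHom.comp_apply, QuotientAddGroup.mk'_apply,
        QuotientAddGroup.eq_zero_iff]
      change (m : UniformSpace.Completion M) ∈
        (I ^ n • ⊤ : Submodule R (UniformSpace.Completion M)) ↔ m ∈ (I ^ n • ⊤ : Submodule R M)
      refine ⟨fun h => ?_, fun h => ?_⟩
      · have key : ∀ z ∈ (I ^ n • ⊤ : Submodule R (UniformSpace.Completion M)),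
            ∃ a ∈ (I ^ n • ⊤ : Submodule R M), z - (a : UniformSpace.Completion M) ∈
              Groth.AdicLinTop.ModuleCompletion.D I M' n := by
          intro z hz
          refine Submodule.smul_induction_on hz (fun c hc y _ => ?_) ?_
          · obtain ⟨_, ⟨y', rfl⟩, hy⟩ := Groth.AdicLinTop.ModuleCompletion.exists_near hopen hbasis
              (UniformSpace.Completion.denseRange_coe y) 0
            refine ⟨c • y', Submodule.smul_mem_smul hc Submodule.mem_top, ?_⟩
            rw [UniformSpace.Completion.coe_smul, ← smul_sub]
            exact Groth.AdicLinTop.ModuleCompletion.smul_D_le I M' n (Submodule.smul_mem_smul hc hy)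
          · rintro y y' ⟨a, ha, hay⟩ ⟨a', ha', hay'⟩
            refine ⟨a + a', add_mem ha ha', ?_⟩
            rw [UniformSpace.Completion.coe_add, add_sub_add_comm]
            exact add_mem hay hay'
        obtain ⟨a, ha, hza⟩ := key _ h
        have hclosed : IsClosed ((I ^ n • M' : Submodule R M) : Set M) :=
          AddSubgroup.isClosed_of_isOpen (I ^ n • M').toAddSubgroup (hopen n)
        have h3 : m - a ∈ closure ((I ^ n • M' : Submodule R M) : Set M) := by
          rw [(UniformSpace.Completion.isUniformInducing_coe M).isInducing.closure_eq_preimage_closure_image,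
            Set.mem_preimage, UniformSpace.Completion.coe_sub]
          exact hza
        rw [hclosed.closure_eq] at h3
        have h4 : m - a ∈ (I ^ n • ⊤ : Submodule R M) :=
          Submodule.smul_mono le_rfl le_top h3
        exact sub_add_cancel m a ▸ add_mem h4 ha
      · refine Submodule.smul_induction_on h (fun c hc y _ => ?_) fun y y' hy hy' => ?_
        · rw [UniformSpace.Completion.coe_smul]
          exact Submodule.smul_mem_smul hc Submodule.mem_top
        · rw [UniformSpace.Completion.coe_add]
          exact add_mem hy hy' 

end Groth.Agent.S10173
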