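import Groth.Statements.S10183
import Groth.Agent.AlgSp2.FiniteImage
-- import your own Groth.Agent.* helpers here

set_option autoImplicit false
universe u
open CategoryTheory CategoryTheory.Limits AlgebraicGeometry Topology TopologicalSpace
open AlgSp

namespace Groth.Agent.S10183

/-- Let X be an algebraic space over a scheme S, a : h_U ⟶ X a representable etale map from a scheme U
over S, and R a scheme over S with h_R = h_U ×_X h_U whose two projections s, t : R ⟶ U are
quasi-compact (for instance if a is quasi-compact). Then the maps |U| → |X| and |R| → |X| have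
finite fibres. -/
theorem result {S : Scheme.{u}} (X : AlgSp.Space S) {R U : Over S}
    (a : (AlgSp.yon S).obj U ⟶ X.obj) (ha : AlgSp.RepWith @Etale a) (s t : R ⟶ U)
    (hR : IsPullback ((AlgSp.yon S).map t) ((AlgSp.yon S).map s) a a)
    [QuasiCompact s.left] [QuasiCompact t.left] (x : AlgSp.Points X.obj) :
    (AlgSp.Points.ofPt a ⁻¹' {x}).Finite ∧
      (AlgSp.Points.ofPt ((AlgSp.yon S).map t ≫ a) ⁻¹' {x}).Finite := by
  have hte : Etale t.left := Groth.AlgSpBasic.repWith_fst_of_isPullback hR.flip ha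
  have hse : Etale s.left := Groth.AlgSpBasic.repWith_fst_of_isPullback hR ha
  have key : ∀ (h : R ⟶ U) [Etale h.left] [QuasiCompact h.left] (u : ↥U.left),
      (h.left ⁻¹' {u}).Finite := fun h he _ u =>
      have := (Groth.AlgSpBasic.EtaleLocal.of_etale
        (P := (@LocallyQuasiFinite ⊓ @LocallyOfFiniteType : MorphismProperty Scheme.{u})) h.left he).1
      h.left.finite_preimage_singleton u
  have h1 : (AlgSp.Points.ofPt a ⁻¹' {x}).Finite := by
    rcases Set.eq_empty_or_nonempty (AlgSp.Points.ofPt a ⁻¹' {x}) with e | ⟨u₀, hu₀⟩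
    · rw [e]; exact Set.finite_empty
    · refine ((key t u₀).image s.left).subset fun u hu => ?_
      obtain ⟨z, hz₁, hz₂⟩ := (Groth.AlgSpBasic.ofPt_eq_ofPt_iff hR u₀ u).1
        (Eq.trans hu₀ (Eq.symm hu))
      exact ⟨z, hz₁, hz₂⟩
  refine ⟨h1, ?_⟩
  have e : AlgSp.Points.ofPt ((AlgSp.yon S).map t ≫ a) ⁻¹' {x} =
      ⋃ u ∈ AlgSp.Points.ofPt a ⁻¹' {x}, t.left ⁻¹' {u} := by
    ext r
    simp [Groth.AlgSpBasic.ofPt_comp_yon]
  rw [e]
  exact h1.biUnion fun u _ => key t u

end Groth.Agent.S10183
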