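import Groth.Statements.S10186
import Groth.Agent.AlgSpBasic.Sep
import Groth.Agent.AlgSpBasic.SepAffine

set_option autoImplicit false
universe u
open CategoryTheory CategoryTheory.Limits AlgebraicGeometry Topology TopologicalSpace
open AlgSp Groth.AlgSpBasic

namespace Groth.Agent.S10186

/-- Let X be an algebraic space over a scheme S such that for all affine schemes U, V over S mapping to
X and every scheme P over S representing h_U ×_X h_V, the scheme P is affine and the ring map from
the tensor product over the integers of the global sections of U and V to the global sections of P,
induced by the two projections, is surjective. Then X is separated over S. (The published statement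
concerns absolute separatedness, over the integers, which this hypothesis also gives and which
implies separatedness over S.) -/
theorem result {S : Scheme.{u}} (X : AlgSp.Space S)
    (h : ∀ (U V P : Over S) (a : (AlgSp.yon S).obj U ⟶ X.obj) (b : (AlgSp.yon S).obj V ⟶ X.obj)
      (fst : P ⟶ U) (snd : P ⟶ V),
      IsAffine U.left → IsAffine V.left →
      IsPullback ((AlgSp.yon S).map fst) ((AlgSp.yon S).map snd) a b →
        IsAffine P.left ∧ Function.Surjective
          (Algebra.TensorProduct.productMap fst.left.appTop.hom.toIntAlgHom snd.left.appTop.hom.toIntAlgHom)) :
    AlgSp.IsSeparatedSp X.obj := by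
  refine repWith_diag_of_affine @IsClosedImmersion X.property.diag
    fun U V W a b fst snd hU hV sq => ?_
  obtain ⟨hW, hs⟩ := h U V W a b fst snd hU hV sq
  have : IsClosedImmersion (toTensor fst.left snd.left) := (surjective_productMap_iff _ _).1 hs
  have : IsSeparated (prod.fst : U ⨯ V ⟶ U).left :=
    MorphismProperty.of_isPullback (P := @IsSeparated) (isPullback_prod_left U V).flip
      (inferInstance : IsSeparated V.hom)
  let n := toTensor (prod.fst : U ⨯ V ⟶ U).left (prod.snd : U ⨯ V ⟶ V).left
  have hn : IsSeparated (n ≫ terminal.from _) := by
    rw [Subsingleton.elim (n ≫ terminal.from _)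
      ((prod.fst : U ⨯ V ⟶ U).left ≫ terminal.from U.left)]
    infer_instance
  have : IsSeparated n := IsSeparated.of_comp n (terminal.from _)
  have : IsClosedImmersion ((prod.lift fst snd).left ≫ n) := by
    rw [comp_toTensor, lift_left_fst, lift_left_snd]; infer_instance
  exact IsClosedImmersion.of_comp _ n

end Groth.Agent.S10186
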