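import Groth.Statements.S10187
import Groth.Agent.AlgSpBasic.Sep
import Groth.Agent.AlgSpBasic.SepAffine

set_option autoImplicit false
universe u
open CategoryTheory CategoryTheory.Limits AlgebraicGeometry Topology TopologicalSpace
open AlgSp Groth.AlgSpBasic

namespace Groth.Agent.S10187

/-- Let S be a separated scheme and X an algebraic space over S whose diagonal over S is a closed
immersion. Then for all affine schemes U, V over S mapping to X and every scheme P over S
representing h_U ×_X h_V, the scheme P is affine and the ring map from the tensor product over the
integers of the global sections of U and V to the global sections of P, induced by the projections,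
is surjective. (The published statement uses absolute separatedness of X; over a separated base this
agrees with separatedness over S, and without a hypothesis on S the relative notion does not
suffice: take X = h_S for an affine line with doubled origin S and U, V the two copies of the line.) -/
theorem result {S : Scheme.{u}} [S.IsSeparated]
    (X : AlgSp.Space S) (hX : AlgSp.IsSeparatedSp X.obj) (U V P : Over S) (a : (AlgSp.yon S).obj U ⟶ X.obj) (b : (AlgSp.yon S).obj V ⟶ X.obj)
      (fst : P ⟶ U) (snd : P ⟶ V)
    (hU : IsAffine U.left) (hV : IsAffine V.left)
    (h : IsPullback ((AlgSp.yon S).map fst) ((AlgSp.yon S).map snd) a b) :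
    IsAffine P.left ∧ Function.Surjective
          (Algebra.TensorProduct.productMap fst.left.appTop.hom.toIntAlgHom snd.left.appTop.hom.toIntAlgHom) := by
  have : IsClosedImmersion (prod.lift fst snd).left := prop_lift_of_repWith_diag hX h
  let e := (isPullback_prod_left U V).isoPullback
  let c := (prod.lift fst snd).left ≫ e.hom
  have : IsAffineHom V.hom := by
    have : IsAffineHom (V.hom ≫ terminal.from S) := by
      rw [Subsingleton.elim (V.hom ≫ terminal.from S) (V.left.toSpecΓ ≫ terminal.from _)]
      infer_instance
    exact MorphismProperty.of_postcomp (W' := @IsSeparated) @IsAffineHom V.hom (terminal.from S)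
      inferInstance this
  have : IsAffine (pullback U.hom V.hom) := isAffine_of_isAffineHom (pullback.fst U.hom V.hom)
  have : IsAffine P.left := isAffine_of_isAffineHom c
  refine ⟨this, (surjective_productMap_iff _ _).2 ?_⟩
  have : IsClosedImmersion (toTensor (pullback.fst U.hom V.hom) (pullback.snd U.hom V.hom)) :=
    isClosedImmersion_toTensor
  have : IsClosedImmersion (c ≫ toTensor (pullback.fst U.hom V.hom) (pullback.snd U.hom V.hom)) :=
    inferInstance
  rwa [comp_toTensor, Category.assoc, Category.assoc,
    IsPullback.isoPullback_hom_fst, IsPullback.isoPullback_hom_snd, lift_left_fst,
    lift_left_snd] at this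

end Groth.Agent.S10187
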