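import Groth.Statements.S10196
import Groth.Agent.AlgSpBasic.Immersion
import Groth.Agent.AlgSpBasic.Presentation
import Groth.Agent.AlgSpBasic.OpenSub
import Groth.Agent.AlgSpBasic.AlgSpace
import Groth.Agent.AlgSpBasic.Compact

set_option autoImplicit false
universe u
open CategoryTheory CategoryTheory.Limits AlgebraicGeometry Topology TopologicalSpace
open AlgSp Groth.AlgSpBasic

namespace Groth.Agent.S10196

/-- Let X be an algebraic space over a scheme S, a : h_U ⟶ X a representable etale map from a scheme U
over S, and X' ⟶ X the open subspace whose image in |X| is the (open) image of U. Then a factors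
through a representable etale and surjective a' : h_U ⟶ X', and if R is a scheme over S with h_R =
h_U ×_X h_U then also h_R = h_U ×_{X'} h_U and (U, R, a') is a presentation of X'. -/
theorem result {S : Scheme.{u}} {X X' : AlgSp.Space S} {U : Over S}
    (a : (AlgSp.yon S).obj U ⟶ X.obj) (ha : AlgSp.RepWith @Etale a)
    (j : X' ⟶ X) (hj : AlgSp.RepWith @IsOpenImmersion j.hom)
    (himage : Set.range (AlgSp.Points.map j.hom) = Set.range (AlgSp.Points.ofPt a)) :
    ∃ a' : (AlgSp.yon S).obj U ⟶ X'.obj, a' ≫ j.hom = a ∧ AlgSp.RepWith @Etale a' ∧ AlgSp.RepWith @Surjective a' ∧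
      ∀ (R : Over S) (s t : R ⟶ U), IsPullback ((AlgSp.yon S).map t) ((AlgSp.yon S).map s) a a →
        AlgSp.IsPresentation s t a' := by
  have : Mono j.hom := mono_of_repWith (fun _ _ g (_ : IsOpenImmersion g) => inferInstance) hj
  obtain ⟨a', ha'⟩ := exists_lift_of_range_openImmersion (IsAlgSpace.yon_obj U) hj a (by
    rw [himage]
    rintro _ ⟨x, rfl⟩
    obtain ⟨t, rfl⟩ := (Points.schemeHomeo U).surjective x
    exact ⟨t, ofPt_eq_map a t⟩)
  have he : RepWith @Etale a' := repWith_of_isPullback (isPullback_of_mono_comp ha') ha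
  have hs : RepWith @Surjective a' := repWith_surjective_of_ofPt he.rep fun x => by
    obtain ⟨t, ht⟩ := himage.le ⟨x, rfl⟩
    refine ⟨t, (isEmbedding_map_of_immersion X.property (repWith_mono
      (fun _ _ g (_ : IsOpenImmersion g) => (inferInstance : IsImmersion g)) hj)).1.injective ?_⟩
    rw [← ht, Points.map_ofPt, ha']
  refine ⟨a', ha', he, hs, fun R s t sq => ?_⟩
  have w : (yon S).map t ≫ a' = (yon S).map s ≫ a' := (cancel_mono j.hom).1 (by
    rw [Category.assoc, Category.assoc, ha']; exact sq.w)
  have sq' : IsPullback ((yon S).map t) ((yon S).map s) a' a' := by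
    refine IsPullback.mk ⟨w⟩ ⟨PullbackCone.IsLimit.mk _ (fun c => sq.lift c.fst c.snd ?_) ?_ ?_ ?_⟩
    · rw [← ha', ← Category.assoc, ← Category.assoc, c.condition]
    · exact fun c => sq.lift_fst _ _ _
    · exact fun c => sq.lift_snd _ _ _
    · intro c m h₁ h₂
      exact sq.hom_ext (by rw [sq.lift_fst]; exact h₁) (by rw [sq.lift_snd]; exact h₂)
  exact ⟨isEtaleEqvRel_of_isPullback sq' he, he, hs, sq'⟩

end Groth.Agent.S10196
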