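import Groth.Statements.S10197
import Groth.Agent.AlgSpBasic.Glue
import Groth.Agent.AlgSpBasic.OpenSub
import Groth.Agent.AlgSpBasic.Immersion

set_option autoImplicit false
universe u
open CategoryTheory CategoryTheory.Limits AlgebraicGeometry Topology TopologicalSpace
open AlgSp Groth.AlgSpBasic

namespace Groth.Agent.S10197

/-- An algebraic space X over a scheme S has a largest open subspace which is a scheme: there is an open
subspace X' ⟶ X whose underlying sheaf is representable by a scheme over S, through which every open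
subspace of X with representable underlying sheaf factors. -/
theorem result {S : Scheme.{u}} (X : AlgSp.Space S) :
    ∃ (X' : AlgSp.Space S) (j : X' ⟶ X), AlgSp.RepWith @IsOpenImmersion j.hom ∧ X'.obj.obj.IsRepresentable ∧
      ∀ (X'' : AlgSp.Space S) (j'' : X'' ⟶ X), AlgSp.RepWith @IsOpenImmersion j''.hom →
        X''.obj.obj.IsRepresentable → ∃ k : X'' ⟶ X', k ≫ j = j'' := by
  classical
  obtain ⟨U, a, ha, has⟩ := X.property.atlas
  -- the points of the chart lying in some schematic open subspace
  let Good : ↥U.left → Prop := fun u => ∃ V : Set (AlgSp.Points X.obj), IsOpen V ∧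
    AlgSp.Points.ofPt a u ∈ V ∧ ∃ T : Over S, Nonempty ((AlgSp.yon S).obj T ≅ openSub X.obj V)
  let ι := {u : ↥U.left // Good u}
  choose V hVo hVu T hT using fun i : ι => i.2
  let W : Set (AlgSp.Points X.obj) := ⋃ i, V i
  have hW : IsOpen W := isOpen_iUnion hVo
  let φ (i : ι) : (AlgSp.yon S).obj (T i) ⟶ X.obj := (hT i).some.hom ≫ openSubι X.obj (V i)
  have hφ : ∀ i, AlgSp.RepWith @IsOpenImmersion (φ i) := fun i =>
    repWith_comp (repWith_isIso _) (repWith_openSubι (hVo i))
  have hr : ∀ i, Set.range (AlgSp.Points.map (φ i)) = V i := fun i => by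
    rw [show AlgSp.Points.map (φ i) = AlgSp.Points.map (openSubι X.obj (V i)) ∘
      AlgSp.Points.map (hT i).some.hom from funext fun x => AlgSp.Points.map_comp _ _ x,
      Function.Surjective.range_comp, range_map_openSubι]
    intro y
    exact ⟨AlgSp.Points.map (hT i).some.inv y, by
      rw [← AlgSp.Points.map_comp, Iso.inv_hom_id, AlgSp.Points.map_id]⟩
  have : Mono (openSubι X.obj W) := mono_of_repWith
    (fun _ _ g (_ : IsOpenImmersion g) => inferInstance) (repWith_openSubι hW)
  have hl : ∀ i, ∃ l : (AlgSp.yon S).obj (T i) ⟶ openSub X.obj W, l ≫ openSubι X.obj W = φ i :=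
    fun i => exists_lift_of_range_openImmersion (IsAlgSpace.yon_obj _) (repWith_openSubι hW) _
      (by rw [hr, range_map_openSubι]; exact Set.subset_iUnion V i)
  choose l hl using hl
  have hlo : ∀ i, AlgSp.RepWith @IsOpenImmersion (l i) := fun i => by
    refine repWith_of_isPullback (f := φ i) (a := 𝟙 _) (b := openSubι X.obj W) ?_ (hφ i)
    exact IsPullback.mk ⟨by rw [Category.id_comp, hl]⟩ ⟨PullbackCone.IsLimit.mk _
      (fun c => c.fst) (fun c => Category.comp_id _)
      (fun c => by rw [← cancel_mono (openSubι X.obj W), Category.assoc, hl, c.condition])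
      (fun c m h₁ _ => by simpa using h₁)⟩
  obtain ⟨G, ⟨e⟩⟩ := exists_iso_yon_of_openImmersions hlo fun T₀ g t => by
    have ht := (openSub_exists_lift_iff X.obj W _).1 ⟨g, rfl⟩ t
    obtain ⟨i, hi⟩ := Set.mem_iUnion.1 ht
    obtain ⟨x, hx⟩ := (hr i).ge hi
    obtain ⟨P, snd, fst, sq⟩ := (hlo i).rep g
    have hx' : AlgSp.Points.map (l i) x = AlgSp.Points.ofPt g t := by
      apply (isEmbedding_map_of_immersion X.property (repWith_mono
        (fun _ _ g (_ : IsOpenImmersion g) => (inferInstance : IsImmersion g))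
        (repWith_openSubι hW))).1.injective
      rw [← AlgSp.Points.map_comp, hl, hx, AlgSp.Points.map_ofPt]
    obtain ⟨v, -, hv⟩ := (map_eq_ofPt_iff sq x t).1 hx'
    exact ⟨i, P, fst, snd, sq, v, hv⟩
  refine ⟨⟨openSub X.obj W, isAlgSpace_openSub X.property hW⟩,
    ObjectProperty.homMk (openSubι X.obj W), repWith_openSubι hW,
    ⟨G, ⟨(Functor.RepresentableBy.equivUliftYonedaIso _ G).symm
      ((sheafToPresheaf _ _).mapIso e)⟩⟩, ?_⟩
  intro X'' j'' hj'' hX''
  obtain ⟨G', ⟨r⟩⟩ := hX''.has_representation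
  let e' := AlgSp.isoOfRepresentableBy r
  have hsub : Set.range (AlgSp.Points.map j''.hom) ⊆ W := by
    rintro _ ⟨x, rfl⟩
    obtain ⟨u, hu⟩ := surjective_ofPt_of_repWith has (AlgSp.Points.map j''.hom x)
    have hVo' : IsOpen (Set.range (AlgSp.Points.map j''.hom)) :=
      (isOpenMap_map_of_repWith (fun _ _ g (_ : IsOpenImmersion g) => g.isOpenEmbedding.isOpenMap)
        hj'').isOpen_range
    have hg : Good u := by
      have : Mono (openSubι X.obj (Set.range (AlgSp.Points.map j''.hom))) := mono_of_repWith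
        (fun _ _ g (_ : IsOpenImmersion g) => inferInstance) (repWith_openSubι hVo')
      have : Mono j''.hom := mono_of_repWith
        (fun _ _ g (_ : IsOpenImmersion g) => inferInstance) hj''
      obtain ⟨k₁, hk₁⟩ := exists_lift_of_range_openImmersion X''.property (repWith_openSubι hVo')
        j''.hom (by rw [range_map_openSubι])
      obtain ⟨k₂, hk₂⟩ := exists_lift_of_range_openImmersion
        (isAlgSpace_openSub X.property hVo') hj''
        (openSubι X.obj (Set.range (AlgSp.Points.map j''.hom))) (by rw [range_map_openSubι])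
      refine ⟨_, hVo', ⟨x, hu.symm⟩, G', ⟨e' ≪≫ ⟨k₁, k₂, ?_, ?_⟩⟩⟩
      · rw [← cancel_mono j''.hom, Category.assoc, hk₂, hk₁, Category.id_comp]
      · rw [← cancel_mono (openSubι X.obj (Set.range (AlgSp.Points.map j''.hom))), Category.assoc,
          hk₁, hk₂, Category.id_comp]
    exact Set.mem_iUnion.2 ⟨⟨u, hg⟩, hu ▸ hVu ⟨u, hg⟩⟩
  obtain ⟨k, hk⟩ := exists_lift_of_range_openImmersion X''.property (repWith_openSubι hW) j''.hom
    (by rw [range_map_openSubι]; exact hsub)
  exact ⟨ObjectProperty.homMk k, ObjectProperty.hom_ext _ hk⟩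

end Groth.Agent.S10197
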