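import Groth.Statements.S10198
import Groth.Agent.AlgSpBasic.LocallyQS

set_option autoImplicit false
universe u
open CategoryTheory CategoryTheory.Limits AlgebraicGeometry Topology TopologicalSpace
open AlgSp Groth.AlgSpBasic

namespace Groth.Agent.S10198

/-- (1) if and only if (3): for an algebraic space X over a scheme S, X is Zariski locally
quasi-separated over S (it has a Zariski covering by open subspaces whose diagonals over S are
quasi-compact) if and only if X has a Zariski covering by open subspaces each of which admits a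
quasi-compact, etale, surjective map from an affine scheme. Since the second condition does not
mention S, being Zariski locally quasi-separated does not depend on the base. -/
theorem result {S : Scheme.{u}} (X : AlgSp.Space S) :
    (∃ (ι : Type u) (Xi : ι → AlgSp.Space S) (j : ∀ i, Xi i ⟶ X),
        AlgSp.IsZarCover (fun i => (Xi i).obj) (fun i => (j i).hom) ∧ ∀ i, AlgSp.IsQuasiSeparatedSp (Xi i).obj) ↔
      (∃ (ι : Type u) (Xi : ι → AlgSp.Space S) (j : ∀ i, Xi i ⟶ X),
        AlgSp.IsZarCover (fun i => (Xi i).obj) (fun i => (j i).hom) ∧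
          ∀ i, ∃ (U : Over S) (p : (AlgSp.yon S).obj U ⟶ (Xi i).obj), IsAffine U.left ∧
            AlgSp.RepWith @QuasiCompact p ∧ AlgSp.RepWith @Etale p ∧ AlgSp.RepWith @Surjective p) := by
  constructor
  · rintro ⟨ι, Xi, j, ⟨hj, hcov⟩, hqs⟩
    choose U p hp hps using fun i => (Xi i).property.atlas
    choose W o K q hW ho hK hqq hqe hqs' hu using fun iu : Σ i, ↥(U i).left =>
      Groth.AlgSpBasic.exists_affine_qc_chart (Xi iu.1).property (hqs iu.1) (hp iu.1) iu.2
    refine ⟨Σ i, ↥(U i).left, fun iu => ⟨W iu, hW iu⟩, fun iu => ⟨o iu⟩ ≫ j iu.1, ⟨fun iu => ?_,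
      fun x => ?_⟩, fun iu => ⟨K iu, q iu, hK iu, hqq iu, hqe iu, hqs' iu⟩⟩
    · exact Groth.AlgSpBasic.repWith_comp (ho iu) (hj iu.1)
    · obtain ⟨i, y, rfl⟩ := hcov x
      obtain ⟨u, rfl⟩ := Groth.AlgSpBasic.surjective_ofPt_of_repWith (hps i) y
      obtain ⟨z, hz⟩ := hu ⟨i, u⟩
      refine ⟨⟨i, u⟩, z, ?_⟩
      show AlgSp.Points.map (o ⟨i, u⟩ ≫ (j i).hom) z = _
      rw [AlgSp.Points.map_comp, hz]
  · rintro ⟨ι, Xi, j, hc, h⟩
    refine ⟨ι, Xi, j, hc, fun i => ?_⟩
    obtain ⟨U, p, hU, hq, hp, hps⟩ := h i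
    exact Groth.AlgSpBasic.isQuasiSeparatedSp_of_affine_qc_chart hq hp hps

end Groth.Agent.S10198
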