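import Groth.Statements.S10200
import Groth.Agent.AlgSpBasic.DenseSchemeQS

set_option autoImplicit false
universe u
open CategoryTheory CategoryTheory.Limits AlgebraicGeometry Topology TopologicalSpace
open AlgSp Groth.AlgSpBasic

namespace Groth.Agent.S10200

/-- Let X be an algebraic space over a scheme S that is Zariski locally quasi-separated over S (for
example quasi-separated over S). Then there is a dense open subspace of X which is a scheme; more
precisely there is an open subspace X' ⟶ X with representable underlying sheaf such that |X'| is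
dense in |X| and contains every codimension 0 point of X (every point under which some etale chart
has a zero-dimensional local ring). -/
theorem result {S : Scheme.{u}} (X : AlgSp.Space S)
    (hX : ∃ (ι : Type u) (Xi : ι → AlgSp.Space S) (j : ∀ i, Xi i ⟶ X),
        AlgSp.IsZarCover (fun i => (Xi i).obj) (fun i => (j i).hom) ∧ ∀ i, AlgSp.IsQuasiSeparatedSp (Xi i).obj) :
    ∃ (X' : AlgSp.Space S) (j : X' ⟶ X), AlgSp.RepWith @IsOpenImmersion j.hom ∧ X'.obj.obj.IsRepresentable ∧
      Dense (Set.range (AlgSp.Points.map j.hom)) ∧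
      ∀ x : AlgSp.Points X.obj, AlgSp.HasAt (fun U u => ringKrullDim ↥(U.presheaf.stalk u) = 0) X.obj x →
        x ∈ Set.range (AlgSp.Points.map j.hom) := by
  obtain ⟨ι, Xi, j, hcov, hqs⟩ := hX
  have key : ∀ x : AlgSp.Points X.obj,
      AlgSp.HasAt (fun U u => ringKrullDim ↥(U.presheaf.stalk u) = 0) X.obj x →
        IsSchematicPt X.obj x := by
    intro x hx
    obtain ⟨i, y, rfl⟩ := hcov.2 x
    refine isSchematicPt_map (hcov.1 i) (isSchematicPt_of_qs (Xi i).property (hqs i) ?_)
    obtain ⟨U, p, hp, hps⟩ := (Xi i).property.atlas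
    obtain ⟨u, rfl⟩ := surjective_ofPt_of_repWith hps y
    refine ⟨U, p, u, hp, rfl, ?_⟩
    exact (hasAt_iff_forall etaleInvariant_ringKrullDim X.property _ _).1 hx U (p ≫ (j i).hom) u
      (repWith_comp hp (repWith_mono (P := @IsOpenImmersion) (Q := @Etale)
        (fun _ _ φ (_ : IsOpenImmersion φ) => inferInstance) (hcov.1 i))) (Points.map_ofPt _ _ _).symm
  obtain ⟨X', j', hj', hrep, hr⟩ := exists_schematic_openSub X
  exact ⟨X', j', hj', hrep, hr ▸ (dense_codimZero X.property).mono key, fun x hx => hr ▸ key x hx⟩

end Groth.Agent.S10200
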