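import Groth.Statements.S10203
import Groth.Agent.AlgSpBasic.EtaleLocalSets
import Groth.Agent.AlgSpBasic.Compact

set_option autoImplicit false
universe u
open CategoryTheory CategoryTheory.Limits AlgebraicGeometry Topology TopologicalSpace
open AlgSp Groth.AlgSpBasic

namespace Groth.Agent.S10203

/-- If X is a quasi-compact, locally Noetherian algebraic space over a scheme S, then |X| is a
Noetherian topological space. -/
theorem result {S : Scheme.{u}} (X : AlgSp.Space S)
    (hqc : AlgSp.IsQuasiCompactSp X.obj) (hX : AlgSp.IsLocNoethSp X.obj) :
    NoetherianSpace (AlgSp.Points X.obj) := by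
  have : CompactSpace (AlgSp.Points X.obj) := (isQuasiCompactSp_iff_compactSpace X.property).mp hqc
  have := noetherianSpace_of_isCompact (isCompact_univ (X := AlgSp.Points X.obj))
    (fun x _ => exists_noetherianSpace_nhd hX x)
  exact noetherian_univ_iff.mp this

end Groth.Agent.S10203
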