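import Groth.Statements.S10205
import Groth.Agent.AlgSp2.DecentCover
import Groth.Agent.AlgSp2.Decency
import Groth.Agent.AlgSp2.InfGlue
import Groth.Agent.AlgSpBasic.AlgSpace

set_option autoImplicit false
set_option backward.isDefEq.respectTransparency.types false
universe u
open CategoryTheory CategoryTheory.Limits AlgebraicGeometry Topology TopologicalSpace
open AlgSp Groth.AlgSpBasic

namespace Groth.Agent.S10205

/-- Let X be an algebraic space over a scheme S, k a field with a structure morphism Spec k ⟶ S, and p :
h_{Spec k} ⟶ X a surjective etale map. If the diagonal of X over S is quasi-compact, then X ≅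
h_{Spec k'} for a field k' over S, where p corresponds to a finite etale morphism Spec k ⟶ Spec k'
over S (that is, k is a finite separable extension of k'). (The published statement assumes X
quasi-separated in the absolute sense; the argument only uses that Spec k ×_X Spec k is
quasi-compact, which already follows from quasi-compactness of the diagonal over S since Spec k ×_S
Spec k is affine.) -/
theorem result {S : Scheme.{u}} (X : AlgSp.Space S)
    (hX : AlgSp.IsQuasiSeparatedSp X.obj) (k : Type u) [Field k] (str : Spec (CommRingCat.of k) ⟶ S)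
    (p : (AlgSp.yon S).obj (Over.mk str) ⟶ X.obj) (hp : AlgSp.RepWith @Etale p) (hs : AlgSp.RepWith @Surjective p) :
    ∃ (k' : Type u) (_ : Field k') (str' : Spec (CommRingCat.of k') ⟶ S)
      (e : (AlgSp.yon S).obj (Over.mk str') ≅ X.obj) (c : Over.mk str ⟶ Over.mk str'),
      (AlgSp.yon S).map c ≫ e.hom = p ∧ IsFinite c.left ∧ Etale c.left := by
  obtain ⟨S₀, hS₀, hs₀, -⟩ := exists_isAffineOpen_mem_and_subset (X := S)
    (x := str (IsLocalRing.closedPoint k)) (U := ⊤) trivial
  let T : Over S := Over.mk S₀.ι
  have : IsAffine T.left := hS₀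
  have hT : ∀ {Z : Over S} (a b : (AlgSp.yon S).obj Z ⟶ (AlgSp.yon S).obj T), a = b := fun a b => by
    obtain ⟨a', rfl⟩ := (AlgSp.yon S).map_surjective a
    obtain ⟨b', rfl⟩ := (AlgSp.yon S).map_surjective b
    congr 1
    ext1
    rw [← cancel_mono S₀.ι]
    exact (Over.w a').trans (Over.w b').symm
  let l : Over.mk str ⟶ T := Over.homMk (IsOpenImmersion.lift S₀.ι str (by
    rintro _ ⟨y, rfl⟩
    rw [Scheme.Opens.range_ι, Subsingleton.elim (α := Spec (CommRingCat.of k)) y (IsLocalRing.closedPoint k)]
    exact hs₀)) (IsOpenImmersion.lift_fac _ _ _)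
  obtain ⟨f, hf⟩ := Groth.AlgSp2.exists_desc_of_etale p hp hs ((AlgSp.yon S).map l)
    (fun Z a b _ => hT _ _)
  have hTT : ∀ {Z : AlgSp.Sp S} (a b : Z ⟶ (AlgSp.yon S).obj T), a = b := fun a b => by
    exact Groth.AlgSp2.hom_ext_yon fun U g => hT _ _
  let e : pullback f f ≅ X.obj ⨯ X.obj :=
    { hom := prod.lift (pullback.fst f f) (pullback.snd f f)
      inv := pullback.lift prod.fst prod.snd (hTT _ _)
      hom_inv_id := pullback.hom_ext
        ((Category.assoc _ _ _).trans ((congrArg (_ ≫ ·) (pullback.lift_fst _ _ _)).trans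
          ((prod.lift_fst _ _).trans (Category.id_comp _).symm)))
        ((Category.assoc _ _ _).trans ((congrArg (_ ≫ ·) (pullback.lift_snd _ _ _)).trans
          ((prod.lift_snd _ _).trans (Category.id_comp _).symm)))
      inv_hom_id := prod.hom_ext
        ((Category.assoc _ _ _).trans ((congrArg (_ ≫ ·) (prod.lift_fst _ _)).trans
          ((pullback.lift_fst _ _ _).trans (Category.id_comp _).symm)))
        ((Category.assoc _ _ _).trans ((congrArg (_ ≫ ·) (prod.lift_snd _ _)).trans
          ((pullback.lift_snd _ _ _).trans (Category.id_comp _).symm))) }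
  have := e.isIso_hom
  have hd : RepWith @QuasiCompact (pullback.diagonal f) := by
    have : pullback.diagonal f ≫ e.hom = Limits.diag X.obj := by
      apply prod.hom_ext
      · exact (Category.assoc _ _ _).trans ((congrArg (_ ≫ ·) (prod.lift_fst _ _)).trans
          ((pullback.diagonal_fst f).trans (prod.lift_fst _ _).symm))
      · exact (Category.assoc _ _ _).trans ((congrArg (_ ≫ ·) (prod.lift_snd _ _)).trans
          ((pullback.diagonal_snd f).trans (prod.lift_snd _ _).symm))
    refine repWith_of_isPullback (a := 𝟙 _) (b := e.hom) ?_ hX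
    exact IsPullback.of_horiz_isIso ⟨by rw [this, Category.id_comp]⟩
  exact Groth.AlgSp2.exists_iso_field_of_isDecent X.property
    (Groth.AlgSp2.isDecent_of_qs_affine X.property f hd) p hp hs

end Groth.Agent.S10205
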