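import Groth.Statements.S1021
import Groth.Agent.DerivedCoh.ClassGen.Bounds

set_option autoImplicit false
universe u
open CategoryTheory CategoryTheory.Limits AlgebraicGeometry
attribute [local instance] HasDerivedCategory.standard
open Perf Groth.DerivedCoh.ClassGen Filter

namespace Groth.Agent.S1021

/-- Let the scheme X be quasi-compact and quasi-separated, G a perfect object of D(O_X) generating
D_QCoh(O_X), and E ∈ D_QCoh(O_X). Then E is bounded above if and only if there is an N such that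
every morphism G[-i] ⟶ E with N ≤ i is zero. -/
theorem result (X : Scheme.{u}) [CompactSpace ↥X] [QuasiSeparatedSpace ↥X]
    (G : DCoh.D X) (hG : DCoh.IsPerfect G)
    (hgen : ∀ E : DCoh.D X, DCoh.IsQCohD E → (∀ (n : ℤ) (φ : G⟦n⟧ ⟶ E), φ = 0) → IsZero E)
    (E : DCoh.D X) (hE : DCoh.IsQCohD E) :
    (∃ b : ℤ, E.IsLE b) ↔ ∃ N : ℤ, ∀ i : ℤ, N ≤ i → ∀ φ : G⟦-i⟧ ⟶ E, φ = 0 := by
  rw [← bd_atBot_iff, bd_iff_homVan good_atBot hG hgen hE, HomVan, eventually_atBot]
  constructor
  · rintro ⟨N, hN⟩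
    exact ⟨-N, fun i hi => hN (-i) (by omega)⟩
  · rintro ⟨N, hN⟩
    exact ⟨-N, fun n hn => neg_neg n ▸ hN (-n) (by omega)⟩

end Groth.Agent.S1021
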