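import Groth.Statements.S10211
import Groth.Agent.AlgSpBasic.Points

set_option autoImplicit false
universe u
open CategoryTheory CategoryTheory.Limits AlgebraicGeometry Topology TopologicalSpace
open AlgSp Groth.AlgSpBasic

namespace Groth.Agent.S10211

/-- If f : X ⟶ Y is an etale morphism of algebraic spaces over a scheme S, then the induced map of
topological spaces |X| → |Y| is open. -/
theorem result {S : Scheme.{u}} {X Y : AlgSp.Space S} (f : X ⟶ Y)
    (hf : AlgSp.IsEtaleMor f.hom) :
    IsOpenMap (AlgSp.Points.map f.hom) := by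
  intro W hW
  obtain ⟨U, p, he, hs⟩ := X.property.atlas
  have : AlgSp.Points.map f.hom '' W =
      AlgSp.Points.ofPt (p ≫ f.hom) '' (AlgSp.Points.ofPt p ⁻¹' W) := by
    rw [← Set.image_preimage_eq W (surjective_ofPt_of_repWith hs), Set.image_image,
      Set.preimage_image_preimage]
    exact Set.image_congr' fun t => AlgSp.Points.map_ofPt p f.hom t
  rw [this]
  exact isOpenMap_ofPt_of_etale (hf p he) _ (AlgSp.Points.isOpen_iff.1 hW U p)

end Groth.Agent.S10211
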