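import Groth.Statements.S10212
import Groth.Agent.AlgSpBasic.LocPInst
import Groth.Agent.AlgSpBasic.RepWith
import Groth.Agent.AlgSpBasic.Diag

set_option autoImplicit false
universe u
open CategoryTheory CategoryTheory.Limits AlgebraicGeometry Topology TopologicalSpace
open AlgSp Groth.AlgSpBasic

namespace Groth.Agent.S10212

/-- Let X be an algebraic space over a scheme S, χ : U ⟶ U' a surjective etale morphism of schemes over
S and φ' : h_{U'} ⟶ X a map such that the composite h_χ ≫ φ' : h_U ⟶ X is (representable and) etale.
Then φ' is etale. -/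
theorem result {S : Scheme.{u}} (X : AlgSp.Space S) {U U' : Over S}
    (χ : U ⟶ U') [Etale χ.left] [Surjective χ.left] (φ' : (AlgSp.yon S).obj U' ⟶ X.obj)
    (h : AlgSp.RepWith @Etale ((AlgSp.yon S).map χ ≫ φ')) :
    AlgSp.RepWith @Etale φ' := by
  refine repWith_of_representable (representable_of_diag X.property.diag φ') fun U₀ V g fst snd sq => ?_
  obtain ⟨W, w₁, w₂, hW⟩ := exists_pullback_yon h.rep g
  obtain ⟨l, hl⟩ := (yon S).map_surjective (sq.lift ((yon S).map w₁ ≫ (yon S).map χ)
    ((yon S).map w₂) (by rw [Category.assoc]; exact hW.w))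
  obtain ⟨ψ, hψ⟩ := (yon S).map_surjective fst
  have e₁ : l ≫ ψ = w₁ ≫ χ := (yon S).map_injective (by
    rw [Functor.map_comp, Functor.map_comp, hl, hψ, sq.lift_fst])
  have e₂ : l ≫ snd = w₂ := (yon S).map_injective (by rw [Functor.map_comp, hl, sq.lift_snd])
  have hp : IsPullback ((yon S).map w₁) ((yon S).map l) ((yon S).map χ) ((yon S).map ψ) := by
    refine IsPullback.of_bot ?_ (by rw [← Functor.map_comp, ← Functor.map_comp, e₁]) (hψ ▸ sq)
    rw [← Functor.map_comp, e₂]
    exact hW
  have hp' := isPullback_left (isPullback_of_yon hp)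
  have : Etale l.left := MorphismProperty.of_isPullback (P := @Etale) hp' inferInstance
  have : Surjective l.left := MorphismProperty.of_isPullback (P := @Surjective) hp' inferInstance
  have : Etale (l.left ≫ snd.left) := by
    rw [← Over.comp_left, e₂]
    exact h.property g _ _ hW
  exact SourceDescent.etale_of_comp_surjective l.left snd.left

end Groth.Agent.S10212
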