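import Groth.Statements.S10213
import Groth.Agent.AlgSpBasic.Immersion
import Mathlib.AlgebraicGeometry.Morphisms.Etale
import Groth.Agent.AlgSpBasic.Presentation
import Groth.Agent.AlgSpBasic.OpenSub
import Groth.Agent.AlgSpBasic.AlgSpace

set_option autoImplicit false
universe u
open CategoryTheory CategoryTheory.Limits AlgebraicGeometry Topology TopologicalSpace
open AlgSp Groth.AlgSpBasic

namespace Groth.Agent.S10213

/-- For an algebraic space X over a scheme S there is a surjective etale map h_U ⟶ X where U is a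
disjoint union of affine schemes, each of which maps into an affine open of S. -/
theorem result {S : Scheme.{u}} (X : AlgSp.Space S) :
    ∃ (ι : Type u) (V : ι → Scheme.{u}) (_ : ∀ i, IsAffine (V i)) (q : (∐ V) ⟶ S)
      (p : (AlgSp.yon S).obj (Over.mk q) ⟶ X.obj),
      AlgSp.RepWith @Etale p ∧ AlgSp.RepWith @Surjective p ∧
        ∀ i, ∃ W : S.Opens, IsAffineOpen W ∧ ∀ v : ↥(V i), (Sigma.ι V i ≫ q) v ∈ W := by
  obtain ⟨U, a, ha, has⟩ := X.property.atlas
  have H : ∀ u : ↥U.left, ∃ V : U.left.Opens, u ∈ V ∧ IsAffineOpen V ∧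
      ∃ W : S.Opens, IsAffineOpen W ∧ V ≤ U.hom ⁻¹ᵁ W := fun u => by
    obtain ⟨W, hW, huW, -⟩ := exists_isAffineOpen_mem_and_subset (x := U.hom u) (U := ⊤) trivial
    obtain ⟨V, hV, huV, hVW⟩ :=
      exists_isAffineOpen_mem_and_subset (x := u) (U := U.hom ⁻¹ᵁ W) huW
    exact ⟨V, huV, hV, W, hW, hVW⟩
  choose V huV hV W hW hVW using H
  let d : (∐ fun u => (V u).toScheme) ⟶ U.left := Sigma.desc fun u => (V u).ι
  let k : Over.mk (d ≫ U.hom) ⟶ U := Over.homMk d
  have hd : Etale d := by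
    rw [IsZariskiLocalAtSource.iff_of_openCover (P := @Etale) (sigmaOpenCover _)]
    intro i
    rw [show (sigmaOpenCover fun u => (V u).toScheme).f i ≫ d = (V i).ι from Sigma.ι_desc _ _]
    exact (inferInstance : Etale (V i).ι)
  have hds : Surjective d := ⟨fun u => ⟨Sigma.ι (fun u => (V u).toScheme) u ⟨u, huV u⟩, by
    rw [← Scheme.Hom.comp_apply, Sigma.ι_desc]; rfl⟩⟩
  have h1 : RepWith @Etale ((yon S).map k) := (repWith_yon_map_iff _ k).2 hd
  have h2 : RepWith @Surjective ((yon S).map k) := (repWith_yon_map_iff _ k).2 hds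
  refine ⟨↥U.left, fun u => (V u).toScheme, fun u => hV u, d ≫ U.hom, (yon S).map k ≫ a,
    repWith_comp h1 ha, repWith_comp h2 has, fun i => ⟨W i, hW i, fun v => ?_⟩⟩
  rw [← Category.assoc, Sigma.ι_desc]
  exact hVW i v.2

end Groth.Agent.S10213
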