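import Groth.Statements.S10214
import Groth.Agent.AlgSpBasic.Immersion
import Groth.Agent.AlgSpBasic.Presentation
import Groth.Agent.AlgSpBasic.OpenSub
import Groth.Agent.AlgSpBasic.AlgSpace
import Groth.Agent.AlgSpBasic.Compact

set_option autoImplicit false
universe u
open CategoryTheory CategoryTheory.Limits AlgebraicGeometry Topology TopologicalSpace
open AlgSp Groth.AlgSpBasic

namespace Groth.Agent.S10214

/-- Every algebraic space X over a scheme S has a Zariski covering by open subspaces X_i such that each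
X_i has a surjective etale map from an affine scheme; moreover the affine schemes may be taken to
map into affine opens of S. -/
theorem result {S : Scheme.{u}} (X : AlgSp.Space S) :
    ∃ (ι : Type u) (Xi : ι → AlgSp.Space S) (j : ∀ i, Xi i ⟶ X),
      AlgSp.IsZarCover (fun i => (Xi i).obj) (fun i => (j i).hom) ∧
        ∀ i, ∃ (U : Over S) (p : (AlgSp.yon S).obj U ⟶ (Xi i).obj), IsAffine U.left ∧
          AlgSp.RepWith @Etale p ∧ AlgSp.RepWith @Surjective p ∧
          ∃ W : S.Opens, IsAffineOpen W ∧ ∀ v : ↥U.left, U.hom v ∈ W := by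
  obtain ⟨U, a, ha, has⟩ := X.property.atlas
  have H : ∀ u : ↥U.left, ∃ V : U.left.Opens, u ∈ V ∧ IsAffineOpen V ∧
      ∃ W : S.Opens, IsAffineOpen W ∧ V ≤ U.hom ⁻¹ᵁ W := fun u => by
    obtain ⟨W, hW, huW, -⟩ := exists_isAffineOpen_mem_and_subset (x := U.hom u) (U := ⊤) trivial
    obtain ⟨V, hV, huV, hVW⟩ :=
      exists_isAffineOpen_mem_and_subset (x := u) (U := U.hom ⁻¹ᵁ W) huW
    exact ⟨V, huV, hV, W, hW, hVW⟩
  choose V huV hV W hW hVW using H
  let U' (u : ↥U.left) : Over S := Over.mk ((V u).ι ≫ U.hom)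
  let k (u : ↥U.left) : U' u ⟶ U := Over.homMk (V u).ι
  have hk : ∀ u, RepWith @Etale ((yon S).map (k u) ≫ a) := fun u =>
    repWith_comp ((repWith_yon_map_iff _ (k u)).2 (inferInstance : Etale (V u).ι)) ha
  let O (u : ↥U.left) : Set (Points X.obj) := Set.range (Points.ofPt ((yon S).map (k u) ≫ a))
  have hO : ∀ u, IsOpen (O u) := fun u => (isOpenMap_ofPt_of_etale (hk u)).isOpen_range
  refine ⟨↥U.left, fun u => ⟨openSub X.obj (O u), isAlgSpace_openSub X.property (hO u)⟩,
    fun u => ObjectProperty.homMk (openSubι X.obj (O u)),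
    ⟨fun u => repWith_openSubι (hO u), fun x => ?_⟩, fun u => ?_⟩
  · obtain ⟨u, rfl⟩ := surjective_ofPt_of_repWith has x
    refine ⟨u, ((range_map_openSubι (X := X.obj) (W := O u))).ge ⟨⟨u, huV u⟩, ?_⟩⟩
    rw [ofPt_comp_yon]
    all_goals rfl
  · obtain ⟨p, hp⟩ := (openSub_exists_lift_iff X.obj (O u) ((yon S).map (k u) ≫ a)).2
      fun t => ⟨t, rfl⟩
    have : Mono (openSubι X.obj (O u)) :=
      mono_of_repWith (fun _ _ g (_ : IsOpenImmersion g) => inferInstance) (repWith_openSubι (hO u))
    have he : RepWith @Etale p := repWith_of_isPullback (isPullback_of_mono_comp hp) (hk u)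
    refine ⟨U' u, p, hV u, he, repWith_surjective_of_ofPt he.rep fun x => ?_, W u, hW u,
      fun v => hVW u v.2⟩
    obtain ⟨t, ht⟩ := ((range_map_openSubι (X := X.obj) (W := O u))).le ⟨x, rfl⟩
    refine ⟨t, (isEmbedding_map_of_immersion X.property (repWith_mono
      (fun _ _ g (_ : IsOpenImmersion g) => (inferInstance : IsImmersion g))
        (repWith_openSubι (hO u)))).1.injective ?_⟩
    rw [← ht, Points.map_ofPt, hp]

end Groth.Agent.S10214
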