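import Groth.Statements.S1022
import Groth.Agent.DerivedCoh.HomVanishShift

set_option autoImplicit false
universe u
open CategoryTheory CategoryTheory.Limits AlgebraicGeometry
attribute [local instance] HasDerivedCategory.standard
open Perf

namespace Groth.Agent.S1022

open Groth.DerivedCoh Pretriangulated

/-- Let the scheme X be quasi-compact and quasi-separated, P a perfect object of D(O_X), E ∈ D_QCoh(O_X)
and a ∈ ℤ. Then the morphisms P[-i] ⟶ E vanish for all large i if and only if the morphisms P[-i] ⟶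
τ_{≥ a}E vanish for all large i. -/
theorem result (X : Scheme.{u}) [CompactSpace ↥X] [QuasiSeparatedSpace ↥X]
    (P : DCoh.D X) (hP : DCoh.IsPerfect P) (E : DCoh.D X) (hE : DCoh.IsQCohD E) (a : ℤ) :
    (∃ N : ℤ, ∀ i : ℤ, N ≤ i → ∀ φ : P⟦-i⟧ ⟶ E, φ = 0) ↔
    (∃ N : ℤ, ∀ i : ℤ, N ≤ i → ∀ φ : P⟦-i⟧ ⟶ ((DerivedCategory.TStructure.t : CategoryTheory.Triangulated.TStructure (DCoh.D X)).truncGE a).obj E, φ = 0) := by
  let t := (DerivedCategory.TStructure.t : Triangulated.TStructure (DCoh.D X))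
  let T := (t.triangleLTGE a).obj E
  have hT : T ∈ distTriang _ := t.triangleLTGE_distinguished a E
  have h₁ : T.obj₁.IsLE (a - 1) := t.isLE_truncLT_obj E a (a - 1) (by omega)
  have h₃ : T.obj₃.IsGE a := t.isGE_truncGE_obj E a a le_rfl
  obtain ⟨hq₁, -⟩ := HomVanish.isQCohD_truncs T hT a h₁ h₃ hE
  obtain ⟨e, he⟩ := HomVanish.exists_shift_hom_eq_zero_low hP
  have h1 : ∀ i : ℤ, a - 1 - e ≤ i → ∀ φ : P⟦-i⟧ ⟶ T.obj₁, φ = 0 := fun i hi =>
    he _ (a - 1) (-i) hq₁ h₁ (by omega)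
  have h2 : ∀ i : ℤ, a - 1 - e ≤ i → ∀ φ : P⟦-i⟧ ⟶ T.obj₁⟦(1 : ℤ)⟧, φ = 0 := fun i hi =>
    he _ (a - 2) (-i) (Groth.Misc4.QCohDPerf.isQCohD_shift hq₁ 1)
      (haveI : t.IsLE T.obj₁ (a - 1) := h₁; t.isLE_shift T.obj₁ (a - 1) 1 (a - 2) (by omega)) (by omega)
  constructor
  · rintro ⟨N, hN⟩
    refine ⟨max N (a - 1 - e), fun i hi φ => ?_⟩
    obtain ⟨g, hg⟩ := Triangle.coyoneda_exact₃ T hT φ (h2 i (le_of_max_le_right hi) _)
    exact hg.trans (by rw [hN i (le_of_max_le_left hi) g]; exact zero_comp)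
  · rintro ⟨N, hN⟩
    refine ⟨max N (a - 1 - e), fun i hi φ => ?_⟩
    obtain ⟨g, hg⟩ := Triangle.coyoneda_exact₂ T hT φ (hN i (le_of_max_le_left hi) _)
    exact hg.trans (by rw [h1 i (le_of_max_le_right hi) g]; exact zero_comp)

end Groth.Agent.S1022
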