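import Groth.Statements.S10221
import Groth.Agent.AlgSpEt.Stalks
import Mathlib.Algebra.Homology.ShortComplex.Ab
-- import your own Groth.Agent.* helpers here

set_option autoImplicit false
set_option backward.isDefEq.respectTransparency false
universe u
open CategoryTheory CategoryTheory.Limits AlgebraicGeometry Topology TopologicalSpace
open AlgSp

namespace Groth.Agent.S10221

/-- Let X be an algebraic space over a scheme S. A short complex of abelian sheaves on the small etale
site of X (maps f, g with g ∘ f = 0) is exact if and only if it is exact on stalks at all geometric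
points x̄ of X: every element of the middle stalk killed by g_x̄ is in the image of f_x̄. -/
theorem result {S : Scheme.{u}} (X : AlgSp.Space S) (C : ShortComplex (AlgSp.AbEt X.obj)) :
    C.Exact ↔ ∀ p : AlgSp.FieldPt X.obj, p.IsGeometric →
      ∀ y : ↥((AlgSp.stalkEtFunctor AddCommGrpCat.{u + 1} p).obj C.X₂),
        ((AlgSp.stalkEtFunctor AddCommGrpCat.{u + 1} p).map C.g) y = 0 →
          ∃ x : ↥((AlgSp.stalkEtFunctor AddCommGrpCat.{u + 1} p).obj C.X₁),
            ((AlgSp.stalkEtFunctor AddCommGrpCat.{u + 1} p).map C.f) x = y := by
  let Φ := fun (p : AlgSp.FieldPt X.obj) (hp : p.IsGeometric) => Groth.AlgSpEt.ptEt p X.property hp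
  constructor
  · intro h p hp y hy
    have : PreservesFiniteLimits ((Φ p hp).sheafFiber (A := AddCommGrpCat.{u + 1})) := inferInstance
    have : ((Φ p hp).sheafFiber (A := AddCommGrpCat.{u + 1})).Additive :=
      Functor.additive_of_preserves_binary_products _
    exact (ShortComplex.ab_exact_iff _).1 (h.map ((Φ p hp).sheafFiber (A := AddCommGrpCat.{u + 1}))) y hy
  · intro h
    rw [ShortComplex.exact_iff_epi_toCycles]
    have hls : Sheaf.IsLocallySurjective C.toCycles := by
      refine Groth.AlgSpEt.isLocallySurjective_of_presheafFiber X C.toCycles.hom fun p hp => ?_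
      let F := (Φ p hp).sheafFiber (A := AddCommGrpCat.{u + 1})
      have : PreservesFiniteLimits F := inferInstance
      have : F.Additive := Functor.additive_of_preserves_binary_products _
      have hex : (C.map F).Exact := (ShortComplex.ab_exact_iff _).2 (h p hp)
      have : Epi (C.map F).toCycles := hex.epi_toCycles
      have : Epi (F.map C.toCycles) := by
        have : Mono (F.map C.iCycles) := inferInstance
        have h2 : F.map C.toCycles = (C.map F).toCycles ≫ (C.mapCyclesIso F).hom := by
          rw [← cancel_mono (F.map C.iCycles), Category.assoc, ShortComplex.mapCyclesIso_hom_iCycles,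
            ShortComplex.toCycles_i, ← F.map_comp, ShortComplex.toCycles_i]
          rfl
        rw [h2]
        infer_instance
      exact (AddCommGrpCat.epi_iff_surjective _).1 this
    infer_instance

end Groth.Agent.S10221
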