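import Groth.Statements.S10222
import Groth.Agent.AlgSpEt.Branches
-- import your own Groth.Agent.* helpers here

set_option autoImplicit false
set_option backward.isDefEq.respectTransparency false
universe u
open CategoryTheory CategoryTheory.Limits AlgebraicGeometry Topology TopologicalSpace
open AlgSp

namespace Groth.Agent.S10222

/-- (1) if and only if (2): an algebraic space X over a scheme S is reduced if and only if at each x ∈
|X| the local ring of X is reduced, the latter meaning that for some scheme U, some representable
etale h_U ⟶ X and some point u of U mapping to x, the local ring of U at u is reduced. (The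
assertions about global sections in the published statement are not part of this row.) -/
theorem result {S : Scheme.{u}} (X : AlgSp.Space S) :
    AlgSp.IsReducedSp X.obj ↔
      ∀ x : AlgSp.Points X.obj, AlgSp.HasAt (fun U u => _root_.IsReduced ↥(U.presheaf.stalk u)) X.obj x := by
  constructor
  · rintro ⟨U, a, ha, has, hU⟩ x
    have : IsReduced U.left := hU
    obtain ⟨u, hu⟩ := Groth.AlgSpBasic.surjective_ofPt_of_repWith has x
    exact ⟨U, a, u, ha, hu, inferInstance⟩
  · intro h
    obtain ⟨U, a, ha, has⟩ := X.property.atlas
    have : ∀ u : ↥U.left, _root_.IsReduced ↥(U.left.presheaf.stalk u) := fun u => by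
      obtain ⟨p, hp, hu⟩ := Groth.AlgSpEt.exists_geometric_point X.property (AlgSp.Points.ofPt a u)
      obtain ⟨V, b, v, hb, hv, hred⟩ := h (AlgSp.Points.ofPt a u)
      exact (Groth.AlgSpEt.isReduced_stalk_iff hp ha u hu.symm).2
        ((Groth.AlgSpEt.isReduced_stalk_iff hp hb v (hv.trans hu.symm)).1 hred)
    exact ⟨U, a, ha, has, isReduced_of_isReduced_stalk U.left⟩

end Groth.Agent.S10222
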