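import Groth.Statements.S10226
import Groth.Agent.AlgSpEt.Branches
-- import your own Groth.Agent.* helpers here

set_option autoImplicit false
set_option backward.isDefEq.respectTransparency false
universe u
open CategoryTheory CategoryTheory.Limits AlgebraicGeometry Topology TopologicalSpace
open AlgSp

namespace Groth.Agent.S10226

/-- Let X be a Noetherian algebraic space over a scheme S (quasi-compact, with quasi-compact diagonal
over S, and locally Noetherian) and x̄ a geometric point of X. Then the etale local ring of X at x̄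
is a Noetherian local ring. -/
theorem result {S : Scheme.{u}} (X : AlgSp.Space S)
    (hqc : AlgSp.IsQuasiCompactSp X.obj) (hqs : AlgSp.IsQuasiSeparatedSp X.obj) (hX : AlgSp.IsLocNoethSp X.obj)
    (p : AlgSp.FieldPt X.obj) (hp : p.IsGeometric) :
    IsNoetherianRing ↥(AlgSp.OEtStalk p) ∧ IsLocalRing ↥(AlgSp.OEtStalk p) := by
  obtain ⟨U, a, ha, has, hU⟩ := hX
  have : IsLocallyNoetherian U.left := hU
  obtain ⟨u, hu⟩ := Groth.AlgSpBasic.surjective_ofPt_of_repWith has (AlgSp.Points.mk p)
  obtain ⟨T, _, _, _, _, hT, ⟨e⟩⟩ := Groth.AlgSpEt.exists_strictHenselization hp ha u hu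
  obtain ⟨M⟩ := Groth.Hensel1.hensModel_of_isStrictHenselization (R := U.left.presheaf.stalk u) (S := T)
  have := M.isNoetherianRing_iff.1 inferInstance
  exact ⟨isNoetherianRing_of_ringEquiv T e, e.isLocalRing⟩

end Groth.Agent.S10226
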