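import Groth.Statements.S10227
import Groth.Agent.AlgSpEt.Branches
-- import your own Groth.Agent.* helpers here

set_option autoImplicit false
set_option backward.isDefEq.respectTransparency false
universe u
open CategoryTheory CategoryTheory.Limits AlgebraicGeometry Topology TopologicalSpace
open AlgSp

namespace Groth.Agent.S10227

/-- (1) ⇔ (4) ⇔ (5): let X be an algebraic space over a scheme S and x ∈ |X|. The following are
equivalent: for every scheme U, every etale h_U ⟶ X and every point u of U over x, the local ring of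
U at u has a unique minimal prime; for every such (U, u), the local ring of U at u is geometrically
unibranch; for every geometric point x̄ over x, the etale local ring of X at x̄ has a unique minimal
prime. -/
theorem result {S : Scheme.{u}} (X : AlgSp.Space S) (x : AlgSp.Points X.obj) :
    ((∀ (U : Over S) (a : (AlgSp.yon S).obj U ⟶ X.obj) (u : ↥U.left),
        AlgSp.RepWith @Etale a → AlgSp.Points.ofPt a u = x → CAlgX.HasUniqueMinimalPrime ↥(U.left.presheaf.stalk u)) ↔
      (∀ (U : Over S) (a : (AlgSp.yon S).obj U ⟶ X.obj) (u : ↥U.left),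
        AlgSp.RepWith @Etale a → AlgSp.Points.ofPt a u = x → CAlg2.IsGeomUnibranch ↥(U.left.presheaf.stalk u))) ∧
    ((∀ (U : Over S) (a : (AlgSp.yon S).obj U ⟶ X.obj) (u : ↥U.left),
        AlgSp.RepWith @Etale a → AlgSp.Points.ofPt a u = x → CAlgX.HasUniqueMinimalPrime ↥(U.left.presheaf.stalk u)) ↔
      ∀ p : AlgSp.FieldPt X.obj, p.IsGeometric → AlgSp.Points.mk p = x →
        CAlgX.HasUniqueMinimalPrime ↥(AlgSp.OEtStalk p)) := by
  have h14 : (∀ (U : Over S) (a : (AlgSp.yon S).obj U ⟶ X.obj) (u : ↥U.left),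
        AlgSp.RepWith @Etale a → AlgSp.Points.ofPt a u = x → CAlgX.HasUniqueMinimalPrime ↥(U.left.presheaf.stalk u)) ↔
      (∀ (U : Over S) (a : (AlgSp.yon S).obj U ⟶ X.obj) (u : ↥U.left),
        AlgSp.RepWith @Etale a → AlgSp.Points.ofPt a u = x → Brnch.numGeomBranchesAt U.left u = 1) := by
    constructor
    · intro h U a u ha hu
      exact le_antisymm
        (Groth.AlgSpEt.numGeomBranchesAt_le_of_forall (fun U a u ha hu =>
          ((Groth.AlgSpEt.hasUniqueMinimalPrime_iff_encard _).1 (h U a u ha hu)).le) ha u hu)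
        ((Groth.AlgSpEt.one_le_encard_minimalPrimes _).trans
          (Groth.AlgSpEt.encard_minimalPrimes_le_numGeomBranchesAt u))
    · intro h U a u ha hu
      exact (Groth.AlgSpEt.hasUniqueMinimalPrime_iff_encard _).2 (le_antisymm
        ((Groth.AlgSpEt.encard_minimalPrimes_le_numGeomBranchesAt u).trans (h U a u ha hu).le)
        (Groth.AlgSpEt.one_le_encard_minimalPrimes _))
  refine ⟨h14.trans ⟨fun h U a u ha hu => (Groth.Hensel1.numGeomBranches_eq_one_iff _).1 (h U a u ha hu),
    fun h U a u ha hu => (Groth.Hensel1.numGeomBranches_eq_one_iff _).2 (h U a u ha hu)⟩, h14.trans ⟨?_, ?_⟩⟩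
  · intro h p hp hpx
    obtain ⟨U, a, ha, has⟩ := X.property.atlas
    obtain ⟨u, hu⟩ := Groth.AlgSpBasic.surjective_ofPt_of_repWith has (AlgSp.Points.mk p)
    rw [Groth.AlgSpEt.hasUniqueMinimalPrime_iff_encard, ← Groth.AlgSpEt.numGeomBranchesAt_eq hp ha u hu]
    exact h U a u ha (hu.trans hpx)
  · intro h U a u ha hu
    obtain ⟨p, hp, hpx⟩ := Groth.AlgSpEt.exists_geometric_point X.property x
    rw [Groth.AlgSpEt.numGeomBranchesAt_eq hp ha u (hu.trans hpx.symm)]
    exact (Groth.AlgSpEt.hasUniqueMinimalPrime_iff_encard _).1 (h p hp hpx)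

end Groth.Agent.S10227
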