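import Groth.Statements.S10228
import Groth.Agent.AlgSpBasic.OpenSub
import Groth.Agent.AlgSpBasic.Compact

set_option autoImplicit false
universe u
open CategoryTheory CategoryTheory.Limits AlgebraicGeometry Topology TopologicalSpace
open AlgSp Groth.AlgSpBasic

namespace Groth.Agent.S10228

/-- An algebraic space that is the coproduct of finitely many quasi-compact algebraic spaces is
quasi-compact: if X_i (i in a finite type) are quasi-compact algebraic spaces over a scheme S and
the underlying sheaf of the algebraic space X is a coproduct of the underlying sheaves of the X_i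
(given by a colimit cofan of fppf sheaves whose cone point is the sheaf of X), then X is
quasi-compact. -/
theorem result {S : Scheme.{u}} {ι : Type u} [Finite ι] (Xi : ι → AlgSp.Space S)
    (X : AlgSp.Space S) (c : Cofan fun i => (Xi i).obj) (hc : IsColimit c) (hX : c.pt = X.obj)
    (hqc : ∀ i, AlgSp.IsQuasiCompactSp (Xi i).obj) :
    AlgSp.IsQuasiCompactSp X.obj := by
  have : ∀ i, CompactSpace (Points (Xi i).obj) := fun i =>
    (isQuasiCompactSp_iff_compactSpace (Xi i).property).1 (hqc i)
  have hpt : IsAlgSpace c.pt := hX ▸ X.property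
  rw [← hX, isQuasiCompactSp_iff_compactSpace hpt]
  let W : Set (Points c.pt) := ⋃ i, Set.range (Points.map (c.inj i))
  have hm : ∀ i T (x : (Xi i).obj.obj.obj T),
      (c.inj i).hom.app T x ∈ (openSubfunctor c.pt W).obj T := fun i T x t => by
    refine Set.mem_iUnion.2 ⟨i, Points.ofPt (yEquiv.symm x) t, ?_⟩
    rw [Points.map_ofPt]
    congr 1
    apply yEquiv.injective
    rw [Equiv.apply_symm_apply]
    refine ((J S).uliftYonedaEquiv_comp _ (c.inj i)).trans ?_
    exact congrArg ((c.inj i).hom.app T) (Equiv.apply_symm_apply yEquiv x)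
  let m (i : ι) : (Xi i).obj ⟶ openSub c.pt W :=
    ObjectProperty.homMk (Subfunctor.lift (c.inj i).hom fun T _ h => by
      obtain ⟨x, rfl⟩ := h
      exact hm i T x)
  let d : c.pt ⟶ openSub c.pt W := Cofan.IsColimit.desc hc m
  have hd : d ≫ openSubι c.pt W = 𝟙 c.pt := Cofan.IsColimit.hom_ext hc _ _ fun i => by
    rw [Category.comp_id, ← Category.assoc]
    erw [Cofan.IsColimit.fac hc m i]
    rfl
  refine ⟨?_⟩
  have : (Set.univ : Set (Points c.pt)) = W := by
    refine Set.eq_univ_iff_forall.2 (fun x => ?_) |>.symm
    refine (range_map_openSubι (X := c.pt) (W := W)).le ⟨Points.map d x, ?_⟩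
    rw [← Points.map_comp, hd, Points.map_id]
  rw [this]
  exact isCompact_iUnion fun i => isCompact_range (Points.continuous_map _)

end Groth.Agent.S10228
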