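import Groth.Statements.S1023
import Groth.Agent.DerivedCoh.HomVanishShift

set_option autoImplicit false
universe u
open CategoryTheory CategoryTheory.Limits AlgebraicGeometry
attribute [local instance] HasDerivedCategory.standard
open Perf

namespace Groth.Agent.S1023

open Groth.DerivedCoh Pretriangulated

/-- Let the scheme X be quasi-compact and quasi-separated, P a perfect object of D(O_X), E ∈ D_QCoh(O_X)
and a ∈ ℤ. Then the morphisms P[-i] ⟶ E vanish for all sufficiently negative i if and only if the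
morphisms P[-i] ⟶ τ_{≤ a}E vanish for all sufficiently negative i. -/
theorem result (X : Scheme.{u}) [CompactSpace ↥X] [QuasiSeparatedSpace ↥X]
    (P : DCoh.D X) (hP : DCoh.IsPerfect P) (E : DCoh.D X) (hE : DCoh.IsQCohD E) (a : ℤ) :
    (∃ N : ℤ, ∀ i : ℤ, i ≤ N → ∀ φ : P⟦-i⟧ ⟶ E, φ = 0) ↔
    (∃ N : ℤ, ∀ i : ℤ, i ≤ N → ∀ φ : P⟦-i⟧ ⟶ ((DerivedCategory.TStructure.t : CategoryTheory.Triangulated.TStructure (DCoh.D X)).truncLE a).obj E, φ = 0) := by
  let t := (DerivedCategory.TStructure.t : Triangulated.TStructure (DCoh.D X))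
  let T := (t.triangleLTGE (a + 1)).obj E
  have hT : T ∈ distTriang _ := t.triangleLTGE_distinguished (a + 1) E
  have h₃ : T.obj₃.IsGE (a + 1) := t.isGE_truncGE_obj E (a + 1) (a + 1) le_rfl
  obtain ⟨b, hb⟩ := HomVanish.exists_shift_hom_eq_zero_high hP
  have h1 : ∀ i : ℤ, i ≤ a - b - 1 → ∀ φ : P⟦-i⟧ ⟶ T.obj₃, φ = 0 := fun i hi =>
    hb _ (a + 1) (-i) h₃ (by omega)
  have h2 : ∀ i : ℤ, i ≤ a - b - 1 → ∀ φ : P⟦-i⟧ ⟶ T.obj₃⟦(-1 : ℤ)⟧, φ = 0 := fun i hi =>
    hb _ (a + 2) (-i)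
      (haveI : t.IsGE T.obj₃ (a + 1) := h₃; t.isGE_shift T.obj₃ (a + 1) (-1) (a + 2) (by omega)) (by omega)
  constructor
  · rintro ⟨N, hN⟩
    refine ⟨min N (a - b - 1), fun i hi φ => ?_⟩
    obtain ⟨g, hg⟩ := Triangle.coyoneda_exact₂ T.invRotate (inv_rot_of_distTriang _ hT) φ
      (hN i (le_trans hi (min_le_left _ _)) _)
    exact hg.trans (by rw [h2 i (le_trans hi (min_le_right _ _)) g]; exact zero_comp)
  · rintro ⟨N, hN⟩
    refine ⟨min N (a - b - 1), fun i hi φ => ?_⟩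
    obtain ⟨g, hg⟩ := Triangle.coyoneda_exact₂ T hT φ (h1 i (le_trans hi (min_le_right _ _)) _)
    have hg0 : g = 0 := hN i (le_trans hi (min_le_left _ _)) g
    exact hg.trans (by rw [hg0]; exact zero_comp)

end Groth.Agent.S1023
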