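import Groth.Agent.ModEtQCoh.Charts
import Groth.Agent.ModEtQCoh.Sections
-- import your own Groth.Agent.* helpers here

set_option autoImplicit false
universe u
open CategoryTheory CategoryTheory.Limits AlgebraicGeometry Topology TopologicalSpace
open AlgSp

namespace Groth.Agent.S10230

/-- Let X be an algebraic space over a scheme S and F a subsheaf of the final object of the small etale
topos of X, i.e. a sheaf of sets all of whose section sets have at most one element. Then there is a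
unique open W of |X| with F = h_W: for every U etale over X, F(U) is nonempty if and only if U ⟶ X
maps |U| into W. -/
theorem result {S : Scheme.{u}} (X : AlgSp.Space S)
    (F : AlgSp.EtSh X.obj (Type (u + 1))) (hF : ∀ E : AlgSp.EtOver X.obj, Subsingleton (F.obj.obj (Opposite.op E))) :
    ∃! W : Set (AlgSp.Points X.obj), IsOpen W ∧
      ∀ E : AlgSp.EtOver X.obj, Nonempty (F.obj.obj (Opposite.op E)) ↔ Set.range (AlgSp.Points.ofPt E.obj.hom) ⊆ W := by
  classical
  let W : Set (Points X.obj) := ⋃ (E : EtOver X.obj) (_ : Nonempty (F.obj.obj (Opposite.op E))), Set.range (Points.ofPt E.obj.hom)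
  have hW : IsOpen W := isOpen_iUnion fun E => isOpen_iUnion fun _ =>
    (Groth.AlgSpBasic.isOpenMap_ofPt_of_etale E.property).isOpen_range
  have key : ∀ E : EtOver X.obj, Nonempty (F.obj.obj (Opposite.op E)) ↔ Set.range (Points.ofPt E.obj.hom) ⊆ W := by
    intro E
    refine ⟨fun h x hx => Set.mem_iUnion₂.2 ⟨E, h, hx⟩, fun h => ?_⟩
    have hu : ∀ u : E.obj.left.left, ∃ (T : EtOver X.obj) (k : T ⟶ E) (t : T.obj.left.left),
        k.hom.left.left t = u ∧ Nonempty (F.obj.obj (Opposite.op T)) := by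
      intro u
      obtain ⟨E', hE', u', hu'⟩ := Set.mem_iUnion₂.1 (h ⟨u, rfl⟩)
      obtain ⟨T, k, k', t, -, hk, -⟩ := Groth.ModEtQCoh.exists_common_chart E E' u u' hu'.symm
      exact ⟨T, k, t, hk, hE'.map (F.obj.map k'.op)⟩
    choose T k t hk hT using hu
    have hg : Groth.ModEtQCoh.JointlySurj k := fun u => ⟨u, t u, hk u⟩
    obtain ⟨s, -, -⟩ := (Presieve.isSheafFor_arrows_iff F.obj k).1
      ((Presieve.isSheafFor_iff_generate _).2 (((isSheaf_iff_isSheaf_of_type _ _).1 F.property) _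
        (ofArrows_mem_etTop T k hg))) (fun u => (hT u).some) (fun i j Z a b _ => (hF Z).elim _ _)
    exact ⟨s⟩
  refine ⟨W, ⟨hW, key⟩, fun W' hW' => Set.Subset.antisymm (fun x hx => ?_) (fun x hx => ?_)⟩
  · obtain ⟨A, a, ha, has⟩ := X.property.atlas
    obtain ⟨u, rfl⟩ := Groth.AlgSpBasic.surjective_ofPt_of_repWith has x
    let O : A.left.Opens := ⟨Points.ofPt a ⁻¹' W', hW'.1.preimage (AlgSp.Points.continuous_ofPt a)⟩
    let j : Over.mk (O.ι ≫ A.hom) ⟶ A := Over.homMk O.ι rfl
    let E : EtOver X.obj := EtOver.mk ((yon S).map j ≫ a)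
      (Groth.AlgSpBasic.repWith_comp ((repWith_yon_map_iff _ j).2 (inferInstanceAs (Etale O.ι))) ha)
    have hE : Set.range (Points.ofPt E.obj.hom) ⊆ W' := by
      rintro _ ⟨v, rfl⟩
      show Points.ofPt ((yon S).map j ≫ a) v ∈ W'
      rw [Groth.AlgSpBasic.ofPt_comp_yon]
      exact v.2
    refine Set.mem_iUnion₂.2 ⟨E, (hW'.2 E).2 hE, ⟨u, hx⟩, ?_⟩
    show Points.ofPt ((yon S).map j ≫ a) ⟨u, hx⟩ = _
    rw [Groth.AlgSpBasic.ofPt_comp_yon]
    rfl
  · obtain ⟨E, hE, hxE⟩ := Set.mem_iUnion₂.1 hx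
    exact (hW'.2 E).1 hE hxE

end Groth.Agent.S10230
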