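import Groth.Statements.S10232
import Groth.Agent.AlgSpEt.Branches
-- import your own Groth.Agent.* helpers here

set_option autoImplicit false
set_option backward.isDefEq.respectTransparency false
universe u
open CategoryTheory CategoryTheory.Limits AlgebraicGeometry Topology TopologicalSpace
open AlgSp

namespace Groth.Agent.S10232

/-- Let X be an algebraic space over a scheme S and x ∈ |X|. Then X is regular at x (for some etale
chart h_U ⟶ X and some point u of U over x, the local ring of U at u is regular) if and only if the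
etale local ring of X at x̄ is regular for every geometric point x̄ lying over x, if and only if it
is regular for some geometric point x̄ lying over x. -/
theorem result {S : Scheme.{u}} (X : AlgSp.Space S) (x : AlgSp.Points X.obj) :
    (AlgSp.HasAt (fun U u => IsRegularLocalRing ↥(U.presheaf.stalk u)) X.obj x ↔
      ∀ p : AlgSp.FieldPt X.obj, p.IsGeometric → AlgSp.Points.mk p = x → IsRegularLocalRing ↥(AlgSp.OEtStalk p)) ∧
    (AlgSp.HasAt (fun U u => IsRegularLocalRing ↥(U.presheaf.stalk u)) X.obj x ↔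
      ∃ p : AlgSp.FieldPt X.obj, p.IsGeometric ∧ AlgSp.Points.mk p = x ∧ IsRegularLocalRing ↥(AlgSp.OEtStalk p)) := by
  obtain ⟨p₀, hp₀, rfl⟩ := Groth.AlgSpEt.exists_geometric_point X.property x
  have back : ∀ p : AlgSp.FieldPt X.obj, p.IsGeometric → AlgSp.Points.mk p = AlgSp.Points.mk p₀ →
      IsRegularLocalRing ↥(AlgSp.OEtStalk p) →
      AlgSp.HasAt (fun U u => IsRegularLocalRing ↥(U.presheaf.stalk u)) X.obj (AlgSp.Points.mk p₀) := by
    intro p hp hpx h
    obtain ⟨U, a, ha, has⟩ := X.property.atlas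
    obtain ⟨u, hu⟩ := Groth.AlgSpBasic.surjective_ofPt_of_repWith has (AlgSp.Points.mk p₀)
    exact ⟨U, a, u, ha, hu, (Groth.AlgSpEt.isRegularLocalRing_stalk_iff hp ha u (hu.trans hpx.symm)).2 h⟩
  refine ⟨⟨?_, fun h => back p₀ hp₀ rfl (h p₀ hp₀ rfl)⟩, ⟨?_, fun ⟨p, hp, hpx, h⟩ => back p hp hpx h⟩⟩
  · rintro ⟨U, a, u, ha, hu, h⟩ p hp hpx
    exact (Groth.AlgSpEt.isRegularLocalRing_stalk_iff hp ha u (hu.trans hpx.symm)).1 h
  · rintro ⟨U, a, u, ha, hu, h⟩
    exact ⟨p₀, hp₀, rfl, (Groth.AlgSpEt.isRegularLocalRing_stalk_iff hp₀ ha u hu).1 h⟩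

end Groth.Agent.S10232
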