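import Groth.Statements.S10233
import Groth.Agent.AlgSp3.SubSheaf

set_option autoImplicit false
set_option backward.isDefEq.respectTransparency.types false
universe u
open CategoryTheory CategoryTheory.Limits AlgebraicGeometry Topology TopologicalSpace
open AlgSp

namespace Groth.Agent.S10233

open CategoryTheory CategoryTheory.Limits AlgebraicGeometry Groth.AlgSpBasic

/-- Let X be an algebraic space over a scheme S with a presentation (U, R, s, t, p), and let i' : Z' ⟶ U
be an immersion of schemes that is R-invariant, meaning that one locally closed subscheme R' of R is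
at the same time the inverse image of Z' under s and under t. Then Z' descends to a locally closed
subspace of X: there is a morphism of algebraic spaces i : Z ⟶ X representable by immersions
together with a map h_{Z'} ⟶ Z making h_{Z'} the fibre product Z ×_X h_U; moreover i is a closed
(resp. open) immersion when i' is. -/
theorem result {S : Scheme.{u}} (X : AlgSp.Space S) {R U : Over S} (s t : R ⟶ U)
    (p : (AlgSp.yon S).obj U ⟶ X.obj) (hp : AlgSp.IsPresentation s t p)
    {Z' R' : Scheme.{u}} (i' : Z' ⟶ U.left) [IsImmersion i'] (k : R' ⟶ R.left) (s' t' : R' ⟶ Z')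
    (hs : IsPullback k s' s.left i') (ht : IsPullback k t' t.left i') :
    ∃ (Z : AlgSp.Space S) (i : Z ⟶ X) (q : (AlgSp.yon S).obj (Over.mk (i' ≫ U.hom)) ⟶ Z.obj),
      AlgSp.RepWith @IsImmersion i.hom ∧
      IsPullback q ((AlgSp.yon S).map (Over.homMk i' rfl : Over.mk (i' ≫ U.hom) ⟶ U)) i.hom p ∧
      (IsClosedImmersion i' → AlgSp.RepWith @IsClosedImmersion i.hom) ∧
      (IsOpenImmersion i' → AlgSp.RepWith @IsOpenImmersion i.hom) := by
  let i : Over.mk (i' ≫ U.hom) ⟶ U := Over.homMk i' rfl
  have : Mono i.left := inferInstanceAs (Mono i')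
  have : Mono i := Over.mono_of_mono_left i
  have hi : Groth.AlgSp3.IsInvariant p i := by
    intro T a b e hc
    obtain ⟨c, rfl⟩ := hc
    obtain ⟨r, hr⟩ := (AlgSp.yon S).map_surjective (hp.isPullback.lift _ _ e)
    have ht' : r ≫ t = c ≫ i := (AlgSp.yon S).map_injective (by rw [Functor.map_comp, hr, hp.isPullback.lift_fst])
    have hs' : r ≫ s = b := (AlgSp.yon S).map_injective (by rw [Functor.map_comp, hr, hp.isPullback.lift_snd])
    have w : r.left ≫ t.left = c.left ≫ i' := congrArg (fun φ => φ.left) ht'
    let d : T.left ⟶ Z' := ht.lift r.left c.left w ≫ s'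
    have hd : d ≫ i' = b.left := by
      rw [Category.assoc, ← hs.w, ← Category.assoc, ht.lift_fst, ← Over.comp_left, hs']
    refine ⟨Over.homMk d ?_, Over.OverMorphism.ext hd⟩
    show d ≫ i' ≫ U.hom = _
    rw [← Category.assoc, hd, Over.w]
  obtain ⟨q, sq⟩ := Groth.AlgSp3.exists_isPullback_subι p i hi
  have hZ := Groth.AlgSp3.isAlgSpace_subSp p i X.property hp.etale hp.surjective hi
  refine ⟨⟨Groth.AlgSp3.subSp p i, hZ⟩, ObjectProperty.homMk (Groth.AlgSp3.subι p i), q,
    repWith_isImmersion_of_cover hZ X.property hp.etale hp.surjective sq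
      ((AlgSp.repWith_yon_map_iff _ i).2 ‹IsImmersion i'›), sq,
    fun h => repWith_isClosedImmersion_of_cover X.property hp.etale hp.surjective sq
      ((AlgSp.repWith_yon_map_iff _ i).2 h),
    fun h => repWith_isOpenImmersion_of_cover hZ X.property hp.etale hp.surjective sq
      ((AlgSp.repWith_yon_map_iff _ i).2 h)⟩

end Groth.Agent.S10233
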