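import Groth.Statements.S10234
import Groth.Prelude.Def_AlgSpEt

set_option autoImplicit false
set_option backward.isDefEq.respectTransparency.types false
universe u
open CategoryTheory CategoryTheory.Limits AlgebraicGeometry Topology TopologicalSpace
open AlgSp

namespace Groth.Agent.S10234


/-- Suppose f : X ⟶ Y is a morphism of algebraic spaces over a scheme S that is etale. Then the functor
j : X_etale ⟶ Y_etale, (U ⟶ X) ↦ (U ⟶ X ⟶ Y), is continuous and cocontinuous for the etale
topologies. (The identification of the associated morphism of topoi with f_small, and the resulting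
formula for inverse images, are not part of this row.) -/
theorem result {S : Scheme.{u}} {X Y : AlgSp.Space S} (f : X ⟶ Y)
    (hf : AlgSp.IsEtaleMor f.hom) :
    (AlgSp.EtOver.postcomp f.hom hf).IsContinuous (AlgSp.etTop X.obj) (AlgSp.etTop Y.obj) ∧
      (AlgSp.EtOver.postcomp f.hom hf).IsCocontinuous (AlgSp.etTop X.obj) (AlgSp.etTop Y.obj) := by
  set P := EtOver.postcomp f.hom hf
  have hpb : ∀ {E₁ E₂ E₀ : EtOver X.obj} (g₁ : E₁ ⟶ E₀) (g₂ : E₂ ⟶ E₀),
      PreservesLimit (cospan g₁ g₂) P := fun {E₁ E₂ E₀} g₁ g₂ => by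
    refine preservesLimit_of_preserves_limit_cone (EtOver.pullbackIsLimit g₁ g₂)
      ((isLimitMapConePullbackConeEquiv _ _).symm ?_)
    refine PullbackCone.IsLimit.mk _
      (fun s => EtOver.homMk (pullback.lift s.fst.hom.left s.snd.hom.left
        (congrArg (fun k => k.hom.left) s.condition)) ?_) (fun s => ?_) (fun s => ?_) (fun s m h₁ h₂ => ?_)
    · change (yon S).map _ ≫ ((yon S).map _ ≫ E₁.obj.hom) ≫ f.hom = s.pt.obj.hom
      rw [Category.assoc, ← Category.assoc, ← Functor.map_comp]
      exact (congrArg ((yon S).map · ≫ E₁.obj.hom ≫ f.hom) (pullback.lift_fst _ _ _)).trans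
        (EtOver.w s.fst)
    · exact EtOver.hom_ext _ _ (pullback.lift_fst _ _ _)
    · exact EtOver.hom_ext _ _ (pullback.lift_snd _ _ _)
    · exact EtOver.hom_ext _ _ (pullback.hom_ext
        ((congrArg (fun k => k.hom.left) h₁).trans (pullback.lift_fst _ _ _).symm)
        ((congrArg (fun k => k.hom.left) h₂).trans (pullback.lift_snd _ _ _).symm))
  have : PreservesLimitsOfShape WalkingCospan P :=
    { preservesLimit := fun {K} => by
        have := hpb (K.map WalkingCospan.Hom.inl) (K.map WalkingCospan.Hom.inr)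
        exact preservesLimit_of_iso_diagram _ (diagramIsoCospan K).symm }
  refine ⟨?_, ⟨fun {E S'} hS => ?_⟩⟩
  · unfold etTop
    refine Functor.isContinuous_toGrothendieck_of_pullbacksPreservedBy P (etPre X.obj) (etPre Y.obj)
      (fun E R hR => ?_)
    obtain ⟨ι, Z, g, rfl⟩ := R.exists_eq_ofArrows
    rw [Precoverage.mem_comap_iff, Presieve.map_ofArrows, ofArrows_mem_etPre_iff]
    exact (ofArrows_mem_etPre_iff Z g).1 hR
  · obtain ⟨R, hR, hle⟩ :=
      (Precoverage.mem_toGrothendieck_iff_of_isStableUnderComposition (J := etPre Y.obj)).1 hS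
    obtain ⟨ι, Z, g, rfl⟩ := R.exists_eq_ofArrows
    let Z' : ι → EtOver X.obj := fun i => EtOver.mk ((yon S).map (g i).hom.left ≫ E.obj.hom)
      ((repWith_isMultiplicative (S := S) @Etale).comp_mem _ _
        ((repWith_yon_map_iff _ _).2 (EtOver.etale_left (g i))) E.property)
    let g' : ∀ i, Z' i ⟶ E := fun i => EtOver.homMk (g i).hom.left rfl
    refine (etTop X.obj).superset_covering ?_ (ofArrows_mem_etTop Z' g'
      ((ofArrows_mem_etPre_iff Z g).1 hR))
    rw [Sieve.ofArrows, Sieve.generate_le_iff]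
    rintro _ _ ⟨i⟩
    let c : P.obj (Z' i) ⟶ Z i := EtOver.homMk (𝟙 _) (by
      change (yon S).map (𝟙 _) ≫ (Z i).obj.hom = ((yon S).map (g i).hom.left ≫ E.obj.hom) ≫ f.hom
      rw [CategoryTheory.Functor.map_id, Category.id_comp, Category.assoc]
      exact (EtOver.w (g i)).symm)
    have e : P.map (g' i) = c ≫ g i := EtOver.hom_ext _ _ (Category.id_comp _).symm
    show S'.arrows (P.map (g' i))
    rw [e]
    exact S'.downward_closed (hle _ _ ⟨i⟩) c

end Groth.Agent.S10234
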