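import Groth.Statements.S10235
import Groth.Agent.Calg4.QuotRep
import Groth.Agent.S4085
import Groth.Agent.S4086

set_option autoImplicit false
universe u
open CategoryTheory CategoryTheory.Limits AlgebraicGeometry Topology TopologicalSpace
open AlgSp

namespace Groth.Agent.S10235

/-- Let (U, R, s, t, c) be a groupoid scheme over a scheme S whose source and target maps s, t : R ⟶ U
are finite locally free and whose map j = (t, s) is an equivalence relation, and suppose that in
each nonempty closed subset of U one can find a point u such that some affine open of U contains the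
whole equivalence class t(s⁻¹{u}) of u. Then there are a scheme M over S and a finite locally free
morphism U ⟶ M over S such that the square with the two maps t, s : R ⟶ U over U ⟶ M is cartesian (R
= U ×_M U) and U ⟶ M exhibits h_M as the quotient of h_U by the pair h_R ⇉ h_U in the category of
fppf sheaves. -/
theorem result {S : Scheme.{u}} (G : Grpd.GroupoidScheme S)
    (hs : Mor2.IsFinLocFree G.s) (ht : Mor2.IsFinLocFree G.t)
    (heq : AlgSp.IsEqvRel (Over.homMk G.s G.s_over : Over.mk G.pR ⟶ Over.mk G.pU) (Over.homMk G.t G.t_over : Over.mk G.pR ⟶ Over.mk G.pU))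
    (h3 : ∀ Z : Set ↥G.U, IsClosed Z → Z.Nonempty →
      ∃ u ∈ Z, ∃ W : G.U.Opens, IsAffineOpen W ∧ ∀ r : ↥G.R, G.s r = u → G.t r ∈ W) :
    ∃ (M : Over S) (m : Over.mk G.pU ⟶ M), Mor2.IsFinLocFree m.left ∧ IsPullback G.t G.s m.left m.left ∧
      QuotSh.IsQuotient Scheme.fppfPrecoverage (Over.homMk G.s G.s_over : Over.mk G.pR ⟶ Over.mk G.pU) (Over.homMk G.t G.t_over : Over.mk G.pR ⟶ Over.mk G.pU) m := by
  obtain ⟨hs₁, hs₂, hs₃⟩ := hs
  have haff : ∀ x : G.U, ∃ V : G.U.Opens, IsAffineOpen V ∧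
      G.t.base '' (G.s.base ⁻¹' {x}) ⊆ (V : Set G.U) := by
    let E : Set G.U := ⋃ W : {W : G.U.Opens // IsAffineOpen W}, (G.s '' (G.t ⁻¹' (W.1 : Set G.U)ᶜ))ᶜ
    have hEopen : IsOpen E := isOpen_iUnion fun W =>
      (G.s.isClosedMap _ (W.1.isOpen.isClosed_compl.preimage G.t.continuous)).isOpen_compl
    have hE : ∀ u, u ∈ E := by
      by_contra! hne
      obtain ⟨u, hu⟩ := hne
      obtain ⟨v, hv, W, hW, hclass⟩ := h3 Eᶜ hEopen.isClosed_compl ⟨u, hu⟩
      exact hv (Set.mem_iUnion.2 ⟨⟨W, hW⟩, fun ⟨r, hr, hrs⟩ => hr (hclass r hrs)⟩)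
    intro x
    obtain ⟨⟨W, hW⟩, hx⟩ := Set.mem_iUnion.1 (hE x)
    refine ⟨W, hW, ?_⟩
    rintro _ ⟨r, hr, rfl⟩
    by_contra hn
    exact hx ⟨r, hn, hr⟩
  have : Mono G.j := by
    refine ⟨fun {T} a b hab => ?_⟩
    have h₁ : a ≫ G.t = b ≫ G.t := by
      have := congrArg (fun k => k ≫ pullback.fst G.pU G.pU) hab
      simp only [Grpd.GroupoidScheme.j, Category.assoc] at this
      erw [pullback.lift_fst] at this
      exact this
    have h₂ : a ≫ G.s = b ≫ G.s := by
      have := congrArg (fun k => k ≫ pullback.snd G.pU G.pU) hab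
      simp only [Grpd.GroupoidScheme.j, Category.assoc] at this
      erw [pullback.lift_snd] at this
      exact this
    have hb : b ≫ G.pR = a ≫ G.pR := by rw [← G.s_over, ← Category.assoc, ← h₂, Category.assoc]
    exact congrArg CommaMorphism.left (heq.injective (Over.mk (a ≫ G.pR)) (Over.homMk a) (Over.homMk b hb)
      (Over.OverMorphism.ext h₁) (Over.OverMorphism.ext h₂))
  obtain ⟨Y, p, w, ⟨hc⟩, hint, hsurj, -⟩ := Groth.Agent.S4085.result S G ⟨hs₁, hs₂, hs₃⟩ haff
  obtain ⟨hsq, hp₁, hp₂, hp₃⟩ := Groth.Agent.S4086.result S G ⟨hs₁, hs₂, hs₃⟩ haff Y p w hc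
  obtain ⟨pY, hpY⟩ := Cofork.IsColimit.desc' hc G.pU (G.t_over.trans G.s_over.symm)
  let m : Over.mk G.pU ⟶ Over.mk pY := Over.homMk p hpY
  have : Surjective m.left := hsurj
  have : Flat m.left := hp₂
  have : LocallyOfFinitePresentation m.left := hp₃
  have hwm : (Over.homMk G.s G.s_over : Over.mk G.pR ⟶ Over.mk G.pU) ≫ m =
      (Over.homMk G.t G.t_over : Over.mk G.pR ⟶ Over.mk G.pU) ≫ m := Over.OverMorphism.ext w.symm
  refine ⟨Over.mk pY, m, ⟨hp₁, hp₂, hp₃⟩, hsq, Groth.Calg4.QuotRep.isQuotient ?_ (Groth.QuotSheaf.epi_repMap m)⟩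
  exact IsPullback.of_map (Over.forget S) hwm hsq.flip

end Groth.Agent.S10235
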