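import Groth.Statements.S10239
import Groth.Agent.AlgSpEt.Branches
-- import your own Groth.Agent.* helpers here

set_option autoImplicit false
set_option backward.isDefEq.respectTransparency false
universe u
open CategoryTheory CategoryTheory.Limits AlgebraicGeometry Topology TopologicalSpace
open AlgSp

namespace Groth.Agent.S10239

/-- (1) ⇔ (4) ⇔ (5): let X be an algebraic space over a scheme S, x ∈ |X| and n ≥ 1 an integer. The
following are equivalent: (1) for every scheme U, etale h_U ⟶ X and u ∈ U over x the local ring of U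
at u has at most n minimal primes, and for some such (U, u) exactly n; (4) for every such (U, u) the
number of geometric branches of U at u is n; (5) for every geometric point x̄ over x the etale local
ring of X at x̄ has exactly n minimal primes. -/
theorem result {S : Scheme.{u}} (X : AlgSp.Space S) (x : AlgSp.Points X.obj)
    (n : ℕ) (hn : 1 ≤ n) :
    (((∀ (U : Over S) (a : (AlgSp.yon S).obj U ⟶ X.obj) (u : ↥U.left),
        AlgSp.RepWith @Etale a → AlgSp.Points.ofPt a u = x → (minimalPrimes ↥(U.left.presheaf.stalk u)).encard ≤ n) ∧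
        AlgSp.HasAt (fun U u => (minimalPrimes ↥(U.presheaf.stalk u)).encard = n) X.obj x) ↔
      (∀ (U : Over S) (a : (AlgSp.yon S).obj U ⟶ X.obj) (u : ↥U.left),
        AlgSp.RepWith @Etale a → AlgSp.Points.ofPt a u = x → Brnch.numGeomBranchesAt U.left u = n)) ∧
    ((∀ (U : Over S) (a : (AlgSp.yon S).obj U ⟶ X.obj) (u : ↥U.left),
        AlgSp.RepWith @Etale a → AlgSp.Points.ofPt a u = x → Brnch.numGeomBranchesAt U.left u = n) ↔
      ∀ p : AlgSp.FieldPt X.obj, p.IsGeometric → AlgSp.Points.mk p = x →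
        (minimalPrimes ↥(AlgSp.OEtStalk p)).encard = n) := by
  obtain ⟨p₀, hp₀, hpx₀⟩ := Groth.AlgSpEt.exists_geometric_point X.property x
  refine ⟨⟨?_, ?_⟩, ⟨?_, ?_⟩⟩
  · rintro ⟨hle, U', a', u', ha', hu', hn'⟩ U a u ha hu
    refine le_antisymm (Groth.AlgSpEt.numGeomBranchesAt_le_of_forall hle ha u hu) ?_
    rw [Groth.AlgSpEt.numGeomBranchesAt_eq hp₀ ha u (hu.trans hpx₀.symm),
      ← Groth.AlgSpEt.numGeomBranchesAt_eq hp₀ ha' u' (hu'.trans hpx₀.symm), ← hn']
    exact Groth.AlgSpEt.encard_minimalPrimes_le_numGeomBranchesAt u'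
  · intro h
    refine ⟨fun U a u ha hu => (Groth.AlgSpEt.encard_minimalPrimes_le_numGeomBranchesAt u).trans
      (h U a u ha hu).le, ?_⟩
    obtain ⟨U, a, ha, has⟩ := X.property.atlas
    obtain ⟨u, hu⟩ := Groth.AlgSpBasic.surjective_ofPt_of_repWith has x
    obtain ⟨U', a', u', ha', hu', hn'⟩ :=
      Groth.AlgSpEt.exists_chart_le_encard hn ha u hu (h U a u ha hu).ge
    exact ⟨U', a', u', ha', hu', le_antisymm
      ((Groth.AlgSpEt.encard_minimalPrimes_le_numGeomBranchesAt u').trans (h U' a' u' ha' hu').le) hn'⟩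
  · intro h p hp hpx
    obtain ⟨U, a, ha, has⟩ := X.property.atlas
    obtain ⟨u, hu⟩ := Groth.AlgSpBasic.surjective_ofPt_of_repWith has (AlgSp.Points.mk p)
    rw [← Groth.AlgSpEt.numGeomBranchesAt_eq hp ha u hu]
    exact h U a u ha (hu.trans hpx)
  · intro h U a u ha hu
    rw [Groth.AlgSpEt.numGeomBranchesAt_eq hp₀ ha u (hu.trans hpx₀.symm)]
    exact h p₀ hp₀ hpx₀

end Groth.Agent.S10239
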