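import Groth.Statements.S1024


set_option autoImplicit false
universe v u u'
open CategoryTheory Opposite
open CohDer

namespace Groth.Agent.S1024

/-- Let u : A ⥤ B be a functor between abelian categories and P a family of objects of B such that each
object of B receives an epimorphism from some member of P, and such that for every member Pᵢ there
is an object Q of A with Hom_A(Q, -) ≅ Hom_B(Pᵢ, u(-)) naturally. Then u is a right adjoint (has a
left adjoint). -/
theorem result {A : Type u} [Category.{v} A] [Abelian A] {B : Type u'} [Category.{v} B] [Abelian B]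
    (u : A ⥤ B) {ι : Type*} (P : ι → B)
    (h1 : ∀ X : B, ∃ (i : ι) (π : P i ⟶ X), Epi π)
    (h2 : ∀ i : ι, ∃ Q : A, Nonempty (coyoneda.obj (op Q) ≅ u ⋙ coyoneda.obj (op (P i)))) :
    u.IsRightAdjoint := by
  classical
  choose ip π hπ using h1
  choose Q hQ using h2
  let e : ∀ (i : ι) (Y : A), (Q i ⟶ Y) ≃ (P i ⟶ u.obj Y) := fun i Y => ((hQ i).some.app Y).toEquiv
  have he : ∀ (i : ι) {Y Y' : A} (f : Q i ⟶ Y) (g : Y ⟶ Y'), e i Y' (f ≫ g) = e i Y f ≫ u.map g :=
    fun i {Y Y'} f g => ConcreteCategory.congr_hom ((hQ i).some.hom.naturality g) f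
  obtain ⟨Z, hZ⟩ := Limits.HasZeroObject.zero (C := A)
  have hu0 : Limits.IsZero (u.obj Z) := by
    rw [Limits.IsZero.iff_id_eq_zero]
    have hsub : π (u.obj Z) = 0 := (e (ip (u.obj Z)) Z).symm.injective (hZ.eq_of_tgt _ _)
    have := hπ (u.obj Z)
    rw [← cancel_epi (π (u.obj Z)), hsub, Limits.zero_comp, Limits.zero_comp]
  have he0 : ∀ (i : ι) (Y : A), e i Y 0 = 0 := fun i Y => by
    rw [← Limits.zero_comp (X := Q i) (f := hZ.to_ Y) (Y := Z), he, hu0.eq_of_tgt (e i Z 0) 0, Limits.zero_comp]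
  let k : ∀ X : B, P (ip (Limits.kernel (π X))) ⟶ P (ip X) := fun X =>
    π (Limits.kernel (π X)) ≫ Limits.kernel.ι (π X)
  let a : ∀ X : B, Q (ip (Limits.kernel (π X))) ⟶ Q (ip X) := fun X =>
    (e _ _).symm (k X ≫ e _ _ (𝟙 _))
  have ha : ∀ (X : B) (Y : A) (ψ : Q (ip X) ⟶ Y), e _ _ (a X ≫ ψ) = k X ≫ e _ _ ψ := fun X Y ψ => by
    rw [he, Equiv.apply_symm_apply, Category.assoc, ← he, Category.id_comp]
  have hex : ∀ (X : B) (Y : A) (φ : P (ip X) ⟶ u.obj Y), k X ≫ φ = 0 → ∃! x : X ⟶ u.obj Y, π X ≫ x = φ := fun X Y φ hφ => by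
    have := hπ X
    have := hπ (Limits.kernel (π X))
    have h0 : Limits.kernel.ι (π X) ≫ φ = 0 := by
      rw [← cancel_epi (π (Limits.kernel (π X))), Limits.comp_zero, ← Category.assoc]
      exact hφ
    refine ⟨Abelian.epiDesc (π X) φ h0, Abelian.comp_epiDesc _ _ _, fun y hy => ?_⟩
    rw [← cancel_epi (π X), hy, Abelian.comp_epiDesc]
  let toFun : ∀ (X : B) (Y : A), (Limits.cokernel (a X) ⟶ Y) → (X ⟶ u.obj Y) := fun X Y x =>
    (hex X Y (e _ _ (Limits.cokernel.π (a X) ≫ x)) (by
      rw [← ha, ← Category.assoc, Limits.cokernel.condition, Limits.zero_comp, he0])).choose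
  have htoFun : ∀ (X : B) (Y : A) x, π X ≫ toFun X Y x = e _ _ (Limits.cokernel.π (a X) ≫ x) := fun X Y x =>
    (hex X Y (e _ _ (Limits.cokernel.π (a X) ≫ x)) (by
      rw [← ha, ← Category.assoc, Limits.cokernel.condition, Limits.zero_comp, he0])).choose_spec.1
  have hbij : ∀ (X : B) (Y : A), Function.Bijective (toFun X Y) := fun X Y => by
    constructor
    · intro x y h
      have h2 := congrArg (π X ≫ ·) h
      simp only [htoFun] at h2
      exact (cancel_epi (Limits.cokernel.π (a X))).1 ((e _ _).injective h2)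
    · intro y
      have hk : k X ≫ π X = 0 := by simp only [k, Category.assoc, Limits.kernel.condition, Limits.comp_zero]
      refine ⟨Limits.cokernel.desc (a X) ((e _ _).symm (π X ≫ y)) ((e _ _).injective ?_), ?_⟩
      · rw [ha, Equiv.apply_symm_apply, he0, ← Category.assoc, hk, Limits.zero_comp]
      · have := hπ X
        rw [← cancel_epi (π X), htoFun, Limits.cokernel.π_desc, Equiv.apply_symm_apply]
  refine ⟨_, ⟨Adjunction.adjunctionOfEquivLeft (F_obj := fun X => Limits.cokernel (a X))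
    (fun X Y => Equiv.ofBijective (toFun X Y) (hbij X Y)) fun X Y Y' g h => ?_⟩⟩
  have := hπ X
  rw [← cancel_epi (π X)]
  change π X ≫ toFun X Y' (h ≫ g) = π X ≫ toFun X Y h ≫ u.map g
  rw [htoFun, ← Category.assoc, he, ← Category.assoc, htoFun]

end Groth.Agent.S1024
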