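import Groth.Statements.S10242
import Groth.Agent.AlgSpEt.Branches
import Mathlib.CategoryTheory.Limits.ConcreteCategory.Basic
-- import your own Groth.Agent.* helpers here

set_option autoImplicit false
set_option backward.isDefEq.respectTransparency false
universe u
open CategoryTheory CategoryTheory.Limits AlgebraicGeometry Topology TopologicalSpace
open AlgSp

namespace Groth.Agent.S10242

/-- Let X be a reduced algebraic space over a scheme S. Then the ring of global sections of the
structure sheaf of X (on the small etale site) is reduced, and if a global section f satisfies X =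
V(f), meaning that its restriction to every scheme U etale over X has empty non-vanishing locus
D(f|_U), then f = 0. -/
theorem result {S : Scheme.{u}} (X : AlgSp.Space S) (hX : AlgSp.IsReducedSp X.obj) :
    _root_.IsReduced ↥(AlgSp.gsectEt (AlgSp.OEt X.obj)) ∧
      ∀ f : ↥(AlgSp.gsectEt (AlgSp.OEt X.obj)),
        (∀ E : AlgSp.EtOver X.obj,
            E.obj.left.left.basicOpen ((limit.π (AlgSp.OEt X.obj).obj (Opposite.op E)) f).down = ⊥) →
          f = 0 := by
  obtain ⟨U, a, ha, has, hU⟩ := hX
  have : IsReduced U.left := hU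
  have hred : ∀ E : AlgSp.EtOver X.obj, IsReduced E.obj.left.left := fun E => by
    have : ∀ e : ↥E.obj.left.left, _root_.IsReduced ↥(E.obj.left.left.presheaf.stalk e) := fun e => by
      obtain ⟨p, hp, he⟩ := Groth.AlgSpEt.exists_geometric_point X.property (AlgSp.Points.ofPt E.obj.hom e)
      obtain ⟨u, hu⟩ := Groth.AlgSpBasic.surjective_ofPt_of_repWith has (AlgSp.Points.mk p)
      exact (Groth.AlgSpEt.isReduced_stalk_iff hp E.property e he.symm).2
        ((Groth.AlgSpEt.isReduced_stalk_iff hp ha u hu).1 inferInstance)
    exact isReduced_of_isReduced_stalk E.obj.left.left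
  have hext : ∀ f g : ↥(AlgSp.gsectEt (AlgSp.OEt X.obj)),
      (∀ E : AlgSp.EtOver X.obj, ((limit.π (AlgSp.OEt X.obj).obj (Opposite.op E)) f).down =
        ((limit.π (AlgSp.OEt X.obj).obj (Opposite.op E)) g).down) → f = g := fun f g h =>
    Concrete.limit_ext _ f g fun E => ULift.ext _ _ (h E.unop)
  refine ⟨⟨fun f hf => hext f 0 fun E => ?_⟩, fun f hf => hext f 0 fun E => ?_⟩
  · have := hred E
    rw [map_zero]
    obtain ⟨n, hn⟩ := hf
    have : _root_.IsReduced Γ(E.obj.left.left, ⊤) := inferInstance
    refine IsReduced.eq_zero (R := Γ(E.obj.left.left, ⊤)) _ ⟨n, ?_⟩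
    have h2 := congrArg (fun z => ((limit.π (AlgSp.OEt X.obj).obj (Opposite.op E)) z).down) hn
    simp only [map_pow, map_zero] at h2
    exact h2
  · have := hred E
    rw [map_zero]
    exact (@AlgebraicGeometry.basicOpen_eq_bot_iff E.obj.left.left this ⊤ _).1 (hf E)

end Groth.Agent.S10242
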