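import Groth.Statements.S10247
import Groth.Agent.AlgSpEt.Stalks

set_option autoImplicit false
universe u
open CategoryTheory CategoryTheory.Limits AlgebraicGeometry Topology TopologicalSpace
open AlgSp

namespace Groth.Agent.S10247

/-- An open subscheme of an object of the small etale site is again such an object. -/
theorem exists_opens_hom {S : Scheme.{u}} {X : AlgSp.Sp S} (E : AlgSp.EtOver X)
    (W : E.obj.left.left.Opens) :
    ∃ (V : AlgSp.EtOver X) (g : V ⟶ E), Set.range g.hom.left.left = (W : Set ↥E.obj.left.left) ∧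
      ∀ f : Γ(E.obj.left.left, ⊤), W ≤ E.obj.left.left.basicOpen f → IsUnit (g.hom.left.left.appTop f) := by
  let w : Over.mk (W.ι ≫ E.obj.left.hom) ⟶ E.obj.left := Over.homMk W.ι rfl
  let V : AlgSp.EtOver X := AlgSp.EtOver.mk ((AlgSp.yon S).map w ≫ E.obj.hom)
    ((AlgSp.repWith_isMultiplicative (S := S) @Etale).comp_mem _ _
      ((AlgSp.repWith_yon_map_iff _ _).2 (inferInstanceAs (Etale W.ι))) E.property)
  refine ⟨V, AlgSp.EtOver.homMk w rfl, Scheme.Opens.range_ι W, fun f hf => ?_⟩
  change IsUnit (W.ι.appTop f)
  refine RingedSpace.isUnit_of_isUnit_germ W.toScheme.toSheafedSpace ⊤ _ fun x _ => ?_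
  refine (Scheme.mem_basicOpen_top W.toScheme (W.ι.appTop f) x).1 ?_
  rw [← Scheme.preimage_basicOpen_top]
  exact hf x.2

/-- Let X be an algebraic space over a scheme S. Together with its structure sheaf O_X, the small etale
site of X is a locally ringed site: for every scheme U etale over X and every global function f on U
there is a covering sieve of U in the small etale site along each of whose arrows f or 1 - f pulls
back to a unit, and whenever 0 = 1 holds in the ring of global functions of U the empty sieve covers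
U. -/
theorem result {S : Scheme.{u}} (X : AlgSp.Space S) :
    ModSite.IsLocallyRinged (AlgSp.etTop X.obj) (AlgSp.OEt X.obj) := by
  constructor
  · intro E f
    let a : Γ(E.obj.left.left, ⊤) := f.down
    obtain ⟨V₁, g₁, r₁, h₁⟩ := exists_opens_hom E (E.obj.left.left.basicOpen a)
    obtain ⟨V₂, g₂, r₂, h₂⟩ := exists_opens_hom E (E.obj.left.left.basicOpen (1 - a))
    refine ⟨Sieve.generate (Presieve.ofArrows (fun b : Bool => bif b then V₁ else V₂)
      (fun b => match b with | true => g₁ | false => g₂)), AlgSp.ofArrows_mem_etTop _ _ fun u => ?_, ?_⟩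
    · by_cases hu : u ∈ E.obj.left.left.basicOpen a
      · obtain ⟨y, hy⟩ := r₁.symm ▸ (show u ∈ (E.obj.left.left.basicOpen a : Set _) from hu)
        exact ⟨true, y, hy⟩
      · have hu' : u ∈ E.obj.left.left.basicOpen (1 - a) := by
          rw [Scheme.mem_basicOpen_top] at hu ⊢
          rw [map_sub, map_one]
          exact (IsLocalRing.isUnit_or_isUnit_one_sub_self _).resolve_left hu
        obtain ⟨y, hy⟩ := r₂.symm ▸ (show u ∈ (E.obj.left.left.basicOpen (1 - a) : Set _) from hu')
        exact ⟨false, y, hy⟩
    · rintro V g ⟨Y, k, _, ⟨b⟩, rfl⟩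
      rw [op_comp, Functor.map_comp, ConcreteCategory.comp_apply, ConcreteCategory.comp_apply]
      cases b
      · refine Or.inr (IsUnit.map _ ?_)
        exact (h₂ _ le_rfl).map (ULift.ringEquiv.symm : _ ≃+* ULift.{u + 1} _)
      · refine Or.inl (IsUnit.map _ ?_)
        exact (h₁ _ le_rfl).map (ULift.ringEquiv.symm : _ ≃+* ULift.{u + 1} _)
  · intro E h
    have h' : (0 : Γ(E.obj.left.left, ⊤)) = 1 := congrArg ULift.down h
    have : IsEmpty ↥E.obj.left.left := ⟨fun u => zero_ne_one (α := E.obj.left.left.presheaf.stalk u) <| by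
      simpa using congrArg (E.obj.left.left.presheaf.germ ⊤ u trivial).hom h'⟩
    refine (AlgSp.etTop X.obj).superset_covering ((Sieve.generate_le_iff _ _).2 ?_)
      (AlgSp.ofArrows_mem_etTop (fun i : PEmpty.{1} => (i.elim : AlgSp.EtOver X.obj))
        (fun i => i.elim) fun u => isEmptyElim u)
    rintro Z g ⟨i⟩
    exact i.elim

end Groth.Agent.S10247
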