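import Groth.Statements.S10250
import Groth.Agent.AlgSp3.DimFacts
import Groth.Agent.AlgSpBasic.Compact

set_option autoImplicit false
set_option backward.isDefEq.respectTransparency.types false
universe u
open CategoryTheory CategoryTheory.Limits AlgebraicGeometry Topology TopologicalSpace
open AlgSp

namespace Groth.Agent.S10250

open Groth.AlgSpBasic Groth.AlgSp3

/-- Let f : X ⟶ Y be an etale and surjective morphism of algebraic spaces over a scheme S. Then X and Y
have the same dimension (the dimension of an algebraic space being the supremum of the Krull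
dimensions of the schemes etale over it). -/
theorem result {S : Scheme.{u}} {X Y : AlgSp.Space S} (f : X ⟶ Y)
    (hf : AlgSp.IsEtaleMor f.hom) (hs : AlgSp.IsSurjectiveMor f.hom) :
    AlgSp.dim X.obj = AlgSp.dim Y.obj := by
  obtain ⟨U, a, ha, has⟩ := X.property.atlas
  have hs' : RepWith @Surjective (a ≫ f.hom) :=
    repWith_surjective_of_ofPt (Y.property.representable_from_yon _) fun y => by
      obtain ⟨x, rfl⟩ := hs y
      obtain ⟨u, rfl⟩ := surjective_ofPt_of_repWith has x
      exact ⟨u, (AlgSp.Points.map_ofPt _ _ _).symm⟩
  rw [dim_eq_of_chart X.property ha has, dim_eq_of_chart Y.property (hf a ha) hs']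

end Groth.Agent.S10250
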