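import Groth.Statements.S10256
import Groth.Agent.AlgSpEt.Support

set_option autoImplicit false
universe u
open CategoryTheory CategoryTheory.Limits AlgebraicGeometry Topology TopologicalSpace
open AlgSp

namespace Groth.Agent.S10256

/-- Let X be an algebraic space over a scheme S, F an abelian sheaf on the small etale site of X and x ∈
|X|. Then x lies in the support of F, in the sense that the stalk F_x̄ is nonzero for some geometric
point x̄ over x, if and only if x is the image of a point u of some U etale over X lying in the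
support of some section σ ∈ F(U), i.e. such that σ does not restrict to zero on any V ⟶ U whose
image contains u. (The published definition of the support allows any, equivalently some, geometric
point over x; this row uses the existential form and does not assert that the two readings agree.) -/
theorem result {S : Scheme.{u}} (X : AlgSp.Space S) (F : AlgSp.AbEt X.obj)
    (x : AlgSp.Points X.obj) :
    (∃ p : AlgSp.FieldPt X.obj, p.IsGeometric ∧ AlgSp.Points.mk p = x ∧ ¬ IsZero (AlgSp.stalkEt p F)) ↔
      ∃ (U : AlgSp.EtOver X.obj) (σ : ↥(F.obj.obj (Opposite.op U))) (u : ↥U.obj.left.left),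
        AlgSp.Points.ofPt U.obj.hom u = x ∧
          ∀ (V : AlgSp.EtOver X.obj) (φ : V ⟶ U), (F.obj.map φ.op).hom σ = 0 →
            u ∉ Set.range (fun v => φ.hom.left.left v) := by
  have key : ∀ (U : AlgSp.EtOver X.obj) (σ : ↥(F.obj.obj (Opposite.op U))) (u : ↥U.obj.left.left),
      u ∉ Groth.AlgSpEt.eqLocus F U σ (0 : ↥(F.obj.obj (Opposite.op U))) ↔
        ∀ (V : AlgSp.EtOver X.obj) (φ : V ⟶ U), (F.obj.map φ.op).hom σ = 0 →
          u ∉ Set.range (fun v => φ.hom.left.left v) := by
    intro U σ u
    refine ⟨fun h V φ hφ hu => h ⟨V, φ, hφ.trans (map_zero (F.obj.map φ.op).hom).symm, hu⟩, ?_⟩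
    rintro h ⟨V, φ, hφ, hu⟩
    exact h V φ (hφ.trans (map_zero (F.obj.map φ.op).hom)) hu
  constructor
  · rintro ⟨p, hp, rfl, hne⟩
    obtain ⟨U, σ, u, hu, hσ⟩ := (Groth.AlgSpEt.not_isZero_stalkEt_iff X F hp).1 hne
    exact ⟨U, σ, u, hu, (key U σ u).1 hσ⟩
  · rintro ⟨U, σ, u, rfl, hσ⟩
    obtain ⟨p, w, hp, rfl⟩ := Groth.AlgSpEt.exists_geometric_lift U u
    exact ⟨p, hp, (Groth.AlgSpEt.ofPt_lift w).symm, (Groth.AlgSpEt.not_isZero_stalkEt_iff X F hp).2
      ⟨U, σ, _, Groth.AlgSpEt.ofPt_lift w, (key U σ _).2 hσ⟩⟩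

end Groth.Agent.S10256
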