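import Groth.Statements.S10257
import Groth.Agent.AlgSpEt.Support

set_option autoImplicit false
universe u
open CategoryTheory CategoryTheory.Limits AlgebraicGeometry Topology TopologicalSpace
open AlgSp

namespace Groth.Agent.S10257

/-- Let X be an algebraic space over a scheme S and O' a sheaf of commutative rings on the small etale
site of X. Then the support of O', the set of points x ∈ |X| such that the stalk O'_x̄ is not the
zero ring for some geometric point x̄ over x, is closed in |X|. (The published definition of the
support allows any, equivalently some, geometric point over x; this row uses the existential form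
and does not assert that the two readings agree.) -/
theorem result {S : Scheme.{u}} (X : AlgSp.Space S)
    (O' : AlgSp.EtSh X.obj CommRingCat.{u + 1}) :
    IsClosed {x : AlgSp.Points X.obj |
      ∃ p : AlgSp.FieldPt X.obj, p.IsGeometric ∧ AlgSp.Points.mk p = x ∧ Nontrivial ↥(AlgSp.stalkEt p O')} := by
  obtain ⟨U₀, a, ha, has⟩ := X.property.atlas
  rw [← (Groth.AlgSpBasic.isQuotientMap_ofPt ha has).isClosed_preimage]
  let U : AlgSp.EtOver X.obj := AlgSp.EtOver.mk a ha
  refine isClosed_of_closure_subset fun u hu => ?_
  let W := Groth.AlgSpEt.eqLocus O' U (1 : ↥(O'.obj.obj (Opposite.op U))) (0 : ↥(O'.obj.obj (Opposite.op U)))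
  suffices h : ∀ u : ↥U₀.left, u ∈ _ ↔ u ∉ (W : Set ↥U.obj.left.left) by
    refine (h u).2 ?_
    exact W.isOpen.isClosed_compl.closure_subset (closure_mono (fun v hv => (h v).1 hv) hu)
  intro u
  constructor
  · rintro ⟨p, hp, hpu, hn⟩
    exact (Groth.AlgSpEt.nontrivial_stalkEt_iff X O' hp (U := U) u hpu.symm).1 hn
  · intro hu
    obtain ⟨p, w, hp, rfl⟩ := Groth.AlgSpEt.exists_geometric_lift U u
    exact ⟨p, hp, (Groth.AlgSpEt.ofPt_lift w).symm,
      (Groth.AlgSpEt.nontrivial_stalkEt_iff X O' hp (U := U) _ (Groth.AlgSpEt.ofPt_lift w)).2 hu⟩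

end Groth.Agent.S10257
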