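import Groth.Statements.S10258
import Groth.Agent.AlgSpEt.Support
import Mathlib.CategoryTheory.Sites.EpiMono
import Mathlib.Algebra.Category.Grp.Ulift

set_option autoImplicit false
universe u
open CategoryTheory CategoryTheory.Limits AlgebraicGeometry Topology TopologicalSpace
open AlgSp

namespace Groth.Agent.S10258

/-- Let X be an algebraic space over a scheme S, a : F ⟶ G a morphism of abelian sheaves on the small
etale site of X and x ∈ |X|. If a is surjective (an epimorphism of sheaves) and x lies in the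
support of G, i.e. G_x̄ ≠ 0 for some geometric point x̄ over x, then x lies in the support of F; if
a is injective (a monomorphism) and x lies in the support of F, then x lies in the support of G.
(The published definition of the support allows any, equivalently some, geometric point over x; this
row uses the existential form and does not assert that the two readings agree.) -/
theorem result {S : Scheme.{u}} (X : AlgSp.Space S) {F G : AlgSp.AbEt X.obj}
    (a : F ⟶ G) (x : AlgSp.Points X.obj) :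
    (Epi a → (∃ p : AlgSp.FieldPt X.obj, p.IsGeometric ∧ AlgSp.Points.mk p = x ∧ ¬ IsZero (AlgSp.stalkEt p G)) →
        ∃ p : AlgSp.FieldPt X.obj, p.IsGeometric ∧ AlgSp.Points.mk p = x ∧ ¬ IsZero (AlgSp.stalkEt p F)) ∧
    (Mono a → (∃ p : AlgSp.FieldPt X.obj, p.IsGeometric ∧ AlgSp.Points.mk p = x ∧ ¬ IsZero (AlgSp.stalkEt p F)) →
        ∃ p : AlgSp.FieldPt X.obj, p.IsGeometric ∧ AlgSp.Points.mk p = x ∧ ¬ IsZero (AlgSp.stalkEt p G)) := by
  constructor
  · intro _ hG
    obtain ⟨p, hp, hx, hne⟩ := hG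
    refine ⟨p, hp, hx, fun hF => hne ?_⟩
    rw [AddCommGrpCat.isZero_iff_subsingleton] at hF ⊢
    refine subsingleton_of_forall_eq 0 fun t => ?_
    obtain ⟨N, τ, rfl⟩ := Groth.AlgSpEt.exists_stalkEtι_eq X G hp t
    have hls : Sheaf.IsLocallySurjective a := (Sheaf.isLocallySurjective_iff_epi' (A := AddCommGrpCat.{u + 1}) (φ := a)).2 inferInstance
    obtain ⟨V, g, ⟨σ, hσ⟩, hu⟩ : ∃ (V : AlgSp.EtOver X.obj) (g : V ⟶ N.1),
        Presheaf.imageSieve a.hom τ g ∧ N.2.1.left (Groth.AlgSpEt.ctr p) ∈ Set.range g.hom.left.left := by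
      obtain ⟨R, hR, hle⟩ := Precoverage.mem_toGrothendieck_iff_of_isStableUnderComposition.1
        (hls.imageSieve_mem τ)
      obtain ⟨ι, Y, f, rfl⟩ := R.exists_eq_ofArrows
      obtain ⟨i, y, hy⟩ := Groth.AlgSpEt.exists_lift_of_mem_etPre p hp N Y f hR
      exact ⟨Y i, f i, hle _ _ ⟨i⟩, y.1.left (Groth.AlgSpEt.ctr p), by rw [← hy]; rfl⟩
    refine (Groth.AlgSpEt.stalkEtι_eq_zero_iff X G hp N τ).2 ?_
    obtain ⟨v, hv⟩ := hu
    obtain ⟨w, hw⟩ := Groth.AlgSpEt.exists_lift_to hp V v (by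
      rw [← AlgSp.EtOver.w g, Groth.AlgSpBasic.ofPt_comp_yon]
      exact hv ▸ Groth.AlgSpEt.ofPt_lift N.2)
    have h0 : (AlgSp.stalkEtι p F ⟨V, w⟩).hom σ = 0 := Subsingleton.elim _ _
    obtain ⟨V', g', h', y, hy⟩ := (Groth.AlgSpEt.stalkEtι_eq_zero_iff X F hp ⟨V, w⟩ σ).1 h0
    refine ⟨V', g' ≫ g, ?_, y, ?_⟩
    · rw [op_comp, Functor.map_comp, ConcreteCategory.comp_apply, ← hσ, ← NatTrans.naturality_apply, h',
        NatTrans.naturality_apply]
      exact ((congrArg _ (map_zero _)).trans (map_zero _)).trans (map_zero _).symm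
    · change g.hom.left.left (g'.hom.left.left y) = _
      rw [hy]
      exact (congrArg _ hw).trans hv
  · intro _ hF
    obtain ⟨p, hp, hx, hne⟩ := hF
    refine ⟨p, hp, hx, ?_⟩
    obtain ⟨U, σ, u, hu, hσ⟩ := (Groth.AlgSpEt.not_isZero_stalkEt_iff X F hp).1 hne
    refine (Groth.AlgSpEt.not_isZero_stalkEt_iff X G hp).2 ⟨U, (a.hom.app _).hom σ, u, hu, ?_⟩
    rintro ⟨V, g, hg, hug⟩
    have : Mono a.hom := (inferInstance : Mono ((sheafToPresheaf (AlgSp.etTop X.obj) AddCommGrpCat.{u + 1}).map a))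
    have hinj := (AddCommGrpCat.mono_iff_injective _).1 (inferInstance : Mono (a.hom.app (Opposite.op V)))
    refine hσ ⟨V, g, hinj ?_, hug⟩
    refine (NatTrans.naturality_apply a.hom g.op σ).trans (hg.trans ?_)
    exact (map_zero _).trans ((congrArg _ (map_zero _)).trans (map_zero _)).symm

end Groth.Agent.S10258
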