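import Groth.Statements.S10263
import Groth.Agent.AlgSpBasic.LocPInst
import Groth.Agent.AlgSpBasic.RepWith
import Groth.Agent.AlgSpBasic.Diag

set_option autoImplicit false
universe u
open CategoryTheory CategoryTheory.Limits AlgebraicGeometry
open AlgSp Groth.AlgSpBasic

namespace Groth.Agent.S10263

/-- If the composite X -> Y -> Z is unramified then X -> Y is unramified. -/
theorem result {S : Scheme.{u}} {X Y Z : AlgSp.Space S} (f : X ⟶ Y) (g : Y ⟶ Z)
    (h : AlgSp.LocP (@LocallyOfFiniteType ⊓ @FormallyUnramified) (f ≫ g).hom) :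
    AlgSp.LocP (@LocallyOfFiniteType ⊓ @FormallyUnramified) f.hom := by
  refine locP_of_comp_of_cancel (P := (@LocallyOfFiniteType : MorphismProperty Scheme.{u}) ⊓
    @FormallyUnramified) (fun _ _ _ f g hfg => ?_) X.property Y.property Z.property h
  obtain ⟨_, _⟩ := hfg
  exact ⟨locallyOfFiniteType_of_comp f g, AlgebraicGeometry.FormallyUnramified.of_comp f g⟩

end Groth.Agent.S10263
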