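import Groth.Statements.S10265
import Groth.Agent.AlgSpBasic.LocPInst
import Groth.Agent.AlgSpBasic.RepWith
import Groth.Agent.AlgSpBasic.Diag

set_option autoImplicit false
universe u
open CategoryTheory CategoryTheory.Limits AlgebraicGeometry
open AlgSp Groth.AlgSpBasic

namespace Groth.Agent.S10265

/-- Whenever a morphism of algebraic spaces is etale, it is, etale locally on both source and target,
smooth, flat, unramified, locally quasi-finite, locally of finite type and locally of finite
presentation. -/
theorem result {S : Scheme.{u}} {X Y : AlgSp.Space S} (f : X ⟶ Y) (hf : AlgSp.IsEtaleMor f.hom) :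
    AlgSp.LocP (@LocallyQuasiFinite ⊓ @LocallyOfFiniteType) f.hom ∧ AlgSp.LocP @Smooth f.hom ∧
    AlgSp.LocP @Flat f.hom ∧ AlgSp.LocP @LocallyOfFinitePresentation f.hom ∧
    AlgSp.LocP @LocallyOfFiniteType f.hom ∧ AlgSp.LocP (@LocallyOfFiniteType ⊓ @FormallyUnramified) f.hom := by
  have h := locP_of_isEtaleMor hf
  refine ⟨?_, ?_, ?_, ?_, ?_, ?_⟩ <;> intro U V a b k ha hb comm
  all_goals have : Etale k.left := h a b k ha hb comm
  · exact ⟨locallyQuasiFinite_of_formallyUnramified k.left, inferInstance⟩
  · infer_instance
  · infer_instance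
  · infer_instance
  · infer_instance
  · exact ⟨inferInstance, inferInstance⟩

end Groth.Agent.S10265
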