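import Groth.Statements.S10273
import Groth.Agent.AlgSpBasic.SepLocal

set_option autoImplicit false
universe u
open CategoryTheory CategoryTheory.Limits AlgebraicGeometry
open AlgSp Groth.AlgSpBasic

namespace Groth.Agent.S10273

/-- (1) ⇔ (3): properness of a morphism of algebraic spaces can be tested after base change to affine
schemes over the target. -/
theorem result {S : Scheme.{u}} {X Y : AlgSp.Space S} (f : X ⟶ Y) :
    AlgSp.IsProperMor f.hom ↔
      ∀ (Z : Over S), IsAffine Z.left → ∀ (g : (AlgSp.yon S).obj Z ⟶ Y.obj) (P : AlgSp.Sp S) (fst : P ⟶ X.obj)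
        (snd : P ⟶ (AlgSp.yon S).obj Z), IsPullback fst snd f.hom g → AlgSp.IsProperMor snd := by
  refine ⟨fun h Z _ g W fst snd sq => ⟨repWith_diagonal_baseChange sq h.1,
      ⟨locP_of_isPullback X.property Y.property (IsAlgSpace.yon_obj Z) sq h.2.1.1,
        fun T T' hT hq t p₁ p₂ sq' => h.2.1.2 hT hq _ _ p₂ (sq'.paste_horiz sq)⟩,
      fun T T' hT t p₁ p₂ sq' => h.2.2 hT _ _ p₂ (sq'.paste_horiz sq)⟩, fun h => ⟨?_, ⟨?_, ?_⟩, ?_⟩⟩
  · exact repWith_diagonal_of_affine _ X.property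
      fun Z hZ g W fst snd sq => (h Z hZ g W fst snd sq).1
  · exact locP_of_affine _ X.property Y.property
      fun Z hZ g W fst snd sq => (h Z hZ g W fst snd sq).2.1.1
  · refine isQuasiCompactMor_of_affine X.property Y.property fun Z hZ g W fst snd sq => ?_
    exact (h Z hZ g W fst snd sq).2.1.2 (IsAlgSpace.yon_obj Z) ((isQuasiCompactSp_yon_iff Z).2
      inferInstance) (𝟙 _) (𝟙 _) snd (IsPullback.of_horiz_isIso ⟨by simp⟩)
  · refine isUnivClosedMor_of_affine fun Z hZ g W fst snd sq => ?_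
    exact (h Z hZ g W fst snd sq).2.2 (IsAlgSpace.yon_obj Z) (𝟙 _) (𝟙 _) snd
      (IsPullback.of_horiz_isIso ⟨by simp⟩)

end Groth.Agent.S10273
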