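import Groth.Statements.S10286
import Groth.Agent.AlgSpBasic.Proper

set_option autoImplicit false
universe u
open CategoryTheory CategoryTheory.Limits AlgebraicGeometry
open AlgSp Groth.AlgSpBasic

namespace Groth.Agent.S10286

/-- The existence and uniqueness parts of the valuative criterion are stable under base change. -/
theorem result {S : Scheme.{u}} {X Y Z X' : AlgSp.Space S} (f : X ⟶ Y) (g : Z ⟶ Y)
    (fst : X' ⟶ X) (f' : X' ⟶ Z) (sq : IsPullback fst.hom f'.hom f.hom g.hom) :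
    (AlgSp.ExistVC f.hom → AlgSp.ExistVC f'.hom) ∧ (AlgSp.UniqVC f.hom → AlgSp.UniqVC f'.hom) := by
  constructor
  · intro h v
    let v' : ValSq f.hom := { A := v.A, K := v.K, str := v.str, top := v.top ≫ fst.hom, bot := v.bot ≫ g.hom, comm := by rw [Category.assoc, sq.w, ← Category.assoc, v.comm, Category.assoc] }
    obtain ⟨e, l, hl, hl'⟩ := h v'
    let e' : v.DomExt := { A' := e.A', K' := e.K', φ := e.φ, ψ := e.ψ, comm := e.comm, isLocalHom := e.isLocalHom }
    let pA : e'.ptA' ⟶ v.ptA := Over.homMk (Spec.map (CommRingCat.ofHom e'.φ)) rfl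
    let pK : e'.ptK' ⟶ v.ptK := Over.homMk (Spec.map (CommRingCat.ofHom e'.ψ)) (by
      change Spec.map _ ≫ Spec.map _ ≫ _ = Spec.map _ ≫ Spec.map _ ≫ _
      rw [← Spec.map_comp_assoc, ← Spec.map_comp_assoc, ← CommRingCat.ofHom_comp,
        ← CommRingCat.ofHom_comp, e'.comm])
    let jj : e'.ptK' ⟶ e'.ptA' :=
      Over.homMk (Spec.map (CommRingCat.ofHom (algebraMap e'.A' e'.K'))) rfl
    have ej : jj ≫ pA = pK ≫ v.j := Over.OverMorphism.ext (by
      show Spec.map _ ≫ Spec.map _ = Spec.map _ ≫ Spec.map _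
      rw [← Spec.map_comp, ← Spec.map_comp, ← CommRingCat.ofHom_comp, ← CommRingCat.ofHom_comp,
        e'.comm])
    let l₀ : (yon S).obj e'.ptA' ⟶ X.obj := l
    have hl₀ : l₀ ≫ f.hom = ((yon S).map pA ≫ v.bot) ≫ g.hom :=
      hl'.trans (Category.assoc _ _ _).symm
    have hl₁ : (yon S).map jj ≫ l₀ = (yon S).map pK ≫ v.top ≫ fst.hom := hl
    refine ⟨e', sq.lift l₀ ((yon S).map pA ≫ v.bot) hl₀, ?_, sq.lift_snd _ _ _⟩
    show (yon S).map jj ≫ sq.lift l₀ _ hl₀ = (yon S).map pK ≫ v.top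
    apply sq.hom_ext
    · rw [Category.assoc, sq.lift_fst, Category.assoc]
      exact hl₁
    · rw [Category.assoc, sq.lift_snd, Category.assoc, v.comm, ← Category.assoc,
        ← Functor.map_comp, ej, Functor.map_comp, Category.assoc]
  · intro h v l l' hl₁ hl₂ hl'₁ hl'₂
    let v' : ValSq f.hom := { A := v.A, K := v.K, str := v.str, top := v.top ≫ fst.hom, bot := v.bot ≫ g.hom, comm := by rw [Category.assoc, sq.w, ← Category.assoc, v.comm, Category.assoc] }
    apply sq.hom_ext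
    · refine h v' (l ≫ fst.hom) (l' ≫ fst.hom) ?_ ?_ ?_ ?_
      · exact (Category.assoc _ _ _).symm.trans (congrArg (· ≫ fst.hom) hl₁)
      · rw [Category.assoc, sq.w, ← Category.assoc, hl₂]
      · exact (Category.assoc _ _ _).symm.trans (congrArg (· ≫ fst.hom) hl'₁)
      · rw [Category.assoc, sq.w, ← Category.assoc, hl'₂]
    · rw [hl₂, hl'₂]

end Groth.Agent.S10286
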