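import Groth.Statements.S10287
import Groth.Agent.AlgSpBasic.Proper

set_option autoImplicit false
universe u
open CategoryTheory CategoryTheory.Limits AlgebraicGeometry
open AlgSp Groth.AlgSpBasic

namespace Groth.Agent.S10287

/-- The existence and uniqueness parts of the valuative criterion are stable under composition. -/
theorem result {S : Scheme.{u}} {X Y Z : AlgSp.Space S} (f : X ⟶ Y) (g : Y ⟶ Z) :
    (AlgSp.ExistVC f.hom → AlgSp.ExistVC g.hom → AlgSp.ExistVC (f ≫ g).hom) ∧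
    (AlgSp.UniqVC f.hom → AlgSp.UniqVC g.hom → AlgSp.UniqVC (f ≫ g).hom) := by
  constructor
  · intro hf hg v
    let v₁ : ValSq g.hom := { A := v.A, K := v.K, str := v.str, top := v.top ≫ f.hom, bot := v.bot, comm := (Category.assoc _ _ _).trans v.comm }
    obtain ⟨e₁, l₁, hl₁, hl₁'⟩ := hg v₁
    have hw : Spec.map (CommRingCat.ofHom e₁.ψ) ≫
        Spec.map (CommRingCat.ofHom (algebraMap v.A v.K)) ≫ v.str =
          Spec.map (CommRingCat.ofHom (algebraMap e₁.A' e₁.K')) ≫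
            Spec.map (CommRingCat.ofHom e₁.φ) ≫ v.str := by
      rw [← Spec.map_comp_assoc, ← Spec.map_comp_assoc, ← CommRingCat.ofHom_comp,
        ← CommRingCat.ofHom_comp, e₁.comm]
    let v₂ : ValSq f.hom := { A := e₁.A', K := e₁.K', str := Spec.map (CommRingCat.ofHom e₁.φ) ≫ v.str, top := (yon S).map (show Over.mk (Spec.map (CommRingCat.ofHom (algebraMap e₁.A' e₁.K')) ≫ Spec.map (CommRingCat.ofHom e₁.φ) ≫ v.str) ⟶ v.ptK from Over.homMk (Spec.map (CommRingCat.ofHom e₁.ψ)) hw) ≫ v.top, bot := l₁, comm := by rw [Category.assoc]; exact hl₁.symm }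
    obtain ⟨e₂, l₂, hl₂, hl₂'⟩ := hf v₂
    let e : v.DomExt := { A' := e₂.A', K' := e₂.K', φ := e₂.φ.comp e₁.φ, ψ := e₂.ψ.comp e₁.ψ, comm := by rw [← RingHom.comp_assoc, e₂.comm, RingHom.comp_assoc, show (algebraMap e₁.A' e₁.K').comp e₁.φ = e₁.ψ.comp (algebraMap v.A v.K) from e₁.comm, ← RingHom.comp_assoc], isLocalHom := ⟨fun a ha => e₁.isLocalHom.map_nonunit a (e₂.isLocalHom.map_nonunit _ ha)⟩ }
    let c : e.ptA' ⟶ e₂.ptA' := Over.homMk (𝟙 _) (by
      show 𝟙 _ ≫ Spec.map (CommRingCat.ofHom e₂.φ) ≫ Spec.map (CommRingCat.ofHom e₁.φ) ≫ v.str =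
        Spec.map (CommRingCat.ofHom (e₂.φ.comp e₁.φ)) ≫ v.str
      rw [Category.id_comp, CommRingCat.ofHom_comp, Spec.map_comp, Category.assoc])
    let c' : e.ptK' ⟶ e₂.ptK' := Over.homMk (𝟙 _) (by
      show 𝟙 _ ≫ Spec.map _ ≫ Spec.map (CommRingCat.ofHom e₂.φ) ≫ Spec.map (CommRingCat.ofHom e₁.φ) ≫ v.str =
        Spec.map _ ≫ Spec.map (CommRingCat.ofHom (e₂.φ.comp e₁.φ)) ≫ v.str
      rw [Category.id_comp, CommRingCat.ofHom_comp, Spec.map_comp, Category.assoc])
    refine ⟨e, (yon S).map c ≫ l₂, ?_, ?_⟩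
    · have h := congrArg ((yon S).map c' ≫ ·) hl₂
      simp only [v₂, ← Category.assoc, ← Functor.map_comp] at h ⊢
      refine Eq.trans ?_ (h.trans ?_)
      · congr 2
      · congr 2
        ext1
        simp [c', e]
    · show ((yon S).map c ≫ l₂) ≫ f.hom ≫ g.hom = _
      have h₁ : l₁ ≫ g.hom = _ := hl₁'
      rw [Category.assoc, ← Category.assoc l₂, hl₂', Category.assoc, h₁, ← Category.assoc,
        ← Category.assoc, ← Functor.map_comp, ← Functor.map_comp]
      congr 2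
      ext1
      simp [c, e, v₁, v₂]
  · intro hf hg v l l' hl₁ hl₂ hl'₁ hl'₂
    let v₁ : ValSq g.hom := { A := v.A, K := v.K, str := v.str, top := v.top ≫ f.hom, bot := v.bot, comm := (Category.assoc _ _ _).trans v.comm }
    have e : l ≫ f.hom = l' ≫ f.hom := hg v₁ _ _
      ((Category.assoc _ _ _).symm.trans (congrArg (· ≫ f.hom) hl₁)) ((Category.assoc _ _ _).trans hl₂)
      ((Category.assoc _ _ _).symm.trans (congrArg (· ≫ f.hom) hl'₁)) ((Category.assoc _ _ _).trans hl'₂)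
    let v₂ : ValSq f.hom := { A := v.A, K := v.K, str := v.str, top := v.top, bot := l ≫ f.hom, comm := by rw [← hl₁, Category.assoc] }
    exact hf v₂ l l' hl₁ rfl hl'₁ e.symm

end Groth.Agent.S10287
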