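import Groth.Statements.S1029
import Groth.Agent.KTheory.PerfK0
import Groth.Agent.KTheory.PerfAffine
import Groth.Agent.S0997
import Groth.Agent.S1105
import Groth.Agent.PropsBasic2.TildeExact
-- import your own Groth.Agent.* helpers here

set_option autoImplicit false
universe u
open CategoryTheory CategoryTheory.Limits AlgebraicGeometry
attribute [local instance] HasDerivedCategory.standard
open KZero

namespace Groth.Agent.S1029

/-- Let A be a ring and X = Spec A. There is an isomorphism from K₀(A) (free abelian group on finite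
projective A-modules modulo short exact sequences of such) to K₀(X) = K₀(D_perf(O_X)) (free abelian
group on perfect objects of D(O_X) modulo distinguished triangles among them) sending the class of M
to the class of M~ placed in degree 0. -/
theorem result (A : Type u) [CommRing A] :
    ∃ φ : KZero.K0sub (fun M : ModuleCat.{u} A => Module.Finite A M ∧ Module.Projective A M) ≃+
        KZero.K0tr (fun K : DCoh.D (Spec (CommRingCat.of A)) => DCoh.IsPerfect K),
      ∀ (M : ModuleCat.{u} A), Module.Finite A M → Module.Projective A M →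
        φ (KZero.clSub (fun M : ModuleCat.{u} A => Module.Finite A M ∧ Module.Projective A M) M) =
          KZero.clTr (fun K : DCoh.D (Spec (CommRingCat.of A)) => DCoh.IsPerfect K) (DCoh.inD (Spec (CommRingCat.of A)) (tilde M)) := by
  classical
  let RA : CommRingCat.{u} := CommRingCat.of A
  have : PreservesFiniteLimits (tilde.functor RA) := Groth.PropsBasic2.preservesFiniteLimits_tilde RA
  have : PreservesFiniteColimits (tilde.functor RA) := Groth.PropsBasic2.preservesFiniteColimits_tilde RA
  obtain ⟨hfull, hfaith, hess⟩ := Groth.Agent.S0997.result RA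
  let P : ObjectProperty (ModuleCat.{u} A) := Groth.DAlg.finProj A
  have := (Groth.DAlg.isAdditiveSub_finProj A).closedIso
  have hproj : ∀ X, P X → CategoryTheory.Projective X := fun X h =>
    haveI : Module.Projective A X := h.2
    (IsProjective.iff_projective X).1 inferInstance
  have hbi : ∀ X Y, P X → P Y → P (X ⊞ Y) := fun X Y hX hY =>
    (Groth.DAlg.isAdditiveSub_finProj A).of_iso (biprod.isoProd X Y).symm
      ((Groth.DAlg.isAdditiveSub_finProj A).prod X Y hX hY)
  let Q : ObjectProperty (Dual.D A) := fun K => DRing.IsPerfect A K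
  have hQ : ∀ K, Q K ↔ Groth.KTheory.PerfK0.Perf P K := fun K =>
    ⟨fun ⟨E, a, b, h1, h2, e⟩ => ⟨E, ⟨h2, a, b, h1⟩, e⟩,
      fun ⟨E, ⟨h2, a, b, h1⟩, e⟩ => ⟨E, a, b, h1, h2, e⟩⟩
  obtain ⟨ψ, hψ, -⟩ := Groth.KTheory.PerfK0.exists_equiv (P := P) hproj
    (fun f hf hX hY => Groth.DAlg.isStableKer_finProj A _ _ f hf hX hY)
    (fun X hX => (Groth.DAlg.isAdditiveSub_finProj A).zero X hX) hbi Q hQ
    (fun T hT h1 h3 => Groth.DAlg.IsPerfect.ext hT h1 h3)
    (fun K n h => Groth.DAlg.IsPerfect.shift h n)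
  let S := Spec (CommRingCat.of A)
  let Q' : ObjectProperty (DCoh.D S) := fun K => DCoh.IsPerfect K
  let t := DCoh.tildeD RA
  have ht : ∀ {M : Dual.D A}, Q' (t.obj M) ↔ Q M := fun {M} => Groth.Agent.S1105.result A M
  have hex : ∀ K, Q' K → ∃ M, Q M ∧ Nonempty (t.obj M ≅ K) := fun K hK => by
    obtain ⟨M, ⟨e⟩⟩ := (hess K).1 (Groth.KTheory.PerfAffine.isQCohD_of_isPerfect hK)
    exact ⟨M, ht.1 (Groth.KTheory.Perf.isPerfect_of_iso e.symm hK), ⟨e⟩⟩
  obtain ⟨Θ, hΘ⟩ := Groth.KTheory.PerfAffine.exists_equiv_of_fullyFaithful t Q Q'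
    (fun M => ht.symm) hex (fun e h => Groth.KTheory.Perf.isPerfect_of_iso e h)
    (fun e h => Groth.DAlg.IsPerfect.of_iso h e)
    ((DerivedCategory.singleFunctor (ModuleCat.{u} A) 0).obj (ModuleCat.of A PUnit.{u + 1})) (Functor.map_isZero _ (ModuleCat.isZero_of_subsingleton (ModuleCat.of A PUnit.{u + 1})))
    (Groth.DAlg.IsPerfect.of_isZero (Functor.map_isZero _ (ModuleCat.isZero_of_subsingleton (ModuleCat.of A PUnit.{u + 1}))))
  refine ⟨ψ.trans Θ, fun M h1 h2 => ?_⟩
  have hM : Q ((DerivedCategory.singleFunctor (ModuleCat.{u} A) 0).obj M) :=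
    (hQ _).2 (Groth.KTheory.PerfK0.perf_single (P := P)
      (fun X hX => (Groth.DAlg.isAdditiveSub_finProj A).zero X hX) ⟨h1, h2⟩ 0).2
  have e := ((tilde.functor RA).mapDerivedCategorySingleFunctor 0).app M
  change Θ (ψ _) = _
  refine (congrArg Θ (hψ M ⟨h1, h2⟩)).trans ((hΘ _ hM).trans ?_)
  exact Groth.KTheory.clTr_iso e (ht.2 hM) (Groth.KTheory.Perf.isPerfect_of_iso e (ht.2 hM))
    (Functor.map_isZero t (Functor.map_isZero (DerivedCategory.singleFunctor (ModuleCat.{u} A) 0)
      (ModuleCat.isZero_of_subsingleton (ModuleCat.of A PUnit.{u + 1}))))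
    (ht.2 (Groth.DAlg.IsPerfect.of_isZero (Functor.map_isZero _ (ModuleCat.isZero_of_subsingleton (ModuleCat.of A PUnit.{u + 1})))))

end Groth.Agent.S1029
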