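import Groth.Statements.S10290
import Groth.Agent.AlgSpBasic.Proper

set_option autoImplicit false
universe u
open CategoryTheory CategoryTheory.Limits AlgebraicGeometry
open AlgSp Groth.AlgSpBasic

namespace Groth.Agent.S10290

/-- A separated morphism of algebraic spaces satisfies the uniqueness part of the valuative criterion. -/
theorem result {S : Scheme.{u}} {X Y : AlgSp.Space S} (f : X ⟶ Y)
    (hf : AlgSp.IsSeparatedMor f.hom) : AlgSp.UniqVC f.hom := by
  intro v l l' hl₁ hl₂ hl'₁ hl'₂
  let t : (yon S).obj v.ptA ⟶ pullback f.hom f.hom := pullback.lift l l' (hl₂.trans hl'₂.symm)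
  obtain ⟨V, snd, fst, sq⟩ := hf.rep t
  have hc : IsClosedImmersion snd.left := hf.property t fst snd sq
  have w : v.top ≫ pullback.diagonal f.hom = (yon S).map v.j ≫ t := by
    apply pullback.hom_ext
    · rw [Category.assoc, Category.assoc, pullback.diagonal_fst, pullback.lift_fst, Category.comp_id,
        hl₁]
    · rw [Category.assoc, Category.assoc, pullback.diagonal_snd, pullback.lift_snd, Category.comp_id,
        hl'₁]
  obtain ⟨k, hk⟩ := (yon S).map_surjective (sq.lift v.top ((yon S).map v.j) w)
  have ek : k ≫ snd = v.j := (yon S).map_injective (by rw [Functor.map_comp, hk, sq.lift_snd])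
  have hd : IsDominant (Spec.map (CommRingCat.ofHom (algebraMap v.A v.K))) :=
    ⟨(PrimeSpectrum.denseRange_comap_iff_ker_le_nilRadical _).2 (by
      rw [CommRingCat.hom_ofHom,
        (RingHom.injective_iff_ker_eq_bot _).1 (IsFractionRing.injective v.A v.K)]
      exact bot_le)⟩
  have hs : Surjective snd.left := ⟨by
    rw [← Set.range_eq_univ, ← hc.base_closed.isClosed_range.closure_eq, ← Set.univ_subset_iff]
    refine (hd.denseRange.closure_range.ge).trans (closure_mono ?_)
    rintro _ ⟨z, rfl⟩
    exact ⟨k.left z, by rw [← Scheme.Hom.comp_apply, ← Over.comp_left, ek]; rfl⟩⟩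
  have : IsReduced v.ptA.left := inferInstanceAs (IsReduced (Spec (CommRingCat.of v.A)))
  have : IsIso snd.left := isIso_of_isClosedImmersion_of_surjective snd.left
  have : IsIso ((Over.forget S).map snd) := this
  have : IsIso snd := isIso_of_reflects_iso snd (Over.forget S)
  have h := (inv ((yon S).map snd)) ≫= sq.w
  rw [IsIso.inv_hom_id_assoc] at h
  have h₁ := h =≫ pullback.fst f.hom f.hom
  have h₂ := h =≫ pullback.snd f.hom f.hom
  rw [Category.assoc, Category.assoc, pullback.diagonal_fst, Category.comp_id, pullback.lift_fst] at h₁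
  rw [Category.assoc, Category.assoc, pullback.diagonal_snd, Category.comp_id, pullback.lift_snd] at h₂
  rw [← h₁, h₂]

end Groth.Agent.S10290
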