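import Groth.Statements.S10294
import Groth.Agent.AlgSp2.FiniteMor
-- import your own Groth.Agent.* helpers here

set_option autoImplicit false
universe u
open CategoryTheory CategoryTheory.Limits AlgebraicGeometry
open AlgSp

namespace Groth.Agent.S10294

/-- Finite locally free is the same as finite, flat and locally of finite presentation; over a locally
Noetherian target it is the same as finite and flat. -/
theorem result {S : Scheme.{u}} {X Y : AlgSp.Space S} (f : X ⟶ Y) :
    (AlgSp.IsFinLocFreeMor f.hom ↔
      (AlgSp.IsFiniteMor f.hom ∧ AlgSp.LocP @Flat f.hom ∧ AlgSp.LocP @LocallyOfFinitePresentation f.hom)) ∧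
    (AlgSp.IsLocNoethSp Y.obj →
      (AlgSp.IsFinLocFreeMor f.hom ↔ (AlgSp.IsFiniteMor f.hom ∧ AlgSp.LocP @Flat f.hom))) := by
  refine ⟨Groth.AlgSp2.finLocFree_iff X.property Y.property, fun hN =>
    (Groth.AlgSp2.finLocFree_iff X.property Y.property).trans
      ⟨fun h => ⟨h.1, h.2.1⟩, fun h =>
        ⟨h.1, h.2, Groth.AlgSp2.locP_lfp_of_isFiniteMor X.property Y.property hN h.1⟩⟩⟩

end Groth.Agent.S10294
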