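import Groth.Agent.DerivedCoh.LeftRes.Basic
import Groth.Agent.DerivedCoh.KFlat.Unbounded

set_option autoImplicit false
universe v u
open CategoryTheory CategoryTheory.Limits
namespace CohDer
end CohDer
open CohDer

namespace Groth.Agent.S1030

/-- Let P be a class of objects of an abelian category, closed under isomorphisms, which holds for some
zero object, is closed under binary direct sums, and such that every object is a quotient of an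
object satisfying P. For any cochain complex K there are bounded above complexes Pₙ (n ≥ 0) with
terms satisfying P, termwise surjective quasi-isomorphisms πₙ : Pₙ ⟶ τ_{≤ n}K and termwise split
injections ιₙ : Pₙ ⟶ Pₙ₊₁ whose cokernels satisfy P termwise, compatible in the sense that Pₙ ⟶
τ_{≤n}K ⟶ K equals Pₙ ⟶ Pₙ₊₁ ⟶ τ_{≤n+1}K ⟶ K. (The source indexes from 1.) -/
theorem result {A : Type u} [Category.{v} A] [Abelian A] (P : ObjectProperty A) [P.IsClosedUnderIsomorphisms]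
    (hP0 : ∃ Z : A, IsZero Z ∧ P Z) (hPsum : ∀ X Y : A, P X → P Y → P (X ⊞ Y))
    (hP : ∀ X : A, ∃ (Y : A) (π : Y ⟶ X), P Y ∧ Epi π) (K : CochainComplex A ℤ) :
    ∃ (Q : ℕ → CochainComplex A ℤ) (ι : ∀ n, Q n ⟶ Q (n + 1)) (π : ∀ n : ℕ, Q n ⟶ K.truncLE (n : ℤ)),
      (∀ n, QuasiIso (π n) ∧ ∀ i, Epi ((π n).f i)) ∧
      (∀ n, ∃ b : ℤ, (Q n).IsStrictlyLE b) ∧ (∀ n i, P ((Q n).X i)) ∧
      (∀ n i, (∃ r : (Q (n + 1)).X i ⟶ (Q n).X i, (ι n).f i ≫ r = 𝟙 _) ∧ P (cokernel ((ι n).f i))) ∧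
      (∀ n : ℕ, π n ≫ K.ιTruncLE (n : ℤ) = ι n ≫ π (n + 1) ≫ K.ιTruncLE ((n + 1 : ℕ) : ℤ)) := by
  let Stage := fun n : ℕ => {q : Σ Q : CochainComplex A ℤ, (Q ⟶ K.truncLE (n : ℤ)) //
    QuasiIso q.2 ∧ (∀ i, Epi (q.2.f i)) ∧ (∃ b : ℤ, q.1.IsStrictlyLE b) ∧ ∀ i, P (q.1.X i)}
  obtain ⟨M, hM, s, hs, hse, hMP⟩ :=
    Groth.DerivedCoh.LeftRes.exists_resolution (P := P) (K := K.truncLE ((0 : ℕ) : ℤ)) hP0 hP ((0 : ℕ) : ℤ)
  have hstep : ∀ (n : ℕ) (q : Stage n), ∃ (q' : Stage (n + 1)) (j : q.1.1 ⟶ q'.1.1),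
      (∀ i, (∃ r : q'.1.1.X i ⟶ q.1.1.X i, j.f i ≫ r = 𝟙 _) ∧ P (cokernel (j.f i))) ∧
      q.1.2 ≫ K.ιTruncLE (n : ℤ) = j ≫ q'.1.2 ≫ K.ιTruncLE ((n + 1 : ℕ) : ℤ) := by
    rintro n ⟨⟨Q, π⟩, -, -, ⟨a, ha⟩, hQ⟩
    haveI : Q.IsStrictlyLE a := ha
    let g : Q ⟶ K.truncLE ((n + 1 : ℕ) : ℤ) := π ≫ Groth.DerivedCoh.KFlat.truncStep K (n : ℤ)
    obtain ⟨Q', j, π', hj, hq, he, hb, hP', hc⟩ :=
      Groth.DerivedCoh.LeftRes.exists_extension (P := P) hP0 hP (fun h h' => hPsum _ _ h h')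
        (fun e h => P.prop_of_iso e h) hQ g a ((n + 1 : ℕ) : ℤ)
    refine ⟨⟨⟨Q', π'⟩, hq, he, hb, hP'⟩, j, hc, ?_⟩
    rw [← Category.assoc j, hj, Category.assoc]
    exact congrArg (π ≫ ·) (Groth.DerivedCoh.KFlat.truncStep_ι K (n : ℤ)).symm
  choose next j hj hcomm using hstep
  let St : ∀ n, Stage n := fun n => Nat.rec ⟨⟨M, s⟩, hs, hse, ⟨_, hM⟩, hMP⟩ next n
  exact ⟨fun n => (St n).1.1, fun n => j n (St n), fun n => (St n).1.2,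
    fun n => ⟨(St n).2.1, (St n).2.2.1⟩, fun n => (St n).2.2.2.1, fun n => (St n).2.2.2.2,
    fun n => hj n (St n), fun n => hcomm n (St n)⟩

end Groth.Agent.S1030
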