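import Groth.Statements.S10301
import Groth.Agent.AlgSpBasic.Univ

set_option autoImplicit false
universe u
open CategoryTheory CategoryTheory.Limits AlgebraicGeometry
open AlgSp Groth.AlgSpBasic

namespace Groth.Agent.S10301

/-- For a representable morphism of algebraic spaces, being a universal homeomorphism in the
representable sense agrees with inducing homeomorphisms on points after every base change. -/
theorem result {S : Scheme.{u}} {X Y : AlgSp.Space S} (f : X ⟶ Y)
    (hf : AlgSp.Representable f.hom) :
    AlgSp.RepWith FlatMor.IsUnivHomeo f.hom ↔ AlgSp.IsUnivHomeoMor f.hom := by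
  refine ⟨univSp_of_repWith fun _ _ k hk => isHomeomorph_map_of_repWith (fun _ _ φ (hφ : FlatMor.IsUnivHomeo φ) => MorphismProperty.universally_le _ _ hφ) hk, fun h => ?_⟩
  refine repWith_of_univSp rfl (fun A B k hk => topologically_of_map_yon k ?_) hf h
  exact (AlgSp.Points.schemeHomeo B).symm.isHomeomorph.comp (hk.comp (AlgSp.Points.schemeHomeo A).isHomeomorph)

end Groth.Agent.S10301
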