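import Groth.Statements.S10304
import Groth.Agent.AlgSp3.LocFinComp
import Groth.Prelude.Def_AlgSpEt

set_option autoImplicit false
set_option backward.isDefEq.respectTransparency.types false
universe u
open CategoryTheory CategoryTheory.Limits AlgebraicGeometry
open AlgSp

namespace Groth.Agent.S10304

open Groth.AlgSpBasic Groth.AlgSp3

/-- Equivalent forms of the condition that the schemes etale over X have locally finitely many
irreducible components: one etale surjective chart, every etale chart, finiteness of codimension-0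
points of quasi-compact spaces etale over X, finiteness of irreducible components of such spaces. -/
theorem result {S : Scheme.{u}} (X : AlgSp.Space S) :
    (AlgSp.EtaleLocally (fun U => ∀ W : U.Opens, IsCompact (W : Set ↥U) → (irreducibleComponents ↥W).Finite) X.obj ↔
      ∀ (U : Over S) (a : (AlgSp.yon S).obj U ⟶ X.obj), AlgSp.RepWith @Etale a →
        ∀ W : U.left.Opens, IsCompact (W : Set ↥U.left) → (irreducibleComponents ↥W).Finite) ∧
    (AlgSp.EtaleLocally (fun U => ∀ W : U.Opens, IsCompact (W : Set ↥U) → (irreducibleComponents ↥W).Finite) X.obj ↔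
      ∀ (Y : AlgSp.Space S) (g : Y ⟶ X), AlgSp.IsEtaleMor g.hom → AlgSp.IsQuasiCompactSp Y.obj →
        {y : AlgSp.Points Y.obj |
          AlgSp.HasAt (fun U u => ringKrullDim ↥(U.presheaf.stalk u) = 0) Y.obj y}.Finite) ∧
    (AlgSp.EtaleLocally (fun U => ∀ W : U.Opens, IsCompact (W : Set ↥U) → (irreducibleComponents ↥W).Finite) X.obj ↔
      ∀ (Y : AlgSp.Space S) (g : Y ⟶ X), AlgSp.IsEtaleMor g.hom → AlgSp.IsQuasiCompactSp Y.obj →
        (irreducibleComponents (AlgSp.Points Y.obj)).Finite) := by
  have hX := X.property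
  have key : EtaleLocally LocFinComp X.obj →
      ∀ (Y : Space S) (g : Y ⟶ X), IsEtaleMor g.hom → IsQuasiCompactSp Y.obj →
        ∃ (W : Over S) (q : (yon S).obj W ⟶ Y.obj), RepWith @Etale q ∧ RepWith @Surjective q ∧
          (maxPts (Set.univ : Set ↥W.left)).Finite := by
    intro h Y g hg hq
    obtain ⟨W, q, hWaff, hqe, hqs⟩ := exists_affine_chart Y.property hq
    have := locFinComp_iff.1 (locFinComp_of_chart hX h (hg q hqe)) ⊤
      (by rw [TopologicalSpace.Opens.coe_top]; exact isCompact_univ)
    exact ⟨W, q, hqe, hqs, by rwa [TopologicalSpace.Opens.coe_top] at this⟩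
  have conv : (∀ (U : Over S) (a : (yon S).obj U ⟶ X.obj), RepWith @Etale a →
      ∀ W : U.left.Opens, IsCompact (W : Set ↥U.left) → (irreducibleComponents ↥W).Finite) →
      EtaleLocally LocFinComp X.obj := fun h => by
    obtain ⟨U, p, hp, hps⟩ := hX.atlas
    exact ⟨U, p, hp, hps, h U p hp⟩
  have test : ∀ (U : Over S) (a : (yon S).obj U ⟶ X.obj), RepWith @Etale a →
      ∀ W : U.left.Opens, IsCompact (W : Set ↥U.left) →
      ∃ (g : (⟨(yon S).obj (Over.mk (W.ι ≫ U.hom)), IsAlgSpace.yon_obj _⟩ : Space S) ⟶ X),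
        IsEtaleMor g.hom ∧ IsQuasiCompactSp ((yon S).obj (Over.mk (W.ι ≫ U.hom))) := by
    intro U a ha W hW
    let i : Over.mk (W.ι ≫ U.hom) ⟶ U := Over.homMk W.ι rfl
    exact ⟨ObjectProperty.homMk ((yon S).map i ≫ a), isEtaleMor_of_repWith _
      (repWith_comp ((repWith_yon_map_iff _ i).2 (inferInstanceAs (Etale W.ι))) ha),
      (isQuasiCompactSp_yon_iff _).2 (isCompact_iff_compactSpace.1 hW)⟩
  refine ⟨⟨fun h U a ha => locFinComp_of_chart hX h ha, conv⟩,
    ⟨fun h Y g hg hq => ?_, fun h => conv fun U a ha W hW => ?_⟩,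
    ⟨fun h Y g hg hq => ?_, fun h => conv fun U a ha W hW => ?_⟩⟩
  · obtain ⟨W, q, hqe, hqs, hfin⟩ := key h Y g hg hq
    refine (hfin.image (Points.ofPt q)).subset fun y hy => ?_
    obtain ⟨w, rfl⟩ := surjective_ofPt_of_repWith hqs y
    exact ⟨w, ⟨trivial, fun v hv => eq_of_specializes_of_ringKrullDim_eq_zero
      ((hasAt_iff_forall etaleInvariant_ringKrullDim Y.property _ _).1 hy W q w hqe rfl) v hv⟩, rfl⟩
  · obtain ⟨g, hg, hq⟩ := test U a ha W hW
    let T : Over S := Over.mk (W.ι ≫ U.hom)
    have := h _ g hg hq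
    have h' : (maxPts (Set.univ : Set ↥T.left)).Finite := by
      refine Set.Finite.of_finite_image ?_ (Points.schemeHomeo T).injective.injOn
      refine this.subset ?_
      rintro _ ⟨t, ht, rfl⟩
      refine ⟨T, 𝟙 _, t, ?_, ?_, ringKrullDim_eq_zero_iff.2 ht.2⟩
      · exact repWith_isIso _
      · exact (ofPt_eq_map (𝟙 _) t).trans (Points.map_id _)
    have : QuasiSober ↥W := W.2.isOpenEmbedding_subtypeVal.quasiSober
    exact finite_components_iff.2 h'
  · obtain ⟨W, q, hqe, hqs, hfin⟩ := key h Y g hg hq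
    exact finite_components_of_surjective (Points.continuous_ofPt q)
      (surjective_ofPt_of_repWith hqs) hfin
  · obtain ⟨g, hg, hq⟩ := test U a ha W hW
    let T : Over S := Over.mk (W.ι ≫ U.hom)
    have := h _ g hg hq
    have hq' : QuasiSober (Points ((yon S).obj T)) :=
      (Points.schemeHomeo T).symm.isOpenEmbedding.quasiSober
    have ht' : T0Space (Points ((yon S).obj T)) := (Points.schemeHomeo T).t0Space
    exact finite_components_of_surjective (β := ↥T.left) (Points.schemeHomeo T).symm.continuous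
      (Points.schemeHomeo T).symm.surjective (finite_components_iff.1 this)

end Groth.Agent.S10304
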