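import Groth.Statements.S10309
import Groth.Agent.AlgSp3.DimFacts
import Groth.Agent.FibreDim.Retrocompact

set_option autoImplicit false
set_option backward.isDefEq.respectTransparency.types false
universe u
open CategoryTheory CategoryTheory.Limits AlgebraicGeometry
open AlgSp

namespace Groth.Agent.S10309

open Groth.AlgSpBasic Groth.AlgSp3

/-- For f locally of finite presentation, the locus where the relative dimension is at most n is
retrocompact in |X|. -/
theorem result {S : Scheme.{u}} {X Y : AlgSp.Space S} (f : X ⟶ Y)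
    (hf : AlgSp.LocP @LocallyOfFinitePresentation f.hom) (n : ℕ) (V : Set (AlgSp.Points X.obj))
    (hV : IsOpen V) (hVc : IsCompact V) :
    IsCompact (V ∩ {x : AlgSp.Points X.obj |
      AlgSp.HasAtMor (fun _ _ h u => FlatMor.fibreDimAt h u ≤ (n : WithBot ℕ∞)) f.hom x}) := by
  obtain ⟨U, V₁, a, b, h, ha, has, hb, -, comm⟩ := exists_charts X.property Y.property f.hom
  have : LocallyOfFinitePresentation h.left := hf a b h ha hb comm
  let O : U.left.Opens := ⟨_, hV.preimage (AlgSp.Points.continuous_ofPt a)⟩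
  -- cover `V` by images of quasi-compact opens of the chart
  have hloc : ∀ x ∈ V, ∃ K : U.left.Opens, IsCompact (K : Set ↥U.left) ∧ K ≤ O ∧
      x ∈ AlgSp.Points.ofPt a '' (K : Set ↥U.left) := by
    intro x hx
    obtain ⟨u, rfl⟩ := surjective_ofPt_of_repWith has x
    obtain ⟨K, hK, huK, hKO⟩ :=
      exists_isAffineOpen_mem_and_subset (X := U.left) (x := u) (U := O) hx
    exact ⟨K, hK.isCompact, hKO, u, huK, rfl⟩
  choose K hKc hKO hK using hloc
  obtain ⟨t, ht⟩ := hVc.elim_finite_subcover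
    (fun x : V => AlgSp.Points.ofPt a '' (K x.1 x.2 : Set ↥U.left))
    (fun x => isOpenMap_ofPt_of_etale ha _ (K x.1 x.2).isOpen)
    (fun x hx => Set.mem_iUnion.mpr ⟨⟨x, hx⟩, hK x hx⟩)
  have key : ∀ u, AlgSp.HasAtMor (fun _ _ h u => FlatMor.fibreDimAt h u ≤ (n : WithBot ℕ∞)) f.hom
      (AlgSp.Points.ofPt a u) ↔ FlatMor.fibreDimAt h.left u ≤ (n : WithBot ℕ∞) := fun u =>
    hasAtMor_iff_of_chart etMor_fibreDimAt (fun d => d ≤ (n : WithBot ℕ∞)) X.property.diag
      Y.property.diag ha hb comm u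
  have hc := t.isCompact_biUnion fun (x : V) (_ : x ∈ t) =>
    ((Groth.FibreDim.isRetrocompact_fibreDimAt_le h.left n) (hKc x.1 x.2) (K x.1 x.2).isOpen).image
      (AlgSp.Points.continuous_ofPt a)
  convert hc using 1
  ext x
  simp only [Set.mem_inter_iff, Set.mem_setOf_eq, Set.mem_iUnion, Set.mem_image]
  constructor
  · rintro ⟨hxV, hx⟩
    obtain ⟨y, hy, u, hu, rfl⟩ := Set.mem_iUnion₂.mp (ht hxV)
    exact ⟨y, hy, u, ⟨(key u).mp hx, hu⟩, rfl⟩
  · rintro ⟨y, -, u, ⟨h1, h2⟩, rfl⟩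
    exact ⟨hKO y.1 y.2 h2, (key u).mpr h1⟩

end Groth.Agent.S10309
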