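import Groth.Statements.S1031
-- import your own Groth.Agent.* helpers here

set_option autoImplicit false
universe v u
open CategoryTheory
open CohDer

namespace Groth.Agent.S1031

open CategoryTheory.Limits CategoryTheory.Pretriangulated ZeroObject

open CategoryTheory.Limits CategoryTheory.Pretriangulated in
theorem closedProducts {D : Type u} [Category.{v} D] [Preadditive D] [HasZeroObject D] [HasShift D ℤ]
    [∀ n : ℤ, (shiftFunctor D n).Additive] [Pretriangulated D] [IsTriangulated D]
    (P : ObjectProperty D) (n : ℕ) :
    (P.triangEnvelopeIter n).IsClosedUnderBinaryProducts := by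
  have key0 : ∀ (f : WalkingPair → D),
      (∀ j, (P.shiftClosure ℤ).binaryProductsClosure.retractClosure (f j)) →
      (P.shiftClosure ℤ).binaryProductsClosure.retractClosure (∏ᶜ f) := by
    intro f hf
    choose Y hY r using hf
    refine ⟨∏ᶜ Y, ObjectProperty.prop_of_isLimit_binaryFan _ (X := Y .left) (Y := Y .right)
      (B := BinaryFan.mk (Pi.π Y .left) (Pi.π Y .right)) ?_ (hY _) (hY _), ⟨?_⟩⟩
    · exact BinaryFan.isLimitMk (fun s => Pi.lift fun j => WalkingPair.casesOn j s.fst s.snd)
        (fun s => Pi.lift_π _ _) (fun s => Pi.lift_π _ _)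
        (fun s m h₁ h₂ => Pi.hom_ext _ _ fun j => by cases j <;> (rw [Pi.lift_π]; first | exact h₁ | exact h₂))
    · exact
        { i := Limits.Pi.map fun j => (r j).some.i
          r := Limits.Pi.map fun j => (r j).some.r
          retract := by ext; simp }
  have key : ∀ (n : ℕ) (f : WalkingPair → D), (∀ j, P.triangEnvelopeIter n (f j)) →
      P.triangEnvelopeIter n (∏ᶜ f) := by
    intro n
    induction n with
    | zero => simpa only [ObjectProperty.triangEnvelopeIter_zero] using key0
    | succ n ih =>
      intro f hf
      rw [ObjectProperty.triangEnvelopeIter_succ] at hf ⊢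
      choose Y hY r using hf
      choose A B a b c hT hA hB using hY
      exact ⟨∏ᶜ Y, ⟨∏ᶜ A, ∏ᶜ B, _, _, _,
        productTriangle_distinguished (fun j => Triangle.mk (a j) (b j) (c j)) hT, key0 A hA, ih B hB⟩,
        ⟨{ i := Limits.Pi.map fun j => (r j).some.i
           r := Limits.Pi.map fun j => (r j).some.r
           retract := by ext; simp }⟩⟩
  constructor
  rintro X ⟨p⟩
  refine ObjectProperty.prop_of_iso _ ?_ (key n (fun j => p.diag.obj ⟨j⟩) fun j => p.prop_diag_obj _)
  exact IsLimit.conePointsIsoOfNatIso (limit.isLimit _) p.isLimit (Discrete.natIso fun _ => Iso.refl _)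

open CategoryTheory.Limits CategoryTheory.Pretriangulated ZeroObject

/-- Let D be a triangulated category admitting a strong generator G (every object is reached from G by
shifts, finite sums, summands and a uniformly bounded number of extensions). Then every classical
generator E of D (every object reached from E with some finite number of extensions) is itself a
strong generator. -/
theorem result {D : Type u} [Category.{v} D] [Preadditive D] [Limits.HasZeroObject D] [HasShift D ℤ]
    [∀ n : ℤ, (shiftFunctor D n).Additive] [Pretriangulated D] [IsTriangulated D]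
    (G E : D) (hG : ObjectProperty.IsStrongTriangulatedGenerator (fun X : D => X = G))
    (hE : ObjectProperty.IsClassicalTriangulatedGenerator (fun X : D => X = E)) :
    ObjectProperty.IsStrongTriangulatedGenerator (fun X : D => X = E) := by
  obtain ⟨n, hn⟩ := (ObjectProperty.prop_triangEnvelope_iff _ G).1
    (show ObjectProperty.triangEnvelope (fun X : D => X = E) G by rw [hE]; trivial)
  obtain ⟨k, hk⟩ := hG
  let P : ObjectProperty D := fun X => X = E
  let Q := P.triangEnvelopeIter n
  haveI : Q.IsClosedUnderBinaryProducts := closedProducts P n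
  have h0 : (ObjectProperty.shiftClosure (fun X : D => X = G) ℤ).binaryProductsClosure.retractClosure ≤ Q := by
    rw [ObjectProperty.retractClosure_le_iff]
    refine ObjectProperty.limitsClosure_le ?_
    rw [ObjectProperty.shiftClosure_le_iff]
    rintro X rfl
    exact hn
  have h1 : ∀ j, ∃ m, Q.extensionProductIter j ≤ P.triangEnvelopeIter m := by
    intro j
    induction j with
    | zero => exact ⟨n, le_rfl⟩
    | succ j ih =>
      obtain ⟨m, hm⟩ := ih
      refine ⟨(n + 1) + m, ?_⟩
      rw [P.triangEnvelopeIter_add (n := n + 1) (n' := n) rfl, ObjectProperty.extensionProductIter_succ]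
      exact ((ObjectProperty.monotone_extensionProduct_right _ hm).trans (ObjectProperty.le_retractClosure _))
  obtain ⟨m, hm⟩ := h1 k
  refine ⟨m, eq_top_iff.2 ?_⟩
  rw [← hk, ObjectProperty.triangEnvelopeIter, ObjectProperty.retractClosure_le_iff]
  exact (ObjectProperty.monotone_extensionProductIter h0 k).trans hm

end Groth.Agent.S1031
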