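import Groth.Statements.S10310
import Groth.Agent.AlgSp3.DimFacts

set_option autoImplicit false
set_option backward.isDefEq.respectTransparency.types false
universe u
open CategoryTheory CategoryTheory.Limits AlgebraicGeometry
open AlgSp

namespace Groth.Agent.S10310

open Groth.AlgSpBasic Groth.AlgSp3

/-- A morphism locally of finite type is locally quasi-finite if and only if it has relative dimension 0
at every point. -/
theorem result {S : Scheme.{u}} {X Y : AlgSp.Space S} (f : X ⟶ Y)
    (hf : AlgSp.LocP @LocallyOfFiniteType f.hom) :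
    AlgSp.LocP (@LocallyQuasiFinite ⊓ @LocallyOfFiniteType) f.hom ↔
      ∀ x : AlgSp.Points X.obj, AlgSp.HasAtMor (fun _ _ h u => FlatMor.fibreDimAt h u = 0) f.hom x := by
  obtain ⟨U, V, a, b, h, ha, has, hb, -, comm⟩ := exists_charts X.property Y.property f.hom
  have : LocallyOfFiniteType h.left := hf a b h ha hb comm
  constructor
  · intro hq x
    obtain ⟨u, rfl⟩ := surjective_ofPt_of_repWith has x
    have : LocallyQuasiFinite h.left := (hq a b h ha hb comm).1
    exact ⟨U, V, a, b, h, u, ha, hb, comm, rfl,
      Groth.FibreDim.fibreDimAt_eq_zero_of_locallyQuasiFinite h.left u⟩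
  · intro hx
    refine locP_of_chart X.property.diag Y.property.diag ha has hb comm
      ⟨locallyQuasiFinite_of_fibreDimAt h.left fun u => ?_, inferInstance⟩
    exact (hasAtMor_iff_of_chart etMor_fibreDimAt (· = (0 : WithBot ℕ∞)) X.property.diag
      Y.property.diag ha hb comm u).mp (hx _)

end Groth.Agent.S10310
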