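import Groth.Statements.S10311
import Groth.Agent.AlgSp3.DimFacts
import Groth.Agent.FibreDim.BaseChange

set_option autoImplicit false
set_option backward.isDefEq.respectTransparency.types false
universe u
open CategoryTheory CategoryTheory.Limits AlgebraicGeometry
open AlgSp

namespace Groth.Agent.S10311

open Groth.AlgSpBasic Groth.AlgSp3

/-- The relative dimension at a point of a morphism locally of finite type is preserved by base change. -/
theorem result {S : Scheme.{u}} {X Y Y' X' : AlgSp.Space S} (f : X ⟶ Y) (g : Y' ⟶ Y)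
    (g' : X' ⟶ X) (f' : X' ⟶ Y') (sq : IsPullback g'.hom f'.hom f.hom g.hom)
    (hf : AlgSp.LocP @LocallyOfFiniteType f.hom) (x' : AlgSp.Points X'.obj) (d : WithBot ℕ∞)
    (hd : AlgSp.HasAtMor (fun _ _ h u => FlatMor.fibreDimAt h u = d) f.hom (AlgSp.Points.map g'.hom x')) :
    AlgSp.HasAtMor (fun _ _ h u => FlatMor.fibreDimAt h u = d) f'.hom x' := by
  obtain ⟨U, V, V', U', a, b, b', a', h, k, p, h', u', ha, hb, hb', ha', comm, -, comm', -, hpb, rfl, hu⟩ :=
    exists_chart_baseChange X.property Y.property Y'.property sq x'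
  have : LocallyOfFiniteType h.left := hf a b h ha hb comm
  refine ⟨U', V', a', b', h', u', ha', hb', comm', rfl, ?_⟩
  refine (Groth.FibreDim.fibreDimAt_baseChange h.left k.left h'.left p.left hpb u').trans ?_
  rw [← hu] at hd
  exact (hasAtMor_iff_of_chart etMor_fibreDimAt (· = d) X.property.diag Y.property.diag ha hb comm
    (p.left u')).mp hd

end Groth.Agent.S10311
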