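import Groth.Statements.S10313
import Groth.Agent.AlgSp3.NbhdInv
import Groth.Agent.FibreDim.BaseChange
import Groth.Agent.AlgSpBasic.AlgSpace

set_option autoImplicit false
set_option backward.isDefEq.respectTransparency.types false
universe u
open CategoryTheory CategoryTheory.Limits AlgebraicGeometry
open AlgSp

namespace Groth.Agent.S10313

open Groth.AlgSpBasic Groth.AlgSp3

/-- For f locally of finite type there is an open subspace of X on which f is locally quasi-finite,
outside of which the relative dimension is at least 1, and whose formation commutes with base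
change. -/
theorem result {S : Scheme.{u}} {X Y : AlgSp.Space S} (f : X ⟶ Y)
    (hf : AlgSp.LocP @LocallyOfFiniteType f.hom) :
    ∃ (X' : AlgSp.Space S) (j : X' ⟶ X), AlgSp.RepWith @IsOpenImmersion j.hom ∧
      AlgSp.LocP (@LocallyQuasiFinite ⊓ @LocallyOfFiniteType) (j ≫ f).hom ∧
      (∀ x : AlgSp.Points X.obj, x ∉ Set.range (AlgSp.Points.map j.hom) →
        AlgSp.HasAtMor (fun _ _ h u => 1 ≤ FlatMor.fibreDimAt h u) f.hom x) ∧
      ∀ (Y'' X'' : AlgSp.Space S) (g : Y'' ⟶ Y) (b : X'' ⟶ X) (f'' : X'' ⟶ Y''),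
        IsPullback b.hom f''.hom f.hom g.hom → ∀ x'' : AlgSp.Points X''.obj,
          AlgSp.Points.map b.hom x'' ∈ Set.range (AlgSp.Points.map j.hom) ↔ AlgSp.HasAtMor (fun U _ h u => ∃ W : U.Opens, u ∈ W ∧ LocallyQuasiFinite (W.ι ≫ h) ∧ LocallyOfFiniteType (W.ι ≫ h)) f''.hom x'' := by
  have hb := isZariskiLocalAtSource_inf ((@LocallyQuasiFinite : MorphismProperty Scheme.{u}) ⊓
    @LocallyOfFiniteType) @LocallyQuasiFinite @LocallyOfFiniteType (fun _ _ g => Iff.rfl)
  obtain ⟨X', j, hj, hP, hr⟩ := exists_openSub_locP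
    ((@LocallyQuasiFinite : MorphismProperty Scheme.{u}) ⊓ @LocallyOfFiniteType) f
  have hmem : ∀ x, x ∈ Set.range (AlgSp.Points.map j.hom) ↔
      AlgSp.HasAtMor (fun _ _ h u => FlatMor.fibreDimAt h u = 0) f.hom x := fun x => by
    rw [hr]
    exact hasAtMor_lqf_iff X.property Y.property hf x
  refine ⟨X', j, hj, hP, fun x hx => ?_, fun Y'' X'' g b f'' sq x'' => ?_⟩
  · obtain ⟨U, V, a, b, h, u, ha, hb', comm, rfl⟩ := exists_chart_at X.property Y.property f.hom x
    have : LocallyOfFiniteType h.left := hf a b h ha hb' comm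
    exact ⟨U, V, a, b, h, u, ha, hb', comm, rfl, one_le_fibreDimAt h.left u fun h0 =>
      hx ((hmem _).mpr ⟨U, V, a, b, h, u, ha, hb', comm, rfl, h0⟩)⟩
  · obtain ⟨U, V, V', U', a, bb, b', a', h, k, p, h', u', ha, hbb, hb', ha', comm, -, comm', -, hpb,
      rfl, hu⟩ := exists_chart_baseChange X.property Y.property Y''.property sq x''
    have : LocallyOfFiniteType h.left := hf a bb h ha hbb comm
    have hf'' : AlgSp.LocP @LocallyOfFiniteType f''.hom :=
      locP_of_isPullback X.property Y.property Y''.property sq hf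
    rw [← hu, hmem, hasAtMor_lqf_iff X''.property Y''.property hf'',
      hasAtMor_iff_of_chart etMor_fibreDimAt (fun d => d = (0 : WithBot ℕ∞)) X.property.diag
        Y.property.diag ha hbb comm (p.left u'),
      hasAtMor_iff_of_chart etMor_fibreDimAt (fun d => d = (0 : WithBot ℕ∞)) X''.property.diag
        Y''.property.diag ha' hb' comm' u',
      Groth.FibreDim.fibreDimAt_baseChange h.left k.left h'.left p.left hpb u']

end Groth.Agent.S10313
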