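import Groth.Statements.S10314
import Groth.Agent.AlgSp3.DimFacts
import Groth.Agent.FibreDim.DimStalk
import Groth.Agent.AlgSp2.InfSmallExt

set_option autoImplicit false
set_option backward.isDefEq.respectTransparency.types false
universe u
open CategoryTheory CategoryTheory.Limits AlgebraicGeometry
open AlgSp

namespace Groth.Agent.S10314

open Groth.AlgSpBasic Groth.AlgSp3

/-- For a flat morphism locally of finite type of relative dimension d between locally Noetherian
algebraic spaces, the dimension of X at a point equals the dimension of Y at the image point plus d. -/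
theorem result {S : Scheme.{u}} {X Y : AlgSp.Space S} (f : X ⟶ Y)
    (hX : AlgSp.IsLocNoethSp X.obj) (hY : AlgSp.IsLocNoethSp Y.obj) (hf : AlgSp.LocP @Flat f.hom)
    (hf' : AlgSp.LocP @LocallyOfFiniteType f.hom) (d : ℕ)
    (hd : ∀ x : AlgSp.Points X.obj, AlgSp.HasAtMor (fun _ _ h u => FlatMor.fibreDimAt h u = (d : WithBot ℕ∞)) f.hom x)
    (x : AlgSp.Points X.obj) (dX dY : WithBot ℕ∞) (hx : AlgSp.HasAt (fun U u => FlatMor.localDim ↥U u = dX) X.obj x)
    (hy : AlgSp.HasAt (fun U u => FlatMor.localDim ↥U u = dY) Y.obj (AlgSp.Points.map f.hom x)) :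
    dX = dY + (d : WithBot ℕ∞) := by
  obtain ⟨U, V, a, b, h, ha, has, hb, hbs, comm⟩ := exists_charts X.property Y.property f.hom
  obtain ⟨u, rfl⟩ := surjective_ofPt_of_repWith has x
  have : Flat h.left := hf a b h ha hb comm
  have : LocallyOfFiniteType h.left := hf' a b h ha hb comm
  have : IsLocallyNoetherian V.left :=
    (Groth.AlgSp2.isLocallyNoetherian_of_etale Y.property hY hb)
  rw [← (hasAt_iff_forall etaleInvariant_localDim X.property _ _).mp hx U a u ha rfl,
    ← (hasAt_iff_forall etaleInvariant_localDim Y.property _ _).mp hy V b (h.left u) hb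
      (by rw [AlgSp.Points.map_ofPt, comm, ofPt_comp_yon])]
  exact Groth.FibreDim.localDim_eq_add_of_flat h.left d (fun u' =>
    (hasAtMor_iff_of_chart etMor_fibreDimAt (· = (d : WithBot ℕ∞)) X.property.diag Y.property.diag
      ha hb comm u').mp (hd _)) u

end Groth.Agent.S10314
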