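import Groth.Statements.S10315
import Groth.Agent.AlgSp3.DimFacts
import Groth.Agent.FibreDim.DimStalk
import Groth.Agent.AlgSp2.InfSmallExt

set_option autoImplicit false
set_option backward.isDefEq.respectTransparency.types false
universe u
open CategoryTheory CategoryTheory.Limits AlgebraicGeometry
open AlgSp

namespace Groth.Agent.S10315

open Groth.AlgSpBasic Groth.AlgSp3

/-- For a smooth morphism of locally Noetherian algebraic spaces, the dimension of X at x is the
dimension of Y at the image of x plus the relative dimension of f at x. -/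
theorem result {S : Scheme.{u}} {X Y : AlgSp.Space S} (f : X ⟶ Y)
    (hX : AlgSp.IsLocNoethSp X.obj) (hY : AlgSp.IsLocNoethSp Y.obj) (hf : AlgSp.LocP @Smooth f.hom)
    (x : AlgSp.Points X.obj) (d dX dY : WithBot ℕ∞)
    (hd : AlgSp.HasAtMor (fun _ _ h u => FlatMor.fibreDimAt h u = d) f.hom x)
    (hx : AlgSp.HasAt (fun U u => FlatMor.localDim ↥U u = dX) X.obj x)
    (hy : AlgSp.HasAt (fun U u => FlatMor.localDim ↥U u = dY) Y.obj (AlgSp.Points.map f.hom x)) :
    dX = dY + d := by
  obtain ⟨U, V, a, b, h, u, ha, hb, comm, rfl⟩ := exists_chart_at X.property Y.property f.hom x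
  have : Smooth h.left := hf a b h ha hb comm
  have : IsLocallyNoetherian V.left := Groth.AlgSp2.isLocallyNoetherian_of_etale Y.property hY hb
  rw [← (hasAt_iff_forall etaleInvariant_localDim X.property _ _).mp hx U a u ha rfl,
    ← (hasAt_iff_forall etaleInvariant_localDim Y.property _ _).mp hy V b (h.left u) hb
      (by rw [AlgSp.Points.map_ofPt, comm, ofPt_comp_yon]),
    ← (hasAtMor_iff_of_chart etMor_fibreDimAt (· = d) X.property.diag Y.property.diag
      ha hb comm u).mp hd]
  obtain ⟨n, W, huW, hn⟩ := exists_open_smoothOfRelativeDimension h.left u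
  have := SmoothOfRelativeDimension.smooth n (W.ι ≫ h.left)
  have hdim := Groth.FibreDim.fibreDimAt_eq_of_smoothOfRelativeDimension n (W.ι ≫ h.left)
  have e := Groth.FibreDim.localDim_eq_add_of_flat (W.ι ≫ h.left) n hdim ⟨u, huW⟩
  have e₂ := hdim ⟨u, huW⟩
  rw [fibreDimAt_etale_comp] at e₂
  rw [Groth.DescentBase.localDim_eq_of_etale W.ι] at e
  exact e.trans (congrArg _ e₂.symm)

end Groth.Agent.S10315
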