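import Groth.Statements.S10316
import Groth.Agent.AlgSp3.DimFacts

set_option autoImplicit false
set_option backward.isDefEq.respectTransparency.types false
universe u
open CategoryTheory CategoryTheory.Limits AlgebraicGeometry
open AlgSp

namespace Groth.Agent.S10316

open Groth.AlgSpBasic Groth.AlgSp3

/-- For X -> Y locally quasi-finite and Y -> Z locally of finite type, the transcendence degree of x
over Z equals that of its image y over Z. -/
theorem result {S : Scheme.{u}} {X Y Z : AlgSp.Space S} (f : X ⟶ Y) (g : Y ⟶ Z)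
    (hf : AlgSp.LocP (@LocallyQuasiFinite ⊓ @LocallyOfFiniteType) f.hom) (hg : AlgSp.LocP @LocallyOfFiniteType g.hom)
    (x : AlgSp.Points X.obj) (r : Cardinal.{u}) :
    AlgSp.HasAtMor (fun _ _ h u => Dual3.resTrdeg h u = r) (f ≫ g).hom x ↔
      AlgSp.HasAtMor (fun _ _ h u => Dual3.resTrdeg h u = r) g.hom (AlgSp.Points.map f.hom x) := by
  obtain ⟨U, V, W, a, b, c, h, k, u, ha, hb, hc, comm, comm₂, comm₃, rfl, hu⟩ :=
    exists_chart_comp X.property Y.property Z.property f.hom g.hom x
  obtain ⟨_, _⟩ := hf a b h ha hb comm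
  rw [← hu]
  refine (hasAtMor_iff_of_chart etMor_resTrdeg (· = r) X.property.diag Z.property.diag ha hc
    comm₃ u).trans (Iff.trans ?_ (hasAtMor_iff_of_chart etMor_resTrdeg (· = r) Y.property.diag
      Z.property.diag hb hc comm₂ (h.left u)).symm)
  show Dual3.resTrdeg (h.left ≫ k.left) u = r ↔ _
  rw [resTrdeg_comp, resTrdeg_eq_zero_of_quasiFinite h.left u, add_zero]

end Groth.Agent.S10316
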