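import Groth.Statements.S10318
import Groth.Agent.AlgSp3.FTPoints
import Groth.Agent.AlgSp3.DimFacts
import Mathlib.AlgebraicGeometry.Morphisms.Finite

set_option autoImplicit false
set_option backward.isDefEq.respectTransparency.types false
universe u
open CategoryTheory CategoryTheory.Limits AlgebraicGeometry
open AlgSp

namespace Groth.Agent.S10318

open Groth.AlgSpBasic Groth.AlgSp3 Topology

/-- Over a Jacobson algebraic space, a finite type point of a space locally of finite type over it has
transcendence degree 0 over its image. -/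
theorem result {S : Scheme.{u}} {X Y : AlgSp.Space S} (f : X ⟶ Y)
    (hf : AlgSp.LocP @LocallyOfFiniteType f.hom) (hY : AlgSp.EtaleLocally (fun U => JacobsonSpace ↥U) Y.obj)
    (x : AlgSp.Points X.obj) (hx : AlgSp.HasAt (fun U u => IsClosed ({u} : Set ↥U)) X.obj x) :
    AlgSp.HasAtMor (fun _ _ h u => Dual3.resTrdeg h u = 0) f.hom x := by
  obtain ⟨V, b, hb, hbs, hV⟩ := hY
  obtain ⟨U, a, h, ha, has, comm⟩ := exists_chart_over X.property Y.property.diag f.hom b hb hbs
  have : LocallyOfFiniteType h.left := hf a b h ha hb comm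
  have : JacobsonSpace ↥V.left := hV
  have : JacobsonSpace ↥U.left := LocallyOfFiniteType.jacobsonSpace h.left
  obtain ⟨U₁, φ, u₁, hφ, rfl, hu₁⟩ := hx
  obtain ⟨u, hu⟩ := surjective_ofPt_of_repWith has (AlgSp.Points.ofPt φ u₁)
  obtain ⟨W, e₁, e₂, hW⟩ := exists_pullback_of_diag X.property.diag φ a
  have : Etale e₁.left := repWith_fst_of_isPullback hW.flip ha
  have : Etale e₂.left := repWith_fst_of_isPullback hW hφ
  obtain ⟨w, hw₁, rfl⟩ := (ofPt_eq_ofPt_iff hW u₁ u).mp hu.symm
  -- the point of the refinement is closed
  have hwc : IsClosed ({w} : Set ↥W.left) := by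
    have : LocallyQuasiFinite e₁.left := Groth.AlgSp2.locallyQuasiFinite_of_etale e₁.left
    have := (e₁.left.isDiscrete_preimage_singleton u₁).to_subtype
    have h₁ : IsClosed ({⟨w, hw₁⟩} : Set ↥(e₁.left ⁻¹' {u₁})) := isClosed_discrete _
    have := (hu₁.preimage e₁.left.continuous).isClosedMap_subtype_val _ h₁
    simpa using this
  have huc : IsClosed ({e₂.left w} : Set ↥U.left) :=
    e₂.left.closePoints_subset_preimage_closedPoints hwc
  refine ⟨U, V, a, b, h, e₂.left w, ha, hb, comm, hu, ?_⟩
  have := isClosed_singleton_iff_isClosedImmersion.mp huc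
  set u := e₂.left w
  have hl : LocallyOfFiniteType (Spec.map (h.left.residueFieldMap u) ≫ V.left.fromSpecResidueField _) := by
    rw [Scheme.Hom.SpecMap_residueFieldMap_fromSpecResidueField]
    exact MorphismProperty.comp_mem _ _ _ (inferInstance : LocallyOfFiniteType (U.left.fromSpecResidueField u))
      ‹LocallyOfFiniteType h.left›
  have hl' := @locallyOfFiniteType_of_comp _ _ _ _ _ hl
  rw [HasRingHomProperty.Spec_iff (P := @LocallyOfFiniteType)] at hl'
  let := (h.left.residueFieldMap u).hom.toAlgebra
  have : Algebra.FiniteType (V.left.residueField (h.left u)) (U.left.residueField u) := hl'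
  have : Module.Finite (V.left.residueField (h.left u)) (U.left.residueField u) :=
    finite_of_finite_type_of_isJacobsonRing _ _
  exact trdeg_eq_zero

end Groth.Agent.S10318
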