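import Groth.Statements.S10319
import Groth.Agent.AlgSp3.DimFacts

set_option autoImplicit false
set_option backward.isDefEq.respectTransparency.types false
universe u
open CategoryTheory CategoryTheory.Limits AlgebraicGeometry
open AlgSp

namespace Groth.Agent.S10319

open Groth.AlgSpBasic Groth.AlgSp3

/-- Transcendence degrees at a point add up along a composition of morphisms locally of finite type. -/
theorem result {S : Scheme.{u}} {X Y Z : AlgSp.Space S} (f : X ⟶ Y) (g : Y ⟶ Z)
    (hf : AlgSp.LocP @LocallyOfFiniteType f.hom) (hg : AlgSp.LocP @LocallyOfFiniteType g.hom)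
    (x : AlgSp.Points X.obj) (r₁ r₂ : Cardinal.{u})
    (h1 : AlgSp.HasAtMor (fun _ _ h u => Dual3.resTrdeg h u = r₁) f.hom x)
    (h2 : AlgSp.HasAtMor (fun _ _ h u => Dual3.resTrdeg h u = r₂) g.hom (AlgSp.Points.map f.hom x)) :
    AlgSp.HasAtMor (fun _ _ h u => Dual3.resTrdeg h u = r₁ + r₂) (f ≫ g).hom x := by
  obtain ⟨U, V, W, a, b, c, h, k, u, ha, hb, hc, comm, comm₂, comm₃, rfl, hu⟩ :=
    exists_chart_comp X.property Y.property Z.property f.hom g.hom x
  rw [← hu] at h2
  refine ⟨U, W, a, c, h ≫ k, u, ha, hc, comm₃, rfl, ?_⟩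
  have e1 := (hasAtMor_iff_of_chart etMor_resTrdeg (· = r₁) X.property.diag Y.property.diag ha hb
    comm u).mp h1
  have e2 := (hasAtMor_iff_of_chart etMor_resTrdeg (· = r₂) Y.property.diag Z.property.diag hb hc
    comm₂ (h.left u)).mp h2
  show Dual3.resTrdeg (h.left ≫ k.left) u = r₁ + r₂
  rw [resTrdeg_comp, ← e1, ← e2, add_comm]

end Groth.Agent.S10319
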