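import Groth.Statements.S1032
import Mathlib.Algebra.Homology.DerivedCategory.KInjective
import Mathlib.CategoryTheory.Functor.Derived.PointwiseRightDerived


set_option autoImplicit false
universe w v v' u u'
open CategoryTheory CategoryTheory.Limits
open CohDer

namespace Groth.Agent.S1032

/-- Let A be an abelian category in which every cochain complex admits a quasi-isomorphism to a
K-injective complex, and let F be an exact functor from the homotopy category K(A) to a
pretriangulated category. Then F has a right derived functor RF with respect to quasi-isomorphisms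
(defined on D(A)), and the canonical map F(I) ⟶ RF(I) is an isomorphism for every K-injective
complex I. -/
theorem result {A : Type u} [Category.{v} A] [Abelian A] [HasDerivedCategory.{w} A]
    (hKinj : ∀ K : CochainComplex A ℤ, ∃ (I : CochainComplex A ℤ) (f : K ⟶ I), I.IsKInjective ∧ QuasiIso f)
    {D' : Type u'} [Category.{v'} D'] [Preadditive D'] [Limits.HasZeroObject D'] [HasShift D' ℤ]
    [∀ n : ℤ, (shiftFunctor D' n).Additive] [Pretriangulated D']
    [IsTriangulated D']
    (F : HomotopyCategory A (ComplexShape.up ℤ) ⥤ D') [F.CommShift ℤ] [F.IsTriangulated] :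
    F.HasRightDerivedFunctor (HomotopyCategory.quasiIso A (ComplexShape.up ℤ)) ∧
    ∀ [F.HasRightDerivedFunctor (HomotopyCategory.quasiIso A (ComplexShape.up ℤ))] (I : CochainComplex A ℤ), I.IsKInjective →
      IsIso ((F.totalRightDerivedUnit DerivedCategory.Qh (HomotopyCategory.quasiIso A (ComplexShape.up ℤ))).app
        ((HomotopyCategory.quotient A (ComplexShape.up ℤ)).obj I)) := by
  classical
  let W := HomotopyCategory.quasiIso A (ComplexShape.up ℤ)
  have hterm : ∀ I : CochainComplex A ℤ, I.IsKInjective → Nonempty (IsTerminal
      (CostructuredArrow.mk (𝟙 (DerivedCategory.Qh.obj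
        ((HomotopyCategory.quotient A (ComplexShape.up ℤ)).obj I))) :
          CostructuredArrow DerivedCategory.Qh _)) := fun I hI => by
    have hb := fun K => CochainComplex.IsKInjective.Qh_map_bijective K I
    refine ⟨IsTerminal.ofUniqueHom (fun j => CostructuredArrow.homMk
      (((hb j.left).surjective j.hom).choose) ?_) (fun j g => ?_)⟩
    · exact (Category.comp_id _).trans ((hb j.left).surjective j.hom).choose_spec
    · ext
      refine (hb j.left).injective ?_
      have := CostructuredArrow.w g
      exact ((Category.comp_id _).symm.trans this).trans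
        ((hb j.left).surjective j.hom).choose_spec.symm
  have hpt : F.HasPointwiseRightDerivedFunctor W := fun X => by
    obtain ⟨K, rfl⟩ := HomotopyCategory.quotient_obj_surjective X
    obtain ⟨I, f, hI, hf⟩ := hKinj K
    rw [F.hasPointwiseRightDerivedFunctorAt_iff_of_mem W
      ((HomotopyCategory.quotient A (ComplexShape.up ℤ)).map f)
      ((HomotopyCategory.quotient_map_mem_quasiIso_iff f).2 hf),
      F.hasPointwiseRightDerivedFunctorAt_iff DerivedCategory.Qh W]
    exact HasColimit.mk ⟨_, colimitOfDiagramTerminal (hterm I hI).some _⟩
  refine ⟨inferInstance, fun I hI => ?_⟩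
  have hc := Functor.isPointwiseLeftKanExtensionOfHasPointwiseRightDerivedFunctor
    (α := F.totalRightDerivedUnit DerivedCategory.Qh W) (F' := F.totalRightDerived DerivedCategory.Qh W) W
    (DerivedCategory.Qh.obj ((HomotopyCategory.quotient A (ComplexShape.up ℤ)).obj I))
  have := IsColimit.isIso_ι_app_of_isTerminal hc _ (hterm I hI).some
  simp at this
  exact this

end Groth.Agent.S1032
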