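import Groth.Statements.S10321
import Groth.Agent.AlgSpBasic.SepLQFScheme

set_option autoImplicit false
set_option backward.isDefEq.respectTransparency.types false
universe u
open CategoryTheory CategoryTheory.Limits AlgebraicGeometry
open AlgSp Groth.AlgSpBasic

namespace Groth.Agent.S10321

/-- Let X be separated and locally quasi-finite over an affine scheme T, let T' -> T be etale with T'
affine, and let V' be an open subspace of T' ×_T X that is quasi-affine over T'. Then V' maps onto a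
quasi-compact open subspace of X that is itself a scheme. -/
theorem result {S : Scheme.{u}} {T T' : Over S} [IsAffine T.left]
    [IsAffine T'.left] (e : T' ⟶ T) [Etale e.left] {X P V' : AlgSp.Space S} (f : X ⟶ (AlgSp.ofScheme S).obj T)
    (hsep : AlgSp.IsSeparatedMor f.hom) (hqf : AlgSp.LocP (@LocallyQuasiFinite ⊓ @LocallyOfFiniteType) f.hom)
    (p1 : P ⟶ (AlgSp.ofScheme S).obj T') (p2 : P ⟶ X)
    (sq : IsPullback p2.hom p1.hom f.hom ((AlgSp.yon S).map e)) (j : V' ⟶ P)
    (hj : AlgSp.RepWith @IsOpenImmersion j.hom) (hqa : AlgSp.IsQuasiAffineMor (j ≫ p1).hom) :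
    ∃ (W : Over S) (i : (AlgSp.yon S).obj W ⟶ X.obj), AlgSp.RepWith @IsOpenImmersion i ∧ CompactSpace ↥W.left ∧
      Set.range (AlgSp.Points.map i) = Set.range (AlgSp.Points.map (j ≫ p2).hom) := by
  obtain ⟨G, ⟨φ⟩⟩ := exists_iso_of_separated_lqf X.property hqf hsep
  obtain ⟨W₀, i₀, fst, sq₀, hW₀⟩ := hqa (Z := T') inferInstance (𝟙 _)
  have : IsIso fst :=
    ⟨sq₀.lift (𝟙 _) (j ≫ p1).hom ((Category.id_comp _).trans (Category.comp_id _).symm),
      sq₀.hom_ext (by rw [Category.assoc, sq₀.lift_fst, Category.comp_id, Category.id_comp])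
        ((Category.assoc _ _ _).trans ((congrArg (fst ≫ ·) (sq₀.lift_snd _ _ _)).trans
          ((sq₀.w.trans (Category.comp_id _)).trans (Category.id_comp _).symm))),
      sq₀.lift_fst _ _ _⟩
  have hcomp : CompactSpace ↥W₀.left := hW₀.toCompactSpace
  let c : (AlgSp.yon S).obj W₀ ⟶ X.obj := fst ≫ (j ≫ p2).hom
  have hc : RepWith @Etale c := by
    refine repWith_comp (repWith_isIso fst) (repWith_comp ?_ ?_)
    · exact repWith_mono (P := @IsOpenImmersion) (Q := @Etale) (fun _ _ g (_ : IsOpenImmersion g) => inferInstance) hj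
    · exact repWith_of_isPullback sq.flip ((repWith_yon_map_iff _ e).2 ‹Etale e.left›)
  have hrange : Set.range (Points.map (j ≫ p2).hom) = Set.range (Points.ofPt c) := by
    ext x
    constructor
    · rintro ⟨y, rfl⟩
      obtain ⟨T₁, g, t, rfl⟩ := exists_ofPt y
      obtain ⟨l, hl⟩ := (AlgSp.yon S).map_surjective (g ≫ inv fst)
      refine ⟨l.left t, ?_⟩
      rw [← ofPt_comp_yon, Points.map_ofPt, hl]
      simp [c]
    · rintro ⟨w, rfl⟩
      exact ⟨Points.ofPt fst w, Points.map_ofPt _ _ _⟩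
  obtain ⟨l, hl⟩ := (AlgSp.yon S).map_surjective (c ≫ φ.inv)
  have hlc : (AlgSp.yon S).map l ≫ φ.hom = c := by
    rw [hl, Category.assoc, Iso.inv_hom_id, Category.comp_id]
  have : Etale l.left := (repWith_yon_map_iff _ l).1 (hl ▸ repWith_comp hc (repWith_isIso φ.inv))
  let O : G.left.Opens := ⟨Set.range l.left, l.left.isOpenMap.isOpen_range⟩
  let jO : Over.mk (O.ι ≫ G.hom) ⟶ G := Over.homMk O.ι rfl
  refine ⟨Over.mk (O.ι ≫ G.hom), (AlgSp.yon S).map jO ≫ φ.hom,
    repWith_comp ((repWith_yon_map_iff _ jO).2 (inferInstanceAs (IsOpenImmersion O.ι)))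
      (repWith_isIso _), isCompact_iff_compactSpace.mp (isCompact_range l.left.continuous), ?_⟩
  rw [hrange]
  ext x
  constructor
  · rintro ⟨y, rfl⟩
    obtain ⟨T₁, g, t, rfl⟩ := exists_ofPt y
    obtain ⟨m, hm⟩ := (AlgSp.yon S).map_surjective g
    obtain ⟨w, hw⟩ := (m.left t).2
    refine ⟨w, ?_⟩
    rw [Points.map_ofPt, ← hlc, ← hm, ← Category.assoc, ← Functor.map_comp, ofPt_comp_yon,
      ofPt_comp_yon, Over.comp_left, Scheme.Hom.comp_apply]
    exact congrArg _ hw
  · rintro ⟨w, rfl⟩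
    refine ⟨Points.ofScheme (Over.mk (O.ι ≫ G.hom)) ⟨l.left w, w, rfl⟩, ?_⟩
    rw [← ofPt_eq_map, ← hlc, ofPt_comp_yon, ofPt_comp_yon]
    rfl

end Groth.Agent.S10321
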