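import Groth.Statements.S10322
import Groth.Agent.AlgSpBasic.LocPInst
import Groth.Agent.AlgSpBasic.RepWith
import Groth.Agent.AlgSpBasic.Diag

set_option autoImplicit false
universe u
open CategoryTheory CategoryTheory.Limits AlgebraicGeometry
open AlgSp Groth.AlgSpBasic

namespace Groth.Agent.S10322

/-- Unramified at a point implies quasi-finite at that point; an unramified morphism of algebraic spaces
is locally quasi-finite. -/
theorem result {S : Scheme.{u}} {X Y : AlgSp.Space S} (f : X ⟶ Y) :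
    (∀ x : AlgSp.Points X.obj, AlgSp.HasAtMor (fun U _ h u => ∃ W : U.Opens, u ∈ W ∧ LocallyOfFiniteType (W.ι ≫ h) ∧ FormallyUnramified (W.ι ≫ h)) f.hom x → AlgSp.HasAtMor (fun U _ h u => ∃ W : U.Opens, u ∈ W ∧ LocallyQuasiFinite (W.ι ≫ h) ∧ LocallyOfFiniteType (W.ι ≫ h)) f.hom x) ∧
    (AlgSp.LocP (@LocallyOfFiniteType ⊓ @FormallyUnramified) f.hom →
      AlgSp.LocP (@LocallyQuasiFinite ⊓ @LocallyOfFiniteType) f.hom) := by
  refine ⟨fun x hx => ?_, fun h U V a b k ha hb comm => ?_⟩
  · obtain ⟨U, V, a, b, h, u, ha, hb, comm, hu, W, huW, _, _⟩ := hx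
    exact ⟨U, V, a, b, h, u, ha, hb, comm, hu, W, huW,
      locallyQuasiFinite_of_formallyUnramified _, inferInstance⟩
  · obtain ⟨_, _⟩ := h a b k ha hb comm
    exact ⟨locallyQuasiFinite_of_formallyUnramified k.left, inferInstance⟩

end Groth.Agent.S10322
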