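import Groth.Statements.S10323
import Groth.Agent.AlgSp3.DimFacts
import Groth.Agent.FibreDim.ComponentDim
import Groth.Agent.AlgSp2.InfSmallExt

set_option autoImplicit false
set_option backward.isDefEq.respectTransparency.types false
universe u
open CategoryTheory CategoryTheory.Limits AlgebraicGeometry
open AlgSp

namespace Groth.Agent.S10323

open Groth.AlgSpBasic Groth.AlgSp3

/-- For Y locally Noetherian and f locally of finite type, the dimension of the local ring of X at x is
at most the dimension of the local ring of Y at the image point plus E minus the transcendence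
degree of x over its image, where E bounds the transcendence degrees of the codimension-0 points
specializing to x. -/
theorem result {S : Scheme.{u}} {X Y : AlgSp.Space S} (f : X ⟶ Y)
    (hY : AlgSp.IsLocNoethSp Y.obj) (hf : AlgSp.LocP @LocallyOfFiniteType f.hom) (x : AlgSp.Points X.obj)
    (E : Cardinal.{u})
    (hE : ∀ ξ : AlgSp.Points X.obj, ξ ⤳ x → AlgSp.HasAt (fun U u => ringKrullDim ↥(U.presheaf.stalk u) = 0) X.obj ξ →
      ∀ s : Cardinal.{u}, AlgSp.HasAtMor (fun _ _ h u => Dual3.resTrdeg h u = s) f.hom ξ → s ≤ E)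
    (a b : WithBot ℕ∞) (r : Cardinal.{u})
    (ha : AlgSp.HasAt (fun U u => ringKrullDim ↥(U.presheaf.stalk u) = a) X.obj x)
    (hb : AlgSp.HasAt (fun U u => ringKrullDim ↥(U.presheaf.stalk u) = b) Y.obj (AlgSp.Points.map f.hom x))
    (hr : AlgSp.HasAtMor (fun _ _ h u => Dual3.resTrdeg h u = r) f.hom x) :
    a + ((Cardinal.toENat r : ℕ∞) : WithBot ℕ∞) ≤ b + ((Cardinal.toENat E : ℕ∞) : WithBot ℕ∞) := by
  obtain ⟨U, V, a', b', h, u, ha', hb', comm, rfl⟩ := exists_chart_at X.property Y.property f.hom x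
  have : IsLocallyNoetherian V.left := Groth.AlgSp2.isLocallyNoetherian_of_etale Y.property hY hb'
  have : LocallyOfFiniteType h.left := hf a' b' h ha' hb' comm
  obtain ⟨ξ, t, t₀, hξ, hsp, ht, ht₀, hle⟩ := Groth.FibreDim.exists_component_stalk_le h.left u
  obtain ⟨t', h1, h2⟩ := Groth.FibreDim.exists_relTrdeg_eq_height h.left u
  rw [ht, Nat.cast_inj] at h2
  subst h2
  have hr' : r = (t : Cardinal.{u}) := ((hasAtMor_iff_of_chart etMor_resTrdeg (· = r)
    X.property.diag Y.property.diag ha' hb' comm u).mp hr).symm.trans h1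
  have hξ0 : ringKrullDim ↥(U.left.presheaf.stalk ξ) = 0 := by
    rw [ringKrullDim_stalk_eq_coheight,
      Order.coheight_eq_zero.mpr (Groth.FibreDim.isMax_of_mem_genericPoints hξ)]
    rfl
  have hE' : (t₀ : Cardinal.{u}) ≤ E := hE (AlgSp.Points.ofPt a' ξ)
    (hsp.map (AlgSp.Points.continuous_ofPt a')) ⟨U, a', ξ, ha', rfl, hξ0⟩ _
    ⟨U, V, a', b', h, ξ, ha', hb', comm, rfl, ht₀⟩
  have ea := (hasAt_iff_forall etaleInvariant_ringKrullDim X.property _ _).mp ha U a' u ha' rfl
  have eb := (hasAt_iff_forall etaleInvariant_ringKrullDim Y.property _ _).mp hb V b' (h.left u) hb'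
    (by rw [AlgSp.Points.map_ofPt, comm, ofPt_comp_yon])
  rw [← ea, ← eb, hr']
  refine le_trans ?_ (hle.trans (add_le_add le_rfl ?_))
  · simp
  · have := WithBot.coe_le_coe.2 (OrderHomClass.mono Cardinal.toENat hE')
    simpa using this

end Groth.Agent.S10323
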