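import Groth.Statements.S10324
import Groth.Agent.AlgSp3.DimFacts
import Groth.Agent.S10323

set_option autoImplicit false
set_option backward.isDefEq.respectTransparency.types false
universe u
open CategoryTheory CategoryTheory.Limits AlgebraicGeometry
open AlgSp

namespace Groth.Agent.S10324

open Groth.AlgSpBasic Groth.AlgSp3

/-- For Y locally Noetherian and f : X -> Y locally of finite type, dim X ≤ dim Y + E where E bounds the
transcendence degrees over Y of the codimension-0 points of X. -/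
theorem result {S : Scheme.{u}} {X Y : AlgSp.Space S} (f : X ⟶ Y)
    (hY : AlgSp.IsLocNoethSp Y.obj) (hf : AlgSp.LocP @LocallyOfFiniteType f.hom) (E : Cardinal.{u})
    (hE : ∀ ξ : AlgSp.Points X.obj, AlgSp.HasAt (fun U u => ringKrullDim ↥(U.presheaf.stalk u) = 0) X.obj ξ → ∀ s : Cardinal.{u}, AlgSp.HasAtMor (fun _ _ h u => Dual3.resTrdeg h u = s) f.hom ξ → s ≤ E) :
    AlgSp.dim X.obj ≤ AlgSp.dim Y.obj + ((Cardinal.toENat E : ℕ∞) : WithBot ℕ∞) := by
  obtain ⟨U, V, a, b, h, ha, has, hb, hbs, comm⟩ := exists_charts X.property Y.property f.hom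
  rw [dim_eq_of_chart X.property ha has, dim_eq_of_chart Y.property hb hbs,
    Groth.FibreDim.dim_eq_iSup_stalk U.left, Groth.FibreDim.dim_eq_iSup_stalk V.left]
  refine iSup_le fun u => ?_
  have := Groth.Agent.S10323.result f hY hf (AlgSp.Points.ofPt a u) E (fun ξ _ => hE ξ)
    (ringKrullDim ↥(U.left.presheaf.stalk u)) (ringKrullDim ↥(V.left.presheaf.stalk (h.left u)))
    (Dual3.resTrdeg h.left u) ⟨U, a, u, ha, rfl, rfl⟩
    ⟨V, b, h.left u, hb, by rw [AlgSp.Points.map_ofPt, comm, ofPt_comp_yon], rfl⟩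
    ⟨U, V, a, b, h, u, ha, hb, comm, rfl, rfl⟩
  refine le_trans (le_add_of_nonneg_right ?_) (this.trans (add_le_add
    (le_iSup (fun v : ↥V.left => ringKrullDim ↥(V.left.presheaf.stalk v)) (h.left u)) le_rfl))
  exact WithBot.coe_le_coe.2 bot_le

end Groth.Agent.S10324
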