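import Groth.Statements.S10327
import Groth.Agent.AlgSp3.SepLift
import Groth.Agent.S10290

set_option autoImplicit false
set_option backward.isDefEq.respectTransparency.types false
universe u
open CategoryTheory CategoryTheory.Limits AlgebraicGeometry
open AlgSp

namespace Groth.Agent.S10327


/-- For f quasi-compact and quasi-separated, f is separated and universally closed if and only if the
valuative criterion holds, if and only if every valuative square has a unique lift. -/
theorem result {S : Scheme.{u}} {X Y : AlgSp.Space S} (f : X ⟶ Y)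
    (hqc : AlgSp.IsQuasiCompactMor f.hom) (hqs : AlgSp.IsQuasiSeparatedMor f.hom) :
    ((AlgSp.IsSeparatedMor f.hom ∧ AlgSp.IsUnivClosedMor f.hom) ↔ AlgSp.VC f.hom) ∧
    ((AlgSp.IsSeparatedMor f.hom ∧ AlgSp.IsUnivClosedMor f.hom) ↔
      (AlgSp.UniqVC f.hom ∧ AlgSp.ExistVCStrict f.hom)) := by
  have h₁ : IsSeparatedMor f.hom ∧ IsUnivClosedMor f.hom → VC f.hom := fun h =>
    ⟨Groth.Agent.S10290.result f h.1,
      Groth.AlgSp3.existVC_of_isUnivClosedMor X.property Y.property hqs h.2⟩
  have h₂ : VC f.hom → IsSeparatedMor f.hom ∧ IsUnivClosedMor f.hom := fun h =>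
    ⟨Groth.AlgSp3.isSeparatedMor_of_uniqVC X.property Y.property hqs h.1,
      Groth.AlgSp3.isUnivClosedMor_of_existVC X.property Y.property hqc h.2⟩
  refine ⟨⟨h₁, h₂⟩, ⟨fun h => ⟨(h₁ h).1, fun sq => ?_⟩,
    fun h => h₂ ⟨h.1, Groth.AlgSp3.existVC_of_existVCStrict h.2⟩⟩⟩
  obtain ⟨e, he⟩ := (h₁ h).2 sq
  exact Groth.AlgSp3.hasLift_of_hasLiftExt_of_separated X.property Y.property h.1 sq e he

end Groth.Agent.S10327
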