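import Groth.Statements.S10328
import Groth.Agent.AlgSp3.DimFacts

set_option autoImplicit false
set_option backward.isDefEq.respectTransparency.types false
universe u
open CategoryTheory CategoryTheory.Limits AlgebraicGeometry
open AlgSp

namespace Groth.Agent.S10328

open Groth.AlgSpBasic Groth.AlgSp3

/-- The relative dimension of a composite at a point is at most the sum of the relative dimensions, with
equality when the first morphism is flat at the point. (The published part (2) allows more generally
flatness of a fibre of X -> Y over a field point of Z; only the case f flat at x is stated.) -/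
theorem result {S : Scheme.{u}} {X Y Z : AlgSp.Space S} (f : X ⟶ Y) (g : Y ⟶ Z)
    (hf : AlgSp.LocP @LocallyOfFiniteType f.hom) (hg : AlgSp.LocP @LocallyOfFiniteType g.hom)
    (x : AlgSp.Points X.obj) (a b : WithBot ℕ∞)
    (ha : AlgSp.HasAtMor (fun _ _ h u => FlatMor.fibreDimAt h u = a) f.hom x)
    (hb : AlgSp.HasAtMor (fun _ _ h u => FlatMor.fibreDimAt h u = b) g.hom (AlgSp.Points.map f.hom x)) :
    AlgSp.HasAtMor (fun _ _ h u => FlatMor.fibreDimAt h u ≤ a + b) (f ≫ g).hom x ∧
    (AlgSp.IsFlatAtMor f.hom x → AlgSp.HasAtMor (fun _ _ h u => FlatMor.fibreDimAt h u = a + b) (f ≫ g).hom x) := by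
  rename' a => a', b => b', ha => ha', hb => hb'
  obtain ⟨U, V, W, a, b, c, h, k, u, ha, hb, hc, comm, comm₂, comm₃, rfl, hu⟩ :=
    exists_chart_comp X.property Y.property Z.property f.hom g.hom x
  rw [← hu] at hb'
  have : LocallyOfFiniteType h.left := hf a b h ha hb comm
  have : LocallyOfFiniteType k.left := hg b c k hb hc comm₂
  have ea := (hasAtMor_iff_of_chart etMor_fibreDimAt (· = a') X.property.diag Y.property.diag ha hb
    comm u).mp ha'
  have eb := (hasAtMor_iff_of_chart etMor_fibreDimAt (· = b') Y.property.diag Z.property.diag hb hc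
    comm₂ (h.left u)).mp hb'
  obtain ⟨hle, heq⟩ := Groth.FibreDim.fibreDimAt_comp h.left k.left u
  refine ⟨⟨U, W, a, c, h ≫ k, u, ha, hc, comm₃, rfl, ?_⟩, fun hfl =>
    ⟨U, W, a, c, h ≫ k, u, ha, hc, comm₃, rfl, ?_⟩⟩
  · rw [← ea, ← eb]; exact hle
  · rw [← ea, ← eb]
    exact heq (Groth.FibreDim.generalizing_of_flat_stalkMap h.left u (hfl a b h u ha hb comm rfl))

end Groth.Agent.S10328
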