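import Groth.Statements.S10329
import Groth.Agent.AlgSp3.NbhdInv
import Groth.Agent.FibreDim.BaseChange

set_option autoImplicit false
set_option backward.isDefEq.respectTransparency.types false
universe u
open CategoryTheory CategoryTheory.Limits AlgebraicGeometry
open AlgSp

namespace Groth.Agent.S10329

open Groth.AlgSpBasic Groth.AlgSp3 Topology

/-- If the fibre of a morphism locally of finite type has dimension 0 at a point, then the morphism is
locally quasi-finite on some open subspace containing the image of that point. -/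
theorem result {S : Scheme.{u}} {X Y F : AlgSp.Space S} (f : X ⟶ Y)
    (hf : AlgSp.LocP @LocallyOfFiniteType f.hom) (k : Type u) [Field k] (str : Spec (.of k) ⟶ S)
    (y : (AlgSp.yon S).obj (Over.mk str) ⟶ Y.obj) (p : F ⟶ X) (q : F.obj ⟶ (AlgSp.yon S).obj (Over.mk str))
    (sq : IsPullback p.hom q f.hom y) (z : AlgSp.Points F.obj)
    (hz : AlgSp.HasAt (fun U u => FlatMor.localDim ↥U u = 0) F.obj z) :
    ∃ (X' : AlgSp.Space S) (j : X' ⟶ X), AlgSp.RepWith @IsOpenImmersion j.hom ∧
      AlgSp.Points.map p.hom z ∈ Set.range (AlgSp.Points.map j.hom) ∧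
      AlgSp.LocP (@LocallyQuasiFinite ⊓ @LocallyOfFiniteType) (j ≫ f).hom := by
  have hb := isZariskiLocalAtSource_inf ((@LocallyQuasiFinite : MorphismProperty Scheme.{u}) ⊓
    @LocallyOfFiniteType) @LocallyQuasiFinite @LocallyOfFiniteType (fun _ _ g => Iff.rfl)
  obtain ⟨X', j, hj, hP, hr⟩ := exists_openSub_locP
    ((@LocallyQuasiFinite : MorphismProperty Scheme.{u}) ⊓ @LocallyOfFiniteType) f
  refine ⟨X', j, hj, hr.ge ((hasAtMor_lqf_iff X.property Y.property hf _).mpr ?_), hP⟩
  obtain ⟨U, V, V', U', a, b, b', a', h, g, c, h', u', ha, hbb, hb', ha', comm, -, comm', -, hpb,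
    rfl, hu⟩ := exists_chart_baseChange X.property Y.property (IsAlgSpace.yon_obj _) sq z
  have : LocallyOfFiniteType h.left := hf a b h ha hbb comm
  rw [← hu]
  refine ⟨U, V, a, b, h, c.left u', ha, hbb, comm, rfl, ?_⟩
  refine (Groth.FibreDim.fibreDimAt_baseChange h.left g.left h'.left c.left hpb u').symm.trans ?_
  -- the chart of the point is etale over the spectrum of the field
  obtain ⟨β, hβ⟩ := (AlgSp.yon S).map_surjective b'
  have : Etale β.left := (repWith_yon_map_iff _ β).mp (hβ ▸ hb')
  rw [← fibreDimAt_comp_etale h'.left β.left u']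
  refine Eq.trans ?_ ((hasAt_iff_forall etaleInvariant_localDim F.property _ _).mp hz U' a' u' ha' rfl)
  exact Groth.FibreDim.fibreDimAt_eq_of_range (h'.left ≫ β.left) ((h'.left ≫ β.left) u')
    (A := ↥U'.left) (e := id) IsEmbedding.id (by
      rw [Set.range_id]
      ext x
      simp only [Set.mem_univ, Set.mem_preimage, Set.mem_singleton_iff, true_iff]
      exact Subsingleton.elim (α := PrimeSpectrum k) _ _) u'

end Groth.Agent.S10329
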