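import Groth.Statements.S10335
import Groth.Agent.AlgSp3.DimFacts
import Groth.Agent.AlgSp3.FibreBaseChange
import Groth.Agent.AlgSp3.ChartsBaseChange

set_option autoImplicit false
set_option backward.isDefEq.respectTransparency.types false
universe u
open CategoryTheory CategoryTheory.Limits AlgebraicGeometry
open AlgSp

namespace Groth.Agent.S10335

open Groth.AlgSpBasic Groth.AlgSp3

/-- In a base change square of algebraic spaces with f : X -> Y locally of finite type and f' : X' -> Y'
its base change along g : Y' -> Y, take a point x' of X' over x. The fibre of f' has a local ring at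
x' whose dimension exceeds the corresponding dimension for the fibre of f at x by exactly the
transcendence degree of x over f(x) minus that of x' over f'(x'), and this excess is never negative;
and for x in X and y' in Y' over the same point of Y some x' over both has excess zero. All four
quantities are read on some chart diagram through the point. -/
theorem result {S : Scheme.{u}} {X Y Y' X' : AlgSp.Space S} (f : X ⟶ Y) (g : Y' ⟶ Y)
    (g' : X' ⟶ X) (f' : X' ⟶ Y') (sq : IsPullback g'.hom f'.hom f.hom g.hom)
    (hf : AlgSp.LocP @LocallyOfFiniteType f.hom) :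
    (∀ (x' : AlgSp.Points X'.obj) (e e' : WithBot ℕ∞) (r r' : Cardinal.{u}),
      AlgSp.HasAtMor (fun _ _ h u => ringKrullDim ↥((h.fiber (h u)).presheaf.stalk (h.asFiber u)) = e) f.hom
          (AlgSp.Points.map g'.hom x') →
      AlgSp.HasAtMor (fun _ _ h u => Dual3.resTrdeg h u = r) f.hom (AlgSp.Points.map g'.hom x') →
      AlgSp.HasAtMor (fun _ _ h u => ringKrullDim ↥((h.fiber (h u)).presheaf.stalk (h.asFiber u)) = e') f'.hom x' →
      AlgSp.HasAtMor (fun _ _ h u => Dual3.resTrdeg h u = r') f'.hom x' →
        e' + ((Cardinal.toENat r' : ℕ∞) : WithBot ℕ∞) = e + ((Cardinal.toENat r : ℕ∞) : WithBot ℕ∞) ∧ e ≤ e') ∧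
    (∀ (x : AlgSp.Points X.obj) (y' : AlgSp.Points Y'.obj) (e : WithBot ℕ∞),
      AlgSp.Points.map f.hom x = AlgSp.Points.map g.hom y' →
      AlgSp.HasAtMor (fun _ _ h u => ringKrullDim ↥((h.fiber (h u)).presheaf.stalk (h.asFiber u)) = e) f.hom x →
        ∃ x' : AlgSp.Points X'.obj, AlgSp.Points.map g'.hom x' = x ∧ AlgSp.Points.map f'.hom x' = y' ∧
          AlgSp.HasAtMor (fun _ _ h u => ringKrullDim ↥((h.fiber (h u)).presheaf.stalk (h.asFiber u)) = e)
            f'.hom x') := by
  obtain ⟨U, V, V', U', a, b, b', a', h, k, p, h', ha, has, hb, hb', hb's, ha', ha's, comm, commg,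
    comm', commp, hpb, hpt⟩ := exists_charts_baseChange X.property Y.property Y'.property sq
  have : LocallyOfFiniteType h.left := hf a b h ha hb comm
  have : LocallyOfFiniteType h'.left := MorphismProperty.of_isPullback hpb ‹_›
  have hX' := X'.property
  constructor
  · intro x' e e' r r' he hr he' hr'
    obtain ⟨u', rfl⟩ := surjective_ofPt_of_repWith ha's x'
    rw [AlgSp.Points.map_ofPt, commp, ofPt_comp_yon] at he hr
    have he₁ := (hasAtMor_iff_of_chart etMor_fibreStalkDim (· = e) X.property.diag Y.property.diag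
      ha hb comm (p.left u')).mp he
    have hr₁ := (hasAtMor_iff_of_chart etMor_resTrdeg (· = r) X.property.diag Y.property.diag
      ha hb comm (p.left u')).mp hr
    have he₂ := (hasAtMor_iff_of_chart etMor_fibreStalkDim (· = e') hX'.diag Y'.property.diag
      ha' hb' comm' u').mp he'
    have hr₂ := (hasAtMor_iff_of_chart etMor_resTrdeg (· = r') hX'.diag Y'.property.diag
      ha' hb' comm' u').mp hr'
    rw [← he₁, ← hr₁, ← he₂, ← hr₂]
    refine ⟨?_, fibreStalkDim_le_baseChange h.left k.left h'.left p.left hpb u'⟩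
    rw [← fibreDimAt_eq_fibreStalkDim_add, ← fibreDimAt_eq_fibreStalkDim_add]
    exact Groth.FibreDim.fibreDimAt_baseChange h.left k.left h'.left p.left hpb u'
  · intro x y' e hxy he
    obtain ⟨u, rfl⟩ := surjective_ofPt_of_repWith has x
    rw [AlgSp.Points.map_ofPt, comm, ofPt_comp_yon] at hxy
    obtain ⟨t, ht, rfl⟩ := hpt u y' hxy.symm
    obtain ⟨u', h1, h2, h3⟩ :=
      exists_fibreStalkDim_eq h.left k.left h'.left p.left hpb u t ht.symm
    refine ⟨AlgSp.Points.ofPt a' u', ?_, ?_, U', V', a', b', h', u', ha', hb', comm', rfl, ?_⟩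
    · rw [AlgSp.Points.map_ofPt, commp, ofPt_comp_yon, h1]
    · rw [AlgSp.Points.map_ofPt, comm', ofPt_comp_yon, h2]
    · exact h3.trans ((hasAtMor_iff_of_chart etMor_fibreStalkDim (· = e) X.property.diag
        Y.property.diag ha hb comm u).mp he)

end Groth.Agent.S10335
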