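import Groth.Statements.S10342
import Groth.Agent.AlgSpBasic.DecentTop
import Groth.Agent.AlgSp2.InfSmallExt

set_option autoImplicit false
universe u
open CategoryTheory CategoryTheory.Limits AlgebraicGeometry Topology TopologicalSpace
open AlgSp Groth.AlgSpBasic

namespace Groth.Agent.S10342

/-- Let X be a locally Noetherian algebraic space over a scheme S and a : h_U ⟶ X a representable etale
map from a scheme U. If two points u, u' of U have the same image in |X| and u' specializes to u,
then u = u'. -/
theorem result {S : Scheme.{u}} (X : AlgSp.Space S)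
    (hX : AlgSp.IsLocNoethSp X.obj) {U : Over S} (a : (AlgSp.yon S).obj U ⟶ X.obj) (ha : AlgSp.RepWith @Etale a)
    (u u' : ↥U.left) (he : AlgSp.Points.ofPt a u = AlgSp.Points.ofPt a u') (hs : u' ⤳ u) : u = u' := by
  have : IsLocallyNoetherian U.left :=
    Groth.AlgSp2.isLocallyNoetherian_of_etale X.property hX ha
  have hd : ringKrullDim ↥(U.left.presheaf.stalk u) = ringKrullDim ↥(U.left.presheaf.stalk u') :=
    inv_eq_of_ofPt_eq etaleInvariant_ringKrullDim X.property ha ha he
  by_contra hne
  have hfin : Order.coheight u' < ⊤ := by
    have h := ringKrullDim_lt_top (R := ↥(U.left.presheaf.stalk u'))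
    rw [ringKrullDim_stalk_eq_coheight] at h
    exact WithBot.coe_lt_coe.1 h
  have hlt : u < u' := lt_of_le_not_ge (hs) fun h => hne (Specializes.antisymm h hs).eq
  have := Order.coheight_strictAnti hlt hfin
  rw [ringKrullDim_stalk_eq_coheight, ringKrullDim_stalk_eq_coheight] at hd
  exact this.ne (by exact_mod_cast hd.symm)

end Groth.Agent.S10342
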