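import Groth.Statements.S10347
import Groth.Agent.AlgSp3.DimFacts

set_option autoImplicit false
set_option backward.isDefEq.respectTransparency.types false
universe u
open CategoryTheory CategoryTheory.Limits AlgebraicGeometry Topology TopologicalSpace
open AlgSp

namespace Groth.Agent.S10347

open Groth.AlgSpBasic Groth.AlgSp3

/-- For a locally quasi-finite morphism f : X ⟶ Y of algebraic spaces over a scheme S (locally
quasi-finite and locally of finite type, etale locally on source and target), dim X ≤ dim Y. -/
theorem result {S : Scheme.{u}} {X Y : AlgSp.Space S} (f : X ⟶ Y)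
    (hf : AlgSp.LocP (@LocallyQuasiFinite ⊓ @LocallyOfFiniteType) f.hom) :
    AlgSp.dim X.obj ≤ AlgSp.dim Y.obj := by
  obtain ⟨U, V, a, b, h, ha, has, hb, hbs, comm⟩ := exists_charts X.property Y.property f.hom
  obtain ⟨_, _⟩ := hf a b h ha hb comm
  rw [dim_eq_of_chart X.property ha has, dim_eq_of_chart Y.property hb hbs,
    Groth.FibreDim.dim_eq_iSup_stalk U.left, Groth.FibreDim.dim_eq_iSup_stalk V.left]
  exact iSup_le fun u => (ringKrullDim_stalk_le_of_lqf h.left u).trans
    (le_iSup (fun v : ↥V.left => ringKrullDim ↥(V.left.presheaf.stalk v)) (h.left u))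

end Groth.Agent.S10347
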