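import Groth.Statements.S10348
import Groth.Agent.AlgSp3.DimFacts

set_option autoImplicit false
set_option backward.isDefEq.respectTransparency.types false
universe u
open CategoryTheory CategoryTheory.Limits AlgebraicGeometry Topology TopologicalSpace
open AlgSp

namespace Groth.Agent.S10348

open Groth.AlgSpBasic Groth.AlgSp3

/-- Let S be a scheme, X and Y algebraic spaces over S, and f : X ⟶ Y a morphism which is locally
quasi-finite; let x ∈ |X| have image y ∈ |Y|. Then the local ring of X at x has dimension at most
that of the local ring of Y at the point y (both dimensions read on etale charts through the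
points). -/
theorem result {S : Scheme.{u}} {X Y : AlgSp.Space S} (f : X ⟶ Y)
    (hf : AlgSp.LocP (@LocallyQuasiFinite ⊓ @LocallyOfFiniteType) f.hom) (x : AlgSp.Points X.obj)
    (d e : WithBot ℕ∞)
    (hx : AlgSp.HasAt (fun U u => ringKrullDim ↥(U.presheaf.stalk u) = d) X.obj x)
    (hy : AlgSp.HasAt (fun V v => ringKrullDim ↥(V.presheaf.stalk v) = e) Y.obj (AlgSp.Points.map f.hom x)) :
    d ≤ e := by
  obtain ⟨U, V, a, b, h, u, ha, hb, comm, rfl⟩ := exists_chart_at X.property Y.property f.hom x
  obtain ⟨_, _⟩ := hf a b h ha hb comm
  rw [← (hasAt_iff_forall etaleInvariant_ringKrullDim X.property _ _).mp hx U a u ha rfl,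
    ← (hasAt_iff_forall etaleInvariant_ringKrullDim Y.property _ _).mp hy V b (h.left u) hb
      (by rw [AlgSp.Points.map_ofPt, comm, ofPt_comp_yon])]
  exact ringKrullDim_stalk_le_of_lqf h.left u

end Groth.Agent.S10348
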