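import Groth.Statements.S10353
import Groth.Agent.AlgSpBasic.DenseSchemeQS

set_option autoImplicit false
universe u
open CategoryTheory CategoryTheory.Limits AlgebraicGeometry Topology TopologicalSpace
open AlgSp Groth.AlgSpBasic

namespace Groth.Agent.S10353

/-- Let X be an algebraic space over a scheme S and suppose there is a finite, etale, surjective map h_U
⟶ X from a scheme U. Then some dense open subspace of X is a scheme: an open subspace X' ⟶ X with
representable underlying sheaf and |X'| dense in |X|. -/
theorem result {S : Scheme.{u}} (X : AlgSp.Space S)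
    {U : Over S} (a : (AlgSp.yon S).obj U ⟶ X.obj) (hf : AlgSp.RepWith @IsFinite a) (he : AlgSp.RepWith @Etale a)
    (hs : AlgSp.RepWith @Surjective a) :
    ∃ (X' : AlgSp.Space S) (j : X' ⟶ X), AlgSp.RepWith @IsOpenImmersion j.hom ∧ X'.obj.obj.IsRepresentable ∧
      Dense (Set.range (AlgSp.Points.map j.hom)) := by
  obtain ⟨X', j, hj, hrep, hr⟩ := exists_schematic_openSub X
  refine ⟨X', j, hj, hrep, hr ▸ dense_isSchematicPt fun x => ?_⟩
  refine ⟨U, a, he, surjective_ofPt_of_repWith hs x, fun A hA P t s sq w => ?_⟩
  have : IsOpenImmersion (Over.homMk A.ι rfl : Over.mk (A.ι ≫ U.hom) ⟶ U).left :=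
    inferInstanceAs (IsOpenImmersion A.ι)
  exact finite_fibre_of_finite_chart hf _ sq w

end Groth.Agent.S10353
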