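import Groth.Statements.S10355
import Groth.Agent.AlgSpBasic.DenseScheme
import Groth.Agent.AlgSp2.FpqcRep

set_option autoImplicit false
universe u
open CategoryTheory CategoryTheory.Limits AlgebraicGeometry Topology TopologicalSpace
open AlgSp Groth.AlgSpBasic

namespace Groth.Agent.S10355

/-- A decent algebraic space X over a scheme S whose space of points is a single point is a scheme (the
underlying sheaf of X is representable). -/
theorem result {S : Scheme.{u}} (X : AlgSp.Space S)
    (hX : AlgSp.IsDecent X.obj) [Nonempty (AlgSp.Points X.obj)] [Subsingleton (AlgSp.Points X.obj)] :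
    X.obj.obj.IsRepresentable := by
  obtain ⟨X', j, hj, hrep, hr⟩ := exists_schematic_openSub X
  obtain ⟨x, hx⟩ := (dense_isSchematicPt_of_isDecent X.property hX).nonempty
  obtain ⟨U, p, hp, hps⟩ := X.property.atlas
  obtain ⟨G, g, hg, z, -⟩ := hx
  have hs : RepWith @Surjective g := repWith_surjective_of_ofPt hg.rep fun y =>
    ⟨z, Subsingleton.elim _ _⟩
  have hiso : IsIso g :=
    Groth.AlgSp2.isIso_of_repWith (repWith_of_representable hg.rep fun T V t fst snd sq => by
      have : IsOpenImmersion snd.left := hg.property t fst snd sq
      have : Surjective snd.left := hs.property t fst snd sq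
      exact (isIso_iff_isOpenImmersion_and_surjective snd.left).2 ⟨‹_›, ‹_›⟩)
  exact isRepresentable_of_iso (asIso g)

end Groth.Agent.S10355
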