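import Groth.Statements.S10356
import Groth.Agent.S10355
import Groth.Agent.AlgSpBasic.DecentTop
import Groth.Agent.Agf.SmoothRed

set_option autoImplicit false
universe u
open CategoryTheory CategoryTheory.Limits AlgebraicGeometry Topology TopologicalSpace
open AlgSp Groth.AlgSpBasic

namespace Groth.Agent.S10356

/-- A reduced decent algebraic space X over a scheme S whose space of points is a single point is
isomorphic to h_{Spec k} for a field k over S. -/
theorem result {S : Scheme.{u}} (X : AlgSp.Space S)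
    (hX : AlgSp.IsDecent X.obj) (hr : AlgSp.EtaleLocally (fun U => IsReduced U) X.obj)
    [Nonempty (AlgSp.Points X.obj)] [Subsingleton (AlgSp.Points X.obj)] :
    ∃ (k : Type u) (_ : Field k) (str : Spec (CommRingCat.of k) ⟶ S),
      Nonempty ((AlgSp.yon S).obj (Over.mk str) ≅ X.obj) := by
  obtain ⟨G, ⟨e⟩⟩ := Groth.Agent.S10355.result X hX
  let iso : (AlgSp.yon S).obj G ≅ X.obj := AlgSp.isoOfRepresentableBy e
  obtain ⟨U, p, hp, hps, hU⟩ := hr
  have : IsReduced G.left := by
    obtain ⟨π, hπ⟩ := (AlgSp.yon S).map_surjective (p ≫ iso.inv)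
    have h₁ : AlgSp.RepWith @Etale ((AlgSp.yon S).map π) := by
      rw [hπ]; exact repWith_comp hp (repWith_isIso _)
    have h₂ : AlgSp.RepWith @Surjective ((AlgSp.yon S).map π) := by
      rw [hπ]; exact repWith_comp hps (repWith_isIso _)
    have : Etale π.left := (repWith_yon_map_iff _ π).1 h₁
    have : Surjective π.left := (repWith_yon_map_iff _ π).1 h₂
    exact Groth.Agf.isReduced_of_flat_surjective π.left
  have hnG : Nonempty ↥G.left := by
    obtain ⟨x⟩ := ‹Nonempty (AlgSp.Points X.obj)›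
    obtain ⟨g, -⟩ := (AlgSp.Points.schemeEquiv G).surjective (AlgSp.Points.map iso.inv x)
    exact ⟨g⟩
  have hsG : Subsingleton ↥G.left := ⟨fun a b => (AlgSp.Points.schemeEquiv G).injective <|
    Function.LeftInverse.injective (g := AlgSp.Points.map iso.inv) (f := AlgSp.Points.map iso.hom)
      (fun x => by rw [← AlgSp.Points.map_comp, iso.hom_inv_id, AlgSp.Points.map_id])
      (Subsingleton.elim _ _)⟩
  have : IsAffine G.left := by
    obtain ⟨g⟩ := hnG
    obtain ⟨A, hA, hgA, -⟩ :=
      exists_isAffineOpen_mem_and_subset (X := G.left) (x := g) (U := ⊤) trivial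
    have e : A = ⊤ := top_le_iff.1 fun a _ => Subsingleton.elim g a ▸ hgA
    rw [e] at hA
    have : IsAffine (⊤ : G.left.Opens).toScheme := hA
    exact IsAffine.of_isIso G.left.topIso.inv
  let R := Γ(G.left, ⊤)
  have : Subsingleton (PrimeSpectrum R) := G.left.isoSpec.inv.homeomorph.injective.subsingleton
  have : Nonempty (PrimeSpectrum R) := ⟨G.left.isoSpec.hom.homeomorph hnG.some⟩
  obtain ⟨P⟩ := ‹Nonempty (PrimeSpectrum R)›
  have hP : P.asIdeal = ⊥ := by
    rw [eq_bot_iff]
    intro a ha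
    refine (IsReduced.eq_zero a ?_ : a = 0)
    rw [← mem_nilradical, nilradical_eq_sInf]
    exact Submodule.mem_sInf.2 fun J hJ => by
      have := Subsingleton.elim (⟨J, hJ⟩ : PrimeSpectrum R) P
      rw [← PrimeSpectrum.ext_iff.mp this] at ha
      exact ha
  have : Nontrivial R := ⟨⟨0, 1, fun h => P.isPrime.ne_top
    ((Ideal.eq_top_iff_one _).2 (h ▸ P.asIdeal.zero_mem))⟩⟩
  have hf : IsField R := by
    by_contra hnf
    obtain ⟨M, hM₁, hM₂⟩ := Ring.not_isField_iff_exists_prime.1 hnf
    exact hM₁ ((PrimeSpectrum.ext_iff.mp (Subsingleton.elim (⟨M, hM₂⟩ : PrimeSpectrum R) P)).trans hP)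
  letI := hf.toField
  let str : Spec (CommRingCat.of R) ⟶ S := G.left.isoSpec.inv ≫ G.hom
  let oi : Over.mk str ≅ G := Over.isoMk G.left.isoSpec.symm rfl
  exact ⟨R, inferInstance, str, ⟨(AlgSp.yon S).mapIso oi ≪≫ iso⟩⟩

end Groth.Agent.S10356
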