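import Groth.Statements.S10360
import Groth.Agent.AlgSpBasic.DecentCriteria

set_option autoImplicit false
universe u
open CategoryTheory CategoryTheory.Limits AlgebraicGeometry Topology TopologicalSpace
open AlgSp Groth.AlgSpBasic

namespace Groth.Agent.S10360

/-- (1) ⇔ (4): for an algebraic space X over a scheme S and x ∈ |X|, the fibres over x of |U| → |X| and
|U ×_X U| → |X| are finite for every etale h_U ⟶ X with U affine, if and only if x is represented by
a monomorphism Spec k ⟶ X which is representable quasi-compact. -/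
theorem result {S : Scheme.{u}} (X : AlgSp.Space S)
    (x : AlgSp.Points X.obj) :
    (∀ (U : Over S) (φ : (AlgSp.yon S).obj U ⟶ X.obj), IsAffine U.left → AlgSp.RepWith @Etale φ →
        ∀ (R : Over S) (s t : R ⟶ U), IsPullback ((AlgSp.yon S).map t) ((AlgSp.yon S).map s) φ φ →
          (AlgSp.Points.ofPt φ ⁻¹' {x}).Finite ∧ (AlgSp.Points.ofPt ((AlgSp.yon S).map t ≫ φ) ⁻¹' {x}).Finite) ↔
      ∃ p : AlgSp.FieldPt X.obj, AlgSp.Points.mk p = x ∧ Mono p.toHom ∧ AlgSp.RepWith @QuasiCompact p.toHom := by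
  constructor
  · intro h
    have hx : FiniteAt X.obj x := fun V b hV hb => by
      obtain ⟨R, t, s, sq⟩ := exists_pullback_yon hb.rep b
      exact (h V b hV hb R s t sq).1
    obtain ⟨U, p, hp, hps⟩ := X.property.atlas
    obtain ⟨u, hu⟩ := surjective_ofPt_of_repWith hps x
    obtain ⟨A, hA, huA, -⟩ :=
      exists_isAffineOpen_mem_and_subset (X := U.left) (x := u) (U := ⊤) trivial
    let AO : Over S := Over.mk (A.ι ≫ U.hom)
    let jA : AO ⟶ U := Over.homMk A.ι rfl
    have : Etale jA.left := inferInstanceAs (Etale A.ι)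
    have ha : RepWith @Etale ((AlgSp.yon S).map jA ≫ p) :=
      repWith_comp ((repWith_yon_map_iff _ jA).2 ‹_›) hp
    obtain ⟨R, t, s, sq⟩ := exists_pullback_yon ha.rep ((AlgSp.yon S).map jA ≫ p)
    have hu' : AlgSp.Points.ofPt ((AlgSp.yon S).map jA ≫ p) ⟨u, huA⟩ = x := by
      rw [ofPt_comp_yon]; exact hu
    refine exists_monoQC_of_finiteAt X.property hx ha sq hu'
      ((h AO _ hA ha R s t sq).2.subset fun r hr => ?_)
    show AlgSp.Points.ofPt _ r = x
    rw [ofPt_comp_yon, hr.2, hu']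
  · rintro ⟨p, rfl, hm, hq⟩ U φ hU hφ R s t sq
    have hF : (AlgSp.Points.ofPt φ ⁻¹' {AlgSp.Points.mk p}).Finite := finite_fibre_of_qc p hq hφ
    refine ⟨hF, ?_⟩
    have hpair : ∀ u u', AlgSp.Points.ofPt φ u' = AlgSp.Points.mk p →
        {r : ↥R.left | s.left r = u ∧ t.left r = u'}.Finite := fun u u' hu' =>
      @Groth.AlgSp2.finite_fibre_of_mono _ _ _ _ _ _ _ hφ sq p hm
        (Groth.AlgSp2.representable_fieldPt X.property p) u u' hu'
    refine ((hF.prod hF).biUnion fun q hq => (hpair q.1 q.2 hq.2)).subset fun r hr => ?_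
    have ht : AlgSp.Points.ofPt φ (t.left r) = AlgSp.Points.mk p := (ofPt_comp_yon t φ r).symm.trans hr
    exact Set.mem_biUnion (x := (s.left r, t.left r))
      ⟨((ofPt_eq_ofPt_iff sq _ _).2 ⟨r, rfl, rfl⟩).symm.trans ht, ht⟩ ⟨rfl, rfl⟩

end Groth.Agent.S10360
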