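import Groth.Statements.S10361
import Groth.Agent.AlgSp2.MonoCriteria
-- import your own Groth.Agent.* helpers here

set_option autoImplicit false
universe u
open CategoryTheory CategoryTheory.Limits AlgebraicGeometry Topology TopologicalSpace
open AlgSp

namespace Groth.Agent.S10361

/-- (5) ⇒ (4): let S be a scheme and X an algebraic space over S. Suppose k is any field and Spec k ⟶ X
is a morphism which is representable quasi-compact. Then the point of |X| it defines is represented
by a monomorphism Spec k' ⟶ X which is representable quasi-compact. -/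
theorem result {S : Scheme.{u}} (X : AlgSp.Space S)
    (q : AlgSp.FieldPt X.obj) (hq : AlgSp.RepWith @QuasiCompact q.toHom) :
    ∃ p : AlgSp.FieldPt X.obj, AlgSp.Points.mk p = AlgSp.Points.mk q ∧ Mono p.toHom ∧
      AlgSp.RepWith @QuasiCompact p.toHom := by
  obtain ⟨U, φ, hφ, hs⟩ := X.property.atlas
  obtain ⟨u, hu⟩ := Groth.AlgSpBasic.surjective_ofPt_of_repWith hs (AlgSp.Points.mk q)
  exact Groth.AlgSp2.exists_monoQC_of_qc hφ (fun p => X.property.representable_from_yon _) q hq u hu

end Groth.Agent.S10361
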