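import Groth.Statements.S10390
import Groth.Agent.AlgSpBasic.MonoPointFibre

set_option autoImplicit false
universe u
open CategoryTheory CategoryTheory.Limits AlgebraicGeometry Topology TopologicalSpace
open AlgSp Groth.AlgSpBasic

namespace Groth.Agent.S10390

/-- Let S be a scheme, X and Y algebraic spaces over S, and f : X ⟶ Y a morphism, and let y ∈ |Y| be a
point represented by a monomorphism Spec k ⟶ Y which is representable quasi-compact. Then for the
fibre X_k = Spec k ×_Y X the map |X_k| → |X| is a homeomorphism of |X_k| onto f⁻¹({y}) with its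
induced topology. -/
theorem result {S : Scheme.{u}} {X Y : AlgSp.Space S} (f : X ⟶ Y)
    (r : AlgSp.FieldPt Y.obj) (hm : Mono r.toHom) (hq : AlgSp.RepWith @QuasiCompact r.toHom)
    (Xk : AlgSp.Space S) (fst : Xk ⟶ X) (snd : Xk.obj ⟶ (AlgSp.yon S).obj r.pt) (hsq : IsPullback fst.hom snd f.hom r.toHom) :
    IsEmbedding (AlgSp.Points.map fst.hom) ∧
      Set.range (AlgSp.Points.map fst.hom) = AlgSp.Points.map f.hom ⁻¹' {AlgSp.Points.mk r} := by
  have := hm
  refine ⟨isEmbedding_fibre_of_mono_point X.property Y.property f.hom r hq hsq, ?_⟩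
  ext x
  constructor
  · rintro ⟨z, rfl⟩
    show AlgSp.Points.map f.hom _ = AlgSp.Points.mk r
    rw [← AlgSp.Points.map_comp, hsq.w, AlgSp.Points.map_comp]
    obtain ⟨t, ht⟩ := (AlgSp.Points.schemeHomeo r.pt).surjective (AlgSp.Points.map snd z)
    rw [← ht]
    exact (ofPt_eq_map r.toHom t).symm.trans (AlgSp.Points.ofPt_toHom r t)
  · intro hx
    obtain ⟨z, hz, -⟩ := exists_point_of_isPullback hsq x
      (AlgSp.Points.ofScheme r.pt (IsLocalRing.closedPoint r.K))
      ((show AlgSp.Points.map f.hom x = AlgSp.Points.mk r from hx).trans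
        ((AlgSp.Points.ofPt_toHom r _).symm.trans (ofPt_eq_map r.toHom _)))
    exact ⟨z, hz⟩

end Groth.Agent.S10390
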