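import Groth.Statements.S10397
import Groth.Agent.AlgSpBasic.DecentGeneric
import Groth.Agent.AlgSpBasic.DenseScheme

set_option autoImplicit false
universe u
open CategoryTheory CategoryTheory.Limits AlgebraicGeometry Topology TopologicalSpace
open AlgSp Groth.AlgSpBasic

namespace Groth.Agent.S10397

/-- (1) ⇔ (3): an algebraic space X over a scheme S is decent with |X| having finitely many irreducible
components if and only if X has a dense open subscheme X' with finitely many irreducible components
whose generic points x'_j give quasi-compact morphisms Spec κ(x'_j) ⟶ X. -/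
theorem result {S : Scheme.{u}} (X : AlgSp.Space S) :
    (AlgSp.IsDecent X.obj ∧ (irreducibleComponents (AlgSp.Points X.obj)).Finite) ↔
      ∃ (X' : Over S) (j : (AlgSp.yon S).obj X' ⟶ X.obj), AlgSp.RepWith @IsOpenImmersion j ∧
        Dense (Set.range (AlgSp.Points.ofPt j)) ∧ (irreducibleComponents ↥X'.left).Finite ∧
        ∀ x' : ↥X'.left, (∃ T ∈ irreducibleComponents ↥X'.left, IsGenericPoint x' T) →
          AlgSp.RepWith @QuasiCompact (AlgSp.FieldPt.ofPt j x').toHom := by
  constructor
  · rintro ⟨hd, hfin⟩
    obtain ⟨X', j, hj, hrep, hr⟩ := exists_schematic_openSub X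
    obtain ⟨G, ⟨e⟩⟩ := hrep
    let iso : (AlgSp.yon S).obj G ≅ X'.obj := AlgSp.isoOfRepresentableBy e
    let g : (AlgSp.yon S).obj G ⟶ X.obj := iso.hom ≫ j.hom
    have hg : AlgSp.RepWith @IsOpenImmersion g := repWith_comp (repWith_isIso _) hj
    have : Mono g := mono_of_repWith (fun _ _ φ (_ : IsOpenImmersion φ) => inferInstance) hg
    have hinj : Function.Injective (AlgSp.Points.ofPt g) := by
      intro a b h
      rw [ofPt_eq_map, ofPt_eq_map] at h
      exact (AlgSp.Points.schemeEquiv G).injective (Groth.AlgSp2.map_injective_of_mono g h)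
    have hemb : Topology.IsOpenEmbedding (AlgSp.Points.ofPt g) :=
      .of_continuous_injective_isOpenMap (AlgSp.Points.continuous_ofPt g) hinj
        (isOpenMap_ofPt_of_repWith (fun _ _ φ (h : IsOpenImmersion φ) => φ.isOpenEmbedding.isOpenMap)
          hg)
    refine ⟨G, g, hg, ?_, finite_irreducibleComponents_of_isOpenEmbedding hemb hfin, fun x' _ => ?_⟩
    · have hrange : Set.range (AlgSp.Points.ofPt g) = Set.range (AlgSp.Points.map j.hom) := by
        ext y
        constructor
        · rintro ⟨z, rfl⟩
          exact ⟨AlgSp.Points.ofPt iso.hom z, AlgSp.Points.map_ofPt _ _ _⟩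
        · rintro ⟨z, rfl⟩
          obtain ⟨c, hc⟩ := (AlgSp.Points.schemeEquiv G).surjective (AlgSp.Points.map iso.inv z)
          refine ⟨c, (ofPt_eq_map g c).trans ?_⟩
          refine (congrArg (AlgSp.Points.map g) hc).trans ?_
          rw [← AlgSp.Points.map_comp]
          simp [g]
      rw [hrange, hr]
      exact dense_isSchematicPt_of_isDecent X.property hd
    · obtain ⟨q, hq, -, hqc⟩ := hd (AlgSp.Points.ofPt g x')
      exact Groth.AlgSp2.repWith_quasiCompact_of_mk_eq _ q
        (X.property.representable_from_yon _) hqc hq.symm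
  · rintro ⟨X', j, hj, hdense, hfin, hq⟩
    have := hfin.to_subtype
    let η : irreducibleComponents ↥X'.left → ↥X'.left := fun c => c.2.1.genericPoint
    have hη : ∀ c, IsGenericPoint (η c) c.1 := fun c =>
      (isClosed_of_mem_irreducibleComponents c.1 c.2).closure_eq ▸
        c.2.1.isGenericPoint_genericPoint_closure
    have hgen : ∀ x : AlgSp.Points X.obj, ∃ c, AlgSp.Points.ofPt j (η c) ⤳ x := by
      intro x
      let C := ⋃ c : irreducibleComponents ↥X'.left, closure {AlgSp.Points.ofPt j (η c)}
      have hC : IsClosed C := isClosed_iUnion_of_finite fun _ => isClosed_closure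
      have hsub : Set.range (AlgSp.Points.ofPt j) ⊆ C := by
        rintro _ ⟨g, rfl⟩
        let c : irreducibleComponents ↥X'.left :=
          ⟨_, irreducibleComponent_mem_irreducibleComponents g⟩
        exact Set.mem_iUnion.2 ⟨c, specializes_iff_mem_closure.1
          (((hη c).specializes mem_irreducibleComponent).map (AlgSp.Points.continuous_ofPt j))⟩
      obtain ⟨c, hc⟩ := Set.mem_iUnion.1 (closure_minimal hsub hC (hdense x))
      exact ⟨c, specializes_iff_mem_closure.2 hc⟩
    refine ⟨isDecent_of_generic X.property (fun c => AlgSp.FieldPt.ofPt j (η c))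
      (fun c => hq (η c) ⟨c.1, c.2, hη c⟩) hgen, ?_⟩
    refine finite_irreducibleComponents_of_cover
      (fun c : irreducibleComponents ↥X'.left => closure {AlgSp.Points.ofPt j (η c)})
      (fun _ => isClosed_closure) (fun _ => isIrreducible_singleton.closure.2) fun x => ?_
    obtain ⟨c, hc⟩ := hgen x
    exact ⟨c, specializes_iff_mem_closure.1 hc⟩

end Groth.Agent.S10397
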