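import Groth.Statements.S10406
import Groth.Agent.AlgSpBasic.DecentFiniteFibre
import Groth.Agent.AlgSpBasic.DecentTop
import Groth.Agent.AlgSpBasic.Univ
-- import your own Groth.Agent.* helpers here

set_option autoImplicit false
universe u
open CategoryTheory CategoryTheory.Limits AlgebraicGeometry Topology TopologicalSpace
open AlgSp

namespace Groth.Agent.S10406

/-- Let S be a scheme, Y and X decent, locally Noetherian algebraic spaces over S, and f : Y ⟶ X a
surjective finite morphism, and let δ : |X| → ℤ be a function. Suppose δ ∘ |f| is a dimension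
function on |Y| (it decreases strictly along nontrivial specializations and by exactly one along
immediate specializations). Then δ is a dimension function on |X|. -/
theorem result {S : Scheme.{u}} {X Y : AlgSp.Space S} (f : Y ⟶ X)
    (hf : AlgSp.IsFiniteMor f.hom) (hs : AlgSp.IsSurjectiveMor f.hom) (hX : AlgSp.IsDecent X.obj)
    (hY : AlgSp.IsDecent Y.obj) (hXN : AlgSp.IsLocNoethSp X.obj) (hYN : AlgSp.IsLocNoethSp Y.obj)
    (δ : AlgSp.Points X.obj → ℤ)
    (hδ : (∀ a b : AlgSp.Points Y.obj, a ⤳ b → a ≠ b → (δ ∘ AlgSp.Points.map f.hom) b < (δ ∘ AlgSp.Points.map f.hom) a ∧ ((∀ c : AlgSp.Points Y.obj, a ⤳ c → c ⤳ b → c = a ∨ c = b) → (δ ∘ AlgSp.Points.map f.hom) a = (δ ∘ AlgSp.Points.map f.hom) b + 1))) :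
    (∀ a b : AlgSp.Points X.obj, a ⤳ b → a ≠ b → δ b < δ a ∧ ((∀ c : AlgSp.Points X.obj, a ⤳ c → c ⤳ b → c = a ∨ c = b) → δ a = δ b + 1)) := by
  obtain hr := Groth.AlgSpBasic.isFiniteMor_iff_repWith.1 hf
  have hcl : IsClosedMap (AlgSp.Points.map f.hom) :=
    Groth.AlgSpBasic.isClosedMap_map_of_repWith (fun _ _ φ (_ : IsFinite φ) => φ.isClosedMap) hr
  have hfib : ∀ y y' : AlgSp.Points Y.obj, y' ⤳ y →
      AlgSp.Points.map f.hom y' = AlgSp.Points.map f.hom y → y' = y := by
    intro y y' h e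
    obtain ⟨U, p, hp, hps⟩ := X.property.atlas
    obtain ⟨W, w, fst, sq⟩ := hr.rep p
    have : IsFinite w.left := hr.property p fst w sq
    have hfst : AlgSp.RepWith @Etale fst := Groth.AlgSpBasic.repWith_of_isPullback sq.flip hp
    obtain ⟨t, ht⟩ := Groth.AlgSpBasic.surjective_ofPt_of_repWith hps (AlgSp.Points.map f.hom y)
    obtain ⟨v, hv, -⟩ := (Groth.AlgSpBasic.map_eq_ofPt_iff sq y t).1 ht.symm
    obtain ⟨v', hv's, hv'⟩ := Groth.AlgSpBasic.exists_specializes_of_finiteAt
      (Groth.AlgSpBasic.finiteAt_of_isDecent hY y') hfst (u := v) (hv.symm ▸ h)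
    have hfu : ∀ z, AlgSp.Points.ofPt p (w.left z) =
        AlgSp.Points.map f.hom (AlgSp.Points.ofPt fst z) := fun z => by
      rw [← Groth.AlgSpBasic.ofPt_comp_yon, ← sq.w, ← AlgSp.Points.map_ofPt]
    have hw : w.left v = w.left v' := Groth.AlgSpBasic.eq_of_specializes_of_finiteAt X.property
      (Groth.AlgSpBasic.finiteAt_of_isDecent hX (AlgSp.Points.map f.hom y)) hp
      (by rw [hfu, hv]) (by rw [hfu, hv', e]) (hv's.map w.left.continuous)
    have hdisc : DiscreteTopology (w.left ⁻¹' {w.left v}) :=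
      isDiscrete_iff_discreteTopology.mp (w.left.isDiscrete_preimage_singleton (w.left v))
    have h' : (⟨v', hw.symm⟩ : w.left ⁻¹' {w.left v}) ⤳ ⟨v, rfl⟩ :=
      Topology.IsInducing.subtypeVal.specializes_iff.1 hv's
    have e' : v' = v := congrArg Subtype.val h'.eq
    rw [← hv, ← hv', e']
  intro a b hab hne
  obtain ⟨y, rfl⟩ := hs a
  obtain ⟨y', hy', rfl⟩ := hcl.specializingMap hab
  have hne' : y ≠ y' := fun e => hne (congrArg _ e)
  obtain ⟨h1, h2⟩ := hδ y y' hy' hne'
  refine ⟨h1, fun him => h2 fun c hc hc' => ?_⟩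
  rcases him _ (hc.map (AlgSp.Points.continuous_map _)) (hc'.map (AlgSp.Points.continuous_map _)) with e | e
  · exact Or.inl (hfib c y hc e.symm).symm
  · exact Or.inr (hfib y' c hc' e)

end Groth.Agent.S10406
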