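import Groth.Statements.S10409
import Groth.Agent.AlgSp2.MonoCriteria
-- import your own Groth.Agent.* helpers here

set_option autoImplicit false
universe u
open CategoryTheory CategoryTheory.Limits AlgebraicGeometry Topology TopologicalSpace
open AlgSp

namespace Groth.Agent.S10409

/-- (3) ⇔ (4): for an algebraic space X over a scheme S and x ∈ |X|, there is a monomorphism Spec k ⟶ X
representing x if and only if there is a morphism Spec k' ⟶ X representing x whose
self-fibre-product has etale and quasi-compact projections to Spec k'. -/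
theorem result {S : Scheme.{u}} (X : AlgSp.Space S)
    (x : AlgSp.Points X.obj) :
    (∃ p : AlgSp.FieldPt X.obj, AlgSp.Points.mk p = x ∧ Mono p.toHom) ↔
      ∃ q : AlgSp.FieldPt X.obj, AlgSp.Points.mk q = x ∧
        ∀ (P : AlgSp.Sp S) (fst snd : P ⟶ (AlgSp.yon S).obj q.pt), IsPullback fst snd q.toHom q.toHom →
          AlgSp.RepWith @Etale fst ∧ AlgSp.RepWith @QuasiCompact fst := by
  constructor
  · rintro ⟨p, hp, hm⟩
    refine ⟨p, hp, fun P fst snd sq => ?_⟩
    have : IsIso fst := sq.isIso_fst_of_mono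
    have : MorphismProperty.RespectsIso @Etale.{u} :=
      MorphismProperty.IsStableUnderBaseChange.respectsIso
    have : MorphismProperty.RespectsIso @QuasiCompact.{u} :=
      MorphismProperty.IsStableUnderBaseChange.respectsIso
    have : MorphismProperty.ContainsIdentities @Etale.{u} :=
      ⟨fun X => (inferInstance : Etale (𝟙 X))⟩
    have : MorphismProperty.ContainsIdentities @QuasiCompact.{u} :=
      ⟨fun X => (inferInstance : QuasiCompact (𝟙 X))⟩
    exact ⟨Groth.AlgSpBasic.repWith_isIso fst, Groth.AlgSpBasic.repWith_isIso fst⟩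
  · rintro ⟨q, hq, h⟩
    obtain ⟨R, π₁, π₂, sq⟩ := Groth.AlgSpBasic.exists_pullback_yon
      (X.property.representable_from_yon q.toHom) q.toHom
    obtain ⟨he, hqc⟩ := h _ _ _ sq
    have : Etale π₁.left := (AlgSp.repWith_yon_map_iff _ π₁).1 he
    have : QuasiCompact π₁.left := (AlgSp.repWith_yon_map_iff _ π₁).1 hqc
    have := Groth.AlgSp2.locallyQuasiFinite_of_etale π₁.left
    have : IsFinite π₁.left :=
      IsFinite.of_locallyQuasiFinite (Y := Spec (CommRingCat.of q.K)) π₁.left
    obtain ⟨p, c, hm, -, -, -, -, hc⟩ :=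
      Groth.AlgSp2.exists_mono_of_finite_self q.toHom π₂ π₁ sq.flip
    refine ⟨p, ?_, hm⟩
    rw [← hq, ← Groth.AlgSp2.mk_ofHom_precomp p c, hc]
    exact congrArg AlgSp.Points.mk (by simp [Groth.AlgSp2.ofHom, AlgSp.FieldPt.toHom]; rfl)

end Groth.Agent.S10409
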