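import Groth.Statements.S10410
import Groth.Agent.AlgSp2.MonoCriteria
-- import your own Groth.Agent.* helpers here

set_option autoImplicit false
universe u
open CategoryTheory CategoryTheory.Limits AlgebraicGeometry Topology TopologicalSpace
open AlgSp

namespace Groth.Agent.S10410

/-- Let X be an algebraic space over a scheme S, x ∈ |X|, and φ : U ⟶ X etale with U a scheme. Then x
lies in the image of |U| and the fibres of |U| → |X| and |U ×_X U| → |X| over x are finite, if and
only if x is represented by a monomorphism Spec k ⟶ X such that Spec k ×_X U is a nonempty scheme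
finite over k. -/
theorem result {S : Scheme.{u}} (X : AlgSp.Space S) (x : AlgSp.Points X.obj)
    {U : Over S} (φ : (AlgSp.yon S).obj U ⟶ X.obj) (hφ : AlgSp.RepWith @Etale φ) :
    (x ∈ Set.range (AlgSp.Points.ofPt φ) ∧ (AlgSp.Points.ofPt φ ⁻¹' {x}).Finite ∧
        ∀ (R : Over S) (s t : R ⟶ U), IsPullback ((AlgSp.yon S).map t) ((AlgSp.yon S).map s) φ φ →
          (AlgSp.Points.ofPt ((AlgSp.yon S).map t ≫ φ) ⁻¹' {x}).Finite) ↔
      ∃ p : AlgSp.FieldPt X.obj, AlgSp.Points.mk p = x ∧ Mono p.toHom ∧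
        ∀ (T : Over S) (c : T ⟶ p.pt) (snd : (AlgSp.yon S).obj T ⟶ (AlgSp.yon S).obj U),
          IsPullback ((AlgSp.yon S).map c) snd p.toHom φ → Nonempty ↥T.left ∧ IsFinite c.left := by
  constructor
  · rintro ⟨⟨u, hu⟩, hfin, hfinR⟩
    obtain ⟨R, t, s, sqR⟩ := Groth.AlgSpBasic.exists_pullback_yon hφ.rep φ
    obtain ⟨p, hp, hm⟩ := Groth.AlgSp2.exists_mono_of_finite_fibre hφ sqR (u := u) (u' := u) rfl
      ((hfinR R s t sqR).subset (fun r hr => by
        show AlgSp.Points.ofPt _ r = x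
        rw [Groth.AlgSpBasic.ofPt_comp_yon, hr.2, hu]))
    refine ⟨p, hp.trans hu, hm, fun T c snd sq => ?_⟩
    obtain ⟨k, rfl⟩ := (AlgSp.yon S).map_surjective snd
    have : Mono k := (AlgSp.yon S).mono_of_mono_map (Groth.AlgSp2.mono_fst_of_isPullback sq.flip)
    have hk : ∀ w, k.left w ∈ AlgSp.Points.ofPt φ ⁻¹' {x} := fun w => by
      show AlgSp.Points.ofPt φ _ = x
      rw [← (Groth.AlgSpBasic.ofPt_eq_ofPt_iff sq (c.left w) (k.left w)).2 ⟨w, rfl, rfl⟩]
      exact (AlgSp.Points.ofPt_toHom p _).trans (hp.trans hu)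
    have := hfin.to_subtype
    have : Finite T.left := Finite.of_injective
      (fun w : T.left => (⟨k.left w, hk w⟩ : AlgSp.Points.ofPt φ ⁻¹' {x}))
      (fun a b h => k.left.injective (congrArg Subtype.val h))
    have : Etale c.left := hφ.property _ _ _ sq.flip
    have := Groth.AlgSp2.locallyQuasiFinite_of_etale c.left
    obtain ⟨w, -⟩ := (Groth.AlgSpBasic.ofPt_eq_ofPt_iff sq (IsLocalRing.closedPoint p.K) u).1
      ((AlgSp.Points.ofPt_toHom p _).trans hp)
    exact ⟨⟨w⟩, Groth.AlgSp2.isFinite_of_finite (K := p.K) c.left⟩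
  · rintro ⟨p, hp, hm, h⟩
    obtain ⟨T, c, k, sqT⟩ :=
      Groth.AlgSpBasic.exists_pullback_yon (X.property.representable_from_yon p.toHom) φ
    obtain ⟨⟨w₀⟩, hfinc⟩ := h T c _ sqT
    have : Finite T.left := Groth.AlgSp2.finite_of_isFinite (Y := Spec (CommRingCat.of p.K)) c.left
    have hmem : ∀ w : T.left, AlgSp.Points.ofPt φ (k.left w) = x := fun w => by
      rw [← (Groth.AlgSpBasic.ofPt_eq_ofPt_iff sqT (c.left w) (k.left w)).2 ⟨w, rfl, rfl⟩]
      exact (AlgSp.Points.ofPt_toHom p _).trans hp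
    refine ⟨⟨_, hmem w₀⟩, (Set.finite_range k.left).subset ?_, fun R s t sqR => ?_⟩
    · intro v hv
      obtain ⟨w, -, hw⟩ := (Groth.AlgSpBasic.ofPt_eq_ofPt_iff sqT (IsLocalRing.closedPoint p.K) v).1
        ((AlgSp.Points.ofPt_toHom p _).trans (hp.trans hv.symm))
      exact ⟨w, hw⟩
    · have : IsFinite (pullback.snd c c).left :=
        MorphismProperty.of_isPullback (P := @IsFinite)
          ((IsPullback.of_hasPullback c c).map (Over.forget S)) hfinc
      have : Finite ↥(pullback c c).left :=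
        Groth.AlgSp2.finite_of_isFinite (pullback.snd c c).left
      obtain ⟨m, hmm⟩ := (AlgSp.yon S).map_surjective (sqR.lift
        ((AlgSp.yon S).map (pullback.fst c c ≫ k)) ((AlgSp.yon S).map (pullback.snd c c ≫ k)) (by
        simp only [Functor.map_comp, Category.assoc, ← sqT.w]
        rw [← Functor.map_comp_assoc, ← Functor.map_comp_assoc, pullback.condition]))
      refine (Set.finite_range m.left).subset fun r hr => ?_
      obtain ⟨b, -, -, m', h₁, h₂, hb⟩ := Groth.AlgSp2.exists_mem_pair sqR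
        (X.property.representable_from_yon p.toHom) sqT r (Eq.trans hr hp.symm)
      have : m' = m := (AlgSp.yon S).map_injective (sqR.hom_ext
        (by rw [h₁, hmm, sqR.lift_fst]) (by rw [h₂, hmm, sqR.lift_snd]))
      exact ⟨b, this ▸ hb⟩

end Groth.Agent.S10410
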