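import Groth.Statements.S10412
import Groth.Agent.AlgSpBasic.OverField
import Groth.Agent.AlgSpBasic.Quotient
import Groth.Agent.AlgSp2.Decency
import Groth.Agent.AlgSpBasic.SepLQFScheme
import Groth.Agent.AlgSpBasic.Sep
-- import your own Groth.Agent.* helpers here

set_option autoImplicit false
universe u
open CategoryTheory CategoryTheory.Limits AlgebraicGeometry Topology TopologicalSpace
open AlgSp

namespace Groth.Agent.S10412

/-- For an algebraic space X over a scheme S the following are equivalent: (1) X has a Zariski covering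
by open subspaces X_i, each X_i admitting a surjective, etale and quasi-compact morphism U_i ⟶ X_i
with U_i a scheme; (2) there are etale morphisms U_i ⟶ X from schemes, jointly surjective, such that
for each i both projection morphisms from U_i ×_X U_i to U_i are quasi-compact. -/
theorem result {S : Scheme.{u}} (X : AlgSp.Space S) :
    (∃ (ι : Type u) (Xi : ι → AlgSp.Space S) (j : ∀ i, Xi i ⟶ X) (U : ι → Over S)
        (a : ∀ i, (AlgSp.yon S).obj (U i) ⟶ (Xi i).obj),
        AlgSp.IsZarCover (fun i => (Xi i).obj) (fun i => (j i).hom) ∧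
          ∀ i, AlgSp.RepWith @Etale (a i) ∧ AlgSp.RepWith @Surjective (a i) ∧ AlgSp.RepWith @QuasiCompact (a i)) ↔
      ∃ (ι : Type u) (U : ι → Over S) (φ : ∀ i, (AlgSp.yon S).obj (U i) ⟶ X.obj),
        (∀ i, AlgSp.RepWith @Etale (φ i)) ∧
          (∀ x : AlgSp.Points X.obj, ∃ (i : ι) (v : ↥(U i).left), AlgSp.Points.ofPt (φ i) v = x) ∧
          ∀ (i : ι) (R : Over S) (s t : R ⟶ U i), IsPullback ((AlgSp.yon S).map t) ((AlgSp.yon S).map s) (φ i) (φ i) →
            QuasiCompact s.left ∧ QuasiCompact t.left := by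
  constructor
  · rintro ⟨ι, Xi, j, U, a, ⟨hj, hcov⟩, h⟩
    have hm : ∀ i, Mono (j i).hom := fun i => Groth.AlgSpBasic.mono_of_repWith
      (fun _ _ f (_ : IsOpenImmersion f) => inferInstance) (hj i)
    refine ⟨ι, U, fun i => a i ≫ (j i).hom, fun i => Groth.AlgSpBasic.repWith_comp (h i).1
      (Groth.AlgSpBasic.repWith_mono (fun _ _ f (_ : IsOpenImmersion f) => inferInstanceAs (Etale f)) (hj i)),
      fun x => ?_, fun i R s t sq => ?_⟩
    · obtain ⟨i, z, hz⟩ := hcov x
      obtain ⟨v, hv⟩ := Groth.AlgSpBasic.surjective_ofPt_of_repWith (h i).2.1 z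
      exact ⟨i, v, by rw [← AlgSp.Points.map_ofPt, hv, hz]⟩
    · have := hm i
      have sq' := Groth.AlgSp2.isPullback_of_comp_mono (m := (j i).hom) sq rfl rfl
      exact ⟨Groth.AlgSpBasic.repWith_fst_of_isPullback sq' (h i).2.2,
        Groth.AlgSpBasic.repWith_fst_of_isPullback sq'.flip (h i).2.2⟩
  · rintro ⟨ι, U, φ, hφ, hcov, h⟩
    choose Y inc pY hi hpe hps hpY using fun i => Groth.AlgSpBasic.exists_openSub_chart (hφ i)
    have hY : ∀ i, IsAlgSpace (Y i) := fun i =>
      Groth.AlgSpBasic.isAlgSpace_of_chart (hpe i) (hps i)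
    refine ⟨ι, fun i => ⟨Y i, hY i⟩, fun i => ObjectProperty.homMk (inc i), U, pY,
      ⟨hi, fun x => ?_⟩, fun i => ⟨hpe i, hps i, ?_⟩⟩
    · obtain ⟨i, v, hv⟩ := hcov x
      refine ⟨i, AlgSp.Points.ofPt (pY i) v, ?_⟩
      rw [← hv, ← hpY i]; rfl
    · obtain ⟨R, t, s, sq⟩ := Groth.AlgSpBasic.exists_pullback_yon (hpe i).rep (pY i)
      have : Mono (inc i) := Groth.AlgSpBasic.mono_of_repWith
        (fun _ _ f (_ : IsOpenImmersion f) => inferInstance) (hi i)
      have sq' := Groth.AlgSpBasic.isPullback_comp_mono (inc i) sq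
      rw [hpY i] at sq'
      have : Sheaf.IsLocallySurjective (pY i) :=
        Groth.AlgSpBasic.isLocallySurjective_of_etale _ (hpe i) (hps i)
      exact Groth.AlgSpBasic.repWith_of_isLocallySurjective (pY i) (hpe i).rep (pY i) _ _ sq
        ((AlgSp.repWith_yon_map_iff _ s).2 (h i R s t sq').1)

end Groth.Agent.S10412
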