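import Groth.Statements.S1042
import Groth.Agent.DerivedCoh.PerfFP.FlatBC
import Groth.Agent.DerivedCoh.Fibre.Concentrated

set_option autoImplicit false
universe u
open CategoryTheory CategoryTheory.Limits AlgebraicGeometry
attribute [local instance] HasDerivedCategory.standard
open Perf

namespace Groth.Agent.S1042

/-- Let f : X ⟶ S be proper and of finite presentation, F an O_X-module of finite presentation flat over
S, and i ∈ ℤ, r ∈ ℕ. There is an open subset U ⊆ S such that for every morphism g : T ⟶ S (with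
Rf_{T,*} assumed to exist on the unbounded derived category), g factors through U — i.e. the image
of g lies in U — exactly when Rf_{T,*}(F_T), as an object of D(O_T), is a rank-r finite locally free
O_T-module sitting in degree i; here f_T : X ×_S T ⟶ T and F_T is the pullback of F to X ×_S T. -/
theorem result {X S : Scheme.{u}} (f : X ⟶ S) [IsProper f] [LocallyOfFinitePresentation f]
    (F : X.Modules) (hF : CohB1.IsFP F) (hflat : FlatMod.IsFlatOver f F) (i : ℤ) (r : ℕ) :
    ∃ U : S.Opens, ∀ (T : Scheme.{u}) (g : T ⟶ S) [DCoh.HasRpush (pullback.snd f g)],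
      Set.range g.base ⊆ (U : Set S) ↔
        ∃ V : T.Modules, FlatMod.IsFinLocFreeOfRank r V ∧
          Nonempty ((DCoh.Rpush (pullback.snd f g)).obj (DCoh.inD (pullback f g) ((Scheme.Modules.pullback (pullback.fst f g)).obj F)) ≅ (DCoh.inD T V)⟦-i⟧) := by
  haveI : DCoh.HasRpush f := Groth.Misc4.PushRestrict.hasRightDerived _
  haveI : F.IsQuasicoherent := by have := hF; infer_instance
  obtain ⟨U, hU⟩ := Groth.DerivedCoh.Fibre.exists_open_concentrated ((DCoh.Rpush f).obj (DCoh.inD X F))
    (Groth.DerivedCoh.PerfFP.isPerfect_Rpush_inD f F hF hflat (Groth.DerivedCoh.PerfFP.isProperOver_support f hF)) i r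
  refine ⟨U, fun T g _ => ?_⟩
  haveI : DCoh.HasLpull g := Groth.DerivedCoh.KFlat.hasLpull _
  obtain ⟨e⟩ := Groth.DerivedCoh.PerfFP.nonempty_bc_flat (IsPullback.of_hasPullback f g) F ‹_› hflat
  exact (hU T g).trans ⟨fun ⟨V, hV, ⟨a⟩⟩ => ⟨V, hV, ⟨e.symm ≪≫ a⟩⟩, fun ⟨V, hV, ⟨a⟩⟩ => ⟨V, hV, ⟨e ≪≫ a⟩⟩⟩

end Groth.Agent.S1042
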