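import Groth.Statements.S10422
import Groth.Prelude.Def_AlgSp2
-- import your own Groth.Agent.* helpers here

set_option autoImplicit false
universe u
open Topology TopologicalSpace TensorProduct
open AlgSp

namespace Groth.Agent.S10422

/-- Let A be a ring, k a field, (p_n) a sequence of primes of A which are pairwise distinct, and k →
κ(p_n) field embeddings. Then the closure in Spec(A ⊗ A) of the image of ∐_{n ≠ m} Spec(κ(p_n) ⊗_k
κ(p_m)) meets the diagonal. Here κ(p_n) is any A-algebra K_n which is a field whose structure map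
has kernel p_n and whose elements are quotients of images of elements of A. -/
theorem result (A : Type u) [CommRing A] (k : Type u) [Field k]
    (p : ℕ → PrimeSpectrum A) (hp : Function.Injective p) (K : ℕ → Type u) [∀ n, Field (K n)]
    [∀ n, Algebra A (K n)] [∀ n, Algebra k (K n)]
    (hker : ∀ n, RingHom.ker (algebraMap A (K n)) = (p n).asIdeal)
    (hfrac : ∀ n (x : K n), ∃ a b : A, algebraMap A (K n) b ≠ 0 ∧ x * algebraMap A (K n) b = algebraMap A (K n) a) :
    (closure (⋃ (n : ℕ) (m : ℕ) (_ : n ≠ m),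
        Set.range (PrimeSpectrum.comap
          (Algebra.TensorProduct.lift
            ((Algebra.TensorProduct.includeLeft (R := k) (S := ℤ) (A := K n) (B := K m)).toRingHom.toIntAlgHom.comp
              (Algebra.ofId A (K n)).toRingHom.toIntAlgHom)
            ((Algebra.TensorProduct.includeRight (R := k) (A := K n) (B := K m)).toRingHom.toIntAlgHom.comp
              (Algebra.ofId A (K m)).toRingHom.toIntAlgHom)
            (fun _ _ => Commute.all _ _)).toRingHom)) ∩
      Set.range (PrimeSpectrum.comap (Algebra.TensorProduct.lmul' (S := A) ℤ).toRingHom)).Nonempty := by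
  classical
  -- common extensions of finitely many of the fields
  have amal : ∀ N : ℕ, ∃ (Ω : Type u) (_ : Field Ω) (σ : k →+* Ω),
      ∀ n < N, ∃ φ : K n →+* Ω, φ.comp (algebraMap k (K n)) = σ := by
    intro N
    induction N with
    | zero => exact ⟨k, inferInstance, RingHom.id k, by simp⟩
    | succ N ih =>
      obtain ⟨Ω, _, σ, hσ⟩ := ih
      obtain ⟨Ω', _, i₁, i₂, hi⟩ := AlgSp.FieldPt.exists_amalgamation σ (algebraMap k (K N))
      refine ⟨Ω', inferInstance, i₁.comp σ, fun n hn => ?_⟩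
      rcases Nat.lt_succ_iff_lt_or_eq.mp hn with h | rfl
      · obtain ⟨φ, hφ⟩ := hσ n h
        exact ⟨i₁.comp φ, by rw [RingHom.comp_assoc, hφ]⟩
      · exact ⟨i₂, hi.symm⟩
  rw [← PrimeSpectrum.zeroLocus_vanishingIdeal_eq_closure,
    range_comap_of_surjective _ _
      (fun a => ⟨a ⊗ₜ 1, by simp [Algebra.TensorProduct.lmul'_apply_tmul]⟩),
    ← PrimeSpectrum.zeroLocus_sup, Set.nonempty_iff_ne_empty, Ne,
    PrimeSpectrum.zeroLocus_empty_iff_eq_top, Ideal.eq_top_iff_one, Submodule.mem_sup]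
  rintro ⟨e, he, f, hf, hef⟩
  obtain ⟨r, c, d, hcd⟩ : ∃ (r : ℕ) (c d : Fin r → A), f = ∑ i, c i ⊗ₜ[ℤ] d i := by
    obtain ⟨r, c, d, h⟩ := TensorProduct.exists_sum_tmul_eq f
    exact ⟨r, c, d, h⟩
  have hf' : ∑ i, c i * d i = 0 := by
    have : Algebra.TensorProduct.lmul' (S := A) ℤ f = 0 := hf
    simpa [hcd, map_sum] using this
  obtain ⟨Ω, _, σ, hσ⟩ := amal (r + 2)
  choose φ hφ using fun n : Fin (r + 2) => hσ n n.2
  let u : Fin (r + 2) → Fin r → Ω := fun n i => φ n (algebraMap A (K n) (c i))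
  let v : Fin (r + 2) → Fin r → Ω := fun n i => φ n (algebraMap A (K n) (d i))
  have hdiag : ∀ n, ∑ i, u n i * v n i = 0 := fun n => by
    simp only [u, v, ← map_mul, ← map_sum, hf', map_zero]
  have hoff : ∀ n m, n ≠ m → ∑ i, u n i * v m i = 1 := by
    intro n m hnm
    letI := σ.toAlgebra
    let φn : K n →ₐ[k] Ω := ⟨φ n, fun x => RingHom.congr_fun (hφ n) x⟩
    let φm : K m →ₐ[k] Ω := ⟨φ m, fun x => RingHom.congr_fun (hφ m) x⟩
    let ψ : K n ⊗[k] K m →ₐ[k] Ω := Algebra.TensorProduct.lift φn φm fun _ _ => Commute.all _ _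
    let P : PrimeSpectrum (K n ⊗[k] K m) := ⟨RingHom.ker ψ.toRingHom, RingHom.ker_isPrime _⟩
    have hP := (PrimeSpectrum.mem_vanishingIdeal _ _).mp he _ (Set.mem_iUnion.2 ⟨n.1,
      Set.mem_iUnion.2 ⟨m.1, Set.mem_iUnion.2 ⟨Fin.val_ne_of_ne hnm, P, rfl⟩⟩⟩)
    rw [eq_sub_of_add_eq hef, PrimeSpectrum.comap_asIdeal, Ideal.mem_comap] at hP
    change ψ _ = 0 at hP
    refine (sub_eq_zero.mp (Eq.trans ?_ hP)).symm
    simp [hcd, map_sum, map_sub, ψ, φn, φm, u, v, Algebra.ofId_apply]
  obtain ⟨l, hl, j, hj⟩ := Fintype.not_linearIndependent_iff.mp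
    (fun h : LinearIndependent Ω (fun m => ((v m, (1 : Ω)) : (Fin r → Ω) × Ω)) => by
      simpa using h.fintype_card_le_finrank)
  have h1 : ∀ i, ∑ m, l m * v m i = 0 := fun i => by
    have := congrArg (fun z : (Fin r → Ω) × Ω => z.1 i) hl
    simpa [Prod.fst_sum, Finset.sum_apply] using this
  have h2 : ∑ m, l m = 0 := by
    have := congrArg Prod.snd hl
    simpa [Prod.snd_sum] using this
  refine hj ?_
  have key : ∑ m, l m * ∑ i, u j i * v m i = 0 := by
    simp only [Finset.mul_sum]
    rw [Finset.sum_comm]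
    refine Finset.sum_eq_zero fun i _ => ?_
    calc ∑ m, l m * (u j i * v m i) = u j i * ∑ m, l m * v m i := by
          rw [Finset.mul_sum]; exact Finset.sum_congr rfl fun m _ => by ring
      _ = 0 := by rw [h1, mul_zero]
  rw [← Finset.add_sum_erase _ _ (Finset.mem_univ j), hdiag, mul_zero, zero_add,
    Finset.sum_congr rfl fun m hm => by rw [hoff j m (Finset.ne_of_mem_erase hm).symm, mul_one]] at key
  rw [← Finset.add_sum_erase _ _ (Finset.mem_univ j), key, add_zero] at h2
  exact h2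

end Groth.Agent.S10422
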