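import Groth.Statements.S1043
import Groth.Agent.DerivedCoh.TriBasic

set_option autoImplicit false
universe v u
open CategoryTheory
open CohDer

namespace Groth.Agent.S1043

open CategoryTheory.Limits CategoryTheory.Pretriangulated ZeroObject

open CategoryTheory.Pretriangulated in
/-- Let φ, ψ : T ⟶ T' be two morphisms between distinguished triangles T = (X, Y, Z) and T' = (X', Y',
Z') of a pretriangulated category which agree on the first and third components. If one of the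
following holds — (1) Hom(Y, X') = 0; (2) Hom(Z, Y') = 0; (3) Hom(X, X') = 0 and Hom(Z, X') = 0; (4)
Hom(Z, X') = 0 and Hom(Z, Z') = 0; (5) Hom(X[1], Z') = 0 and Hom(Z, X') = 0 — then φ and ψ also
agree on the middle component. -/
theorem result {D : Type u} [Category.{v} D] [Preadditive D] [Limits.HasZeroObject D] [HasShift D ℤ]
    [∀ n : ℤ, (shiftFunctor D n).Additive] [Pretriangulated D]
    (T T' : Triangle D) (hT : T ∈ distinguishedTriangles) (hT' : T' ∈ distinguishedTriangles)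
    (φ ψ : T ⟶ T') (h₁ : φ.hom₁ = ψ.hom₁) (h₃ : φ.hom₃ = ψ.hom₃)
    (hc : (∀ u : T.obj₂ ⟶ T'.obj₁, u = 0) ∨ (∀ u : T.obj₃ ⟶ T'.obj₂, u = 0) ∨
      ((∀ u : T.obj₁ ⟶ T'.obj₁, u = 0) ∧ (∀ u : T.obj₃ ⟶ T'.obj₁, u = 0)) ∨
      ((∀ u : T.obj₃ ⟶ T'.obj₁, u = 0) ∧ (∀ u : T.obj₃ ⟶ T'.obj₃, u = 0)) ∨
      ((∀ u : (shiftFunctor D (1 : ℤ)).obj T.obj₁ ⟶ T'.obj₃, u = 0) ∧ (∀ u : T.obj₃ ⟶ T'.obj₁, u = 0))) :
    φ.hom₂ = ψ.hom₂ := by
  let d : T.obj₂ ⟶ T'.obj₂ := φ.hom₂ - ψ.hom₂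
  have d₁ : T.mor₁ ≫ d = 0 := by rw [Preadditive.comp_sub, φ.comm₁, ψ.comm₁, h₁, sub_self]
  have d₂ : d ≫ T'.mor₂ = 0 := by rw [Preadditive.sub_comp, ← φ.comm₂, ← ψ.comm₂, h₃, sub_self]
  obtain ⟨e, he⟩ := Triangle.yoneda_exact₂ T hT d d₁
  obtain ⟨g, hg⟩ := Triangle.coyoneda_exact₂ T' hT' d d₂
  suffices hd : d = 0 from sub_eq_zero.1 hd
  rcases hc with hc | hc | ⟨ha, hb⟩ | ⟨ha, hb⟩ | ⟨ha, hb⟩
  · rw [hg, hc g, zero_comp]
  · rw [he, hc e, comp_zero]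
  · obtain ⟨k, hk⟩ := Triangle.yoneda_exact₂ T hT g (ha _)
    rw [hg, hk, hb k]; simp
  · obtain ⟨k, hk⟩ := Triangle.coyoneda_exact₂ T' hT' e (hb _)
    rw [he, hk, ha k]; simp
  · have h2 : T.mor₂ ≫ (e ≫ T'.mor₂) = 0 := by rw [← Category.assoc, ← he, d₂]
    obtain ⟨k, hk⟩ := Triangle.yoneda_exact₃ T hT (e ≫ T'.mor₂) h2
    obtain ⟨l, hl⟩ := Triangle.coyoneda_exact₂ T' hT' e (by rw [hk, ha k, comp_zero])
    rw [he, hl, hb l]; simp

end Groth.Agent.S1043
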