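import Groth.Statements.S10430
import Groth.Agent.AlgSp2.LocallySeparated
-- import your own Groth.Agent.* helpers here

set_option autoImplicit false
universe u
open CategoryTheory CategoryTheory.Limits AlgebraicGeometry Topology TopologicalSpace
open AlgSp

namespace Groth.Agent.S10430

/-- If every etale morphism U ⟶ X from an affine scheme to the algebraic space X has universally bounded
fibres, then X is decent. -/
theorem result {S : Scheme.{u}} (X : AlgSp.Space S)
    (h : ∀ (U : Over S) (φ : (AlgSp.yon S).obj U ⟶ X.obj), IsAffine U.left → AlgSp.RepWith @Etale φ → W4dec.HasUnivBddFibres φ) :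
    AlgSp.IsDecent X.obj := by
  intro x
  obtain ⟨U, φ, hφ, hφs⟩ := X.property.atlas
  obtain ⟨q, rfl⟩ := AlgSp.Points.mk_surjective x
  obtain ⟨u, hu⟩ := Groth.AlgSpBasic.surjective_ofPt_of_repWith hφs (AlgSp.Points.mk q)
  have hq : AlgSp.RepWith @QuasiCompact q.toHom := by
    refine Groth.AlgSp2.repWith_qc_of_finite_fibres X.property q fun A P a e c hA ha sqP => ?_
    obtain ⟨n, hn⟩ := h A a hA ha
    have := (hn q P c ((AlgSp.yon S).map e) sqP.flip).1
    exact Groth.AlgSp2.finite_of_isFinite (Y := Spec (CommRingCat.of q.K)) c.left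
  exact Groth.AlgSp2.exists_monoQC_of_qc hφ (Groth.AlgSp2.representable_fieldPt X.property) q hq u hu

end Groth.Agent.S10430
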