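import Groth.Statements.S1044
import Groth.Agent.Misc4.KoszulTrunc
import Groth.Agent.Misc4.PerfectCompact

set_option autoImplicit false
universe u
open CategoryTheory CategoryTheory.Limits AlgebraicGeometry
attribute [local instance] HasDerivedCategory.standard
open Perf

namespace Groth.Agent.S1044

/-- Let A be a ring, f₁, …, f_r elements of A, X = Spec A, U ⊆ X the open complement of V(f₁, …, f_r)
with inclusion j, and K the perfect object of D(O_X) associated with the Koszul complex on f₁, …,
f_r. Assuming Rj_* exists (and tilde is recorded as exact), for E ∈ D(O_X) with quasi-coherent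
cohomology sheaves the following are equivalent: E is of the form Rj_*M for some M ∈ D_QCoh(O_U)
(equivalently E = Rj_*(E|_U)); every morphism K[n] ⟶ E, n ∈ ℤ, is zero. -/
theorem result (A : Type u) [CommRing A] (fs : List A) [PreservesFiniteLimits (tilde.functor (CommRingCat.of A))]
    [DCoh.HasRpush (LocCoh.puncturedOpen A (Ideal.span {a | a ∈ fs})).ι]
    (E : DCoh.D (Spec (CommRingCat.of A))) (hE : DCoh.IsQCohD E) :
    (∃ M : DCoh.D (LocCoh.puncturedOpen A (Ideal.span {a | a ∈ fs}) : Scheme.{u}), DCoh.IsQCohD M ∧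
        Nonempty (E ≅ (DCoh.Rpush (LocCoh.puncturedOpen A (Ideal.span {a | a ∈ fs})).ι).obj M)) ↔
    ∀ (n : ℤ) (φ : ((DCoh.tildeD (CommRingCat.of A)).obj (DerivedCategory.Q.obj (Koszul.koszul A fs)))⟦n⟧ ⟶ E), φ = 0 := by
  let V := LocCoh.puncturedOpen A (Ideal.span {a | a ∈ fs})
  haveI : PreservesLimitsOfSize.{0, 0} (Scheme.Modules.restrictFunctor V.ι) := by
    exact (CxOX.extZeroAdj V.ι).rightAdjoint_preservesLimits
  haveI : PreservesFiniteLimits (Scheme.Modules.restrictFunctor V.ι) := ⟨fun _ _ _ => inferInstance⟩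
  haveI : PreservesFiniteColimits (Scheme.Modules.restrictFunctor V.ι) :=
    haveI := (Scheme.Modules.restrictAdjunction V.ι).leftAdjoint_preservesColimits
    inferInstance
  let adj : DCoh.restrictD V.ι ⊣ DCoh.Rpush V.ι :=
    Groth.DerivedAdj.derivedAdj (Scheme.Modules.restrictAdjunction V.ι)
      (Groth.DerivedCoh.KFlat.enoughKInj (V : Scheme.{u}))
  constructor
  · rintro ⟨M, hM, ⟨e⟩⟩ n φ
    have h := Groth.Misc4.KoszulUnit.eq_zero_to_Rpush fs adj
      (Groth.Misc4.KoszulUnit.isZero_restrictD_KS fs n) M (φ ≫ e.hom)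
    exact (cancel_mono e.hom).1 (h.trans zero_comp.symm)
  · intro h
    obtain ⟨C, p, d, hT, hC⟩ := Groth.Misc4.KoszulUnit.exists_fibre fs adj E hE
    haveI : IsIso (adj.unit.app E) := (DerivedCategory.isIso_iff _ _).2 fun q => by
      haveI : Mono ((DerivedCategory.homologyFunctor _ q).map (adj.unit.app E)) :=
        (DerivedCategory.HomologySequence.mono_homologyMap_mor₁_iff _ hT (q - 1) q (by omega)).2
          ((hC q (h (-q))).eq_of_src _ _)
      haveI : Epi ((DerivedCategory.homologyFunctor _ q).map (adj.unit.app E)) :=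
        (DerivedCategory.HomologySequence.epi_homologyMap_mor₁_iff _ hT q).2
          ((show IsZero (DCoh.HD C q) by simpa using hC (q + 1) (h (-(q + 1)))).eq_of_tgt _ _)
      exact isIso_of_mono_of_epi _
    exact ⟨(DCoh.restrictD V.ι).obj E, Groth.Misc4.QCohDPerf.isQCohD_restrict V.ι hE, ⟨asIso (adj.unit.app E)⟩⟩

end Groth.Agent.S1044
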