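import Groth.Statements.S10443
import Groth.Agent.AlgSpBasic.DecentTop
import Groth.Agent.Cycles.DimFunLft

set_option autoImplicit false
universe u
open CategoryTheory CategoryTheory.Limits AlgebraicGeometry Topology TopologicalSpace
open AlgSp Groth.AlgSpBasic

namespace Groth.Agent.S10443

/-- Let S be a locally Noetherian, universally catenary scheme carrying a dimension function δ, and X a
decent algebraic space over S that is locally of finite type over S. Define δ_X : |X| → ℤ by δ_X(x)
= δ(s) + (transcendence degree of x over s), s the image of x in S; concretely, for an etale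
surjective chart U ⟶ X with U locally of finite type over S, the composite of δ_X with |U| → |X| is
the function induced from δ along U ⟶ S. Then δ_X is a dimension function: strictly decreasing along
nontrivial specializations, and dropping by one along immediate ones. -/
theorem result {S : Scheme.{u}} (δ : ↥S → ℤ) (hS : Cyc.IsSetup S δ)
    (X : AlgSp.Space S) (hX : AlgSp.IsDecent X.obj) {U : Over S} (a : (AlgSp.yon S).obj U ⟶ X.obj)
    (ha : AlgSp.RepWith @Etale a) (hs : AlgSp.RepWith @Surjective a) [LocallyOfFiniteType U.hom]
    (δX : AlgSp.Points X.obj → ℤ) (hδ : Cyc.DeltaCompat U.hom (δX ∘ AlgSp.Points.ofPt a) δ) :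
    ∀ x y : AlgSp.Points X.obj, x ⤳ y → x ≠ y →
      δX y < δX x ∧ ((∀ z : AlgSp.Points X.obj, x ⤳ z → z ⤳ y → z = x ∨ z = y) → δX x = δX y + 1) := by
  intro x y hxy hne
  obtain ⟨u, rfl⟩ := surjective_ofPt_of_repWith hs y
  obtain ⟨u', hu', rfl⟩ := exists_specializes_of_finiteAt (finiteAt_of_isDecent hX x) ha hxy
  have hd := Groth.Cycles.isDimFun_of_deltaCompat U.hom hS hδ
  obtain ⟨h1, h2⟩ := hd u' u hu' fun e => hne (congrArg _ e)
  refine ⟨h1, fun h => h2 fun w hw hw' => ?_⟩
  rcases h (AlgSp.Points.ofPt a w) (hw.map (AlgSp.Points.continuous_ofPt a))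
      (hw'.map (AlgSp.Points.continuous_ofPt a)) with e | e
  · exact Or.inl (eq_of_specializes_of_finiteAt X.property (finiteAt_of_isDecent hX _) ha e rfl hw)
  · exact Or.inr (eq_of_specializes_of_finiteAt X.property (finiteAt_of_isDecent hX _) ha rfl e hw').symm

end Groth.Agent.S10443
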