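import Groth.Statements.S10444
import Groth.Agent.AlgSpBasic.FibreSpace

set_option autoImplicit false
universe u
open CategoryTheory CategoryTheory.Limits AlgebraicGeometry Topology TopologicalSpace
open AlgSp Groth.AlgSpBasic

namespace Groth.Agent.S10444

/-- Take f : X ⟶ Y locally of finite type between algebraic spaces over a scheme S, a field-valued point
Spec k ⟶ Y whose class y ∈ |Y| lies in the image of |f|, the fibre product X_k = Spec k ×_Y X, and
the fibre F = |f|⁻¹(y) ⊆ |X| with the induced topology. Numbering the conditions (1) F finite, (2) F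
discrete, (3) dim F = 0, (4) |X_k| finite, (5) |X_k| discrete, (6) dim |X_k| = 0, (7) dim X_k = 0,
(8) f quasi-finite at all points over y: (5) ⇔ (7) ⇔ (8); (5) ⇒ (6), with the converse when X_k is
decent; (4) ⇒ (5) when X_k is decent; (4) ⇒ (1); (2) ⇒ (3); if Y is decent then (2) ⇔ (5); if X and
Y are decent then (3) ⇒ (2) and (1) ⇒ (2). (The published statement asserts (5) ⇔ (6) for every f
and (2) ⇔ (3) whenever Y is decent, and does not exclude an empty fibre; for the quotient of the
affine line over a field of characteristic zero by an infinite cyclic group of translations, mapping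
to the point, the space of points is infinite and indiscrete, so (3) and (6) hold while (2) and (5)
fail, and for y outside the image (5) holds while (6) and (7) fail; hence the decency hypotheses on
those two converses and the hypothesis that y is in the image. Finiteness of |X_k| for an arbitrary
field k in the class of y is not derived here from (1).) -/
theorem result {S : Scheme.{u}} {X Y : AlgSp.Space S} (f : X ⟶ Y)
    (hf : AlgSp.LocP @LocallyOfFiniteType f.hom) (r : AlgSp.FieldPt Y.obj)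
    (hy : AlgSp.Points.mk r ∈ Set.range (AlgSp.Points.map f.hom)) (Xk : AlgSp.Space S) (fst : Xk ⟶ X)
    (snd : Xk.obj ⟶ (AlgSp.yon S).obj r.pt) (hsq : IsPullback fst.hom snd f.hom r.toHom) :
    (DiscreteTopology (AlgSp.Points Xk.obj) ↔ AlgSp.dim Xk.obj = 0) ∧
    (AlgSp.dim Xk.obj = 0 ↔
      ∀ x : AlgSp.Points X.obj, AlgSp.Points.map f.hom x = AlgSp.Points.mk r → AlgSp.HasAtMor (fun U _ h u => ∃ W : U.Opens, u ∈ W ∧ LocallyQuasiFinite (W.ι ≫ h) ∧ LocallyOfFiniteType (W.ι ≫ h)) f.hom x) ∧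
    (DiscreteTopology (AlgSp.Points Xk.obj) → topologicalKrullDim (AlgSp.Points Xk.obj) = 0) ∧
    (AlgSp.IsDecent Xk.obj → topologicalKrullDim (AlgSp.Points Xk.obj) = 0 →
      DiscreteTopology (AlgSp.Points Xk.obj)) ∧
    (AlgSp.IsDecent Xk.obj → Finite (AlgSp.Points Xk.obj) → DiscreteTopology (AlgSp.Points Xk.obj)) ∧
    (Finite (AlgSp.Points Xk.obj) → (AlgSp.Points.map f.hom ⁻¹' {AlgSp.Points.mk r}).Finite) ∧
    (DiscreteTopology ↥(AlgSp.Points.map f.hom ⁻¹' {AlgSp.Points.mk r}) → topologicalKrullDim ↥(AlgSp.Points.map f.hom ⁻¹' {AlgSp.Points.mk r}) = 0) ∧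
    (AlgSp.IsDecent Y.obj → (DiscreteTopology ↥(AlgSp.Points.map f.hom ⁻¹' {AlgSp.Points.mk r}) ↔ DiscreteTopology (AlgSp.Points Xk.obj))) ∧
    (AlgSp.IsDecent Y.obj → AlgSp.IsDecent X.obj →
      (topologicalKrullDim ↥(AlgSp.Points.map f.hom ⁻¹' {AlgSp.Points.mk r}) = 0 → DiscreteTopology ↥(AlgSp.Points.map f.hom ⁻¹' {AlgSp.Points.mk r})) ∧
        ((AlgSp.Points.map f.hom ⁻¹' {AlgSp.Points.mk r}).Finite → DiscreteTopology ↥(AlgSp.Points.map f.hom ⁻¹' {AlgSp.Points.mk r}))) := by
  have hN := chartsNJ_fibre X.property Y.property hf r hsq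
  haveI hne : Nonempty (AlgSp.Points Xk.obj) := by
    obtain ⟨x, hx⟩ := hy
    obtain ⟨xt, -⟩ := (range_map_fibre r hsq).ge (show x ∈ AlgSp.Points.map f.hom ⁻¹' _ from hx)
    exact ⟨xt⟩
  haveI : Nonempty ↥(AlgSp.Points.map f.hom ⁻¹' {AlgSp.Points.mk r}) := by
    obtain ⟨x, hx⟩ := hy
    exact ⟨⟨x, hx⟩⟩
  obtain ⟨h1, h2, h3, h4⟩ := space_conditions_of_charts Xk.property hN
  have hqf := discrete_iff_qf X.property Y.property hf r Xk.property hsq
  refine ⟨h1, h1.symm.trans hqf, h2, h3, fun hd hfin => h1.2 (h4 hd hfin), fun hfin => ?_,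
    fun hd => @topologicalKrullDim_eq_zero_of_discrete _ _ hd _, fun hYd => ?_, fun hYd hXd => ?_⟩
  · rw [← range_map_fibre r hsq]
    exact Set.finite_range _
  · obtain ⟨r₀, X₀, fst₀, snd₀, hr₀, hX₀, sq₀, hemb, -⟩ :=
      exists_mono_fibre X.property Y.property hYd f.hom (AlgSp.Points.mk r)
    rw [← hr₀, ← range_map_fibre r₀ sq₀]
    refine Iff.trans ⟨fun hd => ?_, fun hd => ?_⟩ ((discrete_iff_qf X.property Y.property hf r₀ hX₀ sq₀).trans
      (hr₀ ▸ hqf.symm))
    · haveI := hd
      exact hemb.toHomeomorph.symm.discreteTopology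
    · haveI := hd
      exact hemb.toHomeomorph.discreteTopology
  · obtain ⟨r₀, X₀, fst₀, snd₀, hr₀, hX₀, sq₀, hemb, hdec⟩ :=
      exists_mono_fibre X.property Y.property hYd f.hom (AlgSp.Points.mk r)
    rw [← hr₀, ← range_map_fibre r₀ sq₀]
    have hN₀ := chartsNJ_fibre X.property Y.property hf r₀ sq₀
    haveI : Nonempty (AlgSp.Points X₀) := by
      obtain ⟨x, hx⟩ := hy
      obtain ⟨xt, -⟩ := (range_map_fibre r₀ sq₀).ge
        (show x ∈ AlgSp.Points.map f.hom ⁻¹' _ from hx.trans hr₀.symm)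
      exact ⟨xt⟩
    obtain ⟨k1, -, k3, k4⟩ := space_conditions_of_charts hX₀ hN₀
    refine ⟨fun h0 => ?_, fun hfin => ?_⟩
    · rw [← hemb.toHomeomorph.isHomeomorph.topologicalKrullDim_eq] at h0
      haveI := k3 (hdec hXd) h0
      exact hemb.toHomeomorph.discreteTopology
    · haveI := hfin.to_subtype
      haveI : Finite (AlgSp.Points X₀) := Finite.of_equiv _ hemb.toHomeomorph.toEquiv.symm
      haveI := k1.2 (k4 (hdec hXd) ‹_›)
      exact hemb.toHomeomorph.discreteTopology

end Groth.Agent.S10444
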