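import Groth.Statements.S10445
import Groth.Agent.AlgSpBasic.FibreSpace

set_option autoImplicit false
universe u
open CategoryTheory CategoryTheory.Limits AlgebraicGeometry Topology TopologicalSpace
open AlgSp Groth.AlgSpBasic

namespace Groth.Agent.S10445

/-- Take f : X ⟶ Y locally of finite type between algebraic spaces over a scheme S, a field-valued point
Spec k ⟶ Y with class y, the fibre product X_k = Spec k ×_Y X, x ∈ |X| over y, x̃ ∈ |X_k| over x,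
and F = |f|⁻¹(y) with the induced topology. Numbering the conditions (1) dim_x F = 0, (2) x isolated
in F, (3) x closed in F with no proper generization in F, (4) dim_{x̃} |X_k| = 0, (5) x̃ isolated in
|X_k|, (6) x̃ closed in |X_k| with no proper generization, (7) dim_{x̃}(X_k) = 0 (local dimension of
an etale chart), (8) f quasi-finite at x: (5) ⇔ (6) ⇔ (7) ⇔ (8); (4) ⇔ (5) when X_k is decent; (2) ⇔
(5) and (3) ⇔ (6) when Y is decent; (1) ⇔ (2) when X and Y are decent. -/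
theorem result {S : Scheme.{u}} {X Y : AlgSp.Space S} (f : X ⟶ Y)
    (hf : AlgSp.LocP @LocallyOfFiniteType f.hom) (r : AlgSp.FieldPt Y.obj) (Xk : AlgSp.Space S) (fst : Xk ⟶ X)
    (snd : Xk.obj ⟶ (AlgSp.yon S).obj r.pt) (hsq : IsPullback fst.hom snd f.hom r.toHom)
    (x : AlgSp.Points X.obj) (hx : x ∈ (AlgSp.Points.map f.hom ⁻¹' {AlgSp.Points.mk r})) (xt : AlgSp.Points Xk.obj)
    (hxt : AlgSp.Points.map fst.hom xt = x) :
    ((IsOpen ({xt} : Set (AlgSp.Points Xk.obj)) ↔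
      IsClosed ({xt} : Set (AlgSp.Points Xk.obj)) ∧ ∀ x' : AlgSp.Points Xk.obj, x' ⤳ xt → x' = xt) ∧
    (IsOpen ({xt} : Set (AlgSp.Points Xk.obj)) ↔ AlgSp.HasAt (fun U u => FlatMor.localDim ↥U u = 0) Xk.obj xt) ∧
    (AlgSp.HasAt (fun U u => FlatMor.localDim ↥U u = 0) Xk.obj xt ↔ AlgSp.HasAtMor (fun U _ h u => ∃ W : U.Opens, u ∈ W ∧ LocallyQuasiFinite (W.ι ≫ h) ∧ LocallyOfFiniteType (W.ι ≫ h)) f.hom x) ∧
    (AlgSp.IsDecent Xk.obj →
      (FlatMor.localDim (AlgSp.Points Xk.obj) xt = 0 ↔ IsOpen ({xt} : Set (AlgSp.Points Xk.obj)))) ∧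
    (AlgSp.IsDecent Y.obj →
      (IsOpen ({(⟨x, hx⟩ : ↥(AlgSp.Points.map f.hom ⁻¹' {AlgSp.Points.mk r}))} : Set ↥(AlgSp.Points.map f.hom ⁻¹' {AlgSp.Points.mk r})) ↔ IsOpen ({xt} : Set (AlgSp.Points Xk.obj))) ∧
      ((IsClosed ({(⟨x, hx⟩ : ↥(AlgSp.Points.map f.hom ⁻¹' {AlgSp.Points.mk r}))} : Set ↥(AlgSp.Points.map f.hom ⁻¹' {AlgSp.Points.mk r})) ∧ ∀ x' : ↥(AlgSp.Points.map f.hom ⁻¹' {AlgSp.Points.mk r}), x' ⤳ (⟨x, hx⟩ : ↥(AlgSp.Points.map f.hom ⁻¹' {AlgSp.Points.mk r})) → x' = (⟨x, hx⟩ : ↥(AlgSp.Points.map f.hom ⁻¹' {AlgSp.Points.mk r}))) ↔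
        IsClosed ({xt} : Set (AlgSp.Points Xk.obj)) ∧ ∀ x' : AlgSp.Points Xk.obj, x' ⤳ xt → x' = xt)) ∧
    (AlgSp.IsDecent Y.obj → AlgSp.IsDecent X.obj →
      (FlatMor.localDim ↥(AlgSp.Points.map f.hom ⁻¹' {AlgSp.Points.mk r}) (⟨x, hx⟩ : ↥(AlgSp.Points.map f.hom ⁻¹' {AlgSp.Points.mk r})) = 0 ↔ IsOpen ({(⟨x, hx⟩ : ↥(AlgSp.Points.map f.hom ⁻¹' {AlgSp.Points.mk r}))} : Set ↥(AlgSp.Points.map f.hom ⁻¹' {AlgSp.Points.mk r}))))) := by
  subst hxt
  have hN := chartsNJ_fibre X.property Y.property hf r hsq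
  obtain ⟨p1, p2⟩ := point_conditions_of_charts Xk.property hN xt
  have hqf := isolated_iff_qf X.property Y.property hf r Xk.property hsq xt
  refine ⟨p1, p2, hasAt_localDim_iff_qf X.property Y.property hf r Xk.property hsq xt,
    fun hd => localDim_points_iff_of_charts Xk.property hN hd xt, fun hYd => ?_, fun hYd hXd => ?_⟩
  all_goals
    obtain ⟨r₀, X₀, fst₀, snd₀, hr₀, hX₀, sq₀, hemb, hdec⟩ :=
      exists_mono_fibre X.property Y.property hYd f.hom (AlgSp.Points.mk r)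
    have hrange : Set.range (AlgSp.Points.map fst₀) =
        AlgSp.Points.map f.hom ⁻¹' {AlgSp.Points.mk r} := by rw [range_map_fibre r₀ sq₀, hr₀]
    let e : AlgSp.Points X₀ ≃ₜ ↥(AlgSp.Points.map f.hom ⁻¹' {AlgSp.Points.mk r}) :=
      hemb.toHomeomorph.trans (Homeomorph.setCongr hrange)
    obtain ⟨x₀, hx₀⟩ := e.surjective ⟨AlgSp.Points.map fst.hom xt, hx⟩
    have hx₀' : AlgSp.Points.map fst₀ x₀ = AlgSp.Points.map fst.hom xt := congrArg Subtype.val hx₀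
    have hN₀ := chartsNJ_fibre X.property Y.property hf r₀ sq₀
    have ho : IsOpen ({⟨AlgSp.Points.map fst.hom xt, hx⟩} :
        Set ↥(AlgSp.Points.map f.hom ⁻¹' {AlgSp.Points.mk r})) ↔
        IsOpen ({x₀} : Set (AlgSp.Points X₀)) := by
      have h' : IsOpen (e '' {x₀}) ↔ IsOpen ({x₀} : Set (AlgSp.Points X₀)) := e.isOpen_image
      rwa [Set.image_singleton, hx₀] at h'
  · have hq₀ := isolated_iff_qf X.property Y.property hf r₀ hX₀ sq₀ x₀
    rw [hx₀', ← hqf] at hq₀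
    refine ⟨ho.trans hq₀, ?_⟩
    rw [← p1, ← hq₀, (point_conditions_of_charts hX₀ hN₀ x₀).1, ← hx₀]
    refine and_congr ?_ ?_
    · have h' : IsClosed (e '' {x₀}) ↔ IsClosed ({x₀} : Set (AlgSp.Points X₀)) := e.isClosed_image
      rwa [Set.image_singleton] at h'
    · refine ⟨fun h x' hx' => e.injective (h _ (hx'.map e.continuous)), fun h x' hx' => ?_⟩
      obtain ⟨z, rfl⟩ := e.surjective x'
      rw [h z (e.isInducing.specializes_iff.1 hx')]
  · rw [ho, ← localDim_points_iff_of_charts hX₀ hN₀ (hdec hXd) x₀, ← hx₀,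
      ← Groth.FibreDim.localDim_eq_of_isOpenEmbedding e.isOpenEmbedding x₀]

end Groth.Agent.S10445
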