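import Groth.Statements.S10500
import Groth.Agent.SpLimit.GenericFinite

set_option autoImplicit false
set_option backward.isDefEq.respectTransparency false
set_option backward.isDefEq.respectTransparency.types false
universe u
open CategoryTheory CategoryTheory.Limits AlgebraicGeometry Topology TopologicalSpace
open AlgSp

namespace Groth.Agent.S10500

/-- Let X and Y be integral algebraic spaces over a scheme S with generic points x and y, and f : X ⟶ Y
a morphism which is proper and dominant. Then f is an alteration (finite over some nonempty open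
subspace of Y) if and only if x is the only point of X mapping to y. -/
theorem result {S : Scheme.{u}} {X Y : AlgSp.Space S}
    (hXi : AlgSp.IsIntegralSp X.obj) (hYi : AlgSp.IsIntegralSp Y.obj) (f : X ⟶ Y) (hp : AlgSp.IsProperMor f.hom)
    (hd : AlgSp.IsDominantMor f.hom)
    (x : AlgSp.Points X.obj) (hx : IsGenericPoint x (Set.univ : Set (AlgSp.Points X.obj)))
    (y : AlgSp.Points Y.obj) (hy : IsGenericPoint y (Set.univ : Set (AlgSp.Points Y.obj))) :
    (∃ (V : AlgSp.Space S) (j : V ⟶ Y), AlgSp.RepWith @IsOpenImmersion j.hom ∧ Nonempty (AlgSp.Points V.obj) ∧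
      ∀ (P : AlgSp.Space S) (fst : P ⟶ V) (snd : P ⟶ X), IsPullback fst.hom snd.hom j.hom f.hom →
        AlgSp.IsFiniteMor fst.hom) ↔ (∀ x' : AlgSp.Points X.obj, AlgSp.Points.map f.hom x' = y → x' = x) := by
  have hft := hp.2.1.1
  have hfx := Groth.SpLimit.GenericFinite.map_generic hYi hx hy hd
  have key := Groth.SpLimit.GenericFinite.qfAt_iff_unique hXi hYi hx hy hft hd
  constructor
  · rintro ⟨V, j, hj, ⟨v⟩, hfin⟩
    obtain ⟨P, fst, snd, sq, hP⟩ : ∃ (P : AlgSp.Sp S) (fst : P ⟶ V.obj) (snd : P ⟶ X.obj),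
        IsPullback fst snd j.hom f.hom ∧ AlgSp.IsAlgSpace P :=
      ⟨_, pullback.fst _ _, pullback.snd _ _, IsPullback.of_hasPullback _ _,
        Groth.AlgSpBasic.isAlgSpace_of_isPullback (IsPullback.of_hasPullback j.hom f.hom)
          Y.property.diag V.property X.property⟩
    refine key.1 (Groth.SpLimit.GenericFinite.qfAt_of_finiteMor hj hP sq
      (hfin ⟨P, hP⟩ (ObjectProperty.homMk fst) (ObjectProperty.homMk snd) sq) x ?_)
    rw [hfx]
    refine Groth.SpLimit.GenericFinite.generic_mem_of_nonempty hy ?_ ⟨_, v, rfl⟩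
    obtain ⟨W, w, hw, hws⟩ := V.property.atlas
    have : Set.range (AlgSp.Points.map j.hom) = Set.range (AlgSp.Points.ofPt (w ≫ j.hom)) := by
      refine Set.Subset.antisymm ?_ ?_
      · rintro _ ⟨z, rfl⟩
        obtain ⟨t, rfl⟩ := Groth.AlgSpBasic.surjective_ofPt_of_repWith hws z
        exact ⟨t, (AlgSp.Points.map_ofPt _ _ _).symm⟩
      · rintro _ ⟨t, rfl⟩
        exact ⟨AlgSp.Points.ofPt w t, AlgSp.Points.map_ofPt _ _ _⟩
    rw [this]
    exact (Groth.AlgSpBasic.isOpenMap_ofPt_of_etale (Groth.AlgSpBasic.repWith_comp hw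
      (Groth.AlgSpBasic.repWith_mono (fun _ _ g (_ : IsOpenImmersion g) => (inferInstance : Etale g)) hj))).isOpen_range
  · intro h
    obtain ⟨V, j, hj, ⟨v, hv⟩, hfin⟩ := Groth.AlgSp2.QfCodim.exists_finite_nhd f y hp fun x' hx' => by
      rw [h x' hx']
      exact key.2 h
    exact ⟨V, j, hj, ⟨v⟩, hfin⟩

end Groth.Agent.S10500
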