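import Groth.Statements.S10458
import Groth.Agent.S10500
import Groth.Agent.S10277
import Groth.Agent.AlgSp3.RedInduced
import Groth.Agent.AlgSp2.Decency
import Groth.Agent.AlgSpBasic.SplitProperPart
import Groth.Agent.AlgStBasic.SpaceProps
import Groth.Agent.AlgSpBasic.FibreSpace
import Groth.Agent.AlgSpBasic.QComp
import Groth.Agent.AlgSpBasic.DecentSober

set_option autoImplicit false
universe u
open CategoryTheory CategoryTheory.Limits AlgebraicGeometry Topology TopologicalSpace
open AlgSp Groth.AlgSpBasic Groth.AlgStBasic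

namespace Groth.Agent.S10458

/-- Suppose f : X ⟶ Y is a morphism of algebraic spaces over a scheme S that is proper and surjective,
with Y integral. Then there is an integral closed subspace X' of X such that the restriction X' ⟶ Y
is an alteration: proper and dominant with X' integral, and finite over some nonempty open subspace
of Y. -/
theorem result {S : Scheme.{u}} {X Y : AlgSp.Space S} (f : X ⟶ Y)
    (hf : AlgSp.IsProperMor f.hom) (hs : AlgSp.IsSurjectiveMor f.hom) (hY : AlgSp.IsIntegralSp Y.obj) :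
    ∃ (X' : AlgSp.Space S) (i : X' ⟶ X), AlgSp.RepWith @IsClosedImmersion i.hom ∧ AlgSp.IsIntegralSp X'.obj ∧
      AlgSp.IsProperMor (i ≫ f).hom ∧ AlgSp.IsDominantMor (i ≫ f).hom ∧
      ∃ (V : AlgSp.Space S) (j : V ⟶ Y), AlgSp.RepWith @IsOpenImmersion j.hom ∧ Nonempty (AlgSp.Points V.obj) ∧
        ∀ (P : AlgSp.Space S) (fst : P ⟶ V) (snd : P ⟶ X'), IsPullback fst.hom snd.hom j.hom (i ≫ f).hom →
          AlgSp.IsFiniteMor fst.hom := by
  have hYd := hY.2.1
  haveI := hY.2.2
  haveI := quasiSober_of_isDecent Y.property hYd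
  haveI := t0Space_of_isDecent Y.property hYd
  let η : AlgSp.Points Y.obj := genericPoint (AlgSp.Points Y.obj)
  have hη : IsGenericPoint η (Set.univ : Set (AlgSp.Points Y.obj)) := genericPoint_spec _
  have hXd : AlgSp.IsDecent X.obj := Groth.AlgSp2.isDecent_of_isDecentMor
    (Groth.AlgSp2.isDecentMor_of_qs X.property Y.property (qs_of_sep hf.1)) hYd
  haveI := t0Space_of_isDecent X.property hXd
  -- a closed point of the generic fibre
  obtain ⟨r, hr⟩ : ∃ r : AlgSp.FieldPt Y.obj, AlgSp.Points.mk r = η := ⟨_, (hYd η).choose_spec.1⟩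
  have sqk := IsPullback.of_hasPullback f.hom r.toHom
  haveI : CompactSpace (AlgSp.Points (pullback f.hom r.toHom)) := by
    refine (isQuasiCompactSp_iff_compactSpace (isAlgSpace_of_isPullback sqk Y.property.diag
      X.property (IsAlgSpace.yon_obj _))).1 (hf.2.1.2 (IsAlgSpace.yon_obj _) ?_ _ _ _ sqk)
    exact (isQuasiCompactSp_yon_iff _).2 (inferInstanceAs (CompactSpace ↥(Spec (CommRingCat.of r.K))))
  have hF : IsCompact (AlgSp.Points.map f.hom ⁻¹' {η}) := by
    rw [← hr, ← range_map_fibre r sqk]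
    exact isCompact_range (AlgSp.Points.continuous_map _)
  haveI := isCompact_iff_compactSpace.1 hF
  haveI : Nonempty ↥(AlgSp.Points.map f.hom ⁻¹' {η}) := by
    obtain ⟨x, hx⟩ := hs η
    exact ⟨⟨x, hx⟩⟩
  obtain ⟨⟨x', hx'⟩, -, hx'c⟩ := IsClosed.exists_closed_singleton
    (isClosed_univ (X := ↥(AlgSp.Points.map f.hom ⁻¹' {η}))) Set.univ_nonempty
  -- the closed subspace
  obtain ⟨Z₀, i₀, hZ₀, hi₀⟩ := Groth.AlgSp3.exists_isRedInduced X.property
    (isClosed_closure (s := ({x'} : Set (AlgSp.Points X.obj))))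
  let Z : AlgSp.Space S := ⟨Z₀, hZ₀⟩
  let i : Z ⟶ X := ObjectProperty.homMk i₀
  have hci : AlgSp.RepWith @IsClosedImmersion i.hom := hi₀.1
  have hrange : Set.range (AlgSp.Points.map i.hom) = closure {x'} := hi₀.2.1
  have he := (isEmbedding_map_of_immersion X.property (repWith_mono
      (fun _ _ l (_ : IsClosedImmersion l) => (inferInstance : IsImmersion l)) hci)).1
  have hZd : AlgSp.IsDecent Z.obj := Groth.AlgSp2.isDecent_of_representable hci.1 hXd
  obtain ⟨z, hz⟩ : x' ∈ Set.range (AlgSp.Points.map i.hom) := hrange ▸ subset_closure rfl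
  have hzg : IsGenericPoint z (Set.univ : Set (AlgSp.Points Z.obj)) := by
    refine Set.eq_univ_of_forall fun w => ?_
    rw [he.toIsInducing.closure_eq_preimage_closure_image, Set.image_singleton, hz, Set.mem_preimage,
      ← hrange]
    exact ⟨w, rfl⟩
  have hZi : AlgSp.IsIntegralSp Z.obj := by
    refine ⟨hi₀.2.2, hZd, ?_⟩
    have := (isIrreducible_singleton (x := z)).closure
    rw [show closure {z} = Set.univ from hzg] at this
    exact { isPreirreducible_univ := this.2, toNonempty := ⟨z⟩ }
  have hp : AlgSp.IsProperMor (i ≫ f).hom := SplitProperPart.isProperMor_comp Z.property X.property Y.property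
    (Groth.Agent.S10277.result i hci) hf
  have hzη : AlgSp.Points.map (i ≫ f).hom z = η := by
    change AlgSp.Points.map (i.hom ≫ f.hom) z = η
    rw [AlgSp.Points.map_comp, hz]
    exact hx'
  have hd : AlgSp.IsDominantMor (i ≫ f).hom := fun y => by
    have h1 : ({η} : Set (AlgSp.Points Y.obj)) ⊆ Set.range (AlgSp.Points.map (i ≫ f).hom) :=
      Set.singleton_subset_iff.2 ⟨z, hzη⟩
    exact closure_mono h1 (show y ∈ closure {η} by rw [show closure {η} = Set.univ from hη]; trivial)
  refine ⟨Z, i, hci, hZi, hp, hd, (Groth.Agent.S10500.result hZi hY (i ≫ f) hp hd z hzg η hη).2 ?_⟩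
  intro w hw
  have hw' : AlgSp.Points.map i.hom w ∈ AlgSp.Points.map f.hom ⁻¹' {η} := by
    show AlgSp.Points.map f.hom (AlgSp.Points.map i.hom w) = η
    rw [← AlgSp.Points.map_comp]
    exact hw
  refine he.injective (hz ▸ ?_)
  have hsp : (⟨x', hx'⟩ : ↥(AlgSp.Points.map f.hom ⁻¹' {η})) ⤳ ⟨_, hw'⟩ := by
    rw [Topology.IsInducing.subtypeVal.specializes_iff.symm]
    refine specializes_iff_mem_closure.2 ?_
    rw [← hrange]
    exact ⟨w, rfl⟩
  have := specializes_iff_mem_closure.1 hsp
  rw [hx'c.closure_eq, Set.mem_singleton_iff] at this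
  exact congrArg Subtype.val this

end Groth.Agent.S10458
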