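import Groth.Agent.LocCohZBase.GammaZQCoh
import Groth.Agent.Misc4.QCohRpushD
import Groth.Agent.Misc4.QCohDPerf
import Groth.Agent.CohTwo.CohInduction
import Groth.Agent.KTheory.RPlusBase

set_option autoImplicit false
universe u
open CategoryTheory CategoryTheory.Limits AlgebraicGeometry
attribute [local instance] HasDerivedCategory.standard
namespace Perf
end Perf
open Perf

namespace Groth.Agent.S1046

variable {X : Scheme.{u}} {U : X.Opens}

/-- The unit of restriction to `U`. -/
noncomputable abbrev eta (U : X.Opens) := (Scheme.Modules.restrictAdjunction (Scheme.Opens.ι U)).unit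

/-- Sections with support inside a complex. -/
noncomputable def incl (K : CochainComplex X.Modules ℤ) :
    ((DCoh.gammaZ U.ι).mapHomologicalComplex (ComplexShape.up ℤ)).obj K ⟶ K where
  f i := kernel.ι _
  comm' i k _ := (kernel.lift_ι _ _ _).symm

/-- Restriction inside a complex. -/
noncomputable def unitCx (K : CochainComplex X.Modules ℤ) :
    K ⟶ ((Groth.LocCohZBase.pushRestr U.ι).mapHomologicalComplex (ComplexShape.up ℤ)).obj K where
  f i := (eta U).app (K.X i)
  comm' i k _ := ((eta U).naturality (K.d i k)).symm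

lemma subsingleton_stalk_gammaZ (M : X.Modules) (x : X) (hx : x ∈ U) :
    x ∉ CohB1.support ((DCoh.gammaZ U.ι).obj M) := by
  rw [Groth.CohTwo.notMem_support_iff]
  refine subsingleton_of_forall_eq 0 fun t => ?_
  obtain ⟨W, hW, s, rfl⟩ := Groth.CohTwo.stalk_exists_germ ((DCoh.gammaZ U.ι).obj M) x t
  have h : ∀ s : Γ(kernel ((eta U).app M), W),
      Groth.CohTwo.res (kernel ((eta U).app M)) (inf_le_left : W ⊓ U ≤ W) s = 0 := by
    intro s
    refine Groth.CohTwo.app_injective (kernel.ι ((eta U).app M)) _ (Eq.trans ?_ (map_zero _).symm)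
    have h1 : ((eta U).app M).app W ((kernel.ι ((eta U).app M)).app W s) = 0 :=
      congr(($(kernel.condition ((eta U).app M))).app W s)
    have hle : W ⊓ U ≤ U.ι ''ᵁ (U.ι ⁻¹ᵁ W) := by
      rw [Scheme.Hom.image_preimage_eq_opensRange_inf, Scheme.Opens.opensRange_ι, inf_comm]
    have h2 := congrArg (Groth.CohTwo.res M hle) h1
    replace h2 := h2.trans (map_zero _)
    rw [Groth.CohTwo.app_res]
    refine Eq.trans ?_ h2
    exact (Groth.CohTwo.res_res M hle (U.ι.image_preimage_le W) _).symm
  exact (Groth.CohTwo.stalk_germ_res _ x (inf_le_left : W ⊓ U ≤ W) ⟨hW, hx⟩ s).symm.trans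
    ((congrArg _ (h s)).trans (map_zero _))

lemma isQCoh_homology_pushRestr [QuasiCompact U.ι] (I : CochainComplex X.Modules ℤ) (n : ℤ)
    [I.IsStrictlyGE n] (hI : ∀ i, Injective (I.X i)) (hq : DCoh.IsQCohD (DerivedCategory.Q.obj I))
    (i : ℤ) : ((((Groth.LocCohZBase.pushRestr U.ι).mapHomologicalComplex
      (ComplexShape.up ℤ)).obj I).homology i).IsQuasicoherent := by
  let I' : CochainComplex (U : Scheme.{u}).Modules ℤ := ((Scheme.Modules.restrictFunctor U.ι).mapHomologicalComplex (ComplexShape.up ℤ)).obj I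
  haveI : ∀ k, Injective (I'.X k) := fun k =>
    haveI := hI k
    Groth.CohTwo.injective_restrict U.ι (I.X k)
  haveI : I'.IsStrictlyGE n := by
    rw [CochainComplex.isStrictlyGE_iff]
    exact fun k hk => (Scheme.Modules.restrictFunctor U.ι).map_isZero (I.isZero_of_isStrictlyGE n k hk)
  haveI : I'.IsKInjective := CochainComplex.isKInjective_of_injective _ n
  haveI := Groth.LocCohZBase.preservesHomology_restrictFunctor U.ι
  have hI' : DCoh.IsQCohD (DerivedCategory.Q.obj I') := fun k => by
    haveI : (I.homology k).IsQuasicoherent :=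
      (Groth.QCohMod.isQCoh_iff_of_iso ((DerivedCategory.homologyFunctorFactors _ k).app I)).1 (hq k)
    exact (Groth.QCohMod.isQCoh_iff_of_iso (((DerivedCategory.homologyFunctorFactors _ k).app I') ≪≫
      (I.sc k).mapHomologyIso (Scheme.Modules.restrictFunctor U.ι))).2
      (Scheme.Modules.isQuasicoherent_restrictFunctor U.ι (I.homology k))
  haveI : DCoh.HasRpush U.ι := Groth.Misc4.PushRestrict.hasRightDerived _
  haveI : ((Scheme.Modules.pushforward U.ι).mapHomotopyCategory (ComplexShape.up ℤ) ⋙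
      DerivedCategory.Qh (C := X.Modules)).HasRightDerivedFunctor
        (HomotopyCategory.quasiIso (U : Scheme.{u}).Modules (ComplexShape.up ℤ)) :=
    (inferInstance : DCoh.HasRpush U.ι)
  have hu := Groth.Misc4.PushRestrict.isIso_unit_app (B := X.Modules) (Scheme.Modules.pushforward U.ι) I'
  let e : DerivedCategory.Q.obj (((Scheme.Modules.pushforward U.ι).mapHomologicalComplex
        (ComplexShape.up ℤ)).obj I') ≅ (DCoh.Rpush U.ι).obj (DerivedCategory.Q.obj I') :=
    ((DerivedCategory.quotientCompQhIso _).app _).symm ≪≫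
      @asIso _ _ _ _ _ hu ≪≫
      (DCoh.Rpush U.ι).mapIso ((DerivedCategory.quotientCompQhIso _).app I')
  exact (Groth.QCohMod.isQCoh_iff_of_iso ((DerivedCategory.homologyFunctorFactors _ i).app _)).1
    (Groth.Misc4.QCohDPerf.isQCohD_of_iso e.symm (Groth.Misc4.QCohRpushD.isQCohD U.ι _ hI') i)

/-- Let U ⊆ X be an open subscheme with quasi-compact inclusion and T = X ∖ U. Assuming O_X-modules have
enough injectives (true, not recorded), for every bounded below E ∈ D(O_X) with quasi-coherent
cohomology sheaves, the derived sections with support RΓ_T(E) (right derived functor of F ↦ ker(F →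
j_*(F|_U))) has quasi-coherent cohomology sheaves, all supported on T. -/
theorem result (X : Scheme.{u}) (U : X.Opens) [QuasiCompact U.ι] [EnoughInjectives X.Modules]
    (E : DerivedCategory.Plus X.Modules) (hE : DCoh.IsQCohD E.obj) :
    DCoh.IsQCohD ((DCoh.RgammaZPlus U.ι).obj E).obj ∧
    ∀ i : ℤ, CohB1.support (DCoh.HD ((DCoh.RgammaZPlus U.ι).obj E).obj i) ⊆ (U : Set X)ᶜ := by
  obtain ⟨n, hn⟩ := E.property
  haveI : E.IsGE n := (DerivedCategory.Plus.isGE_ι_obj_iff E n).1 hn
  obtain ⟨L, hL, ⟨e⟩⟩ := DerivedCategory.Plus.exists_injective_nonempty_iso E n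
  let I := (InjectiveObject.ι X.Modules).mapCochainComplexPlus.obj L
  have hge : I.obj.IsStrictlyGE n :=
    (CochainComplex.isStrictlyGE_mapHomologicalComplex_obj_iff _ _ _).2 hL
  have hI : ∀ k, Injective (I.obj.X k) := fun k => (L.obj.X k).property
  haveI := Groth.Agent.RPlusBase.isIso_unit_of_injective (DCoh.gammaZ U.ι) I hI
  let Γ := ((DCoh.gammaZ U.ι).mapHomologicalComplex (ComplexShape.up ℤ)).obj I.obj
  let ε : DerivedCategory.Plus.ι.obj ((DCoh.RgammaZPlus U.ι).obj E) ≅ DerivedCategory.Q.obj Γ :=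
    DerivedCategory.Plus.ι.mapIso ((DCoh.RgammaZPlus U.ι).mapIso e.symm ≪≫
      (asIso ((DCoh.gammaZ U.ι).rightDerivedFunctorPlusUnit.app
        ((HomotopyCategory.Plus.quotient X.Modules).obj I))).symm) ≪≫
      (DerivedCategory.quotientCompQhIso X.Modules).app _
  let εi : ∀ i, DCoh.HD ((DCoh.RgammaZPlus U.ι).obj E).obj i ≅ Γ.homology i := fun i =>
    (DerivedCategory.homologyFunctor _ i).mapIso ε ≪≫ (DerivedCategory.homologyFunctorFactors _ i).app Γ
  let eI : DerivedCategory.Q.obj I.obj ≅ E.obj :=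
    ((DerivedCategory.quotientCompQhIso X.Modules).app I.obj).symm ≪≫ DerivedCategory.Plus.ι.mapIso e
  have hQI : DCoh.IsQCohD (DerivedCategory.Q.obj I.obj) :=
    Groth.Misc4.QCohDPerf.isQCohD_of_iso eI.symm hE
  let P := fun M : X.Modules => M.IsQuasicoherent
  have hP : Groth.CohTwo.ComposeCoh.Closed P := Groth.LocCohZBase.closed_isQuasicoherent
  let S : ShortComplex (CochainComplex X.Modules ℤ) :=
    ShortComplex.mk (incl (U := U) I.obj) (unitCx I.obj) (HomologicalComplex.hom_ext _ _ fun i =>
      kernel.condition ((eta U).app (I.obj.X i)))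
  have hS : S.ShortExact := HomologicalComplex.shortExact_of_degreewise_shortExact _ fun i =>
    { exact := ShortComplex.exact_of_f_is_kernel _ (kernelIsKernel ((eta U).app (I.obj.X i)))
      mono_f := inferInstanceAs (Mono (kernel.ι ((eta U).app (I.obj.X i))))
      epi_g := @Groth.LocCohZBase.epi_unit_of_injective _ _ U.ι _ (I.obj.X i) (hI i) }
  have h₂ : ∀ i, P (S.X₂.homology i) := fun i =>
    hP.iso ((DerivedCategory.homologyFunctorFactors _ i).app I.obj) (hQI i)
  have h₃ : ∀ i, P (S.X₃.homology i) := fun i => isQCoh_homology_pushRestr I.obj n hI hQI i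
  refine ⟨fun i => ?_, fun i x hx hxU => ?_⟩
  · refine hP.iso (εi i).symm ?_
    show P (S.X₁.homology i)
    exact Groth.CohTwo.ComposeCoh.five hP (HomologicalComplex.homologyMap S.g (i - 1))
      (hS.δ (i - 1) i (by simp)) (HomologicalComplex.homologyMap S.f i) (HomologicalComplex.homologyMap S.g i)
      (hS.homology_exact₃ (i - 1) i (by simp)) (hS.homology_exact₁ (i - 1) i (by simp)) (hS.homology_exact₂ i)
      (h₂ (i - 1)) (h₃ (i - 1)) (h₂ i) (h₃ i)
  · refine subsingleton_stalk_gammaZ (I.obj.X i) x hxU (?_ : x ∈ CohB1.support (Γ.X i))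
    exact Groth.CohTwo.support_subset_of_mono (Γ.iCycles i)
      (Groth.CohTwo.support_subset_of_epi (Γ.homologyπ i)
        (Groth.CohTwo.support_subset_of_mono (εi i).hom hx))

end Groth.Agent.S1046
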