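import Groth.Statements.S10460
import Groth.Agent.S10459
import Groth.Agent.AlgSpBasic.DimDominant

set_option autoImplicit false
universe u
open CategoryTheory CategoryTheory.Limits AlgebraicGeometry Topology TopologicalSpace
open AlgSp Groth.AlgSpBasic

namespace Groth.Agent.S10460

/-- Let f : X ⟶ Y be a proper dominant morphism between integral algebraic spaces over a scheme S, with
Y locally Noetherian, and let r be the transcendence degree of the generic point of X over the
generic point of Y. Then dim X = dim Y + r. -/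
theorem result {S : Scheme.{u}} {X Y : AlgSp.Space S} (f : X ⟶ Y)
    (hY : AlgSp.IsLocNoethSp Y.obj) (hXi : AlgSp.IsIntegralSp X.obj) (hYi : AlgSp.IsIntegralSp Y.obj)
    (hd : AlgSp.IsDominantMor f.hom) (hp : AlgSp.IsProperMor f.hom)
    (x : AlgSp.Points X.obj) (hx : IsGenericPoint x (Set.univ : Set (AlgSp.Points X.obj))) (r : ℕ)
    (hr : AlgSp.HasAtMor (fun _ _ h u => Dual3.resTrdeg h u = (r : Cardinal.{u})) f.hom x) :
    AlgSp.dim X.obj = AlgSp.dim Y.obj + ((r : ℕ∞) : WithBot ℕ∞) := by
  refine le_antisymm (Groth.Agent.S10459.result f hY hXi hYi hd hp.2.1.1 x hx r hr) ?_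
  refine DimDominant.dim_add_le X.property Y.property hXi.2.1 hYi.2.1 hp.2.1.1 ?_ x (fun y => ?_) r hr
  · exact hp.2.2 Y.property (𝟙 _) (𝟙 _) f.hom (IsPullback.of_horiz_isIso ⟨by simp⟩)
  · refine specializes_iff_mem_closure.2 ?_
    have h : Set.range (AlgSp.Points.map f.hom) ⊆ closure {AlgSp.Points.map f.hom x} := by
      rintro _ ⟨z, rfl⟩
      exact specializes_iff_mem_closure.1 ((hx.specializes (Set.mem_univ z)).map (AlgSp.Points.continuous_map f.hom))
    exact closure_minimal h isClosed_closure (hd y)

end Groth.Agent.S10460
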