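import Groth.Statements.S1047
import Groth.Agent.PCohReflect.Main
import Groth.Agent.DAlg.Classes

set_option autoImplicit false
universe u
open CategoryTheory CategoryTheory.Limits
attribute [local instance] HasDerivedCategory.standard
open Perf

namespace Groth.Agent.S1047

open Groth.PCohPunctual

variable (R : Type u) [Ring R]

/-- Finite free modules over a ring. -/
private def ff : ObjectProperty (ModuleCat.{u} R) := fun X => Module.Finite R X ∧ Module.Free R X

/-- Finite projective modules over a ring. -/
private def fp : ObjectProperty (ModuleCat.{u} R) := fun X => Module.Finite R X ∧ Module.Projective R X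

private lemma prod_iso (X Y : ModuleCat.{u} R) : Nonempty ((X ⨯ Y) ≅ ModuleCat.of R (X × Y)) :=
  ⟨(biprod.isoProd X Y).symm ≪≫ ModuleCat.biprodIsoProd X Y⟩

private lemma isAdditiveSub_ff : IsAdditiveSub (ff R) where
  closedIso := ⟨fun {X Y} e h => haveI := h.1; haveI := h.2;
    ⟨Module.Finite.equiv e.toLinearEquiv, Module.Free.of_equiv e.toLinearEquiv⟩⟩
  zero X hX := haveI := ModuleCat.subsingleton_of_isZero hX; ⟨inferInstance, Module.Free.of_subsingleton R X⟩
  prod X Y hX hY := by
    obtain ⟨e⟩ := prod_iso R X Y
    have := hX.1; have := hX.2; have := hY.1; have := hY.2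
    exact ⟨Module.Finite.equiv e.toLinearEquiv.symm, Module.Free.of_equiv e.toLinearEquiv.symm⟩

private lemma isAdditiveSub_fp : IsAdditiveSub (fp R) where
  closedIso := ⟨fun {X Y} e h => haveI := h.1; haveI := h.2;
    ⟨Module.Finite.equiv e.toLinearEquiv, Module.Projective.of_equiv e.toLinearEquiv⟩⟩
  zero X hX := haveI := ModuleCat.subsingleton_of_isZero hX; haveI := Module.Free.of_subsingleton R X; ⟨inferInstance, Module.Projective.of_free⟩
  prod X Y hX hY := by
    obtain ⟨e⟩ := prod_iso R X Y
    have := hX.1; have := hX.2; have := hY.1; have := hY.2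
    exact ⟨Module.Finite.equiv e.toLinearEquiv.symm, Module.Projective.of_equiv e.toLinearEquiv.symm⟩

private lemma isLiftable_fp : IsLiftable (fp R) := fun E F u hu hF => by
  have := hF.2
  obtain ⟨s, hs⟩ := Module.projective_lifting_property u.hom LinearMap.id ((ModuleCat.epi_iff_surjective u).1 hu)
  exact ⟨⟨⟨ModuleCat.ofHom s, ModuleCat.hom_ext hs⟩⟩⟩

private lemma isStableKer_fp : IsStableKer (fp R) := fun E F u hu hE hF => by
  have := hE.1; have := hE.2; have := hF.2
  obtain ⟨s, hs'⟩ := Module.projective_lifting_property u.hom LinearMap.id ((ModuleCat.epi_iff_surjective u).1 hu)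
  let r : E →ₗ[R] LinearMap.ker u.hom := ((LinearMap.id : E →ₗ[R] E) - s ∘ₗ u.hom).codRestrict _ fun x => by
    have := LinearMap.congr_fun hs' (u x)
    simp only [LinearMap.mem_ker, LinearMap.sub_apply, LinearMap.id_apply, map_sub]
    rw [sub_eq_zero]
    exact this.symm
  have hr : r ∘ₗ (LinearMap.ker u.hom).subtype = LinearMap.id := LinearMap.ext fun x => Subtype.ext (by
    simp [r, show u.hom x.1 = 0 from x.2])
  refine (isAdditiveSub_fp R).of_iso (ModuleCat.kernelIsoKer u).symm ⟨?_, Module.Projective.of_split _ r hr⟩
  exact Module.Finite.of_surjective r fun x => ⟨x.1, LinearMap.congr_fun hr x⟩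

private lemma ft_iff (X : ModuleCat.{u} R) : PCoh.IsOfFiniteType (ff R) X ↔ Module.Finite R X := by
  constructor
  · rintro ⟨E, π, hE, hπ⟩
    have := hE.1
    exact Module.Finite.of_surjective π.hom ((ModuleCat.epi_iff_surjective π).1 hπ)
  · intro h
    obtain ⟨n, f, hf⟩ := Module.Finite.exists_fin' R X
    exact ⟨ModuleCat.of R (Fin n → R), ModuleCat.ofHom f,
      ⟨inferInstanceAs (Module.Finite R (Fin n → R)), inferInstanceAs (Module.Free R (Fin n → R))⟩,
      (ModuleCat.epi_iff_surjective _).2 hf⟩

private lemma isQuasiStable_ff : PCoh.IsQuasiStableUnderKernels (ff R) := fun K hex hb hP => by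
  obtain ⟨E, π, hE, hπ⟩ := quasiStable_of_stableKer (isAdditiveSub_fp R) (isStableKer_fp R) K hex hb
    fun i hi => ⟨(hP i hi).1, have := (hP i hi).2; inferInstance⟩
  have := hE.1
  exact (ft_iff R _).2 (Module.Finite.of_surjective π.hom ((ModuleCat.epi_iff_surjective π).1 hπ))

private lemma isQuasiLiftable_ff : PCoh.IsQuasiLiftable (ff R) :=
  quasiLiftable_of_liftable fun E F u hu hF =>
    isLiftable_fp R E F u hu ⟨hF.1, haveI := hF.2; Module.Projective.of_free⟩


/-- Let A be a commutative ring and R an A-algebra, not necessarily commutative, whose underlying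
A-module is finite free. Restriction of scalars being exact (carried as instance hypotheses), if an
object M of D(R) becomes pseudo-coherent in D(A) after restriction of scalars (isomorphic to a
bounded above complex of finite free A-modules), then M is represented by a bounded above complex of
finite free R-modules. (The source phrases this for right modules; we use left modules, which is the
same statement for the opposite algebra.) -/
theorem result (A : Type u) [CommRing A] (R : Type u) [Ring R] [Algebra A R]
    [Module.Finite A R] [Module.Free A R]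
    [PreservesFiniteLimits (ModuleCat.restrictScalars.{u} (algebraMap A R))] [PreservesFiniteColimits (ModuleCat.restrictScalars.{u} (algebraMap A R))]
    (M : DerivedCategory (ModuleCat.{u} R))
    (hM : DRing.IsPseudoCoherent' A (((ModuleCat.restrictScalars.{u} (algebraMap A R)).mapDerivedCategory).obj M)) :
    ∃ (F : CochainComplex (ModuleCat.{u} R) ℤ) (b : ℤ), (∀ i : ℤ, b < i → IsZero (F.X i)) ∧
      (∀ i : ℤ, Module.Finite R (F.X i) ∧ Module.Free R (F.X i)) ∧ Nonempty (DerivedCategory.Q.obj F ≅ M) := by
  have hPC : PCoh.IsPC (ff R) M := by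
    refine PCohReflect.isPC_of_map (ModuleCat.restrictScalars.{u} (algebraMap A R)) (isAdditiveSub_ff R)
      (isQuasiStable_ff R) (isQuasiLiftable_ff R) (DAlg.isAdditiveSub_finFree A)
      (DAlg.isQuasiStable_finFree A) (DAlg.isQuasiLiftable_finFree A) (fun X hX => ?_) (fun X hX => ?_)
      (fun X hX => ?_) (DAlg.isPseudoCoherent'_iff_isPC.1 hM)
    · letI : Module A X := Module.compHom X (algebraMap A R)
      haveI : IsScalarTower A R X := IsScalarTower.of_algebraMap_smul fun _ _ => rfl
      haveI := hX.1
      haveI := hX.2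
      exact ⟨Module.Finite.trans (R := A) R X, Module.Free.trans (R := A) (S := R) (M := X)⟩
    · letI : Module A X := Module.compHom X (algebraMap A R)
      haveI : IsScalarTower A R X := IsScalarTower.of_algebraMap_smul fun _ _ => rfl
      have h : Module.Finite A X := (DAlg.finite_iff_ft A _).1 hX
      exact (ft_iff R X).2 (Module.Finite.of_restrictScalars_finite A R X)
    · rw [ModuleCat.isZero_iff_subsingleton] at hX ⊢
      exact hX
  obtain ⟨E, ⟨⟨b, hb⟩, hE⟩, e⟩ := exists_resolution (isAdditiveSub_ff R) (isQuasiStable_ff R)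
    (isQuasiLiftable_ff R) hPC
  exact ⟨E, b, hb, hE, e⟩

end Groth.Agent.S1047
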