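import Groth.Statements.S10488
import Groth.Agent.SpLimit.GenericFinitePreimage

set_option autoImplicit false
set_option backward.isDefEq.respectTransparency false
set_option backward.isDefEq.respectTransparency.types false
universe u
open CategoryTheory CategoryTheory.Limits AlgebraicGeometry Topology TopologicalSpace
open AlgSp

namespace Groth.Agent.S10488

/-- (5) ⇔ (6): let f : X ⟶ Y be a dominant morphism locally of finite type between integral algebraic
spaces over a scheme S, with generic points x and y, and assume f separated or quasi-compact. Then x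
is the only point of X mapping to y if and only if there is a nonempty affine open V ⊂ Y such that
f⁻¹(V) ⟶ V is finite. -/
theorem result {S : Scheme.{u}} {X Y : AlgSp.Space S} (hXi : AlgSp.IsIntegralSp X.obj) (hYi : AlgSp.IsIntegralSp Y.obj)
    (f : X ⟶ Y) (hft : AlgSp.LocP @LocallyOfFiniteType f.hom) (hd : AlgSp.IsDominantMor f.hom)
    (x : AlgSp.Points X.obj) (hx : IsGenericPoint x (Set.univ : Set (AlgSp.Points X.obj)))
    (y : AlgSp.Points Y.obj) (hy : IsGenericPoint y (Set.univ : Set (AlgSp.Points Y.obj)))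
    (hsq : AlgSp.IsSeparatedMor f.hom ∨ AlgSp.IsQuasiCompactMor f.hom) :
    (∀ x' : AlgSp.Points X.obj, AlgSp.Points.map f.hom x' = y → x' = x) ↔
      ∃ (V : Over S) (b : (AlgSp.yon S).obj V ⟶ Y.obj) (U : Over S) (g : U ⟶ V) (a : (AlgSp.yon S).obj U ⟶ X.obj),
        IsAffine V.left ∧ Nonempty ↥V.left ∧ AlgSp.RepWith @IsOpenImmersion b ∧
          IsPullback a ((AlgSp.yon S).map g) f.hom b ∧ IsAffine U.left ∧ IsFinite g.left := by
  refine ⟨fun h => Groth.SpLimit.GenericFinite.exists_affine_open_finite_preimage hXi hYi hx hy hft hd h hsq, ?_⟩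
  rintro ⟨V, b, U, g, a, -, ⟨v⟩, hb, sq, -, hg⟩
  have ha : RepWith @IsOpenImmersion a :=
    Groth.AlgSpBasic.repWith_of_isPullback sq.flip hb
  obtain ⟨s, hs⟩ := Groth.SpLimit.GenericFinite.generic_mem_of_nonempty hy
    (Groth.AlgSpBasic.isOpenMap_ofPt_of_repWith (fun _ _ φ (_ : IsOpenImmersion φ) => φ.isOpenEmbedding.isOpenMap)
      hb).isOpen_range ⟨_, v, rfl⟩
  obtain ⟨w, hw, -⟩ := (Groth.AlgSpBasic.map_eq_ofPt_iff sq x s).1
    (by rw [Groth.SpLimit.GenericFinite.map_generic hYi hx hy hd, hs])
  refine (Groth.SpLimit.GenericFinite.qfAt_iff_unique hXi hYi hx hy hft hd).1 ?_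
  rw [← hw]
  exact Groth.SpLimit.GenericFinite.qfAt_of_finite (Groth.SpLimit.GenericFinite.repWith_etale_of_openImm ha)
    (Groth.SpLimit.GenericFinite.repWith_etale_of_openImm hb) sq.w w

end Groth.Agent.S10488
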