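import Groth.Statements.S10489
import Groth.Agent.AlgSpBasic.AlgSpace
import Groth.Agent.S1535
-- import your own Groth.Agent.* helpers here

set_option autoImplicit false
set_option backward.isDefEq.respectTransparency.types false
universe u
open CategoryTheory CategoryTheory.Limits AlgebraicGeometry Topology TopologicalSpace
open AlgSp

namespace Groth.Agent.S10489

/-- Let k be a field and X an algebraic space which is smooth over k. Then X is regular as an algebraic
space. -/
theorem result (k : Type u) [Field k] (X : AlgSp.Space (Spec (CommRingCat.of k))) (p : X.obj ⟶ (AlgSp.yon (Spec (CommRingCat.of k))).obj (Over.mk (𝟙 _))) (hp : AlgSp.LocP @Smooth p) :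
    AlgSp.EtaleLocally (fun U => IsLocallyNoetherian U ∧ ∀ u : ↥U, IsRegularLocalRing ↥(U.presheaf.stalk u)) X.obj := by
  obtain ⟨U, a, ha, hs⟩ := X.property.atlas
  let S : Scheme.{u} := Spec (CommRingCat.of k)
  let t : U ⟶ Over.mk (𝟙 S) := Over.homMk U.hom (Category.comp_id _)
  have h : Smooth U.hom := hp a (𝟙 _) t ha (AlgSp.repWith_id @Etale _)
    ((Over.mkIdTerminal.isTerminalObj (AlgSp.yon S) _).hom_ext _ _)
  refine ⟨U, a, ha, hs, LocallyOfFiniteType.isLocallyNoetherian U.hom, fun z => ?_⟩
  letI : U.left.Over S := ⟨U.hom⟩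
  haveI : Smooth (U.left ↘ S) := h
  exact Groth.Agent.S1535.result k U.left z

end Groth.Agent.S10489
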