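import Groth.Statements.S10490
import Groth.Agent.AlgSpBasic.AlgSpace
import Groth.Agent.AlgSpBasic.Points
import Groth.Agent.S1550
import Groth.Agent.VarietyBC.BC
-- import your own Groth.Agent.* helpers here

set_option autoImplicit false
set_option backward.isDefEq.respectTransparency.types false
universe u
open CategoryTheory CategoryTheory.Limits AlgebraicGeometry Topology TopologicalSpace
open AlgSp

namespace Groth.Agent.S10490

/-- Let k be a field and X an algebraic space smooth over k. Then the points of X which are images of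
morphisms Spec k' ⟶ X over k with k' a finite separable extension of k form a dense subset of |X|. -/
theorem result (k : Type u) [Field k] (X : AlgSp.Space (Spec (CommRingCat.of k))) (p : X.obj ⟶ (AlgSp.yon (Spec (CommRingCat.of k))).obj (Over.mk (𝟙 _))) (hp : AlgSp.LocP @Smooth p) :
    Dense {x : AlgSp.Points X.obj | ∃ (k' : Type u) (_ : Field k') (_ : Algebra k k'),
      Module.Finite k k' ∧ Algebra.IsSeparable k k' ∧
        ∃ v : X.obj.obj.obj (Opposite.op (Over.mk (Spec.map (CommRingCat.ofHom (algebraMap k k'))))),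
          AlgSp.Points.mk ⟨k', Spec.map (CommRingCat.ofHom (algebraMap k k')), v⟩ = x} := by
  obtain ⟨U, a, ha, hs⟩ := X.property.atlas
  let S : Scheme.{u} := Spec (CommRingCat.of k)
  let t : U ⟶ Over.mk (𝟙 S) := Over.homMk U.hom (Category.comp_id _)
  have h : Smooth U.hom := hp a (𝟙 _) t ha (AlgSp.repWith_id @Etale _)
    ((Over.mkIdTerminal.isTerminalObj (AlgSp.yon S) _).hom_ext _ _)
  letI : U.left.Over S := ⟨U.hom⟩
  haveI : Smooth (U.left ↘ S) := h
  have hd := Groth.Agent.S1550.result k U.left
  rw [dense_iff_inter_open]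
  intro O hO hne
  obtain ⟨y, hy⟩ := hne
  obtain ⟨z, rfl⟩ := Groth.AlgSpBasic.surjective_ofPt_of_repWith hs y
  obtain ⟨w, hw, -, hfin, hsep⟩ := hd.inter_open_nonempty (AlgSp.Points.ofPt a ⁻¹' O)
    (hO.preimage (AlgSp.Points.continuous_ofPt a)) ⟨z, hy⟩
  refine ⟨AlgSp.Points.ofPt a w, hw, ?_⟩
  letI := Curv2.resAlgebra k U.left w
  refine ⟨U.left.residueField w, inferInstance, inferInstance, hfin, hsep, ?_⟩
  have hstr : U.left.fromSpecResidueField w ≫ U.hom =
      Spec.map (CommRingCat.ofHom (algebraMap k (U.left.residueField w))) :=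
    Groth.VarietyBC.fromSpecResidueField_str (k := k) w
  have key : ∀ {K : Type u} [Field K] {s s' : Spec (CommRingCat.of K) ⟶ S}, s = s' →
      ∀ v : X.obj.obj.obj (Opposite.op (Over.mk s)),
        ∃ v' : X.obj.obj.obj (Opposite.op (Over.mk s')),
          AlgSp.Points.mk (⟨K, s', v'⟩ : AlgSp.FieldPt X.obj) = AlgSp.Points.mk ⟨K, s, v⟩ := by
    intro K _ s s' e v
    subst e
    exact ⟨v, rfl⟩
  exact key hstr (AlgSp.FieldPt.ofPt a w).val

end Groth.Agent.S10490
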