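import Groth.Statements.S10491
import Groth.Agent.AlgSpBasic.Points
-- import your own Groth.Agent.* helpers here

set_option autoImplicit false
set_option backward.isDefEq.respectTransparency.types false
universe u
open CategoryTheory CategoryTheory.Limits AlgebraicGeometry Topology TopologicalSpace
open AlgSp

namespace Groth.Agent.S10491

/-- Let X be an algebraic space over a scheme S which is locally Noetherian, and T ⊂ |X| a closed
subset. Then every point of |X| has a neighbourhood meeting only finitely many irreducible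
components of T. -/
theorem result {S : Scheme.{u}} (X : AlgSp.Space S)
    (hX : AlgSp.IsLocNoethSp X.obj) (T : Set (AlgSp.Points X.obj)) (hT : IsClosed T) :
    LocallyFinite (fun Z : ↥(irreducibleComponents ↥T) => ((↑) : ↥T → AlgSp.Points X.obj) '' (Z : Set ↥T)) := by
  obtain ⟨U, a, ha, hs, hU⟩ := hX
  intro x
  obtain ⟨z, rfl⟩ := Groth.AlgSpBasic.surjective_ofPt_of_repWith hs x
  have := hU
  obtain ⟨_, ⟨V, hV, rfl⟩, hzV, -⟩ :=
    U.left.isBasis_affineOpens.exists_subset_of_mem_open (Set.mem_univ z) isOpen_univ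
  have hN : TopologicalSpace.NoetherianSpace ↥V :=
    @AlgebraicGeometry.noetherianSpace_of_isAffineOpen _ V hV
      (IsLocallyNoetherian.component_noetherian ⟨V, hV⟩)
  have hO : IsOpen (AlgSp.Points.ofPt a '' (V : Set ↥U.left)) :=
    Groth.AlgSpBasic.isOpenMap_ofPt_of_etale ha _ V.2
  refine ⟨_, hO.mem_nhds ⟨z, hzV, rfl⟩, ?_⟩
  let A : Set ↥T := (↑) ⁻¹' (AlgSp.Points.ofPt a '' (V : Set ↥U.left))
  have hA : IsOpen A := hO.preimage continuous_subtype_val
  have hN' : TopologicalSpace.NoetherianSpace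
      ↥(AlgSp.Points.ofPt a '' (V : Set ↥U.left)) := by
    refine @TopologicalSpace.noetherianSpace_of_surjective _ _ _ _ hN
      (fun v : ↥V => ⟨AlgSp.Points.ofPt a v.1, ⟨v.1, v.2, rfl⟩⟩)
      (((AlgSp.Points.continuous_ofPt a).comp continuous_subtype_val).subtype_mk _) ?_
    rintro ⟨_, v, hv, rfl⟩
    exact ⟨⟨v, hv⟩, rfl⟩
  have hNA : TopologicalSpace.NoetherianSpace ↥A := by
    refine Topology.IsInducing.noetherianSpace (i := fun t : ↥A =>
      (⟨t.1.1, t.2⟩ : ↥(AlgSp.Points.ofPt a '' (V : Set ↥U.left)))) ?_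
    refine Topology.IsInducing.of_comp (g := Subtype.val) (by fun_prop) continuous_subtype_val ?_
    exact Topology.IsInducing.comp (g := (Subtype.val : ↥T → _)) (f := (Subtype.val : ↥A → _))
      Topology.IsInducing.subtypeVal Topology.IsInducing.subtypeVal
  have hfin := TopologicalSpace.NoetherianSpace.finite_irreducibleComponents (α := ↥A)
  refine ((hfin.image fun C => closure (((↑) : ↥A → ↥T) '' C)).preimage
    Subtype.val_injective.injOn).subset ?_
  rintro ⟨Z, hZ⟩ ⟨_, ⟨t, htZ, rfl⟩, ht⟩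
  obtain ⟨hZi, hmax⟩ := hZ
  have hne : (((↑) : ↥A → ↥T) ⁻¹' Z).Nonempty := ⟨⟨t, ht⟩, htZ⟩
  obtain ⟨C, hC, hsub⟩ := exists_mem_irreducibleComponents_subset_of_isIrreducible _
    ⟨hne, hZi.2.preimage hA.isOpenEmbedding_subtypeVal⟩
  have hle : Z ⊆ closure (((↑) : ↥A → ↥T) '' C) :=
    (subset_closure_inter_of_isPreirreducible_of_isOpen hZi.2 hA ⟨t, htZ, ht⟩).trans
      (closure_mono fun y hy => ⟨⟨y, hy.2⟩, hsub hy.1, rfl⟩)
  exact ⟨C, hC, le_antisymm (hmax ((hC.1.image _ continuous_subtype_val.continuousOn).closure) hle) hle⟩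

end Groth.Agent.S10491
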