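import Groth.Statements.S10492
import Groth.Agent.AlgSp2.NormalChart
-- import your own Groth.Agent.* helpers here

set_option autoImplicit false
set_option backward.isDefEq.respectTransparency.types false
universe u
open CategoryTheory CategoryTheory.Limits AlgebraicGeometry Topology TopologicalSpace
open AlgSp

namespace Groth.Agent.S10492

/-- Let X be a normal integral algebraic space over a scheme S. Each point x of X lies in the image of
some etale morphism U ⟶ X from an affine scheme U that is normal and integral. -/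
theorem result {S : Scheme.{u}} (X : AlgSp.Space S)
    (hXi : AlgSp.IsIntegralSp X.obj)
    (hXn : AlgSp.EtaleLocally (fun U => ∀ u : ↥U, IsDomain ↥(U.presheaf.stalk u) ∧
      IsIntegrallyClosed ↥(U.presheaf.stalk u)) X.obj)
    (x : AlgSp.Points X.obj) :
    ∃ (U : Over S) (a : (AlgSp.yon S).obj U ⟶ X.obj), AlgSp.RepWith @Etale a ∧ IsAffine U.left ∧
      IsIntegral U.left ∧ IsIntegrallyClosed ↥Γ(U.left, ⊤) ∧ x ∈ Set.range (AlgSp.Points.ofPt a) := by
  obtain ⟨U, a, ha, hs, hU⟩ := hXn
  obtain ⟨z, rfl⟩ := Groth.AlgSpBasic.surjective_ofPt_of_repWith hs x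
  obtain ⟨W, hzW, hWa, hWi, hWn⟩ := Groth.AlgSp2.NormalChart.exists_nhd hXi ha hU z
  let UW : Over S := Over.mk (W.ι ≫ U.hom)
  let j : UW ⟶ U := Over.homMk W.ι rfl
  refine ⟨UW, (AlgSp.yon S).map j ≫ a, Groth.AlgSpBasic.repWith_comp
    ((AlgSp.repWith_yon_map_iff _ j).2 (inferInstanceAs (Etale W.ι))) ha, hWa, hWi,
    IsIntegrallyClosed.of_equiv W.topIso.symm.commRingCatIsoToRingEquiv, ⟨(⟨z, hzW⟩ : ↥(W : Scheme.{u})), ?_⟩⟩
  exact Groth.AlgSpBasic.ofPt_comp_yon j a _

end Groth.Agent.S10492
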