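import Groth.Statements.S10496
import Groth.Agent.AlgSp3.RedInduced
import Groth.Agent.AlgSpBasic.Immersion
import Groth.Agent.AlgSp2.FieldPts
-- import your own Groth.Agent.* helpers here

set_option autoImplicit false
set_option backward.isDefEq.respectTransparency.types false
universe u
open CategoryTheory CategoryTheory.Limits AlgebraicGeometry Topology TopologicalSpace
open AlgSp

namespace Groth.Agent.S10496

/-- Let X be a decent algebraic space over a scheme S. For every irreducible closed subset T of |X|
there is an integral closed subspace Z of X with |Z| = T. -/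
theorem result {S : Scheme.{u}} (X : AlgSp.Space S)
    (hX : AlgSp.IsDecent X.obj) (T : Set (AlgSp.Points X.obj)) (hT : IsClosed T) (hTi : IsIrreducible T) :
    ∃ (Z : AlgSp.Space S) (i : Z ⟶ X), AlgSp.RepWith @IsClosedImmersion i.hom ∧ AlgSp.IsIntegralSp Z.obj ∧
      Set.range (AlgSp.Points.map i.hom) = T := by
  obtain ⟨Z, i, hZ, hi, hr, hred⟩ := Groth.AlgSp3.exists_isRedInduced X.property hT
  refine ⟨⟨Z, hZ⟩, ObjectProperty.homMk i, hi, ⟨hred, Groth.AlgSp2.isDecent_of_representable hi.rep hX, ?_⟩, hr⟩
  have hi' : AlgSp.RepWith @IsImmersion i := 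
    ⟨hi.rep, fun {U b} g fst snd sq => by
      have : IsClosedImmersion snd.left := hi.property g fst snd sq
      exact inferInstanceAs (IsImmersion snd.left)⟩
  have he := (Groth.AlgSpBasic.isEmbedding_map_of_immersion X.property hi').1
  have : IrreducibleSpace ↥T :=
    { toPreirreducibleSpace := Subtype.preirreducibleSpace hTi.2, toNonempty := hTi.1.to_subtype }
  have h₁ : IrreducibleSpace ↥(Set.range (AlgSp.Points.map i)) := hr ▸ this
  have hs : Function.Surjective he.toHomeomorph.symm := he.toHomeomorph.symm.surjective
  exact hs.irreducibleSpace he.toHomeomorph.symm.continuous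

end Groth.Agent.S10496
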