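import Groth.Statements.S10498
import Groth.Agent.Hensel1.Transfer
import Groth.Agent.Hensel1.Reduced
import Mathlib.RingTheory.LocalProperties.Reduced
import Mathlib.RingTheory.Localization.BaseChange

set_option autoImplicit false
universe u
open TensorProduct
open Hensel

namespace Groth.Agent.S10498

section
open Groth.Hensel1 Groth.Hensel1.Hens

theorem isReduced_hens_tensor {k : Type u} [Field k] {A : Type u} [CommRing A] [Algebra k A]
    {Ω : Type u} [Field Ω] [Algebra A Ω] [Algebra k (Hens A Ω)] [IsScalarTower k A (Hens A Ω)]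
    (K : Type u) [Field K] [Algebra k K] (h : IsReduced (A ⊗[k] K)) : IsReduced (Hens A Ω ⊗[k] K) := by
  let _ (i : HensIdx A Ω) : Algebra k i.P.Ring :=
    ((algebraMap A i.P.Ring).comp (algebraMap k A)).toAlgebra
  have (i : HensIdx A Ω) : IsScalarTower k A i.P.Ring := .of_algebraMap_eq fun _ => rfl
  have (i : HensIdx A Ω) : IsScalarTower k A i.Obj := IsScalarTower.of_algebraMap_eq
    (R := k) (S := A) (A := i.Obj) fun c => by
      rw [IsScalarTower.algebraMap_apply A i.P.Ring i.Obj,
        IsScalarTower.algebraMap_apply k i.P.Ring i.Obj]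
      rfl
  have hstage : ∀ x : Hens A Ω ⊗[k] K, ∃ (i : HensIdx A Ω) (y : i.Obj ⊗[k] K),
      Algebra.TensorProduct.map ((of i).restrictScalars k) (AlgHom.id k K) y = x := by
    intro x
    induction x with
    | zero => exact ⟨(exists_of (0 : Hens A Ω)).choose, 0, map_zero _⟩
    | tmul a c =>
      obtain ⟨i, y, rfl⟩ := exists_of a
      exact ⟨i, y ⊗ₜ c, rfl⟩
    | add x₁ x₂ h₁ h₂ =>
      obtain ⟨i, y, rfl⟩ := h₁
      obtain ⟨j, z, rfl⟩ := h₂
      obtain ⟨l, hil, hjl⟩ := exists_ge_ge i j
      refine ⟨l, Algebra.TensorProduct.map ((HensIdx.tr i l hil).restrictScalars k) (AlgHom.id k K) y +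
        Algebra.TensorProduct.map ((HensIdx.tr j l hjl).restrictScalars k) (AlgHom.id k K) z, ?_⟩
      rw [map_add]
      congr 1
      · rw [← AlgHom.comp_apply, ← Algebra.TensorProduct.map_comp]
        congr 2
        exact AlgHom.ext fun w => of_tr hil w
      · rw [← AlgHom.comp_apply, ← Algebra.TensorProduct.map_comp]
        congr 2
        exact AlgHom.ext fun w => of_tr hjl w
  refine ⟨fun x ⟨n, hn⟩ => ?_⟩
  obtain ⟨i, y, rfl⟩ := hstage x
  have hinj : Function.Injective
      (Algebra.TensorProduct.map ((of i).restrictScalars k) (AlgHom.id k K)) :=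
    Module.Flat.rTensor_preserves_injective_linearMap (M := K)
      ((of i).restrictScalars k).toLinearMap (injective_of i)
  have hP : IsReduced (i.P.Ring ⊗[k] K) := by
    have h1 : IsReduced ((A ⊗[k] K) ⊗[A] i.P.Ring) := by
      obtain ⟨P'⟩ : Nonempty (StandardEtalePresentation (A ⊗[k] K) ((A ⊗[k] K) ⊗[A] i.P.Ring)) :=
        Algebra.IsStandardEtale.nonempty_standardEtalePresentation
      have := isReduced_standardEtale P'.P
      exact isReduced_of_injective P'.equivRing P'.equivRing.injective
    let e₁ : (A ⊗[k] K) ⊗[A] i.P.Ring ≃ₐ[A] i.P.Ring ⊗[A] (A ⊗[k] K) :=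
      Algebra.TensorProduct.comm A (A ⊗[k] K) i.P.Ring
    let e₂ : i.P.Ring ⊗[A] (A ⊗[k] K) ≃ₐ[i.P.Ring] i.P.Ring ⊗[k] K :=
      Algebra.TensorProduct.cancelBaseChange k A i.P.Ring i.P.Ring K
    exact isReduced_of_injective (e₁.symm.toRingEquiv.toRingHom.comp e₂.symm.toRingEquiv.toRingHom)
      (e₁.symm.injective.comp e₂.symm.injective)
  let _ : Algebra (i.P.Ring ⊗[k] K) (i.Obj ⊗[k] K) :=
    (Algebra.TensorProduct.map (IsScalarTower.toAlgHom k i.P.Ring i.Obj) (AlgHom.id k K)).toRingHom.toAlgebra
  have : IsScalarTower i.P.Ring (i.P.Ring ⊗[k] K) (i.Obj ⊗[k] K) :=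
    .of_algebraMap_eq fun a => by simp [RingHom.algebraMap_toAlgebra]
  have : IsLocalization (Algebra.algebraMapSubmonoid (i.P.Ring ⊗[k] K) i.q.primeCompl) (i.Obj ⊗[k] K) :=
    IsLocalization.tensorProduct_tensorProduct k K i.q.primeCompl i.Obj
      (RingHom.ext fun a => by simp [RingHom.algebraMap_toAlgebra])
  have : IsReduced (i.Obj ⊗[k] K) :=
    isReduced_localizationPreserves (Algebra.algebraMapSubmonoid (i.P.Ring ⊗[k] K) i.q.primeCompl)
      (i.Obj ⊗[k] K) hP
  rw [← map_pow, map_eq_zero_iff _ hinj] at hn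
  rw [(IsNilpotent.eq_zero ⟨n, hn⟩ : y = 0), map_zero]

end

/-- (1) ⇔ (2): let k be a field, A a local k-algebra and R a strict henselization of A. Then A is
geometrically reduced over k (K ⊗_k A reduced for every field extension K of k) if and only if R is
geometrically reduced over k. -/
theorem result (k : Type u) [Field k]
    (A : Type u) [CommRing A] [IsLocalRing A] [Algebra k A]
    (R : Type u) [CommRing R] [IsLocalRing R] [Algebra A R] [IsLocalHom (algebraMap A R)]
    [Hensel.IsStrictHenselization A R] [Algebra k R] [IsScalarTower k A R] :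
    (∀ (K : Type u) [Field K] [Algebra k K], IsReduced (TensorProduct k K A)) ↔
      ∀ (K : Type u) [Field K] [Algebra k K], IsReduced (TensorProduct k K R) := by
  classical
  obtain ⟨M⟩ := Groth.Hensel1.hensModel_of_isStrictHenselization (R := A) (S := R)
  constructor
  · intro h K _ _
    let _ : Algebra k (Groth.Hensel1.Hens A M.Ω) :=
      ((algebraMap A (Groth.Hensel1.Hens A M.Ω)).comp (algebraMap k A)).toAlgebra
    have : IsScalarTower k A (Groth.Hensel1.Hens A M.Ω) := .of_algebraMap_eq fun _ => rfl
    let e : Groth.Hensel1.Hens A M.Ω ≃ₐ[k] R := M.equiv.restrictScalars k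
    suffices IsReduced (Groth.Hensel1.Hens A M.Ω ⊗[k] K) from
      isReduced_of_injective
        ((Algebra.TensorProduct.comm k K R).trans (Algebra.TensorProduct.congr e.symm AlgEquiv.refl))
        ((Algebra.TensorProduct.comm k K R).trans (Algebra.TensorProduct.congr e.symm AlgEquiv.refl)).injective
    refine isReduced_hens_tensor K ?_
    exact isReduced_of_injective (Algebra.TensorProduct.comm k A K)
      (Algebra.TensorProduct.comm k A K).injective
  · intro h K _ _
    have := M.faithfullyFlat
    have hi : Function.Injective (Algebra.TensorProduct.map (AlgHom.id K K) (IsScalarTower.toAlgHom k A R)) :=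
      Module.Flat.lTensor_preserves_injective_linearMap (M := K)
        (IsScalarTower.toAlgHom k A R).toLinearMap (FaithfulSMul.algebraMap_injective A R)
    exact isReduced_of_injective _ hi

end Groth.Agent.S10498
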