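import Groth.Statements.S10509
import Groth.Agent.S0412
import Groth.Agent.AlgSp2.ESBasic
import Groth.Agent.AlgSp2.FiniteImage
-- import your own Groth.Agent.* helpers here

set_option autoImplicit false
set_option backward.isDefEq.respectTransparency.types false
universe u
open CategoryTheory CategoryTheory.Limits AlgebraicGeometry
open AlgSp

namespace Groth.Agent.S10509

/-- A smooth covering of an algebraic space `X` over `S` by algebraic spaces can be refined by an etale
covering of `X` by algebraic spaces: there is an etale covering `{U_j ⟶ X}` each member of which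
factors through some member of the given smooth covering. -/
theorem result {S : Scheme.{u}} (X : AlgSp.Space S) {ι : Type u}
    (Xi : ι → AlgSp.Space S) (g : ∀ i, Xi i ⟶ X)
    (h : AlgSp.IsSmCover (fun i => (Xi i).obj) (fun i => (g i).hom)) :
    ∃ (κ : Type u) (U : κ → AlgSp.Space S) (c : ∀ j, U j ⟶ X),
      AlgSp.IsEtCover (fun j => (U j).obj) (fun j => (c j).hom) ∧
      ∀ j, ∃ (i : ι) (r : U j ⟶ Xi i), r ≫ g i = c j := by
  obtain ⟨V, b, hb, hbs⟩ := X.property.atlas
  have hex : ∀ v : ↥V.left, ∃ (T : Over S) (e : T ⟶ V) (t : ↥T.left) (i : ι)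
      (r : (AlgSp.yon S).obj T ⟶ (Xi i).obj), Etale e.left ∧ e.left t = v ∧
        r ≫ (g i).hom = (AlgSp.yon S).map e ≫ b := by
    intro v
    obtain ⟨i, y, hy⟩ := h.2 (AlgSp.Points.ofPt b v)
    have sq := IsPullback.of_hasPullback (g i).hom b
    have hP := Groth.AlgSpBasic.isAlgSpace_of_isPullback sq X.property.diag (Xi i).property
      (AlgSp.IsAlgSpace.yon_obj V)
    obtain ⟨w, hw₁, hw₂⟩ := Groth.AlgSpBasic.exists_point_of_isPullback sq (x := y)
      (y := AlgSp.Points.ofScheme V v) (by rw [hy, AlgSp.Points.map_ofPt, Category.id_comp])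
    obtain ⟨U₀, a, ha, has⟩ := hP.atlas
    obtain ⟨u, rfl⟩ := Groth.AlgSpBasic.surjective_ofPt_of_repWith has w
    obtain ⟨k, hk⟩ := (AlgSp.yon S).map_surjective (a ≫ pullback.snd (g i).hom b)
    have hsm : Smooth k.left := Groth.AlgSpBasic.locP_of_isPullback (Xi i).property X.property
      (AlgSp.IsAlgSpace.yon_obj V) sq (h.1 i) a (𝟙 _) k ha (AlgSp.repWith_id _ _)
      (by rw [hk, Category.comp_id])
    have hv : k.left u = v := by
      have e := hw₂
      rw [AlgSp.Points.map_ofPt, ← hk] at e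
      have e' := congrArg (AlgSp.Points.toScheme V) e
      rwa [AlgSp.Points.toScheme_ofPt, AlgSp.Points.toScheme_ofScheme] at e'
    obtain ⟨S', e, s', he, hs', l, hl⟩ := Groth.Agent.S0412.result k.left v ⟨u, hv⟩
    let T : Over S := Over.mk (e ≫ V.hom)
    let eO : T ⟶ V := Over.homMk e rfl
    let lO : T ⟶ U₀ := Over.homMk l (by
      show l ≫ U₀.hom = e ≫ V.hom
      rw [← Over.w k, ← Category.assoc, hl])
    refine ⟨T, eO, s', i, (AlgSp.yon S).map lO ≫ a ≫ pullback.fst (g i).hom b, he, hs', ?_⟩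
    have hlk : lO ≫ k = eO := Over.OverMorphism.ext hl
    simp only [Category.assoc]
    rw [pullback.condition, ← Category.assoc a, ← hk, ← Category.assoc, ← Functor.map_comp, hlk]
  choose T e t i r he ht hr using hex
  refine ⟨↥V.left, fun v => ⟨(AlgSp.yon S).obj (T v), AlgSp.IsAlgSpace.yon_obj _⟩,
    fun v => ObjectProperty.homMk ((AlgSp.yon S).map (e v) ≫ b),
    ⟨fun v => Groth.AlgSp2.isEtaleMor_chart X.property
      (Groth.AlgSpBasic.repWith_comp ((AlgSp.repWith_yon_map_iff _ _).2 (he v)) hb),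
      fun x => ?_⟩,
    fun v => ⟨i v, ObjectProperty.homMk (r v), ?_⟩⟩
  · obtain ⟨v, rfl⟩ := Groth.AlgSpBasic.surjective_ofPt_of_repWith hbs x
    refine ⟨v, AlgSp.Points.ofScheme (T v) (t v), ?_⟩
    show AlgSp.Points.map ((AlgSp.yon S).map (e v) ≫ b) _ = _
    rw [AlgSp.Points.map_ofPt, Category.id_comp, Groth.AlgSpBasic.ofPt_comp_yon, ht]
  · exact ObjectProperty.hom_ext _ (hr v)

end Groth.Agent.S10509
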