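import Groth.Statements.S1051
import Groth.Agent.KTheory.Postnikov

set_option autoImplicit false
universe v u
open CategoryTheory
open CohDer

namespace Groth.Agent.S1051
open CategoryTheory.Pretriangulated

open CategoryTheory.Pretriangulated in
/-- Let X be a chain complex in a triangulated category D and n a natural number; consider the finite
complex Xₙ → Xₙ₋₁ → … → X₀. If every morphism Xᵢ[i - j - 2] ⟶ Xⱼ with j + 2 < i ≤ n vanishes, then
there is a Postnikov system for it: objects Yₖ (k ≤ n), an isomorphism Y₀ ⟶ X₀, and for each k < n a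
distinguished triangle Yₖ₊₁ ⟶ Xₖ₊₁ ⟶ Yₖ ⟶ Yₖ₊₁[1] such that Xₖ₊₁ ⟶ Yₖ ⟶ Xₖ is the differential of X. -/
theorem result {D : Type u} [Category.{v} D] [Preadditive D] [Limits.HasZeroObject D] [HasShift D ℤ]
    [∀ n : ℤ, (shiftFunctor D n).Additive] [Pretriangulated D] [IsTriangulated D]
    (X : ChainComplex D ℕ) (n : ℕ)
    (hX : ∀ i j : ℕ, j + 2 < i → i ≤ n → ∀ φ : (shiftFunctor D ((i : ℤ) - j - 2)).obj (X.X i) ⟶ X.X j, φ = 0) :
    ∃ (Y : ℕ → D) (a : ∀ k, Y k ⟶ X.X k) (b : ∀ k, X.X (k + 1) ⟶ Y k) (c : ∀ k, Y k ⟶ (shiftFunctor D (1 : ℤ)).obj (Y (k + 1))),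
      IsIso (a 0) ∧ ∀ k, k < n → Triangle.mk (a (k + 1)) (b k) (c k) ∈ distinguishedTriangles ∧ b k ≫ a k = X.d (k + 1) k := by
  classical
  have stp : ∀ (k : ℕ) (Y : D) (a : Y ⟶ X.X k), ∃ b : X.X (k + 1) ⟶ Y,
      (∃ b' : X.X (k + 1) ⟶ Y, b' ≫ a = X.d (k + 1) k) → b ≫ a = X.d (k + 1) k := by
    intro k Y a
    by_cases h : ∃ b' : X.X (k + 1) ⟶ Y, b' ≫ a = X.d (k + 1) k
    · exact ⟨h.choose, fun _ => h.choose_spec⟩
    · exact ⟨0, fun h' => (h h').elim⟩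
  choose B hB using stp
  have tri : ∀ (k : ℕ) (Y : D) (a : Y ⟶ X.X k), ∃ (Y' : D) (a' : Y' ⟶ X.X (k + 1))
      (c : Y ⟶ Y'⟦(1 : ℤ)⟧), Triangle.mk a' (B k Y a) c ∈ distinguishedTriangles := fun k Y a =>
    Pretriangulated.distinguished_cocone_triangle₁ (B k Y a)
  choose Y' a' c' hT' using tri
  let S : ∀ k, Σ Y : D, (Y ⟶ X.X k) := fun k =>
    Nat.rec (motive := fun k => Σ Y : D, (Y ⟶ X.X k)) ⟨X.X 0, 𝟙 _⟩
      (fun k p => ⟨Y' k p.1 p.2, a' k p.1 p.2⟩) k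
  let Y : ℕ → D := fun k => (S k).1
  let a : ∀ k, Y k ⟶ X.X k := fun k => (S k).2
  let b : ∀ k, X.X (k + 1) ⟶ Y k := fun k => B k (Y k) (a k)
  let c : ∀ k, Y k ⟶ (Y (k + 1))⟦(1 : ℤ)⟧ := fun k => c' k (Y k) (a k)
  have hT : ∀ k, Triangle.mk (a (k + 1)) (b k) (c k) ∈ distinguishedTriangles :=
    fun k => hT' k (Y k) (a k)
  have ha : IsIso (a 0) := inferInstanceAs (IsIso (𝟙 (X.X 0)))
  refine ⟨Y, a, b, c, ha, fun k hk => ⟨hT k, ?_⟩⟩
  induction k using Nat.strong_induction_on with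
  | _ k ih =>
  refine hB k (Y k) (a k) ?_
  rcases k with _ | j
  · exact ⟨X.d 1 0 ≫ inv (a 0), by simp⟩
  · have h1 : (X.d (j + 1 + 1) (j + 1) ≫ b j) ≫ a j = 0 := by
      rw [Category.assoc, ih j (by omega) (by omega), X.d_comp_d]
    have h2 : X.d (j + 1 + 1) (j + 1) ≫ b j = 0 := by
      rcases j with _ | i
      · exact (cancel_mono (a 0)).1 (h1.trans Limits.zero_comp.symm)
      · obtain ⟨g, hg⟩ := Postnikov.exists_fac_c (n := i + 1) (fun k _ => hT k) i (by omega) _ h1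
        have hv : Postnikov.Vanish (X.X (i + 1 + 1 + 1)) (Y i) 1 :=
          Postnikov.vanish_to (n := i) ha (fun k _ => hT k) i le_rfl 1 fun l hl => by
            rw [show (1 : ℤ) + i - l = ((i + 1 + 1 + 1 : ℕ) : ℤ) - l - 2 by omega]
            exact hX (i + 1 + 1 + 1) l (by omega) (by omega)
        apply (shiftFunctor D (1 : ℤ)).map_injective
        rw [hg, hv g, Limits.zero_comp, Functor.map_zero]
    obtain ⟨b', hb'⟩ := Triangle.coyoneda_exact₂ _ (hT j) (X.d (j + 1 + 1) (j + 1)) h2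
    exact ⟨b', hb'.symm⟩

end Groth.Agent.S1051
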