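import Groth.Statements.S10563
import Groth.Agent.AlgSp2.FppfProps
import Groth.Agent.EtaleBase.EtaleStalk
import Groth.Agent.Ega4Algebra1.RegularLocal
-- import your own Groth.Agent.* helpers here

set_option autoImplicit false
universe u
open CategoryTheory CategoryTheory.Limits AlgebraicGeometry
open AlgSp

namespace Groth.Agent.S10563

/-- Let f : X ⟶ Y be a morphism of algebraic spaces over S which is locally of finite presentation, flat
and surjective. If X is regular (etale locally a locally Noetherian scheme all of whose local rings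
are regular local rings) then Y is regular. -/
theorem result {S : Scheme.{u}} {X Y : AlgSp.Space S} (f : X ⟶ Y)
    (hfp : AlgSp.LocP @LocallyOfFinitePresentation f.hom) (hfl : AlgSp.LocP @Flat f.hom)
    (hs : AlgSp.IsSurjectiveMor f.hom)
    (hX : AlgSp.EtaleLocally (fun U => IsLocallyNoetherian U ∧ ∀ u : ↥U, IsRegularLocalRing ↥(U.presheaf.stalk u)) X.obj) :
    AlgSp.EtaleLocally (fun U => IsLocallyNoetherian U ∧ ∀ u : ↥U, IsRegularLocalRing ↥(U.presheaf.stalk u)) Y.obj := by
  obtain ⟨U₀, φ, hφ, hφs, hU₀, hreg⟩ := hX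
  obtain ⟨V, b, hb, hbs⟩ := Y.property.atlas
  obtain ⟨U, u₁, u₂, he, ha, -, comm, hsurj⟩ :=
    Groth.AlgSp2.exists_chart_pair (f := f.hom) X.property Y.property hφ hφs hb hbs
  have : IsLocallyNoetherian U₀.left := hU₀
  have : IsLocallyNoetherian U.left := LocallyOfFiniteType.isLocallyNoetherian u₁.left
  have : Flat u₂.left := hfl _ b u₂ ha hb comm
  have : LocallyOfFinitePresentation u₂.left := hfp _ b u₂ ha hb comm
  have := hsurj hs
  have : IsLocallyNoetherian V.left := Groth.FlatMor2.isLocallyNoetherian_of_flat_surjective u₂.left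
  refine ⟨V, b, hb, hbs, inferInstance, fun v => ?_⟩
  obtain ⟨w, rfl⟩ := u₂.left.surjective v
  have : IsRegularLocalRing (U.left.presheaf.stalk w) :=
    (Groth.EtaleBase.isRegularLocalRing_stalk_iff u₁.left w).2 (hreg _)
  algebraize [(u₂.left.stalkMap w).hom]
  have : Module.Flat (V.left.presheaf.stalk (u₂.left w)) (U.left.presheaf.stalk w) :=
    Flat.stalkMap u₂.left w
  have : IsLocalHom (algebraMap (V.left.presheaf.stalk (u₂.left w)) (U.left.presheaf.stalk w)) :=
    inferInstanceAs (IsLocalHom (u₂.left.stalkMap w).hom)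
  exact Groth.Ega4Algebra1.isRegularLocalRing_of_flat _ (U.left.presheaf.stalk w)

end Groth.Agent.S10563
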