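import Groth.Statements.S10579
import Groth.Agent.Hensel1.CompletionBranches
import Groth.Agent.Hensel1.BranchOne
import Groth.Agent.AlgSp2.FppfProps
-- import your own Groth.Agent.* helpers here

set_option autoImplicit false
universe u
open CategoryTheory CategoryTheory.Limits AlgebraicGeometry
open AlgSp Groth.AlgSpBasic Groth.Hensel1

namespace Groth.Agent.S10579

open IsLocalRing in
/-- There is at least one geometric branch. -/
theorem one_le_numGeomBranches (A : Type u) [CommRing A] [IsLocalRing A] :
    1 ≤ Brnch.numGeomBranches A := by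
  let Ω := SeparableClosure (ResidueField A)
  have := isStrictHenselization_hens A Ω
  rw [← card_minimalPrimes_strictHenselization_eq_numGeomBranches A (Hens A Ω)]
  obtain ⟨P, hP, -⟩ := Ideal.exists_minimalPrimes_le (I := (⊥ : Ideal (Hens A Ω)))
    (J := maximalIdeal _) bot_le
  have : Nonempty (minimalPrimes (Hens A Ω)) := ⟨⟨P, hP⟩⟩
  exact (ENat.one_le_card_iff_nonempty _).mpr this

/-- Let f : X ⟶ Y be a morphism of algebraic spaces over S and x ∈ |X|. If X is geometrically unibranch
at x and f is flat at x, then Y is geometrically unibranch at the image point f(x). Here an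
algebraic space is geometrically unibranch at a point when for every etale chart from a scheme U and
every point u of U over it the local ring of U at u is geometrically unibranch. -/
theorem result {S : Scheme.{u}} {X Y : AlgSp.Space S} (f : X ⟶ Y) (x : AlgSp.Points X.obj)
    (hf : AlgSp.IsFlatAtMor f.hom x)
    (hX : ∀ (U : Over S) (a : (AlgSp.yon S).obj U ⟶ X.obj) (v : ↥U.left), AlgSp.RepWith @Etale a →
      AlgSp.Points.ofPt a v = x → CAlg2.IsGeomUnibranch ↥(U.left.presheaf.stalk v))
    (V : Over S) (b : (AlgSp.yon S).obj V ⟶ Y.obj) (w : ↥V.left) (hb : AlgSp.RepWith @Etale b)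
    (hw : AlgSp.Points.ofPt b w = AlgSp.Points.map f.hom x) :
    CAlg2.IsGeomUnibranch ↥(V.left.presheaf.stalk w) := by
  obtain ⟨U₀, φ, hφ, hφs⟩ := X.property.atlas
  obtain ⟨u₀, rfl⟩ := surjective_ofPt_of_repWith hφs x
  rw [Points.map_ofPt] at hw
  obtain ⟨U, u₁, u₂, hU⟩ := exists_pullback_of_diag Y.property.diag (φ ≫ f.hom) b
  obtain ⟨u, hu₁, hu₂⟩ := (ofPt_eq_ofPt_iff hU u₀ w).1 hw.symm
  have ha : RepWith @Etale ((yon S).map u₁ ≫ φ) := repWith_comp (repWith_of_isPullback hU.flip hb) hφ
  have hpt : Points.ofPt ((yon S).map u₁ ≫ φ) u = Points.ofPt φ u₀ := by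
    rw [← hu₁, ofPt_comp_yon]
  have hflat : (u₂.left.stalkMap u).hom.Flat :=
    hf _ b u₂ u ha hb (by rw [Category.assoc]; exact hU.w) hpt
  have hub := hX U _ u ha hpt
  subst hu₂
  algebraize [(u₂.left.stalkMap u).hom]
  have : IsLocalHom (algebraMap (V.left.presheaf.stalk (u₂.left u)) (U.left.presheaf.stalk u)) :=
    inferInstanceAs (IsLocalHom (u₂.left.stalkMap u).hom)
  exact (numGeomBranches_eq_one_iff _).mp (le_antisymm
    ((numGeomBranches_le_of_flat _ _).trans_eq ((numGeomBranches_eq_one_iff _).mpr hub))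
    (one_le_numGeomBranches _))

end Groth.Agent.S10579
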