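import Groth.Statements.S10584
import Groth.Agent.AlgSpThick.Scheme
-- import your own Groth.Agent.* helpers here

set_option autoImplicit false
universe u
open CategoryTheory CategoryTheory.Limits AlgebraicGeometry
open AlgSp

namespace Groth.Agent.S10584

/-- Let i : X ⟶ X' be a thickening of algebraic spaces over S (representable, every base change to a
scheme a surjective closed immersion). If X is representable by a scheme over S, then so is X'. -/
theorem result {S : Scheme.{u}} {X X' : AlgSp.Space S} (i : X ⟶ X')
    (hi : AlgSp.IsThickMor i.hom)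
    (hX : ∃ T : Over S, Nonempty ((AlgSp.yon S).obj T ≅ X.obj)) :
    ∃ T' : Over S, Nonempty ((AlgSp.yon S).obj T' ≅ X'.obj) := by
  obtain ⟨T, ⟨e⟩⟩ := hX
  exact Groth.AlgSpThick.exists_iso_yon_of_thick X'.property (i := e.hom ≫ i.hom)
    (Groth.AlgSpBasic.repWith_inf_iff.2
      ⟨Groth.AlgSpBasic.repWith_comp (Groth.AlgSpBasic.repWith_isIso e.hom)
          (Groth.AlgSpBasic.repWith_inf_iff.1 hi).1,
        Groth.AlgSpBasic.repWith_comp (Groth.AlgSpBasic.repWith_isIso e.hom)
          (Groth.AlgSpBasic.repWith_inf_iff.1 hi).2⟩)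

end Groth.Agent.S10584
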