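import Groth.Statements.S10597
import Groth.Agent.AlgSp2.DeformProps
-- import your own Groth.Agent.* helpers here

set_option autoImplicit false
universe u
open CategoryTheory CategoryTheory.Limits AlgebraicGeometry
open AlgSp

namespace Groth.Agent.S10597

/-- Let iB : B ⟶ B' be a finite order thickening of algebraic spaces over S (a thickening such that for
one n the (n+1)-st power of the ideal vanishes on every affine etale scheme chart), f' : X' ⟶ Y' a
morphism of algebraic spaces over B' (via g' : Y' ⟶ B') with X' flat over B', and f : X ⟶ Y, g : Y ⟶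
B its base change to B (both squares to iB cartesian, iX ≫ f' = f ≫ iY). Then f is an isomorphism,
resp. an open immersion, resp. a monomorphism, resp. finite locally free, resp. finite locally free
of degree d, if and only if f' is. -/
theorem result {S : Scheme.{u}} {X X' Y Y' B B' : AlgSp.Space S} (iX : X ⟶ X') (iY : Y ⟶ Y') (iB : B ⟶ B')
    (f : X ⟶ Y) (f' : X' ⟶ Y') (g : Y ⟶ B) (g' : Y' ⟶ B')
    (hcX : IsPullback iX.hom (f ≫ g).hom (f' ≫ g').hom iB.hom) (hcY : IsPullback iY.hom g.hom g'.hom iB.hom)
    (w : iX ≫ f' = f ≫ iY)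
    (hB : AlgSp.IsFinThickMor iB.hom) (hflat : AlgSp.LocP @Flat (f' ≫ g').hom) :
    (IsIso f.hom ↔ IsIso f'.hom) ∧
    (AlgSp.RepWith @IsOpenImmersion f.hom ↔ AlgSp.RepWith @IsOpenImmersion f'.hom) ∧
    (Mono f.hom ↔ Mono f'.hom) ∧
    (AlgSp.IsFinLocFreeMor f.hom ↔ AlgSp.IsFinLocFreeMor f'.hom) ∧
    (∀ d : ℕ, AlgSp.IsFinLocFreeOfDegMor d f.hom ↔ AlgSp.IsFinLocFreeOfDegMor d f'.hom) := by
  have hw := congr(($w).hom)
  obtain ⟨h1, h2⟩ := Groth.AlgSp2.iso_openImmersion_iff_deform X.property Y.property X'.property Y'.property B'.property hB hcX hcY hw hflat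
  have hm := Groth.AlgSp2.mono_iff_deform X.property Y.property X'.property Y'.property B'.property hB hcX hcY hw hflat
  have hfi := Groth.AlgSp2.finite_iff_deform X.property Y.property X'.property Y'.property B'.property hB hcX hcY hw
  obtain ⟨e1, e2, -, -⟩ := Groth.AlgSp2.local_iff_deform X.property Y.property X'.property Y'.property B'.property hB hcX hcY hw hflat
  obtain ⟨n, hn⟩ := hB
  obtain ⟨hi, hj, hc⟩ := Groth.AlgSp2.deform_squares hn.1 hcX hcY hw
  exact ⟨h2, h1, hm, Groth.AlgSp2.finLocFree_of_local X.property Y.property X'.property Y'.property hi hj hc hfi e1 e2⟩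

end Groth.Agent.S10597
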