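import Groth.Statements.S9771
import Groth.Agent.FlatmorThree.FormalLift
import Groth.Agent.FlatmorThree.FlatUnramified

set_option autoImplicit false
universe u
open FlatMor

namespace Groth.Agent.S9771

open AlgebraicGeometry CategoryTheory Limits in
/-- An unramified (formally unramified and locally of finite type) flat morphism of schemes is formally
étale. (When the morphism is moreover locally of finite presentation this is the statement that flat
unramified morphisms are étale; the content here is the case without finite presentation.) -/
theorem result {X S : Scheme.{u}} (f : X ⟶ S)
    [Flat f] [FormallyUnramified f] [LocallyOfFiniteType f] : MoreMor.IsFormallyEtaleHom f := by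
  refine (Groth.FlatmorThree.FormalLift.hasEtaleCharts_of_forall
    fun U V hU hV e => ?_).isFormallyEtaleHom
  have h1 := f.flat_appLE hV hU e
  have h2 := f.formallyUnramified_appLE hV hU e
  have h3 := f.finiteType_appLE hV hU e
  algebraize [(f.appLE V U e).hom]
  exact Groth.FlatmorThree.formallyEtale_of_flat_of_formallyUnramified

end Groth.Agent.S9771
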