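import Groth.Statements.S10647
import Groth.Agent.AlgSp2.QcAffine.FiniteModel
import Groth.Agent.AlgSp3.NormZMT
-- import your own Groth.Agent.* helpers here

set_option autoImplicit false
universe u
open CategoryTheory CategoryTheory.Limits AlgebraicGeometry
open AlgSp

namespace Groth.Agent.S10647

/-- (Zariski's Main Theorem for algebraic spaces) a quasi-finite separated morphism f : X ⟶ Y of
algebraic spaces over S whose target Y is quasi-compact and quasi-separated factors as a
quasi-compact representable open immersion j : X ⟶ T followed by a finite morphism π : T ⟶ Y. (The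
published statement asks Y to be quasi-separated in the absolute sense and puts no condition on S;
this row assumes S quasi-separated and Y quasi-separated over S, which together imply it.) -/
theorem result {S : Scheme.{u}} [QuasiSeparatedSpace ↥S] {X Y : AlgSp.Space S} (f : X ⟶ Y)
    (hf1 : AlgSp.LocP (@LocallyQuasiFinite ⊓ @LocallyOfFiniteType) f.hom) (hf2 : AlgSp.IsQuasiCompactMor f.hom)
    (hf3 : AlgSp.IsSeparatedMor f.hom) (hY1 : AlgSp.IsQuasiCompactSp Y.obj) (hY2 : AlgSp.IsQuasiSeparatedSp Y.obj) :
    ∃ (T : AlgSp.Space S) (j : X ⟶ T) (π : T ⟶ Y), j ≫ π = f ∧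
      AlgSp.RepWith @IsOpenImmersion j.hom ∧ AlgSp.IsQuasiCompactMor j.hom ∧ AlgSp.IsFiniteMor π.hom := by
  have hqs : AlgSp.IsQuasiSeparatedMor f.hom :=
    Groth.AlgSpBasic.repWith_mono
      (fun _ _ k (_ : IsClosedImmersion k) => (inferInstance : QuasiCompact k)) hf3
  obtain ⟨Y', ν, f', U, p, P, qP, π₀, N, q, ν₀, f₀, hY', hn, -⟩ :=
    Groth.AlgSp3.exists_normalization Y.property X.property f.hom hf2 hqs
  obtain ⟨ho, hq, -⟩ := Groth.AlgSp3.isOpenImmersion_to_normalization Y.property X.property hY'
    hf1 hf2 hf3 hn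
  have hrep := Groth.AlgSpBasic.representable_of_separated_lqf X.property Y.property hf1 hf3
  have hft : AlgSp.RepWith @LocallyOfFiniteType (f' ≫ ν) := by
    rw [hn.1]
    exact Groth.AlgSpBasic.repWith_mono (fun _ _ k h => h.2)
      (Groth.AlgSpBasic.repWith_of_locP Y.property hrep hf1)
  obtain ⟨T, π, h, hT, hfac, hπ, hj, hjq⟩ := Groth.AlgSp2.QcAffine.exists_finite_model X.property
    Y.property hY' hY1 hY2 f' ν ho hq hn.2.1 hft
  exact ⟨⟨T, hT⟩, ObjectProperty.homMk (f' ≫ h), ObjectProperty.homMk π,
    ObjectProperty.hom_ext _ (by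
      show (f' ≫ h) ≫ π = f.hom
      rw [Category.assoc, hfac, hn.1]), hj, hjq, hπ⟩

end Groth.Agent.S10647
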