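import Groth.Statements.S9964
import Groth.Agent.AlgSp3.ClosedSub

set_option autoImplicit false
set_option backward.isDefEq.respectTransparency.types false
universe u
open CategoryTheory CategoryTheory.Limits AlgebraicGeometry
open AlgSp

namespace Groth.Agent.S9964

open CategoryTheory CategoryTheory.Limits AlgebraicGeometry Groth.AlgSpBasic

/-- Every morphism of algebraic spaces has a scheme theoretic image, a smallest closed subspace of the
target through which it factors. -/
theorem result {S : Scheme.{u}} {X Y : AlgSp.Space S} (f : X ⟶ Y) :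
    ∃ (Z : AlgSp.Space S) (i : Z ⟶ Y), AlgSp.IsSchImage f.hom i.hom := by
  obtain ⟨U, p, hp, hps⟩ := Y.property.atlas
  obtain ⟨W, a, α, ha, has, hα⟩ := exists_chart_over X.property Y.property.diag f.hom p hp hps
  obtain ⟨Z, i, _, hZ, h, _⟩ := Groth.AlgSp3.exists_schImage Y.property hp hps f.hom ha has hα
  exact ⟨⟨Z, hZ⟩, ObjectProperty.homMk i, h⟩

end Groth.Agent.S9964
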