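import Groth.Statements.S10651
import Groth.Agent.S9964
import Groth.Agent.S10444
import Groth.Agent.AlgSpCartier.SchImageMore
import Groth.Agent.AlgSp2.Decency
import Groth.Agent.AlgSp2.QfNbhd
import Groth.Agent.AlgStBasic.SpaceProps
import Groth.Agent.AlgSpBasic.FibreSpace

set_option autoImplicit false
universe u
open CategoryTheory CategoryTheory.Limits AlgebraicGeometry
open AlgSp Groth.AlgSpBasic Groth.AlgStBasic

namespace Groth.Agent.S10651

/-- Consider morphisms h : X ⟶ Y, f : X ⟶ B, g : Y ⟶ B of algebraic spaces over S with h ≫ g = f, a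
point b of |B| and a field point k of B in the class of b. Assume f is proper, g is separated and
locally of finite type, and either (a) for the fibres X_k ⟶ Y_k of h over k (pullbacks in fppf
sheaves) the image of |X_k| in |Y_k| is finite, or (b) the image in |Y| of the fibre of |X| ⟶ |B|
over b is finite and B is decent. Then over some open subspace B' of B containing b the base change
X_{B'} ⟶ Y_{B'} of h lands in a closed subspace Z of Y_{B'} that is finite over B' (it factors
through Z). -/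
theorem result {S : Scheme.{u}} {X Y B : AlgSp.Space S} (h : X ⟶ Y) (f : X ⟶ B) (g : Y ⟶ B) (hc : h ≫ g = f)
    (b : AlgSp.Points B.obj) (k : AlgSp.FieldPt B.obj) (hk : AlgSp.Points.mk k = b)
    (hf : AlgSp.IsProperMor f.hom) (hg1 : AlgSp.IsSeparatedMor g.hom) (hg2 : AlgSp.LocP @LocallyOfFiniteType g.hom)
    (h3 : (∀ (Yk : AlgSp.Sp S) (gY : Yk ⟶ Y.obj) (sY : Yk ⟶ (AlgSp.yon S).obj k.pt),
            IsPullback gY sY g.hom k.toHom →
            ∀ (Xk : AlgSp.Sp S) (gX : Xk ⟶ X.obj) (hk' : Xk ⟶ Yk), IsPullback gX hk' h.hom gY →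
              (Set.range (AlgSp.Points.map hk')).Finite) ∨
          ((AlgSp.Points.map h.hom '' (AlgSp.Points.map f.hom ⁻¹' {b})).Finite ∧ AlgSp.IsDecent B.obj)) :
    ∃ (B' : AlgSp.Space S) (j : B' ⟶ B), AlgSp.RepWith @IsOpenImmersion j.hom ∧
      b ∈ Set.range (AlgSp.Points.map j.hom) ∧
        ∀ (YB : AlgSp.Space S) (gY : YB ⟶ Y) (sY : YB ⟶ B'), IsPullback gY.hom sY.hom g.hom j.hom →
          ∀ (XB : AlgSp.Space S) (gX : XB ⟶ X) (hB : XB ⟶ YB), IsPullback gX.hom hB.hom h.hom gY.hom →
            ∃ (Z : AlgSp.Space S) (i : Z ⟶ YB) (e : XB ⟶ Z), AlgSp.RepWith @IsClosedImmersion i.hom ∧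
              AlgSp.IsFiniteMor (i ≫ sY).hom ∧ e ≫ i = hB := by
  subst hc
  obtain ⟨Z, i, hZ⟩ := Groth.Agent.S9964.result h
  obtain ⟨h₀, hh₀⟩ := hZ.2.1
  let h' : X ⟶ Z := ObjectProperty.homMk h₀
  have fac : h' ≫ i = h := InducedCategory.hom_ext hh₀
  obtain ⟨hq, hs'⟩ := Groth.AlgSpCartier.schImage_proper h g hf hg1 hg2 i hZ h' fac
  have hmono : Mono i.hom := Groth.AlgSpCartier.repWith_mono_closedImmersion hZ.1
  have hinj : Function.Injective (AlgSp.Points.map i.hom) :=
    (isEmbedding_map_of_immersion Y.property (repWith_mono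
      (fun _ _ l (_ : IsClosedImmersion l) => (inferInstance : IsImmersion l)) hZ.1)).1.injective
  have hqs : AlgSp.IsQuasiSeparatedMor (i ≫ g).hom := qs_of_sep hq.1
  have hdq := Groth.AlgSp2.isDecentMor_of_qs Z.property B.property hqs
  have hlft : AlgSp.LocP @LocallyOfFiniteType (i ≫ g).hom := hq.2.1.1
  have key : ∀ z : AlgSp.Points Z.obj, AlgSp.Points.map (i ≫ g).hom z = b →
      AlgSp.HasAtMor (fun U _ h u => ∃ W : U.Opens, u ∈ W ∧ LocallyQuasiFinite (W.ι ≫ h) ∧
        LocallyOfFiniteType (W.ι ≫ h)) (i ≫ g).hom z := by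
    intro z hz
    have hy : AlgSp.Points.mk k ∈ Set.range (AlgSp.Points.map (i ≫ g).hom) := ⟨z, hz.trans hk.symm⟩
    have sqY := IsPullback.of_hasPullback g.hom k.toHom
    have sqZ₀ := IsPullback.of_hasPullback i.hom (pullback.fst g.hom k.toHom)
    have sqZ : IsPullback (pullback.fst i.hom (pullback.fst g.hom k.toHom))
        (pullback.snd i.hom (pullback.fst g.hom k.toHom) ≫ pullback.snd g.hom k.toHom)
        (i ≫ g).hom k.toHom := sqZ₀.flip.paste_horiz sqY.flip |>.flip
    let Zk : AlgSp.Space S := ⟨pullback i.hom (pullback.fst g.hom k.toHom),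
      isAlgSpace_of_isPullback sqZ B.property.diag Z.property (IsAlgSpace.yon_obj _)⟩
    obtain ⟨h17, h78, -, -, hfin, -, -, hd8, hd9⟩ := Groth.Agent.S10444.result (i ≫ g) hlft k hy Zk
      (ObjectProperty.homMk (pullback.fst i.hom (pullback.fst g.hom k.toHom))) _ sqZ
    have hdk : AlgSp.IsDecent Zk.obj := hdq k.toHom _ _ sqZ
    refine h78.1 (h17.1 ?_) z (hz.trans hk.symm)
    rcases h3 with ha | ⟨hb, hBd⟩
    · have hXk := IsPullback.of_hasPullback h.hom (pullback.fst g.hom k.toHom)
      have := ha _ _ _ sqY _ _ _ hXk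
      have hiinj : Function.Injective
          (AlgSp.Points.map (pullback.snd i.hom (pullback.fst g.hom k.toHom))) := by
        have hci := MorphismProperty.of_isPullback (P := AlgSp.RepWith @IsClosedImmersion) sqZ₀ hZ.1
        exact (isEmbedding_map_of_immersion
          (isAlgSpace_of_isPullback sqY B.property.diag Y.property (IsAlgSpace.yon_obj _)) (repWith_mono
          (fun _ _ l (_ : IsClosedImmersion l) => (inferInstance : IsImmersion l)) hci)).1.injective
      have hr : Set.range (AlgSp.Points.map (pullback.snd i.hom (pullback.fst g.hom k.toHom))) ⊆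
          Set.range (AlgSp.Points.map (pullback.snd h.hom (pullback.fst g.hom k.toHom))) := by
        rw [range_map_eq_of_isPullback sqZ₀, range_map_eq_of_isPullback hXk]
        refine Set.preimage_mono ?_
        rintro _ ⟨w, rfl⟩
        obtain ⟨x, rfl⟩ := hs' w
        exact ⟨x, by rw [← AlgSp.Points.map_comp, ← fac]; rfl⟩
      have : Finite (AlgSp.Points Zk.obj) := by
        haveI := (this.subset hr).to_subtype
        exact Finite.of_injective _ (Set.rangeFactorization_injective.2 hiinj)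
      exact hfin hdk this
    · have hZd : AlgSp.IsDecent Z.obj := Groth.AlgSp2.isDecent_of_isDecentMor hdq hBd
      refine (hd8 hBd).1 ((hd9 hBd hZd).2 ((Set.Finite.preimage hinj.injOn hb).subset ?_))
      intro w hw
      obtain ⟨x, rfl⟩ := hs' w
      refine ⟨x, ?_, by rw [← AlgSp.Points.map_comp, ← fac]; rfl⟩
      change AlgSp.Points.map (h ≫ g).hom x = b
      rw [← fac, Category.assoc]
      exact (AlgSp.Points.map_comp _ _ _).trans (hw.trans hk)
  obtain ⟨B', j, hj, hbj, hV⟩ := Groth.AlgSp2.exists_open_finite_of_qf_over (i ≫ g) b hq key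
  refine ⟨B', j, hj, hbj, fun YB gY sY sqYB XB gX hB sqXB => ?_⟩
  have sq₀ := IsPullback.of_hasPullback i.hom gY.hom
  let ZB : AlgSp.Space S := ⟨pullback i.hom gY.hom,
    isAlgSpace_pullback Z YB Y i.hom gY.hom⟩
  let pi : ZB ⟶ YB := ObjectProperty.homMk (pullback.snd i.hom gY.hom)
  let pz : ZB ⟶ Z := ObjectProperty.homMk (pullback.fst i.hom gY.hom)
  let e : XB ⟶ ZB := ObjectProperty.homMk (sq₀.lift (gX.hom ≫ h₀) hB.hom
    (by rw [Category.assoc, hh₀]; exact sqXB.w))
  refine ⟨ZB, pi, e, MorphismProperty.of_isPullback sq₀ hZ.1, ?_, InducedCategory.hom_ext (sq₀.lift_snd _ _ _)⟩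
  exact hV ZB pz (pi ≫ sY) (sq₀.flip.paste_horiz sqYB.flip).flip

end Groth.Agent.S10651
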