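import Groth.Statements.S10652
import Groth.Agent.S0451
import Groth.Agent.AlgSp2.DenseOpenProps
import Groth.Agent.GrpschAbsch.SchDense

set_option autoImplicit false
universe u
open CategoryTheory CategoryTheory.Limits AlgebraicGeometry
open AlgSp

namespace Groth.Agent.S10652

/-- For a flat morphism f : X ⟶ Y of algebraic spaces over S which is locally of finite type, and an
open subspace j : V ⟶ Y which is quasi-compact (as a morphism) and scheme theoretically dense (on
some etale surjective scheme chart its inverse image is a schematically dense open): if the base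
change X ×_Y V ⟶ V is locally of finite presentation then so is f. -/
theorem result {S : Scheme.{u}} {X Y V : AlgSp.Space S} (f : X ⟶ Y) (j : V ⟶ Y)
    (hf1 : AlgSp.LocP @LocallyOfFiniteType f.hom) (hf2 : AlgSp.LocP @Flat f.hom)
    (hj1 : AlgSp.IsQuasiCompactMor j.hom) (hj2 : AlgSp.IsSchDense j.hom)
    (P : AlgSp.Space S) (fst : P ⟶ X) (snd : P ⟶ V) (hP : IsPullback fst.hom snd.hom f.hom j.hom)
    (hV : AlgSp.LocP @LocallyOfFinitePresentation snd.hom) :
    AlgSp.LocP @LocallyOfFinitePresentation f.hom := by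
  obtain ⟨hjo, V', φ, W, b₀, hφ, hφs, sW, hW⟩ := hj2
  obtain ⟨U', a, h, ha, has, comm⟩ := Groth.AlgSpBasic.exists_chart_over X.property Y.property.diag f.hom φ hφ hφs
  obtain ⟨U₀, V₀, a₀, b, h₀, iU, iV, ha₀, hb₀, comm₀, hiV, hr, sV, sq⟩ :=
    Groth.AlgSp2.exists_open_chart hjo hP ha hφ comm
  haveI := hiV
  haveI : Flat h.left := hf2 a φ h ha hφ comm
  haveI : LocallyOfFiniteType h.left := hf1 a φ h ha hφ comm
  haveI : LocallyOfFinitePresentation h₀.left := hV a₀ b h₀ ha₀ hb₀ comm₀
  have hrW : W = iV.left.opensRange := by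
    ext1
    rw [Scheme.Hom.coe_opensRange, hr, ← Groth.AlgSpBasic.range_left_eq_preimage sW]
    exact (Scheme.Opens.range_ι W).symm
  haveI : QuasiCompact W.ι := (Groth.AlgSpBasic.repWith_of_isQuasiCompactMor hjo.rep hj1).property φ b₀
    (Over.homMk W.ι rfl : Over.mk (W.ι ≫ V'.hom) ⟶ V') sW
  haveI := Groth.GrpschAbsch.isSchemeTheoreticallyDominant_ι W hW
  haveI : LocallyOfFinitePresentation (h.left ∣_ W) := by
    subst hrW
    rw [MorphismProperty.arrow_mk_iso_iff @LocallyOfFinitePresentation
      (morphismRestrictOpensRange h.left iV.left), ← sq.isoPullback_inv_snd]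
    infer_instance
  exact Groth.AlgSpBasic.locP_of_chart X.property.diag Y.property.diag ha has hφ comm
    (Groth.Agent.S0451.result h.left W)

end Groth.Agent.S10652
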