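import Groth.Statements.S10656
import Groth.Agent.AlgSpBasic.ChowFiniteType

set_option autoImplicit false
universe u
open CategoryTheory CategoryTheory.Limits AlgebraicGeometry
open AlgSp Groth.AlgSpBasic

namespace Groth.Agent.S10656

/-- (a variant of Chow's lemma) for an algebraic space Y over S which is quasi-compact and
quasi-separated and a separated morphism f : X ⟶ Y of finite type, there are an algebraic space X',
a proper surjective morphism X' ⟶ X, a representable open immersion X' ⟶ X̄' and a proper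
representable morphism X̄' ⟶ Y forming a commutative diagram over Y. (The published statement asks Y
to be quasi-separated in the absolute sense and puts no condition on S; this row assumes S
quasi-separated and Y quasi-separated over S, which together imply it.) -/
theorem result {S : Scheme.{u}} [QuasiSeparatedSpace ↥S] {X Y : AlgSp.Space S} (f : X ⟶ Y)
    (hY1 : AlgSp.IsQuasiCompactSp Y.obj) (hY2 : AlgSp.IsQuasiSeparatedSp Y.obj)
    (hf1 : AlgSp.IsSeparatedMor f.hom) (hf2 : AlgSp.IsFiniteTypeMor f.hom) :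
    ∃ (X' Xb : AlgSp.Space S) (a : X' ⟶ X) (b : X' ⟶ Xb) (c : Xb ⟶ Y), b ≫ c = a ≫ f ∧
      AlgSp.IsProperMor a.hom ∧ AlgSp.IsSurjectiveMor a.hom ∧ AlgSp.RepWith @IsOpenImmersion b.hom ∧
        AlgSp.IsProperMor c.hom ∧ AlgSp.Representable c.hom := by
  obtain ⟨X', Xb, a, b, c, h₁, h₂, h₃, h₄, h₅, h₆⟩ :=
    Groth.AlgSpBasic.ChowFiniteType.exists_chow X.property Y.property f.hom hY1 hY2 hf1 hf2
  exact ⟨⟨_, IsAlgSpace.yon_obj X'⟩, ⟨_, IsAlgSpace.yon_obj Xb⟩, ObjectProperty.homMk a,
    ObjectProperty.homMk ((AlgSp.yon S).map b), ObjectProperty.homMk c, ObjectProperty.hom_ext _ h₁,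
    h₂, h₃, (AlgSp.repWith_yon_map_iff @IsOpenImmersion b).2 h₄, h₅, h₆⟩

end Groth.Agent.S10656
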