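import Groth.Statements.S10659
import Groth.Agent.AlgSpBasic.RepWith
import Mathlib.AlgebraicGeometry.Sites.MorphismProperty
-- import your own Groth.Agent.* helpers here

set_option autoImplicit false
universe u
open CategoryTheory CategoryTheory.Limits AlgebraicGeometry
open AlgSp

namespace Groth.Agent.S10659

/-- For a property P of morphisms of schemes that is etale local on the target (local for the etale
precoverage) and a representable morphism f : X ⟶ Y of algebraic spaces over S: if for one scheme V
with a representable etale surjective b : h_V ⟶ Y and one pullback square of f along b with corner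
h_W the projection W ⟶ V has P, then f has P etale locally on the target in the representable sense,
i.e. every such projection along every etale h_V ⟶ Y has P. (The published statement also asserts
the converse direction and that, for X and Y representable, the condition is equivalent to f having
P; this row states only that one surjective etale chart suffices.) -/
theorem result {S : Scheme.{u}} (P : MorphismProperty Scheme.{u}) [P.IsLocalAtTarget Scheme.etalePrecoverage]
    {X Y : AlgSp.Space S} (f : X ⟶ Y) (hf : AlgSp.Representable f.hom)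
    {V W : Over S} (b : (AlgSp.yon S).obj V ⟶ Y.obj) (hb1 : AlgSp.RepWith @Etale b) (hb2 : AlgSp.RepWith @Surjective b)
    (fst : (AlgSp.yon S).obj W ⟶ X.obj) (snd : W ⟶ V)
    (sq : IsPullback fst ((AlgSp.yon S).map snd) f.hom b) (hP : P snd.left) :
    AlgSp.RepLocT P f.hom := by
  have hloc : ∀ {A B C : Scheme.{u}} (h : A ⟶ B) (g : C ⟶ B) [Etale g] {D : Scheme.{u}}
      (a : D ⟶ A) (c : D ⟶ C), IsPullback a c h g → P h → P c := by
    intro A B C h g hg D a c hsq hP'
    have hR : (Presieve.ofArrows (fun o : Option PUnit.{1} => o.elim B fun _ => C)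
        (fun o => match o with | none => 𝟙 B | some _ => g)) ∈ Scheme.etalePrecoverage B := by
      rw [Scheme.etalePrecoverage, Scheme.ofArrows_mem_precoverage_iff]
      exact ⟨fun x => ⟨none, x, rfl⟩, fun o => match o with | none => inferInstanceAs (Etale (𝟙 B)) | some _ => hg⟩
    haveI : HasPullback h g := hsq.hasPullback
    rw [← P.cancel_left_of_respectsIso hsq.isoPullback.inv, hsq.isoPullback_inv_snd]
    exact MorphismProperty.IsLocalAtTarget.pullbackSnd hR ⟨some PUnit.unit⟩ hP'
  refine ⟨hf, fun V' W' b' fst' snd' hb' sq' => ?_⟩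
  obtain ⟨R, r', r, hR⟩ := Groth.AlgSpBasic.exists_pullback_yon hb'.1 b
  haveI : Etale r.left := Groth.AlgSpBasic.repWith_fst_of_isPullback hR hb'
  haveI : Etale r'.left := Groth.AlgSpBasic.repWith_fst_of_isPullback hR.flip hb1
  haveI : Surjective r'.left := Groth.AlgSpBasic.repWith_fst_of_isPullback hR.flip hb2
  obtain ⟨T, t, tf, sqT⟩ := hf ((AlgSp.yon S).map r ≫ b)
  obtain ⟨l, hl⟩ := (AlgSp.yon S).map_surjective (sq.lift tf ((AlgSp.yon S).map t ≫ (AlgSp.yon S).map r)
    (by rw [sqT.w, Category.assoc]))
  have s₁ : IsPullback ((AlgSp.yon S).map l) ((AlgSp.yon S).map t) ((AlgSp.yon S).map snd) ((AlgSp.yon S).map r) :=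
    IsPullback.of_right (by rw [hl, sq.lift_fst]; exact sqT) (by rw [hl, sq.lift_snd]) sq
  obtain ⟨l', hl'⟩ := (AlgSp.yon S).map_surjective (sq'.lift tf ((AlgSp.yon S).map t ≫ (AlgSp.yon S).map r')
    (by rw [sqT.w, Category.assoc, hR.w]))
  have s₂ : IsPullback ((AlgSp.yon S).map l') ((AlgSp.yon S).map t) ((AlgSp.yon S).map snd') ((AlgSp.yon S).map r') :=
    IsPullback.of_right (by rw [hl', sq'.lift_fst, hR.w]; exact sqT) (by rw [hl', sq'.lift_snd]) sq'
  have hPt : P t.left := hloc snd.left r.left _ _
    (Groth.AlgSpBasic.isPullback_left (Groth.AlgSpBasic.isPullback_of_yon s₁)) hP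
  have hsq2 := Groth.AlgSpBasic.isPullback_left (Groth.AlgSpBasic.isPullback_of_yon s₂)
  have hR' : (Presieve.ofArrows (fun _ : PUnit.{1} => R.left) (fun _ => r'.left)) ∈
      Scheme.etalePrecoverage V'.left := by
    rw [Scheme.etalePrecoverage, Scheme.ofArrows_mem_precoverage_iff]
    exact ⟨fun x => ⟨PUnit.unit, r'.left.surjective x⟩, fun _ => inferInstance⟩
  refine MorphismProperty.IsLocalAtTarget.of_forall_pullbackSnd hR' ?_
  rintro _ _ _ ⟨i⟩
  rw [← hsq2.isoPullback_hom_snd, P.cancel_left_of_respectsIso] at hPt
  exact hPt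

end Groth.Agent.S10659
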