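import Groth.Statements.S10665
import Groth.Agent.KoszulLCI.Kinds
import Groth.Agent.AlgSpBasic.LocP
-- import your own Groth.Agent.* helpers here

set_option autoImplicit false
universe u
open CategoryTheory CategoryTheory.Limits AlgebraicGeometry
open AlgSp

namespace Groth.Agent.S10665

/-- A Koszul-regular immersion between algebraic spaces over S (representable, Koszul-regular immersion
on every etale scheme chart of the target) is a local complete intersection morphism (Koszul at
every point, etale locally on source and target). -/
theorem result {S : Scheme.{u}} {X Y : AlgSp.Space S} (i : X ⟶ Y) (hi : AlgSp.IsRegImmMor RegImm.Kind.koszul i.hom) :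
    AlgSp.IsLCIMor i.hom := by
  intro U V a b h ha hb comm
  obtain ⟨hrep, hi2⟩ := hi
  obtain ⟨T, snd, fst, sq⟩ := hrep b
  obtain ⟨l, hl⟩ := (AlgSp.yon S).map_surjective (sq.lift a ((AlgSp.yon S).map h) comm)
  have hl2 : l ≫ snd = h := (AlgSp.yon S).map_injective (by rw [Functor.map_comp, hl, sq.lift_snd])
  haveI : Etale l.left := Groth.AlgSpBasic.etale_of_repWith_comp l
    (Groth.AlgSpBasic.repWith_of_isPullback sq.flip hb) (by rw [hl, sq.lift_fst]; exact ha)
  intro x
  refine Groth.KoszulLCI.isKoszulAt_of_morLCI h.left ?_ x
  rw [← hl2]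
  exact MorphismProperty.comp_mem _ _ _ (Groth.KoszulLCI.morLCI_of_smooth l.left)
    (Groth.KoszulLCI.morLCI_of_isRegularImmersion snd.left (hi2 b fst snd hb sq))

end Groth.Agent.S10665
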