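import Groth.Statements.S1067
import Groth.Agent.RelPC.PnPush.Gen

set_option autoImplicit false
set_option linter.style.haveILetI false
universe u
open CategoryTheory CategoryTheory.Limits AlgebraicGeometry
attribute [local instance] HasDerivedCategory.standard
open Perf

namespace Groth.Agent.S1067

/-- Let R be a ring and X = P^n_R. The object O_X ⊕ O_X(-1) ⊕ … ⊕ O_X(-n) generates D_QCoh(O_X): if K ∈
D(O_X) has quasi-coherent cohomology sheaves and every morphism O_X(-d)[m] ⟶ K with 0 ≤ d ≤ n and m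
∈ ℤ is zero, then K = 0. -/
theorem result (n : ℕ) (R : Type u) [CommRing R]
    (K : DCoh.D (CohB1.ProjSpace n R)) (hK : DCoh.IsQCohD K)
    (h : ∀ (d : ℕ), d ≤ n → ∀ (m : ℤ) (φ : (DCoh.inD (CohB1.ProjSpace n R) (Twist.twistProjSpace n R (-(d : ℤ))))⟦m⟧ ⟶ K), φ = 0) :
    IsZero K := by
  let g := Groth.PnCoh.toInt n R
  haveI : IsProper (CohB1.ProjSpace.toSpec n R) := inferInstance
  haveI : CompactSpace (CohB1.ProjSpace n R) := QuasiCompact.compactSpace_of_compactSpace (CohB1.ProjSpace.toSpec n R)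
  haveI : QuasiSeparatedSpace (CohB1.ProjSpace n R) := quasiSeparatedSpace_of_quasiSeparated (CohB1.ProjSpace.toSpec n R)
  haveI : IsAffineHom g := MorphismProperty.of_isPullback (Groth.PnCoh.isPullback_toInt n R).flip inferInstance
  refine Groth.RelPC.PnPush.isZero_of_orth_window n g (-(n : ℤ)) K hK fun d h₁ h₂ => ?_
  obtain ⟨e⟩ := @Groth.PnCoh.nonempty_pullback_toBasePn_twist n (ULift.{u} ℤ) R _ _ (Groth.PnCoh.zAlg R) d
  obtain ⟨k, rfl⟩ : ∃ k : ℕ, d = -(k : ℤ) := ⟨(-d).toNat, by omega⟩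
  exact (Groth.RelPC.PnPush.Orth K).prop_of_iso ((DerivedCategory.singleFunctor _ 0).mapIso e).symm
    (fun m φ => h k (by omega) m φ)

end Groth.Agent.S1067
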