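import Groth.Statements.S10676
import Groth.Agent.AlgSp2.SplitOff
-- import your own Groth.Agent.* helpers here

set_option autoImplicit false
universe u
open CategoryTheory CategoryTheory.Limits AlgebraicGeometry
open AlgSp

namespace Groth.Agent.S10676

/-- For a separated morphism f : X ⟶ Y of algebraic spaces over S which is locally of finite type, a
point y of |Y| and a finite set xs of points of |X| mapping to y at each of which f is quasi-finite
(some etale chart diagram through the point has top arrow locally quasi-finite and locally of finite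
type on an open neighbourhood), assuming moreover that f is quasi-compact or Y is decent: there are
an etale morphism of algebraic spaces a : U ⟶ Y and a point u of |U| over y such that for the base
change P = U ×_Y X there is an open and closed subspace V ⊂ P, finite over U, such that every point
of |V| over u maps into xs and no point of |P| outside |V| lying over u maps into xs. -/
theorem result {S : Scheme.{u}} {X Y : AlgSp.Space S} (f : X ⟶ Y) (y : AlgSp.Points Y.obj)
    (xs : Finset (AlgSp.Points X.obj)) (hxs : ∀ x ∈ xs, AlgSp.Points.map f.hom x = y)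
    (hf1 : AlgSp.LocP @LocallyOfFiniteType f.hom) (hf2 : AlgSp.IsSeparatedMor f.hom)
    (hf3 : ∀ x ∈ xs, AlgSp.HasAtMor (fun U _ h u => ∃ W : U.Opens, u ∈ W ∧ LocallyQuasiFinite (W.ι ≫ h) ∧ LocallyOfFiniteType (W.ι ≫ h)) f.hom x)
    (hf4 : AlgSp.IsQuasiCompactMor f.hom ∨ AlgSp.IsDecent Y.obj) :
    ∃ (U : AlgSp.Space S) (a : U ⟶ Y) (u : AlgSp.Points U.obj), AlgSp.IsEtaleMor a.hom ∧ AlgSp.Points.map a.hom u = y ∧
      ∀ (P : AlgSp.Space S) (prX : P ⟶ X) (prU : P ⟶ U), IsPullback prX.hom prU.hom f.hom a.hom →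
        ∃ (V : AlgSp.Space S) (jV : V ⟶ P), AlgSp.RepWith @IsOpenImmersion jV.hom ∧ AlgSp.RepWith @IsClosedImmersion jV.hom ∧
          AlgSp.IsFiniteMor (jV ≫ prU).hom ∧
          (∀ v : AlgSp.Points V.obj, AlgSp.Points.map (jV ≫ prU).hom v = u → AlgSp.Points.map (jV ≫ prX).hom v ∈ xs) ∧
          ∀ w : AlgSp.Points P.obj, w ∉ Set.range (AlgSp.Points.map jV.hom) → AlgSp.Points.map prU.hom w = u →
            AlgSp.Points.map prX.hom w ∉ xs := by
  classical
  obtain ⟨V₁, b, v₁, hV₁, hb, rfl⟩ := Groth.AlgSp2.SplitOff.exists_affine_chart_through Y y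
  let Z : Finset (AlgSp.Points (pullback f.hom b)) :=
    (Groth.AlgSp2.SplitOff.finite_points_over f hf1 hf4 b hb v₁ xs hf3).toFinset
  have hZ : ∀ z, z ∈ Z ↔ AlgSp.Points.map (pullback.snd f.hom b) z = AlgSp.Points.ofScheme V₁ v₁ ∧
      AlgSp.Points.map (pullback.fst f.hom b) z ∈ xs := fun z =>
    (Groth.AlgSp2.SplitOff.finite_points_over f hf1 hf4 b hb v₁ xs hf3).mem_toFinset
  let zf : Fin Z.card → AlgSp.Points (pullback f.hom b) := fun i => (Z.equivFin.symm i).1
  have hzf : ∀ i, zf i ∈ Z := fun i => (Z.equivFin.symm i).2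
  obtain ⟨U, a, u, g, ha, hab, hgu, hau, H⟩ := Groth.AlgSp2.SplitOff.exists_split_off f hf1 hf2 b hb v₁
    zf (fun i => ((hZ _).1 (hzf i)).1) (fun i => hf3 _ ((hZ _).1 (hzf i)).2)
  refine ⟨U, a, u, ha, hau, fun P prX prU sq => ?_⟩
  obtain ⟨V, jV, ho, hc, hfin, hin, hout⟩ := H P prX prU sq
  refine ⟨V, jV, ho, hc, hfin, fun v hv => ?_, fun w hw hwu hwx => hw ?_⟩
  · obtain ⟨i, hi⟩ := hin v hv
    rw [hi]
    exact ((hZ _).1 (hzf i)).2
  · have sqb := IsPullback.of_hasPullback f.hom b
    have sq' : IsPullback prX.hom prU.hom f.hom (g ≫ b) := hab ▸ sq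
    let q : P.obj ⟶ pullback f.hom b := sqb.lift prX.hom (prU.hom ≫ g)
      (by rw [Category.assoc]; exact sq'.w)
    have hmem : AlgSp.Points.map q w ∈ Z := (hZ _).2 ⟨by
        rw [← AlgSp.Points.map_comp, sqb.lift_snd, AlgSp.Points.map_comp, hwu, hgu], by
        rw [← AlgSp.Points.map_comp, sqb.lift_fst]; exact hwx⟩
    refine hout w hwu ⟨Z.equivFin ⟨_, hmem⟩, fun q' h₁ h₂ => ?_⟩
    simp only [zf, Equiv.symm_apply_apply]
    rw [show q' = q from sqb.hom_ext (by rw [h₁, sqb.lift_fst]) (by rw [h₂, sqb.lift_snd])]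

end Groth.Agent.S10676
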