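import Groth.Statements.S10677
import Groth.Agent.AlgSp2.SplitOff
-- import your own Groth.Agent.* helpers here

set_option autoImplicit false
universe u
open CategoryTheory CategoryTheory.Limits AlgebraicGeometry
open AlgSp

namespace Groth.Agent.S10677

/-- For a separated morphism f : X ⟶ Y of algebraic spaces over S which is locally of finite type and a
point x of |X| with image y at which f is quasi-finite (some etale chart diagram through x has top
arrow locally quasi-finite and locally of finite type on an open neighbourhood), there are an etale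
morphism a : U ⟶ Y and a point u of |U| over y such that for the base change P = U ×_Y X there is an
open and closed subspace V ⊂ P, finite over U, containing a point mapping to x in |X| and to u in
|U|. -/
theorem result {S : Scheme.{u}} {X Y : AlgSp.Space S} (f : X ⟶ Y) (x : AlgSp.Points X.obj)
    (hf1 : AlgSp.LocP @LocallyOfFiniteType f.hom) (hf2 : AlgSp.IsSeparatedMor f.hom)
    (hf3 : AlgSp.HasAtMor (fun U _ h u => ∃ W : U.Opens, u ∈ W ∧ LocallyQuasiFinite (W.ι ≫ h) ∧ LocallyOfFiniteType (W.ι ≫ h)) f.hom x) :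
    ∃ (U : AlgSp.Space S) (a : U ⟶ Y) (u : AlgSp.Points U.obj), AlgSp.IsEtaleMor a.hom ∧
      AlgSp.Points.map a.hom u = AlgSp.Points.map f.hom x ∧
      ∀ (P : AlgSp.Space S) (prX : P ⟶ X) (prU : P ⟶ U), IsPullback prX.hom prU.hom f.hom a.hom →
        ∃ (V : AlgSp.Space S) (jV : V ⟶ P), AlgSp.RepWith @IsOpenImmersion jV.hom ∧ AlgSp.RepWith @IsClosedImmersion jV.hom ∧
          AlgSp.IsFiniteMor (jV ≫ prU).hom ∧
          ∃ v : AlgSp.Points V.obj, AlgSp.Points.map (jV ≫ prX).hom v = x ∧ AlgSp.Points.map (jV ≫ prU).hom v = u := by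
  obtain ⟨V₁, b, v₁, hV₁, hb, hy⟩ :=
    Groth.AlgSp2.SplitOff.exists_affine_chart_through Y (AlgSp.Points.map f.hom x)
  have sqb := IsPullback.of_hasPullback f.hom b
  obtain ⟨z, hz₁, hz₂⟩ := Groth.AlgSpBasic.exists_point_of_isPullback sqb (x := x)
    (y := AlgSp.Points.ofScheme V₁ v₁) (by rw [AlgSp.Points.map_ofPt, Category.id_comp, hy])
  obtain ⟨U, a, u, g, ha, hab, hgu, hau, H⟩ := Groth.AlgSp2.SplitOff.exists_split_off f hf1 hf2 b hb v₁
    (n := 1) (fun _ => z) (fun _ => hz₂) (fun _ => hz₁.symm ▸ hf3)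
  refine ⟨U, a, u, ha, hau.trans hy, fun P prX prU sq => ?_⟩
  obtain ⟨V, jV, ho, hc, hfin, -, hout⟩ := H P prX prU sq
  refine ⟨V, jV, ho, hc, hfin, ?_⟩
  have sq' : IsPullback prX.hom prU.hom f.hom (g ≫ b) := hab ▸ sq
  let q : P.obj ⟶ pullback f.hom b := sqb.lift prX.hom (prU.hom ≫ g)
    (by rw [Category.assoc]; exact sq'.w)
  have sqq : IsPullback q prU.hom (pullback.snd f.hom b) g :=
    IsPullback.of_right (by rw [sqb.lift_fst]; exact sq') (sqb.lift_snd _ _ _) sqb
  obtain ⟨w, hw₁, hw₂⟩ := Groth.AlgSpBasic.exists_point_of_isPullback sqq (x := z) (y := u)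
    (hz₂.trans hgu.symm)
  have huniq : ∀ q' : P.obj ⟶ pullback f.hom b, q' ≫ pullback.fst f.hom b = prX.hom →
      q' ≫ pullback.snd f.hom b = prU.hom ≫ g → AlgSp.Points.map q' w = z := fun q' h₁ h₂ => by
    rw [show q' = q from sqb.hom_ext (by rw [h₁, sqb.lift_fst]) (by rw [h₂, sqb.lift_snd]), hw₁]
  obtain ⟨v, rfl⟩ := hout w hw₂ ⟨0, huniq⟩
  refine ⟨v, ?_, (AlgSp.Points.map_comp _ _ _).trans hw₂⟩
  show AlgSp.Points.map (jV.hom ≫ prX.hom) v = x
  rw [AlgSp.Points.map_comp, ← sqb.lift_fst prX.hom (prU.hom ≫ g) (by rw [Category.assoc]; exact sq'.w),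
    AlgSp.Points.map_comp, hw₁, hz₁]

end Groth.Agent.S10677
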