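import Groth.Statements.S10680
import Groth.Agent.AlgSp2.FibreDimSpace
-- import your own Groth.Agent.* helpers here

set_option autoImplicit false
universe u
open CategoryTheory CategoryTheory.Limits AlgebraicGeometry
open AlgSp

namespace Groth.Agent.S10680

/-- For a proper morphism f : X ⟶ Y between algebraic spaces over S the fibre dimension function on |Y|
is upper semi-continuous: for every d the set of y such that every fibre X_k over y (k a field point
in the class of y, X_k any pullback in fppf sheaves) has dimension less than d is open. -/
theorem result {S : Scheme.{u}} {X Y : AlgSp.Space S} (f : X ⟶ Y) (hf : AlgSp.IsProperMor f.hom) (d : WithBot ℕ∞) :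
    IsOpen {y : AlgSp.Points Y.obj | ∀ (k : AlgSp.FieldPt Y.obj), AlgSp.Points.mk k = y →
      ∀ (Xk : AlgSp.Sp S) (fst : Xk ⟶ X.obj) (snd : Xk ⟶ (AlgSp.yon S).obj k.pt),
        IsPullback fst snd f.hom k.toHom → AlgSp.dim Xk < d} := by
  have hcl : IsClosedMap (AlgSp.Points.map f.hom) :=
    Groth.AlgSp2.isClosedMor_of_univClosed Y.property hf.2.2
  have hlft := hf.2.1.1
  induction d with
  | bot =>
    rw [Groth.AlgSp2.FibreDimSpace.setOf_fibre X.property Y.property hlft (· < ⊥) (fun _ => False)
      (fun k δ h => iff_of_false not_lt_bot id)]
    exact isOpen_empty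
  | coe c =>
    induction c with
    | top =>
      have e : ∀ δ : WithBot ℕ∞, δ < ((⊤ : ℕ∞) : WithBot ℕ∞) ↔
          ∃ n : ℕ, δ ≤ (n : WithBot ℕ∞) := by
        intro δ
        induction δ with
        | bot => exact iff_of_true (WithBot.bot_lt_coe _) ⟨0, bot_le⟩
        | coe c =>
          induction c with
          | top =>
            exact iff_of_false (lt_irrefl _) (fun ⟨n, hn⟩ =>
              not_le.2 (WithBot.coe_lt_coe.2 (ENat.natCast_lt_top n)) hn)
          | coe m => exact iff_of_true (WithBot.coe_lt_coe.2 (ENat.natCast_lt_top m)) ⟨m, le_rfl⟩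
      rw [Groth.AlgSp2.FibreDimSpace.setOf_fibre X.property Y.property hlft
        (· < ((⊤ : ℕ∞) : WithBot ℕ∞))
        (fun y => ∃ n : ℕ, Groth.AlgSp2.FibreDimSpace.RelDimLE f.hom (n : WithBot ℕ∞) y)
        (fun k δ h => (e δ).trans (exists_congr fun n => h _))]
      simp only [Set.ofPred_exists]
      exact isOpen_iUnion fun n =>
        Groth.AlgSp2.FibreDimSpace.isOpen_relDimLE X.property Y.property hlft hcl n
    | coe n =>
      cases n with
      | zero =>
        rw [Groth.AlgSp2.FibreDimSpace.setOf_fibre X.property Y.property hlft
          (· < (((0 : ℕ) : ℕ∞) : WithBot ℕ∞))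
          (Groth.AlgSp2.FibreDimSpace.RelDimLE f.hom ⊥)
          (fun k δ h => by
            rw [← h]
            induction δ with
            | bot => simp
            | coe c => simp)]
        exact Groth.AlgSp2.FibreDimSpace.isOpen_relDimLE_bot X.property Y.property hcl
      | succ n =>
        rw [Groth.AlgSp2.FibreDimSpace.setOf_fibre X.property Y.property hlft
          (· < (((n + 1 : ℕ) : ℕ∞) : WithBot ℕ∞))
          (Groth.AlgSp2.FibreDimSpace.RelDimLE f.hom (n : WithBot ℕ∞))
          (fun k δ h => by
            rw [← h]
            induction δ with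
            | bot => simp
            | coe c =>
              induction c with
              | top =>
                exact iff_of_false (fun h => absurd (WithBot.coe_lt_coe.1 h) (not_lt.2 le_top))
                  (fun h => not_le.2 (WithBot.coe_lt_coe.2 (ENat.natCast_lt_top n)) h)
              | coe m => norm_cast; omega)]
        exact Groth.AlgSp2.FibreDimSpace.isOpen_relDimLE X.property Y.property hlft hcl n

end Groth.Agent.S10680
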