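import Groth.Agent.AlgSp2.FibreCount.Space
import Groth.Agent.AlgSpEt.Local

set_option autoImplicit false
set_option backward.isDefEq.respectTransparency.types false
universe u
open CategoryTheory CategoryTheory.Limits AlgebraicGeometry
open AlgSp

namespace Groth.Agent.S10684

/-- For a proper flat morphism f : X ⟶ Y between algebraic spaces over S which is of finite
presentation, the function on |Y| counting the connected components of geometric fibres (for y, the
number in ℕ∞ of connected components of the space of points of X_k for an algebraically closed field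
point k in the class of y) is lower semi-continuous: for each d the set of y all of whose geometric
fibres have more than d connected components is open. -/
theorem result {S : Scheme.{u}} {X Y : AlgSp.Space S} (f : X ⟶ Y)
    (hf1 : AlgSp.IsProperMor f.hom) (hf2 : AlgSp.LocP @Flat f.hom) (hf3 : AlgSp.IsFinitePresentationMor f.hom) (d : ℕ∞) :
    IsOpen {y : AlgSp.Points Y.obj | ∀ (k : AlgSp.FieldPt Y.obj), AlgSp.Points.mk k = y → k.IsGeometric →
        ∀ (Xk : AlgSp.Sp S) (a : Xk ⟶ X.obj) (b : Xk ⟶ (AlgSp.yon S).obj k.pt), IsPullback a b f.hom k.toHom →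
          d < ENat.card (_root_.ConnectedComponents (AlgSp.Points Xk))} := by
  open Groth.AlgSpBasic Groth.AlgSp2.FibreCount in
  exact by
    refine isOpen_iff_forall_mem_open.2 fun y₀ hy₀ => ?_
    obtain ⟨U₀, a, ha, has⟩ := Y.property.atlas
    obtain ⟨u₀, rfl⟩ := surjective_ofPt_of_repWith has y₀
    obtain ⟨V, hV, hu, -⟩ := exists_isAffineOpen_mem_and_subset (x := u₀) (U := (⊤ : U₀.left.Opens)) trivial
    obtain ⟨v₀, hv₀⟩ : u₀ ∈ Set.range hV.fromSpec := hV.range_fromSpec.ge hu
    let g : Spec (CommRingCat.of Γ(U₀.left, V)) ⟶ S := hV.fromSpec ≫ U₀.hom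
    let j : Over.mk g ⟶ U₀ := Over.homMk hV.fromSpec rfl
    let e : (yon S).obj (Over.mk g) ⟶ Y.obj := (yon S).map j ≫ a
    have he : RepWith @Etale e :=
      repWith_comp ((repWith_yon_map_iff _ j).2 (show Etale hV.fromSpec from inferInstance)) ha
    let P := Limits.pullback f.hom e
    let pr : P ⟶ (yon S).obj (Over.mk g) := Limits.pullback.snd f.hom e
    have hT : AlgSp.IsAlgSpace ((yon S).obj (Over.mk g)) := AlgSp.IsAlgSpace.yon_obj _
    have hsq : IsPullback (Limits.pullback.fst f.hom e) pr f.hom e := IsPullback.of_hasPullback _ _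
    have hP : AlgSp.IsAlgSpace P := isAlgSpace_of_isPullback hsq Y.property.diag X.property hT
    have hpr : AlgSp.IsProperMor pr :=
      Groth.AlgStBasic.stableBaseChange_proper X.property Y.property hP hT f.hom e pr (Limits.pullback.fst f.hom e) hsq hf1
    have hfl : AlgSp.LocP @Flat pr := locP_of_isPullback X.property Y.property hT hsq hf2
    have hfp : AlgSp.LocP @LocallyOfFinitePresentation pr := locP_of_isPullback X.property Y.property hT hsq hf3.1
    -- geometric points of the chart
    let pk : ∀ (k : Type u) [Field k] [Algebra Γ(U₀.left, V) k], AlgSp.FieldPt Y.obj := fun k _ _ =>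
      { K := k, str := eS Γ(U₀.left, V) k ≫ g, val := yEquiv ((yon S).map (ψ g k) ≫ e) }
    have hpk : ∀ (k : Type u) [Field k] [Algebra Γ(U₀.left, V) k],
        (pk k).toHom = (yon S).map (ψ g k) ≫ e := fun k _ _ => Equiv.symm_apply_apply _ _
    have hpt : ∀ (k : Type u) [Field k] [Algebra Γ(U₀.left, V) k],
        AlgSp.Points.mk (pk k) = AlgSp.Points.ofPt e (imPt Γ(U₀.left, V) k) := fun k _ _ => by
      rw [← AlgSp.Points.ofPt_toHom (pk k) (IsLocalRing.closedPoint k), hpk]
      exact ofPt_comp_yon (ψ g k) e (IsLocalRing.closedPoint k)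
    have hfib : ∀ (k : Type u) [Field k] [Algebra Γ(U₀.left, V) k],
        IsPullback (Limits.pullback.fst pr ((yon S).map (ψ g k)) ≫ Limits.pullback.fst f.hom e)
          (Limits.pullback.snd pr ((yon S).map (ψ g k))) f.hom (pk k).toHom := fun k _ _ => by
      rw [hpk]
      exact (IsPullback.of_hasPullback pr ((yon S).map (ψ g k))).paste_horiz hsq
    obtain ⟨k₀, _, _, _, hk₀⟩ := exists_geom v₀
    have hy : AlgSp.Points.mk (pk k₀) = AlgSp.Points.ofPt a u₀ := by
      rw [hpt, hk₀, ← hv₀]
      exact ofPt_comp_yon j a v₀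
    have hd := hy₀ (pk k₀) hy ‹IsAlgClosed k₀› _ _ _ (hfib k₀)
    cases d with
    | top => exact absurd hd not_top_lt
    | coe n =>
      obtain ⟨O, hO, hk, hO'⟩ := exists_open_nhds g pr hP hpr hfl hfp k₀ n hd
      refine ⟨AlgSp.Points.ofPt e '' O, ?_, isOpenMap_ofPt_of_etale he _ hO, ⟨_, hk, (hpt k₀).symm.trans hy⟩⟩
      rintro _ ⟨t, ht, rfl⟩ k hk' hkg Xk b b' hb
      obtain ⟨k₁, _, h₁, _, ht₁, hlt⟩ := hO' t ht
      refine hlt.trans_eq ?_
      exact Groth.AlgSp2.GeomConnFibre.card_of_rel f.hom (p := pk k₁) (q := k) h₁ hkg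
        (AlgSp.Points.mk_eq_mk_iff.1 (by rw [hk', hpt, ht₁])) (hfib k₁) hb

end Groth.Agent.S10684
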