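import Groth.Agent.AlgSp2.FibreCount.Upper
import Groth.Agent.AlgSpEt.Local

set_option autoImplicit false
set_option backward.isDefEq.respectTransparency.types false
universe u
open CategoryTheory CategoryTheory.Limits AlgebraicGeometry
open AlgSp

namespace Groth.Agent.S10685

/-- For a proper flat morphism f : X ⟶ Y between algebraic spaces over S which is of finite presentation
and all of whose fibres are geometrically reduced (the fibre of f at y being geometrically reduced
means: for every field point k of Y in the class of y and every field homomorphism k ⟶ k', the base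
change X_{k'} (pullback in fppf sheaves) is reduced (some etale surjective scheme chart is
reduced)), the function on |Y| counting the connected components of geometric fibres is locally
constant: for each d the set of y all of whose geometric fibres (X_k for an algebraically closed
field point k in the class of y) have exactly d connected components, counted in ℕ∞, is open. -/
theorem result {S : Scheme.{u}} {X Y : AlgSp.Space S} (f : X ⟶ Y)
    (hf1 : AlgSp.IsProperMor f.hom) (hf2 : AlgSp.LocP @Flat f.hom) (hf3 : AlgSp.IsFinitePresentationMor f.hom)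
    (hred : ∀ y : AlgSp.Points Y.obj, ∀ (k : AlgSp.FieldPt Y.obj), AlgSp.Points.mk k = y →
        ∀ (k' : Type u) [Field k'] (φ : k.K →+* k') (Xk' : AlgSp.Sp S) (a : Xk' ⟶ X.obj)
          (b : Xk' ⟶ (AlgSp.yon S).obj (Over.mk (Spec.map (CommRingCat.ofHom φ) ≫ k.str))),
          IsPullback a b f.hom ((AlgSp.yon S).map (Over.homMk (Spec.map (CommRingCat.ofHom φ)) rfl :
            Over.mk (Spec.map (CommRingCat.ofHom φ) ≫ k.str) ⟶ k.pt) ≫ k.toHom) →
          AlgSp.EtaleLocally (fun U => IsReduced U) Xk') (d : ℕ∞) :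
    IsOpen {y : AlgSp.Points Y.obj | ∀ (k : AlgSp.FieldPt Y.obj), AlgSp.Points.mk k = y → k.IsGeometric →
        ∀ (Xk : AlgSp.Sp S) (a : Xk ⟶ X.obj) (b : Xk ⟶ (AlgSp.yon S).obj k.pt), IsPullback a b f.hom k.toHom →
          ENat.card (_root_.ConnectedComponents (AlgSp.Points Xk)) = d} := by
  open Groth.AlgSpBasic Groth.AlgSp2.FibreCount in
  exact by
    refine isOpen_iff_forall_mem_open.2 fun y₀ hy₀ => ?_
    obtain ⟨U₀, a, ha, has⟩ := Y.property.atlas
    obtain ⟨u₀, rfl⟩ := surjective_ofPt_of_repWith has y₀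
    obtain ⟨V, hV, hu, -⟩ := exists_isAffineOpen_mem_and_subset (x := u₀) (U := (⊤ : U₀.left.Opens)) trivial
    obtain ⟨v₀, hv₀⟩ : u₀ ∈ Set.range hV.fromSpec := hV.range_fromSpec.ge hu
    let g : Spec (CommRingCat.of Γ(U₀.left, V)) ⟶ S := hV.fromSpec ≫ U₀.hom
    let j : Over.mk g ⟶ U₀ := Over.homMk hV.fromSpec rfl
    let e : (yon S).obj (Over.mk g) ⟶ Y.obj := (yon S).map j ≫ a
    have he : RepWith @Etale e :=
      repWith_comp ((repWith_yon_map_iff _ j).2 (show Etale hV.fromSpec from inferInstance)) ha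
    let P := Limits.pullback f.hom e
    let pr : P ⟶ (yon S).obj (Over.mk g) := Limits.pullback.snd f.hom e
    have hT : AlgSp.IsAlgSpace ((yon S).obj (Over.mk g)) := AlgSp.IsAlgSpace.yon_obj _
    have hsq : IsPullback (Limits.pullback.fst f.hom e) pr f.hom e := IsPullback.of_hasPullback _ _
    have hP : AlgSp.IsAlgSpace P := isAlgSpace_of_isPullback hsq Y.property.diag X.property hT
    have hpr : AlgSp.IsProperMor pr :=
      Groth.AlgStBasic.stableBaseChange_proper X.property Y.property hP hT f.hom e pr (Limits.pullback.fst f.hom e) hsq hf1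
    have hfl : AlgSp.LocP @Flat pr := locP_of_isPullback X.property Y.property hT hsq hf2
    have hfp : AlgSp.LocP @LocallyOfFinitePresentation pr := locP_of_isPullback X.property Y.property hT hsq hf3.1
    -- geometric points of the chart
    let pk : ∀ (k : Type u) [Field k] [Algebra Γ(U₀.left, V) k], AlgSp.FieldPt Y.obj := fun k _ _ =>
      { K := k, str := eS Γ(U₀.left, V) k ≫ g, val := yEquiv ((yon S).map (ψ g k) ≫ e) }
    have hpk : ∀ (k : Type u) [Field k] [Algebra Γ(U₀.left, V) k],
        (pk k).toHom = (yon S).map (ψ g k) ≫ e := fun k _ _ => Equiv.symm_apply_apply _ _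
    have hpt : ∀ (k : Type u) [Field k] [Algebra Γ(U₀.left, V) k],
        AlgSp.Points.mk (pk k) = AlgSp.Points.ofPt e (imPt Γ(U₀.left, V) k) := fun k _ _ => by
      rw [← AlgSp.Points.ofPt_toHom (pk k) (IsLocalRing.closedPoint k), hpk]
      exact ofPt_comp_yon (ψ g k) e (IsLocalRing.closedPoint k)
    have hfib : ∀ (k : Type u) [Field k] [Algebra Γ(U₀.left, V) k],
        IsPullback (Limits.pullback.fst pr ((yon S).map (ψ g k)) ≫ Limits.pullback.fst f.hom e)
          (Limits.pullback.snd pr ((yon S).map (ψ g k))) f.hom (pk k).toHom := fun k _ _ => by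
      rw [hpk]
      exact (IsPullback.of_hasPullback pr ((yon S).map (ψ g k))).paste_horiz hsq
    obtain ⟨k₀, _, _, _, hk₀⟩ := exists_geom v₀
    have hy : AlgSp.Points.mk (pk k₀) = AlgSp.Points.ofPt a u₀ := by
      rw [hpt, hk₀, ← hv₀]
      exact ofPt_comp_yon j a v₀
    have hd := hy₀ (pk k₀) hy ‹IsAlgClosed k₀› _ _ _ (hfib k₀)
    have hred' : ∀ (K : Type u) [Field K] [Algebra Γ(U₀.left, V) K], AlgSp.IsReducedSp (PE g pr K) := fun K _ _ => by
      let ι : Over.mk (Spec.map (CommRingCat.ofHom (RingHom.id K)) ≫ (pk K).str) ⟶ (pk K).pt :=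
        Over.homMk (Spec.map (CommRingCat.ofHom (RingHom.id K))) rfl
      have : IsIso ι := by
        have : IsIso ((Over.forget S).map ι) := by
          show IsIso (Spec.map (CommRingCat.ofHom (RingHom.id K)))
          rw [CommRingCat.ofHom_id, Spec.map_id]
          infer_instance
        exact isIso_of_reflects_iso ι (Over.forget S)
      exact hred (AlgSp.Points.mk (pk K)) (pk K) rfl K (RingHom.id K) (PE g pr K)
        (Limits.pullback.fst pr ((yon S).map (ψ g K)) ≫ Limits.pullback.fst f.hom e)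
        (Limits.pullback.snd pr ((yon S).map (ψ g K)) ≫ inv ((yon S).map ι))
        (IsPullback.of_iso (hfib K) (Iso.refl _) (Iso.refl _) (asIso ((yon S).map ι)).symm (Iso.refl _)
          ((Category.comp_id _).trans (Category.id_comp _).symm) (Category.id_comp _).symm
          ((Category.comp_id _).trans (Category.id_comp _).symm)
          ((Category.comp_id _).trans (IsIso.inv_hom_id_assoc ((yon S).map ι) _).symm))
    have := finite_connectedComponents_PE g pr hP hpr k₀
    obtain ⟨n, rfl⟩ : ∃ n : ℕ, (n : ℕ∞) = d := ⟨Nat.card (_root_.ConnectedComponents (AlgSp.Points (PE g pr k₀))), by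
      rw [← hd]; exact (ENat.card_eq_coe_natCard _).symm⟩
    obtain ⟨O, hO, hk, hO'⟩ := exists_open_nhds_le g pr hP hpr hfl hfp hred' k₀
    obtain ⟨O₂, hO₂, hk₂, hO₂'⟩ : ∃ O₂ : Set ↥(Spec (CommRingCat.of Γ(U₀.left, V))), IsOpen O₂ ∧
        imPt Γ(U₀.left, V) k₀ ∈ O₂ ∧ ∀ t ∈ O₂, ∃ (k' : Type u) (_ : Field k') (_ : IsAlgClosed k')
          (_ : Algebra Γ(U₀.left, V) k'), imPt Γ(U₀.left, V) k' = t ∧
            (n : ℕ∞) ≤ ENat.card (_root_.ConnectedComponents (AlgSp.Points (PE g pr k'))) := by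
      cases n with
      | zero => exact ⟨Set.univ, isOpen_univ, Set.mem_univ _, fun t _ => by
          obtain ⟨k', i₁, i₂, i₃, h⟩ := exists_geom t
          exact ⟨k', i₁, i₂, i₃, h, by simp⟩⟩
      | succ m =>
        obtain ⟨O₂, h₁, h₂, h₃⟩ := exists_open_nhds g pr hP hpr hfl hfp k₀ m (by
          rw [hd]; exact_mod_cast Nat.lt_succ_self m)
        refine ⟨O₂, h₁, h₂, fun t ht => ?_⟩
        obtain ⟨k', i₁, i₂, i₃, h, hlt⟩ := h₃ t ht
        exact ⟨k', i₁, i₂, i₃, h, by push_cast; exact Order.add_one_le_of_lt hlt⟩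
    refine ⟨AlgSp.Points.ofPt e '' (O ∩ O₂), ?_, isOpenMap_ofPt_of_etale he _ (hO.inter hO₂),
      ⟨_, ⟨hk, hk₂⟩, (hpt k₀).symm.trans hy⟩⟩
    rintro _ ⟨t, ⟨ht, ht'⟩, rfl⟩ k hk' hkg Xk b b' hb
    obtain ⟨k₁, _, h₁, _, ht₁, hle⟩ := hO' t ht
    obtain ⟨k₂, _, h₂, _, ht₂, hge⟩ := hO₂' t ht'
    refine le_antisymm ?_ ?_
    · rw [Groth.AlgSp2.GeomConnFibre.card_of_rel f.hom (p := k) (q := pk k₁) hkg h₁
        (AlgSp.Points.mk_eq_mk_iff.1 (by rw [hk', hpt, ht₁])) hb (hfib k₁), ← hd]
      exact hle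
    · rw [Groth.AlgSp2.GeomConnFibre.card_of_rel f.hom (p := k) (q := pk k₂) hkg h₂
        (AlgSp.Points.mk_eq_mk_iff.1 (by rw [hk', hpt, ht₂])) hb (hfib k₂)]
      exact hge

end Groth.Agent.S10685
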