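import Groth.Statements.S10692
import Groth.Agent.AlgSp2.FibreDimSpace
-- import your own Groth.Agent.* helpers here

set_option autoImplicit false
universe u
open CategoryTheory CategoryTheory.Limits AlgebraicGeometry
open AlgSp

namespace Groth.Agent.S10692

/-- For a proper flat morphism f : X ⟶ Y between algebraic spaces over S which is of finite
presentation, the fibre dimension function on |Y| is locally constant: for every d the set of y such
that every fibre X_k over y (k a field point in the class of y, X_k any pullback in fppf sheaves)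
has dimension exactly d is open. -/
theorem result {S : Scheme.{u}} {X Y : AlgSp.Space S} (f : X ⟶ Y) (hf1 : AlgSp.IsProperMor f.hom)
    (hf2 : AlgSp.LocP @Flat f.hom) (hf3 : AlgSp.IsFinitePresentationMor f.hom) (d : WithBot ℕ∞) :
    IsOpen {y : AlgSp.Points Y.obj | ∀ (k : AlgSp.FieldPt Y.obj), AlgSp.Points.mk k = y →
      ∀ (Xk : AlgSp.Sp S) (fst : Xk ⟶ X.obj) (snd : Xk ⟶ (AlgSp.yon S).obj k.pt),
        IsPullback fst snd f.hom k.toHom → AlgSp.dim Xk = d} := by
  have hcl : IsClosedMap (AlgSp.Points.map f.hom) :=
    Groth.AlgSp2.isClosedMor_of_univClosed Y.property hf1.2.2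
  have hlft := hf1.2.1.1
  induction d with
  | bot =>
    rw [Groth.AlgSp2.FibreDimSpace.setOf_fibre X.property Y.property hlft (· = ⊥)
      (Groth.AlgSp2.FibreDimSpace.RelDimLE f.hom ⊥)
      (fun k δ h => by rw [← h, le_bot_iff])]
    exact Groth.AlgSp2.FibreDimSpace.isOpen_relDimLE_bot X.property Y.property hcl
  | coe c =>
    induction c with
    | top =>
      rw [Groth.AlgSp2.FibreDimSpace.setOf_fibre X.property Y.property hlft
        (· = ((⊤ : ℕ∞) : WithBot ℕ∞)) (fun _ => False)
        (fun k δ h => by
          obtain ⟨n, hn⟩ := Groth.AlgSp2.FibreDimSpace.exists_relDimLE X.property Y.property hlft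
            hf1.2.1.2 (AlgSp.Points.mk k)
          refine iff_of_false (fun e => ?_) id
          exact not_le.2 (WithBot.coe_lt_coe.2 (ENat.natCast_lt_top n)) (e ▸ (h _).2 hn))]
      exact isOpen_empty
    | coe n =>
      cases n with
      | zero =>
        rw [Groth.AlgSp2.FibreDimSpace.setOf_fibre X.property Y.property hlft
          (· = (((0 : ℕ) : ℕ∞) : WithBot ℕ∞))
          (fun y => Groth.AlgSp2.FibreDimSpace.RelDimLE f.hom ((0 : ℕ) : WithBot ℕ∞) y ∧
            ¬ Groth.AlgSp2.FibreDimSpace.RelDimLE f.hom ⊥ y)
          (fun k δ h => by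
            rw [← h, ← h]
            induction δ with
            | bot => simp
            | coe c => simp)]
        exact (Groth.AlgSp2.FibreDimSpace.isOpen_relDimLE X.property Y.property hlft hcl 0).inter
          (Groth.AlgSp2.FibreDimSpace.isOpen_not_relDimLE X.property Y.property hf2 hf3.1
            hf3.2.1 ⊥)
      | succ n =>
        rw [Groth.AlgSp2.FibreDimSpace.setOf_fibre X.property Y.property hlft
          (· = (((n + 1 : ℕ) : ℕ∞) : WithBot ℕ∞))
          (fun y => Groth.AlgSp2.FibreDimSpace.RelDimLE f.hom ((n + 1 : ℕ) : WithBot ℕ∞) y ∧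
            ¬ Groth.AlgSp2.FibreDimSpace.RelDimLE f.hom (n : WithBot ℕ∞) y)
          (fun k δ h => by
            rw [← h, ← h]
            induction δ with
            | bot => exact iff_of_false (WithBot.bot_ne_coe) (fun e => e.2 bot_le)
            | coe c =>
              induction c with
              | top =>
                refine iff_of_false (fun e => ?_) (fun e => ?_)
                · exact ENat.natCast_ne_top _ (WithBot.coe_inj.1 e).symm
                · exact not_le.2 (WithBot.coe_lt_coe.2 (ENat.natCast_lt_top _)) e.1
              | coe m => norm_cast; omega)]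
        exact (Groth.AlgSp2.FibreDimSpace.isOpen_relDimLE X.property Y.property hlft hcl (n + 1)).inter
          (Groth.AlgSp2.FibreDimSpace.isOpen_not_relDimLE X.property Y.property hf2 hf3.1
            hf3.2.1 n)

end Groth.Agent.S10692
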