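import Groth.Statements.S10695
import Groth.Agent.AlgSpBasic.ElemDistPushout

set_option autoImplicit false
universe u
open CategoryTheory CategoryTheory.Limits AlgebraicGeometry
open AlgSp Groth.AlgSpBasic

namespace Groth.Agent.S10695

/-- Suppose `(U ⊂ W, f : V → W)`, a square of algebraic spaces over `S`, is elementary distinguished
(`j` an open immersion, `f` etale and an isomorphism over the reduced closed complement of `U`) and
let `P` with its two projections be a fibre product `U ×_W V`. Then `W` is the pushout of `U` and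
`V` along `P` among algebraic spaces over `S`. -/
theorem result {S : Scheme.{u}} {U V W P : AlgSp.Space S} (j : U ⟶ W) (f : V ⟶ W)
    (hsq : AlgSp.IsElemDistSq j.hom f.hom) (p : P ⟶ U) (q : P ⟶ V)
    (hP : IsPullback p.hom q.hom j.hom f.hom) : IsPushout p q j f := by
  have key : ∀ (Q : AlgSp.Space S) (a : U ⟶ Q) (b : V ⟶ Q), p ≫ a = q ≫ b →
      ∃! m : W ⟶ Q, j ≫ m = a ∧ f ≫ m = b := fun Q a b hab => by
    obtain ⟨m, ⟨h₁, h₂⟩, hu⟩ := Groth.AlgSpBasic.existsUnique_of_elemDist U.property V.property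
      W.property hsq hP a.hom b.hom (congrArg (fun k : P ⟶ Q => k.hom) hab)
    exact ⟨⟨m⟩, ⟨InducedCategory.hom_ext h₁, InducedCategory.hom_ext h₂⟩, fun m' hm' =>
      InducedCategory.hom_ext (hu m'.hom ⟨congrArg (fun k : U ⟶ Q => k.hom) hm'.1,
        congrArg (fun k : V ⟶ Q => k.hom) hm'.2⟩)⟩
  choose m hm hu using key
  exact ⟨⟨InducedCategory.hom_ext hP.w⟩, ⟨PushoutCocone.IsColimit.mk _
    (fun s => m _ s.inl s.inr s.condition) (fun s => (hm _ _ _ _).1) (fun s => (hm _ _ _ _).2)
    fun s k h₁ h₂ => hu _ _ _ _ k ⟨h₁, h₂⟩⟩⟩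

end Groth.Agent.S10695
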