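import Groth.Statements.S10698
import Groth.Agent.AlgSp2.SepPieces
import Groth.Agent.AlgSp2.ESBasic
-- import your own Groth.Agent.* helpers here

set_option autoImplicit false
set_option backward.isDefEq.respectTransparency.types false
universe u
open CategoryTheory CategoryTheory.Limits AlgebraicGeometry
open AlgSp

namespace Groth.Agent.S10698

/-- Let `g : X → Y` be a morphism of algebraic spaces over `S` and `(U ⊂ X, f : V → X)` an elementary
distinguished square. Suppose `U → Y` and `V → Y` are both separated, that the canonical morphism `c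
: U ×_X V → U ×_Y V` (between chosen fibre products `PX`, `PY`) is closed on points, and that the
canonical morphism `d : V ×_X V → V ×_Y V` (between chosen fibre products `QX`, `QY`) is
representable and a closed immersion. Then `g` is separated. (The published statement omits the
condition on `V ×_X V → V ×_Y V`; its proof identifies the piece of `X ×_Y X` over `V ×_Y V` with
`V`, which is `V ×_X V`, and without that condition the affine line with doubled origin over a
field, with `U` the complement of the two origins and `V` the disjoint union of the two standard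
charts, satisfies every other hypothesis and is not separated. With it, the diagonal of `g` is a
closed immersion over each of the four pieces `U ×_Y U`, `U ×_Y V`, `V ×_Y U`, `V ×_Y V` of an etale
cover of `X ×_Y X`; for `c`, which is an immersion because `U → X` is an open immersion and `U → Y`
is separated, closedness on points suffices.) -/
theorem result {S : Scheme.{u}} {U V X Y PX PY QX QY : AlgSp.Space S} (g : X ⟶ Y)
    (j : U ⟶ X) (f : V ⟶ X) (hsq : AlgSp.IsElemDistSq j.hom f.hom)
    (hU : AlgSp.IsSeparatedMor (j ≫ g).hom) (hV : AlgSp.IsSeparatedMor (f ≫ g).hom)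
    (pX : PX ⟶ U) (qX : PX ⟶ V) (hPX : IsPullback pX.hom qX.hom j.hom f.hom)
    (pY : PY ⟶ U) (qY : PY ⟶ V) (hPY : IsPullback pY.hom qY.hom (j ≫ g).hom (f ≫ g).hom)
    (c : PX ⟶ PY) (hc₁ : c ≫ pY = pX) (hc₂ : c ≫ qY = qX) (hcl : AlgSp.IsClosedMor c.hom)
    (rX₁ rX₂ : QX ⟶ V) (hQX : IsPullback rX₁.hom rX₂.hom f.hom f.hom)
    (rY₁ rY₂ : QY ⟶ V) (hQY : IsPullback rY₁.hom rY₂.hom (f ≫ g).hom (f ≫ g).hom)
    (d : QX ⟶ QY) (hd₁ : d ≫ rY₁ = rX₁) (hd₂ : d ≫ rY₂ = rX₂)
    (hdcl : AlgSp.RepWith @IsClosedImmersion d.hom) : AlgSp.IsSeparatedMor g.hom := by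
  obtain ⟨hj, hf, T, P, i, p₁, p₂, hi, sqP, hp₁⟩ := hsq
  have : Mono j.hom := Groth.AlgSpBasic.mono_of_repWith
    (fun _ _ k (hk : IsOpenImmersion k) => (inferInstance : Mono k)) hj
  have hPX' : IsPullback pX.hom qX.hom j.hom f.hom := hPX
  -- `c` is a closed immersion
  have hc : RepWith @IsClosedImmersion c.hom := by
    have hqY : AlgSp.IsSeparatedMor qY.hom :=
      Groth.AlgSpBasic.repWith_diagonal_baseChange hPY hU
    obtain ⟨Q, Γ, r₁, r₂, hQ, hΓ, sqQ, e⟩ :=
      Groth.AlgSp2.exists_factor_of_separated PX.property PY.property V.property c.hom hqY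
    have hcq : c.hom ≫ qY.hom = qX.hom := congrArg (fun k : PX ⟶ V => k.hom) hc₂
    rw [hcq] at sqQ
    have hr : RepWith @IsImmersion r₂ := Groth.AlgSpBasic.repWith_mono
      (fun _ _ k (hk : IsOpenImmersion k) => (inferInstance : IsImmersion k))
      (Groth.AlgSpBasic.repWith_of_isPullback sqQ
        (Groth.AlgSpBasic.repWith_of_isPullback hPX' hj))
    refine Groth.AlgSp2.repWith_isClosedImmersion_of_isImmersion ?_ ?_
    · rw [← e]
      exact Groth.AlgSpBasic.repWith_comp (Groth.AlgSpBasic.repWith_mono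
        (fun _ _ k (hk : IsClosedImmersion k) => (inferInstance : IsImmersion k)) hΓ) hr
    · exact hcl.isClosed_range
  have hc₁' : c.hom ≫ pY.hom = pX.hom := congrArg (fun k : PX ⟶ U => k.hom) hc₁
  have hc₂' : c.hom ≫ qY.hom = qX.hom := congrArg (fun k : PX ⟶ V => k.hom) hc₂
  have hd₁' : d.hom ≫ rY₁.hom = rX₁.hom := congrArg (fun k : QX ⟶ V => k.hom) hd₁
  have hd₂' : d.hom ≫ rY₂.hom = rX₂.hom := congrArg (fun k : QX ⟶ V => k.hom) hd₂
  have hUg : AlgSp.IsSeparatedMor (j.hom ≫ g.hom) := hU
  -- the covering of `X` by `U` and `V`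
  let A : ULift.{u} Bool → Sp S := fun b => match b with
    | ⟨true⟩ => U.obj
    | ⟨false⟩ => V.obj
  let a : ∀ b, A b ⟶ X.obj := fun b => match b with
    | ⟨true⟩ => j.hom
    | ⟨false⟩ => f.hom
  refine Groth.AlgSp2.isSeparatedMor_of_pieces X.property Y.property g.hom (A := A) a ?_ ?_ ?_
  · rintro ⟨_ | _⟩
    exacts [V.property, U.property]
  · refine ⟨?_, fun x => ?_⟩
    · rintro ⟨_ | _⟩
      exacts [hf, Groth.AlgSp2.isEtaleMor_of_isOpenImmersion X.property hj]
    · by_cases hx : x ∈ Set.range (Points.map j.hom)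
      · exact ⟨⟨true⟩, hx⟩
      · obtain ⟨t, ht⟩ := hi.2.1.ge hx
        refine ⟨⟨false⟩, Points.map (inv p₁ ≫ p₂) t, ?_⟩
        show Points.map f.hom _ = x
        rw [← Points.map_comp, ← ht, Category.assoc, ← sqP.w, IsIso.inv_hom_id_assoc]
  · rintro ⟨_ | _⟩ ⟨_ | _⟩
    · exact Groth.AlgSp2.repWith_mapDesc_of_squares g.hom hQX hQY hd₁' hd₂' hdcl
    · exact Groth.AlgSp2.repWith_mapDesc_of_squares g.hom hPX.flip hPY.flip hc₂' hc₁' hc
    · exact Groth.AlgSp2.repWith_mapDesc_of_squares g.hom hPX hPY hc₁' hc₂' hc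
    · exact Groth.AlgSp2.repWith_mapDesc_self_of_mono j.hom g.hom hUg

end Groth.Agent.S10698
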