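import Groth.Statements.S10699
import Groth.Agent.SpecFerrand.AlgSpPushout
import Groth.Agent.FlatMor2.AffineThickening

set_option autoImplicit false
universe u
open CategoryTheory CategoryTheory.Limits AlgebraicGeometry
open AlgSp

namespace Groth.Agent.S10699

/-- Let `t : X → X'` be a thickening of schemes over `S` and `a : X → Y` an affine morphism of schemes
over `S`, and let `Y'` be a pushout of `t` and `a` in the category of schemes over `S`. Then `Y'`
remains a pushout when the square is viewed among algebraic spaces over `S`. -/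
theorem result {S : Scheme.{u}} {X X' Y Y' : Over S} (t : X ⟶ X') (a : X ⟶ Y)
    (a' : X' ⟶ Y') (b : Y ⟶ Y') (ht : MoreMor.IsThickening t.left) [IsAffineHom a.left]
    (hpo : IsPushout t a a' b) :
    IsPushout ((AlgSp.ofScheme S).map t) ((AlgSp.ofScheme S).map a) ((AlgSp.ofScheme S).map a')
      ((AlgSp.ofScheme S).map b) := by
  haveI := ht.1
  haveI := ht.2
  have key : ∀ {X' Y' Z' : Scheme.{u}} (i : Z' ⟶ X') (j : Z' ⟶ Y') [IsClosedImmersion i] [Surjective i] [IsAffineHom j],
      Groth.SpecFerrand.Glue.Covers i j := by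
    intro X' Y' Z' i j _ _ _ y
    obtain ⟨V, hV, hyV, -⟩ := exists_isAffineOpen_mem_and_subset (x := y) (U := ⊤) trivial
    let O : X'.Opens := ⟨(i '' ((j ⁻¹ᵁ V : Z'.Opens) : Set Z')ᶜ)ᶜ,
      (i.isClosedEmbedding.isClosedMap _ (j ⁻¹ᵁ V).2.isClosed_compl).isOpen_compl⟩
    have hO : i ⁻¹ᵁ O = j ⁻¹ᵁ V := by
      ext z
      refine ⟨fun hz => ?_, fun hz => ?_⟩
      · by_contra h; exact hz ⟨z, h, rfl⟩
      · rintro ⟨z', hz', e⟩; exact hz' (i.isClosedEmbedding.injective e ▸ hz)
    haveI : IsAffine (i ⁻¹ᵁ O : Scheme.{u}) := by rw [hO]; exact hV.preimage j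
    haveI : IsClosedImmersion (i ∣_ O) :=
      MorphismProperty.of_isPullback (isPullback_morphismRestrict i O).flip inferInstance
    haveI : Surjective (i ∣_ O) :=
      MorphismProperty.of_isPullback (isPullback_morphismRestrict i O).flip inferInstance
    exact ⟨⟨O, V, Groth.FlatMor2.isAffine_of_surjective_closedImmersion (i ∣_ O), hV, hO⟩, hyV⟩
  refine Groth.SpecFerrand.AlgSpPush.isPushout_ofScheme (key t.left a.left) ?_ hpo
  intro X₁ Y₁ Z₁ f g h i' j' _ _ _ _ hX hY
  haveI : IsClosedImmersion i' := MorphismProperty.of_isPullback hX inferInstance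
  haveI : Surjective i' := MorphismProperty.of_isPullback hX inferInstance
  haveI : IsAffineHom j' := MorphismProperty.of_isPullback hY inferInstance
  exact key i' j'

end Groth.Agent.S10699
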