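import Groth.Statements.S1070
import Groth.Agent.RelPC.PnPush.ProjCrit

set_option autoImplicit false
set_option linter.style.haveILetI false
universe u
open CategoryTheory CategoryTheory.Limits AlgebraicGeometry Opposite
attribute [local instance] HasDerivedCategory.standard
open Perf

namespace Groth.Agent.S1070

/-- Let A be a ring, X = P^n_A with structure morphism π : X ⟶ Spec A, and K ∈ D(O_X) with
quasi-coherent cohomology sheaves. Assuming Rπ_* and the derived functors - ⊗^L O_X(d) exist, K is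
pseudo-coherent (m-pseudo-coherent for all m) if and only if Rπ_*(K ⊗^L O_X(d)) is pseudo-coherent
on Spec A for each d = 0, 1, …, n. (The source states (5) with RΓ(X, -) in D(A); on the affine
scheme Spec A the two formulations correspond under D(A) ≃ D_QCoh(Spec A).) -/
theorem result (n : ℕ) (A : Type u) [CommRing A]
    [DCoh.HasRpush (CohB1.ProjSpace.toSpec n A)] [∀ d : ℤ, DCoh.HasLTensorMod (Twist.twistProjSpace n A d)]
    (K : DCoh.D (CohB1.ProjSpace n A)) (hK : DCoh.IsQCohD K) :
    (∀ m : ℤ, DCoh.IsPseudoCoherentD m K) ↔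
      ∀ d : ℕ, d ≤ n → ∀ m : ℤ, DCoh.IsPseudoCoherentD m
        ((DCoh.Rpush (CohB1.ProjSpace.toSpec n A)).obj ((DCoh.LTensorMod (Twist.twistProjSpace n A (d : ℤ))).obj K)) := by
  let D := Groth.RelPC.PnPush.twistData n A
  haveI : IsProper (CohB1.ProjSpace.toSpec n A) := inferInstance
  haveI : CompactSpace (CohB1.ProjSpace n A) :=
    QuasiCompact.compactSpace_of_compactSpace (CohB1.ProjSpace.toSpec n A)
  haveI : QuasiSeparatedSpace (CohB1.ProjSpace n A) :=
    quasiSeparatedSpace_of_quasiSeparated (CohB1.ProjSpace.toSpec n A)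
  have key : ∀ (i : Fin (n + 1)), Nonempty ((DCoh.Rpush (CohB1.ProjSpace.toSpec n A)).obj
      ((DCoh.LTensorMod (Twist.twistProjSpace n A ((i : ℕ) : ℤ))).obj K) ≅
      (Groth.RelPC.PnPush.twPush D i).obj K) := fun i => by
    obtain ⟨e⟩ := Groth.RelPC.PnPush.nonempty_ltm_twD (Twist.twistProjSpace n A ((i : ℕ) : ℤ)) (D.hL i) K
    exact ⟨(DCoh.Rpush (CohB1.ProjSpace.toSpec n A)).mapIso e⟩
  refine ⟨fun h d hd m => ?_, fun h => Groth.RelPC.PnPush.pcD_of_twPush D K hK fun i m => ?_⟩
  · obtain ⟨e⟩ := key ⟨d, by omega⟩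
    exact Groth.DerivedCoh.PCoh.isPseudoCoherentD_of_iso e.symm
      (D.pushPC _ (fun k => Groth.RelPC.PnPush.pcD_twD _ _ (h k)) m)
  · obtain ⟨e⟩ := key i
    exact Groth.DerivedCoh.PCoh.isPseudoCoherentD_of_iso e (h i (by omega) m)

end Groth.Agent.S1070
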