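import Groth.Statements.S10700
import Groth.Agent.SpecFerrand.AlgSpPushout
import Groth.Agent.SpecFerrand.RelQF
import Groth.Agent.AlgSp2.MonoPoint

set_option autoImplicit false
universe u
open CategoryTheory CategoryTheory.Limits AlgebraicGeometry
open AlgSp

namespace Groth.Agent.S10700

/-- Let `i : Z → X` be a closed immersion and `j : Z → Y` an integral morphism of schemes over `S` such
that every fibre of `j` is contained in `i⁻¹(U)` for some affine open `U` of `X`, and let `P` be a
pushout of `i` and `j` in the category of schemes over `S`. Then `P` remains a pushout when the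
square is viewed among algebraic spaces over `S`. -/
theorem result {S : Scheme.{u}} {Z X Y P : Over S} (i : Z ⟶ X) (j : Z ⟶ Y)
    [IsClosedImmersion i.left] [IsIntegralHom j.left]
    (haff : ∀ y : ↥Y.left, ∃ U : X.left.Opens, IsAffineOpen U ∧ j.left ⁻¹' {y} ⊆ i.left ⁻¹' (U : Set ↥X.left))
    (a : X ⟶ P) (b : Y ⟶ P) (hpo : IsPushout i j a b) :
    IsPushout ((AlgSp.ofScheme S).map i) ((AlgSp.ofScheme S).map j) ((AlgSp.ofScheme S).map a)
      ((AlgSp.ofScheme S).map b) := by
  refine Groth.SpecFerrand.AlgSpPush.isPushout_ofScheme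
    (Groth.SpecFerrand.Glue.covers_of_fibres i.left j.left haff) ?_ hpo
  intro X' Y' Z' f g h i' j' hfe hge hfs hgs hX hY
  haveI : IsClosedImmersion i' := MorphismProperty.of_isPullback hX inferInstance
  haveI : IsIntegralHom j' := MorphismProperty.of_isPullback hY inferInstance
  refine Groth.SpecFerrand.Glue.covers_of_fibres i' j' fun y' => ?_
  obtain ⟨U, hU, hUy⟩ := haff (g y')
  have hsub : i' '' (j' ⁻¹' {y'}) ⊆ (f ⁻¹ᵁ U : Set X') := by
    rintro _ ⟨z, hz, rfl⟩
    show f (i' z) ∈ U
    rw [← Scheme.Hom.comp_apply, ← hX.w, Scheme.Hom.comp_apply]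
    exact hUy (show j.left (h z) = g y' by
      rw [← Scheme.Hom.comp_apply, hY.w, Scheme.Hom.comp_apply, show j' z = y' from hz])
  obtain ⟨Q, hQU, hQ, hQc⟩ := Groth.FlatMor2.exists_isCompact_open_between
    ((j'.isCompact_preimage_singleton y').image i'.continuous) hsub
  haveI : LocallyQuasiFinite f := Groth.AlgSp2.locallyQuasiFinite_of_etale f
  haveI : (Q : Scheme.{u}).IsQuasiAffine := Groth.FlatMor2.isIndQuasiAffineHom_def.1
    Groth.FlatMor2.isIndQuasiAffineHom_of_separated_locallyQuasiFinite U hU Q hQU hQc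
  exact Groth.SpecFerrand.exists_affine_of_quasiAffine i' j' y' Q fun z hz => hQ ⟨z, hz, rfl⟩

end Groth.Agent.S10700
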