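import Groth.Statements.S10705
import Groth.Agent.AlgSpBasic.FormalGlueCover
import Groth.Agent.AlgSp2.MonoEtale

set_option autoImplicit false
universe u
open CategoryTheory CategoryTheory.Limits AlgebraicGeometry
open AlgSp Groth.AlgSpBasic

namespace Groth.Agent.S10705

/-- Let `f : Y → X` be a quasi-compact quasi-separated morphism of algebraic spaces over `S`, `i : Z →
X` a closed immersion of finite presentation such that `f⁻¹Z → Z` is an isomorphism and `f` is flat
at every point of `|f⁻¹Z|`, and let `U ⊂ X` be the open subspace complementary to `Z`. Let `a : X₁ →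
X₂` be a morphism of algebraic spaces over `X`. If the base change of `a` to `U` and the base change
of `a` to `Y` are isomorphisms, then `a` is an isomorphism: the formal glueing functor reflects
isomorphisms. -/
theorem result {S : Scheme.{u}} {X Y Z FZ U : AlgSp.Space S} (f : Y ⟶ X)
    (hqc : AlgSp.IsQuasiCompactMor f.hom) (hqs : AlgSp.IsQuasiSeparatedMor f.hom) (i : Z ⟶ X)
    (hi : AlgSp.RepWith @IsClosedImmersion i.hom) (hifp : AlgSp.LocP @LocallyOfFinitePresentation i.hom)
    (iY : FZ ⟶ Y) (fZ : FZ ⟶ Z) (hFZ : IsPullback iY.hom fZ.hom f.hom i.hom) [IsIso fZ]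
    (hflat : ∀ y ∈ Set.range (AlgSp.Points.map iY.hom), AlgSp.IsFlatAtMor f.hom y) (j : U ⟶ X)
    (hj : AlgSp.RepWith @IsOpenImmersion j.hom)
    (hU : Set.range (AlgSp.Points.map j.hom) = (Set.range (AlgSp.Points.map i.hom))ᶜ)
    {X₁ X₂ QU QU₁ QY QY₁ : AlgSp.Space S} (p₂ : X₂ ⟶ X) (a : X₁ ⟶ X₂)
    (qU : QU ⟶ X₂) (rU : QU ⟶ U) (hQU : IsPullback qU.hom rU.hom p₂.hom j.hom) (aU : QU₁ ⟶ QU)
    (bU : QU₁ ⟶ X₁) (hQU₁ : IsPullback bU.hom aU.hom a.hom qU.hom) [IsIso aU] (qY : QY ⟶ X₂) (rY : QY ⟶ Y)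
    (hQY : IsPullback qY.hom rY.hom p₂.hom f.hom) (aY : QY₁ ⟶ QY) (bY : QY₁ ⟶ X₁)
    (hQY₁ : IsPullback bY.hom aY.hom a.hom qY.hom) [IsIso aY] : IsIso a := by
  obtain ⟨ι, W, w, hw, hfac⟩ := FormalGlueCover.exists_cover f hqc i hi hifp iY fZ hFZ hflat j hj hU
  let Q : ι → AlgSp.Sp S := fun k => pullback p₂.hom (w k).hom
  have sq : ∀ k, IsPullback (pullback.fst p₂.hom (w k).hom) (pullback.snd p₂.hom (w k).hom) p₂.hom
      (w k).hom := fun k => IsPullback.of_hasPullback _ _
  have hQ : ∀ k, IsAlgSpace (Q k) := fun k =>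
    isAlgSpace_of_isPullback (sq k) X.property.diag X₂.property (W k).property
  have hcov : AlgSp.IsFpqcCover Q (fun k => pullback.fst p₂.hom (w k).hom) :=
    Groth.AlgSp2.isFpqcCover_baseChange X.property X₂.property (fun k => (W k).property) sq hw
  have key : ∀ {A B C : AlgSp.Sp S} {bb : A ⟶ X₁.obj} {aa : A ⟶ B} {qq : B ⟶ X₂.obj},
      IsPullback bb aa a.hom qq → IsIso aa → ∀ (l : C ⟶ B),
        IsIso (pullback.snd a.hom (l ≫ qq)) := by
    intro A B C bb aa qq sq' hiso l
    have hc : pullback.fst a.hom (l ≫ qq) ≫ a.hom = (pullback.snd a.hom (l ≫ qq) ≫ l) ≫ qq := by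
      rw [Category.assoc]; exact pullback.condition
    have hP : IsPullback (sq'.lift (pullback.fst a.hom (l ≫ qq)) _ hc) (pullback.snd a.hom (l ≫ qq))
        aa l := by
      refine IsPullback.of_right ?_ (sq'.lift_snd _ _ _) sq'
      rw [sq'.lift_fst]
      exact IsPullback.of_hasPullback _ _
    exact hP.isIso_snd_of_isIso
  have key' : ∀ {C : AlgSp.Sp S} {g g' : C ⟶ X₂.obj}, IsIso (pullback.snd a.hom g) → g = g' →
      IsIso (pullback.snd a.hom g') := by
    intro C g g' h e
    subst e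
    exact h
  have haU : IsIso aU.hom := (ObjectProperty.ι (IsAlgSpace (S := S))).map_isIso aU
  have haY : IsIso aY.hom := (ObjectProperty.ι (IsAlgSpace (S := S))).map_isIso aY
  have hiso : IsIso a.hom := by
    refine (Groth.AlgSp2.isLocalOnBase_fpqc_isomorphisms Q _ X₂.property hQ hcov a.hom X₁.property
      (fun k => pullback a.hom (pullback.fst p₂.hom (w k).hom)) (fun k => pullback.snd _ _)
      (fun k => pullback.fst _ _)
      (fun k => isAlgSpace_of_isPullback (IsPullback.of_hasPullback _ _) X₂.property.diag X₁.property (hQ k))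
      (fun k => IsPullback.of_hasPullback _ _)).2 fun k => ?_
    rcases hfac k with ⟨l, hl⟩ | ⟨l, hl⟩
    · have e : hQU.lift (pullback.fst p₂.hom (w k).hom) (pullback.snd p₂.hom (w k).hom ≫ l.hom)
          (by rw [pullback.condition, Category.assoc, ← hl]; rfl) ≫ qU.hom =
            pullback.fst p₂.hom (w k).hom := hQU.lift_fst _ _ _
      exact key' (key hQU₁ haU _) e
    · have e : hQY.lift (pullback.fst p₂.hom (w k).hom) (pullback.snd p₂.hom (w k).hom ≫ l.hom)
          (by rw [pullback.condition, Category.assoc, ← hl]; rfl) ≫ qY.hom =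
            pullback.fst p₂.hom (w k).hom := hQY.lift_fst _ _ _
      exact key' (key hQY₁ haY _) e
  have : IsIso ((ObjectProperty.ι (IsAlgSpace (S := S))).map a) := hiso
  exact isIso_of_reflects_iso a (ObjectProperty.ι (IsAlgSpace (S := S)))

end Groth.Agent.S10705
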