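import Groth.Statements.S1071
import Groth.Agent.RelPC.PnPush.Koszul
import Groth.Agent.PnCoh.OverAffine
import Groth.Agent.RelPC.Compose

set_option autoImplicit false
set_option linter.style.haveILetI false
universe u
open CategoryTheory CategoryTheory.Limits AlgebraicGeometry
open Perf

namespace Groth.Agent.S1071

/-- Let A be a ring, X = P^n_A and a ∈ ℤ. There is a cochain complex of O_X-modules, exact in every
degree, whose term in degree i is isomorphic to the direct sum of (n+1 choose i) copies of O_X(a +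
i) for 0 ≤ i ≤ n + 1 and is zero in all other degrees. -/
theorem result (n : ℕ) (A : Type u) [CommRing A] (a : ℤ) :
    ∃ C : CochainComplex (CohB1.ProjSpace n A).Modules ℤ, (∀ i : ℤ, C.ExactAt i) ∧
      (∀ i : ℕ, i ≤ n + 1 → Nonempty (C.X (i : ℤ) ≅ ∐ fun _ : Fin (Nat.choose (n + 1) i) => Twist.twistProjSpace n A (a + i))) ∧
      (∀ i : ℤ, i < 0 ∨ (n : ℤ) + 1 < i → IsZero (C.X i)) := by
  obtain ⟨C, hex, hterm, hzero⟩ := Groth.RelPC.PnPush.exists_exact_twists n (Spec (CommRingCat.of A)) a
  let F := Scheme.Modules.pullback (Groth.PnCoh.overIso n A).hom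
  haveI := Groth.PrinPartsAux.preservesFiniteLimits_pullback (Groth.PnCoh.overIso n A).hom
  haveI := (Scheme.Modules.pullbackPushforwardAdjunction (Groth.PnCoh.overIso n A).hom).leftAdjoint_preservesColimits
  haveI : F.Additive :=
    Adjunction.left_adjoint_additive (Scheme.Modules.pullbackPushforwardAdjunction (Groth.PnCoh.overIso n A).hom)
  refine ⟨(F.mapHomologicalComplex _).obj C, fun i => ?_, fun i hi => ?_, fun i hi => F.map_isZero (hzero i hi)⟩
  · exact (hex i).map F
  · obtain ⟨e⟩ := hterm i hi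
    obtain ⟨e'⟩ := Groth.PnCoh.nonempty_pullback_overIso_twist n A (a + i)
    exact ⟨F.mapIso e ≪≫ PreservesCoproduct.iso F _ ≪≫ Sigma.mapIso fun _ => e'⟩

end Groth.Agent.S1071
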