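import Groth.Statements.S10720
import Groth.Agent.AlgSpBasic.GlueHom

set_option autoImplicit false
universe u
open CategoryTheory CategoryTheory.Limits AlgebraicGeometry
open AlgSp Groth.AlgSpBasic

namespace Groth.Agent.S10720

/-- Let `f : Y → X` be a quasi-compact quasi-separated morphism of algebraic spaces over `S`, `i : Z →
X` a closed immersion of finite presentation such that `f⁻¹Z → Z` is an isomorphism and `f` is flat
at every point of `|f⁻¹Z|`, and let `U ⊂ X` be the open subspace complementary to `Z`, with `V = U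
×_X Y`. Let `X'₁`, `X'₂` be algebraic spaces over `X` with `X'₂ → X` separated. Then every morphism
between their images in the glueing category — morphisms of the base changes to `U`, to `V` and to
`Y`, over `U`, `V`, `Y` and compatible with the restriction maps — is induced by a unique morphism
`X'₁ → X'₂` over `X`. -/
theorem result {S : Scheme.{u}} {X Y Z FZ U : AlgSp.Space S} (f : Y ⟶ X)
    (hqc : AlgSp.IsQuasiCompactMor f.hom) (hqs : AlgSp.IsQuasiSeparatedMor f.hom) (i : Z ⟶ X)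
    (hi : AlgSp.RepWith @IsClosedImmersion i.hom) (hifp : AlgSp.LocP @LocallyOfFinitePresentation i.hom)
    (iY : FZ ⟶ Y) (fZ : FZ ⟶ Z) (hFZ : IsPullback iY.hom fZ.hom f.hom i.hom) [IsIso fZ]
    (hflat : ∀ y ∈ Set.range (AlgSp.Points.map iY.hom), AlgSp.IsFlatAtMor f.hom y) (j : U ⟶ X)
    (hj : AlgSp.RepWith @IsOpenImmersion j.hom)
    (hU : Set.range (AlgSp.Points.map j.hom) = (Set.range (AlgSp.Points.map i.hom))ᶜ)
    {X₁ X₂ A₁U A₂U A₁Y A₂Y A₁V A₂V : AlgSp.Space S} (p₁ : X₁ ⟶ X) (p₂ : X₂ ⟶ X)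
    (hp₂ : AlgSp.IsSeparatedMor p₂.hom)
    (a₁U : A₁U ⟶ X₁) (r₁U : A₁U ⟶ U) (h₁U : IsPullback a₁U.hom r₁U.hom p₁.hom j.hom)
    (a₂U : A₂U ⟶ X₂) (r₂U : A₂U ⟶ U) (h₂U : IsPullback a₂U.hom r₂U.hom p₂.hom j.hom)
    (a₁Y : A₁Y ⟶ X₁) (r₁Y : A₁Y ⟶ Y) (h₁Y : IsPullback a₁Y.hom r₁Y.hom p₁.hom f.hom)
    (a₂Y : A₂Y ⟶ X₂) (r₂Y : A₂Y ⟶ Y) (h₂Y : IsPullback a₂Y.hom r₂Y.hom p₂.hom f.hom)
    (m₁U : A₁V ⟶ A₁U) (m₁Y : A₁V ⟶ A₁Y) (h₁V : IsPullback m₁U.hom m₁Y.hom a₁U.hom a₁Y.hom)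
    (m₂U : A₂V ⟶ A₂U) (m₂Y : A₂V ⟶ A₂Y) (h₂V : IsPullback m₂U.hom m₂Y.hom a₂U.hom a₂Y.hom)
    (bU : A₁U ⟶ A₂U) (hbU : bU ≫ r₂U = r₁U) (bY : A₁Y ⟶ A₂Y) (hbY : bY ≫ r₂Y = r₁Y)
    (bV : A₁V ⟶ A₂V) (hbV₁ : bV ≫ m₂U = m₁U ≫ bU) (hbV₂ : bV ≫ m₂Y = m₁Y ≫ bY) :
    ∃! a : X₁ ⟶ X₂, a ≫ p₂ = p₁ ∧ a₁U ≫ a = bU ≫ a₂U ∧ a₁Y ≫ a = bY ≫ a₂Y := by
  classical
  have hMj : Mono j.hom := mono_of_repWith (fun _ _ g (_ : IsOpenImmersion g) => inferInstance) hj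
  let gU : A₁U.obj ⟶ X₂.obj := bU.hom ≫ a₂U.hom
  let gY : A₁Y.obj ⟶ X₂.obj := bY.hom ≫ a₂Y.hom
  have hgU : gU ≫ p₂.hom = a₁U.hom ≫ p₁.hom := by
    rw [Category.assoc, h₂U.w, ← Category.assoc, ← ObjectProperty.FullSubcategory.comp_hom, hbU, h₁U.w]
  have hgY : gY ≫ p₂.hom = a₁Y.hom ≫ p₁.hom := by
    rw [Category.assoc, h₂Y.w, ← Category.assoc, ← ObjectProperty.FullSubcategory.comp_hom, hbY, h₁Y.w]
  have UY : ∀ {W : Sp S} (x : W ⟶ X₁.obj) (u : W ⟶ U.obj) (y : W ⟶ Y.obj) (hu : x ≫ p₁.hom = u ≫ j.hom)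
      (hy : x ≫ p₁.hom = y ≫ f.hom), h₁U.lift x u hu ≫ gU = h₁Y.lift x y hy ≫ gY := by
    intro W x u y hu hy
    have hv : h₁U.lift x u hu ≫ a₁U.hom = h₁Y.lift x y hy ≫ a₁Y.hom := by rw [h₁U.lift_fst, h₁Y.lift_fst]
    have e₁ : m₁U.hom ≫ bU.hom = bV.hom ≫ m₂U.hom := congrArg (fun k => k.hom) hbV₁.symm
    have e₂ : m₁Y.hom ≫ bY.hom = bV.hom ≫ m₂Y.hom := congrArg (fun k => k.hom) hbV₂.symm
    rw [← h₁V.lift_fst _ _ hv]
    conv_rhs => rw [← h₁V.lift_snd _ _ hv]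
    simp only [gU, gY, Category.assoc]
    rw [reassoc_of% e₁, reassoc_of% e₂, h₂V.w]
  have UU : ∀ {W : Sp S} (x : W ⟶ X₁.obj) (u u' : W ⟶ U.obj) (hu : x ≫ p₁.hom = u ≫ j.hom)
      (hu' : x ≫ p₁.hom = u' ≫ j.hom), h₁U.lift x u hu ≫ gU = h₁U.lift x u' hu' ≫ gU := by
    intro W x u u' hu hu'
    obtain rfl : u = u' := (cancel_mono j.hom).1 (hu.symm.trans hu')
    rfl
  have hagree : ∀ {W : Sp S} (x : W ⟶ X₁.obj) (y y' : W ⟶ Y.obj) (hy : x ≫ p₁.hom = y ≫ f.hom)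
      (hy' : x ≫ p₁.hom = y' ≫ f.hom), (∃ u : W ⟶ U.obj, u ≫ j.hom = x ≫ p₁.hom) →
      h₁Y.lift x y hy ≫ gY = h₁Y.lift x y' hy' ≫ gY := by
    intro W x y y' hy hy' ⟨u, hu⟩
    rw [← UY x u y hu.symm hy, UY x u y' hu.symm hy']
  obtain ⟨ι, T, Wc, b, c, hb, hTa, hWa, hc, hcov, hkind⟩ :=
    FormalGlueCover.exists_cover' f hqc i hi hifp iY fZ hFZ hflat j hj hU
  let wr : ∀ r, (yon S).obj (Wc r) ⟶ X.obj := fun r => (yon S).map (c r) ≫ b r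
  have hP : ∀ r, IsAlgSpace (pullback p₁.hom (wr r)) := fun r =>
    isAlgSpace_pullback X₁ ⟨_, IsAlgSpace.yon_obj (Wc r)⟩ X p₁.hom (wr r)
  let q : ∀ r, pullback p₁.hom (wr r) ⟶ X₁.obj := fun r => pullback.fst p₁.hom (wr r)
  have hcov₁ : IsFpqcCover (fun r => pullback p₁.hom (wr r)) q :=
    Groth.AlgSp2.isFpqcCover_baseChange X.property X₁.property (fun r => IsAlgSpace.yon_obj (Wc r))
      (fun r => IsPullback.of_hasPullback p₁.hom (wr r)) hcov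
  have H : ∀ r, ∃ bi : pullback p₁.hom (wr r) ⟶ X₂.obj,
      (∃ (u : pullback p₁.hom (wr r) ⟶ U.obj) (hu : q r ≫ p₁.hom = u ≫ j.hom), bi = h₁U.lift (q r) u hu ≫ gU) ∨
      (∃ (l : (yon S).obj (Wc r) ⟶ pullback f.hom (b r)) (y : pullback p₁.hom (wr r) ⟶ Y.obj)
        (hy : q r ≫ p₁.hom = y ≫ f.hom), l ≫ pullback.snd f.hom (b r) = (yon S).map (c r) ∧ RepWith @Flat l ∧
        y = pullback.snd p₁.hom (wr r) ≫ l ≫ pullback.fst f.hom (b r) ∧ bi = h₁Y.lift (q r) y hy ≫ gY) := by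
    intro r
    rcases hkind r with ⟨l, hl⟩ | ⟨l, hl, hlf⟩
    · exact ⟨_, Or.inl ⟨pullback.snd p₁.hom (wr r) ≫ l, by rw [Category.assoc, hl, pullback.condition], rfl⟩⟩
    · refine ⟨_, Or.inr ⟨l, pullback.snd p₁.hom (wr r) ≫ l ≫ pullback.fst f.hom (b r), ?_, hl, hlf, rfl, rfl⟩⟩
      rw [pullback.condition, Category.assoc, Category.assoc, pullback.condition, ← Category.assoc l, hl]
  choose bi hbi using H
  have YY : ∀ {r r' : ι} {K : Over S} (w : K ⟶ Wc r) (w' : K ⟶ Wc r')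
      (l : (yon S).obj (Wc r) ⟶ pullback f.hom (b r)) (l' : (yon S).obj (Wc r') ⟶ pullback f.hom (b r'))
      (_ : l ≫ pullback.snd f.hom (b r) = (yon S).map (c r)) (_ : RepWith @Flat l)
      (_ : l' ≫ pullback.snd f.hom (b r') = (yon S).map (c r')) (_ : RepWith @Flat l')
      (x : (yon S).obj K ⟶ X₁.obj) (y y' : (yon S).obj K ⟶ Y.obj) (hy : x ≫ p₁.hom = y ≫ f.hom)
      (hy' : x ≫ p₁.hom = y' ≫ f.hom) (_ : y = (yon S).map w ≫ l ≫ pullback.fst f.hom (b r))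
      (_ : y' = (yon S).map w' ≫ l' ≫ pullback.fst f.hom (b r')),
      h₁Y.lift x y hy ≫ gY = h₁Y.lift x y' hy' ≫ gY := by
    intro r r' K w w' l l' hl hlf hl' hlf' x y y' hy hy' ey ey'
    haveI := hTa r; haveI := hTa r'; haveI := hWa r; haveI := hWa r'; haveI := hc r; haveI := hc r'
    exact GlueHom.eq_YY f i hi hifp iY fZ hFZ j hj hU p₁ p₂ hp₂ a₁Y r₁Y h₁Y gY hgY hagree (b r) (hb r) (b r')
      (c r) (c r') l hl hlf l' hl' hlf' w w' hy hy' ey ey'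
  obtain ⟨a, ha⟩ := exists_desc_of_isFpqcCover q X₂.property hcov₁ bi (by
    intro r r' K t t' htt
    rcases hbi r with ⟨u, hu, e⟩ | ⟨l, y, hy, hl, hlf, ey, e⟩ <;>
      rcases hbi r' with ⟨u', hu', e'⟩ | ⟨l', y', hy', hl', hlf', ey', e'⟩ <;>
      rw [e, e', GlueHom.comp_lift_assoc, GlueHom.comp_lift_assoc] <;> simp only [htt]
    · exact UU _ _ _ _ _
    · exact UY _ _ _ _ _
    · exact (UY _ _ _ _ _).symm
    · obtain ⟨w, hw⟩ := (yon S).map_surjective (t ≫ pullback.snd p₁.hom (wr r))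
      obtain ⟨w', hw'⟩ := (yon S).map_surjective (t' ≫ pullback.snd p₁.hom (wr r'))
      exact YY w w' l l' hl hlf hl' hlf' _ _ _ _ _ (by rw [ey, hw, Category.assoc]) (by rw [ey', hw', Category.assoc]))
  have hap : a ≫ p₂.hom = p₁.hom := hom_ext_of_isFpqcCover q X.property hcov₁ fun r => by
    rw [← Category.assoc, ha r]
    rcases hbi r with ⟨u, hu, e⟩ | ⟨l, y, hy, -, -, -, e⟩
    · rw [e, Category.assoc, hgU, ← Category.assoc, h₁U.lift_fst]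
    · rw [e, Category.assoc, hgY, ← Category.assoc, h₁Y.lift_fst]
  -- pulling the covering back to a scheme over `X₁`
  have hloc : ∀ {K : Over S} (x : (yon S).obj K ⟶ X₁.obj) (z : (yon S).obj K ⟶ X₂.obj),
      (∀ r (K' : Over S) (k : K' ⟶ K) (w : (yon S).obj K' ⟶ pullback p₁.hom (wr r)),
        w ≫ q r = (yon S).map k ≫ x → w ≫ bi r = (yon S).map k ≫ z) → x ≫ a = z := by
    intro K x z h
    refine hom_ext_of_isFpqcCover (fun r => pullback.fst x (q r)) X₂.property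
      (Groth.AlgSp2.isFpqcCover_baseChange X₁.property (IsAlgSpace.yon_obj K) hP
        (fun r => IsPullback.of_hasPullback x (q r)) hcov₁) fun r => GlueHom.hom_ext_yon fun K' t => ?_
    obtain ⟨k, hk⟩ := (yon S).map_surjective (t ≫ pullback.fst x (q r))
    have hw : (t ≫ pullback.snd x (q r)) ≫ q r = (yon S).map k ≫ x := by
      rw [hk, Category.assoc, Category.assoc, ← pullback.condition]
    have := h r K' k (t ≫ pullback.snd x (q r)) hw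
    rw [← Category.assoc t, ← Category.assoc t, ← hk, ← this, ← Category.assoc ((yon S).map k), ← hw]
    simp only [Category.assoc, ha r]
  have keyU : ∀ {K : Over S} (x : (yon S).obj K ⟶ X₁.obj) (u : (yon S).obj K ⟶ U.obj)
      (hu : x ≫ p₁.hom = u ≫ j.hom), x ≫ a = h₁U.lift x u hu ≫ gU := by
    intro K x u hu
    refine hloc x _ fun r K' k w hw => ?_
    rcases hbi r with ⟨u', hu', e⟩ | ⟨l, y, hy, -, -, -, e⟩ <;>
      rw [e, GlueHom.comp_lift_assoc, GlueHom.comp_lift_assoc] <;> simp only [hw]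
    · exact UU _ _ _ _ _
    · exact (UY _ _ _ _ _).symm
  have hwrap : ∀ a' : X₁ ⟶ X₂, a' ≫ p₂ = p₁ ∧ a₁U ≫ a' = bU ≫ a₂U ∧ a₁Y ≫ a' = bY ≫ a₂Y → a'.hom = a := by
    intro a' ⟨_, hU', hY'⟩
    refine hom_ext_of_isFpqcCover q X₂.property hcov₁ fun r => ?_
    have hU'' : a₁U.hom ≫ a'.hom = gU := congrArg (fun k => k.hom) hU'
    have hY'' : a₁Y.hom ≫ a'.hom = gY := congrArg (fun k => k.hom) hY'
    rw [ha r]
    rcases hbi r with ⟨u, hu, e⟩ | ⟨l, y, hy, -, -, -, e⟩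
    · rw [e, ← hU'', ← Category.assoc, h₁U.lift_fst]
    · rw [e, ← hY'', ← Category.assoc, h₁Y.lift_fst]
  refine ⟨ObjectProperty.homMk a, ⟨ObjectProperty.hom_ext _ hap, ?_, ?_⟩, fun a' h => ObjectProperty.hom_ext _ (hwrap a' h)⟩
  · refine ObjectProperty.hom_ext _ (GlueHom.hom_ext_yon fun K t => ?_)
    show t ≫ a₁U.hom ≫ a = t ≫ gU
    rw [← Category.assoc, keyU (t ≫ a₁U.hom) (t ≫ r₁U.hom) (by rw [Category.assoc, h₁U.w, Category.assoc])]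
    congr 1
    exact h₁U.hom_ext (h₁U.lift_fst _ _ _) (h₁U.lift_snd _ _ _)
  · refine ObjectProperty.hom_ext _ ?_
    show a₁Y.hom ≫ a = gY
    obtain ⟨κ, T', W', wY, b', c', hb', hT', hW', hcovY, hkindY⟩ :=
      GlueHom.exists_cover_source f i hi hifp iY fZ hFZ j hj hU hflat
    refine hom_ext_of_isFpqcCover (fun r => pullback.fst r₁Y.hom (wY r)) X₂.property
      (Groth.AlgSp2.isFpqcCover_baseChange Y.property A₁Y.property (fun r => IsAlgSpace.yon_obj (W' r))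
        (fun r => IsPullback.of_hasPullback r₁Y.hom (wY r)) hcovY) fun r => GlueHom.hom_ext_yon fun K t => ?_
    obtain ⟨v, hv⟩ : ∃ v, t ≫ pullback.fst r₁Y.hom (wY r) = v := ⟨_, rfl⟩
    obtain ⟨w, hw⟩ := (yon S).map_surjective (t ≫ pullback.snd r₁Y.hom (wY r))
    have hvy : v ≫ r₁Y.hom = (yon S).map w ≫ wY r := by
      rw [← hv, hw, Category.assoc, Category.assoc, pullback.condition]
    simp only [← Category.assoc, hv]
    obtain ⟨x, hx⟩ : ∃ x, v ≫ a₁Y.hom = x := ⟨_, rfl⟩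
    obtain ⟨y, hy'⟩ : ∃ y, v ≫ r₁Y.hom = y := ⟨_, rfl⟩
    have hxy : x ≫ p₁.hom = y ≫ f.hom := by rw [← hx, ← hy', Category.assoc, h₁Y.w, Category.assoc]
    have hvl : v = h₁Y.lift x y hxy := h₁Y.hom_ext (by rw [h₁Y.lift_fst, hx]) (by rw [h₁Y.lift_snd, hy'])
    rw [hx, hvl]
    rcases hkindY r with ⟨u, hu⟩ | ⟨hfl, l, hl, hlf, hl'⟩
    · have hu' : x ≫ p₁.hom = ((yon S).map w ≫ u) ≫ j.hom := by
        rw [hxy, ← hy', hvy, Category.assoc, Category.assoc, hu]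
      rw [keyU x _ hu', UY x _ y hu' hxy]
    · refine hloc x _ fun r' K' k w' hw' => ?_
      rw [GlueHom.comp_lift_assoc]
      rcases hbi r' with ⟨u, hu, e⟩ | ⟨l₂, y₂, hy₂, hl₂, hlf₂, ey₂, e⟩ <;>
        rw [e, GlueHom.comp_lift_assoc] <;> simp only [hw']
      · exact UY _ _ _ _ _
      · haveI := hTa r'; haveI := hWa r'; haveI := hc r'; haveI := hT' r; haveI := hW' r; haveI := hfl
        obtain ⟨w₂, hw₂⟩ := (yon S).map_surjective (w' ≫ pullback.snd p₁.hom (wr r'))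
        exact GlueHom.eq_YY f i hi hifp iY fZ hFZ j hj hU p₁ p₂ hp₂ a₁Y r₁Y h₁Y gY hgY hagree (b r') (hb r') (b' r)
          (c r') (c' r) l₂ hl₂ hlf₂ l hl hlf w₂ (k ≫ w) _ _
          (by rw [ey₂, hw₂, Category.assoc])
          (by rw [← hy', hvy, ← hl', Functor.map_comp, Category.assoc])

end Groth.Agent.S10720
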