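import Groth.Statements.S10725
import Groth.Agent.AlgSpBasic.GluedQuotient

set_option autoImplicit false
universe u
open CategoryTheory CategoryTheory.Limits AlgebraicGeometry TensorProduct
open AlgSp Groth.AlgSpBasic

namespace Groth.Agent.S10725

/-- Let `(R → R', f)` be a glueing pair, `X = Spec R`, `U = Spec R_f`, `X' = Spec R'` and `U' = U ×_X
X'`. Let `V → U`, `Y' → X'` and `V' → U'` be quasi-affine schemes with `V' = V ×_U U'` and `V' = Y'
×_{X'} U'`. Then there is an algebraic space `Y` separated over `X` with `V = U ×_X Y` and `Y' = X'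
×_X Y`, compatibly over `U'`: the triple `(V, V', Y')` is in the essential image of the glueing
functor restricted to separated spaces. -/
theorem result (R : Type u) [CommRing R] (R' : Type u) [CommRing R'] [Algebra R R']
    (f : R) (hRR' : EtGlue.IsGlueingPair R R' f) {XU' V V' Y' : Over (Spec (CommRingCat.of R))}
    (tU : (Over.mk (Spec.map (CommRingCat.ofHom (algebraMap R (Localization.Away f)))) : Over (Spec (CommRingCat.of R))) ⟶ Over.mk (𝟙 _))
    (tX : (Over.mk (Spec.map (CommRingCat.ofHom (algebraMap R R'))) : Over (Spec (CommRingCat.of R))) ⟶ Over.mk (𝟙 _))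
    (iU : XU' ⟶ (Over.mk (Spec.map (CommRingCat.ofHom (algebraMap R (Localization.Away f)))) : Over (Spec (CommRingCat.of R))))
    (iX : XU' ⟶ (Over.mk (Spec.map (CommRingCat.ofHom (algebraMap R R'))) : Over (Spec (CommRingCat.of R))))
    (hU' : IsPullback iU iX tU tX) (v : V ⟶ (Over.mk (Spec.map (CommRingCat.ofHom (algebraMap R (Localization.Away f)))) : Over (Spec (CommRingCat.of R))))
    (y' : Y' ⟶ (Over.mk (Spec.map (CommRingCat.ofHom (algebraMap R R'))) : Over (Spec (CommRingCat.of R)))) (q : V' ⟶ XU')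
    (pV : V' ⟶ V) (pY : V' ⟶ Y') (hV'V : IsPullback pV q v iU) (hV'Y : IsPullback pY q y' iX)
    [V.left.IsQuasiAffine] [V'.left.IsQuasiAffine] [Y'.left.IsQuasiAffine] :
    ∃ (Y : AlgSp.Space (Spec (CommRingCat.of R))) (πY : Y.obj ⟶ (AlgSp.yon (Spec (CommRingCat.of R))).obj (Over.mk (𝟙 _)))
      (a : (AlgSp.yon (Spec (CommRingCat.of R))).obj V ⟶ Y.obj) (b : (AlgSp.yon (Spec (CommRingCat.of R))).obj Y' ⟶ Y.obj),
      AlgSp.IsSeparatedSp Y.obj ∧ IsPullback a ((AlgSp.yon (Spec (CommRingCat.of R))).map v) πY ((AlgSp.yon (Spec (CommRingCat.of R))).map tU) ∧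
        IsPullback b ((AlgSp.yon (Spec (CommRingCat.of R))).map y') πY ((AlgSp.yon (Spec (CommRingCat.of R))).map tX) ∧
        (AlgSp.yon (Spec (CommRingCat.of R))).map pV ≫ a = (AlgSp.yon (Spec (CommRingCat.of R))).map pY ≫ b := by
  haveI : IsAffine (algObj R (Localization.Away f)).left := inferInstanceAs (IsAffine (Spec _))
  haveI : IsAffine (algObj R R').left := inferInstanceAs (IsAffine (Spec _))
  haveI : IsAffine (Over.mk (𝟙 (Spec (CommRingCat.of R)))).left := inferInstanceAs (IsAffine (Spec _))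
  haveI : IsAffine XU'.left := GluedQuot.isAffine_of_isPullback hU'
  haveI : IsAffineHom iU.left := isAffineHom_of_isAffine _
  haveI : IsAffineHom iX.left := isAffineHom_of_isAffine _
  haveI : IsAffineHom pV.left :=
    MorphismProperty.of_isPullback (Groth.AlgSpBasic.isPullback_left hV'V).flip ‹IsAffineHom iU.left›
  haveI : IsAffineHom pY.left :=
    MorphismProperty.of_isPullback (Groth.AlgSpBasic.isPullback_left hV'Y).flip ‹IsAffineHom iX.left›
  have hV : GluedAffine.Piece pV (pY ≫ y') := by
    rw [hV'Y.w]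
    exact GluedQuot.piece_of_pullback (GluedQuot.piece_of_isPullback hU') hV'V
  have hY : GluedAffine.Piece pY (pV ≫ v) := by
    rw [hV'V.w]
    exact GluedQuot.piece_of_pullback (GluedQuot.piece_of_isPullback hU'.flip) hV'Y
  exact GluedQuot.exists_glueing hRR' tU tX v y' pV pY hV hY

end Groth.Agent.S10725
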