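import Groth.Statements.S10726
import Groth.Agent.AlgSpBasic.GluePairPoint
import Groth.Agent.AlgSpBasic.GlueHom
import Groth.Agent.AlgSpBasic.FpqcHom

set_option autoImplicit false
universe u
open CategoryTheory CategoryTheory.Limits AlgebraicGeometry TensorProduct
open AlgSp Groth.AlgSpBasic

namespace Groth.Agent.S10726

open scoped TensorProduct
attribute [local instance] Algebra.TensorProduct.rightAlgebra

/-- Let `(R → R', f)` be a glueing pair, `X = Spec R`, `U = Spec R_f`, `X' = Spec R'`, `U' = U ×_X X'`,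
and let `Y`, `Z` be algebraic spaces over `X`, glueable for `(R → R', f)`, with `Z` having affine
diagonal over `X`. Then morphisms `a : U ×_X Y → U ×_X Z` over `U` and `b : X' ×_X Y → X' ×_X Z`
over `X'` that induce the same morphism over `U'` are induced by a unique morphism `Y → Z` over `X`.
(The published statement asks both spaces to have affine diagonal over `X`; this row asks it only of
`Z`, which is all the argument uses.) -/
theorem result (R : Type u) [CommRing R] (R' : Type u) [CommRing R'] [Algebra R R']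
    (f : R) (hRR' : EtGlue.IsGlueingPair R R' f) {Y Z YU ZU YX ZX YU' ZU' : AlgSp.Space (Spec (CommRingCat.of R))}
    (hY : (∀ (A : Type u) [CommRing A] [Algebra R A]
      (g : (AlgSp.yon (Spec (CommRingCat.of R))).obj (Over.mk (Spec.map (CommRingCat.ofHom (algebraMap R A))) : Over (Spec (CommRingCat.of R))) ⟶ Y.obj),
      AlgSp.RepWith @Etale g → EtGlue.IsGlueable R R' f A))
    (hZ : (∀ (A : Type u) [CommRing A] [Algebra R A]
      (g : (AlgSp.yon (Spec (CommRingCat.of R))).obj (Over.mk (Spec.map (CommRingCat.ofHom (algebraMap R A))) : Over (Spec (CommRingCat.of R))) ⟶ Z.obj),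
      AlgSp.RepWith @Etale g → EtGlue.IsGlueable R R' f A))
    (hZd : AlgSp.IsAffineMor (Limits.diag Z.obj)) (πY : Y.obj ⟶ (AlgSp.yon (Spec (CommRingCat.of R))).obj (Over.mk (𝟙 _)))
    (πZ : Z.obj ⟶ (AlgSp.yon (Spec (CommRingCat.of R))).obj (Over.mk (𝟙 _)))
    (inU : (Over.mk (Spec.map (CommRingCat.ofHom (algebraMap R (Localization.Away f)))) : Over (Spec (CommRingCat.of R))) ⟶ Over.mk (𝟙 _))
    (inX : (Over.mk (Spec.map (CommRingCat.ofHom (algebraMap R R'))) : Over (Spec (CommRingCat.of R))) ⟶ Over.mk (𝟙 _))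
    (uY : YU ⟶ Y) (sY : YU.obj ⟶ (AlgSp.yon (Spec (CommRingCat.of R))).obj (Over.mk (Spec.map (CommRingCat.ofHom (algebraMap R (Localization.Away f)))) : Over (Spec (CommRingCat.of R))))
    (hYU : IsPullback uY.hom sY πY ((AlgSp.yon (Spec (CommRingCat.of R))).map inU))
    (uZ : ZU ⟶ Z) (sZ : ZU.obj ⟶ (AlgSp.yon (Spec (CommRingCat.of R))).obj (Over.mk (Spec.map (CommRingCat.ofHom (algebraMap R (Localization.Away f)))) : Over (Spec (CommRingCat.of R))))
    (hZU : IsPullback uZ.hom sZ πZ ((AlgSp.yon (Spec (CommRingCat.of R))).map inU))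
    (xY : YX ⟶ Y) (rY : YX.obj ⟶ (AlgSp.yon (Spec (CommRingCat.of R))).obj (Over.mk (Spec.map (CommRingCat.ofHom (algebraMap R R'))) : Over (Spec (CommRingCat.of R))))
    (hYX : IsPullback xY.hom rY πY ((AlgSp.yon (Spec (CommRingCat.of R))).map inX))
    (xZ : ZX ⟶ Z) (rZ : ZX.obj ⟶ (AlgSp.yon (Spec (CommRingCat.of R))).obj (Over.mk (Spec.map (CommRingCat.ofHom (algebraMap R R'))) : Over (Spec (CommRingCat.of R))))
    (hZX : IsPullback xZ.hom rZ πZ ((AlgSp.yon (Spec (CommRingCat.of R))).map inX))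
    (mY₁ : YU' ⟶ YU) (mY₂ : YU' ⟶ YX) (hYU' : IsPullback mY₁.hom mY₂.hom uY.hom xY.hom)
    (mZ₁ : ZU' ⟶ ZU) (mZ₂ : ZU' ⟶ ZX) (hZU' : IsPullback mZ₁.hom mZ₂.hom uZ.hom xZ.hom)
    (a : YU ⟶ ZU) (ha : a.hom ≫ sZ = sY) (b : YX ⟶ ZX) (hb : b.hom ≫ rZ = rY) (c : YU' ⟶ ZU')
    (hc₁ : c ≫ mZ₁ = mY₁ ≫ a) (hc₂ : c ≫ mZ₂ = mY₂ ≫ b) :
    ∃! φ : Y ⟶ Z, uY ≫ φ = a ≫ uZ ∧ xY ≫ φ = b ≫ xZ := by
  classical
  have hT : ∀ {F : Sp (Spec (CommRingCat.of R))} (p q : F ⟶ (yon _).obj (Over.mk (𝟙 _))), p = q := by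
    intro F p q
    refine GlueHom.hom_ext_yon fun T x => ?_
    obtain ⟨k₁, hk₁⟩ := (yon _).map_surjective (x ≫ p)
    obtain ⟨k₂, hk₂⟩ := (yon _).map_surjective (x ≫ q)
    rw [← hk₁, ← hk₂]
    refine congrArg _ (Over.OverMorphism.ext ?_)
    exact (Category.comp_id _).symm.trans ((Over.w k₁).trans ((Over.w k₂).symm.trans (Category.comp_id _)))
  let VU : ∀ {W : Sp (Spec (CommRingCat.of R))} (_ : W ⟶ Y.obj)
      (_ : W ⟶ (yon _).obj (algObj R (Localization.Away f))), W ⟶ Z.obj :=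
    fun x u => hYU.lift x u (hT _ _) ≫ a.hom ≫ uZ.hom
  let VX : ∀ {W : Sp (Spec (CommRingCat.of R))} (_ : W ⟶ Y.obj)
      (_ : W ⟶ (yon _).obj (algObj R R')), W ⟶ Z.obj :=
    fun x v => hYX.lift x v (hT _ _) ≫ b.hom ≫ xZ.hom
  have compU : ∀ {W W' : Sp (Spec (CommRingCat.of R))} (φ : W' ⟶ W) (x : W ⟶ Y.obj)
      (u : W ⟶ (yon _).obj (algObj R (Localization.Away f))), φ ≫ VU x u = VU (φ ≫ x) (φ ≫ u) :=
    fun φ x u => GlueHom.comp_lift_assoc hYU φ x u _ _
  have compX : ∀ {W W' : Sp (Spec (CommRingCat.of R))} (φ : W' ⟶ W) (x : W ⟶ Y.obj)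
      (v : W ⟶ (yon _).obj (algObj R R')), φ ≫ VX x v = VX (φ ≫ x) (φ ≫ v) :=
    fun φ x v => GlueHom.comp_lift_assoc hYX φ x v _ _
  have hUX : ∀ {W : Sp (Spec (CommRingCat.of R))} (x : W ⟶ Y.obj)
      (u : W ⟶ (yon _).obj (algObj R (Localization.Away f))) (v : W ⟶ (yon _).obj (algObj R R')),
      VU x u = VX x v := by
    intro W x u v
    have hl : hYU.lift x u (hT _ _) ≫ uY.hom = hYX.lift x v (hT _ _) ≫ xY.hom := by
      rw [hYU.lift_fst, hYX.lift_fst]
    have e₁ : mY₁.hom ≫ a.hom = c.hom ≫ mZ₁.hom := congrArg (fun k => k.hom) hc₁.symm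
    have e₂ : mY₂.hom ≫ b.hom = c.hom ≫ mZ₂.hom := congrArg (fun k => k.hom) hc₂.symm
    show _ ≫ _ = _ ≫ _
    rw [← hYU'.lift_fst _ _ hl]
    conv_rhs => rw [← hYU'.lift_snd _ _ hl]
    simp only [Category.assoc]
    rw [reassoc_of% e₁, reassoc_of% e₂, hZU'.w]
  obtain ⟨ι, A, iA, jA, g, hg, hcov⟩ := exists_algObj_charts Y
  have H : ∀ k, ∃ z : (yon _).obj (algObj R (A k)) ⟶ Z.obj,
      (∀ (T : Over (Spec (CommRingCat.of R))) (γ : T ⟶ algObj R (A k)) (u : T ⟶ algObj R (Localization.Away f)),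
        (yon _).map γ ≫ z = VU ((yon _).map γ ≫ g k) ((yon _).map u)) ∧
      ∀ (T : Over (Spec (CommRingCat.of R))) (γ : T ⟶ algObj R (A k)) (v : T ⟶ algObj R R'),
        (yon _).map γ ≫ z = VX ((yon _).map γ ≫ g k) ((yon _).map v) := by
    intro k
    let sb := Spec.map (CommRingCat.ofHom (algebraMap R (A k)))
    let tk := algebraMap R (A k) f
    have hp : EtGlue.IsGlueingPair (A k) (R' ⊗[R] A k) tk :=
      Groth.EtaleAlgebra.Glue.isGlueingPair_algebra (A k) hRR'
        ((Groth.EtaleAlgebra.Glue.isGlueable_iff hRR').1 (hY (A k) (g k) (hg k)))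
    let iU : GlueHom.sch sb (Localization.Away tk) ⟶ algObj R (Localization.Away f) :=
      Over.homMk (Spec.map (CommRingCat.ofHom (Localization.awayMap (algebraMap R (A k)) f)))
        (Groth.TorsProper.Adic.specMap_awayMap f (algebraMap R (A k)))
    let iX : GlueHom.sch sb (R' ⊗[R] A k) ⟶ algObj R R' :=
      Over.homMk (Spec.map (CommRingCat.ofHom (algebraMap R' (R' ⊗[R] A k))))
        (Groth.TorsProper.Adic.specMap_tensor (A k))
    obtain ⟨z, hz₁, hz₂⟩ := GluePair.exists_point sb hp Z.property hZd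
      (VU ((yon _).map (GlueHom.str sb _) ≫ g k) ((yon _).map iU))
      (VX ((yon _).map (GlueHom.str sb _) ≫ g k) ((yon _).map iX)) (fun D _ _ β₁ β₂ => by
        rw [compU, compX]
        simp only [← Category.assoc, ← Functor.map_comp, GlueHom.schMap_str]
        exact hUX _ _ _)
    refine ⟨z, fun T γ u => ?_, fun T γ v => ?_⟩
    · have hsq := Groth.TorsProper.Adic.isPullback_away (A := R) (t := f) (A k)
      have hw : γ.left ≫ sb = u.left ≫ Spec.map (CommRingCat.ofHom (algebraMap R (Localization.Away f))) :=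
        (Over.w γ).trans (Over.w u).symm
      let k₀ : T ⟶ GlueHom.sch sb (Localization.Away tk) := Over.homMk (hsq.lift γ.left u.left hw) (by
        show _ ≫ _ ≫ sb = T.hom
        rw [hsq.lift_fst_assoc]
        exact Over.w γ)
      have h₁ : k₀ ≫ GlueHom.str sb _ = γ := Over.OverMorphism.ext (hsq.lift_fst _ _ hw)
      have h₂ : k₀ ≫ iU = u := Over.OverMorphism.ext (hsq.lift_snd _ _ hw)
      rw [← h₁, Functor.map_comp, Category.assoc, hz₁, compU, ← Category.assoc, ← Functor.map_comp,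
        ← Functor.map_comp, h₂]
    · have hsq := Groth.TorsProper.Adic.isPullback_tensor (A := R) (A' := R') (A k)
      have hw : γ.left ≫ sb = v.left ≫ Spec.map (CommRingCat.ofHom (algebraMap R R')) :=
        (Over.w γ).trans (Over.w v).symm
      let k₀ : T ⟶ GlueHom.sch sb (R' ⊗[R] A k) := Over.homMk (hsq.lift γ.left v.left hw) (by
        show _ ≫ _ ≫ sb = T.hom
        rw [hsq.lift_fst_assoc]
        exact Over.w γ)
      have h₁ : k₀ ≫ GlueHom.str sb _ = γ := Over.OverMorphism.ext (hsq.lift_fst _ _ hw)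
      have h₂ : k₀ ≫ iX = v := Over.OverMorphism.ext (hsq.lift_snd _ _ hw)
      rw [← h₁, Functor.map_comp, Category.assoc, hz₂, compX, ← Category.assoc, ← Functor.map_comp,
        ← Functor.map_comp, h₂]
  choose z hzU hzX using H
  have hcovg : IsFpqcCover (fun k => (yon _).obj (algObj R (A k))) g :=
    Groth.AlgSp2.isFpqcCover_of_etale Y.property g hg hcov
  obtain ⟨φ, hφ⟩ := exists_desc_of_isFpqcCover g Z.property hcovg z (by
    intro k l T t t' htt
    obtain ⟨W, p, q, sq⟩ := exists_pullback_yon (hg k).rep (g l)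
    haveI : Etale q.left := repWith_fst_of_isPullback sq (hg k)
    have key : (yon _).map p ≫ z k = (yon _).map q ≫ z l := by
      refine hom_ext_of_glueingPair hRR' (Y := (⟨(yon _).obj W, IsAlgSpace.yon_obj W⟩ : Space _))
        (fun C _ _ g' hg' => hY C (g' ≫ (yon _).map q ≫ g l)
          (repWith_comp hg' (repWith_comp ((repWith_yon_map_iff _ _).2 ‹_›) (hg l))))
        fun T' x hx => ?_
      obtain ⟨γ, rfl⟩ := (yon _).map_surjective x
      rcases hx with ⟨⟨u⟩⟩ | ⟨⟨v⟩⟩
      · simp only [← Category.assoc, ← Functor.map_comp]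
        rw [hzU k T' _ u, hzU l T' _ u]
        congr 1
        simp only [Functor.map_comp, Category.assoc, sq.w]
      · simp only [← Category.assoc, ← Functor.map_comp]
        rw [hzX k T' _ v, hzX l T' _ v]
        congr 1
        simp only [Functor.map_comp, Category.assoc, sq.w]
    rw [← sq.lift_fst _ _ htt]
    conv_rhs => rw [← sq.lift_snd _ _ htt]
    rw [Category.assoc, Category.assoc, key])
  refine ⟨ObjectProperty.homMk φ, ⟨ObjectProperty.hom_ext _ ?_, ObjectProperty.hom_ext _ ?_⟩, fun φ' h => ?_⟩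
  · show uY.hom ≫ φ = a.hom ≫ uZ.hom
    refine hom_ext_of_isFpqcCover (fun k => pullback.fst uY.hom (g k)) Z.property
      (Groth.AlgSp2.isFpqcCover_baseChange Y.property YU.property (fun k => IsAlgSpace.yon_obj (algObj R (A k)))
        (fun k => IsPullback.of_hasPullback uY.hom (g k)) hcovg) fun k => GlueHom.hom_ext_yon fun T x => ?_
    obtain ⟨γ, hγ⟩ := (yon _).map_surjective (x ≫ pullback.snd uY.hom (g k))
    obtain ⟨u, hu⟩ := (yon _).map_surjective (x ≫ pullback.fst uY.hom (g k) ≫ sY)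
    have hg' : (yon _).map γ ≫ g k = x ≫ pullback.fst uY.hom (g k) ≫ uY.hom := by
      rw [hγ, Category.assoc, pullback.condition]
    have e := hzU k T γ u
    rw [← hφ k, ← Category.assoc, hg'] at e
    simp only [Category.assoc] at e
    rw [e]
    show hYU.lift _ _ _ ≫ _ = _
    simp only [← Category.assoc]
    congr 2
    exact hYU.hom_ext (by rw [hYU.lift_fst, Category.assoc]) (by rw [hYU.lift_snd, hu, Category.assoc])
  · show xY.hom ≫ φ = b.hom ≫ xZ.hom
    refine hom_ext_of_isFpqcCover (fun k => pullback.fst xY.hom (g k)) Z.property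
      (Groth.AlgSp2.isFpqcCover_baseChange Y.property YX.property (fun k => IsAlgSpace.yon_obj (algObj R (A k)))
        (fun k => IsPullback.of_hasPullback xY.hom (g k)) hcovg) fun k => GlueHom.hom_ext_yon fun T x => ?_
    obtain ⟨γ, hγ⟩ := (yon _).map_surjective (x ≫ pullback.snd xY.hom (g k))
    obtain ⟨v, hv⟩ := (yon _).map_surjective (x ≫ pullback.fst xY.hom (g k) ≫ rY)
    have hg' : (yon _).map γ ≫ g k = x ≫ pullback.fst xY.hom (g k) ≫ xY.hom := by
      rw [hγ, Category.assoc, pullback.condition]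
    have e := hzX k T γ v
    rw [← hφ k, ← Category.assoc, hg'] at e
    simp only [Category.assoc] at e
    rw [e]
    show hYX.lift _ _ _ ≫ _ = _
    simp only [← Category.assoc]
    congr 2
    exact hYX.hom_ext (by rw [hYX.lift_fst, Category.assoc]) (by rw [hYX.lift_snd, hv, Category.assoc])
  · refine ObjectProperty.hom_ext _ (hom_ext_of_glueingPair hRR' hY fun T x hx => ?_)
    show x ≫ φ'.hom = x ≫ φ
    have h1 : uY.hom ≫ φ'.hom = a.hom ≫ uZ.hom := congrArg (fun k => k.hom) h.1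
    have h2 : xY.hom ≫ φ'.hom = b.hom ≫ xZ.hom := congrArg (fun k => k.hom) h.2
    refine hom_ext_of_isFpqcCover (fun k => pullback.fst x (g k)) Z.property
      (Groth.AlgSp2.isFpqcCover_baseChange Y.property (IsAlgSpace.yon_obj T)
        (fun k => IsAlgSpace.yon_obj (algObj R (A k))) (fun k => IsPullback.of_hasPullback x (g k)) hcovg)
      fun k => GlueHom.hom_ext_yon fun T' w => ?_
    obtain ⟨γ, hγ⟩ := (yon _).map_surjective (w ≫ pullback.snd x (g k))
    obtain ⟨r, hr⟩ := (yon _).map_surjective (w ≫ pullback.fst x (g k))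
    have hg' : (yon _).map γ ≫ g k = (yon _).map r ≫ x := by
      rw [hγ, hr, Category.assoc, Category.assoc, pullback.condition]
    simp only [← Category.assoc]
    rw [← hr, ← hg', Category.assoc _ (g k) φ, hφ k]
    rcases hx with ⟨⟨u⟩⟩ | ⟨⟨v⟩⟩
    · rw [hzU k T' γ (r ≫ u)]
      show _ = hYU.lift _ _ _ ≫ a.hom ≫ uZ.hom
      rw [← h1, ← Category.assoc, hYU.lift_fst]
    · rw [hzX k T' γ (r ≫ v)]
      show _ = hYX.lift _ _ _ ≫ b.hom ≫ xZ.hom
      rw [← h2, ← Category.assoc, hYX.lift_fst]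

end Groth.Agent.S10726
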