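import Groth.Statements.S10734
import Groth.Agent.AlgSp2.Chevalley.Main
-- import your own Groth.Agent.* helpers here

set_option autoImplicit false
set_option backward.isDefEq.respectTransparency.types false
universe u
open CategoryTheory CategoryTheory.Limits AlgebraicGeometry Opposite
open AlgSp

namespace Groth.Agent.S10734

/-- Let X be a Noetherian algebraic space (quasi-compact, quasi-separated, locally Noetherian) over a
quasi-separated scheme S, T an affine scheme over S and f : h_T ⟶ X a finite surjective morphism.
Then X is an affine scheme: there is an affine scheme T' over S with h_{T'} ≅ X. -/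
theorem result {S : Scheme.{u}} [QuasiSeparatedSpace ↥S]
    (X : AlgSp.Space S) (hqc : AlgSp.IsQuasiCompactSp X.obj) (hqs : AlgSp.IsQuasiSeparatedSp X.obj)
    (hN : AlgSp.IsLocNoethSp X.obj) {T : Over S} (hT : IsAffine T.left) (f : (AlgSp.yon S).obj T ⟶ X.obj)
    (hfin : AlgSp.IsFiniteMor f) (hsurj : AlgSp.IsSurjectiveMor f) :
    ∃ T' : Over S, IsAffine T'.left ∧ Nonempty ((AlgSp.yon S).obj T' ≅ X.obj) := by
  have := hT
  have hfR : AlgSp.RepWith @IsFinite f :=
    (Groth.AlgSp2.isFiniteMor_iff (AlgSp.IsAlgSpace.yon_obj T) X.property).1 hfin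
  exact Groth.AlgSp2.Chevalley.exists_iso_affine X.property hsurj
    (Groth.AlgSp2.Chevalley.isUnivClosedMor_of_repWith
      (Groth.AlgSpBasic.repWith_mono (fun _ _ k (_ : IsFinite k) => (inferInstance : UniversallyClosed k)) hfR))

end Groth.Agent.S10734
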