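import Groth.Agent.ModEtQCoh.HomColim

set_option autoImplicit false
set_option backward.isDefEq.respectTransparency.types false
universe u
open CategoryTheory CategoryTheory.Limits AlgebraicGeometry Opposite
open AlgSp

namespace Groth.Agent.S10737

/-- Let X be a quasi-compact algebraic space, quasi-separated over a quasi-separated base scheme S, and
G an O_X-module of finite presentation on the small etale site of X. Then for every system (F_i) of
O_X-modules indexed by a nonempty directed preorder I, the canonical map colim_i Hom(G, F_i) ⟶
Hom(G, colim_i F_i) is a bijection: the functor Hom(G, -) preserves colimits of shape I. -/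
theorem result {S : Scheme.{u}}
    [QuasiSeparatedSpace ↥S] (X : AlgSp.Space S) (hqc : AlgSp.IsQuasiCompactSp X.obj)
    (hqs : AlgSp.IsQuasiSeparatedSp X.obj) (G : AlgSp.ModEt X.obj) [G.IsFinitePresentation]
    (I : Type (u + 1)) [Preorder I] [IsDirected I (· ≤ ·)] [Nonempty I] :
    PreservesColimitsOfShape I (coyoneda.obj (op G)) := by
  obtain ⟨V, q, hV, hqe, hqs'⟩ := Groth.AlgSpBasic.exists_affine_chart X.property hqc
  let U : AlgSp.EtOver X.obj := AlgSp.EtOver.mk q hqe
  have : IsAffine U.obj.left.left := hV
  haveI : IsFiltered I := inferInstance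
  exact ⟨fun {D} => ⟨fun {c} hc => Groth.ModEtQCoh.HomColim.isColimit_coyoneda hqs (U := U)
    (Groth.AlgSpBasic.surjective_ofPt_of_repWith hqs') hc⟩⟩

end Groth.Agent.S10737
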