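import Groth.Agent.ModEtQCoh.Closure

-- import your own Groth.Agent.* helpers here

set_option autoImplicit false
universe u
open CategoryTheory CategoryTheory.Limits AlgebraicGeometry Opposite
open AlgSp

namespace Groth.Agent.S10742

/-- Let X be a locally Noetherian algebraic space over S and φ : M ⟶ N a morphism of coherent
O_X-modules on the small etale site of X (coherent meaning of finite presentation, X being locally
Noetherian). Then the kernel and the cokernel of φ are coherent. -/
theorem result {S : Scheme.{u}} (X : AlgSp.Space S)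
    (hX : AlgSp.IsLocNoethSp X.obj) {M N : AlgSp.ModEt X.obj} [M.IsFinitePresentation] [N.IsFinitePresentation]
    (φ : M ⟶ N) :
    (kernel φ).IsFinitePresentation ∧ (cokernel φ).IsFinitePresentation := by
  have hM := Groth.ModEtQCoh.hasBC_of_isQuasicoherent M
  have hN := Groth.ModEtQCoh.hasBC_of_isQuasicoherent N
  have : (kernel φ).IsQuasicoherent :=
    Groth.ModEtQCoh.isQuasicoherent_of_hasBC (Groth.ModEtQCoh.hasBC_kernel hM hN φ)
  have : (cokernel φ).IsQuasicoherent :=
    Groth.ModEtQCoh.isQuasicoherent_of_hasBC (Groth.ModEtQCoh.hasBC_cokernel hM hN φ)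
  exact ⟨Groth.ModEtQCoh.isFinitePresentation_of_forall_finite X.property hX _
      fun E _ => Groth.ModEtQCoh.finite_of_mono X.property hX (kernel.ι φ) E,
    Groth.ModEtQCoh.isFinitePresentation_of_forall_finite X.property hX _
      fun E _ => Groth.ModEtQCoh.finite_of_epi (cokernel.π φ) E⟩

end Groth.Agent.S10742
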