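import Groth.Agent.ModEtQCoh.Closure

-- import your own Groth.Agent.* helpers here

set_option autoImplicit false
universe u
open CategoryTheory CategoryTheory.Limits AlgebraicGeometry Opposite
open AlgSp

namespace Groth.Agent.S10743

/-- Let X be a locally Noetherian algebraic space over S and 0 ⟶ M₁ ⟶ M₂ ⟶ M₃ ⟶ 0 a short exact sequence
of O_X-modules on the small etale site of X with M₁ and M₃ coherent (of finite presentation, X being
locally Noetherian). Then M₂ is coherent. -/
theorem result {S : Scheme.{u}} (X : AlgSp.Space S)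
    (hX : AlgSp.IsLocNoethSp X.obj) (T : ShortComplex (AlgSp.ModEt X.obj)) (hT : T.ShortExact)
    [T.X₁.IsFinitePresentation] [T.X₃.IsFinitePresentation] :
    T.X₂.IsFinitePresentation := by
  have h₁ := Groth.ModEtQCoh.hasBC_of_isQuasicoherent T.X₁
  have h₃ := Groth.ModEtQCoh.hasBC_of_isQuasicoherent T.X₃
  have : T.X₂.IsQuasicoherent :=
    Groth.ModEtQCoh.isQuasicoherent_of_hasBC (Groth.ModEtQCoh.hasBC_middle hT h₁ h₃)
  exact Groth.ModEtQCoh.isFinitePresentation_of_forall_finite X.property hX _
    fun E _ => Groth.ModEtQCoh.finite_middle hT h₁ E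

end Groth.Agent.S10743
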