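import Groth.Agent.ModEtQCoh.CoherentUnion

set_option autoImplicit false
set_option backward.isDefEq.respectTransparency.types false
universe u
open CategoryTheory CategoryTheory.Limits AlgebraicGeometry Opposite
open AlgSp

namespace Groth.Agent.S10748

/-- Let X be a Noetherian algebraic space (quasi-compact, quasi-separated, locally Noetherian) over a
quasi-separated scheme S and M a quasi-coherent O_X-module on the small etale site of X. Then M is
the union, as a filtered colimit, of those of its submodules that are coherent: the full subcategory
of monomorphisms N ⟶ M with N of finite presentation is filtered, and the cocone on their sources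
with vertex M given by the inclusions is a colimit. -/
theorem result {S : Scheme.{u}} [QuasiSeparatedSpace ↥S]
    (X : AlgSp.Space S) (hqc : AlgSp.IsQuasiCompactSp X.obj) (hqs : AlgSp.IsQuasiSeparatedSp X.obj)
    (hN : AlgSp.IsLocNoethSp X.obj) (M : AlgSp.ModEt X.obj) [M.IsQuasicoherent] :
    IsFiltered (ObjectProperty.FullSubcategory
        (fun N : MonoOver M => SheafOfModules.IsFinitePresentation N.obj.left)) ∧
      Nonempty (IsColimit ((Over.forgetCocone M).whisker
        (ObjectProperty.ι (fun N : MonoOver M => SheafOfModules.IsFinitePresentation N.obj.left) ⋙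
          MonoOver.forget M))) := by
  obtain ⟨V, q, hV, hqe, hqs'⟩ := Groth.AlgSpBasic.exists_affine_chart X.property hqc
  let U : AlgSp.EtOver X.obj := AlgSp.EtOver.mk q hqe
  have : IsAffine U.obj.left.left := hV
  have hsurj : Function.Surjective (AlgSp.Points.ofPt U.obj.hom) := Groth.AlgSpBasic.surjective_ofPt_of_repWith hqs'
  refine ⟨Groth.ModEtQCoh.CoherentUnion.isFiltered_coh (U := U) X.property hqs hN hsurj, ⟨?_⟩⟩
  have key := fun (c : Cocone (ObjectProperty.ι (fun N : MonoOver M => SheafOfModules.IsFinitePresentation N.obj.left) ⋙
      MonoOver.forget M ⋙ Over.forget M)) =>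
    Groth.ModEtQCoh.CoherentUnion.existsUnique_desc (U := U) X.property hqs hN hsurj
      (fun N => c.ι.app N) (fun A B f => c.w f)
  exact
    { desc := fun c => (key c).choose
      fac := fun c N => (key c).choose_spec.1 N
      uniq := fun c m hm => (key c).choose_spec.2 m hm }

end Groth.Agent.S10748
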