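import Groth.Agent.ModEtQCoh.AffinePres
import Groth.Agent.AlgSp2.Approx.SchemeStage
import Groth.Agent.AlgSp2.AffineRep

set_option autoImplicit false
set_option backward.isDefEq.respectTransparency.types false
universe u
open CategoryTheory CategoryTheory.Limits AlgebraicGeometry Opposite
open AlgSp

namespace Groth.Agent.S10749

/-- Let f : X ⟶ Y be an affine morphism of algebraic spaces over a quasi-separated scheme S with Y
Noetherian (quasi-compact, quasi-separated, locally Noetherian). Then every quasi-coherent
O_X-module M on the small etale site of X is a filtered colimit of O_X-modules of finite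
presentation. -/
theorem result {S : Scheme.{u}} [QuasiSeparatedSpace ↥S]
    {X Y : AlgSp.Space S} (f : X ⟶ Y) (haff : AlgSp.IsAffineMor f.hom) (hqc : AlgSp.IsQuasiCompactSp Y.obj)
    (hqs : AlgSp.IsQuasiSeparatedSp Y.obj) (hN : AlgSp.IsLocNoethSp Y.obj) (M : AlgSp.ModEt X.obj)
    [M.IsQuasicoherent] :
    ∃ (J : Type (u + 1)) (_ : SmallCategory J) (_ : IsFiltered J) (D : J ⥤ AlgSp.ModEt X.obj)
      (ι : D ⟶ (Functor.const J).obj M),
      (∀ j, (D.obj j).IsFinitePresentation) ∧ Nonempty (IsColimit (Cocone.mk M ι)) := by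
  have haff' : RepWith @IsAffineHom f.hom :=
    Groth.AlgSp2.repWith_isAffineHom_of_isAffineMor X.property Y.property haff
  obtain ⟨V, q, hV, hqe, hqs'⟩ := Groth.AlgSpBasic.exists_affine_chart Y.property hqc
  let σ : Groth.ModEtQCoh.AffinePres.Setup f.hom :=
    { hf := haff'.rep
      haff := haff'
      hY := Y.property
      hXqs := Groth.AlgSp2.Approx.isQuasiSeparatedSp_of_affineMor X.property haff hqs
      hqs := hqs
      hN := hN
      U := AlgSp.EtOver.mk q hqe
      hU := hV
      hsurj := Groth.AlgSpBasic.surjective_ofPt_of_repWith hqs' }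
  exact ⟨σ.Cat M, inferInstance, inferInstance, σ.diagram M, (σ.cocone M).ι,
    fun i => Groth.ModEtQCoh.AffinePres.Setup.isFinitePresentation_obj i,
    Groth.ModEtQCoh.AffinePres.Setup.isColimit_cocone⟩

end Groth.Agent.S10749
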