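import Groth.Agent.ModEtQCoh.Vanish.PushCohom
-- import your own Groth.Agent.* helpers here

set_option autoImplicit false
universe u
open CategoryTheory CategoryTheory.Limits AlgebraicGeometry Opposite
open AlgSp

namespace Groth.Agent.S10753

/-- Let X be a quasi-compact algebraic space, quasi-separated over a quasi-separated base scheme S, such
that H^1(X, M) = 0 for every quasi-coherent O_X-module M on the small etale site of X, and let f :
X' ⟶ X be an affine morphism of algebraic spaces. Then H^1(X', M') = 0 for every quasi-coherent
O_{X'}-module M'. (The companion statement about base change along a ring map out of the ring of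
global functions of X is not included.) -/
theorem result {S : Scheme.{u}} [QuasiSeparatedSpace ↥S]
    {X' X : AlgSp.Space S} (hqc : AlgSp.IsQuasiCompactSp X.obj) (hqs : AlgSp.IsQuasiSeparatedSp X.obj)
    (h1 : ∀ M : AlgSp.ModEt X.obj, M.IsQuasicoherent → Subsingleton (AlgSp.HModEt X.obj M 1))
    (f : X' ⟶ X) (haff : AlgSp.IsAffineMor f.hom)
    (M' : AlgSp.ModEt X'.obj) [M'.IsQuasicoherent] :
    Subsingleton (AlgSp.HModEt X'.obj M' 1) := by
  have ha := Groth.AlgSpBasic.isAffineMor_iff_repWith.1 haff
  have hq : ((pushModEt ha.rep).obj M').IsQuasicoherent :=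
    Groth.ModEtQCoh.isQuasicoherent_push ha.rep
      (MorphismProperty.relative_monotone (fun _ _ g (hg : IsAffineHom ((Over.forget S).map g)) =>
        (inferInstanceAs (QuasiCompact ((Over.forget S).map g)))) _ ha)
      (MorphismProperty.relative_monotone (fun _ _ g (hg : IsAffineHom ((Over.forget S).map g)) =>
        (inferInstanceAs (QuasiSeparated ((Over.forget S).map g)))) _ ha) M'
  obtain ⟨e⟩ := Groth.EtVan.nonempty_HEt_pushEt ha.rep ha _ (Groth.EtVan.cechAcyclic_toAbEt M') 1
  exact @Equiv.subsingleton _ _ e.toEquiv (h1 _ hq)

end Groth.Agent.S10753
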