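import Groth.Agent.ModEtQCoh.StalkOpen
-- import your own Groth.Agent.* helpers here

set_option autoImplicit false
universe u
open CategoryTheory CategoryTheory.Limits AlgebraicGeometry Opposite
open AlgSp

namespace Groth.Agent.S10758

/-- Let X be a locally Noetherian algebraic space over S, φ : G ⟶ F a morphism of coherent O_X-modules
on the small etale site of X (of finite presentation, X being locally Noetherian) and x̄ a geometric
point of X. If the map φ_x̄ on stalks at x̄ (of the underlying abelian sheaves) is bijective, then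
there is an open subspace X' ⊂ X containing the image of x̄ such that φ|_{X'} is an isomorphism: φ
is bijective on sections over every scheme etale over X whose image in |X| lies in |X'|. -/
theorem result {S : Scheme.{u}} (X : AlgSp.Space S)
    (hX : AlgSp.IsLocNoethSp X.obj) {G F : AlgSp.ModEt X.obj} [G.IsFinitePresentation] [F.IsFinitePresentation]
    (φ : G ⟶ F) (xbar : AlgSp.FieldPt X.obj) (hx : xbar.IsGeometric)
    (hbij : IsIso ((AlgSp.stalkEtFunctor AddCommGrpCat.{u + 1} xbar).map ((AlgSp.toAbEt X.obj).map φ))) :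
    ∃ (X' : AlgSp.Space S) (j : X' ⟶ X), AlgSp.RepWith @IsOpenImmersion j.hom ∧
      AlgSp.Points.mk xbar ∈ Set.range (AlgSp.Points.map j.hom) ∧
        ∀ E : AlgSp.EtOver X.obj, Set.range (AlgSp.Points.ofPt E.obj.hom) ⊆ Set.range (AlgSp.Points.map j.hom) →
          IsIso (φ.val.app (op E)) := by
  obtain ⟨W₁, hW₁, hx₁, h₁⟩ := Groth.ModEtQCoh.StalkOpen.exists_open_injective hX φ xbar hx
    ((AddCommGrpCat.mono_iff_injective _).1 inferInstance)
  obtain ⟨W₂, hW₂, hx₂, h₂⟩ := Groth.ModEtQCoh.StalkOpen.exists_open_cokernel φ xbar hx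
    ((AddCommGrpCat.epi_iff_surjective _).1 inferInstance)
  obtain ⟨X', j, hj, hr⟩ := Groth.ModEtQCoh.StalkOpen.exists_openSpace (hW₁.inter hW₂)
  refine ⟨X', j, hj, hr ▸ ⟨hx₁, hx₂⟩, fun E hE => (ConcreteCategory.isIso_iff_bijective _).2 ?_⟩
  exact Groth.ModEtQCoh.StalkOpen.bijective_of_local φ (W := W₁ ∩ W₂)
    (fun E' hE' => h₁ E' (hE'.trans Set.inter_subset_left))
    (fun E' hE' => h₂ E' (hE'.trans Set.inter_subset_right)) E (hE.trans hr.le)

end Groth.Agent.S10758
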