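import Groth.Statements.S1077
import Groth.Agent.AbSub.Basic

set_option autoImplicit false
universe v u
open CategoryTheory CategoryTheory.Limits
open CohDer

namespace Groth.Agent.S1077

/-- One covering step preserves the chain conditions below an element of a modular lattice. -/
theorem wellFounded_Iic_of_covBy {L : Type*} [Lattice L] [IsModularLattice L] {a b : L}
    (hab : a ⋖ b) (h1 : WellFoundedLT (Set.Iic a)) (h2 : WellFoundedGT (Set.Iic a)) :
    WellFoundedLT (Set.Iic b) ∧ WellFoundedGT (Set.Iic b) := by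
  classical
  let φ : Set.Iic b → Bool × Set.Iic a := fun c =>
    (decide (¬ c.1 ≤ a), ⟨c.1 ⊓ a, inf_le_right⟩)
  have hmono : Monotone φ := by
    rintro ⟨c, hc⟩ ⟨d, hd⟩ (hcd : c ≤ d)
    refine ⟨?_, inf_le_inf_right a hcd⟩
    by_cases hda : d ≤ a
    · simp [φ, hda, hcd.trans hda]
    · simp [φ, hda]
  have hφ : StrictMono φ := by
    refine fun c d hcd => lt_of_le_of_ne (hmono hcd.le) fun e => ?_
    obtain ⟨c, hc⟩ := c
    obtain ⟨d, hd⟩ := d
    have hcd' : c < d := hcd
    simp only [φ, Prod.mk.injEq, decide_eq_decide, not_iff_not, Subtype.mk.injEq] at e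
    by_cases hda : d ≤ a
    · have hca := e.1.2 hda
      rw [inf_eq_left.2 hca, inf_eq_left.2 hda] at e
      exact hcd'.ne e.2
    · have hca : ¬ c ≤ a := fun h => hda (e.1.1 h)
      have hc' : c ⊔ a = b := by
        rcases eq_or_lt_of_le (le_sup_right : a ≤ c ⊔ a) with e' | l
        · exact absurd (e' ▸ le_sup_left) hca
        · exact (eq_or_lt_of_le (sup_le hc hab.le)).elim id fun l' => (hab.2 l l').elim
      exact hcd'.ne (eq_of_le_of_inf_le_of_sup_le hcd'.le e.2.ge (hc'.symm ▸ sup_le hd hab.le))
  exact ⟨hφ.wellFoundedLT, hφ.wellFoundedGT⟩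


/-- An object X of an abelian category is Artinian and Noetherian if and only if there is a finite chain
of subobjects ⊥ = F₀ ≤ F₁ ≤ … ≤ Fₙ = ⊤ of X whose successive quotients Fᵢ₊₁/Fᵢ are simple. -/
theorem result {A : Type u} [Category.{v} A] [Abelian A] (X : A) :
    (IsArtinianObject X ∧ IsNoetherianObject X) ↔
      ∃ (n : ℕ) (F : Fin (n + 1) → Subobject X) (hF : Monotone F), F 0 = ⊥ ∧ F (Fin.last n) = ⊤ ∧
        ∀ i : Fin n, Simple (cokernel (Subobject.ofLE (F (Fin.castSucc i)) (F (Fin.succ i)) (hF (Fin.castSucc_lt_succ (i := i)).le))) := by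
  constructor
  · rintro ⟨hA, hN⟩
    have := hA; have := hN
    obtain ⟨a, h0, n, hn, hcov⟩ :=
      exists_covBy_seq_of_wellFoundedLT_wellFoundedGT_of_le (bot_le : (⊥ : Subobject X) ≤ ⊤)
    have hmono : ∀ i j, i ≤ j → j ≤ n → a i ≤ a j := by
      intro i j hij hj
      induction j, hij using Nat.le_induction with
      | base => exact le_rfl
      | succ k hk ih => exact (ih (by omega)).trans (hcov k (by omega)).le
    refine ⟨n, fun i => a i, fun i j hij => hmono _ _ hij (Nat.le_of_lt_succ j.2), ?_, ?_, ?_⟩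
    · simpa using h0
    · simpa using hn
    · intro i
      rw [Groth.AbSub.simple_cokernel_iff_covBy]
      simpa using hcov i i.2
  · rintro ⟨n, F, hF, h0, hn, hs⟩
    have hcov : ∀ i : Fin n, F (Fin.castSucc i) ⋖ F (Fin.succ i) := fun i =>
      (Groth.AbSub.simple_cokernel_iff_covBy _).1 (hs i)
    have key : ∀ i : Fin (n + 1),
        WellFoundedLT (Set.Iic (F i)) ∧ WellFoundedGT (Set.Iic (F i)) := by
      intro i
      induction i using Fin.induction with
      | zero =>
        have : Subsingleton (Set.Iic (F 0)) := by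
          refine ⟨fun a b => Subtype.ext ?_⟩
          have ha := a.2; have hb := b.2
          simp only [Set.mem_Iic, h0, le_bot_iff] at ha hb
          rw [ha, hb]
        exact ⟨Finite.to_wellFoundedLT, Finite.to_wellFoundedGT⟩
      | succ i ih =>
        exact wellFounded_Iic_of_covBy (hcov i) ih.1 ih.2
    obtain ⟨h1, h2⟩ := key (Fin.last n)
    rw [hn] at h1 h2
    let e : Subobject X ≃o Set.Iic (⊤ : Subobject X) :=
      { toFun := fun a => ⟨a, Set.mem_Iic.2 le_top⟩
        invFun := Subtype.val
        left_inv := fun _ => rfl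
        right_inv := fun _ => rfl
        map_rel_iff' := Iff.rfl }
    constructor
    · exact (isArtinianObject.is_iff X).2 e.strictMono.wellFoundedLT
    · exact (isNoetherianObject.is_iff X).2 e.strictMono.wellFoundedGT

end Groth.Agent.S1077
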