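import Groth.Statements.S10771
import Groth.Agent.AlgSpRlim.SliceBC
-- import your own Groth.Agent.* helpers here

set_option autoImplicit false
universe u
open CategoryTheory CategoryTheory.Limits AlgebraicGeometry
attribute [local instance] HasDerivedCategory.standard
open AlgSp

namespace Groth.Agent.S10771

section Helpers

open Groth.ModEtQCoh Groth.AlgSpRlim DerivedCategory in
theorem homology_over {S : Scheme.{u}} {X : AlgSp.Sp S} (E : AlgSp.EtOver X) (K : AlgSp.DModEt X) (i : ℤ) :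
    Nonempty (((DCoh.HDMod (AlgSp.OEtRing X) K i).over E) ≅
      (homologyFunctor (AlgSp.ModEtOn E) i).obj ((AlgSp.resDEt E).obj K)) := by
  obtain ⟨C, ⟨e⟩⟩ : ∃ C : CochainComplex (AlgSp.ModEt X) ℤ, Nonempty (Q.obj C ≅ K) :=
    ⟨_, ⟨Q.objObjPreimageIso K⟩⟩
  let F := AlgSp.resModEt E
  exact ⟨F.mapIso ((homologyFunctor _ i).mapIso e.symm ≪≫ (homologyFunctorFactors _ i).app C) ≪≫
    ((C.sc i).mapHomologyIso F).symm ≪≫
      ((homologyFunctorFactors _ i).app ((F.mapHomologicalComplex (ComplexShape.up ℤ)).obj C)).symm ≪≫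
        (homologyFunctor _ i).mapIso ((F.mapDerivedCategoryFactors.app C).symm ≪≫ F.mapDerivedCategory.mapIso e)⟩

end Helpers

/-- Let X be an algebraic space over S and E an m-pseudo-coherent object of D(O_X) (modules on the small
etale site). Then H^i(E) is a quasi-coherent O_X-module for every i > m. In particular a
pseudo-coherent object has quasi-coherent cohomology sheaves. -/
theorem result {S : Scheme.{u}} (X : AlgSp.Space S) (m : ℤ)
    (E : AlgSp.DModEt X.obj) (hE : AlgSp.IsPseudoCoherentEtD m E) (i : ℤ) (hi : m < i) :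
    (DCoh.HDMod (AlgSp.OEtRing X.obj) E i).IsQuasicoherent := by
  refine Groth.AlgSpRlim.isQuasicoherent_of_local_hasBCO fun U => ?_
  obtain ⟨ι, V, g, hcov, hV⟩ := hE U
  have hmem : Sieve.ofArrows V g ∈ AlgSp.etTop X.obj U :=
    Precoverage.generate_mem_toGrothendieck hcov
  refine GrothendieckTopology.transitive _ hmem _ fun W k hk => ?_
  obtain ⟨Z, a, b, hb, rfl⟩ := hk
  obtain ⟨j⟩ := hb
  obtain ⟨E', α, hE', hiso, -⟩ := hV j
  have hbc : Groth.AlgSpRlim.HasBCO ((DCoh.HDMod (AlgSp.OEtRing X.obj) E i).over (V j)) := by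
    haveI := hiso i hi
    obtain ⟨e⟩ := homology_over (V j) E i
    exact Groth.AlgSpRlim.hasBCO_of_iso
      (e ≪≫ (asIso ((DerivedCategory.homologyFunctor (AlgSp.ModEtOn (V j)) i).map α)).symm ≪≫
        (DerivedCategory.homologyFunctorFactors (AlgSp.ModEtOn (V j)) i).app E')
      (Groth.AlgSpRlim.hasBCO_homology_of_isStrictlyPerfect hE' i)
  choose W' k' w hW hk' using Groth.ModEtQCoh.exists_affine_chart_of_ofPt W
  refine (AlgSp.etTop X.obj).superset_covering ?_
    (AlgSp.ofArrows_mem_etTop W' k' fun x => ⟨x, w x, hk' x⟩)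
  rw [Sieve.ofArrows, Sieve.generate_le_iff]
  rintro T f ⟨x⟩
  exact ⟨⟨W' x, hW x, Groth.AlgSpRlim.hasBCO_over_of_hom _ (k' x ≫ a) hbc⟩, ⟨𝟙 _⟩⟩

end Groth.Agent.S10771
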