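import Groth.Statements.S1078
import Groth.Agent.AbSub.Basic

set_option autoImplicit false
universe v u
open CategoryTheory CategoryTheory.Limits
open CohDer

namespace Groth.Agent.S1078

/-- Let X be an object of an abelian category with two finite chains of subobjects ⊥ = F₀ ≤ … ≤ Fₙ = ⊤
and ⊥ = G₀ ≤ … ≤ Gₘ = ⊤ whose successive quotients are simple. Then n = m, and after transporting
along this equality there is a permutation σ of the indices with Fᵢ₊₁/Fᵢ ≅ G_{σ(i)+1}/G_{σ(i)} for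
all i. -/
theorem result {A : Type u} [Category.{v} A] [Abelian A] (X : A)
    (n : ℕ) (F : Fin (n + 1) → Subobject X) (hF : Monotone F) (hF0 : F 0 = ⊥) (hFn : F (Fin.last n) = ⊤) (hFs : ∀ i : Fin n, Simple (cokernel (Subobject.ofLE (F (Fin.castSucc i)) (F (Fin.succ i)) (hF (Fin.castSucc_lt_succ (i := i)).le))))
    (m : ℕ) (G : Fin (m + 1) → Subobject X) (hG : Monotone G) (hG0 : G 0 = ⊥) (hGm : G (Fin.last m) = ⊤) (hGs : ∀ j : Fin m, Simple (cokernel (Subobject.ofLE (G (Fin.castSucc j)) (G (Fin.succ j)) (hG (Fin.castSucc_lt_succ (i := j)).le)))) :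
    ∃ (e : n = m) (σ : Equiv.Perm (Fin m)), ∀ i : Fin n,
      Nonempty (cokernel (Subobject.ofLE (F (Fin.castSucc i)) (F (Fin.succ i)) (hF (Fin.castSucc_lt_succ (i := i)).le)) ≅
        cokernel (Subobject.ofLE (G (Fin.castSucc (σ (Fin.cast e i)))) (G (Fin.succ (σ (Fin.cast e i)))) (hG (Fin.castSucc_lt_succ (i := σ (Fin.cast e i))).le))) := by
  let sF : CompositionSeries (Subobject X) :=
    ⟨n, F, fun i => (Groth.AbSub.simple_cokernel_iff_covBy _).1 (hFs i)⟩
  let sG : CompositionSeries (Subobject X) :=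
    ⟨m, G, fun i => (Groth.AbSub.simple_cokernel_iff_covBy _).1 (hGs i)⟩
  obtain ⟨f, hf⟩ := CompositionSeries.jordan_holder sF sG (hF0.trans hG0.symm) (hFn.trans hGm.symm)
  have e : n = m := by simpa [sF, sG] using Fintype.card_congr f
  subst e
  refine ⟨rfl, f, fun i => ?_⟩
  have h := JordanHolderLattice.Iso.rel
    (fun p q : Subobject X × Subobject X => (p.1 ≤ p.2 ↔ q.1 ≤ q.2) ∧
      ∀ (h : p.1 ≤ p.2) (h' : q.1 ≤ q.2), Nonempty (cokernel (Subobject.ofLE p.1 p.2 h) ≅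
        cokernel (Subobject.ofLE q.1 q.2 h')))
    (fun {x} => ⟨Iff.rfl, fun _ _ => ⟨Iso.refl _⟩⟩)
    (fun {x y} h => ⟨h.1.symm, fun a b => (h.2 b a).map Iso.symm⟩)
    (fun {x y z} h h' => ⟨h.1.trans h'.1, fun a b => by
      obtain ⟨i₁⟩ := h.2 a (h.1.1 a)
      obtain ⟨i₂⟩ := h'.2 (h.1.1 a) b
      exact ⟨i₁ ≪≫ i₂⟩⟩)
    (fun {x y} _ => ⟨iff_of_true le_sup_left inf_le_right, fun _ _ =>
      (Groth.AbSub.second_iso x y).map Iso.symm⟩)
    (hf i)
  exact h.2 _ _

end Groth.Agent.S1078
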