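import Groth.Statements.S10784
import Groth.Agent.AlgSpRlim.Main
import Groth.Agent.RFTrunc.Trunc
-- import your own Groth.Agent.* helpers here

set_option autoImplicit false
universe u
open CategoryTheory CategoryTheory.Limits AlgebraicGeometry
attribute [local instance] HasDerivedCategory.standard
open AlgSp

namespace Groth.Agent.S10784

/-- Let X be an algebraic space over S, F : Mod(O_X) ⥤ Ab (modules on the small etale site) a left exact
additive functor commuting with countable direct products, and N ≥ 0 an integer with R^pF(G) = 0 for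
every p ≥ N and every quasi-coherent module G (right derived functors computed with injective
resolutions). Assume the total right derived functor RF : D(O_X) ⥤ D(Ab) exists. Let E be in
D_QCoh(O_X) and a, b integers. If H^i(E) = 0 for all i < a, then H^i(RF(E)) = 0 for all i < a; and
if H^i(E) = 0 for all i > b, then H^i(RF(E)) = 0 for all i > b + N - 1. (Either bound may be absent:
the two implications are stated separately, so E need not be bounded on the other side.) -/
theorem result {S : Scheme.{u}} (X : AlgSp.Space S)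
    (F : AlgSp.ModEt X.obj ⥤ AddCommGrpCat.{u + 1}) [F.Additive] [PreservesFiniteLimits F]
    [PreservesLimitsOfShape (Discrete ℕ) F] [EnoughInjectives (AlgSp.ModEt X.obj)] (N : ℕ)
    (hF : ∀ G : AlgSp.ModEt X.obj, G.IsQuasicoherent → ∀ p : ℕ, N ≤ p → IsZero ((F.rightDerived p).obj G))
    [(F.mapHomotopyCategory (ComplexShape.up ℤ) ⋙ DerivedCategory.Qh).HasRightDerivedFunctor
      (HomotopyCategory.quasiIso (AlgSp.ModEt X.obj) (ComplexShape.up ℤ))]
    (E : AlgSp.DModEt X.obj) (hE : DCoh.IsQCohDMod (AlgSp.OEtRing X.obj) E) (a b : ℤ) :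
    ((∀ i : ℤ, i < a → IsZero (DCoh.HDMod (AlgSp.OEtRing X.obj) E i)) →
      ∀ i : ℤ, i < a → IsZero ((DerivedCategory.homologyFunctor AddCommGrpCat.{u + 1} i).obj (((F.mapHomotopyCategory (ComplexShape.up ℤ) ⋙ DerivedCategory.Qh).totalRightDerived DerivedCategory.Qh (HomotopyCategory.quasiIso (AlgSp.ModEt X.obj) (ComplexShape.up ℤ))).obj E))) ∧
    ((∀ i : ℤ, b < i → IsZero (DCoh.HDMod (AlgSp.OEtRing X.obj) E i)) →
      ∀ i : ℤ, b + N - 1 < i → IsZero ((DerivedCategory.homologyFunctor AddCommGrpCat.{u + 1} i).obj (((F.mapHomotopyCategory (ComplexShape.up ℤ) ⋙ DerivedCategory.Qh).totalRightDerived DerivedCategory.Qh (HomotopyCategory.quasiIso (AlgSp.ModEt X.obj) (ComplexShape.up ℤ))).obj E))) := by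
  haveI := Groth.AlgSpRlim.hasCountableProducts (X := X.obj)
  let RF := (F.mapHomotopyCategory (ComplexShape.up ℤ) ⋙ DerivedCategory.Qh).totalRightDerived DerivedCategory.Qh
    (HomotopyCategory.quasiIso (AlgSp.ModEt X.obj) (ComplexShape.up ℤ))
  let β := (F.mapHomotopyCategory (ComplexShape.up ℤ) ⋙ DerivedCategory.Qh).totalRightDerivedUnit DerivedCategory.Qh
    (HomotopyCategory.quasiIso (AlgSp.ModEt X.obj) (ComplexShape.up ℤ))
  have hX : ∀ (j : ℤ) (p : ℕ), N ≤ p →
      IsZero ((F.rightDerived p).obj ((DerivedCategory.homologyFunctor (AlgSp.ModEt X.obj) j).obj E)) :=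
    fun j p hp => hF _ (hE j) p hp
  have htri := Groth.AlgSpRlim.exists_triangle_tau (K₀ := E)
    fun j => haveI := hE j; Groth.AlgSpRlim.good_of_isQuasicoherent _
  have key := Groth.RFTrunc.bijective_truncGEπ F RF β E N hX htri
  refine ⟨fun ha i hi => ?_, fun hb i hi => ?_⟩
  · haveI : E.IsGE a := (DerivedCategory.isGE_iff E a).2 ha
    haveI := Groth.Misc4.RFBounded.isGE_obj F RF β E a
    exact (RF.obj E).isZero_of_isGE a i hi
  · let τ := (DerivedCategory.TStructure.t : CategoryTheory.Triangulated.TStructure (AlgSp.DModEt X.obj))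
    haveI : DerivedCategory.IsGE ((τ.truncGE (i - N + 1)).obj E) (i - N + 1) :=
      inferInstanceAs (τ.IsGE ((τ.truncGE (i - N + 1)).obj E) (i - N + 1))
    haveI : DerivedCategory.IsGE ((τ.truncGE (i - N + 1)).obj E) (i + 1) :=
      (DerivedCategory.isGE_iff _ _).2 fun j _ => by
        by_cases hj : i - N + 1 ≤ j
        · haveI := Groth.RFTrunc.isIso_H_truncGEπ E (n := i - N + 1) (j := j) hj
          exact (hb j (by omega)).of_iso
            (asIso ((DerivedCategory.homologyFunctor (AlgSp.ModEt X.obj) j).map ((τ.truncGEπ (i - N + 1)).app E))).symm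
        · exact ((τ.truncGE (i - N + 1)).obj E).isZero_of_isGE (i - N + 1) j (by omega)
    haveI := Groth.Misc4.RFBounded.isGE_obj F RF β ((τ.truncGE (i - N + 1)).obj E) (i + 1)
    have hb' := key i (i - N + 1) (by omega)
    haveI hiso := (ConcreteCategory.isIso_iff_bijective _).2 hb'
    exact ((RF.obj ((τ.truncGE (i - N + 1)).obj E)).isZero_of_isGE (i + 1) i (by omega)).of_iso
      (@asIso _ _ _ _ _ hiso)

end Groth.Agent.S10784
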