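import Groth.Statements.S1079
import Mathlib.CategoryTheory.Idempotents.Basic
import Mathlib.CategoryTheory.Triangulated.Opposite.Pretriangulated
import Mathlib.CategoryTheory.Limits.Shapes.Opposites.Products

set_option autoImplicit false
universe v u
open CategoryTheory CategoryTheory.Limits
open CohDer

namespace Groth.Agent.S1079
open CategoryTheory.Limits CategoryTheory.Pretriangulated ZeroObject CategoryTheory.Pretriangulated.Opposite

/-- splitting idempotents with a telescope -/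
lemma aux {D : Type u} [Category.{v} D] [Preadditive D] [HasZeroObject D] [HasShift D ℤ]
    [∀ n : ℤ, (shiftFunctor D n).Additive] [Pretriangulated D]
    [HasColimitsOfShape (Discrete ℕ) D] : IsIdempotentComplete D := by
  refine ⟨fun X e he => ?_⟩
  let g : (∐ fun _ : ℕ => X) ⟶ ∐ fun _ : ℕ => X :=
    𝟙 _ - Limits.Sigma.desc fun n => e ≫ Limits.Sigma.ι (fun _ : ℕ => X) (n + 1)
  have hg : ∀ (n : ℕ) {Z : D} (m : (∐ fun _ : ℕ => X) ⟶ Z), Limits.Sigma.ι (fun _ : ℕ => X) n ≫ g ≫ m =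
      Limits.Sigma.ι (fun _ : ℕ => X) n ≫ m - e ≫ Limits.Sigma.ι (fun _ : ℕ => X) (n + 1) ≫ m := fun n Z m => by
    simp [g, Preadditive.sub_comp, Preadditive.comp_sub]
  have hsurj : ∀ {Z : D} (a : (∐ fun _ : ℕ => X) ⟶ Z), ∃ m, a = g ≫ m := fun {Z} a => by
    let S : ℕ → (X ⟶ Z) := fun n => ∑ k ∈ Finset.range n, e ≫ Limits.Sigma.ι (fun _ : ℕ => X) k ≫ a
    refine ⟨Limits.Sigma.desc fun n => (Limits.Sigma.ι (fun _ : ℕ => X) n ≫ a - e ≫ Limits.Sigma.ι (fun _ : ℕ => X) n ≫ a) - S n,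
      Limits.Sigma.hom_ext _ _ fun n => ?_⟩
    have hS : e ≫ S (n + 1) = S n + e ≫ Limits.Sigma.ι (fun _ : ℕ => X) n ≫ a := by
      simp only [S, Finset.sum_range_succ, Preadditive.comp_add, Preadditive.comp_sum, reassoc_of% he]
    simp only [hg, Limits.Sigma.ι_desc, Preadditive.comp_sub, reassoc_of% he, hS]
    abel
  obtain ⟨Y, q, δ, hT⟩ := distinguished_cocone_triangle g
  have hgq : ∀ n, Limits.Sigma.ι (fun _ : ℕ => X) n ≫ q = e ≫ Limits.Sigma.ι (fun _ : ℕ => X) (n + 1) ≫ q := fun n => by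
    rw [← sub_eq_zero, ← hg, show g ≫ q = 0 from comp_distTriang_mor_zero₁₂ _ hT, comp_zero]
  obtain ⟨s, hs⟩ : ∃ s : Y ⟶ X, Limits.Sigma.desc (fun _ : ℕ => e) = q ≫ s :=
    Triangle.yoneda_exact₂ _ hT _ (show g ≫ Limits.Sigma.desc (fun _ : ℕ => e) = 0 from
      Limits.Sigma.hom_ext _ _ fun n => by simp [hg, he])
  have hconst : ∀ n, e ≫ Limits.Sigma.ι (fun _ : ℕ => X) n ≫ q = Limits.Sigma.ι (fun _ : ℕ => X) n ≫ q := fun n => by
    rw [hgq n, reassoc_of% he]
  have heq : ∀ n, Limits.Sigma.ι (fun _ : ℕ => X) n ≫ q = Limits.Sigma.ι (fun _ : ℕ => X) 0 ≫ q := fun n => by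
    induction n with
    | zero => rfl
    | succ n ih => rw [← ih, hgq n, hconst]
  have hinj : ∀ {Z : D} (f : Y ⟶ Z), q ≫ f = 0 → f = 0 := fun {Z} f hf => by
    obtain ⟨h, rfl⟩ : ∃ h, f = δ ≫ h := Triangle.yoneda_exact₃ _ hT f hf
    let e' := (shiftFunctor D (1 : ℤ)).objObjPreimageIso Z
    obtain ⟨h', hh'⟩ := (shiftFunctor D (1 : ℤ)).map_surjective (h ≫ e'.inv)
    obtain ⟨m, rfl⟩ := hsurj h'
    rw [← cancel_mono e'.inv, Category.assoc, ← hh', Functor.map_comp, ← Category.assoc,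
      show δ ≫ g⟦(1 : ℤ)⟧' = 0 from comp_distTriang_mor_zero₃₁ _ hT, zero_comp, zero_comp]
  refine ⟨Y, s, Limits.Sigma.ι (fun _ : ℕ => X) 0 ≫ q, ?_, ?_⟩
  · rw [← sub_eq_zero]
    refine hinj _ (Limits.Sigma.hom_ext _ _ fun n => ?_)
    rw [Preadditive.comp_sub, Category.comp_id, ← Category.assoc q, ← hs, Preadditive.comp_sub,
      Limits.Sigma.ι_desc_assoc, hconst, heq n, sub_self, comp_zero]
  · rw [Category.assoc, ← hs, Limits.Sigma.ι_desc]


/-- A pretriangulated category which has countable coproducts, or countable products, is Karoubian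
(idempotent complete). -/
theorem result {D : Type u} [Category.{v} D] [Preadditive D] [Limits.HasZeroObject D] [HasShift D ℤ]
    [∀ n : ℤ, (shiftFunctor D n).Additive] [Pretriangulated D]
    (h : HasColimitsOfShape (Discrete ℕ) D ∨ HasLimitsOfShape (Discrete ℕ) D) : IsIdempotentComplete D := by
  rcases h with h | h
  · exact aux
  · have : HasColimitsOfShape (Discrete ℕ) Dᵒᵖ := inferInstance
    exact Idempotents.isIdempotentComplete_iff_opposite.1 aux

end Groth.Agent.S1079
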