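import Groth.Statements.S10792
import Groth.Agent.AlgSpCartier.Chart
-- import your own Groth.Agent.* helpers here

set_option autoImplicit false
universe u
open CategoryTheory CategoryTheory.Limits AlgebraicGeometry Topology TopologicalSpace
open AlgSp

namespace Groth.Agent.S10792

/-- (2) ⇔ (4): let X be an algebraic space over a scheme S and D ⟶ X a closed subspace (representable by
closed immersions). Then D is an effective Cartier divisor in the one-chart sense if and only if for
every point x of |D| there are an affine scheme U over S, a representable etale h_U ⟶ X, a point u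
of U mapping to the image of x in |X|, and a nonzerodivisor f of the ring A of global functions of U
such that the inverse image of D in U is the closed subscheme Spec (A/(f)), that is, the closed
subscheme of the quasi-coherent ideal sheaf of U whose ideal of global sections is generated by f. -/
theorem result {S : Scheme.{u}} (X D : AlgSp.Space S) (i : D ⟶ X)
    (hi : AlgSp.RepWith @IsClosedImmersion i.hom) :
    AlgSp.IsEffCartierSub i.hom ↔
      ∀ x : AlgSp.Points D.obj,
        ∃ (U : Over S) (_ : IsAffine U.left) (a : (AlgSp.yon S).obj U ⟶ X.obj) (u : ↥U.left)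
          (f : Γ(U.left, ⊤)) (I : U.left.IdealSheafData)
          (fst : (AlgSp.yon S).obj (Over.mk (I.subschemeι ≫ U.hom)) ⟶ D.obj),
          AlgSp.RepWith @Etale a ∧ AlgSp.Points.ofPt a u = AlgSp.Points.map i.hom x ∧
            f ∈ nonZeroDivisors Γ(U.left, ⊤) ∧
            I.ideal ⟨⊤, isAffineOpen_top U.left⟩ = Ideal.span {f} ∧
            IsPullback fst ((AlgSp.yon S).map (Over.homMk I.subschemeι rfl : Over.mk (I.subschemeι ≫ U.hom) ⟶ U)) i.hom a := by
  constructor
  · rintro ⟨-, V, φ, I₀, fst₀, hφ, hφs, sq₀, hI₀⟩ x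
    obtain ⟨v, hv⟩ := Groth.AlgSpBasic.surjective_ofPt_of_repWith hφs (AlgSp.Points.map i.hom x)
    obtain ⟨U, hU, k, u, f, hk, hku, hf, hIf⟩ := Groth.AlgSpCartier.exists_affine_chart_of_isEffCartierIdeal hI₀ v
    obtain ⟨fst, sq⟩ := Groth.AlgSpCartier.exists_isPullback_comap hi sq₀ k
    haveI := hk
    refine ⟨U, hU, (AlgSp.yon S).map k ≫ φ, u, f, I₀.comap k.left, fst, ?_, ?_, hf, hIf, sq⟩
    · exact Groth.AlgSpBasic.repWith_comp ((AlgSp.repWith_yon_map_iff _ k).2
        (inferInstance : Etale k.left)) hφ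
    · rw [Groth.AlgSpBasic.ofPt_comp_yon, hku, hv]
  · intro h
    refine Groth.AlgSpCartier.isEffCartierSub_of_forall X.property hi fun U a ha I fst sq => ?_
    intro v
    by_cases hv : v ∈ I.support
    · obtain ⟨z, rfl⟩ : v ∈ Set.range I.subschemeι := by rwa [Scheme.IdealSheafData.range_subschemeι]
      obtain ⟨U₁, hU₁, a₁, u₁, f, I₁, fst₁, ha₁, hu₁, hf, hI₁, sq₁⟩ := h (AlgSp.Points.ofPt fst z)
      obtain ⟨W, p, q, sqW⟩ := Groth.AlgSpBasic.exists_pullback_yon ha₁.1 a
      haveI : Etale p.left := Groth.AlgSpBasic.repWith_fst_of_isPullback sqW.flip ha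
      haveI : Etale q.left := Groth.AlgSpBasic.repWith_fst_of_isPullback sqW ha₁
      have hz : AlgSp.Points.ofPt a₁ u₁ = AlgSp.Points.ofPt a (I.subschemeι z) := by
        rw [hu₁, AlgSp.Points.map_ofPt, sq.w, Groth.AlgSpBasic.ofPt_comp_yon]
        rfl
      obtain ⟨w, -, hqw⟩ := (Groth.AlgSpBasic.ofPt_eq_ofPt_iff sqW u₁ (I.subschemeι z)).1 hz
      obtain ⟨J, fJ, sqJ⟩ := Groth.AlgSpCartier.exists_ideal hi ((AlgSp.yon S).map q ≫ a)
      have h1 : I.comap q.left = J := Groth.AlgSpCartier.comap_eq_of_isPullback sq sqJ q rfl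
      have h2 : I₁.comap p.left = J := Groth.AlgSpCartier.comap_eq_of_isPullback sq₁ sqJ p sqW.w
      have hJ : BlowUp.IsEffCartierIdeal (I.comap q.left) := by
        rw [h1, ← h2]
        exact Groth.BlowUpBasics.isEffCartierIdeal_comap_of_flat p.left
          (Groth.AlgSpCartier.isEffCartierIdeal_of_top hf hI₁)
      obtain ⟨O, hO, c, hc, hIc⟩ := Groth.AlgSpCartier.exists_generator_of_comap q.left q.left.isOpenMap hJ w
      exact ⟨O, hqw ▸ hO, c, hc, hIc⟩
    · obtain ⟨O, hOa, hvO, hO⟩ := exists_isAffineOpen_mem_and_subset (x := v)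
        (U := ⟨(I.support : Set U.left)ᶜ, I.support.isClosed.isOpen_compl⟩) hv
      refine ⟨⟨O, hOa⟩, hvO, 1, one_mem _, ?_⟩
      rw [Ideal.span_singleton_one, ← PrimeSpectrum.zeroLocus_empty_iff_eq_top]
      have h1 := I.coe_support_inter ⟨O, hOa⟩
      have h2 : (I.support : Set U.left) ∩ O = ∅ := Set.eq_empty_iff_forall_notMem.2 fun x hx => hO hx.2 hx.1
      rw [h2] at h1
      rw [← hOa.fromSpec_image_zeroLocus] at h1
      exact Set.image_eq_empty.1 h1.symm

end Groth.Agent.S10792
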