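import Groth.Statements.S1686
import Groth.Agent.RefRank.RelDiv

set_option autoImplicit false
universe u
open CategoryTheory CategoryTheory.Limits AlgebraicGeometry TopologicalSpace
open SDiv

namespace Groth.Agent.S1686

/-- Let D be the closed subscheme of an effective Cartier divisor on a scheme S and d a point of D with
image s in S. If the local dimension of S at s is finite, then the local dimension of D at d is
strictly smaller. -/
theorem result (S : Scheme.{u}) (𝓘 : S.IdealSheafData) (h𝓘 : BlowUp.IsEffCartierIdeal 𝓘) (d : ↥𝓘.subscheme)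
    (hfin : FlatMor.localDim ↥S (𝓘.subschemeι d) ≠ ⊤) :
    FlatMor.localDim ↥𝓘.subscheme d < FlatMor.localDim ↥S (𝓘.subschemeι d) := by
  obtain ⟨x, hx⟩ : ∃ x, x = 𝓘.subschemeι d := ⟨_, rfl⟩
  rw [← hx] at hfin ⊢
  obtain ⟨U, hU⟩ : ∃ U : {U : TopologicalSpace.Opens ↥S // x ∈ U}, topologicalKrullDim (U.1 : Set ↥S) = FlatMor.localDim ↥S x := by
    have : Nonempty {U : TopologicalSpace.Opens ↥S // x ∈ U} := ⟨⟨⊤, trivial⟩⟩
    exact csInf_mem (Set.range_nonempty fun U : {U : TopologicalSpace.Opens ↥S // x ∈ U} => topologicalKrullDim (U.1 : Set ↥S))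
  obtain ⟨W, hxW, hWU, g, hg, hgW⟩ := Groth.Divisors.exists_generator h𝓘 x U.1 U.2
  have hdimW : ∀ (T : Scheme.{u}) (V : T.Opens), IsAffineOpen V → topologicalKrullDim (V : Set ↥T) = ringKrullDim Γ(T, V) := by
    intro T V hV
    rw [← PrimeSpectrum.topologicalKrullDim_eq_ringKrullDim]
    exact IsHomeomorph.topologicalKrullDim_eq (hV.isoSpec.hom.homeomorph : ↥(V : Set ↥T) → PrimeSpectrum Γ(T, V)) hV.isoSpec.hom.homeomorph.isHomeomorph
  have h1 : ringKrullDim Γ(S, W.1) ≤ FlatMor.localDim ↥S x := by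
    rw [← hdimW S W.1 W.2, ← hU]
    exact (Topology.IsEmbedding.inclusion (show (W.1 : Set ↥S) ⊆ (U.1 : Set ↥S) from hWU)).isInducing.topologicalKrullDim_le
  have h2 : ringKrullDim Γ(S, W.1) ≠ ⊤ := fun e => hfin (top_le_iff.1 (e ▸ h1))
  have h3 : FlatMor.localDim ↥𝓘.subscheme d ≤ ringKrullDim (Γ(S, W.1) ⧸ Ideal.span {g}) := by
    have hd : d ∈ 𝓘.subschemeι ⁻¹ᵁ W.1 := show 𝓘.subschemeι d ∈ W.1 from hx ▸ hxW
    refine (iInf_le _ (⟨𝓘.subschemeι ⁻¹ᵁ W.1, hd⟩ : {V : TopologicalSpace.Opens ↥𝓘.subscheme // d ∈ V})).trans (le_of_eq ?_)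
    refine (hdimW 𝓘.subscheme (𝓘.subschemeι ⁻¹ᵁ W.1) (W.2.preimage 𝓘.subschemeι)).trans ?_
    rw [← hgW]
    exact ringKrullDim_eq_of_ringEquiv (((Ideal.quotEquivOfEq (𝓘.ker_subschemeι_app W).symm).trans
      (RingHom.quotientKerEquivOfSurjective (𝓘.subschemeι_app_surjective W))).symm)
  refine lt_of_le_of_lt h3 (lt_of_lt_of_le ?_ h1)
  refine lt_of_le_of_ne ?_ ?_
  · exact (ringKrullDim_le_of_surjective _ Ideal.Quotient.mk_surjective)
  · intro e
    have h4 := ringKrullDim_quotient_succ_le_of_nonZeroDivisor hg.mem_nonZeroDivisors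
    rw [e] at h4
    have : Nontrivial Γ(S, W.1) := by
      let _ := TopCat.Presheaf.algebra_section_stalk S.presheaf ⟨x, hxW⟩
      exact (algebraMap Γ(S, W.1) (S.presheaf.stalk x)).domain_nontrivial
    revert h4 h2
    obtain ⟨k, hk⟩ := WithBot.ne_bot_iff_exists.1 (fun e : ringKrullDim Γ(S, W.1) = ⊥ => absurd (e ▸ (ringKrullDim_nonneg_of_nontrivial (R := Γ(S, W.1)))) (by simp))
    rw [← hk]
    intro h2 h4
    have h4' : k + 1 ≤ k := WithBot.coe_le_coe.1 h4
    exact absurd h4' (not_le.2 (ENat.lt_add_one_iff (fun e => h2 (by rw [e]; rfl)) |>.2 le_rfl))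

end Groth.Agent.S1686
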