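import Groth.Statements.S10794
import Groth.Agent.AlgSpCartier.Chart
import Groth.Agent.S1686
-- import your own Groth.Agent.* helpers here

set_option autoImplicit false
universe u
open CategoryTheory CategoryTheory.Limits AlgebraicGeometry Topology TopologicalSpace
open AlgSp

namespace Groth.Agent.S10794

/-- Let X be an algebraic space over a scheme S, D ⟶ X an effective Cartier divisor (one-chart sense)
and x a point of |D|. If the dimension of X at the image of x is d, in the sense that some etale
scheme chart of X has local dimension d at a point over it, and d is finite, then the dimension of D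
at x is strictly smaller: some etale scheme chart of D has local dimension less than d at a point
over x. -/
theorem result {S : Scheme.{u}} (X D : AlgSp.Space S) (i : D ⟶ X)
    (hD : AlgSp.IsEffCartierSub i.hom) (x : AlgSp.Points D.obj) (d : WithBot ℕ∞)
    (hd : AlgSp.HasAt (fun U u => FlatMor.localDim ↥U u = d) X.obj (AlgSp.Points.map i.hom x)) (hfin : d ≠ ⊤) :
    AlgSp.HasAt (fun V v => FlatMor.localDim ↥V v < d) D.obj x := by
  obtain ⟨U, a, u, ha, hu, hdu⟩ := hd
  obtain ⟨I, fst, sq⟩ := Groth.AlgSpCartier.exists_ideal hD.1 a
  obtain ⟨z, hz, hzu⟩ := (Groth.AlgSpBasic.map_eq_ofPt_iff sq x u).1 hu.symm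
  have hI := Groth.AlgSpCartier.isEffCartierIdeal_of_isEffCartierSub X.property hD a ha I fst sq
  have hdu' : FlatMor.localDim ↥U.left (I.subschemeι z) = d := by rw [show I.subschemeι z = u from hzu]; exact hdu
  refine ⟨_, fst, z, Groth.AlgSpBasic.repWith_of_isPullback sq.flip ha, hz, ?_⟩
  rw [← hdu'] at hfin ⊢
  exact Groth.Agent.S1686.result U.left I hI z hfin

end Groth.Agent.S10794
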