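import Groth.Statements.S10797
import Groth.Agent.AlgSpCartier.Chart
import Groth.Agent.S1662
-- import your own Groth.Agent.* helpers here

set_option autoImplicit false
universe u
open CategoryTheory CategoryTheory.Limits AlgebraicGeometry Topology TopologicalSpace
open AlgSp

namespace Groth.Agent.S10797

/-- Let f : X ⟶ Y be a morphism of algebraic spaces over a scheme S and D ⟶ X an effective Cartier
divisor (one-chart sense) such that the composite D ⟶ Y is flat. Then for every morphism g : Y' ⟶ Y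
and every pullback square exhibiting X' as Y' ×_Y X with projection g' : X' ⟶ X, the inverse image
of D under g' (the projection to X' from any pullback of D ⟶ X along g') is an effective Cartier
divisor on X'. (The published statement takes g to be a morphism from a scheme Y'; this row allows
Y' to be an algebraic space, to which the same etale-local reduction to schemes applies.) -/
theorem result {S : Scheme.{u}} (X Y D Y' X' D' : AlgSp.Space S)
    (f : X ⟶ Y) (i : D ⟶ X) (hD : AlgSp.IsEffCartierSub i.hom) (hflat : AlgSp.LocP @Flat (i ≫ f).hom)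
    (g : Y' ⟶ Y) (g' : X' ⟶ X) (f' : X' ⟶ Y') (hX' : IsPullback g'.hom f'.hom f.hom g.hom)
    (k : D' ⟶ D) (i' : D' ⟶ X') (hD' : IsPullback k.hom i'.hom i.hom g'.hom) :
    AlgSp.IsEffCartierSub i'.hom := by
  obtain ⟨V, φ, hφ, hφs⟩ := Y.property.atlas
  obtain ⟨U, p, hp, hps⟩ := X.property.atlas
  obtain ⟨W, q, β, hq, hqs, commW⟩ :=
    Groth.AlgSpBasic.exists_chart_over Y'.property Y.property.diag g.hom φ hφ hφs
  -- `A = U ×_Y V`, on which the inverse image of `D` is flat over `V`
  obtain ⟨A, aU, aV, sqA⟩ := Groth.AlgSpBasic.exists_pullback_yon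
    (Groth.AlgSpBasic.representable_of_diag Y.property.diag (p ≫ f.hom)) φ
  haveI : Etale aU.left := Groth.AlgSpBasic.repWith_fst_of_isPullback sqA.flip hφ
  have haU : AlgSp.RepWith @Etale ((AlgSp.yon S).map aU) :=
    (AlgSp.repWith_yon_map_iff _ aU).2 (inferInstance : Etale aU.left)
  have hA : AlgSp.RepWith @Etale ((AlgSp.yon S).map aU ≫ p) := Groth.AlgSpBasic.repWith_comp haU hp
  obtain ⟨K, fK, sqK⟩ := Groth.AlgSpCartier.exists_ideal hD.1 ((AlgSp.yon S).map aU ≫ p)
  have hK : BlowUp.IsEffCartierIdeal K :=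
    Groth.AlgSpCartier.isEffCartierIdeal_of_isEffCartierSub X.property hD _ hA K fK sqK
  haveI : Flat (K.subschemeι ≫ aV.left) := hflat fK φ (Groth.AlgSpCartier.incl A K ≫ aV)
    (Groth.AlgSpBasic.repWith_of_isPullback sqK.flip hA) hφ (by
      show fK ≫ i.hom ≫ f.hom = _
      rw [reassoc_of% sqK.w, sqA.w, Functor.map_comp, Category.assoc])
  -- `T = A ×_V W` is an etale cover of `X'`
  let T : Over S := Over.mk (pullback.fst aV.left β.left ≫ A.hom)
  let tA : T ⟶ A := Over.homMk (pullback.fst aV.left β.left) rfl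
  let tW : T ⟶ W := Over.homMk (pullback.snd aV.left β.left) (by
    show pullback.snd aV.left β.left ≫ W.hom = pullback.fst aV.left β.left ≫ A.hom
    rw [← Over.w β, ← Category.assoc, ← pullback.condition, Category.assoc, Over.w aV])
  have sqT : IsPullback tA tW aV β := IsPullback.of_map (Over.forget S)
    (Over.OverMorphism.ext pullback.condition) (IsPullback.of_hasPullback aV.left β.left)
  have sqUW : IsPullback ((AlgSp.yon S).map tA ≫ (AlgSp.yon S).map aU) ((AlgSp.yon S).map tW)
      (p ≫ f.hom) (q ≫ g.hom) := by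
    rw [commW]
    exact (sqT.map (AlgSp.yon S)).flip.paste_vert sqA.flip |>.flip
  have sqQ := IsPullback.of_hasPullback f.hom (q ≫ g.hom)
  let l : pullback f.hom (q ≫ g.hom) ⟶ X'.obj :=
    hX'.lift (pullback.fst _ _) (pullback.snd _ _ ≫ q) (by rw [sqQ.w, Category.assoc])
  have sql : IsPullback (pullback.snd f.hom (q ≫ g.hom)) l q f'.hom := by
    refine IsPullback.of_bot ?_ (hX'.lift_snd _ _ _).symm hX'.flip
    rw [hX'.lift_fst]; exact sqQ.flip
  let m : (AlgSp.yon S).obj T ⟶ pullback f.hom (q ≫ g.hom) :=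
    sqQ.lift (((AlgSp.yon S).map tA ≫ (AlgSp.yon S).map aU) ≫ p) ((AlgSp.yon S).map tW)
      (by rw [Category.assoc, sqUW.w])
  have sqm : IsPullback ((AlgSp.yon S).map tA ≫ (AlgSp.yon S).map aU) m p (pullback.fst f.hom (q ≫ g.hom)) := by
    refine IsPullback.of_bot ?_ (sqQ.lift_fst _ _ _).symm sqQ
    rw [sqQ.lift_snd]; exact sqUW
  let t : (AlgSp.yon S).obj T ⟶ X'.obj := m ≫ l
  have ht : AlgSp.RepWith @Etale t := Groth.AlgSpBasic.repWith_comp
    (Groth.AlgSpBasic.repWith_of_isPullback sqm hp) (Groth.AlgSpBasic.repWith_of_isPullback sql hq)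
  have hts : AlgSp.RepWith @Surjective t := Groth.AlgSpBasic.repWith_comp
    (Groth.AlgSpBasic.repWith_of_isPullback sqm hps) (Groth.AlgSpBasic.repWith_of_isPullback sql hqs)
  have hi' : AlgSp.RepWith @IsClosedImmersion i'.hom := Groth.AlgSpBasic.repWith_of_isPullback hD' hD.1
  obtain ⟨J, fJ, sqJ⟩ := Groth.AlgSpCartier.exists_ideal hi' t
  have hJ : K.comap tA.left = J := Groth.AlgSpCartier.comap_eq_of_isPullback sqK (sqJ.paste_horiz hD') tA (by
    show _ = (m ≫ l) ≫ g'.hom
    rw [Category.assoc, hX'.lift_fst, sqQ.lift_fst, Category.assoc])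
  exact ⟨hi', T, t, J, fJ, ht, hts, sqJ, hJ ▸ Groth.Agent.S1662.result aV.left K hK β.left⟩

end Groth.Agent.S10797
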