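import Groth.Statements.S1685
import Groth.Agent.RefRank.RelDiv
import Groth.Agent.Ega4Algebra2.SkFlat
import Groth.Agent.LocCohBase.Depth

set_option autoImplicit false
universe u
open CategoryTheory CategoryTheory.Limits AlgebraicGeometry TopologicalSpace
open SDiv

namespace Groth.Agent.S1685

/-- Let X be a locally Noetherian scheme all of whose local rings satisfy Serre's condition (S_k), and
let D be the closed subscheme of an effective Cartier divisor. Then all local rings of D satisfy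
(S_{k-1}). -/
theorem result (X : Scheme.{u}) [IsLocallyNoetherian X] (k : ℕ)
    (hX : ∀ x : ↥X, min (k : WithBot ℕ∞) (ringKrullDim (X.presheaf.stalk x)) ≤
      ((LocCoh.depth (X.presheaf.stalk x) (X.presheaf.stalk x) : ℕ∞) : WithBot ℕ∞))
    (𝓘 : X.IdealSheafData) (h𝓘 : BlowUp.IsEffCartierIdeal 𝓘) (d : ↥𝓘.subscheme) :
    min ((k - 1 : ℕ) : WithBot ℕ∞) (ringKrullDim (𝓘.subscheme.presheaf.stalk d)) ≤
      ((LocCoh.depth (𝓘.subscheme.presheaf.stalk d) (𝓘.subscheme.presheaf.stalk d) : ℕ∞) : WithBot ℕ∞) := by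
  obtain ⟨_, ⟨V, hV, rfl⟩, hxV, -⟩ :=
    X.isBasis_affineOpens.exists_subset_of_mem_open (Set.mem_univ (𝓘.subschemeι d)) isOpen_univ
  set R := X.presheaf.stalk (𝓘.subschemeι d)
  obtain ⟨g, hg, hspan⟩ := Groth.RefRank.RelDiv.exists_stalk_gen h𝓘 (V := ⟨V, hV⟩) hxV
  have hker : RingHom.ker (𝓘.subschemeι.stalkMap d).hom = Ideal.span {g} :=
    ((Groth.Ega4b.ker_stalkMap_eq_map 𝓘.subschemeι hV d hxV).trans (by rw [𝓘.ker_subschemeι])).trans hspan
  have hgm : g ∈ IsLocalRing.maximalIdeal R := by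
    intro hu
    have : (1 : R) ∈ RingHom.ker (𝓘.subschemeι.stalkMap d).hom := by
      rw [hker, Ideal.span_singleton_eq_top.2 hu]; trivial
    rw [RingHom.mem_ker, map_one] at this
    exact one_ne_zero this
  let e : (R ⧸ Ideal.span {g}) ≃+* 𝓘.subscheme.presheaf.stalk d :=
    (Ideal.quotEquivOfEq hker.symm).trans
      (RingHom.quotientKerEquivOfSurjective (𝓘.subschemeι.stalkMap_surjective d))
  have : IsLocalRing (R ⧸ Ideal.span {g}) := e.symm.isLocalRing
  have htop : IsLocalRing.maximalIdeal R • (⊤ : Submodule R R) ≠ ⊤ := by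
    simpa using (IsLocalRing.maximalIdeal.isMaximal R).ne_top
  have hreg : IsSMulRegular R g :=
    fun a b (h : g * a = g * b) => (mul_cancel_left_mem_nonZeroDivisors hg).1 h
  have hd : LocCoh.depth (R ⧸ Ideal.span {g}) (R ⧸ Ideal.span {g}) + 1 = LocCoh.depth R R := by
    rw [← Groth.Ega4b.depth_eq_of_surjective_algebraMap (A := R) Ideal.Quotient.mk_surjective,
      LocCoh.depth, LocCoh.depth,
      ← Groth.LocCohBase.idealDepth_quotSMulTop_add_one _ R htop hgm hreg]
    congr 1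
    exact Groth.Ega4b.depth_congr' ((Submodule.quotEquivOfEq _ _
      (by rw [← Submodule.ideal_span_singleton_smul, Ideal.smul_eq_mul, Ideal.mul_top])))
  rw [← Groth.Ega4b.depth_eq_of_ringEquiv e, ← ringKrullDim_eq_of_ringEquiv e]
  have h1 := hX (𝓘.subschemeι d)
  have h2 := ringKrullDim_quotient_succ_le_of_nonZeroDivisor hg
  change min (k : WithBot ℕ∞) (ringKrullDim R) ≤ ((LocCoh.depth R R : ℕ∞) : WithBot ℕ∞) at h1
  rw [← hd] at h1
  revert h1
  generalize LocCoh.depth (R ⧸ Ideal.span {g}) (R ⧸ Ideal.span {g}) = a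
  intro h1
  have h3 : min (k : WithBot ℕ∞) (ringKrullDim (R ⧸ Ideal.span {g}) + 1) ≤ ((a + 1 : ℕ∞) : WithBot ℕ∞) :=
    (min_le_min le_rfl h2).trans h1
  obtain ⟨q, hq⟩ := WithBot.ne_bot_iff_exists.1
    (ne_of_gt (lt_of_lt_of_le (WithBot.bot_lt_coe (0 : ℕ∞)) (ringKrullDim_nonneg_of_nontrivial (R := R ⧸ Ideal.span {g}))))
  rw [← hq] at h3 ⊢
  rw [← WithBot.coe_natCast] at h3 ⊢
  rw [← WithBot.coe_one, ← WithBot.coe_add, ← WithBot.coe_min, WithBot.coe_le_coe] at h3
  rw [← WithBot.coe_min, WithBot.coe_le_coe]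
  cases a with
  | top => exact le_top
  | coe n =>
    cases q with
    | top =>
      simp only [min_top_right, top_add] at h3 ⊢
      norm_cast at h3 ⊢; omega
    | coe m =>
      simp only [min_le_iff] at h3 ⊢; norm_cast at h3 ⊢; omega

end Groth.Agent.S1685
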