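import Groth.Statements.S10799
import Groth.Agent.AlgSpCartier.Chart
import Groth.Agent.S1685
import Groth.Agent.S0601
import Groth.Agent.Ega4Algebra2.SkFlat
-- import your own Groth.Agent.* helpers here

set_option autoImplicit false
universe u
open CategoryTheory CategoryTheory.Limits AlgebraicGeometry Topology TopologicalSpace
open AlgSp

namespace Groth.Agent.S10799

/-- Let X be an algebraic space over a scheme S which is locally Noetherian and normal in the
etale-local sense: some etale surjective chart of X from a locally Noetherian scheme all of whose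
local rings are integrally closed domains. Let D ⟶ X be an effective Cartier divisor (one-chart
sense). Then D is (S_1): some etale surjective chart of D from a locally Noetherian scheme all of
whose local rings O satisfy min(1, dim O) ≤ depth O. -/
theorem result {S : Scheme.{u}} (X D : AlgSp.Space S)
    (hX : AlgSp.EtaleLocally (fun U => IsLocallyNoetherian U ∧ Pi1.IsNormalScheme U) X.obj)
    (i : D ⟶ X) (hD : AlgSp.IsEffCartierSub i.hom) :
    AlgSp.EtaleLocally (fun V => IsLocallyNoetherian V ∧ ∀ v : ↥V,
        min ((1 : ℕ) : WithBot ℕ∞) (ringKrullDim ↥(V.presheaf.stalk v)) ≤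
          ((LocCoh.depth ↥(V.presheaf.stalk v) ↥(V.presheaf.stalk v) : ℕ∞) : WithBot ℕ∞)) D.obj := by
  obtain ⟨U, a, ha, has, hUN, hUk⟩ := hX
  haveI := hUN
  obtain ⟨I, fst, sq⟩ := Groth.AlgSpCartier.exists_ideal hD.1 a
  have hI := Groth.AlgSpCartier.isEffCartierIdeal_of_isEffCartierSub X.property hD a ha I fst sq
  refine ⟨Groth.AlgSpCartier.subOver U I, fst, Groth.AlgSpBasic.repWith_of_isPullback sq.flip ha,
    Groth.AlgSpBasic.repWith_of_isPullback sq.flip has, LocallyOfFiniteType.isLocallyNoetherian I.subschemeι, ?_⟩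
  have h2 : ∀ x : ↥U.left, min ((2 : ℕ) : WithBot ℕ∞) (ringKrullDim ↥(U.left.presheaf.stalk x)) ≤
      ((LocCoh.depth ↥(U.left.presheaf.stalk x) ↥(U.left.presheaf.stalk x) : ℕ∞) : WithBot ℕ∞) := by
    intro x
    set R := ↥(U.left.presheaf.stalk x)
    haveI : IsDomain R := (hUk x).1
    haveI : IsIntegrallyClosed R := (hUk x).2
    haveI : IsNoetherianRing R := inferInstanceAs (IsNoetherianRing (U.left.presheaf.stalk x))
    have hS := ((Groth.Agent.S0601.result R).1 fun p _ => ⟨IsLocalization.isDomain_localization (Ideal.primeCompl_le_nonZeroDivisors p),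
      isIntegrallyClosed_of_isLocalization (Localization.AtPrime p) p.primeCompl (Ideal.primeCompl_le_nonZeroDivisors p)⟩).2
    have h1 := (Groth.Ega4b.hasSk_self_iff 2 R).1 hS (IsLocalRing.maximalIdeal R)
    let e : R ≃+* Localization.AtPrime (IsLocalRing.maximalIdeal R) :=
      (IsLocalization.atUnits R (IsLocalRing.maximalIdeal R).primeCompl
        (fun y hy => IsLocalRing.notMem_maximalIdeal.1 hy)).toRingEquiv
    exact (Groth.Ega4b.skLoc_of_ringEquiv e).2 h1
  exact fun v => Groth.Agent.S1685.result U.left 2 h2 I hI v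

end Groth.Agent.S10799
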