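import Groth.Statements.S1081
import Groth.Agent.Misc1.Fil.Embed

set_option autoImplicit false
universe v u
open CategoryTheory CategoryTheory.Limits Opposite
open FilD

namespace Groth.Agent.S1081

/-- Let A be an abelian category with enough injectives. Every finite filtered object X admits a strict
monomorphism X ⟶ I into a filtered injective object I. -/
theorem result {A : Type u} [Category.{v} A] [Abelian A] [EnoughInjectives A] (X : FilD.FilF A) :
    ∃ (I : FilD.FilF A) (u : X ⟶ I), FilD.IsFilteredInjective I ∧ Mono u ∧ FilD.IsStrict u := by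
  obtain ⟨I, u, hI, hm, hs⟩ := Groth.Misc1.Fil.exists_embedding X
  haveI : ∀ r, Mono (u.hom.app r) := fun r => hm r.unop
  haveI : Mono u.hom := NatTrans.mono_of_mono_app u.hom
  exact ⟨I, u, hI, ⟨fun g h e => InducedCategory.hom_ext ((cancel_mono u.hom).mp (congrArg (fun m => m.hom) e))⟩,
    (Groth.Misc1.Fil.isStrict_iff u).mpr hs⟩

end Groth.Agent.S1081
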