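import Groth.Statements.S10813
import Groth.Agent.AlgSpCartier.Chart
import Groth.Agent.Divisors.EffCartierMore
-- import your own Groth.Agent.* helpers here

set_option autoImplicit false
universe u
open CategoryTheory CategoryTheory.Limits AlgebraicGeometry Topology TopologicalSpace
open AlgSp

namespace Groth.Agent.S10813

/-- Let X be an algebraic space over a scheme S, let Z ⟶ X and Y ⟶ X be closed subspaces cut out by
quasi-coherent sheaves of ideals I and J, and let D ⟶ X be the closed subspace which the product I·J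
cuts out. If D is an effective Cartier divisor (one-chart sense), then so are Z and Y, and D is
their sum. -/
theorem result {S : Scheme.{u}} (X Z Y D : AlgSp.Space S)
    (iZ : Z ⟶ X) (iY : Y ⟶ X) (iD : D ⟶ X) (I J : AlgSp.IdealEt X.obj) (hI : I.IsQCoh) (hJ : J.IsQCoh)
    (hZ : AlgSp.IsCutOutBy I iZ.hom) (hY : AlgSp.IsCutOutBy J iY.hom) (hD : AlgSp.IsCutOutBy (I * J) iD.hom)
    (hDc : AlgSp.IsEffCartierSub iD.hom) :
    AlgSp.IsEffCartierSub iZ.hom ∧ AlgSp.IsEffCartierSub iY.hom := by
  obtain ⟨HZ, rfl⟩ := hZ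
  obtain ⟨HY, rfl⟩ := hY
  obtain ⟨H, hH⟩ := hD
  constructor
  · refine Groth.AlgSpCartier.isEffCartierSub_of_forall_affine X.property HZ fun E hE K₁ f₁ sq₁ => ?_
    obtain ⟨K₂, f₂, sq₂⟩ := Groth.AlgSpCartier.exists_ideal HY E.obj.hom
    obtain ⟨K, f, sq⟩ := Groth.AlgSpCartier.exists_ideal H E.obj.hom
    obtain rfl := Groth.AlgSpCartier.eq_mul_of_idealOfRep_mul HZ HY H hH E hE sq₁ sq₂ sq
    exact (Groth.Divisors.isEffCartierIdeal_factors
      (Groth.AlgSpCartier.isEffCartierIdeal_of_isEffCartierSub X.property hDc E.obj.hom E.property _ f sq)).1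
  · refine Groth.AlgSpCartier.isEffCartierSub_of_forall_affine X.property HY fun E hE K₂ f₂ sq₂ => ?_
    obtain ⟨K₁, f₁, sq₁⟩ := Groth.AlgSpCartier.exists_ideal HZ E.obj.hom
    obtain ⟨K, f, sq⟩ := Groth.AlgSpCartier.exists_ideal H E.obj.hom
    obtain rfl := Groth.AlgSpCartier.eq_mul_of_idealOfRep_mul HZ HY H hH E hE sq₁ sq₂ sq
    exact (Groth.Divisors.isEffCartierIdeal_factors
      (Groth.AlgSpCartier.isEffCartierIdeal_of_isEffCartierSub X.property hDc E.obj.hom E.property _ f sq)).2

end Groth.Agent.S10813
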