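import Groth.Agent.ModEtQCoh.Push
-- import your own Groth.Agent.* helpers here

set_option autoImplicit false
universe u
open CategoryTheory CategoryTheory.Limits AlgebraicGeometry Topology TopologicalSpace
open AlgSp

namespace Groth.Agent.S10815

/-- Let f : X ⟶ Y be a finite morphism of algebraic spaces over a scheme S (representable; the
representability is carried as a separate hypothesis) and F a quasi-coherent O_X-module on the small
etale site of X, with f_*F quasi-coherent. Then WeakAss(f_*F) = f(WeakAss(F)) as subsets of |Y|. -/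
theorem result {S : Scheme.{u}} (X Y : AlgSp.Space S) (f : X ⟶ Y)
    (hf : AlgSp.Representable f.hom) (hfin : AlgSp.IsFiniteMor f.hom)
    (M : AlgSp.ModEt X.obj) [M.IsQuasicoherent] [((AlgSp.pushModEt hf).obj M).IsQuasicoherent] :
    AlgSp.WeakAssEt ((AlgSp.pushModEt hf).obj M) = AlgSp.Points.map f.hom '' AlgSp.WeakAssEt M := by
  have hfi := Groth.AlgSpBasic.isFiniteMor_iff_repWith.1 hfin
  have haf : RepWith @IsAffineHom f.hom :=
    MorphismProperty.relative_monotone
      (fun _ _ g (hg : IsFinite ((Over.forget S).map g)) =>
        (inferInstanceAs (IsAffineHom ((Over.forget S).map g)))) _ hfi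
  refine Set.Subset.antisymm (Groth.ModEtQCoh.weakAssEt_push_subset hf haf M)
    (Groth.ModEtQCoh.image_weakAssEt_subset hf haf M Y.property fun E _ _ v h => ?_)
  exact Groth.ModEtQCoh.isWeakAssOn_push_of_finite hf M E
    (hfi.property E.obj.hom (EtOver.bcObj hf E).obj.hom (EtOver.bcπ hf E) (EtOver.isPullback_bcObj hf E)) v h

end Groth.Agent.S10815
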