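import Groth.Agent.ModEtQCoh.Push
import Groth.Agent.AlgSp2.InfSmallExt
-- import your own Groth.Agent.* helpers here

set_option autoImplicit false
universe u
open CategoryTheory CategoryTheory.Limits AlgebraicGeometry Topology TopologicalSpace
open AlgSp

namespace Groth.Agent.S10816

/-- Let f : X ⟶ Y be an affine morphism of algebraic spaces over a scheme S (representable; the
representability is carried as a separate hypothesis) with X locally Noetherian, and F a
quasi-coherent O_X-module on the small etale site of X with f_*F quasi-coherent. Then WeakAss(f_*F)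
= f(WeakAss(F)) as subsets of |Y|. -/
theorem result {S : Scheme.{u}} (X Y : AlgSp.Space S) (f : X ⟶ Y)
    (hf : AlgSp.Representable f.hom) (haff : AlgSp.IsAffineMor f.hom) (hX : AlgSp.IsLocNoethSp X.obj)
    (M : AlgSp.ModEt X.obj) [M.IsQuasicoherent] [((AlgSp.pushModEt hf).obj M).IsQuasicoherent] :
    AlgSp.WeakAssEt ((AlgSp.pushModEt hf).obj M) = AlgSp.Points.map f.hom '' AlgSp.WeakAssEt M := by
  have haf := Groth.AlgSpBasic.isAffineMor_iff_repWith.1 haff
  refine Set.Subset.antisymm (Groth.ModEtQCoh.weakAssEt_push_subset hf haf M)
    (Groth.ModEtQCoh.image_weakAssEt_subset hf haf M Y.property fun E _ _ v h => ?_)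
  have := Groth.AlgSp2.isLocallyNoetherian_of_etale X.property hX (EtOver.bcObj hf E).property
  exact Groth.ModEtQCoh.isWeakAssOn_push_of_noetherian hf M E v h

end Groth.Agent.S10816
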