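import Groth.Statements.S10820
import Groth.Agent.Variety2.ProjSections

set_option autoImplicit false
universe u
open AlgebraicGeometry Topology TopologicalSpace
open Variety

namespace Groth.Agent.S10820

/-- For a field k, n ≥ 2 and a nonzero homogeneous polynomial f of degree d ≥ 1 in n + 1 variables, the
hypersurface V_+(f) in projective n-space over k (as a subspace of Proj of the polynomial ring
graded by degree) is connected and nonempty. -/
theorem result (k : Type u) [Field k] (n d : ℕ) (hn : 2 ≤ n)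
    (f : MvPolynomial (Fin (n + 1)) k) (hf : f.IsHomogeneous d) (hd : 0 < d) (hf0 : f ≠ 0) :
    IsConnected (ProjectiveSpectrum.zeroLocus (CohB1.polyGrading n k)
      ({f} : Set (MvPolynomial (Fin (n + 1)) k))) := by
  have hV : ∀ x, x ∈ ProjectiveSpectrum.zeroLocus (CohB1.polyGrading n k) {f} ↔
      f ∈ x.asHomogeneousIdeal := fun x => Groth.Variety2.PSpace.mem_zeroLocus_singleton
  have hpos : Groth.Variety2.PSpace.ht (Groth.Variety2.PSpace.eta n k) ≠ 0 := by
    rw [Groth.Variety2.PSpace.ht_eta]; exact_mod_cast (show n ≠ 0 by omega)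
  obtain ⟨x0, -, hx0⟩ := Groth.Variety2.PSpace.exists_mem_of_pos hf hd hpos
  obtain ⟨g, e, hg, hirr, hg0, hgf⟩ := Groth.Variety2.PSpace.exists_irreducible_mem x0 hf hf0 hx0
  obtain ⟨p, hpx, hp⟩ := Groth.Variety2.PSpace.exists_pt_of_irreducible hg hirr x0 hg0
  refine ⟨⟨p, (hV p).2 ((hp f).2 hgf)⟩, isPreconnected_of_forall p fun y hy => ?_⟩
  obtain ⟨z, hzf, hzy, hmax⟩ := Groth.Variety2.PSpace.exists_maximal
    (S := {z | f ∈ z.asHomogeneousIdeal}) ((hV y).1 hy)
  have hz := Groth.Variety2.PSpace.ht_add_one_of_maximal hf hf0 hzf fun w => hmax w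
  have hzpos : Groth.Variety2.PSpace.ht z ≠ 0 := fun h => by
    rw [h, zero_add] at hz
    have : 1 = n := by exact_mod_cast hz
    omega
  have he := Groth.Variety2.PSpace.zero_lt_degree_of_mem hg hirr.ne_zero x0 hg0
  obtain ⟨w, hzw, hwg⟩ := Groth.Variety2.PSpace.exists_mem_of_pos hg he hzpos
  have hpw : p ⤳ w := (Groth.Variety2.PSpace.specializes_iff p w).2 fun a ha => by
    obtain ⟨c, rfl⟩ := (hp a).1 ha
    exact Ideal.mul_mem_right c _ hwg
  refine ⟨closure {p} ∪ closure {z}, Set.union_subset ?_ ?_, Or.inl (subset_closure rfl),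
    Or.inr (specializes_iff_mem_closure.1 hzy), IsPreconnected.union w
      (specializes_iff_mem_closure.1 hpw) (specializes_iff_mem_closure.1 hzw)
      isPreconnected_singleton.closure isPreconnected_singleton.closure⟩
  · exact closure_minimal (Set.singleton_subset_iff.2 ((hV p).2 ((hp f).2 hgf)))
      (Groth.Variety2.PSpace.isClosed_zeroLocus' _)
  · exact closure_minimal (Set.singleton_subset_iff.2 ((hV z).2 hzf))
      (Groth.Variety2.PSpace.isClosed_zeroLocus' _)

end Groth.Agent.S10820
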