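import Groth.Statements.S10821
import Groth.Agent.Variety2.ProjSections

set_option autoImplicit false
universe u
open AlgebraicGeometry Topology TopologicalSpace
open Variety

namespace Groth.Agent.S10821

/-- For a field k and an irreducible closed subset Z of projective n-space over k, Z has codimension 1
(the longest chain of irreducible closed subsets strictly above Z has length 1) if and only if Z is
the zero set V_+(f) of an irreducible homogeneous polynomial f in n + 1 variables. -/
theorem result (k : Type u) [Field k] (n : ℕ)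
    (Z : TopologicalSpace.IrreducibleCloseds (ProjectiveSpectrum (CohB1.polyGrading n k))) :
    Order.coheight Z = 1 ↔
      ∃ (d : ℕ) (f : MvPolynomial (Fin (n + 1)) k), f.IsHomogeneous d ∧ Irreducible f ∧
        (Z : Set (ProjectiveSpectrum (CohB1.polyGrading n k))) =
          ProjectiveSpectrum.zeroLocus (CohB1.polyGrading n k) ({f} : Set (MvPolynomial (Fin (n + 1)) k)) := by
  obtain ⟨ζ, hζZ, hmem, hdim⟩ := Groth.Variety2.PSpace.exists_generic Z.isClosed Z.isIrreducible
  have hcoh : Order.coheight Z + Groth.Variety2.PSpace.ht ζ = (n : ℕ∞) := by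
    let : IrreducibleSpace ↥(CohB1.ProjSpace n k) :=
      (irreducibleSpace_def _).2 (IsGenericPoint.isIrreducible (x := (Groth.Variety2.PSpace.eta n k))
        (isGenericPoint_iff_specializes.2 fun y =>
          iff_of_true (Groth.Variety2.PSpace.eta_specializes y) trivial))
    have hη : genericPoint ↥(CohB1.ProjSpace n k) = Groth.Variety2.PSpace.eta n k :=
      ((genericPoint_specializes (α := ↥(CohB1.ProjSpace n k)) _).antisymm
        (Groth.Variety2.PSpace.eta_specializes _)).eq
    have h := Groth.Variety2.Dim.coheight_add_height (CohB1.ProjSpace.toSpec n k) ζ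
    rw [hη] at h
    refine Eq.trans ?_ (h.trans Groth.Variety2.PSpace.ht_eta)
    congr 1
    let e := irreducibleSetEquivPoints (α := ↥(CohB1.ProjSpace n k))
    rw [show Z = e.symm ζ by
      ext x
      exact (hmem x).trans specializes_iff_mem_closure]
    exact Order.coheight_orderIso e.symm ζ
  obtain ⟨m, hm⟩ := Groth.Variety2.PSpace.exists_ht_eq ζ
  constructor
  · intro h
    rw [h, hm] at hcoh
    have hne : ζ ≠ Groth.Variety2.PSpace.eta n k := fun e => by
      rw [e, Groth.Variety2.PSpace.ht_eta] at hm
      have h1 : n = m := by exact_mod_cast hm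
      have h2 : 1 + m = n := by exact_mod_cast hcoh
      omega
    obtain ⟨f, d, hf, hf0, hfζ⟩ := Groth.Variety2.PSpace.exists_homogeneous_mem_of_ne_eta hne
    obtain ⟨g, e, hg, hirr, hgζ, -⟩ := Groth.Variety2.PSpace.exists_irreducible_mem ζ hf hf0 hfζ
    obtain ⟨p, hpζ, hp⟩ := Groth.Variety2.PSpace.exists_pt_of_irreducible hg hirr ζ hgζ
    have hpe : p = ζ := by
      by_contra hne'
      have h1 := Groth.Variety2.PSpace.ht_lt hpζ (Ne.symm hne')
      have h2 := Groth.Variety2.PSpace.ht_principal hg hirr.ne_zero hp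
      obtain ⟨b, hb⟩ := Groth.Variety2.PSpace.exists_ht_eq p
      rw [hm, hb] at h1
      rw [hb] at h2
      have h1 : m < b := by exact_mod_cast h1
      have h2 : b + 1 = n := by exact_mod_cast h2
      have h3 : 1 + m = n := by exact_mod_cast hcoh
      omega
    subst hpe
    refine ⟨e, g, hg, hirr, Set.ext fun x => ?_⟩
    refine (hmem x).trans ?_
    rw [Groth.Variety2.PSpace.mem_zeroLocus_singleton, Groth.Variety2.PSpace.specializes_iff]
    exact ⟨fun h => h hgζ, fun h f hf => by
      obtain ⟨c, rfl⟩ := (hp f).1 hf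
      exact Ideal.mul_mem_right c _ h⟩
  · rintro ⟨d, f, hf, hirr, hZ⟩
    have hiff : ∀ x, f ∈ x.asHomogeneousIdeal ↔ ζ ⤳ x := fun x => by
      rw [← hmem x, ← Groth.Variety2.PSpace.mem_zeroLocus_singleton]
      exact (Set.ext_iff.1 hZ x).symm
    have h := Groth.Variety2.PSpace.ht_add_one_of_maximal hf hirr.ne_zero ((hiff ζ).2 specializes_rfl)
      fun z hz hzζ => (hzζ.antisymm ((hiff z).1 hz)).eq
    rw [hm] at h hcoh
    obtain ⟨c, hc⟩ : ∃ c : ℕ, Order.coheight Z = c :=
      ENat.ne_top_iff_exists.1 (fun htop => by rw [htop, top_add] at hcoh; exact ENat.top_ne_natCast _ hcoh)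
        |>.imp fun _ h => h.symm
    rw [hc] at hcoh ⊢
    have h1 : c + m = n := by exact_mod_cast hcoh
    have h2 : m + 1 = n := by exact_mod_cast h
    exact_mod_cast (show c = 1 by omega)

end Groth.Agent.S10821
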