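import Groth.Statements.S10822
import Groth.Agent.Variety2.ProjSections

set_option autoImplicit false
universe u
open AlgebraicGeometry Topology TopologicalSpace
open Variety

namespace Groth.Agent.S10822

/-- Let k be a field, X an irreducible closed subset of projective n-space over k of positive dimension,
and f a homogeneous polynomial in n + 1 variables whose zero set V_+(f) is nonempty and does not
contain X. Then X meets V_+(f), and every irreducible component C of X ∩ V_+(f) has dim C + 1 = dim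
X, i.e. codimension 1 in X (all maximal chains of irreducible closed subsets of X have length dim
X). -/
theorem result (k : Type u) [Field k] (n d : ℕ)
    (X : Set (ProjectiveSpectrum (CohB1.polyGrading n k))) (hXc : IsClosed X) (hXi : IsIrreducible X)
    (hXd : 0 < topologicalKrullDim ↥X)
    (f : MvPolynomial (Fin (n + 1)) k) (hf : f.IsHomogeneous d)
    (hV : (ProjectiveSpectrum.zeroLocus (CohB1.polyGrading n k)
      ({f} : Set (MvPolynomial (Fin (n + 1)) k))).Nonempty)
    (hX : ¬ X ⊆ ProjectiveSpectrum.zeroLocus (CohB1.polyGrading n k)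
      ({f} : Set (MvPolynomial (Fin (n + 1)) k))) :
    (X ∩ ProjectiveSpectrum.zeroLocus (CohB1.polyGrading n k)
        ({f} : Set (MvPolynomial (Fin (n + 1)) k))).Nonempty ∧
      ∀ C ∈ irreducibleComponents ↥(X ∩ ProjectiveSpectrum.zeroLocus (CohB1.polyGrading n k)
          ({f} : Set (MvPolynomial (Fin (n + 1)) k))),
        topologicalKrullDim ↥C + 1 = topologicalKrullDim ↥X := by
  obtain ⟨ξ, hξX, hmem, hdim⟩ := Groth.Variety2.PSpace.exists_generic hXc hXi
  rw [hdim] at hXd ⊢
  have hpos : Groth.Variety2.PSpace.ht ξ ≠ 0 := fun h => by rw [h] at hXd; exact lt_irrefl _ hXd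
  obtain ⟨x0, hx0⟩ := hV
  rw [Groth.Variety2.PSpace.mem_zeroLocus_singleton] at hx0
  have hf0 : f ≠ 0 := by
    rintro rfl
    exact hX fun x _ => Groth.Variety2.PSpace.mem_zeroLocus_singleton.2 (zero_mem _)
  have hd := Groth.Variety2.PSpace.zero_lt_degree_of_mem hf hf0 x0 hx0
  have hξ : f ∉ ξ.asHomogeneousIdeal := fun h => hX fun x hx =>
    Groth.Variety2.PSpace.mem_zeroLocus_singleton.2
      ((Groth.Variety2.PSpace.specializes_iff ξ x).1 ((hmem x).1 hx) h)
  refine ⟨?_, fun C hC => ?_⟩
  · obtain ⟨x, hx, hxf⟩ := Groth.Variety2.PSpace.exists_mem_of_pos hf hd hpos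
    exact ⟨x, (hmem x).2 hx, Groth.Variety2.PSpace.mem_zeroLocus_singleton.2 hxf⟩
  · obtain ⟨ζ, ⟨hζX, hζf⟩, hmax, hC'⟩ := Groth.Variety2.PSpace.exists_component_point
      (hXc.inter (Groth.Variety2.PSpace.isClosed_zeroLocus' _)) hC
    rw [hC', ← Groth.Variety2.PSpace.ht_add_one hf hd ((hmem ζ).1 hζX) hξ
      (Groth.Variety2.PSpace.mem_zeroLocus_singleton.1 hζf)
      fun z h1 h2 h3 => hmax z ⟨(hmem z).2 h1, Groth.Variety2.PSpace.mem_zeroLocus_singleton.2 h3⟩ h2]
    rfl

end Groth.Agent.S10822
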