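import Groth.Statements.S10823
import Groth.Agent.Variety2.ProjSections

set_option autoImplicit false
universe u
open AlgebraicGeometry Topology TopologicalSpace
open Variety

namespace Groth.Agent.S10823

/-- Let k be a field, X an irreducible closed subset of projective n-space over k, and f_1, …, f_r
nonzero homogeneous polynomials of positive degrees in n + 1 variables. Then every irreducible
component C of X ∩ V_+(f_1, …, f_r) has codimension at most r in X, i.e. dim X ≤ dim C + r, and if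
dim X ≥ r the intersection is nonempty. -/
theorem result (k : Type u) [Field k] (n r : ℕ)
    (X : Set (ProjectiveSpectrum (CohB1.polyGrading n k))) (hXc : IsClosed X) (hXi : IsIrreducible X)
    (f : Fin r → MvPolynomial (Fin (n + 1)) k) (d : Fin r → ℕ)
    (hf : ∀ i, (f i).IsHomogeneous (d i)) (hd : ∀ i, 0 < d i) (hf0 : ∀ i, f i ≠ 0) :
    (∀ C ∈ irreducibleComponents ↥(X ∩ ProjectiveSpectrum.zeroLocus (CohB1.polyGrading n k) (Set.range f)),
        topologicalKrullDim ↥X ≤ topologicalKrullDim ↥C + (r : WithBot ℕ∞)) ∧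
      ((r : WithBot ℕ∞) ≤ topologicalKrullDim ↥X →
        (X ∩ ProjectiveSpectrum.zeroLocus (CohB1.polyGrading n k) (Set.range f)).Nonempty) := by
  classical
  obtain ⟨ξ, hξX, hmem, hdim⟩ := Groth.Variety2.PSpace.exists_generic hXc hXi
  have hzl : ∀ x, x ∈ ProjectiveSpectrum.zeroLocus (CohB1.polyGrading n k) (Set.range f) ↔
      ∀ g ∈ Finset.univ.image f, g ∈ x.asHomogeneousIdeal := fun x => by
    rw [ProjectiveSpectrum.mem_zeroLocus, Set.range_subset_iff]
    simp
  have hS : ∀ g ∈ Finset.univ.image f, ∃ d, 0 < d ∧ g.IsHomogeneous d := fun g hg => by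
    obtain ⟨i, -, rfl⟩ := Finset.mem_image.1 hg
    exact ⟨d i, hd i, hf i⟩
  have hcard : (Finset.univ.image f).card ≤ r := Finset.card_image_le.trans (by simp)
  refine ⟨fun C hC => ?_, fun hr => ?_⟩
  · obtain ⟨ζ, ⟨hζX, hζf⟩, hmax, hC'⟩ := Groth.Variety2.PSpace.exists_component_point
      (hXc.inter (Groth.Variety2.PSpace.isClosed_zeroLocus' _)) hC
    rw [hdim, hC']
    have h := Groth.Variety2.PSpace.ht_le_add_card ξ _ hS ((hmem ζ).1 hζX) ((hzl ζ).1 hζf)
      fun z h1 h2 h3 => hmax z ⟨(hmem z).2 h1, (hzl z).2 h3⟩ h2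
    exact WithBot.coe_le_coe.2 (h.trans (add_le_add le_rfl (by exact_mod_cast hcard)))
  · rw [hdim] at hr
    obtain ⟨x, hx, hxf⟩ := Groth.Variety2.PSpace.exists_mem_of_card_le ξ _ hS
      (le_trans (by exact_mod_cast hcard) (WithBot.coe_le_coe.1 hr))
    exact ⟨x, (hmem x).2 hx, (hzl x).2 hxf⟩

end Groth.Agent.S10823
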