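import Groth.Statements.S10824
import Groth.Agent.Calg6.HypSection
-- import your own Groth.Agent.* helpers here

set_option autoImplicit false
universe u
open Variety

namespace Groth.Agent.S10824

/-- Let k be a field, S the polynomial ring in three variables over k with degree-d part S_d, and f, g
nonzero homogeneous polynomials of positive degrees n and m with no common non-unit factor. Then for
every d ≥ n + m the degree-d part of S/(f, g), namely S_d modulo its intersection with the ideal (f,
g), has dimension n·m over k. -/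
theorem result (k : Type u) [Field k] (n m d : ℕ)
    (f g : MvPolynomial (Fin 3) k) (hf : f.IsHomogeneous n) (hg : g.IsHomogeneous m)
    (hn : 0 < n) (hm : 0 < m) (hf0 : f ≠ 0) (hg0 : g ≠ 0) (hfg : IsRelPrime f g) (hd : n + m ≤ d) :
    Module.finrank k
        (↥(MvPolynomial.homogeneousSubmodule (Fin 3) k d) ⧸
          Submodule.comap (MvPolynomial.homogeneousSubmodule (Fin 3) k d).subtype
            ((Ideal.span ({f, g} : Set (MvPolynomial (Fin 3) k))).restrictScalars k)) = n * m := by
  have hfd : f ∈ MvPolynomial.homogeneousSubmodule (Fin (2 + 1)) k n := hf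
  have e1 := fun g => Groth.Calg6.HypSection.hilb_step (n := 2)
    (Ideal.IsHomogeneous.bot (CohB1.polyGrading 2 k)) hf
    (fun r hr => by simpa [hf0] using hr) g
  rw [bot_sup_eq] at e1
  have hh : (Ideal.span {f}).IsHomogeneous (CohB1.polyGrading 2 k) :=
    Ideal.homogeneous_span _ _ fun y hy => ⟨n, (Set.mem_singleton_iff.1 hy) ▸ hfd⟩
  have e2 := Groth.Calg6.HypSection.hilb_step (n := 2) hh hg (fun r hr => by
    rw [Ideal.mem_span_singleton] at hr ⊢
    exact hfg.dvd_of_dvd_mul_right hr) (d : ℤ)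
  rw [← Ideal.span_insert, e1, e1] at e2
  have hbot : ∀ g : ℤ, Groth.Misc15.HilbLead.hf (⊥ : Ideal (MvPolynomial (Fin (2 + 1)) k)) g =
      (Module.finrank k ↥(GrSyz.stdGr k (Fin (2 + 1)) g) : ℚ) := fun g => by
    rw [Groth.Misc15.HilbLead.hf_eq, Submodule.restrictScalars_bot, inf_bot_eq, finrank_bot, Nat.cast_zero, sub_zero]
  have hdimg : ∀ g : ℕ, (Module.finrank k ↥(GrSyz.stdGr k (Fin (2 + 1)) (g : ℤ)) : ℚ) = ((g : ℚ) + 2) * ((g : ℚ) + 1) / 2 := fun g => by
    have h := (Groth.GrSyzLib.finite_and_finrank_stdGr (k := k) 2 (g : ℤ)).2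
    rw [if_pos (Int.natCast_nonneg g), Int.toNat_natCast] at h
    rw [show (Module.finrank k ↥(GrSyz.stdGr k (Fin (2 + 1)) (g : ℤ)) : ℚ) = (((2 + g).choose 2 : ℕ) : ℚ) by exact_mod_cast h,
      Nat.cast_choose_two]
    push_cast
    ring
  obtain ⟨l, rfl⟩ := Nat.exists_eq_add_of_le hd
  rw [hbot, hbot, hbot, hbot, show ((n + m + l : ℕ) : ℤ) - n = ((m + l : ℕ) : ℤ) by push_cast; ring,
    show ((n + m + l : ℕ) : ℤ) - m = ((n + l : ℕ) : ℤ) by push_cast; ring,
    show (((n + l : ℕ) : ℤ)) - n = ((l : ℕ) : ℤ) by push_cast; ring, hdimg, hdimg, hdimg, hdimg,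
    Groth.Misc15.HilbLead.hf_eq, Groth.GrSyzLib.stdGr_natCast] at e2
  set W := MvPolynomial.homogeneousSubmodule (Fin 3) k (n + m + l)
  set J := (Ideal.span ({f, g} : Set (MvPolynomial (Fin 3) k))).restrictScalars k
  haveI : Module.Finite k W := Groth.Calg6.HilbDim.finite_piece (n := 2) _
  have h3 := Submodule.finrank_quotient_add_finrank (Submodule.comap W.subtype J)
  rw [(Submodule.equivMapOfInjective _ W.injective_subtype (Submodule.comap W.subtype J)).finrank_eq,
    Submodule.map_comap_subtype] at h3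
  refine Nat.cast_injective (R := ℚ) ?_
  have h4 : (Module.finrank k (W ⧸ Submodule.comap W.subtype J) : ℚ) + Module.finrank k ↥(W ⊓ J) = Module.finrank k W := by
    exact_mod_cast h3
  push_cast at e2 h4 ⊢
  linarith

end Groth.Agent.S10824
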