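import Groth.Statements.S10825
import Mathlib
import Groth.Agent.Variety2.DimAffine

set_option autoImplicit false
universe u
open Topology
open CAlg

namespace Groth.Agent.S10825

/-- Let A → B be an injective integral homomorphism of integral domains with fraction fields K and L, L
a finite extension of K, and A integrally closed. For b in B the norm N_{L/K}(b) lies in A; if a
denotes this element of A, then the image of the closed set V(b) of Spec B under Spec B → Spec A is
exactly V(a), and V(b) and V(a) have the same dimension. -/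
theorem result
    (A B K L : Type u) [CommRing A] [IsDomain A] [CommRing B] [IsDomain B] [Algebra A B]
    [Field K] [Field L] [Algebra A K] [IsFractionRing A K] [Algebra B L] [IsFractionRing B L]
    [Algebra A L] [Algebra K L] [IsScalarTower A B L] [IsScalarTower A K L]
    [FiniteDimensional K L] [Algebra.IsIntegral A B] [IsIntegrallyClosed A]
    (hinj : Function.Injective (algebraMap A B))
    (b : B) (a : A) (ha : algebraMap A K a = Algebra.norm K (algebraMap B L b)) :
    PrimeSpectrum.comap (algebraMap A B) '' PrimeSpectrum.zeroLocus ({b} : Set B) =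
        PrimeSpectrum.zeroLocus ({a} : Set A) ∧
      topologicalKrullDim ↥(PrimeSpectrum.zeroLocus ({b} : Set B)) =
        topologicalKrullDim ↥(PrimeSpectrum.zeroLocus ({a} : Set A)) := by
  classical
  have htop : ∀ (S : Type u) [CommRing S] (I : Ideal S),
      topologicalKrullDim ↥(PrimeSpectrum.zeroLocus (I : Set S)) = ringKrullDim (S ⧸ I) := by
    intro S _ I
    have hemb : Topology.IsEmbedding (PrimeSpectrum.comap (Ideal.Quotient.mk I)) :=
      (PrimeSpectrum.isClosedEmbedding_comap_of_surjective (S := S ⧸ I) _ Ideal.Quotient.mk_surjective).isEmbedding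
    have hr : Set.range (PrimeSpectrum.comap (Ideal.Quotient.mk I)) = PrimeSpectrum.zeroLocus (I : Set S) := by
      rw [range_comap_of_surjective (S := S ⧸ I) _ Ideal.Quotient.mk_surjective, Ideal.mk_ker]
    rw [← PrimeSpectrum.topologicalKrullDim_eq_ringKrullDim]
    exact ((hemb.toHomeomorph.trans (Homeomorph.setCongr hr)).isHomeomorph.topologicalKrullDim_eq).symm
  have hinjL : Function.Injective (algebraMap B L) := IsFractionRing.injective B L
  have : Module.IsTorsionFree A B := Module.isTorsionFree_iff_algebraMap_injective.mpr hinj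
  have hint : IsIntegral A b := Algebra.IsIntegral.isIntegral b
  let μ := minpoly A b
  have hμ0 : Polynomial.aeval b μ = 0 := minpoly.aeval A b
  -- the norm is a power of the constant term
  have hnorm : ∃ m : ℕ, 0 < m ∧ a = ((-1) ^ μ.natDegree * μ.coeff 0) ^ m := by
    let x := algebraMap B L b
    have hxi : IsIntegral K x := Algebra.IsIntegral.isIntegral x
    have hmin : minpoly K x = μ.map (algebraMap A K) := minpoly.isIntegrallyClosed_eq_field_fractions K L hint
    have hm : 0 < Module.finrank (IntermediateField.adjoin K {x}) L := by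
      have : FiniteDimensional (IntermediateField.adjoin K {x}) L :=
        FiniteDimensional.right K _ L
      exact Module.finrank_pos
    refine ⟨_, hm, IsFractionRing.injective A K ?_⟩
    rw [ha, Algebra.norm_eq_norm_adjoin K x, ← IntermediateField.adjoin.powerBasis_gen hxi,
      Algebra.PowerBasis.norm_gen_eq_coeff_zero_minpoly, map_pow, map_mul, map_pow, map_neg, map_one]
    have h1 : minpoly K (IntermediateField.adjoin.powerBasis hxi).gen = μ.map (algebraMap A K) := by
      rw [IntermediateField.adjoin.powerBasis_gen, IntermediateField.minpoly_gen, hmin]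
    have h2 : (IntermediateField.adjoin.powerBasis hxi).dim = μ.natDegree := by
      rw [IntermediateField.adjoin.powerBasis_dim, hmin,
        Polynomial.natDegree_map_eq_of_injective (IsFractionRing.injective A K)]
    rw [h1, h2, Polynomial.coeff_map]
  obtain ⟨m, hm, hameq⟩ := hnorm
  have hmem : ∀ p : Ideal A, p.IsPrime → (a ∈ p ↔ μ.coeff 0 ∈ p) := fun p hp => by
    rw [hameq]
    refine ⟨fun h => ?_, fun h => p.pow_mem_of_mem (p.mul_mem_left _ h) m hm⟩
    rcases hp.mem_or_mem (hp.mem_of_pow_mem m h) with h' | h'
    · exact absurd (Ideal.eq_top_of_isUnit_mem _ h' (isUnit_one.neg.pow _)) hp.ne_top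
    · exact h'
  have hc0 : algebraMap A B (μ.coeff 0) ∈ Ideal.span {b} := by
    have h := congrArg (Polynomial.aeval b) (Polynomial.X_mul_divX_add μ)
    rw [map_add, map_mul, Polynomial.aeval_X, Polynomial.aeval_C, hμ0] at h
    rw [Ideal.mem_span_singleton]
    exact ⟨-Polynomial.aeval b μ.divX, by linear_combination h⟩
  have himg : PrimeSpectrum.comap (algebraMap A B) '' PrimeSpectrum.zeroLocus ({b} : Set B) =
      PrimeSpectrum.zeroLocus ({a} : Set A) := by
    ext p
    constructor
    · rintro ⟨Q, hQ, rfl⟩
      rw [PrimeSpectrum.mem_zeroLocus, Set.singleton_subset_iff] at hQ ⊢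
      exact (hmem _ (Ideal.comap_isPrime _ _)).mpr
        ((Ideal.span_singleton_le_iff_mem _).mpr hQ hc0)
    · intro hp
      rw [PrimeSpectrum.mem_zeroLocus, Set.singleton_subset_iff] at hp
      have hp0 : μ.coeff 0 ∈ p.asIdeal := (hmem _ p.2).mp hp
      let C := Algebra.adjoin A ({b} : Set B)
      let bC : C := ⟨b, Algebra.subset_adjoin rfl⟩
      -- evaluation at zero modulo `p`
      let lft : AdjoinRoot μ →ₐ[A] A ⧸ p.asIdeal :=
        AdjoinRoot.liftAlgHom μ (Algebra.ofId A (A ⧸ p.asIdeal)) 0 (by
          rw [Polynomial.eval₂_at_zero]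
          exact Ideal.Quotient.eq_zero_iff_mem.mpr hp0)
      let ev : C →ₐ[A] A ⧸ p.asIdeal := lft.comp (minpoly.equivAdjoin hint).symm.toAlgHom
      have hevb : ev bC = 0 := by
        have h3 : minpoly.equivAdjoin hint (AdjoinRoot.root μ) = bC := Subtype.ext (by simp [bC, μ])
        show lft ((minpoly.equivAdjoin hint).symm bC) = 0
        rw [← h3, AlgEquiv.symm_apply_apply]
        simp [lft]
      let q : Ideal C := RingHom.ker ev.toRingHom
      have : q.IsPrime := RingHom.ker_isPrime _
      have : Algebra.IsIntegral C B := ⟨fun y => (Algebra.IsIntegral.isIntegral (R := A) y).tower_top⟩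
      obtain ⟨Q, -, hQp, hQ⟩ := Ideal.exists_ideal_over_prime_of_isIntegral q (⊥ : Ideal B) (by
        rw [← RingHom.ker_eq_comap_bot,
          (RingHom.injective_iff_ker_eq_bot (algebraMap C B)).mp Subtype.val_injective]
        exact bot_le)
      refine ⟨⟨Q, hQp⟩, ?_, PrimeSpectrum.ext (Ideal.ext fun r => ?_)⟩
      · rw [PrimeSpectrum.mem_zeroLocus, Set.singleton_subset_iff]
        have : bC ∈ Q.comap (algebraMap C B) := hQ ▸ (RingHom.mem_ker.mpr hevb)
        exact this
      · show algebraMap A B r ∈ Q ↔ _
        have h1 : algebraMap A B r ∈ Q ↔ algebraMap A C r ∈ q := by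
          rw [← hQ, Ideal.mem_comap, ← IsScalarTower.algebraMap_apply]
        rw [h1, RingHom.mem_ker]
        show ev (algebraMap A C r) = 0 ↔ _
        rw [AlgHom.commutes]
        exact Ideal.Quotient.eq_zero_iff_mem
  refine ⟨himg, ?_⟩
  have hz : ∀ (S : Type u) [CommRing S] (x : S), PrimeSpectrum.zeroLocus ({x} : Set S) =
      PrimeSpectrum.zeroLocus (((Ideal.span {x}).radical : Ideal S) : Set S) := fun S _ x => by
    rw [PrimeSpectrum.zeroLocus_radical, PrimeSpectrum.zeroLocus_span]
  rw [hz B b, hz A a, htop, htop]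
  let IB : Ideal B := (Ideal.span {b}).radical
  let IA : Ideal A := (Ideal.span {a}).radical
  have hIA : IA = IB.comap (algebraMap A B) := by
    have h2 : closure (PrimeSpectrum.comap (algebraMap A B) '' PrimeSpectrum.zeroLocus ({b} : Set B)) =
        PrimeSpectrum.zeroLocus ((Ideal.span ({b} : Set B)).comap (algebraMap A B)) := by
      rw [← PrimeSpectrum.zeroLocus_span, PrimeSpectrum.closure_image_comap_zeroLocus]
    rw [himg, IsClosed.closure_eq (PrimeSpectrum.isClosed_zeroLocus _), ← PrimeSpectrum.zeroLocus_span,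
      PrimeSpectrum.zeroLocus_eq_iff] at h2
    show (Ideal.span {a}).radical = _
    rw [h2, ← Ideal.comap_radical]
  let g : (A ⧸ IA) →+* (B ⧸ IB) := Ideal.quotientMap IB (algebraMap A B) hIA.le
  let _ : Algebra (A ⧸ IA) (B ⧸ IB) := g.toAlgebra
  have hgi : Function.Injective g := Ideal.quotientMap_injective' hIA.ge
  have : Algebra.IsIntegral (A ⧸ IA) (B ⧸ IB) := ⟨fun y => by
    obtain ⟨z, rfl⟩ := Ideal.Quotient.mk_surjective y
    exact (Algebra.IsIntegral.isIntegral (R := A) z).map_of_comp_eq (Ideal.Quotient.mk IA)
      (Ideal.Quotient.mk IB) (RingHom.ext fun r => rfl)⟩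
  exact Groth.Variety2.Dim.ringKrullDim_eq_of_isIntegral (A ⧸ IA) (B ⧸ IB) hgi

end Groth.Agent.S10825
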