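import Groth.Statements.S10826
import Mathlib
import Groth.Agent.Calg6.PowerSeries
import Groth.Agent.EtaleDeep.PowerSeriesInverse

set_option autoImplicit false
open CAlg

namespace Groth.Agent.S10826

/-- Let R be a commutative ring, n ≥ 1, and φ an R-algebra homomorphism from the power series ring in n
variables over R to itself that sends each variable to a power series without constant term. If the
Jacobian matrix at the origin, whose (i, j) entry is the coefficient of X_j in φ(X_i), has
invertible determinant in R, then φ is an isomorphism (bijective). -/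
theorem result
    (R : Type*) [CommRing R] (n : ℕ) (hn : 1 ≤ n)
    (φ : MvPowerSeries (Fin n) R →ₐ[R] MvPowerSeries (Fin n) R)
    (h0 : ∀ i, MvPowerSeries.constantCoeff (φ (MvPowerSeries.X i)) = 0)
    (hJ : IsUnit (Matrix.det (Matrix.of fun i j : Fin n =>
      MvPowerSeries.coeff (Finsupp.single j 1) (φ (MvPowerSeries.X i))))) :
    Function.Bijective φ := by
  classical
  let f : Fin n → MvPowerSeries (Fin n) R := fun i => φ (MvPowerSeries.X i)
  have hfs : MvPowerSeries.HasSubst f := MvPowerSeries.hasSubst_of_constantCoeff_zero h0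
  let m := Groth.SGA7.PS.varIdeal (Fin n) R
  have hfm : ∀ i, f i ∈ m := fun i => (Groth.SGA7.PS.mem_varIdeal_iff _).mpr (h0 i)
  -- the map is the substitution of `f`
  have hφ : ∀ p, φ p = MvPowerSeries.subst f p := by
    intro p
    ext d
    let N := d.degree + 1
    let t : MvPolynomial (Fin n) R := MvPowerSeries.truncTotal N p
    have hdiff : p - (t : MvPowerSeries (Fin n) R) ∈ m ^ N := by
      refine Groth.SGA7.PS.mem_varIdeal_pow N _ fun x hx => ?_
      rw [map_sub, MvPolynomial.coeff_coe, MvPowerSeries.coeff_truncTotal _ hx, sub_self]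
    have hmap : ∀ ψ : MvPowerSeries (Fin n) R →ₐ[R] MvPowerSeries (Fin n) R,
        (∀ i, ψ (MvPowerSeries.X i) ∈ m) → ψ (p - (t : MvPowerSeries (Fin n) R)) ∈ m ^ N := by
      intro ψ hψ
      have hle : m.map ψ.toRingHom ≤ m := by
        rw [Ideal.map_le_iff_le_comap]
        exact Ideal.span_le.mpr (by rintro _ ⟨i, rfl⟩; exact hψ i)
      have h1 := Ideal.mem_map_of_mem ψ.toRingHom hdiff
      rw [Ideal.map_pow] at h1
      exact Ideal.pow_right_mono hle N h1
    have h1 := hmap φ hfm
    have h2 := hmap (MvPowerSeries.substAlgHom hfs) fun i => by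
      rw [MvPowerSeries.substAlgHom_X]; exact hfm i
    have heq : φ (t : MvPowerSeries (Fin n) R) = MvPowerSeries.substAlgHom hfs (t : MvPowerSeries (Fin n) R) := by
      have : φ.comp (MvPolynomial.coeToMvPowerSeries.algHom R) =
          (MvPowerSeries.substAlgHom hfs).comp (MvPolynomial.coeToMvPowerSeries.algHom R) :=
        MvPolynomial.algHom_ext fun i => by
          simp [MvPolynomial.coeToMvPowerSeries.algHom_apply, MvPowerSeries.subst_X hfs, f]
      have := AlgHom.congr_fun this t
      simpa [MvPolynomial.coeToMvPowerSeries.algHom_apply] using this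
    have h3 := sub_mem h1 h2
    rw [map_sub, map_sub, heq, sub_sub_sub_cancel_right] at h3
    have h4 := Groth.Calg6.coeff_eq_zero_of_mem_varIdeal_pow N h3 d (Nat.lt_succ_self _)
    rw [map_sub, sub_eq_zero] at h4
    rw [h4, MvPowerSeries.coe_substAlgHom]
  let J : Matrix (Fin n) (Fin n) R := Matrix.of fun i j =>
    MvPowerSeries.coeff (Finsupp.single j 1) (φ (MvPowerSeries.X i))
  let lin : Matrix (Fin n) (Fin n) R → Fin n → MvPowerSeries (Fin n) R := fun M i =>
    ∑ j, MvPowerSeries.C (M i j) * MvPowerSeries.X j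
  have hlin : ∀ M, MvPowerSeries.HasSubst (lin M) := fun M =>
    MvPowerSeries.hasSubst_of_constantCoeff_zero fun i => by simp [lin]
  have hsubst : ∀ (g : Fin n → MvPowerSeries (Fin n) R) (hg : MvPowerSeries.HasSubst g) M i,
      MvPowerSeries.subst g (lin M i) = ∑ j, MvPowerSeries.C (M i j) * g j := by
    intro g hg M i
    rw [← MvPowerSeries.coe_substAlgHom hg]
    simp only [lin, map_sum]
    refine Finset.sum_congr rfl fun j _ => ?_
    rw [MvPowerSeries.coe_substAlgHom hg, Groth.EtaleDeep.PSInverse.subst_C_mul_X hg]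
  have hmul : ∀ (M : Matrix (Fin n) (Fin n) R) (N : Matrix (Fin n) (Fin n) R) (g : Fin n → MvPowerSeries (Fin n) R) i,
      ∑ j, MvPowerSeries.C (M i j) * ∑ l, MvPowerSeries.C (N j l) * g l =
        ∑ l, MvPowerSeries.C ((M * N) i l) * g l := by
    intro M N g i
    simp only [Finset.mul_sum, ← mul_assoc, ← map_mul, Matrix.mul_apply, map_sum, Finset.sum_mul]
    exact Finset.sum_comm
  have hone : ∀ (g : Fin n → MvPowerSeries (Fin n) R) i,
      ∑ l, MvPowerSeries.C ((1 : Matrix (Fin n) (Fin n) R) i l) * g l = g i := by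
    intro g i
    simp [Matrix.one_apply, apply_ite MvPowerSeries.C]
  have hinv : ∀ M N : Matrix (Fin n) (Fin n) R, M * N = 1 → ∀ p,
      MvPowerSeries.subst (lin N) (MvPowerSeries.subst (lin M) p) = p := by
    intro M N hMN p
    rw [MvPowerSeries.subst_comp_subst_apply (hlin M) (hlin N)]
    have : (fun s => MvPowerSeries.subst (lin N) (lin M s)) = (MvPowerSeries.X : Fin n → MvPowerSeries (Fin n) R) := by
      funext s
      rw [hsubst _ (hlin N), hmul, hMN, hone]
    rw [this, MvPowerSeries.subst_self, id_eq]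
  have hbl : Function.Bijective (MvPowerSeries.subst (lin J) : MvPowerSeries (Fin n) R → _) :=
    Function.bijective_iff_has_inverse.mpr ⟨MvPowerSeries.subst (lin J⁻¹),
      hinv J J⁻¹ (Matrix.mul_nonsing_inv J hJ), hinv J⁻¹ J (Matrix.nonsing_inv_mul J hJ)⟩
  let A : Fin n → MvPowerSeries (Fin n) R := fun j => ∑ i, MvPowerSeries.C (J⁻¹ j i) * f i
  have hA : ∀ j, (2 : ℕ∞) ≤ (A j - MvPowerSeries.X j).order := by
    intro j
    refine MvPowerSeries.nat_le_order fun x hx => ?_
    rcases Nat.lt_succ_iff_lt_or_eq.mp hx with hx | hx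
    · have hx0 : x = 0 := (Finsupp.degree_eq_zero_iff _).mp (by omega)
      rw [hx0, MvPowerSeries.coeff_zero_eq_constantCoeff_apply]
      simp [A, f, h0]
    · obtain ⟨a, ha⟩ : ∃ a, x a ≠ 0 := by
        by_contra h
        push Not at h
        rw [show x = 0 from Finsupp.ext h] at hx
        simp at hx
      obtain ⟨e, rfl⟩ := exists_add_of_le
        (Finsupp.single_le_iff.mpr (Nat.one_le_iff_ne_zero.mpr ha) : Finsupp.single a 1 ≤ x)
      obtain rfl : e = 0 := by
        rw [← Finsupp.degree_eq_zero_iff]
        simp at hx ⊢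
        omega
      rw [add_zero]
      rw [map_sub, map_sum]
      have h1 := congrFun (congrFun (Matrix.nonsing_inv_mul J hJ) j) a
      rw [Matrix.mul_apply] at h1
      simp only [MvPowerSeries.coeff_C_mul]
      rw [show ∑ i, J⁻¹ j i * MvPowerSeries.coeff (Finsupp.single a 1) (f i) = _ from h1,
        MvPowerSeries.coeff_X, Matrix.one_apply]
      simp [Finsupp.single_left_inj, eq_comm]
  have hcomp : ∀ p, φ p = MvPowerSeries.subst A (MvPowerSeries.subst (lin J) p) := by
    intro p
    rw [hφ, MvPowerSeries.subst_comp_subst_apply (hlin J)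
      (Groth.EtaleDeep.PSInverse.hasSubst_of_two_le A hA)]
    congr 1
    funext s
    rw [hsubst _ (Groth.EtaleDeep.PSInverse.hasSubst_of_two_le A hA), hmul,
      Matrix.mul_nonsing_inv J hJ, hone]
  rw [show (φ : MvPowerSeries (Fin n) R → MvPowerSeries (Fin n) R) =
    MvPowerSeries.subst A ∘ MvPowerSeries.subst (lin J) from funext hcomp]
  exact (Groth.EtaleDeep.PSInverse.bijective_subst_of_sub_X A hA).comp hbl

end Groth.Agent.S10826
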