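import Groth.Statements.S10827
import Mathlib.RingTheory.MvPolynomial.Homogeneous
import Mathlib.RingTheory.MvPolynomial.Basic
import Mathlib.Algebra.MvPolynomial.NoZeroDivisors
import Mathlib.RingTheory.Polynomial.UniqueFactorization
import Mathlib.LinearAlgebra.FiniteDimensional.Lemmas
import Mathlib.Algebra.MvPolynomial.Monad
import Mathlib.RingTheory.MvPolynomial.Tower
import Mathlib.RingTheory.Nilpotent.Basic
import Mathlib.Algebra.MvPolynomial.Nilpotent

set_option autoImplicit false
universe u
open Variety

namespace Groth.Agent.S10827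

open MvPolynomial

variable {k : Type u} [Field k]

private theorem hc_mul {σ : Type} {i j : ℕ} {p q : MvPolynomial σ k}
    (hp : p.totalDegree ≤ i) (hq : q.totalDegree ≤ j) :
    homogeneousComponent (i + j) (p * q) =
      homogeneousComponent i p * homogeneousComponent j q := by
  classical
  ext e
  rw [coeff_homogeneousComponent, coeff_mul, coeff_mul]
  by_cases he : e.degree = i + j
  · rw [if_pos he]
    refine Finset.sum_congr rfl fun x hx => ?_
    rw [coeff_homogeneousComponent, coeff_homogeneousComponent]
    have hxe : x.1 + x.2 = e := Finset.mem_antidiagonal.1 hx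
    have hd : x.1.degree + x.2.degree = i + j := by
      rw [← he, ← hxe, map_add]
    by_cases h1 : x.1.degree = i
    · rw [if_pos h1, if_pos (by omega)]
    · by_cases h1' : i < x.1.degree
      · rw [if_neg h1, coeff_eq_zero_of_totalDegree_lt (f := p)
          (by simpa [Finsupp.degree_apply] using lt_of_le_of_lt hp h1')]
        simp
      · rw [if_neg h1, coeff_eq_zero_of_totalDegree_lt (f := q) (d := x.2)
          (by
            have : j < x.2.degree := by omega
            simpa [Finsupp.degree_apply] using lt_of_le_of_lt hq this)]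
        simp
  · rw [if_neg he]
    refine (Finset.sum_eq_zero fun x hx => ?_).symm
    rw [coeff_homogeneousComponent, coeff_homogeneousComponent]
    have hxe : x.1 + x.2 = e := Finset.mem_antidiagonal.1 hx
    by_cases h1 : x.1.degree = i
    · rw [if_pos h1, if_neg (fun h2 => he (by rw [← hxe, map_add, h1, h2])), mul_zero]
    · rw [if_neg h1, zero_mul]

private theorem totalDegree_le_of_hc {σ : Type} {i : ℕ} {p : MvPolynomial σ k}
    (hp : p.totalDegree ≤ i + 1) (h0 : homogeneousComponent (i + 1) p = 0) :
    p.totalDegree ≤ i := by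
  classical
  rw [totalDegree]
  refine Finset.sup_le fun e he => ?_
  have h1 : e.degree ≤ i + 1 := by
    rw [Finsupp.degree_apply]
    exact (le_totalDegree he).trans hp
  by_contra hlt
  push Not at hlt
  have h2 : e.degree = i + 1 := le_antisymm h1 (by simpa [Finsupp.degree_apply, Finsupp.sum] using hlt)
  have := congrArg (coeff e) h0
  rw [coeff_homogeneousComponent, if_pos h2, coeff_zero] at this
  exact mem_support_iff.1 he this

private theorem finrank_le_degree (D : ℕ) :
    2 * Module.finrank k (restrictTotalDegree (Fin 2) k D) = (D + 1) * (D + 2) := by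
  classical
  show 2 * Module.finrank k (restrictSupport k {n : Fin 2 →₀ ℕ | n.sum (fun _ x => x) ≤ D}) = _
  rw [Module.finrank_eq_nat_card_basis (basisRestrictSupport k _)]
  let e : {n : Fin 2 →₀ ℕ // n.sum (fun _ x => x) ≤ D} ≃ Σ i : Fin (D + 1), Fin (i.1 + 1) :=
    { toFun := fun n => ⟨⟨n.1 0 + n.1 1, by
        have := n.2
        rw [Finsupp.sum_fintype _ _ (fun _ => rfl), Fin.sum_univ_two] at this
        omega⟩, ⟨n.1 0, by simp only; omega⟩⟩
      invFun := fun z => ⟨Finsupp.equivFunOnFinite.symm ![z.2.1, z.1.1 - z.2.1], by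
        rw [Finsupp.sum_fintype _ _ (fun _ => rfl), Fin.sum_univ_two]
        have h1 := z.1.2
        have h2 := z.2.2
        simp
        omega⟩
      left_inv := fun n => Subtype.ext (Finsupp.ext fun i => by
        fin_cases i <;> simp)
      right_inv := fun ⟨⟨i, hi⟩, ⟨j, hj⟩⟩ => by
        simp only at hj
        refine Sigma.ext (Fin.ext ?_) ((Fin.heq_ext_iff ?_).2 ?_)
        · simp; omega
        · simp; omega
        · simp }
  rw [Nat.card_congr (Equiv.trans (Equiv.setCongr (by rfl)) e), Nat.card_eq_fintype_card,
    Fintype.card_sigma]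
  simp only [Fintype.card_fin]
  rw [Fin.sum_univ_eq_sum_range (fun i => i + 1)]
  have key : ∀ N : ℕ, 2 * ∑ i ∈ Finset.range N, (i + 1) = N * (N + 1) := fun N => by
    induction N with
    | zero => simp
    | succ N ih =>
      rw [Finset.sum_range_succ, mul_add, ih]
      ring
  exact key (D + 1)

/-- Let k be a field and f, g nonzero homogeneous polynomials of positive degrees n and m in three
variables X, Y, T without common non-unit factor, and assume that f(X, Y, 0) and g(X, Y, 0) are also
without common non-unit factor in k[X, Y] (no common point of the two curves lies on the line T =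
0). Then the quotient of k[X, Y] by the ideal generated by f(X, Y, 1) and g(X, Y, 1) has dimension
n·m over k. (The published statement is that two plane curves without common component have total
intersection number equal to the product of their degrees; its argument moves a line off the
finitely many common points and then proves exactly this affine count, which is what this row
states, over an arbitrary field.) -/
theorem result (k : Type u) [Field k] (n m : ℕ)
    (f g : MvPolynomial (Fin 3) k) (hf : f.IsHomogeneous n) (hg : g.IsHomogeneous m)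
    (hn : 0 < n) (hm : 0 < m) (hf0 : f ≠ 0) (hg0 : g ≠ 0) (hfg : IsRelPrime f g)
    (hT : IsRelPrime
      (MvPolynomial.aeval (Fin.cons (MvPolynomial.X 0) (Fin.cons (MvPolynomial.X 1)
        (Fin.cons 0 Fin.elim0)) : Fin 3 → MvPolynomial (Fin 2) k) f)
      (MvPolynomial.aeval (Fin.cons (MvPolynomial.X 0) (Fin.cons (MvPolynomial.X 1)
        (Fin.cons 0 Fin.elim0)) : Fin 3 → MvPolynomial (Fin 2) k) g)) :
    Module.finrank k (MvPolynomial (Fin 2) k ⧸ Ideal.span
      ({MvPolynomial.aeval (Fin.cons (MvPolynomial.X 0) (Fin.cons (MvPolynomial.X 1)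
          (Fin.cons 1 Fin.elim0)) : Fin 3 → MvPolynomial (Fin 2) k) f,
        MvPolynomial.aeval (Fin.cons (MvPolynomial.X 0) (Fin.cons (MvPolynomial.X 1)
          (Fin.cons 1 Fin.elim0)) : Fin 3 → MvPolynomial (Fin 2) k) g} :
        Set (MvPolynomial (Fin 2) k))) = n * m := by
  classical
  set σ0 : Fin 3 → MvPolynomial (Fin 2) k := Fin.cons (X 0) (Fin.cons (X 1) (Fin.cons 0 Fin.elim0))
    with hσ0
  set σ1 : Fin 3 → MvPolynomial (Fin 2) k := Fin.cons (X 0) (Fin.cons (X 1) (Fin.cons 1 Fin.elim0))
    with hσ1
  -- degrees and leading forms of the dehomogenisations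
  have hlead : ∀ (F : MvPolynomial (Fin 3) k) (d : ℕ), F.IsHomogeneous d →
      (aeval σ1 F).totalDegree ≤ d ∧ (aeval σ0 F).IsHomogeneous d ∧
        homogeneousComponent d (aeval σ1 F) = aeval σ0 F := by
    intro F d hF
    rw [F.as_sum, map_sum, map_sum]
    have key : ∀ e ∈ F.support, (aeval σ1 (monomial e (coeff e F))).totalDegree ≤ d ∧
        (aeval σ0 (monomial e (coeff e F))).IsHomogeneous d ∧
        homogeneousComponent d (aeval σ1 (monomial e (coeff e F))) =
          aeval σ0 (monomial e (coeff e F)) := by
      intro e he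
      have hd := hF (mem_support_iff.1 he)
      rw [Finsupp.weight_apply, Finsupp.sum_fintype _ _ (fun _ => by simp),
        Fin.sum_univ_three] at hd
      simp only [Pi.one_apply, smul_eq_mul, mul_one] at hd
      simp only [aeval_monomial, Finsupp.prod_fintype _ _ (fun _ => pow_zero _), Fin.prod_univ_three]
      rw [show σ1 0 = X 0 from rfl, show σ1 1 = X 1 from rfl, show σ1 2 = 1 from rfl,
        show σ0 0 = X 0 from rfl, show σ0 1 = X 1 from rfl, show σ0 2 = 0 from rfl]
      rw [one_pow, mul_one, algebraMap_eq]
      have hh : (C (coeff e F) * (X 0 ^ e 0 * X 1 ^ e 1) : MvPolynomial (Fin 2) k).IsHomogeneous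
          (e 0 + e 1) := by
        simpa using (isHomogeneous_C (Fin 2) (coeff e F)).mul
          ((isHomogeneous_X_pow (0 : Fin 2) (e 0)).mul (isHomogeneous_X_pow (1 : Fin 2) (e 1)))
      refine ⟨hh.totalDegree_le.trans (by omega), ?_, ?_⟩
      · by_cases h2 : e 2 = 0
        · rw [h2, pow_zero, mul_one]
          exact (show e 0 + e 1 = d by omega) ▸ hh
        · rw [zero_pow h2, mul_zero, mul_zero]
          exact isHomogeneous_zero _ _ _
      · rw [homogeneousComponent_of_mem hh]
        by_cases h2 : e 2 = 0
        · rw [if_pos (by omega), h2, pow_zero, mul_one]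
        · rw [if_neg (by omega), zero_pow h2, mul_zero, mul_zero]
    refine ⟨(totalDegree_finsetSum _ _).trans (Finset.sup_le fun e he => (key e he).1),
      IsHomogeneous.sum _ _ _ fun e he => (key e he).2.1, ?_⟩
    rw [map_sum]
    exact Finset.sum_congr rfl fun e he => (key e he).2.2
  obtain ⟨hf1d, hf0h, hfc⟩ := hlead f n hf
  obtain ⟨hg1d, hg0h, hgc⟩ := hlead g m hg
  set f1 := aeval σ1 f
  set g1 := aeval σ1 g
  set f0 := aeval σ0 f
  set g0 := aeval σ0 g
  have hnotunit : ∀ (p : MvPolynomial (Fin 2) k) (d : ℕ), p.IsHomogeneous d → 0 < d → ¬ IsUnit p := by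
    intro p d hp hd hu
    obtain ⟨hc, -⟩ := isUnit_iff_totalDegree_of_isReduced.1 hu
    have h := congrArg (coeff 0) (homogeneousComponent_eq_self hp)
    rw [coeff_homogeneousComponent, map_zero, if_neg (by omega)] at h
    rw [← h] at hc
    exact not_isUnit_zero hc
  have hf00 : f0 ≠ 0 := fun h => hnotunit g0 m hg0h hm (isRelPrime_zero_left.1 (h ▸ hT))
  have hg00 : g0 ≠ 0 := fun h => hnotunit f0 n hf0h hn (isRelPrime_zero_right.1 (h ▸ hT))
  have hf10 : f1 ≠ 0 := fun h => hf00 (by rw [← hfc, h, map_zero])
  have hg10 : g1 ≠ 0 := fun h => hg00 (by rw [← hgc, h, map_zero])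
  have hfdeg : f1.totalDegree = n := le_antisymm hf1d <| by
    by_contra hlt
    exact hf00 (by rw [← hfc, homogeneousComponent_eq_zero _ _ (by omega)])
  have hgdeg : g1.totalDegree = m := le_antisymm hg1d <| by
    by_contra hlt
    exact hg00 (by rw [← hgc, homogeneousComponent_eq_zero _ _ (by omega)])
  have hrel : IsRelPrime g1 f1 := by
    intro r hrg hrf
    obtain ⟨s, hs⟩ := hrf
    obtain ⟨t, ht⟩ := hrg
    have hr0 : r ≠ 0 := fun h => hf10 (by rw [hs, h, zero_mul])
    have hs0 : s ≠ 0 := fun h => hf10 (by rw [hs, h, mul_zero])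
    have ht0 : t ≠ 0 := fun h => hg10 (by rw [ht, h, mul_zero])
    have d1 : r.totalDegree + s.totalDegree = n := by
      rw [← totalDegree_mul_of_isDomain hr0 hs0, ← hs, hfdeg]
    have d2 : r.totalDegree + t.totalDegree = m := by
      rw [← totalDegree_mul_of_isDomain hr0 ht0, ← ht, hgdeg]
    have e1 : homogeneousComponent r.totalDegree r ∣ f0 :=
      ⟨homogeneousComponent s.totalDegree s, by rw [← hc_mul le_rfl le_rfl, ← hs, d1, hfc]⟩
    have e2 : homogeneousComponent r.totalDegree r ∣ g0 :=
      ⟨homogeneousComponent t.totalDegree t, by rw [← hc_mul le_rfl le_rfl, ← ht, d2, hgc]⟩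
    have hu := hT e1 e2
    have hr : r.totalDegree = 0 := by
      by_contra hr
      exact hnotunit _ _ (homogeneousComponent_isHomogeneous _ _) (Nat.pos_of_ne_zero hr) hu
    rw [totalDegree_eq_zero_iff_eq_C] at hr
    rw [hr]
    exact (isUnit_iff_ne_zero.2 fun h => hr0 (by rw [hr, h, map_zero])).map C
  set I := Ideal.span ({f1, g1} : Set (MvPolynomial (Fin 2) k)) with hI
  let V := fun D => restrictTotalDegree (Fin 2) k D
  -- lowering the degrees of the multipliers
  have hspan : ∀ D, n + m ≤ D → ∀ h ∈ V D, h ∈ I →
      ∃ a ∈ V (D - n), ∃ b ∈ V (D - m), a * f1 + b * g1 = h := by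
    intro D hD h hh hhI
    rw [hI, Ideal.mem_span_pair] at hhI
    obtain ⟨a, b, hab⟩ := hhI
    suffices ∀ (j : ℕ) (a b : MvPolynomial (Fin 2) k), a.totalDegree ≤ D - n + j →
        b.totalDegree ≤ D - m + j → a * f1 + b * g1 = h →
        ∃ a ∈ V (D - n), ∃ b ∈ V (D - m), a * f1 + b * g1 = h from
      this (max a.totalDegree b.totalDegree) a b (le_add_left (le_max_left _ _))
        (le_add_left (le_max_right _ _)) hab
    intro j
    induction j with
    | zero =>
      intro a b ha hb he
      exact ⟨a, (mem_restrictTotalDegree _ _ _).2 ha, b, (mem_restrictTotalDegree _ _ _).2 hb, he⟩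
    | succ j ih =>
      intro a b ha hb he
      rw [← Nat.add_assoc] at ha hb
      have htop := congrArg (homogeneousComponent (D + (j + 1))) he
      rw [map_add, show homogeneousComponent (D + (j + 1)) h = 0 from
          homogeneousComponent_eq_zero _ _ (by have := (mem_restrictTotalDegree _ _ _).1 hh; omega),
        show D + (j + 1) = (D - n + j + 1) + n by omega, hc_mul ha hfdeg.le, hfc,
        show D - n + j + 1 + n = (D - m + j + 1) + m by omega, hc_mul hb hgdeg.le, hgc] at htop
      obtain ⟨c, hc⟩ : g0 ∣ homogeneousComponent (D - n + j + 1) a :=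
        hT.symm.dvd_of_dvd_mul_right ⟨-(homogeneousComponent (D - m + j + 1) b),
          by linear_combination htop⟩
      set c' := homogeneousComponent (D - n - m + j + 1) c
      have hc' : homogeneousComponent (D - n + j + 1) a = g0 * c' := by
        by_cases hc0 : c = 0
        · rw [hc, hc0]; simp [c', hc0]
        have hdeg : g0.totalDegree + c.totalDegree = D - n + j + 1 := by
          rw [← totalDegree_mul_of_isDomain hg00 hc0, ← hc]
          exact (homogeneousComponent_isHomogeneous _ _).totalDegree
            (fun h0 => mul_ne_zero hg00 hc0 (hc ▸ h0))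
        rw [hg0h.totalDegree hg00] at hdeg
        have := hc_mul (p := g0) (q := c) hg0h.totalDegree_le
          (show c.totalDegree ≤ D - n - m + j + 1 by omega)
        rw [show m + (D - n - m + j + 1) = D - n + j + 1 by omega, ← hc,
          homogeneousComponent_of_mem (homogeneousComponent_isHomogeneous _ _), if_pos rfl,
          homogeneousComponent_eq_self hg0h] at this
        exact this
      have hb' : homogeneousComponent (D - m + j + 1) b = -(f0 * c') := by
        refine mul_right_cancel₀ hg00 ?_
        linear_combination htop - f0 * hc'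
      have hc'd : c'.totalDegree ≤ D - n - m + j + 1 :=
        (homogeneousComponent_isHomogeneous _ _).totalDegree_le
      have hc'h : homogeneousComponent (D - n - m + j + 1) c' = c' :=
        homogeneousComponent_eq_self (homogeneousComponent_isHomogeneous _ _)
      refine ih (a - g1 * c') (b + f1 * c') ?_ ?_ (by linear_combination he)
      · refine totalDegree_le_of_hc ((totalDegree_sub _ _).trans (max_le ha
          ((totalDegree_mul _ _).trans (by omega)))) ?_
        rw [map_sub, hc', show D - n + j + 1 = m + (D - n - m + j + 1) by omega,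
          hc_mul hgdeg.le hc'd, hgc, hc'h, sub_self]
      · refine totalDegree_le_of_hc ((totalDegree_add _ _).trans (max_le hb
          ((totalDegree_mul _ _).trans (by omega)))) ?_
        rw [map_add, hb', show D - m + j + 1 = n + (D - n - m + j + 1) by omega,
          hc_mul hfdeg.le hc'd, hfc, hc'h, neg_add_cancel]
  -- the image of the polynomials of degree at most `D`
  let π : MvPolynomial (Fin 2) k →ₗ[k] MvPolynomial (Fin 2) k ⧸ I :=
    (Ideal.Quotient.mkₐ k I).toLinearMap
  have hπ : ∀ p, π p = 0 ↔ p ∈ I := fun p => Ideal.Quotient.eq_zero_iff_mem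
  have himage : ∀ D, n + m ≤ D → Module.finrank k ((V D).map π) = n * m := by
    intro D hD
    let Φ : V (D - n) × V (D - m) →ₗ[k] MvPolynomial (Fin 2) k :=
      ((LinearMap.mulRight k f1).comp (V (D - n)).subtype).coprod
        ((LinearMap.mulRight k g1).comp (V (D - m)).subtype)
    have hΦ : ∀ z, Φ z = z.1.1 * f1 + z.2.1 * g1 := fun z => rfl
    have hrange : LinearMap.range Φ = V D ⊓ (I.restrictScalars k) := by
      ext h
      constructor
      · rintro ⟨⟨⟨a, ha⟩, ⟨b, hb⟩⟩, rfl⟩
        rw [hΦ]
        simp only
        rw [mem_restrictTotalDegree] at ha hb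
        refine ⟨(mem_restrictTotalDegree _ _ _).2 ((totalDegree_add _ _).trans (max_le
          ((totalDegree_mul _ _).trans (by omega)) ((totalDegree_mul _ _).trans (by omega)))), ?_⟩
        exact Ideal.mem_span_pair.2 ⟨a, b, rfl⟩
      · rintro ⟨h1, h2⟩
        obtain ⟨a, ha, b, hb, he⟩ := hspan D hD h h1 h2
        exact ⟨⟨⟨a, ha⟩, ⟨b, hb⟩⟩, he⟩
    let Ψ : V (D - n - m) →ₗ[k] V (D - n) × V (D - m) :=
      LinearMap.prod
        (LinearMap.codRestrict (V (D - n)) ((LinearMap.mulRight k g1).comp (V (D - n - m)).subtype)
          fun c => (mem_restrictTotalDegree _ _ _).2 ((totalDegree_mul _ _).trans (by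
            have := (mem_restrictTotalDegree _ _ _).1 c.2
            simp only [Submodule.subtype_apply]
            omega)))
        (LinearMap.codRestrict (V (D - m))
          (-((LinearMap.mulRight k f1).comp (V (D - n - m)).subtype))
          fun c => (V (D - m)).neg_mem ((mem_restrictTotalDegree _ _ _).2
            ((totalDegree_mul _ _).trans (by
              have := (mem_restrictTotalDegree _ _ _).1 c.2
              simp only [Submodule.subtype_apply]
              omega))))
    have hΨinj : Function.Injective Ψ := fun c c' hcc => Subtype.ext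
      (mul_right_cancel₀ hg10 (congrArg (fun z => (z.1 : MvPolynomial (Fin 2) k)) hcc))
    have hker : LinearMap.ker Φ = LinearMap.range Ψ := by
      ext ⟨⟨a, ha⟩, ⟨b, hb⟩⟩
      rw [LinearMap.mem_ker, hΦ]
      constructor
      · intro h0
        change a * f1 + b * g1 = 0 at h0
        obtain ⟨c, rfl⟩ : g1 ∣ a := hrel.dvd_of_dvd_mul_right ⟨-b, by linear_combination h0⟩
        have hbc : b = -(c * f1) := mul_right_cancel₀ hg10 (by linear_combination h0)
        refine ⟨⟨c, (mem_restrictTotalDegree _ _ _).2 ?_⟩,
          Prod.ext (Subtype.ext (mul_comm c g1)) (Subtype.ext hbc.symm)⟩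
        by_cases hc0 : c = 0
        · simp [hc0]
        have := (mem_restrictTotalDegree _ _ _).1 ha
        rw [totalDegree_mul_of_isDomain hg10 hc0, hgdeg] at this
        omega
      · rintro ⟨⟨c, hc⟩, hcz⟩
        have h1 : c * g1 = a := congrArg (fun z => (z.1 : MvPolynomial (Fin 2) k)) hcz
        have h2 : -(c * f1) = b := congrArg (fun z => (z.2 : MvPolynomial (Fin 2) k)) hcz
        show a * f1 + b * g1 = 0
        rw [← h1, ← h2]
        ring
    have hfin : ∀ E, Module.Finite k (V E) := fun E =>
      inferInstanceAs (Module.Finite k (restrictTotalDegree (Fin 2) k E))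
    haveI := hfin D; haveI := hfin (D - n); haveI := hfin (D - m); haveI := hfin (D - n - m)
    have r1 := LinearMap.finrank_range_add_finrank_ker Φ
    rw [hrange, hker, LinearMap.finrank_range_of_inj hΨinj, Module.finrank_prod] at r1
    have r2 := LinearMap.finrank_range_add_finrank_ker (π.comp (V D).subtype)
    rw [LinearMap.range_comp, Submodule.range_subtype] at r2
    have hk : Module.finrank k (LinearMap.ker (π.comp (V D).subtype)) =
        Module.finrank k ↥(V D ⊓ I.restrictScalars k) := by
      have e : (LinearMap.ker (π.comp (V D).subtype)).map (V D).subtype = V D ⊓ I.restrictScalars k := by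
        ext p
        constructor
        · rintro ⟨⟨q, hq⟩, hq0, rfl⟩
          exact ⟨hq, (hπ q).1 hq0⟩
        · rintro ⟨h1, h2⟩
          exact ⟨⟨p, h1⟩, (hπ p).2 h2, rfl⟩
      rw [← e]
      exact (Submodule.equivMapOfInjective _ (V D).injective_subtype _).finrank_eq
    have q0 := finrank_le_degree (k := k) D
    have q1 := finrank_le_degree (k := k) (D - n)
    have q2 := finrank_le_degree (k := k) (D - m)
    have q3 := finrank_le_degree (k := k) (D - n - m)
    obtain ⟨j, rfl⟩ : ∃ j, D = j + n + m := ⟨D - n - m, by omega⟩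
    rw [show j + n + m - n = j + m by omega, show j + n + m - m = j + n by omega] at *
    rw [show j + m - m = j by omega] at *
    nlinarith
  have hmono : ∀ D, n + m ≤ D → (V D).map π = (V (n + m)).map π := by
    intro D hD
    haveI : Module.Finite k (V D) := inferInstanceAs (Module.Finite k (restrictTotalDegree (Fin 2) k D))
    refine (Submodule.eq_of_le_of_finrank_eq (Submodule.map_mono fun p hp => ?_)
      ((himage _ le_rfl).trans (himage D hD).symm)).symm
    rw [mem_restrictTotalDegree] at hp ⊢
    omega
  have htop : (V (n + m)).map π = ⊤ := by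
    rw [eq_top_iff]
    intro x _
    obtain ⟨p, rfl⟩ := Ideal.Quotient.mk_surjective x
    rw [← hmono (max (n + m) p.totalDegree) (le_max_left _ _)]
    exact ⟨p, (mem_restrictTotalDegree _ _ _).2 (le_max_right _ _), rfl⟩
  have := himage _ le_rfl
  rwa [htop, finrank_top] at this

end Groth.Agent.S10827
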