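import Groth.Statements.S10828
import Mathlib

set_option autoImplicit false
universe u
open CategoryTheory AlgebraicGeometry
open Variety

namespace Groth.Agent.S10828

/-- Let k be a field, K an algebraic closure of k with its group G of k-automorphisms, and X a k-scheme
locally of finite type. The map sending a K-valued point of X over k to its image point identifies
the closed points of X with the G-orbits in X(K): a point is closed if and only if it is the image
of some K-valued point, and two K-valued points have the same image if and only if one is obtained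
from the other by composing with Spec of a k-automorphism of K. -/
theorem result (k K : Type u) [Field k] [Field K]
    [Algebra k K] [IsAlgClosure k K] {X : Scheme.{u}} (f : X ⟶ Spec (CommRingCat.of k))
    [LocallyOfFiniteType f] :
    (∀ x : X, IsClosed ({x} : Set X) ↔
        ∃ p : Spec (CommRingCat.of K) ⟶ X, p ≫ f = Spec.map (CommRingCat.ofHom (algebraMap k K)) ∧
          p.base (IsLocalRing.closedPoint K) = x) ∧
      ∀ p q : Spec (CommRingCat.of K) ⟶ X,
        p ≫ f = Spec.map (CommRingCat.ofHom (algebraMap k K)) →
        q ≫ f = Spec.map (CommRingCat.ofHom (algebraMap k K)) →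
          (p.base (IsLocalRing.closedPoint K) = q.base (IsLocalRing.closedPoint K) ↔
            ∃ σ : K ≃ₐ[k] K, q = Spec.map (CommRingCat.ofHom σ.toRingHom) ≫ p) := by
  set s : Spec (CommRingCat.of K) ⟶ Spec (CommRingCat.of k) :=
    Spec.map (CommRingCat.ofHom (algebraMap k K)) with hs
  have hKint : IsIntegralHom s := by
    rw [hs, IsIntegralHom.SpecMap_iff]
    have : Algebra.IsAlgebraic k K := IsAlgClosure.isAlgebraic
    exact algebraMap_isIntegral_iff.2 Algebra.IsAlgebraic.isIntegral
  have hclosed : ∀ p : Spec (CommRingCat.of K) ⟶ X, p ≫ f = s →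
      IsClosed ({p.base (IsLocalRing.closedPoint K)} : Set X) := by
    intro p hp
    have : IsAlgClosed K := IsAlgClosure.isAlgClosed k
    let p' : Spec (CommRingCat.of K) ⟶ Limits.pullback f s :=
      Limits.pullback.lift p (𝟙 _) (by simpa using hp)
    have h1 : IsClosed ({p' (IsLocalRing.closedPoint K)} : Set ↥(Limits.pullback f s)) :=
      (pointEquivClosedPoint (Limits.pullback.snd f s) ⟨p', Limits.pullback.lift_snd _ _ _⟩).2
    have : IsIntegralHom (Limits.pullback.fst f s) := inferInstance
    have h2 := (Limits.pullback.fst f s).isClosedMap _ h1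
    rw [Set.image_singleton] at h2
    have e : p' ≫ Limits.pullback.fst f s = p := Limits.pullback.lift_fst _ _ _
    rw [← e]
    exact h2
  have hmk : ∀ x : X, ∃ ι : CommRingCat.of k ⟶ X.residueField x,
      Spec.map ι = X.fromSpecResidueField x ≫ f := fun x => ⟨Spec.preimage _, Spec.map_preimage _⟩
  have hrep : ∀ p : Spec (CommRingCat.of K) ⟶ X, ∀ x : X, p.base (IsLocalRing.closedPoint K) = x →
      ∃ φ : X.residueField x ⟶ CommRingCat.of K, p = Spec.map φ ≫ X.fromSpecResidueField x := by
    rintro p x rfl
    exact ⟨(Scheme.SpecToEquivOfField K X p).2, ((Scheme.SpecToEquivOfField K X).symm_apply_apply p).symm⟩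
  refine ⟨fun x => ⟨fun hx => ?_, ?_⟩, fun p q hp hq => ⟨fun hpq => ?_, ?_⟩⟩
  · obtain ⟨ι, hι⟩ := hmk x
    have : IsClosedImmersion (X.fromSpecResidueField x) := isClosed_singleton_iff_isClosedImmersion.1 hx
    have hfin : IsFinite (X.fromSpecResidueField x ≫ f) :=
      (isFinite_iff_locallyOfFiniteType_of_jacobsonSpace).2 inferInstance
    rw [← hι, IsFinite.SpecMap_iff] at hfin
    let := ι.hom.toAlgebra
    have : Module.Finite k (X.residueField x) := hfin
    have : Algebra.IsAlgebraic k (X.residueField x) := Algebra.IsAlgebraic.of_finite _ _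
    have : IsAlgClosed K := IsAlgClosure.isAlgClosed k
    let φ : X.residueField x →ₐ[k] K := IsAlgClosed.lift
    refine ⟨Spec.map (CommRingCat.ofHom φ.toRingHom) ≫ X.fromSpecResidueField x, ?_, ?_⟩
    · rw [Category.assoc, ← hι, ← Spec.map_comp]
      congr 1
      ext a
      exact φ.commutes a
    · exact (Scheme.range_fromSpecResidueField x).le ⟨(Spec.map (CommRingCat.ofHom φ.toRingHom)).base (IsLocalRing.closedPoint K), rfl⟩
  · rintro ⟨p, hp, rfl⟩
    exact hclosed p hp
  · obtain ⟨φ, hφ⟩ := hrep p _ rfl
    obtain ⟨ψ, hψ⟩ := hrep q _ hpq.symm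
    obtain ⟨ι, hι⟩ := hmk (p.base (IsLocalRing.closedPoint K))
    have hφι : ι ≫ φ = CommRingCat.ofHom (algebraMap k K) := by
      apply Spec.map_injective
      rw [Spec.map_comp, hι, ← Category.assoc, ← hφ, hp]
    have hψι : ι ≫ ψ = CommRingCat.ofHom (algebraMap k K) := by
      apply Spec.map_injective
      rw [Spec.map_comp, hι, ← Category.assoc, ← hψ, hq]
    let := ι.hom.toAlgebra
    let := φ.hom.toAlgebra
    have : IsScalarTower k (X.residueField (p.base (IsLocalRing.closedPoint K))) K :=
      IsScalarTower.of_algebraMap_eq fun a => (congrArg (fun g : CommRingCat.of k ⟶ CommRingCat.of K => g.hom a) hφι).symm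
    let ψ' : X.residueField (p.base (IsLocalRing.closedPoint K)) →ₐ[k] K :=
      { ψ.hom with commutes' := fun a => congrArg (fun g : CommRingCat.of k ⟶ CommRingCat.of K => g.hom a) hψι }
    have : Algebra.IsAlgebraic k K := IsAlgClosure.isAlgebraic
    have : IsAlgClosed K := IsAlgClosure.isAlgClosed k
    have : Normal k K := IsAlgClosure.normal k K
    let σ : K ≃ₐ[k] K := AlgEquiv.ofBijective (ψ'.liftNormal K) (Algebra.IsAlgebraic.algHom_bijective _)
    refine ⟨σ, ?_⟩
    rw [hφ, hψ, ← Category.assoc, ← Spec.map_comp]
    congr 2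
    ext a
    exact (ψ'.liftNormal_commutes K a).symm
  · rintro ⟨σ, rfl⟩
    exact congrArg p.base (Subsingleton.elim (α := PrimeSpectrum K) _ _)

end Groth.Agent.S10828
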