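import Groth.Statements.S10832
import Groth.Agent.Variety2.IrrFibres
import Groth.Agent.PropsBasic.ZeroDim

set_option autoImplicit false
universe u
open CategoryTheory AlgebraicGeometry Topology
open Variety

namespace Groth.Agent.S10832

/-- For a nonempty scheme X of finite type over a field k the following are equivalent: X has Krull
dimension 0; X is affine with ring of global sections finite over k and equal to the product of all
its local rings via the germ maps; the underlying space of X is discrete; the underlying space of X
is finite. -/
theorem result (k : Type u) [Field k] {X : Scheme.{u}} [Nonempty X]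
    (f : X ⟶ Spec (CommRingCat.of k)) [LocallyOfFiniteType f] [QuasiCompact f] :
    [topologicalKrullDim ↥X = 0,
      IsAffine X ∧ f.appTop.hom.Finite ∧
        Function.Bijective (fun s : Γ(X, ⊤) => fun x : X => X.presheaf.germ ⊤ x trivial s),
      DiscreteTopology ↥X,
      Finite ↥X].TFAE := by
  have hns := Groth.Variety2.Dim.noetherianSpace_of f
  have := LocallyOfFiniteType.isLocallyNoetherian f
  have : CompactSpace X := ⟨TopologicalSpace.NoetherianSpace.isCompact _⟩
  have : JacobsonSpace X := Groth.Variety2.Dim.jacobsonSpace f
  tfae_have 4 → 3 := fun _ => inferInstance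
  tfae_have 3 → 4 := fun _ => finite_of_compact_of_discrete
  tfae_have 3 → 1 := fun _ => by
    rw [Groth.Variety2.Dim.dim_eq_iSup_height]
    have : ∀ x : X, ((Order.height x : ℕ∞) : WithBot ℕ∞) = 0 := fun x => by
      rw [(Groth.Variety2.Dim.height_eq_zero_iff x).2 (isClosed_discrete _)]; rfl
    simp [this]
  tfae_have 1 → 3 := fun h => by
    have h1 : ∀ x : X, IsClosed ({x} : Set X) := fun x => by
      rw [← Groth.Variety2.Dim.height_eq_zero_iff]
      rw [Groth.Variety2.Dim.dim_eq_iSup_height] at h
      exact nonpos_iff_eq_zero.1 (WithBot.coe_le_coe.1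
        ((le_iSup (fun z : X => ((Order.height z : ℕ∞) : WithBot ℕ∞)) x).trans h.le))
    have hfin : Finite X := by
      have := TopologicalSpace.NoetherianSpace.finite_irreducibleComponents (α := X)
      refine Set.finite_univ_iff.1 ((this.biUnion (t := fun Z => {x | IsGenericPoint x Z})
        fun Z _ => Set.Subsingleton.finite fun a ha b hb => ha.eq hb).subset fun x _ => ?_)
      obtain ⟨Z, hZ, ξ, hξ, -, hξx⟩ := Groth.Variety2.Dim.exists_component_generic x
      obtain rfl : x = ξ := by
        have := (h1 ξ).closure_eq ▸ specializes_iff_mem_closure.1 hξx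
        exact this
      exact Set.mem_biUnion hZ hξ
    infer_instance
  tfae_have 2 → 4 := fun h => by
    obtain ⟨haff, hfin, -⟩ := h
    have : IsFinite f := by
      rw [HasAffineProperty.iff_of_isAffine (P := @IsFinite)]
      exact ⟨haff, hfin⟩
    refine Set.finite_univ_iff.1 ((f.finite_preimage_singleton (IsLocalRing.closedPoint k)).subset ?_)
    exact fun x _ => Subsingleton.elim (α := PrimeSpectrum k) _ _
  tfae_have 3 → 2 := fun _ => by
    have : T2Space X := DiscreteTopology.toT2Space
    have hqs := Groth.PropsBasic.ZD.quasiSeparatedSpace_of_t2 (X := X)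
    have haff : IsAffine X := by
      have := Groth.PropsBasic.ZD.isAffineOpen_of_isCompact (X := X) (fun x y h => h.eq)
        (W := ⊤) (by simpa using isCompact_univ (X := X))
      have : IsAffine (⊤ : X.Opens).toScheme := this
      exact IsAffine.of_isIso X.topIso.inv
    refine ⟨haff, ?_, ?_⟩
    · have hft : f.appTop.hom.FiniteType := HasRingHomProperty.appTop (P := @LocallyOfFiniteType) f inferInstance
      have hloc : IsLocallyArtinian X := IsLocallyArtinian.of_isLocallyNoetherian_of_discreteTopology
      have := IsLocallyArtinian.isArtinianRing_of_isAffine (X := X)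
      let e := (Scheme.ΓSpecIso (CommRingCat.of k))
      let φ : k →+* Γ(X, ⊤) := f.appTop.hom.comp e.inv.hom
      let := φ.toAlgebra
      have : Algebra.FiniteType k Γ(X, ⊤) :=
        hft.comp (RingHom.FiniteType.of_surjective _ e.commRingCatIsoToRingEquiv.symm.surjective)
      have h : φ.Finite := (Module.finite_iff_isArtinianRing k Γ(X, ⊤)).2 inferInstance
      exact RingHom.Finite.of_comp_finite (f := e.inv.hom) h
    · let U : X → X.Opens := fun x => ⟨{x}, isOpen_discrete _⟩
      have hsmall : ∀ (x : X) (V : X.Opens), x ∈ V → U x ≤ V := fun x V hV y hy => by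
        rwa [show y = x from hy]
      constructor
      · intro s t hst
        exact TopCat.Presheaf.section_ext X.sheaf ⊤ s t fun x hx => congrFun hst x
      · intro σ
        choose V hV τ hτ using fun x : X => X.presheaf.exists_germ_eq (σ x)
        let sf : ∀ x : X, Γ(X, U x) := fun x => X.presheaf.map (homOfLE (hsmall x (V x) (hV x))).op (τ x)
        obtain ⟨s, hs, -⟩ := X.sheaf.existsUnique_gluing' U ⊤ (fun x => homOfLE le_top)
          (fun x _ => TopologicalSpace.Opens.mem_iSup.2 ⟨x, rfl⟩) sf (fun a b => by
            refine TopCat.Presheaf.section_ext X.sheaf _ _ _ fun z hz => ?_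
            obtain ⟨ha, hb⟩ := hz
            obtain rfl : z = a := ha
            obtain rfl : z = b := hb
            rfl)
        refine ⟨s, funext fun x => ?_⟩
        change X.presheaf.germ ⊤ x trivial s = σ x
        rw [← X.presheaf.germ_res_apply (homOfLE (le_top : U x ≤ ⊤)) x rfl s]
        refine (congrArg (X.presheaf.germ (U x) x rfl) (hs x)).trans ?_
        refine Eq.trans ?_ (hτ x)
        exact X.presheaf.germ_res_apply (homOfLE (hsmall x (V x) (hV x))) x rfl (τ x)
  tfae_finish

end Groth.Agent.S10832
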