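import Groth.Statements.S10835
import Mathlib.FieldTheory.PrimitiveElement
import Mathlib.FieldTheory.Minpoly.IsIntegrallyClosed
import Mathlib.RingTheory.AlgebraicIndependent.Adjoin
import Mathlib.RingTheory.Localization.Integral
import Mathlib.RingTheory.Polynomial.UniqueFactorization
import Mathlib.RingTheory.Polynomial.RationalRoot

set_option autoImplicit false
universe u
open CategoryTheory AlgebraicGeometry
attribute [local instance] Curv2.stalkAlgebra
open Variety

namespace Groth.Agent.S10835

section algebra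

open Polynomial

/-- The image of a localization at one element inside a field. -/
theorem range_awayLift {k A K : Type u} [CommRing k] [CommRing A] [Algebra k A] [Field K] [Algebra k K]
    (ι : A →ₐ[k] K) (a : A) (ha : ι a ≠ 0) (φ : Localization.Away a →ₐ[k] K)
    (hφ : ∀ x, φ (algebraMap A (Localization.Away a) x) = ι x) :
    φ.range = Algebra.adjoin k (Set.range ι ∪ {(ι a)⁻¹}) := by
  refine le_antisymm ?_ (Algebra.adjoin_le ?_)
  · rintro _ ⟨z, rfl⟩
    obtain ⟨n, w, h⟩ := IsLocalization.Away.surj a z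
    have h' := congrArg φ h
    rw [map_mul, map_pow, hφ, hφ] at h'
    show φ z ∈ _
    rw [show φ z = ι w * (ι a)⁻¹ ^ n by rw [← h', inv_pow]; field_simp]
    exact mul_mem (Algebra.subset_adjoin (Set.mem_union_left _ ⟨w, rfl⟩))
      (pow_mem (Algebra.subset_adjoin (Set.mem_union_right _ (Set.mem_singleton _))) n)
  · rintro x (⟨y, rfl⟩ | rfl)
    · exact ⟨algebraMap A _ y, hφ y⟩
    · refine ⟨IsLocalization.Away.invSelf a, eq_inv_of_mul_eq_one_right ?_⟩
      show ι a * φ (IsLocalization.Away.invSelf a) = 1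
      rw [← hφ a, ← map_mul]
      exact (congrArg φ (IsLocalization.Away.mul_invSelf a)).trans (map_one φ)

/-- Two finitely generated algebras with the same fraction field have isomorphic localizations. -/
theorem exists_away_algEquiv {k A B K : Type u} [CommRing k] [CommRing A] [IsDomain A] [Algebra k A]
    [Algebra.FiniteType k A] [CommRing B] [IsDomain B] [Algebra k B] [Algebra.FiniteType k B] [Field K]
    [Algebra k K] (ιA : A →ₐ[k] K) (hA : Function.Injective ιA) (ιB : B →ₐ[k] K)
    (hB : Function.Injective ιB) (hAK : ∀ x : K, ∃ p q : A, q ≠ 0 ∧ x = ιA p / ιA q)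
    (hBK : ∀ x : K, ∃ p q : B, q ≠ 0 ∧ x = ιB p / ιB q) :
    ∃ (a : A) (b : B), a ≠ 0 ∧ b ≠ 0 ∧ Nonempty (Localization.Away a ≃ₐ[k] Localization.Away b) := by
  classical
  -- finitely many elements have a common denominator
  have key : ∀ {C : Type u} [CommRing C] [IsDomain C] [Algebra k C] (ι : C →ₐ[k] K),
      Function.Injective ι → (∀ x : K, ∃ p q : C, q ≠ 0 ∧ x = ι p / ι q) → ∀ s : Finset K,
      ∃ c : C, c ≠ 0 ∧ (s : Set K) ⊆ Algebra.adjoin k (Set.range ι ∪ {(ι c)⁻¹}) := by
    intro C _ _ _ ι hι hCK s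
    choose num den hden hx using hCK
    refine ⟨∏ x ∈ s, den x, Finset.prod_ne_zero_iff.2 fun x _ => hden x, fun x hxs => ?_⟩
    have e : x = ι (num x * ∏ y ∈ s.erase x, den y) * (ι (∏ y ∈ s, den y))⁻¹ := by
      conv_lhs => rw [hx x]
      rw [← Finset.mul_prod_erase s den (Finset.mem_coe.1 hxs), map_mul, map_mul,
        div_eq_mul_inv, mul_inv_rev]
      have h0 : ι (∏ y ∈ s.erase x, den y) ≠ 0 :=
        (map_ne_zero_iff ι hι).2 (Finset.prod_ne_zero_iff.2 fun y _ => hden y)
      field_simp
    rw [e]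
    exact mul_mem (Algebra.subset_adjoin (Or.inl ⟨_, rfl⟩)) (Algebra.subset_adjoin (Or.inr rfl))
  obtain ⟨sA, hsA⟩ := Algebra.FiniteType.out (R := k) (A := A)
  obtain ⟨sB, hsB⟩ := Algebra.FiniteType.out (R := k) (A := B)
  have hrange : ∀ {C : Type u} [CommRing C] [Algebra k C] (ι : C →ₐ[k] K) (s : Finset C),
      Algebra.adjoin k (s : Set C) = ⊤ → ∀ T : Subalgebra k K, (∀ x ∈ s, ι x ∈ T) →
      Set.range ι ⊆ T := by
    intro C _ _ ι s hs T hT
    rintro _ ⟨x, rfl⟩
    have : Algebra.adjoin k (s : Set C) ≤ T.comap ι := Algebra.adjoin_le fun y hy => hT y hy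
    exact this (hs ▸ Algebra.mem_top)
  obtain ⟨h, hh, hsub⟩ := key ιB hB hBK (sA.image ιA)
  obtain ⟨a, ha, hsub'⟩ := key ιA hA hAK (insert (ιB h)⁻¹ (sB.image ιB))
  have hA' : Set.range ιA ⊆ Algebra.adjoin k (Set.range ιB ∪ {(ιB h)⁻¹}) :=
    hrange ιA sA hsA _ fun x hx => hsub (Finset.mem_image_of_mem _ hx)
  -- the element `a` over `B`
  have hmem := hA' ⟨a, rfl⟩
  have hnum : ∀ z ∈ Algebra.adjoin k (Set.range ιB ∪ {(ιB h)⁻¹}), ∃ (c : B) (N : ℕ),
      z * ιB h ^ N = ιB c := by
    have h0 : ιB h ≠ 0 := (map_ne_zero_iff ιB hB).2 hh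
    intro z hz
    induction hz using Algebra.adjoin_induction with
    | mem z hz =>
      obtain ⟨c, rfl⟩ | rfl := hz
      · exact ⟨c, 0, by simp⟩
      · exact ⟨1, 1, by simp [h0]⟩
    | algebraMap r => exact ⟨algebraMap k B r, 0, by simp⟩
    | add x y _ _ hx hy =>
      obtain ⟨c, N, e⟩ := hx
      obtain ⟨c', N', e'⟩ := hy
      exact ⟨c * h ^ N' + c' * h ^ N, N + N', by
        rw [map_add, map_mul, map_mul, map_pow, map_pow, ← e, ← e', pow_add]; ring⟩
    | mul x y _ _ hx hy =>
      obtain ⟨c, N, e⟩ := hx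
      obtain ⟨c', N', e'⟩ := hy
      exact ⟨c * c', N + N', by rw [map_mul, ← e, ← e', pow_add]; ring⟩
  obtain ⟨c, N, hc⟩ := hnum _ hmem
  have h0 : ιB h ≠ 0 := (map_ne_zero_iff ιB hB).2 hh
  have ha0 : ιA a ≠ 0 := (map_ne_zero_iff ιA hA).2 ha
  have hc0 : ιB c ≠ 0 := hc ▸ mul_ne_zero ha0 (pow_ne_zero N h0)
  have hb : ιB (h * c) ≠ 0 := by rw [map_mul]; exact mul_ne_zero h0 hc0
  refine ⟨a, h * c, ha, fun e => hb (by rw [e, map_zero]), ?_⟩
  have heq : Algebra.adjoin k (Set.range ιA ∪ {(ιA a)⁻¹}) =
      Algebra.adjoin k (Set.range ιB ∪ {(ιB (h * c))⁻¹}) := by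
    refine le_antisymm (Algebra.adjoin_le ?_) (Algebra.adjoin_le ?_)
    · have hle : Algebra.adjoin k (Set.range ιB ∪ {(ιB h)⁻¹}) ≤
          Algebra.adjoin k (Set.range ιB ∪ {(ιB (h * c))⁻¹}) := by
        refine Algebra.adjoin_le (Set.union_subset
          (fun x hx => Algebra.subset_adjoin (Or.inl hx)) (Set.singleton_subset_iff.2 ?_))
        rw [show (ιB h)⁻¹ = ιB c * (ιB (h * c))⁻¹ by rw [map_mul]; field_simp]
        exact mul_mem (Algebra.subset_adjoin (Or.inl ⟨_, rfl⟩)) (Algebra.subset_adjoin (Or.inr rfl))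
      refine Set.union_subset (fun x hx => hle (hA' hx)) (Set.singleton_subset_iff.2 ?_)
      rw [show (ιA a)⁻¹ = ιB (h ^ (N + 1)) * (ιB (h * c))⁻¹ by
        rw [map_mul, map_pow, ← hc]; field_simp; ring]
      exact mul_mem (Algebra.subset_adjoin (Or.inl ⟨_, rfl⟩)) (Algebra.subset_adjoin (Or.inr rfl))
    · refine Set.union_subset (hrange ιB sB hsB _ fun x hx =>
        hsub' (Finset.mem_insert_of_mem (Finset.mem_image_of_mem _ hx))) (Set.singleton_subset_iff.2 ?_)
      rw [show (ιB (h * c))⁻¹ = (ιA a)⁻¹ * ((ιB h)⁻¹) ^ (N + 1) by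
        rw [map_mul, ← hc, inv_pow, mul_inv_rev, mul_inv_rev, pow_succ, mul_inv_rev]; ring]
      exact mul_mem (Algebra.subset_adjoin (Or.inr rfl))
        (pow_mem (hsub' (Finset.mem_insert_self _ _)) _)
  have hinj : ∀ {C : Type u} [CommRing C] [Algebra k C] (ι : C →ₐ[k] K), Function.Injective ι →
      ∀ (x : C) (hx : ∀ y : Submonoid.powers x, IsUnit (ι y)),
      Function.Injective (IsLocalization.liftAlgHom (S := Localization.Away x) hx) := by
    intro C _ _ ι hι x hx
    rw [IsLocalization.coe_liftAlgHom, IsLocalization.lift_injective_iff]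
    exact fun p q => ⟨fun e => congrArg ι (by
      obtain ⟨m, hm⟩ := (IsLocalization.eq_iff_exists (Submonoid.powers x) _).1 e
      exact hι (mul_left_cancel₀ (hx m).ne_zero (by rw [← map_mul, ← map_mul, hm]))),
      fun e => congrArg _ (hι e)⟩
  have huA : ∀ y : Submonoid.powers a, IsUnit (ιA y) := fun y => by
    obtain ⟨m, hm⟩ := y.2
    exact isUnit_iff_ne_zero.2 (by rw [← hm, map_pow]; exact pow_ne_zero m ha0)
  have huB : ∀ y : Submonoid.powers (h * c), IsUnit (ιB y) := fun y => by
    obtain ⟨m, hm⟩ := y.2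
    exact isUnit_iff_ne_zero.2 (by rw [← hm, map_pow]; exact pow_ne_zero m hb)
  exact ⟨(AlgEquiv.ofInjective _ (hinj ιA hA a huA)).trans
    ((Subalgebra.equivOfEq _ _ ((range_awayLift ιA a ha0 _ fun x =>
        IsLocalization.lift_eq _ x).trans
      (heq.trans (range_awayLift ιB (h * c) hb _ fun x => IsLocalization.lift_eq _ x).symm))).trans
    (AlgEquiv.ofInjective _ (hinj ιB hB (h * c) huB)).symm)⟩

/-- A separably generated finitely generated field is the function field of a monic separable
hypersurface over a polynomial ring. -/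
theorem exists_hypersurface {k K : Type u} [Field k] [Field K] [Algebra k K] {d : ℕ} (s : Fin d → K)
    (hs : IsTranscendenceBasis k s)
    (hsep : Algebra.IsSeparable ↥(IntermediateField.adjoin k (Set.range s)) K)
    (t : Finset K) (ht : IntermediateField.adjoin k (t : Set K) = ⊤) :
    ∃ g : Polynomial (MvPolynomial (Fin d) k), g.Monic ∧
      Irreducible (g.map (algebraMap (MvPolynomial (Fin d) k) (FractionRing (MvPolynomial (Fin d) k)))) ∧
      (g.map (algebraMap (MvPolynomial (Fin d) k) (FractionRing (MvPolynomial (Fin d) k)))).Separable ∧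
      ∃ ι : AdjoinRoot g →ₐ[k] K, Function.Injective ι ∧
        ∀ x : K, ∃ p q : AdjoinRoot g, q ≠ 0 ∧ x = ι p / ι q := by
  let P := MvPolynomial (Fin d) k
  let F₀ := FractionRing P
  let e₀ := hs.1.aevalEquivField
  let φ : F₀ →ₐ[k] K := (IntermediateField.adjoin k (Set.range s)).val.comp e₀.toAlgHom
  let _ : Algebra F₀ K := φ.toRingHom.toAlgebra
  let _ : Algebra P K := (MvPolynomial.aeval s).toRingHom.toAlgebra
  have hPF : ∀ p : P, φ (algebraMap P F₀ p) = MvPolynomial.aeval s p := fun p => by
    show ((hs.1.aevalEquivField (algebraMap P F₀ p) : _) : K) = _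
    exact hs.1.aevalEquivField_algebraMap_apply_coe p
  have : IsScalarTower P F₀ K := IsScalarTower.of_algebraMap_eq fun p => (hPF p).symm
  have : IsScalarTower k F₀ K := IsScalarTower.of_algebraMap_eq fun c => (φ.commutes c).symm
  have : IsScalarTower k P K := IsScalarTower.of_algebraMap_eq fun c =>
    ((MvPolynomial.aeval s).commutes c).symm
  have : Algebra.IsSeparable F₀ K :=
    Algebra.IsSeparable.of_equiv_equiv e₀.symm.toRingEquiv (RingEquiv.refl K) (by
      ext x
      exact congrArg Subtype.val (e₀.apply_symm_apply x))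
  have hfd : FiniteDimensional F₀ K := by
    have h1 := IntermediateField.finiteDimensional_adjoin (K := F₀) (S := (t : Set K))
      (fun x _ => (Algebra.IsSeparable.isSeparable F₀ x).isIntegral)
    have h2 : IntermediateField.adjoin F₀ (t : Set K) = ⊤ := by
      refine top_le_iff.1 fun x _ => ?_
      have : IntermediateField.adjoin k (t : Set K) ≤
          (IntermediateField.adjoin F₀ (t : Set K)).restrictScalars k :=
        IntermediateField.adjoin_le_iff.2 (IntermediateField.subset_adjoin F₀ _)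
      exact this (ht ▸ IntermediateField.mem_top)
    rw [h2] at h1
    exact IntermediateField.topEquiv.toLinearEquiv.finiteDimensional
  obtain ⟨θ₀, hθ₀⟩ := Field.exists_primitive_element F₀ K
  obtain ⟨m, hm⟩ := IsIntegral.exists_multiple_integral_of_isLocalization (nonZeroDivisors P)
    (Rₘ := F₀) θ₀ (Algebra.IsIntegral.isIntegral θ₀)
  let θ : K := m • θ₀
  have hθ : IntermediateField.adjoin F₀ {θ} = ⊤ := by
    rw [← top_le_iff, ← hθ₀, IntermediateField.adjoin_simple_le_iff]
    have hm0 : algebraMap P K (m : P) ≠ 0 := by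
      rw [IsScalarTower.algebraMap_apply P F₀ K]
      exact (_root_.map_ne_zero _).2 (IsFractionRing.to_map_ne_zero_of_mem_nonZeroDivisors m.2)
    have e : θ₀ = algebraMap F₀ K (algebraMap P F₀ (m : P))⁻¹ * θ := by
      rw [map_inv₀, ← IsScalarTower.algebraMap_apply]
      show θ₀ = (algebraMap P K (m : P))⁻¹ * ((m : P) • θ₀)
      rw [Algebra.smul_def, inv_mul_cancel_left₀ hm0]
    rw [e]
    exact mul_mem (IntermediateField.algebraMap_mem _ _) (IntermediateField.mem_adjoin_simple_self _ _)
  have hint : IsIntegral P θ := hm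
  have hmap := minpoly.isIntegrallyClosed_eq_field_fractions' (R := P) (K := F₀) hint
  let g := minpoly P θ
  have hinjPK : Function.Injective (algebraMap P K) := fun x y h => hs.1 h
  have : Module.IsTorsionFree P K := Module.isTorsionFree_iff_algebraMap_injective.2 hinjPK
  let ι : AdjoinRoot g →ₐ[k] K := AdjoinRoot.liftAlgHom g (MvPolynomial.aeval s) θ (minpoly.aeval P θ)
  have hιmk : ∀ q : Polynomial P, ι (AdjoinRoot.mk g q) = Polynomial.aeval θ q := fun q => by
    simp [ι, Polynomial.aeval_def]
    rfl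
  refine ⟨g, minpoly.monic hint, hmap ▸ minpoly.irreducible (Algebra.IsIntegral.isIntegral θ),
    hmap ▸ Algebra.IsSeparable.isSeparable F₀ θ, ι, ?_, fun x => ?_⟩
  · rw [injective_iff_map_eq_zero]
    intro z hz
    obtain ⟨q, rfl⟩ := AdjoinRoot.mk_surjective z
    rw [hιmk] at hz
    exact AdjoinRoot.mk_eq_zero.2 (minpoly.isIntegrallyClosed_dvd hint hz)
  · have : IsDomain (AdjoinRoot g) := by
      refine Function.Injective.isDomain (f := ι.toRingHom) ?_
      rw [injective_iff_map_eq_zero]
      intro z hz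
      obtain ⟨q, rfl⟩ := AdjoinRoot.mk_surjective z
      exact AdjoinRoot.mk_eq_zero.2 (minpoly.isIntegrallyClosed_dvd hint ((hιmk q).symm.trans hz))
    have hinj : Function.Injective ι := by
      rw [injective_iff_map_eq_zero]
      intro z hz
      obtain ⟨q, rfl⟩ := AdjoinRoot.mk_surjective z
      exact AdjoinRoot.mk_eq_zero.2 (minpoly.isIntegrallyClosed_dvd hint ((hιmk q).symm.trans hz))
    let σ : FractionRing (AdjoinRoot g) →+* K := IsFractionRing.lift (g := ι.toRingHom) hinj
    have hP : ∀ p : P, algebraMap P K p ∈ σ.fieldRange := fun p =>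
      ⟨algebraMap _ _ (AdjoinRoot.of g p), (IsFractionRing.lift_algebraMap hinj _).trans (by
        show ι (AdjoinRoot.mk g (Polynomial.C p)) = _
        rw [hιmk, Polynomial.aeval_C])⟩
    have hF : ∀ y : F₀, algebraMap F₀ K y ∈ σ.fieldRange := fun y => by
      obtain ⟨a, b, -, rfl⟩ := IsFractionRing.div_surjective (A := P) y
      rw [map_div₀, ← IsScalarTower.algebraMap_apply, ← IsScalarTower.algebraMap_apply]
      exact div_mem (hP a) (hP b)
    have hle : IntermediateField.adjoin F₀ {θ} ≤ σ.fieldRange.toIntermediateField hF := by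
      rw [IntermediateField.adjoin_simple_le_iff]
      exact ⟨algebraMap _ _ (AdjoinRoot.mk g Polynomial.X),
        (IsFractionRing.lift_algebraMap hinj _).trans ((hιmk _).trans (Polynomial.aeval_X θ))⟩
    obtain ⟨z, hz⟩ : x ∈ σ.fieldRange := hle (hθ ▸ IntermediateField.mem_top)
    obtain ⟨p, q, hq, rfl⟩ := IsFractionRing.div_surjective (A := AdjoinRoot g) z
    refine ⟨p, q, nonZeroDivisors.ne_zero hq, ?_⟩
    rw [← hz, map_div₀, IsFractionRing.lift_algebraMap, IsFractionRing.lift_algebraMap]
    rfl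

end algebra


/-- Let k be a field and X an integral scheme of finite type over k whose function field admits a
transcendence basis s_1, …, s_d over k over which it is separable algebraic (this holds whenever the
function field is a separable extension of k in the sense of field theory, e.g. for k perfect, and
then d = dim X). Then some nonempty open subscheme of X is isomorphic, over k, to a nonempty open
subscheme of Spec k[T_1, …, T_d][T]/(g) for a monic polynomial g over k[T_1, …, T_d] which is
irreducible and separable over the fraction field k(T_1, …, T_d). -/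
theorem result (k : Type u) [Field k]
    (X : Scheme.{u}) [X.Over (Spec (CommRingCat.of k))] [IsIntegral X]
    [LocallyOfFiniteType (X ↘ Spec (CommRingCat.of k))] [QuasiCompact (X ↘ Spec (CommRingCat.of k))]
    (d : ℕ) (s : Fin d → X.presheaf.stalk (genericPoint X)) (hs : IsTranscendenceBasis k s)
    (hsep : Algebra.IsSeparable ↥(IntermediateField.adjoin k (Set.range s)) (X.presheaf.stalk (genericPoint X))) :
    ∃ (g : Polynomial (MvPolynomial (Fin d) k)), g.Monic ∧
      Irreducible (g.map (algebraMap (MvPolynomial (Fin d) k) (FractionRing (MvPolynomial (Fin d) k)))) ∧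
      (g.map (algebraMap (MvPolynomial (Fin d) k) (FractionRing (MvPolynomial (Fin d) k)))).Separable ∧
      ∃ (U : X.Opens) (V : (Spec (CommRingCat.of (AdjoinRoot g))).Opens) (e : (U : Scheme.{u}) ≅ (V : Scheme.{u})),
        (U : Set X).Nonempty ∧ (V : Set (Spec (CommRingCat.of (AdjoinRoot g)))).Nonempty ∧
        e.hom ≫ V.ι ≫ Spec.map (CommRingCat.ofHom (algebraMap k (AdjoinRoot g))) =
          U.ι ≫ (X ↘ Spec (CommRingCat.of k)) := by
  obtain ⟨U, hU, hηU, -⟩ := exists_isAffineOpen_mem_and_subset (X := X) (x := genericPoint X)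
    (U := ⊤) trivial
  have : Nonempty U := ⟨⟨_, hηU⟩⟩
  let sX := X ↘ Spec (CommRingCat.of k)
  let c : k →+* Γ(X, U) := (X.presheaf.map (homOfLE (le_top : U ≤ ⊤)).op).hom.comp (Coh.toGlobal sX)
  let _ : Algebra k Γ(X, U) := c.toAlgebra
  have hFT : Algebra.FiniteType k Γ(X, U) := by
    have h := sX.finiteType_appLE (isAffineOpen_top _) hU (le_top : U ≤ sX ⁻¹ᵁ ⊤)
    have h' := h.comp (RingHom.FiniteType.of_surjective
      ((Scheme.ΓSpecIso (CommRingCat.of k)).inv.hom)
      (Scheme.ΓSpecIso (CommRingCat.of k)).symm.commRingCatIsoToRingEquiv.surjective)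
    have e : c = (sX.appLE ⊤ U le_top).hom.comp (Scheme.ΓSpecIso (CommRingCat.of k)).inv.hom := by
      ext x
      rfl
    show RingHom.FiniteType c
    rw [e]
    exact h'
  have := functionField_isFractionRing_of_isAffineOpen X U hU
  have : IsScalarTower k Γ(X, U) (X.presheaf.stalk (genericPoint X)) :=
    IsScalarTower.of_algebraMap_eq fun x =>
      (X.presheaf.germ_res_apply (homOfLE (le_top : U ≤ ⊤)) _ hηU _).symm
  let ιA := IsScalarTower.toAlgHom k Γ(X, U) (X.presheaf.stalk (genericPoint X))
  have hAK : ∀ x : X.presheaf.stalk (genericPoint X), ∃ p q, q ≠ 0 ∧ x = ιA p / ιA q := fun x => by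
    obtain ⟨p, q, hq, rfl⟩ := IsFractionRing.div_surjective (A := Γ(X, U)) (K := X.functionField) x
    exact ⟨p, q, nonZeroDivisors.ne_zero hq, rfl⟩
  classical
  obtain ⟨gens, hgens⟩ := hFT.out
  have ht : IntermediateField.adjoin k
      ((gens.image ιA : Finset _) : Set (X.presheaf.stalk (genericPoint X))) = ⊤ := by
    refine top_le_iff.1 fun x _ => ?_
    have h : ∀ p, ιA p ∈ IntermediateField.adjoin k
        ((gens.image ιA : Finset _) : Set (X.presheaf.stalk (genericPoint X))) := fun p => by
      have : Algebra.adjoin k (gens : Set Γ(X, U)) ≤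
          (IntermediateField.adjoin k
            ((gens.image ιA : Finset _) : Set (X.presheaf.stalk (genericPoint X)))).toSubalgebra.comap ιA :=
        Algebra.adjoin_le fun y hy => IntermediateField.subset_adjoin k _ (Finset.mem_image_of_mem _ hy)
      exact this (hgens ▸ Algebra.mem_top)
    obtain ⟨p, q, -, rfl⟩ := hAK x
    exact div_mem (h p) (h q)
  obtain ⟨g, hg, hgi, hgs, ιB, hιB, hBK⟩ := exists_hypersurface s hs hsep _ ht
  have : IsDomain (AdjoinRoot g) := Function.Injective.isDomain (f := ιB.toRingHom) hιB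
  have : Algebra.FiniteType k (AdjoinRoot g) :=
    Algebra.FiniteType.of_surjective (Ideal.Quotient.mkₐ k (Ideal.span {g}))
      Ideal.Quotient.mk_surjective
  obtain ⟨a, b, ha, hb, ⟨e⟩⟩ := exists_away_algEquiv ιA (IsFractionRing.injective _ _) ιB hιB hAK hBK
  let fA : Spec (CommRingCat.of (Localization.Away a)) ⟶ X :=
    Spec.map (CommRingCat.ofHom (algebraMap Γ(X, U) (Localization.Away a))) ≫ hU.fromSpec
  let fB : Spec (CommRingCat.of (Localization.Away b)) ⟶ Spec (CommRingCat.of (AdjoinRoot g)) :=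
    Spec.map (CommRingCat.ofHom (algebraMap (AdjoinRoot g) (Localization.Away b)))
  have : IsOpenImmersion (Spec.map (CommRingCat.ofHom (algebraMap Γ(X, U) (Localization.Away a)))) :=
    IsOpenImmersion.of_isLocalization a
  have : IsOpenImmersion fB := IsOpenImmersion.of_isLocalization b
  have : Nontrivial (Localization.Away a) := (IsLocalization.injective (Localization.Away a)
    (powers_le_nonZeroDivisors_of_noZeroDivisors ha)).nontrivial
  let eS : Spec (CommRingCat.of (Localization.Away a)) ≅ Spec (CommRingCat.of (Localization.Away b)) :=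
    Scheme.Spec.mapIso e.symm.toRingEquiv.toCommRingCatIso.op
  refine ⟨g, hg, hgi, hgs, fA.opensRange, fB.opensRange,
    fA.isoOpensRange.symm ≪≫ eS ≪≫ fB.isoOpensRange, ?_, ?_, ?_⟩
  · exact Set.range_nonempty fA
  · have : Nontrivial (Localization.Away b) := e.symm.toEquiv.nontrivial
    exact Set.range_nonempty fB
  · have hX : hU.fromSpec ≫ sX = Spec.map (CommRingCat.ofHom c) := by
      have h1 := (isAffineOpen_top (Spec (CommRingCat.of k))).SpecMap_appLE_fromSpec sX hU
        (le_top : U ≤ sX ⁻¹ᵁ ⊤)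
      rw [← h1, IsAffineOpen.fromSpec_top, Scheme.isoSpec_Spec_inv, ← Spec.map_comp]
      rfl
    have hfA : fA ≫ sX = Spec.map (CommRingCat.ofHom (algebraMap k (Localization.Away a))) := by
      rw [Category.assoc, hX, ← Spec.map_comp]
      rfl
    have hfB : fB ≫ Spec.map (CommRingCat.ofHom (algebraMap k (AdjoinRoot g))) =
        Spec.map (CommRingCat.ofHom (algebraMap k (Localization.Away b))) := by
      rw [← Spec.map_comp]
      exact congrArg (fun φ => Spec.map (CommRingCat.ofHom φ))
        (IsScalarTower.algebraMap_eq k (AdjoinRoot g) (Localization.Away b)).symm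
    have heS : eS.hom ≫ Spec.map (CommRingCat.ofHom (algebraMap k (Localization.Away b))) =
        Spec.map (CommRingCat.ofHom (algebraMap k (Localization.Away a))) := by
      show Spec.map _ ≫ _ = _
      rw [← Spec.map_comp]
      exact congrArg (fun φ => Spec.map (CommRingCat.ofHom φ)) (e.symm.toAlgHom.comp_algebraMap)
    rw [← cancel_epi fA.isoOpensRange.hom]
    simp only [Iso.trans_hom, Iso.symm_hom, Category.assoc, Iso.hom_inv_id_assoc,
      Scheme.Hom.isoOpensRange_hom_ι_assoc]
    rw [hfB, heS, hfA]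

end Groth.Agent.S10835
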