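import Groth.Statements.S10836
import Mathlib

set_option autoImplicit false
universe u
open Coh

namespace Groth.Agent.S10836

/-- Let A be a commutative ring, M a finitely generated projective A-module whose rank at every prime is
r, and Z a finite set of prime ideals of A. Then there is an element s of A outside every prime of Z
such that the localized module M_s has a basis of r elements over A_s. (The published statement is
for a finite locally free module of constant rank r on a scheme and a finite set of points inside an
affine open Spec A, and produces a basic open D(s) containing the points on which the module is free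
of rank r; its argument begins by replacing the scheme with Spec A, and this row states that case.) -/
theorem result (A : Type u) [CommRing A]
    (M : Type u) [AddCommGroup M] [Module A M] [Module.Finite A M] [Module.Projective A M] (r : ℕ)
    (hr : ∀ p : PrimeSpectrum A, Module.rankAtStalk M p = r)
    (Z : Set (PrimeSpectrum A)) (hZ : Z.Finite) :
    ∃ s : A, (∀ p ∈ Z, s ∉ p.asIdeal) ∧
      Nonempty (Module.Basis (Fin r) (Localization.Away s) (LocalizedModule (Submonoid.powers s) M)) := by
  classical
  let S : Submonoid A := ⨅ p : Z, p.1.asIdeal.primeCompl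
  have hmemS : ∀ {s : A}, s ∈ S ↔ ∀ p ∈ Z, s ∉ p.asIdeal := fun {s} => by
    simp [S, Submonoid.mem_iInf, Ideal.primeCompl]
  let A' := Localization S
  have hmax : ∀ P : MaximalSpectrum A', ∃ p ∈ Z, P.asIdeal.comap (algebraMap A A') ≤ p.asIdeal := by
    intro P
    have hP : (P.asIdeal.comap (algebraMap A A')).IsPrime := Ideal.IsPrime.comap _
    let q : PrimeSpectrum A := ⟨_, hP⟩
    have hsub : (q.asIdeal : Set A) ⊆ ⋃ i ∈ (hZ.toFinset : Set (PrimeSpectrum A)), (i.asIdeal : Set A) := by
      intro x hx
      by_contra hx'
      refine P.isMaximal.ne_top (Ideal.eq_top_of_isUnit_mem _ hx (IsLocalization.map_units A' (⟨x, hmemS.2 fun p hp hxp => hx' ?_⟩ : S)))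
      exact Set.mem_biUnion (hZ.mem_toFinset.2 hp) hxp
    obtain ⟨p, hp, hle⟩ := (Ideal.subset_union_prime q q (fun i _ _ _ => i.isPrime)).1 hsub
    exact ⟨p, hZ.mem_toFinset.1 hp, hle⟩
  choose σ hσZ hσ using hmax
  have : Finite (MaximalSpectrum A') := by
    have : Finite Z := hZ
    refine Finite.of_injective (fun P => (⟨σ P, hσZ P⟩ : Z)) fun P Q e => MaximalSpectrum.ext ?_
    have e' : σ P = σ Q := congrArg Subtype.val e
    have hd : Disjoint (S : Set A) ((σ P).asIdeal : Set A) :=
      Set.disjoint_left.2 fun x hx => hmemS.1 hx _ (hσZ P)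
    have hpr := IsLocalization.isPrime_of_isPrime_disjoint S A' _ (σ P).isPrime hd
    have h1 : P.asIdeal ≤ (σ P).asIdeal.map (algebraMap A A') := by
      rw [← IsLocalization.map_comap S A' P.asIdeal]; exact Ideal.map_mono (hσ P)
    have h2 : Q.asIdeal ≤ (σ P).asIdeal.map (algebraMap A A') := by
      rw [← IsLocalization.map_comap S A' Q.asIdeal, e']; exact Ideal.map_mono (hσ Q)
    exact (P.isMaximal.eq_of_le hpr.ne_top h1).trans (Q.isMaximal.eq_of_le hpr.ne_top h2).symm
  have hbc := LocalizedModule.isBaseChange S M
  let M' := LocalizedModule S M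
  have : Module.Finite A' M' := Module.Finite.of_isLocalizedModule S (LocalizedModule.mkLinearMap S M)
  have : Module.Flat A' M' := Module.Flat.isBaseChange A A' M M' hbc
  obtain ⟨b⟩ := Module.nonempty_basis_of_flat_of_finrank_eq A' M' r fun P => by
    let := Ideal.Quotient.field P.asIdeal
    let q : PrimeSpectrum (A' ⧸ P.asIdeal) := ⟨⊥, Ideal.isPrime_bot⟩
    have := Module.rankAtStalk_baseChange (R := A') (M := M') (S := A' ⧸ P.asIdeal) q
    rw [Module.rankAtStalk_eq_finrank_of_free] at this
    rw [show Module.finrank (A' ⧸ P.asIdeal) (TensorProduct A' (A' ⧸ P.asIdeal) M') = _ from this,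
      Module.rankAtStalk_isBaseChange hbc]
    exact hr _
  have : Module.FinitePresentation A M := Module.finitePresentation_of_projective A M
  obtain ⟨s, hs, b', -⟩ := Module.FinitePresentation.exists_basis_localizedModule_powers S
    (LocalizedModule.mkLinearMap S M) A' b
  exact ⟨s, hmemS.1 hs, ⟨b'⟩⟩

end Groth.Agent.S10836
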