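import Groth.Statements.S10838
import Groth.Agent.PropsBasic2.SchTop
import Mathlib.AlgebraicGeometry.Fiber
import Mathlib.Topology.KrullDimension

set_option autoImplicit false
universe u
open CategoryTheory AlgebraicGeometry Topology
open Mor

namespace Groth.Agent.S10838

/-- For a morphism of schemes f : X → Y which is open as a map of topological spaces, the Krull
dimension of the image f(X) (with the subspace topology from Y) is at most the Krull dimension of X. -/
theorem result {X Y : Scheme.{u}} (f : X ⟶ Y) (hf : IsOpenMap f.base) :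
    topologicalKrullDim ↥(Set.range f.base) ≤ topologicalKrullDim ↥X := by
  have hgen : ∀ (x : X) (y : Y), y ⤳ f x → ∃ x' : X, x' ⤳ x ∧ f x' = y := by
    intro x y hy
    obtain ⟨_, ⟨V : Y.Opens, hV, rfl⟩, hxV, -⟩ :=
      Y.isBasis_affineOpens.exists_subset_of_mem_open (Set.mem_univ (f x)) isOpen_univ
    obtain ⟨_, ⟨W : X.Opens, hW, rfl⟩, hxW, e⟩ :=
      X.isBasis_affineOpens.exists_subset_of_mem_open (show x ∈ f ⁻¹ᵁ V from hxV) (f ⁻¹ᵁ V).2
    have : IsAffine W := hW
    have : IsAffine V := hV
    have hyV : y ∈ V := hy.mem_open V.2 hxV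
    let g := f.resLE V W e
    let xw : W.toScheme := ⟨x, hxW⟩
    let yv : V.toScheme := ⟨y, hyV⟩
    have hq₀ : QuasiCompact (V.toScheme.fromSpecResidueField yv) := inferInstance
    have hq₁ : QuasiCompact (g.fiberι yv) := MorphismProperty.of_isPullback (IsPullback.of_hasPullback _ _).flip hq₀
    have hgval : ∀ w : W.toScheme, (g w).1 = f w.1 := fun w =>
      congrArg (fun q => q.base w) (f.resLE_comp_ι e)
    have hcl : xw ∈ closure (Set.range (g.fiberι yv)) := by
      rw [Scheme.Hom.range_fiberι, mem_closure_iff]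
      intro O hO hxO
      have hO' : IsOpen (f.base '' (W.ι '' O)) := hf _ (W.ι.isOpenEmbedding.isOpenMap _ hO)
      obtain ⟨_, ⟨w, hw, rfl⟩, hwy⟩ := hy.mem_open hO' ⟨x, ⟨_, hxO, rfl⟩, rfl⟩
      exact ⟨w, hw, Subtype.ext ((hgval w).trans hwy)⟩
    obtain ⟨z, hz⟩ := Groth.PropsBasic2.exists_specializes_of_mem_closure_range _ hcl
    refine ⟨(g.fiberι yv z).1, hz.map continuous_subtype_val, ?_⟩
    have : g.fiberι yv z ∈ g ⁻¹' {yv} := by
      rw [← Scheme.Hom.range_fiberι]; exact ⟨z, rfl⟩
    exact (hgval _).symm.trans (congrArg Subtype.val this)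
  have : QuasiSober ↥(Set.range f.base) :=
    (hf.isOpen_range.isOpenEmbedding_subtypeVal).quasiSober
  have hR : topologicalKrullDim ↥(Set.range f.base) = Order.krullDim ↥(Set.range f.base) := by
    refine Order.krullDim_eq_of_orderIso
      ⟨(irreducibleSetEquivPoints (α := ↥(Set.range f.base))).toEquiv, fun {a b} => ?_⟩
    exact (subtype_specializes_iff _ _).symm.trans (irreducibleSetEquivPoints.map_rel_iff)
  have hX : topologicalKrullDim X = Order.krullDim X :=
    Order.krullDim_eq_of_orderIso
      ⟨(irreducibleSetEquivPoints (α := X)).toEquiv, irreducibleSetEquivPoints.map_rel_iff⟩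
  rw [hR, hX]
  have key : ∀ n, ∀ p : LTSeries ↥(Set.range f.base), p.length = n →
      ∃ q : LTSeries X, q.length = n ∧ f.base q.last = p.last.1 := by
    intro n
    induction n with
    | zero =>
      intro p hp
      obtain ⟨x, hx⟩ := p.last.2
      exact ⟨RelSeries.singleton _ x, rfl, hx⟩
    | succ n ih =>
      intro p hp
      obtain ⟨q, hq, hql⟩ := ih p.eraseLast (by simp [hp])
      have hlt : p.eraseLast.last < p.last :=
        p.eraseLast_last_rel_last (by omega)
      have hle := hlt.le
      change p.last.1 ⤳ p.eraseLast.last.1 at hle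
      have hsp : p.last.1 ⤳ f q.last := hql ▸ hle
      obtain ⟨x', hx', hfx'⟩ := hgen q.last p.last.1 hsp
      refine ⟨q.snoc x' ⟨hx', fun h => hlt.2 ?_⟩, by simp [hq], by simp [hfx']⟩
      change p.eraseLast.last.1 ⤳ p.last.1
      rw [← hql, ← hfx']
      exact Specializes.map h f.continuous
  refine iSup_le fun p => ?_
  obtain ⟨q, hq, -⟩ := key _ p rfl
  rw [← hq]
  exact Order.LTSeries.length_le_krullDim q

end Groth.Agent.S10838
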