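import Groth.Statements.S10839
import Mathlib
import Groth.Agent.Variety2.KrullDim

set_option autoImplicit false
universe u
open CategoryTheory AlgebraicGeometry Topology
open Variety

namespace Groth.Agent.S10839

/-- A closed immersion i : Y → X into an integral scheme X with dim X = dim Y < ∞ is an isomorphism. -/
theorem result {X Y : Scheme.{u}} (i : Y ⟶ X)
    [IsClosedImmersion i] [IsIntegral X] (hfin : topologicalKrullDim ↥X ≠ ⊤)
    (hdim : topologicalKrullDim ↥X = topologicalKrullDim ↥Y) : IsIso i := by
  have hs : Surjective i := by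
    rw [surjective_iff, ← Set.range_eq_univ]
    by_contra h
    have hle := Groth.Variety2.topologicalKrullDim_add_one_le i.isClosedEmbedding h
    rw [← hdim] at hle
    have hb : topologicalKrullDim ↥X ≠ ⊥ := Order.krullDim_ne_bot_iff.2
      ⟨⟨Set.univ, IrreducibleSpace.isIrreducible_univ X, isClosed_univ⟩⟩
    obtain ⟨a, ha⟩ := WithBot.ne_bot_iff_exists.1 hb
    rw [← ha] at hle hfin
    have hfin' : a ≠ ⊤ := fun h => hfin (by rw [h]; rfl)
    obtain ⟨n, rfl⟩ := ENat.ne_top_iff_exists.1 hfin'
    have : n + 1 ≤ n := by exact_mod_cast hle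
    omega
  exact isIso_of_isClosedImmersion_of_surjective i

end Groth.Agent.S10839
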