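import Groth.Statements.S10840
import Groth.Agent.Variety2.ProjSections

set_option autoImplicit false
universe u
open AlgebraicGeometry Topology
open Variety

namespace Groth.Agent.S10840

/-- For a field k and nonzero homogeneous polynomials f, g of positive degrees in three variables, the
common zero set V_+(f, g) in the projective plane over k is zero-dimensional as a topological
subspace exactly when f and g are coprime, i.e. their only common divisors are the non-zero
constants. -/
theorem result (k : Type u) [Field k] (n m : ℕ)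
    (f g : MvPolynomial (Fin 3) k) (hf : f.IsHomogeneous n) (hg : g.IsHomogeneous m)
    (hn : 0 < n) (hm : 0 < m) (hf0 : f ≠ 0) (hg0 : g ≠ 0) :
    topologicalKrullDim ↥(ProjectiveSpectrum.zeroLocus (CohB1.polyGrading 2 k)
        ({f, g} : Set (MvPolynomial (Fin 3) k))) = 0 ↔ IsRelPrime f g := by
  classical
  let S : Set (ProjectiveSpectrum (CohB1.polyGrading 2 k)) :=
    ProjectiveSpectrum.zeroLocus (CohB1.polyGrading 2 k) {f, g}
  have hmemS : ∀ x, x ∈ S ↔ f ∈ x.asHomogeneousIdeal ∧ g ∈ x.asHomogeneousIdeal := fun x => by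
    simp [S, ProjectiveSpectrum.mem_zeroLocus, Set.insert_subset_iff]
  have hS : IsClosed S := Groth.Variety2.PSpace.isClosed_zeroLocus' _
  have hne : S.Nonempty := by
    obtain ⟨x, -, hx⟩ := Groth.Variety2.PSpace.exists_mem_of_card_le (Groth.Variety2.PSpace.eta 2 k)
      {f, g} (by simp only [Finset.mem_insert, Finset.mem_singleton, forall_eq_or_imp, forall_eq]
                 exact ⟨⟨n, hn, hf⟩, ⟨m, hm, hg⟩⟩)
      (by rw [Groth.Variety2.PSpace.ht_eta]; exact_mod_cast Finset.card_le_two)
    exact ⟨x, (hmemS x).2 ⟨hx f (by simp), hx g (by simp)⟩⟩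
  have hdim : topologicalKrullDim ↥S =
      ⨆ z ∈ S, ((Groth.Variety2.PSpace.ht z : ℕ∞) : WithBot ℕ∞) :=
    Groth.Variety2.Dim.dim_closed (X := CohB1.ProjSpace 2 k) hS
  constructor
  · intro h0 q hqf hqg
    by_contra hu
    obtain ⟨c, hc⟩ := hqf
    obtain ⟨a, ha⟩ := Groth.Variety2.PSpace.isHomogeneous_left_of_mul (hc ▸ hf) (hc ▸ hf0)
    have hq0 : q ≠ 0 := by rintro rfl; exact hf0 (by rw [hc, zero_mul])
    have hapos : 0 < a := by
      by_contra h
      obtain rfl : a = 0 := by omega
      have he := MvPolynomial.totalDegree_eq_zero_iff_eq_C.1 (Nat.le_zero.1 ha.totalDegree_le)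
      rw [he] at hu hq0
      exact hu ((isUnit_iff_ne_zero.2 fun h => hq0 (by rw [h, map_zero])).map MvPolynomial.C)
    obtain ⟨x, -, hx⟩ := Groth.Variety2.PSpace.exists_mem_of_pos ha hapos
      (ξ := Groth.Variety2.PSpace.eta 2 k) (by rw [Groth.Variety2.PSpace.ht_eta]; norm_num)
    obtain ⟨z, hz, -, hmax⟩ := Groth.Variety2.PSpace.exists_maximal
      (S := {z | q ∈ z.asHomogeneousIdeal}) hx
    have hz1 := Groth.Variety2.PSpace.ht_add_one_of_maximal ha hq0 hz fun w => hmax w
    have hzS : z ∈ S := by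
      obtain ⟨c', hc'⟩ := hqg
      exact (hmemS z).2 ⟨hc ▸ Ideal.mul_mem_right c _ hz, hc' ▸ Ideal.mul_mem_right c' _ hz⟩
    have hle : ((Groth.Variety2.PSpace.ht z : ℕ∞) : WithBot ℕ∞) ≤ 0 := by
      rw [← h0]
      exact (le_iSup₂ (f := fun z (_ : z ∈ S) => ((Groth.Variety2.PSpace.ht z : ℕ∞) : WithBot ℕ∞))
        z hzS).trans hdim.ge
    rw [nonpos_iff_eq_zero.1 (WithBot.coe_le_coe.1 hle), zero_add] at hz1
    exact absurd hz1 (by norm_num)
  · intro hrel
    refine hdim.trans (le_antisymm (iSup₂_le fun z hz => ?_) ?_)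
    · refine WithBot.coe_le_coe.2 (le_of_eq ?_)
      by_contra hz0
      obtain ⟨hzf, hzg⟩ := (hmemS z).1 hz
      obtain ⟨q, e, hq, hirr, hqz, hqf⟩ := Groth.Variety2.PSpace.exists_irreducible_mem z hf hf0 hzf
      obtain ⟨p, hpz, hp⟩ := Groth.Variety2.PSpace.exists_pt_of_irreducible hq hirr z hqz
      have hpe : p = z := by
        by_contra hne'
        have h1 := Groth.Variety2.PSpace.ht_lt hpz (Ne.symm hne')
        have h2 := Groth.Variety2.PSpace.ht_principal hq hirr.ne_zero hp
        obtain ⟨a, ha⟩ := Groth.Variety2.PSpace.exists_ht_eq z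
        obtain ⟨b, hb⟩ := Groth.Variety2.PSpace.exists_ht_eq p
        rw [ha, hb] at h1
        rw [hb] at h2
        have h1 : a < b := by exact_mod_cast h1
        have h2 : b + 1 = 2 := by exact_mod_cast h2
        exact hz0 (by rw [ha]; exact_mod_cast (show a = 0 by omega))
      subst hpe
      exact hirr.not_isUnit (hrel hqf ((hp g).1 hzg))
    · obtain ⟨x, hx⟩ := hne
      exact le_trans (WithBot.coe_le_coe.2 bot_le)
        (le_iSup₂ (f := fun z (_ : z ∈ S) => ((Groth.Variety2.PSpace.ht z : ℕ∞) : WithBot ℕ∞)) x hx)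

end Groth.Agent.S10840
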