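import Groth.Statements.S10842
import Mathlib

set_option autoImplicit false
universe u
open CategoryTheory AlgebraicGeometry
open Variety

namespace Groth.Agent.S10842

/-- A quasi-compact scheme whose local rings at all closed points are integrally closed domains is
normal, i.e. all of its local rings are integrally closed domains. -/
theorem result (X : Scheme.{u}) [CompactSpace ↥X]
    (h : ∀ x : X, IsClosed ({x} : Set X) →
      IsDomain (X.presheaf.stalk x) ∧ IsIntegrallyClosed (X.presheaf.stalk x)) :
    Pi1.IsNormalScheme X := by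
  intro x
  obtain ⟨y, hy, hyc⟩ := (isClosed_closure (s := ({x} : Set X))).exists_closed_singleton ⟨x, subset_closure rfl⟩
  have hsp : x ⤳ y := specializes_iff_mem_closure.2 hy
  obtain ⟨hd, hi⟩ := h y hyc
  obtain ⟨U, hU, hyU, -⟩ := exists_isAffineOpen_mem_and_subset (U := ⊤) (Set.mem_univ y)
  have hxU : x ∈ U := hsp.mem_open U.2 hyU
  let := (X.presheaf.germ U x hxU).hom.toAlgebra
  let := (X.presheaf.germ U y hyU).hom.toAlgebra
  let := (X.presheaf.stalkSpecializes hsp).hom.toAlgebra
  have : IsScalarTower Γ(X, U) (X.presheaf.stalk y) (X.presheaf.stalk x) := .of_algebraMap_eq fun s =>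
    (X.presheaf.germ_stalkSpecializes_apply hyU hsp s).symm
  have hMy : IsLocalization.AtPrime (X.presheaf.stalk y) (hU.primeIdealOf ⟨y, hyU⟩).asIdeal :=
    hU.isLocalization_stalk ⟨y, hyU⟩
  have hMx : IsLocalization.AtPrime (X.presheaf.stalk x) (hU.primeIdealOf ⟨x, hxU⟩).asIdeal :=
    hU.isLocalization_stalk ⟨x, hxU⟩
  have hle : (hU.primeIdealOf ⟨y, hyU⟩).asIdeal.primeCompl ≤ (hU.primeIdealOf ⟨x, hxU⟩).asIdeal.primeCompl := by
    intro s hs
    have := (IsLocalization.AtPrime.isUnit_to_map_iff (X.presheaf.stalk y) _ s).2 hs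
    have := this.map (algebraMap (X.presheaf.stalk y) (X.presheaf.stalk x))
    rw [← IsScalarTower.algebraMap_apply] at this
    exact (IsLocalization.AtPrime.isUnit_to_map_iff (X.presheaf.stalk x) _ s).1 this
  have := IsLocalization.isLocalization_of_submonoid_le (X.presheaf.stalk y) (X.presheaf.stalk x) _ _ hle
  have hnz : ((hU.primeIdealOf ⟨x, hxU⟩).asIdeal.primeCompl).map (algebraMap Γ(X, U) (X.presheaf.stalk y)) ≤
      nonZeroDivisors (X.presheaf.stalk y) := by
    rintro _ ⟨s, hs, rfl⟩
    refine mem_nonZeroDivisors_of_ne_zero fun h0 => ?_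
    have hu := (IsLocalization.AtPrime.isUnit_to_map_iff (X.presheaf.stalk x) _ s).2 hs
    rw [IsScalarTower.algebraMap_apply _ (X.presheaf.stalk y), h0, map_zero] at hu
    exact not_isUnit_zero hu
  exact ⟨IsLocalization.isDomain_of_le_nonZeroDivisors _ hnz,
    isIntegrallyClosed_of_isLocalization _ _ hnz⟩

end Groth.Agent.S10842
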