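import Groth.Statements.S10843
import Mathlib
import Groth.Agent.Variety2.DimAffine

set_option autoImplicit false
universe u
open CAlg

namespace Groth.Agent.S10843

/-- For a field k, a nonzero finitely generated k-algebra A and a natural number d, the algebra A has
Krull dimension d exactly when some injective k-algebra map from the polynomial ring in d variables
over k to A makes A a finite module over that polynomial ring. -/
theorem result (k A : Type u) [Field k]
    [CommRing A] [Nontrivial A] [Algebra k A] [Algebra.FiniteType k A] (d : ℕ) :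
    ringKrullDim A = (d : WithBot ℕ∞) ↔
      ∃ φ : MvPolynomial (Fin d) k →ₐ[k] A, φ.toRingHom.Finite ∧ Function.Injective φ := by
  have key : ∀ (s : ℕ) (φ : MvPolynomial (Fin s) k →ₐ[k] A), φ.toRingHom.Finite →
      Function.Injective φ → ringKrullDim A = (s : WithBot ℕ∞) := by
    intro s φ hf hi
    let _ := φ.toRingHom.toAlgebra
    have : Module.Finite (MvPolynomial (Fin s) k) A := hf
    rw [Groth.Variety2.Dim.ringKrullDim_eq_of_isIntegral (MvPolynomial (Fin s) k) A hi,
      MvPolynomial.ringKrullDim_of_isNoetherianRing]
    simp
  refine ⟨fun h => ?_, fun ⟨φ, hf, hi⟩ => key d φ hf hi⟩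
  obtain ⟨s, φ, hi, hf⟩ := exists_finite_inj_algHom_of_fg k A
  obtain rfl : s = d := by
    have h2 := (key s φ hf hi).symm.trans h
    exact_mod_cast h2
  exact ⟨φ, hf, hi⟩

end Groth.Agent.S10843
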