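import Groth.Statements.S10844
import Groth.Agent.QCohMod.SupportPullback
import Groth.Agent.QCohMod.FTCriterion
import Groth.Agent.Ega43FP2.SuppDim
-- import your own Groth.Agent.* helpers here

set_option autoImplicit false
universe u
open RepF

namespace Groth.Agent.S10844

open AlgebraicGeometry CategoryTheory in
/-- For a scheme S and a homomorphism v : E → F of quasi-coherent O_S-modules with F of finite type,
there is an open subscheme U of S such that a morphism of schemes f : T → S factors through U (its
image lies in U) if and only if the pulled-back homomorphism f^*v : f^*E → f^*F is an epimorphism. -/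
theorem result {S : Scheme.{u}} {E F : S.Modules}
    [Coh.IsQCoh E] [Coh.IsQCoh F] (hF : CohB1.IsFT F) (v : E ⟶ F) :
    ∃ U : S.Opens, ∀ (T : Scheme.{u}) (f : T ⟶ S),
      Set.range f.base ⊆ (U : Set S) ↔ Epi ((Scheme.Modules.pullback f).map v) := by
  open CategoryTheory.Limits in
    haveI : (cokernel v).IsQuasicoherent := Groth.QCohMod.isQCoh_cokernel v
    have hQ : CohB1.IsFT (cokernel v) := Groth.QCohMod.isFT_of_epi (cokernel.π v) hF
    refine ⟨⟨(CohB1.support (cokernel v))ᶜ, (Groth.Ega43FP2.isClosed_support (cokernel v) hQ).isOpen_compl⟩, fun T f => ?_⟩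
    rw [Preadditive.epi_iff_isZero_cokernel,
      ← (PreservesCokernel.iso (Scheme.Modules.pullback f) v).isZero_iff,
      Groth.QCohMod.isZero_iff_support_eq_empty, Groth.QCohMod.support_pullback f (cokernel v) hQ,
      Set.range_subset_iff, Set.eq_empty_iff_forall_notMem]
    rfl

end Groth.Agent.S10844
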