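import Groth.Statements.S10845
import Groth.Agent.CohTwo.FibreVanish
import Groth.Agent.AlgGrp2.ClosedRep
import Groth.Agent.Quot.HomVanish
-- import your own Groth.Agent.* helpers here

set_option autoImplicit false
universe u
open RepF

namespace Groth.Agent.S10845

section
open CategoryTheory CategoryTheory.Limits AlgebraicGeometry TopologicalSpace Groth.KTheory.LocFree Groth.PicAux
open Groth.QCohMod (exists_pow_smul_eq_zero)

theorem exists_stalk_basis {X : Scheme.{u}} {M : X.Modules} {x : X} {U : X.Opens} {n : ℕ} {s : Fin n → Γ(M, U)} (hxU : x ∈ U)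
    (hs : Basis' M U s) : ∃ b : Module.Basis (Fin n) (X.presheaf.stalk x) (M.presheaf.stalk x), ∀ i, b i = Groth.QCohMod.germ M x hxU (s i) := by
  classical
  let L := Fintype.linearCombination (X.presheaf.stalk x) fun i => Groth.QCohMod.germ M x hxU (s i)
  suffices hL : Function.Bijective L by
    refine ⟨(Pi.basisFun _ (Fin n)).map (LinearEquiv.ofBijective L hL), fun i => ?_⟩
    show L ((Pi.basisFun (X.presheaf.stalk x) (Fin n)) i) = _
    rw [Pi.basisFun_apply]
    exact (Fintype.linearCombination_apply_single _ _ _ _).trans (one_smul _ _)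
  refine ⟨?_, ?_⟩
  · rw [injective_iff_map_eq_zero]
    intro r hr
    have hq : ∀ i, ∃ (V : X.Opens) (hxV : x ∈ V) (q : Γ(X, V)), X.presheaf.germ V x hxV q = r i :=
      fun i => TopCat.Presheaf.exists_germ_eq X.presheaf (r i)
    choose V hxV q hq using hq
    have hx' : x ∈ U ⊓ (Finset.univ : Finset (Fin n)).inf V := by
      have : ∀ S : Finset (Fin n), x ∈ S.inf V := by
        intro S
        induction S using Finset.cons_induction with
        | empty => exact trivial
        | cons a S ha ih => rw [Finset.inf_cons]; exact ⟨hxV a, ih⟩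
      exact ⟨hxU, this _⟩
    have hle : ∀ i, U ⊓ (Finset.univ : Finset (Fin n)).inf V ≤ V i := fun i =>
      inf_le_right.trans (Finset.inf_le (Finset.mem_univ i))
    have h0 : Groth.QCohMod.germ M x hx' (∑ i, resX X (hle i) (q i) • res M inf_le_left (s i)) = 0 := by
      rw [map_sum, ← hr, Fintype.linearCombination_apply]
      refine Finset.sum_congr rfl fun i _ => ?_
      rw [Groth.QCohMod.germ_smul, ← qres_eq, Groth.QCohMod.germ_res, ← hq i]
      congr 1
      exact TopCat.Presheaf.germ_res_apply X.presheaf (homOfLE (hle i)) x _ (q i)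
    obtain ⟨W, hW, hW', hxW, e⟩ := exists_res_eq hx' hx' _ 0 (h0.trans (map_zero _).symm)
    simp only [res_sum, res_smul, res_res, res_zero, resX_resX] at e
    have hz := (hs W (hW.trans inf_le_left)).1 (a₂ := 0) (e.trans (by simp))
    funext i
    have e3 := congrArg (X.presheaf.germ W x hxW) (congrFun hz i)
    rw [← hq i]
    refine (TopCat.Presheaf.germ_res_apply X.presheaf (homOfLE (hW.trans (hle i))) x hxW (q i)).symm.trans
      (e3.trans (map_zero _))
  · intro t
    obtain ⟨V, hxV, m, rfl⟩ := Groth.QCohMod.exists_germ M x t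
    obtain ⟨r, hr⟩ := (hs (U ⊓ V) inf_le_left).2 (res M inf_le_right m)
    refine ⟨fun i => X.presheaf.germ _ x (⟨hxU, hxV⟩ : x ∈ U ⊓ V) (r i), ?_⟩
    have := congrArg (Groth.QCohMod.germ M x (⟨hxU, hxV⟩ : x ∈ U ⊓ V)) hr
    simp only at this
    rw [Fintype.linearCombination_apply]
    refine (Finset.sum_congr rfl fun i _ => ?_).trans
      (((map_sum _ _ _).symm.trans this).trans (Groth.QCohMod.germ_res M inf_le_right x ⟨hxU, hxV⟩ m))
    have := (germ_smul_res M (le_refl (U ⊓ V)) inf_le_left x ⟨hxU, hxV⟩ (r i) (s i)).symm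
    simp only [resX_self] at this
    exact this


lemma stalkMap_germ_fromSpec {S : Scheme.{u}} {W : S.Opens} (hW : IsAffineOpen W) {C : CommRingCat.{u}}
    (φ : Γ(S, W) ⟶ C) (y : ↥(Spec C)) (hy : (Spec.map φ ≫ hW.fromSpec) y ∈ W) (c : Γ(S, W)) :
    (Spec.map φ ≫ hW.fromSpec).stalkMap y (S.presheaf.germ W _ hy c) =
      (Spec C).presheaf.germ ⊤ y trivial ((Scheme.ΓSpecIso C).inv (φ c)) := by
  have e : (⊤ : (Spec C).Opens) ≤ (Spec.map φ ≫ hW.fromSpec) ⁻¹ᵁ W := fun z _ => by
    have : hW.fromSpec (Spec.map φ z) ∈ Set.range hW.fromSpec := ⟨_, rfl⟩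
    rwa [hW.range_fromSpec] at this
  rw [Scheme.Hom.germ_stalkMap_apply, ← TopCat.Presheaf.germ_res_apply (Spec C).presheaf (homOfLE e) y trivial,
    ← CommRingCat.comp_apply, ← CommRingCat.comp_apply φ]
  refine congrArg ((Spec C).presheaf.germ ⊤ y trivial) ?_
  have hh : (Spec.map φ ≫ hW.fromSpec).appLE W ⊤ e = φ ≫ (Scheme.ΓSpecIso C).inv := by
    rw [Scheme.Hom.comp_appLE, IsAffineOpen.fromSpec_app_self,
      Category.assoc, Scheme.ΓSpecIso_inv_naturality]
    congr 1
  exact ConcreteCategory.congr_hom hh c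

lemma hasIdeal {S : Scheme.{u}} {E F : S.Modules} [E.IsQuasicoherent] (v : E ⟶ F) (W : S.affineOpens)
    {U : S.Opens} {n : ℕ} {s : Fin n → Γ(F, U)} (hs : Basis' F U s) (hle : W.1 ≤ U) :
    Groth.AlgGrp2.HasIdeal (fun {T} (f : T ⟶ S) => (Scheme.Modules.pullback f).map v = 0) W := by
  choose c hc using fun e : Γ(E, W.1) => (hs W.1 hle).2 (v.app W.1 e)
  refine ⟨Ideal.span (Set.range fun q : Γ(E, W.1) × Fin n => c q.1 q.2), fun C φ => ?_⟩
  set h := Spec.map φ ≫ W.2.fromSpec
  have hmem : ∀ y, h y ∈ W.1 := fun y => by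
    have : W.2.fromSpec (Spec.map φ y) ∈ Set.range W.2.fromSpec := ⟨_, rfl⟩
    rwa [W.2.range_fromSpec] at this
  have hve : ∀ (y : ↥(Spec C)) (e : Γ(E, W.1)),
      stalkₗ ((Scheme.Modules.pullback h).map v) y (Groth.QCohMod.pullGerm h E y (Groth.QCohMod.germ E (h y) (hmem y) e)) =
        ∑ i, (Spec C).presheaf.germ ⊤ y trivial ((Scheme.ΓSpecIso C).inv (φ (c e i))) •
          Groth.QCohMod.pullGerm h F y (Groth.QCohMod.germ F (h y) (hle (hmem y)) (s i)) := by
    intro y e
    rw [Groth.FibreVanish.stalkₗ_pullback_map,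
      show stalkₗ v (h y) (Groth.QCohMod.germ E (h y) (hmem y) e) = Groth.QCohMod.germ F (h y) (hmem y) (v.app W.1 e) from
        Groth.QCohMod.stalk_map_germ v _ _ e,
      ← hc e, map_sum, map_sum]
    refine Finset.sum_congr rfl fun i _ => ?_
    rw [Groth.QCohMod.germ_smul, Groth.QCohMod.pullGerm_smul]
    rw [show h.stalkMap y (S.presheaf.germ W.1 (h y) (hmem y) (c e i)) = (Spec C).presheaf.germ ⊤ y trivial ((Scheme.ΓSpecIso C).inv (φ (c e i))) from
      stalkMap_germ_fromSpec W.2 φ y (hmem y) (c e i)]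
    congr 2
    exact Groth.QCohMod.germ_res F hle _ _ _
  constructor
  · intro h0
    refine Ideal.span_le.mpr ?_
    rintro _ ⟨⟨e, i⟩, rfl⟩
    refine RingHom.mem_ker.mpr ?_
    have : (Scheme.ΓSpecIso C).inv (φ (c e i)) = 0 := by
      refine Groth.FibreVanish.appTop_eq_zero_of_stalk _ fun y => ?_
      obtain ⟨b, hb⟩ := exists_stalk_basis (x := h y) (hle (hmem y)) hs
      letI := Groth.QCohMod.stalkAlg h y
      let B := (b.baseChange ((Spec C).presheaf.stalk y)).map (Groth.QCohMod.pullStalkEquiv h F y)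
      have hB : ∀ j, B j = Groth.QCohMod.pullGerm h F y (Groth.QCohMod.germ F (h y) (hle (hmem y)) (s j)) := by
        intro j
        rw [Module.Basis.map_apply, Module.Basis.baseChange_apply, ← hb]
        exact (Groth.QCohMod.pullStalkHom_tmul h F y _ _).trans (one_smul _ _)
      have h1 := hve y e
      rw [h0, Groth.GrFree.stalkₗ_zero, LinearMap.zero_apply] at h1
      simp only [← hB] at h1
      exact Fintype.linearIndependent_iff.mp B.linearIndependent _ h1.symm i
    exact ((Scheme.ΓSpecIso C).symm.commRingCatIsoToRingEquiv.map_eq_zero_iff).mp this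
  · intro hI
    have hI0 : ∀ e i, φ (c e i) = 0 := fun e i =>
      RingHom.mem_ker.mp (hI (Ideal.subset_span ⟨(e, i), rfl⟩))
    refine Groth.FibreVanish.hom_eq_zero_pullGerm h _ fun y t => ?_
    obtain ⟨a, e, hxa, ht⟩ := Groth.QCohMod.exists_smul_germ_eq E W.2 (h y) (hmem y) t
    have hu : IsUnit (h.stalkMap y (S.presheaf.germ W.1 (h y) (hmem y) a)) :=
      ((Scheme.mem_basicOpen S a _ (hmem y)).mp hxa).map _
    refine hu.smul_eq_zero.mp ?_
    rw [← map_smul, ← Groth.QCohMod.pullGerm_smul, ht, hve]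
    refine Finset.sum_eq_zero fun i _ => ?_
    rw [hI0, map_zero, map_zero, zero_smul]

end

open AlgebraicGeometry CategoryTheory in
/-- For a scheme S and a homomorphism v : E → F of quasi-coherent O_S-modules with F finite locally
free, there is a quasi-coherent ideal sheaf on S whose closed subscheme Z has the property that a
morphism of schemes f : T → S factors through the inclusion Z → S if and only if the pulled-back
homomorphism f^*v : f^*E → f^*F is zero. -/
theorem result {S : Scheme.{u}} {E F : S.Modules}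
    [Coh.IsQCoh E] [Coh.IsQCoh F] (hF : FlatMod.IsFinLocFree F) (v : E ⟶ F) :
    ∃ I : S.IdealSheafData, ∀ (T : Scheme.{u}) (f : T ⟶ S),
      (∃ g : T ⟶ I.subscheme, g ≫ I.subschemeι = f) ↔ (Scheme.Modules.pullback f).map v = 0 := by
  have : E.IsQuasicoherent := ‹Coh.IsQCoh E›
  obtain ⟨Z, i, hi, hZ⟩ := Groth.AlgGrp2.exists_closed_of_hasIdeal
    (T := S) (Φ := fun {T} (f : T ⟶ S) => (Scheme.Modules.pullback f).map v = 0)
    (fun V W g f h0 => by
      rw [← Groth.Quot.pullback_map_comp_eq_zero_iff g f rfl v, h0, Functor.map_zero])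
    (fun W f 𝒰 h0 => Groth.Quot.pullback_map_eq_zero_of_cover (f' := 𝟙 S) (h := f)
      (IsPullback.of_vert_isIso ⟨by simp⟩ : IsPullback f (𝟙 W) (𝟙 S) f) 𝒰 v fun j => by
        have e : Limits.pullback.fst (𝟙 S) (𝒰.f j ≫ f) = Limits.pullback.snd (𝟙 S) (𝒰.f j ≫ f) ≫ 𝒰.f j ≫ f := by
          rw [← Limits.pullback.condition, Category.comp_id]
        rw [e, ← Groth.Quot.pullback_map_comp_eq_zero_iff (Limits.pullback.snd (𝟙 S) (𝒰.f j ≫ f)) (𝒰.f j ≫ f) rfl v,
          h0 j, Functor.map_zero])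
    (fun x => by
      obtain ⟨U, n, s, hxU, hs⟩ := Groth.PicAux.exists_basis_of_isFinLocFree hF x
      obtain ⟨W, hW, hxW, hWU⟩ := exists_isAffineOpen_mem_and_subset (U := U) hxU
      exact ⟨⟨W, hW⟩, hxW, hasIdeal v ⟨W, hW⟩ hs hWU⟩)
  refine ⟨i.ker, fun T f => ?_⟩
  have := hi
  rw [hZ T f]
  exact ⟨fun ⟨g, hg⟩ => ⟨g ≫ inv i.toImage, by rw [Category.assoc, ← hg]; congr 1; rw [IsIso.inv_comp_eq]; exact (Scheme.Hom.toImage_imageι i).symm⟩,
    fun ⟨z, hz⟩ => ⟨z ≫ i.toImage, by rw [Category.assoc, ← hz]; congr 1; exact Scheme.Hom.toImage_imageι i⟩⟩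

end Groth.Agent.S10845
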