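import Groth.Statements.S10847
import Groth.Agent.RefRank.FittLocFree
import Groth.Agent.Misc3Fitt.Strict
import Groth.Agent.S8872
import Groth.Agent.S8875

set_option autoImplicit false
universe u
open FlatMod

namespace Groth.Agent.S10847

open AlgebraicGeometry CategoryTheory in
/-- Let X be a scheme, F a finite-type quasi-coherent O_X-module and r a natural number. Then there is
an immersion i : Z → X (a subscheme of X) such that a morphism of schemes f : T → X factors through
i if and only if the pullback f^*F is finite locally free of rank r. -/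
theorem result {X : Scheme.{u}} (F : X.Modules)
    [Coh.IsQCoh F] (hF : CohB1.IsFT F) (r : ℕ) :
    ∃ (Z : Scheme.{u}) (i : Z ⟶ X), IsImmersion i ∧ ∀ (T : Scheme.{u}) (f : T ⟶ X),
      (∃ g : T ⟶ Z, g ≫ i = f) ↔ FlatMod.IsFinLocFreeOfRank r ((Scheme.Modules.pullback f).obj F) := by
  classical
  haveI hq : F.IsQuasicoherent := (inferInstance : Coh.IsQCoh F)
  have hmono : ∀ (k k' : ℕ), k ≤ k' → Fitt.sheafIdeal F k ≤ Fitt.sheafIdeal F k' := fun k k' hk => by
    refine Scheme.IdealSheafData.ofIdeals_mono fun U => ?_
    haveI := Groth.QCohMod.finite_sections F hF U.2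
    exact Groth.Misc3Fitt.ideal_mono hk
  let I : X.IdealSheafData := (Finset.range r).sup fun k => Fitt.sheafIdeal F k
  let O : X.Opens := (Fitt.sheafIdeal F r).support.compl
  refine ⟨(I.subschemeι ⁻¹ᵁ O : I.subscheme.Opens), (I.subschemeι ⁻¹ᵁ O).ι ≫ I.subschemeι,
    inferInstance, fun T f => ?_⟩
  have hqc : Coh.IsQCoh ((Scheme.Modules.pullback f).obj F) := Groth.QCohMod.isQCoh_pullback_obj f F
  have hcomap : ∀ k, Fitt.sheafIdeal ((Scheme.Modules.pullback f).obj F) k =
      (Fitt.sheafIdeal F k).comap f := fun k => (Groth.Agent.S8872.result f F hq hF k).symm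
  rw [Groth.Agent.S8875.result T _ hqc (Groth.QCohMod.isFT_pullback f F hF) r]
  constructor
  · rintro ⟨g, rfl⟩
    refine ⟨fun k hk => ?_, fun k hk => ?_⟩
    · rw [hcomap, eq_bot_iff, ← Scheme.IdealSheafData.le_map_iff_comap_le, Scheme.IdealSheafData.map_bot]
      refine (Finset.le_sup (f := fun k => Fitt.sheafIdeal F k) (Finset.mem_range.mpr hk)).trans ?_
      change I ≤ _
      rw [← Category.assoc]
      refine le_of_eq_of_le I.ker_subschemeι.symm ?_
      exact Scheme.Hom.le_ker_comp _ _
    · rw [hcomap k]
      refine eq_top_iff.mpr ((le_of_eq ?_).trans (Scheme.IdealSheafData.comap_mono _ (hmono r k hk)))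
      dsimp only
      rw [eq_comm, ← Scheme.IdealSheafData.support_eq_bot_iff, Scheme.IdealSheafData.support_comap]
      refine TopologicalSpace.Closeds.ext (Set.eq_empty_iff_forall_notMem.mpr fun t ht => ?_)
      exact (g t).2 ht
  · rintro ⟨hlt, hge⟩
    have hI : I ≤ f.ker := by
      refine Finset.sup_le fun k hk => ?_
      rw [← Scheme.IdealSheafData.map_bot, Scheme.IdealSheafData.le_map_iff_comap_le, ← hcomap,
        hlt k (Finset.mem_range.mp hk)]
    let h : T ⟶ I.subscheme := IsClosedImmersion.lift I.subschemeι f (by rw [I.ker_subschemeι]; exact hI)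
    have hh : h ≫ I.subschemeι = f := IsClosedImmersion.lift_fac _ _ _
    have hrange : Set.range h ⊆ Set.range (I.subschemeι ⁻¹ᵁ O).ι := by
      rw [Scheme.Opens.range_ι]
      rintro _ ⟨t, rfl⟩
      show I.subschemeι (h t) ∉ (Fitt.sheafIdeal F r).support
      intro ht
      have hft : f t = I.subschemeι (h t) := by rw [← hh]; rfl
      have h1 : ((Fitt.sheafIdeal F r).comap f).support = ⊥ := by
        rw [← hcomap, hge r le_rfl, Scheme.IdealSheafData.support_top]
      rw [Scheme.IdealSheafData.support_comap] at h1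
      have : t ∈ (Fitt.sheafIdeal F r).support.preimage f.continuous := by
        show f t ∈ (Fitt.sheafIdeal F r).support
        rwa [hft]
      rw [h1] at this
      exact this.elim
    exact ⟨IsOpenImmersion.lift _ h hrange, by rw [IsOpenImmersion.lift_fac_assoc, hh]⟩

end Groth.Agent.S10847
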