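import Groth.Statements.S10849
import Mathlib.Algebra.Polynomial.Laurent
import Mathlib.LinearAlgebra.Matrix.Nondegenerate
import Mathlib.LinearAlgebra.Matrix.ToLinearEquiv
import Mathlib.LinearAlgebra.Matrix.ToLin
import Mathlib.Algebra.Polynomial.FieldDivision
import Mathlib.RingTheory.UniqueFactorizationDomain.Basic
import Mathlib.LinearAlgebra.Matrix.NonsingularInverse
import Mathlib.Data.Fin.Tuple.Sort

set_option autoImplicit false
universe u
open VbP1

namespace Groth.Agent.S10849

open Polynomial Matrix Finset

variable {k : Type u} [Field k] {n : ℕ}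

/-- The row degree. -/
private noncomputable def rdeg (B : Matrix (Fin n) (Fin n) k[X]) (i : Fin n) : ℕ :=
  univ.sup fun j => (B i j).natDegree

/-- The matrix of top coefficients with respect to the row degrees. -/
private noncomputable def lead (B : Matrix (Fin n) (Fin n) k[X]) : Matrix (Fin n) (Fin n) k :=
  fun i j => (B i j).coeff (rdeg B i)

private theorem exists_smaller (B : Matrix (Fin n) (Fin n) k[X]) (hB : B.det ≠ 0)
    (hlead : (lead B).det = 0) :
    ∃ U : Matrix (Fin n) (Fin n) k[X], IsUnit U ∧ ∑ i, rdeg (U * B) i < ∑ i, rdeg B i := by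
  classical
  obtain ⟨c, hc0, hc⟩ := exists_vecMul_eq_zero_iff.2 hlead
  obtain ⟨a, ha, hmax⟩ : ∃ a, c a ≠ 0 ∧ ∀ i, c i ≠ 0 → rdeg B i ≤ rdeg B a := by
    obtain ⟨i0, hi0⟩ := Function.ne_iff.1 hc0
    obtain ⟨a, ha, hm⟩ := (univ.filter fun i => c i ≠ 0).exists_max_image (rdeg B)
      ⟨i0, by simpa using hi0⟩
    exact ⟨a, by simpa using ha, fun i hi => hm i (by simpa using hi)⟩
  let v : Fin n → k[X] := fun l => Polynomial.C (c l) * Polynomial.X ^ (rdeg B a - rdeg B l)
  let U : Matrix (Fin n) (Fin n) k[X] := (1 : Matrix (Fin n) (Fin n) k[X]).updateRow a v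
  have hdetU : U.det = Polynomial.C (c a) := by
    have e : v = ∑ l, v l • (Pi.single l 1 : Fin n → k[X]) := by
      funext j
      simp [Finset.sum_apply, Pi.single_apply]
    show ((1 : Matrix (Fin n) (Fin n) k[X]).updateRow a v).det = _
    rw [show v = fun j => ∑ l, v l * (1 : Matrix (Fin n) (Fin n) k[X]) l j from by
      funext j; simp [Matrix.one_apply]]
    have := det_updateRow_sum (1 : Matrix (Fin n) (Fin n) k[X]) a v
    simp only [smul_eq_mul, det_one, mul_one] at this
    rw [show v a = Polynomial.C (c a) by simp [v]] at this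
    rw [← this]
    congr 1
    congr 1
    funext j
    simp [Finset.sum_apply]
  have hU : IsUnit U := by
    rw [isUnit_iff_isUnit_det, hdetU]
    exact isUnit_C.2 (isUnit_iff_ne_zero.2 ha)
  refine ⟨U, hU, ?_⟩
  have hrow : ∀ i, i ≠ a → ∀ j, (U * B) i j = B i j := by
    intro i hi j
    rw [Matrix.mul_apply]
    simp [U, Matrix.updateRow_ne hi, Matrix.one_apply]
  have hra : ∀ j, (U * B) a j = ∑ l, v l * B l j := fun j => by
    rw [Matrix.mul_apply]
    simp [U]
  have hvdeg : ∀ l j, (v l * B l j).natDegree ≤ rdeg B a := by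
    intro l j
    by_cases hl : c l = 0
    · simp [v, hl]
    · refine natDegree_mul_le.trans ?_
      have h1 : (v l).natDegree ≤ rdeg B a - rdeg B l := natDegree_C_mul_X_pow_le _ _
      have h2 : (B l j).natDegree ≤ rdeg B l := Finset.le_sup (f := fun j => (B l j).natDegree) (mem_univ j)
      have h3 := hmax l hl
      omega
  have hlt : rdeg (U * B) a < rdeg B a := by
    have hcoef : ∀ j, ((U * B) a j).coeff (rdeg B a) = 0 := by
      intro j
      rw [hra, finsetSum_coeff]
      have := congrFun hc j
      simp only [Matrix.vecMul, dotProduct, Pi.zero_apply] at this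
      refine Eq.trans (Finset.sum_congr rfl fun l _ => ?_) this
      by_cases hl : c l = 0
      · simp [v, hl]
      · simp only [v, mul_assoc, coeff_C_mul, lead]
        rw [show rdeg B a = rdeg B l + (rdeg B a - rdeg B l) by have := hmax l hl; omega,
          Nat.add_sub_cancel_left, coeff_X_pow_mul]
    have hpos : 0 < rdeg B a := by
      by_contra h0
      have hzero : ∀ j, (U * B) a j = 0 := by
        intro j
        have h1 : ((U * B) a j).natDegree ≤ 0 := by
          rw [hra]
          exact (natDegree_sum_le_of_forall_le _ _ fun l _ => hvdeg l j).trans (by omega)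
        rw [eq_C_of_natDegree_le_zero h1]
        have := hcoef j
        rw [show rdeg B a = 0 by omega] at this
        rw [this, map_zero]
      have := det_eq_zero_of_row_eq_zero a hzero
      rw [det_mul, mul_eq_zero] at this
      exact this.elim (fun h => (isUnit_iff_isUnit_det _ |>.1 hU).ne_zero h) hB
    refine (Finset.sup_lt_iff hpos).2 fun j _ => ?_
    have hle : ((U * B) a j).natDegree ≤ rdeg B a := by
      rw [hra]
      exact natDegree_sum_le_of_forall_le _ _ fun l _ => hvdeg l j
    rcases lt_or_eq_of_le hle with h | h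
    · exact h
    · exfalso
      have := hcoef j
      rw [← h, ← leadingCoeff, leadingCoeff_eq_zero] at this
      rw [this, natDegree_zero] at h
      omega
  refine Finset.sum_lt_sum (fun i _ => ?_) ⟨a, mem_univ a, hlt⟩
  by_cases hi : i = a
  · subst hi; exact hlt.le
  · refine le_of_eq ?_
    simp only [rdeg, hrow i hi]

private theorem exists_reduced (B : Matrix (Fin n) (Fin n) k[X]) (hB : B.det ≠ 0) :
    ∃ U : Matrix (Fin n) (Fin n) k[X], IsUnit U ∧ (lead (U * B)).det ≠ 0 := by
  classical
  suffices ∀ N (B : Matrix (Fin n) (Fin n) k[X]), B.det ≠ 0 → ∑ i, rdeg B i ≤ N →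
      ∃ U : Matrix (Fin n) (Fin n) k[X], IsUnit U ∧ (lead (U * B)).det ≠ 0 from
    this _ B hB le_rfl
  intro N
  induction N using Nat.strong_induction_on with
  | _ N ih =>
    intro B hB hN
    by_cases hl : (lead B).det = 0
    · obtain ⟨U, hU, hlt⟩ := exists_smaller B hB hl
      obtain ⟨W, hW, h⟩ := ih _ (lt_of_lt_of_le hlt hN) (U * B)
        (by rw [det_mul]; exact mul_ne_zero ((isUnit_iff_isUnit_det U).1 hU).ne_zero hB) le_rfl
      exact ⟨W * U, hW.mul hU, by rwa [mul_assoc]⟩
    · exact ⟨1, isUnit_one, by rwa [one_mul]⟩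

private theorem isUnit_of_toLaurent {p : k[X]} (hp : IsUnit (toLaurent p)) (h0 : p.coeff 0 ≠ 0) :
    IsUnit p := by
  obtain ⟨g, hg⟩ := hp.exists_right_inv
  obtain ⟨M, g', hg'⟩ := LaurentPolynomial.exists_T_pow g
  have hdvd : p ∣ Polynomial.X ^ M := by
    refine ⟨g', toLaurent_injective ?_⟩
    rw [map_mul, hg', ← mul_assoc, hg, one_mul, toLaurent_X_pow]
  obtain ⟨i, -, hi⟩ := (dvd_prime_pow Polynomial.prime_X M).1 hdvd
  cases i with
  | zero => exact hi.symm.isUnit (by simp)
  | succ i =>
    exfalso
    obtain ⟨w, hw⟩ := hi.symm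
    rw [← hw, pow_succ', mul_assoc, mul_coeff_zero, coeff_X_zero, zero_mul] at h0
    exact h0 rfl

/-- Let k be a field and n a natural number. For every invertible n × n matrix A with entries in the
Laurent polynomial ring k[T, T⁻¹] there are matrices P and Q over k[T], invertible over k[T], and
integers d_1 ≥ d_2 ≥ … ≥ d_n (indexed by Fin n, antitone) such that A = P · diag(T^{d_i}) · Q⁻,
where Q⁻ is obtained from Q by the substitution T ↦ T⁻¹ (so Q⁻ is invertible over k[T⁻¹]). -/
theorem result (k : Type u) [Field k] (n : ℕ)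
    (A : Matrix (Fin n) (Fin n) (LaurentPolynomial k)) (hA : IsUnit A) :
    ∃ (P Q : Matrix (Fin n) (Fin n) (Polynomial k)) (d : Fin n → ℤ),
      IsUnit P ∧ IsUnit Q ∧ Antitone d ∧
        A = P.map Polynomial.toLaurent * Matrix.diagonal (fun i => LaurentPolynomial.T (d i)) *
          (Q.map Polynomial.toLaurent).map LaurentPolynomial.invert := by
  classical
  choose m b hb using fun i j => LaurentPolynomial.exists_T_pow (A i j)
  let N := ∑ i, ∑ j, m i j
  let B : Matrix (Fin n) (Fin n) k[X] := fun i j => Polynomial.X ^ (N - m i j) * b i j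
  have hB : B.map (toLaurent (R := k)) = (LaurentPolynomial.T (R := k) (N : ℤ)) • A := by
    ext1 i j
    have hm : m i j ≤ N :=
      (Finset.single_le_sum (f := fun j => m i j) (fun _ _ => Nat.zero_le _) (mem_univ j)).trans
        (Finset.single_le_sum (f := fun i => ∑ j, m i j) (fun _ _ => Nat.zero_le _) (mem_univ i))
    simp only [Matrix.map_apply, B, map_mul, toLaurent_X_pow, hb, Matrix.smul_apply, smul_eq_mul]
    rw [mul_left_comm, ← LaurentPolynomial.T_add, mul_comm]
    congr 2
    omega
  have hdetA : IsUnit A.det := (isUnit_iff_isUnit_det A).1 hA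
  have hBdet : B.det ≠ 0 := by
    intro h0
    have := congrArg toLaurent h0
    rw [RingHom.map_det, map_zero, show (toLaurent (R := k)).mapMatrix B = B.map toLaurent from rfl,
      hB, det_smul] at this
    exact (((LaurentPolynomial.isUnit_T _).pow _).mul hdetA).ne_zero this
  obtain ⟨U, hU, hlead⟩ := exists_reduced B hBdet
  set C := U * B with hC
  let r := rdeg C
  let π : Equiv.Perm (Fin n) := Tuple.sort fun i => -(r i : ℤ)
  have hπ : Monotone ((fun i => -(r i : ℤ)) ∘ π) := Tuple.monotone_sort _
  let Q0 : Matrix (Fin n) (Fin n) k[X] := fun i j =>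
    ∑ l ∈ range (r i + 1), Polynomial.C ((C i j).coeff l) * Polynomial.X ^ (r i - l)
  have hQ0 : ∀ i j, LaurentPolynomial.T (r i : ℤ) * LaurentPolynomial.invert (toLaurent (Q0 i j)) =
      toLaurent (C i j) := by
    intro i j
    have hd : (C i j).natDegree < r i + 1 :=
      Nat.lt_succ_of_le (Finset.le_sup (f := fun j => (C i j).natDegree) (mem_univ j))
    conv_rhs => rw [as_sum_range_C_mul_X_pow' (C i j) hd]
    simp only [Q0, map_sum, Finset.mul_sum, map_mul, toLaurent_C, toLaurent_X_pow,
      LaurentPolynomial.invert_C, LaurentPolynomial.invert_T]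
    refine Finset.sum_congr rfl fun l hl => ?_
    rw [mul_left_comm, ← LaurentPolynomial.T_add]
    congr 2
    have := Finset.mem_range.1 hl
    omega
  have hC' : C.map toLaurent = diagonal (fun i => LaurentPolynomial.T (r i : ℤ)) *
      (Q0.map toLaurent).map LaurentPolynomial.invert := by
    ext1 i j
    simp only [diagonal_mul, Matrix.map_apply, hQ0]
  have hQ0unit : IsUnit Q0 := by
    rw [isUnit_iff_isUnit_det]
    refine isUnit_of_toLaurent ?_ ?_
    · have h := congrArg Matrix.det hC'
      rw [hC, Matrix.map_mul, hB, det_mul, det_mul, det_diagonal] at h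

      have hunit : IsUnit ((U.map (toLaurent (R := k))).det *
          (LaurentPolynomial.T (R := k) (N : ℤ) • A).det) := by
        rw [det_smul]
        refine IsUnit.mul ?_ (((LaurentPolynomial.isUnit_T _).pow _).mul hdetA)
        rw [← RingHom.mapMatrix_apply, ← RingHom.map_det]
        exact ((isUnit_iff_isUnit_det U).1 hU).map _
      rw [h] at hunit
      have h2 := isUnit_of_mul_isUnit_right hunit
      rw [show (Q0.map toLaurent).map LaurentPolynomial.invert =
        (LaurentPolynomial.invert (R := k)).toRingEquiv.toRingHom.mapMatrix (Q0.map toLaurent) from rfl,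
        ← RingHom.map_det, ← RingHom.mapMatrix_apply, ← RingHom.map_det] at h2
      have h3 := h2.map (LaurentPolynomial.invert (R := k)).symm
      simpa using h3
    · rw [← constantCoeff_apply, RingHom.map_det]
      refine fun h0 => hlead ?_
      rw [← h0]
      congr 1
      ext1 i j
      simp only [lead, RingHom.mapMatrix_apply, Matrix.map_apply, constantCoeff_apply, Q0,
        finsetSum_coeff, coeff_C_mul_X_pow]
      rw [Finset.sum_eq_single (rdeg C i)]
      · simp [r]
      · intro l hl hne
        rw [if_neg]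
        have := Finset.mem_range.1 hl
        simp only [r] at this ⊢
        omega
      · intro h
        exact absurd (Finset.mem_range.2 (Nat.lt_succ_self _)) h
  obtain ⟨W, hW⟩ := hU
  refine ⟨(W⁻¹ : (Matrix (Fin n) (Fin n) k[X])ˣ).1.submatrix id π, Q0.submatrix π id,
    fun i => (r (π i) : ℤ) - N, ?_, ?_, fun i j hij => ?_, ?_⟩
  · rw [isUnit_iff_isUnit_det, det_permute']
    exact ((Equiv.Perm.sign π).isUnit.map (Int.castRingHom k[X])).mul
      ((isUnit_iff_isUnit_det _).1 (W⁻¹).isUnit)
  · rw [isUnit_iff_isUnit_det, det_permute]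
    exact ((Equiv.Perm.sign π).isUnit.map (Int.castRingHom k[X])).mul
      ((isUnit_iff_isUnit_det _).1 hQ0unit)
  · have := hπ hij
    simp only [Function.comp_apply, neg_le_neg_iff] at this
    simp only
    omega
  · have hA' : A = ((W⁻¹ : (Matrix (Fin n) (Fin n) k[X])ˣ).1.map toLaurent) *
        (diagonal (fun i => LaurentPolynomial.T ((r i : ℤ) - N)) *
          (Q0.map toLaurent).map LaurentPolynomial.invert) := by
      have e : diagonal (fun i => LaurentPolynomial.T (R := k) ((r i : ℤ) - N)) =
          LaurentPolynomial.T (R := k) (-(N : ℤ)) • diagonal (fun i => LaurentPolynomial.T (R := k) (r i : ℤ)) := by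
        rw [← diagonal_smul]
        congr 1
        funext i
        rw [Pi.smul_apply, smul_eq_mul, ← LaurentPolynomial.T_add]
        congr 1
        ring
      rw [e, Matrix.smul_mul, ← hC', hC, Matrix.mul_smul, ← Matrix.map_mul, ← mul_assoc, ← hW,
        Units.inv_mul, one_mul, hB, smul_smul, ← LaurentPolynomial.T_add, neg_add_cancel,
        LaurentPolynomial.T_zero, one_smul]
    conv_lhs => rw [hA']
    ext1 i j
    simp only [Matrix.mul_apply, Matrix.map_apply, Matrix.submatrix_apply, id_eq, diagonal_apply,
      Finset.sum_mul, ite_mul, mul_ite, mul_zero, zero_mul, Finset.mul_sum, Finset.sum_ite_eq,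
      Finset.sum_ite_eq', mem_univ, if_true]
    rw [← Equiv.sum_comp π]
    exact Finset.sum_congr rfl fun l _ => (mul_assoc _ _ _).symm

end Groth.Agent.S10849
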