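import Groth.Statements.S10850
import Groth.Agent.BddFin.SB.ProjIso
import Groth.Agent.BddFin.SB.AutGroup
-- import your own Groth.Agent.* helpers here

set_option autoImplicit false
universe u
open ProjAut

namespace Groth.Agent.S10850

open AlgebraicGeometry CategoryTheory in
/-- Let k be a field and n a natural number. There is a surjective group homomorphism from GL_{n+1}(k)
onto the group of automorphisms of projective n-space P^n_k over Spec k whose kernel is the subgroup
of invertible scalar matrices; so the automorphism group of P^n_k over k is isomorphic to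
PGL_{n+1}(k). (Only the existence of a surjective homomorphism with this kernel is asserted here;
the published statement is about the homomorphism induced by linear substitutions of the homogeneous
coordinates.) -/
theorem result
    (k : Type u) [Field k] (n : ℕ) :
    ∃ φ : Matrix.GeneralLinearGroup (Fin (n + 1)) k →* Aut (Over.mk (CohB1.ProjSpace.toSpec n k)),
      Function.Surjective φ ∧
        φ.ker = (Units.map (Matrix.scalar (Fin (n + 1)) : k →+* Matrix (Fin (n + 1)) (Fin (n + 1)) k).toMonoidHom).range := by
  obtain ⟨c, hc, hcb⟩ := Groth.BddFin.SB.exists_grass_iso_projSpace k (n + 1)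
  let d : Groth.GrassRep.grass k (Fin (n + 1) → k) (n + 1 - 1) ≅ Over.mk (CohB1.ProjSpace.toSpec n k) :=
    Over.isoMk (@asIso _ _ _ _ c hc) hcb
  let f := CohB1.ProjSpace.toSpec n k
  let toOver : ∀ (R : Type u) [CommRing R] [Algebra k R],
      BrSev.Pts f R ≃ (Groth.GrassRep.Pt (CommAlgCat.of k R) ⟶ Over.mk f) := fun R _ _ =>
    { toFun := fun g => Over.homMk g.1 g.2
      invFun := fun g => ⟨g.left, Over.w g⟩
      left_inv := fun _ => rfl
      right_inv := fun _ => rfl }
  let σ : BrSev.SBStr k (Matrix (Fin (n + 1)) (Fin (n + 1)) k) ((n + 1) * (n + 1) - (n + 1)) f :=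
    { bij := fun R _ _ => ((toOver R).trans
        { toFun := fun g => g ≫ d.inv
          invFun := fun g => g ≫ d.hom
          left_inv := fun g => by simp
          right_inv := fun g => by simp }).trans
        ((Groth.GrassRep.pts k (Fin (n + 1) → k) (n + 1 - 1) (CommAlgCat.of k R)).trans
          (Groth.BddFin.SB.grEquiv (Algebra.TensorProduct.lid k (Matrix (Fin (n + 1)) (Fin (n + 1)) k)) R).symm)
      natural := fun R S _ _ _ _ φ g => by
        have h1 : toOver S (BrSev.Pts.map f φ g) =
            Groth.GrassRep.ptMap (CommAlgCat.ofHom φ) ≫ toOver R g := Over.OverMorphism.ext rfl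
        simp only [Equiv.trans_apply, Equiv.coe_fn_mk, h1, Category.assoc]
        refine (congrArg (fun Q => (((Groth.BddFin.SB.grEquiv (Algebra.TensorProduct.lid k (Matrix (Fin (n + 1)) (Fin (n + 1)) k)) S).symm Q)).1.toSubmodule)
          (Groth.GrassRep.pts_natural _ _ (CommAlgCat.ofHom φ) (toOver R g ≫ d.inv))).trans ?_
        set P := Groth.GrassRep.pts k (Fin (n + 1) → k) (n + 1 - 1) (CommAlgCat.of k R) (toOver R g ≫ d.inv)
        set e0 := Algebra.TensorProduct.lid k (Matrix (Fin (n + 1)) (Fin (n + 1)) k)
        have h2 := Groth.BddFin.SB.grEquiv_natural e0 φ ((Groth.BddFin.SB.grEquiv e0 R).symm P)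
        rw [Equiv.apply_symm_apply] at h2
        exact congrArg (fun N => N.1.toSubmodule) ((Equiv.symm_apply_eq _).2 h2.symm) }
  obtain ⟨ξ, hs, hker⟩ := Groth.BddFin.SB.exists_hom_units (Nat.succ_pos n)
    (by simp [Module.finrank_matrix]) σ
  refine ⟨ξ, hs, hker.trans ?_⟩
  congr 2

end Groth.Agent.S10850
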