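import Groth.Statements.S10851
import Groth.Agent.PicAux.MeroDepth

set_option autoImplicit false
universe u
open Mero

namespace Groth.Agent.S10851

open AlgebraicGeometry in
/-- Let X be a locally Noetherian scheme and D a divisor on X (a global section of K_X^×/O_X^×). Then
the support of D has codimension at least 1 in X: for every point z at which the germ of D is
non-trivial, the local ring O_{X,z} has Krull dimension at least 1. -/
theorem result {X : Scheme.{u}} [IsLocallyNoetherian X]
    (D : Mero.Divisor X) (z : X) (hz : z ∈ Mero.supp D) :
    (1 : WithBot ℕ∞) ≤ ringKrullDim (X.presheaf.stalk z) := by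
  obtain ⟨c, hc, hcm⟩ := Groth.PicAux.exists_regular_nonunit hz
  exact Groth.PicAux.one_le_dim_of_regular hcm hc

end Groth.Agent.S10851
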