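import Groth.Statements.S10862
import Groth.Agent.Calg1.NagataBasic
import Groth.Agent.Calg1.JapanesePolynomial
import Groth.Agent.Calg2.CompleteNagata

set_option autoImplicit false
universe u
open CAlg

namespace Groth.Agent.S10862

/-- A polynomial ring over a field in finitely many variables is N-2. -/
theorem isN2_mvPolynomial_fin (k : Type u) [Field k] : ∀ n : ℕ, CAlg.IsN2 (MvPolynomial (Fin n) k)
  | 0 => Groth.Calg2.CompleteNagata.isN2_of_ringEquiv (MvPolynomial.isEmptyRingEquiv k (Fin 0)).symm
      (Groth.Calg2.CompleteNagata.isN2_field k)
  | n + 1 => Groth.Calg2.CompleteNagata.isN2_of_ringEquiv (MvPolynomial.finSuccEquiv k n).symm.toRingEquiv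
      (Groth.Calg1.isN2_polynomial (isN2_mvPolynomial_fin k n))

/-- For a field k, an integral domain A of finite type over k with fraction field K, and a finite field
extension L of K, the integral closure of A in L is a finitely generated A-module. -/
theorem result (k A K L : Type u) [Field k] [CommRing A] [IsDomain A]
    [Algebra k A] [Algebra.FiniteType k A] [Field K] [Field L] [Algebra A K] [IsFractionRing A K] [Algebra K L]
    [FiniteDimensional K L] [Algebra A L] [IsScalarTower A K L] : Module.Finite A (integralClosure A L) := by
  obtain ⟨n, g, hg, hfin⟩ := exists_finite_inj_algHom_of_fg k A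
  letI := g.toRingHom.toAlgebra
  haveI : Module.Finite (MvPolynomial (Fin n) k) A := hfin
  exact Groth.Calg4.finite_ic_of_isN2
    (Groth.Calg1.isN2_of_finite (A := MvPolynomial (Fin n) k) hg (isN2_mvPolynomial_fin k n)) K L

end Groth.Agent.S10862
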