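import Groth.Statements.S10863
import Mathlib.RingTheory.Artinian.Ring
import Mathlib.RingTheory.Artinian.Module
import Mathlib.RingTheory.LocalRing.ResidueField.Ideal
import Mathlib.FieldTheory.IsAlgClosed.AlgebraicClosure

set_option autoImplicit false
universe u
open CAlg

namespace Groth.Agent.S10863

open TensorProduct in
/-- Let k be a field, A a finite-dimensional local k-algebra with residue field κ, and k' a field
extension of k. Then the separable degree of κ over k equals the sum over the maximal ideals m' of
k' ⊗_k A (the points of the base-changed finite scheme lying over the given point) of the separable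
degrees over k' of their residue fields. -/
theorem result (k A k' : Type u) [Field k] [CommRing A] [Algebra k A]
    [Module.Finite k A] [IsLocalRing A] [Field k'] [Algebra k k'] :
    Field.finSepDegree k (IsLocalRing.ResidueField A) =
      ∑ᶠ m : MaximalSpectrum (k' ⊗[k] A),
        Field.finSepDegree k' (IsLocalRing.ResidueField (Localization.AtPrime m.asIdeal)) := by
  classical
  let Ω := AlgebraicClosure k'
  let B := k' ⊗[k] A
  have : IsArtinianRing A := IsArtinianRing.of_finite k A
  have : IsArtinianRing B := IsArtinianRing.of_finite k' B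
  -- homomorphisms out of the residue field
  let κ := IsLocalRing.ResidueField A
  have e₁ : (κ →ₐ[k] Ω) ≃ (A →ₐ[k] Ω) := by
    refine Equiv.ofBijective (fun g => g.comp (IsScalarTower.toAlgHom k A κ)) ⟨fun g g' h => ?_, fun g => ?_⟩
    · refine AlgHom.ext fun x => ?_
      obtain ⟨a, rfl⟩ := IsLocalRing.residue_surjective x
      exact AlgHom.congr_fun h a
    · have : (RingHom.ker g).IsPrime := RingHom.ker_isPrime _
      have hker : RingHom.ker g = IsLocalRing.maximalIdeal A :=
        IsLocalRing.eq_maximalIdeal (IsArtinianRing.isMaximal_of_isPrime _)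
      exact ⟨Ideal.Quotient.liftₐ (IsLocalRing.maximalIdeal A) g fun a ha => RingHom.mem_ker.mp (hker.symm ▸ ha),
        AlgHom.ext fun a => rfl⟩
  let F : MaximalSpectrum B → Type u := fun m => IsLocalRing.ResidueField (Localization.AtPrime m.asIdeal)
  have e₂ : (Σ m : MaximalSpectrum B, (m.asIdeal.ResidueField →ₐ[k'] Ω)) ≃ (B →ₐ[k'] Ω) := by
    refine Equiv.ofBijective (fun p => p.2.comp (IsScalarTower.toAlgHom k' B p.1.asIdeal.ResidueField))
      ⟨fun p p' h => ?_, fun g => ?_⟩
    · obtain ⟨m, g⟩ := p
      obtain ⟨m', g'⟩ := p'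
      have hm : ∀ (n : MaximalSpectrum B) (u : n.asIdeal.ResidueField →ₐ[k'] Ω),
          RingHom.ker (u.comp (IsScalarTower.toAlgHom k' B n.asIdeal.ResidueField)) = n.asIdeal := fun n u => by
        ext b
        rw [RingHom.mem_ker]
        show u (algebraMap B n.asIdeal.ResidueField b) = 0 ↔ _
        rw [_root_.map_eq_zero, Ideal.algebraMap_residueField_eq_zero]
      obtain rfl : m = m' := MaximalSpectrum.ext (by rw [← hm m g, ← hm m' g']; exact congrArg RingHom.ker h)
      exact congrArg (Sigma.mk m) (Ideal.ResidueField.algHom_ext h)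
    · have : (RingHom.ker g).IsPrime := RingHom.ker_isPrime _
      let m : MaximalSpectrum B := ⟨RingHom.ker g, IsArtinianRing.isMaximal_of_isPrime _⟩
      exact ⟨⟨m, Ideal.ResidueField.liftₐ m.asIdeal g le_rfl fun b hb =>
        IsUnit.mk0 _ fun h0 => hb (RingHom.mem_ker.mpr h0)⟩, Ideal.ResidueField.liftₐ_comp_toAlgHom _ _ _ _⟩
  have hfin : ∀ m : MaximalSpectrum B, Module.Finite k' m.asIdeal.ResidueField := fun m =>
    have := m.isMaximal
    Module.Finite.trans B _
  have hfinA : Module.Finite k κ := Module.Finite.trans A κ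
  have := Fintype.ofFinite (MaximalSpectrum B)
  rw [Field.finSepDegree_eq_of_isAlgClosed k κ Ω, Nat.card_congr e₁,
    Nat.card_congr (AlgHom.liftEquiv k k' A Ω), ← Nat.card_congr e₂, Nat.card_sigma,
    finsum_eq_sum_of_fintype]
  exact Finset.sum_congr rfl fun m _ => by
    have := hfin m
    exact (Field.finSepDegree_eq_of_isAlgClosed k' m.asIdeal.ResidueField Ω).symm

end Groth.Agent.S10863
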