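import Groth.Statements.S10864
import Groth.Agent.Variety2.LinearForms
import Groth.Agent.Variety2.ProjPartial

set_option autoImplicit false
universe u
open Variety

namespace Groth.Agent.S10864

open Groth.Variety2 Groth.Variety2.PSpace Groth.Variety2.ProjPartial

open CategoryTheory AlgebraicGeometry in
/-- Let k be an infinite field and X a closed subscheme of projective n-space over k, of dimension d
(topological Krull dimension, a natural number). Then there is a finite surjective morphism X →
P^d_k over k. -/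
theorem result (k : Type u) [Field k] [Infinite k] (X : Scheme.{u})
    (n : ℕ) (ι : X ⟶ CohB1.ProjSpace n k) [IsClosedImmersion ι] (d : ℕ) (hd : topologicalKrullDim X = d) :
    ∃ π : X ⟶ CohB1.ProjSpace d k, π ≫ CohB1.ProjSpace.toSpec d k = ι ≫ CohB1.ProjSpace.toSpec n k ∧
      IsFinite π ∧ Surjective π := by
  have hdim : ∀ x : X, Order.height x ≤ (d : ℕ∞) := fun x => by
    rw [Dim.dim_eq_iSup_height] at hd
    exact WithBot.coe_le_coe.1 ((le_iSup (fun z : X => ((Order.height z : ℕ∞) : WithBot ℕ∞)) x).trans hd.le)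
  let qX := ι ≫ CohB1.ProjSpace.toSpec n k
  have hht : ∀ x : X, PSpace.ht (n := n) (k := k) (ι x) = Order.height x := fun x =>
    Dim.height_eq_of_isPreimmersion qX (CohB1.ProjSpace.toSpec n k) ι rfl x
  let T : Set (ProjectiveSpectrum (CohB1.polyGrading n k)) := Set.range ι.base
  obtain ⟨l, hl, hcov⟩ := exists_linear_cover d (T := T) ι.isClosedEmbedding.isClosed_range
    (by rintro _ ⟨x, rfl⟩; exact (hht x).trans_le (hdim x))
  let g : CohB1.polyGrading d k →+*ᵍ CohB1.polyGrading n k :=
    { __ := (MvPolynomial.aeval l).toRingHom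
      map_mem := fun {i} {x} hx => by
        have := MvPolynomial.IsHomogeneous.aeval (R := k) (S := k) (φ := x) hx l hl
        rwa [one_mul] at this }
  have hg : ∀ j : Fin (d + 1), g (MvPolynomial.X j) = l j := fun j => MvPolynomial.aeval_X l j
  let s : ULift.{u} (Fin (d + 1)) → MvPolynomial (Fin (d + 1)) k := fun j => MvPolynomial.X j.down
  have hs : ∀ j, s j ∈ CohB1.polyGrading d k 1 := fun j => MvPolynomial.isHomogeneous_X k j.down
  obtain ⟨π, hpre, hcomp⟩ := exists_map g hs (X := X) ι fun x => by
    obtain ⟨j, hj⟩ := hcov (ι x) ⟨x, rfl⟩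
    exact ⟨⟨j⟩, show g (MvPolynomial.X j) ∉ _ by rw [hg]; exact hj⟩
  have hπ : π ≫ CohB1.ProjSpace.toSpec d k = qX := by
    refine hcomp _ (Proj.toSpecZero (CohB1.polyGrading d k) ≫
        Spec.map (CommRingCat.ofHom (algebraMap k (CohB1.polyGrading d k 0))))
      (Proj.toSpecZero (CohB1.polyGrading n k) ≫
        Spec.map (CommRingCat.ofHom (algebraMap k (CohB1.polyGrading n k 0)))) fun j => ?_
    simp only [chart, Category.assoc, Proj.awayι_toSpecZero_assoc]
    simp only [← Spec.map_comp, ← CommRingCat.ofHom_comp]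
    congr 2
    ext c
    simp only [RingHom.comp_apply, HomogeneousLocalization.Away.map,
      HomogeneousLocalization.fromZeroRingHom]
    simp [g]
    erw [HomogeneousLocalization.map_mk]
    simp
    rfl
  refine ⟨π, hπ, ?_⟩
  have : IsProper (π ≫ CohB1.ProjSpace.toSpec d k) := hπ ▸ inferInstance
  have : IsProper π := IsProper.of_comp π (CohB1.ProjSpace.toSpec d k)
  have hsup : ⨆ j : ULift.{u} (Fin (d + 1)), Proj.basicOpen (CohB1.polyGrading d k) (s j) = ⊤ :=
    top_le_iff.1 fun x _ => TopologicalSpace.Opens.mem_iSup.2 (by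
      obtain ⟨i, hi⟩ := exists_X_notMem x
      exact ⟨⟨i⟩, hi⟩)
  have : IsAffineHom π := by
    rw [IsZariskiLocalAtTarget.iff_of_iSup_eq_top (P := @IsAffineHom) _ hsup]
    intro j
    have hA : IsAffineOpen (X := CohB1.ProjSpace d k) (Proj.basicOpen (CohB1.polyGrading d k) (s j)) :=
      Proj.isAffineOpen_basicOpen _ (s j) (hs j) one_pos
    have hB : IsAffineOpen (X := CohB1.ProjSpace n k) (Proj.basicOpen (CohB1.polyGrading n k) (g (s j))) :=
      Proj.isAffineOpen_basicOpen _ _ (Graded.map_mem g (hs j)) one_pos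
    have hpreimage : IsAffineOpen (π ⁻¹ᵁ Proj.basicOpen (CohB1.polyGrading d k) (s j)) := by
      have h := hB.preimage ι
      exact (congrArg IsAffineOpen (hpre j)).mpr h
    have := hA
    have := hpreimage
    exact @isAffineHom_of_isAffine _ _ _ hpreimage hA
  have hfin : IsFinite π := IsFinite.iff_isProper_and_isAffineHom.2 ⟨inferInstance, inferInstance⟩
  refine ⟨hfin, ⟨fun y => ?_⟩⟩
  obtain ⟨x, hx⟩ : ∃ x : X, Order.height x = (d : ℕ∞) := by
    by_contra hno
    push Not at hno
    rw [Dim.dim_eq_iSup_height] at hd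
    rcases Nat.eq_zero_or_pos d with rfl | hd0
    · cases isEmpty_or_nonempty X
      · simp at hd
      · obtain ⟨x⟩ := ‹Nonempty X›
        exact hno x (le_antisymm (hdim x) bot_le)
    · have h : ⨆ x : X, ((Order.height x : ℕ∞) : WithBot ℕ∞) ≤ (((d - 1 : ℕ) : ℕ∞) : WithBot ℕ∞) :=
        iSup_le fun x => WithBot.coe_le_coe.2 (Order.le_of_lt_add_one (by
          rw [← Nat.cast_succ, show (d - 1).succ = d by omega]
          exact lt_of_le_of_ne (hdim x) (hno x)))
      rw [hd] at h
      have : d ≤ d - 1 := by exact_mod_cast WithBot.coe_le_coe.1 h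
      omega
  have hfib : Finite (π.fiber (π x)) := by
    have : Finite ↥(π.base ⁻¹' {π x}) := (π.finite_preimage_singleton (π x)).to_subtype
    exact Finite.of_equiv _ (π.fiberHomeo (π x)).toEquiv.symm
  have : JacobsonSpace (π.fiber (π x)) := LocallyOfFiniteType.jacobsonSpace (π.fiberToSpecResidueField (π x))
  have hz : Order.height (π.asFiber x) = 0 := by
    rw [Dim.height_eq_zero_iff]
    exact isClosed_discrete _
  have hadd := Dim.height_fiber_add qX (CohB1.ProjSpace.toSpec d k) π hπ (π x) (π.asFiber x)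
  replace hadd := (((congrArg (· + _) hz).symm.trans hadd))
  replace hadd := (zero_add _).symm.trans hadd
  replace hadd := hadd.trans ((congrArg Order.height (π.fiberι_asFiber x)).trans hx)
  have heta : PSpace.eta d k ⤳ π x := eta_specializes _
  have he : π x = PSpace.eta d k := by
    by_contra hne
    have h1 := PSpace.ht_lt heta hne
    rw [ht_eta] at h1
    exact (ne_of_lt h1) hadd
  exact ((eta_specializes y).mem_closed π.isClosedMap.isClosed_range ⟨x, he⟩)

end Groth.Agent.S10864
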