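import Groth.Statements.S10866
import Groth.Agent.S10865
-- import your own Groth.Agent.* helpers here

set_option autoImplicit false
universe u
open Coherent

namespace Groth.Agent.S10866

open CategoryTheory AlgebraicGeometry in
/-- Let f : X → Y be a morphism of Noetherian schemes such that for every integral closed subscheme i :
Z → X there is a coherent O_Z-module with nonzero stalk at the generic point of Z whose direct image
under i followed by f is coherent on Y. Then the direct image f_*F of every coherent O_X-module F is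
coherent. -/
theorem result {X Y : Scheme.{u}} [IsNoetherian X] [IsNoetherian Y]
    (f : X ⟶ Y)
    (hgen : ∀ (Z : Scheme.{u}) (i : Z ⟶ X) [IsClosedImmersion i] [IsIntegral Z],
      ∃ H : Z.Modules, Coh.IsCoh H ∧ Nontrivial (H.presheaf.stalk (genericPoint Z)) ∧
        Coh.IsCoh ((Scheme.Modules.pushforward (i ≫ f)).obj H))
    (F : X.Modules) (hF : Coh.IsCoh F) : Coh.IsCoh ((Scheme.Modules.pushforward f).obj F) := by
  classical
  haveI : QuasiCompact f := inferInstance
  haveI : QuasiSeparated f := by
    haveI : QuasiSeparated (f ≫ Limits.terminal.from Y) := by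
      rw [Limits.terminal.comp_from]
      exact (quasiSeparatedSpace_iff_quasiSeparated X).mp inferInstance
    exact QuasiSeparated.of_comp f (Limits.terminal.from Y)
  let P := Scheme.Modules.pushforward f
  have hq : ∀ M : X.Modules, Coh.IsCoh M → (P.obj M).IsQuasicoherent := fun M hM =>
    haveI := hM.1
    Groth.QCohMod.isQCoh_pushforward M f
  rcases isEmpty_or_nonempty X with hX | hX
  · haveI := hq F hF
    refine (Groth.QCohMod.isCoh_iff _).2 ⟨hq F hF, fun U hU => ?_⟩
    have hz : Limits.IsZero F := (Groth.QCohMod.isZero_iff_support_eq_empty F).2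
      (Set.eq_empty_of_forall_notMem fun x => isEmptyElim x)
    haveI : Subsingleton Γ(P.obj F, U) := subsingleton_of_forall_eq 0 fun s => by
      have h : 𝟙 (P.obj F) = 0 := (Limits.IsZero.iff_id_eq_zero _).1 (P.map_isZero hz)
      exact congr(($h).app U s)
    infer_instance
  let K : ObjectProperty X.Modules := fun M => Coh.IsCoh (P.obj M)
  haveI : K.IsClosedUnderIsomorphisms := ⟨fun e h => Groth.QCohMod.isCoh_of_iso (P.mapIso e) h⟩
  refine Groth.Agent.S10865.result X K (fun S hS h₁ h₂ h₃ => ?_) (fun G d hd hG hK => ?_)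
    (fun Z i _ _ => ?_) F hF
  · haveI := hS.mono_f
    haveI := hq S.X₁ h₁
    haveI := hq S.X₂ h₂
    haveI := hq S.X₃ h₃
    haveI : Mono (P.map S.f) := inferInstance
    refine ⟨fun k₂ _ => Groth.QCohMod.isCoh_of_mono (P.map S.f) k₂, fun k₁ k₃ => ?_⟩
    have hx : (S.map P).Exact := hS.exact.map_of_mono_of_preservesKernel P hS.mono_f inferInstance
    let m : Limits.cokernel (P.map S.f) ⟶ P.obj S.X₃ :=
      Limits.cokernel.desc _ (P.map S.g) (S.map P).zero
    haveI : Mono m := hx.mono_cokernelDesc
    exact Groth.QCohMod.isCoh_of_shortExact (Groth.CohTwo.cokerSeq_shortExact (P.map S.f)) k₁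
      (Groth.QCohMod.isCoh_of_mono m k₃)
  · haveI := hq G hG
    haveI : Mono (P.map (Limits.Sigma.ι (fun _ : Fin d => G) ⟨0, hd⟩)) := by
      refine SplitMono.mono ⟨P.map (Groth.CohTwo.powProj G ⟨0, hd⟩), ?_⟩
      rw [← Functor.map_comp, Groth.CohTwo.ι_powProj, if_pos rfl, CategoryTheory.Functor.map_id]
    exact Groth.QCohMod.isCoh_of_mono (P.map (Limits.Sigma.ι (fun _ : Fin d => G) ⟨0, hd⟩)) hK
  · obtain ⟨H, hH, hne, hc⟩ := hgen Z i
    exact ⟨H, hH, hne, Groth.QCohMod.isCoh_of_iso ((Scheme.Modules.pushforwardComp i f).app H).symm hc⟩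

end Groth.Agent.S10866
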