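import Groth.Statements.S10868

set_option autoImplicit false
universe u
open Mor

namespace Groth.Agent.S10868

open CategoryTheory AlgebraicGeometry in
/-- f : X → Y is a finite morphism exactly when it is proper and quasi-affine (quasi-compact, with the
inverse image of every affine open subscheme of Y a quasi-affine scheme). -/
theorem result {X Y : Scheme.{u}} (f : X ⟶ Y) :
    IsFinite f ↔ IsProper f ∧ Mor2.IsQuasiAffine f := by
  constructor
  · intro h
    exact ⟨inferInstance, inferInstance, fun V hV => haveI : IsAffine (f ⁻¹ᵁ V : Scheme.{u}) := hV.preimage f; inferInstance⟩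
  · rintro ⟨hp, -, hq⟩
    refine IsFinite.iff_isProper_and_isAffineHom.mpr ⟨hp, ⟨fun V hV => ?_⟩⟩
    haveI := hq V hV
    haveI : IsAffine (V : Scheme.{u}) := hV
    haveI : IsProper (f ∣_ V) := IsZariskiLocalAtTarget.restrict hp V
    haveI : UniversallyClosed ((f ⁻¹ᵁ V : Scheme.{u}).toSpecΓ ≫ Spec.map (f ∣_ V).appTop) := by
      rw [← Scheme.toSpecΓ_naturality]; infer_instance
    haveI : UniversallyClosed (f ⁻¹ᵁ V : Scheme.{u}).toSpecΓ :=
      UniversallyClosed.of_comp_of_isSeparated _ (Spec.map (f ∣_ V).appTop)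
    haveI : IsClosedImmersion (f ⁻¹ᵁ V : Scheme.{u}).toSpecΓ :=
      IsClosedImmersion.of_isPreimmersion _
        (f ⁻¹ᵁ V : Scheme.{u}).toSpecΓ.isClosedMap.isClosed_range
    exact isAffine_of_isAffineHom (f ⁻¹ᵁ V : Scheme.{u}).toSpecΓ

end Groth.Agent.S10868
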