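import Groth.Statements.S10869
import Groth.Agent.LimGen.Basic

set_option autoImplicit false
universe u
open Coh

namespace Groth.Agent.S10869

open CategoryTheory AlgebraicGeometry in
/-- For f : X → S quasi-compact and quasi-separated and F a quasi-coherent O_X-module, the counit
f^*f_*F → F is an epimorphism iff F is a quotient of f^*G for some quasi-coherent O_S-module G, iff
the restriction of F to the inverse image of every affine open of S is globally generated. -/
theorem result {X S : Scheme.{u}} (f : X ⟶ S) [QuasiCompact f] [QuasiSeparated f]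
    (F : X.Modules) (hF : Coh.IsQCoh F) :
    (Epi ((Scheme.Modules.pullbackPushforwardAdjunction f).counit.app F) ↔
      ∃ G : S.Modules, Coh.IsQCoh G ∧ ∃ φ : (Scheme.Modules.pullback f).obj G ⟶ F, Epi φ) ∧
    (Epi ((Scheme.Modules.pullbackPushforwardAdjunction f).counit.app F) ↔
      ∀ U : S.Opens, IsAffineOpen U → Curv2.IsGloballyGenerated (F.restrict (f ⁻¹ᵁ U).ι)) := by
  have : F.IsQuasicoherent := hF
  let adj := Scheme.Modules.pullbackPushforwardAdjunction f
  refine ⟨⟨fun h => ⟨_, Groth.QCohMod.isQCoh_pushforward F f, _, h⟩, ?_⟩, ⟨fun h U hU => ?_, fun h => ?_⟩⟩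
  · rintro ⟨G, -, φ, hφ⟩
    have : (Scheme.Modules.pullback f).map (adj.homEquiv _ _ φ) ≫ adj.counit.app F = φ := by
      exact ((adj.homEquiv_counit _ _ _).symm.trans (Equiv.symm_apply_apply _ _))
    exact epi_of_epi_fac this
  · exact (Groth.LimGen.spansStalks_restrict_of_epi_counit f F h hU).isGloballyGenerated
  · refine Groth.LimGen.epi_counit_of_spansStalks f F fun y => ?_
    obtain ⟨W, hW, hyW⟩ := Groth.QCohMod.exists_affine_mem (X := S) y
    exact ⟨W, hyW, Groth.VarietyBC.GGen.spansStalks (h W hW)⟩

end Groth.Agent.S10869
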