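import Groth.Statements.S10870
import Groth.Agent.Calg8.IntegralDimEq
import Groth.Agent.S11264
import Mathlib

set_option autoImplicit false
universe u
open CAlgX

namespace Groth.Agent.S10870

section Aux

open MvPolynomial

variable {k K : Type u} [Field k] [Field K] [Algebra k K] {σ : Type*}

theorem exists_coeff_retraction :
    ∃ Ψ : MvPolynomial σ K →+ MvPolynomial σ k,
      (∀ (c : MvPolynomial σ K) (f : MvPolynomial σ k), Ψ (c * MvPolynomial.map (algebraMap k K) f) = Ψ c * f) ∧
      Ψ 1 = 1 := by
  classical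
  obtain ⟨ψ, hψ⟩ := LinearMap.exists_leftInverse_of_injective (Algebra.linearMap k K)
    (LinearMap.ker_eq_bot.2 (algebraMap k K).injective)
  have hψ1 : ψ 1 = 1 := by simpa using LinearMap.congr_fun hψ 1
  let Ψ : MvPolynomial σ K →+ MvPolynomial σ k :=
    { toFun := fun p => AddMonoidAlgebra.ofCoeff (Finsupp.mapRange ψ (map_zero ψ) (AddMonoidAlgebra.coeff p))
      map_zero' := by simp
      map_add' := fun p q => by
        ext d
        show ψ (MvPolynomial.coeff d (p + q)) = ψ (MvPolynomial.coeff d p) + ψ (MvPolynomial.coeff d q)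
        rw [MvPolynomial.coeff_add, map_add] }
  have hΨ : ∀ (p : MvPolynomial σ K) d, MvPolynomial.coeff d (Ψ p) = ψ (MvPolynomial.coeff d p) := fun p d => rfl
  refine ⟨Ψ, fun c f => ?_, ?_⟩
  · ext d
    rw [hΨ, MvPolynomial.coeff_mul, MvPolynomial.coeff_mul, map_sum]
    refine Finset.sum_congr rfl fun x _ => ?_
    rw [hΨ, MvPolynomial.coeff_map, mul_comm (MvPolynomial.coeff x.1 c), ← Algebra.smul_def, map_smul, smul_eq_mul,
      mul_comm]
  · ext d
    rw [hΨ, MvPolynomial.coeff_one, MvPolynomial.coeff_one]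
    split_ifs
    · exact hψ1
    · exact map_zero ψ

theorem ringKrullDim_map_quotient [Algebra.IsIntegral k K] (I : Ideal (MvPolynomial σ k)) :
    ringKrullDim (MvPolynomial σ K ⧸ I.map (MvPolynomial.map (algebraMap k K))) =
      ringKrullDim (MvPolynomial σ k ⧸ I) := by
  classical
  let φ : MvPolynomial σ k →+* MvPolynomial σ K := MvPolynomial.map (algebraMap k K)
  let ψq : (MvPolynomial σ k ⧸ I) →+* (MvPolynomial σ K ⧸ I.map φ) :=
    Ideal.quotientMap (I.map φ) φ Ideal.le_comap_map
  let _ := ψq.toAlgebra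
  have hinj : Function.Injective ψq := by
    refine Ideal.quotientMap_injective' fun f hf => ?_
    obtain ⟨Ψ, hΨ, hΨ1⟩ := exists_coeff_retraction (k := k) (K := K) (σ := σ)
    have key : ∀ x ∈ I.map φ, ∀ c, Ψ (c * x) ∈ I := by
      intro x hx
      induction hx using Submodule.span_induction with
      | mem y hy =>
        obtain ⟨g, hg, rfl⟩ := hy
        exact fun c => hΨ c g ▸ I.mul_mem_left _ hg
      | zero => intro c; simp
      | add a b _ _ ha hb => intro c; rw [mul_add, map_add]; exact I.add_mem (ha c) (hb c)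
      | smul r a _ ha => intro c; rw [smul_eq_mul, ← mul_assoc]; exact ha _
    have h1 := key (φ f) (Ideal.mem_comap.1 hf) 1
    rwa [hΨ, hΨ1, one_mul] at h1
  have : Algebra.IsIntegral (MvPolynomial σ k ⧸ I) (MvPolynomial σ K ⧸ I.map φ) := by
    refine ⟨fun z => ?_⟩
    obtain ⟨g, rfl⟩ := Ideal.Quotient.mk_surjective z
    let _ : Algebra (MvPolynomial σ k) (MvPolynomial σ K) := φ.toAlgebra
    obtain ⟨P, hP, hPg⟩ : IsIntegral (MvPolynomial σ k) g :=
      MvPolynomial.isIntegral_iff_isIntegral_coeff.2 fun d => Algebra.IsIntegral.isIntegral _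
    refine ⟨P.map (Ideal.Quotient.mk I), hP.map _, ?_⟩
    rw [Polynomial.eval₂_map, show (algebraMap (MvPolynomial σ k ⧸ I) (MvPolynomial σ K ⧸ I.map φ)).comp
      (Ideal.Quotient.mk I) = (Ideal.Quotient.mk (I.map φ)).comp φ from RingHom.ext fun x => rfl,
      ← Polynomial.hom_eval₂, show Polynomial.eval₂ φ g P = 0 from hPg, map_zero]
  exact Groth.Calg8.ringKrullDim_eq_of_integral _ _ hinj

end Aux

/-- For a field k and 0 ≤ r ≤ min(n, m), the affine determinantal scheme of n × m matrices of rank at
most r over k — the spectrum of the polynomial ring on the entries of the generic n × m matrix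
modulo the ideal of its (r+1) × (r+1) minors — has dimension r(m + n − r). -/
theorem result (k : Type u) [Field k] (n m r : ℕ) (hr : r ≤ min n m) :
    ringKrullDim (MvPolynomial (Fin n × Fin m) k ⧸ CAlgX.minorIdeal (Matrix.of fun (i : Fin n) (j : Fin m) => (MvPolynomial.X (i, j) : MvPolynomial (Fin n × Fin m) k)) (r + 1)) =
      ((r * (m + n - r) : ℕ) : WithBot ℕ∞) := by
  classical
  rcases hr.lt_or_eq with hlt | heq
  · let K := AlgebraicClosure k
    have h := (S11264.result K n m (r + 1) (by omega) (by omega) (by omega) (by omega) (by omega)).2.2.2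
    rw [← ringKrullDim_map_quotient (K := K), show r * (m + n - r) = (r + 1 - 1) * (n + m - (r + 1) + 1) by
      rw [show r + 1 - 1 = r by omega, show n + m - (r + 1) + 1 = m + n - r by omega], ← h]
    refine ringKrullDim_eq_of_ringEquiv (Ideal.quotEquivOfEq ?_)
    rw [CAlgX.minorIdeal, CAlgX.minorIdeal, Ideal.map_span, ← Set.range_comp]
    congr 2
    funext fg
    simp only [Function.comp_apply, RingHom.map_det]
    congr 1
    ext a b
    simp [W4bk4grassmannian.genMatrix]
  · have hbot : CAlgX.minorIdeal (Matrix.of fun (i : Fin n) (j : Fin m) =>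
        (MvPolynomial.X (i, j) : MvPolynomial (Fin n × Fin m) k)) (r + 1) = ⊥ := by
      rw [CAlgX.minorIdeal, Ideal.span_eq_bot]
      rintro _ ⟨⟨f, g⟩, rfl⟩
      rcases le_total n m with h | h
      · obtain ⟨i, j, hij, hf⟩ := Fintype.exists_ne_map_eq_of_card_lt f (by simp; omega)
        exact Matrix.det_zero_of_row_eq hij (funext fun l => by simp [hf])
      · obtain ⟨i, j, hij, hg⟩ := Fintype.exists_ne_map_eq_of_card_lt g (by simp; omega)
        exact Matrix.det_zero_of_column_eq hij fun l => by simp [hg]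
    rw [hbot, ringKrullDim_eq_of_ringEquiv (RingEquiv.quotientBot _), MvPolynomial.ringKrullDim_of_isNoetherianRing,
      ringKrullDim_eq_zero_of_field, zero_add, Nat.card_eq_fintype_card, Fintype.card_prod, Fintype.card_fin,
      Fintype.card_fin]
    rcases le_total n m with h | h
    · obtain rfl : r = n := by omega
      rw [show m + r - r = m by omega]
    · obtain rfl : r = m := by omega
      rw [show r + n - r = n by omega, Nat.mul_comm r n]

end Groth.Agent.S10870
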