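import Groth.Statements.S10871
import Mathlib

set_option autoImplicit false
universe u
open AlgebraicGeometry
open Curves

namespace Groth.Agent.S10871

/-- Every open subscheme of the spectrum of a Dedekind domain is affine. -/
theorem result (A : Type u) [CommRing A] [IsDedekindDomain A]
    (U : (Spec (CommRingCat.of A)).Opens) : IsAffineOpen U := by
  classical
  have key : IsAffineHom U.ι := by
    apply isAffineHom_of_forall_exists_isAffineOpen
    intro p
    have hpre : ∀ V : (Spec (CommRingCat.of A)).Opens, IsAffineOpen (U ⊓ V) → IsAffineOpen (U.ι ⁻¹ᵁ V) := by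
      intro V hV
      rw [← Scheme.Hom.isAffineOpen_iff_of_isOpenImmersion (U.ι),
        Scheme.Hom.image_preimage_eq_opensRange_inf, Scheme.Opens.opensRange_ι]
      exact hV
    by_cases hp : p ∈ U
    · obtain ⟨_, ⟨f, rfl⟩, hpf, hfU⟩ :=
        PrimeSpectrum.isTopologicalBasis_basic_opens.exists_subset_of_mem_open hp U.2
      let V : (Spec (CommRingCat.of A)).Opens := PrimeSpectrum.basicOpen f
      have hV : IsAffineOpen V := IsAffineOpen.Spec_basicOpen f
      refine ⟨V, hpf, hV, hpre _ ?_⟩
      rw [inf_eq_right.mpr (show V ≤ U from hfU)]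
      exact hV
    · let I := PrimeSpectrum.vanishingIdeal ((U : Set ↥(Spec (CommRingCat.of A)))ᶜ)
      have hU : ∀ q : PrimeSpectrum A, q ∈ U ↔ ¬ I ≤ q.asIdeal := by
        intro q
        have h1 : PrimeSpectrum.zeroLocus (I : Set A) = ((U : Set ↥(Spec (CommRingCat.of A)))ᶜ) := by
          exact (PrimeSpectrum.zeroLocus_vanishingIdeal_eq_closure _).trans (U.2.isClosed_compl).closure_eq
        have h2 := Set.ext_iff.mp h1 q
        rw [PrimeSpectrum.mem_zeroLocus, SetLike.coe_subset_coe] at h2
        exact not_iff_not.mp (by rw [not_not]; exact h2.symm)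
      have hIp : I ≤ p.asIdeal := by_contra fun h => hp ((hU p).mpr h)
      by_cases hI : I = ⊥
      · refine ⟨⊤, trivial, isAffineOpen_top _, hpre _ ?_⟩
        have : U = ⊥ := by
          ext q
          simp only [SetLike.mem_coe, TopologicalSpace.Opens.coe_bot, Set.mem_empty_iff_false, iff_false]
          exact fun h => (hU q).mp h (hI ▸ bot_le)
        rw [this, bot_inf_eq]
        exact isAffineOpen_bot _
      · have hlt : ¬ I ≤ I * p.asIdeal := by
          intro h
          have : I * p.asIdeal = I * 1 := by
            rw [mul_one]; exact le_antisymm Ideal.mul_le_left h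
          exact p.2.ne_top (by simpa using mul_left_cancel₀ hI this)
        obtain ⟨g, hg, hgp⟩ := SetLike.not_le_iff_exists.mp hlt
        obtain ⟨J, hJ⟩ := Ideal.dvd_iff_le.mpr ((Ideal.span_singleton_le_iff_mem I).mpr hg)
        have hJp : ¬ J ≤ p.asIdeal := fun h => hgp <|
          Ideal.mul_mono_right h (hJ ▸ Ideal.mem_span_singleton_self g)
        obtain ⟨f, hfJ, hfp⟩ := SetLike.not_le_iff_exists.mp hJp
        let V : A → (Spec (CommRingCat.of A)).Opens := fun f => PrimeSpectrum.basicOpen f
        have hV : ∀ f, IsAffineOpen (V f) := fun f => IsAffineOpen.Spec_basicOpen (R := CommRingCat.of A) f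
        refine ⟨V f, hfp, hV f, hpre _ ?_⟩
        have : U ⊓ V f = V (f * g) := by
          ext q
          simp only [SetLike.mem_coe]
          change (q ∈ U ∧ f ∉ q.asIdeal) ↔ f * g ∉ q.asIdeal
          refine (and_congr_left' (hU q)).trans ?_
          constructor
          · rintro ⟨h1, h2⟩ h3
            refine h1 fun x hx => ((q.2.mem_or_mem (?_ : x * f ∈ q.asIdeal))).resolve_right h2
            have : x * f ∈ Ideal.span {g} := hJ ▸ Ideal.mul_mem_mul hx hfJ
            obtain ⟨c, hc⟩ := Ideal.mem_span_singleton.mp this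
            rw [hc]
            exact Ideal.mul_mem_right _ _ ((q.2.mem_or_mem h3).resolve_left h2)
          · intro h
            exact ⟨fun h' => h (Ideal.mul_mem_left _ _ (h' hg)), fun h' => h (Ideal.mul_mem_right _ _ h')⟩
        rw [this]
        exact hV _
  exact isAffine_of_isAffineHom U.ι

end Groth.Agent.S10871
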