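import Groth.Statements.S10879
import Groth.Agent.Flatmor4.FlatBirational

set_option autoImplicit false
universe u
open CategoryTheory AlgebraicGeometry
open FlatMor

namespace Groth.Agent.S10879

/-- Take integral schemes X' and X and a separated surjective morphism f : X' → X which is birational in
the sense that the induced map of function fields (the stalk map of f at the generic point of X') is
an isomorphism, and suppose f is affine (e.g. a normalization) or locally of finite presentation
(e.g. a blow-up of a Noetherian integral scheme). Then f is flat exactly when it is an isomorphism. -/
theorem result {X' X : Scheme.{u}} [IsIntegral X'] [IsIntegral X]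
    (f : X' ⟶ X) [Surjective f] [IsSeparated f] (hK : IsIso (f.stalkMap (genericPoint X')))
    (h : IsAffineHom f ∨ LocallyOfFinitePresentation f) :
    Flat f ↔ IsIso f := by
  refine ⟨fun hf => ?_, fun hf => by infer_instance⟩
  haveI := Groth.Flatmor4.mono_of_flat_birational f hK
  rcases h with h | h
  · exact Flat.isIso_of_surjective_of_mono f
  · haveI := IsOpenImmersion.of_flat_of_mono f
    refine isIso_of_isOpenImmersion_of_opensRange_eq_top f ?_
    exact TopologicalSpace.Opens.ext f.surjective.range_eq

end Groth.Agent.S10879
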