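import Groth.Statements.S10880
import Groth.Agent.FlatMorOne.DVRFibre
import Mathlib.AlgebraicGeometry.Noetherian
import Mathlib.AlgebraicGeometry.FunctionField

set_option autoImplicit false
universe u
open CategoryTheory AlgebraicGeometry
open FlatMor

namespace Groth.Agent.S10880

/-- Let R be a discrete valuation ring and X a locally Noetherian scheme over Spec R whose
scheme-theoretic special fibre is reduced and such that every maximal point of the special fibre
lies in the closure of the generic fibre, i.e. the generic fibre is dense in X. Then X is flat over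
R. -/
theorem result (R : Type u) [CommRing R] [IsDomain R]
    [IsDiscreteValuationRing R] {X : Scheme.{u}} (f : X ⟶ Spec (CommRingCat.of R)) [IsLocallyNoetherian X]
    (hred : IsReduced (f.fiber (IsLocalRing.closedPoint R)))
    (hdense : Dense (f.base ⁻¹' {genericPoint (Spec (CommRingCat.of R))})) : Flat f := by
  obtain ⟨ϖ, hϖ⟩ := IsDiscreteValuationRing.exists_irreducible R
  suffices hA : ∀ {A : CommRingCat.{u}} (j : Spec A ⟶ X) [IsOpenImmersion j], Flat (j ≫ f) by
    refine (IsZariskiLocalAtSource.iff_of_openCover (P := @Flat) X.affineCover).2 fun i => ?_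
    haveI := hA ((X.affineCover.X i).isoSpec.inv ≫ X.affineCover.f i)
    rw [show X.affineCover.f i ≫ f = (X.affineCover.X i).isoSpec.hom ≫
      (((X.affineCover.X i).isoSpec.inv ≫ X.affineCover.f i) ≫ f) by simp]
    infer_instance
  intro A j _
  obtain ⟨φ, hφ⟩ := Spec.map_surjective (j ≫ f)
  rw [← hφ, Flat.SpecMap_iff]
  letI : Algebra R A := φ.hom.toAlgebra
  haveI : IsNoetherianRing A := by
    haveI := isLocallyNoetherian_of_isOpenImmersion j
    exact isLocallyNoetherian_Spec.1 inferInstance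
  have hf : IsReduced ((j ≫ f).fiber (IsLocalRing.closedPoint R)) :=
    Groth.FlatMorOne.isReduced_fiber_of_isOpenImmersion j f _ hred
  rw [← hφ] at hf
  haveI : _root_.IsReduced (TensorProduct R A (IsLocalRing.maximalIdeal R).ResidueField) :=
    Groth.FlatMorOne.isReduced_tensor_residueField_of_fiber (IsLocalRing.closedPoint R) hf
  let t : A := algebraMap R A ϖ
  have hm : (IsLocalRing.maximalIdeal R).map (algebraMap R A) = Ideal.span {t} := by
    rw [hϖ.maximalIdeal_eq, Ideal.map_span, Set.image_singleton]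
  have hradt : ∀ (a : A) (n : ℕ), a ^ n ∈ Ideal.span {t} → a ∈ Ideal.span {t} := fun a n ha => by
    rw [← hm] at ha ⊢
    exact Groth.FlatMorOne.mem_map_of_pow_mem_of_isReduced _ ha
  have hmin : ∀ q ∈ minimalPrimes A, t ∉ q := by
    intro q hq htq
    haveI : q.IsPrime := hq.1.1
    obtain ⟨g, hgq, hg⟩ : ∃ g ∉ q, ∀ q' ∈ minimalPrimes A, q' ≠ q → g ∈ q' := by
      classical
      have hfin : (minimalPrimes A).Finite := minimalPrimes.finite_of_isNoetherianRing A
      have hch : ∀ q' ∈ minimalPrimes A, q' ≠ q → ∃ g ∈ q', g ∉ q := fun q' hq' hne =>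
        Set.not_subset.1 fun hle => hne (le_antisymm hle (hq.2 hq'.1 hle))
      choose! c hc1 hc2 using hch
      refine ⟨∏ q' ∈ hfin.toFinset.erase q, c q', fun h => ?_, fun q' hq' hne => ?_⟩
      · obtain ⟨q', hq', h'⟩ := (‹q.IsPrime›.prod_mem_iff).1 h
        exact hc2 q' (hfin.mem_toFinset.1 (Finset.mem_of_mem_erase hq')) (Finset.ne_of_mem_erase hq') h'
      · obtain ⟨w, hw⟩ := Finset.dvd_prod_of_mem c (Finset.mem_erase.2 ⟨hne, hfin.mem_toFinset.2 hq'⟩)
        rw [hw]
        exact q'.mul_mem_right _ (hc1 q' hq' hne)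
    obtain ⟨_, ⟨p, hp, rfl⟩, hpη⟩ := dense_iff_inter_open.1 hdense _
      (j.isOpenEmbedding.isOpenMap _ (PrimeSpectrum.basicOpen g).isOpen)
      ⟨_, ⟨⟨q, inferInstance⟩, hgq, rfl⟩⟩
    have hp' : g ∉ p.asIdeal := hp
    obtain ⟨q', hq', hle⟩ := Ideal.exists_minimalPrimes_le (bot_le : (⊥ : Ideal A) ≤ p.asIdeal)
    have hqq : q' = q := by
      by_contra hne
      exact hp' (hle (hg q' hq' hne))
    have hη : Spec.map φ p = genericPoint (Spec (CommRingCat.of R)) := by
      rw [hφ]
      exact hpη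
    have hbot : (Spec.map φ p).asIdeal = ⊥ := by
      rw [hη, genericPoint_eq_bot_of_affine]; rfl
    have : ϖ ∈ (Spec.map φ p).asIdeal := hle (hqq ▸ htq : t ∈ q')
    rw [hbot] at this
    exact hϖ.ne_zero ((Submodule.mem_bot _).1 this)
  have hnil : ∀ x ∈ nilradical A, ∃ c ∈ nilradical A, x = t * c := by
    intro x hx
    obtain ⟨n, hn⟩ := hx
    obtain ⟨c, rfl⟩ := Ideal.mem_span_singleton.1 (hradt x n (by rw [hn]; exact zero_mem _))
    refine ⟨c, ?_, rfl⟩
    rw [nilradical, ← Ideal.sInf_minimalPrimes, Ideal.mem_sInf]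
    intro q hq
    haveI : q.IsPrime := hq.1.1
    have h0 : (t * c) ^ n ∈ q := by rw [hn]; exact zero_mem _
    exact (‹q.IsPrime›.mem_or_mem (‹q.IsPrime›.mem_of_pow_mem n h0)).resolve_left (hmin q hq)
  obtain ⟨r, hr, hr0⟩ := Submodule.exists_sub_one_mem_and_smul_eq_zero_of_fg_of_le_smul
    (Ideal.span {t}) (nilradical A) (IsNoetherian.noetherian _) (fun x hx => by
      obtain ⟨c, hc, rfl⟩ := hnil x hx
      exact Submodule.smul_mem_smul (Ideal.mem_span_singleton_self t) hc)
  have hnzd : ∀ a : A, t * a = 0 → a = 0 := by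
    intro a ha
    have han : a ∈ nilradical A := by
      rw [nilradical, ← Ideal.sInf_minimalPrimes, Ideal.mem_sInf]
      intro q hq
      haveI : q.IsPrime := hq.1.1
      exact (‹q.IsPrime›.mem_or_mem (ha ▸ q.zero_mem)).resolve_left (hmin q hq)
    obtain ⟨d, hd⟩ := Ideal.mem_span_singleton.1 hr
    have h := hr0 a han
    rw [smul_eq_mul, show r = 1 + t * d by linear_combination hd] at h
    linear_combination h - d * ha
  show Module.Flat R A
  rw [Module.Flat.flat_iff_torsion_eq_bot_of_isBezout, Submodule.eq_bot_iff]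
  rintro a ⟨⟨s, hs⟩, hsa⟩
  obtain ⟨n, w, rfl⟩ := IsDiscreteValuationRing.eq_unit_mul_pow_irreducible
    (nonZeroDivisors.ne_zero hs) hϖ
  have h1 : algebraMap R A w * t ^ n * a = 0 := by
    rw [← map_pow, ← map_mul, ← Algebra.smul_def]; exact hsa
  rw [mul_assoc, (w.isUnit.map (algebraMap R A)).mul_right_eq_zero] at h1
  clear hsa hs
  induction n with
  | zero => simpa using h1
  | succ n ih => exact ih (hnzd _ (by rw [← mul_assoc, ← pow_succ']; exact h1))

end Groth.Agent.S10880
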