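import Groth.Statements.S10882
import Groth.Agent.Flatmor4.MiracleScheme

set_option autoImplicit false
universe u
open CategoryTheory AlgebraicGeometry
open FlatMor

namespace Groth.Agent.S10882

/-- Let X and Y be schemes locally of finite type over a field k and f : X → Y a k-morphism, with Y
regular (all local rings regular), X Cohen–Macaulay (all local rings Cohen–Macaulay), X
equidimensional of dimension e, Y equidimensional of dimension d ≤ e, and all fibres of f
equidimensional of dimension e − d (every irreducible component of every fibre has dimension e − d).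
Then f is flat. -/
theorem result (k : Type u) [Field k] {X Y : Scheme.{u}}
    (q : Y ⟶ Spec (CommRingCat.of k)) [LocallyOfFiniteType q] (f : X ⟶ Y) [LocallyOfFiniteType (f ≫ q)]
    (hY : ∀ y : Y, IsRegularLocalRing (Y.presheaf.stalk y))
    (hX : ∀ x : X, LocCoh.IsCohenMacaulayLocalRing (X.presheaf.stalk x))
    (e d : ℕ) (hde : d ≤ e)
    (hXe : ∀ Z ∈ irreducibleComponents (X : Type u), topologicalKrullDim Z = e)
    (hYd : ∀ Z ∈ irreducibleComponents (Y : Type u), topologicalKrullDim Z = d)
    (hfib : ∀ y : Y, ∀ Z ∈ irreducibleComponents (f.base ⁻¹' {y}), topologicalKrullDim Z = (e - d : ℕ)) :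
    Flat f := by
  haveI : LocallyOfFiniteType f := locallyOfFiniteType_of_comp f q
  refine Groth.Flatmor4.flat_of_equidim_of_regular q f hY hX (n := e - d) (d := d) (e := e)
    (by omega) (fun η hη => ?_) (fun η hη => ?_)
    (Groth.Flatmor4.fibreDimAt_eq_of_component_dims f hfib)
  · exact WithBot.coe_injective
      ((Groth.Flatmor4.forall_component_dim_iff (fun t => t = (e : WithBot ℕ∞))).mp hXe η hη)
  · exact WithBot.coe_injective
      ((Groth.Flatmor4.forall_component_dim_iff (fun t => t = (d : WithBot ℕ∞))).mp hYd η hη)

end Groth.Agent.S10882
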