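import Groth.Statements.S10883
import Mathlib
import Groth.Agent.Ega41Jac.Zariski

set_option autoImplicit false
universe u
open CAlgX

namespace Groth.DetSmooth65

open Matrix MvPolynomial

theorem det_thin {R : Type*} [CommRing R] {r : ℕ} (U : Matrix (Fin (r + 1)) (Fin r) R)
    (W : Matrix (Fin r) (Fin (r + 1)) R) : (U * W).det = 0 := by
  have h : U * W = (Matrix.of fun i => Fin.cons 0 (U i) : Matrix (Fin (r + 1)) (Fin (r + 1)) R) *
      (Matrix.of (Fin.cons (0 : Fin (r + 1) → R) W)) := by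
    ext i j
    simp [Matrix.mul_apply, Fin.sum_univ_succ]
  rw [h, Matrix.det_mul]
  have : (Matrix.of fun i => Fin.cons 0 (U i) : Matrix (Fin (r + 1)) (Fin (r + 1)) R).det = 0 :=
    Matrix.det_eq_zero_of_column_eq_zero 0 fun i => by simp
  rw [this, zero_mul]

theorem deriv_prod {A R : Type*} [CommRing A] [CommRing R] [Algebra A R] (D : Derivation A R R)
    {ι : Type*} [DecidableEq ι] (s : Finset ι) (f : ι → R) :
    D (∏ i ∈ s, f i) = ∑ i ∈ s, (∏ j ∈ s.erase i, f j) * D (f i) := by
  induction s using Finset.induction_on with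
  | empty => simp
  | insert a s ha ih =>
    rw [Finset.prod_insert ha, Derivation.leibniz, ih, Finset.sum_insert ha, Finset.erase_insert ha,
      smul_eq_mul, smul_eq_mul, Finset.mul_sum, add_comm]
    refine congrArg₂ (· + ·) rfl (Finset.sum_congr rfl fun i hi => ?_)
    rw [Finset.erase_insert_of_ne (fun h => ha (by rw [h]; exact hi)),
      Finset.prod_insert (fun h => ha (Finset.mem_of_mem_erase h)), mul_assoc]

theorem deriv_det {A R : Type*} [CommRing A] [CommRing R] [Algebra A R] (D : Derivation A R R)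
    {ι : Type*} [DecidableEq ι] [Fintype ι] (M : Matrix ι ι R) :
    D M.det = ∑ i, (M.updateCol i fun s => D (M s i)).det := by
  simp only [Matrix.det_apply, map_sum]
  rw [Finset.sum_comm]
  refine Finset.sum_congr rfl fun σ _ => ?_
  rw [← Finset.smul_sum, Units.smul_def, Units.smul_def, map_zsmul, deriv_prod]
  congr 1
  refine Finset.sum_congr rfl fun i _ => ?_
  rw [← Finset.mul_prod_erase Finset.univ _ (Finset.mem_univ i), mul_comm]
  congr 1
  · simp
  · refine Finset.prod_congr rfl fun j hj => ?_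
    rw [Matrix.updateCol_ne (Finset.ne_of_mem_erase hj)]

theorem deriv_minor_mem {A R : Type*} [CommRing A] [CommRing R] [Algebra A R] (D : Derivation A R R)
    {r : ℕ} (M : Matrix (Fin (r + 1)) (Fin (r + 1)) R) (I : Ideal R)
    (h : ∀ i j : Fin (r + 1), (M.submatrix i.succAbove j.succAbove).det ∈ I) : D M.det ∈ I := by
  rw [deriv_det]
  refine sum_mem fun i _ => ?_
  rw [Matrix.det_succ_column _ i]
  refine sum_mem fun s _ => Ideal.mul_mem_left _ _ ?_
  convert h s i using 2
  ext a b
  simp [Matrix.updateCol_ne, Fin.succAbove_ne]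

theorem schur {R : Type*} [CommRing R] {n m r : ℕ} (M : Matrix (Fin n) (Fin m) R) (f : Fin r → Fin n)
    (g : Fin r → Fin m) (hunit : IsUnit (M.submatrix f g).det)
    (h0 : ∀ (f' : Fin (r + 1) → Fin n) (g' : Fin (r + 1) → Fin m), (M.submatrix f' g').det = 0) :
    M.submatrix id g * (M.submatrix f g)⁻¹ * M.submatrix f id = M := by
  ext i j
  let e : Fin r ⊕ Fin 1 ≃ Fin (r + 1) := finSumFinEquiv
  have h1 := h0 (Fin.snoc f i) (Fin.snoc g j)
  rw [← Matrix.det_submatrix_equiv_self e] at h1
  have h2 : ((M.submatrix (Fin.snoc f i) (Fin.snoc g j)).submatrix e e) =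
      Matrix.fromBlocks (M.submatrix f g) (M.submatrix f fun _ => j)
        (M.submatrix (fun _ => i) g) (M.submatrix (fun _ : Fin 1 => i) fun _ : Fin 1 => j) := by
    have hl : ∀ a : Fin r, e (Sum.inl a) = Fin.castSucc a := fun a => rfl
    have hr : ∀ a : Fin 1, e (Sum.inr a) = Fin.last r := fun a => Fin.ext (by simp [e])
    ext (a | a) (b | b) <;> simp [hl, hr]
  letI := (M.submatrix f g).invertibleOfIsUnitDet hunit
  rw [h2, Matrix.det_fromBlocks₁₁] at h1
  have h3 := (hunit.mul_right_eq_zero).mp h1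
  rw [Matrix.det_fin_one, Matrix.invOf_eq_nonsing_inv] at h3
  simp only [Matrix.sub_apply, Matrix.submatrix_apply, sub_eq_zero] at h3
  rw [h3]
  simp [Matrix.mul_apply]

theorem minorIdeal_le_iff {R S : Type u} [CommRing R] [CommRing S] (ψ : R →+* S) {n m : ℕ}
    (M : Matrix (Fin n) (Fin m) R) (s : ℕ) (J : Ideal S) :
    (CAlgX.minorIdeal M s).map ψ ≤ J ↔
      ∀ (f : Fin s → Fin n) (g : Fin s → Fin m), ((M.map ψ).submatrix f g).det ∈ J := by
  rw [CAlgX.minorIdeal, Ideal.map_span, Ideal.span_le, ← Set.range_comp, Set.range_subset_iff, Prod.forall]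
  refine forall₂_congr fun f g => ?_
  rw [Function.comp_apply, RingHom.map_det, RingHom.mapMatrix_apply, Matrix.submatrix_map]
  rfl

noncomputable section

variable (k : Type u) [Field k] (n m r : ℕ)

abbrev XM : Matrix (Fin n) (Fin m) (MvPolynomial (Fin n × Fin m) k) := Matrix.of fun i j => X (i, j)

abbrev J0 : Ideal (MvPolynomial (Fin n × Fin m) k) := CAlgX.minorIdeal (XM k n m) (r + 1)

theorem J0_ne_bot (hr : r < min n m) : J0 k n m r ≠ ⊥ := fun h => by
  let f : Fin (r + 1) → Fin n := fun a => ⟨a.1, by omega⟩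
  let g : Fin (r + 1) → Fin m := fun a => ⟨a.1, by omega⟩
  have h1 : ((XM k n m).submatrix f g).det ∈ J0 k n m r := Ideal.subset_span ⟨(f, g), rfl⟩
  rw [h, Ideal.mem_bot] at h1
  have h2 := congrArg (MvPolynomial.eval fun x : Fin n × Fin m => if x.1.1 = x.2.1 then (1 : k) else 0) h1
  rw [RingHom.map_det, map_zero] at h2
  have h3 : (MvPolynomial.eval fun x : Fin n × Fin m => if x.1.1 = x.2.1 then (1 : k) else 0).mapMatrix
      ((XM k n m).submatrix f g) = (1 : Matrix (Fin (r + 1)) (Fin (r + 1)) k) := by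
    ext a b
    simp [XM, f, g, Matrix.one_apply, Fin.ext_iff]
  rw [h3, Matrix.det_one] at h2
  exact one_ne_zero h2

theorem not_smooth (hr : r < min n m) (q : Ideal (MvPolynomial (Fin n × Fin m) k)) [q.IsPrime]
    (hq : CAlgX.minorIdeal (XM k n m) r ≤ q) (hJq : J0 k n m r ≤ q)
    [(q.map (Ideal.Quotient.mk (J0 k n m r))).IsPrime] :
    ¬ Algebra.FormallySmooth k (Localization.AtPrime (q.map (Ideal.Quotient.mk (J0 k n m r)))) := by
  rw [Groth.Ega41Jac.formallySmooth_localization_iff_exists_det hJq]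
  rintro ⟨e, f, D, hf, hspan, hdet⟩
  obtain _ | e := e
  · refine J0_ne_bot k n m r hr (eq_bot_iff.mpr fun x hx => ?_)
    have h1 := Ideal.mem_map_of_mem (algebraMap (MvPolynomial (Fin n × Fin m) k) (Localization.AtPrime q)) hx
    rw [hspan, Set.range_eq_empty, Ideal.span_empty, Ideal.mem_bot] at h1
    exact (IsLocalization.to_map_eq_zero_iff _ q.primeCompl_le_nonZeroDivisors).mp h1
  · have hD : ∀ (j : Fin (e + 1)) x, x ∈ J0 k n m r → D j x ∈ q := fun j x hx => by
      induction hx using Submodule.span_induction with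
      | mem x hx =>
        obtain ⟨⟨f', g'⟩, rfl⟩ := hx
        refine deriv_minor_mem (D j) _ q fun a b => hq (Ideal.subset_span ⟨(f' ∘ a.succAbove, g' ∘ b.succAbove), ?_⟩)
        rw [Matrix.submatrix_submatrix]
      | zero => simp
      | add x y _ _ hx hy => rw [map_add]; exact q.add_mem hx hy
      | smul c x hx ih =>
        rw [smul_eq_mul, Derivation.leibniz, smul_eq_mul, smul_eq_mul]
        exact q.add_mem (q.mul_mem_left _ ih) (q.mul_mem_right _ (hJq hx))
    refine hdet ?_
    rw [Matrix.det_succ_column _ 0]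
    exact sum_mem fun i _ => q.mul_mem_right _ (q.mul_mem_left _ (hD 0 _ (hf i)))

variable {n m r} (f : Fin r → Fin n) (g : Fin r → Fin m)

abbrev Var : Type := {x : Fin n × Fin m // x.1 ∈ Set.range f ∨ x.2 ∈ Set.range g}

abbrev Sub : Matrix (Fin r) (Fin r) (MvPolynomial (Var f g) k) :=
  Matrix.of fun a b => X ⟨(f a, g b), .inl ⟨a, rfl⟩⟩

abbrev Chart : Type u := Localization.Away (Sub k f g).det

/-- The chart's coordinate ring entries. -/
def ch (v : Var f g) : Chart k f g := algebraMap (MvPolynomial (Var f g) k) (Chart k f g) (X v)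

def A0 : Matrix (Fin r) (Fin r) (Chart k f g) := Matrix.of fun a b => ch k f g ⟨(f a, g b), .inl ⟨a, rfl⟩⟩

def R0 : Matrix (Fin n) (Fin r) (Chart k f g) := Matrix.of fun i b => ch k f g ⟨(i, g b), .inr ⟨b, rfl⟩⟩

def C0 : Matrix (Fin r) (Fin m) (Chart k f g) := Matrix.of fun a j => ch k f g ⟨(f a, j), .inl ⟨a, rfl⟩⟩

def Y : Matrix (Fin n) (Fin m) (Chart k f g) := R0 k f g * (A0 k f g)⁻¹ * C0 k f g

theorem isUnit_A0 : IsUnit (A0 k f g).det := by
  have : (A0 k f g).det = algebraMap (MvPolynomial (Var f g) k) (Chart k f g) (Sub k f g).det := by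
    rw [RingHom.map_det]; rfl
  rw [this]
  exact IsLocalization.Away.algebraMap_isUnit _

theorem Y_row (a : Fin r) (j : Fin m) : Y k f g (f a) j = C0 k f g a j := by
  have h : (Y k f g).submatrix f id = C0 k f g := by
    rw [show (Y k f g).submatrix f id = A0 k f g * (A0 k f g)⁻¹ * C0 k f g from rfl,
      Matrix.mul_nonsing_inv _ (isUnit_A0 k f g), Matrix.one_mul]
  exact congrFun₂ h a j

theorem Y_col (i : Fin n) (b : Fin r) : Y k f g i (g b) = R0 k f g i b := by
  have h : (Y k f g).submatrix id g = R0 k f g := by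
    rw [show (Y k f g).submatrix id g = R0 k f g * (A0 k f g)⁻¹ * A0 k f g from rfl, Matrix.mul_assoc,
      Matrix.nonsing_inv_mul _ (isUnit_A0 k f g), Matrix.mul_one]
  exact congrFun₂ h i b

def φ0 : MvPolynomial (Fin n × Fin m) k →ₐ[k] Chart k f g := aeval fun x => Y k f g x.1 x.2

theorem φ0_minor {s : ℕ} (f' : Fin s → Fin n) (g' : Fin s → Fin m) :
    φ0 k f g ((XM k n m).submatrix f' g').det = ((Y k f g).submatrix f' g').det := by
  rw [AlgHom.map_det]
  congr 1
  ext a b
  simp [φ0, XM]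

theorem φ0_J0 (x : MvPolynomial (Fin n × Fin m) k) (hx : x ∈ J0 k n m r) : φ0 k f g x = 0 := by
  have hle : J0 k n m r ≤ RingHom.ker (φ0 k f g).toRingHom := by
    rw [J0, CAlgX.minorIdeal, Ideal.span_le, Set.range_subset_iff]
    rintro ⟨f', g'⟩
    simp only [SetLike.mem_coe, RingHom.mem_ker, AlgHom.toRingHom_eq_coe, RingHom.coe_coe, φ0_minor, Y]
    rw [show (R0 k f g * (A0 k f g)⁻¹ * C0 k f g).submatrix f' g' =
      (R0 k f g * (A0 k f g)⁻¹).submatrix f' id * (C0 k f g).submatrix id g' from rfl]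
    exact det_thin _ _
  exact hle hx

abbrev delta : MvPolynomial (Fin n × Fin m) k ⧸ J0 k n m r :=
  Ideal.Quotient.mk (J0 k n m r) ((XM k n m).submatrix f g).det

abbrev Loc : Type u := Localization.Away (delta k f g)

def φ : (MvPolynomial (Fin n × Fin m) k ⧸ J0 k n m r) →ₐ[k] Chart k f g :=
  Ideal.Quotient.liftₐ _ (φ0 k f g) (φ0_J0 k f g)

theorem φ_delta : IsUnit (φ k f g (delta k f g)) := by
  have h : (Y k f g).submatrix f g = A0 k f g := Matrix.ext fun a b => Y_row k f g a (g b)
  show IsUnit (φ0 k f g ((XM k n m).submatrix f g).det)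
  rw [φ0_minor, h]
  exact isUnit_A0 k f g

def qmap : MvPolynomial (Fin n × Fin m) k →ₐ[k] Loc k f g :=
  (IsScalarTower.toAlgHom k (MvPolynomial (Fin n × Fin m) k ⧸ J0 k n m r) (Loc k f g)).comp
    (Ideal.Quotient.mkₐ k _)

def Φ : Loc k f g →ₐ[k] Chart k f g := IsLocalization.Away.liftAlgHom (delta k f g) (φ_delta k f g)

theorem Φ_qmap (x : MvPolynomial (Fin n × Fin m) k) : Φ k f g (qmap k f g x) = φ0 k f g x :=
  IsLocalization.Away.lift_eq (delta k f g) (φ_delta k f g) (Ideal.Quotient.mk (J0 k n m r) x)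

def ψ0 : MvPolynomial (Var f g) k →ₐ[k] Loc k f g := aeval fun v => qmap k f g (X v.1)

theorem ψ0_Sub : IsUnit (ψ0 k f g (Sub k f g).det) := by
  have : ψ0 k f g (Sub k f g).det = qmap k f g ((XM k n m).submatrix f g).det := by
    rw [AlgHom.map_det, AlgHom.map_det]
    congr 1
    ext a b
    simp [ψ0, XM]
  rw [this]
  exact IsLocalization.Away.algebraMap_isUnit (delta k f g)

def Ψ : Chart k f g →ₐ[k] Loc k f g := IsLocalization.Away.liftAlgHom (Sub k f g).det (ψ0_Sub k f g)

theorem Ψ_ch (v : Var f g) : Ψ k f g (ch k f g v) = qmap k f g (X v.1) :=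
  (IsLocalization.Away.lift_eq (Sub k f g).det (ψ0_Sub k f g) (X v)).trans (aeval_X _ v)

theorem qmap_minor {s : ℕ} (f' : Fin s → Fin n) (g' : Fin s → Fin m) :
    ((Matrix.of fun i j => qmap k f g (X (i, j))).submatrix f' g').det =
      qmap k f g ((XM k n m).submatrix f' g').det := by
  rw [AlgHom.map_det]
  rfl

theorem map_nonsing {R S : Type*} [CommRing R] [CommRing S] (ψ : R →+* S) {n m r : ℕ}
    (A : Matrix (Fin n) (Fin r) R) (B : Matrix (Fin r) (Fin r) R) (C : Matrix (Fin r) (Fin m) R)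
    (hB : IsUnit B.det) : (A * B⁻¹ * C).map ψ = A.map ψ * (B.map ψ)⁻¹ * C.map ψ := by
  rw [Matrix.map_mul, Matrix.map_mul]
  congr 2
  refine (Matrix.inv_eq_right_inv ?_).symm
  rw [← Matrix.map_mul, Matrix.mul_nonsing_inv _ hB, Matrix.map_one _ (map_zero ψ) (map_one ψ)]

theorem qzero {s : ℕ} (f' : Fin (s + 1) → Fin n) (g' : Fin (s + 1) → Fin m) :
    Ideal.Quotient.mk (J0 k n m s) ((XM k n m).submatrix f' g').det = 0 :=
  Ideal.Quotient.eq_zero_iff_mem.mpr (Ideal.subset_span ⟨(f', g'), rfl⟩)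

theorem Ψ_Y (i : Fin n) (j : Fin m) : Ψ k f g (Y k f g i j) = qmap k f g (X (i, j)) := by
  let M : Matrix (Fin n) (Fin m) (Loc k f g) := Matrix.of fun i j => qmap k f g (X (i, j))
  have hu : IsUnit (M.submatrix f g).det := by
    rw [qmap_minor]
    exact IsLocalization.Away.algebraMap_isUnit (delta k f g)
  have hM : M.submatrix id g * (M.submatrix f g)⁻¹ * M.submatrix f id = M := by
    refine schur M f g hu fun f' g' => ?_
    rw [qmap_minor]
    show algebraMap (MvPolynomial (Fin n × Fin m) k ⧸ J0 k n m r) (Loc k f g)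
      (Ideal.Quotient.mk (J0 k n m r) ((XM k n m).submatrix f' g').det) = 0
    rw [qzero k f' g', map_zero]
  have hA : (A0 k f g).map (Ψ k f g) = M.submatrix f g := Matrix.ext fun a b => Ψ_ch k f g _
  have hR : (R0 k f g).map (Ψ k f g) = M.submatrix id g := Matrix.ext fun i b => Ψ_ch k f g _
  have hC : (C0 k f g).map (Ψ k f g) = M.submatrix f id := Matrix.ext fun a j => Ψ_ch k f g _
  have h1 := map_nonsing (Ψ k f g).toRingHom (R0 k f g) (A0 k f g) (C0 k f g) (isUnit_A0 k f g)
  simp only [AlgHom.toRingHom_eq_coe, RingHom.coe_coe, hA, hR, hC] at h1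
  exact congrFun₂ (h1.trans hM) i j

theorem formallySmooth_chart : Algebra.FormallySmooth k (Loc k f g) := by
  haveI : Algebra.FormallySmooth (MvPolynomial (Var f g) k) (Chart k f g) :=
    Algebra.FormallySmooth.of_isLocalization (Submonoid.powers (Sub k f g).det)
  haveI : Algebra.FormallySmooth k (Chart k f g) :=
    Algebra.FormallySmooth.comp k (MvPolynomial (Var f g) k) (Chart k f g)
  refine Algebra.FormallySmooth.of_equiv (AlgEquiv.ofAlgHom (Ψ k f g) (Φ k f g) ?_ ?_)
  · refine IsLocalization.algHom_ext (Submonoid.powers (delta k f g)) ?_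
    refine Ideal.Quotient.algHom_ext _ (MvPolynomial.algHom_ext fun x => ?_)
    show Ψ k f g (Φ k f g (qmap k f g (X x))) = qmap k f g (X x)
    rw [Φ_qmap, φ0, aeval_X]
    exact Ψ_Y k f g x.1 x.2
  · refine IsLocalization.algHom_ext (Submonoid.powers (Sub k f g).det) ?_
    refine MvPolynomial.algHom_ext fun v => ?_
    show Φ k f g (Ψ k f g (ch k f g v)) = ch k f g v
    rw [Ψ_ch, Φ_qmap, φ0, aeval_X]
    obtain ⟨⟨i, j⟩, hv⟩ := v
    simp only at hv ⊢
    obtain ⟨a, ha⟩ | ⟨b, hb⟩ := id hv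
    · subst ha; exact Y_row k f g a j
    · subst hb; exact Y_col k f g i b

end

end Groth.DetSmooth65

namespace Groth.Agent.S10883

/-- Let k be a field and 0 < r < min(n, m), and let B be the coordinate ring of the affine determinantal
scheme of n × m matrices of rank at most r over k (polynomial ring on the entries of the generic
matrix modulo its (r+1) × (r+1) minors). A prime P of B is a smooth point over k (the localization
B_P is formally smooth over k) exactly when it corresponds to a matrix of rank exactly r, i.e. when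
P does not contain the image of the ideal generated by the r × r minors. -/
theorem result (k : Type u) [Field k] (n m r : ℕ) (hr0 : 0 < r)
    (hr : r < min n m)
    (P : PrimeSpectrum (MvPolynomial (Fin n × Fin m) k ⧸ CAlgX.minorIdeal (Matrix.of fun (i : Fin n) (j : Fin m) => (MvPolynomial.X (i, j) : MvPolynomial (Fin n × Fin m) k)) (r + 1))) :
    P ∈ Algebra.smoothLocus k (MvPolynomial (Fin n × Fin m) k ⧸ CAlgX.minorIdeal (Matrix.of fun (i : Fin n) (j : Fin m) => (MvPolynomial.X (i, j) : MvPolynomial (Fin n × Fin m) k)) (r + 1)) ↔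
      ¬ (CAlgX.minorIdeal (Matrix.of fun (i : Fin n) (j : Fin m) => (MvPolynomial.X (i, j) : MvPolynomial (Fin n × Fin m) k)) r).map
          (Ideal.Quotient.mk (CAlgX.minorIdeal (Matrix.of fun (i : Fin n) (j : Fin m) => (MvPolynomial.X (i, j) : MvPolynomial (Fin n × Fin m) k)) (r + 1))) ≤ P.asIdeal := by
  rw [Groth.DetSmooth65.minorIdeal_le_iff]
  constructor
  · intro hP h
    let q := P.asIdeal.comap (Ideal.Quotient.mk (Groth.DetSmooth65.J0 k n m r))
    have hmap : q.map (Ideal.Quotient.mk (Groth.DetSmooth65.J0 k n m r)) = P.asIdeal :=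
      Ideal.map_comap_of_surjective _ Ideal.Quotient.mk_surjective _
    haveI hmp : (q.map (Ideal.Quotient.mk (Groth.DetSmooth65.J0 k n m r))).IsPrime := by
      rw [hmap]; exact P.2
    refine Groth.DetSmooth65.not_smooth k n m r hr q ?_ ?_ ?_
    · exact Ideal.map_le_iff_le_comap.mp ((Groth.DetSmooth65.minorIdeal_le_iff _ _ _ _).mpr h)
    · intro x hx
      show Ideal.Quotient.mk _ x ∈ P.asIdeal
      rw [Ideal.Quotient.eq_zero_iff_mem.mpr hx]
      exact P.asIdeal.zero_mem
    · have hP' : (⟨_, hmp⟩ : PrimeSpectrum _) ∈ Algebra.smoothLocus k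
          (MvPolynomial (Fin n × Fin m) k ⧸ Groth.DetSmooth65.J0 k n m r) := by
        rw [show (⟨_, hmp⟩ : PrimeSpectrum _) = P from PrimeSpectrum.ext hmap]
        exact hP
      exact hP'
  · intro h
    simp only [not_forall] at h
    obtain ⟨f, g, hfg⟩ := h
    haveI : Algebra.FinitePresentation k
        (MvPolynomial (Fin n × Fin m) k ⧸ Groth.DetSmooth65.J0 k n m r) :=
      Algebra.FinitePresentation.quotient (IsNoetherian.noetherian _)
    refine (Algebra.basicOpen_subset_smoothLocus_iff (f := Ideal.Quotient.mk (Groth.DetSmooth65.J0 k n m r)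
      ((Groth.DetSmooth65.XM k n m).submatrix f g).det)).mpr
        (Groth.DetSmooth65.formallySmooth_chart k f g) ?_
    show Ideal.Quotient.mk _ _ ∉ P.asIdeal
    rw [RingHom.map_det]
    exact hfg

end Groth.Agent.S10883
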