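import Groth.Statements.S10884
import Mathlib
import Groth.Agent.Variety2.DimFiber

set_option autoImplicit false
universe u
open CategoryTheory AlgebraicGeometry
open Variety

namespace Groth.Agent.S10884

/-- Let Y be a scheme of finite type over a field k and f : X → Y a dominant morphism of finite type all
of whose non-empty fibres have dimension r. Then dim X = r + dim Y. -/
theorem result (k : Type u) [Field k] {X Y : Scheme.{u}}
    (q : Y ⟶ Spec (CommRingCat.of k)) [LocallyOfFiniteType q] [QuasiCompact q]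
    (f : X ⟶ Y) [LocallyOfFiniteType f] [QuasiCompact f] (hdom : DenseRange f.base) (r : ℕ)
    (hfib : ∀ y : Y, (f.base ⁻¹' {y}).Nonempty → topologicalKrullDim (f.base ⁻¹' {y}) = r) :
    topologicalKrullDim X = (r : WithBot ℕ∞) + topologicalKrullDim Y := by
  let p := f ≫ q
  have := Groth.Variety2.Dim.noetherianSpace_of q
  have := Groth.Variety2.Dim.noetherianSpace_of p
  refine le_antisymm ?_ ?_
  · rw [Groth.Variety2.Dim.dim_eq_iSup_height X]
    refine iSup_le fun x => ?_
    have h := Groth.Variety2.Dim.height_le_add_dim_preimage p q f rfl r x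
      (by rw [hfib (f x) ⟨x, rfl⟩]; rfl)
    refine (WithBot.coe_le_coe.2 h).trans ?_
    rw [WithBot.coe_add, add_comm]
    exact add_le_add le_rfl (by
      rw [Groth.Variety2.Dim.dim_eq_iSup_height Y]
      exact le_iSup (fun y : Y => ((Order.height y : ℕ∞) : WithBot ℕ∞)) (f x))
  · refine Groth.Variety2.Dim.add_dim_le fun y => ?_
    obtain ⟨S, hSf, hSc, hSi, hS⟩ := TopologicalSpace.NoetherianSpace.exists_finite_set_isClosed_irreducible
      (s := (Set.univ : Set X)) isClosed_univ
    have hy : y ∈ ⋃ T ∈ S, closure (f '' T) := by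
      refine closure_minimal ?_ (hSf.isClosed_biUnion fun T _ => isClosed_closure) (hdom y)
      rintro _ ⟨x, rfl⟩
      obtain ⟨T, hT, hxT⟩ : x ∈ ⋃₀ S := hS ▸ trivial
      exact Set.mem_biUnion hT (subset_closure ⟨x, hxT, rfl⟩)
    obtain ⟨T, hT, hyT⟩ := Set.mem_iUnion₂.1 hy
    let ξ := (hSi T hT).genericPoint
    have hξ : IsGenericPoint ξ T := by
      simpa [(hSc T hT).closure_eq] using (hSi T hT).isGenericPoint_genericPoint_closure
    have hfy : f ξ ⤳ y := by
      refine specializes_iff_mem_closure.2 (closure_minimal ?_ isClosed_closure hyT)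
      rintro _ ⟨x, hx, rfl⟩
      exact specializes_iff_mem_closure.1 ((hξ.specializes hx).map f.continuous)
    obtain ⟨z, hz, hzh⟩ := Groth.Variety2.Dim.exists_add_le_height p q f rfl r (f ξ)
      (hfib (f ξ) ⟨ξ, rfl⟩).ge
    rw [Groth.Variety2.Dim.dim_eq_iSup_height X]
    refine le_iSup_of_le z (WithBot.coe_le_coe.2 ?_)
    rw [add_comm]
    exact (add_le_add (Order.height_mono (Scheme.le_iff_specializes.2 hfy)) le_rfl).trans hzh

end Groth.Agent.S10884
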