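import Groth.Statements.S10885
import Mathlib
import Groth.Agent.Variety2.DimFiber

set_option autoImplicit false
universe u
open CategoryTheory AlgebraicGeometry
open Variety

namespace Groth.Agent.S10885

/-- Let Y be a scheme of finite type over a field k, r ≥ 0, and f : X → Y a morphism of finite type
whose fibre over every maximal point of Y has dimension at least r. Then dim X ≥ r + dim Y. -/
theorem result (k : Type u) [Field k] {X Y : Scheme.{u}}
    (q : Y ⟶ Spec (CommRingCat.of k)) [LocallyOfFiniteType q] [QuasiCompact q]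
    (f : X ⟶ Y) [LocallyOfFiniteType f] [QuasiCompact f] (r : ℕ)
    (hfib : ∀ η : Y, (∀ y : Y, y ⤳ η → y = η) → (r : WithBot ℕ∞) ≤ topologicalKrullDim (f.base ⁻¹' {η})) :
    (r : WithBot ℕ∞) + topologicalKrullDim Y ≤ topologicalKrullDim X := by
  let p := f ≫ q
  refine Groth.Variety2.Dim.add_dim_le fun y => ?_
  have := Groth.Variety2.Dim.noetherianSpace_of q
  obtain ⟨S, hSf, hSc, hSi, hS⟩ := TopologicalSpace.NoetherianSpace.exists_finite_set_isClosed_irreducible
    (s := (Set.univ : Set Y)) isClosed_univ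
  obtain ⟨T, ⟨hT, hyT⟩, hTmax⟩ := (hSf.subset (fun T h => h.1 : {T ∈ S | y ∈ T} ⊆ S)).exists_maximal
    (by obtain ⟨T, hT, hyT⟩ : y ∈ ⋃₀ S := hS ▸ trivial
        exact ⟨T, hT, hyT⟩)
  let η := (hSi T hT).genericPoint
  have hη : IsGenericPoint η T := by
    simpa [(hSc T hT).closure_eq] using (hSi T hT).isGenericPoint_genericPoint_closure
  have hmax : ∀ z : Y, z ⤳ η → z = η := by
    intro z hz
    obtain ⟨T', hT', hzT'⟩ : z ∈ ⋃₀ S := hS ▸ trivial
    have h1 : η ∈ T' := hz.mem_closed (hSc T' hT') hzT'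
    have h2 : T ⊆ T' := fun w hw => (hη.specializes hw).mem_closed (hSc T' hT') h1
    have h3 := hTmax ⟨hT', h2 hyT⟩ h2
    exact (hz.antisymm (hη.specializes (h3 hzT'))).eq
  obtain ⟨z, hz, hzh⟩ := Groth.Variety2.Dim.exists_add_le_height p q f rfl r η (hfib η hmax)
  rw [Groth.Variety2.Dim.dim_eq_iSup_height X]
  refine le_iSup_of_le z (WithBot.coe_le_coe.2 ?_)
  rw [add_comm]
  exact (add_le_add (Order.height_mono (Scheme.le_iff_specializes.2 (hη.specializes hyT))) le_rfl).trans hzh

end Groth.Agent.S10885
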