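import Groth.Statements.S10886
import Mathlib
import Groth.Agent.Curves1.DimOne

set_option autoImplicit false
universe u
open CategoryTheory AlgebraicGeometry
open Curves

namespace Groth.Agent.S10886

/-- In an irreducible Noetherian scheme of dimension one every constructible subset is either a finite
set of closed points or the complement of such a set; in particular it is open or closed. -/
theorem result {X : Scheme.{u}} [IsNoetherian X]
    [IrreducibleSpace X] (hX : topologicalKrullDim X = 1) (s : Set X) (hs : Topology.IsConstructible s) :
    (s.Finite ∧ (∀ x ∈ s, IsClosed ({x} : Set X))) ∨ (sᶜ.Finite ∧ ∀ x ∈ sᶜ, IsClosed ({x} : Set X)) := by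
  have key : (s.Finite ∧ (∀ x ∈ s, IsClosed ({x} : Set X))) ∨
      (sᶜ.Finite ∧ ∀ x ∈ sᶜ, IsClosed ({x} : Set X)) := by
    induction hs using Topology.IsConstructible.empty_union_induction with
    | open_retrocompact U hU _ =>
      by_cases hne : U = ∅
      · left; subst hne; simp
      · exact Or.inr (Groth.Curves1.finite_of_isClosed hX.le hU.isClosed_compl
          (fun e => hne (Set.compl_univ_iff.mp e)))
    | union s t hs ht ihs iht =>
      rcases ihs with ⟨h1, h1'⟩ | ⟨h1, h1'⟩
      · rcases iht with ⟨h2, h2'⟩ | ⟨h2, h2'⟩
        · exact Or.inl ⟨h1.union h2, fun x hx => hx.elim (h1' x) (h2' x)⟩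
        · exact Or.inr ⟨h2.subset (Set.compl_subset_compl.mpr Set.subset_union_right),
            fun x hx => h2' x (fun h => hx (Or.inr h))⟩
      · exact Or.inr ⟨h1.subset (Set.compl_subset_compl.mpr Set.subset_union_left),
          fun x hx => h1' x (fun h => hx (Or.inl h))⟩
    | compl s hs ihs =>
      rw [compl_compl]; exact ihs.symm
  exact key

end Groth.Agent.S10886
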