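import Groth.Statements.S10889
import Groth.Agent.FibreDim.Constructible
import Mathlib.AlgebraicGeometry.ZariskisMainTheorem

set_option autoImplicit false
universe u
open CategoryTheory AlgebraicGeometry
open FlatMor

namespace Groth.Agent.S10889

/-- Let f : X → Y be proper, flat and of finite presentation, and let V be the set of points of Y whose
fibre is (non-empty and) zero-dimensional. Then V is a clopen subset of Y, and over every open
subset of V the restriction of f is finite, hence finite locally free. -/
theorem result {X Y : Scheme.{u}} (f : X ⟶ Y) [IsProper f] [Flat f]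
    [LocallyOfFinitePresentation f] :
    IsClopen {y : Y | topologicalKrullDim (f.base ⁻¹' {y}) = 0} ∧
      ∀ U : Y.Opens, (U : Set Y) ⊆ {y : Y | topologicalKrullDim (f.base ⁻¹' {y}) = 0} → IsFinite (f ∣_ U) := by
  open Groth.FibreDim TopologicalSpace Topology in
    simp_rw [Groth.Variety2.Dim.dim_preimage_singleton]
    have hopen0 : IsOpen {y : Y | ⊥ < topologicalKrullDim ↥(f.fiber y)} := isOpen_lt_dim_fiber f ⊥
    have hclopen : IsClopen {y : Y | topologicalKrullDim ↥(f.fiber y) = 0} := by
      constructor
      · rw [← isOpen_compl_iff]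
        convert (isOpen_dim_fiber_le f f.isClosedMap ⊥).union (isOpen_lt_dim_fiber f 0) using 1
        ext y
        simp only [Set.mem_compl_iff, Set.mem_setOf_eq, Set.mem_union]
        generalize topologicalKrullDim ↥(f.fiber y) = d
        cases d with
        | bot => simp
        | coe d => simp [pos_iff_ne_zero]
      · convert hopen0.inter (isOpen_dim_fiber_le f f.isClosedMap 0) using 1
        ext y
        simp only [Set.mem_setOf_eq, Set.mem_inter_iff]
        generalize topologicalKrullDim ↥(f.fiber y) = d
        cases d with
        | bot => simp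
        | coe d => simp
    refine ⟨hclopen, fun U hU => ?_⟩
    have : LocallyQuasiFinite (f ∣_ U) := by
      refine locallyQuasiFinite_iff_isDiscrete_preimage_singleton.2 fun u => ?_
      have h0 : topologicalKrullDim ↥(f.fiber (U.ι u)) ≤ 0 := (hU u.2).le
      have : IsLocallyNoetherian (f.fiber (U.ι u)) :=
        LocallyOfFiniteType.isLocallyNoetherian (f.fiberToSpecResidueField _)
      have : IsNoetherian (f.fiber (U.ι u)) := ⟨⟩
      obtain ⟨_, hdisc⟩ := Groth.SpectralTopology.finite_discrete_of_dim_nonpos h0
      have hd : _root_.IsDiscrete (f.base ⁻¹' {U.ι u}) := by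
        rw [← f.range_fiberι, ← Set.image_univ]
        exact (isDiscrete_univ_iff.mpr hdisc).image (f.fiberι _).isEmbedding.toIsInducing
      refine ((hd.preimage (f ⁻¹ᵁ U).ι.continuous.continuousOn (f ⁻¹ᵁ U).ι.isEmbedding.injective)).mono ?_
      intro v (hv : (f ∣_ U) v = u)
      show f.base ((f ⁻¹ᵁ U).ι v) = U.ι u
      rw [← Scheme.Hom.comp_apply, ← morphismRestrict_ι, Scheme.Hom.comp_apply, hv]
    exact IsFinite.of_isProper_of_locallyQuasiFinite (f ∣_ U)

end Groth.Agent.S10889
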