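import Groth.Statements.S10890
import Groth.Agent.Calg8.SplitMatrix

set_option autoImplicit false
universe u
open CAlgX

namespace Groth.Agent.S10890

/-- (i) ⇔ (ii): let R be a local ring, A an n × m matrix over R regarded as a linear map R^m → R^n, and
1 ≤ r ≤ n. Then the image of A is a direct summand of R^n of rank r if and only if every (r+1) ×
(r+1) minor of A is zero and the r × r minors of A generate the unit ideal. (The printed statement
is over an arbitrary ring with 'direct summand of rank r'; its proof localises at once, and this row
states the local case, where a direct summand of R^n is free and its rank is its finrank.) -/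
theorem result (R : Type u) [CommRing R] [IsLocalRing R] (n m r : ℕ)
    (hr : 1 ≤ r) (hrn : r ≤ n) (A : Matrix (Fin n) (Fin m) R) :
    (∃ N' : Submodule R (Fin n → R), IsCompl (LinearMap.range (Matrix.mulVecLin A)) N' ∧
        Module.finrank R (LinearMap.range (Matrix.mulVecLin A)) = r) ↔
      (CAlgX.minorIdeal A (r + 1) = ⊥ ∧ CAlgX.minorIdeal A r = ⊤) := by
  classical
  constructor
  · rintro ⟨N, hc, hrank⟩
    let K := LinearMap.range A.mulVecLin
    let p : (Fin n → R) →ₗ[R] K := K.projectionOnto N hc
    have hp : p ∘ₗ K.subtype = LinearMap.id := LinearMap.ext fun y => Submodule.projectionOnto_apply_left hc y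
    have : Module.Finite R K := Module.Finite.range A.mulVecLin
    have : Module.Projective R K := Module.Projective.of_split K.subtype p hp
    have : Module.Free R K := Module.free_of_flat_of_isLocalRing
    exact Groth.Calg8.SplitMatrix.minorIdeal_of_split A N hc (Module.finBasisOfFinrankEq R _ hrank)
  · rintro ⟨hb, ht⟩
    obtain ⟨⟨π, hπK, hπ⟩, ⟨e⟩, -, -, -⟩ := Groth.Calg8.SplitMatrix.constantRank A hb ht
    refine ⟨LinearMap.ker π, ⟨?_, ?_⟩, ?_⟩
    · rw [Submodule.disjoint_def]
      intro y hy hy'
      rw [← hπ y hy]
      exact hy'
    · rw [codisjoint_iff, eq_top_iff]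
      intro v _
      exact Submodule.mem_sup.2 ⟨π v, hπK v, v - π v,
        by rw [LinearMap.mem_ker, map_sub, hπ _ (hπK v), sub_self], add_sub_cancel _ _⟩
    · rw [e.finrank_eq, Module.finrank_fin_fun]

end Groth.Agent.S10890
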