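import Groth.Statements.S10891
import Mathlib.Tactic
import Mathlib.RingTheory.RootsOfUnity.PrimitiveRoots
import Mathlib.Algebra.MvPolynomial.Eval

set_option autoImplicit false
universe u
open CAlg

namespace Groth.Agent.S10891

/-- Let k be a field containing a primitive r-th root of unity ζ and 0 < a < r. The cyclic group of r-th
roots of unity acts on k[X, Y] through the generator X ↦ ζ⁻¹ X, Y ↦ ζ^(−a) Y, and the ring of
invariants of this action is generated as a k-algebra by the monomials X^i Y^j with 0 ≤ i, j ≤ r,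
(i, j) ≠ (r, r) and i + a·j ≡ 0 (mod r). (The printed statement writes n for the order of the group,
which the surrounding section calls r.) -/
theorem result (k : Type u) [Field k] (r a : ℕ) (ha : 0 < a) (har : a < r)
    (ζ : k) (hζ : IsPrimitiveRoot ζ r) (p : MvPolynomial (Fin 2) k) :
    MvPolynomial.aeval (fun i : Fin 2 => if i = 0 then MvPolynomial.C ζ⁻¹ * MvPolynomial.X 0
        else MvPolynomial.C (ζ⁻¹ ^ a) * (MvPolynomial.X 1 : MvPolynomial (Fin 2) k)) p = p ↔
      p ∈ Algebra.adjoin k {q : MvPolynomial (Fin 2) k | ∃ i j : ℕ, i ≤ r ∧ j ≤ r ∧ ¬ (i = r ∧ j = r) ∧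
        r ∣ i + a * j ∧ q = MvPolynomial.X 0 ^ i * MvPolynomial.X 1 ^ j} := by
  classical
  set A := Algebra.adjoin k {q : MvPolynomial (Fin 2) k | ∃ i j : ℕ, i ≤ r ∧ j ≤ r ∧ ¬ (i = r ∧ j = r) ∧
        r ∣ i + a * j ∧ q = MvPolynomial.X 0 ^ i * MvPolynomial.X 1 ^ j}
  let φ : MvPolynomial (Fin 2) k →ₐ[k] MvPolynomial (Fin 2) k :=
    MvPolynomial.aeval (fun i : Fin 2 => if i = 0 then MvPolynomial.C ζ⁻¹ * MvPolynomial.X 0
        else MvPolynomial.C (ζ⁻¹ ^ a) * (MvPolynomial.X 1 : MvPolynomial (Fin 2) k))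
  have hr : 0 < r := lt_trans ha har
  have hζi : IsPrimitiveRoot ζ⁻¹ r := hζ.inv
  have hmon : ∀ (d : Fin 2 →₀ ℕ) (c : k),
      φ (MvPolynomial.monomial d c) = MvPolynomial.monomial d (ζ⁻¹ ^ (d 0 + a * d 1) * c) := by
    intro d c
    show MvPolynomial.aeval _ (MvPolynomial.monomial d c) = _
    rw [MvPolynomial.aeval_monomial, MvPolynomial.monomial_eq (a := ζ⁻¹ ^ (d 0 + a * d 1) * c),
      Finsupp.prod_fintype _ _ (fun i => by simp), Finsupp.prod_fintype _ _ (fun i => by simp),
      Fin.prod_univ_two, Fin.prod_univ_two]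
    simp only [Fin.isValue, if_true, one_ne_zero, if_false, MvPolynomial.algebraMap_eq, mul_pow,
      map_mul, map_pow, pow_add, pow_mul]
    ring
  have hgen : ∀ s i j : ℕ, i + j = s → r ∣ i + a * j → MvPolynomial.X 0 ^ i * MvPolynomial.X 1 ^ j ∈ A := by
    intro s
    induction s using Nat.strong_induction_on with
    | h s ih =>
      intro i j hs hdvd
      by_cases h1 : i ≤ r ∧ j ≤ r ∧ ¬ (i = r ∧ j = r)
      · exact Algebra.subset_adjoin ⟨i, j, h1.1, h1.2.1, h1.2.2, hdvd, rfl⟩
      · by_cases h2 : r ≤ i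
        · obtain ⟨i, rfl⟩ := Nat.exists_eq_add_of_le h2
          rw [pow_add, mul_assoc]
          refine mul_mem (Algebra.subset_adjoin ⟨r, 0, le_rfl, Nat.zero_le _, by omega, by simp, by simp⟩)
            (ih (i + j) (by omega) i j rfl ?_)
          rw [add_assoc] at hdvd
          exact (Nat.dvd_add_right dvd_rfl).mp hdvd
        · have h3 : r ≤ j := by omega
          obtain ⟨j, rfl⟩ := Nat.exists_eq_add_of_le h3
          rw [pow_add, mul_left_comm]
          refine mul_mem (Algebra.subset_adjoin ⟨0, r, Nat.zero_le _, le_rfl, by omega, by simp, by simp⟩)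
            (ih (i + j) (by omega) i j rfl ?_)
          rw [mul_add, add_left_comm] at hdvd
          exact (Nat.dvd_add_right (Dvd.intro_left a rfl)).mp hdvd
  show φ p = p ↔ p ∈ A
  constructor
  · intro hfix
    rw [MvPolynomial.as_sum p]
    refine sum_mem fun d hd => ?_
    have hcoeff : ζ⁻¹ ^ (d 0 + a * d 1) * p.coeff d = p.coeff d := by
      conv_rhs => rw [← hfix, MvPolynomial.as_sum p]
      rw [map_sum, MvPolynomial.coeff_sum, Finset.sum_eq_single d]
      · rw [hmon, MvPolynomial.coeff_monomial, if_pos rfl]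
      · intro e _ he; rw [hmon, MvPolynomial.coeff_monomial, if_neg he]
      · exact fun h => absurd hd h
    have h1 : ζ⁻¹ ^ (d 0 + a * d 1) = 1 :=
      mul_right_cancel₀ (MvPolynomial.mem_support_iff.mp hd) (hcoeff.trans (one_mul _).symm)
    have hdvd := (hζi.pow_eq_one_iff_dvd _).mp h1
    rw [MvPolynomial.monomial_eq, Finsupp.prod_fintype _ _ (fun i => by simp), Fin.prod_univ_two]
    exact mul_mem (A.algebraMap_mem _) (hgen _ _ _ rfl hdvd)
  · intro hp
    have hle : A ≤ AlgHom.equalizer φ (AlgHom.id k _) := by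
      refine Algebra.adjoin_le ?_
      rintro _ ⟨i, j, -, -, -, hdvd, rfl⟩
      show φ _ = _
      obtain ⟨c, hc⟩ := hdvd
      have : (MvPolynomial.X 0 ^ i * MvPolynomial.X 1 ^ j : MvPolynomial (Fin 2) k) =
          MvPolynomial.monomial (Finsupp.single 0 i + Finsupp.single 1 j) (1 : k) := by
        rw [MvPolynomial.X_pow_eq_monomial, MvPolynomial.X_pow_eq_monomial, MvPolynomial.monomial_mul,
          mul_one]
      refine (congrArg φ this).trans ((hmon _ _).trans ?_)
      rw [AlgHom.id_apply, this]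
      simp [hc, pow_mul, hζ.pow_eq_one]
    exact hle hp

end Groth.Agent.S10891
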