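import Groth.Statements.S10892
import Groth.Agent.PicAux.MeroDepth
import Groth.Agent.EulerDeg.ClosedSupport
import Mathlib.AlgebraicGeometry.Properties
import Mathlib.AlgebraicGeometry.Noetherian

set_option autoImplicit false
universe u
open CategoryTheory AlgebraicGeometry
open Curves

namespace Groth.Agent.S10892

open TopologicalSpace Groth.PicAux

/-- Points where a quotient of regular functions can have a nontrivial class form a finite set of closed points. -/
theorem finite_frac_support {C : Scheme.{u}} [IsNoetherian C]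
    (hdim : ∀ x : C, (1 : WithBot ℕ∞) ≤ ringKrullDim (C.presheaf.stalk x) → IsClosed ({x} : Set C))
    {W : C.Opens} (a b : Mero.regSub C W) :
    ∃ T : Set C, T.Finite ∧ (∀ y ∈ T, IsClosed ({y} : Set C)) ∧
      ∀ y : W, y.1 ∉ T → Mero.germOf (regUnit a * (regUnit b)⁻¹) y = 1 := by
  let T : Set C := (W : Set C) \ (C.basicOpen (a.1 * b.1) : Set C)
  have hpts : ∀ z ∈ T, IsClosed ({z} : Set C) := fun z hz => by
    refine hdim z (one_le_dim_of_regular (b := C.presheaf.germ W z hz.1 (a.1 * b.1)) ?_
      ((a * b).2 ⟨z, hz.1⟩))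
    rw [IsLocalRing.mem_maximalIdeal, mem_nonunits_iff]
    exact fun hu => hz.2 ((C.mem_basicOpen _ z hz.1).2 hu)
  have hrel : closure T ∩ W ⊆ T := fun z hz => ⟨hz.2, fun hzb => by
    obtain ⟨y, hy, hyT⟩ := mem_closure_iff.1 hz.1 _ (C.basicOpen (a.1 * b.1)).2 hzb
    exact hyT.2 hy⟩
  refine ⟨T, (Groth.EulerDeg.finite_and_isClosed_of_closed_points (X := C.carrier) W.2
    Set.sdiff_subset hrel hpts).1, hpts, fun y hy => ?_⟩
  have hu : IsUnit (C.presheaf.germ W y.1 y.2 (a.1 * b.1)) := by
    by_contra hn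
    exact hy ⟨y.2, fun h => hn ((C.mem_basicOpen _ y.1 y.2).1 h)⟩
  rw [map_mul, IsUnit.mul_iff] at hu
  rw [germOf_frac, QuotientGroup.eq_one_iff]
  exact ⟨hu.1.unit * hu.2.unit⁻¹, by
    rw [map_mul, map_inv]
    congr 1
    · exact Units.ext rfl
    · exact congrArg (·⁻¹) (Units.ext rfl)⟩

/-- On an absolute curve C (Noetherian, local rings at closed points one-dimensional) the map sending a
divisor to its germs at the closed points is an isomorphism from Div(C) onto the direct sum over the
closed points x of the groups K_{C,x}^× / O_{C,x}^× (K_{C,x} the total ring of fractions of the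
local ring). With divisors realised as families of germs, this says: a family of germs is a divisor
exactly when it is trivial outside a finite set of closed points. -/
theorem result {C : Scheme.{u}} [IsNoetherian C]
    (hC : ∀ x : C, IsClosed ({x} : Set C) → ringKrullDim (C.presheaf.stalk x) = 1)
    (g : ∀ x : C, Mero.Germ C x) :
    g ∈ Mero.divisorGroup C ↔ ({x : C | g x ≠ 1}.Finite ∧ ∀ x : C, ¬ IsClosed ({x} : Set C) → g x = 1) := by
  have : CompactSpace C := inferInstance
  have hdim : ∀ x : C, (1 : WithBot ℕ∞) ≤ ringKrullDim (C.presheaf.stalk x) → IsClosed ({x} : Set C) := by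
    intro x hx
    by_contra hne
    obtain ⟨c, hc, hcc⟩ := (isClosed_closure (s := ({x} : Set C))).exists_closed_singleton
      ⟨x, subset_closure rfl⟩
    have hsp : x ⤳ c := specializes_iff_mem_closure.2 hc
    have hlt : c < x := by
      refine lt_of_le_not_ge hsp fun h => hne ?_
      have hxc : x ∈ ({c} : Set C) := (h : c ⤳ x).mem_closed hcc (Set.mem_singleton c)
      rw [Set.mem_singleton_iff.1 hxc]; exact hcc
    have h1 := hC c hcc
    rw [ringKrullDim_stalk_eq_coheight] at h1 hx
    have h2 := Order.coheight_add_one_le hlt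
    norm_cast at h1 hx
    have h3 : (2 : ℕ∞) ≤ 1 := le_trans (add_le_add_left hx 1) (h1 ▸ h2)
    norm_num at h3
  constructor
  · intro hg
    let D : Mero.Divisor C := ⟨g, hg⟩
    have hfin : ∀ x : C, ∃ W : C.Opens, x ∈ W ∧
        ∃ T : Set C, T.Finite ∧ (∀ y ∈ T, IsClosed ({y} : Set C)) ∧ ∀ y ∈ W, y ∉ T → g y = 1 := by
      intro x
      obtain ⟨W, a, b, hxW, hD⟩ := exists_frac_rep D x
      obtain ⟨T, hTf, hTc, hT⟩ := finite_frac_support hdim a b
      exact ⟨W.1, hxW, T, hTf, hTc, fun y hy hyT => (hD ⟨y, hy⟩).trans (hT ⟨y, hy⟩ hyT)⟩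
    choose W hW T hTf hTc hT using hfin
    refine ⟨?_, fun x hx => hT x x (hW x) fun h => hx (hTc x x h)⟩
    obtain ⟨s, hs⟩ := isCompact_univ.elim_finite_subcover (fun x : C => (W x : Set C)) (fun x => (W x).2)
      fun x _ => Set.mem_iUnion.2 ⟨x, hW x⟩
    refine (s.finite_toSet.biUnion fun i _ => hTf i).subset fun y hy => ?_
    obtain ⟨i, hi, hyi⟩ := Set.mem_iUnion₂.1 (hs (Set.mem_univ y))
    by_contra hn
    exact hy (hT i y hyi fun h => hn (Set.mem_biUnion hi h))
  · rintro ⟨hfin, hg1⟩ x
    obtain ⟨u, hu⟩ := QuotientGroup.mk_surjective (g x)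
    obtain ⟨q, hq⟩ : ∃ q, (u : Mero.KStalk C x) = q := ⟨_, rfl⟩
    induction q using LocalizedModule.induction_on with
    | h r s =>
      have hmul : (u : Mero.KStalk C x) * toKStalk x s = toKStalk x r := by
        rw [hq]; exact kmk_mul_toKStalk r s
      have hr : r ∈ Mero.regStalk C x := by
        rw [regStalk_eq]
        refine mem_nonZeroDivisors_iff_right.2 fun w hw => toKStalk_injective x ?_
        have h1 : IsUnit (toKStalk (X := C) x r) := hmul ▸ u.isUnit.mul (isUnit_toKStalk s)
        rw [map_zero]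
        refine h1.mul_left_eq_zero.1 ?_
        rw [← map_mul, hw, map_zero]
      obtain ⟨U, hxU, a, ha, hax⟩ := hr
      obtain ⟨V, hxV, b, hb, hbx⟩ := s.2
      let W₀ : C.Opens := U ⊓ V
      let a' : Mero.regSub C W₀ := ⟨resX C (inf_le_left : W₀ ≤ U) a, Mero.regSub_res _ ha⟩
      let b' : Mero.regSub C W₀ := ⟨resX C (inf_le_right : W₀ ≤ V) b, Mero.regSub_res _ hb⟩
      obtain ⟨T, hTf, hTc, hT⟩ := finite_frac_support hdim a' b'
      let B : Set C := (T ∪ {y | g y ≠ 1}) \ {x}
      have hBc : IsClosed B := by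
        rw [← Set.biUnion_of_singleton B]
        refine ((hTf.union hfin).subset Set.sdiff_subset).isClosed_biUnion fun y hy => ?_
        rcases hy.1 with h | h
        · exact hTc y h
        · by_contra hn
          exact h (hg1 y hn)
      refine ⟨W₀ ⊓ ⟨Bᶜ, hBc.isOpen_compl⟩, ⟨⟨hxU, hxV⟩, fun h => h.2 rfl⟩,
        resU inf_le_left (regUnit a' * (regUnit b')⁻¹), fun y => ?_⟩
      rw [germOf_resU]
      by_cases hyx : y.1 = x
      · obtain ⟨y, hy⟩ := y
        dsimp only at hyx
        subst hyx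
        rw [germOf_frac, ← hu]
        refine congrArg _ (eq_mul_inv_iff_mul_eq.2 (Units.ext ?_))
        rw [Units.val_mul, IsUnit.unit_spec, IsUnit.unit_spec]
        change (u : Mero.KStalk C y) * toKStalk y (C.presheaf.germ W₀ y hy.1 (resX C _ b)) =
          toKStalk y (C.presheaf.germ W₀ y hy.1 (resX C _ a))
        rw [germ_resX, germ_resX, hbx, hax]
        exact hmul
      · have hyB : y.1 ∉ B := y.2.2
        have h1 : g y.1 = 1 := by
          by_contra h
          exact hyB ⟨Or.inr h, hyx⟩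
        rw [h1, hT ⟨y.1, y.2.1⟩ fun h => hyB ⟨Or.inl h, hyx⟩]

end Groth.Agent.S10892
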