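import Groth.Statements.S10893
import Groth.Agent.CurveDiv.AbsoluteCurve
-- import your own Groth.Agent.* helpers here

set_option autoImplicit false
universe u
open CategoryTheory AlgebraicGeometry
open Curves

namespace Groth.Agent.S10893

open TopologicalSpace in
/-- A component contains a closed point of `U` carrying a regular non unit. -/
theorem exists_good_point {C : Scheme.{u}} [IsNoetherian C]
    (hC : ∀ x : C, IsClosed ({x} : Set C) → ringKrullDim (C.presheaf.stalk x) = 1)
    (hpt : ∀ x : C, ¬ IsOpen ({x} : Set C)) (U : C.Opens) (hU : Dense (U : Set C))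
    (Z : Set C) (hZ : Z ∈ irreducibleComponents (C : Type u)) :
    ∃ (x : C) (b : C.presheaf.stalk x), IsClosed ({x} : Set C) ∧ x ∈ U ∧ x ∈ Z ∧
      b ∈ nonZeroDivisors (C.presheaf.stalk x) ∧ b ∈ IsLocalRing.maximalIdeal (C.presheaf.stalk x) := by
  classical
  let F : Set C := ⋃₀ (irreducibleComponents (C : Type u) \ {Z})
  have hFc : IsClosed F := by
    rw [show F = _ from Set.sUnion_eq_biUnion]
    exact ((NoetherianSpace.finite_irreducibleComponents).sdiff (t := {Z})).isClosed_biUnion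
      fun T hT => isClosed_of_mem_irreducibleComponents T hT.1
  have hFZ : ∀ y, y ∉ F → y ∈ Z := fun y hy => by
    obtain ⟨T, hT, hyT⟩ := exists_mem_irreducibleComponents_subset_of_isIrreducible {y} isIrreducible_singleton
    by_cases h : T = Z
    · exact h ▸ hyT rfl
    · exact absurd (⟨T, ⟨hT, h⟩, hyT rfl⟩ : y ∈ F) hy
  let η := hZ.1.genericPoint
  have hη : closure ({η} : Set C) = Z :=
    hZ.1.isGenericPoint_genericPoint_closure.def.trans
      (isClosed_of_mem_irreducibleComponents Z hZ).closure_eq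
  have hηF : η ∉ F := by
    rintro ⟨T, ⟨hT, hne⟩, hηT⟩
    have hle : Z ⊆ T := hη ▸ closure_minimal (Set.singleton_subset_iff.2 hηT)
      (isClosed_of_mem_irreducibleComponents T hT)
    exact hne (Set.Subset.antisymm (hZ.2 hT.1 hle) hle)
  have hgen : ∀ y ∈ Z, η ⤳ y := fun y hy => specializes_iff_mem_closure.2 (hη ▸ hy)
  obtain ⟨z, hzF, hzU⟩ := hU.inter_open_nonempty Fᶜ hFc.isOpen_compl ⟨η, hηF⟩
  have hηU : η ∈ U := (hgen z (hFZ z hzF)).mem_open U.2 hzU
  obtain ⟨_, ⟨(W : C.Opens), hW, rfl⟩, hηW, hWsub⟩ :=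
    C.isBasis_affineOpens.exists_subset_of_mem_open (show η ∈ (U : Set C) ∩ Fᶜ from ⟨hηU, hηF⟩)
      (U.2.inter hFc.isOpen_compl)
  haveI : IsNoetherianRing Γ(C, W) := IsLocallyNoetherian.component_noetherian ⟨W, hW⟩
  have hηc : ¬ IsClosed ({η} : Set C) := by
    intro h
    have hZη : Z = {η} := hη.symm.trans h.closure_eq
    refine hpt η ?_
    have : Fᶜ = ({η} : Set C) := by
      refine Set.Subset.antisymm (fun y hy => hZη ▸ hFZ y hy) ?_
      exact Set.singleton_subset_iff.2 hηF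
    exact this ▸ hFc.isOpen_compl
  let A : Set C := (fun P => hW.fromSpec P) '' {P : PrimeSpectrum Γ(C, W) | P.asIdeal ∈ associatedPrimes Γ(C, W) Γ(C, W)}
  have hA : A.Finite := ((associatedPrimes.finite Γ(C, W) Γ(C, W)).preimage
    (fun P _ Q _ h => PrimeSpectrum.ext h)).image _
  let T : Set C := {y ∈ A | IsClosed ({y} : Set C)}
  have hTc : IsClosed T := by
    rw [← Set.biUnion_of_singleton T]
    exact (hA.subset fun y hy => hy.1).isClosed_biUnion fun y hy => hy.2
  by_cases hex : ∃ x ∈ (W : Set C), x ∉ T ∧ IsClosed ({x} : Set C)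
  · obtain ⟨x, hxW, hxT, hxc⟩ := hex
    let P := hW.primeIdealOf ⟨x, hxW⟩
    have hPx : hW.fromSpec P = x := hW.fromSpec_primeIdealOf ⟨x, hxW⟩
    have hmax : P.asIdeal.IsMaximal := by
      rw [← PrimeSpectrum.isClosed_singleton_iff_isMaximal]
      have e : (⇑hW.fromSpec ⁻¹' {x}) = {P} := by
        ext Q
        exact ⟨fun h => hW.fromSpec.isOpenEmbedding.injective (h.trans hPx.symm), fun h => h ▸ hPx⟩
      exact e ▸ hxc.preimage hW.fromSpec.continuous
    have hnot : ¬ (P.asIdeal : Set Γ(C, W)) ⊆ ⋃ Q ∈ associatedPrimes Γ(C, W) Γ(C, W), (Q : Set Γ(C, W)) := by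
      intro h
      have hfin := associatedPrimes.finite Γ(C, W) Γ(C, W)
      obtain ⟨Q, hQ, hPQ⟩ := (Ideal.subset_union_prime_finite hfin ⊥ ⊥
        (fun Q hQ _ _ => (show IsAssociatedPrime Q _ from hQ).isPrime)).1 h
      refine hxT ⟨⟨P, ?_, hPx⟩, hxc⟩
      show P.asIdeal ∈ associatedPrimes Γ(C, W) Γ(C, W)
      rwa [hmax.eq_of_le (show IsAssociatedPrime Q _ from hQ).isPrime.ne_top hPQ]
    obtain ⟨r, hrP, hr⟩ := Set.not_subset.1 hnot
    rw [biUnion_associatedPrimes_eq_compl_nonZeroDivisors, Set.mem_compl_iff, not_not] at hr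
    let _ : Algebra Γ(C, W) (C.presheaf.stalk x) :=
      TopCat.Presheaf.algebra_section_stalk C.presheaf (⟨x, hxW⟩ : W)
    haveI : IsLocalization.AtPrime (C.presheaf.stalk x) P.asIdeal := hW.isLocalization_stalk ⟨x, hxW⟩
    refine ⟨x, algebraMap Γ(C, W) _ r, hxc, (hWsub hxW).1, hFZ x (hWsub hxW).2, ?_,
      (IsLocalization.AtPrime.to_map_mem_maximal_iff _ P.asIdeal r).2 hrP⟩
    exact IsLocalization.map_nonZeroDivisors_le P.asIdeal.primeCompl _ ⟨r, hr, rfl⟩
  · refine absurd ?_ (hpt η)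
    push_neg at hex
    have heq : (W : Set C) \ T = {η} := by
      refine Set.Subset.antisymm (fun y hy => ?_) (Set.singleton_subset_iff.2 ⟨hηW, fun h => hηc h.2⟩)
      exact (Groth.CurveDiv.AbsCurve.eq_of_specializes_of_not_isClosed hC (hex y hy.1 hy.2)
        (hgen y (hFZ y (hWsub hy.1).2))).symm
    exact heq ▸ W.2.sdiff hTc


/-- Let C be an absolute curve (Noetherian, local rings at closed points one-dimensional) none of whose
points is open, and U ⊆ C an open dense subset. Then there is an effective divisor D on C with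
support contained in U and meeting every irreducible component of C. -/
theorem result {C : Scheme.{u}} [IsNoetherian C]
    (hC : ∀ x : C, IsClosed ({x} : Set C) → ringKrullDim (C.presheaf.stalk x) = 1)
    (hpt : ∀ x : C, ¬ IsOpen ({x} : Set C)) (U : C.Opens) (hU : Dense (U : Set C)) :
    ∃ D : Mero.Divisor C, Mero.IsEffective D ∧ Mero.supp D ⊆ (U : Set C) ∧
      ∀ Z ∈ irreducibleComponents (C : Type u), (Mero.supp D ∩ Z).Nonempty := by
  classical
  haveI : Fintype (irreducibleComponents (C : Type u)) :=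
    (TopologicalSpace.NoetherianSpace.finite_irreducibleComponents).fintype
  choose x b hxc hxU hxZ hb hbm using fun Z : irreducibleComponents (C : Type u) =>
    exists_good_point hC hpt U hU Z.1 Z.2
  let s : Finset C := Finset.univ.image x
  have key : ∀ y : C, ∃ c : Mero.regStalk C y, y ∈ s →
      ¬ IsUnit (c : C.presheaf.stalk y) := fun y => by
    by_cases hy : y ∈ s
    · obtain ⟨Z, -, rfl⟩ := Finset.mem_image.1 hy
      exact ⟨⟨b Z, (Groth.PicAux.regStalk_eq (X := C) (x Z)).ge (hb Z)⟩, fun _ =>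
        (IsLocalRing.mem_maximalIdeal _).1 (hbm Z)⟩
    · exact ⟨1, fun h => absurd h hy⟩
  choose q hq using key
  obtain ⟨E, hE, hE0, hE1⟩ := Groth.CurveDiv.AbsCurve.exists_divisor_finset hC s (fun y hy => by
    obtain ⟨Z, -, rfl⟩ := Finset.mem_image.1 hy
    exact hxc Z) q
  refine ⟨E, hE, fun y hy => ?_, fun Z hZ => ⟨x ⟨Z, hZ⟩, fun h => ?_, hxZ ⟨Z, hZ⟩⟩⟩
  · have hys : y ∈ s := by_contra fun h => hy (hE0 y h)
    obtain ⟨Z, -, rfl⟩ := Finset.mem_image.1 hys
    exact hxU Z
  · have hm : x ⟨Z, hZ⟩ ∈ s := Finset.mem_image.2 ⟨_, Finset.mem_univ _, rfl⟩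
    have h1 := (hE1 _ hm).symm.trans h
    rw [QuotientGroup.eq_one_iff] at h1
    obtain ⟨v, hv⟩ := h1
    refine hq _ hm ⟨v, Groth.PicAux.toKStalk_injective _ ?_⟩
    have := congrArg Units.val hv
    simp only [Units.coe_map, IsUnit.unit_spec] at this
    exact this

end Groth.Agent.S10893
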