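import Groth.Statements.S10894
import Groth.Agent.CurveDiv.AbsoluteCurve
-- import your own Groth.Agent.* helpers here

set_option autoImplicit false
universe u
open CategoryTheory AlgebraicGeometry
open Curves

namespace Groth.Agent.S10894

/-- On an absolute curve C (Noetherian, local rings at closed points one-dimensional) every divisor D is
a difference of two effective divisors each supported inside the support of D (divisors are written
multiplicatively, so the difference is D₁ · D₂⁻¹). -/
theorem result {C : Scheme.{u}} [IsNoetherian C]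
    (hC : ∀ x : C, IsClosed ({x} : Set C) → ringKrullDim (C.presheaf.stalk x) = 1) (D : Mero.Divisor C) :
    ∃ D₁ D₂ : Mero.Divisor C, Mero.IsEffective D₁ ∧ Mero.IsEffective D₂ ∧ D = D₁ * D₂⁻¹ ∧
      Mero.supp D₁ ⊆ Mero.supp D ∧ Mero.supp D₂ ⊆ Mero.supp D := by
  classical
  obtain ⟨hfin, hcl⟩ := Groth.CurveDiv.AbsCurve.finite_supp hC D
  choose W a b hxW hD using fun x : C => Groth.PicAux.exists_frac_rep D x
  let q : ∀ x : C, Mero.regStalk C x := fun x => Mero.regGerm ⟨x, hxW x⟩ (b x)
  obtain ⟨E, hE, hE0, hE1⟩ := Groth.CurveDiv.AbsCurve.exists_divisor_finset hC hfin.toFinset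
    (fun x hx => hcl x (hfin.mem_toFinset.1 hx)) q
  have hsupp : ∀ y, y ∉ Mero.supp D → E.1 y = 1 := fun y hy => hE0 y fun h => hy (hfin.mem_toFinset.1 h)
  refine ⟨D * E, E, fun y => ?_, hE, (mul_inv_cancel_right D E).symm, fun y hy hD1 => hy ?_,
    fun y hy => by_contra fun h => hy (hsupp y h)⟩
  · by_cases hy : y ∈ Mero.supp D
    · refine ⟨Mero.regGerm ⟨y, hxW y⟩ (a y), ?_⟩
      show D.1 y * E.1 y = _
      have e1 : D.1 y = QuotientGroup.mk ((Groth.PicAux.isUnit_toKStalk (Mero.regGerm ⟨y, hxW y⟩ (a y))).unit *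
          (Groth.PicAux.isUnit_toKStalk (q y)).unit⁻¹) :=
        (hD y ⟨y, hxW y⟩).trans (Groth.PicAux.germOf_frac _ _ _)
      refine (congrArg₂ (· * ·) e1 (hE1 y (hfin.mem_toFinset.2 hy))).trans ?_
      refine (QuotientGroup.mk_mul (Mero.stalkUnits C y) _ _).symm.trans ?_
      rw [inv_mul_cancel_right]
    · refine ⟨1, ?_⟩
      obtain ⟨c, hc⟩ := Groth.PicAux.effectiveAt_one (X := C) y
      show D.1 y * E.1 y = _
      rw [show D.1 y = 1 from not_not.1 hy, hsupp y hy]
      refine (one_mul (1 : Mero.Germ C y)).trans ?_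
      rw [eq_comm, QuotientGroup.eq_one_iff]
      exact ⟨1, Units.ext (by simp)⟩
  · show D.1 y * E.1 y = 1
    rw [hD1, hsupp y (not_not.2 hD1)]
    exact one_mul (1 : Mero.Germ C y)

end Groth.Agent.S10894
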