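import Groth.Statements.S10895
import Mathlib.AlgebraicGeometry.Morphisms.ClosedImmersion
import Mathlib.RingTheory.Flat.FaithfullyFlat.Algebra

set_option autoImplicit false
universe u
open CategoryTheory AlgebraicGeometry
open FlatMor

namespace Groth.Agent.S10895

/-- A closed immersion of finite presentation which is flat at a point x is an isomorphism over some
open neighbourhood of the image of x. -/
theorem result {X Y : Scheme.{u}} (f : X ⟶ Y) [IsClosedImmersion f]
    [LocallyOfFinitePresentation f] (x : X) (hflat : (f.stalkMap x).hom.Flat) :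
    ∃ V : Y.Opens, f.base x ∈ V ∧ IsIso (f ∣_ V) := by
  obtain ⟨V, hV, hxV, -⟩ := exists_isAffineOpen_mem_and_subset (x := f.base x) (U := ⊤) trivial
  have hVU : IsAffineOpen (f ⁻¹ᵁ V) := hV.preimage f
  have hsurj := f.app_surjective V hV
  let φ := (f.app V).hom
  have hfp : φ.FinitePresentation := by
    have h1 := f.finitePresentation_appLE hV hVU le_rfl
    rwa [← Scheme.Hom.app_eq_appLE] at h1
  have hfg : (RingHom.ker φ).FG := by
    letI := φ.toAlgebra
    haveI : Algebra.FinitePresentation Γ(Y, V) Γ(X, f ⁻¹ᵁ V) := hfp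
    exact Algebra.FinitePresentation.ker_fG_of_surjective
      (Algebra.ofId Γ(Y, V) Γ(X, f ⁻¹ᵁ V)) hsurj
  have hinj : Function.Injective (f.stalkMap x).hom := by
    letI := (f.stalkMap x).hom.toAlgebra
    haveI : Module.Flat (Y.presheaf.stalk (f x)) (X.presheaf.stalk x) := hflat
    haveI : IsLocalHom (algebraMap (Y.presheaf.stalk (f x)) (X.presheaf.stalk x)) :=
      inferInstanceAs (IsLocalHom (f.stalkMap x).hom)
    haveI := Module.FaithfullyFlat.of_flat_of_isLocalHom (A := Y.presheaf.stalk (f x))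
      (B := X.presheaf.stalk x)
    exact FaithfulSMul.algebraMap_injective (Y.presheaf.stalk (f x)) (X.presheaf.stalk x)
  letI := hV.isLocalization_stalk ⟨f x, hxV⟩
  letI : Algebra Γ(Y, V) (Y.presheaf.stalk (f x)) := (Y.presheaf.germ V (f x) hxV).hom.toAlgebra
  have key : ∀ a ∈ RingHom.ker φ, ∃ g ∈ (hV.primeIdealOf ⟨f x, hxV⟩).asIdeal.primeCompl,
      g * a = 0 := by
    intro a ha
    have h0 : Y.presheaf.germ V (f x) hxV a = 0 := hinj (by
      rw [map_zero]
      erw [Scheme.Hom.germ_stalkMap_apply]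
      rw [show f.app V a = 0 from ha, map_zero])
    obtain ⟨m, hm⟩ := (IsLocalization.map_eq_zero_iff
      (hV.primeIdealOf ⟨f x, hxV⟩).asIdeal.primeCompl (Y.presheaf.stalk (f x)) a).mp h0
    exact ⟨m, m.2, hm⟩
  obtain ⟨s, hs⟩ := hfg
  choose! c hc hc0 using key
  let g := ∏ a ∈ s, c a
  have hg : g ∈ (hV.primeIdealOf ⟨f x, hxV⟩).asIdeal.primeCompl :=
    prod_mem fun a ha => hc a (hs ▸ Ideal.subset_span ha)
  have hgI : ∀ a ∈ RingHom.ker φ, g * a = 0 := by
    intro a ha
    rw [← hs] at ha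
    refine Submodule.span_induction (fun b hb => ?_) (mul_zero _) (fun _ _ _ _ h h' => by rw [mul_add, h, h', add_zero])
      (fun r b _ h => by rw [smul_eq_mul, mul_left_comm, h, mul_zero]) ha
    obtain ⟨t, ht⟩ := Finset.dvd_prod_of_mem c hb
    rw [show g = c b * t from ht, mul_right_comm, hc0 b (hs ▸ Ideal.subset_span hb), zero_mul]
  refine ⟨Y.basicOpen g, ?_, ?_⟩
  · rw [Y.mem_basicOpen g (f x) hxV]
    exact IsLocalization.map_units (Y.presheaf.stalk (f x)) ⟨g, hg⟩
  haveI : IsAffine (Y.basicOpen g).toScheme := hV.basicOpen g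
  refine IsClosedImmersion.isIso_of_injective_of_isAffine ?_
  have hD : Function.Injective (f.app (Y.basicOpen g)).hom := by
    rw [RingHom.injective_iff_ker_eq_bot]
    have h1 := f.ker.map_ideal (U := ⟨Y.basicOpen g, hV.basicOpen g⟩) (V := ⟨V, hV⟩) (Y.basicOpen_le g)
    rw [Scheme.Hom.ker_apply, Scheme.Hom.ker_apply] at h1
    rw [← h1, Ideal.map_eq_bot_iff_le_ker]
    intro a ha
    haveI := hV.isLocalization_basicOpen g
    rw [RingHom.mem_ker]
    exact (IsLocalization.map_eq_zero_iff (Submonoid.powers g) Γ(Y, Y.basicOpen g) a).mpr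
      ⟨⟨g, Submonoid.mem_powers g⟩, hgI a ha⟩
  rw [morphismRestrict_appTop]
  have hD' : ∀ W : Y.Opens, W = Y.basicOpen g → Function.Injective (f.app W).hom := by
    rintro W rfl; exact hD
  intro a b hab
  exact hD' _ (Scheme.Opens.ι_image_top _) ((ConcreteCategory.bijective_of_isIso _).1 hab)

end Groth.Agent.S10895
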