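import Groth.Statements.S10896
import Groth.Agent.CubicGeom.ConicBundle

set_option autoImplicit false
universe u
open Cubic

namespace Groth.Agent.S10896

/-- Over an algebraically closed field of characteristic zero, a smooth cubic surface S = V_+(f) ⊂ P^3
which contains a line contains two disjoint lines (2-dimensional subspaces of k^4 on which f
vanishes and which intersect trivially). -/
theorem result (k : Type u) [Field k] [IsAlgClosed k] [CharZero k]
    (f : MvPolynomial (Fin 4) k) (hf : f.IsHomogeneous 3) (hf0 : f ≠ 0)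
    (hsm : ∀ v : Fin 4 → k, v ≠ 0 → MvPolynomial.eval v f = 0 →
      ∃ i : Fin 4, MvPolynomial.eval v (MvPolynomial.pderiv i f) ≠ 0)
    (hL : ∃ U : Submodule k (Fin 4 → k), (Module.finrank k ↥U = 2 ∧ ∀ u ∈ U, MvPolynomial.eval u f = 0)) :
    ∃ U₁ U₂ : Submodule k (Fin 4 → k), (Module.finrank k ↥U₁ = 2 ∧ ∀ u ∈ U₁, MvPolynomial.eval u f = 0) ∧ (Module.finrank k ↥U₂ = 2 ∧ ∀ u ∈ U₂, MvPolynomial.eval u f = 0) ∧ U₁ ⊓ U₂ = ⊥ := by
  have hT := Groth.CubicGeom.smooth_ofPoly hf hsm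
  have hiff : ∀ U : Submodule k (Fin 4 → k), (∀ u ∈ U, MvPolynomial.eval u f = 0) ↔
      (Groth.CubicGeom.ofPoly f).OnSurf U := fun U =>
    forall₂_congr fun u _ => (Groth.CubicGeom.ofPoly_self_eq_zero hf u).symm
  obtain ⟨U, hU, hUS⟩ := hL
  obtain ⟨L₁, L₂, h1, h2, h3⟩ := Groth.CubicGeom.exists_disjoint_lines (L := U) (by simp) hT ⟨hU, (hiff U).1 hUS⟩
  exact ⟨L₁, L₂, ⟨h1.1, (hiff L₁).2 h1.2⟩, ⟨h2.1, (hiff L₂).2 h2.2⟩, h3⟩

end Groth.Agent.S10896
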