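import Groth.Statements.S10903
import Groth.Agent.Ega4Algebra2.CMUnmixed
import Groth.Agent.Variety2.DimAffine
import Mathlib
-- import your own Groth.Agent.* helpers here

set_option autoImplicit false
universe u
open CInt

namespace Groth.Agent.S10903

/-- Let k be a field, S = k[x_0, …, x_n], and f_1, …, f_r with r ≤ n homogeneous polynomials of positive
degrees whose ideal J = (f_1, …, f_r) has height r — the subscheme of P^n_k cut out by the
hypersurfaces f_i = 0 has codimension r, an ideal-theoretic complete intersection. Then J is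
saturated with respect to the irrelevant ideal (x_0, …, x_n): an element g of S such that, for each
i, x_i^m g ∈ J for some m, already lies in J. Hence J is the full homogeneous ideal of that
subscheme (a global complete intersection). -/
theorem result (k : Type u) [Field k] (n r : ℕ)
    (hr : r ≤ n) (f : Fin r → MvPolynomial (Fin (n + 1)) k) (d : Fin r → ℕ)
    (hf : ∀ i, (f i).IsHomogeneous (d i)) (hd : ∀ i, 0 < d i)
    (hJ : (Ideal.span (Set.range f)).height = r) (g : MvPolynomial (Fin (n + 1)) k)
    (hg : ∀ i : Fin (n + 1), ∃ m : ℕ, MvPolynomial.X i ^ m * g ∈ Ideal.span (Set.range f)) :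
    g ∈ Ideal.span (Set.range f) := by
  classical
  by_contra hgJ
  set J := Ideal.span (Set.range f) with hJdef
  set M : Ideal (MvPolynomial (Fin (n + 1)) k) := RingHom.ker (MvPolynomial.constantCoeff : (MvPolynomial (Fin (n + 1)) k) →+* k) with hMdef
  haveI hM : M.IsMaximal := RingHom.ker_isMaximal_of_surjective _ fun c => ⟨MvPolynomial.C c, MvPolynomial.constantCoeff_C _ c⟩
  have hXM : ∀ P : Ideal (MvPolynomial (Fin (n + 1)) k), P.IsPrime → (∀ i, MvPolynomial.X i ∈ P) → P = M := by
    intro P hP hX
    refine (hM.eq_of_le hP.ne_top fun q hq => ?_).symm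
    rw [MvPolynomial.as_sum q]
    refine Ideal.sum_mem _ fun m hm => ?_
    obtain ⟨i, hi⟩ : ∃ i, m i ≠ 0 := by
      by_contra! h
      obtain rfl : m = 0 := Finsupp.ext h
      exact MvPolynomial.mem_support_iff.mp hm hq
    exact Ideal.mem_of_dvd _ (((MvPolynomial.X_dvd_monomial (i := i) (j := m)
      (r := MvPolynomial.coeff m q)).mpr (Or.inr hi))) (hX i)
  have hJM : J ≤ M := Ideal.span_le.mpr (by
    rintro _ ⟨i, rfl⟩
    exact RingHom.mem_ker.mpr ((hf i).coeff_eq_zero (d := 0) (by simp; exact (hd i).ne)))
  -- the colon ideal is contained in `M`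
  let K : Ideal (MvPolynomial (Fin (n + 1)) k) := Submodule.colon J {g}
  have hKM : K ≤ M := by
    obtain ⟨P, hP, hKP⟩ := K.exists_le_maximal (fun h => hgJ (by
      have h1 : (1 : (MvPolynomial (Fin (n + 1)) k)) ∈ K := h ▸ trivial
      simpa [K, Submodule.mem_colon_singleton] using h1))
    rw [hXM P hP.isPrime fun i => ?_] at hKP
    · exact hKP
    · obtain ⟨m, hm⟩ := hg i
      exact hP.isPrime.mem_of_pow_mem m (hKP (by simpa [K, Submodule.mem_colon_singleton] using hm))
  let R := Localization.AtPrime M
  set JR := J.map (algebraMap (MvPolynomial (Fin (n + 1)) k) R) with hJR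
  have hgR : algebraMap (MvPolynomial (Fin (n + 1)) k) R g ∉ JR := by
    rw [hJR, IsLocalization.algebraMap_mem_map_algebraMap_iff M.primeCompl]
    rintro ⟨s, hs, hsg⟩
    exact hs (hKM (by simpa [K, Submodule.mem_colon_singleton] using hsg))
  have hne : Ideal.Quotient.mk JR (algebraMap (MvPolynomial (Fin (n + 1)) k) R g) ≠ 0 := fun h => hgR (Ideal.Quotient.eq_zero_iff_mem.mp h)
  obtain ⟨p, hp, hle⟩ := exists_le_isAssociatedPrime_of_isNoetherianRing R
    (Ideal.Quotient.mk JR (algebraMap (MvPolynomial (Fin (n + 1)) k) R g)) hne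
  have hpmax : p = IsLocalRing.maximalIdeal R := by
    rw [← IsLocalization.map_under M.primeCompl R p, ← IsLocalization.AtPrime.map_eq_maximalIdeal M R]
    congr 1
    refine hXM _ (by haveI := hp.isPrime; exact inferInstance) fun i => ?_
    obtain ⟨m, hm⟩ := hg i
    haveI := hp.isPrime
    refine Ideal.IsPrime.mem_of_pow_mem (I := p.under (MvPolynomial (Fin (n + 1)) k)) inferInstance m (hle ?_)
    refine Submodule.mem_colon_singleton.mpr ((Submodule.mem_bot R).mpr ?_)
    show Ideal.Quotient.mk JR (algebraMap (MvPolynomial (Fin (n + 1)) k) R (MvPolynomial.X i ^ m) * algebraMap (MvPolynomial (Fin (n + 1)) k) R g) = 0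
    rw [← map_mul, Ideal.Quotient.eq_zero_iff_mem]
    exact Ideal.mem_map_of_mem _ hm
  have hlist : Ideal.ofList (List.ofFn fun i => algebraMap (MvPolynomial (Fin (n + 1)) k) R (f i)) = JR := by
    rw [hJR, hJdef, Ideal.map_span, ← Set.range_comp]
    unfold Ideal.ofList
    congr 1
    ext x
    simp [List.mem_ofFn]
  have hht : (r : ℕ∞) ≤ JR.height := by
    rw [← IsLocalization.height_under M.primeCompl JR, ← hJ]
    exact Ideal.height_mono (Ideal.le_comap_map)
  have hmin := Groth.Ega4b.mem_minimalPrimes_of_associatedPrimes_quotient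
    (Groth.Calg6.isCohenMacaulayModule_of_isRegularLocalRing R) (List.ofFn fun i => algebraMap (MvPolynomial (Fin (n + 1)) k) R (f i))
    (fun x hx => by
      obtain ⟨i, rfl⟩ := List.mem_ofFn.mp hx
      exact (IsLocalization.AtPrime.to_map_mem_maximal_iff R M (f i)).mpr (hJM (Ideal.subset_span ⟨i, rfl⟩)))
    (by rw [List.length_ofFn, hlist]; exact hht) p (by rw [hlist]; exact hp)
  rw [hlist, hpmax, hJR, hJdef, Ideal.map_span, ← Set.range_comp] at hmin
  have h1 := Ideal.height_le_card_of_mem_minimalPrimes_span (Set.finite_range _) hmin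
  rw [← IsLocalization.height_under M.primeCompl (IsLocalRing.maximalIdeal R),
    IsLocalization.AtPrime.under_maximalIdeal R M,
    Groth.Variety2.Dim.height_isMaximal_mvPolynomial k (n + 1) M hM] at h1
  have h2 : (Set.range (algebraMap (MvPolynomial (Fin (n + 1)) k) R ∘ f)).ncard ≤ r := by
    rw [← Set.image_univ]
    exact (Set.ncard_image_le Set.finite_univ).trans (by simp)
  have h3 : n + 1 ≤ r := le_trans (by exact_mod_cast h1) h2
  omega

end Groth.Agent.S10903
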