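import Groth.Statements.S10906
import Groth.Agent.Calg6.HilbDim
import Groth.Agent.Misc15.HilbLead
import Groth.Agent.Ega41Adic.KaehlerRank
-- import your own Groth.Agent.* helpers here

set_option autoImplicit false
universe u
open Polynomial
open ProjDeg

namespace Groth.Agent.S10906

open Polynomial

section Helpers

variable {k : Type u} [Field k] {n : ℕ}

/-- A polynomial is determined by its eventual values. -/
theorem eq_zero_of_eventually (p : ℚ[X]) (h : ∃ N : ℕ, ∀ m : ℕ, N ≤ m → p.eval (m : ℚ) = 0) : p = 0 := by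
  obtain ⟨N, hN⟩ := h
  refine Polynomial.eq_zero_of_infinite_isRoot p (Set.Infinite.mono (s := (fun m : ℕ => (m : ℚ)) '' Set.Ici N) ?_
    ((Set.Ici_infinite N).image (fun a _ b _ h => Nat.cast_injective h)))
  rintro _ ⟨m, hm, rfl⟩
  exact hN m hm

theorem isHomogeneous_stdGr {B : Ideal (MvPolynomial (Fin (n + 1)) k)}
    (hB : B.IsHomogeneous (CohB1.polyGrading n k)) : B.IsHomogeneous (GrSyz.stdGr k (Fin (n + 1))) := by
  classical
  have h : B = Ideal.span {x | x ∈ B ∧ ∃ j, x ∈ GrSyz.stdGr k (Fin (n + 1)) j} := by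
    refine le_antisymm (fun r hr => ?_) (Ideal.span_le.2 fun x hx => hx.1)
    rw [← DirectSum.sum_support_decompose (CohB1.polyGrading n k) r]
    refine Ideal.sum_mem _ fun j _ => Ideal.subset_span ⟨hB j hr, (j : ℤ), ?_⟩
    rw [Groth.GrSyzLib.stdGr_natCast]
    exact SetLike.coe_mem _
  rw [h]
  exact Ideal.homogeneous_span _ _ fun x hx => hx.2

theorem hf_eq_piece (B : Ideal (MvPolynomial (Fin (n + 1)) k)) (m : ℕ) :
    Groth.Misc15.HilbLead.hf B (m : ℤ) = (Module.finrank k ↥(CohB1.polyGrading n k m) : ℚ) -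
      Module.finrank k ↥(Submodule.restrictScalars k B ⊓ CohB1.polyGrading n k m) := by
  rw [Groth.Misc15.HilbLead.hf_eq, Groth.GrSyzLib.stdGr_natCast, inf_comm]

theorem hf_nonneg (B : Ideal (MvPolynomial (Fin (n + 1)) k)) (g : ℤ) : 0 ≤ Groth.Misc15.HilbLead.hf B g :=
  Nat.cast_nonneg _

theorem hf_anti {B C : Ideal (MvPolynomial (Fin (n + 1)) k)} (h : B ≤ C) (g : ℤ) :
    Groth.Misc15.HilbLead.hf C g ≤ Groth.Misc15.HilbLead.hf B g := by
  rw [Groth.Misc15.HilbLead.hf_eq, Groth.Misc15.HilbLead.hf_eq]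
  refine sub_le_sub_left (Nat.cast_le.2 (Submodule.finrank_mono (inf_le_inf_left _ ?_))) _
  exact fun x hx => h hx

theorem loclen_eq_length (Q B : Ideal (MvPolynomial (Fin (n + 1)) k)) [Q.IsPrime] :
    Groth.Misc15.HilbLead.loclen Q B = Module.length (Localization.AtPrime Q)
      (LocalizedModule Q.primeCompl (MvPolynomial (Fin (n + 1)) k ⧸ B)) := by
  let f := Submodule.toLocalizedQuotient' (Localization.AtPrime Q) Q.primeCompl
    (Algebra.linearMap (MvPolynomial (Fin (n + 1)) k) (Localization.AtPrime Q)) B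
  let e := (IsLocalizedModule.linearEquiv Q.primeCompl (LocalizedModule.mkLinearMap Q.primeCompl _) f).extendScalarsOfIsLocalization
    Q.primeCompl (Localization.AtPrime Q)
  rw [e.length_eq, Groth.Misc15.HilbLead.loclen]
  exact (Submodule.quotEquivOfEq _ _ (Ideal.localized'_eq_map _ _ B).symm).length_eq

theorem height_eq_of_hilb_zero (q : Ideal (MvPolynomial (Fin (n + 1)) k)) [hq : q.IsPrime]
    (h : ∃ N : ℕ, ∀ m : ℕ, N ≤ m → Groth.Misc15.HilbLead.hf q (m : ℤ) = 0) :
    ringKrullDim (MvPolynomial (Fin (n + 1)) k ⧸ q) = 0 := by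
  obtain ⟨N, hN⟩ := h
  have hle : ∀ i, (MvPolynomial.X i : MvPolynomial (Fin (n + 1)) k) ∈ q := fun i => by
    have hm : ((MvPolynomial.X i : MvPolynomial (Fin (n + 1)) k) ^ (N + 1)) ∈ GrSyz.stdGr k (Fin (n + 1)) ((N + 1 : ℕ) : ℤ) := by
      rw [Groth.GrSyzLib.stdGr_natCast]
      simpa using ((MvPolynomial.isHomogeneous_X k i).pow (N + 1))
    have h0 := hN (N + 1) (by omega)
    rw [Groth.Misc15.HilbLead.hf_eq, sub_eq_zero, Nat.cast_inj] at h0
    have heq := Submodule.eq_of_le_of_finrank_eq (inf_le_left) h0.symm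
    exact hq.mem_of_pow_mem _ ((heq.ge hm).2)
  have hsurj : Function.Surjective (algebraMap k (MvPolynomial (Fin (n + 1)) k ⧸ q)) := by
    intro y
    obtain ⟨p, rfl⟩ := Ideal.Quotient.mk_surjective y
    induction p using MvPolynomial.induction_on with
    | C a => exact ⟨a, rfl⟩
    | add a b ha hb =>
      obtain ⟨x, hx⟩ := ha
      obtain ⟨y, hy⟩ := hb
      exact ⟨x + y, by rw [map_add, map_add, hx, hy]⟩
    | mul_X a i _ => exact ⟨0, by rw [map_zero, eq_comm, Ideal.Quotient.eq_zero_iff_mem]; exact q.mul_mem_left _ (hle i)⟩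
  exact (ringKrullDim_eq_of_ringEquiv (RingEquiv.ofBijective _ ⟨RingHom.injective _, hsurj⟩)).symm.trans (ringKrullDim_eq_zero_of_field k)

end Helpers

/-- Let k be a field, R = k[X_0, …, X_n] graded by degree, I a homogeneous ideal with Hilbert polynomial
P (a rational polynomial with P(m) = dim_k R_m − dim_k (I ∩ R_m) for all large m), and p_1, …, p_r
the minimal prime ideals over I, listed without repetition, with Hilbert polynomials Q_i; put t =
deg P. Defining the degree of V(J) as (degree of its Hilbert polynomial)! times the leading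
coefficient and the multiplicity of the component V(p_i) in Y = V(I) as the length of (R/I)_{p_i}
over R_{p_i}, the degree of Y is the sum, over the components of top dimension (those i with deg Q_i
= t), of multiplicity times degree: deg Y = Σ_{deg Q_i = t} i(Y_i; Y) · deg V(p_i). -/
theorem result (k : Type u) [Field k] (n : ℕ)
    (I : Ideal (MvPolynomial (Fin (n + 1)) k)) (hIh : I.IsHomogeneous (CohB1.polyGrading n k))
    (P : ℚ[X])
    (hP : ∃ m₀ : ℕ, ∀ m : ℕ, m₀ ≤ m → P.eval (m : ℚ) =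
      (Module.finrank k ↥(CohB1.polyGrading n k m) : ℚ) -
        Module.finrank k ↥(Submodule.restrictScalars k I ⊓ CohB1.polyGrading n k m))
    (r : ℕ) (p : Fin r → Ideal (MvPolynomial (Fin (n + 1)) k)) [hp : ∀ i, (p i).IsPrime] (hpinj : Function.Injective p)
    (hpmin : ∀ q : Ideal (MvPolynomial (Fin (n + 1)) k), q ∈ I.minimalPrimes ↔ ∃ i, q = p i)
    (Qp : Fin r → ℚ[X])
    (hQp : ∀ i, ∃ m₀ : ℕ, ∀ m : ℕ, m₀ ≤ m → (Qp i).eval (m : ℚ) =
      (Module.finrank k ↥(CohB1.polyGrading n k m) : ℚ) -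
        Module.finrank k ↥(Submodule.restrictScalars k (p i) ⊓ CohB1.polyGrading n k m)) :
    (P.natDegree.factorial : ℚ) * P.leadingCoeff =
      ∑ i : Fin r, if (Qp i).natDegree = P.natDegree then
        ((Qp i).natDegree.factorial : ℚ) * (Qp i).leadingCoeff *
          (Module.length (Localization.AtPrime (p i))
            (LocalizedModule (p i).primeCompl (MvPolynomial (Fin (n + 1)) k ⧸ I))).toNat
      else 0 := by
  classical
  obtain ⟨m₀, hm₀⟩ := hP
  have hIp : ∀ i, I ≤ p i := fun i => ((hpmin _).2 ⟨i, rfl⟩).1.2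
  by_cases hP0 : P = 0
  · have hQ0 : ∀ i, Qp i = 0 := fun i => by
      obtain ⟨m₁, hm₁⟩ := hQp i
      refine eq_zero_of_eventually _ ⟨m₀ + m₁, fun m hm => ?_⟩
      rw [hm₁ m (by omega), ← hf_eq_piece]
      refine le_antisymm ((hf_anti (hIp i) _).trans_eq ?_) (hf_nonneg _ _)
      rw [hf_eq_piece, ← hm₀ m (by omega), hP0, eval_zero]
    rw [hP0, leadingCoeff_zero, mul_zero]
    exact (Finset.sum_eq_zero fun i _ => by simp [hQ0 i]).symm
  set t := P.natDegree with ht
  have hdim := Groth.Calg6.HilbDim.natDegree_add_one_eq_ringKrullDim I hIh P hP0 ⟨m₀, hm₀⟩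
  have hph : ∀ i, (p i).IsHomogeneous (CohB1.polyGrading n k) := fun i => by
    have h2 : (Ideal.homogeneousCore (CohB1.polyGrading n k) (p i)).toIdeal.IsPrime :=
      (hp i).homogeneousCore
    have h1 : p i ≤ (Ideal.homogeneousCore (CohB1.polyGrading n k) (p i)).toIdeal :=
      ((hpmin _).2 ⟨i, rfl⟩).2 ⟨h2, by
        conv_lhs => rw [← hIh.toIdeal_homogeneousCore_eq_self]
        exact Ideal.homogeneousCore_mono _ (hIp i)⟩ (Ideal.toIdeal_homogeneousCore_le _ _)
    rw [le_antisymm h1 (Ideal.toIdeal_homogeneousCore_le _ _)]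
    exact HomogeneousIdeal.isHomogeneous _
  have hfinrk : ∀ i, ∃ h d : ℕ, (p i).height = h ∧
      ringKrullDim (MvPolynomial (Fin (n + 1)) k ⧸ p i) = (d : WithBot ℕ∞) ∧ h + d = n + 1 ∧ d ≤ t + 1 ∧
      (Qp i ≠ 0 → d = (Qp i).natDegree + 1) ∧ (Qp i = 0 → d = 0) := fun i => by
    have hle : ringKrullDim (MvPolynomial (Fin (n + 1)) k ⧸ p i) ≤ ((t + 1 : ℕ) : WithBot ℕ∞) := by
      have h1 := ringKrullDim_le_of_surjective _ (Ideal.Quotient.factor_surjective (hIp i))
      rw [hdim] at h1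
      exact_mod_cast h1
    obtain ⟨h, hh⟩ := ENat.ne_top_iff_exists.1 (Ideal.height_ne_top (I := p i) (hp i).ne_top)
    have hsum := Groth.Ega41Adic.height_add_ringKrullDim_quotient k (Fin (n + 1)) (p i)
    have : Nontrivial (MvPolynomial (Fin (n + 1)) k ⧸ p i) := Ideal.Quotient.nontrivial_iff.2 (hp i).ne_top
    obtain ⟨d, hd, hdle⟩ : ∃ d : ℕ, ringKrullDim (MvPolynomial (Fin (n + 1)) k ⧸ p i) = (d : WithBot ℕ∞) ∧ d ≤ t + 1 := by
      obtain ⟨x, hx⟩ := WithBot.ne_bot_iff_exists.1 (show ringKrullDim (MvPolynomial (Fin (n + 1)) k ⧸ p i) ≠ ⊥ from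
        fun h => absurd (ringKrullDim_nonneg_of_nontrivial (R := MvPolynomial (Fin (n + 1)) k ⧸ p i)) (by simp [h]))
      rw [← hx] at hle ⊢
      have hx' : x ≤ ((t + 1 : ℕ) : ℕ∞) := WithBot.coe_le_coe.1 hle
      obtain ⟨d, rfl⟩ := ENat.ne_top_iff_exists.1 (ne_top_of_le_ne_top (ENat.natCast_ne_top _) hx')
      exact ⟨d, rfl, by exact_mod_cast hx'⟩
    rw [hd, ← hh, Nat.card_fin] at hsum
    refine ⟨h, d, hh.symm, hd, by exact_mod_cast hsum, hdle, fun hne => ?_, fun h0 => ?_⟩
    · have := Groth.Calg6.HilbDim.natDegree_add_one_eq_ringKrullDim (p i) (hph i) (Qp i) hne (hQp i)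
      rw [hd] at this
      exact_mod_cast this
    · obtain ⟨m₁, hm₁⟩ := hQp i
      have := height_eq_of_hilb_zero (p i) ⟨m₁, fun m hm => by rw [hf_eq_piece, ← hm₁ m hm, h0, eval_zero]⟩
      rw [hd] at this
      exact_mod_cast this
  choose ht' d hht hd hsum hdle hne hzero using hfinrk
  have htn : t ≤ n := by
    have h1 := ringKrullDim_le_of_surjective _ (Ideal.Quotient.mk_surjective (I := I))
    rw [hdim, MvPolynomial.ringKrullDim_of_isNoetherianRing, ringKrullDim_eq_zero_of_field, zero_add, Nat.card_fin] at h1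
    have : t + 1 ≤ n + 1 := by exact_mod_cast h1
    omega
  have hc₀ : ((n - t : ℕ) : ℕ∞) ≤ I.height := by
    rw [Ideal.height_eq_inf_minimalPrimes]
    refine le_iInf₂ fun Q hQ => ?_
    obtain ⟨i, rfl⟩ := (hpmin Q).1 hQ
    rw [hht i]
    have := hsum i
    have := hdle i
    exact_mod_cast (show n - t ≤ ht' i by omega)
  let T := (Finset.univ.filter fun i => ht' i = n - t).image p
  have hT : ∀ Q, Q ∈ T ↔ Q ∈ I.minimalPrimes ∧ Q.height = ((n - t : ℕ) : ℕ∞) := fun Q => by
    simp only [T, Finset.mem_image, Finset.mem_filter, Finset.mem_univ, true_and]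
    constructor
    · rintro ⟨i, hi, rfl⟩
      exact ⟨(hpmin _).2 ⟨i, rfl⟩, by rw [hht, hi]⟩
    · rintro ⟨hQ, hQh⟩
      obtain ⟨i, rfl⟩ := (hpmin Q).1 hQ
      exact ⟨i, by rw [hht] at hQh; exact_mod_cast hQh, rfl⟩
  have hnum := Groth.Misc15.HilbLead.num_assoc I (n - t) hc₀ (Nat.sub_le _ _) T hT I (isHomogeneous_stdGr hIh) le_rfl
  rw [show n - (n - t) = t by omega] at hnum
  choose m₁ hm₁ using hQp
  have hco := Groth.Misc15.HilbLead.coeff_eq_zero (q := P - ∑ i ∈ Finset.univ.filter (fun i => ht' i = n - t),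
      C (Groth.Misc15.HilbLead.mult (p i) I : ℚ) * Qp i)
    (fun e he => Groth.Misc15.HilbLead.num_mono he hnum) ⟨m₀ + ∑ i, m₁ i, fun j hj => by
      show Groth.Misc15.HilbLead.hf I j - _ = _
      rw [eval_sub, eval_finsetSum, Finset.sum_image (fun a _ b _ h => hpinj h), hf_eq_piece, ← hm₀ j (by omega)]
      congr 1
      refine Finset.sum_congr rfl fun i _ => ?_
      have := Finset.single_le_sum (f := m₁) (fun _ _ => Nat.zero_le _) (Finset.mem_univ i)
      rw [eval_mul, eval_C, hf_eq_piece, ← hm₁ i j (by omega)]⟩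
  rw [coeff_sub, finsetSum_coeff, sub_eq_zero] at hco
  rw [Polynomial.leadingCoeff, ← ht, hco, Finset.mul_sum, Finset.sum_filter]
  refine Finset.sum_congr rfl fun i _ => ?_
  rw [coeff_C_mul, Groth.Misc15.HilbLead.mult_eq, loclen_eq_length]
  have h1 := hsum i
  by_cases hQ : Qp i = 0
  · have h2 := hzero i hQ
    rw [if_neg (by omega)]
    simp [hQ]
  · have h2 := hne i hQ
    by_cases hi : (Qp i).natDegree = t
    · rw [if_pos (by omega), if_pos hi, Polynomial.leadingCoeff, hi]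
      ring
    · rw [if_neg (by omega), if_neg hi]

end Groth.Agent.S10906
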