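import Groth.Statements.S10908
import Groth.Agent.Ega2Proj.TwistSheaf
-- import your own Groth.Agent.* helpers here

set_option autoImplicit false
universe u
open ProjDeg

namespace Groth.Agent.S10908

/-- Let S be a Noetherian graded integral domain, graded by the natural numbers as an algebra over a
ring R, generated by its degree-one part over S_0 (S_1 S_i = S_{i+1}) with S_1 ≠ 0, and integrally
closed in its field of fractions (so that X = Proj S is projectively normal). Then for every d ≥ 0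
the canonical map from S_d to the global sections of the twisting sheaf O_X(d), sending a to the
section a/1, is bijective. (The underlying lemma: every global section of O_X(d) is an element of
the homogeneous fraction ring integral over S.) (The published corollary takes the degree-zero part
to be a finitely generated algebra over a field; this row assumes only that the ring is Noetherian,
which is all the argument uses.) -/
theorem result {R A : Type u} [CommRing R] [CommRing A] [IsDomain A]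
    [IsNoetherianRing A] [Algebra R A] (𝒜 : ℕ → Submodule R A) [GradedAlgebra 𝒜]
    (hgen : ∀ i : ℕ, 𝒜 1 * 𝒜 i = 𝒜 (i + 1)) (h1 : 𝒜 1 ≠ ⊥) (hint : IsIntegrallyClosed A) (d : ℕ) :
    Function.Bijective (fun a : ↥(𝒜 d) => Twist.globalOf 𝒜 a) := by
  obtain ⟨a₁, ha₁, ha₁0⟩ := (Submodule.ne_bot_iff _).1 h1
  let η : ProjectiveSpectrum 𝒜 := ⟨⊥, by simpa using Ideal.isPrime_bot, fun h => by
    have : a₁ ∈ (⊥ : HomogeneousIdeal 𝒜).toIdeal := h (HomogeneousIdeal.mem_irrelevant_of_mem 𝒜 one_pos ha₁)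
    rw [HomogeneousIdeal.toIdeal_bot, Ideal.mem_bot] at this
    exact ha₁0 this⟩
  have hη : ∀ a : A, a ∈ η.asHomogeneousIdeal → a = 0 := fun a ha => by
    have h2 : a ∈ (⊥ : HomogeneousIdeal 𝒜).toIdeal := ha
    rwa [HomogeneousIdeal.toIdeal_bot, Ideal.mem_bot] at h2
  have cross : ∀ (a b a' b' : A) (hb : b ∉ η.asHomogeneousIdeal) (hb' : b' ∉ η.asHomogeneousIdeal),
      (Localization.mk a ⟨b, hb⟩ : Twist.Loc 𝒜 η) = Localization.mk a' ⟨b', hb'⟩ → b' * a = b * a' := by
    intro a b a' b' hb hb' h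
    obtain ⟨c, hc⟩ := Localization.r_iff_exists.1 (Localization.mk_eq_mk_iff.1 h)
    exact mul_left_cancel₀ (fun e => c.2 (by rw [e]; exact zero_mem _)) hc
  refine ⟨fun a b h => ?_, fun s => ?_⟩
  · have := congrArg (fun t => ((t.1 ⟨η, trivial⟩).1 : Twist.Loc 𝒜 η)) h
    exact Subtype.ext (by simpa using cross _ _ _ _ _ _ this)
  have rep : ∀ x : ProjectiveSpectrum 𝒜, ∃ (i j : ℕ) (p q : A) (hq : q ∉ x.asHomogeneousIdeal)
      (hq' : q ∉ η.asHomogeneousIdeal), p ∈ 𝒜 i ∧ q ∈ 𝒜 j ∧ (i = j + d ∨ p = 0) ∧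
        (s.1 ⟨x, trivial⟩).1 = Localization.mk p ⟨q, hq⟩ ∧
        (s.1 ⟨η, trivial⟩).1 = Localization.mk p ⟨q, hq'⟩ := by
    intro x
    obtain ⟨V, hxV, ι, i, j, ⟨p, hp⟩, ⟨q, hq⟩, hnin, hdeg, hval⟩ := s.2 ⟨x, trivial⟩
    have hηV : η ∈ V := by
      have h : η ⤳ x := by
        rw [specializes_iff_mem_closure, ← ProjectiveSpectrum.le_iff_mem_closure]
        intro a ha
        rw [hη a ha]
        exact zero_mem _
      exact h.mem_open V.2 hxV
    refine ⟨i, j, p, q, hnin ⟨x, hxV⟩, hnin ⟨η, hηV⟩, hp, hq, ?_, hval ⟨x, hxV⟩, hval ⟨η, hηV⟩⟩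
    exact hdeg.imp (fun h => by exact_mod_cast h) id
  obtain ⟨i₀, j₀, p₀, q₀, hq₀, -, hp₀, hq₀m, hd₀, hs₀, -⟩ := rep η
  have hq₀0 : q₀ ≠ 0 := fun e => hq₀ (by rw [e]; exact zero_mem _)
  have homog : ∀ (e : ℕ) (g p : A), g ∈ 𝒜 e → p * q₀ = g * p₀ → p ∈ 𝒜 (e + d) := by
    intro e g p hg h
    rcases hd₀ with h0 | h0
    · have h2 : p * q₀ ∈ 𝒜 (e + d + j₀) := by
        rw [h, show e + d + j₀ = e + i₀ by omega]
        exact SetLike.mul_mem_graded hg hp₀
      have h3 := DirectSum.coe_decompose_mul_add_of_right_mem 𝒜 (a := p) (i := e + d) hq₀m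
      rw [DirectSum.decompose_of_mem_same _ h2] at h3
      rw [mul_right_cancel₀ hq₀0 h3]
      exact SetLike.coe_mem _
    · rw [h0, mul_zero, mul_eq_zero] at h
      rw [h.resolve_right hq₀0]
      exact zero_mem _
  let T : Ideal A := Ideal.span (𝒜 1 : Set A)
  have hT : ∀ i, ∀ a ∈ 𝒜 i, a ∈ T ^ i := by
    intro i
    induction i with
    | zero => simp
    | succ i ih =>
      intro a ha
      rw [← hgen i] at ha
      refine Submodule.mul_induction_on ha (fun u hu v hv => ?_) fun u v hu hv => add_mem hu hv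
      rw [pow_succ']
      exact Ideal.mul_mem_mul (Ideal.subset_span hu) (ih v hv)
  let G : Set A := {g | ∃ (e : ℕ) (p : A), g ∈ 𝒜 e ∧ p * q₀ = g * p₀}
  let I : Ideal A := Ideal.span G
  have hIh : I.IsHomogeneous 𝒜 := Ideal.homogeneous_span _ _ fun g hg => ⟨_, hg.choose_spec.choose_spec.1⟩
  have hrad : T ≤ I.radical := by
    refine Ideal.span_le.2 fun g hg => ?_
    rw [SetLike.mem_coe, hIh.radical_eq, Ideal.mem_sInf]
    rintro P ⟨hP, hIP, hPp⟩
    by_contra hgP
    obtain ⟨i, j, p, q, hqx, hq', hpi, hqj, -, -, hsη⟩ := rep ⟨⟨P, hP⟩, hPp, fun h => hgP (h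
      (HomogeneousIdeal.mem_irrelevant_of_mem 𝒜 one_pos hg))⟩
    refine hqx (hIP (Ideal.subset_span ⟨j, p, hqj, ?_⟩))
    rw [mul_comm p]
    exact cross _ _ _ _ _ _ (hsη.symm.trans hs₀)
  obtain ⟨N, hN⟩ := Ideal.exists_pow_le_of_le_radical_of_fg hrad (IsNoetherian.noetherian T)
  have hden : ∀ g ∈ I, ∃ p, p * q₀ = g * p₀ := by
    intro g hg
    refine Submodule.span_induction ?_ ⟨0, by simp⟩ ?_ ?_ hg
    · rintro u ⟨e, p, -, hp⟩; exact ⟨p, hp⟩
    · rintro u v - - ⟨p, hp⟩ ⟨p', hp'⟩; exact ⟨p + p', by rw [add_mul, add_mul, hp, hp']⟩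
    · rintro r u - ⟨p, hp⟩; exact ⟨r * p, by rw [smul_eq_mul, mul_assoc, hp, mul_assoc]⟩
  open scoped Pointwise in
  have hM : ∀ g ∈ T ^ N, ∃ p ∈ T ^ N, p * q₀ = g * p₀ := by
    have hspan : T ^ N = Ideal.span ((𝒜 1 : Set A) ^ N) := Submodule.span_pow _ N
    have hdegN : ∀ m, ∀ g ∈ (𝒜 1 : Set A) ^ m, g ∈ 𝒜 m := by
      intro m
      induction m with
      | zero => rintro g hg; rw [pow_zero, Set.mem_one] at hg; rw [hg]; exact SetLike.GradedOne.one_mem
      | succ m ih =>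
        rintro g hg
        rw [pow_succ, Set.mem_mul] at hg
        obtain ⟨u, hu, v, hv, rfl⟩ := hg
        exact SetLike.mul_mem_graded (ih u hu) hv
    intro g hg
    rw [hspan] at hg
    refine Submodule.span_induction ?_ ⟨0, zero_mem _, by simp⟩ ?_ ?_ hg
    · intro u hu
      have huT : u ∈ T ^ N := hspan ▸ Ideal.subset_span hu
      obtain ⟨p, hp⟩ := hden u (hN huT)
      exact ⟨p, Ideal.pow_le_pow_right (Nat.le_add_right N d) (hT _ p (homog N u p (hdegN N u hu) hp)), hp⟩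
    · rintro u v - - ⟨p, hpm, hp⟩ ⟨p', hpm', hp'⟩
      exact ⟨p + p', add_mem hpm hpm', by rw [add_mul, add_mul, hp, hp']⟩
    · rintro r u - ⟨p, hpm, hp⟩
      exact ⟨r * p, Ideal.mul_mem_left _ _ hpm, by rw [smul_eq_mul, mul_assoc, hp, mul_assoc]⟩
  let K := FractionRing A
  have hinj := IsFractionRing.injective A K
  let σ : K := algebraMap A K p₀ / algebraMap A K q₀
  have hq₀K : algebraMap A K q₀ ≠ 0 := fun e => hq₀0 (hinj (e.trans (map_zero _).symm))
  have hσ : IsIntegral A σ := by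
    refine isIntegral_of_smul_mem_submodule (Submodule.map (Algebra.linearMap A K) (T ^ N)) ?_
      ((IsNoetherian.noetherian (T ^ N)).map _) σ ?_
    · intro e
      have : algebraMap A K (a₁ ^ N) ∈ (⊥ : Submodule A K) :=
        e ▸ Submodule.mem_map_of_mem (Ideal.pow_mem_pow (Ideal.subset_span ha₁) N)
      exact pow_ne_zero N ha₁0 (hinj (((Submodule.mem_bot A).1 this).trans (map_zero _).symm))
    · rintro _ ⟨g, hg, rfl⟩
      obtain ⟨p, hp, hpq⟩ := hM g hg
      refine ⟨p, hp, ?_⟩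
      show algebraMap A K p = σ * algebraMap A K g
      rw [div_mul_eq_mul_div, eq_div_iff hq₀K, ← map_mul, ← map_mul, hpq, mul_comm]
  obtain ⟨b, hb⟩ := IsIntegrallyClosed.algebraMap_eq_of_integral hσ
  have hbq : b * q₀ = p₀ := hinj (by rw [map_mul, hb, div_mul_cancel₀ _ hq₀K])
  have hbd : b ∈ 𝒜 d := by
    have := homog 0 1 b SetLike.GradedOne.one_mem (by rw [one_mul, hbq])
    rwa [zero_add] at this
  refine ⟨⟨b, hbd⟩, Subtype.ext (funext fun x => Subtype.ext ?_)⟩
  obtain ⟨i, j, p, q, hq, hq', -, -, -, hsx, hsη⟩ := rep x.1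
  refine Eq.trans ?_ hsx.symm
  have hpq := cross _ _ _ _ _ _ (hsη.symm.trans hs₀)
  rw [← hbq, ← mul_assoc, mul_comm (q * b), mul_right_inj' hq₀0] at hpq
  refine Localization.mk_eq_mk_iff.2 (Localization.r_iff_exists.2 ⟨1, ?_⟩)
  simp [hpq]

end Groth.Agent.S10908
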