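import Groth.Statements.S10909
import Groth.Agent.Misc3Sm.Regular
import Groth.Agent.Ega4Algebra1.RegularLocal

set_option autoImplicit false
universe u
open TensorProduct
open SmVar

namespace Groth.Agent.S10909

/-- Let k be an algebraically closed field and A a k-algebra of finite type with irreducible spectrum
(the nilradical of A is prime) and Krull dimension n; X = Spec A is then an irreducible separated
k-scheme of finite type of dimension n. Then X is a nonsingular variety — A is reduced and every
localization of A at a prime is a regular local ring — if and only if the module of Kähler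
differentials Ω_{A/k} is locally free of rank n: projective, with fibre κ(P) ⊗_A Ω_{A/k} of
dimension n at every prime P. -/
theorem result (k : Type u) [Field k]
    [IsAlgClosed k] (A : Type u) [CommRing A] [Algebra k A] [Algebra.FiniteType k A]
    (hirr : (nilradical A).IsPrime) (n : ℕ) (hn : ringKrullDim A = n) :
    (IsReduced A ∧ IsRegularRing A) ↔
      (Module.Projective A (Ω[A⁄k]) ∧
        ∀ (P : Ideal A) [P.IsPrime],
          Module.finrank P.ResidueField (P.ResidueField ⊗[A] Ω[A⁄k]) = n) := by
  haveI : IsNoetherianRing A := Algebra.FiniteType.isNoetherianRing k A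
  have hdim : ∀ (m : Ideal A) [m.IsMaximal], ringKrullDim (Localization.AtPrime m) = (n : WithBot ℕ∞) :=
    fun m _ => Misc3Sm.ringKrullDim_localization_eq k hirr n hn m
  constructor
  · rintro ⟨hred, hreg⟩
    haveI : Algebra.Smooth k A := Misc3Bertini.smooth_of_regular k fun p _ => hreg.isRegularLocalRing_localization p
    refine ⟨inferInstance, fun P _ => ?_⟩
    obtain ⟨m, hm, hPm⟩ := Ideal.exists_le_maximal P (Ideal.IsPrime.ne_top ‹_›)
    have hbot : nilradical A = ⊥ := nilradical_eq_zero A
    haveI : (⊥ : Ideal A).IsPrime := hbot ▸ hirr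
    have h1 : n ≤ Module.finrank (⊥ : Ideal A).ResidueField ((⊥ : Ideal A).ResidueField ⊗[A] Ω[A⁄k]) :=
      Misc3Sm.dim_le_finrank_fibre k A ⊥ n (by
        rw [ringKrullDim_eq_of_ringEquiv (RingEquiv.quotientBot A), hn])
    have h2 := (Groth.Agent.S11311.result k (Localization.AtPrime m) (Misc3Sm.bijective_residue k m) n (hdim m)).2
      inferInstance (hreg.isRegularLocalRing_localization m)
    haveI := h2.1
    have h3 := Misc3Sm.finrank_fibre_eq_of_free k m
    rw [h2.2] at h3
    refine le_antisymm ((Misc3Sm.finrank_fibre_le Ω[A⁄k] P m hPm).trans h3.le)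
      (h1.trans (Misc3Sm.finrank_fibre_le Ω[A⁄k] ⊥ P bot_le))
  · rintro ⟨hproj, hrank⟩
    have hloc : ∀ (m : Ideal A) [m.IsMaximal], IsRegularLocalRing (Localization.AtPrime m) := fun m _ => by
      haveI := Misc3Sm.free_localization_kaehler k m
      have h3 := Misc3Sm.finrank_fibre_eq_of_free k m
      rw [hrank m] at h3
      exact (Groth.Agent.S11311.result k (Localization.AtPrime m) (Misc3Sm.bijective_residue k m) n (hdim m)).1
        ⟨inferInstance, h3.symm⟩
    refine ⟨isReduced_ofLocalizationMaximal A fun m _ => ?_, Misc3Sm.isRegularRing_of_maximal k hloc⟩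
    haveI := hloc m
    haveI := Groth.Ega4Algebra1.isDomain_of_isRegularLocalRing (Localization.AtPrime m)
    infer_instance

end Groth.Agent.S10909
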