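import Groth.Statements.S10910
import Groth.Agent.Misc3Bertini.Ring

set_option autoImplicit false
universe u
open TensorProduct
open SmVar

namespace Groth.Agent.S10910

/-- Let k be an algebraically closed field, A a k-algebra of finite type which is an integral domain all
of whose localizations at primes are regular (X = Spec A is a nonsingular affine variety), and B an
A-algebra with surjective structure map A → B whose nilradical is prime (Y = Spec B is an
irreducible closed subscheme of X, with ideal I = ker(A → B)). Then every localization of B is
regular (Y is nonsingular) if and only if (i) Ω_{B/k} is a projective B-module (locally free) and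
(ii) the conormal map I/I² → B ⊗_A Ω_{A/k}, class of x ↦ 1 ⊗ dx, is injective, i.e. the conormal
sequence 0 → I/I² → B ⊗_A Ω_{A/k} → Ω_{B/k} → 0 is exact on the left as well. -/
theorem result (k : Type u) [Field k]
    [IsAlgClosed k] (A B : Type u) [CommRing A] [CommRing B] [Algebra k A] [Algebra.FiniteType k A]
    [IsDomain A] [IsRegularRing A] [Algebra A B] [Algebra k B] [IsScalarTower k A B]
    (hsurj : Function.Surjective (algebraMap A B)) (hirr : (nilradical B).IsPrime) :
    IsRegularRing B ↔
      (Module.Projective B (Ω[B⁄k]) ∧
        Function.Injective (KaehlerDifferential.kerCotangentToTensor k A B)) := by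
  haveI : Algebra.Smooth k A := Misc3Bertini.smooth_of_regular k fun p _ =>
    IsRegularRing.isRegularLocalRing_localization p
  haveI : Algebra.FiniteType k B :=
    Algebra.FiniteType.of_surjective (IsScalarTower.toAlgHom k A B) hsurj
  haveI : IsNoetherianRing B := Algebra.FiniteType.isNoetherianRing k B
  have hiff : Algebra.FormallySmooth k B ↔ (Module.Projective B (Ω[B⁄k]) ∧
      Function.Injective (KaehlerDifferential.kerCotangentToTensor k A B)) := by
    rw [Algebra.formallySmooth_iff, Algebra.FormallySmooth.kerCotangentToTensor_injective_iff hsurj]
  rw [← hiff]
  refine ⟨fun hB => (Misc3Bertini.smooth_of_regular k fun p _ => hB.isRegularLocalRing_localization p).formallySmooth,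
    fun hfs => ?_⟩
  haveI : Algebra.Smooth k B := ⟨hfs, Algebra.FinitePresentation.of_finiteType.mp inferInstance⟩
  refine isRegularRing_iff.mpr fun p hp => ?_
  haveI : Algebra.IsSmoothAt k p := Algebra.FormallySmooth.comp k B _
  exact Groth.Calg4.isRegularLocalRing_of_isSmoothAt (k := k) p

end Groth.Agent.S10910
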