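import Groth.Statements.S10914
import Groth.Agent.Variety2.IrrFibres
-- import your own Groth.Agent.* helpers here

set_option autoImplicit false
universe u
open CategoryTheory CategoryTheory.Limits AlgebraicGeometry TopologicalSpace
open ProjDeg

namespace Groth.Agent.S10914

/-- Let k be a field, X and Y reduced schemes proper over k and f : X → Y a k-morphism with (i) f
surjective, (ii) every fibre X_y over a closed point y irreducible, (iii) all these fibres of the
same dimension m, and (iv) Y irreducible. Then X is irreducible and dim X = dim Y + m. (The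
published statement takes X, Y projective over k and f projective; its proof uses only that f is a
closed map and upper semicontinuity of fibre dimension, i.e. properness.) -/
theorem result (k : Type u) [Field k] {X Y : Scheme.{u}}
    (pX : X ⟶ Spec (CommRingCat.of k)) (pY : Y ⟶ Spec (CommRingCat.of k)) [IsProper pX] [IsProper pY]
    [IsReduced X] [IsReduced Y] (f : X ⟶ Y) (hf : f ≫ pY = pX) (hsurj : Function.Surjective f)
    [IrreducibleSpace ↥Y] (m : ℕ)
    (hirr : ∀ y : ↥Y, IsClosed ({y} : Set ↥Y) → IrreducibleSpace ↥(f.fiber y))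
    (hdim : ∀ y : ↥Y, IsClosed ({y} : Set ↥Y) → topologicalKrullDim ↥(f.fiber y) = m) :
    IrreducibleSpace ↥X ∧ topologicalKrullDim ↥X = topologicalKrullDim ↥Y + m := by
  have hirr' : ∀ y : ↥Y, IsClosed ({y} : Set ↥Y) → IsIrreducible (f.base ⁻¹' {y}) := fun y hy => by
    have := hirr y hy
    obtain ⟨x, rfl⟩ := hsurj y
    refine isIrreducible_iff_irreducibleSpace.2 ?_
    exact (f.fiberHomeo (f x)).irreducibleSpace_iff.1 this
  have hdim' : ∀ y : ↥Y, IsClosed ({y} : Set ↥Y) → topologicalKrullDim ↥(f.base ⁻¹' {y}) = m :=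
    fun y hy => (IsHomeomorph.topologicalKrullDim_eq _ (f.fiberHomeo y).isHomeomorph).symm.trans (hdim y hy)
  have hcl : IsClosedMap f.base := by
    have : IsProper (f ≫ pY) := hf ▸ inferInstance
    have := IsProper.of_comp f pY
    exact f.isClosedMap
  open Groth.Variety2.Dim in
  have := noetherianSpace_of pX
  open Groth.Variety2.Dim in
  have key := fun {ξ : X} (h : ∀ z, z ⤳ ξ → z = ξ) => component_spec pX pY f hf m hirr' hdim' h
  open Groth.Variety2.Dim in
  obtain ⟨ξ, hξ, hξη⟩ := exists_dominant_maximal pX pY f fun y hy => (hirr' y hy).nonempty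
  have hsurj : ∀ y : Y, ∃ x, ξ ⤳ x ∧ f x = y := by
    intro y
    obtain ⟨x, hx, rfl⟩ : y ∈ f.base '' closure {ξ} :=
      (genericPoint_specializes y).mem_closed (hcl _ isClosed_closure) ⟨ξ, subset_closure rfl, hξη⟩
    exact ⟨x, specializes_iff_mem_closure.2 hx, rfl⟩
  have hall : ∀ x, ξ ⤳ x := by
    intro x
    refine specializes_iff_mem_closure.2 ?_
    by_contra hx
    obtain ⟨p, hp, hpc⟩ :=
      Groth.Variety2.Dim.exists_isClosed_singleton_mem pX isClosed_closure.isOpen_compl.isLocallyClosed ⟨x, hx⟩
    have hy := Groth.Variety2.Dim.isClosed_image_singleton pX pY f hf hpc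
    obtain ⟨z, hz, hzy⟩ := hsurj (f p)
    exact hp (specializes_iff_mem_closure.1 ((key hξ).1 z hz (hzy.symm ▸ hy) p hzy.symm))
  have hirrX : IrreducibleSpace X := by
    rw [irreducibleSpace_def]
    have : closure {ξ} = Set.univ := Set.eq_univ_of_forall fun x => specializes_iff_mem_closure.1 (hall x)
    change IsIrreducible (Set.univ : Set _)
    exact this ▸ isIrreducible_singleton.closure
  refine ⟨hirrX, ?_⟩
  have hgen : genericPoint X = ξ := (hξ _ (genericPoint_specializes ξ))
  rw [Groth.Variety2.Dim.dim_eq_height_genericPoint, Groth.Variety2.Dim.dim_eq_height_genericPoint, hgen,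
    (key hξ).2, hξη, add_comm]
  rfl

end Groth.Agent.S10914
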