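import Groth.Statements.S10918
import Groth.Agent.CIntNormal.ConeNormal

set_option autoImplicit false
universe u
open CInt

namespace Groth.Agent.S10918

/-- Let k be a field, S = k[x_0, …, x_n], and f_1, …, f_r with r < n homogeneous polynomials of positive
degrees whose ideal J has height r, so that Y = V_+(J) ⊆ P^n_k is a global complete intersection of
dimension n − r ≥ 1 with homogeneous coordinate ring S' = S/J. Suppose Y is normal, expressed on the
affine cone: for every prime ideal Q of S' not containing all the classes of the x_i (every point of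
the cone Spec S' other than the vertex), the localization S'_Q is an integrally closed domain. Then
S' is an integrally closed domain, i.e. Y is projectively normal. -/
theorem result
    (k : Type u) [Field k] (n r : ℕ) (hr : r < n) (f : Fin r → MvPolynomial (Fin (n + 1)) k) (d : Fin r → ℕ)
    (hf : ∀ i, (f i).IsHomogeneous (d i)) (hd : ∀ i, 0 < d i)
    (hJ : (Ideal.span (Set.range f)).height = r)
    (hnorm : ∀ (Q : Ideal (MvPolynomial (Fin (n + 1)) k ⧸ Ideal.span (Set.range f))) [Q.IsPrime],
      (∃ i, Ideal.Quotient.mk (Ideal.span (Set.range f)) (MvPolynomial.X i) ∉ Q) →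
        IsDomain (Localization.AtPrime Q) ∧ IsIntegrallyClosed (Localization.AtPrime Q)) :
    IsDomain (MvPolynomial (Fin (n + 1)) k ⧸ Ideal.span (Set.range f)) ∧
      IsIntegrallyClosed (MvPolynomial (Fin (n + 1)) k ⧸ Ideal.span (Set.range f)) := by
  classical
  letI := MvPolynomial.gradedAlgebra (σ := Fin (n + 1)) (R := k)
  revert hnorm
  generalize hJdef : Ideal.span (Set.range f) = J at hJ ⊢
  intro hnorm
  have hcm := fun (Q : Ideal (MvPolynomial (Fin (n + 1)) k ⧸ J)) [Q.IsPrime] =>
    Groth.CIntNormal.isCM_atPrime f J hJdef.symm hJ Q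
  have hR : LocCoh.HasRk 1 (MvPolynomial (Fin (n + 1)) k ⧸ J) := by
    intro Q _ hQ
    have hne : ∃ i, Ideal.Quotient.mk J (MvPolynomial.X i) ∉ Q := by
      by_contra! hall
      have h1 := (hcm Q).2 hall
      have h2 : ((n + 1 : ℕ) : WithBot ℕ∞) ≤ ((1 + r : ℕ) : ℕ) := by
        refine h1.trans ?_
        push_cast
        exact add_le_add_left (by exact_mod_cast hQ) _
      have h3 : n + 1 ≤ 1 + r := by exact_mod_cast h2
      omega
    obtain ⟨hd1, hd2⟩ := hnorm Q hne
    exact Groth.CIntNormal.isRegularLocalRing_of_normal_dim_le_one (by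
      rw [IsLocalization.AtPrime.ringKrullDim_eq_height Q (Localization.AtPrime Q)]; exact_mod_cast hQ)
  have hS : LocCoh.HasSk 2 (MvPolynomial (Fin (n + 1)) k ⧸ J) (MvPolynomial (Fin (n + 1)) k ⧸ J) := by
    rw [Groth.Calg1.hasSk_self_iff]
    intro Q _
    haveI := (hcm Q).1
    have h := (Groth.Calg4.isCohenMacaulayLocalRing_iff_dim_eq _).1 (hcm Q).1
    rw [IsLocalization.AtPrime.ringKrullDim_eq_height Q (Localization.AtPrime Q)] at h
    rw [WithBot.coe_inj.1 h]
    exact min_le_right _ _
  have hall := Groth.Calg1.normal_iff.2 ⟨hR, hS⟩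
  -- the vertex
  have hJX : J ≤ RingHom.ker (MvPolynomial.constantCoeff (σ := Fin (n + 1)) (R := k)) := by
    rw [← hJdef, Ideal.span_le]
    rintro _ ⟨i, rfl⟩
    exact (hf i).coeff_eq_zero (by simpa using (hd i).ne)
  let χ : (MvPolynomial (Fin (n + 1)) k ⧸ J) →+* k := Ideal.Quotient.lift J _ hJX
  let m0 : Ideal (MvPolynomial (Fin (n + 1)) k ⧸ J) := RingHom.ker χ
  haveI : m0.IsPrime := RingHom.ker_isPrime χ
  have hhom : J.IsHomogeneous (MvPolynomial.homogeneousSubmodule (Fin (n + 1)) k) := by
    rw [← hJdef]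
    refine Ideal.homogeneous_span _ _ ?_
    rintro _ ⟨i, rfl⟩
    exact ⟨d i, hf i⟩
  have hinj : Function.Injective (algebraMap (MvPolynomial (Fin (n + 1)) k ⧸ J) (Localization.AtPrime m0)) := by
    rw [injective_iff_map_eq_zero]
    intro x hx
    obtain ⟨⟨s, hs⟩, hsx⟩ := (IsLocalization.map_eq_zero_iff m0.primeCompl _ x).1 hx
    obtain ⟨s, rfl⟩ := Ideal.Quotient.mk_surjective s
    obtain ⟨a, rfl⟩ := Ideal.Quotient.mk_surjective x
    refine Ideal.Quotient.eq_zero_iff_mem.2 (Groth.CIntNormal.mem_of_mul_mem_of_isHomogeneous hhom ?_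
      (Ideal.Quotient.eq_zero_iff_mem.1 (by rw [map_mul]; exact hsx)))
    intro h0
    exact hs (by simpa [m0, χ, MvPolynomial.constantCoeff_eq] using h0)
  haveI := (hall m0).1
  haveI hdom : IsDomain (MvPolynomial (Fin (n + 1)) k ⧸ J) := hinj.isDomain _
  exact ⟨hdom, IsIntegrallyClosed.of_localization_maximal fun p _ _ => (hall p).2⟩


end Groth.Agent.S10918
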