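import Groth.Statements.S10921
import Groth.Agent.Misc3Bertini.Ring
import Groth.Agent.Misc3Bertini.Chart

set_option autoImplicit false
universe u
open CategoryTheory CategoryTheory.Limits AlgebraicGeometry TopologicalSpace
open SmVar

namespace Groth.Agent.S10921

open HomogeneousLocalization in
/-- The statement on one standard chart. -/
theorem exists_chart (k : Type u) [Field k] [IsAlgClosed k] (n : ℕ)
    (X : Scheme.{u}) (ι : X ⟶ CohB1.ProjSpace n k) [IsClosedImmersion ι]
    (hreg : ∀ x : ↥X, IsRegularLocalRing ↑(X.presheaf.stalk x)) (j : Fin (n + 1)) :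
    ∃ q : MvPolynomial (Fin (n + 1)) k, q ≠ 0 ∧
      ∀ h : ↥(CohB1.polyGrading n k 1),
        MvPolynomial.eval (fun i => MvPolynomial.coeff (Finsupp.single i 1) (h : MvPolynomial (Fin (n + 1)) k)) q ≠ 0 →
          ∀ x : ↥X, (h : MvPolynomial (Fin (n + 1)) k) ∈ (ι.base x).asHomogeneousIdeal →
            ∀ (hj : (MvPolynomial.X j : MvPolynomial (Fin (n + 1)) k) ∉ (ι.base x).asHomogeneousIdeal),
              IsRegularLocalRing (↑(X.presheaf.stalk x) ⧸ Ideal.span
                {(ι.stalkMap x).hom ((Proj.stalkIso' (CohB1.polyGrading n k) (ι.base x)).symm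
                  (HomogeneousLocalization.mk
                    ⟨1, h, ⟨MvPolynomial.X j, MvPolynomial.isHomogeneous_X k j⟩, hj⟩))}) := by
  classical
  let 𝒜 := CohB1.polyGrading n k
  let U : (Proj 𝒜).Opens := Proj.basicOpen 𝒜 (MvPolynomial.X j)
  have hU : IsAffineOpen U := Proj.isAffineOpen_basicOpen 𝒜 (MvPolynomial.X j) (Misc3Bertini.X_mem k n j) one_pos
  let ι' : X ⟶ Proj 𝒜 := ι
  haveI : IsClosedImmersion ι' := (inferInstance : IsClosedImmersion ι)
  let V : X.Opens := ι' ⁻¹ᵁ U
  have hV : IsAffineOpen V := hU.preimage ι'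
  let φ : Away 𝒜 (MvPolynomial.X j : MvPolynomial (Fin (n + 1)) k) →+* Γ(X, V) :=
    (ι'.app U).hom.comp (Proj.awayToSection 𝒜 (MvPolynomial.X j)).hom
  have hφ : Function.Surjective φ := by
    have h1 : Function.Surjective (Proj.awayToSection 𝒜 (MvPolynomial.X j)).hom := by
      have := (Proj.basicOpenIsoAway 𝒜 (MvPolynomial.X j) (Misc3Bertini.X_mem k n j) one_pos).commRingCatIsoToRingEquiv.surjective
      exact this
    exact (ι'.app_surjective U hU).comp h1
  letI : Algebra k Γ(X, V) := (φ.comp (Misc3Bertini.scalar k n j)).toAlgebra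
  let a : Fin (n + 1) → Γ(X, V) := fun i => φ (Misc3Bertini.frac k n j i)
  have haeval : ∀ P, MvPolynomial.aeval a P = φ (Misc3Bertini.evalFrac k n j P) := fun P => by
    rw [MvPolynomial.aeval_def, Misc3Bertini.evalFrac, MvPolynomial.coe_eval₂Hom, MvPolynomial.eval₂_comp_left φ]
    rfl
  have hsurj : Function.Surjective (MvPolynomial.aeval (R := k) a) := fun r => by
    obtain ⟨y, rfl⟩ := hφ r
    obtain ⟨P, rfl⟩ := Misc3Bertini.evalFrac_surjective k n j y
    exact ⟨P, haeval P⟩
  have hgen : Algebra.adjoin k (Set.range a) = ⊤ := by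
    rw [Algebra.adjoin_range_eq_range_aeval, eq_top_iff]
    exact fun r _ => hsurj r
  haveI : Algebra.FiniteType k Γ(X, V) := Algebra.FiniteType.of_surjective (MvPolynomial.aeval a) hsurj
  have hR : ∀ (p : Ideal Γ(X, V)) [p.IsPrime], IsRegularLocalRing (Localization.AtPrime p) := by
    intro p hp
    have hy : hV.fromSpec ⟨p, hp⟩ ∈ V := hV.range_fromSpec.le ⟨_, rfl⟩
    letI := TopCat.Presheaf.algebra_section_stalk X.presheaf (⟨_, hy⟩ : V)
    haveI : IsLocalization.AtPrime (X.presheaf.stalk (hV.fromSpec ⟨p, hp⟩)) p := hV.isLocalization_stalk' ⟨p, hp⟩ hy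
    haveI := hreg (hV.fromSpec ⟨p, hp⟩)
    exact IsRegularLocalRing.of_ringEquiv (IsLocalization.algEquiv p.primeCompl
      (X.presheaf.stalk (hV.fromSpec ⟨p, hp⟩)) (Localization.AtPrime p)).toRingEquiv
  obtain ⟨q, hq, hgood⟩ := Misc3Bertini.exists_good k hR a j
    (by show φ _ = 1; rw [Misc3Bertini.frac_self, map_one]) hgen
  refine ⟨q, hq, fun h hh x hx hj => ?_⟩
  have hxV : x ∈ V := hj
  let c : Fin (n + 1) → k := fun i => MvPolynomial.coeff (Finsupp.single i 1) (h : MvPolynomial (Fin (n + 1)) k)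
  have hh1 : (h : MvPolynomial (Fin (n + 1)) k) ∈ 𝒜 (1 • 1) := h.2
  let z : Away 𝒜 (MvPolynomial.X j : MvPolynomial (Fin (n + 1)) k) :=
    Away.mk 𝒜 (Misc3Bertini.X_mem k n j) 1 (h : MvPolynomial (Fin (n + 1)) k) hh1
  have hg : (∑ i, algebraMap k Γ(X, V) (c i) * a i) = φ z := by
    rw [show z = Misc3Bertini.evalFrac k n j h from (Misc3Bertini.evalFrac_eq_mk k n j hh1).symm,
      Misc3Bertini.evalFrac_linear k n j h.2, map_sum]
    exact Finset.sum_congr rfl fun i _ => (map_mul φ _ _).symm
  let p := hV.primeIdealOf ⟨x, hxV⟩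
  letI := TopCat.Presheaf.algebra_section_stalk X.presheaf (⟨x, hxV⟩ : V)
  haveI : IsLocalization.AtPrime (X.presheaf.stalk x) p.asIdeal := hV.isLocalization_stalk ⟨x, hxV⟩
  let w : HomogeneousLocalization.AtPrime 𝒜 (ι'.base x).asHomogeneousIdeal.toIdeal :=
    HomogeneousLocalization.mk
      ⟨1, h, ⟨MvPolynomial.X j, MvPolynomial.isHomogeneous_X k j⟩, hj⟩
  have hw : HomogeneousLocalization.mapId 𝒜 (Submonoid.powers_le.mpr hj) z = w := by
    apply val_injective
    simp [z, w, HomogeneousLocalization.mapId, HomogeneousLocalization.map, Away.mk]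
  have hgerm : (ι'.stalkMap x).hom ((Proj.stalkIso' 𝒜 (ι'.base x)).symm w) =
      algebraMap Γ(X, V) (X.presheaf.stalk x) (φ z) := by
    have h1 := congrArg (fun f => f.hom z) (ProjectiveSpectrum.Proj.awayToSection_germ 𝒜 (MvPolynomial.X j) (ι'.base x) hj)
    have h2 : (Proj 𝒜).presheaf.germ U (ι'.base x) hj ((Proj.awayToSection 𝒜 (MvPolynomial.X j)).hom z) =
        (Proj.stalkIso' 𝒜 (ι'.base x)).symm w := by
      rw [← hw]
      exact h1
    rw [← h2]
    exact Scheme.Hom.germ_stalkMap_apply ι' U x hj _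
  have hmem : φ z ∈ p.asIdeal := by
    rw [← IsLocalization.AtPrime.to_map_mem_maximal_iff (X.presheaf.stalk x) p.asIdeal, ← hgerm]
    refine (IsLocalRing.mem_maximalIdeal _).2 ?_
    rw [mem_nonunits_iff, isUnit_map_iff]
    intro hu0
    have hu1 : IsUnit w := (isUnit_map_iff (Proj.stalkIso' 𝒜 (ι'.base x)).symm w).1 hu0
    have hu := (HomogeneousLocalization.isUnit_iff_isUnit_val 𝒜 (ι'.base x).asHomogeneousIdeal.toIdeal w).2 hu1
    simp only [w] at hu
    rw [HomogeneousLocalization.val_mk, Localization.mk_eq_mk'] at hu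
    exact (IsLocalization.AtPrime.isUnit_mk'_iff _ (ι'.base x).asHomogeneousIdeal.toIdeal _ _).1 hu hx
  show IsRegularLocalRing (↑(X.presheaf.stalk x) ⧸ Ideal.span
    {(ι'.stalkMap x).hom ((Proj.stalkIso' 𝒜 (ι'.base x)).symm w)})
  rw [hgerm, ← hg]
  exact hgood c hh p.asIdeal (by rw [hg]; exact hmem) (X.presheaf.stalk x)

/-- Let k be an algebraically closed field and X ⊆ P^n_k a nonsingular projective variety, given as an
integral scheme X with a closed immersion ι into projective n-space all of whose local rings are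
regular. For a linear form h = Σ a_i X_i let H be the hyperplane h = 0 and H ∩ X the
scheme-theoretic intersection. Then the hyperplanes H which do not contain X and for which H ∩ X is
regular at each of its closed points form a set containing a nonempty Zariski-open subset of the
dual projective space: there is a nonzero polynomial g in the coefficients a_0, …, a_n such that
every h with g(a) ≠ 0 has these two properties. Regularity of H ∩ X at a closed point x of X lying
on H is expressed on the local ring: O_{X,x} modulo the image of the germ of h/X_j (any j with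
X_j(x) ≠ 0) is a regular local ring. (The published statement asserts that the set of good
hyperplanes is itself open and dense and that H ∩ X is a regular subvariety; this row asserts
regularity of H ∩ X at its closed points for all hyperplanes outside a proper closed set, and not
irreducibility, which fails for curves of degree ≥ 2.) -/
theorem result (k : Type u) [Field k] [IsAlgClosed k] (n : ℕ)
    (X : Scheme.{u}) [IsIntegral X] (ι : X ⟶ CohB1.ProjSpace n k) [IsClosedImmersion ι]
    (hreg : ∀ x : ↥X, IsRegularLocalRing ↑(X.presheaf.stalk x)) :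
    ∃ g : MvPolynomial (Fin (n + 1)) k, g ≠ 0 ∧
      ∀ h : ↥(CohB1.polyGrading n k 1),
        MvPolynomial.eval (fun i => MvPolynomial.coeff (Finsupp.single i 1) (h : MvPolynomial (Fin (n + 1)) k)) g ≠ 0 →
          (∃ x : ↥X, (h : MvPolynomial (Fin (n + 1)) k) ∉ (ι.base x).asHomogeneousIdeal) ∧
          ∀ x : ↥X, IsClosed ({x} : Set ↥X) →
            (h : MvPolynomial (Fin (n + 1)) k) ∈ (ι.base x).asHomogeneousIdeal →
            ∀ (j : Fin (n + 1))
              (hj : (MvPolynomial.X j : MvPolynomial (Fin (n + 1)) k) ∉ (ι.base x).asHomogeneousIdeal),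
              IsRegularLocalRing (↑(X.presheaf.stalk x) ⧸ Ideal.span
                {(ι.stalkMap x).hom ((Proj.stalkIso' (CohB1.polyGrading n k) (ι.base x)).symm
                  (HomogeneousLocalization.mk
                    ⟨1, h, ⟨MvPolynomial.X j, MvPolynomial.isHomogeneous_X k j⟩, hj⟩))}) := by
  classical
  choose q hq hgood using exists_chart k n X ι hreg
  let P0 := (ι.base (genericPoint X)).asHomogeneousIdeal
  obtain ⟨j0, hj0⟩ : ∃ j0, (MvPolynomial.X j0 : MvPolynomial (Fin (n + 1)) k) ∉ P0 := by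
    by_contra hall
    push Not at hall
    refine (ι.base (genericPoint X)).not_irrelevant_le (fun y hy => ?_)
    rw [HomogeneousIdeal.mem_irrelevant_iff, GradedRing.proj_apply] at hy
    show y ∈ P0
    have hle : MvPolynomial.idealOfVars (Fin (n + 1)) k ≤ P0.toIdeal :=
      Ideal.span_le.2 (by rintro _ ⟨i, rfl⟩; exact hall i)
    refine hle ?_
    rw [← pow_one (MvPolynomial.idealOfVars (Fin (n + 1)) k), MvPolynomial.mem_pow_idealOfVars_iff']
    intro d hd
    obtain rfl : d = 0 := (Finsupp.degree_eq_zero_iff d).1 (Nat.lt_one_iff.1 hd)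
    have h0 : MvPolynomial.coeff 0 ((DirectSum.decompose (CohB1.polyGrading n k) y 0 : CohB1.polyGrading n k 0) :
        MvPolynomial (Fin (n + 1)) k) = 0 := by rw [hy]; simp
    have h1 : MvPolynomial.coeff 0 (MvPolynomial.homogeneousComponent 0 y) = 0 := by
      erw [MvPolynomial.decomposition.decompose'_apply] at h0
      exact h0
    simpa [MvPolynomial.coeff_homogeneousComponent] using h1
  let T : (Fin (n + 1) → k) →ₗ[k] MvPolynomial (Fin (n + 1)) k :=
    ∑ i, (LinearMap.toSpanSingleton k (MvPolynomial (Fin (n + 1)) k) (MvPolynomial.X i)).comp (LinearMap.proj i)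
  let S : Submodule k (Fin (n + 1) → k) := (P0.toIdeal.restrictScalars k).comap T
  have hT : ∀ c, T c = ∑ i, MvPolynomial.C (c i) * MvPolynomial.X i := fun c => by
    simp [T, MvPolynomial.smul_eq_C_mul]
  have hS : S < ⊤ := lt_top_iff_ne_top.2 fun hS => hj0 (by
    have : (Pi.single j0 1 : Fin (n + 1) → k) ∈ S := hS ▸ Submodule.mem_top
    simp only [S, Submodule.mem_comap, Submodule.restrictScalars_mem, hT] at this
    rw [Finset.sum_eq_single j0 (fun i _ hi => by simp [hi]) (by simp)] at this
    simpa using this)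
  obtain ⟨l, hl0, hl⟩ := Submodule.exists_le_ker_of_lt_top S hS
  let L : MvPolynomial (Fin (n + 1)) k := ∑ i, MvPolynomial.C (l (Pi.single i 1)) * MvPolynomial.X i
  have hL : ∀ c, MvPolynomial.eval c L = l c := fun c => by
    conv_rhs => rw [← Finset.univ_sum_single c]
    rw [map_sum, map_sum]
    refine Finset.sum_congr rfl fun i _ => ?_
    rw [map_mul, MvPolynomial.eval_C, MvPolynomial.eval_X,
      show (Pi.single i (c i) : Fin (n + 1) → k) = c i • Pi.single i 1 by simp [← Pi.single_smul], map_smul, smul_eq_mul, mul_comm]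
  refine ⟨L * ∏ j, q j, mul_ne_zero (fun h0 => hl0 (LinearMap.ext fun c => ?_)) (Finset.prod_ne_zero_iff.2 fun j _ => hq j),
    fun h hh => ?_⟩
  · rw [← hL, h0, map_zero]; rfl
  rw [map_mul, map_prod, mul_ne_zero_iff, Finset.prod_ne_zero_iff] at hh
  refine ⟨⟨genericPoint X, fun hmem => hh.1 ?_⟩, fun x _ hx j hj => hgood j h (hh.2 j (Finset.mem_univ j)) x hx hj⟩
  rw [hL]
  refine hl ?_
  simp only [S, Submodule.mem_comap, Submodule.restrictScalars_mem, hT]
  rw [← Misc3Bertini.eq_sum_coeff k n h.2]
  exact hmem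

end Groth.Agent.S10921
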