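import Groth.Statements.S10922
import Mathlib
import Groth.Agent.CIntGen.Generic
import Groth.Agent.CIntGen.Regular
import Groth.Agent.Ega4Algebra1.RegularNormal
import Groth.Agent.S10918

set_option autoImplicit false
universe u
open CInt

namespace Groth.Agent.S10922

theorem regular_of_good {k : Type u} [Field k] {n r : ℕ} {f : Fin r → MvPolynomial (Fin (n + 1)) k}
    (hG : Groth.CIntGen.Good f) (I : Ideal (MvPolynomial (Fin (n + 1)) k)) (hI : I = Ideal.span (Set.range f))
    (Q : Ideal (MvPolynomial (Fin (n + 1)) k ⧸ I)) [Q.IsPrime]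
    (hQ : ∃ j, Ideal.Quotient.mk I (MvPolynomial.X j) ∉ Q) : IsRegularLocalRing (Localization.AtPrime Q) := by
  subst hI
  exact (Groth.CIntGen.atPrime hG Q hQ).1

theorem good_form {k : Type u} [Field k] {n r : ℕ} {d : Fin r → ℕ} (c : Groth.CIntGen.Cf n d → k)
    (h : ∀ (L : Type u) [Field L] [Algebra k L], Groth.CIntGen.NoBad (fun t => algebraMap k L (c t))) :
    Groth.CIntGen.Good (Groth.CIntGen.form c) := by
  intro L _ _ x l hf hg
  have key : ∀ p : MvPolynomial (Fin (n + 1)) k,
      MvPolynomial.aeval x p = MvPolynomial.eval x (MvPolynomial.map (algebraMap k L) p) := fun p => by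
    rw [MvPolynomial.aeval_def, MvPolynomial.eval_map]
  refine h L x l (fun i => ?_) (fun j => ?_)
  · rw [← hf i, key, Groth.CIntGen.form_map]; rfl
  · refine Eq.trans (Finset.sum_congr rfl fun i _ => ?_) (hg j)
    rw [key, ← MvPolynomial.pderiv_map, Groth.CIntGen.form_map]; rfl

/-- Let k be an algebraically closed field, n ≥ 1, r < n, and d_1, …, d_r positive integers. Then there
are homogeneous polynomials f_1, …, f_r in S = k[x_0, …, x_n] of degrees d_1, …, d_r such that each
hypersurface V(f_i) ⊆ P^n_k is nonsingular and Y = V(f_1, …, f_r) is a nonsingular irreducible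
variety of codimension r, hence a global complete intersection of the V(f_i). Nonsingularity and
irreducibility are expressed on the affine cones: S/(f_i) and S/(f_1, …, f_r) have regular
localizations at every prime not containing all the x_j (every point of the cone other than the
vertex), S/(f_1, …, f_r) is an integral domain, and the ideal (f_1, …, f_r) has height r. -/
theorem result (k : Type u) [Field k] [IsAlgClosed k]
    (n r : ℕ) (hr : r < n) (d : Fin r → ℕ) (hd : ∀ i, 0 < d i) :
    ∃ f : Fin r → MvPolynomial (Fin (n + 1)) k,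
      (∀ i, (f i).IsHomogeneous (d i)) ∧
      (∀ (i : Fin r) (Q : Ideal (MvPolynomial (Fin (n + 1)) k ⧸ Ideal.span {f i})) [Q.IsPrime],
        (∃ j, Ideal.Quotient.mk (Ideal.span {f i}) (MvPolynomial.X j) ∉ Q) →
          IsRegularLocalRing (Localization.AtPrime Q)) ∧
      IsDomain (MvPolynomial (Fin (n + 1)) k ⧸ Ideal.span (Set.range f)) ∧
      (Ideal.span (Set.range f)).height = r ∧
      ∀ (Q : Ideal (MvPolynomial (Fin (n + 1)) k ⧸ Ideal.span (Set.range f))) [Q.IsPrime],
        (∃ j, Ideal.Quotient.mk (Ideal.span (Set.range f)) (MvPolynomial.X j) ∉ Q) →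
          IsRegularLocalRing (Localization.AtPrime Q) := by
  classical
  obtain ⟨c, hc⟩ := Groth.CIntGen.exists_good n k d hd
  have hG : Groth.CIntGen.Good (Groth.CIntGen.form c) := good_form c fun L _ _ => (hc L).1
  have hG1 : ∀ i, Groth.CIntGen.Good (fun _ : Fin 1 => Groth.CIntGen.form c i) := fun i => by
    have h := good_form (d := d ∘ ![i]) (fun t => c (Groth.CIntGen.emb ![i] t)) fun L _ _ => (hc L).2 i
    rwa [show Groth.CIntGen.form (fun t => c (Groth.CIntGen.emb ![i] t)) =
      fun _ : Fin 1 => Groth.CIntGen.form c i from funext fun a => by fin_cases a; rfl] at h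
  have hhom : ∀ i, (Groth.CIntGen.form c i).IsHomogeneous (d i) := Groth.CIntGen.form_isHomogeneous c
  have hh : (Ideal.span (Set.range (Groth.CIntGen.form c))).height = r :=
    Groth.CIntGen.height_eq hG (fun i => (hhom i).coeff_eq_zero (by simpa using (hd i).ne)) (by omega)
  have hreg : ∀ (Q : Ideal (MvPolynomial (Fin (n + 1)) k ⧸ Ideal.span (Set.range (Groth.CIntGen.form c)))) [Q.IsPrime],
      (∃ j, Ideal.Quotient.mk (Ideal.span (Set.range (Groth.CIntGen.form c))) (MvPolynomial.X j) ∉ Q) →
        IsRegularLocalRing (Localization.AtPrime Q) := fun Q _ hQ => regular_of_good hG _ rfl Q hQ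
  refine ⟨Groth.CIntGen.form c, hhom, fun i Q _ hQ => regular_of_good (hG1 i) _ (by rw [Set.range_const]) Q hQ,
    ?_, hh, fun Q _ hQ => hreg Q hQ⟩
  refine (Groth.Agent.S10918.result k n r hr _ d hhom hd hh fun Q _ hQ => ?_).1
  haveI := hreg Q hQ
  exact ⟨Groth.Ega4Algebra1.isDomain_of_isRegularLocalRing (Localization.AtPrime Q),
    Groth.Ega4Algebra1.isIntegrallyClosed_of_isRegularLocalRing (Localization.AtPrime Q)⟩

end Groth.Agent.S10922
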