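import Groth.Statements.S10926
import Groth.Agent.PicAux.H0Closed
import Groth.Agent.PicAux.Powers
import Groth.Agent.PicAux.PullTensor
import Groth.Agent.Variety2.ProjBasics
-- import your own Groth.Agent.* helpers here

set_option autoImplicit false
universe u
open CategoryTheory CategoryTheory.Limits AlgebraicGeometry
open PicF

namespace Groth.Agent.S10926

/-- Let k be an algebraically closed field, Y an integral scheme of finite type over k, f : X → Y flat
and projective (f = i ≫ pr for a closed immersion i : X → P^n_Y) with every fibre X_y integral, and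
L, M invertible O_X-modules whose pullbacks to each fibre X_y are isomorphic. Then there is an
invertible O_Y-module E with L ≅ M ⊗ f^*E. -/
theorem result (k : Type u) [Field k] [IsAlgClosed k]
    {X Y : Scheme.{u}} (g : Y ⟶ Spec (CommRingCat.of k)) [LocallyOfFiniteType g] [QuasiCompact g]
    [IsIntegral Y] (n : ℕ) (i : X ⟶ CohB1.ProjSpaceOver n Y) [IsClosedImmersion i]
    (f : X ⟶ Y) (hf : f = i ≫ CohB1.ProjSpaceOver.toBase n Y) [Flat f]
    (hint : ∀ y : Y, IsIntegral (f.fiber y))
    (L M : X.Modules) (hL : PicF.IsInvertible L) (hM : PicF.IsInvertible M)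
    (hLM : ∀ y : Y, Nonempty ((Scheme.Modules.pullback (f.fiberι y)).obj L ≅ (Scheme.Modules.pullback (f.fiberι y)).obj M)) :
    ∃ E : Y.Modules, PicF.IsInvertible E ∧
      Nonempty (L ≅ CohB1.tensorMod M ((Scheme.Modules.pullback f).obj E)) := by
  have : IsProper f := by
    have := Groth.Variety2.isProper_projSpaceOver_toBase n Y
    rw [hf]; infer_instance
  have : IsLocallyNoetherian Y := LocallyOfFiniteType.isLocallyNoetherian g
  obtain ⟨M', hM'i, hM'⟩ := Groth.PicAux.exists_isInverseOf hM
  have hE : ∀ y : Y, Nonempty ((Scheme.Modules.pullback (f.fiberι y)).obj (CohB1.tensorMod L M') ≅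
      Coh.structureModule (f.fiber y)) := fun y =>
    ⟨(Groth.PicAux.exists_pullback_tensorMod (f.fiberι y) L M').choose ≪≫
      PicGrp.tensorModIso (hLM y).some (Iso.refl _) ≪≫
      (Groth.PicAux.exists_pullback_tensorMod (f.fiberι y) M M').choose.symm ≪≫
      (Scheme.Modules.pullback (f.fiberι y)).mapIso hM'.some ≪≫
      @asIso _ _ _ _ (Groth.PicAux.pullUnit (f.fiberι y)) (Groth.PicAux.isIso_pullUnit _)⟩
  obtain ⟨h1, h2⟩ := Groth.PicAux.Seesaw.pushforward_counit_of_fibre_trivial f
    (Groth.PicAux.Seesaw.h0One_of_isIntegral f g hint)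
    (Groth.PicAux.isInvertible_tensorMod hL hM'i) hE
  refine ⟨_, h1, ⟨?_⟩⟩
  exact (SecTwist.unitorR L).symm ≪≫
    PicGrp.tensorModIso (Iso.refl L) (Groth.PicAux.isInverseOf_symm hM').some.symm ≪≫
    (Groth.PicAux.exists_associator L M' M).choose.symm ≪≫
    (Groth.PicAux.exists_braiding _ M).choose ≪≫
    PicGrp.tensorModIso (Iso.refl M) (@asIso _ _ _ _ _ h2).symm

end Groth.Agent.S10926
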