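import Groth.Statements.S10927
import Groth.Agent.Variety2.Homogeneous
import Groth.Agent.GrpschAbsch.SmoothField

set_option autoImplicit false
universe u
open CategoryTheory CategoryTheory.Limits MonoidalCategory CartesianMonoidalCategory MonObj GrpObj AlgebraicGeometry
open Variety

namespace Groth.Agent.S10927

/-- Let k be an algebraically closed field of characteristic zero, G a group variety over k (an
integral, separated k-group scheme of finite type) and X a homogeneous space for G: a k-variety
(integral, separated, of finite type over k) with an action of G such that G(k) acts transitively on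
X(k). Then for every k-point x of X the orbit map G → X, g ↦ g · x, is smooth. -/
theorem result (k : Type u) [Field k] [IsAlgClosed k] [CharZero k]
    (G X : Over (Spec (CommRingCat.of k))) [GrpObj G] (a : AlgGrp.Action G X)
    [IsIntegral G.left] [IsSeparated G.hom] [LocallyOfFiniteType G.hom] [QuasiCompact G.hom]
    [IsIntegral X.left] [IsSeparated X.hom] [LocallyOfFiniteType X.hom] [QuasiCompact X.hom]
    (htrans : ∀ x x' : 𝟙_ (Over (Spec (CommRingCat.of k))) ⟶ X,
      ∃ σ : 𝟙_ (Over (Spec (CommRingCat.of k))) ⟶ G, CartesianMonoidalCategory.lift σ x ≫ a.act = x')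
    (x : 𝟙_ (Over (Spec (CommRingCat.of k))) ⟶ X) :
    Smooth (a.orbitMap x).left := by
  have hG : GrpObj (Over.mk G.hom) := inferInstanceAs (GrpObj G)
  have : Smooth G.hom := Groth.GrpschAbsch.smooth_of_perfectField_of_isReduced G.hom
  have : Smooth (𝟙_ (Over (Spec (CommRingCat.of k)))).hom := inferInstanceAs (Smooth (𝟙 _))
  have : QuasiCompact (𝟙_ (Over (Spec (CommRingCat.of k)))).hom := inferInstanceAs (QuasiCompact (𝟙 _))
  have h := Groth.Variety2.Homog.smooth_act_comp a htrans x
  have e : a.orbitMap x = (ρ_ G).inv ≫ (G ◁ x) ≫ a.act := by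
    unfold AlgGrp.Action.orbitMap
    rw [← Category.assoc]
    congr 1
    apply CartesianMonoidalCategory.hom_ext <;> simp
  have : IsIso (ρ_ G).inv.left := inferInstanceAs (IsIso ((Over.forget _).map (ρ_ G).inv))
  rw [e, Over.comp_left]
  exact (MorphismProperty.cancel_left_of_respectsIso @Smooth _ _).2 h

end Groth.Agent.S10927
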