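import Groth.Statements.S10928
import Groth.Agent.Variety2.Kleiman
import Groth.Agent.GrpschAbsch.SmoothField

set_option autoImplicit false
universe u
open CategoryTheory CategoryTheory.Limits MonoidalCategory CartesianMonoidalCategory MonObj GrpObj AlgebraicGeometry
open Variety

namespace Groth.Agent.S10928

open TopologicalSpace Groth.Variety2 Groth.Variety2.Dim Groth.Variety2.Homog

/-- Let k be an algebraically closed field of characteristic zero, G a group variety over k (integral,
separated k-group scheme of finite type), X a homogeneous space for G (a k-variety with a G-action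
such that G(k) acts transitively on X(k)) of dimension n, and f : Y → X, g : Z → X morphisms of
k-schemes where Y and Z are nonsingular varieties over k (integral, separated, smooth of finite type
over k) of dimensions r and s. For a k-point σ of G write f^σ : Y → X for y ↦ σ · f(y). Then there
is a nonempty open subset V ⊆ G such that for every k-point σ of G lying in V the scheme Y^σ ×_X Z
(fibre product of f^σ and g) is smooth over k and is either empty or of dimension r + s − n
(dimensions are topological Krull dimensions). -/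
theorem result (k : Type u) [Field k] [IsAlgClosed k] [CharZero k]
    (G X : Over (Spec (CommRingCat.of k))) [GrpObj G] (a : AlgGrp.Action G X)
    [IsIntegral G.left] [IsSeparated G.hom] [LocallyOfFiniteType G.hom] [QuasiCompact G.hom]
    [IsIntegral X.left] [IsSeparated X.hom] [LocallyOfFiniteType X.hom] [QuasiCompact X.hom]
    (htrans : ∀ x x' : 𝟙_ (Over (Spec (CommRingCat.of k))) ⟶ X,
      ∃ σ : 𝟙_ (Over (Spec (CommRingCat.of k))) ⟶ G, CartesianMonoidalCategory.lift σ x ≫ a.act = x')
    {Y Z : Scheme.{u}} (f : Y ⟶ X.left) (g : Z ⟶ X.left)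
    [IsIntegral Y] [IsSeparated (f ≫ X.hom)] [QuasiCompact (f ≫ X.hom)] [Smooth (f ≫ X.hom)]
    [IsIntegral Z] [IsSeparated (g ≫ X.hom)] [QuasiCompact (g ≫ X.hom)] [Smooth (g ≫ X.hom)]
    (n r s : ℕ) (hn : topologicalKrullDim ↥X.left = n) (hr : topologicalKrullDim ↥Y = r)
    (hs : topologicalKrullDim ↥Z = s) :
    ∃ V : G.left.Opens, (V : Set ↥G.left).Nonempty ∧
      ∀ σ : 𝟙_ (Over (Spec (CommRingCat.of k))) ⟶ G, Set.range σ.left.base ⊆ (V : Set ↥G.left) →
        ∀ fσ : Y ⟶ X.left,
          fσ = (CartesianMonoidalCategory.lift (CartesianMonoidalCategory.toUnit (Over.mk (f ≫ X.hom)) ≫ σ)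
            (Over.homMk f) ≫ a.act).left →
          Smooth (pullback.fst fσ g ≫ f ≫ X.hom) ∧
            (IsEmpty ↥(pullback fσ g) ∨ (n ≤ r + s ∧ topologicalKrullDim ↥(pullback fσ g) = ((r + s - n : ℕ) : WithBot ℕ∞))) := by
  have hG : GrpObj (Over.mk G.hom) := inferInstanceAs (GrpObj G)
  have : Smooth G.hom := Groth.GrpschAbsch.smooth_of_perfectField_of_isReduced G.hom
  let T : Over (Spec (CommRingCat.of k)) := Over.mk (f ≫ X.hom)
  let t : T ⟶ X := Over.homMk f
  have : Smooth T.hom := ‹Smooth (f ≫ X.hom)›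
  have : QuasiCompact T.hom := ‹QuasiCompact (f ≫ X.hom)›
  have : IsIntegral T.left := ‹IsIntegral Y›
  let h : (G ⊗ T).left ⟶ X.left := ((G ◁ t) ≫ a.act).left
  have : Smooth h := smooth_act_comp a htrans t
  have hw : h ≫ X.hom = (G ⊗ T).hom := Over.w _
  have : Smooth (snd G T).left :=
    MorphismProperty.of_isPullback (Groth.AlgGrp2.isPullback_fst_snd G T) ‹Smooth G.hom›
  have : QuasiCompact (snd G T).left :=
    MorphismProperty.of_isPullback (Groth.AlgGrp2.isPullback_fst_snd G T) ‹QuasiCompact G.hom›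
  have : LocallyOfFiniteType (G ⊗ T).hom := by rw [← hw]; infer_instance
  have : QuasiCompact (G ⊗ T).hom := by rw [← Over.w (snd G T)]; infer_instance
  have := noetherianSpace_of (G ⊗ T).hom
  -- numerical invariants
  obtain ⟨aG, haG⟩ := exists_height_eq G.hom (genericPoint G.left)
  have hX : Order.height (genericPoint X.left) = n := by
    have := hn; rw [dim_eq_height_genericPoint] at this; exact WithBot.coe_inj.1 this
  have hY : Order.height (genericPoint T.left) = r := by
    have := hr; rw [show topologicalKrullDim Y = topologicalKrullDim T.left from rfl,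
      dim_eq_height_genericPoint] at this
    exact WithBot.coe_inj.1 this
  have hZ : Order.height (genericPoint Z) = s := by
    have := hs; rw [dim_eq_height_genericPoint] at this; exact WithBot.coe_inj.1 this
  have hGpure : PureSet (Set.univ : Set G.left) aG :=
    ⟨fun x _ => haG ▸ Order.height_mono (genericPoint_specializes x), fun O hO hne =>
      ⟨genericPoint G.left, ⟨(genericPoint_specializes _).mem_open hO hne.some_mem.1, trivial⟩, haG⟩⟩
  -- maximal points of `G ⊗ T`
  have hPmax : ∀ ξ : (G ⊗ T).left, (∀ z, z ⤳ ξ → z = ξ) →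
      Order.height ξ = (aG : ℕ∞) + r := by
    intro ξ hξ
    rw [← hY]
    refine (height_maximal_eq (G ⊗ T).hom T.hom (snd G T).left (Over.w _)
      (Flat.generalizingMap _) aG (fun b hb => ?_) hξ).2
    obtain ⟨y, hy⟩ := exists_point (X := T) hb
    rw [← hy (IsLocalRing.closedPoint k)]
    have : IsClosedImmersion y.left :=
      isClosedImmersion_of_comp_eq_id (Y := Spec (CommRingCat.of k)) T.hom y.left (Over.w y)
    refine (pureSet_preimage_iff (p := y.left) (sF := G.hom) ?_ (G ⊗ T).hom
      (Over.w (lift (𝟙 G) (toUnit G ≫ y))) _).2 hGpure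
    have h0 := isPullback_slice_snd G T y
    rwa [← (Category.comp_id (toUnit G).left).symm.trans (Over.w (toUnit G))]
  have hne : ∃ ξ : (G ⊗ T).left, ∀ z, z ⤳ ξ → z = ξ := by
    have : Nonempty (G ⊗ T).left := ⟨((Scheme.Pullback.exists_preimage_pullback (f := G.hom) (g := T.hom)
      (genericPoint G.left) (genericPoint T.left) (Subsingleton.elim (α := PrimeSpectrum k) _ _))).choose⟩
    obtain ⟨Z', hZ', ξ, -, hξ, -⟩ := exists_component_generic (Classical.arbitrary (G ⊗ T).left)
    exact ⟨ξ, hξ⟩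
  have hflat : ∀ ξ : (G ⊗ T).left, (∀ z, z ⤳ ξ → z = ξ) → h ξ = genericPoint X.left := by
    intro ξ hξ
    obtain ⟨ξ', h1, h2⟩ := Flat.generalizingMap h (genericPoint_specializes (h ξ))
    exact hξ ξ' h1 ▸ h2
  obtain ⟨ξ0, hξ0⟩ := hne
  obtain ⟨e1, he1⟩ : ∃ e1, aG + r = e1 + n := by
    have := height_image_le (G ⊗ T).hom X.hom h hw ξ0
    rw [hPmax ξ0 hξ0, hflat ξ0 hξ0, hX] at this
    exact ⟨aG + r - n, by have : n ≤ aG + r := by exact_mod_cast this
                          omega⟩
  obtain ⟨VX, hηVX, -, hVX⟩ := exists_open_pureSet (G ⊗ T).hom X.hom h hw ⊤ trivial (e1 : ℕ∞)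
    fun ξ hξ _ => ⟨hflat ξ hξ, by rw [hPmax ξ hξ, hX]; exact_mod_cast he1⟩
  have hfib : ∀ b : X.left, IsClosed ({b} : Set X.left) → PureSet (h ⁻¹' {b}) (e1 : ℕ∞) :=
    pureSet_fibre_of_open a t htrans VX ⟨_, hηVX⟩ e1 hVX
  -- the total space
  let W := pullback h g
  let π : W ⟶ G.left := pullback.fst h g ≫ (fst G T).left
  let wW : W ⟶ Spec (CommRingCat.of k) := π ≫ G.hom
  have hwW : pullback.snd h g ≫ g ≫ X.hom = wW := by
    rw [← pullback.condition_assoc, hw]
    simp only [wW, π, Category.assoc, Over.w]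
  have : Smooth wW := hwW ▸ inferInstance
  have : QuasiCompact (fst G T).left :=
    MorphismProperty.of_isPullback (Groth.AlgGrp2.isPullback_fst_snd G T).flip ‹QuasiCompact T.hom›
  have : QuasiCompact h := ⟨fun _ _ _ => NoetherianSpace.isCompact _⟩
  have : QuasiCompact wW := hwW ▸ inferInstance
  have := noetherianSpace_of wW
  have hWmax : ∀ ξ : W, (∀ z, z ⤳ ξ → z = ξ) → Order.height ξ = (e1 : ℕ∞) + s := by
    intro ξ hξ
    rw [← hZ]
    refine (height_maximal_eq wW (g ≫ X.hom) (pullback.snd h g) hwW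
      (Flat.generalizingMap _) e1 (fun z hz => ?_) hξ).2
    have : LocallyOfFiniteType (Over.mk (g ≫ X.hom)).hom :=
      inferInstanceAs (LocallyOfFiniteType (g ≫ X.hom))
    obtain ⟨zp, hzp⟩ := exists_point (X := Over.mk (g ≫ X.hom)) hz
    let zl : Spec (CommRingCat.of k) ⟶ Z := zp.left
    have hzl : zl ≫ g ≫ X.hom = 𝟙 _ := Over.w zp
    have : IsClosedImmersion zl :=
      isClosedImmersion_of_comp_eq_id (Y := Spec (CommRingCat.of k)) (g ≫ X.hom) zl hzl
    have : IsClosedImmersion (zl ≫ g) :=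
      isClosedImmersion_of_comp_eq_id (Y := Spec (CommRingCat.of k)) X.hom (zl ≫ g)
        (by rw [Category.assoc, hzl])
    have hbig := IsPullback.of_hasPullback h (zl ≫ g)
    let q : pullback h (zl ≫ g) ⟶ W :=
      pullback.lift (pullback.fst _ _) (pullback.snd _ _ ≫ zl) (by simp [pullback.condition])
    have hsq : IsPullback q (pullback.snd h (zl ≫ g)) (pullback.snd h g) zl := by
      refine IsPullback.of_right ?_ (pullback.lift_snd _ _ _) (IsPullback.of_hasPullback h g)
      rw [pullback.lift_fst]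
      exact hbig
    have hs' : q ≫ wW = pullback.snd h (zl ≫ g) := by
      rw [← hwW, ← Category.assoc, pullback.lift_snd, Category.assoc, hzl, Category.comp_id]
    have hs'' : pullback.fst h (zl ≫ g) ≫ (G ⊗ T).hom = pullback.snd h (zl ≫ g) := by
      rw [← hw, pullback.condition_assoc, Category.assoc, hzl, Category.comp_id]
    rw [show z = zl (IsLocalRing.closedPoint k) from (hzp _).symm,
      pureSet_preimage_iff hsq wW hs', ← pureSet_preimage_iff hbig (G ⊗ T).hom hs'']
    refine hfib _ ?_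
    rw [← range_eq_singleton]
    exact (zl ≫ g).isClosedEmbedding.isClosed_range
  -- generic smoothness of `π`
  have := LocallyOfFiniteType.isLocallyNoetherian G.hom
  have : LocallyOfFiniteType π := locallyOfFiniteType_of_comp π G.hom
  have := locallyOfFinitePresentation_of_noetherian π
  have := noetherianSpace_of G.hom
  have : QuasiCompact π := ⟨fun _ _ _ => NoetherianSpace.isCompact _⟩
  have : CharZero G.left.functionField := by
    let φ : CommRingCat.of k ⟶ G.left.functionField :=
      (Scheme.ΓSpecIso _).inv ≫ G.hom.appTop ≫ G.left.presheaf.germ ⊤ (genericPoint G.left) trivial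
    exact charZero_of_injective_ringHom φ.hom.injective
  have hC : Topology.IsConstructible (π '' (π.smoothLocus : Set W)ᶜ) :=
    π.isConstructible_image (IsRetrocompact.isConstructible π.smoothLocus.2
      (fun _ _ _ => NoetherianSpace.isCompact _)).compl
  obtain ⟨V1, hV1, hηV1, hV1sub⟩ :=
    (Groth.ZetaAn.isConstructible_near hC (genericPoint G.left)).2 (by
      rintro ⟨x, hx, he⟩
      exact hx (mem_smoothLocus_of_map_eq_genericPoint G.hom π he))
  let V₁ : G.left.Opens := ⟨V1, hV1⟩
  have hU : π ⁻¹ᵁ V₁ ≤ π.smoothLocus := fun x hx => by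
    by_contra hc
    exact hV1sub ⟨hx, specializes_iff_mem_closure.1 (genericPoint_specializes _)⟩ ⟨x, hc, rfl⟩
  have : Smooth ((π ⁻¹ᵁ V₁).ι ≫ π) := smooth_of_le_smoothLocus π _ hU
  have hWdom : ∀ ξ : W, (∀ z, z ⤳ ξ → z = ξ) → π ξ ∈ V₁ → π ξ = genericPoint G.left := by
    intro ξ hξ hmem
    obtain ⟨ξ', h1, h2⟩ := Flat.generalizingMap ((π ⁻¹ᵁ V₁).ι ≫ π) (a := ⟨ξ, hmem⟩)
      (genericPoint_specializes _)
    rw [Scheme.Hom.comp_apply] at h2
    exact hξ _ (h1.map (π ⁻¹ᵁ V₁).ι.continuous) ▸ h2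
  obtain ⟨V, hηV, hVle, hV⟩ := exists_open_pureSet wW G.hom π rfl V₁ hηV1
    ((e1 + s - aG : ℕ) : ℕ∞) fun ξ hξ hmem => ⟨hWdom ξ hξ hmem, by
      have h1 := height_image_le wW G.hom π rfl ξ
      rw [hWmax ξ hξ, hWdom ξ hξ hmem, haG] at h1
      have h1 : aG ≤ e1 + s := by exact_mod_cast h1
      rw [hWmax ξ hξ, haG]
      exact_mod_cast (show e1 + s = e1 + s - aG + aG by omega)⟩
  refine ⟨V, ⟨_, hηV⟩, fun σ hσ fσ hfσ => ?_⟩
  let sσ : T ⟶ G ⊗ T := lift (toUnit T ≫ σ) (𝟙 T)
  have hfac : fσ = sσ.left ≫ h := by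
    rw [hfσ, ← Over.comp_left]
    congr 1
    have : sσ ≫ (G ◁ t) = lift (toUnit T ≫ σ) t := by
      apply CartesianMonoidalCategory.hom_ext <;> simp [sσ]
    rw [← Category.assoc, this]
  subst hfac
  have hslice : IsPullback sσ.left T.hom (fst G T).left σ.left := by
    have h0 := isPullback_slice_fst G T σ
    rwa [← (Category.comp_id (toUnit T).left).symm.trans (Over.w (toUnit T))]
  let F := pullback (sσ.left ≫ h) g
  let q : F ⟶ W :=
    pullback.lift (pullback.fst _ _ ≫ sσ.left) (pullback.snd _ _) (by simp [pullback.condition])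
  have h1 : IsPullback q (pullback.fst (sσ.left ≫ h) g) (pullback.fst h g) sσ.left := by
    refine IsPullback.of_right ?_ (pullback.lift_fst _ _ _) (IsPullback.of_hasPullback h g).flip
    rw [pullback.lift_snd]
    exact (IsPullback.of_hasPullback (sσ.left ≫ h) g).flip
  have hsq : IsPullback q (pullback.fst (sσ.left ≫ h) g ≫ f ≫ X.hom) π σ.left :=
    h1.paste_vert hslice
  have hqU : Set.range q ⊆ (π ⁻¹ᵁ V₁).ι.opensRange := by
    rw [Scheme.Opens.opensRange_ι, range_of_isPullback hsq]
    intro x hx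
    exact hVle (hσ hx)
  let q' := IsOpenImmersion.lift (π ⁻¹ᵁ V₁).ι q hqU
  have hsq' := isPullback_of_factor hsq (π ⁻¹ᵁ V₁).ι q' (IsOpenImmersion.lift_fac _ _ _)
  have hsm : Smooth (pullback.fst (sσ.left ≫ h) g ≫ f ≫ X.hom) :=
    MorphismProperty.of_isPullback (P := @Smooth) hsq' ‹Smooth ((π ⁻¹ᵁ V₁).ι ≫ π)›
  refine ⟨hsm, ?_⟩
  rw [or_iff_not_imp_left]
  intro hne
  obtain ⟨x0⟩ := not_isEmpty_iff.1 hne
  have : IsClosedImmersion σ.left :=
    isClosedImmersion_of_comp_eq_id (Y := Spec (CommRingCat.of k)) G.hom σ.left (Over.w σ)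
  have hb : σ.left (IsLocalRing.closedPoint k) ∈ V := hσ ⟨_, rfl⟩
  have hbc : IsClosed ({σ.left (IsLocalRing.closedPoint k)} : Set G.left) := by
    rw [← range_eq_singleton]
    exact σ.left.isClosedEmbedding.isClosed_range
  have hFpure := (pureSet_preimage_iff hsq wW
    (show q ≫ π ≫ G.hom = _ by
      rw [reassoc_of% hsq.w, Over.w σ, Over.tensorUnit_hom, Category.comp_id]) _).1
    (hV _ hb hbc)
  obtain ⟨Z', hZ', ξ, -, hξ, hξx⟩ := exists_component_generic (q x0)
  have hmem : π ξ ∈ V₁ := (hξx.map π.continuous).mem_open V₁.2 (hVle (hσ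
    ((range_of_isPullback hsq).le ⟨x0, rfl⟩)))
  have hle := height_image_le wW G.hom π rfl ξ
  rw [hWmax ξ hξ, hWdom ξ hξ hmem, haG] at hle
  have hle : aG ≤ e1 + s := by exact_mod_cast hle
  refine ⟨by omega, ?_⟩
  rw [show r + s - n = e1 + s - aG by omega, dim_eq_iSup_height]
  refine le_antisymm (iSup_le fun x => WithBot.coe_le_coe.2 (hFpure.1 x trivial)) ?_
  obtain ⟨x, -, hx⟩ := hFpure.2 Set.univ isOpen_univ ⟨x0, trivial, trivial⟩
  exact le_iSup_of_le x (hx.symm ▸ le_rfl)

end Groth.Agent.S10928
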