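import Groth.Statements.S10929
import Mathlib
import Groth.Agent.Variety2.GenSmooth

set_option autoImplicit false
universe u
open CategoryTheory CategoryTheory.Limits AlgebraicGeometry
open Variety

namespace Groth.Agent.S10929

/-- Let k be an algebraically closed field of characteristic zero, X and Y integral schemes of finite
type over k and f : X → Y a dominant k-morphism. Then there is a nonempty open subscheme U of X such
that f restricted to U is a smooth morphism U → Y. -/
theorem result (k : Type u) [Field k] [IsAlgClosed k] [CharZero k]
    {X Y : Scheme.{u}} (qX : X ⟶ Spec (CommRingCat.of k)) (qY : Y ⟶ Spec (CommRingCat.of k))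
    [LocallyOfFiniteType qX] [QuasiCompact qX] [LocallyOfFiniteType qY] [QuasiCompact qY]
    [IsIntegral X] [IsIntegral Y] (f : X ⟶ Y) (hf : f ≫ qY = qX) (hdom : DenseRange f.base) :
    ∃ U : X.Opens, (U : Set ↥X).Nonempty ∧ Smooth (U.ι ≫ f) := by
  have := LocallyOfFiniteType.isLocallyNoetherian qY
  have : LocallyOfFiniteType (f ≫ qY) := hf ▸ inferInstance
  have : LocallyOfFiniteType f := locallyOfFiniteType_of_comp f qY
  have := Groth.Variety2.locallyOfFinitePresentation_of_noetherian f
  have : IsDominant f := ⟨hdom⟩
  let φ : k →+* Y.functionField :=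
    ((Scheme.ΓSpecIso (CommRingCat.of k)).inv ≫ qY.appTop ≫
      Y.presheaf.germ ⊤ (genericPoint Y) trivial).hom
  have : CharZero Y.functionField := charZero_of_injective_ringHom φ.injective
  have e : f (genericPoint X) = genericPoint Y :=
    ((genericPoint_spec X).image f.continuous).eq (by
      rw [Set.image_univ, hdom.closure_range]
      exact genericPoint_spec Y)
  exact ⟨f.smoothLocus, ⟨_, Groth.Variety2.genericPoint_mem_smoothLocus f e⟩,
    Groth.Variety2.smooth_of_le_smoothLocus f _ le_rfl⟩

end Groth.Agent.S10929
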