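import Groth.Statements.S10930
import Mathlib
import Groth.Agent.Variety2.SmoothTarget
import Groth.Agent.Variety2.DimFiber
import Groth.Agent.ZetaAn.Constructible

set_option autoImplicit false
universe u
open CategoryTheory CategoryTheory.Limits AlgebraicGeometry
open Variety

namespace Groth.Agent.S10930

/-- Let k be an algebraically closed field of characteristic zero, X and Y varieties over k (integral,
separated and of finite type over k) with X nonsingular, i.e. smooth over k, and f : X → Y a
k-morphism. Then there is a nonempty open subscheme V of Y such that the restriction f⁻¹(V) → V of f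
is smooth. -/
theorem result (k : Type u) [Field k] [IsAlgClosed k] [CharZero k]
    {X Y : Scheme.{u}} (qX : X ⟶ Spec (CommRingCat.of k)) (qY : Y ⟶ Spec (CommRingCat.of k))
    [LocallyOfFiniteType qX] [QuasiCompact qX] [IsSeparated qX] [Smooth qX]
    [LocallyOfFiniteType qY] [QuasiCompact qY] [IsSeparated qY]
    [IsIntegral X] [IsIntegral Y] (f : X ⟶ Y) (hf : f ≫ qY = qX) :
    ∃ V : Y.Opens, (V : Set ↥Y).Nonempty ∧ Smooth (f ∣_ V) := by
  have := LocallyOfFiniteType.isLocallyNoetherian qY
  have : LocallyOfFiniteType (f ≫ qY) := hf ▸ inferInstance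
  have : Smooth (f ≫ qY) := hf ▸ inferInstance
  have : LocallyOfFiniteType f := locallyOfFiniteType_of_comp f qY
  have := Groth.Variety2.locallyOfFinitePresentation_of_noetherian f
  have := Groth.Variety2.Dim.noetherianSpace_of qX
  have := Groth.Variety2.Dim.noetherianSpace_of qY
  let φ : k →+* Y.functionField :=
    ((Scheme.ΓSpecIso (CommRingCat.of k)).inv ≫ qY.appTop ≫
      Y.presheaf.germ ⊤ (genericPoint Y) trivial).hom
  have : CharZero Y.functionField := charZero_of_injective_ringHom φ.injective
  have : QuasiCompact f := ⟨fun _ _ _ => TopologicalSpace.NoetherianSpace.isCompact _⟩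
  have hC : Topology.IsConstructible ((f.smoothLocus : Set X)ᶜ) :=
    (IsRetrocompact.isConstructible f.smoothLocus.2
      fun _ _ _ => TopologicalSpace.NoetherianSpace.isCompact _).compl
  have hη : genericPoint Y ∉ f.base '' (f.smoothLocus : Set X)ᶜ := by
    rintro ⟨x, hx, e⟩
    exact hx (Groth.Variety2.mem_smoothLocus_of_map_eq_genericPoint qY f e)
  obtain ⟨V, hVo, hV, hsub⟩ :=
    (Groth.ZetaAn.isConstructible_near (f.isConstructible_image hC) (genericPoint Y)).2 hη
  refine ⟨⟨V, hVo⟩, ⟨_, hV⟩, ?_⟩
  have hle : f ⁻¹ᵁ ⟨V, hVo⟩ ≤ f.smoothLocus := fun x hx => by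
    by_contra h
    exact hsub ⟨hx, specializes_iff_mem_closure.1 (genericPoint_specializes _)⟩ ⟨x, h, rfl⟩
  have := Groth.Variety2.smooth_of_le_smoothLocus f _ hle
  rw [← morphismRestrict_ι] at this
  exact MorphismProperty.of_postcomp (W := @Smooth) (W' := @IsOpenImmersion) _
    (Scheme.Opens.ι (X := Y) ⟨V, hVo⟩) inferInstance this

end Groth.Agent.S10930
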