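import Groth.Statements.S10931
import Groth.Agent.PnHodge.Dim

set_option autoImplicit false
universe u
open CategoryTheory CategoryTheory.Limits AlgebraicGeometry
open ProjDual

namespace Groth.Agent.S10931

/-- Let k be a field, p ≤ r and q ≤ r natural numbers, P = P^r_k with structure map to Spec k, Ω =
Ω^1_{P/k} (the conormal sheaf of the diagonal), L an O_P-module which is a p-th exterior power of Ω
and L' one which is an (r − p)-th exterior power of Ω, and d an integer; write M(d) = M ⊗ O_P(d).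
Then H^q(P, L(d)) = H^q(P^r, Ω^p(d)) and H^{r−q}(P, L'(−d)) = H^{r−q}(P^r, Ω^{r−p}(−d)) have the
same dimension over k. (The published statement asserts an isomorphism between these two cohomology
groups, obtained from Serre duality; this row records the equality of dimensions.) -/
theorem result (k : Type u) [Field k] (r p q : ℕ)
    (hp : p ≤ r) (hq : q ≤ r) (L L' : (CohB1.ProjSpace r k).Modules)
    (hL : ExtPow.IsExtPow p (Omega.sheaf (CohB1.ProjSpace.toSpec r k)) L)
    (hL' : ExtPow.IsExtPow (r - p) (Omega.sheaf (CohB1.ProjSpace.toSpec r k)) L') (d : ℤ) :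
    Module.finrank k (Coh.HH (CohB1.ProjSpace r k) (CohB1.tensorMod L (Twist.twistProjSpace r k d)) q) =
      Module.finrank k (Coh.HH (CohB1.ProjSpace r k)
        (CohB1.tensorMod L' (Twist.twistProjSpace r k (-d))) (r - q)) := by
  obtain ⟨ε⟩ := Groth.PnHodge.nonempty_iso_omegaTw r k hL d
  obtain ⟨ε'⟩ := Groth.PnHodge.nonempty_iso_omegaTw r k hL' (-d)
  rw [(Groth.EulerDeg.hEquiv k ε q).finrank_eq, (Groth.EulerDeg.hEquiv k ε' (r - q)).finrank_eq]
  have hzero : ∀ (a b : ℕ) (c : ℤ), ¬ (b = a ∧ c = 0 ∧ a ≤ r) → ¬ (b = 0 ∧ (a : ℤ) < c) →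
      ¬ (b = r ∧ c < (a : ℤ) - r) →
      Module.finrank k (Coh.HH (CohB1.ProjSpace r k) (Groth.PnHodge.omegaTw r k a c) b) = 0 :=
    fun a b c h1 h2 h3 => by
      haveI := Groth.PnHodge.subsingleton_omegaTw r k a b c h1 h2 h3
      exact Module.finrank_zero_of_subsingleton
  rcases lt_trichotomy d 0 with hd | rfl | hd
  · obtain ⟨e, he, rfl⟩ : ∃ e : ℕ, 1 ≤ e ∧ d = -(e : ℤ) := ⟨d.natAbs, by omega, by omega⟩
    rw [neg_neg]
    by_cases hqr : q = r
    · subst hqr
      rw [Nat.sub_self, Groth.PnHodge.finrank_hTop_omegaTw _ k he p hp,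
        Groth.PnHodge.finrank_h0_omegaTw _ k he (q - p) (by omega)]
    · rw [hzero p q (-(e : ℤ)) (by omega) (by omega) (by omega),
        hzero (r - p) (r - q) (e : ℤ) (by omega) (by omega) (by omega)]
  · by_cases hqp : q = p
    · subst hqp
      rw [neg_zero]
      obtain ⟨f⟩ := Groth.PnHodge.nonempty_diag_equiv r k q hq
      obtain ⟨f'⟩ := Groth.PnHodge.nonempty_diag_equiv r k (r - q) (Nat.sub_le r q)
      rw [f.finrank_eq, f'.finrank_eq]
    · rw [neg_zero, hzero p q 0 (by omega) (by omega) (by omega),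
        hzero (r - p) (r - q) 0 (by omega) (by omega) (by omega)]
  · obtain ⟨e, he, rfl⟩ : ∃ e : ℕ, 1 ≤ e ∧ d = (e : ℤ) := ⟨d.natAbs, by omega, by omega⟩
    by_cases hq0 : q = 0
    · subst hq0
      rw [Nat.sub_zero, Groth.PnHodge.finrank_h0_omegaTw _ k he p hp,
        Groth.PnHodge.finrank_hTop_omegaTw _ k he (r - p) (Nat.sub_le r p),
        show r - (r - p) = p by omega]
    · rw [hzero p q (e : ℤ) (by omega) (by omega) (by omega),
        hzero (r - p) (r - q) (-(e : ℤ)) (by omega) (by omega) (by omega)]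

end Groth.Agent.S10931
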