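import Groth.Statements.S10932
import Groth.Agent.VectorBundles.ExtFree
import Groth.Agent.Ega4Algebra1.RegularLocal

set_option autoImplicit false
universe u
open CategoryTheory
open CAlg

namespace Groth.Agent.S10932

/-- Let A be a (Noetherian) regular local ring of Krull dimension n and M a finitely generated A-module
such that Ext^j_A(M, A) = 0 for every j with 1 ≤ j ≤ n. Then M is projective, hence a free A-module. -/
theorem result (A : Type u) [CommRing A] [IsRegularLocalRing A]
    (n : ℕ) (hn : ringKrullDim A = n) (M : Type u) [AddCommGroup M] [Module A M] [Module.Finite A M]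
    (h : ∀ j : ℕ, 1 ≤ j → j ≤ n →
      Subsingleton (Abelian.Ext (ModuleCat.of A M) (ModuleCat.of A A) j)) :
    Module.Free A M := by
  have hs : (IsLocalRing.maximalIdeal A).spanFinrank = n := by
    have h1 := IsRegularLocalRing.spanFinrank_maximalIdeal (R := A)
    rw [hn] at h1
    exact_mod_cast h1
  have hpd : HasProjectiveDimensionLT (ModuleCat.of A M) (n + 1) :=
    Groth.Ega4Algebra1.pdLT_of_isRegularLocalRing A n hs M
  have key : ∀ j, j ≤ n → HasProjectiveDimensionLT (ModuleCat.of A M) (n - j + 1) := by
    intro j hj
    induction j with
    | zero => exact hpd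
    | succ j ih =>
      have h1 := ih (by omega)
      rw [show n - j + 1 = n - (j + 1) + 2 by omega] at h1
      exact Groth.VectorBundles.hasProjectiveDimensionLT_of_subsingleton_ext (ModuleCat.of A M)
        (n - (j + 1)) h1 (h _ (by omega) (by omega))
  have h0 := key n le_rfl
  rw [Nat.sub_self] at h0
  haveI : Projective (ModuleCat.of A M) := projective_iff_hasProjectiveDimensionLT_one.2 h0
  haveI : Module.Projective A M := (IsProjective.iff_projective (R := A) M).2 ‹_›
  exact Module.free_of_flat_of_isLocalRing

end Groth.Agent.S10932
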