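import Groth.Statements.S10933
import Groth.Agent.VectorBundles.ExtFree
import Groth.Agent.S0563
import Mathlib.Algebra.Category.ModuleCat.ProjectiveDimension

set_option autoImplicit false
universe u
open CategoryTheory
open CAlg

namespace Groth.Agent.S10933

/-- Let A be a (Noetherian) regular local ring, M a finitely generated A-module and d a natural number.
Then the projective dimension of M equals d if and only if Ext^j_A(M, A) = 0 for every j > d and
Ext^d_A(M, A) ≠ 0. (Projective dimension valued in WithBot ℕ∞, the zero module having projective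
dimension ⊥.) -/
theorem result (A : Type u) [CommRing A] [IsRegularLocalRing A]
    (M : Type u) [AddCommGroup M] [Module A M] [Module.Finite A M] (d : ℕ) :
    projectiveDimension (ModuleCat.of A M) = (d : WithBot ℕ∞) ↔
      ((∀ j : ℕ, d < j → Subsingleton (Abelian.Ext (ModuleCat.of A M) (ModuleCat.of A A) j)) ∧
        Nontrivial (Abelian.Ext (ModuleCat.of A M) (ModuleCat.of A A) d)) := by
  have hub : ∃ n, HasProjectiveDimensionLT (ModuleCat.of A M) n := by
    obtain ⟨k, hk⟩ : ∃ k : ℕ, ringKrullDim A = k :=
      ⟨_, (IsRegularLocalRing.spanFinrank_maximalIdeal (R := A)).symm⟩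
    exact ⟨k + 1, Groth.Agent.S0563.result A k hk M⟩
  -- vanishing of the higher Ext into the ring bounds the projective dimension
  have hdown : ∀ e : ℕ, (∀ j, e < j → Subsingleton (Abelian.Ext (ModuleCat.of A M) (ModuleCat.of A A) j)) →
      HasProjectiveDimensionLT (ModuleCat.of A M) (e + 1) := by
    intro e he
    obtain ⟨n, hn⟩ := hub
    suffices ∀ t, HasProjectiveDimensionLT (ModuleCat.of A M) (e + 1 + t) →
        HasProjectiveDimensionLT (ModuleCat.of A M) (e + 1) from
      this n (hasProjectiveDimensionLT_of_ge _ n _ (by omega))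
    intro t
    induction t with
    | zero => exact id
    | succ t ih =>
      intro h
      have h1 : HasProjectiveDimensionLT (ModuleCat.of A M) (e + t + 2) :=
        hasProjectiveDimensionLT_of_ge _ (e + 1 + (t + 1)) _ (by omega)
      have h2 : HasProjectiveDimensionLT (ModuleCat.of A M) (e + t + 1) :=
        Groth.VectorBundles.hasProjectiveDimensionLT_of_subsingleton_ext _ (e + t) h1 (he _ (by omega))
      exact ih (hasProjectiveDimensionLT_of_ge _ (e + t + 1) _ (by omega))
  have hup : ∀ e j : ℕ, HasProjectiveDimensionLT (ModuleCat.of A M) (e + 1) → e < j →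
      Subsingleton (Abelian.Ext (ModuleCat.of A M) (ModuleCat.of A A) j) := by
    intro e j h hj
    exact ⟨fun a b => (a.eq_zero_of_hasProjectiveDimensionLT (e + 1) hj).trans
      (b.eq_zero_of_hasProjectiveDimensionLT (e + 1) hj).symm⟩
  constructor
  · intro h
    have h1 : HasProjectiveDimensionLT (ModuleCat.of A M) (d + 1) :=
      projectiveDimension_le_iff _ d |>.mp h.le
    refine ⟨fun j hj => hup d j h1 hj, not_subsingleton_iff_nontrivial.mp fun hs => ?_⟩
    rcases d with _ | d
    · have := Groth.VectorBundles.free_of_hasProjectiveDimensionLT_two (ModuleCat.of A M)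
        (hasProjectiveDimensionLT_of_ge _ 1 _ (by omega)) (hup 0 1 h1 one_pos)
      have hz : ∀ (g : M →ₗ[A] A), g = 0 := fun g => by
        have h2 := hs.elim (Abelian.Ext.mk₀ (ModuleCat.ofHom g)) (Abelian.Ext.mk₀ 0)
        exact congrArg ModuleCat.Hom.hom (Abelian.Ext.homEquiv₀.symm.injective h2)
      have hM : Subsingleton M := by
        let b := Module.Free.chooseBasis A M
        exact ⟨fun x y => b.ext_elem fun i => by
          have h3 := hz (b.coord i)
          rw [← Module.Basis.coord_apply, ← Module.Basis.coord_apply, h3]; rfl⟩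
      have h0 : projectiveDimension (ModuleCat.of A M) = ⊥ :=
        (projectiveDimension_eq_bot_iff _).mpr (ModuleCat.isZero_of_subsingleton _)
      rw [h0] at h
      exact WithBot.bot_ne_coe h
    · have h2 := Groth.VectorBundles.hasProjectiveDimensionLT_of_subsingleton_ext _ d h1 hs
      have h3 := (projectiveDimension_le_iff (ModuleCat.of A M) d).mpr h2
      rw [h] at h3
      exact absurd (show d + 1 ≤ d by exact_mod_cast h3) (Nat.not_succ_le_self d)
  · rintro ⟨hgt, hne⟩
    refine le_antisymm ((projectiveDimension_le_iff _ d).mpr (hdown d hgt)) ?_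
    rw [projectiveDimension_ge_iff]
    intro hlt
    exact not_subsingleton _ ⟨fun (a b : Abelian.Ext (ModuleCat.of A M) (ModuleCat.of A A) d) => (a.eq_zero_of_hasProjectiveDimensionLT d le_rfl).trans
      (b.eq_zero_of_hasProjectiveDimensionLT d le_rfl).symm⟩

end Groth.Agent.S10933
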