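import Groth.Statements.S10934
import Groth.Agent.Duality.PnPushDepth
import Groth.Agent.LocFree.Basic
import Groth.Agent.CohTwo.PushStalkModule

set_option autoImplicit false
universe u
open CategoryTheory CategoryTheory.Limits AlgebraicGeometry
open ProjDual

namespace Groth.Agent.S10934

/-- (a)⇔(b): let k be a field, i : X → P^N_k a closed immersion with X of dimension n, and write F(−q) =
F ⊗ i^*O(−q). Then X is an equidimensional Cohen–Macaulay scheme of dimension n — the local ring of
X at every closed point is Cohen–Macaulay of Krull dimension n — if and only if for every finite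
locally free O_X-module F (vector bundle) there is q₀ such that H^j(X, F(−q)) = 0 for all j < n and
all q ≥ q₀. -/
theorem result (k : Type u) [Field k] (N n : ℕ)
    {X : Scheme.{u}} (i : X ⟶ CohB1.ProjSpace N k) [IsClosedImmersion i] (hn : topologicalKrullDim ↥X = n) :
    (∀ x : X, IsClosed ({x} : Set ↥X) →
        LocCoh.IsCohenMacaulayLocalRing (X.presheaf.stalk x) ∧ ringKrullDim (X.presheaf.stalk x) = n) ↔
      ∀ F : X.Modules, FlatMod.IsFinLocFree F → ∃ q₀ : ℕ, ∀ q : ℕ, q₀ ≤ q → ∀ j : ℕ, j < n →
        Subsingleton (Coh.HH X (CohB1.tensorMod F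
          ((Scheme.Modules.pullback i).obj (Twist.twistProjSpace N k (-(q : ℤ))))) j) := by
  open Groth in
  have := PnCoh.isLocallyNoetherian_projSpace N k
  open Groth in
  have : IsLocallyNoetherian X := LocallyOfFiniteType.isLocallyNoetherian i
  constructor
  · intro h F hF
    obtain ⟨q₀, hq⟩ := (Groth.Duality.Pn.exists_subsingleton_pullback_iff_depth i
      (Groth.KTheory.LocFree.isCoh hF) n).mpr fun z hz => by
        have := Groth.KTheory.LocFree.free_stalk hF z
        have := Groth.LocFree.finite_stalk hF z
        obtain ⟨hcm, hdim⟩ := h z hz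
        refine le_trans ?_ (Groth.Duality.depth_le_depth_free (F.presheaf.stalk z))
        have e := hcm.supportDim_eq_depth
        rw [Module.supportDim_self_eq_ringKrullDim, hdim] at e
        exact le_of_eq (WithBot.coe_injective e)
    exact ⟨q₀, hq⟩
  · intro h x hx
    have hd : (n : ℕ∞) ≤ LocCoh.depth (X.presheaf.stalk x) (X.presheaf.stalk x) :=
      ((Groth.Duality.Pn.exists_subsingleton_pullback_iff_depth i
        (Groth.KTheory.LocFree.isCoh (Groth.LocFree.isFinLocFree_unit X)) n).mp
          (h _ (Groth.LocFree.isFinLocFree_unit X)) x hx).trans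
        (Groth.LocCohBase.idealDepth_congr (LinearEquiv.ofBijective _
          (Groth.CohTwo.bijective_toSpanSingleton_one x))).ge
    have hle : ringKrullDim (X.presheaf.stalk x) ≤ (n : WithBot ℕ∞) :=
      (Groth.Duality.ringKrullDim_stalk_le x).trans hn.le
    have hds := Groth.LocCohBase.depth_le_supportDim (R := X.presheaf.stalk x) (X.presheaf.stalk x)
    rw [Module.supportDim_self_eq_ringKrullDim] at hds
    have hge : (n : WithBot ℕ∞) ≤ ringKrullDim (X.presheaf.stalk x) :=
      le_trans (WithBot.coe_le_coe.mpr hd) hds
    refine ⟨{ supportDim_eq_depth := ?_ }, le_antisymm hle hge⟩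
    rw [Module.supportDim_self_eq_ringKrullDim]
    exact le_antisymm (hle.trans (WithBot.coe_le_coe.mpr hd)) hds

end Groth.Agent.S10934
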