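import Groth.Statements.S10935
import Groth.Agent.Flatmor4.FlatWeakAss

set_option autoImplicit false
universe u
open CategoryTheory CategoryTheory.Limits AlgebraicGeometry
open FlatMor

namespace Groth.Agent.S10935

/-- Let Y be an integral, regular (every local ring a regular local ring), one-dimensional scheme with
generic point η, X a Noetherian scheme and f : X → Y a morphism. Then f is flat if and only if every
associated point x of X — a point such that the maximal ideal of O_{X,x} is an associated prime of
O_{X,x} — satisfies f(x) = η. -/
theorem result {X Y : Scheme.{u}} (f : X ⟶ Y)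
    [IsIntegral Y] (hreg : ∀ y : Y, IsRegularLocalRing (Y.presheaf.stalk y))
    (hY : topologicalKrullDim ↥Y = 1) [IsNoetherian X] :
    Flat f ↔ ∀ x : X, Curv2.IsAssPoint (Coh.structureModule X) x → f.base x = genericPoint ↥Y := by
  rw [Groth.Flatmor4.flat_iff_forall_weakAss_isField f fun y => by
    haveI := hreg y
    exact ⟨inferInstance, Groth.Flatmor4.isBezout_of_regular_dim_le_one
      ((Groth.Flatmor4.ringKrullDim_stalk_le y).trans hY.le)⟩]
  refine forall_congr' fun z => imp_congr Groth.Divisors.isAssPoint_iff_weak.symm ⟨fun hF => ?_, fun h => ?_⟩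
  · have hs : genericPoint (Y : Type u) ∈ Set.range (Y.fromSpecStalk (f z)) := by
      rw [Scheme.range_fromSpecStalk]
      exact (genericPoint_spec Y).specializes (Set.mem_univ (f z))
    obtain ⟨q, hq⟩ := hs
    have hm := IsLocalRing.isField_iff_maximalIdeal_eq.1 hF
    have : q = IsLocalRing.closedPoint (Y.presheaf.stalk (f z)) := PrimeSpectrum.ext
      ((eq_bot_iff.2 (hm ▸ IsLocalRing.le_maximalIdeal q.2.ne_top)).trans hm.symm)
    rw [← hq, this]
    exact Scheme.fromSpecStalk_closedPoint.symm
  · have : f z = genericPoint (Y : Type u) := h
    rw [this]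
    exact Field.toIsField Y.functionField

end Groth.Agent.S10935
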