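import Groth.Statements.S10937
import Groth.Agent.Variety2.SmoothCriterion
import Groth.Agent.Variety2.OmegaRank

set_option autoImplicit false
universe u
open CategoryTheory CategoryTheory.Limits AlgebraicGeometry
open Variety

namespace Groth.Agent.S10937

/-- (a)⇔(b): let k be an algebraically closed field, X and Y nonsingular varieties over k (integral,
separated, of finite type and smooth over k) with dim Y = dY and dim X = dY + n, and f : X → Y a
k-morphism. Then f is smooth of relative dimension n if and only if Ω_{X/Y} (the conormal sheaf of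
the diagonal of f) is locally free of rank n. -/
theorem result (k : Type u) [Field k] [IsAlgClosed k]
    {X Y : Scheme.{u}} (qX : X ⟶ Spec (CommRingCat.of k)) (qY : Y ⟶ Spec (CommRingCat.of k))
    [IsIntegral X] [IsSeparated qX] [LocallyOfFiniteType qX] [QuasiCompact qX] [Smooth qX]
    [IsIntegral Y] [IsSeparated qY] [LocallyOfFiniteType qY] [QuasiCompact qY] [Smooth qY]
    (f : X ⟶ Y) (hf : f ≫ qY = qX) (n dY : ℕ) (hY : topologicalKrullDim ↥Y = dY)
    (hX : topologicalKrullDim ↥X = ((dY + n : ℕ) : WithBot ℕ∞)) :
    SmoothOfRelativeDimension n f ↔ FlatMod.IsFinLocFreeOfRank n (Omega.sheaf f) := by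
  have : IsSeparated f := by
    have : IsSeparated (f ≫ qY) := hf ▸ inferInstance
    exact IsSeparated.of_comp f qY
  refine ⟨fun h => Groth.OmegaSheaf.isFinLocFreeOfRank_sheaf f n, fun h => ?_⟩
  refine Groth.Variety2.CotSmooth.smoothOfRelativeDimension_of_injective qX qY f hf n dY hY hX fun x hx => ?_
  exact (Groth.Variety2.CotSmooth.injective_iff_relRank qX qY f hf n dY hY hX hx).2
    (Groth.Variety2.CotSmooth.relRank_eq_of_finLocFree f n h x)

end Groth.Agent.S10937
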