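import Groth.Statements.S10938
import Groth.Agent.Misc12.RankDimScheme

set_option autoImplicit false
set_option linter.style.haveILetI false
universe u
open CategoryTheory CategoryTheory.Limits AlgebraicGeometry
open Variety

namespace Groth.Agent.S10938

/-- Let k be an algebraically closed field of characteristic zero, X and Y schemes of finite type over
k, f : X → Y a k-morphism and r a natural number. Let X_r be the set of closed points x of X such
that the tangent map T_x f : T_x X → T_{f(x)} Y has rank at most r — equivalently, the image of the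
cotangent map m_{f(x)}/m_{f(x)}^2 → m_x/m_x^2 is contained in the span of at most r vectors over the
residue field. Then the closure of f(X_r) in Y has (topological Krull) dimension at most r. -/
theorem result (k : Type u) [Field k] [IsAlgClosed k] [CharZero k]
    {X Y : Scheme.{u}} (qX : X ⟶ Spec (CommRingCat.of k)) (qY : Y ⟶ Spec (CommRingCat.of k))
    [LocallyOfFiniteType qX] [QuasiCompact qX] [LocallyOfFiniteType qY] [QuasiCompact qY]
    (f : X ⟶ Y) (hf : f ≫ qY = qX) (r : ℕ) :
    topologicalKrullDim ↥(closure (f.base '' {x : ↥X | IsClosed ({x} : Set ↥X) ∧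
      ∃ S : Finset (IsLocalRing.CotangentSpace (X.presheaf.stalk x)), S.card ≤ r ∧
        (LinearMap.range (FixPt.cotangentMapAt f x (f.base x) rfl) : Set (IsLocalRing.CotangentSpace (X.presheaf.stalk x))) ⊆
          (Submodule.span (IsLocalRing.ResidueField (X.presheaf.stalk x))
            (S : Set (IsLocalRing.CotangentSpace (X.presheaf.stalk x))) : Set (IsLocalRing.CotangentSpace (X.presheaf.stalk x)))})) ≤ r := by
  classical
  generalize hP : {x : ↥X | IsClosed ({x} : Set ↥X) ∧
      ∃ S : Finset (IsLocalRing.CotangentSpace (X.presheaf.stalk x)), S.card ≤ r ∧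
        (LinearMap.range (FixPt.cotangentMapAt f x (f.base x) rfl) : Set (IsLocalRing.CotangentSpace (X.presheaf.stalk x))) ⊆
          (Submodule.span (IsLocalRing.ResidueField (X.presheaf.stalk x))
            (S : Set (IsLocalRing.CotangentSpace (X.presheaf.stalk x))) : Set (IsLocalRing.CotangentSpace (X.presheaf.stalk x)))} = P
  haveI : IsNoetherian X := by
    haveI := LocallyOfFiniteType.isLocallyNoetherian qX
    haveI : CompactSpace X := QuasiCompact.compactSpace_of_compactSpace qX
    constructor
  haveI : TopologicalSpace.NoetherianSpace ↥P :=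
    Topology.IsInducing.subtypeVal.noetherianSpace
  let cl : Set ↥P → Set ↥Y := fun T => closure (f '' closure (Subtype.val '' T))
  have hsub : closure (f '' P) ⊆ ⋃ T ∈ irreducibleComponents ↥P, cl T := by
    refine closure_minimal ?_ ((TopologicalSpace.NoetherianSpace.finite_irreducibleComponents).isClosed_biUnion
      fun T _ => isClosed_closure)
    rintro _ ⟨x, hx, rfl⟩
    obtain ⟨T, hT, hxT⟩ : ∃ T ∈ irreducibleComponents ↥P, (⟨x, hx⟩ : P) ∈ T :=
      ⟨irreducibleComponent _, irreducibleComponent_mem_irreducibleComponents _, mem_irreducibleComponent⟩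
    exact Set.mem_biUnion hT (subset_closure ⟨x, subset_closure ⟨_, hxT, rfl⟩, rfl⟩)
  have hT : ∀ T ∈ irreducibleComponents ↥P, topologicalKrullDim ↥(cl T) ≤ r := fun T hT =>
    Groth.Misc12.RankDimScheme.dim_closure_image_le qX qY f hf r P (fun x hx => by rw [← hP] at hx; exact hx)
      isClosed_closure (hT.1.image _ continuous_subtype_val.continuousOn).closure
      (closure_mono (fun x hx => ⟨subset_closure hx, by obtain ⟨y, -, rfl⟩ := hx; exact y.2⟩))
  have hy : ∀ y ∈ closure (f '' P), ((Order.height y : ℕ∞) : WithBot ℕ∞) ≤ r := fun y hy => by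
    obtain ⟨T, hTm, hyT⟩ := Set.mem_iUnion₂.1 (hsub hy)
    refine le_trans ?_ (hT T hTm)
    rw [Groth.Variety2.Dim.dim_closed isClosed_closure]
    exact le_iSup₂ (f := fun z (_ : z ∈ cl T) => ((Order.height z : ℕ∞) : WithBot ℕ∞)) y hyT
  show topologicalKrullDim ↥(closure (f '' P)) ≤ r
  rw [Groth.Variety2.Dim.dim_closed isClosed_closure]
  exact iSup₂_le hy

end Groth.Agent.S10938
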