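import Groth.Statements.S10939
import Groth.Agent.Variety2.ProjCover

set_option autoImplicit false
universe u
open CategoryTheory CategoryTheory.Limits AlgebraicGeometry
open Variety

namespace Groth.Agent.S10939

/-- Let k be a field, P = P^n_k = Proj k[x_0, …, x_n], and i_X : X → P, i_Y : Y → P closed immersions
with X of dimension r. Then there are homogeneous polynomials h_1, …, h_{r+1} of positive degree,
with basic opens D_j = D_+(h_j) and hypersurfaces H_j = P ∖ D_j, such that every H_j contains Y and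
X ∖ Y = ⋃_j (X ∖ H_j), i.e. every point of X outside Y lies in some D_j; moreover each X ∖ H_j = X ∩
D_j is affine. (The published statement takes X and Y reduced; the assertion only concerns the
underlying closed sets.) -/
theorem result (k : Type u) [Field k] (n r : ℕ)
    {X Y : Scheme.{u}} (iX : X ⟶ CohB1.ProjSpace n k) (iY : Y ⟶ CohB1.ProjSpace n k)
    [IsClosedImmersion iX] [IsClosedImmersion iY] (hX : topologicalKrullDim ↥X = r) :
    ∃ (h : Fin (r + 1) → MvPolynomial (Fin (n + 1)) k) (D : Fin (r + 1) → (CohB1.ProjSpace n k).Opens),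
      (∀ j, D j = Proj.basicOpen (CohB1.polyGrading n k) (h j)) ∧
      (∀ j, ∃ d : ℕ, 0 < d ∧ (h j).IsHomogeneous d) ∧
      (∀ j, Set.range iY.base ⊆ (D j : Set ↥(CohB1.ProjSpace n k))ᶜ) ∧
      (Set.range iX.base \ Set.range iY.base ⊆ ⋃ j, (D j : Set ↥(CohB1.ProjSpace n k))) ∧
      ∀ j, IsAffineOpen (iX ⁻¹ᵁ (D j)) := by
  have hiX := iX.isClosedEmbedding
  let TX : Set (ProjectiveSpectrum (CohB1.polyGrading n k)) := Set.range iX.base
  let TY : Set (ProjectiveSpectrum (CohB1.polyGrading n k)) := Set.range iY.base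
  have hTY : IsClosed TY := iY.isClosedEmbedding.isClosed_range
  obtain ⟨h, h1, h2, h3⟩ := Groth.Variety2.PSpace.exists_cover hTY r (T := TX)
    hiX.isClosed_range (by
      rintro _ ⟨x, rfl⟩ -
      rw [Groth.Variety2.Dim.dim_eq_iSup_height] at hX
      refine WithBot.coe_le_coe.1 (le_trans ?_ hX.le)
      refine le_trans (le_of_eq ?_) (le_iSup (fun z : X => ((Order.height z : ℕ∞) : WithBot ℕ∞)) x)
      exact congrArg _ (Groth.Variety2.Dim.height_eq_of_isPreimmersion
        (iX ≫ CohB1.ProjSpace.toSpec n k) (CohB1.ProjSpace.toSpec n k) iX rfl x))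
  refine ⟨h, fun j => Proj.basicOpen (CohB1.polyGrading n k) (h j), fun j => rfl, h1, fun j => ?_,
    fun x hx => ?_, fun j => ?_⟩
  · intro y hy hyD
    exact hyD (h2 j y hy)
  · obtain ⟨j, hj⟩ := h3 x hx.1 hx.2
    exact Set.mem_iUnion.2 ⟨j, hj⟩
  · obtain ⟨d, hd, hdeg⟩ := h1 j
    have hA : IsAffineOpen (X := CohB1.ProjSpace n k) (Proj.basicOpen (CohB1.polyGrading n k) (h j)) :=
      Proj.isAffineOpen_basicOpen _ (h j) hdeg hd
    exact hA.preimage iX

end Groth.Agent.S10939
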