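import Groth.Statements.S10940
import Groth.Agent.Variety2.ProjCover

set_option autoImplicit false
universe u
open CategoryTheory CategoryTheory.Limits AlgebraicGeometry
open Variety

namespace Groth.Agent.S10940

/-- Let k be a field and X a quasi-projective variety over k of dimension r: an integral scheme with an
immersion j : X → P^n_k. Then X admits a cover by r + 1 affine open subschemes. (Consequently the
cohomology of every quasi-coherent O_X-module vanishes above degree r; that consequence is the
general vanishing above the number of affines in a cover and is not restated here. The published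
statement is for varieties over an algebraically closed field; the argument, r + 1 hypersurfaces
through the boundary of the closure of X, works over any field, so k is an arbitrary field here.) -/
theorem result (k : Type u) [Field k] (n r : ℕ)
    {X : Scheme.{u}} (j : X ⟶ CohB1.ProjSpace n k) [IsImmersion j] [IsIntegral X]
    (hX : topologicalKrullDim ↥X = r) :
    ∃ U : Fin (r + 1) → X.Opens, (∀ i, IsAffineOpen (U i)) ∧ ⨆ i, U i = ⊤ := by
  let R : Set (ProjectiveSpectrum (CohB1.polyGrading n k)) := Set.range j.base
  have hY : IsClosed (closure R \ R) := by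
    have h : IsOpen (coborder R) := j.isLocallyClosed_range.isOpen_coborder
    rw [coborder, isOpen_compl_iff] at h
    exact h
  obtain ⟨h, h1, h2, h3⟩ := Groth.Variety2.PSpace.exists_cover hY r (T := closure R)
    isClosed_closure (by
      intro x hx hx'
      obtain ⟨x, rfl⟩ : x ∈ R := not_not.1 fun hc => hx' ⟨hx, hc⟩
      rw [Groth.Variety2.Dim.dim_eq_iSup_height] at hX
      refine WithBot.coe_le_coe.1 (le_trans ?_ hX.le)
      refine le_trans (le_of_eq ?_) (le_iSup (fun z : X => ((Order.height z : ℕ∞) : WithBot ℕ∞)) x)
      exact congrArg _ (Groth.Variety2.Dim.height_eq_of_isPreimmersion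
        (j ≫ CohB1.ProjSpace.toSpec n k) (CohB1.ProjSpace.toSpec n k) j rfl x))
  let D : Fin (r + 1) → (CohB1.ProjSpace n k).Opens := fun i =>
    Proj.basicOpen (CohB1.polyGrading n k) (h i)
  refine ⟨fun i => j ⁻¹ᵁ D i, fun i => ?_, ?_⟩
  · obtain ⟨d, hd, hdeg⟩ := h1 i
    have hA : IsAffineOpen (D i) := Proj.isAffineOpen_basicOpen _ (h i) hdeg hd
    have : IsAffine (D i).toScheme := hA
    have : IsImmersion (j ∣_ D i) := IsZariskiLocalAtTarget.restrict (P := @IsImmersion) ‹IsImmersion j› _
    have hc : IsClosed (Set.range (j ∣_ D i)) := by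
      have he : Set.range (j ∣_ D i) = Subtype.val ⁻¹' closure R := by
        ext ⟨x, hx⟩
        constructor
        · rintro ⟨z, hz⟩
          exact subset_closure ⟨_, (morphismRestrict_base_coe j (D i) z).symm.trans (congrArg Subtype.val hz)⟩
        · intro hxR
          obtain ⟨z, rfl⟩ : x ∈ R := not_not.1 fun hc => hx (h2 i x ⟨hxR, hc⟩)
          exact ⟨⟨z, hx⟩, Subtype.ext (morphismRestrict_base_coe j (D i) _)⟩
      rw [he]
      exact isClosed_closure.preimage continuous_subtype_val
    have : IsClosedImmersion (j ∣_ D i) := IsClosedImmersion.of_isPreimmersion _ hc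
    exact isAffine_of_isAffineHom (j ∣_ D i)
  · refine top_le_iff.1 fun x _ => TopologicalSpace.Opens.mem_iSup.2 ?_
    obtain ⟨i, hi⟩ := h3 (j x) (subset_closure ⟨x, rfl⟩) fun hc => hc.2 ⟨x, rfl⟩
    exact ⟨i, hi⟩

end Groth.Agent.S10940
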