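import Groth.Statements.S10941
import Groth.Agent.Flatmor4.FlatDim

set_option autoImplicit false
universe u
open CategoryTheory CategoryTheory.Limits AlgebraicGeometry
open FlatMor

namespace Groth.Agent.S10941

/-- Let k be a field, X, Y and Y' schemes of finite type over k with Y irreducible, f : X → Y a flat
k-morphism and n a natural number such that every irreducible component of X has dimension dim Y +
n. Let g : Y' → Y be a k-morphism and f' : X ×_Y Y' → Y' the base change of f. Then for every
irreducible closed subset V of Y', every irreducible component of the preimage of V under f' (with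
the subspace topology) has dimension dim V + n. In particular (Y' = Y) every irreducible component
of f⁻¹(V) has dimension dim V + n for every irreducible closed V ⊆ Y. -/
theorem result (k : Type u) [Field k]
    {X Y Y' : Scheme.{u}} (qX : X ⟶ Spec (CommRingCat.of k)) (qY : Y ⟶ Spec (CommRingCat.of k))
    (qY' : Y' ⟶ Spec (CommRingCat.of k))
    [LocallyOfFiniteType qX] [QuasiCompact qX] [LocallyOfFiniteType qY] [QuasiCompact qY]
    [LocallyOfFiniteType qY'] [QuasiCompact qY']
    [IrreducibleSpace ↥Y] (f : X ⟶ Y) (hf : f ≫ qY = qX) [Flat f] (n : ℕ)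
    (hX : ∀ Z : Set ↥X, Z ∈ irreducibleComponents ↥X →
      topologicalKrullDim ↥Z = topologicalKrullDim ↥Y + (n : WithBot ℕ∞))
    (g : Y' ⟶ Y) (hg : g ≫ qY = qY')
    (V : Set ↥Y') (hV : IsClosed V) (hVirr : IsIrreducible V)
    (W : Set ↥((pullback.snd f g).base ⁻¹' V))
    (hW : W ∈ irreducibleComponents ↥((pullback.snd f g).base ⁻¹' V)) :
    topologicalKrullDim ↥W = topologicalKrullDim ↥V + (n : WithBot ℕ∞) := by
  haveI : LocallyOfFiniteType (f ≫ qY) := hf ▸ inferInstance
  haveI : LocallyOfFiniteType f := locallyOfFiniteType_of_comp f qY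
  haveI : IsLocallyNoetherian Y := LocallyOfFiniteType.isLocallyNoetherian qY
  haveI : IsLocallyNoetherian Y' := LocallyOfFiniteType.isLocallyNoetherian qY'
  haveI : LocallyOfFinitePresentation f := inferInstance
  haveI : LocallyOfFinitePresentation (pullback.snd f g) := inferInstance
  have hfib : ∀ z : X, IsMax (f.asFiber z) → Order.height (f.asFiber z) = n := by
    rw [← Groth.Flatmor4.forall_isMax_asFiber_iff f (fun e => e = (n : ℕ∞))]
    intro η hη
    obtain ⟨t, -, ht⟩ := Groth.FibreDim.exists_relTrdeg_eq_height f η
    obtain ⟨d, -, hd⟩ := Groth.Variety2.Dim.exists_trdegAt_eq_height qY (genericPoint Y)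
    have h := (Groth.Flatmor4.forall_component_dim_iff (fun e => e = _)).mp hX η hη
    rw [Groth.Flatmor4.height_eq_height_add qY f η, ht,
      Groth.FibreDim.eq_genericPoint_of_isMax (Groth.Flatmor4.isMax_image f hη),
      Groth.Flatmor4.dim_eq_height_genericPoint, hd] at h
    rw [ht]
    norm_cast at h ⊢
    omega
  refine Groth.Flatmor4.dim_component_preimage (pullback.snd f g) qY' (fun x => ?_) V hV hVirr W hW
  rw [Groth.FibreDim.fibreDimAt_baseChange f g (pullback.snd f g) (pullback.fst f g)
    (IsPullback.of_hasPullback f g)]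
  exact Groth.Flatmor4.fibreDimAt_eq_of_forall f hfib _

end Groth.Agent.S10941
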