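import Groth.Statements.S10944
import Mathlib.AlgebraicGeometry.Morphisms.UniversallyOpen

set_option autoImplicit false
universe u
open CategoryTheory AlgebraicGeometry
open FlatMor

namespace Groth.Agent.S10944

/-- Let f : X → Y be a flat morphism of Noetherian schemes and Y' an irreducible component of Y. Then
f⁻¹(Y') is the union of the irreducible components Z of X with f(Z) ⊆ Y'. -/
theorem result {X Y : Scheme.{u}}
    [IsNoetherian X] [IsNoetherian Y] (f : X ⟶ Y) [Flat f]
    (Y' : Set ↥Y) (hY' : Y' ∈ irreducibleComponents ↥Y) :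
    f.base ⁻¹' Y' = ⋃₀ {Z : Set ↥X | Z ∈ irreducibleComponents ↥X ∧ f.base '' Z ⊆ Y'} := by
  obtain ⟨η, hη⟩ := QuasiSober.sober hY'.1 (isClosed_of_mem_irreducibleComponents Y' hY')
  ext x
  constructor
  · intro hx
    obtain ⟨x', hx', hfx'⟩ := (Flat.generalizingMap f) (hη.specializes hx)
    let Z := irreducibleComponent x'
    obtain ⟨ζ, hζ⟩ := QuasiSober.sober (S := Z) isIrreducible_irreducibleComponent isClosed_irreducibleComponent
    have h1 : ζ ⤳ x' := hζ.specializes mem_irreducibleComponent
    refine ⟨Z, ⟨irreducibleComponent_mem_irreducibleComponents x', ?_⟩,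
      hx'.mem_closed isClosed_irreducibleComponent mem_irreducibleComponent⟩
    have h2 : f.base ζ ⤳ η := hfx' ▸ h1.map f.continuous
    have h3 : f.base ζ ∈ Y' := by
      have hsub : Y' ⊆ closure {f.base ζ} := by
        rw [← hη.def]
        exact closure_minimal (Set.singleton_subset_iff.mpr h2.mem_closure) isClosed_closure
      have h4 := hY'.2 isIrreducible_singleton.closure hsub
      exact h4 (subset_closure rfl)
    rintro _ ⟨z, hz, rfl⟩
    exact ((hζ.specializes hz).map f.continuous).mem_closed (isClosed_of_mem_irreducibleComponents Y' hY') h3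
  · rintro ⟨Z, ⟨-, hZ⟩, hxZ⟩
    exact hZ ⟨x, hxZ, rfl⟩

end Groth.Agent.S10944
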