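import Groth.Statements.S10945
-- import your own Groth.Agent.* helpers here

set_option autoImplicit false
universe u
open CategoryTheory AlgebraicGeometry Opposite
open Coherent

namespace Groth.Agent.S10945

/-- Let X be a scheme and 0 → F' → F → F'' → 0 a short exact sequence of O_X-modules whose map on global
sections Γ(X, F) → Γ(X, F'') is surjective. If F' and F'' are generated by global sections (each is
a quotient of a free O_X-module), then F is generated by global sections. -/
theorem result (X : Scheme.{u})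
    (S : ShortComplex X.Modules) (hS : S.ShortExact)
    (hsurj : Function.Surjective (S.g.val.app (op ⊤)).hom)
    (h1 : Curv2.IsGloballyGenerated S.X₁) (h3 : Curv2.IsGloballyGenerated S.X₃) :
    Curv2.IsGloballyGenerated S.X₂ := by
  obtain ⟨ι₁, p₁, hp₁⟩ := h1
  obtain ⟨ι₃, p₃, hp₃⟩ := h3
  let sec : ∀ {M : X.Modules}, M.val.obj (op ⊤) → SheafOfModules.sections (R := X.ringCatSheaf) M :=
    fun {M} s => PresheafOfModules.sectionsMk (M := M.val) (fun U => M.val.map (homOfLE le_top).op s)
      (fun U V f => by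
        rw [← PresheafOfModules.map_comp_apply]
        rfl)
  let t : ι₃ → S.X₂.val.obj (op ⊤) := fun i =>
    (hsurj ((SheafOfModules.freeHomEquiv S.X₃ p₃ i).val (op ⊤))).choose
  have ht : ∀ i, SheafOfModules.sectionsMap S.g (sec (t i)) =
      SheafOfModules.freeHomEquiv S.X₃ p₃ i := by
    intro i
    apply Subtype.ext
    funext U
    change S.g.val.app U (S.X₂.val.map (homOfLE (le_top (a := U.unop))).op (t i)) = _
    rw [PresheafOfModules.naturality_apply]
    erw [(hsurj ((SheafOfModules.freeHomEquiv S.X₃ p₃ i).val (op ⊤))).choose_spec]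
    exact PresheafOfModules.sections_property _ _
  let q : (SheafOfModules.free ι₃ : X.Modules) ⟶ S.X₂ :=
    (SheafOfModules.freeHomEquiv S.X₂).symm (fun i => sec (t i))
  have hq : q ≫ S.g = p₃ := by
    apply (SheafOfModules.freeHomEquiv S.X₃).injective
    funext i
    erw [SheafOfModules.freeHomEquiv_comp_apply, Equiv.apply_symm_apply]
    exact ht i
  let F₁ : X.Modules := SheafOfModules.free ι₁
  let F₃ : X.Modules := SheafOfModules.free ι₃
  let a : F₁ ⟶ S.X₁ := p₁
  let b : F₃ ⟶ S.X₂ := q
  have ha : Epi a := hp₁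
  have hb : Epi (b ≫ S.g) := by
    change Epi (q ≫ S.g)
    rw [hq]; exact hp₃
  have : Epi (Limits.coprod.desc (a ≫ S.f) b) := by
    refine Preadditive.epi_of_cancel_zero _ (fun {T} h hh => ?_)
    have h₁ : S.f ≫ h = 0 := by
      rw [← cancel_epi a]
      have := Limits.coprod.inl ≫= hh
      rwa [Limits.coprod.inl_desc_assoc, Limits.comp_zero, Category.assoc] at this
    have := hS.epi_g
    obtain ⟨h', rfl⟩ : ∃ h', S.g ≫ h' = h :=
      ⟨hS.exact.desc h h₁, hS.exact.g_desc h h₁⟩
    have h₃ : (b ≫ S.g) ≫ h' = 0 := by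
      have := Limits.coprod.inr ≫= hh
      rwa [Limits.coprod.inr_desc_assoc, Limits.comp_zero, ← Category.assoc] at this
    rw [show h' = 0 by rw [← cancel_epi (b ≫ S.g)]; simpa using h₃]
    simp
  exact ⟨ι₁ ⊕ ι₃, (show (SheafOfModules.free (ι₁ ⊕ ι₃) : X.Modules) ⟶ F₁ ⨿ F₃ from
      (SheafOfModules.freeSumIso ι₁ ι₃).inv) ≫ Limits.coprod.desc (a ≫ S.f) b,
    @epi_comp _ _ _ _ _ _ (inferInstanceAs (Epi (SheafOfModules.freeSumIso ι₁ ι₃).inv)) _ this⟩

end Groth.Agent.S10945
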