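import Groth.Statements.S10946
import Groth.Agent.CohBase.CechScheme
import Groth.Agent.CohTwo.CohSub

set_option autoImplicit false
universe u
open CategoryTheory AlgebraicGeometry
open Coherent

namespace Groth.Agent.S10946

/-- Let X be a Noetherian separated scheme and n a natural number such that H^i(X, F) = 0 for all
coherent O_X-modules F and all i > n. Then H^i(X, G) = 0 for all quasi-coherent O_X-modules G and
all i > n. -/
theorem result (X : Scheme.{u}) [IsNoetherian X]
    [X.IsSeparated] (n : ℕ)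
    (h : ∀ F : X.Modules, Coh.IsCoh F → ∀ i : ℕ, n < i → Subsingleton (Coh.HH X F i))
    (G : X.Modules) (hG : Coh.IsQCoh G) (i : ℕ) (hi : n < i) :
    Subsingleton (Coh.HH X G i) := by
  classical
  haveI := hG
  obtain ⟨p, rfl⟩ : ∃ p, i = p + 1 := ⟨i - 1, by omega⟩
  obtain ⟨t, ht⟩ := isCompact_univ.elim_finite_subcover
    (fun V : X.affineOpens => ((V : X.Opens) : Set X)) (fun V => V.1.2) (fun x _ => by
      obtain ⟨_, ⟨V, hV, rfl⟩, hxV, -⟩ :=
        X.isBasis_affineOpens.exists_subset_of_mem_open (Set.mem_univ x) isOpen_univ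
      exact Set.mem_iUnion.2 ⟨⟨V, hV⟩, hxV⟩)
  let U : {V // V ∈ t} → X.Opens := fun V => (V.1 : X.Opens)
  have hU : ∀ {n : ℕ} (x : Fin (n + 1) → {V // V ∈ t}),
      IsAffineOpen (Groth.CohBase.inter (X := X.toTopCat) U x) := fun {n} x =>
    IsAffineOpen.iInf fun a => (x a).1.2
  have hmem : ∀ x : X, ∃ V, x ∈ U V := fun x => by
    obtain ⟨V, hV, hxV⟩ := Set.mem_iUnion₂.1 (ht (Set.mem_univ x))
    exact ⟨⟨V, hV⟩, hxV⟩
  have hcov : ⨆ V, U V = ⊤ := eq_top_iff.2 fun x _ => TopologicalSpace.Opens.mem_iSup.2 (hmem x)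
  suffices hex : Groth.CohBase.CechExact (X := X.toTopCat) U G.presheaf p by
    obtain ⟨e⟩ := Groth.CohBase.nonempty_cech_equiv_H U hcov hU G (p + 1)
    haveI := AddCommGrpCat.subsingleton_of_isZero
      ((Groth.CohBase.isZero_homology_iff (X := X.toTopCat) U G.presheaf p).2 hex)
    exact e.toEquiv.symm.subsingleton
  intro s hs
  obtain ⟨F, j, hj, hF, hmemF⟩ := Groth.CohTwo.exists_coh_sub G
    (fun x : Fin (p + 2) → {V // V ∈ t} => Groth.CohBase.inter (X := X.toTopCat) U x)
    (fun x => hU x) (fun y => by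
      obtain ⟨V, hV⟩ := hmem y
      refine ⟨fun _ => V, ?_⟩
      change y ∈ ⨅ _ : Fin (p + 2), U V
      rwa [iInf_const])
    (fun x => {s x})
  choose c hc using fun x => hmemF x (s x) (Finset.mem_singleton_self _)
  haveI := hF.1
  haveI := hj
  let φ : F.presheaf ⟶ G.presheaf := (Scheme.Modules.toPresheaf X).map j
  have hφ : Groth.CohBase.mapCoch (U := U) φ (p + 1) c = s := funext hc
  have hc0 : Groth.CohBase.dCoch (X := X.toTopCat) U F.presheaf (p + 1) c = 0 := by
    funext x
    refine Groth.QCohMod.app_injective_of_mono j _ ?_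
    refine (congrFun (Groth.CohBase.mapCoch_d (U := U) φ c) x).trans ?_
    rw [hφ, hs]
    exact (map_zero _).symm
  obtain ⟨e⟩ := Groth.CohBase.nonempty_cech_equiv_H U hcov hU F (p + 1)
  haveI : Subsingleton (Sheaf.H (Groth.CohBase.abSheaf F) (p + 1)) := h F hF (p + 1) hi
  haveI := e.toEquiv.subsingleton
  obtain ⟨b, hb⟩ := (Groth.CohBase.isZero_homology_iff (X := X.toTopCat) U F.presheaf p).1
    (AddCommGrpCat.isZero_of_subsingleton _) c hc0
  exact ⟨Groth.CohBase.mapCoch (U := U) φ p b,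
    ((Groth.CohBase.mapCoch_d (U := U) φ b).symm.trans (congrArg _ hb)).trans hφ⟩

end Groth.Agent.S10946
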