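import Groth.Statements.S10947
import Groth.Agent.CohTwo.ImmResolution
import Groth.Agent.Variety2.Reg.Cohom
import Groth.Agent.S0010
import Mathlib.AlgebraicGeometry.ProjectiveSpectrum.Proper

set_option autoImplicit false
universe u
open CategoryTheory AlgebraicGeometry
open Coherent

namespace Groth.Agent.S10947

/-- Let k be a field and X a quasi-projective scheme over k, given with an immersion ι : X → P^N_k into
a projective space. If n is a natural number with H^i(X, E) = 0 for all finite locally free
O_X-modules E and all i > n, then H^i(X, F) = 0 for all coherent O_X-modules F (quasi-coherent of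
finite type) and all i > n. -/
theorem result
    (k : Type u) [Field k] (N : ℕ) {X : Scheme.{u}} (ι : X ⟶ CohB1.ProjSpace N k) [IsImmersion ι]
    (n : ℕ) (h : ∀ E : X.Modules, FlatMod.IsFinLocFree E → ∀ i : ℕ, n < i → Subsingleton (Coh.HH X E i))
    (F : X.Modules) (hF : Coh.IsCoh F) (i : ℕ) (hi : n < i) :
    Subsingleton (Coh.HH X F i) := by
  classical
  letI : X.Over (Spec (CommRingCat.of k)) := ⟨ι ≫ CohB1.ProjSpace.toSpec N k⟩
  haveI : IsNoetherian (CohB1.ProjSpace N k) := Groth.Agent.S2357.result (CohB1.polyGrading N k)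
  haveI : TopologicalSpace.NoetherianSpace X := ι.isEmbedding.isInducing.noetherianSpace
  haveI : IsLocallyNoetherian X := LocallyOfFiniteType.isLocallyNoetherian ι
  haveI : X.IsSeparated := ⟨by
    have h1 : IsSeparated (Proj.toSpecZero (CohB1.polyGrading N k)) :=
      Proj.isSeparated (CohB1.polyGrading N k)
    have h2 : IsSeparated ι := inferInstance
    haveI : IsSeparated (ι ≫ Proj.toSpecZero (CohB1.polyGrading N k)) :=
      MorphismProperty.comp_mem @IsSeparated ι (Proj.toSpecZero (CohB1.polyGrading N k)) h2 h1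
    rw [← Limits.terminal.comp_from (ι ≫ Proj.toSpecZero (CohB1.polyGrading N k))]
    infer_instance⟩
  obtain ⟨t, ht⟩ := isCompact_univ.elim_finite_subcover
    (fun V : X.affineOpens => ((V : X.Opens) : Set X)) (fun V => (V : X.Opens).2) (fun x _ => by
      obtain ⟨_, ⟨V, hV, rfl⟩, hxV, -⟩ :=
        X.isBasis_affineOpens.exists_subset_of_mem_open (Set.mem_univ x) isOpen_univ
      exact Set.mem_iUnion.2 ⟨⟨V, hV⟩, hxV⟩)
  let e := t.equivFin
  have top : ∀ (G : X.Modules), Coh.IsCoh G → ∀ j, t.card ≤ j → Subsingleton (Coh.HH X G j) := by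
    intro G hG j hj
    haveI := hG.1
    refine Groth.Agent.S0010.result X t.card (fun m => ((e.symm m).1 : X.Opens))
      (fun m => (e.symm m).1.2) (eq_top_iff.2 fun x _ => ?_) (fun V W hV hW => hV.inf hW) G j hj
    obtain ⟨V, hV, hxV⟩ := Set.mem_iUnion₂.1 (ht (Set.mem_univ x))
    exact TopologicalSpace.Opens.mem_iSup.2 ⟨e ⟨V, hV⟩, by simpa using hxV⟩
  suffices key : ∀ (m : ℕ) (G : X.Modules), Coh.IsCoh G → ∀ j, n < j → t.card ≤ j + m →
      Subsingleton (Coh.HH X G j) from key t.card F hF i hi (by omega)
  intro m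
  induction m with
  | zero => exact fun G hG j _ hj => top G hG j hj
  | succ m ih =>
    intro G hG j hjn hjm
    obtain ⟨E, φ, hE, hφ⟩ := Groth.CohTwo.ImmRes.exists_finLocFree_epi ι G hG
    haveI := hφ
    haveI := hG.1
    have hK : Coh.IsCoh (Limits.kernel φ) :=
      Groth.QCohMod.isCoh_kernel φ (Groth.KTheory.LocFree.isCoh hE)
    let S := ShortComplex.mk (Limits.kernel.ι φ) φ (Limits.kernel.condition φ)
    have hS : S.ShortExact :=
      { exact := ShortComplex.exact_of_f_is_kernel _ (Limits.kernelIsKernel φ)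
        mono_f := inferInstanceAs (Mono (Limits.kernel.ι φ))
        epi_g := hφ }
    exact Groth.Variety2.Reg.subsingleton_right k (S := S) hS (h E hE j hjn)
      (ih _ hK (j + 1) (by omega) (by omega))

end Groth.Agent.S10947
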