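import Groth.Statements.S10948
import Groth.Agent.CohDev.FiniteGeneric
-- import your own Groth.Agent.* helpers here

set_option autoImplicit false
universe u
open CategoryTheory AlgebraicGeometry
open Coherent

open CategoryTheory.Limits
namespace Groth.Agent.S10948

/-- Let f : X → Y be a finite surjective morphism of integral Noetherian schemes. Then there are an
integer r ≥ 1, a coherent O_X-module M (quasi-coherent of finite type) and a morphism of O_Y-modules
α : O_Y^r → f_*M (O_Y^r the free O_Y-module on r generators) such that the map induced by α on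
stalks of the underlying abelian sheaves at the generic point of Y is an isomorphism. -/
theorem result
    {X Y : Scheme.{u}} [IsIntegral X] [IsNoetherian X] [IsIntegral Y] [IsNoetherian Y]
    (f : X ⟶ Y) [IsFinite f] [Surjective f] :
    ∃ (r : ℕ) (M : X.Modules) (α : (SheafOfModules.free (ULift.{u} (Fin r)) : Y.Modules) ⟶
        (Scheme.Modules.pushforward f).obj M),
      0 < r ∧ Coh.IsCoh M ∧
      IsIso ((TopCat.Presheaf.stalkFunctor AddCommGrpCat.{u} (genericPoint ↥Y)).map
        ((SheafOfModules.toSheaf Y.ringCatSheaf).map α).hom) := by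
  let ξ := genericPoint ↥Y
  letI : Field (Y.presheaf.stalk ξ) := (inferInstance : Field Y.functionField)
  have hO : Coh.IsCoh (Coh.structureModule X) := Groth.QCohMod.isCoh_unit
  let P := (Scheme.Modules.pushforward f).obj (Coh.structureModule X)
  have hP : Coh.IsCoh P := Groth.Cycles.isCoh_push_of_isFinite f hO
  haveI := hP.1
  haveI := Groth.QCohMod.finite_stalk P hP.2 ξ
  haveI : Nontrivial ↑(P.presheaf.stalk ξ) := by
    obtain ⟨η, hη⟩ := f.surjective ξ
    rw [← hη]
    exact Groth.CohDev.nontrivial_stalk_push_unit f η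
  let r := Module.finrank (Y.presheaf.stalk ξ) ↑(P.presheaf.stalk ξ)
  let b := Module.finBasis (Y.presheaf.stalk ξ) ↑(P.presheaf.stalk ξ)
  choose V hV s hs using fun i : Fin r => Groth.CohTwo.stalk_exists_germ P ξ (b i)
  obtain ⟨V₀, hξV₀, hV₀⟩ : ∃ V₀ : Y.Opens, ξ ∈ V₀ ∧ ∀ i, V₀ ≤ V i :=
    ⟨⟨⋂ i, (V i : Set Y), isOpen_iInter_of_finite fun i => (V i).2⟩, Set.mem_iInter.2 hV,
      fun i => Set.iInter_subset (fun j => (V j : Set Y)) i⟩
  let s' : Fin r → Γ(X, f ⁻¹ᵁ V₀) := fun i => Groth.QCohMod.res P (hV₀ i) (s i)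
  obtain ⟨M, u, m, hM, hu, hm⟩ := Groth.CohDev.exists_coh_extend (f ⁻¹ᵁ V₀) s'
  let Q := (Scheme.Modules.pushforward f).obj M
  let up : P ⟶ Q := (Scheme.Modules.pushforward f).map u
  have hup : Function.Bijective (Groth.CohTwo.stalkLin up ξ) :=
    Groth.CohDev.bijective_stalkLin_of_bijective_app up ξ hξV₀ fun U hU => hu (f ⁻¹ᵁ U) (fun x hx => hU hx)
  let bQ := b.map (LinearEquiv.ofBijective (Groth.CohTwo.stalkLin up ξ) hup)
  let mQ : Fin r → Γ(Q, (⊤ : Y.Opens)) := fun i => (show Γ(M, f ⁻¹ᵁ ⊤) from m i)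
  have hbQ : ∀ i, Q.presheaf.germ ⊤ ξ trivial (mQ i) = bQ i := by
    intro i
    rw [Module.Basis.map_apply, LinearEquiv.ofBijective_apply, ← hs i,
      ← Groth.CohTwo.stalk_germ_res P ξ (hV₀ i) hξV₀, Groth.CohTwo.stalkLin_germ,
      ← Groth.CohTwo.stalk_germ_res Q ξ (le_top : V₀ ≤ ⊤) hξV₀]
    congr 1
    exact hm i
  let α' : Groth.CohTwo.powMod (Coh.structureModule Y) r ⟶ Q :=
    Sigma.desc fun i => Groth.QCohMod.secHom Q (mQ i)
  let one₁ : ↑((Coh.structureModule Y).presheaf.stalk ξ) :=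
    (Coh.structureModule Y).presheaf.germ ⊤ ξ trivial (show Γ(Coh.structureModule Y, ⊤) from (1 : Γ(Y, ⊤)))
  let E1 := LinearEquiv.ofBijective (LinearMap.toSpanSingleton (Y.presheaf.stalk ξ) _ one₁)
    (Groth.CohTwo.bijective_toSpanSingleton_one ξ)
  have key : (Groth.CohTwo.stalkLin α' ξ : _ → _) =
      bQ.equivFun.symm ∘ ((Groth.CohTwo.powStalk (Coh.structureModule Y) r ξ).trans
        (LinearEquiv.piCongrRight fun _ => E1.symm)) := by
    funext t
    obtain ⟨v, rfl⟩ := ((Groth.CohTwo.powStalk (Coh.structureModule Y) r ξ).trans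
      (LinearEquiv.piCongrRight fun _ => E1.symm)).symm.surjective t
    rw [Function.comp_apply, LinearEquiv.apply_symm_apply, Module.Basis.equivFun_symm_apply]
    show Groth.CohTwo.stalkLin α' ξ (∑ i, Groth.CohTwo.stalkLin
      (Sigma.ι (fun _ : Fin r => Coh.structureModule Y) i) ξ (E1 (v i))) = _
    rw [map_sum]
    refine Finset.sum_congr rfl fun i _ => ?_
    rw [← Groth.CohTwo.stalkLin_comp, Sigma.ι_desc, LinearEquiv.ofBijective_apply,
      LinearMap.toSpanSingleton_apply, map_smul, ← hbQ]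
    congr 1
    refine (Groth.CohTwo.stalkLin_germ _ ξ _ _).trans (congrArg _ ?_)
    exact (Groth.QCohMod.secHom_app_one Q (mQ i) ⊤).trans (Groth.QCohMod.res_self _ _)
  let w : (SheafOfModules.free (ULift.{u} (Fin r)) : Y.Modules) ≅
      Groth.CohTwo.powMod (Coh.structureModule Y) r :=
    Sigma.whiskerEquiv (f := fun _ : ULift.{u} (Fin r) => Coh.structureModule Y) (g := fun _ : Fin r => Coh.structureModule Y) Equiv.ulift fun _ => Iso.refl _
  refine ⟨r, M, w.hom ≫ α', Module.finrank_pos, hM, ?_⟩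
  show IsIso ((Groth.QCohMod.stalk ξ).map (w.hom ≫ α'))
  haveI : IsIso ((Groth.QCohMod.stalk ξ).map α') := by
    refine (ConcreteCategory.isIso_iff_bijective _).2 ?_
    show Function.Bijective (Groth.CohTwo.stalkLin α' ξ)
    rw [key]
    exact bQ.equivFun.symm.bijective.comp (LinearEquiv.bijective _)
  simp only [Functor.map_comp]
  infer_instance

end Groth.Agent.S10948
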