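import Groth.Statements.S10949
import Groth.Agent.CohDev.FiniteGeneric
import Groth.Agent.S9523
-- import your own Groth.Agent.* helpers here

set_option autoImplicit false
universe u
open CategoryTheory CategoryTheory.Limits AlgebraicGeometry
open Coherent

namespace Groth.Agent.S10949

/-- Let f : X → Y be a finite surjective morphism of integral Noetherian schemes and F a coherent
O_Y-module (quasi-coherent of finite type). Then there are an integer r ≥ 1, a coherent O_X-module G
and a morphism of O_Y-modules β : f_*G → F^r (the coproduct of r copies of F) such that the map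
induced by β on stalks of the underlying abelian sheaves at the generic point of Y is an
isomorphism. -/
theorem result
    {X Y : Scheme.{u}} [IsIntegral X] [IsNoetherian X] [IsIntegral Y] [IsNoetherian Y]
    (f : X ⟶ Y) [IsFinite f] [Surjective f] (F : Y.Modules) (hF : Coh.IsCoh F) :
    ∃ (r : ℕ) (G : X.Modules) (β : (Scheme.Modules.pushforward f).obj G ⟶ ∐ fun _ : ULift.{u} (Fin r) => F),
      0 < r ∧ Coh.IsCoh G ∧
      IsIso ((TopCat.Presheaf.stalkFunctor AddCommGrpCat.{u} (genericPoint ↥Y)).map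
        ((SheafOfModules.toSheaf Y.ringCatSheaf).map β).hom) := by
  let ξ := genericPoint ↥Y
  letI : Field (Y.presheaf.stalk ξ) := (inferInstance : Field Y.functionField)
  have hO : Coh.IsCoh (Coh.structureModule X) := Groth.QCohMod.isCoh_unit
  let P := (Scheme.Modules.pushforward f).obj (Coh.structureModule X)
  have hP : Coh.IsCoh P := Groth.Cycles.isCoh_push_of_isFinite f hO
  haveI := hP.1
  haveI := Groth.QCohMod.finite_stalk P hP.2 ξ
  haveI : Nontrivial ↑(P.presheaf.stalk ξ) := by
    obtain ⟨η, hη⟩ := f.surjective ξ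
    rw [← hη]
    exact Groth.CohDev.nontrivial_stalk_push_unit f η
  haveI := hF.1
  haveI := Groth.QCohMod.finite_stalk F hF.2 ξ
  let m := Module.finrank (Y.presheaf.stalk ξ) ↑(P.presheaf.stalk ξ)
  let d := Module.finrank (Y.presheaf.stalk ξ) ↑(F.presheaf.stalk ξ)
  let e0 : (Fin d → ↑(P.presheaf.stalk ξ)) ≃ₗ[Y.presheaf.stalk ξ] (Fin m → ↑(F.presheaf.stalk ξ)) :=
    LinearEquiv.ofFinrankEq _ _ (by
      rw [Module.finrank_pi_fintype, Module.finrank_pi_fintype]
      simp [m, d, mul_comm])
  let ψ := ((Groth.CohTwo.powStalk P d ξ).trans e0).trans (Groth.CohTwo.powStalk F m ξ).symm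
  obtain ⟨J, γ, hξJ, -, hbij⟩ := Groth.CohTwo.exists_graft (Groth.CohTwo.isCoh_powMod hP d)
    (Groth.CohTwo.isCoh_powMod hF m) ξ ψ.toLinearMap ψ.bijective
  have hOd := Groth.CohTwo.isCoh_powMod hO d
  haveI := hOd.1
  obtain ⟨e, -⟩ := Groth.Agent.S9523.result f (Groth.CohTwo.powMod (Coh.structureModule X) d) hOd.1 J
  let w : Groth.CohTwo.powMod F m ≅ ∐ fun _ : ULift.{u} (Fin m) => F :=
    Sigma.whiskerEquiv (f := fun _ : Fin m => F) (g := fun _ : ULift.{u} (Fin m) => F) Equiv.ulift.symm fun _ => Iso.refl F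
  let δ := (Dual3.idealMul J).map (Groth.CohDev.mapPowMod (Scheme.Modules.pushforward f)
    (Coh.structureModule X) d).hom
  refine ⟨m, (Dual3.idealMul (J.comap f)).obj (Groth.CohTwo.powMod (Coh.structureModule X) d),
    e.inv ≫ δ ≫ γ ≫ w.hom, Module.finrank_pos, Groth.CohTwo.isCoh_idealMul _ _ hOd, ?_⟩
  show IsIso ((Groth.QCohMod.stalk ξ).map (e.inv ≫ δ ≫ γ ≫ w.hom))
  haveI : IsIso ((Groth.QCohMod.stalk ξ).map γ) := (ConcreteCategory.isIso_iff_bijective _).2 hbij
  simp only [Functor.map_comp]
  infer_instance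

end Groth.Agent.S10949
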