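import Groth.Statements.S10954
import Groth.Agent.CohBase.SerreCriterion
import Groth.Agent.LocCohBase.HomExtend
import Groth.Agent.QCohMod.FiniteType
-- import your own Groth.Agent.* helpers here

set_option autoImplicit false
universe u
open Coherent

namespace Groth.Agent.S10954

open CategoryTheory CategoryTheory.Limits AlgebraicGeometry TopologicalSpace Opposite Groth.CohBase

/-- Separating a closed point from a closed subset, given a surjection on global sections. -/
theorem exists_function_of_surjective {Y : Scheme.{u}} (Z : Closeds Y) (x : Y)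
    (hx : IsClosed ({x} : Set Y)) (hxZ : x ∉ Z)
    (h : Function.Surjective ((unitPush (Scheme.IdealSheafData.vanishingIdeal
      (Z ⊔ ⟨{x}, hx⟩)).subschemeι).app ⊤)) :
    ∃ f : Γ(Y, ⊤), x ∈ Y.basicOpen f ∧ Disjoint (Y.basicOpen f : Set Y) Z := by
  set Z' : Closeds Y := Z ⊔ ⟨{x}, hx⟩
  set I := Scheme.IdealSheafData.vanishingIdeal Z'
  set T := I.subscheme
  set i := I.subschemeι
  have hrange : Set.range i = (Z' : Set Y) := range_reduced Z'
  let A : T.Opens := i ⁻¹ᵁ ⟨(Z : Set Y)ᶜ, Z.isClosed.isOpen_compl⟩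
  let B : T.Opens := i ⁻¹ᵁ ⟨{x}ᶜ, hx.isOpen_compl⟩
  have hdisj : A ⊓ B = ⊥ := by
    ext t
    simp only [Opens.coe_inf, Set.mem_inter_iff, Opens.coe_bot, Set.mem_empty_iff_false,
      iff_false, not_and]
    intro hA hB
    have : i t ∈ (Z' : Set Y) := hrange ▸ Set.mem_range_self t
    rcases this with h' | h'
    · exact hA h'
    · exact hB h'
  have hcov : (⊤ : T.Opens) ≤ A ⊔ B := by
    intro t _
    by_cases h' : i t ∈ (Z : Set Y)
    · exact Or.inr fun h'' => hxZ (h'' ▸ h')
    · exact Or.inl h'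
  obtain ⟨e, heA, heB⟩ := QCohMod.exists_glue₂ (Coh.structureModule T) (le_top : A ≤ ⊤)
    (le_top : B ≤ ⊤) hcov (1 : Γ(T, A)) (0 : Γ(T, B))
    ((QCohMod.subsingleton_bot _ hdisj).elim _ _)
  obtain ⟨f, hf⟩ := h e
  have hf' : i.app ⊤ f = e := hf
  have hpre : i ⁻¹ᵁ Y.basicOpen f = T.basicOpen (show Γ(T, ⊤) from e) := by
    rw [← hf']
    exact Scheme.preimage_basicOpen i f
  refine ⟨f, ?_, Set.disjoint_left.mpr fun y hy hyZ => ?_⟩
  · obtain ⟨t, ht⟩ : x ∈ Set.range i := hrange ▸ Or.inr rfl
    have htA : t ∈ A := fun h' => hxZ (by rwa [ht] at h')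
    have : t ∈ T.basicOpen (show Γ(T, ⊤) from e) ⊓ A := by
      rw [inf_comm, ← T.basicOpen_res (show Γ(T, ⊤) from e) (homOfLE (le_top : A ≤ ⊤)).op]
      rw [show T.presheaf.map (homOfLE (le_top : A ≤ ⊤)).op (show Γ(T, ⊤) from e) = 1 from heA,
        Scheme.basicOpen_of_isUnit _ isUnit_one]
      exact htA
    rw [← hpre] at this
    rw [← ht]
    exact this.1
  · obtain ⟨t, rfl⟩ : y ∈ Set.range i := hrange ▸ Or.inl hyZ
    have htB : t ∈ B := fun h' => hxZ (h' ▸ hyZ)
    have : t ∈ B ⊓ T.basicOpen (show Γ(T, ⊤) from e) := ⟨htB, hpre ▸ hy⟩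
    rw [← T.basicOpen_res (show Γ(T, ⊤) from e) (homOfLE (le_top : B ≤ ⊤)).op,
      show T.presheaf.map (homOfLE (le_top : B ≤ ⊤)).op (show Γ(T, ⊤) from e) = 0 from heB,
      Scheme.basicOpen_zero] at this
    exact this



open AlgebraicGeometry CategoryTheory CategoryTheory.Limits Opposite in
/-- Let X be a quasi-compact scheme such that, for every short exact sequence 0 → F' → F → F'' → 0 of
quasi-coherent O_X-modules whose first term F' admits a monomorphism into a finite direct sum of
copies of O_X, taking global sections gives a surjection F(X) → F''(X). Then X is affine. (The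
published statement is an equivalence of three conditions on a quasi-compact scheme; this row states
the implication from exactness of global sections on such sequences to affineness.) -/
theorem result (X : Scheme.{u}) [CompactSpace X]
    (h : ∀ (S : ShortComplex X.Modules) (n : ℕ)
      (j : S.X₁ ⟶ ∏ᶜ (fun _ : Fin n => Coh.structureModule X)),
      S.ShortExact → Mono j → Coh.IsQCoh S.X₁ → Coh.IsQCoh S.X₂ → Coh.IsQCoh S.X₃ →
        Function.Surjective (S.g.val.app (op ⊤)).hom) :
    IsAffine X := by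
  -- surjectivity for epimorphisms whose kernel embeds in a free module
  have key : ∀ {A B : X.Modules} (φ : A ⟶ B) [Epi φ] (n : ℕ)
      (j : kernel φ ⟶ ∏ᶜ (fun _ : Fin n => Coh.structureModule X)), Mono j →
      A.IsQuasicoherent → B.IsQuasicoherent → Function.Surjective (φ.app ⊤) := by
    intro A B φ _ n j hj hA hB
    haveI := hA
    haveI := hB
    have hK : Coh.IsQCoh (kernel φ) := (inferInstance : (kernel φ).IsQuasicoherent)
    let S : ShortComplex X.Modules := ShortComplex.mk (kernel.ι φ) φ (kernel.condition φ)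
    exact h S n j { exact := ShortComplex.exact_of_f_is_kernel _ (kernelIsKernel φ) } hj hK hA hB
  rcases isEmpty_or_nonempty X with he | he
  · exact isAffine_of_isEmpty
  have hsep : ∀ (x : X) (_ : IsClosed ({x} : Set X)), ∃ f : Γ(X, ⊤),
      x ∈ X.basicOpen f ∧ IsAffineOpen (X.basicOpen f) := by
    intro x hx
    obtain ⟨_, ⟨U, hU, rfl⟩, hxU, -⟩ :=
      X.isBasis_affineOpens.exists_subset_of_mem_open (Set.mem_univ x) isOpen_univ
    obtain ⟨f, hf, hd⟩ := exists_function_of_surjective ⟨(U : Set X)ᶜ, U.2.isClosed_compl⟩ x hx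
      (fun h' => h' hxU) (by
        set I := Scheme.IdealSheafData.vanishingIdeal
          ((⟨(U : Set X)ᶜ, U.2.isClosed_compl⟩ : Closeds X) ⊔ ⟨{x}, hx⟩)
        haveI := epi_unitPush_subschemeι I
        refine key (unitPush I.subschemeι) 1 (Pi.lift fun _ => kernel.ι _) ?_ inferInstance
          (QCohMod.isQCoh_pushforward _ _)
        haveI : Mono (Pi.lift (fun _ : Fin 1 => kernel.ι (unitPush I.subschemeι)) ≫
            Pi.π (fun _ : Fin 1 => Coh.structureModule X) 0) := by
          rw [Pi.lift_π]; infer_instance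
        exact mono_of_mono _ (Pi.π (fun _ : Fin 1 => Coh.structureModule X) 0))
    exact ⟨f, hf, isAffineOpen_basicOpen_of_disjoint hU f hd⟩
  choose f hxf haff using hsep
  let ι := {x : X // IsClosed ({x} : Set X)}
  obtain ⟨s, hs⟩ := isCompact_univ.elim_finite_subcover
    (fun i : ι => (X.basicOpen (f i.1 i.2) : Set X)) (fun i => (X.basicOpen _).2) (fun y _ => by
      obtain ⟨z, hz, hzc⟩ := isClosed_closure.exists_closed_singleton
        (S := closure ({y} : Set X)) ⟨y, subset_closure rfl⟩
      exact Set.mem_iUnion.mpr ⟨⟨z, hzc⟩, (specializes_iff_mem_closure.mpr hz).mem_open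
        (X.basicOpen (f z hzc)).2 (hxf z hzc)⟩)
  let e : Fin s.card ≃ s := s.equivFin.symm
  let g : Fin s.card → Γ(X, ⊤) := fun k => f (e k).1.1 (e k).1.2
  have hcov : ∀ y : X, ∃ k, y ∈ X.basicOpen (g k) := fun y => by
    obtain ⟨i, hi, hy⟩ := Set.mem_iUnion₂.mp (hs (Set.mem_univ y))
    exact ⟨e.symm ⟨i, hi⟩, by simp only [g, Equiv.apply_symm_apply]; exact hy⟩
  haveI : HasFiniteBiproducts X.Modules := HasFiniteBiproducts.of_hasFiniteProducts
  let P : X.Modules := ∏ᶜ fun _ : Fin s.card => Coh.structureModule X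
  haveI : P.IsQuasicoherent := by
    haveI : (⨁ fun _ : Fin s.card => Coh.structureModule X).IsQuasicoherent := by
      haveI := LocCohBase.HomExtend.isQCoh_freeMod (X := X) s.card
      exact (QCohMod.isQCoh_iff_of_iso (biproduct.isoCoproduct _).symm).mp inferInstance
    exact (QCohMod.isQCoh_iff_of_iso (biproduct.isoProduct _)).mp inferInstance
  let φ : P ⟶ Coh.structureModule X :=
    ∑ k, Pi.π (fun _ : Fin s.card => Coh.structureModule X) k ≫ mulHom (g k)
  let δ : Fin s.card → (Coh.structureModule X ⟶ P) := fun k =>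
    Pi.lift fun l => if k = l then 𝟙 _ else 0
  have hδ : ∀ k, δ k ≫ φ = mulHom (g k) := fun k => by
    simp only [φ, δ, Preadditive.comp_sum, ← Category.assoc, Pi.lift_π]
    rw [Finset.sum_eq_single k]
    · simp
    · intro l _ hl; simp [Ne.symm hl]
    · simp
  haveI : Epi φ := by
    haveI : Epi ((toAbF X).map φ) := by
      refine (CategoryTheory.Sheaf.isLocallySurjective_iff_epi' AddCommGrpCat.{u} _).mp ?_
      refine (TopCat.Presheaf.isLocallySurjective_iff ((toAbF X).map φ).hom).mpr ?_
      intro V t y hy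
      obtain ⟨k, hk⟩ := hcov y
      let W : X.Opens := V ⊓ X.basicOpen (g k)
      have hu : IsUnit (QCohMod.resFun X (le_top : W ≤ ⊤) (g k)) := by
        have := (X.toRingedSpace.isUnit_res_basicOpen (g k)).map
          (QCohMod.resFun X (inf_le_right : W ≤ X.basicOpen (g k)))
        exact QCohMod.resFun_resFun (X.basicOpen_le (g k)) (inf_le_right : W ≤ X.basicOpen (g k)) (g k) ▸ this
      obtain ⟨v, hv⟩ := hu
      let t' : Γ(X, W) := QCohMod.res (Coh.structureModule X) (inf_le_left : W ≤ V) t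
      refine ⟨W, inf_le_left, ⟨(δ k).app W (show Γ(Coh.structureModule X, W) from t' * (↑v⁻¹ : Γ(X, W))), ?_⟩, hy, hk⟩
      refine (congr(($(hδ k)).app W (show Γ(Coh.structureModule X, W) from t' * (↑v⁻¹ : Γ(X, W))))).trans ?_
      refine (mulHom_app (g k) W _).trans ?_
      rw [← hv]
      exact Units.inv_mul_cancel_right t' v
    haveI : (toAbF X).Faithful :=
      inferInstanceAs (SheafOfModules.toSheaf.{u} X.ringCatSheaf).Faithful
    exact (toAbF X).epi_of_epi_map (inferInstance : Epi ((toAbF X).map φ))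
  obtain ⟨a, ha⟩ := key φ s.card (kernel.ι φ) inferInstance inferInstance inferInstance (QCohMod.oneSec ⊤)
  refine isAffine_of_isAffineOpen_basicOpen (Set.range g) ?_ (by rintro _ ⟨k, rfl⟩; exact haff _ _)
  rw [Ideal.eq_top_iff_one]
  have hmem : (show Γ(X, ⊤) from φ.app ⊤ a) ∈ Ideal.span (Set.range g) := by
    have h' := QCohMod.app_sum Finset.univ
      (fun k => Pi.π (fun _ : Fin s.card => Coh.structureModule X) k ≫ mulHom (g k)) ⊤ a
    simp only [φ]
    rw [h']
    refine Ideal.sum_mem _ fun k _ => ?_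
    exact mulHom_app_top_mem (g k) (Ideal.span (Set.range g)) (Ideal.subset_span ⟨k, rfl⟩) _
  rw [ha] at hmem
  exact hmem

end Groth.Agent.S10954
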