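import Groth.Statements.S10956
import Mathlib.Tactic
import Mathlib.RingTheory.Kaehler.Basic

set_option autoImplicit false
universe u
open scoped TensorProduct
open CAlg

namespace Groth.Agent.S10956

/-- Let R be a commutative ring, A and B commutative R-algebras and T = A ⊗_R B, an A-algebra through
the left factor. There is a T-linear map r from Ω_{T/R} to T ⊗_A Ω_{A/R} sending d(a ⊗ b) to (1 ⊗ b)
⊗ da for all a in A and b in B, and together with the canonical map Ω_{T/R} → Ω_{T/A} it identifies
Ω_{T/R} with the product (T ⊗_A Ω_{A/R}) × Ω_{T/A}. (The published statement is the isomorphism of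
(Ω_{A/R} ⊗_R B) ⊕ (A ⊗_R Ω_{B/R}) with Ω_{T/R} matching the exterior differentials; it is stated
here through the canonical identifications T ⊗_A Ω_{A/R} = Ω_{A/R} ⊗_R B and Ω_{T/A} = A ⊗_R
Ω_{B/R}.) -/
theorem result (R A B : Type u) [CommRing R] [CommRing A] [CommRing B]
    [Algebra R A] [Algebra R B] :
    ∃ r : Ω[(A ⊗[R] B)⁄R] →ₗ[A ⊗[R] B] ((A ⊗[R] B) ⊗[A] Ω[A⁄R]),
      (∀ (a : A) (b : B), r (KaehlerDifferential.D R (A ⊗[R] B) (a ⊗ₜ[R] b)) =
          ((1 : A) ⊗ₜ[R] b) ⊗ₜ[A] KaehlerDifferential.D R A a) ∧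
        Function.Bijective (fun ω : Ω[(A ⊗[R] B)⁄R] =>
          (r ω, KaehlerDifferential.map R A (A ⊗[R] B) (A ⊗[R] B) ω)) := by
  classical
  let T := A ⊗[R] B
  let mkB : B →ₗ[R] Ω[A⁄R] →ₗ[R] (T ⊗[A] Ω[A⁄R]) :=
    ((TensorProduct.mk A T (Ω[A⁄R])).restrictScalars₁₂ R R) ∘ₗ (Algebra.TensorProduct.includeRight : B →ₐ[R] T).toLinearMap
  let L : T →ₗ[R] (T ⊗[A] Ω[A⁄R]) :=
    TensorProduct.lift ((mkB.flip).comp (KaehlerDifferential.D R A).toLinearMap)
  have hL : ∀ (a : A) (b : B), L (a ⊗ₜ b) = ((1 : A) ⊗ₜ[R] b) ⊗ₜ[A] KaehlerDifferential.D R A a :=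
    fun a b => rfl
  have leib : ∀ x y : T, L (x * y) = x • L y + y • L x := by
    intro x y
    induction x using TensorProduct.induction_on with
    | zero => simp
    | add x₁ x₂ h₁ h₂ => rw [add_mul, map_add, map_add, h₁, h₂, add_smul, smul_add]; abel
    | tmul a b =>
      induction y using TensorProduct.induction_on with
      | zero => simp
      | add y₁ y₂ h₁ h₂ => rw [mul_add, map_add, map_add, h₁, h₂, add_smul, smul_add]; abel
      | tmul a' b' =>
        rw [Algebra.TensorProduct.tmul_mul_tmul, hL, hL, hL, Derivation.leibniz, TensorProduct.tmul_add,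
          TensorProduct.tmul_smul, TensorProduct.tmul_smul, TensorProduct.smul_tmul',
          TensorProduct.smul_tmul', TensorProduct.smul_tmul', TensorProduct.smul_tmul']
        simp only [TensorProduct.smul_tmul', smul_eq_mul, mul_one, Algebra.TensorProduct.tmul_mul_tmul]
        have e1 : (a ⊗ₜ[R] b : A ⊗[R] B) * ((1 : A) ⊗ₜ[R] b') = a ⊗ₜ[R] (b * b') := by
          rw [Algebra.TensorProduct.tmul_mul_tmul, mul_one]
        have e2 : (a' ⊗ₜ[R] b' : A ⊗[R] B) * ((1 : A) ⊗ₜ[R] b) = a' ⊗ₜ[R] (b * b') := by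
          rw [Algebra.TensorProduct.tmul_mul_tmul, mul_one, mul_comm b' b]
        erw [e1, e2]
  let d : Derivation R T (T ⊗[A] Ω[A⁄R]) := Derivation.mk' L leib
  let r := d.liftKaehlerDifferential
  have hr : ∀ (a : A) (b : B), r (KaehlerDifferential.D R T (a ⊗ₜ b)) =
      ((1 : A) ⊗ₜ[R] b) ⊗ₜ[A] KaehlerDifferential.D R A a := fun a b => by
    rw [Derivation.liftKaehlerDifferential_comp_D]; exact hL a b
  refine ⟨r, hr, ?_⟩
  have hsec : ∀ z, r (KaehlerDifferential.mapBaseChange R A T z) = z := by
    intro z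
    induction z using TensorProduct.induction_on with
    | zero => simp
    | add u v hu hv => rw [map_add, map_add, hu, hv]
    | tmul t ω =>
      have hω : ω ∈ Submodule.span A (Set.range (KaehlerDifferential.D R A)) :=
        (KaehlerDifferential.span_range_derivation R A).symm ▸ Submodule.mem_top
      induction hω using Submodule.span_induction generalizing t with
      | mem ω hω =>
        obtain ⟨a, rfl⟩ := hω
        rw [KaehlerDifferential.mapBaseChange_tmul, map_smul, KaehlerDifferential.map_D,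
          Algebra.TensorProduct.algebraMap_apply, Algebra.algebraMap_self_apply, hr,
          TensorProduct.smul_tmul', smul_eq_mul]
        rw [← Algebra.TensorProduct.one_def, mul_one]
      | zero => simp
      | add u v _ _ hu hv => rw [TensorProduct.tmul_add, map_add, map_add, hu, hv]
      | smul c u _ hu => rw [TensorProduct.tmul_smul, TensorProduct.smul_tmul', hu]
  have hex := KaehlerDifferential.exact_mapBaseChange_map R A T
  constructor
  · intro ω ω' h
    simp only [Prod.mk.injEq] at h
    obtain ⟨z, hz⟩ := (hex (ω - ω')).mp (by rw [map_sub, h.2, sub_self])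
    have h1 := hsec z
    rw [hz, map_sub, h.1, sub_self] at h1
    rw [← h1, map_zero] at hz
    exact sub_eq_zero.mp hz.symm
  · rintro ⟨u, v⟩
    obtain ⟨ω, rfl⟩ := KaehlerDifferential.map_surjective R A T v
    refine ⟨ω + KaehlerDifferential.mapBaseChange R A T (u - r ω), Prod.ext ?_ ?_⟩
    · simp [hsec]
    · show KaehlerDifferential.map R A T T _ = _
      rw [map_add, hex.apply_apply_eq_zero, add_zero]

end Groth.Agent.S10956
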