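import Groth.Statements.S10957
import Mathlib.Tactic
import Mathlib.RingTheory.DiscreteValuationRing.TFAE
import Mathlib.LinearAlgebra.Matrix.Charpoly.LinearMap
import Mathlib.RingTheory.Ideal.AssociatedPrime.Basic

set_option autoImplicit false
universe u
open CAlg

namespace Groth.Agent.S10957

/-- Let A be a Noetherian local integral domain that is normal (integrally closed in its field of
fractions). If there is a nonzero element a of A such that the maximal ideal of A is an associated
prime of the A-module A/(a), then A is a discrete valuation ring. (The other conditions listed in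
the published result — normal of dimension one, maximal ideal nonzero principal, regular of
dimension one — are the library's standard characterisations; this row records the criterion through
an associated prime.) -/
theorem result
    (A : Type u) [CommRing A] [IsDomain A] [IsNoetherianRing A] [IsLocalRing A] [IsIntegrallyClosed A]
    (a : A) (ha : a ≠ 0)
    (hass : IsLocalRing.maximalIdeal A ∈ associatedPrimes A (A ⧸ Ideal.span ({a} : Set A))) :
    IsDiscreteValuationRing A := by
  classical
  set m := IsLocalRing.maximalIdeal A
  obtain ⟨-, x, hx⟩ := isAssociatedPrime_iff.mp hass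
  obtain ⟨x, rfl⟩ := Ideal.Quotient.mk_surjective x
  have hmem : ∀ t : A, t ∈ m ↔ a ∣ t * x := by
    intro t
    show t ∈ m ↔ _
    rw [hx, Submodule.mem_colon_singleton, Submodule.mem_bot, ← Ideal.mem_span_singleton,
      ← Ideal.Quotient.eq_zero_iff_mem]
    rfl
  have hax : ¬ a ∣ x := fun h =>
    (IsLocalRing.maximalIdeal.isMaximal A).ne_top ((Ideal.eq_top_iff_one _).mpr ((hmem 1).mpr (by simpa using h)))
  choose q hq using fun t : m => (hmem t).mp t.2
  have hm0 : m ≠ ⊥ := by
    intro h0
    have hu : IsUnit a := by
      by_contra hu
      have : a ∈ m := hu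
      rw [h0] at this
      exact ha this
    exact hax hu.dvd
  have hexists : ∃ t : m, IsUnit (q t) := by
    by_contra hc
    push Not at hc
    let f : Module.End A m :=
      { toFun := fun t => ⟨q t, hc t⟩
        map_add' := fun s t => Subtype.ext (mul_left_cancel₀ ha (by
          rw [← hq]; simp only [Submodule.coe_add]; rw [mul_add, ← hq, ← hq, add_mul]))
        map_smul' := fun c t => Subtype.ext (mul_left_cancel₀ ha (by
          rw [← hq]; simp only [Submodule.coe_smul, RingHom.id_apply, smul_eq_mul]
          rw [mul_left_comm, ← hq, mul_assoc])) }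
    obtain ⟨P, hP, hPf⟩ := LinearMap.exists_monic_and_aeval_eq_zero A f
    have hfy : ∀ t : m, a * (f t : A) = (t : A) * x := fun t => (hq t).symm
    let K := FractionRing A
    have hpoly : ∀ (Q : Polynomial A) (t : m), algebraMap A K ((Polynomial.aeval f Q t : m) : A) =
        Polynomial.aeval (algebraMap A K x / algebraMap A K a) Q * algebraMap A K (t : A) := by
      intro Q
      induction Q using Polynomial.induction_on' with
      | add P Q hP hQ =>
        intro t
        simp only [map_add, LinearMap.add_apply, Submodule.coe_add, hP, hQ, add_mul]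
      | monomial n c =>
        intro t
        rw [Polynomial.aeval_monomial, Polynomial.aeval_monomial, Module.End.mul_apply,
          Module.algebraMap_end_apply, Submodule.coe_smul, smul_eq_mul, map_mul, mul_assoc]
        congr 1
        induction n generalizing t with
        | zero => simp
        | succ n ih =>
          have hne : algebraMap A K a ≠ 0 := (map_ne_zero_iff _ (IsFractionRing.injective A K)).mpr ha
          rw [pow_succ, Module.End.mul_apply, ih (f t), pow_succ, mul_assoc]
          congr 1
          rw [eq_comm, div_mul_eq_mul_div, div_eq_iff hne, ← map_mul, ← map_mul, mul_comm x, ← hfy,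
            mul_comm a]
    obtain ⟨t, ht, ht0⟩ := Submodule.exists_mem_ne_zero_of_ne_bot hm0
    have h0 := hpoly P ⟨t, ht⟩
    rw [hPf] at h0
    simp only [LinearMap.zero_apply, Submodule.coe_zero, map_zero] at h0
    have hint : IsIntegral A (algebraMap A K x / algebraMap A K a) :=
      ⟨P, hP, (mul_eq_zero.mp h0.symm).resolve_right
        ((map_ne_zero_iff _ (IsFractionRing.injective A K)).mpr ht0)⟩
    obtain ⟨y, hy⟩ := IsIntegrallyClosed.isIntegral_iff.mp hint
    rw [eq_div_iff ((map_ne_zero_iff _ (IsFractionRing.injective A K)).mpr ha), ← map_mul] at hy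
    exact hax ⟨y, (mul_comm y a ▸ IsFractionRing.injective A K hy).symm⟩
  obtain ⟨t, ht⟩ := hexists
  have hprinc : m = Ideal.span {(t : A)} := by
    refine le_antisymm (fun z hz => ?_) ((Ideal.span_singleton_le_iff_mem _).mpr t.2)
    obtain ⟨u, hu⟩ := ht
    rw [Ideal.mem_span_singleton]
    refine ⟨q ⟨z, hz⟩ * ↑u⁻¹, mul_right_cancel₀ (b := (u : A)) u.ne_zero ?_⟩
    rw [mul_assoc, mul_assoc, Units.inv_mul, mul_one]
    refine mul_left_cancel₀ ha ?_
    rw [hu]
    calc a * (z * q t) = z * (a * q t) := by ring
      _ = z * ((t : A) * x) := by rw [← hq t]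
      _ = t * (z * x) := by ring
      _ = a * (t * q ⟨z, hz⟩) := by rw [hq ⟨z, hz⟩]; ring
  have hnf : ¬ IsField A := fun h => hm0 (IsLocalRing.isField_iff_maximalIdeal_eq.mp h)
  exact ((IsDiscreteValuationRing.TFAE A hnf).out 0 4 rfl rfl).mpr ⟨⟨(t : A), hprinc⟩⟩

end Groth.Agent.S10957
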