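import Groth.Statements.S10958
import Groth.Agent.AbVarMul.Ample
import Groth.Agent.PnCoh.AmpleVanishing

set_option autoImplicit false
universe u
open CategoryTheory MonoidalCategory CartesianMonoidalCategory MonObj GrpObj AlgebraicGeometry
open AbVar

namespace Groth.Agent.S10958

/-- Let K be a field and A an abelian variety over K, that is, a group scheme over Spec K whose
structure morphism is proper and smooth and whose underlying topological space is irreducible. Then
there exist a natural number n and a closed immersion of A into projective n-space over K which is a
morphism over Spec K. -/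
theorem result
    (K : Type u) [Field K] (A : Over (Spec (CommRingCat.of K)))
    [GrpObj A] [IsProper A.hom] [Smooth A.hom] [IrreducibleSpace A.left] :
    ∃ (n : ℕ) (f : A.left ⟶ CohB1.ProjSpace n K),
      IsClosedImmersion f ∧ f ≫ CohB1.ProjSpace.toSpec n K = A.hom := by
  have : ConnectedSpace A.left := inferInstance
  have := Groth.AlgGrp1.geometricallyIrreducible_of_connected A
  have := Groth.AlgGrp1.geometricallyReduced_of_smooth_hom A
  have : GeometricallyIntegral A.hom :=
    GeometricallyIntegral.of_geometricallyReduced_of_geometricallyIrreducible A.hom
  obtain ⟨L, hL⟩ := Groth.AbVarMul.exists_isAmple (A := A)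
  obtain ⟨m, N, j, -, hj, hjf, -⟩ := Groth.PnCoh.exists_closedImmersion_of_isAmple A.hom hL
  exact ⟨m, j, hj, hjf⟩


end Groth.Agent.S10958
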