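import Groth.Statements.S10959
import Groth.Agent.AbvarAmple.Basic

set_option autoImplicit false
universe u
open CategoryTheory MonoidalCategory CartesianMonoidalCategory MonObj GrpObj AlgebraicGeometry
open AbVar

namespace Groth.Agent.S10959

/-- Let K be an algebraically closed field and A an abelian variety over K (a group scheme over Spec K
with proper smooth structure morphism and irreducible underlying space). Let Z be a closed subset of
A which is not all of A, and z a K-valued point of A. Then there is a K-valued point x of A such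
that the point underlying z lies neither in the translate of Z by x nor in the translate of Z by the
inverse of x; here the translation by x is the morphism A → A given on points by a ↦ a·x, the
product of the identity and the constant map x in the group of morphisms into A. (The published
statement takes Z to be the support of an effective divisor; this row allows any closed subset other
than A.) -/
theorem result
    (K : Type u) [Field K] [IsAlgClosed K] (A : Over (Spec (CommRingCat.of K)))
    [GrpObj A] [IsProper A.hom] [Smooth A.hom] [IrreducibleSpace A.left]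
    (Z : Set A.left) (hZ : IsClosed Z) (hZne : Z ≠ Set.univ)
    (z : 𝟙_ (Over (Spec (CommRingCat.of K))) ⟶ A) :
    ∃ x : 𝟙_ (Over (Spec (CommRingCat.of K))) ⟶ A,
      Disjoint (Set.range z.left.base)
        ((𝟙 A * (toUnit A ≫ x)).left.base '' Z ∪ (𝟙 A * (toUnit A ≫ x)⁻¹).left.base '' Z) := by
  let φ₁ : A ⟶ A := (toUnit A ≫ z) * (𝟙 A)⁻¹
  let φ₂ : A ⟶ A := (toUnit A ≫ z) * 𝟙 A
  have h₁ : Function.Surjective φ₁.left.base := by
    refine Groth.AbvarAmple.surjective_of_comp_eq_id (g := (𝟙 A)⁻¹ * (toUnit A ≫ z)) ?_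
    simp only [φ₁, MonObj.comp_mul, GrpObj.comp_inv, Category.comp_id, ← Category.assoc, comp_toUnit]
    rw [_root_.mul_inv_rev, _root_.inv_inv, ← _root_.mul_assoc, mul_inv_cancel, _root_.one_mul]
  have h₂ : Function.Surjective φ₂.left.base := by
    refine Groth.AbvarAmple.surjective_of_comp_eq_id (g := (toUnit A ≫ z)⁻¹ * 𝟙 A) ?_
    simp only [φ₂, MonObj.comp_mul, Category.comp_id, ← Category.assoc, comp_toUnit]
    rw [← _root_.mul_assoc, mul_inv_cancel, _root_.one_mul]
  have hne : ((φ₁.left.base ⁻¹' Z)ᶜ ∩ (φ₂.left.base ⁻¹' Z)ᶜ).Nonempty := by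
    refine nonempty_preirreducible_inter (hZ.preimage φ₁.left.continuous).isOpen_compl
      (hZ.preimage φ₂.left.continuous).isOpen_compl ?_ ?_
    · obtain ⟨a, ha⟩ := (Set.ne_univ_iff_exists_notMem Z).1 hZne
      obtain ⟨b, rfl⟩ := h₁ a
      exact ⟨b, ha⟩
    · obtain ⟨a, ha⟩ := (Set.ne_univ_iff_exists_notMem Z).1 hZne
      obtain ⟨b, rfl⟩ := h₂ a
      exact ⟨b, ha⟩
  obtain ⟨x, hx₁, hx₂⟩ := Groth.AbvarAmple.exists_point_mem A
    ((hZ.preimage φ₁.left.continuous).isOpen_compl.inter (hZ.preimage φ₂.left.continuous).isOpen_compl) hne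
  refine ⟨x, ?_⟩
  have e₁ : x ≫ φ₁ = z * x⁻¹ := by
    simp only [φ₁, MonObj.comp_mul, GrpObj.comp_inv, Category.comp_id, ← Category.assoc]
    rw [toUnit_unique (x ≫ toUnit A) (𝟙 _), Category.id_comp]
  have e₂ : x ≫ φ₂ = z * x := by
    simp only [φ₂, MonObj.comp_mul, Category.comp_id, ← Category.assoc]
    rw [toUnit_unique (x ≫ toUnit A) (𝟙 _), Category.id_comp]
  have hinv : (𝟙 A * (toUnit A ≫ x)⁻¹ : A ⟶ A) = 𝟙 A * (toUnit A ≫ x⁻¹) := by rw [GrpObj.comp_inv]
  rw [Groth.AbvarAmple.range_eq, Set.disjoint_singleton_left, hinv]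
  rintro (h | h)
  · rw [Groth.AbvarAmple.pt_mem_image_translate_iff, ← e₁, Groth.AbvarAmple.pt_comp] at h
    exact hx₁ h
  · rw [Groth.AbvarAmple.pt_mem_image_translate_iff, _root_.inv_inv, ← e₂, Groth.AbvarAmple.pt_comp] at h
    exact hx₂ h

end Groth.Agent.S10959
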