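import Groth.Statements.S10960
import Groth.Agent.PnCoh.PicProjSpace
import Groth.Agent.PnCoh.Euler
import Groth.Agent.PnCoh.VanishingClosed

set_option autoImplicit false
universe u
open CategoryTheory CategoryTheory.Limits AlgebraicGeometry TopologicalSpace
open SDiv

namespace Groth.Agent.S10960

private lemma twist_inj_aux (n : ℕ) (L : Type u) [Field L] (hn : 1 ≤ n) {d e : ℤ} (hde : d < e)
    (φ : Twist.twistProjSpace n L d ≅ Twist.twistProjSpace n L e) : False := by
  have hgen : (HomogeneousIdeal.irrelevant (CohB1.polyGrading n L)).toIdeal ≤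
      Ideal.span (CohB1.polyGrading n L 1 : Set (MvPolynomial (Fin (n + 1)) L)) :=
    (Groth.PnCoh.irrelevant_le_span_X n L).trans
      (Ideal.span_mono (by rintro _ ⟨i, rfl⟩; exact (MvPolynomial.mem_homogeneousSubmodule _ _).mpr (MvPolynomial.isHomogeneous_X L _)))
  obtain ⟨a⟩ := Groth.Ega2Proj.nonempty_tensor_iso hgen d (-e)
  obtain ⟨b⟩ := Groth.Ega2Proj.nonempty_tensor_iso hgen e (-e)
  have ψ : Twist.twistProjSpace n L (d - e) ≅ Twist.twistProjSpace n L ((0 : ℕ) : ℤ) :=
    eqToIso (by rw [sub_eq_add_neg]; rfl) ≪≫ a.symm ≪≫ PicGrp.tensorModIso φ (Iso.refl _) ≪≫ b ≪≫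
      eqToIso (by rw [add_neg_cancel]; rfl)
  have h0 := Groth.PnCoh.subsingleton_HH_twist (n := n) (R := L) (d - e) 0 (by omega) (by omega)
  have h1 := Groth.PnCoh.subsingleton_HH_of_iso (CohB1.ProjSpace.toSpec n L) ψ h0
  have h2 := Groth.PnCoh.finrank_h0 L n 0
  rw [Module.finrank_zero_of_subsingleton, Nat.choose_zero_right] at h2
  exact zero_ne_one h2

/-- Let L be a field and n ≥ 1. Then every invertible module on projective n-space over L is isomorphic
to the twisting sheaf O(d) for exactly one integer d. In other words d ↦ O(d) is a bijection from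
the integers onto the isomorphism classes of invertible modules on P^n_L. -/
theorem result (L : Type u) [Field L] (n : ℕ) (hn : 1 ≤ n)
    (M : (CohB1.ProjSpace n L).Modules) (hM : PicF.IsInvertible M) :
    ∃! d : ℤ, Nonempty (M ≅ Twist.twistProjSpace n L d) := by
  obtain ⟨d, ⟨φ⟩⟩ := Groth.PnCoh.exists_iso_twist_of_isInvertible hn M hM
  refine ⟨d, ⟨φ⟩, fun e ⟨ψ⟩ => ?_⟩
  rcases lt_trichotomy d e with h | h | h
  · exact (twist_inj_aux n L hn h (φ.symm ≪≫ ψ)).elim
  · exact h.symm
  · exact (twist_inj_aux n L hn h (ψ.symm ≪≫ φ)).elim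

end Groth.Agent.S10960
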