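import Groth.Statements.S10961
import Groth.Agent.PicAux.MeroExtend

set_option autoImplicit false
universe u
open CategoryTheory AlgebraicGeometry TopologicalSpace
open Mero

namespace Groth.Agent.S10961

open Groth.PicAux Opposite

/-- The stalk at a maximal point of a reduced scheme is a field. -/
theorem isField_stalk {X : Scheme.{u}} [IsReduced X] {x : X} (hx : ∀ y : X, y ⤳ x → y = x) :
    IsField (X.presheaf.stalk x) := by
  have hp : ∀ p : Spec (X.presheaf.stalk x), p = IsLocalRing.closedPoint (X.presheaf.stalk x) := fun p => by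
    refine (X.fromSpecStalk x).isEmbedding.injective ?_
    rw [Scheme.fromSpecStalk_closedPoint]
    exact hx _ (Scheme.range_fromSpecStalk.le ⟨p, rfl⟩)
  refine IsLocalRing.isField_iff_maximalIdeal_eq.mpr (eq_bot_iff.mpr fun r hr => ?_)
  have h : IsNilpotent r := by
    rw [← mem_nilradical, nilradical_eq_sInf, Submodule.mem_sInf]
    intro q hq
    have := congrArg PrimeSpectrum.asIdeal (hp ⟨q, hq⟩)
    rw [show q = IsLocalRing.maximalIdeal (X.presheaf.stalk x) from this]
    exact hr
  exact h.eq_zero

/-- Maximal generisations exist. -/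
theorem exists_max {X : Scheme.{u}} (z : X) :
    ∃ ζ : X, closure ({ζ} : Set X) ∈ irreducibleComponents (X : Type u) ∧ ζ ⤳ z := by
  have hZ := irreducibleComponent_mem_irreducibleComponents z
  obtain ⟨ζ, hζ⟩ := QuasiSober.sober hZ.1 (isClosed_of_mem_irreducibleComponents _ hZ)
  exact ⟨ζ, hζ.def ▸ hZ, hζ.specializes mem_irreducibleComponent⟩

/-- A function vanishing at the maximal points of a reduced scheme vanishes. -/
theorem eq_zero_of_germ {X : Scheme.{u}} [IsReduced X] {W : X.Opens} (a : Γ(X, W))
    (h : ∀ η (hη : η ∈ W), closure ({η} : Set X) ∈ irreducibleComponents (X : Type u) →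
      X.presheaf.germ W η hη a = 0) : a = 0 := by
  refine (basicOpen_eq_bot_iff a).mp (eq_bot_iff.mpr fun z hz => ?_)
  obtain ⟨η, hη, hspec⟩ := exists_max z
  have hηb : η ∈ X.basicOpen a := hspec.mem_open (X.basicOpen a).2 hz
  have hu := (X.mem_basicOpen a η (X.basicOpen_le a hηb)).1 hηb
  rw [h η _ hη] at hu
  exact absurd hu not_isUnit_zero

/-- Let X be a reduced scheme with only finitely many irreducible components, with generic points x_1,
…, x_r, and let U be an open subset of X. Then the ring of sections over U of the sheaf of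
meromorphic functions K_X maps bijectively, by evaluation, onto the product of the rings K_{X,x_i}
over those generic points x_i that lie in U; moreover for each generic point x_i the local ring of X
at x_i is a field and maps bijectively onto K_{X,x_i}, so that K_{X,x_i} is the residue field of
x_i. (The hypothesis holds for every Noetherian scheme; for X integral it says that K_X is the
constant sheaf with value the function field.) -/
theorem result
    (X : Scheme.{u}) [IsReduced X] (hfin : (irreducibleComponents (X : Type u)).Finite) (U : X.Opens) :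
    Function.Bijective (fun s : Γ(Mero.kmod X, U) =>
      fun x : {x : U // closure ({x.1} : Set X) ∈ irreducibleComponents (X : Type u)} =>
        Mero.evalK X U x.1 s) ∧
    (∀ x : X, closure ({x} : Set X) ∈ irreducibleComponents (X : Type u) →
      IsField (X.presheaf.stalk x) ∧
        Function.Bijective (algebraMap (X.presheaf.stalk x) (Mero.KStalk X x))) := by
  classical
  have hmax : ∀ x : X, closure ({x} : Set X) ∈ irreducibleComponents (X : Type u) → ∀ y : X, y ⤳ x → y = x :=
    fun x hx => (PropsBasic2.closure_mem_irreducibleComponents_iff x).1 hx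
  have part2 : ∀ x : X, closure ({x} : Set X) ∈ irreducibleComponents (X : Type u) →
      IsField (X.presheaf.stalk x) ∧
        Function.Bijective (algebraMap (X.presheaf.stalk x) (Mero.KStalk X x)) := fun x hx => by
    have hf := isField_stalk (hmax x hx)
    letI := hf.toField
    refine ⟨hf, Mero.algebraMap_KStalk_injective x, fun q => ?_⟩
    obtain ⟨⟨a, b⟩, h⟩ := IsLocalization.surj (Mero.regStalk X x) q
    have hb : IsUnit (b : X.presheaf.stalk x) :=
      isUnit_iff_ne_zero.mpr (nonZeroDivisors.ne_zero (Mero.regStalk_le_nonZeroDivisors x b.2))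
    obtain ⟨c, hc⟩ := hb.exists_right_inv
    exact ⟨a * c, by rw [map_mul, ← h, mul_assoc, ← map_mul, hc, map_one, mul_one]⟩
  refine ⟨⟨fun f g hfg => ?_, fun t => ?_⟩, part2⟩
  · rw [← sub_eq_zero]
    refine kext fun y => ?_
    obtain ⟨V, hV, a, b, hyV, hab⟩ := exists_kfr (f - g) y.1 y.2
    have ha : a = 0 := eq_zero_of_germ a fun η hη hηc => toKStalk_injective η (by
      rw [map_zero]
      have h0 : (f - g).1 ⟨η, hV hη⟩ = 0 := by
        show Mero.evalK X U ⟨η, hV hη⟩ (f - g) = 0
        rw [map_sub, sub_eq_zero]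
        exact congrFun hfg ⟨⟨η, hV hη⟩, hηc⟩
      have := congr(($hab).1 ⟨η, hη⟩)
      rw [kres_apply, h0] at this
      rw [← kfr_mul_toKStalk a b ⟨η, hη⟩, ← this, zero_mul])
    have := congr(($hab).1 ⟨y.1, hyV⟩)
    rw [kres_apply, ha] at this
    refine this.trans ?_
    show LocalizedModule.mk (X.presheaf.germ V y.1 hyV 0) _ = _
    rw [map_zero, LocalizedModule.zero_mk]
    rfl
  · let P := {x : U // closure ({x.1} : Set X) ∈ irreducibleComponents (X : Type u)}
    have key : ∀ η : P, ∃ (V : X.Opens) (a : Γ(X, V)) (hη : η.1.1 ∈ V), V ≤ U ∧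
        toKStalk η.1.1 (X.presheaf.germ V η.1.1 hη a) = t η ∧ ∀ ξ : P, ξ ≠ η → ξ.1.1 ∉ V := fun η => by
      obtain ⟨c, hc⟩ := (part2 η.1.1 η.2).2.2 (t η)
      obtain ⟨W, hW, a₀, ha₀⟩ := TopCat.Presheaf.exists_germ_eq X.presheaf c
      let S := irreducibleComponents (X : Type u) \ {closure {η.1.1}}
      have hcl : IsClosed (⋃ Z ∈ S, Z) :=
        (hfin.subset Set.sdiff_subset).isClosed_biUnion fun Z hZ => isClosed_of_mem_irreducibleComponents Z hZ.1
      let V : X.Opens := W ⊓ U ⊓ ⟨(⋃ Z ∈ S, Z)ᶜ, hcl.isOpen_compl⟩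
      have hηV : η.1.1 ∈ V := ⟨⟨hW, η.1.2⟩, fun hmem => by
        obtain ⟨Z, hZ, hηZ⟩ := Set.mem_iUnion₂.1 hmem
        exact hZ.2 ((η.2.2 hZ.1.1 (closure_minimal (Set.singleton_subset_iff.mpr hηZ)
          (isClosed_of_mem_irreducibleComponents Z hZ.1))).antisymm (closure_minimal
          (Set.singleton_subset_iff.mpr hηZ) (isClosed_of_mem_irreducibleComponents Z hZ.1)))⟩
      refine ⟨V, resX X (inf_le_left.trans inf_le_left) a₀, hηV, inf_le_left.trans inf_le_right, ?_, fun ξ hξ hξV => ?_⟩
      · rw [germ_resX, ha₀]; exact hc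
      · refine hξV.2 (Set.mem_iUnion₂.2 ⟨closure {ξ.1.1}, ⟨ξ.2, fun h => hξ ?_⟩, subset_closure rfl⟩)
        exact Subtype.ext (Subtype.ext (inseparable_iff_closure_eq.2 h).eq)
    choose V a hηV hVU hat hdis using key
    have hdisj : ∀ i j, i ≠ j → V i ⊓ V j = ⊥ := fun i j hij => eq_bot_iff.2 fun z hz => by
      obtain ⟨ζ, hζ, hspec⟩ := exists_max z
      have h1 := hspec.mem_open (V i).2 hz.1
      have h2 := hspec.mem_open (V j).2 hz.2
      let ζ' : P := ⟨⟨ζ, hVU i h1⟩, hζ⟩
      by_cases h : ζ' = i
      · exact (hdis j ζ' (h ▸ hij) h2).elim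
      · exact (hdis i ζ' h h1).elim
    obtain ⟨g, hg, -⟩ := TopCat.Sheaf.existsUnique_gluing X.sheaf V a fun i j => by
      by_cases h : i = j
      · subst h; rfl
      · have : Subsingleton Γ(X, V i ⊓ V j) := by
          rw [hdisj i j h]; exact CommRingCat.subsingleton_of_isTerminal X.sheaf.isTerminalOfEmpty
        exact @Subsingleton.elim Γ(X, V i ⊓ V j) this _ _
    have hd : SchemDense U (iSup V) := fun W hW p q hpq => sub_eq_zero.1 (eq_zero_of_germ _ fun η hη hηc => by
      have hηs : η ∈ iSup V := Opens.mem_iSup.2 ⟨⟨⟨η, hW hη⟩, hηc⟩, hηV _⟩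
      have := congrArg (X.presheaf.germ (W ⊓ iSup V) η ⟨hη, hηs⟩) hpq
      rw [germ_resX, germ_resX] at this
      rw [map_sub, this, sub_self])
    obtain ⟨s, hs⟩ := exists_mero_extend (iSup_le hVU) hd (hasDenominators_of_isReduced
      (fun x => ⟨⊤, trivial, hfin.subset fun Z hZ => hZ.1⟩) hd) g
    refine ⟨s, funext fun η => ?_⟩
    have hηs : η.1.1 ∈ iSup V := Opens.mem_iSup.2 ⟨η, hηV η⟩
    have := congr(($hs).1 ⟨η.1.1, hηs⟩)
    rw [kres_apply, toK_apply'] at this
    refine this.trans ?_
    have hgi : resX X (le_iSup V η) g = a η := hg η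
    rw [← hat η, ← hgi, germ_resX]

end Groth.Agent.S10961
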