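import Groth.Statements.S10962
import Groth.Agent.Chow.VeryAmplePn
import Groth.Agent.Ega2Proj.QuasiAffineAmple
import Groth.Agent.Ega2Proj.AmpleBasic
import Groth.Agent.PnCoh.GlobalFun
import Groth.Agent.PnCoh.OverAffine
import Groth.Agent.Misc15.ProjPts

set_option autoImplicit false
universe u
open CategoryTheory CategoryTheory.Limits AlgebraicGeometry TopologicalSpace
open SDiv

namespace Groth.Agent.S10962

open Groth.Ega2Proj in
theorem isAmple_natTwist (R : Type u) [CommRing R] (n : ℕ) {e : ℕ} (he : 0 < e) :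
    CohB1.IsAmple (Twist.twistProjSpace n R (e : ℤ)) := by
  have h1 : CohB1.IsAmple (Twist.twist (CohB1.polyGrading n R) 1) := Groth.Chow.isAmple_O1 n R
  haveI : CompactSpace (Proj (CohB1.polyGrading n R)) := h1.2.1
  obtain ⟨φ⟩ := nonempty_pow_iso (𝒜 := CohB1.polyGrading n R)
    ((Groth.PnCoh.irrelevant_le_span_X n R).trans (Ideal.span_mono (by
      rintro _ ⟨i, rfl⟩
      exact (MvPolynomial.mem_homogeneousSubmodule _ _).mpr (MvPolynomial.isHomogeneous_X R _)))) e
  exact Groth.Chow.isAmple_of_iso φ.symm ((isAmple_tensorPow_iff h1.1 e he).1 h1)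

theorem not_isQuasiAffine (R : Type u) [CommRing R] [Nontrivial R] (n : ℕ) (hn : 1 ≤ n) :
    ¬ (CohB1.ProjSpace n R).IsQuasiAffine := fun h => by
  haveI := h
  let f := CohB1.ProjSpace.toSpec n R
  haveI : IsIso f.appTop := Groth.PnCoh.isIso_appTop_toSpec n R
  haveI hmono : Mono f := by
    have h1 : Mono (f ≫ (Spec (CommRingCat.of R)).toSpecΓ) := by
      rw [Scheme.toSpecΓ_naturality]
      infer_instance
    exact mono_of_mono f (Spec (CommRingCat.of R)).toSpecΓ
  let j : Spec (CommRingCat.of (MvPolynomial (Fin n) R)) ⟶ CohB1.ProjSpace n R :=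
    Groth.Misc15.ProjPts.chart 0 R ≫ (Groth.PnCoh.overIso n R).inv
  have hj : j ≫ f = Spec.map (CommRingCat.ofHom MvPolynomial.C) := by
    simp only [j, f, Category.assoc]
    rw [← Groth.PnCoh.overIso_hom_toBase, Iso.inv_hom_id_assoc, Groth.Misc15.ProjPts.chart_toBase]
  haveI : Mono (Spec.map (CommRingCat.ofHom (MvPolynomial.C : R →+* MvPolynomial (Fin n) R))) := by
    rw [← hj]
    infer_instance
  let pt (a : R) : Spec (CommRingCat.of R) ⟶ Spec (CommRingCat.of (MvPolynomial (Fin n) R)) :=
    Spec.map (CommRingCat.ofHom (MvPolynomial.eval (fun _ : Fin n => a)))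
  have hpt : ∀ a : R, pt a ≫ Spec.map (CommRingCat.ofHom MvPolynomial.C) = 𝟙 _ := fun a => by
    simp only [pt]
    rw [← Spec.map_comp, ← CommRingCat.ofHom_comp]
    refine Eq.trans ?_ (Spec.map_id _)
    congr 1
    ext r
    exact MvPolynomial.eval_C r
  have h01 := Spec.map_injective ((cancel_mono _).1 ((hpt 0).trans (hpt 1).symm))
  have := congr($(h01) (MvPolynomial.X (⟨0, hn⟩ : Fin n)))
  simp at this

/-- Let R be a nonzero ring and n ≥ 1, and let X be projective n-space over R. For an integer d, the
Serre twist O_X(d) is ample if and only if d > 0. (Ample is taken in the sense that X is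
quasi-compact and covered by the affine open non-vanishing loci X_s of global sections s of positive
tensor powers; for the quasi-compact separated scheme X this agrees with the definition through
finitely many generating sections with quasi-affine non-vanishing loci. The published remark also
asserts that O_X(d) is very ample relative to R for d > 0; that clause is not part of this row.) -/
theorem result (R : Type u) [CommRing R] [Nontrivial R] (n : ℕ) (hn : 1 ≤ n) (d : ℤ) :
    CohB1.IsAmple (Twist.twistProjSpace n R d) ↔ 0 < d := by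
  constructor
  · intro hA
    by_contra hd
    push Not at hd
    refine not_isQuasiAffine R n hn ?_
    rcases hd.lt_or_eq with hd | rfl
    · obtain ⟨e, he⟩ : ∃ e : ℕ, -d = (e : ℤ) := ⟨(-d).toNat, by omega⟩
      have hB := isAmple_natTwist R n (e := e) (by omega)
      have hgen : (HomogeneousIdeal.irrelevant (CohB1.polyGrading n R)).toIdeal ≤
          Ideal.span (CohB1.polyGrading n R 1 : Set (MvPolynomial (Fin (n + 1)) R)) :=
        (Groth.PnCoh.irrelevant_le_span_X n R).trans (Ideal.span_mono (by
          rintro _ ⟨i, rfl⟩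
          exact (MvPolynomial.mem_homogeneousSubmodule _ _).mpr (MvPolynomial.isHomogeneous_X R _)))
      obtain ⟨φ⟩ := Groth.Ega2Proj.nonempty_tensor_iso (𝒜 := CohB1.polyGrading n R) hgen d (e : ℤ)
      obtain ⟨φ0⟩ := Groth.PnCoh.nonempty_twist_zero_iso (CohB1.polyGrading n R)
      refine Groth.Ega2Proj.isQuasiAffine_of_isInverseOf ?_ hA hB
      exact ⟨φ ≪≫ eqToIso (congrArg (Twist.twist (CohB1.polyGrading n R)) (show d + (e : ℤ) = 0 by omega)) ≪≫ φ0⟩
    · obtain ⟨φ0⟩ := Groth.PnCoh.nonempty_twist_zero_iso (CohB1.polyGrading n R)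
      exact Groth.Ega2Proj.isQuasiAffine_of_isAmple_structure (Groth.Chow.isAmple_of_iso φ0 hA)
  · intro hd
    lift d to ℕ using hd.le
    exact isAmple_natTwist R n (by omega)

end Groth.Agent.S10962
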