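import Groth.Statements.S10964
import Groth.Agent.PicAux.Sections

set_option autoImplicit false
universe u
open CategoryTheory AlgebraicGeometry TopologicalSpace Opposite
open PicF

namespace Groth.Agent.S10964

/-- Let X be a scheme with an open cover (U_i)_{i ∈ ι}. Let L and L' be O_X-modules with sections s_i of
L and s'_i of L' over U_i that generate there (for every open V ⊆ U_i, r ↦ r · s_i|_V is a bijection
from functions on V onto sections of L over V, and likewise for s'_i), and let η_ij, η'_ij be the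
functions on U_i ∩ U_j with s_i = η_ij · s_j and s'_i = η'_ij · s'_j there. Then L and L' are
isomorphic as O_X-modules if and only if there is a family of units u_i of the rings of functions on
the U_i with η'_ij · u_i|_{U_i ∩ U_j} = u_j|_{U_i ∩ U_j} · η_ij for all i, j. (So two invertible
modules trivialised by the cover are isomorphic exactly when their transition cocycles define the
same Čech cohomology class.) -/
theorem result (X : Scheme.{u}) {ι : Type u} (U : ι → X.Opens)
    (hU : iSup U = ⊤) (L L' : X.Modules) (s : ∀ i : ι, Γ(L, U i)) (s' : ∀ i : ι, Γ(L', U i))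
    (hs : ∀ (i : ι) (V : X.Opens) (h : V ≤ U i),
        Function.Bijective (fun r : Γ(X, V) => r • L.presheaf.map (homOfLE h).op (s i)))
    (hs' : ∀ (i : ι) (V : X.Opens) (h : V ≤ U i),
        Function.Bijective (fun r : Γ(X, V) => r • L'.presheaf.map (homOfLE h).op (s' i)))
    (η η' : ∀ i j : ι, Γ(X, U i ⊓ U j))
    (hη : ∀ i j : ι, L.presheaf.map (homOfLE (inf_le_left : U i ⊓ U j ≤ U i)).op (s i) =
        η i j • L.presheaf.map (homOfLE (inf_le_right : U i ⊓ U j ≤ U j)).op (s j))
    (hη' : ∀ i j : ι, L'.presheaf.map (homOfLE (inf_le_left : U i ⊓ U j ≤ U i)).op (s' i) =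
        η' i j • L'.presheaf.map (homOfLE (inf_le_right : U i ⊓ U j ≤ U j)).op (s' j)) :
    Nonempty (L ≅ L') ↔ ∃ u : ∀ i : ι, (Γ(X, U i))ˣ, ∀ i j : ι,
      η' i j * X.presheaf.map (homOfLE (inf_le_left : U i ⊓ U j ≤ U i)).op (u i : Γ(X, U i)) =
        X.presheaf.map (homOfLE (inf_le_right : U i ⊓ U j ≤ U j)).op (u j : Γ(X, U j)) * η i j := by
  open Groth.PicAux in
  constructor
  · rintro ⟨e⟩
    choose v hv using fun i => (Gen.map (M := L') (s := s i) (hs i) e.hom).exists_unit (hs' i)
    refine ⟨fun i => (v i)⁻¹, fun i j => ?_⟩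
    have h1 := congrArg (e.hom.app (U i ⊓ U j)) (hη i j)
    have h2 := hη' i j
    rw [hv i, hv j] at h2
    simp only [res_def, resX_def, res_smul, Scheme.Modules.Hom.app_smul, app_res] at h1 h2 ⊢
    rw [h1, ← mul_smul, ← mul_smul] at h2
    have h3 := Gen.smul_inj (hs := Gen.map (M := L') (s := s j) (hs j) e.hom) inf_le_right h2
    have hi : resX X (inf_le_left : U i ⊓ U j ≤ U i) (v i : Γ(X, U i)) *
        resX X (inf_le_left : U i ⊓ U j ≤ U i) ((v i)⁻¹ : (Γ(X, U i))ˣ) = 1 := by
      rw [← map_mul, Units.mul_inv, map_one]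
    have hj : resX X (inf_le_right : U i ⊓ U j ≤ U j) (v j : Γ(X, U j)) *
        resX X (inf_le_right : U i ⊓ U j ≤ U j) ((v j)⁻¹ : (Γ(X, U j))ˣ) = 1 := by
      rw [← map_mul, Units.mul_inv, map_one]
    calc _ = η' i j * resX X (inf_le_left : U i ⊓ U j ≤ U i) ((v i)⁻¹ : (Γ(X, U i))ˣ) *
          (resX X (inf_le_right : U i ⊓ U j ≤ U j) (v j : Γ(X, U j)) *
            resX X (inf_le_right : U i ⊓ U j ≤ U j) ((v j)⁻¹ : (Γ(X, U j))ˣ)) := by
          rw [hj, mul_one]
      _ = (η' i j * resX X (inf_le_right : U i ⊓ U j ≤ U j) (v j : Γ(X, U j))) *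
          resX X (inf_le_left : U i ⊓ U j ≤ U i) ((v i)⁻¹ : (Γ(X, U i))ˣ) *
            resX X (inf_le_right : U i ⊓ U j ≤ U j) ((v j)⁻¹ : (Γ(X, U j))ˣ) := by ring
      _ = (resX X (inf_le_left : U i ⊓ U j ≤ U i) (v i : Γ(X, U i)) *
          resX X (inf_le_left : U i ⊓ U j ≤ U i) ((v i)⁻¹ : (Γ(X, U i))ˣ)) * η i j *
            resX X (inf_le_right : U i ⊓ U j ≤ U j) ((v j)⁻¹ : (Γ(X, U j))ˣ) := by rw [← h3]; ring
      _ = _ := by rw [hi]; ring
  · rintro ⟨u, hu⟩
    have hgen : ∀ i, Gen L' (U i) ((u i : Γ(X, U i)) • s' i) :=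
      fun i => Gen.smul_unit (hs' i) (u i).isUnit
    have hcomp : ∀ i j, ∀ r : Γ(X, U i ⊓ U j),
        res L inf_le_left (s i) = r • res L inf_le_right (s j) →
          res L' inf_le_left ((u i : Γ(X, U i)) • s' i) =
            r • res L' inf_le_right ((u j : Γ(X, U j)) • s' j) := by
      intro i j r hr
      have hr' : r = η i j := Gen.smul_inj (hs := hs j) inf_le_right (hr.symm.trans (hη i j))
      subst hr'
      have h2 := hη' i j
      have h3 := hu i j
      simp only [res_def, resX_def, res_smul] at h2 h3 ⊢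
      rw [h2, ← mul_smul, ← mul_smul]
      congr 1
      rw [mul_comm, h3, mul_comm]
    obtain ⟨e, -⟩ := exists_iso_of_gen hU s hs _ hgen hcomp
    exact ⟨e⟩

end Groth.Agent.S10964
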