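import Groth.Statements.S10966
import Groth.Agent.RelVA.PnLocal
import Groth.Agent.RelVA.PnTensor
import Groth.Agent.Ega2Proj.QuasiAffineAmple

set_option autoImplicit false
universe u
open CategoryTheory CategoryTheory.Limits AlgebraicGeometry
open RelAmple

namespace Groth.Agent.S10966

/-- Let R be a nonzero ring and X an affine scheme of finite type over R, with structure morphism q : X
→ Spec R. Then every invertible O_X-module L is very ample relative to q: there are a natural number
n and an immersion i : X → P^n over Spec R, compatible with q, such that i^*O(1) ≅ L. -/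
theorem result (R : Type u) [CommRing R] [Nontrivial R]
    {X : Scheme.{u}} [IsAffine X] (q : X ⟶ Spec (CommRingCat.of R)) [LocallyOfFiniteType q]
    (L : X.Modules) (hL : PicF.IsInvertible L) :
    RelAmple.IsRelVeryAmplePn q L := by
    have hO := Groth.Ega2Proj.isInvertible_structure X
    obtain ⟨n₀, hn₀⟩ := Groth.RelVA.exists_pn_tensor q (Groth.Ega2Proj.isAmple_of_isQuasiAffine hO) hL
    obtain ⟨n, i, hi, hc, ⟨τ⟩⟩ := hn₀ n₀ le_rfl
    exact ⟨n, i, hi, hc, ⟨((SecTwist.unitorR L).symm ≪≫ (Groth.PicAux.exists_braiding _ _).choose ≪≫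
      PicGrp.tensorModIso (Groth.PicAux.tensorPow_structure n₀).some.symm (Iso.refl L)) ≪≫ τ⟩⟩

end Groth.Agent.S10966
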