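import Groth.Statements.S10967
import Mathlib.AlgebraicGeometry.QuasiAffine
import Mathlib.AlgebraicGeometry.Morphisms.Separated

set_option autoImplicit false
universe u
open CategoryTheory CategoryTheory.Limits AlgebraicGeometry TopologicalSpace
open MoreMor

namespace Groth.Agent.S10967

/-- Quasi-affine over an affine base: call a morphism f : X → Y quasi-affine when Y has a cover by
affine opens V_i whose preimages f⁻¹(V_i) are quasi-affine schemes (quasi-compact open subschemes of
affine schemes; equivalently quasi-compact with X → Spec Γ(X, O_X) an immersion). If Y is affine and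
f is quasi-affine in this sense, then X is a quasi-affine scheme. -/
theorem result {X Y : Scheme.{u}} [IsAffine Y]
    (f : X ⟶ Y) {ι : Type u} (V : ι → Y.Opens) (hV : iSup V = ⊤) (hVa : ∀ i, IsAffineOpen (V i))
    (hq : ∀ i, Scheme.IsQuasiAffine (↑(f ⁻¹ᵁ V i) : Scheme.{u})) :
    X.IsQuasiAffine := by
  haveI : ∀ i, IsAffine (V i : Scheme.{u}) := fun i => hVa i
  obtain ⟨t, ht⟩ := isCompact_univ.elim_finite_subcover (fun i => (V i : Set Y)) (fun i => (V i).isOpen)
    (fun y _ => by
      have : y ∈ iSup V := hV ▸ trivial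
      simpa using TopologicalSpace.Opens.mem_iSup.mp this)
  have hcov : ∀ y : Y, ∃ i ∈ t, y ∈ V i := fun y => by simpa using ht (Set.mem_univ y)
  haveI : CompactSpace X := by
    have h : (Set.univ : Set X) = ⋃ i ∈ (t : Set ι), ((f ⁻¹ᵁ V i : X.Opens) : Set X) := by
      ext x
      simpa using hcov (f x)
    refine ⟨?_⟩
    rw [h]
    refine t.finite_toSet.isCompact_biUnion fun i _ => ?_
    haveI := hq i
    exact isCompact_iff_compactSpace.mpr (inferInstance : CompactSpace (f ⁻¹ᵁ V i).toScheme)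
  haveI : IsSeparated f := by
    refine IsZariskiLocalAtTarget.of_iSup_eq_top (P := @IsSeparated) V hV fun i => ?_
    haveI := hq i
    infer_instance
  haveI : X.IsSeparated := by
    haveI : Y.IsSeparated := inferInstance
    exact ⟨by rw [← terminal.comp_from f]; infer_instance⟩
  haveI : QuasiSeparatedSpace X := inferInstance
  refine Scheme.IsQuasiAffine.of_forall_exists_mem_basicOpen X fun x => ?_
  obtain ⟨i, -, hxi⟩ := hcov (f x)
  obtain ⟨_, ⟨_, ⟨g, rfl⟩, rfl⟩, hxg, hgV⟩ := (isBasis_basicOpen Y).exists_subset_of_mem_open hxi (V i).isOpen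
  let W := X.basicOpen (f.appTop g)
  have hW : W = f ⁻¹ᵁ Y.basicOpen g := (Scheme.preimage_basicOpen_top f g).symm
  have hWc : IsCompact (W : Set X) := isRetrocompact_basicOpen _ |>.isCompact
  have hWle : W ≤ f ⁻¹ᵁ V i := fun z hz => hgV (by rw [hW] at hz; exact hz)
  haveI := hq i
  haveI : CompactSpace (W : Scheme.{u}) := isCompact_iff_compactSpace.mp hWc
  haveI : (W : Scheme.{u}).IsQuasiAffine :=
    Scheme.IsQuasiAffine.of_isImmersion (X.homOfLE hWle)
  obtain ⟨_, ⟨_, ⟨s, hs, rfl⟩, rfl⟩, hxs, -⟩ :=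
    (Scheme.IsQuasiAffine.isBasis_basicOpen (W : Scheme.{u})).exists_subset_of_mem_open
      (Set.mem_univ (⟨x, by rw [hW]; exact hxg⟩ : (W : Scheme.{u}))) isOpen_univ
  let s' : Γ(X, W) := W.topIso.hom s
  have hbs : W.ι ''ᵁ ((W : Scheme.{u}).basicOpen s) = X.basicOpen s' := by
    rw [Scheme.image_basicOpen]
    simp [s', Scheme.Opens.ι_appIso, Scheme.Opens.topIso]
    refine (inf_eq_right.mpr ?_).symm.trans (Scheme.basicOpen_res X s _).symm
    exact (X.basicOpen_le _).trans W.ι_image_top.le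
  have := isLocalization_basicOpen_of_qcqs isCompact_univ isQuasiSeparated_univ (f.appTop g)
  obtain ⟨⟨r, ⟨_, n, rfl⟩⟩, hr⟩ := IsLocalization.surj (Submonoid.powers (f.appTop g)) (S := Γ(X, W)) s'
  refine ⟨f.appTop g * r, ?_⟩
  have key : X.basicOpen (f.appTop g * r) = X.basicOpen s' := by
    have h1 : X.basicOpen (X.presheaf.map (homOfLE (le_top : W ≤ ⊤)).op r) = W ⊓ X.basicOpen r :=
      X.basicOpen_res r _
    have hr' : s' * X.presheaf.map (homOfLE (le_top : W ≤ ⊤)).op (f.appTop g ^ n) =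
        X.presheaf.map (homOfLE (le_top : W ≤ ⊤)).op r := hr
    have hu : IsUnit (X.presheaf.map (homOfLE (le_top : W ≤ ⊤)).op (f.appTop g ^ n)) := by
      rw [map_pow]; exact IsUnit.pow _ (RingedSpace.isUnit_res_basicOpen _ _)
    rw [Scheme.basicOpen_mul, ← h1, ← hr', Scheme.basicOpen_mul, Scheme.basicOpen_of_isUnit X hu,
      inf_eq_left.mpr (X.basicOpen_le s')]
  rw [key, ← hbs]
  exact ⟨hs.image_of_isOpenImmersion W.ι, _, hxs, rfl⟩

end Groth.Agent.S10967
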