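import Groth.Statements.S10969
import Groth.Agent.FunFld1.Constants
-- import your own Groth.Agent.* helpers here

set_option autoImplicit false
open FunFld

namespace Groth.Agent.S10969

/-- For `x` transcendental over `k` in a function field of one variable `K/k`, the degree of the divisor
of zeros of `x` equals `[K : k(x)]`. -/
theorem result (k K : Type*) [Field k] [Field K] [Algebra k K]
    (hK : FunFld.IsFunctionField k K) (x : K) (hx : Transcendental k x) :
    (∑ P ∈ (FunFld.div k x).support with 0 < FunFld.div k x P,
        FunFld.div k x P * (P.deg : ℤ)) =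
      Module.finrank (IntermediateField.adjoin k ({x} : Set K)) K := by
  classical
  refine Eq.trans ?_ ((Groth.FunFld1.IsFF.of_isFunctionField hK).deg_zeroDiv_eq hx)
  unfold FunFld.Divisor.deg
  refine Eq.trans ?_ (Finsupp.sum_of_support_subset _ (s := {P ∈ (FunFld.div k x).support | 0 < FunFld.div k x P}) ?_ _ (fun P _ => zero_mul _)).symm
  · refine Finset.sum_congr (by congr 1) fun P hP => ?_
    rw [Finset.mem_filter] at hP
    rw [(Groth.FunFld1.IsFF.of_isFunctionField hK).zeroDiv_apply, ← (Groth.FunFld1.IsFF.of_isFunctionField hK).div_apply, max_eq_left hP.2.le]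
  · intro P hP
    rw [Finsupp.mem_support_iff, (Groth.FunFld1.IsFF.of_isFunctionField hK).zeroDiv_apply, ← (Groth.FunFld1.IsFF.of_isFunctionField hK).div_apply] at hP
    rw [Finset.mem_filter, Finsupp.mem_support_iff]
    omega

end Groth.Agent.S10969
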