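import Groth.Statements.S10989
import Groth.Agent.FunFld1.RiemannRoch
-- import your own Groth.Agent.* helpers here

set_option autoImplicit false
open FunFld

namespace Groth.Agent.S10989

/-- Any two canonical divisors of a function field of one variable are linearly equivalent. -/
theorem result (k K : Type*) [Field k] [Field K] [Algebra k K]
    (hK : FunFld.IsFunctionField k K) (C₁ C₂ : FunFld.Divisor k K) (h₁ : FunFld.IsCanonical k K C₁) (h₂ : FunFld.IsCanonical k K C₂) :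
    ∃ x : K, x ≠ 0 ∧ C₂ = C₁ + FunFld.div k x := by
  obtain ⟨ω₁, h0₁, hω₁⟩ := h₁
  obtain ⟨ω₂, h0₂, hω₂⟩ := h₂
  obtain ⟨x, hx⟩ := Groth.FunFld1.exists_mulW_eq hK ⟨C₁, (hω₁ C₁).mpr le_rfl⟩ h0₁ ⟨C₂, (hω₂ C₂).mpr le_rfl⟩
  have hx0 : x ≠ 0 := by
    rintro rfl
    refine h0₂ (hx.symm.trans ?_)
    exact map_zero (((Groth.FunFld1.IsFF.of_isFunctionField hK)).mulWL ω₁)
  refine ⟨x, hx0, ?_⟩
  have h := ((Groth.FunFld1.IsFF.of_isFunctionField hK)).isDivOf_mulW hx0 (fun _ => ((Groth.FunFld1.IsFF.of_isFunctionField hK)).smul_mem_adele x) hω₁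
  rw [hx] at h
  exact le_antisymm ((h C₂).mp ((hω₂ C₂).mpr le_rfl)) ((hω₂ _).mp ((h _).mpr le_rfl))

end Groth.Agent.S10989
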