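import Groth.Statements.S1099
import Groth.Agent.Misc4.CountableHom
-- import your own Groth.Agent.* helpers here

set_option autoImplicit false
universe u
open CategoryTheory CategoryTheory.Limits AlgebraicGeometry Opposite
attribute [local instance] HasDerivedCategory.standard
open Perf

namespace Groth.Agent.S1099

/-- Let the scheme X be quasi-compact and quasi-separated, K ∈ D(O_X) with quasi-coherent cohomology
sheaves whose sections over affine opens are countable, E a perfect object of D(O_X), and U ⊆ X a
quasi-compact open (restriction to U assumed exact). Then for every i the group of morphisms E|_U ⟶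
K|_U[i] in D(O_U) is countable. -/
theorem result (X : Scheme.{u}) [CompactSpace ↥X] [QuasiSeparatedSpace ↥X]
    (K : DCoh.D X) (hK : DCoh.IsQCohD K) (hKc : ∀ V : X.Opens, IsAffineOpen V → ∀ i : ℤ, Countable ((DCoh.HD K i).val.obj (op V)))
    (E : DCoh.D X) (hE : DCoh.IsPerfect E) (U : X.Opens) (hU : IsCompact (U : Set X)) [PreservesFiniteLimits (Scheme.Modules.restrictFunctor U.ι)] (i : ℤ) :
    Countable ((DCoh.restrictD U.ι).obj E ⟶ ((DCoh.restrictD U.ι).obj K)⟦i⟧) := by
  haveI : CompactSpace ↥(U : Scheme.{u}) := isCompact_iff_compactSpace.1 hU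
  haveI : QuasiSeparatedSpace ↥(U : Scheme.{u}) := (isQuasiSeparated_iff_quasiSeparatedSpace (U : Set X) U.2).1
    ((isQuasiSeparated_univ_iff.2 inferInstance).of_subset (Set.subset_univ _))
  exact Groth.Misc4.CountableHom.cnt _ _ _ (Groth.DerivedCoh.PCohDescent.isPerfect_rd U.ι hE)
    (Groth.Misc4.QCohDPerf.isQCohD_shift (Groth.Misc4.QCohDPerf.isQCohD_restrict U.ι hK) i)
    (Groth.Misc4.CountableHom.CS.shift (Groth.Misc4.CountableHom.CS.rd U.ι hKc) i)

end Groth.Agent.S1099
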