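import Groth.Statements.S10994
import Groth.Agent.FunFld1.GenusOne
-- import your own Groth.Agent.* helpers here

set_option autoImplicit false
open FunFld

namespace Groth.Agent.S10994

/-- A function field of one variable has genus `0` and a place of degree `1` iff it is a rational
function field `k(x)`. -/
theorem result (k K : Type*) [Field k] [Field K] [Algebra k K]
    (hK : FunFld.IsFunctionField k K) :
    (FunFld.genus k K = 0 ∧ ∃ P : FunFld.Place k K, P.deg = 1) ↔
      ∃ x : K, IntermediateField.adjoin k ({x} : Set K) = ⊤ := by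
  constructor
  · rintro ⟨hg, Q, hQ⟩
    refine Groth.FunFld1.rational_of_ell_single hK hQ ?_
    have h := Groth.FunFld1.ell_eq_of_deg_ge hK (D := Finsupp.single Q (1 : ℤ)) (by
      rw [Groth.FunFld1.deg_single, hQ, hg]; norm_num)
    rw [Groth.FunFld1.deg_single, hQ, hg] at h
    omega
  · rintro ⟨x, hx⟩
    obtain ⟨Q, hQ, -, -⟩ := Groth.FunFld1.exists_simple_pole_of_rational hK hx
    exact ⟨Groth.FunFld1.genus_eq_zero_of_rational hK hx, Q, hQ⟩

end Groth.Agent.S10994
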