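import Groth.Statements.S10995
import Groth.Agent.FunFld1.GenusOne
-- import your own Groth.Agent.* helpers here

set_option autoImplicit false
open FunFld

namespace Groth.Agent.S10995

/-- A function field of one variable has an element with pole divisor of degree `1` iff it is a rational
function field. -/
theorem result (k K : Type*) [Field k] [Field K] [Algebra k K]
    (hK : FunFld.IsFunctionField k K) :
    (∃ (x : K) (P : FunFld.Place k K), P.deg = 1 ∧ P.ord x = -1 ∧
        ∀ Q : FunFld.Place k K, Q ≠ P → 0 ≤ Q.ord x) ↔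
      ∃ x : K, IntermediateField.adjoin k ({x} : Set K) = ⊤ := by
  constructor
  · rintro ⟨x, Q, hQ, hord, hrest⟩
    refine Groth.FunFld1.rational_of_ell_single hK hQ ?_
    have hx0 : x ≠ 0 := fun h => by simp [h] at hord
    have hmem : x ∈ FunFld.L (Finsupp.single Q (1 : ℤ)) := fun R => by
      rw [Groth.FunFld1.val_le_exp_iff R hx0]
      rcases eq_or_ne R Q with rfl | hne
      · rw [Finsupp.single_eq_same]; omega
      · rw [Finsupp.single_eq_of_ne hne]; have := hrest R hne; omega
    haveI := ((Groth.FunFld1.IsFF.of_isFunctionField hK)).finiteDimensional_L (Finsupp.single Q (1 : ℤ))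
    have hlt : FunFld.L (0 : FunFld.Divisor k K) < FunFld.L (Finsupp.single Q (1 : ℤ)) := by
      refine lt_of_le_of_ne (Groth.FunFld1.L_mono (Finsupp.single_nonneg.mpr zero_le_one)) fun h => ?_
      rw [← h] at hmem
      have := hmem Q
      rw [Groth.FunFld1.val_le_exp_iff Q hx0] at this
      simp only [Finsupp.coe_zero, Pi.zero_apply] at this
      omega
    have := Submodule.finrank_lt_finrank_of_lt hlt
    have h0 := Groth.FunFld1.ell_zero_eq hK
    unfold FunFld.ell at *
    omega
  · rintro ⟨x, hx⟩
    obtain ⟨Q, hQ, h1, h2⟩ := Groth.FunFld1.exists_simple_pole_of_rational hK hx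
    exact ⟨x, Q, hQ, h1, h2⟩

end Groth.Agent.S10995
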