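import Groth.Statements.S10997
import Groth.Agent.FunFld1.RiemannRoch
-- import your own Groth.Agent.* helpers here

set_option autoImplicit false
open FunFld

namespace Groth.Agent.S10997

/-- Given distinct places `P∞, P_1, …, P_n` of a function field of one variable, elements `x_i` and
integers `m_i`, some `x ∈ K` has `ord_{P_i}(x - x_i) = m_i` for all `i` and is integral outside
`{P∞, P_1, …, P_n}`. -/
theorem result (k K : Type*) [Field k] [Field K] [Algebra k K]
    (hK : FunFld.IsFunctionField k K) (Pinf : FunFld.Place k K) (n : ℕ) (P : Fin n → FunFld.Place k K) (hP : Function.Injective P)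
    (hinf : Pinf ∉ Set.range P) (x : Fin n → K) (m : Fin n → ℤ) :
    ∃ y : K, (∀ i, (P i).1 (y - x i) = WithZero.exp (-(m i))) ∧
      ∀ Q : FunFld.Place k K, Q ≠ Pinf → Q ∉ Set.range P → Q.1 y ≤ 1 := by
  classical
  let S : Finset (FunFld.Place k K) := Finset.univ.image P
  let xf : FunFld.Place k K → K := Function.extend P x 0
  let nf : FunFld.Place k K → ℤ := Function.extend P (fun i => -(m i)) 0
  obtain ⟨y, h1, h2⟩ := Groth.FunFld1.strong_approximation hK Pinf S (by
    simpa [S] using hinf) xf nf
  refine ⟨y, fun i => ?_, fun Q hQ hQP => h2 Q hQ (by simpa [S] using hQP)⟩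
  have := h1 (P i) (Finset.mem_image_of_mem P (Finset.mem_univ i))
  simpa only [xf, nf, hP.extend_apply] using this

end Groth.Agent.S10997
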