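import Groth.Statements.S11005
import Groth.Agent.FunFld1.Geometric

set_option autoImplicit false
universe u v
open FunFld
open scoped TensorProduct

namespace Groth.Agent.S11005

/-- An intermediate field `K₀` of a geometric function field of one variable `K/k` that is
transcendental over `k` is again a geometric function field of one variable over `k`. -/
theorem result (k : Type u) (K : Type v) [Field k] [Field K] [Algebra k K]
    (hK : FunFld.IsFunctionField k K) (hg : FunFld.IsGeometric k K) (K₀ : IntermediateField k K)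
    (h₀ : ∃ x ∈ K₀, Transcendental k x) : FunFld.IsFunctionField k K₀ ∧ FunFld.IsGeometric k K₀ := by
  classical
  have hF := Groth.FunFld1.IsFF.of_isFunctionField hK
  obtain ⟨x, hx₀, hx⟩ := h₀
  have hx' : Transcendental k (⟨x, hx₀⟩ : K₀) := fun h => hx (h.algHom K₀.val)
  haveI := hF.finiteDimensional hx
  let e : IntermediateField.adjoin k ({(⟨x, hx₀⟩ : K₀)} : Set K₀) ≃ₐ[k]
      IntermediateField.adjoin k ({x} : Set K) :=
    (IntermediateField.equivMap _ K₀.val).trans
      (IntermediateField.equivOfEq (by rw [IntermediateField.adjoin_map, Set.image_singleton]; rfl))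
  have hfinK : FiniteDimensional (IntermediateField.adjoin k ({(⟨x, hx₀⟩ : K₀)} : Set K₀)) K :=
    Module.Finite.of_equiv_equiv e.symm.toRingEquiv (RingEquiv.refl K)
      (RingHom.ext fun a => congrArg Subtype.val (e.apply_symm_apply a))
  have hfin : FiniteDimensional (IntermediateField.adjoin k ({(⟨x, hx₀⟩ : K₀)} : Set K₀)) K₀ :=
    FiniteDimensional.of_injective
      (IsScalarTower.toAlgHom (IntermediateField.adjoin k ({(⟨x, hx₀⟩ : K₀)} : Set K₀)) K₀ K).toLinearMap
      (algebraMap K₀ K).injective
  refine ⟨⟨⟨_, hx', hfin⟩, fun y hy => ?_⟩, ?_⟩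
  · obtain ⟨c, hc⟩ := hK.2 y (hy.algHom K₀.val)
    exact ⟨c, Subtype.ext hc⟩
  · intro k' _ _ _
    haveI : IsDomain (k' ⊗[k] K) := (hg k' inferInstance).isDomain
    let f : k' ⊗[k] K₀ →ₐ[k] k' ⊗[k] K := Algebra.TensorProduct.map (AlgHom.id k k') K₀.val
    have hf : Function.Injective f :=
      Module.Flat.lTensor_preserves_injective_linearMap (M := k') K₀.val.toLinearMap
        K₀.val.injective
    haveI : IsDomain (k' ⊗[k] K₀) := Function.Injective.isDomain f.toRingHom hf
    exact Groth.FunFld1.isField_tensor_of_isDomain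
      (MulEquiv.isDomain (k' ⊗[k] K₀) (Algebra.TensorProduct.comm k K₀ k').toRingEquiv.toMulEquiv)

end Groth.Agent.S11005
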