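import Groth.Statements.S11012
import Groth.Agent.FunFld1.ConstComp
import Groth.Agent.FunFld1.Residues

set_option autoImplicit false
universe u v
open FunFld

namespace Groth.Agent.S11012

/-- Under a finite separable constant extension `k'/k` of a geometric function field of one variable,
the integral closure of `O_P` in `k' ⊗_k K` is `k' ⊗_k O_P` and every place above `P` has
ramification index `1`. -/
theorem result (k k' : Type u) (K K' : Type v) [Field k] [Field k'] [Field K] [Field K']
    [Algebra k k'] [FiniteDimensional k k'] [Algebra k K] [Algebra K K'] [Algebra k' K'] [Algebra k K']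
    [IsScalarTower k k' K'] [IsScalarTower k K K']
    (h : Function.Bijective (Algebra.TensorProduct.productMap
      (IsScalarTower.toAlgHom k k' K') (IsScalarTower.toAlgHom k K K')))
    (hK : FunFld.IsFunctionField k K) (hg : FunFld.IsGeometric k K) [Algebra.IsSeparable k k']
    (P : FunFld.Place k K) [Algebra P.O K'] [IsScalarTower P.O K K']
    (Q : FunFld.Place k K') (hQ : FunFld.IsOver Q P) :
    (integralClosure P.O K').toSubring =
      (Algebra.adjoin P.O (Set.range (algebraMap k' K'))).toSubring ∧
    FunFld.IsOverWith Q P 1 := by
  classical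
  haveI := Groth.FunFld1.finiteDimensional_of_tensor h
  have hF := Groth.FunFld1.IsFF.of_isFunctionField hK
  obtain ⟨θ, hθ⟩ := Field.exists_primitive_element k k'
  have hi : IsIntegral k θ := IsIntegral.of_finite k θ
  have hi' : IsIntegral k (algebraMap k' K' θ) := hi.map (IsScalarTower.toAlgHom k k' K')
  have hmin : minpoly K (algebraMap k' K' θ) = (minpoly k θ).map (algebraMap k K) := by
    rw [Groth.FunFld1.minpoly_map_of_closed hK.2 hi', minpoly.algebraMap_eq (algebraMap k' K').injective]
  have hgood : Groth.FunFld1.GoodGen P (algebraMap k' K' θ) ((minpoly k θ).map (algebraMap k P.O)) := by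
    refine ⟨?_, (minpoly.monic hi).map _, Polynomial.Separable.map (Algebra.IsSeparable.isSeparable k θ), ?_⟩
    · refine IntermediateField.eq_of_le_of_finrank_eq le_top ?_
      rw [IntermediateField.finrank_top', IntermediateField.adjoin.finrank hi'.tower_top, hmin,
        Polynomial.natDegree_map, ← IntermediateField.adjoin.finrank hi, hθ, IntermediateField.finrank_top',
        Groth.FunFld1.finrank_of_tensor h]
    · rw [Polynomial.map_map, hmin]
      rfl
  refine ⟨?_, hgood.isOverWith_one hF hQ⟩
  refine congrArg Subalgebra.toSubring (le_antisymm ?_ (Algebra.adjoin_le ?_))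
  · rw [hgood.integralClosure_eq]
    exact Algebra.adjoin_mono (Set.singleton_subset_iff.mpr ⟨θ, rfl⟩)
  · rintro _ ⟨c, rfl⟩
    rw [SetLike.mem_coe, hF.mem_integralClosure_iff P]
    intro R _
    by_cases hc : c = 0
    · simp [hc]
    · exact (Groth.FunFld1.val_eq_one_of_isAlgebraic R
        ((Algebra.IsAlgebraic.isAlgebraic c).algebraMap) (by simpa using hc)).le

end Groth.Agent.S11012
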