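import Groth.Statements.S11016
import Groth.Agent.FunFld1.Constants
-- import your own Groth.Agent.* helpers here

set_option autoImplicit false
open FunFld

namespace Groth.Agent.S11016

/-- `L(D) ≠ 0` iff there is an effective divisor linearly equivalent to `D`. -/
theorem result (k K : Type*) [Field k] [Field K] [Algebra k K]
    (hK : FunFld.IsFunctionField k K) (D : FunFld.Divisor k K) :
    FunFld.L D ≠ ⊥ ↔ ∃ x : K, x ≠ 0 ∧ 0 ≤ D + FunFld.div k x := by
  refine ⟨(Groth.FunFld1.IsFF.of_isFunctionField hK).exists_effective_of_ne_bot, fun ⟨x, hx, hD⟩ h => hx ?_⟩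
  have hm := ((Groth.FunFld1.IsFF.of_isFunctionField hK).mem_L_iff hx).mpr hD
  rw [h] at hm
  exact (Submodule.mem_bot k).mp hm

end Groth.Agent.S11016
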