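import Groth.Statements.S11017
-- import your own Groth.Agent.* helpers here

set_option autoImplicit false
open FunFld

namespace Groth.Agent.S11017

/-- For a Weil differential `ω` with divisor `C`, `ord_P [ω] ≥ e` iff `ω` kills every repartition
concentrated at `P` with `P`-component of order at least `-e`. -/
theorem result (k K : Type*) [Field k] [Field K] [Algebra k K] (ω : Module.Dual k (FunFld.adele k K)) (C : FunFld.Divisor k K) (hω : FunFld.IsDivOf ω C)
    (P : FunFld.Place k K) (e : ℤ) :
    e ≤ C P ↔ ∀ (a : FunFld.Place k K → K) (ha : a ∈ FunFld.adele k K),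
      (∀ Q, Q ≠ P → a Q = 0) → P.1 (a P) ≤ WithZero.exp e → ω ⟨a, ha⟩ = 0 := by
  classical
  constructor
  · intro he a ha hs hb
    have hE : C - Finsupp.single P (C P - e) ≤ C := by
      intro Q
      simp only [Finsupp.sub_apply, Finsupp.single_apply]
      split_ifs with h
      · omega
      · omega
    have hmem := (hω _).mpr hE
    rw [FunFld.WD, Submodule.mem_dualAnnihilator] at hmem
    apply hmem
    rw [FunFld.ADK, Submodule.mem_comap]
    refine Submodule.mem_sup_left fun Q => ?_
    by_cases h : Q = P
    · subst h
      refine hb.trans_eq ?_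
      simp
    · simp [hs Q h]
  · intro hkill
    let E := C + Finsupp.single P (max (e - C P) 0)
    suffices hE : ω ∈ FunFld.WD E by
      have := (hω E).mp hE P
      simp only [E, Finsupp.add_apply, Finsupp.single_eq_same] at this
      omega
    have hCC := (hω C).mpr le_rfl
    rw [FunFld.WD, Submodule.mem_dualAnnihilator] at hCC ⊢
    intro a ha
    rw [FunFld.ADK, Submodule.mem_comap] at ha
    obtain ⟨u, hu, v, hv, huv⟩ := Submodule.mem_sup.mp ha
    by_cases hle : e ≤ C P
    · apply hCC
      rw [FunFld.ADK, Submodule.mem_comap]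
      refine Submodule.mem_sup.mpr ⟨u, fun Q => (hu Q).trans_eq ?_, v, hv, huv⟩
      simp [E, Finsupp.single_apply, max_eq_right (show e - C P ≤ 0 by omega)]
    let w : FunFld.Place k K → K := Pi.single P (u P)
    have hw : w ∈ FunFld.adele k K := by
      show ∀ᶠ Q : FunFld.Place k K in Filter.cofinite, Q.1 (w Q) ≤ 1
      rw [Filter.eventually_cofinite]
      refine (Set.finite_singleton P).subset fun Q hQ => ?_
      by_contra h
      exact hQ (by simp [w, show Q ≠ P from h])
    have h1 : ω ⟨w, hw⟩ = 0 := by
      refine hkill w hw (fun Q hQ => by simp [w, hQ]) ?_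
      refine le_of_eq_of_le (by simp [w]) ((hu P).trans_eq ?_)
      simp [E, max_eq_left (show 0 ≤ e - C P by omega)]
    have h2 : ω (a - ⟨w, hw⟩) = 0 := by
      apply hCC
      rw [FunFld.ADK, Submodule.mem_comap, map_sub]
      refine Submodule.mem_sup.mpr ⟨u - w, fun Q => ?_, v, hv, ?_⟩
      · by_cases h : Q = P
        · subst h; simp [w]
        · simp only [Pi.sub_apply, w, Pi.single_eq_of_ne h, sub_zero]
          refine (hu Q).trans_eq ?_
          simp [E, Finsupp.single_apply, Ne.symm h]
      · rw [sub_add_eq_add_sub, huv]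
        rfl
    rw [map_sub, h1, sub_zero] at h2
    exact h2

end Groth.Agent.S11017
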