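import Groth.Statements.S11022
import Groth.Agent.FunFld1.Extension
-- import your own Groth.Agent.* helpers here

set_option autoImplicit false
open FunFld

namespace Groth.Agent.S11022

/-- In a finite Galois extension of a geometric function field of one variable, `|G : G₀|` is the number
of places above `P`, and all places above `P` share the same `e` and `f`. -/
theorem result (k K K' : Type*) [Field k] [Field K] [Field K'] [Algebra k K] [Algebra K K'] [Algebra k K']
    [IsScalarTower k K K'] [FiniteDimensional K K'] (hK : FunFld.IsFunctionField k K) (hg : FunFld.IsGeometric k K) [IsGalois K K'] (Q : FunFld.Place k K') (P : FunFld.Place k K) (e : ℕ) (he : FunFld.IsOverWith Q P e) :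
    Nat.card {Q' : FunFld.Place k K' // FunFld.IsOver Q' P} *
        Nat.card ((Q.O).decompositionSubgroup K) = Module.finrank K K' ∧
    ∀ Q' : FunFld.Place k K', FunFld.IsOver Q' P → FunFld.IsOverWith Q' P e ∧ Q'.deg = Q.deg := by
  open scoped Pointwise in
  classical
  have htrans : ∀ Q' : FunFld.Place k K', FunFld.IsOver Q' P → ∃ σ : K' ≃ₐ[K] K', Groth.FunFld1.comapPlace σ Q = Q' :=
    fun Q' h' => Groth.FunFld1.exists_comapPlace_of_isOver ⟨e, he⟩ h'
  refine ⟨?_, fun Q' h' => ?_⟩
  swap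
  · obtain ⟨σ, rfl⟩ := htrans Q' h'
    exact ⟨Groth.FunFld1.isOverWith_comapPlace σ he, Groth.FunFld1.deg_comapPlace σ Q⟩
  have hmem : ∀ Q' : {Q' : FunFld.Place k K' // FunFld.IsOver Q' P}, Q'.1.O ∈ MulAction.orbit (K' ≃ₐ[K] K') Q.O := by
    intro Q'
    obtain ⟨σ, hσ⟩ := htrans Q'.1 Q'.2
    refine ⟨σ⁻¹, ?_⟩
    rw [← hσ]
    ext y
    simp only [ValuationSubring.mem_pointwise_smul_iff_inv_smul_mem, inv_inv]
    rfl
  let f : {Q' : FunFld.Place k K' // FunFld.IsOver Q' P} → MulAction.orbit (K' ≃ₐ[K] K') Q.O :=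
    fun Q' => ⟨Q'.1.O, hmem Q'⟩
  have hf : Function.Bijective f := by
    refine ⟨fun Q₁ Q₂ hQ => Subtype.ext (Groth.FunFld1.Place.ext_O (congrArg Subtype.val hQ)), ?_⟩
    rintro ⟨A, σ, rfl⟩
    refine ⟨⟨Groth.FunFld1.comapPlace σ⁻¹ Q, e, Groth.FunFld1.isOverWith_comapPlace _ he⟩, Subtype.ext ?_⟩
    ext y
    simp only [ValuationSubring.mem_pointwise_smul_iff_inv_smul_mem]
    rfl
  let Φ := (Equiv.ofBijective f hf).symm
  rw [← Nat.card_congr Φ, Nat.card_coe_set_eq, ← MulAction.index_stabilizer, Subgroup.index_mul_card,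
    IsGalois.card_aut_eq_finrank]

end Groth.Agent.S11022
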