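import Groth.Statements.S11021
import Groth.Agent.FunFld1.Extension
import Groth.Agent.S11022
-- import your own Groth.Agent.* helpers here

set_option autoImplicit false
open FunFld

namespace Groth.Agent.S11021

/-- For a place `Q` above `P` in a finite Galois extension of a geometric function field of one
variable, the decomposition group has order `e(Q|P) f(Q|P)`; stated as `|G₀| · deg P = e · deg_k Q`. -/
theorem result (k K K' : Type*) [Field k] [Field K] [Field K'] [Algebra k K] [Algebra K K'] [Algebra k K']
    [IsScalarTower k K K'] [FiniteDimensional K K'] (hK : FunFld.IsFunctionField k K) (hg : FunFld.IsGeometric k K) [IsGalois K K'] (Q : FunFld.Place k K') (P : FunFld.Place k K) (e : ℕ) (he : FunFld.IsOverWith Q P e) :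
    Nat.card ((Q.O).decompositionSubgroup K) * P.deg = e * Q.deg := by
  classical
  obtain ⟨h1, h2⟩ := Groth.Agent.S11022.result k K K' hK hg Q P e he
  have hs := ((Groth.FunFld1.IsFF.of_isFunctionField hK)).sum_ramIdx_deg (K' := K') P
  have hcard : Nat.card {Q' : FunFld.Place k K' // FunFld.IsOver Q' P} =
      (((Groth.FunFld1.IsFF.of_isFunctionField hK)).above P : Finset (FunFld.Place k K')).card := by
    rw [← Nat.card_eq_finsetCard]
    exact Nat.card_congr (Equiv.subtypeEquivRight fun Q' => (((Groth.FunFld1.IsFF.of_isFunctionField hK)).mem_above).symm)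
  rw [Finset.sum_congr rfl (fun Q' hQ' => by
    obtain ⟨a, b⟩ := h2 Q' (((Groth.FunFld1.IsFF.of_isFunctionField hK)).mem_above.mp hQ')
    rw [Groth.FunFld1.ramIdx_eq a, b]), Finset.sum_const, smul_eq_mul, ← h1, hcard] at hs
  have hpos : 0 < (((Groth.FunFld1.IsFF.of_isFunctionField hK)).above P : Finset (FunFld.Place k K')).card :=
    Finset.card_pos.mpr ⟨Q, ((Groth.FunFld1.IsFF.of_isFunctionField hK)).mem_above.mpr ⟨e, he⟩⟩
  rw [mul_assoc] at hs
  exact (mul_left_cancel₀ hpos.ne' hs).symm

end Groth.Agent.S11021
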