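import Groth.Statements.S11024
import Groth.Agent.FunFld1.RamGroups

set_option autoImplicit false
open FunFld

namespace Groth.Agent.S11024

/-- The quotient `G₁/G₂` of the first two ramification groups of a place in a finite Galois extension of
a geometric function field of one variable is cyclic. (Residue field of `Q` assumed separable over
`k`, stronger than the published `F_Q/F_P` separable.) -/
theorem result (k K K' : Type*) [Field k] [Field K] [Field K'] [Algebra k K] [Algebra K K'] [Algebra k K']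
    [IsScalarTower k K K'] [FiniteDimensional K K'] (hK : FunFld.IsFunctionField k K) (hg : FunFld.IsGeometric k K) [IsGalois K K'] (Q : FunFld.Place k K') [Algebra.IsSeparable k (IsLocalRing.ResidueField Q.O)] :
    ∃ σ₀ : K' ≃ₐ[K] K', (∀ x : K', Q.1 x ≤ 1 → Q.1 (σ₀ x - x) ≤ WithZero.exp (-(1 : ℤ))) ∧
      ∀ σ : K' ≃ₐ[K] K', (∀ x : K', Q.1 x ≤ 1 → Q.1 (σ x - x) ≤ WithZero.exp (-(1 : ℤ))) →
        ∃ n : ℕ, (∀ x : K', Q.1 x ≤ 1 → Q.1 (((σ₀ ^ n)⁻¹ * σ) x - x) ≤ WithZero.exp (-(2 : ℤ))) := by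
  classical
  obtain ⟨t, ht⟩ := Groth.FunFld1.exists_val_eq_exp Q (-1)
  have ht0 : t ≠ 0 := Groth.FunFld1.ne_zero_of_val_eq ht
  have ht1 : Q.1 t ≤ 1 := ht.trans_le (Groth.FunFld1.exp_le_one.mpr (by omega))
  have hu : ∀ σ : Groth.FunFld1.RamG K Q 1, Q.1 (σ.1 t / t) ≤ 1 := fun σ => by
    rw [map_div₀, Groth.FunFld1.val_apply_of_comap σ.2.1, ht, div_self WithZero.exp_ne_zero]
  let φ : Groth.FunFld1.RamG K Q 1 →* IsLocalRing.ResidueField Q.O :=
    { toFun := fun σ => IsLocalRing.residue Q.O ⟨σ.1 t / t, hu σ⟩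
      map_one' := by
        refine (congrArg (IsLocalRing.residue Q.O) (Subtype.ext ?_)).trans (map_one _)
        show (1 : K' ≃ₐ[K] K') t / t = 1
        rw [AlgEquiv.one_apply, div_self ht0]
      map_mul' := fun σ τ => by
        rw [← map_mul, Groth.FunFld1.residue_eq_iff]
        show Q.1 (σ.1 (τ.1 t) / t - σ.1 t / t * (τ.1 t / t)) < 1
        have hσt : σ.1 t ≠ 0 := by simpa using ht0
        rw [show σ.1 (τ.1 t) / t - σ.1 t / t * (τ.1 t / t) = σ.1 t / t * (σ.1 (τ.1 t / t) - τ.1 t / t) by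
          rw [map_div₀]; field_simp, map_mul]
        exact (mul_le_of_le_one_left' (hu σ)).trans_lt
          (Groth.FunFld1.lt_one_iff_le_exp_neg_one.mpr (by simpa using σ.2.2 _ (hu τ))) }
  let ψ := φ.toHomUnits
  haveI : IsCyclic ψ.range := isCyclic_of_injective_ringHom ((Units.coeHom (IsLocalRing.ResidueField Q.O)).comp ψ.range.subtype)
    (Units.val_injective.comp Subtype.val_injective)
  obtain ⟨g, hgen⟩ := IsCyclic.exists_generator (α := ψ.range)
  obtain ⟨σ₀, hσ₀⟩ := g.2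
  refine ⟨σ₀.1, by simpa using σ₀.2.2, fun σ hσ => ?_⟩
  let σ' : Groth.FunFld1.RamG K Q 1 := ⟨σ, Groth.FunFld1.mem_RamG_iff.mpr (by simpa using hσ)⟩
  obtain ⟨n, hn⟩ := (mem_powers_iff_mem_zpowers (x := g)).mpr (hgen ⟨ψ σ', ⟨σ', rfl⟩⟩)
  refine ⟨n, ?_⟩
  have hker : ψ ((σ₀ ^ n)⁻¹ * σ') = 1 := by
    rw [map_mul, map_inv, map_pow, hσ₀]
    have := congrArg Subtype.val hn
    simp only [SubmonoidClass.coe_pow] at this
    rw [this, inv_mul_cancel]
  set ρ := (σ₀ ^ n)⁻¹ * σ'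
  have h2 : Q.1 (ρ.1 t - t) ≤ WithZero.exp (-(((1 : ℕ) : ℤ) + 1)) := by
    have h := congrArg Units.val hker
    rw [Units.val_one, MonoidHom.coe_toHomUnits, ← map_one (IsLocalRing.residue Q.O)] at h
    have h' : Q.1 (ρ.1 t / t - 1) < 1 := (Groth.FunFld1.residue_eq_iff Q _ _).mp h
    rw [show ρ.1 t - t = (ρ.1 t / t - 1) * t by rw [sub_mul, div_mul_cancel₀ _ ht0, one_mul], map_mul, ht]
    refine (mul_le_mul' (Groth.FunFld1.lt_one_iff_le_exp_neg_one.mp h') le_rfl).trans ?_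
    rw [← WithZero.exp_add]; norm_num
  have h3 := (Groth.FunFld1.mem_RamG_succ le_rfl ρ.2 ht h2).2
  intro x hx
  simpa [ρ, σ'] using h3 x hx

end Groth.Agent.S11024
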