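import Groth.Statements.S11025
import Groth.Agent.FunFld1.RamGroups

set_option autoImplicit false
open FunFld

namespace Groth.Agent.S11025

/-- For `i ≥ 2` the ramification quotient `G_i/G_{i+1}` embeds in the additive group of the residue
field: it is abelian, trivial in characteristic `0`, and elementary abelian of exponent `p` in
characteristic `p`. (Residue field of `Q` assumed separable over `k`.) -/
theorem result (k K K' : Type*) [Field k] [Field K] [Field K'] [Algebra k K] [Algebra K K'] [Algebra k K']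
    [IsScalarTower k K K'] [FiniteDimensional K K'] (hK : FunFld.IsFunctionField k K) (hg : FunFld.IsGeometric k K) [IsGalois K K'] (Q : FunFld.Place k K') [Algebra.IsSeparable k (IsLocalRing.ResidueField Q.O)]
    (i : ℕ) (hi : 2 ≤ i) (σ τ : K' ≃ₐ[K] K') (hσ : (∀ x : K', Q.1 x ≤ 1 → Q.1 (σ x - x) ≤ WithZero.exp (-(i : ℤ)))) (hτ : (∀ x : K', Q.1 x ≤ 1 → Q.1 (τ x - x) ≤ WithZero.exp (-(i : ℤ)))) :
    (∀ x : K', Q.1 x ≤ 1 → Q.1 ((σ * τ * σ⁻¹ * τ⁻¹) x - x) ≤ WithZero.exp (-((i + 1) : ℤ))) ∧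
    (ringChar K = 0 → (∀ x : K', Q.1 x ≤ 1 → Q.1 (σ x - x) ≤ WithZero.exp (-((i + 1) : ℤ)))) ∧
    ∀ p : ℕ, p.Prime → ringChar K = p → (∀ x : K', Q.1 x ≤ 1 → Q.1 ((σ ^ p) x - x) ≤ WithZero.exp (-((i + 1) : ℤ))) := by
  classical
  obtain ⟨t, ht⟩ := Groth.FunFld1.exists_val_eq_exp Q (-1)
  have ht1 : Q.1 t ≤ 1 := ht.trans_le (Groth.FunFld1.exp_le_one.mpr (by omega))
  have hσ' : σ ∈ Groth.FunFld1.RamG K Q i := Groth.FunFld1.mem_RamG_iff.mpr hσ
  have hτ' : τ ∈ Groth.FunFld1.RamG K Q i := Groth.FunFld1.mem_RamG_iff.mpr hτ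
  have hinv : ∀ ρ : K' ≃ₐ[K] K', ρ ∈ Groth.FunFld1.RamG K Q i →
      Q.1 ((ρ t - t) + (ρ⁻¹ t - t)) ≤ WithZero.exp (-((i : ℤ) + 1)) := by
    intro ρ hρ
    have h := Groth.FunFld1.val_delta_mul hi hρ (inv_mem hρ) ht
    rw [mul_inv_cancel, AlgEquiv.one_apply, sub_self, zero_sub, Valuation.map_neg] at h
    exact h
  have hfin : ∀ ρ : K' ≃ₐ[K] K', ρ ∈ Groth.FunFld1.RamG K Q i →
      Q.1 (ρ t - t) ≤ WithZero.exp (-((i : ℤ) + 1)) →
      ∀ x : K', Q.1 x ≤ 1 → Q.1 (ρ x - x) ≤ WithZero.exp (-((i + 1) : ℤ)) := by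
    intro ρ hρ h x hx
    simpa using (Groth.FunFld1.mem_RamG_succ (show 1 ≤ i by omega) hρ ht h).2 x hx
  refine ⟨?_, fun h0 => hfin σ hσ' ?_, fun p hp hpK => ?_⟩
  · refine hfin _ (mul_mem (mul_mem (mul_mem hσ' hτ') (inv_mem hσ')) (inv_mem hτ')) ?_
    have e1 := Groth.FunFld1.val_delta_mul hi (mul_mem (mul_mem hσ' hτ') (inv_mem hσ')) (inv_mem hτ') ht
    have e2 := Groth.FunFld1.val_delta_mul hi (mul_mem hσ' hτ') (inv_mem hσ') ht
    have e3 := Groth.FunFld1.val_delta_mul hi hσ' hτ' ht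
    have h := Valuation.map_add_le Q.1 (Valuation.map_add_le Q.1 (Valuation.map_add_le Q.1 e1 e2) e3)
      (Valuation.map_add_le Q.1 (hinv σ hσ') (hinv τ hτ'))
    refine le_trans (le_of_eq (congrArg Q.1 ?_)) h
    ring
  · haveI : CharZero K := (CharP.ringChar_zero_iff_CharZero K).mp h0
    have hN : (σ : K' ≃ₐ[K] K') ^ orderOf σ = 1 := pow_orderOf_eq_one σ
    have h := Groth.FunFld1.val_delta_pow hi hσ' ht (orderOf σ)
    rw [hN, AlgEquiv.one_apply, sub_self, zero_sub, Valuation.map_neg, map_mul] at h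
    have hN0 : ((orderOf σ : k)) ≠ 0 := by
      intro h0'
      have := congrArg (algebraMap k K) h0'
      rw [map_natCast, map_zero, Nat.cast_eq_zero] at this
      exact (orderOf_pos σ).ne' this
    have hone := Groth.FunFld1.val_algebraMap Q hN0
    rw [map_natCast] at hone
    rwa [hone, one_mul] at h
  · haveI : Fact p.Prime := ⟨hp⟩
    haveI : CharP K' p := (RingHom.charP_iff (algebraMap K K') (algebraMap K K').injective p).mp
      (hpK ▸ ringChar.charP K)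
    refine hfin _ (pow_mem hσ' p) ?_
    have h := Groth.FunFld1.val_delta_pow hi hσ' ht p
    rwa [CharP.cast_eq_zero, zero_mul, sub_zero] at h

end Groth.Agent.S11025
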