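import Groth.Statements.S11026
import Groth.Agent.FunFld1.Geometric

set_option autoImplicit false
universe u v
open FunFld

namespace Groth.Agent.S11026

/-- A weakly separable finite extension `K'/k'` of a geometric function field `K/k` (the map `Ω_{K/k} →
Ω_{K'/k'}` injective) is separable over the compositum `k'K`. -/
theorem result (k k' : Type u) (K K' : Type v) [Field k] [Field k'] [Field K] [Field K']
    [Algebra k k'] [Algebra k K] [Algebra K K'] [Algebra k' K'] [Algebra k K']
    [IsScalarTower k k' K'] [IsScalarTower k K K'] [FiniteDimensional K K']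
    (hK : FunFld.IsFunctionField k K) (hg : FunFld.IsGeometric k K)
    (hK' : FunFld.IsFunctionField k' K') (hg' : FunFld.IsGeometric k' K')
    (hw : Function.Injective (KaehlerDifferential.map k k' K K')) :
    Algebra.IsSeparable (IntermediateField.adjoin K (Set.range (algebraMap k' K'))) K' := by
  classical
  have hF := Groth.FunFld1.IsFF.of_isFunctionField hK
  obtain ⟨x, hx, hsep⟩ := Groth.Funfld2.Residue.exists_separating hF hg
  have hD := (Groth.FunFld1.kaehler_of_separating hx).2
  have hD' : KaehlerDifferential.D k' K' (algebraMap K K' x) ≠ 0 := by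
    intro h
    refine hD (hw ?_)
    rw [map_zero, KaehlerDifferential.map_D, h]
  obtain ⟨-, hsep'⟩ := Groth.FunFld1.separating_of_D_ne_zero hK' hg' hD'
  set M := IntermediateField.adjoin K (Set.range (algebraMap k' K'))
  set F := IntermediateField.adjoin k' ({algebraMap K K' x} : Set K')
  have hle : ∀ a ∈ F, a ∈ M := by
    intro a ha
    induction ha using IntermediateField.adjoin_induction with
    | mem z hz => rw [Set.mem_singleton_iff.mp hz]; exact M.algebraMap_mem x
    | algebraMap c => exact IntermediateField.subset_adjoin K _ ⟨c, rfl⟩
    | add a b _ _ ha hb => exact add_mem ha hb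
    | mul a b _ _ ha hb => exact mul_mem ha hb
    | inv a _ ha => exact inv_mem ha
  letI : Algebra F M := ((algebraMap F K').codRestrict M fun a => hle a a.2).toAlgebra
  haveI : IsScalarTower F M K' := IsScalarTower.of_algebraMap_eq fun _ => rfl
  exact Algebra.isSeparable_tower_top_of_isSeparable F M K'

end Groth.Agent.S11026
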