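import Groth.Statements.S11028
import Groth.Agent.FunFld1.ArtinSchreier

set_option autoImplicit false
open FunFld

namespace Groth.Agent.S11028

/-- For `k` perfect of characteristic `2` and `K = k(x, y)` with `y² + y = f(x)`, all poles of `f` of
odd order `2d_i - 1` at places `p_i` of `k(x)`, the genus of `K` is `-1 + ∑ d_i deg p_i`. -/
theorem result (k K : Type*) [Field k] [Field K] [PerfectField k] (h2 : ringChar k = 2) [Algebra k K]
    [Algebra (RatFunc k) K] [IsScalarTower k (RatFunc k) K] (hK : FunFld.IsFunctionField k K)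
    (hdeg : Module.finrank (RatFunc k) K = 2) (y : K) (hy : y ∉ Set.range (algebraMap (RatFunc k) K))
    (f : RatFunc k) (heq : y ^ 2 + y = algebraMap (RatFunc k) K f)
    (hodd : ∀ P : FunFld.Place k (RatFunc k), FunFld.div k f P < 0 → Odd (FunFld.div k f P)) :
    (FunFld.genus k K : ℤ) = -1 + ∑ P ∈ (FunFld.div k f).support with FunFld.div k f P < 0,
      (1 - FunFld.div k f P) / 2 * (P.deg : ℤ) := by
  classical
  have hAS : Groth.FunFld1.ASExt (k := k) y f := ⟨by
    haveI : CharP k 2 := h2 ▸ ringChar.charP k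
    exact CharP.cast_eq_zero k 2, hdeg, hy, heq⟩
  have hFf := Groth.FunFld1.isFunctionField_ratFunc k
  have hF := Groth.FunFld1.IsFF.of_isFunctionField hFf
  have hg0 := Groth.FunFld1.genus_eq_zero_of_rational hFf RatFunc.adjoin_X
  set S := (FunFld.div k f).support.filter fun P => FunFld.div k f P < 0 with hS
  set A : FunFld.Divisor k (RatFunc k) := ∑ P ∈ S, Finsupp.single P ((1 - FunFld.div k f P) / 2) with hA
  have hAP : ∀ P, A P = if P ∈ S then (1 - FunFld.div k f P) / 2 else 0 := by
    intro P
    rw [hA, Finsupp.coe_finsetSum, Finset.sum_apply]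
    simp only [Finsupp.single_apply]
    rw [Finset.sum_ite_eq']
  have hmemS : ∀ P, P ∈ S ↔ P.ord f < 0 := fun P => by
    rw [hS, Finset.mem_filter, Finsupp.mem_support_iff, hF.div_apply]
    constructor
    · exact fun h => h.2
    · exact fun h => ⟨by omega, h⟩
  have h := hAS.genus_eq hFf hg0 hK A (fun P hP => ?_) (fun P hP => ?_)
  · rw [h]
    congr 1
    rw [hA]
    have key : ∀ T : Finset (FunFld.Place k (RatFunc k)),
        FunFld.Divisor.deg (∑ P ∈ T, Finsupp.single P ((1 - FunFld.div k f P) / 2)) =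
          ∑ P ∈ T, (1 - FunFld.div k f P) / 2 * (P.deg : ℤ) := by
      intro T
      induction T using Finset.induction with
      | empty => simp [Groth.FunFld1.deg_zero]
      | insert P T hP ih =>
        rw [Finset.sum_insert hP, Finset.sum_insert hP, Groth.FunFld1.deg_add, Groth.FunFld1.deg_single, ih]
    exact key S
  · have hlt : P.ord f < 0 := (Groth.FunFld1.one_lt_val_iff P f).mp hP
    have hf0 : f ≠ 0 := fun e => by simp [e] at hP
    have hdiv : FunFld.div k f P = P.ord f := hF.div_apply f P
    have hod := hodd P (by omega)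
    rw [hdiv] at hod
    refine ⟨(-P.ord f).toNat, ?_, ?_, ?_⟩
    · rw [Groth.FunFld1.val_eq_exp_neg_ord P hf0]; congr 1; omega
    · obtain ⟨j, hj⟩ := hod
      exact ⟨(-j - 1).toNat, by omega⟩
    · rw [hAP, if_pos ((hmemS P).mpr hlt), hdiv]
      obtain ⟨j, hj⟩ := hod
      omega
  · rw [hAP, if_neg]
    rw [hmemS]
    have := (Groth.FunFld1.val_le_one_iff P f).mp hP
    omega

end Groth.Agent.S11028
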