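import Groth.Statements.S11029
import Groth.Agent.FunFld1.RamGroups

set_option autoImplicit false
open FunFld

namespace Groth.Agent.S11029

/-- For an intermediate field `E` of a finite Galois extension `K'/K` of a geometric function field of
one variable and a place `Q` of `K'`, `e(Q ∩ E | Q ∩ K) = 1` iff `E` lies in the inertia field `K₁`
of `Q`. (Residue field of `Q` assumed separable over `k`; the total ramification of `K'/K₁` is not
stated.) -/
theorem result (k K K' : Type*) [Field k] [Field K] [Field K'] [Algebra k K] [Algebra K K'] [Algebra k K']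
    [IsScalarTower k K K'] [FiniteDimensional K K'] (hK : FunFld.IsFunctionField k K) (hg : FunFld.IsGeometric k K) [IsGalois K K'] (Q : FunFld.Place k K') [Algebra.IsSeparable k (IsLocalRing.ResidueField Q.O)]
    (E : IntermediateField K K') :
    Set.range (Q.1.comap (algebraMap E K')) = Set.range (Q.1.comap (algebraMap K K')) ↔
      E ≤ IntermediateField.fixedField
        (((Q.O).inertiaSubgroup K).map ((Q.O).decompositionSubgroup K).subtype) := by
  classical
  have hF := Groth.FunFld1.IsFF.of_isFunctionField hK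
  obtain ⟨P, hP⟩ := hF.exists_isOver Q
  haveI : IsScalarTower k E K' := IsScalarTower.of_algebraMap_eq fun c => by
    rw [IsScalarTower.algebraMap_apply k K K', IsScalarTower.algebraMap_apply k K E,
      ← IsScalarTower.algebraMap_apply K E K']
  have hFE : Groth.FunFld1.IsFF k E := hF.ext
  haveI : IsGalois E K' := IsGalois.tower_top_intermediateField E
  obtain ⟨R, hR⟩ := hFE.exists_isOver Q
  obtain ⟨P', hP'⟩ := hF.exists_isOver R
  have hQP := Groth.FunFld1.isOverWith_ramIdx hP
  have hQR := Groth.FunFld1.isOverWith_ramIdx hR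
  have hcardP := Groth.FunFld1.natCard_RamG_one hF hP
  have hcardR := Groth.FunFld1.natCard_RamG_one (K := E) hFE hR
  -- inertia over `E` inside inertia over `K`
  set I := Groth.FunFld1.RamG K Q 1 with hI
  have hIE : Nat.card (Groth.FunFld1.RamG E Q 1) = Nat.card ↥(I ⊓ E.fixingSubgroup) := by
    refine Nat.card_congr
      { toFun := fun g => ⟨g.1.restrictScalars K,
          Groth.FunFld1.mem_RamG_iff.mpr g.2.2, fun e => g.1.commutes e⟩
        invFun := fun g => ⟨IntermediateField.fixingSubgroupEquiv E ⟨g.1, g.2.2⟩,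
          Groth.FunFld1.mem_RamG_iff.mpr g.2.1.2⟩
        left_inv := fun g => Subtype.ext (AlgEquiv.ext fun x => rfl)
        right_inv := fun g => Subtype.ext (AlgEquiv.ext fun x => rfl) }
  have hle : E ≤ IntermediateField.fixedField
      (((Q.O).inertiaSubgroup K).map ((Q.O).decompositionSubgroup K).subtype) ↔
      FunFld.ramIdx Q R = FunFld.ramIdx Q P := by
    rw [IntermediateField.le_iff_le, ← hcardP, ← hcardR, hIE]
    constructor
    · intro h
      rw [inf_of_le_left fun σ hσ => h ((Groth.FunFld1.mem_inertia_map_iff σ).mpr hσ)]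
    · intro h σ hσ
      have he : I ⊓ E.fixingSubgroup = I := Subgroup.eq_of_le_of_card_ge inf_le_left h.ge
      have hmem : σ ∈ I ⊓ E.fixingSubgroup := by
        rw [he]; exact (Groth.FunFld1.mem_inertia_map_iff σ).mp hσ
      exact hmem.2
  rw [hle]
  constructor
  · intro hset
    have h1 : WithZero.exp (-(FunFld.ramIdx Q R : ℤ)) ∈ Set.range (Q.1.comap (algebraMap K K')) := by
      rw [← hset]
      obtain ⟨z, hz⟩ := Groth.FunFld1.exists_val_eq_exp R (-1)
      refine ⟨z, ?_⟩
      show Q.1 (algebraMap E K' z) = _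
      rw [hQR z, hz, ← WithZero.exp_nsmul]; simp
    obtain ⟨x, hx⟩ := h1
    have hx' : Q.1 (algebraMap K K' x) = WithZero.exp (-(FunFld.ramIdx Q R : ℤ)) := hx
    have hx0 : x ≠ 0 := fun e => WithZero.exp_ne_zero (hx'.symm.trans (by simp [e]))
    rw [hQP x, Groth.FunFld1.val_eq_exp_neg_ord P hx0, ← WithZero.exp_nsmul,
      WithZero.exp_injective.eq_iff, nsmul_eq_mul] at hx'
    have hdvd : FunFld.ramIdx Q P ∣ FunFld.ramIdx Q R := by
      have : (FunFld.ramIdx Q P : ℤ) ∣ (FunFld.ramIdx Q R : ℤ) := ⟨P.ord x, by linarith⟩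
      exact_mod_cast this
    refine le_antisymm ?_ (Nat.le_of_dvd (Groth.FunFld1.overWith_pos hQR) hdvd)
    rw [← hcardP, ← hcardR, hIE]
    exact Subgroup.card_le_of_le inf_le_left
  · intro he
    ext a
    constructor
    · rintro ⟨z, rfl⟩
      obtain ⟨x, hx⟩ := P.2.2 (R.1 z)
      refine ⟨x, ?_⟩
      show Q.1 (algebraMap K K' x) = Q.1 (algebraMap E K' z)
      rw [hQP x, hQR z, hx, he]
    · rintro ⟨x, rfl⟩
      exact ⟨algebraMap K E x, congrArg Q.1 (IsScalarTower.algebraMap_apply K E K' x).symm⟩

end Groth.Agent.S11029
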