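import Groth.Statements.S11034
import Groth.Agent.FunFld1.Quadratic
import Groth.Agent.FunFld1.Zeta.Fibre
import Mathlib.FieldTheory.RatFunc.IntermediateField

set_option autoImplicit false
open FunFld

namespace Groth.Agent.S11034

/-- For `char k ≠ 2` and `K = k(x, y)`, `y² = f(x)` with `f` squarefree, each irreducible factor `p` of
`f` has a unique place `P` of `K` above it, with `e(P|p) = 2`, `f(P|p) = 1` and `deg P = deg p`. The
zero divisor of `y` and the behaviour above the infinite place of `k(x)` are not stated. -/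
theorem result (k K : Type*) [Field k] [Field K] (h2 : ringChar k ≠ 2) [Algebra k K]
    [Algebra (RatFunc k) K] [IsScalarTower k (RatFunc k) K]
    (hdeg : Module.finrank (RatFunc k) K = 2) (y : K) (f : Polynomial k) (hf : Squarefree f)
    (hd : 1 ≤ f.natDegree)
    (heq : y ^ 2 = algebraMap (RatFunc k) K (algebraMap (Polynomial k) (RatFunc k) f))
    (p : Polynomial k) (hp : Irreducible p) (hpf : p ∣ f)
    (P₀ : FunFld.Place k (RatFunc k)) (hP₀ : P₀.1 (algebraMap (Polynomial k) (RatFunc k) p) < 1) :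
    (∃! P : FunFld.Place k K, FunFld.IsOver P P₀) ∧
    ∀ P : FunFld.Place k K, FunFld.IsOver P P₀ → FunFld.IsOverWith P P₀ 2 ∧ P.deg = P₀.deg := by
  classical
  haveI : FiniteDimensional (RatFunc k) K := Module.finite_of_finrank_pos (by rw [hdeg]; norm_num)
  set φ := algebraMap (Polynomial k) (RatFunc k)
  have haev : ∀ r : Polynomial k, Polynomial.aeval (RatFunc.X : RatFunc k) r = φ r := fun r =>
    RatFunc.aeval_X_left_eq_algebraMap r
  have htX : Transcendental k (RatFunc.X : RatFunc k) := by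
    rw [← RatFunc.algebraMap_X]
    exact (transcendental_algebraMap_iff (IsFractionRing.injective (Polynomial k) (RatFunc k))).mpr
      (Polynomial.transcendental_X k)
  have hF : Groth.FunFld1.IsFF k (RatFunc k) := ⟨RatFunc.X, htX, Module.finite_of_finrank_pos
    (by rw [IntermediateField.finrank_eq_one_iff_eq_top.mpr RatFunc.adjoin_X]; exact one_pos)⟩
  have hp0 : p ≠ 0 := hp.ne_zero
  have hX : P₀.1 (RatFunc.X : RatFunc k) ≤ 1 := by
    refine not_lt.mp fun hlt => ?_
    rw [← haev, Groth.FunFld1.val_aeval_of_one_lt P₀ hp0 hlt] at hP₀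
    exact absurd hP₀ (not_lt.mpr (one_le_pow_of_one_le' hlt.le _))
  have hle : ∀ r : Polynomial k, P₀.1 (φ r) ≤ 1 := fun r => by
    rw [← haev]; exact Groth.FunFld1.val_le_one_of_algebraMap P₀ r hX
  have hunit : ∀ r : Polynomial k, ¬ p ∣ r → P₀.1 (φ r) = 1 := by
    intro r hr
    refine le_antisymm (hle r) (not_lt.mp fun hlt => ?_)
    obtain ⟨u, v, huv⟩ := hp.coprime_iff_not_dvd.mpr hr
    have h1 := congrArg φ huv
    rw [map_add, map_mul, map_mul, map_one] at h1
    have h2 : P₀.1 (φ u * φ p + φ v * φ r) < 1 := by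
      refine (P₀.1.map_add _ _).trans_lt (max_lt ?_ ?_)
      · rw [map_mul]; exact (mul_le_of_le_one_left' (hle u)).trans_lt hP₀
      · rw [map_mul]; exact (mul_le_of_le_one_left' (hle v)).trans_lt hlt
    rw [h1, map_one] at h2
    exact lt_irrefl 1 h2
  have hpow : ∀ r : Polynomial k, r ≠ 0 → ∃ m : ℕ, P₀.1 (φ r) = P₀.1 (φ p) ^ m := by
    intro r hr
    obtain ⟨m, r', hr', rfl⟩ := WfDvdMonoid.max_power_factor hr hp
    exact ⟨m, by rw [map_mul, map_mul, hunit r' hr', mul_one, map_pow, map_pow]⟩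
  have hvp : P₀.1 (φ p) = WithZero.exp (-1) := by
    obtain ⟨a, ha⟩ := Groth.FunFld1.exists_val_eq_exp P₀ (-1)
    have ha0 : a ≠ 0 := Groth.FunFld1.ne_zero_of_val_eq ha
    obtain ⟨m, hm⟩ := hpow a.num (by simpa using RatFunc.num_ne_zero ha0)
    obtain ⟨l, hl⟩ := hpow a.denom a.denom_ne_zero
    rw [← RatFunc.num_div_denom a, map_div₀, hm, hl] at ha
    have hφp : φ p ≠ 0 := by simpa [φ] using hp0
    rw [Groth.FunFld1.val_eq_exp_neg_ord P₀ hφp, ← WithZero.exp_nsmul, ← WithZero.exp_nsmul,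
      ← WithZero.exp_sub, WithZero.exp_injective.eq_iff, nsmul_eq_mul, nsmul_eq_mul] at ha
    have hc : P₀.ord (φ p) = 1 := by
      refine Int.eq_one_of_dvd_one ?_ ⟨(m : ℤ) - l, by linarith⟩
      exact ((Groth.FunFld1.val_lt_one_iff P₀ hφp).mp hP₀).le
    rw [Groth.FunFld1.val_eq_exp_neg_ord P₀ hφp, hc]
  obtain ⟨g, rfl⟩ := hpf
  have hg : ¬ p ∣ g := fun ⟨c, hc⟩ => hp.not_isUnit (hf p ⟨c, by rw [hc, mul_assoc]⟩)
  have hvf : P₀.1 (φ (p * g)) = WithZero.exp (-1) := by
    rw [map_mul, map_mul, hvp, hunit g hg, mul_one]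
  have key : ∀ Q : FunFld.Place k K, FunFld.IsOver Q P₀ →
      2 * P₀.deg ≤ FunFld.ramIdx Q P₀ * Q.deg ∧ 2 ≤ FunFld.ramIdx Q P₀ ∧ P₀.deg ≤ Q.deg := by
    intro Q hQ
    have he := Groth.FunFld1.isOverWith_ramIdx hQ
    have h1 : Q.1 y ^ 2 = WithZero.exp (-(FunFld.ramIdx Q P₀ : ℤ)) := by
      rw [← map_pow, heq, he, hvf, ← WithZero.exp_nsmul]; simp
    have hy0 : y ≠ 0 := fun e => WithZero.exp_ne_zero (h1.symm.trans (by simp [e]))
    rw [Groth.FunFld1.val_eq_exp_neg_ord Q hy0, ← WithZero.exp_nsmul, WithZero.exp_injective.eq_iff,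
      nsmul_eq_mul] at h1
    have hepos := Groth.FunFld1.overWith_pos he
    have he2 : 2 ≤ FunFld.ramIdx Q P₀ := by push_cast at h1; omega
    have hdeg' : P₀.deg ≤ Q.deg := Nat.le_of_dvd ((hF.ext (K' := K)).deg_pos Q) (Groth.FunFld1.deg_dvd_deg hF hQ)
    exact ⟨Nat.mul_le_mul he2 hdeg', he2, hdeg'⟩
  have hsum := hF.sum_ramIdx_deg (K' := K) P₀
  rw [hdeg] at hsum
  obtain ⟨Q, hQ⟩ := hF.exists_over (K' := K) P₀
  have hpos := hF.deg_pos P₀
  have huniq : ∀ R : FunFld.Place k K, FunFld.IsOver R P₀ → R = Q := by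
    intro R hR
    by_contra hne
    have h2 : ∑ S ∈ ({R, Q} : Finset (FunFld.Place k K)), FunFld.ramIdx S P₀ * S.deg ≤ 2 * P₀.deg := by
      rw [← hsum]
      refine Finset.sum_le_sum_of_subset fun S hS => hF.mem_above.mpr ?_
      rcases Finset.mem_insert.mp hS with rfl | hS
      · exact hR
      · exact Finset.mem_singleton.mp hS ▸ hQ
    rw [Finset.sum_pair hne] at h2
    have := (key R hR).1
    have := (key Q hQ).1
    omega
  refine ⟨⟨Q, hQ, huniq⟩, fun R hR => ?_⟩
  have habove : hF.above P₀ = {R} := by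
    ext S
    rw [hF.mem_above, Finset.mem_singleton]
    exact ⟨fun hS => (huniq S hS).trans (huniq R hR).symm, fun e => e ▸ hR⟩
  rw [habove, Finset.sum_singleton] at hsum
  obtain ⟨-, he2, hd2⟩ := key R hR
  have heq2 : FunFld.ramIdx R P₀ = 2 := by
    refine le_antisymm ?_ he2
    exact Nat.le_of_mul_le_mul_right ((Nat.mul_le_mul_left _ hd2).trans hsum.le) hpos
  refine ⟨heq2 ▸ Groth.FunFld1.isOverWith_ramIdx hR, ?_⟩
  rw [heq2] at hsum
  omega

end Groth.Agent.S11034
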