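import Groth.Statements.S11043
import Mathlib.RingTheory.RootsOfUnity.PrimitiveRoots
import Mathlib.RingTheory.Polynomial.Cyclotomic.Basic
import Mathlib.RingTheory.RootsOfUnity.Complex
-- import your own Groth.Agent.* helpers here

set_option autoImplicit false
open FunFld

namespace Groth.Agent.S11043

/-- For positive integers `n`, `d` with `e = gcd(n, d)`, in `ℂ[t]` one has `(1 - t^{nd/e})^e = ∏_{θⁿ =
1} (1 - (θ t)^d)`, the product over the complex `n`-th roots of unity. -/
theorem result (n d : ℕ) (hn : 0 < n) (hd : 0 < d) :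
    ((1 : Polynomial ℂ) - Polynomial.X ^ (n * d / Nat.gcd n d)) ^ Nat.gcd n d =
      ∏ θ ∈ Polynomial.nthRootsFinset n (1 : ℂ),
        (1 - Polynomial.C (θ ^ d) * Polynomial.X ^ d) := by
  classical
  have hroots : ∀ {R : Type} [CommRing R] [IsDomain R] {N : ℕ} {z : R}, 0 < N → IsPrimitiveRoot z N →
      Polynomial.nthRootsFinset N (1 : R) = (Finset.range N).image (z ^ ·) := by
    intro R _ _ N z hN hz
    have : NeZero N := ⟨hN.ne'⟩
    ext w
    rw [Polynomial.mem_nthRootsFinset hN, Finset.mem_image]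
    constructor
    · intro hw
      obtain ⟨i, hi, rfl⟩ := hz.eq_pow_of_pow_eq_one hw
      exact ⟨i, Finset.mem_range.mpr hi, rfl⟩
    · rintro ⟨i, -, rfl⟩
      rw [← pow_mul, mul_comm, pow_mul, hz.pow_eq_one, one_pow]
  set e := Nat.gcd n d with he
  have hepos : 0 < e := Nat.gcd_pos_of_pos_left _ hn
  obtain ⟨n', hn'⟩ : e ∣ n := Nat.gcd_dvd_left n d
  obtain ⟨d', hd'⟩ : e ∣ d := Nat.gcd_dvd_right n d
  have hn'0 : 0 < n' := by rcases Nat.eq_zero_or_pos n' with h | h; (· simp [h] at hn'; omega); exact h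
  have hnd : n * d / e = d * n' := by
    rw [hn', mul_assoc, Nat.mul_div_cancel_left _ hepos, mul_comm]
  have hcop : Nat.Coprime d' n' := by
    have h1 : Nat.gcd (e * n') (e * d') = e := by rw [← hn', ← hd']
    rw [Nat.gcd_mul_left] at h1
    exact Nat.Coprime.symm (Nat.eq_of_mul_eq_mul_left hepos (h1.trans (mul_one e).symm))
  obtain ⟨ζ, hζ⟩ : ∃ ζ : ℂ, IsPrimitiveRoot ζ n := ⟨_, Complex.isPrimitiveRoot_exp n hn.ne'⟩
  have hμ : IsPrimitiveRoot (ζ ^ d) n' := by
    rw [hd', pow_mul]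
    exact (hζ.pow hn hn').pow_of_coprime d' hcop
  rw [hnd, pow_mul, hroots hn hζ,
    Finset.prod_image (fun i hi j hj h => hζ.pow_inj (Finset.mem_range.mp hi) (Finset.mem_range.mp hj) h)]
  set μ := ζ ^ d
  have hC : IsPrimitiveRoot (Polynomial.C μ) n' := hμ.map_of_injective (Polynomial.C_injective)
  have hfac : (1 : Polynomial ℂ) - (Polynomial.X ^ d) ^ n' =
      ∏ i ∈ Finset.range n', (1 - Polynomial.C (μ ^ i) * Polynomial.X ^ d) := by
    have h2 := hC.pow_sub_pow_eq_prod_sub_mul (1 : Polynomial ℂ) (Polynomial.X ^ d) hn'0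
    rw [one_pow, hroots hn'0 hC] at h2
    rw [h2]
    refine Eq.trans ?_ (Finset.prod_congr rfl fun i _ =>
      (show 1 - Polynomial.C μ ^ i * Polynomial.X ^ d =
        1 - Polynomial.C (μ ^ i) * Polynomial.X ^ d by simp))
    convert Finset.prod_image (f := fun ζ : Polynomial ℂ => 1 - ζ * Polynomial.X ^ d)
      (g := fun x : ℕ => Polynomial.C μ ^ x) (fun i hi j hj h =>
        hC.pow_inj (Finset.mem_range.mp hi) (Finset.mem_range.mp hj) h)
  have hterm : ∀ i : ℕ, (1 : Polynomial ℂ) - Polynomial.C ((ζ ^ i) ^ d) * Polynomial.X ^ d =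
      1 - Polynomial.C (μ ^ i) * Polynomial.X ^ d := fun i => by rw [← pow_mul, mul_comm i d, pow_mul]
  simp only [hterm]
  rw [hn']
  clear_value e
  clear hn' he hepos hd' hnd
  induction e with
  | zero => simp
  | succ e ih =>
    rw [pow_succ, ih, Nat.succ_mul, Finset.prod_range_add, hfac]
    congr 1
    refine Finset.prod_congr rfl fun i _ => ?_
    rw [pow_add, pow_mul', hμ.pow_eq_one, one_pow, one_mul]

end Groth.Agent.S11043
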