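import Groth.Statements.S11049
import Mathlib.Tactic
import Mathlib.LinearAlgebra.FiniteDimensional.Lemmas
import Mathlib.RingTheory.Finiteness.Quotient
import Mathlib.LinearAlgebra.Dimension.RankNullity

set_option autoImplicit false
open CAlg
set_option maxHeartbeats 1000000

namespace Groth.Agent.S11049

/-- For `k`-algebras `S ⊆ R` with `R` an integral domain and a nonzero `x ∈ S`, if `R/S` and `R/Rx` are
finite-dimensional over `k` then `dim_k R/Rx = dim_k S/Sx`. (The published statement allows `x = 0`;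
then `R` is a field finite over `k` and the two sides are `dim_k R` and `dim_k S`, which differ for
`S = k ⊊ R`; the published proof multiplies by `x` as an injection, so `x ≠ 0` is assumed here.) -/
theorem result
    (k R : Type*) [Field k] [CommRing R]
    [IsDomain R] [Algebra k R] (S : Subalgebra k R) (x : S) (hx : (x : R) ≠ 0)
    [Module.Finite k (R ⧸ Subalgebra.toSubmodule S)]
    [Module.Finite k (R ⧸ Ideal.span {(x : R)})] :
    Module.finrank k (R ⧸ Ideal.span {(x : R)}) = Module.finrank k (S ⧸ Ideal.span {x}) := by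
  classical
  let W : Submodule k R := Subalgebra.toSubmodule S
  let μ : R →ₗ[k] R := LinearMap.mulLeft k (x : R)
  have hμ : Function.Injective μ := fun a b h => mul_left_cancel₀ hx h
  let X : Submodule k R := W.map μ
  let Y : Submodule k R := (⊤ : Submodule k R).map μ
  have hY : Y = (Ideal.span {(x : R)}).restrictScalars k := by
    ext z
    simp [Y, μ, Ideal.mem_span_singleton', mul_comm]
  let eY : (R ⧸ Y) ≃ₗ[k] (R ⧸ Ideal.span {(x : R)}) :=
    (Submodule.quotEquivOfEq _ _ hY).trans (Submodule.Quotient.restrictScalarsEquiv k (Ideal.span {(x : R)}))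
  have : Module.Finite k (R ⧸ Y) := Module.Finite.equiv eY.symm
  have hXY : X ≤ Y := Submodule.map_mono le_top
  have hXW : X ≤ W := by
    rintro _ ⟨s, hs, rfl⟩
    exact S.mul_mem x.2 hs
  -- `Y / X ≅ R / W`
  let eYX : (R ⧸ W) ≃ₗ[k] ↥(Submodule.map X.mkQ Y) := by
    refine LinearEquiv.ofBijective (W.liftQ ((X.mkQ.comp μ).codRestrict (Submodule.map X.mkQ Y)
      (fun z => ⟨μ z, ⟨z, trivial, rfl⟩, rfl⟩)) fun z hz => LinearMap.mem_ker.mpr (Subtype.ext
        ((Submodule.Quotient.mk_eq_zero _).mpr ⟨z, hz, rfl⟩))) ⟨?_, ?_⟩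
    · rw [← LinearMap.ker_eq_bot]
      refine Submodule.ker_liftQ_eq_bot _ _ _ fun z hz => ?_
      obtain ⟨w, hw, he⟩ := (Submodule.Quotient.mk_eq_zero _).mp (congrArg Subtype.val (LinearMap.mem_ker.mp hz))
      exact hμ he ▸ hw
    · rintro ⟨_, _, ⟨z, -, rfl⟩, rfl⟩
      exact ⟨Submodule.Quotient.mk z, rfl⟩
  have : Module.Finite k ↥(Submodule.map X.mkQ Y) := Module.Finite.equiv eYX
  have : Module.Finite k ((R ⧸ X) ⧸ Submodule.map X.mkQ Y) :=
    Module.Finite.equiv (Submodule.quotientQuotientEquivQuotient X Y hXY).symm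
  have : Module.Finite k (R ⧸ X) := Module.Finite.of_submodule_quotient (Submodule.map X.mkQ Y)
  have h1 := Submodule.finrank_quotient_add_finrank (Submodule.map X.mkQ Y)
  have h2 := Submodule.finrank_quotient_add_finrank (Submodule.map X.mkQ W)
  rw [(Submodule.quotientQuotientEquivQuotient X Y hXY).finrank_eq, ← eYX.finrank_eq, eY.finrank_eq] at h1
  rw [(Submodule.quotientQuotientEquivQuotient X W hXW).finrank_eq] at h2
  let eS : (S ⧸ Ideal.span {x}) ≃ₗ[k] ↥(Submodule.map X.mkQ W) := by
    refine LinearEquiv.ofBijective ((Submodule.liftQ ((Ideal.span {x}).restrictScalars k)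
      (((X.mkQ.comp W.subtype)).codRestrict (Submodule.map X.mkQ W) (fun z => ⟨_, z.2, rfl⟩)) ?_).comp
        (Submodule.Quotient.restrictScalarsEquiv k (Ideal.span {x})).symm.toLinearMap) ?_
    · intro z hz
      obtain ⟨c, hc⟩ := Ideal.mem_span_singleton'.mp hz
      exact LinearMap.mem_ker.mpr (Subtype.ext ((Submodule.Quotient.mk_eq_zero _).mpr
        ⟨(c : R), c.2, by rw [← hc]; exact mul_comm _ _⟩))
    · rw [LinearMap.coe_comp]
      refine Function.Bijective.comp ⟨?_, ?_⟩ (LinearEquiv.bijective (Submodule.Quotient.restrictScalarsEquiv k (Ideal.span {x})).symm)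
      · rw [← LinearMap.ker_eq_bot]
        refine Submodule.ker_liftQ_eq_bot _ _ _ fun z hz => ?_
        obtain ⟨w, hw, he⟩ := (Submodule.Quotient.mk_eq_zero _).mp (congrArg Subtype.val (LinearMap.mem_ker.mp hz))
        exact Ideal.mem_span_singleton'.mpr ⟨⟨w, hw⟩, Subtype.ext ((mul_comm _ _).trans he)⟩
      · rintro ⟨_, w, hw, rfl⟩
        exact ⟨Submodule.Quotient.mk ⟨w, hw⟩, rfl⟩
  rw [← eS.finrank_eq] at h2
  omega

end Groth.Agent.S11049
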