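import Groth.Statements.S11050
import Groth.Agent.FunFld1.Generators

set_option autoImplicit false
open FunFld

namespace Groth.Agent.S11050

/-- Over an algebraically closed constant field, let `W` be a finite-dimensional subspace of the
function field `K` containing `1` and generating `K` over `k` (the span of an effective birational
projective map). Then `W` contains a separating variable `x`, and for each separating `x ∈ W` some
`y ∈ W` gives `K = k(x, y)`. -/
theorem result
    (k K : Type*) [Field k] [IsAlgClosed k] [Field K] [Algebra k K]
    (hK : FunFld.IsFunctionField k K) (W : Submodule k K)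
    [FiniteDimensional k W] (h1 : (1 : K) ∈ W)
    (hW : IntermediateField.adjoin k (W : Set K) = ⊤) :
    (∃ x ∈ W, Algebra.IsSeparable (IntermediateField.adjoin k ({x} : Set K)) K) ∧
    ∀ x ∈ W, Algebra.IsSeparable (IntermediateField.adjoin k ({x} : Set K)) K →
      ∃ y ∈ W, IntermediateField.adjoin k ({x, y} : Set K) = ⊤ := by
  classical
  have hF := Groth.FunFld1.IsFF.of_isFunctionField hK
  haveI : PerfectField k := IsAlgClosed.perfectField k
  have hg := Groth.FunFld1.isGeometric_of_perfectField hK
  refine ⟨?_, fun x hx hsep => ?_⟩
  · obtain ⟨z, hz, hsep⟩ := Groth.Funfld2.Residue.exists_separating hF hg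
    obtain ⟨w, hw, hD⟩ := Groth.FunFld1.exists_mem_D_ne_zero
      (Groth.FunFld1.kaehler_of_separating hz).2 hW
    exact ⟨w, hw, (Groth.FunFld1.separating_of_D_ne_zero hK hg hD).2⟩
  · haveI := hsep
    have htr := Groth.FunFld1.transcendental_of_separating hF (x := x)
    haveI := hF.finiteDimensional htr
    obtain ⟨u, hu, hgen⟩ := Groth.FunFld1.exists_translate_generator
      (IntermediateField.adjoin k ({x} : Set K)) W 0 (fun E hE => by
        rw [← IntermediateField.restrictScalars_eq_top_iff (K := k), ← top_le_iff, ← hW]
        exact IntermediateField.adjoin_le_iff.mpr hE)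
    refine ⟨u, hu, ?_⟩
    rw [zero_add, ← IntermediateField.restrictScalars_eq_top_iff (K := k),
      IntermediateField.adjoin_adjoin_left, Set.singleton_union] at hgen
    exact hgen

end Groth.Agent.S11050
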