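import Groth.Statements.S11051
import Groth.Agent.FunFld1.Generators
import Groth.Agent.S11020

set_option autoImplicit false
open FunFld

namespace Groth.Agent.S11051

/-- Over an algebraically closed constant field, for every separating variable `x` of a function field
`K` of one variable (`K` separable over `k(x)`) there is `y` with `K = k(x, y)` such that the span
of `1, x, y` contains a local parameter at every place. (The published statement takes any `x`; this
row takes `x` separating, which is what the published proof uses, since it works with the finitely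
many places ramified over `k(x)`: for a constant `x` the conclusion fails for every `K`, and in
characteristic `p` it fails for `K = k(t)`, `x = t^p`, where every place is ramified over `k(x)` and
no element of the span has order one at the place at infinity or, if `y` is not a polynomial in `t`,
at a pole of `y`.) -/
theorem result
    (k K : Type*) [Field k] [IsAlgClosed k] [Field K] [Algebra k K]
    (hK : FunFld.IsFunctionField k K) (x : K)
    (hsep : Algebra.IsSeparable (IntermediateField.adjoin k ({x} : Set K)) K) :
    ∃ y : K, IntermediateField.adjoin k ({x, y} : Set K) = ⊤ ∧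
      ∀ P : FunFld.Place k K, ∃ f ∈ Submodule.span k ({1, x, y} : Set K),
        P.1 f = WithZero.exp (-1) := by
  classical
  have hF := Groth.FunFld1.IsFF.of_isFunctionField hK
  haveI := hsep
  have htr := Groth.FunFld1.transcendental_of_separating hF (x := x)
  haveI := hF.finiteDimensional htr
  set F := IntermediateField.adjoin k ({x} : Set K) with hFdef
  have hfin : ({Q : FunFld.Place k K | ¬ Function.Surjective (Q.1.comap (algebraMap F K))} ∪
      {Q : FunFld.Place k K | ¬ Q.1 x ≤ 1}).Finite :=
    (Groth.Agent.S11020.result k F K (Groth.FunFld1.isFunctionField_adjoin htr)).union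
      ((hF.finite_zeros x⁻¹).subset fun Q hQ => by
        have hx0 : x ≠ 0 := fun h => hQ (by simp [h])
        rw [Set.mem_setOf_eq] at hQ ⊢
        rw [Groth.FunFld1.val_eq_exp_neg_ord Q hx0, ← WithZero.exp_zero, WithZero.exp_le_exp] at hQ
        rw [Groth.FunFld1.ord_inv]
        omega)
  set S := hfin.toFinset with hS
  choose t ht using fun Q : FunFld.Place k K => Groth.FunFld1.exists_val_eq_exp Q (-1)
  obtain ⟨y₀, hy₀⟩ := Groth.FunFld1.exists_val_sub_le S t (fun _ => -2)
  let U : Submodule k K :=
    { carrier := {z | ∀ Q ∈ S, Q.1 z ≤ WithZero.exp (-2)}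
      add_mem' := fun {a b} ha hb Q hQ => Valuation.map_add_le _ (ha Q hQ) (hb Q hQ)
      zero_mem' := fun Q _ => by simp
      smul_mem' := fun c a ha Q hQ => by
        rw [Algebra.smul_def, map_mul]
        exact (mul_le_of_le_one_left' (Q.2.1 c)).trans (ha Q hQ) }
  obtain ⟨u, hu, hgen⟩ := Groth.FunFld1.exists_translate_generator F U y₀ (fun E hE => by
    refine eq_top_iff.mpr fun z _ => ?_
    choose w hw using fun Q : FunFld.Place k K =>
      Groth.FunFld1.exists_val_eq_exp Q (min (-2) (-2 + Q.ord z))
    obtain ⟨v, hv⟩ := Groth.FunFld1.exists_val_sub_le S w (fun Q => min (-2) (-2 + Q.ord z) - 1)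
    have hval : ∀ Q ∈ S, Q.1 v = WithZero.exp (min (-2) (-2 + Q.ord z)) := fun Q hQ => by
      rw [show v = w Q + (v - w Q) by ring, Valuation.map_add_eq_of_lt_left, hw]
      rw [hw]
      exact (hv Q hQ).trans_lt (WithZero.exp_lt_exp.mpr (by omega))
    obtain ⟨v', hv'0, hv'⟩ : ∃ v' : K, v' ≠ 0 ∧ ∀ Q ∈ S, Q.1 v' = Q.1 v := by
      by_cases h0 : v = 0
      · refine ⟨1, one_ne_zero, fun Q hQ => absurd (hval Q hQ) ?_⟩
        rw [h0, map_zero]
        exact WithZero.exp_pos.ne
      · exact ⟨v, h0, fun Q _ => rfl⟩
    have h1 : v' ∈ E := hE fun Q hQ => by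
      rw [hv' Q hQ, hval Q hQ]; exact WithZero.exp_le_exp.mpr (min_le_left _ _)
    have h2 : v' * z ∈ E := hE fun Q hQ => by
      rw [map_mul, hv' Q hQ, hval Q hQ]
      rcases eq_or_ne z 0 with hz | hz
      · simp [hz]
      · rw [Groth.FunFld1.val_eq_exp_neg_ord Q hz, ← WithZero.exp_add]
        exact WithZero.exp_le_exp.mpr (by omega)
    rw [show z = v' * z / v' by field_simp]
    exact div_mem h2 h1)
  rw [← IntermediateField.restrictScalars_eq_top_iff (K := k),
    IntermediateField.adjoin_adjoin_left, Set.singleton_union] at hgen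
  refine ⟨y₀ + u, hgen, fun Q => ?_⟩
  by_cases hQ : Q ∈ S
  · refine ⟨y₀ + u, Submodule.subset_span (by simp), ?_⟩
    rw [show y₀ + u = t Q + (y₀ - t Q + u) by ring, Valuation.map_add_eq_of_lt_left, ht]
    rw [ht]
    exact (Valuation.map_add_le _ (hy₀ Q hQ) (hu Q hQ)).trans_lt (WithZero.exp_lt_exp.mpr (by omega))
  · rw [hS, Set.Finite.mem_toFinset, Set.mem_union, not_or, Set.mem_setOf_eq, Set.mem_setOf_eq,
      not_not, not_not] at hQ
    obtain ⟨c, hc⟩ := Groth.FunFld1.exists_const_sub_lt_one
      (Groth.FunFld1.deg_eq_one_of_isAlgClosed hF Q) hQ.2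
    refine ⟨x - algebraMap k K c, sub_mem (Submodule.subset_span (by simp)) ?_, ?_⟩
    · rw [Algebra.algebraMap_eq_smul_one]
      exact Submodule.smul_mem _ _ (Submodule.subset_span (by simp))
    · exact Groth.FunFld1.val_sub_eq_of_surjective hc hQ.1

end Groth.Agent.S11051
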