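import Groth.Statements.S11055
import Groth.Agent.FunFld1.Nonsingular
-- import your own Groth.Agent.* helpers here

set_option autoImplicit false
open FunFld

namespace Groth.Agent.S11055

/-- Over an algebraically closed constant field, a projective map `φ = (φ₀, …, φₙ)`, `n ≥ 1`, with span
`W` and divisor `[φ]` is nonsingular at the place `P` if and only if `W ∩ L([φ] - P - Q)` has
codimension `2` in `W` for every place `Q`. Here a projective map is nonsingular at a place when its
local ring there (quotients of polynomials over `k` in the ratios `φᵢ/φⱼ`, `φⱼ` of least order at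
the place, with denominator a unit there) is the whole valuation ring. (The published statement is
for any projective map; the published proof uses the finiteness property of the local ring that is
established for birational maps, so `φ` is taken birational here: the ratios `φᵢ/φ₀` generate `K`
over `k`.) -/
theorem result
    (k K : Type*) [Field k] [IsAlgClosed k] [Field K] [Algebra k K]
    (hK : FunFld.IsFunctionField k K) {n : ℕ} (hn : 1 ≤ n)
    (φ : Fin (n + 1) → K) (hφ : LinearIndependent k φ)
    (hbir : IntermediateField.adjoin k (Set.range fun i => φ i / φ 0) = ⊤) (P : FunFld.Place k K) :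
    FunFld.IsNonsingularAt φ P ↔ ∀ Q : FunFld.Place k K,
      Module.finrank k ↥(Submodule.span k (Set.range φ) ⊓
          FunFld.L (FunFld.mapDiv k φ - Finsupp.single P 1 - Finsupp.single Q 1)) + 2 =
        Module.finrank k ↥(Submodule.span k (Set.range φ)) := by
  constructor
  · intro h Q
    exact Groth.FunFld1.codim_of_nonsingular hK (Groth.FunFld1.deg_eq_one_of_isAlgClosed (Groth.FunFld1.IsFF.of_isFunctionField hK)) hφ.ne_zero h Q
  · intro h
    refine Groth.FunFld1.nonsingular_of_codim hK (Groth.FunFld1.deg_eq_one_of_isAlgClosed (Groth.FunFld1.IsFF.of_isFunctionField hK)) (D := FunFld.mapDiv k φ) ?_ P h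
    rw [Submodule.span_le]
    rintro _ ⟨i, rfl⟩ R
    rw [Groth.FunFld1.val_le_exp_iff R (hφ.ne_zero i)]
    have := ((Groth.FunFld1.IsFF.of_isFunctionField hK)).ord_ge_neg_mapDiv φ R i
    omega

end Groth.Agent.S11055
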