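import Groth.Statements.S11057
import Groth.Agent.FunFld1.Nonsingular
-- import your own Groth.Agent.* helpers here

set_option autoImplicit false
open FunFld

namespace Groth.Agent.S11057

/-- Over an algebraically closed constant field, if `K` has degree at least `3` over every subfield
`k(x)` generated by a nonconstant element, then the canonical map (given by a basis of `L(D)` for a
canonical divisor `D`) is an embedding, i.e. nonsingular at every place. Here a projective map is
nonsingular at a place when its local ring there (quotients of polynomials over `k` in the ratios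
`φᵢ/φⱼ`, `φⱼ` of least order at the place, with denominator a unit there) is the whole valuation
ring. -/
theorem result
    (k K : Type*) [Field k] [IsAlgClosed k] [Field K] [Algebra k K]
    (hK : FunFld.IsFunctionField k K)
    (h2 : ∀ x : K, Transcendental k x →
      2 < Module.finrank (IntermediateField.adjoin k ({x} : Set K)) K)
    (D : FunFld.Divisor k K) (hD : FunFld.IsCanonical k K D) {n : ℕ} (φ : Fin (n + 1) → K)
    (hφ : LinearIndependent k φ) (hspan : Submodule.span k (Set.range φ) = FunFld.L D)
    (P : FunFld.Place k K) : FunFld.IsNonsingularAt φ P := by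
  have hd := (Groth.FunFld1.deg_eq_one_of_isAlgClosed (Groth.FunFld1.IsFF.of_isFunctionField hK))
  refine Groth.FunFld1.nonsingular_of_codim hK hd hspan.le P fun Q => ?_
  rw [hspan, inf_eq_right.mpr (Groth.FunFld1.L_mono ((sub_le_self _ (Finsupp.single_nonneg.mpr zero_le_one)).trans (sub_le_self _ (Finsupp.single_nonneg.mpr zero_le_one))))]
  have hC := Groth.FunFld1.riemann_roch hK hD (D - Finsupp.single P 1 - Finsupp.single Q 1)
  have hell := Groth.FunFld1.ell_canonical hK hD
  have hdeg := Groth.FunFld1.deg_canonical hK hD
  rw [Groth.FunFld1.deg_sub, Groth.FunFld1.deg_sub, Groth.FunFld1.deg_single, Groth.FunFld1.deg_single, hd P, hd Q, hdeg,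
    show D - (D - Finsupp.single P (1 : ℤ) - Finsupp.single Q 1) = Finsupp.single P 1 + Finsupp.single Q 1 by abel] at hC
  set E : FunFld.Divisor k K := Finsupp.single P 1 + Finsupp.single Q 1
  have hE : 0 ≤ E := add_nonneg (Finsupp.single_nonneg.mpr zero_le_one) (Finsupp.single_nonneg.mpr zero_le_one)
  have hone : FunFld.ell E ≤ 1 := by
    by_contra hlt
    obtain ⟨x, hx, hxc⟩ := Groth.FunFld1.exists_nonconst_mem hK (D := E) (by omega)
    have h3 := Groth.FunFld1.finrank_le_of_mem_L hK hE hx hxc
    have h4 := h2 x (Groth.FunFld1.transcendental_of_notMem hK hxc)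
    rw [Groth.FunFld1.deg_add, Groth.FunFld1.deg_single, Groth.FunFld1.deg_single, hd P, hd Q] at h3
    omega
  have hone' : 1 ≤ FunFld.ell E := by
    rw [← Groth.FunFld1.ell_zero_eq hK]
    haveI := ((Groth.FunFld1.IsFF.of_isFunctionField hK)).finiteDimensional_L E
    exact Submodule.finrank_mono (Groth.FunFld1.L_mono hE)
  unfold FunFld.ell at hC hell hone hone'
  omega

end Groth.Agent.S11057
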