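import Groth.Statements.S11058
import Groth.Agent.FunFld1.Nonsingular
-- import your own Groth.Agent.* helpers here

set_option autoImplicit false
open FunFld

namespace Groth.Agent.S11058

/-- Over an algebraically closed constant field, a birational projective map `φ = (φ₀, …, φₙ)` (the
ratios `φᵢ/φ₀` generate `K` over `k`) is nonsingular at all but finitely many places. Here a
projective map is nonsingular at a place when its local ring there (quotients of polynomials over
`k` in the ratios `φᵢ/φⱼ`, `φⱼ` of least order at the place, with denominator a unit there) is the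
whole valuation ring. -/
theorem result
    (k K : Type*) [Field k] [IsAlgClosed k] [Field K] [Algebra k K]
    (hK : FunFld.IsFunctionField k K) {n : ℕ} (hn : 1 ≤ n) (φ : Fin (n + 1) → K)
    (hφ : LinearIndependent k φ)
    (hbir : IntermediateField.adjoin k (Set.range fun i => φ i / φ 0) = ⊤) :
    {P : FunFld.Place k K | ¬ FunFld.IsNonsingularAt φ P}.Finite := by
  classical
  have hF := (Groth.FunFld1.IsFF.of_isFunctionField hK)
  have hd := (Groth.FunFld1.deg_eq_one_of_isAlgClosed (Groth.FunFld1.IsFF.of_isFunctionField hK))
  obtain ⟨a, ha, ha0, hcond⟩ := Groth.FunFld1.exists_conductor hK (y := Groth.FunFld1.ratios φ 0) hbir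
  refine ((Set.finite_iUnion fun i => hF.finite_support_ord (φ i / φ 0)).union (hF.finite_support_ord a)).subset fun Q hQ => ?_
  by_contra hc
  simp only [Set.mem_union, Set.mem_iUnion, Function.mem_support, not_or, not_exists, not_not] at hc
  apply hQ
  have hj : Groth.FunFld1.IsMin φ Q 0 := ⟨hφ.ne_zero 0, (Groth.FunFld1.isAffine_ratios_iff (hφ.ne_zero 0)).mp
    fun i => (Groth.FunFld1.val_le_one_iff Q _).mpr (hc.1 i).ge⟩
  intro z hz
  obtain ⟨u, hu, w, hw, hw1, hzw⟩ := Groth.FunFld1.exists_frac_of_conductor hK hd hbir hj.affine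
    ((Groth.FunFld1.val_eq_one_iff Q ha0).mpr hc.2) hcond hz
  exact Groth.FunFld1.inLocRing_of_frac hj hu hw hw1 hzw

end Groth.Agent.S11058
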