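import Groth.Statements.S11066
import Groth.Agent.FunFld1.Nonsingular
-- import your own Groth.Agent.* helpers here

set_option autoImplicit false
open FunFld

namespace Groth.Agent.S11066

/-- Over an algebraically closed constant field, for an effective projective map `φ` normalized at the
place `P` (`1` in the span of the entries, all entries integral at `P`), the local ring of `φ` at
`P` has an element of order one at `P` (a local parameter) exactly when the span of the entries has
one. The local ring consists of the quotients of polynomials over `k` in the ratios `φᵢ/φⱼ`, `φⱼ` of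
least order at `P`, with denominator a unit at `P`. -/
theorem result
    (k K : Type*) [Field k] [IsAlgClosed k] [Field K] [Algebra k K]
    (hK : FunFld.IsFunctionField k K) {n : ℕ} (φ : Fin (n + 1) → K)
    (P : FunFld.Place k K) (heff : (1 : K) ∈ Submodule.span k (Set.range φ))
    (hnorm : ∀ i, P.1 (φ i) ≤ 1) :
    (∃ t : K, FunFld.InLocRing φ P t ∧ P.1 t = WithZero.exp (-1)) ↔
      ∃ t ∈ Submodule.span k (Set.range φ), P.1 t = WithZero.exp (-1) := by
  have hd := (Groth.FunFld1.deg_eq_one_of_isAlgClosed (Groth.FunFld1.IsFF.of_isFunctionField hK))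
  have hne : ∃ i, φ i ≠ 0 := by
    by_contra hc
    push Not at hc
    rw [show φ = fun _ => 0 from funext hc, Set.range_const, Submodule.span_zero_singleton, Submodule.mem_bot] at heff
    exact one_ne_zero heff
  obtain ⟨j, hj⟩ := Groth.FunFld1.exists_isMin hne P
  have hj1 : P.1 (φ j) = 1 := le_antisymm (hnorm j) ((map_one P.1).symm.le.trans (Groth.FunFld1.val_le_of_mem_span hj.2 heff))
  constructor
  · rintro ⟨t, ht, htP⟩
    obtain ⟨u, hu, w, -, hw1, hzw⟩ := Groth.FunFld1.inLocRing_at ht hj
    obtain ⟨i, c, hic⟩ := Groth.FunFld1.exists_coord_param hd hj.affine hu (by rw [← hzw, map_mul, htP, hw1, mul_one])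
    refine ⟨φ i - c • φ j, sub_mem (Submodule.subset_span ⟨i, rfl⟩) (Submodule.smul_mem _ c (Submodule.subset_span ⟨j, rfl⟩)), ?_⟩
    have e : φ i - c • φ j = (Groth.FunFld1.ratios φ j i - algebraMap k K c) * φ j := by
      rw [Groth.FunFld1.ratios, sub_mul, div_mul_cancel₀ _ hj.1, Algebra.smul_def]
    rw [e, map_mul, hic, hj1, mul_one]
  · rintro ⟨t, ht, htP⟩
    exact ⟨t / φ j, Groth.FunFld1.inLocRing_of_mem_adjoin hj (Groth.FunFld1.div_mem_adjoin_ratios ht), by rw [map_div₀, htP, hj1, div_one]⟩

end Groth.Agent.S11066
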