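import Groth.Statements.S11067
import Groth.Agent.FunFld1.Residues
import Groth.Agent.FunFld1.Quadratic

set_option autoImplicit false
open FunFld

namespace Groth.Agent.S11067

/-- Over an algebraically closed constant field, for a plane curve with natural map `(1 : x : y)` (so `K
= k(x, y)`) and `y` integral over `k[x]`, the ring `k[x, y]` is the intersection of the rings
`O_P[y]` over the places `P` of `k(x)` at which `x` is integral. -/
theorem result
    (k K : Type*) [Field k] [IsAlgClosed k] [Field K] [Algebra k K]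
    (hK : FunFld.IsFunctionField k K) (x y : K) (hx : Transcendental k x)
    (hxy : IntermediateField.adjoin k ({x, y} : Set K) = ⊤)
    (hy : IsIntegral (Algebra.adjoin k ({x} : Set K)) y) :
    (Algebra.adjoin k ({x, y} : Set K) : Set K) =
      ⋂ (P : FunFld.Place k (IntermediateField.adjoin k ({x} : Set K)))
        (_ : P.1 ⟨x, IntermediateField.mem_adjoin_simple_self k x⟩ ≤ 1),
        (Subring.closure
          ((algebraMap (IntermediateField.adjoin k ({x} : Set K)) K '' (P.O : Set _)) ∪ {y}) :
          Set K) := by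
  classical
  set F := IntermediateField.adjoin k ({x} : Set K) with hFdef
  set g : F := IntermediateField.AdjoinSimple.gen k x with hg
  have hFF : Groth.FunFld1.IsFF k F := Groth.FunFld1.isFF_adjoin hx
  have htr : Transcendental k g := fun h => hx (h.algHom F.val)
  refine Set.Subset.antisymm (fun z hz => Set.mem_iInter₂.mpr fun P hP => ?_) (fun z hz => ?_)
  · change z ∈ Subring.closure _
    induction hz using Algebra.adjoin_induction with
    | mem w hw =>
      rcases hw with rfl | rfl
      · exact Subring.subset_closure (Or.inl ⟨g, hP, rfl⟩)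
      · exact Subring.subset_closure (Or.inr rfl)
    | algebraMap c => exact Subring.subset_closure (Or.inl ⟨algebraMap k F c, P.2.1 c, rfl⟩)
    | add a b _ _ ha hb => exact add_mem ha hb
    | mul a b _ _ ha hb => exact mul_mem ha hb
  rw [Set.mem_iInter₂] at hz
  have key : ∀ P : FunFld.Place k F, P.1 g ≤ 1 →
      ∃ q : Polynomial F, q.degree < (minpoly F y).degree ∧ Polynomial.aeval y q = z ∧
        ∀ i, P.1 (q.coeff i) ≤ 1 := by
    intro P hP
    letI : Algebra P.O K := ((algebraMap F K).comp P.O.subtype).toAlgebra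
    haveI : IsScalarTower P.O F K := IsScalarTower.of_algebraMap_eq fun _ => rfl
    have hA : ∀ a ∈ Algebra.adjoin k ({x} : Set K), ∃ b : P.O, ((b : F) : K) = a := by
      intro a ha
      induction ha using Algebra.adjoin_induction with
      | mem w hw => exact ⟨⟨g, hP⟩, hw.symm⟩
      | algebraMap c => exact ⟨⟨algebraMap k F c, P.2.1 c⟩, rfl⟩
      | add a b _ _ ha hb => obtain ⟨u, rfl⟩ := ha; obtain ⟨v, rfl⟩ := hb; exact ⟨u + v, rfl⟩
      | mul a b _ _ ha hb => obtain ⟨u, rfl⟩ := ha; obtain ⟨v, rfl⟩ := hb; exact ⟨u * v, rfl⟩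
    have hint : IsIntegral P.O y := by
      obtain ⟨p, hp, hpy⟩ := hy
      have hlift : p.map (algebraMap (Algebra.adjoin k ({x} : Set K)) K) ∈
          Polynomial.lifts (algebraMap P.O K) := (Polynomial.lifts_iff_coeff_lifts _).mpr fun i => by
        obtain ⟨b, hb⟩ := hA _ (p.coeff i).2
        exact ⟨b, by rw [Polynomial.coeff_map]; exact hb⟩
      obtain ⟨q, hq1, -, hq3⟩ := Polynomial.lifts_and_degree_eq_and_monic hlift (hp.map _)
      refine ⟨q, hq3, ?_⟩
      rw [← Polynomial.eval_map, hq1, Polynomial.eval_map]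
      exact hpy
    have hcl : Subring.closure ((algebraMap F K '' (P.O : Set F)) ∪ {y}) ≤
        ((Polynomial.aeval y : Polynomial P.O →ₐ[P.O] K).toRingHom.range) := by
      refine Subring.closure_le.mpr ?_
      rintro w (⟨b, hb, rfl⟩ | rfl)
      · exact ⟨Polynomial.C ⟨b, hb⟩, Polynomial.aeval_C _ _⟩
      · exact ⟨Polynomial.X, Polynomial.aeval_X _⟩
    obtain ⟨q, hq⟩ := hcl (hz P hP)
    replace hq : Polynomial.aeval y q = z := hq
    have hm := minpoly.monic hint
    have hμ := minpoly.isIntegrallyClosed_eq_field_fractions' (R := P.O) F hint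
    refine ⟨(q %ₘ minpoly P.O y).map (algebraMap P.O F), ?_, ?_, fun i => ?_⟩
    · rw [hμ, hm.degree_map]
      exact Polynomial.degree_map_le.trans_lt (Polynomial.degree_modByMonic_lt _ hm)
    · rw [Polynomial.aeval_map_algebraMap, Polynomial.aeval_modByMonic_eq_self_of_root (minpoly.aeval _ _), hq]
    · rw [Polynomial.coeff_map]
      exact ((q %ₘ minpoly P.O y).coeff i).2
  obtain ⟨P₀, -, hP₀⟩ := Groth.FunFld1.exists_rational_place hx (0 : k)
  rw [map_zero, sub_zero] at hP₀
  obtain ⟨q, hqd, hqz, -⟩ := key P₀ hP₀.le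
  have hall : ∀ (i : ℕ) (P : FunFld.Place k F), P.1 g ≤ 1 → P.1 (q.coeff i) ≤ 1 := by
    intro i P hP
    obtain ⟨q', hq'd, hq'z, hq'⟩ := key P hP
    have he : q - q' = 0 := Polynomial.eq_zero_of_dvd_of_degree_lt
      (minpoly.dvd F y (by rw [map_sub, hqz, hq'z, sub_self]))
      ((Polynomial.degree_sub_le _ _).trans_lt (max_lt hqd hq'd))
    rw [sub_eq_zero.mp he]
    exact hq' i
  rw [← hqz, Polynomial.aeval_eq_sum_range, SetLike.mem_coe]
  refine sum_mem fun i _ => ?_
  obtain ⟨r, hr⟩ := Groth.FunFld1.exists_poly_of_forall_le_one hFF htr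
    (show q.coeff i ∈ IntermediateField.adjoin k ({g} : Set F) by
      rw [hg, Groth.FunFld1.adjoin_gen_self]; exact IntermediateField.mem_top) (hall i)
  rw [Algebra.smul_def]
  have hy' : y ∈ Algebra.adjoin k ({x, y} : Set K) :=
    Algebra.subset_adjoin (show y ∈ ({x, y} : Set K) from Or.inr rfl)
  have hyi : y ^ i ∈ Algebra.adjoin k ({x, y} : Set K) := Subalgebra.pow_mem _ hy' i
  suffices h : algebraMap F K (q.coeff i) ∈ Algebra.adjoin k ({x, y} : Set K) from
    Subalgebra.mul_mem _ h hyi
  rw [hr, ← Polynomial.aeval_algebraMap_apply]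
  exact Algebra.adjoin_mono (Set.singleton_subset_iff.mpr (Set.mem_insert _ _))
    (Polynomial.aeval_mem_adjoin_singleton k x)

end Groth.Agent.S11067
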