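import Groth.Statements.S11068
import Groth.Agent.FunFld1.FiniteConst
import Groth.Agent.FunFld1.Extension

set_option autoImplicit false
open FunFld

namespace Groth.Agent.S11068

/-- Over a finite constant field with `q` elements, let `K̄ = k̄ ⊗ K` be the constant-field extension to
an algebraic closure and `F` its Frobenius map (identity on `k̄`, `q`-th power on `K`). A place `Q`
of `K̄/k̄` satisfies `Q^F = Q` (the maximal ideal of `Q` is exactly the preimage of itself under
`F`) if and only if `Q` is defined over `k`, i.e. the place of `K` below `Q` has degree one. -/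
theorem result
    (k K kb Kb : Type*) [Field k] [Finite k] [Field K] [Algebra k K] [Field kb] [Algebra k kb]
    [IsAlgClosure k kb] [Field Kb] [Algebra K Kb] [Algebra kb Kb]
    (hK : FunFld.IsFunctionField k K)
    (hc : ∀ c : k, algebraMap K Kb (algebraMap k K c) = algebraMap kb Kb (algebraMap k kb c))
    (hgen : Algebra.adjoin K (Set.range (algebraMap kb Kb)) = ⊤)
    (F : Kb →+* Kb) (hF1 : ∀ c : kb, F (algebraMap kb Kb c) = algebraMap kb Kb c)
    (hF2 : ∀ x : K, F (algebraMap K Kb x) = algebraMap K Kb x ^ Nat.card k)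
    (Q : FunFld.Place kb Kb) :
    (∀ z : Kb, Q.1 (F z) < 1 ↔ Q.1 z < 1) ↔
      ∃ P : FunFld.Place k K, (∀ x : K, Q.1 (algebraMap K Kb x) ≤ 1 ↔ P.1 x ≤ 1) ∧ P.deg = 1 := by
  classical
  have hF := Groth.FunFld1.IsFF.of_isFunctionField hK
  haveI := Fintype.ofFinite k
  have hq1 : 1 < Nat.card k := Finite.one_lt_card
  let B := Module.Basis.ofVectorSpace k kb
  -- every element is a combination of constants with coefficients in `K`
  have hrep : ∀ z : Kb, ∃ cf : (Module.Basis.ofVectorSpaceIndex k kb) →₀ K,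
      z = cf.sum fun b a => algebraMap kb Kb (B b) * algebraMap K Kb a := by
    intro z
    have hz : z ∈ Submodule.span K (Set.range fun b => algebraMap kb Kb (B b)) := by
      have h1 : z ∈ Subalgebra.toSubmodule (Algebra.adjoin K (Set.range (algebraMap kb Kb))) := by
        rw [hgen]; trivial
      rw [Algebra.adjoin_eq_span] at h1
      refine Submodule.span_le.mpr ?_ h1
      intro w hw
      have hw' : w ∈ MonoidHom.mrange (algebraMap kb Kb).toMonoidHom :=
        (Submonoid.closure_le.mpr (fun v hv => hv)) hw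
      obtain ⟨e, rfl⟩ := hw'
      show algebraMap kb Kb e ∈ _
      rw [← B.linearCombination_repr e, Finsupp.linearCombination_apply, map_finsuppSum]
      refine Submodule.sum_mem _ fun b _ => ?_
      dsimp only
      rw [Algebra.smul_def, map_mul, ← hc, ← Algebra.smul_def]
      exact Submodule.smul_mem _ _ (Submodule.subset_span ⟨b, rfl⟩)
    obtain ⟨cf, hcf⟩ := Finsupp.mem_span_range_iff_exists_finsupp.mp hz
    exact ⟨cf, hcf.symm.trans (Finsupp.sum_congr fun b _ => by rw [Algebra.smul_def, mul_comm])⟩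
  have hk1 : ∀ e : kb, Q.1 (algebraMap kb Kb e) ≤ 1 := Q.2.1
  have hkey : (∃ P : FunFld.Place k K,
      (∀ x : K, Q.1 (algebraMap K Kb x) ≤ 1 ↔ P.1 x ≤ 1) ∧ P.deg = 1) →
      ∀ z : Kb, Q.1 (F z) < 1 ↔ Q.1 z < 1 := by
    rintro ⟨P, hP, hd⟩
    have hlt : ∀ x : K, Q.1 (algebraMap K Kb x) < 1 ↔ P.1 x < 1 := by
      intro x
      by_cases h0 : x = 0
      · simp [h0]
      rw [← not_le, ← not_le, not_iff_not, ← inv_le_one₀ (zero_lt_iff.mpr (by simpa using h0)),
        ← map_inv₀, ← map_inv₀, hP, map_inv₀, inv_le_one₀ (zero_lt_iff.mpr (by simpa using h0))]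
    have hmax : ∀ cf : (Module.Basis.ofVectorSpaceIndex k kb) →₀ K,
        Q.1 (cf.sum fun b a => algebraMap kb Kb (B b) * algebraMap K Kb a) < 1 ↔
          ∀ b ∈ cf.support, Q.1 (algebraMap K Kb (cf b)) < 1 := by
      intro cf
      refine ⟨fun h => ?_, fun h => Valuation.map_sum_lt _ one_ne_zero fun b hb => ?_⟩
      · by_contra! hne
        obtain ⟨b₁, hb₁, hb₁'⟩ := hne
        obtain ⟨m, hm, hmax⟩ := cf.support.exists_max_image (fun b => Q.1 (algebraMap K Kb (cf b))) ⟨b₁, hb₁⟩
        have hm0 : cf m ≠ 0 := Finsupp.mem_support_iff.mp hm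
        have hm1 : (1 : WithZero (Multiplicative ℤ)) ≤ Q.1 (algebraMap K Kb (cf m)) :=
          hb₁'.trans (hmax b₁ hb₁)
        have hr : ∀ b ∈ cf.support, ∃ c : k, P.1 (cf b / cf m - algebraMap k K c) < 1 := fun b hb =>
          Groth.FunFld1.exists_const_sub_lt_one hd ((hP _).mp (by
            rw [map_div₀, map_div₀, div_le_one₀ (zero_lt_one.trans_le hm1)]
            exact hmax b hb))
        choose! c hcb using hr
        have hcm : c m = 1 := by
          by_contra hne
          have := hcb m hm
          rw [div_self hm0, ← map_one (algebraMap k K), ← map_sub,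
            Groth.FunFld1.val_algebraMap P (sub_ne_zero.mpr (Ne.symm hne))] at this
          exact lt_irrefl 1 this
        set e : kb := ∑ b ∈ cf.support, c b • B b with he
        have he0 : e ≠ 0 := fun h0 => by
          have := linearIndependent_iff'.mp B.linearIndependent cf.support c h0 m hm
          rw [hcm] at this
          exact one_ne_zero this
        have h1 : Q.1 ((cf.sum fun b a => algebraMap kb Kb (B b) * algebraMap K Kb a) /
            algebraMap K Kb (cf m)) < 1 := by
          rw [map_div₀, div_lt_one₀ (zero_lt_one.trans_le hm1)]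
          exact h.trans_le hm1
        have h2 : Q.1 ((cf.sum fun b a => algebraMap kb Kb (B b) * algebraMap K Kb a) /
            algebraMap K Kb (cf m) - algebraMap kb Kb e) < 1 := by
          rw [Finsupp.sum, Finset.sum_div, he, map_sum, ← Finset.sum_sub_distrib]
          refine Valuation.map_sum_lt _ one_ne_zero fun b hb => ?_
          rw [Algebra.smul_def, map_mul, ← hc, mul_comm (algebraMap K Kb _) (algebraMap kb Kb (B b)),
            mul_div_assoc, ← map_div₀, ← mul_sub, ← map_sub, map_mul]
          exact (mul_le_of_le_one_left' (hk1 _)).trans_lt ((hlt _).mpr (hcb b hb))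
        have h3 := (Valuation.map_sub Q.1 _ _).trans_lt (max_lt h1 h2)
        rw [sub_sub_cancel, Groth.FunFld1.val_algebraMap Q he0] at h3
        exact lt_irrefl 1 h3
      · rw [map_mul]
        exact (mul_le_of_le_one_left' (hk1 _)).trans_lt (h b hb)
    intro z
    obtain ⟨cf, rfl⟩ := hrep z
    have hFz : F (cf.sum fun b a => algebraMap kb Kb (B b) * algebraMap K Kb a) =
        (cf.mapRange (· ^ Nat.card k) (zero_pow (by omega))).sum
          fun b a => algebraMap kb Kb (B b) * algebraMap K Kb a := by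
      rw [Finsupp.sum_mapRange_index (by simp), map_finsuppSum]
      exact Finsupp.sum_congr fun b _ => by rw [map_mul, hF1, hF2, map_pow]
    rw [hFz, hmax, hmax, Finsupp.support_mapRange_of_injective _ _ ?_]
    · refine forall₂_congr fun b _ => ?_
      rw [Finsupp.mapRange_apply, map_pow, map_pow, pow_lt_one_iff_of_nonneg zero_le (by omega)]
    · intro a b hab
      exact Groth.FunFld1.pow_card_injective (algebraMap k K) hab
  refine ⟨fun hfix => ?_, hkey⟩
  let A : ValuationSubring K := Q.O.comap (algebraMap K Kb)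
  have hA : A ≠ ⊤ := by
    intro htop
    obtain ⟨z, hz⟩ := Groth.FunFld1.exists_val_gt_one Q
    obtain ⟨cf, rfl⟩ := hrep z
    refine absurd (Valuation.map_sum_le _ fun b _ => ?_) (not_le.mpr hz)
    rw [map_mul]
    exact (mul_le_of_le_one_left' (hk1 _)).trans (show cf b ∈ A from htop ▸ ValuationSubring.mem_top _)
  obtain ⟨P, hP⟩ := hF.exists_place_O_eq A (fun c => by
    show Q.1 (algebraMap K Kb (algebraMap k K c)) ≤ 1
    rw [hc]; exact hk1 _) hA
  have hle : ∀ x : K, Q.1 (algebraMap K Kb x) ≤ 1 ↔ P.1 x ≤ 1 := fun x => by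
    show x ∈ A ↔ x ∈ P.O
    rw [hP]
  refine ⟨P, hle, ?_⟩
  have hlt : ∀ x : K, P.1 x < 1 → Q.1 (algebraMap K Kb x) < 1 := by
    intro x hx
    by_cases h0 : x = 0
    · simp [h0]
    rw [← not_le]
    intro hge
    have h1 : Q.1 (algebraMap K Kb x⁻¹) ≤ 1 := by
      rw [map_inv₀, map_inv₀]; exact inv_le_one_of_one_le₀ hge
    have h2 := (hle _).mp h1
    rw [map_inv₀, inv_le_one₀ (zero_lt_iff.mpr (by simpa using h0))] at h2
    exact absurd hx (not_lt.mpr h2)
  haveI := hF.finiteDimensional_residueField P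
  refine Groth.FunFld1.deg_eq_one_of_forall_exists_const fun x hx => ?_
  obtain ⟨p, hp, hpx⟩ := Groth.FunFld1.exists_monic_aeval_lt_one (P := P) hx
  haveI : IsAlgClosed kb := IsAlgClosure.isAlgClosed k
  have hsplit : Q.1 (((p.map (algebraMap k kb)).map (algebraMap kb Kb)).eval (algebraMap K Kb x)) < 1 := by
    have e : (algebraMap kb Kb).comp (algebraMap k kb) = (algebraMap K Kb).comp (algebraMap k K) :=
      RingHom.ext fun c => (hc c).symm
    rw [Polynomial.map_map, e, ← Polynomial.map_map, Polynomial.eval_map_apply, Polynomial.eval_map,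
      ← Polynomial.aeval_def]
    exact hlt _ hpx
  have hs := IsAlgClosed.splits (p.map (algebraMap k kb))
  rw [hs.eq_prod_roots_of_monic (hp.map _), Polynomial.map_multiset_prod, Polynomial.eval_multiset_prod,
    Multiset.map_map, Multiset.map_map, map_multiset_prod, Multiset.map_map] at hsplit
  obtain ⟨e, -, hlte⟩ : ∃ e ∈ (p.map (algebraMap k kb)).roots,
      Q.1 (algebraMap K Kb x - algebraMap kb Kb e) < 1 := by
    by_contra! hne
    refine absurd hsplit (not_lt.mpr (Groth.FunFld1.one_le_prod_of_forall _ _ fun e he => ?_))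
    simpa using hne e he
  have h1 : Q.1 (algebraMap K Kb x ^ Nat.card k - algebraMap kb Kb e) < 1 := by
    rw [← hF2, ← hF1 e, ← map_sub]
    exact (hfix _).mpr hlte
  have h2 : Q.1 (algebraMap K Kb x ^ Nat.card k - algebraMap kb Kb (e ^ Nat.card k)) < 1 := by
    rw [map_pow]
    rw [← map_pow, map_pow, ← Groth.FunFld1.sub_pow_card ((algebraMap kb Kb).comp (algebraMap k kb)), map_pow]
    exact pow_lt_one₀ zero_le hlte (by omega)
  have h3 := (Valuation.map_sub Q.1 _ _).trans_lt (max_lt h2 h1)
  rw [sub_sub_sub_cancel_left, ← map_sub] at h3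
  have heq : e ^ Nat.card k = e := by
    by_contra hne
    rw [Groth.FunFld1.val_algebraMap Q (sub_ne_zero.mpr (Ne.symm hne))] at h3
    exact lt_irrefl 1 h3
  obtain ⟨c, rfl⟩ := Groth.FunFld1.mem_range_of_pow_card (algebraMap k kb) heq
  refine ⟨c, not_le.mp fun hge => ?_⟩
  have := hlte
  rw [← hc, ← map_sub] at this
  by_cases h0 : x - algebraMap k K c = 0
  · simp [h0] at hge
  have h4 : P.1 (x - algebraMap k K c)⁻¹ ≤ 1 := by
    rw [map_inv₀]; exact inv_le_one_of_one_le₀ hge
  have h5 := (hle _).mpr h4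
  rw [map_inv₀, map_inv₀, inv_le_one₀ (zero_lt_iff.mpr ((Valuation.ne_zero_iff _).mpr ((map_ne_zero _).mpr h0)))] at h5
  exact absurd this (not_lt.mpr h5)

end Groth.Agent.S11068
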