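import Groth.Statements.S11071
import Groth.Agent.FunFld1.JacobianProj

set_option autoImplicit false
open FunFld

namespace Groth.Agent.S11071

/-- Over an algebraically closed constant field, let `φ = (φ₀, …, φₙ)`, `n ≥ 1`, be a birational
projective map, `f₁, …, f_r` homogeneous generators of its ideal of homogeneous relations (the ideal
of the image curve), and `P` a place at which all `φᵢ/φ₀` are integral, with image point `a`. Then
`φ` is nonsingular at `P` if and only if the matrix `(∂fᵢ/∂Xⱼ(a))`, `1 ≤ j ≤ n`, has rank `n - 1`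
(entries read in the residue field of `P`). Here the local ring of `φ` at `P` consists of the
quotients of polynomials over `k` in the ratios `φᵢ/φ₀` with denominator a unit at `P`; `φ` is
nonsingular at `P` when this ring is the whole valuation ring. -/
theorem result (k K : Type*) [Field k] [IsAlgClosed k] [Field K] [Algebra k K]
    (hK : FunFld.IsFunctionField k K) {n : ℕ} (hn : 1 ≤ n)
    (φ : Fin (n + 1) → K) (hφ : LinearIndependent k φ)
    (hbir : IntermediateField.adjoin k (Set.range fun i => φ i / φ 0) = ⊤)
    (P : FunFld.Place k K) (hP : ∀ i, P.1 (φ i) ≤ P.1 (φ 0)) {r : ℕ}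
    (f : Fin r → MvPolynomial (Fin (n + 1)) k)
    (hhom : ∀ i, (f i).IsHomogeneous (f i).totalDegree)
    (hgen : Ideal.span (Set.range f) =
      RingHom.ker (MvPolynomial.aeval fun i => Polynomial.C (φ i) * Polynomial.X))
    (M : Matrix (Fin r) (Fin n) P.O)
    (hM : ∀ i j, ((M i j : P.O) : K) =
      MvPolynomial.aeval (fun l => φ l / φ 0) (MvPolynomial.pderiv j.succ (f i))) :
    FunFld.IsNonsingularAt φ P ↔ (M.map (IsLocalRing.residue P.O)).rank = n - 1 := by
  classical
  have h00 : φ 0 ≠ 0 := hφ.ne_zero 0
  have hj : Groth.FunFld1.IsMin φ P 0 := ⟨h00, hP⟩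
  have hd := Groth.FunFld1.deg_eq_one_of_isAlgClosed (Groth.FunFld1.IsFF.of_isFunctionField hK) P
  choose c hc using fun i => Groth.FunFld1.exists_const_sub_lt_one hd (hj.affine i)
  rw [Groth.FunFld1.isNonsingularAt_iff_jacobian hK hj hbir hc f hgen.symm]
  let a : Fin (n + 1) → P.O := fun i => ⟨φ i / φ 0, hj.affine i⟩
  have hN : M.map (IsLocalRing.residue P.O) =
      (Matrix.of fun i l => Groth.FunFld1.grad c (f i) (Fin.succ l)).map
        (algebraMap k (IsLocalRing.ResidueField P.O)) := by
    ext i l
    rw [Matrix.map_apply, Matrix.map_apply, Matrix.of_apply, Groth.FunFld1.grad,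
      ← Groth.FunFld1.aeval_residue (a := a) hc]
    have hMa : M i l = MvPolynomial.aeval a (MvPolynomial.pderiv l.succ (f i)) := by
      refine Subtype.ext ((hM i l).trans ?_)
      exact (DFunLike.congr_fun (MvPolynomial.algHom_ext (f := MvPolynomial.aeval fun l => φ l / φ 0)
        (g := ({ P.O.subtype with commutes' := fun _ => rfl } : P.O →ₐ[k] K).comp (MvPolynomial.aeval a))
        fun l => by rw [AlgHom.comp_apply, MvPolynomial.aeval_X, MvPolynomial.aeval_X]; rfl) _)
    rw [hMa]
    exact DFunLike.congr_fun (MvPolynomial.algHom_ext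
      (f := ({ IsLocalRing.residue P.O with commutes' := fun _ => rfl } :
        P.O →ₐ[k] IsLocalRing.ResidueField P.O).comp (MvPolynomial.aeval a))
      (g := MvPolynomial.aeval fun i => IsLocalRing.residue P.O (a i))
      fun l => by rw [AlgHom.comp_apply, MvPolynomial.aeval_X, MvPolynomial.aeval_X]; rfl) _
  rw [hN, Groth.FunFld1.rank_map_algebraMap (P := P) hd, Matrix.rank_eq_finrank_span_row,
    Groth.FunFld1.finrank_insert_single_zero, Fintype.card_fin]
  have hle := Submodule.finrank_le (Submodule.span k
    (Set.range fun i => Fin.tail (Groth.FunFld1.grad c (f i))))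
  rw [Module.finrank_fin_fun] at hle
  show _ ↔ Module.finrank k (Submodule.span k
    (Set.range fun i => Fin.tail (Groth.FunFld1.grad c (f i)))) = n - 1
  omega

end Groth.Agent.S11071
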