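import Groth.Statements.S11074
import Groth.Agent.FunFld1.JacobianProj

set_option autoImplicit false
open FunFld

namespace Groth.Agent.S11074

/-- Over an algebraically closed constant field, at a nonsingular point `a = φ(P)` of a plane curve
`V(f)` with birational natural map `φ = (φ₀ : φ₁ : φ₂)`, the tangent line is `(∂f/∂X₀(a) : ∂f/∂X₁(a)
: ∂f/∂X₂(a))`: the corresponding linear form, pulled back along `φ` normalized at `P`, vanishes to
order at least `2` at `P` (the tangent line being the one line whose pullback vanishes to order `≥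
2`). Nonsingular at `P` means that the local ring of `φ` at `P` (quotients of polynomials over `k`
in the `φᵢ/φⱼ`, `φⱼ` of least order at `P`, denominator a unit at `P`) is the whole valuation ring. -/
theorem result
    (k K : Type*) [Field k] [IsAlgClosed k] [Field K] [Algebra k K]
    (hK : FunFld.IsFunctionField k K) (φ : Fin 3 → K) (hφ : LinearIndependent k φ)
    (hbir : IntermediateField.adjoin k (Set.range fun i => φ i / φ 0) = ⊤)
    (f : MvPolynomial (Fin 3) k) (hf : Irreducible f) (hhom : f.IsHomogeneous f.totalDegree)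
    (hfφ : MvPolynomial.aeval φ f = 0) (P : FunFld.Place k K) (j : Fin 3)
    (hj : ∀ i, P.1 (φ i) ≤ P.1 (φ j)) (hns : FunFld.IsNonsingularAt φ P) (a : Fin 3 → P.O)
    (ha : ∀ i, ((a i : P.O) : K) = φ i / φ j) (c : Fin 3 → k)
    (hc : ∀ i, algebraMap k (IsLocalRing.ResidueField P.O) (c i) =
      MvPolynomial.aeval (fun l => IsLocalRing.residue P.O (a l)) (MvPolynomial.pderiv i f)) :
    P.1 (∑ i, c i • (φ i / φ j)) ≤ WithZero.exp (-2) := by
  classical
  obtain ⟨i₁, hi₁⟩ : ∃ i, φ i ≠ 0 := ⟨0, hφ.ne_zero 0⟩
  have hj0 : φ j ≠ 0 := fun h0 => by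
    have := hj i₁
    rw [h0, map_zero, le_zero_iff, map_eq_zero] at this
    exact hi₁ this
  have hjm : Groth.FunFld1.IsMin φ P j := ⟨hj0, hj⟩
  have hd := Groth.FunFld1.deg_eq_one_of_isAlgClosed (Groth.FunFld1.IsFF.of_isFunctionField hK) P
  choose e he using fun i => Groth.FunFld1.exists_const_sub_lt_one hd (hjm.affine i)
  have he' : ∀ i, P.1 (((a i : P.O) : K) - algebraMap k K (e i)) < 1 := fun i => by rw [ha]; exact he i
  have hce : ∀ i, c i = Groth.FunFld1.grad e f i := fun i =>
    (algebraMap k (IsLocalRing.ResidueField P.O)).injective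
      ((hc i).trans (Groth.FunFld1.aeval_residue he' _))
  have hval := Groth.FunFld1.val_grad_le he (p := f)
    (Groth.FunFld1.aeval_ratios_eq_zero hj0 hhom hfφ)
  have hE := Groth.FunFld1.sum_grad_mul_eq_zero hhom (Groth.FunFld1.eval_eq_zero_of_form hjm he hhom hfφ)
  refine le_of_eq_of_le (congrArg P.1 ?_) hval
  simp only [hce, mul_sub, Finset.sum_sub_distrib, ← map_mul, ← map_sum, hE, map_zero, sub_zero]
  exact Finset.sum_congr rfl fun i _ => Algebra.smul_def _ _

end Groth.Agent.S11074
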