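import Groth.Statements.S11075
import Groth.Agent.FunFld1.Rational
-- import your own Groth.Agent.* helpers here

set_option autoImplicit false
open FunFld

namespace Groth.Agent.S11075

/-- Over an algebraically closed constant field, let `φ = (φ₀, …, φₙ)`, `n ≥ 1`, be a projective map
onto the curve `V`. (a) A homogeneous `g` not vanishing identically on `V` vanishes at the image
point of only finitely many places (so a closed set not containing `V` meets `V` in a finite set);
(b) each fibre of `φ` is finite. Here `g` vanishes at `φ(P)` when `g(φ₀/φⱼ, …, φₙ/φⱼ)` lies in the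
maximal ideal of `P` for an entry `φⱼ` of least order at `P`. Two places have the same image point
when some entry `φⱼ` has least order at both and each `φᵢ/φⱼ` is congruent to one constant modulo
both maximal ideals. -/
theorem result (k K : Type*) [Field k] [IsAlgClosed k] [Field K] [Algebra k K]
    (hK : FunFld.IsFunctionField k K) {n : ℕ} (hn : 1 ≤ n)
    (φ : Fin (n + 1) → K) (hφ : LinearIndependent k φ) :
    (∀ g : MvPolynomial (Fin (n + 1)) k, g.IsHomogeneous g.totalDegree →
      MvPolynomial.aeval φ g ≠ 0 →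
        {P : FunFld.Place k K | ∃ j, φ j ≠ 0 ∧ (∀ i, P.1 (φ i) ≤ P.1 (φ j)) ∧
          P.1 (MvPolynomial.aeval (fun i => φ i / φ j) g) < 1}.Finite) ∧
    ∀ P : FunFld.Place k K, {Q : FunFld.Place k K | FunFld.SameImage φ P Q}.Finite := by
  classical
  have hF := (Groth.FunFld1.IsFF.of_isFunctionField hK)
  have hd := Groth.FunFld1.deg_eq_one_of_isAlgClosed (k := k) (K := K) hF
  have hz : ∀ y : K, y ≠ 0 → {P : FunFld.Place k K | P.1 y < 1}.Finite := fun y hy =>
    (hF.finite_zeros y).subset fun P hP => (Groth.FunFld1.ord_pos_iff P y).mpr ⟨hy, hP⟩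
  refine ⟨fun g hg hne => ?_, fun P => ?_⟩
  · refine (Set.finite_iUnion (fun j : {j : Fin (n + 1) // φ j ≠ 0} =>
      hz (MvPolynomial.aeval (fun i => φ i / φ j.1) g) ?_)).subset ?_
    · intro h0
      apply hne
      have e : MvPolynomial.aeval φ g = φ j.1 ^ g.totalDegree * MvPolynomial.aeval (fun i => φ i / φ j.1) g := by
        rw [MvPolynomial.aeval_def, MvPolynomial.aeval_def, MvPolynomial.eval₂_eq', MvPolynomial.eval₂_eq', Finset.mul_sum]
        refine Finset.sum_congr rfl fun d hd => ?_
        have hdeg : ∑ i, d i = g.totalDegree := by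
          have := hg (MvPolynomial.mem_support_iff.mp hd)
          rw [Finsupp.weight_apply, Finsupp.sum_fintype _ _ (by simp)] at this
          simpa using this
        rw [← hdeg, ← Finset.prod_pow_eq_pow_sum]
        rw [mul_comm (∏ i, φ j.1 ^ d i), mul_assoc, ← Finset.prod_mul_distrib]
        congr 1
        refine Finset.prod_congr rfl fun i _ => ?_
        rw [← mul_pow, div_mul_cancel₀ _ j.2]
      rw [e, h0, mul_zero]
    · rintro P ⟨j, hj, -, hlt⟩
      exact Set.mem_iUnion.mpr ⟨⟨j, hj⟩, hlt⟩
  · have h2 : ∀ j : Fin (n + 1), ∃ i, ∀ c : k, φ i / φ j - algebraMap k K c ≠ 0 := by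
      intro j
      obtain ⟨i, hi⟩ : ∃ i, i ≠ j := by
        haveI : Nontrivial (Fin (n + 1)) := Fin.nontrivial_iff_two_le.mpr (by omega)
        exact exists_ne j
      refine ⟨i, fun c hc => ?_⟩
      have e : φ i = c • φ j := by
        rw [Algebra.smul_def, ← sub_eq_zero.mp hc, div_mul_cancel₀ _ (hφ.ne_zero j)]
      have h0 := Fintype.linearIndependent_iff.mp hφ (fun l => (if l = i then 1 else 0) - (if l = j then c else 0)) (by simp [sub_smul, ite_smul, Finset.sum_sub_distrib, e]) i
      simp [hi] at h0
    choose i hi using h2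
    have hex : ∀ j : Fin (n + 1), P.1 (φ (i j)) ≤ P.1 (φ j) → ∃ c : k, P.1 (φ (i j) / φ j - algebraMap k K c) < 1 := by
      intro j hle
      refine Groth.FunFld1.exists_const_sub_lt_one (hd P) ?_
      rw [map_div₀, div_le_one₀ (zero_lt_iff.mpr ((Valuation.ne_zero_iff _).mpr (hφ.ne_zero j)))]
      exact hle
    let T : Fin (n + 1) → k := fun j => if h : P.1 (φ (i j)) ≤ P.1 (φ j) then (hex j h).choose else 0
    refine (Set.finite_iUnion (fun j => hz _ (hi j (T j)))).subset ?_
    rintro Q ⟨j, -, hP, -, hc⟩
    obtain ⟨c, hcP, hcQ⟩ := hc (i j)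
    refine Set.mem_iUnion.mpr ⟨j, ?_⟩
    have hT : P.1 (φ (i j) / φ j - algebraMap k K (T j)) < 1 := by
      simp only [T, dif_pos (hP (i j))]
      exact (hex j (hP (i j))).choose_spec
    have hcc : c = T j := by
      by_contra hne
      have h3 := (P.1.map_sub _ _).trans_lt (max_lt hT hcP)
      rw [sub_sub_sub_cancel_left, ← map_sub, Groth.FunFld1.val_algebraMap P (sub_ne_zero.mpr hne)] at h3
      exact lt_irrefl _ h3
    show Q.1 _ < 1
    rw [← hcc]
    exact hcQ

end Groth.Agent.S11075
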