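import Groth.Statements.S11076
import Groth.Agent.Funfld2.Fibre.Basic

set_option autoImplicit false
open FunFld Groth.FunFld1

namespace Groth.Agent.S11076

/-- Over an algebraically closed constant field, a projective curve (given by a birational projective
map `φ = (φ₀, …, φₙ)`, `n ≥ 1`) is nonsingular at the point `a = φ(P)` if and only if some
hyperplane `∑ cᵢ Xᵢ` has intersection multiplicity `1` with it at `a`: the sum over the places `Q`
of the fibre of `a` of `[φ](Q) + ord_Q(∑ cᵢ φᵢ)` is `1`. Nonsingular at `P` means that the local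
ring of `φ` at `P` (quotients of polynomials over `k` in the `φᵢ/φⱼ`, `φⱼ` of least order at `P`,
denominator a unit at `P`) is the whole valuation ring. Two places have the same image point when
some entry `φⱼ` has least order at both and each `φᵢ/φⱼ` is congruent to one constant modulo both
maximal ideals. -/
theorem result (k K : Type*) [Field k] [IsAlgClosed k] [Field K] [Algebra k K]
    (hK : FunFld.IsFunctionField k K) {n : ℕ} (hn : 1 ≤ n)
    (φ : Fin (n + 1) → K) (hφ : LinearIndependent k φ)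
    (hbir : IntermediateField.adjoin k (Set.range fun i => φ i / φ 0) = ⊤)
    (P : FunFld.Place k K) :
    FunFld.IsNonsingularAt φ P ↔ ∃ c : Fin (n + 1) → k, ∑ i, c i • φ i ≠ 0 ∧
      ∑ᶠ Q ∈ {Q : FunFld.Place k K | FunFld.SameImage φ P Q},
        ((FunFld.mapDiv k φ) Q + Q.ord (∑ i, c i • φ i)) = 1 := by
  classical
  have hF := IsFF.of_isFunctionField hK
  have hd := deg_eq_one_of_isAlgClosed hF
  obtain ⟨j, hj⟩ := exists_isMin (φ := φ) ⟨0, hφ.ne_zero 0⟩ P
  set A := Algebra.adjoin k (Set.range (ratios φ j)) with hA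
  have haff : ∀ Q, FunFld.SameImage φ P Q → IsAffine (ratios φ j) Q :=
    fun Q hQ => Groth.Funfld2.Fibre.isAffine_of_sameImage hK hj hQ
  have hself : FunFld.SameImage φ P P :=
    (Groth.Funfld2.Fibre.sameImage_of_crit hK hj fun z hz => ⟨Groth.FunFld1.InLocRing.le_one hz, Iff.rfl⟩).2
  have hmap : ∀ Q, FunFld.SameImage φ P Q → (FunFld.mapDiv k φ) Q = -Q.ord (φ j) := by
    intro Q hQ
    obtain ⟨i, hi⟩ := hF.exists_ord_eq_neg_mapDiv φ Q
    have h1 := hF.ord_ge_neg_mapDiv φ Q j
    have h2 := (isAffine_ratios_iff hj.1).1 (haff Q hQ) i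
    rw [val_eq_exp_neg_ord Q (hφ.ne_zero i), val_eq_exp_neg_ord Q hj.1, WithZero.exp_le_exp] at h2
    omega
  have hterm : ∀ (c : Fin (n + 1) → k), ∑ i, c i • φ i ≠ 0 → ∀ Q, FunFld.SameImage φ P Q →
      (FunFld.mapDiv k φ) Q + Q.ord (∑ i, c i • φ i) = Q.ord ((∑ i, c i • φ i) / φ j) := by
    intro c hc Q hQ
    rw [hmap Q hQ, div_eq_mul_inv, ord_mul Q hc (inv_ne_zero hj.1), ord_inv]
    ring
  have hmemA : ∀ c : Fin (n + 1) → k, (∑ i, c i • φ i) / φ j ∈ A := fun c => by
    rw [Finset.sum_div]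
    exact sum_mem fun i _ => by
      rw [smul_div_assoc]
      exact Subalgebra.smul_mem _ (Algebra.subset_adjoin (Set.mem_range_self (f := ratios φ j) i)) _
  set F := {Q : FunFld.Place k K | FunFld.SameImage φ P Q} with hFdef
  constructor
  · intro hns
    obtain ⟨⟨t, ht, htP⟩, hsep⟩ := sepParam_of_nonsingular hK hd hj hns
    obtain ⟨i, c, hic⟩ := exists_coord_param hd hj.affine ht htP
    set cv : Fin (n + 1) → k := Pi.single i 1 - c • Pi.single j 1 with hcv
    have hsum : ∑ l, cv l • φ l = φ i - c • φ j := by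
      simp [hcv, sub_smul, Finset.sum_sub_distrib, Pi.single_apply, ite_smul]
    have hq : (φ i - c • φ j) / φ j = ratios φ j i - algebraMap k K c := by
      rw [sub_div, Algebra.smul_def, mul_div_cancel_right₀ _ hj.1]; rfl
    have hne : ∑ l, cv l • φ l ≠ 0 := by
      rw [hsum]
      intro e
      rw [← hq, e, zero_div, map_zero] at hic
      exact WithZero.exp_ne_zero hic.symm
    refine ⟨cv, hne, ?_⟩
    have hFP : F = {P} := by
      refine Set.eq_singleton_iff_unique_mem.2 ⟨hself, fun Q hQ => ?_⟩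
      by_contra hQP
      obtain ⟨b, hb, hbP, hbQ⟩ := hsep Q hQP (haff Q hQ)
      have h1 := ((Groth.Funfld2.Fibre.crit_of_sameImage hK hQ
        (inLocRing_of_mem_adjoin hj (sub_mem hb (one_mem _)))).2).2 hbP
      have h2 := (Q.1.map_sub b (b - 1)).trans_lt (max_lt hbQ h1)
      rw [sub_sub_cancel, map_one] at h2
      exact lt_irrefl _ h2
    change ∑ᶠ Q ∈ F, _ = 1
    rw [hFP, finsum_mem_singleton, hterm cv hne P hself, hsum, hq, ord_eq_of_val_eq P hic]
    norm_num
  · rintro ⟨c, hc, hsum⟩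
    set r := (∑ i, c i • φ i) / φ j with hr
    have hr0 : r ≠ 0 := div_ne_zero hc hj.1
    change ∑ᶠ Q ∈ F, _ = 1 at hsum
    rw [finsum_mem_congr (s := F) (t := F) rfl (fun Q hQ => hterm c hc Q hQ)] at hsum
    have hnn : ∀ Q ∈ F, 0 ≤ Q.ord r := fun Q hQ =>
      (val_le_one_iff Q r).1 ((haff Q hQ).le_one (hmemA c))
    have hrP : P.1 r < 1 := by
      by_contra h
      have h0 : ∀ Q ∈ F, Q.ord r = 0 := fun Q hQ => by
        have h1 := hnn Q hQ
        have h2 := (Groth.Funfld2.Fibre.crit_of_sameImage hK hQ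
          (inLocRing_of_mem_adjoin hj (hmemA c))).2
        rw [val_lt_one_iff Q hr0] at h2
        by_contra hne
        exact h (h2.1 (by omega))
      rw [finsum_mem_congr rfl h0, finsum_mem_zero] at hsum
      exact zero_ne_one hsum
    have hpos : ∀ Q ∈ F, 1 ≤ Q.ord r := fun Q hQ => by
      have := (Groth.Funfld2.Fibre.crit_of_sameImage hK hQ
        (inLocRing_of_mem_adjoin hj (hmemA c))).2.2 hrP
      rw [val_lt_one_iff Q hr0] at this
      omega
    have hfin : F.Finite := (hF.finite_zeros r).subset fun Q hQ => by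
      have := hpos Q hQ
      change 0 < Q.ord r
      omega
    rw [finsum_mem_eq_finite_toFinset_sum _ hfin] at hsum
    have hcard : (hfin.toFinset.card : ℤ) ≤ 1 := by
      rw [← hsum]
      simpa using Finset.card_nsmul_le_sum hfin.toFinset (fun Q => Q.ord r) 1
        (fun Q hQ => hpos Q (hfin.mem_toFinset.1 hQ))
    have hPm : P ∈ hfin.toFinset := hfin.mem_toFinset.2 hself
    have honly : ∀ Q ∈ hfin.toFinset, Q = P := fun Q hQ =>
      Finset.card_le_one.1 (by omega) Q hQ P hPm
    rw [Finset.sum_eq_single P (fun Q hQ hne => absurd (honly Q hQ) hne) (fun h => absurd hPm h)] at hsum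
    refine nonsingular_of_sepParam hK hd hj ⟨⟨r, hmemA c, ?_⟩, fun Q hQ hQa => ?_⟩
    · rw [val_eq_exp_neg_ord P hr0, hsum]
    · exact Groth.Funfld2.Fibre.exists_separating hK hj hQa fun hs =>
        hQ (honly Q (hfin.mem_toFinset.2 hs))

end Groth.Agent.S11076
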