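import Groth.Statements.S11077
import Groth.Agent.Funfld2.Fibre.Conductor
import Groth.Agent.Funfld2.Plane.LocalCurve

set_option autoImplicit false
open FunFld Groth.FunFld1

namespace Groth.Agent.S11077

/-- Over an algebraically closed constant field, for a plane curve `V(f)` with natural map `(1 : x :
y)`, a polynomial `g` not vanishing on the curve and a finite point `a = (c₀, c₁)` of the curve
below the place `P`, the intersection multiplicity of `V(g)` with the curve at `a` (the sum of
`ord_Q g(x, y)` over the places `Q` with image point `a`) equals `dim_k A/(f, g)` with `A` the local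
ring of the plane at `a`. Two places have the same image point when some entry of `(1, x, y)` has
least order at both and the ratios are congruent to common constants modulo both maximal ideals. -/
theorem result
    (k K : Type*) [Field k] [IsAlgClosed k] [Field K] [Algebra k K]
    (hK : FunFld.IsFunctionField k K) (x y : K)
    (hxy : IntermediateField.adjoin k ({x, y} : Set K) = ⊤) (f g : MvPolynomial (Fin 2) k)
    (hf : Irreducible f) (hfxy : MvPolynomial.aeval ![x, y] f = 0)
    (hgxy : MvPolynomial.aeval ![x, y] g ≠ 0) (P : FunFld.Place k K) (c : Fin 2 → k)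
    (hc : ∀ i, P.1 (![x, y] i - algebraMap k K (c i)) < 1)
    (M : Ideal (MvPolynomial (Fin 2) k)) [M.IsMaximal]
    (hM : M = Ideal.span {MvPolynomial.X 0 - MvPolynomial.C (c 0),
      MvPolynomial.X 1 - MvPolynomial.C (c 1)}) :
    ∑ᶠ Q ∈ {Q : FunFld.Place k K | FunFld.SameImage ![(1 : K), x, y] P Q},
        Q.ord (MvPolynomial.aeval ![x, y] g) =
      (Module.finrank k (Localization.AtPrime M ⧸
        Ideal.map (algebraMap (MvPolynomial (Fin 2) k) (Localization.AtPrime M))
          (Ideal.span {f, g})) : ℤ) := by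
  classical
  have hF := IsFF.of_isFunctionField hK
  have hd := deg_eq_one_of_isAlgClosed hF
  set φ : Fin 3 → K := ![(1 : K), x, y] with hφdef
  set ev : MvPolynomial (Fin 2) k →ₐ[k] K := MvPolynomial.aeval ![x, y] with hev
  have hPa : P.1 (x - algebraMap k K (c 0)) < 1 := by simpa using hc 0
  have hPb : P.1 (y - algebraMap k K (c 1)) < 1 := by simpa using hc 1
  have hone : ∀ (R : FunFld.Place k K) (z : K) (d : k), R.1 (z - algebraMap k K d) < 1 → R.1 z ≤ 1 :=
    fun R z d hz => by
      rw [show z = (z - algebraMap k K d) + algebraMap k K d by ring]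
      exact Valuation.map_add_le _ hz.le (R.2.1 d)
  have hj : IsMin φ P 0 := ⟨by simp [hφdef], fun i => by
    fin_cases i <;> simp [hφdef, hone P x _ hPa, hone P y _ hPb]⟩
  have hrange : ∀ z, z ∈ Algebra.adjoin k (Set.range (ratios φ 0)) ↔ ∃ r, ev r = z := fun z => by
    rw [hφdef, Groth.Funfld2.Plane.range_ratios, Algebra.adjoin_range_eq_range_aeval]
    exact Iff.rfl
  -- the fibre
  set F := {Q : FunFld.Place k K | FunFld.SameImage φ P Q} with hFdef
  have hFmem : ∀ Q, Q ∈ F ↔
      Q.1 (x - algebraMap k K (c 0)) < 1 ∧ Q.1 (y - algebraMap k K (c 1)) < 1 := by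
    intro Q
    constructor
    · intro hQ
      have key : ∀ r : MvPolynomial (Fin 2) k, P.1 (ev r) < 1 → Q.1 (ev r) < 1 := fun r hr =>
        ((Groth.Funfld2.Fibre.crit_of_sameImage hK hQ
          (inLocRing_of_mem_adjoin hj ((hrange _).2 ⟨r, rfl⟩))).2).2 hr
      constructor
      · have e : ev (MvPolynomial.X 0 - MvPolynomial.C (c 0)) = x - algebraMap k K (c 0) := by simp [hev]
        exact e ▸ key _ (by rw [e]; exact hPa)
      · have e : ev (MvPolynomial.X 1 - MvPolynomial.C (c 1)) = y - algebraMap k K (c 1) := by simp [hev]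
        exact e ▸ key _ (by rw [e]; exact hPb)
    · rintro ⟨h0, h1⟩
      refine ⟨0, hj.1, hj.2, fun i => by
        fin_cases i <;> simp [hφdef, hone Q x _ h0, hone Q y _ h1], fun i => ?_⟩
      fin_cases i
      · exact ⟨1, by simp [hφdef], by simp [hφdef]⟩
      · exact ⟨c 0, by simpa [hφdef] using hPa, by simpa [hφdef] using h0⟩
      · exact ⟨c 1, by simpa [hφdef] using hPb, by simpa [hφdef] using h1⟩
  have hFfin : F.Finite := by
    by_cases hx0 : x = algebraMap k K (c 0)
    · by_cases hy0 : y = algebraMap k K (c 1)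
      · exfalso
        obtain ⟨t, -, ht⟩ := exists_uniformizer P
        have hbot : IntermediateField.adjoin k ({x, y} : Set K) ≤ ⊥ :=
          IntermediateField.adjoin_le_iff.2 (by
            rintro z (rfl | rfl)
            · exact hx0 ▸ (⊥ : IntermediateField k K).algebraMap_mem _
            · exact hy0 ▸ (⊥ : IntermediateField k K).algebraMap_mem _)
        rw [hxy] at hbot
        obtain ⟨d, hd'⟩ := IntermediateField.mem_bot.1 (hbot (IntermediateField.mem_top (x := t)))
        rcases eq_or_ne d 0 with e | e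
        · rw [← hd', e, map_zero, map_zero] at ht
          exact WithZero.exp_ne_zero ht.symm
        · rw [← hd', val_algebraMap P e, eq_comm, WithZero.exp_eq_one] at ht
          omega
      · refine (hF.finite_zeros (y - algebraMap k K (c 1))).subset fun Q hQ => ?_
        exact (val_lt_one_iff Q (sub_ne_zero.2 hy0)).1 ((hFmem Q).1 hQ).2
    · refine (hF.finite_zeros (x - algebraMap k K (c 0))).subset fun Q hQ => ?_
      exact (val_lt_one_iff Q (sub_ne_zero.2 hx0)).1 ((hFmem Q).1 hQ).1
  set S := hFfin.toFinset with hS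
  -- the local ring and its integral closure
  have hgen : IntermediateField.adjoin k ({x, y} : Set K) = ⊤ := hxy
  have hunit : ∀ s, MvPolynomial.eval c s ≠ 0 → P.1 (ev s) = 1 :=
    fun s hs => Groth.Funfld2.Plane.val_aeval_eq_one P hPa hPb hs
  have hMmem : ∀ s, s ∈ M ↔ MvPolynomial.eval c s = 0 := fun s => by
    constructor
    · intro h
      rw [hM, Ideal.mem_span_pair] at h
      obtain ⟨p, q, rfl⟩ := h
      simp
    · intro h
      obtain ⟨s₀, s₁, hs⟩ := Groth.Funfld2.Plane.exists_decomp c s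
      rw [h, map_zero, zero_add] at hs
      rw [hM, Ideal.mem_span_pair]
      exact ⟨s₀, s₁, by rw [hs]; ring⟩
  have hevu : ∀ s : M.primeCompl, IsUnit (ev s) := fun s => by
    have h1 := hunit s (fun h => s.2 ((hMmem s).2 h))
    exact isUnit_iff_ne_zero.2 fun e => by rw [e, map_zero] at h1; exact zero_ne_one h1
  let Ψ : Localization.AtPrime M →ₐ[k] K :=
    IsLocalization.liftAlgHom (M := M.primeCompl) (S := Localization.AtPrime M) (f := ev) hevu
  have hΨ : ∀ r, Ψ (algebraMap _ _ r) = ev r := fun r => IsLocalization.lift_eq _ r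
  have hrep : ∀ a, ∃ (r : MvPolynomial (Fin 2) k) (s : M.primeCompl),
      a * algebraMap _ _ (s : MvPolynomial (Fin 2) k) = algebraMap _ _ r ∧ Ψ a * ev s = ev r := fun a => by
    obtain ⟨⟨r, s⟩, h⟩ := IsLocalization.surj M.primeCompl a
    exact ⟨r, s, h, by rw [← hΨ, ← map_mul, h, hΨ]⟩
  set O := LinearMap.range Ψ.toLinearMap with hO
  have hOmem : ∀ z, z ∈ O ↔ FunFld.InLocRing φ P z := fun z => by
    constructor
    · rintro ⟨a, rfl⟩
      obtain ⟨r, s, -, h⟩ := hrep a
      exact inLocRing_of_frac hj ((hrange _).2 ⟨r, rfl⟩) ((hrange _).2 ⟨_, rfl⟩)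
        (hunit s (fun e => s.2 ((hMmem s).2 e))) h
    · intro h
      obtain ⟨u, hu, w, hw, hw1, hzw⟩ := inLocRing_at h hj
      obtain ⟨r, rfl⟩ := (hrange u).1 hu
      obtain ⟨s, rfl⟩ := (hrange w).1 hw
      have hs : s ∈ M.primeCompl := fun hs => by
        have h2 := Groth.Funfld2.Plane.val_aeval_sub_eval P hPa hPb s
        rw [(hMmem s).1 hs, map_zero, sub_zero, hw1] at h2
        exact lt_irrefl _ h2
      refine ⟨IsLocalization.mk' _ r ⟨s, hs⟩, ?_⟩
      change Ψ _ = z
      have h3 := congrArg Ψ (IsLocalization.mk'_spec (Localization.AtPrime M) r ⟨s, hs⟩)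
      rw [map_mul, hΨ, hΨ, ← hzw] at h3
      exact mul_right_cancel₀ ((hevu ⟨s, hs⟩).ne_zero) h3
  set R := SBall S (fun _ => (0 : ℤ)) with hR
  have hOR : O ≤ R := fun z hz => mem_SBall.2 fun Q hQ => by
    rw [WithZero.exp_zero]
    exact (Groth.Funfld2.Fibre.crit_of_sameImage hK (hFfin.mem_toFinset.1 hQ) ((hOmem z).1 hz)).1
  -- finite codimension
  obtain ⟨N, hN⟩ := Groth.Funfld2.Fibre.exists_local_conductor hK (φ := φ) hj (by
    rw [eq_top_iff, ← hxy]
    refine IntermediateField.adjoin_le_iff.2 ?_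
    rintro z (rfl | rfl)
    · exact IntermediateField.subset_adjoin k _ ⟨1, by simp [hφdef, ratios]⟩
    · exact IntermediateField.subset_adjoin k _ ⟨2, by simp [hφdef, ratios]⟩)
  obtain ⟨-, d, -, -, hOd⟩ := (hF.qfin_sball S (fun _ => (0 : ℤ)) (fun _ => N)).split (M := O)
    (fun z hz => (hOmem z).2 (hN z fun Q hQ => by
      simpa using mem_SBall.1 hz Q (hFfin.mem_toFinset.2 hQ))) hOR
  -- multiplication by `g`
  set g' := ev g with hg'
  have hgO : g' ∈ O := ⟨algebraMap _ _ g, hΨ g⟩
  have hgnn : ∀ Q ∈ S, 0 ≤ Q.ord g' := fun Q hQ => by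
    have := mem_SBall.1 (hOR hgO) Q hQ
    rw [WithZero.exp_zero] at this
    exact (val_le_one_iff Q _).1 this
  set mu := LinearMap.mulLeft k g' with hmu
  have hmuinj : Function.Injective mu := fun a b h => mul_left_cancel₀ hgxy h
  have hgR : R.map mu = SBall S (fun Q => (0 : ℤ) - ((Q.ord g').toNat : ℤ)) := by
    ext z
    rw [mem_SBall]
    constructor
    · rintro ⟨w, hw, rfl⟩ Q hQ
      rw [hmu, LinearMap.mulLeft_apply, map_mul, val_eq_exp_neg_ord Q hgxy]
      refine (mul_le_mul' le_rfl (mem_SBall.1 hw Q hQ)).trans ?_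
      rw [← WithZero.exp_add, WithZero.exp_le_exp]
      have := hgnn Q hQ
      omega
    · intro hz
      refine ⟨z / g', mem_SBall.2 fun Q hQ => ?_, mul_div_cancel₀ _ hgxy⟩
      rw [map_div₀, div_le_iff₀ (zero_lt_iff.2 ((Valuation.ne_zero_iff _).2 hgxy))]
      refine (hz Q hQ).trans ?_
      rw [val_eq_exp_neg_ord Q hgxy, ← WithZero.exp_add, WithZero.exp_le_exp]
      have := hgnn Q hQ
      omega
  have hgRR := hF.qfin_sball S (fun _ => (0 : ℤ)) (fun Q => (Q.ord g').toNat)
  rw [← hgR] at hgRR
  have htot := (hOd.map mu hmuinj).trans hgRR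
  have hgOO : O.map mu ≤ O := by
    rintro _ ⟨w, ⟨a, rfl⟩, rfl⟩
    exact ⟨algebraMap _ _ g * a, by simp [hmu, hg', hΨ]⟩
  obtain ⟨p, q, hpq, hp, hq⟩ := htot.split hgOO hOR
  have hqd := hq.unique hOd
  have hpe : (p : ℤ) = ∑ Q ∈ S, Q.ord g' := by
    have : p = ∑ Q ∈ S, (Q.ord g').toNat * Q.deg := by omega
    rw [this, Nat.cast_sum]
    refine Finset.sum_congr rfl fun Q hQ => ?_
    rw [hd Q, mul_one]
    exact Int.toNat_of_nonneg (hgnn Q hQ)
  rw [finsum_mem_eq_finite_toFinset_sum _ hFfin, ← hpe]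
  congr 1
  -- identify the quotient
  set I := Ideal.map (algebraMap (MvPolynomial (Fin 2) k) (Localization.AtPrime M)) (Ideal.span {f, g})
    with hI
  obtain ⟨G, hG, -, hker⟩ := exists_ker_aeval_plane hK hxy
  let θ : Localization.AtPrime M →ₗ[k] (↥O ⧸ Submodule.comap O.subtype (O.map mu)) :=
    (Submodule.mkQ _).comp Ψ.toLinearMap.rangeRestrict
  have hθ : Function.Surjective θ :=
    (Submodule.mkQ_surjective _).comp Ψ.toLinearMap.surjective_rangeRestrict
  have hθker : LinearMap.ker θ = I.restrictScalars k := by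
    ext a
    rw [LinearMap.mem_ker, Submodule.restrictScalars_mem]
    change Submodule.Quotient.mk (Ψ.toLinearMap.rangeRestrict a) = 0 ↔ _
    rw [Submodule.Quotient.mk_eq_zero, Submodule.mem_comap]
    change Ψ a ∈ O.map mu ↔ _
    constructor
    · rintro ⟨w, ⟨b, rfl⟩, hab⟩
      have h0 : Ψ (a - algebraMap _ _ g * b) = 0 := by
        rw [map_sub, map_mul, hΨ, ← hab]
        simp [hmu, hg']
      obtain ⟨r, s, hrs, hr⟩ := hrep (a - algebraMap _ _ g * b)
      rw [h0, zero_mul, eq_comm] at hr
      have hr' : r ∈ Ideal.span {G} := hker ▸ hr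
      rw [Ideal.mem_span_singleton] at hr'
      have hfG : f ∈ Ideal.span {G} := hker ▸ hfxy
      rw [Ideal.mem_span_singleton] at hfG
      have hfr : r ∈ Ideal.span {f, g} := Ideal.span_mono (by simp : ({f} : Set _) ⊆ {f, g})
        (Ideal.mem_span_singleton.2 (((hG.irreducible.associated_of_dvd hf hfG).symm.dvd).trans hr'))
      have h1 : a - algebraMap _ _ g * b ∈ I := by
        rw [show a - algebraMap _ _ g * b = algebraMap _ _ r *
          IsLocalization.mk' (Localization.AtPrime M) (1 : MvPolynomial (Fin 2) k) s by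
          rw [← hrs, mul_assoc, IsLocalization.mk'_spec' _ 1 s, map_one, mul_one]]
        exact I.mul_mem_right _ (Ideal.mem_map_of_mem _ hfr)
      have h2 : algebraMap _ _ g * b ∈ I :=
        I.mul_mem_right _ (Ideal.mem_map_of_mem _ (Ideal.subset_span (by simp)))
      simpa using I.add_mem h1 h2
    · intro ha
      rw [hI, Ideal.map_span, Set.image_pair, Ideal.mem_span_pair] at ha
      obtain ⟨p', q', rfl⟩ := ha
      refine ⟨Ψ q', ⟨q', rfl⟩, ?_⟩
      rw [map_add, map_mul, map_mul, hΨ, hΨ, show ev f = 0 from hfxy]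
      simp [hmu, hg', mul_comm]
  rw [← hp.2.2]
  exact (((Submodule.Quotient.restrictScalarsEquiv k I).symm.trans
    (Submodule.quotEquivOfEq _ _ hθker.symm)).trans (θ.quotKerEquivOfSurjective hθ)).finrank_eq.symm

end Groth.Agent.S11077
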