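import Groth.Statements.S11079
import Mathlib.Tactic
import Mathlib.LinearAlgebra.LinearIndependent.Lemmas
import Mathlib.LinearAlgebra.Matrix.ToLinearEquiv
import Mathlib.LinearAlgebra.Dual.Lemmas
import Mathlib.FieldTheory.Galois.Basic
import Mathlib.LinearAlgebra.Matrix.GeneralLinearGroup.Defs

set_option autoImplicit false
universe u
open CAlg

namespace Groth.Agent.S11079

/-- Let L/K be a finite Galois extension of fields, n a natural number, and B a map from the Galois
group of L over K to the invertible n × n matrices over L such that B(σ) · σ(B(τ)) = B(στ) for all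
σ, τ, where σ acts on matrices entrywise and στ is the automorphism applying τ first. Then there is
an invertible matrix A over L with B(σ) = A⁻¹ · σ(A) for every σ; that is, every 1-cocycle of the
Galois group with values in GL_n(L) is a coboundary. -/
theorem result (K L : Type u) [Field K] [Field L]
    [Algebra K L] [FiniteDimensional K L] [IsGalois K L] (n : ℕ)
    (B : (L ≃ₐ[K] L) → GL (Fin n) L)
    (hB : ∀ σ τ : L ≃ₐ[K] L,
      (B σ : Matrix (Fin n) (Fin n) L) * (B τ : Matrix (Fin n) (Fin n) L).map σ = (B (σ * τ) : Matrix (Fin n) (Fin n) L)) :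
    ∃ A : GL (Fin n) L, ∀ σ : L ≃ₐ[K] L,
      (B σ : Matrix (Fin n) (Fin n) L) = ((A⁻¹ : GL (Fin n) L) : Matrix (Fin n) (Fin n) L) * (A : Matrix (Fin n) (Fin n) L).map σ := by
  classical
  let φ : Matrix (Fin n) (Fin n) L → (L ≃ₐ[K] L) → Matrix (Fin n) (Fin n) L := fun C σ => (B σ : Matrix (Fin n) (Fin n) L) * C.map σ
  let b : (Fin n → L) → (Fin n → L) := fun v => ∑ σ : L ≃ₐ[K] L, Matrix.mulVec (B σ : Matrix (Fin n) (Fin n) L) (fun i => σ (v i))
  have hspan : Submodule.span L (Set.range b) = ⊤ := by
    by_contra hne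
    obtain ⟨w, hw0, hw⟩ := Submodule.exists_dual_map_eq_bot_of_lt_top (lt_top_iff_ne_top.mpr hne) inferInstance
    apply hw0
    have hvan : ∀ v, w (b v) = 0 := fun v => by
      have : w (b v) ∈ Submodule.map w (Submodule.span L (Set.range b)) :=
        Submodule.mem_map_of_mem (Submodule.subset_span ⟨v, rfl⟩)
      rwa [hw, Submodule.mem_bot] at this
    refine (LinearMap.pi_ext' fun j => LinearMap.ext_ring ?_)
    let g : (L ≃ₐ[K] L) → L := fun σ => w (Matrix.mulVec (B σ : Matrix (Fin n) (Fin n) L) (Pi.single j 1))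
    have hli := (linearIndependent_algHom_toLinearMap K L L).comp
      (fun σ : L ≃ₐ[K] L => (σ : L →ₐ[K] L)) AlgEquiv.coe_toAlgHom_injective
    have hsum : ∑ σ, g σ • ((σ : L →ₐ[K] L).toLinearMap) = 0 := by
      refine LinearMap.ext fun c => ?_
      rw [LinearMap.zero_apply, ← hvan (Pi.single j c)]
      simp only [b, map_sum, LinearMap.sum_apply, LinearMap.smul_apply]
      refine Finset.sum_congr rfl fun σ _ => ?_
      have : (fun i => σ ((Pi.single j c : Fin n → L) i)) = σ c • (Pi.single j (1 : L) : Fin n → L) := by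
        funext i
        rcases eq_or_ne i j with rfl | h
        · simp
        · simp [h]
      rw [this, Matrix.mulVec_smul, map_smul]
      simp [g, mul_comm]
    have h1 := Fintype.linearIndependent_iff.mp hli g hsum 1
    have hB1 : (B 1 : Matrix (Fin n) (Fin n) L) = 1 := by
      have h := hB 1 1
      rw [mul_one, show ((B 1 : Matrix (Fin n) (Fin n) L).map (1 : L ≃ₐ[K] L)) = (B 1 : Matrix (Fin n) (Fin n) L) by ext; rfl] at h
      have h2 : B 1 * B 1 = B 1 := Units.ext h
      rw [mul_eq_left.mp h2, Units.val_one]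
    simp only [g, hB1, Matrix.one_mulVec] at h1
    simpa using h1
  obtain ⟨f, hf⟩ : ∃ f : Fin n → (Fin n → L), LinearIndependent L (fun j => b (f j)) := by
    obtain ⟨t, htsub, htspan, htli⟩ := exists_linearIndependent L (Set.range b)
    have htop : Submodule.span L t = ⊤ := htspan.trans hspan
    have hbasis : Module.Basis t L (Fin n → L) := Module.Basis.mk htli (by rw [Subtype.range_coe, htop])
    let e := (Module.Basis.indexEquiv hbasis (Pi.basisFun L (Fin n))).symm
    choose f hf using fun j => htsub (e j).2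
    refine ⟨f, ?_⟩
    have := htli.comp e e.injective
    have he : (fun j => b (f j)) = Subtype.val ∘ e := funext hf
    rw [he]
    exact this
  let C : Matrix (Fin n) (Fin n) L := fun i j => f j i
  let A0 : Matrix (Fin n) (Fin n) L := ∑ σ : L ≃ₐ[K] L, φ C σ
  have hA0 : IsUnit A0 := by
    rw [← Matrix.linearIndependent_cols_iff_isUnit]
    convert hf using 1
    funext j i
    simp [A0, φ, b, C, Matrix.col, Matrix.sum_apply, Matrix.map, Matrix.of_apply, Matrix.mul_apply, Matrix.mulVec, dotProduct]
  have hfix : ∀ τ : L ≃ₐ[K] L, (B τ : Matrix (Fin n) (Fin n) L) * A0.map τ = A0 := by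
    intro τ
    have : A0.map τ = ∑ σ, ((B σ : Matrix (Fin n) (Fin n) L).map τ) * C.map (τ * σ : L ≃ₐ[K] L) := by
      show (τ : L ≃ₐ[K] L).toAlgHom.toRingHom.mapMatrix A0 = _
      simp only [A0, φ, map_sum, map_mul]
      refine Finset.sum_congr rfl fun σ _ => ?_
      congr 1
    rw [this, Finset.mul_sum]
    simp only [← Matrix.mul_assoc, hB]
    exact Equiv.sum_comp (Equiv.mulLeft τ) (φ C)
  refine ⟨hA0.unit⁻¹, fun σ => ?_⟩
  rw [inv_inv, IsUnit.unit_spec]
  have h1 : A0.map σ * ((hA0.unit⁻¹ : GL (Fin n) L) : Matrix (Fin n) (Fin n) L).map σ = 1 := by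
    rw [← Matrix.map_mul, IsUnit.mul_val_inv, Matrix.map_one _ (map_zero σ) (map_one σ)]
  calc (B σ : Matrix (Fin n) (Fin n) L) = (B σ : Matrix (Fin n) (Fin n) L) * A0.map σ *
        ((hA0.unit⁻¹ : GL (Fin n) L) : Matrix (Fin n) (Fin n) L).map σ := by rw [Matrix.mul_assoc, h1, mul_one]
    _ = A0 * _ := by rw [hfix]

end Groth.Agent.S11079
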