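import Groth.Statements.S11080
import Mathlib

set_option autoImplicit false
universe u
open CAlg

namespace Groth.Agent.S11080

/-- Valuation rings over a curve: let A be a Dedekind domain with fraction field K. A valuation subring
O of K contains A and is different from K if and only if O is the valuation ring of the v-adic
valuation of K at some nonzero prime v of A (equivalently O is the local ring of A at a maximal
ideal, a discrete valuation ring). (The published statement takes A to be the coordinate ring of a
nonsingular affine curve over an algebraically closed field, which is such a Dedekind domain; its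
proof uses only that the local rings of A at nonzero primes are discrete valuation rings and that
nonzero primes are maximal.) -/
theorem result (A K : Type u) [CommRing A]
    [IsDedekindDomain A] [Field K] [Algebra A K] [IsFractionRing A K] (O : ValuationSubring K) :
    ((algebraMap A K).range ≤ O.toSubring ∧ O ≠ ⊤) ↔
      ∃ v : IsDedekindDomain.HeightOneSpectrum A, O = (v.valuation K).valuationSubring := by
  constructor
  · rintro ⟨hA, htop⟩
    let f : A →+* O := (algebraMap A K).codRestrict O.toSubring fun a => hA ⟨a, rfl⟩
    let P : Ideal A := (IsLocalRing.maximalIdeal O).comap f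
    have hP : ∀ a, a ∉ P → IsUnit (f a) := fun a ha => by
      by_contra h
      exact ha ((IsLocalRing.mem_maximalIdeal _).mpr h)
    have hdiv : ∀ a s : A, s ∉ P → algebraMap A K a * (algebraMap A K s)⁻¹ ∈ O := by
      intro a s hs
      obtain ⟨u, hu⟩ := (hP s hs).exists_right_inv
      have h1 : algebraMap A K s * (u : K) = 1 := congrArg Subtype.val hu
      rw [← eq_inv_of_mul_eq_one_right h1]
      exact O.mul_mem _ _ (hA ⟨a, rfl⟩) u.2
    have hP0 : P ≠ ⊥ := by
      intro h0
      refine htop (eq_top_iff.mpr fun x _ => ?_)
      obtain ⟨a, s, hs, rfl⟩ := IsFractionRing.div_surjective (A := A) x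
      rw [div_eq_mul_inv]
      exact hdiv a s fun h => nonZeroDivisors.ne_zero hs (by rwa [h0, Ideal.mem_bot] at h)
    let v : IsDedekindDomain.HeightOneSpectrum A := ⟨P, Ideal.comap_isPrime _ _, hP0⟩
    refine ⟨v, ?_⟩
    rw [← IsDedekindDomain.HeightOneSpectrum.valuationSubringAtPrime_eq_valuationSubring]
    refine (ValuationSubring.eq_of_le_of_ne_top _ ?_ htop).symm
    rintro x ⟨a, s, hs, rfl⟩
    exact hdiv a s hs
  · rintro ⟨v, rfl⟩
    refine ⟨?_, ?_⟩
    · rintro _ ⟨a, rfl⟩
      exact v.valuation_le_one a
    · simp only [ne_eq, Valuation.valuationSubring_eq_top_iff, not_not]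
      infer_instance

end Groth.Agent.S11080
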