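import Groth.Statements.S2219
import Mathlib.RingTheory.Trace.Basic
import Mathlib.RingTheory.Length
import Mathlib.RingTheory.FiniteLength
import Mathlib.RingTheory.SimpleModule.Basic
import Mathlib.LinearAlgebra.Trace
import Mathlib.RingTheory.Artinian.Ring
import Mathlib.LinearAlgebra.Isomorphisms
import Mathlib.RingTheory.HopkinsLevitzki

set_option autoImplicit false
universe u
open Disc

namespace Groth.Agent.S2219

open IsLocalRing

/-- The trace is additive along an invariant subspace. -/
lemma trace_quot {k V : Type u} [Field k] [AddCommGroup V] [Module k V] [FiniteDimensional k V]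
    (W : Submodule k V) (f : V →ₗ[k] V) (hf : ∀ w ∈ W, f w ∈ W) :
    LinearMap.trace k V f = LinearMap.trace k W (f.restrict hf) +
      LinearMap.trace k (V ⧸ W) (W.mapQ W f hf) := by
  obtain ⟨r, hr⟩ := W.subtype.exists_leftInverse_of_injective W.ker_subtype
  let s₀ : V →ₗ[k] V := LinearMap.id - W.subtype.comp r
  have hs₀ : W ≤ LinearMap.ker s₀ := fun w hw => by
    have := LinearMap.congr_fun hr ⟨w, hw⟩
    simp only [LinearMap.comp_apply, Submodule.subtype_apply, LinearMap.id_apply] at this
    simp [s₀, this]
  let s : (V ⧸ W) →ₗ[k] V := W.liftQ s₀ hs₀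
  have hd : f = (f.comp W.subtype).comp r + (f.comp s).comp W.mkQ := by
    ext v; simp [s, s₀]
  conv_lhs => rw [hd]
  rw [map_add, LinearMap.trace_comp_comm' r (f.comp W.subtype),
    LinearMap.trace_comp_comm' W.mkQ (f.comp s)]
  congr 2
  · ext w
    have := LinearMap.congr_fun hr ⟨f w, hf w w.2⟩
    simp only [LinearMap.comp_apply, Submodule.subtype_apply, LinearMap.id_apply] at this
    simp [LinearMap.restrict_apply, this]
  · ext v
    simpa [s, s₀, sub_eq_zero, Submodule.Quotient.eq] using hf _ (r v).2

lemma trace_lsmul_eq (k A : Type u) [Field k] [CommRing A] [Algebra k A] [FiniteDimensional k A]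
    [IsLocalRing A] (a : A) (M : Type u) [AddCommGroup M] [Module A M] (hM : IsFiniteLength A M) :
    ∀ [Module k M] [IsScalarTower k A M] [FiniteDimensional k M],
    LinearMap.trace k M (Algebra.lsmul k k M a) =
      ((Module.length A M).toNat : k) * Algebra.trace k (ResidueField A) (residue A a) := by
  induction hM with
  | of_subsingleton =>
      intro _ _ _
      rename_i N _ _ _ _ _ _
      have : Algebra.lsmul k k N a = 0 := by ext x; exact Subsingleton.elim _ _
      simp [this]
  | @of_simple_quotient M _ _ N hsimp hN ih =>
      intro _ _ _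
      have hstable : ∀ x ∈ N.restrictScalars k, Algebra.lsmul k k M a x ∈ N.restrictScalars k :=
        fun x hx => N.smul_mem a hx
      rw [trace_quot (N.restrictScalars k) _ hstable]
      haveI : FiniteDimensional k N := inferInstanceAs (FiniteDimensional k (N.restrictScalars k))
      have hlen : Module.length A M = Module.length A N + 1 := by
        rw [Module.length_eq_add_of_exact N.subtype N.mkQ N.subtype_injective N.mkQ_surjective
          (LinearMap.exact_subtype_mkQ N), Module.length_eq_one (R := A) (M := M ⧸ N)]
      have hfin : Module.length A N ≠ ⊤ := Module.length_ne_top_iff.mpr hN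
      rw [hlen, ENat.toNat_add hfin (by simp), Nat.cast_add, add_mul]
      congr 1
      · exact ih
      · obtain ⟨I, hI, ⟨e⟩⟩ := isSimpleModule_iff_quot_maximal.mp hsimp
        obtain rfl := IsLocalRing.eq_maximalIdeal hI
        rw [ENat.toNat_one, Nat.cast_one, one_mul, Algebra.trace_apply]
        let q : (M ⧸ N.restrictScalars k) ≃ₗ[k] ResidueField A :=
          (Submodule.Quotient.restrictScalarsEquiv k N).trans (e.restrictScalars k)
        rw [← LinearMap.trace_conj' _ q]
        congr 1
        refine LinearMap.ext fun z => ?_
        obtain ⟨m, hm⟩ := q.surjective z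
        subst hm
        obtain ⟨m, rfl⟩ := Submodule.Quotient.mk_surjective _ m
        rw [LinearEquiv.conj_apply_apply, LinearEquiv.symm_apply_apply]
        exact e.map_smul a (Submodule.Quotient.mk m)

lemma trace_ne_zero_iff (k A : Type u) [Field k] [CommRing A]
    [Algebra k A] [FiniteDimensional k A] [IsLocalRing A] :
    Algebra.trace k A ≠ 0 ↔
      (Algebra.IsSeparable k (IsLocalRing.ResidueField A) ∧
        ∀ p : ℕ, p.Prime → CharP k p → ¬ p ∣ (Module.length A A).toNat) := by
  haveI : IsArtinianRing A := IsArtinianRing.of_finite k A
  have hfl : IsFiniteLength A A :=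
    isFiniteLength_iff_isNoetherian_isArtinian.mpr
      ⟨isNoetherianRing_iff.mp inferInstance, inferInstance⟩
  haveI : FiniteDimensional k (ResidueField A) :=
    Module.Finite.of_surjective (IsScalarTower.toAlgHom k A (ResidueField A)).toLinearMap
      IsLocalRing.residue_surjective
  set l := (Module.length A A).toNat
  have key : ∀ a, Algebra.trace k A a = (l : k) * Algebra.trace k (ResidueField A) (residue A a) := by
    intro a
    rw [← trace_lsmul_eq k A a A hfl, Algebra.trace_apply]
    rfl
  have hl : l ≠ 0 := by
    intro h
    rcases ENat.toNat_eq_zero.mp h with h | h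
    · exact not_subsingleton A (Module.length_eq_zero_iff.mp h)
    · exact Module.length_ne_top_iff.mpr hfl h
  have h2 : Algebra.trace k A ≠ 0 ↔ ((l : k) ≠ 0 ∧ Algebra.trace k (ResidueField A) ≠ 0) := by
    constructor
    · intro h
      constructor
      · intro hc; exact h (LinearMap.ext fun a => by rw [key, hc, zero_mul]; rfl)
      · intro hc; exact h (LinearMap.ext fun a => by rw [key, hc]; simp)
    · rintro ⟨h1, h2⟩ hc
      refine h2 (LinearMap.ext fun z => ?_)
      obtain ⟨a, rfl⟩ := IsLocalRing.residue_surjective z
      have := key a
      rw [hc, LinearMap.zero_apply, eq_comm, mul_eq_zero] at this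
      exact this.resolve_left h1
  have h3 : Algebra.IsSeparable k (ResidueField A) ↔ Algebra.trace k (ResidueField A) ≠ 0 :=
    (traceForm_nondegenerate_tfae k (ResidueField A)).out 0 1
  rw [h2, and_comm, ← h3, and_congr_right_iff]
  intro _
  obtain ⟨q, hq⟩ := CharP.exists k
  rw [Ne, CharP.cast_eq_zero_iff k q]
  constructor
  · intro h p _ hp2
    rwa [CharP.eq k hp2 hq]
  · intro h
    rcases CharP.char_is_prime_or_zero k q with hp | h0
    · exact h q hp hq
    · subst h0; simpa using hl

/-- Equivalence of (1) and (3): let k be a field and A a finite-dimensional local k-algebra with residue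
field k'. Then the trace map Tr_{A/k} is not identically zero if and only if k' is separable over k
and the length of A as a module over itself is not divisible by the characteristic of k (no
condition in characteristic zero). -/
theorem result (k A : Type u) [Field k] [CommRing A]
    [Algebra k A] [FiniteDimensional k A] [IsLocalRing A] :
    Algebra.trace k A ≠ 0 ↔
      (Algebra.IsSeparable k (IsLocalRing.ResidueField A) ∧
        ∀ p : ℕ, p.Prime → CharP k p → ¬ p ∣ (Module.length A A).toNat) := by
  exact trace_ne_zero_iff k A

end Groth.Agent.S2219
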