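import Groth.Statements.S11081
import Groth.Agent.S2219
import Mathlib

set_option autoImplicit false
universe u
attribute [local instance] FractionRing.liftAlgebra
open CAlg

namespace Groth.Agent.S11081

/-- trace is additive in short exact sequences -/
theorem trace_exact {k U V W : Type u} [Field k] [AddCommGroup U] [Module k U]
    [AddCommGroup V] [Module k V] [FiniteDimensional k V] [AddCommGroup W] [Module k W]
    (φ : U →ₗ[k] V) (ψ : V →ₗ[k] W) (hφ : Function.Injective φ) (hψ : Function.Surjective ψ)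
    (he : LinearMap.range φ = LinearMap.ker ψ)
    (fU : U →ₗ[k] U) (fV : V →ₗ[k] V) (fW : W →ₗ[k] W)
    (hU : ∀ x, φ (fU x) = fV (φ x)) (hW : ∀ x, ψ (fV x) = fW (ψ x)) :
    LinearMap.trace k V fV = LinearMap.trace k U fU + LinearMap.trace k W fW := by
  have hinv : ∀ v ∈ LinearMap.range φ, fV v ∈ LinearMap.range φ := by
    rintro v ⟨x, rfl⟩
    exact ⟨fU x, hU x⟩
  rw [Groth.Agent.S2219.trace_quot (LinearMap.range φ) fV hinv]
  congr 1
  · rw [← LinearMap.trace_conj' fU (LinearEquiv.ofInjective φ hφ)]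
    congr 1
    refine LinearMap.ext fun v => ?_
    obtain ⟨x, rfl⟩ := (LinearEquiv.ofInjective φ hφ).surjective v
    rw [LinearEquiv.conj_apply_apply, LinearEquiv.symm_apply_apply]
    exact Subtype.ext (hU x).symm
  · let e : (V ⧸ LinearMap.range φ) ≃ₗ[k] W :=
      (Submodule.quotEquivOfEq _ _ he).trans (LinearMap.quotKerEquivOfSurjective ψ hψ)
    rw [← LinearMap.trace_conj' _ e]
    congr 1
    refine LinearMap.ext fun w => ?_
    obtain ⟨z, rfl⟩ := e.surjective w
    obtain ⟨v, rfl⟩ := Submodule.Quotient.mk_surjective _ z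
    rw [LinearEquiv.conj_apply_apply, LinearEquiv.symm_apply_apply]
    exact hW v

/-- trace of a diagonal endomorphism of a finite product -/
theorem trace_pi_diag {k : Type u} [Field k] {J : Type u} [Fintype J] (M : J → Type u)
    [∀ i, AddCommGroup (M i)] [∀ i, Module k (M i)] [∀ i, FiniteDimensional k (M i)]
    (f : ∀ i, M i →ₗ[k] M i) :
    LinearMap.trace k (∀ i, M i) (LinearMap.pi fun i => (f i).comp (LinearMap.proj i)) =
      ∑ i, LinearMap.trace k (M i) (f i) := by
  classical
  let b : ∀ i, Module.Basis (Fin (Module.finrank k (M i))) k (M i) := fun i => Module.finBasis k (M i)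
  rw [LinearMap.trace_eq_matrix_trace k (Pi.basis b)]
  simp only [LinearMap.trace_eq_matrix_trace k (b _)]
  simp [Matrix.trace, Fintype.sum_sigma, LinearMap.toMatrix_apply, Pi.basis_repr, Pi.basis_apply,
    ← Finset.univ_sigma_univ, Finset.sum_sigma]

theorem trace_eq_sum_of_coprime {k C : Type u} [Field k] [CommRing C] [Algebra k C]
    [FiniteDimensional k C] {J : Type u} [Fintype J] (I : J → Ideal C)
    (hc : Pairwise fun i j => IsCoprime (I i) (I j)) (hI : ⨅ i, I i = ⊥) (c : C) :
    Algebra.trace k C c = ∑ i, Algebra.trace k (C ⧸ I i) (Ideal.Quotient.mk (I i) c) := by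
  let g : C →ₗ[k] (∀ i, C ⧸ I i) :=
    LinearMap.pi fun i => (Ideal.Quotient.mkₐ k (I i)).toLinearMap
  have ginj : Function.Injective g := by
    rw [injective_iff_map_eq_zero]
    intro x hx
    have : x ∈ ⨅ i, I i := Ideal.mem_iInf.mpr fun i =>
      Ideal.Quotient.eq_zero_iff_mem.mp (congrFun hx i)
    rwa [hI, Ideal.mem_bot] at this
  have gsurj : Function.Surjective g := by
    intro z
    obtain ⟨x, hx⟩ := Ideal.quotientInfToPiQuotient_surj hc z
    obtain ⟨x, rfl⟩ := Ideal.Quotient.mk_surjective x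
    exact ⟨x, hx⟩
  rw [Algebra.trace_apply, ← LinearMap.trace_conj' _ (LinearEquiv.ofBijective g ⟨ginj, gsurj⟩)]
  simp only [Algebra.trace_apply]
  rw [← trace_pi_diag (fun i => C ⧸ I i)]
  congr 1
  refine LinearMap.ext fun z => ?_
  obtain ⟨x, rfl⟩ := (LinearEquiv.ofBijective g ⟨ginj, gsurj⟩).surjective z
  rw [LinearEquiv.conj_apply_apply, LinearEquiv.symm_apply_apply]
  funext i
  exact map_mul (Ideal.Quotient.mk (I i)) c x

theorem trace_quot_pow {k B C : Type u} [Field k] [CommRing B] [IsDedekindDomain B] [CommRing C]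
    [Algebra k C] [FiniteDimensional k C] (q : B →+* C) (hq : Function.Surjective q)
    (Q : Ideal B) [Q.IsMaximal] (hQ : Q ≠ ⊥) (b : B) :
    ∀ n : ℕ, RingHom.ker q ≤ Q ^ n →
      Algebra.trace k (C ⧸ (Q ^ n).map q) (Ideal.Quotient.mk _ (q b)) =
        n • Algebra.trace k (C ⧸ Q.map q) (Ideal.Quotient.mk _ (q b)) := by
  intro n
  induction n with
  | zero =>
    intro _
    have : Subsingleton (C ⧸ (Q ^ 0).map q) := by
      rw [Ideal.Quotient.subsingleton_iff, pow_zero, Ideal.one_eq_top, Ideal.map_top]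
    rw [zero_smul, Subsingleton.elim (Ideal.Quotient.mk ((Q ^ 0).map q) (q b)) 0, map_zero]
  | succ n ih =>
    intro hker
    have hle : Q ^ (n + 1) ≤ Q ^ n := Ideal.pow_le_pow_right (Nat.le_succ n)
    have mem : ∀ {i : ℕ}, i ≤ n + 1 → ∀ {x : B}, (q x ∈ (Q ^ i).map q ↔ x ∈ Q ^ i) := by
      intro i hi x
      rw [← Ideal.mem_comap, Ideal.comap_map_of_surjective q hq]
      have h' : RingHom.ker q ≤ Q ^ i := hker.trans (Ideal.pow_le_pow_right hi)
      rw [show Ideal.comap q ⊥ = RingHom.ker q from rfl, sup_eq_left.mpr h']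
    have hkerQ : RingHom.ker q ≤ Q := hker.trans (Ideal.pow_le_self (by omega))
    have mem1 : ∀ {x : B}, (q x ∈ Q.map q ↔ x ∈ Q) := by
      intro x
      rw [← Ideal.mem_comap, Ideal.comap_map_of_surjective q hq]
      rw [show Ideal.comap q ⊥ = RingHom.ker q from rfl, sup_eq_left.mpr hkerQ]
    obtain ⟨π, hπ, hπ'⟩ : ∃ π, π ∈ Q ^ n ∧ π ∉ Q ^ (n + 1) :=
      SetLike.exists_of_lt (Ideal.pow_succ_lt_pow hQ n)
    have hgen : Ideal.span {π} ⊔ Q ^ (n + 1) = Q ^ n := by
      refine Ideal.eq_prime_pow_of_succ_lt_of_le hQ ?_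
        (sup_le ((Ideal.span_singleton_le_iff_mem _).mpr hπ) hle)
      refine lt_of_le_of_ne le_sup_right fun h => hπ' ?_
      rw [h]
      exact Ideal.mem_sup_left (Ideal.mem_span_singleton_self π)
    let φ : (C ⧸ Q.map q) →ₗ[k] (C ⧸ (Q ^ (n + 1)).map q) :=
      Submodule.liftQ ((Q.map q).restrictScalars k)
        ((Ideal.Quotient.mkₐ k ((Q ^ (n + 1)).map q)).toLinearMap.comp (LinearMap.mulLeft k (q π)))
        (by
          intro x hx
          obtain ⟨x, rfl⟩ := hq x
          rw [Submodule.restrictScalars_mem, mem1] at hx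
          simp only [LinearMap.mem_ker, LinearMap.comp_apply, LinearMap.mulLeft_apply,
            AlgHom.toLinearMap_apply, Ideal.Quotient.mkₐ_eq_mk, Ideal.Quotient.eq_zero_iff_mem]
          rw [← map_mul, mem le_rfl, pow_succ]
          exact Ideal.mul_mem_mul hπ hx)
    let ψ : (C ⧸ (Q ^ (n + 1)).map q) →ₗ[k] (C ⧸ (Q ^ n).map q) :=
      (Ideal.Quotient.factorₐ k (Ideal.map_mono hle)).toLinearMap
    have hφmk : ∀ x, φ (Ideal.Quotient.mk _ x) = Ideal.Quotient.mk _ (q π * x) := fun x => rfl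
    have hψmk : ∀ x, ψ (Ideal.Quotient.mk _ x) = Ideal.Quotient.mk _ x := fun x => rfl
    have hφ : Function.Injective φ := by
      rw [injective_iff_map_eq_zero]
      intro z hz
      obtain ⟨x, rfl⟩ := Ideal.Quotient.mk_surjective z
      obtain ⟨x, rfl⟩ := hq x
      rw [hφmk, ← map_mul, Ideal.Quotient.eq_zero_iff_mem, mem le_rfl, mul_comm] at hz
      rw [Ideal.Quotient.eq_zero_iff_mem, mem1]
      exact (Ideal.IsMaximal.mul_mem_pow Q hz).resolve_right hπ'
    have hψ : Function.Surjective ψ := fun z => by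
      obtain ⟨x, rfl⟩ := Ideal.Quotient.mk_surjective z
      exact ⟨_, hψmk x⟩
    have he : LinearMap.range φ = LinearMap.ker ψ := by
      ext z
      obtain ⟨x, rfl⟩ := Ideal.Quotient.mk_surjective z
      obtain ⟨x, rfl⟩ := hq x
      rw [LinearMap.mem_ker, hψmk, Ideal.Quotient.eq_zero_iff_mem, mem (Nat.le_succ n)]
      constructor
      · rintro ⟨w, hw⟩
        obtain ⟨w, rfl⟩ := Ideal.Quotient.mk_surjective w
        obtain ⟨w, rfl⟩ := hq w
        rw [hφmk, ← map_mul, Ideal.Quotient.eq, ← map_sub, mem le_rfl] at hw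
        have := (Q ^ n).sub_mem ((Q ^ n).mul_mem_right w hπ) (hle hw)
        simpa using this
      · intro hx
        rw [← hgen, Submodule.mem_sup] at hx
        obtain ⟨s, hs, t, ht, rfl⟩ := hx
        obtain ⟨w, rfl⟩ := Ideal.mem_span_singleton'.mp hs
        refine ⟨Ideal.Quotient.mk _ (q w), ?_⟩
        rw [hφmk, ← map_mul, Ideal.Quotient.eq, ← map_sub, mem le_rfl, mul_comm π w]
        simpa using ht
    rw [succ_nsmul', Algebra.trace_apply, Algebra.trace_apply,
      trace_exact φ ψ hφ hψ he (Algebra.lmul k _ (Ideal.Quotient.mk _ (q b))) _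
        (Algebra.lmul k _ (Ideal.Quotient.mk _ (q b)))]
    · rw [← Algebra.trace_apply, ← Algebra.trace_apply, ih (hker.trans hle)]
    · intro z
      obtain ⟨x, rfl⟩ := Ideal.Quotient.mk_surjective z
      show φ (Ideal.Quotient.mk _ (q b) * Ideal.Quotient.mk _ x) =
        Ideal.Quotient.mk _ (q b) * φ (Ideal.Quotient.mk _ x)
      rw [← map_mul, hφmk, hφmk, ← map_mul, mul_left_comm]
    · intro z
      obtain ⟨x, rfl⟩ := Ideal.Quotient.mk_surjective z
      show ψ (Ideal.Quotient.mk _ (q b) * Ideal.Quotient.mk _ x) =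
        Ideal.Quotient.mk _ (q b) * ψ (Ideal.Quotient.mk _ x)
      rw [← map_mul, hψmk, hψmk, ← map_mul]

/-- Let A be a Dedekind domain, B a Dedekind domain which is a finitely generated torsion-free A-algebra
whose fraction field is separable over that of A (B is the integral closure of A in a finite
separable extension), p a nonzero prime ideal of A and y an element of B. Then the class modulo p of
the trace of y from B to A is the sum over the primes Q of B lying over p of e(Q|p) times the trace,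
from B/Q to A/p, of the class of y modulo Q. -/
theorem result (A B : Type u) [CommRing A] [CommRing B]
    [IsDedekindDomain A] [IsDedekindDomain B] [Algebra A B] [Module.Finite A B] [Module.IsTorsionFree A B]
    [Algebra.IsSeparable (FractionRing A) (FractionRing B)]
    (p : Ideal A) [p.IsMaximal] (hp : p ≠ ⊥) (y : B) :
    Ideal.Quotient.mk p (Algebra.intTrace A B y) =
      ∑ᶠ Q : p.primesOver B,
        Q.1.ramificationIdx A •
          Algebra.trace (A ⧸ p) (B ⧸ Q.1) (Ideal.Quotient.mk Q.1 y) := by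
  classical
  letI : Field (A ⧸ p) := Ideal.Quotient.field p
  rw [← Algebra.trace_quotient_eq_of_isDedekindDomain]
  set pB := p.map (algebraMap A B) with hpB
  haveI : FiniteDimensional (A ⧸ p) (B ⧸ pB) :=
    Module.Finite.of_restrictScalars_finite A _ _
  rw [finsum_eq_sum_of_fintype]
  have hmax : ∀ Q : p.primesOver B, Q.1.IsMaximal := fun Q => by
    haveI := Q.2.1; haveI := Q.2.2
    exact Ideal.IsMaximal.of_liesOver_isMaximal Q.1 p
  have hne : ∀ Q : p.primesOver B, Q.1 ≠ ⊥ := fun Q => by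
    haveI := Q.2.2
    exact Ideal.ne_bot_of_liesOver_of_ne_bot hp Q.1
  let e : p.primesOver B → ℕ := fun Q => Q.1.ramificationIdx A
  have hprod : ∏ Q : p.primesOver B, Q.1 ^ e Q = pB := by
    rw [hpB, Ideal.map_algebraMap_eq_finsetProd_pow (p := p) hp]
    exact (Finset.prod_set_coe (s := p.primesOver B) (f := fun P => P ^ P.ramificationIdx A))
  have hcop : Pairwise fun Q Q' : p.primesOver B => IsCoprime (Q.1 ^ e Q) (Q'.1 ^ e Q') :=
    fun Q Q' hne' => ((hmax Q).coprime_of_ne (hmax Q') (Subtype.coe_injective.ne hne') |>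
      Ideal.isCoprime_iff_sup_eq.mpr).pow
  let q := Ideal.Quotient.mk pB
  have hq : Function.Surjective q := Ideal.Quotient.mk_surjective
  have hle : ∀ Q : p.primesOver B, RingHom.ker q ≤ Q.1 ^ e Q := fun Q => by
    rw [Ideal.mk_ker, ← hprod]
    exact Ideal.prod_le_inf.trans (Finset.inf_le (Finset.mem_univ Q))
  rw [trace_eq_sum_of_coprime (fun Q : p.primesOver B => (Q.1 ^ e Q).map q)]
  · refine Finset.sum_congr rfl fun Q _ => ?_
    haveI := hmax Q
    haveI := Q.2.2
    rw [trace_quot_pow q hq Q.1 (hne Q) y (e Q) (hle Q)]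
    congr 1
    have hQle : pB ≤ Q.1 := by
      rw [hpB, Ideal.map_le_iff_le_comap]; exact (Q.1.over_def p).le
    let E : (B ⧸ pB) ⧸ Q.1.map q ≃+* B ⧸ Q.1 := DoubleQuot.quotQuotEquivQuotOfLE hQle
    have hE : ∀ x, E (Ideal.Quotient.mk _ (q x)) = Ideal.Quotient.mk Q.1 x := fun x => rfl
    rw [← hE]
    have := Algebra.trace_eq_of_equiv_equiv (RingEquiv.refl (A ⧸ p)) E (by
      refine Ideal.Quotient.ringHom_ext (RingHom.ext fun a => ?_)
      rfl) (Ideal.Quotient.mk _ (q y))
    rw [this]; rfl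
  · intro Q Q' h
    have := Ideal.isCoprime_iff_sup_eq.mp (hcop h)
    rw [Ideal.isCoprime_iff_sup_eq]
    rw [← Ideal.map_sup, this, Ideal.map_top]
  · apply le_antisymm _ bot_le
    intro x hx
    obtain ⟨x, rfl⟩ := hq x
    rw [Ideal.mem_iInf] at hx
    have hx' : x ∈ ⨅ Q : p.primesOver B, Q.1 ^ e Q := Ideal.mem_iInf.mpr fun Q => by
      have := hx Q
      rw [Ideal.mem_quotient_iff_mem] at this
      · exact this
      · simpa [q] using hle Q
    rw [Ideal.mem_bot, Ideal.Quotient.eq_zero_iff_mem, ← hprod]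
    rw [Ideal.prod_eq_iInf_of_pairwise_isCoprime (fun i _ j _ hij => hcop hij)]
    simpa using hx'

end Groth.Agent.S11081
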