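import Groth.Statements.S11083
import Groth.Agent.Calg5.KaehlerField

set_option autoImplicit false
universe u v
open CAlg

namespace Groth.Agent.S11083

/-- Let k be an algebraically closed field, F a field extension of k which is finitely generated as a
field, and x a transcendence basis of F over k indexed by Fin d. Then the F-vector space of Kähler
differentials of F over k has F-rank exactly d: it is finite-dimensional of dimension the
transcendence degree. -/
theorem result (k : Type u) (F : Type v)
    [Field k] [IsAlgClosed k] [Field F] [Algebra k F] (hF : (⊤ : IntermediateField k F).FG)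
    (d : ℕ) (x : Fin d → F) (hx : IsTranscendenceBasis k x) :
    Module.rank F (Ω[F⁄k]) = d := by
  have : Algebra.EssFiniteType k F := IntermediateField.fg_top_iff.mp hF
  obtain ⟨s, b, hs, -⟩ := Groth.Calg5.exists_basis_of_perfectField (k := k) (F := F)
  have h1 := hx.lift_cardinalMk_eq hs
  simp only [Cardinal.mk_fin, Cardinal.lift_natCast, Cardinal.lift_mk_fin] at h1
  rw [rank_eq_card_basis b]
  have : (Fintype.card s : Cardinal.{v}) = d := by
    simp [Cardinal.mk_fintype] at h1
    simp [h1]
  exact this

end Groth.Agent.S11083
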