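import Groth.Statements.S11084
import Mathlib
import Groth.Agent.S11080

set_option autoImplicit false
universe u
open CAlg

namespace Groth.Agent.S11084

/-- Let k be a field and O a valuation subring of the field of rational functions k(x). Then O contains
the constants k and is different from k(x) if and only if O is the valuation ring of the P-adic
valuation at a nonzero prime P of the polynomial ring k[x], or O is the valuation ring of the
valuation at infinity (given by the degree). (The published statement has k algebraically closed, so
that these valuation rings correspond to the points of the projective line; the published proof does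
not use that k is algebraically closed. The published statement also asserts that distinct points
give distinct valuation rings, which this row does not state, and counts k(x) itself among the
valuation rings containing k; this row excludes it.) -/
theorem result (k : Type u) [Field k] [DecidableEq (RatFunc k)]
    (O : ValuationSubring (RatFunc k)) :
    ((algebraMap k (RatFunc k)).range ≤ O.toSubring ∧ O ≠ ⊤) ↔
      ((∃ v : IsDedekindDomain.HeightOneSpectrum (Polynomial k), O = (v.valuation (RatFunc k)).valuationSubring) ∨
        O = (RatFunc.inftyValuation k).valuationSubring) := by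
  open Polynomial in
  constructor
  · rintro ⟨hC, htop⟩
    by_cases hX : (RatFunc.X : RatFunc k) ∈ O
    · refine .inl ((Groth.Agent.S11080.result k[X] (RatFunc k) O).mp ⟨?_, htop⟩)
      rintro _ ⟨p, rfl⟩
      induction p using Polynomial.induction_on' with
      | add a b ha hb => rw [map_add]; exact O.add_mem _ _ ha hb
      | monomial n c =>
        rw [← Polynomial.C_mul_X_pow_eq_monomial, map_mul, map_pow, RatFunc.algebraMap_X,
          RatFunc.algebraMap_C]
        exact O.mul_mem _ _ (hC ⟨c, by rw [RatFunc.algebraMap_eq_C]⟩) (pow_mem hX n)
    · refine .inr ((ValuationSubring.eq_of_le_of_ne_top _ (fun x hx => ?_) htop).symm)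
      have hXi : O.valuation (RatFunc.X : RatFunc k)⁻¹ < 1 := by
        have h1 : 1 < O.valuation (RatFunc.X : RatFunc k) := by
          rw [← not_le, ValuationSubring.valuation_le_one_iff]; exact hX
        rw [map_inv₀]; exact inv_lt_one_of_one_lt₀ h1
      have hc : ∀ c : k, c ≠ 0 → O.valuation (RatFunc.C c) = 1 := by
        intro c hc
        have h1 : ∀ d : k, O.valuation (RatFunc.C d) ≤ 1 := fun d =>
          (ValuationSubring.valuation_le_one_iff O _).mpr (hC ⟨d, by rw [RatFunc.algebraMap_eq_C]⟩)
        refine le_antisymm (h1 c) ?_
        have h2 := h1 c⁻¹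
        rwa [map_inv₀, map_inv₀, inv_le_one₀ (zero_lt_iff.mpr (by simp [hc]))] at h2
      have hc' : ∀ c : k, O.valuation (RatFunc.C c) ≤ 1 := fun c => by
        rcases eq_or_ne c 0 with rfl | h
        · simp
        · exact (hc c h).le
      -- the valuation of a polynomial is that of its leading monomial
      have hpoly : ∀ p : k[X], p ≠ 0 → O.valuation (algebraMap k[X] (RatFunc k) p) =
          O.valuation (RatFunc.X : RatFunc k) ^ p.natDegree := by
        intro p hp
        have h1 : 1 < O.valuation (RatFunc.X : RatFunc k) := by
          rw [← not_le, ValuationSubring.valuation_le_one_iff]; exact hX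
        conv_lhs => rw [p.as_sum_range_C_mul_X_pow, Finset.sum_range_succ]
        rw [map_add]
        have hlead : O.valuation (algebraMap k[X] (RatFunc k) (C (p.coeff p.natDegree) * X ^ p.natDegree))
            = O.valuation (RatFunc.X : RatFunc k) ^ p.natDegree := by
          rw [map_mul, map_pow, RatFunc.algebraMap_C, RatFunc.algebraMap_X, map_mul, map_pow,
            hc (p.coeff p.natDegree) (leadingCoeff_ne_zero.mpr hp), one_mul]
        rw [Valuation.map_add_eq_of_lt_right, hlead]
        rw [hlead, map_sum]
        refine Valuation.map_sum_lt _ (pow_ne_zero _ (ne_of_gt (zero_lt_one.trans h1))) fun i hi => ?_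
        rw [map_mul, map_pow, RatFunc.algebraMap_C, RatFunc.algebraMap_X, map_mul, map_pow]
        exact lt_of_le_of_lt (mul_le_of_le_one_left' (hc' _))
          (pow_lt_pow_right₀ h1 (Finset.mem_range.mp hi))
      rcases eq_or_ne x 0 with rfl | hx0
      · exact O.zero_mem
      rw [← ValuationSubring.valuation_le_one_iff, ← RatFunc.num_div_denom x, map_div₀,
        hpoly _ (RatFunc.num_ne_zero hx0), hpoly _ (RatFunc.denom_ne_zero x)]
      have hdeg : x.num.natDegree ≤ x.denom.natDegree := by
        rw [Valuation.mem_valuationSubring_iff, RatFunc.inftyValuation_apply,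
          RatFunc.inftyValuation_of_nonzero k hx0] at hx
        have h3 : x.intDegree ≤ 0 := by
          rwa [← WithZero.exp_zero, WithZero.exp_le_exp] at hx
        rw [RatFunc.intDegree] at h3; omega
      refine div_le_one_of_le₀ (pow_le_pow_right₀ ?_ hdeg) zero_le
      exact (lt_of_not_ge (by rw [ValuationSubring.valuation_le_one_iff]; exact hX)).le
  · rintro (⟨v, rfl⟩ | rfl)
    · obtain ⟨h1, h2⟩ := (Groth.Agent.S11080.result k[X] (RatFunc k) _).mpr ⟨v, rfl⟩
      refine ⟨?_, h2⟩
      rintro _ ⟨c, rfl⟩
      exact h1 ⟨C c, by rw [RatFunc.algebraMap_C, RatFunc.algebraMap_eq_C]⟩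
    · refine ⟨?_, ?_⟩
      · rintro _ ⟨c, rfl⟩
        rw [ValuationSubring.mem_toSubring, Valuation.mem_valuationSubring_iff, RatFunc.algebraMap_eq_C]
        rcases eq_or_ne c 0 with rfl | hc
        · simp
        · rw [RatFunc.inftyValuation.C k hc]
      · simp only [ne_eq, Valuation.valuationSubring_eq_top_iff, not_not]
        infer_instance

end Groth.Agent.S11084
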