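import Groth.Statements.S11085
import Groth.Agent.EtaleAlgebra.DeformPInsep
import Groth.Agent.Calg8.IntegralDimEq
import Mathlib

set_option autoImplicit false
universe u
open CAlg

namespace Groth.Agent.S11085

/-- Let k be a field, A a finitely generated k-algebra which is an integral domain of Krull dimension
one (the coordinate ring of an affine curve), and F its field of fractions. Then the set of
valuation subrings of F which contain k but do not contain A is finite. (The published statement
speaks of all valuation rings of F different from F and not containing A, over an algebraically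
closed k; valuation rings not containing k must be excluded — for k an algebraic closure of a
rational function field in one variable t over a finite field and F = k(x), the t-adic valuation of
k has infinitely many extensions to F, none of whose rings contains A — and the published proof,
through the valuation at infinity of k(x), treats valuation rings containing k; it does not use that
k is algebraically closed.) -/
theorem result (k A F : Type u) [Field k]
    [CommRing A] [IsDomain A] [Algebra k A] [Algebra.FiniteType k A] (hA : ringKrullDim A = 1)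
    [Field F] [Algebra A F] [IsFractionRing A F] [Algebra k F] [IsScalarTower k A F] :
    {O : ValuationSubring F | (algebraMap k F).range ≤ O.toSubring ∧
        ¬ (algebraMap A F).range ≤ O.toSubring}.Finite := by
  obtain ⟨s, φ, hinj, hfin⟩ := exists_finite_inj_algHom_of_fg k A
  have hs : s = 1 := by
    letI : Algebra (MvPolynomial (Fin s) k) A := φ.toRingHom.toAlgebra
    haveI : Module.Finite (MvPolynomial (Fin s) k) A := hfin
    haveI : FaithfulSMul (MvPolynomial (Fin s) k) A := (faithfulSMul_iff_algebraMap_injective _ _).2 hinj
    haveI : Algebra.IsIntegral (MvPolynomial (Fin s) k) A := Algebra.IsIntegral.of_finite _ _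
    have h := Groth.Calg8.ringKrullDim_eq_of_integral (MvPolynomial (Fin s) k) A
      (FaithfulSMul.algebraMap_injective _ _)
    rw [hA, MvPolynomial.ringKrullDim_of_isNoetherianRing, ringKrullDim_eq_zero_of_field, zero_add,
      Nat.card_fin] at h
    exact_mod_cast h.symm
  subst hs
  let x : F := algebraMap A F (φ (MvPolynomial.X 0))
  have hφ : ∀ q, algebraMap A F (φ q) = MvPolynomial.aeval (fun _ => x) q := by
    intro q
    induction q using MvPolynomial.induction_on with
    | C a => simp [IsScalarTower.algebraMap_apply k A F]
    | add f g hf hg => simp [hf, hg]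
    | mul_X f i hf => simp [hf, Subsingleton.elim i 0, x]
  have hxtr : Transcendental k x := transcendental_iff.2 fun q hq => by
    have h1 : algebraMap A F (φ (Polynomial.aeval (MvPolynomial.X 0) q)) = 0 := by
      rw [← Polynomial.aeval_algHom_apply, ← IsScalarTower.coe_toAlgHom' k A F, ← Polynomial.aeval_algHom_apply]
      exact hq
    have h2 := hinj (((map_eq_zero_iff _ (IsFractionRing.injective A F)).1 h1).trans (map_zero φ).symm)
    have h3 := congrArg (MvPolynomial.aeval fun _ => (Polynomial.X : Polynomial k)) h2
    rwa [← Polynomial.aeval_algHom_apply, map_zero, MvPolynomial.aeval_X, Polynomial.aeval_X_left_apply] at h3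
  have hx0 : x ≠ 0 := fun h0 => hxtr ⟨Polynomial.X, Polynomial.X_ne_zero, by rw [Polynomial.aeval_X, h0]⟩
  obtain ⟨B, _, _, _, g, hg, hgk, hgx, hdom⟩ : ∃ (B : Type u) (_ : CommRing B) (_ : IsDomain B)
      (_ : IsDiscreteValuationRing B) (g : B →+* F), Function.Injective g ∧
      (∀ c : k, algebraMap k F c ∈ g.range) ∧ x⁻¹ ∈ g.range ∧
      ∀ O : ValuationSubring F, (algebraMap k F).range ≤ O.toSubring → x ∉ O →
        ∀ b : B, g b ∈ O ∧ (b ∈ IsLocalRing.maximalIdeal B → O.valuation (g b) < 1) := by
    let f : Polynomial k →+* F := (Polynomial.aeval (R := k) x⁻¹).toRingHom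
    have hf : Function.Injective f := (injective_iff_map_eq_zero _).2 fun q hq => by
      by_contra hq0
      exact hxtr (IsAlgebraic.inv_iff.1 ⟨q, hq0, hq⟩)
    let P : Ideal (Polynomial k) := Ideal.span {Polynomial.X}
    haveI : P.IsPrime := (Ideal.span_singleton_prime Polynomial.X_ne_zero).2 Polynomial.prime_X
    let B := Localization.AtPrime P
    haveI : IsDiscreteValuationRing B := IsLocalization.AtPrime.isDiscreteValuationRing_of_dedekind_domain
      (Polynomial k) (P := P) (by simp [P]) B
    have hu : ∀ q : P.primeCompl, IsUnit (f q) := fun q =>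
      isUnit_iff_ne_zero.2 fun h0 => q.2 (by rw [hf (h0.trans (map_zero f).symm)]; exact zero_mem P)
    let g : B →+* F := IsLocalization.lift hu
    have hg : Function.Injective g := (injective_iff_map_eq_zero _).2 fun b hb => by
      obtain ⟨q, s, rfl⟩ := IsLocalization.exists_mk'_eq P.primeCompl b
      rw [IsLocalization.lift_mk'_spec, mul_zero] at hb
      rw [hf (hb.trans (map_zero f).symm), IsLocalization.mk'_zero]
    have hgX : g (algebraMap (Polynomial k) B Polynomial.X) = x⁻¹ := by
      rw [IsLocalization.lift_eq]; exact Polynomial.aeval_X _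
    have hgC : ∀ c : k, g (algebraMap (Polynomial k) B (Polynomial.C c)) = algebraMap k F c := fun c => by
      rw [IsLocalization.lift_eq]; exact Polynomial.aeval_C _ _
    refine ⟨B, inferInstance, inferInstance, inferInstance, g, hg, fun c => ⟨_, hgC c⟩, ⟨_, hgX⟩, fun O hk hxO => ?_⟩
    have hy : O.valuation x⁻¹ < 1 := by
      rw [map_inv₀]
      exact inv_lt_one_of_one_lt₀ (lt_of_not_ge fun h => hxO ((O.valuation_le_one_iff x).1 h))
    have hfO : ∀ q : Polynomial k, f q ∈ O := fun q => by
      induction q using Polynomial.induction_on' with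
      | add p q hp hq => rw [map_add]; exact O.add_mem _ _ hp hq
      | monomial n c =>
        rw [← Polynomial.C_mul_X_pow_eq_monomial, map_mul, map_pow]
        refine O.mul_mem _ _ ?_ (pow_mem ?_ n)
        · show Polynomial.aeval x⁻¹ (Polynomial.C c) ∈ O
          rw [Polynomial.aeval_C]; exact hk ⟨c, rfl⟩
        · show Polynomial.aeval x⁻¹ Polynomial.X ∈ O
          rw [Polynomial.aeval_X]; exact (O.valuation_le_one_iff _).1 hy.le
    have hsmall : ∀ q ∈ P, O.valuation (f q) < 1 := fun q hq => by
      obtain ⟨r, rfl⟩ := Ideal.mem_span_singleton'.1 hq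
      rw [map_mul, map_mul, show f Polynomial.X = x⁻¹ from Polynomial.aeval_X _]
      exact mul_lt_one_of_nonneg_of_lt_one_right ((O.valuation_le_one_iff _).2 (hfO r)) (zero_le) hy
    have hbig : ∀ q : P.primeCompl, O.valuation (f q) = 1 := fun q => by
      have h1 : ¬ (Polynomial.X : Polynomial k) ∣ q := fun h => q.2 (Ideal.mem_span_singleton.2 h)
      rw [Polynomial.X_dvd_iff] at h1
      have h2 : O.valuation (f ((q : Polynomial k) - Polynomial.C ((q : Polynomial k).coeff 0))) < 1 := hsmall _
        (Ideal.mem_span_singleton.2 (Polynomial.X_dvd_iff.2 (by simp)))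
      have h3 : O.valuation (algebraMap k F ((q : Polynomial k).coeff 0)) = 1 := by
        refine le_antisymm ((O.valuation_le_one_iff _).2 (hk ⟨_, rfl⟩)) ?_
        have h4 := (O.valuation_le_one_iff _).2 (hk ⟨((q : Polynomial k).coeff 0)⁻¹, rfl⟩)
        rwa [map_inv₀, map_inv₀, inv_le_one₀ ((O.valuation.pos_iff).2 ((_root_.map_ne_zero _).2 h1))] at h4
      rw [map_sub, show f (Polynomial.C _) = _ from Polynomial.aeval_C _ _] at h2
      rw [← h3]
      exact Valuation.map_eq_of_sub_lt _ (h3.symm ▸ h2)
    have hgO : ∀ b : B, g b ∈ O ∧ (b ∈ IsLocalRing.maximalIdeal B → O.valuation (g b) < 1) := fun b => by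
      obtain ⟨q, s, rfl⟩ := IsLocalization.exists_mk'_eq P.primeCompl b
      have e : O.valuation (g (IsLocalization.mk' B q s)) = O.valuation (f q) := by
        have := congrArg O.valuation ((IsLocalization.lift_mk'_spec (g := f) (hg := hu) q
          (g (IsLocalization.mk' B q s)) s).1 rfl)
        rw [map_mul, hbig, one_mul] at this
        exact this.symm
      refine ⟨(O.valuation_le_one_iff _).1 (e ▸ (O.valuation_le_one_iff _).2 (hfO q)), fun hb => e ▸ hsmall q ?_⟩
      rwa [IsLocalization.AtPrime.mk'_mem_maximal_iff B P] at hb
    exact hgO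
  letI : Algebra B F := g.toAlgebra
  haveI : FaithfulSMul B F := (faithfulSMul_iff_algebraMap_injective _ _).2 hg
  letI : Algebra (FractionRing B) F := FractionRing.liftAlgebra B F
  haveI : IsScalarTower B (FractionRing B) F := FractionRing.isScalarTower_liftAlgebra B F
  have hr : ∀ a : MvPolynomial (Fin 1) k, algebraMap A F (φ a) ∈ (algebraMap (FractionRing B) F).range := by
    intro a
    rw [hφ]
    induction a using MvPolynomial.induction_on with
    | C c =>
      obtain ⟨b, hb⟩ := hgk c
      rw [MvPolynomial.aeval_C, ← hb]
      exact ⟨algebraMap B (FractionRing B) b, (IsScalarTower.algebraMap_apply B (FractionRing B) F b).symm⟩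
    | add p q hp hq => rw [map_add]; exact add_mem hp hq
    | mul_X p i hp =>
      rw [map_mul, MvPolynomial.aeval_X]
      obtain ⟨b, hb⟩ := hgx
      refine mul_mem hp ⟨(algebraMap B (FractionRing B) b)⁻¹, ?_⟩
      rw [map_inv₀, ← IsScalarTower.algebraMap_apply B (FractionRing B) F]
      show (g b)⁻¹ = x
      rw [hb, inv_inv]
  have hint : ∀ a : A, IsIntegral (FractionRing B) (algebraMap A F a) := fun a => by
    letI : Algebra (MvPolynomial (Fin 1) k) A := φ.toRingHom.toAlgebra
    haveI : Module.Finite (MvPolynomial (Fin 1) k) A := hfin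
    obtain ⟨q, hq, hq0⟩ := Algebra.IsIntegral.isIntegral (R := MvPolynomial (Fin 1) k) a
    have hc : ∀ i, ∃ c : (FractionRing B), algebraMap (FractionRing B) F c = algebraMap A F (φ (q.coeff i)) := fun i => hr _
    obtain ⟨Q, hQ, -, hQm⟩ := Polynomial.lifts_and_degree_eq_and_monic (f := algebraMap (FractionRing B) F)
      (p := q.map ((algebraMap A F).comp φ.toRingHom))
      ((Polynomial.lifts_iff_coeff_lifts _).2 fun i => by
        rw [Polynomial.coeff_map]; exact hc i) (hq.map _)
    refine ⟨Q, hQm, ?_⟩
    rw [← Polynomial.eval_map, hQ, Polynomial.eval_map]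
    show Polynomial.eval₂ ((algebraMap A F).comp φ.toRingHom) (algebraMap A F a) q = 0
    rw [← Polynomial.hom_eval₂]
    exact (congrArg _ hq0).trans (map_zero _)
  obtain ⟨gens, hgens⟩ := (inferInstance : Algebra.FiniteType k A).out
  haveI : FiniteDimensional (FractionRing B) F := by
    classical
    let E : IntermediateField (FractionRing B) F := IntermediateField.adjoin (FractionRing B) (gens.image (algebraMap A F) : Set F)
    haveI : FiniteDimensional (FractionRing B) E := IntermediateField.finiteDimensional_adjoin (fun y hy => by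
      simp only [Finset.coe_image, Set.mem_image] at hy
      obtain ⟨a, -, rfl⟩ := hy
      exact hint a)
    have hAE : ∀ a : A, algebraMap A F a ∈ E := by
      intro a
      induction (hgens ▸ Algebra.mem_top : a ∈ Algebra.adjoin k (gens : Set A)) using Algebra.adjoin_induction with
      | mem y hy => exact IntermediateField.subset_adjoin _ _ (Finset.mem_coe.2 (Finset.mem_image_of_mem _ hy))
      | algebraMap c =>
        obtain ⟨b, hb⟩ := hgk c
        rw [← IsScalarTower.algebraMap_apply k A F, ← hb,
          show g b = algebraMap (FractionRing B) F (algebraMap B (FractionRing B) b) from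
            IsScalarTower.algebraMap_apply B (FractionRing B) F b]
        exact E.algebraMap_mem _
      | add p q _ _ hp hq => rw [map_add]; exact add_mem hp hq
      | mul p q _ _ hp hq => rw [map_mul]; exact mul_mem hp hq
    refine Module.Finite.of_surjective E.val.toLinearMap fun y => ?_
    obtain ⟨a, b, -, rfl⟩ := IsFractionRing.div_surjective (A := A) y
    exact ⟨⟨_, div_mem (hAE a) (hAE b)⟩, rfl⟩
  have hfinite := Groth.EtaleAlgebra.PDeform.finite_dominating B (FractionRing B) F
  rw [← Set.finite_coe_iff]
  refine Finite.of_injective (β := {W : ValuationSubring F //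
      EtRam.Dominates B ((algebraMap (FractionRing B) F).comp (algebraMap B (FractionRing B))) W}) (fun O => ⟨O.1, ?_⟩)
    (fun O O' h => Subtype.ext (congrArg Subtype.val h :))
  obtain ⟨O, hk, hA'⟩ := O
  have hxO : x ∉ O := fun hx => hA' (by
    rintro _ ⟨a, rfl⟩
    letI : Algebra (MvPolynomial (Fin 1) k) A := φ.toRingHom.toAlgebra
    haveI : Module.Finite (MvPolynomial (Fin 1) k) A := hfin
    have hO : ∀ q : MvPolynomial (Fin 1) k, algebraMap A F (φ q) ∈ O := fun q => by
      rw [hφ]
      induction q using MvPolynomial.induction_on with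
      | C c => rw [MvPolynomial.aeval_C]; exact hk ⟨c, rfl⟩
      | add p q hp hq => rw [map_add]; exact O.add_mem _ _ hp hq
      | mul_X p i hp => rw [map_mul, MvPolynomial.aeval_X]; exact O.mul_mem _ _ hp hx
    obtain ⟨q, hq, hq0⟩ := Algebra.IsIntegral.isIntegral (R := MvPolynomial (Fin 1) k) a
    let ι : MvPolynomial (Fin 1) k →+* O := ((algebraMap A F).comp φ.toRingHom).codRestrict O.toSubring hO
    have : IsIntegral O (algebraMap A F a) := ⟨q.map ι, hq.map ι, by
      rw [Polynomial.eval₂_map]
      show Polynomial.eval₂ ((algebraMap A F).comp φ.toRingHom) (algebraMap A F a) q = 0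
      rw [← Polynomial.hom_eval₂]
      exact (congrArg _ hq0).trans (map_zero _)⟩
    obtain ⟨y, hy⟩ := IsIntegrallyClosed.isIntegral_iff.1 this
    exact hy ▸ y.2)
  have hgO := hdom O hk hxO
  refine ⟨fun b => ?_, fun b hb => ?_⟩ <;> rw [RingHom.comp_apply, ← IsScalarTower.algebraMap_apply B (FractionRing B) F]
  · exact (hgO b).1
  · exact (hgO b).2 hb

end Groth.Agent.S11085
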