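import Groth.Statements.S11086
import Mathlib.RingTheory.DedekindDomain.Different
import Mathlib.RingTheory.Localization.LocalizationLocalization

set_option autoImplicit false
universe u
attribute [local instance] FractionRing.liftAlgebra
open CAlg

namespace Groth.Agent.S11086

/-- Let A be a Dedekind domain, B a Dedekind domain which is a finitely generated torsion-free A-algebra
with fraction field separable over that of A (the integral closure of A in a finite separable
extension), and S a submonoid of A consisting of non-zero-divisors. Let A_S and B_S be localizations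
of A at S and of B at the image of S, with B_S an algebra over A_S compatibly with A and B (so A_S
is integrally closed and B_S is a Dedekind domain, torsion-free over A_S). Then the ideal of B_S
generated by the different of B over A is the different of B_S over A_S. -/
theorem result (A B : Type u) [CommRing A] [CommRing B]
    [IsDedekindDomain A] [IsDedekindDomain B] [Algebra A B] [Module.Finite A B] [Module.IsTorsionFree A B]
    [Algebra.IsSeparable (FractionRing A) (FractionRing B)]
    (S : Submonoid A) (hS : S ≤ nonZeroDivisors A)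
    (Aₛ Bₛ : Type u) [CommRing Aₛ] [CommRing Bₛ] [Algebra A Aₛ] [Algebra B Bₛ] [Algebra Aₛ Bₛ]
    [Algebra A Bₛ] [IsScalarTower A Aₛ Bₛ] [IsScalarTower A B Bₛ]
    [IsLocalization S Aₛ] [IsLocalization (Algebra.algebraMapSubmonoid B S) Bₛ]
    [IsDomain Aₛ] [IsIntegrallyClosed Aₛ] [IsDedekindDomain Bₛ] [Module.IsTorsionFree Aₛ Bₛ] :
    Ideal.map (algebraMap B Bₛ) (differentIdeal A B) = differentIdeal Aₛ Bₛ := by
  classical
  let K := FractionRing A
  let L := FractionRing B
  have hinj : Function.Injective (algebraMap A B) := FaithfulSMul.algebraMap_injective A B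
  have hAK : ∀ s : S, IsUnit (algebraMap A K s) := fun s =>
    IsLocalization.map_units K ⟨s.1, hS s.2⟩
  have hBL : ∀ t : Algebra.algebraMapSubmonoid B S, IsUnit (algebraMap B L t) := by
    rintro ⟨_, s, hs, rfl⟩
    refine isUnit_iff_ne_zero.2 ?_
    rw [Ne, map_eq_zero_iff _ (IsFractionRing.injective B L), map_eq_zero_iff _ hinj]
    exact nonZeroDivisors.ne_zero (hS hs)
  letI : Algebra Aₛ K := (IsLocalization.lift hAK).toAlgebra
  letI : Algebra Bₛ L := (IsLocalization.lift hBL).toAlgebra
  haveI : IsScalarTower A Aₛ K := IsScalarTower.of_algebraMap_eq fun x => (IsLocalization.lift_eq hAK x).symm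
  haveI : IsScalarTower B Bₛ L := IsScalarTower.of_algebraMap_eq fun x => (IsLocalization.lift_eq hBL x).symm
  letI : Algebra Aₛ L := ((algebraMap K L).comp (algebraMap Aₛ K)).toAlgebra
  haveI : IsScalarTower Aₛ K L := IsScalarTower.of_algebraMap_eq fun _ => rfl
  haveI : IsScalarTower Aₛ Bₛ L := IsScalarTower.of_algebraMap_eq' (IsLocalization.ringHom_ext S (RingHom.ext fun x => by
    show algebraMap K L (algebraMap Aₛ K (algebraMap A Aₛ x)) = algebraMap Bₛ L (algebraMap Aₛ Bₛ (algebraMap A Aₛ x))
    rw [← IsScalarTower.algebraMap_apply A Aₛ K, ← IsScalarTower.algebraMap_apply A Aₛ Bₛ,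
      IsScalarTower.algebraMap_apply A B Bₛ, ← IsScalarTower.algebraMap_apply B Bₛ L,
      ← IsScalarTower.algebraMap_apply A K L, ← IsScalarTower.algebraMap_apply A B L]))
  have htr : ∀ (c : A) (y : L), Algebra.trace K L (algebraMap A L c * y) = algebraMap A K c * Algebra.trace K L y :=
    fun c y => by rw [IsScalarTower.algebraMap_apply A K L, ← Algebra.smul_def, map_smul, smul_eq_mul]
  haveI : IsFractionRing Aₛ K := IsFractionRing.isFractionRing_of_isDomain_of_isLocalization S Aₛ K
  haveI : IsFractionRing Bₛ L :=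
    IsFractionRing.isFractionRing_of_isDomain_of_isLocalization (Algebra.algebraMapSubmonoid B S) Bₛ L
  haveI : Module.Finite Aₛ Bₛ := Module.Finite.of_isLocalization A B S
  haveI : IsIntegralClosure Bₛ Aₛ L := IsIntegralClosure.of_isIntegrallyClosed Bₛ Aₛ L
  haveI : IsIntegralClosure B A L := IsIntegralClosure.of_isIntegrallyClosed B A L
  have hD : (1 : L) ∈ IsLocalization.coeSubmodule L (differentIdeal A B) * Submodule.traceDual A K (1 : Submodule B L) := by
    have h := inv_mul_cancel₀ (FractionalIdeal.dual_ne_zero A K (one_ne_zero (α := FractionalIdeal (nonZeroDivisors B) L)))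
    rw [← coeIdeal_differentIdeal A K L] at h
    have h' := congrArg (fun J : FractionalIdeal (nonZeroDivisors B) L => (J : Submodule B L)) h
    simp only [FractionalIdeal.coe_mul, FractionalIdeal.coe_coeIdeal, FractionalIdeal.coe_dual_one, FractionalIdeal.coe_one] at h'
    rw [h']
    exact Submodule.one_le.1 le_rfl
  have hI : IsLocalization.coeSubmodule L (differentIdeal A B) = 1 / Submodule.traceDual A K 1 :=
    coeSubmodule_differentIdeal A K B
  refine IsFractionRing.coeSubmodule_injective Bₛ L ?_
  rw [coeSubmodule_differentIdeal Aₛ K Bₛ]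
  have hDD : ∀ d : L, d ∈ Submodule.traceDual A K (1 : Submodule B L) →
      d ∈ Submodule.traceDual Aₛ K (1 : Submodule Bₛ L) := by
    intro d hd
    rw [Submodule.mem_traceDual] at hd ⊢
    intro y hy
    obtain ⟨y, rfl⟩ := Submodule.mem_one.1 hy
    obtain ⟨b, ⟨_, s, hs, rfl⟩, rfl⟩ := IsLocalization.exists_mk'_eq (Algebra.algebraMapSubmonoid B S) y
    obtain ⟨a, ha⟩ := hd (algebraMap B L b) (Submodule.mem_one.2 ⟨b, rfl⟩)
    refine ⟨IsLocalization.mk' Aₛ a ⟨s, hs⟩, ?_⟩
    have hu := hAK ⟨s, hs⟩
    refine hu.mul_left_cancel ?_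
    rw [IsScalarTower.algebraMap_apply A Aₛ K, ← map_mul, IsLocalization.mk'_spec' Aₛ a (⟨s, hs⟩ : S),
      ← IsScalarTower.algebraMap_apply, ha, Algebra.traceForm_apply, Algebra.traceForm_apply,
      ← IsScalarTower.algebraMap_apply A Aₛ K, ← htr, mul_left_comm]
    congr 2
    rw [IsScalarTower.algebraMap_apply A B L, IsScalarTower.algebraMap_apply B Bₛ L,
      IsScalarTower.algebraMap_apply B Bₛ L, ← map_mul]
    exact (congrArg (algebraMap Bₛ L) (IsLocalization.mk'_spec' Bₛ b ⟨algebraMap A B s, Algebra.mem_algebraMapSubmonoid_of_mem (⟨s, hs⟩ : S)⟩)).symm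
  refine le_antisymm ?_ ?_
  · intro x hx
    obtain ⟨z, hz, rfl⟩ := (IsLocalization.mem_coeSubmodule _ _).1 hx
    rw [Submodule.mem_div_iff_forall_mul_mem]
    intro d hd
    rw [Submodule.mem_traceDual] at hd
    obtain ⟨T, hT⟩ := (inferInstance : Module.Finite A B).fg_top
    have hden : ∀ t : T, ∃ s : S, ∃ a : A, algebraMap A K s * Algebra.traceForm K L d (algebraMap B L t) = algebraMap A K a := by
      intro t
      obtain ⟨a', ha'⟩ := hd (algebraMap B L t) (Submodule.mem_one.2 ⟨algebraMap B Bₛ t, (IsScalarTower.algebraMap_apply B Bₛ L _).symm⟩)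
      obtain ⟨a, s, rfl⟩ := IsLocalization.exists_mk'_eq S a'
      refine ⟨s, a, ?_⟩
      rw [← ha', IsScalarTower.algebraMap_apply A Aₛ K, ← map_mul, IsLocalization.mk'_spec', ← IsScalarTower.algebraMap_apply]
    choose s a hsa using hden
    let σ : S := ∏ t, s t
    have hσd : algebraMap A L σ * d ∈ Submodule.traceDual A K (1 : Submodule B L) := by
      rw [Submodule.mem_traceDual]
      intro y hy
      obtain ⟨y, rfl⟩ := Submodule.mem_one.1 hy
      clear hy
      have hy : y ∈ Submodule.span A (T : Set B) := hT ▸ Submodule.mem_top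
      induction hy using Submodule.span_induction with
      | mem t ht =>
        refine ⟨(∏ t' ∈ Finset.univ.erase ⟨t, ht⟩, (s t' : A)) * a ⟨t, ht⟩, ?_⟩
        rw [map_mul, ← hsa, ← mul_assoc, ← map_mul]
        rw [Finset.prod_erase_mul _ _ (Finset.mem_univ _), show (∏ t' : T, (s t' : A)) = (σ : A) by simp [σ]]
        rw [Algebra.traceForm_apply, Algebra.traceForm_apply, mul_assoc, htr]
      | zero => simp
      | add u v _ _ hu hv => simp only [map_add]; exact add_mem hu hv
      | smul r u _ hu =>
        rw [Algebra.traceForm_apply] at hu ⊢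
        rw [Algebra.smul_def r u, map_mul (algebraMap B L), ← IsScalarTower.algebraMap_apply A B L,
          mul_left_comm, htr]
        exact mul_mem ⟨r, rfl⟩ hu
    suffices algebraMap Bₛ L z * d ∈ (1 : Submodule Bₛ L) from this
    refine Submodule.span_induction ?_ (by simp) (fun u v _ _ hu hv => ?_) (fun r u _ hu => ?_) hz
    · rintro _ ⟨i, hi, rfl⟩
      have h1 : algebraMap B L i * (algebraMap A L σ * d) ∈ (1 : Submodule B L) := by
        have hi' : algebraMap B L i ∈ IsLocalization.coeSubmodule L (differentIdeal A B) :=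
          (IsLocalization.mem_coeSubmodule _ _).2 ⟨i, hi, rfl⟩
        rw [hI, Submodule.mem_div_iff_forall_mul_mem] at hi'
        exact hi' _ hσd
      obtain ⟨c, hc⟩ := Submodule.mem_one.1 h1
      refine Submodule.mem_one.2 ⟨IsLocalization.mk' Bₛ c (⟨algebraMap A B σ, Algebra.mem_algebraMapSubmonoid_of_mem σ⟩ : Algebra.algebraMapSubmonoid B S), ?_⟩
      have hu : IsUnit (algebraMap A L σ) := IsScalarTower.algebraMap_apply A B L σ ▸ hBL ⟨_, Algebra.mem_algebraMapSubmonoid_of_mem σ⟩
      refine hu.mul_left_cancel ?_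
      rw [IsScalarTower.algebraMap_apply A B L, IsScalarTower.algebraMap_apply B Bₛ L, ← map_mul,
        show algebraMap B Bₛ (algebraMap A B σ) * IsLocalization.mk' Bₛ c
          (⟨algebraMap A B σ, Algebra.mem_algebraMapSubmonoid_of_mem σ⟩ : Algebra.algebraMapSubmonoid B S) = algebraMap B Bₛ c from
          IsLocalization.mk'_spec' Bₛ c ⟨algebraMap A B σ, Algebra.mem_algebraMapSubmonoid_of_mem σ⟩,
        ← IsScalarTower.algebraMap_apply, hc, ← IsScalarTower.algebraMap_apply,
        ← IsScalarTower.algebraMap_apply, ← IsScalarTower.algebraMap_apply]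
      ring
    · rw [map_add, add_mul]; exact add_mem hu hv
    · rw [smul_eq_mul, map_mul, mul_assoc, ← Algebra.smul_def]
      exact Submodule.smul_mem _ r hu
  · intro x hx
    rw [Submodule.mem_div_iff_forall_mul_mem] at hx
    have key : ∀ w ∈ IsLocalization.coeSubmodule L (differentIdeal A B) * Submodule.traceDual A K (1 : Submodule B L),
        x * w ∈ IsLocalization.coeSubmodule L (Ideal.map (algebraMap B Bₛ) (differentIdeal A B)) := by
      intro w hw
      refine Submodule.mul_induction_on hw (fun i hi d hd => ?_) (fun u v hu hv => mul_add x u v ▸ add_mem hu hv)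
      obtain ⟨i, hi', rfl⟩ := (IsLocalization.mem_coeSubmodule _ _).1 hi
      obtain ⟨c, hc⟩ := Submodule.mem_one.1 (hx d (hDD d hd))
      refine (IsLocalization.mem_coeSubmodule _ _).2 ⟨c * algebraMap B Bₛ i, Ideal.mul_mem_left _ _ (Ideal.mem_map_of_mem _ hi'), ?_⟩
      rw [map_mul, hc, ← IsScalarTower.algebraMap_apply]
      ring
    simpa using key 1 hD

end Groth.Agent.S11086
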