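import Groth.Statements.S11087
import Groth.Agent.EtaleAlgebra.HensDomain
import Mathlib.RingTheory.Henselian
import Mathlib.FieldTheory.Perfect
import Mathlib.RingTheory.DiscreteValuationRing.Basic

set_option autoImplicit false
universe u
attribute [local instance] FractionRing.liftAlgebra
open CAlg

namespace Groth.Agent.S11087

/-- Let A be a complete discrete valuation ring and K a perfect field contained in A such that K → A →
A/m is bijective. Let B be a Dedekind domain which is a finite torsion-free A-algebra with fraction
field separable over that of A (the integral closure of A in a finite separable extension of its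
fraction field). Then for every maximal ideal M of B and every b in B there is exactly one element c
of B which is algebraic over K and congruent to b modulo M; in other words the algebraic closure of
K in B is a subfield mapping isomorphically onto B/M. -/
theorem result (K A B : Type u) [Field K]
    [PerfectField K] [CommRing A] [IsDomain A] [IsDiscreteValuationRing A]
    [IsAdicComplete (IsLocalRing.maximalIdeal A) A]
    [Algebra K A] (hK : Function.Bijective ((IsLocalRing.residue A).comp (algebraMap K A)))
    [CommRing B] [IsDedekindDomain B] [Algebra A B] [Module.Finite A B] [Module.IsTorsionFree A B]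
    [Algebra.IsSeparable (FractionRing A) (FractionRing B)] [Algebra K B] [IsScalarTower K A B]
    (M : Ideal B) [M.IsMaximal] (b : B) :
    ∃! c : B, IsAlgebraic K c ∧ b - c ∈ M := by
  classical
  haveI : HenselianLocalRing A := ⟨fun f hf a₀ h₁ h₂ =>
    HenselianRing.is_henselian (I := IsLocalRing.maximalIdeal A) f hf a₀ h₁ (h₂.map _)⟩
  haveI : IsLocalRing B := Groth.EtaleAlgebra.isLocalRing_of_finite_domain A B
  haveI : HenselianLocalRing B := Groth.EtaleAlgebra.henselianLocalRing_of_isIntegral A B
  haveI : IsLocalHom (algebraMap A B) := Groth.EtaleAlgebra.isLocalHom_of_isIntegral A B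
  obtain rfl : M = IsLocalRing.maximalIdeal B := IsLocalRing.eq_maximalIdeal inferInstance
  -- the residue of `b` is algebraic over `K`
  let res := IsLocalRing.residue B
  let ρ : K →+* IsLocalRing.ResidueField B := res.comp (algebraMap K B)
  letI : Algebra K (IsLocalRing.ResidueField B) := ρ.toAlgebra
  have hint : IsIntegral K (res b) := by
    obtain ⟨p, hp, hpb⟩ := Algebra.IsIntegral.isIntegral (R := A) b
    obtain ⟨q, hq, hqd, hqm⟩ := Polynomial.lifts_and_degree_eq_and_monic
      (f := (IsLocalRing.residue A).comp (algebraMap K A))
      ((Polynomial.lifts_iff_coeff_lifts _).2 fun n =>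
        ⟨_, (hK.2 ((p.map (IsLocalRing.residue A)).coeff n)).choose_spec⟩)
      (hp.map (IsLocalRing.residue A))
    refine ⟨q, hqm, ?_⟩
    have h1 : (algebraMap (K) (IsLocalRing.ResidueField B)) =
        (IsLocalRing.ResidueField.map (algebraMap A B)).comp ((IsLocalRing.residue A).comp (algebraMap K A)) := by
      ext c
      show res (algebraMap K B c) = IsLocalRing.ResidueField.map _ (IsLocalRing.residue A (algebraMap K A c))
      rw [IsLocalRing.ResidueField.map_residue, ← IsScalarTower.algebraMap_apply]
    rw [h1, ← Polynomial.eval₂_map, hq, Polynomial.eval₂_map,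
      IsLocalRing.ResidueField.map_comp_residue, ← Polynomial.hom_eval₂, hpb, map_zero]
  let g := minpoly K (res b)
  have hg : g.Monic := minpoly.monic hint
  have hgirr : Irreducible g := minpoly.irreducible hint
  have hsep : g.Separable := PerfectField.separable_of_irreducible hgirr
  let F := g.map (algebraMap K B)
  have hres : ∀ (f : Polynomial K) (c : B), res ((f.map (algebraMap K B)).eval c) = Polynomial.aeval (res c) f :=
    fun f c => by
      rw [Polynomial.eval_map, Polynomial.hom_eval₂]
      rfl
  have h₁ : F.eval b ∈ IsLocalRing.maximalIdeal B :=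
    (IsLocalRing.residue_eq_zero_iff _).1 (by
      show res _ = 0
      rw [hres]; exact minpoly.aeval K (res b))
  have hder : ∀ c : B, res c = res b → IsUnit (F.derivative.eval c) := fun c hc => by
    apply IsLocalRing.notMem_maximalIdeal.1
    intro h
    rw [← IsLocalRing.residue_eq_zero_iff, Polynomial.derivative_map] at h
    have h' : Polynomial.aeval (res b) g.derivative = 0 := by
      rw [← hc, ← hres]; exact h
    exact hsep.aeval_derivative_ne_zero (minpoly.aeval K (res b)) h'
  obtain ⟨c, hc0, hcb⟩ := HenselianLocalRing.is_henselian F (hg.map _) b h₁ (hder b rfl)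
  have hcb' : res c = res b := by
    rw [← sub_eq_zero, ← map_sub]
    exact (IsLocalRing.residue_eq_zero_iff _).2 hcb
  refine ⟨c, ⟨⟨g, hg.ne_zero, ?_⟩, ?_⟩, ?_⟩
  · rw [← Polynomial.eval_map_algebraMap]; exact hc0
  · rw [show b - c = -(c - b) by ring]; exact neg_mem hcb
  rintro c' ⟨hc'alg, hc'b⟩
  have hc'res : res c' = res b := by
    rw [eq_comm, ← sub_eq_zero, ← map_sub]
    exact (IsLocalRing.residue_eq_zero_iff _).2 hc'b
  have hc'int : IsIntegral K c' := hc'alg.isIntegral
  have hh : minpoly K c' = g := by
    refine minpoly.eq_of_irreducible_of_monic (minpoly.irreducible hc'int) ?_ (minpoly.monic hc'int)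
    rw [← hc'res, ← hres, Polynomial.eval_map_algebraMap, minpoly.aeval, map_zero]
  have hc'0 : F.IsRoot c' := by
    show F.eval c' = 0
    rw [Polynomial.eval_map_algebraMap, ← hh]
    exact minpoly.aeval K c'
  by_contra hne
  obtain ⟨Q, hQ⟩ := Polynomial.dvd_iff_isRoot.2 hc0
  have hQ0 : Q.eval c' = 0 := by
    have h := hc'0
    rw [Polynomial.IsRoot, hQ, Polynomial.eval_mul] at h
    exact (mul_eq_zero.1 h).resolve_left (by simpa [sub_eq_zero] using hne)
  have hu : IsUnit (Q.eval c) := by
    have h := hder c hcb'
    rw [hQ, Polynomial.derivative_mul] at h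
    simpa using h
  have h2 : res (Q.eval c) = res (Q.eval c') := by
    rw [← Polynomial.eval₂_at_apply, ← Polynomial.eval₂_at_apply, hcb', hc'res]
  rw [hQ0, map_zero] at h2
  exact (IsLocalRing.notMem_maximalIdeal.2 hu) ((IsLocalRing.residue_eq_zero_iff _).1 h2)

end Groth.Agent.S11087
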