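import Groth.Statements.S11088
import Groth.Agent.EtaleAlgebra.HensDomain
import Mathlib.RingTheory.Ideal.Norm.RelNorm
import Mathlib.RingTheory.RamificationInertia.Basic
import Mathlib.RingTheory.Henselian
import Mathlib.RingTheory.DiscreteValuationRing.TFAE
import Mathlib.RingTheory.DedekindDomain.Factorization

set_option autoImplicit false
universe u
attribute [local instance] FractionRing.liftAlgebra
open CAlg

namespace Groth.Agent.S11088

/-- Let A be a complete discrete valuation ring with maximal ideal m and B a Dedekind domain which is a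
finite torsion-free A-algebra with fraction field separable over that of A (the integral closure of
A in a finite separable extension). Then for every maximal ideal M of B, with f the degree of B/M
over A/m, and every nonzero x in B, the multiplicity of m in the ideal generated by the norm of x
equals f times the multiplicity of M in the ideal generated by x: v(N(x)) = f · w(x). -/
theorem result (A B : Type u) [CommRing A] [IsDomain A] [IsDiscreteValuationRing A]
    [IsAdicComplete (IsLocalRing.maximalIdeal A) A]
    [CommRing B] [IsDedekindDomain B] [Algebra A B] [Module.Finite A B] [Module.IsTorsionFree A B]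
    [Algebra.IsSeparable (FractionRing A) (FractionRing B)]
    (M : Ideal B) [M.IsMaximal] (x : B) (hx : x ≠ 0) :
    emultiplicity (IsLocalRing.maximalIdeal A) (Ideal.span {Algebra.intNorm A B x}) =
      (M.inertiaDeg A : ℕ∞) * emultiplicity M (Ideal.span {x}) := by
  classical
  haveI : HenselianLocalRing A := ⟨fun f hf a₀ h₁ h₂ =>
    HenselianRing.is_henselian (I := IsLocalRing.maximalIdeal A) f hf a₀ h₁ (h₂.map _)⟩
  haveI : IsLocalRing B := Groth.EtaleAlgebra.isLocalRing_of_finite_domain A B
  obtain rfl : M = IsLocalRing.maximalIdeal B := IsLocalRing.eq_maximalIdeal inferInstance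
  set m := IsLocalRing.maximalIdeal A with hm
  set M := IsLocalRing.maximalIdeal B with hM
  haveI hlo : M.LiesOver m := ⟨(IsLocalRing.eq_maximalIdeal
    (Ideal.isMaximal_comap_of_isIntegral_of_isMaximal M)).symm⟩
  have hm0 : m ≠ ⊥ := IsDiscreteValuationRing.not_a_field A
  have hM0 : M ≠ ⊥ := Ideal.ne_bot_of_liesOver_of_ne_bot hm0 M
  haveI : IsDiscreteValuationRing B := by
    have hB : ¬ IsField B := fun h => hM0 (IsLocalRing.isField_iff_maximalIdeal_eq.1 h)
    exact ((IsDiscreteValuationRing.TFAE B hB).out 0 2 rfl rfl).2 inferInstance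
  have hprimes : m.primesOver B = {M} := by
    ext Q
    refine ⟨fun ⟨hQ1, hQ2⟩ => ?_, ?_⟩
    · haveI := hQ1
      haveI := hQ2
      haveI : Q.IsMaximal := Ideal.IsMaximal.of_liesOver_isMaximal Q m
      exact IsLocalRing.eq_maximalIdeal ‹Q.IsMaximal›
    · rintro rfl
      exact ⟨inferInstance, hlo⟩
  haveI : Fintype (m.primesOver B) := by rw [hprimes]; infer_instance
  have hsum : M.ramificationIdx A * M.inertiaDeg A = Module.finrank A B := by
    rw [← Ideal.sum_ramification_inertia_eq_finrank m B]
    have hu : (Finset.univ : Finset (m.primesOver B)) = {⟨M, by rw [hprimes]; exact rfl⟩} := by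
      ext Q
      simp only [Finset.mem_univ, Finset.mem_singleton, true_iff]
      exact Subtype.ext (by simpa [hprimes] using Q.2)
    rw [hu, Finset.sum_singleton]
  have hmap : m.map (algebraMap A B) = M ^ M.ramificationIdx A := by
    rw [Ideal.map_algebraMap_eq_finsetProd_pow hm0]
    convert Finset.prod_singleton (fun P : Ideal B => P ^ P.ramificationIdx A) M using 1
    refine Finset.prod_congr ?_ fun _ _ => rfl
    ext Q
    simp [hprimes]
  obtain ⟨s, hs⟩ := Ideal.exists_relNorm_eq_pow_of_isPrime M m
  have hinj : Function.Injective fun n : ℕ => m ^ n :=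
    Ideal.pow_right_strictAnti m hm0 (Ideal.IsMaximal.ne_top inferInstance) |>.injective
  have hsf : s = M.inertiaDeg A := by
    have h := Ideal.relNorm_algebraMap (R := A) B m
    rw [hmap, map_pow, hs, ← pow_mul] at h
    have h2 := hinj h
    rw [← hsum, mul_comm] at h2
    exact Nat.eq_of_mul_eq_mul_left (Ideal.ramificationIdx_pos M A) h2
  obtain ⟨a, ha⟩ : ∃ a : ℕ, Ideal.span {x} = M ^ a := by
    obtain ⟨π, hπ⟩ := IsDiscreteValuationRing.exists_irreducible B
    obtain ⟨a, u, hu⟩ := IsDiscreteValuationRing.eq_unit_mul_pow_irreducible hx hπ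
    exact ⟨a, by rw [hM, hπ.maximalIdeal_eq, Ideal.span_singleton_pow, hu,
      Ideal.span_singleton_mul_left_unit u.isUnit]⟩
  have hN : Ideal.span {Algebra.intNorm A B x} = m ^ (M.inertiaDeg A * a) := by
    rw [← Ideal.relNorm_singleton, ha, map_pow, hs, hsf, ← pow_mul]
  rw [hN, ha, emultiplicity_pow_self hm0 (fun h => Ideal.IsMaximal.ne_top inferInstance (Ideal.isUnit_iff.1 h)),
    emultiplicity_pow_self hM0 (fun h => Ideal.IsMaximal.ne_top inferInstance (Ideal.isUnit_iff.1 h))]
  push_cast
  rfl

end Groth.Agent.S11088
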