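import Groth.Statements.S11089
import Mathlib
import Groth.Agent.AdicLinTop.Adic
import Groth.Agent.AdicLinTop.RigClosed

set_option autoImplicit false
universe u
attribute [local instance] FractionRing.liftAlgebra
open CAlg IsLocalRing

namespace Groth.Agent.S11089

/-- Let A be a complete discrete valuation ring containing a field K with K → A → A/m bijective, and B a
Dedekind domain which is a finite torsion-free A-algebra of rank m with fraction field separable
over that of A (the integral closure of A in a finite separable extension E of F = Frac A). If the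
extension is totally ramified — the maximal ideal M of B has ramification index m — and m is a unit
in A, then some uniformizer u of B (an element of M not in M²) satisfies u^m ∈ A and generates E
over F: its minimal polynomial over A has degree m. -/
theorem result (K A B : Type u) [Field K]
    [CommRing A] [IsDomain A] [IsDiscreteValuationRing A]
    [IsAdicComplete (IsLocalRing.maximalIdeal A) A]
    [Algebra K A] (hK : Function.Bijective ((IsLocalRing.residue A).comp (algebraMap K A)))
    [CommRing B] [IsDedekindDomain B] [Algebra A B] [Module.Finite A B] [Module.IsTorsionFree A B]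
    [Algebra.IsSeparable (FractionRing A) (FractionRing B)]
    (M : Ideal B) [M.IsMaximal] (hram : M.ramificationIdx A = Module.finrank A B)
    (hm : IsUnit ((Module.finrank A B : ℕ) : A)) :
    ∃ u : B, u ∈ M ∧ u ∉ M ^ 2 ∧ u ^ Module.finrank A B ∈ (algebraMap A B).range ∧
      (minpoly A u).natDegree = Module.finrank A B := by
  classical

  set p := maximalIdeal A with hp
  haveI : Module.Free A B := Module.free_of_finite_type_torsion_free'
  haveI : Module.Flat A B := inferInstance
  have hn0 : 0 < Module.finrank A B := Module.finrank_pos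
  set n := Module.finrank A B with hn
  have hint : Algebra.IsIntegral A B := inferInstance
  have hover : ∀ Q : Ideal B, Q.IsMaximal → Q.LiesOver p := fun Q hQ => ⟨by
    haveI := Ideal.isMaximal_comap_of_isIntegral_of_isMaximal (R := A) Q
    exact (eq_maximalIdeal this).symm⟩
  haveI : M.LiesOver p := hover M inferInstance
  haveI : Finite (p.primesOver B) := (IsDedekindDomain.primesOver_finite p B).to_subtype
  letI := Fintype.ofFinite (p.primesOver B)
  have hsum := Ideal.sum_ramification_inertia_eq_finrank (S := B) p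
  let qM : p.primesOver B := ⟨M, inferInstance, inferInstance⟩
  have hf0 : 0 < M.inertiaDeg A := Ideal.inertiaDeg_pos _ _
  have huniq : ∀ Q : Ideal B, Q.IsMaximal → Q = M := fun Q hQ => by
    by_contra hne
    haveI := hover Q hQ
    let qQ : p.primesOver B := ⟨Q, inferInstance, inferInstance⟩
    have h2 : qM.1.ramificationIdx A * qM.1.inertiaDeg A + qQ.1.ramificationIdx A * qQ.1.inertiaDeg A ≤ n := by
      rw [hn, ← hsum, ← Finset.sum_pair (f := fun q : p.primesOver B => q.1.ramificationIdx A * q.1.inertiaDeg A)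
        (show qM ≠ qQ from fun h => hne (congrArg Subtype.val h).symm)]
      exact Finset.sum_le_sum_of_subset (Finset.subset_univ _)
    have h3 : 0 < qQ.1.ramificationIdx A * qQ.1.inertiaDeg A :=
      Nat.mul_pos (Ideal.ramificationIdx_pos _ _) (Ideal.inertiaDeg_pos _ _)
    have h4 : n ≤ qM.1.ramificationIdx A * qM.1.inertiaDeg A := by
      rw [show qM.1 = M from rfl, hram]
      exact Nat.le_mul_of_pos_right _ hf0
    omega
  have hfM : M.inertiaDeg A = 1 := by
    have h2 : qM.1.ramificationIdx A * qM.1.inertiaDeg A ≤ n := by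
      rw [hn, ← hsum]
      exact Finset.single_le_sum (f := fun q : p.primesOver B => q.1.ramificationIdx A * q.1.inertiaDeg A)
        (fun q _ => Nat.zero_le _) (Finset.mem_univ qM)
    rw [show qM.1 = M from rfl, hram] at h2
    have := Nat.le_of_mul_le_mul_left (h2.trans_eq (mul_one n).symm) hn0
    omega
  haveI : IsLocalRing B := IsLocalRing.of_unique_max_ideal ⟨M, inferInstance, huniq⟩
  have hM : maximalIdeal B = M := huniq _ inferInstance
  obtain ⟨t, ht⟩ := IsDiscreteValuationRing.exists_irreducible A
  have hpt : p = Ideal.span {t} := (IsDiscreteValuationRing.irreducible_iff_uniformizer t).1 ht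
  have hinj : Function.Injective (algebraMap A B) := FaithfulSMul.algebraMap_injective A B
  have ht0 : algebraMap A B t ≠ 0 := (map_ne_zero_iff _ hinj).2 ht.ne_zero
  have htM : algebraMap A B t ∈ M := by
    have h : t ∈ p := hpt ▸ Ideal.mem_span_singleton_self t
    rw [Ideal.LiesOver.over (p := p) (P := M)] at h
    exact h
  haveI : IsDiscreteValuationRing B := by
    refine ((IsDiscreteValuationRing.TFAE B ?_).out 2 0).1 (inferInstance : IsDedekindDomain B)
    intro hf
    have hb := IsLocalRing.isField_iff_maximalIdeal_eq.1 hf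
    rw [hM] at hb
    exact ht0 (by rw [hb] at htM; exact htM)
  obtain ⟨π, hπ⟩ := IsDiscreteValuationRing.exists_irreducible B
  have hMπ : M = Ideal.span {π} := hM ▸ (IsDiscreteValuationRing.irreducible_iff_uniformizer π).1 hπ
  obtain ⟨j, v, hv⟩ := IsDiscreteValuationRing.eq_unit_mul_pow_irreducible ht0 hπ
  have hp0 : p ≠ ⊥ := IsDiscreteValuationRing.not_a_field A
  have hmap : p.map (algebraMap A B) = M ^ j := by
    rw [hpt, Ideal.map_span, Set.image_singleton, hv, Ideal.span_singleton_mul_left_unit v.isUnit, hMπ,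
      Ideal.span_singleton_pow]
  have hj : j = n := by
    have h1 : p.ramificationIdx' M = j := by
      refine Ideal.ramificationIdx'_spec (le_of_eq hmap) fun hle => ?_
      rw [hmap, hMπ, Ideal.span_singleton_pow, Ideal.span_singleton_pow, Ideal.span_singleton_le_span_singleton,
        pow_dvd_pow_iff hπ.ne_zero hπ.not_isUnit] at hle
      omega
    rw [← h1, Ideal.ramificationIdx'_eq_ramificationIdx _ _ hp0, hram]
  rw [hj] at hv hmap
  -- residue field
  have hres : ∀ b : B, ∃ a : A, b - algebraMap A B a ∈ M := by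
    intro b
    have h1 : Module.finrank (A ⧸ p) (B ⧸ M) = 1 := by rw [← Ideal.inertiaDeg_eq_of_isMaximal p, hfM]
    letI : Field (A ⧸ p) := Ideal.Quotient.field p
    have hbot : (⊥ : Subalgebra (A ⧸ p) (B ⧸ M)) = ⊤ := Subalgebra.bot_eq_top_of_finrank_eq_one h1
    obtain ⟨a, ha⟩ := Algebra.mem_bot.1 (hbot.ge (Algebra.mem_top (x := Ideal.Quotient.mk M b)))
    obtain ⟨a, rfl⟩ := Ideal.Quotient.mk_surjective a
    exact ⟨a, Ideal.Quotient.eq.1 (ha.symm.trans rfl)⟩
  obtain ⟨a, ha⟩ := hres v
  have hau : IsUnit a := by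
    by_contra h
    have ham : algebraMap A B a ∈ M := by
      have h' : a ∈ p := h
      rw [Ideal.LiesOver.over (p := p) (P := M)] at h'
      exact h'
    have := M.add_mem ha ham
    rw [sub_add_cancel] at this
    exact Ideal.IsMaximal.ne_top inferInstance (Ideal.eq_top_of_isUnit_mem _ this v.isUnit)
  obtain ⟨a, rfl⟩ := hau
  set v' : B := algebraMap A B ((a⁻¹ : Aˣ) : A) * v with hv'
  have hv'1 : 1 - v' ∈ M := by
    have h := M.mul_mem_left (algebraMap A B ((a⁻¹ : Aˣ) : A)) ha
    rw [mul_sub, ← map_mul, Units.inv_mul, map_one, ← neg_mem_iff, neg_sub] at h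
    exact h
  -- Hensel
  haveI : IsAdicComplete p B := Groth.AdicLinTop.Adic.isAdicComplete_of_finite
  haveI hc : IsAdicComplete (p.map (algebraMap A B)) B := (IsAdicComplete.map_algebraMap_iff (S := B) (I := p) B).mpr inferInstance
  haveI : IsAdicComplete M B := Groth.AdicLinTop.RigClosed.isAdicComplete_of_pow_le
    (I := p.map (algebraMap A B)) (by rw [hmap]; exact Ideal.pow_le_self (by omega)) (le_of_eq hmap.symm) B
  obtain ⟨w, hw, -⟩ := HenselianRing.is_henselian (I := M) (Polynomial.X ^ n - Polynomial.C v')
    (Polynomial.monic_X_pow_sub_C _ (by omega)) 1 (by simpa using hv'1) (by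
      rw [Polynomial.derivative_sub, Polynomial.derivative_X_pow, Polynomial.derivative_C, sub_zero]
      simp only [Polynomial.eval_mul, Polynomial.eval_C, Polynomial.eval_pow, Polynomial.eval_X, one_pow, mul_one]
      have h := (hm.map (algebraMap A B)).map (Ideal.Quotient.mk M)
      rwa [map_natCast] at h)
  have hwn : w ^ n = v' := by
    have := hw
    simpa [Polynomial.IsRoot, sub_eq_zero] using this
  have hwu : IsUnit w := by
    refine (isUnit_pow_iff (by omega : n ≠ 0)).1 (hwn ▸ ?_)
    exact (a⁻¹.isUnit.map _).mul v.isUnit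
  set u := w * π with hu
  have hun : u ^ n = algebraMap A B (((a⁻¹ : Aˣ) : A) * t) := by
    rw [hu, mul_pow, hwn, hv', map_mul, hv]; ring
  refine ⟨u, ?_, ?_, ⟨_, hun.symm⟩, ?_⟩
  · rw [hMπ]; exact Ideal.mul_mem_left _ _ (Ideal.mem_span_singleton_self π)
  · rw [hMπ, Ideal.span_singleton_pow, Ideal.mem_span_singleton, hu, hwu.dvd_mul_left]
    intro h
    have := (pow_dvd_pow_iff hπ.ne_zero hπ.not_isUnit).1 ((pow_one π).symm ▸ h : π ^ 2 ∣ π ^ 1)
    omega
  · refine le_antisymm (minpoly.natDegree_le u) (not_lt.1 fun hlt => ?_)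
    set P := minpoly A u
    have hPm : P.Monic := minpoly.monic (Algebra.IsIntegral.isIntegral u)
    let S := (Finset.range n).filter fun i => P.coeff i ≠ 0
    have hS : S.Nonempty := ⟨P.natDegree, Finset.mem_filter.2 ⟨Finset.mem_range.2 hlt, by rw [hPm.coeff_natDegree]; exact one_ne_zero⟩⟩
    have hfac : ∀ i, P.coeff i ≠ 0 → ∃ (m : ℕ) (e : Bˣ), algebraMap A B (P.coeff i) * u ^ i = e * π ^ (n * m + i) := by
      intro i hi
      obtain ⟨m, e, he⟩ := IsDiscreteValuationRing.eq_unit_mul_pow_irreducible hi ht
      refine ⟨m, Units.map (algebraMap A B).toMonoidHom e * v ^ m * hwu.unit ^ i, ?_⟩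
      simp only [Units.val_mul, Units.coe_map, Units.val_pow_eq_pow_val, IsUnit.unit_spec]
      rw [he, map_mul, map_pow, hv, hu, mul_pow, mul_pow, ← pow_mul, pow_add]
      simp only [RingHom.toMonoidHom_eq_coe, MonoidHom.coe_coe]
      ring
    choose! m e he using hfac
    obtain ⟨i₀, hi₀, hmin⟩ := S.exists_min_image (fun i => n * m i + i) hS
    have hi₀' := Finset.mem_filter.1 hi₀
    have h0 : ∑ i ∈ Finset.range n, algebraMap A B (P.coeff i) * u ^ i = 0 := by
      have h := minpoly.aeval A u
      rw [Polynomial.aeval_def, Polynomial.eval₂_eq_sum_range' _ hlt] at h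
      exact h
    have hdvd : π ^ (n * m i₀ + i₀ + 1) ∣ algebraMap A B (P.coeff i₀) * u ^ i₀ := by
      rw [← Finset.add_sum_erase _ _ hi₀'.1] at h0
      rw [eq_neg_of_add_eq_zero_left h0, dvd_neg]
      refine Finset.dvd_sum fun i hi => ?_
      rw [Finset.mem_erase] at hi
      by_cases hci : P.coeff i = 0
      · rw [hci, map_zero, zero_mul]; exact dvd_zero _
      rw [he i hci]
      refine Dvd.dvd.mul_left (pow_dvd_pow _ (Nat.lt_iff_add_one_le.1 ((hmin i (Finset.mem_filter.2 ⟨hi.2, hci⟩)).lt_of_ne ?_))) _
      intro h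
      refine hi.1 ?_
      have h2 : (n * m i₀ + i₀) % n = (n * m i + i) % n := by rw [h]
      rw [Nat.mul_add_mod, Nat.mul_add_mod, Nat.mod_eq_of_lt (Finset.mem_range.1 hi₀'.1),
        Nat.mod_eq_of_lt (Finset.mem_range.1 hi.2)] at h2
      exact h2.symm
    rw [he i₀ hi₀'.2, (Units.isUnit _).dvd_mul_left, pow_dvd_pow_iff hπ.ne_zero hπ.not_isUnit] at hdvd
    omega

end Groth.Agent.S11089
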