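import Groth.Statements.S11090
import Groth.Agent.AlgGrp1.Points

set_option autoImplicit false
universe u
open CategoryTheory CategoryTheory.Limits MonoidalCategory CartesianMonoidalCategory MonObj GrpObj AlgebraicGeometry
open AbVar

namespace Groth.Agent.S11090

/-- Let k be an algebraically closed field and E, E′, E″ elliptic curves over k, i.e. group schemes over
Spec k whose underlying schemes are proper, smooth, integral and one-dimensional. Let φ : E → E′ be
a homomorphism which is finite, surjective and étale (a separable isogeny) and ψ : E → E″ a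
homomorphism such that every k-valued point of E sent to the unit by φ is sent to the unit by ψ.
Then there is a unique homomorphism ρ : E′ → E″ with ψ = ρ ∘ φ. (The published statement prints ψ as
a map from E″ to E and calls it an isogeny; its proof treats ψ as a map from E to E″, as here, and
this row allows any homomorphism ψ, the extra case of trivial ψ being immediate.) -/
theorem result (k : Type u) [Field k] [IsAlgClosed k]
    (E E' E'' : Over (Spec (CommRingCat.of k)))
    [GrpObj E] [IsProper E.hom] [Smooth E.hom] [IsIntegral E.left] (hE : topologicalKrullDim E.left = 1)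
    [GrpObj E'] [IsProper E'.hom] [Smooth E'.hom] [IsIntegral E'.left] (hE' : topologicalKrullDim E'.left = 1)
    [GrpObj E''] [IsProper E''.hom] [Smooth E''.hom] [IsIntegral E''.left] (hE'' : topologicalKrullDim E''.left = 1)
    (φ : E ⟶ E') [IsMonHom φ] [IsFinite φ.left] [Surjective φ.left] [Etale φ.left]
    (ψ : E ⟶ E'') [IsMonHom ψ]
    (hker : ∀ P : 𝟙_ (Over (Spec (CommRingCat.of k))) ⟶ E, P ≫ φ = η[E'] → P ≫ ψ = η[E'']) :
    ∃! ρ : E' ⟶ E'', IsMonHom ρ ∧ φ ≫ ρ = ψ := by
  have hc : Groth.AlgGrp1.IsCover φ := Groth.AlgGrp1.isCover φ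
  have hpts : ∀ (T : Over (Spec (CommRingCat.of k))) (a b : T ⟶ E), a ≫ φ = b ≫ φ → a ≫ ψ = b ≫ ψ := by
    let P : Over (Spec (CommRingCat.of k)) := Over.mk (Limits.pullback.fst φ.left φ.left ≫ E.hom)
    let p₁ : P ⟶ E := Over.homMk (Limits.pullback.fst φ.left φ.left) rfl
    let p₂ : P ⟶ E := Over.homMk (Limits.pullback.snd φ.left φ.left) (by
      show _ = Limits.pullback.fst φ.left φ.left ≫ E.hom
      rw [← Over.w φ, ← Category.assoc, ← Category.assoc, Limits.pullback.condition])
    haveI : IsSeparated E''.hom := inferInstance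
    haveI : Smooth (Limits.pullback.fst φ.left φ.left) := inferInstance
    haveI : Smooth P.hom := inferInstanceAs (Smooth (Limits.pullback.fst φ.left φ.left ≫ E.hom))
    haveI := Groth.AlgGrp1.geometricallyReduced_of_smooth_hom P
    have hp : p₁ ≫ φ = p₂ ≫ φ := by ext; exact Limits.pullback.condition
    have key : p₁ ≫ ψ = p₂ ≫ ψ := by
      refine Groth.AlgGrp1.eq_of_sepClosed_points (K := k) (p₁ ≫ ψ) (p₂ ≫ ψ) fun t => ?_
      let e : 𝟙_ (Over (Spec (CommRingCat.of k))) ≅ Groth.AlgGrp1.specAlg k k := Over.isoMk (Iso.refl _) (by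
        simp [Groth.AlgGrp1.specAlg, Over.tensorUnit_hom])
      rw [← cancel_epi e.hom, ← Category.assoc t, ← Category.assoc t]
      have h := hker (((e.hom ≫ t ≫ p₁) / (e.hom ≫ t ≫ p₂))) (by
        rw [GrpObj.div_comp, Category.assoc, Category.assoc, Category.assoc, Category.assoc, hp, div_self',
          MonObj.one_eq_one])
      rw [GrpObj.div_comp, MonObj.one_eq_one, div_eq_one] at h
      simpa only [Category.assoc] using h
    intro T a b hab
    let t : T ⟶ P := Over.homMk (Limits.pullback.lift a.left b.left (by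
      rw [← Over.comp_left, hab, Over.comp_left])) (by
      show Limits.pullback.lift _ _ _ ≫ Limits.pullback.fst _ _ ≫ E.hom = T.hom
      rw [Limits.pullback.lift_fst_assoc, Over.w])
    have ha : t ≫ p₁ = a := by ext; exact Limits.pullback.lift_fst _ _ _
    have hb : t ≫ p₂ = b := by ext; exact Limits.pullback.lift_snd _ _ _
    rw [← ha, ← hb, Category.assoc, Category.assoc, key]
  obtain ⟨ρ, hρ⟩ := hc.exists_desc ψ hpts
  refine ⟨ρ, ⟨Groth.AlgGrp1.isMonHom_of_points ρ fun T a b => ?_, hρ⟩, fun ρ' h => hc.cancel (h.2.trans hρ.symm)⟩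
  obtain ⟨T', c, x, x', hcc, hx, hx'⟩ := hc.exists_lift₂ a b
  refine hcc.cancel ?_
  rw [← Category.assoc, MonObj.comp_mul, ← hx, ← hx', ← MonObj.mul_comp, Category.assoc, hρ,
    MonObj.mul_comp, MonObj.comp_mul, ← Category.assoc c, ← hx, ← Category.assoc c, ← hx',
    Category.assoc, Category.assoc, hρ]

end Groth.Agent.S11090
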