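import Groth.Statements.S11092
import Groth.Agent.Calg5.KaehlerField

set_option autoImplicit false
universe u v
open CAlg

namespace Groth.Agent.S11092

/-- Let k be an algebraically closed field, K a field finitely generated over k admitting a one-element
transcendence basis over k (a function field of dimension one), and L a finite extension field of K
with the compatible k-algebra structure. Then the K-linear map from the Kähler differentials of K
over k to those of L over k induced by the inclusion is either the zero map or injective, and it is
injective if and only if L is separable over K. (The published statement takes K ⊆ L to be the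
function fields of two elliptic curves related by a nonzero homomorphism; its proof uses only that
they are function fields of dimension one over k.) -/
theorem result (k : Type u) (K L : Type v)
    [Field k] [IsAlgClosed k] [Field K] [Field L] [Algebra k K] [Algebra k L] [Algebra K L]
    [IsScalarTower k K L] (hK : (⊤ : IntermediateField k K).FG)
    (hx : ∃ x : K, IsTranscendenceBasis k (fun _ : Unit => x)) [FiniteDimensional K L] :
    (KaehlerDifferential.map k k K L = 0 ∨ Function.Injective (KaehlerDifferential.map k k K L)) ∧
      (Function.Injective (KaehlerDifferential.map k k K L) ↔ Algebra.IsSeparable K L) := by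
  obtain ⟨x, hx⟩ := hx
  have : Algebra.EssFiniteType k K := IntermediateField.fg_top_iff.mp hK
  have : Algebra.EssFiniteType k L := Algebra.EssFiniteType.comp k K L
  obtain ⟨s, b, hs, -⟩ := Groth.Calg5.exists_basis_of_perfectField (k := k) (F := K)
  obtain ⟨t, c, ht, -⟩ := Groth.Calg5.exists_basis_of_perfectField (k := k) (F := L)
  have hs1 : Fintype.card s = 1 := by
    have := hx.lift_cardinalMk_eq hs
    simp [Cardinal.mk_fintype] at this
    simpa using this.symm
  have hxL : IsTranscendenceBasis k (fun _ : Unit => algebraMap K L x) :=
    IsTranscendenceBasis.algebraMap_comp (A := L) hx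
  have ht1 : Fintype.card t = 1 := by
    have := hxL.lift_cardinalMk_eq ht
    simp [Cardinal.mk_fintype] at this
    simpa using this.symm
  have hrK : Module.finrank K Ω[K⁄k] = 1 := by rw [Module.finrank_eq_card_basis b, hs1]
  have hrL : Module.finrank L Ω[L⁄k] = 1 := by rw [Module.finrank_eq_card_basis c, ht1]
  let f := KaehlerDifferential.map k k K L
  have h01 : f = 0 ∨ Function.Injective f := by
    refine or_iff_not_imp_left.mpr fun hf => ?_
    obtain ⟨w, hw⟩ : ∃ w, f w ≠ 0 := by
      by_contra h
      push Not at h
      exact hf (LinearMap.ext h)
    rw [injective_iff_map_eq_zero]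
    intro a ha
    obtain ⟨r, rfl⟩ := (finrank_eq_one_iff_of_nonzero' w (fun h => hw (by rw [h, map_zero]))).mp hrK a
    rw [map_smul, smul_eq_zero] at ha
    rw [ha.resolve_right hw, zero_smul]
  refine ⟨h01, fun hf => ?_, fun hsep => ?_⟩
  · obtain ⟨w, hw⟩ : ∃ w : Ω[K⁄k], w ≠ 0 := by
      have : Nontrivial Ω[K⁄k] := Module.nontrivial_of_finrank_eq_succ (n := 0) hrK
      exact exists_ne 0
    have : Subsingleton Ω[L⁄K] := by
      refine subsingleton_of_forall_eq 0 fun ω => ?_
      obtain ⟨ω, rfl⟩ := KaehlerDifferential.map_surjective k K L ω
      have hne : f w ≠ 0 := fun h => hw (hf (h.trans (map_zero f).symm))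
      obtain ⟨r, rfl⟩ := (finrank_eq_one_iff_of_nonzero' (f w) hne).mp hrL ω
      rw [map_smul]
      have hex := KaehlerDifferential.exact_mapBaseChange_map k K L
      rw [show KaehlerDifferential.map k K L L (f w) = 0 from
        (hex (f w)).mpr ⟨1 ⊗ₜ w, by simp [f]⟩, smul_zero]
    have : Algebra.FormallyUnramified K L := ⟨this⟩
    exact Algebra.FormallyUnramified.isSeparable K L
  · have : Algebra.FormallyEtale K L := Algebra.FormallyEtale.of_isSeparable K L
    have hb := (KaehlerDifferential.isBaseChange_of_formallyEtale k K L)
    intro a a' haa
    exact Module.FaithfullyFlat.tensorProduct_mk_injective (A := K) (B := L) Ω[K⁄k] (hb.equiv.injective (by simpa [IsBaseChange.equiv_tmul, f] using! haa))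

end Groth.Agent.S11092
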