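import Groth.Statements.S6332
import Mathlib

set_option autoImplicit false
universe u
open Fields

namespace Groth.Agent.S6332

open IntermediateField in
/-- Let L/K be a finite Galois extension of fields of characteristic p > 0 whose degree equals the prime
p (equivalently, the Galois group is cyclic of order p). Then there is an element z of L with z ^ p
- z in K which generates L over K. -/
theorem result {K L : Type u} [Field K] [Field L] [Algebra K L] (p : ℕ)
    [Fact p.Prime] [CharP K p] [FiniteDimensional K L] [IsGalois K L]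
    (hdeg : Module.finrank K L = p) :
    ∃ z : L, z ^ p - z ∈ Set.range (algebraMap K L) ∧ K⟮z⟯ = ⊤ := by
  classical
  have hp := (Fact.out : p.Prime)
  obtain ⟨θ, hθ⟩ := Algebra.trace_surjective K L 1
  have hcard : Nat.card (L ≃ₐ[K] L) = p := (IsGalois.card_aut_eq_finrank K L).trans hdeg
  haveI := isCyclic_of_prime_card hcard
  obtain ⟨σ, hσ⟩ := IsCyclic.exists_generator (α := L ≃ₐ[K] L)
  have hord : orderOf σ = p := (orderOf_eq_card_of_forall_mem_zpowers hσ).trans hcard
  have htr : ∑ i ∈ Finset.range p, (σ ^ i) θ = 1 := by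
    rw [← map_one (algebraMap K L), ← hθ, trace_eq_sum_automorphisms, ← IsCyclic.image_range_orderOf hσ,
      Finset.sum_image ((pow_injOn_Iio_orderOf (x := σ)).mono (by simp)), hord]
  have hp0 : (p : L) = 0 := by rw [← map_natCast (algebraMap K L), CharP.cast_eq_zero K p, map_zero]
  have hpow : (σ ^ p) θ = θ := by rw [← hord, pow_orderOf_eq_one]; rfl
  let z : L := ∑ i ∈ Finset.range p, (i : L) * (σ ^ i) θ
  have hz : σ z = z - 1 := by
    have h1 : σ z = ∑ i ∈ Finset.range p, (i : L) * (σ ^ (i + 1)) θ := by
      simp [z, map_sum, map_mul, pow_succ']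
    have h2 : ∑ i ∈ Finset.range p, (σ ^ (i + 1)) θ = 1 := by
      rw [← htr]
      have e := Finset.sum_range_succ' (fun i => (σ ^ i) θ) p
      rw [Finset.sum_range_succ, hpow, pow_zero] at e
      exact (add_right_cancel e).symm
    have h3 : ∑ i ∈ Finset.range p, (((i + 1 : ℕ) : L) * (σ ^ (i + 1)) θ) = z := by
      have e := Finset.sum_range_succ' (fun i => (i : L) * (σ ^ i) θ) p
      rw [Finset.sum_range_succ, hp0, zero_mul, Nat.cast_zero, zero_mul, add_zero, add_zero] at e
      exact e.symm
    rw [eq_sub_iff_add_eq, h1, ← h2, ← Finset.sum_add_distrib, ← h3]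
    exact Finset.sum_congr rfl fun i _ => by push_cast; ring
  haveI : CharP L p := charP_of_injective_algebraMap (algebraMap K L).injective p
  refine ⟨z, (IsGalois.mem_range_algebraMap_iff_fixed _).2 fun τ => ?_, ?_⟩
  · have hfix : σ (z ^ p - z) = z ^ p - z := by
      rw [map_sub, map_pow, hz, sub_pow_char, one_pow]; ring
    have hstab : Subgroup.zpowers σ ≤ MulAction.stabilizer (L ≃ₐ[K] L) (z ^ p - z) :=
      Subgroup.zpowers_le.2 hfix
    exact hstab (hσ τ)
  · haveI := IntermediateField.isSimpleOrder_of_finrank_prime K L (hdeg ▸ hp)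
    refine (IsSimpleOrder.eq_bot_or_eq_top K⟮z⟯).resolve_left fun h => ?_
    obtain ⟨c, hc⟩ := IntermediateField.mem_bot.1 (h ▸ IntermediateField.mem_adjoin_simple_self K z)
    have := σ.commutes c
    rw [hc, hz, sub_eq_self] at this
    exact one_ne_zero this

end Groth.Agent.S6332
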