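import Groth.Statements.S11093
import Groth.Agent.S6332
import Mathlib

set_option autoImplicit false
universe u
attribute [local instance] FractionRing.liftAlgebra
open CAlg

namespace Groth.Agent.S11093


open Polynomial in
theorem exists_root_of_residue {K : Type u} [Field K] (p : ℕ) [Fact p.Prime] [CharP K p]
    (a c : PowerSeries K)
    (h : c ^ p - c + a ∈ Ideal.span {(PowerSeries.X : PowerSeries K)}) :
    ∃ r : PowerSeries K, r ^ p - r + a = 0 := by
  have hchar : CharP (PowerSeries K) p :=
    charP_of_injective_ringHom (f := PowerSeries.C) PowerSeries.C_injective p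
  have hp1 : 1 < p := (Fact.out : p.Prime).one_lt
  let f : (PowerSeries K)[X] := X ^ p - (X - C a)
  have hf : f.Monic := by
    refine monic_X_pow_sub ?_
    rw [degree_X_sub_C]; exact_mod_cast hp1
  obtain ⟨r, hr, -⟩ := HenselianRing.is_henselian (I := Ideal.span {(PowerSeries.X : PowerSeries K)})
    f hf c (by
      have e : f.eval c = c ^ p - c + a := by simp [f]; ring
      rw [e]; exact h)
    (by
      have : f.derivative.eval c = -1 := by simp [f, derivative_X_pow]
      rw [this, map_neg, map_one]; exact isUnit_one.neg)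
  refine ⟨r, ?_⟩
  have : f.eval r = 0 := hr
  rw [← this]
  simp [f]; ring

theorem exists_normal_form {K : Type u} [Field K] (p : ℕ) [Fact p.Prime] [CharP K p] [PerfectField K]
    {F : Type u} [Field F] [Algebra (PowerSeries K) F] [IsFractionRing (PowerSeries K) F] :
    ∀ (n : ℕ) (a : PowerSeries K), ∃ y : F,
      (∃ b : PowerSeries K, algebraMap _ F a / algebraMap (PowerSeries K) F (PowerSeries.X ^ n) + (y ^ p - y) =
          algebraMap _ F b) ∨
      ∃ (m : ℕ) (b : PowerSeries K), 0 < m ∧ ¬ p ∣ m ∧ PowerSeries.constantCoeff b ≠ 0 ∧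
        algebraMap _ F a / algebraMap (PowerSeries K) F (PowerSeries.X ^ n) + (y ^ p - y) =
          algebraMap _ F b / algebraMap (PowerSeries K) F (PowerSeries.X ^ m) := by
  intro n
  induction n using Nat.strong_induction_on with
  | _ n ih =>
    intro a
    have hp := (Fact.out : p.Prime)
    let φ := algebraMap (PowerSeries K) F
    have ht : φ PowerSeries.X ≠ 0 :=
      (map_ne_zero_iff φ (IsFractionRing.injective _ F)).mpr PowerSeries.X_ne_zero
    by_cases hn : n = 0
    · exact ⟨0, Or.inl ⟨a, by simp [hn, hp.ne_zero]⟩⟩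
    by_cases hc : PowerSeries.constantCoeff a = 0
    · obtain ⟨a', rfl⟩ := PowerSeries.X_dvd_iff.mpr hc
      obtain ⟨y, hy⟩ := ih (n - 1) (by omega) a'
      refine ⟨y, ?_⟩
      have e : φ (PowerSeries.X * a') / φ (PowerSeries.X ^ n) = φ a' / φ (PowerSeries.X ^ (n - 1)) := by
        obtain ⟨n, rfl⟩ := Nat.exists_eq_add_of_le' (Nat.pos_of_ne_zero hn)
        simp only [add_tsub_cancel_right, map_mul, map_pow, pow_succ]
        field_simp
      rw [e]; exact hy
    by_cases hd : p ∣ n
    · obtain ⟨q, rfl⟩ := hd
      haveI : PerfectRing K p := PerfectField.toPerfectRing p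
      obtain ⟨d, hd'⟩ := surjective_frobenius K p (-PowerSeries.constantCoeff a)
      rw [frobenius_def] at hd'
      obtain ⟨a', ha'⟩ : PowerSeries.X ∣ a + PowerSeries.C (d ^ p) :=
        PowerSeries.X_dvd_iff.mpr (by simp [hd'])
      have hq : 0 < q := Nat.pos_of_ne_zero fun h => hn (by simp [h])
      obtain ⟨l, hl⟩ := Nat.exists_eq_add_of_le (show q + 1 ≤ p * q by nlinarith [hp.two_le])
      obtain ⟨y, hy⟩ := ih (q + l) (by omega) (a' - PowerSeries.C d * PowerSeries.X ^ l)
      refine ⟨φ (PowerSeries.C d) / φ (PowerSeries.X ^ q) + y, ?_⟩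
      haveI : CharP (PowerSeries K) p :=
        charP_of_injective_ringHom (f := PowerSeries.C) PowerSeries.C_injective p
      haveI : CharP F p := charP_of_injective_ringHom (f := φ) (IsFractionRing.injective _ F) p
      have e1 : φ a = φ PowerSeries.X * φ a' - φ (PowerSeries.C d) ^ p := by
        rw [← map_mul, ← ha', map_add, map_pow, map_pow]; ring
      have e2 : φ a / φ (PowerSeries.X ^ (p * q)) +
          ((φ (PowerSeries.C d) / φ (PowerSeries.X ^ q) + y) ^ p -
            (φ (PowerSeries.C d) / φ (PowerSeries.X ^ q) + y)) =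
          φ (a' - PowerSeries.C d * PowerSeries.X ^ l) / φ (PowerSeries.X ^ (q + l)) + (y ^ p - y) := by
        rw [add_pow_char, div_pow, e1, map_sub, map_mul, map_pow, map_pow, map_pow, map_pow,
          ← pow_mul, mul_comm q p, hl, pow_add, pow_add, pow_add, pow_one]
        field_simp
        ring
      rw [e2]; exact hy
    · exact ⟨0, Or.inr ⟨n, a, Nat.pos_of_ne_zero hn, hd, hc, by simp [hp.ne_zero]⟩⟩

theorem eq_range_of_pow_eq {F E : Type u} [Field F] [Field E] [Algebra F E] (p : ℕ) [Fact p.Prime]
    [CharP E p] (u : E) (h : u ^ p = u) : u ∈ Set.range (algebraMap F E) := by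
  have := (Subfield.mem_bot_iff_pow_eq_self (F := E) (p := p)).mpr h
  exact (bot_le : (⊥ : Subfield E) ≤ (algebraMap F E).fieldRange) this

/-- Second assertion: (Artin–Schreier normal form): let K be a perfect field of characteristic p > 0, A
= K[[t]] the power series ring with fraction field F, and B a Dedekind domain which is a finite
torsion-free A-algebra whose fraction field E is Galois of degree p over F and totally ramified:
some maximal ideal of B has ramification index p over A. Then there are x in E generating E over F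
and α in F with x^p − x + α = 0, where α = a / t^m for a power series a with nonzero constant term
and a positive integer m not divisible by p. -/
theorem result (p : ℕ) [Fact p.Prime] (K : Type u) [Field K]
    [CharP K p] [PerfectField K] (B : Type u) [CommRing B] [IsDedekindDomain B]
    [Algebra (PowerSeries K) B] [Module.Finite (PowerSeries K) B] [Module.IsTorsionFree (PowerSeries K) B]
    [IsGalois (FractionRing (PowerSeries K)) (FractionRing B)]
    (hdeg : Module.finrank (FractionRing (PowerSeries K)) (FractionRing B) = p)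
    (M : Ideal B) [M.IsMaximal] (hram : M.ramificationIdx (PowerSeries K) = p) :
    ∃ x : FractionRing B, ∃ m : ℕ, ∃ a : PowerSeries K,
      IntermediateField.adjoin (FractionRing (PowerSeries K)) {x} = ⊤ ∧ 0 < m ∧ ¬ p ∣ m ∧
      PowerSeries.constantCoeff a ≠ 0 ∧
      x ^ p - x + algebraMap (FractionRing (PowerSeries K)) (FractionRing B)
        (algebraMap (PowerSeries K) (FractionRing (PowerSeries K)) a /
          algebraMap (PowerSeries K) (FractionRing (PowerSeries K)) (PowerSeries.X ^ m)) = 0 := by
  let A := PowerSeries K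
  let F := FractionRing A
  let E := FractionRing B
  have hp := (Fact.out : p.Prime)
  haveI : CharP A p := charP_of_injective_ringHom (f := PowerSeries.C) PowerSeries.C_injective p
  haveI : CharP F p := charP_of_injective_ringHom (f := algebraMap A F) (IsFractionRing.injective A F) p
  haveI : CharP E p := charP_of_injective_ringHom (f := algebraMap F E) (algebraMap F E).injective p
  haveI : FiniteDimensional F E := Module.finite_of_finrank_pos (hdeg ▸ hp.pos)
  obtain ⟨z, ⟨α₀, hα₀⟩, hz⟩ := Groth.Agent.S6332.result (K := F) (L := E) p hdeg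
  obtain ⟨⟨u, s⟩, hus⟩ := IsLocalization.surj (nonZeroDivisors A) (-α₀)
  obtain ⟨n, w, hw⟩ := IsDiscreteValuationRing.eq_unit_mul_pow_irreducible
    (nonZeroDivisors.ne_zero s.2) PowerSeries.X_irreducible
  have hα : -α₀ = algebraMap A F (u * ↑w⁻¹) / algebraMap A F (PowerSeries.X ^ n) := by
    rw [eq_div_iff ((map_ne_zero_iff _ (IsFractionRing.injective A F)).mpr
      (pow_ne_zero _ PowerSeries.X_ne_zero))]
    rw [map_mul _ u, ← hus, hw, mul_assoc, ← map_mul]
    congr 2
    rw [mul_comm (w : A), mul_assoc, Units.mul_inv, mul_one]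
  obtain ⟨y, hy⟩ := exists_normal_form (K := K) p (F := F) n (u * ↑w⁻¹)
  rw [← hα] at hy
  let x : E := z - algebraMap F E y
  have hx : x ^ p - x + algebraMap F E (-α₀ + (y ^ p - y)) = 0 := by
    have e : algebraMap F E (-α₀) = -algebraMap F E α₀ := (algebraMap F E).map_neg α₀
    simp only [x, sub_pow_char, map_add, map_sub, map_pow]
    linear_combination e - hα₀
  have hgen : IntermediateField.adjoin F {x} = ⊤ := by
    apply top_le_iff.mp
    rw [← hz]
    apply IntermediateField.adjoin_simple_le_iff.mpr
    have := add_mem (IntermediateField.mem_adjoin_simple_self F x)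
      ((IntermediateField.adjoin F {x}).algebraMap_mem y)
    simpa [x] using this
  rcases hy with ⟨b, hb⟩ | ⟨m, b, hm, hpm, hb0, hb⟩
  swap
  · rw [hb] at hx
    exact ⟨x, m, b, hgen, hm, hpm, hb0, hx⟩
  exfalso
  rw [hb, ← IsScalarTower.algebraMap_apply] at hx
  -- x is integral
  obtain ⟨xb, hxb⟩ := IsIntegrallyClosed.isIntegral_iff.mp
    (show IsIntegral B x from by
      refine IsIntegral.tower_top (R := A) ⟨Polynomial.X ^ p - (Polynomial.X - Polynomial.C b), ?_, ?_⟩
      · refine Polynomial.monic_X_pow_sub ?_
        rw [Polynomial.degree_X_sub_C]; exact_mod_cast hp.one_lt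
      · simp only [Polynomial.eval₂_sub, Polynomial.eval₂_pow, Polynomial.eval₂_X, Polynomial.eval₂_C]
        rw [← hx]; ring)
  have hxb' : xb ^ p - xb + algebraMap A B b = 0 := by
    apply IsFractionRing.injective B E
    rw [map_add, map_sub, map_pow, hxb, map_zero, ← IsScalarTower.algebraMap_apply, hx]
  -- residue degree one
  haveI : Algebra.IsIntegral A B := inferInstance
  let P := M.under A
  haveI : P.IsMaximal := Ideal.IsMaximal.under A M
  haveI : M.LiesOver P := ⟨rfl⟩
  letI := Ideal.Quotient.field P
  letI := Ideal.Quotient.field M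
  have hP : P ≠ ⊥ := fun h => IsDiscreteValuationRing.not_isField A
    (Ring.isField_iff_maximal_bot.mpr (h ▸ inferInstance))
  have hdegB : Module.finrank A B = p := (IsFractionRing.finrank_eq A F B E).symm.trans hdeg
  have hsum := Ideal.sum_ramification_inertia_eq_finrank P B
  have hle : M.ramificationIdx A * M.inertiaDeg A ≤ p := by
    rw [← hdegB, ← hsum]
    exact Finset.single_le_sum (f := fun q : P.primesOver B => q.1.ramificationIdx A * q.1.inertiaDeg A)
      (fun _ _ => Nat.zero_le _) (Finset.mem_univ ⟨M, inferInstance, inferInstance⟩)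
  rw [hram] at hle
  have hf1 : M.inertiaDeg A = 1 := by
    have := Ideal.inertiaDeg_pos M A
    have : M.inertiaDeg A ≤ 1 := by nlinarith [hp.pos]
    omega
  rw [Ideal.inertiaDeg_eq_of_isFractionRing P M (A ⧸ P) (B ⧸ M)] at hf1
  obtain ⟨c, hc⟩ := (bijective_algebraMap_of_linearEquiv
    (LinearEquiv.ofFinrankEq (A ⧸ P) (B ⧸ M) (by rw [hf1, Module.finrank_self]))).2 (Ideal.Quotient.mk M xb)
  obtain ⟨c, rfl⟩ := Ideal.Quotient.mk_surjective c
  have hcM : algebraMap A B c - xb ∈ M := by
    rw [← Ideal.Quotient.eq]; exact hc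
  have hmem : c ^ p - c + b ∈ Ideal.span {(PowerSeries.X : A)} := by
    rw [← PowerSeries.maximalIdeal_eq_span_X, ← IsLocalRing.eq_maximalIdeal (I := P) inferInstance]
    rw [Ideal.mem_comap, map_add, map_sub, map_pow, ← Ideal.Quotient.eq_zero_iff_mem, map_add,
      map_sub, map_pow, Ideal.Quotient.eq.mpr hcM, ← map_pow, ← map_sub, ← map_add, hxb', map_zero]
  obtain ⟨r, hr⟩ := exists_root_of_residue p b c hmem
  have hmem' : x - algebraMap A E r ∈ Set.range (algebraMap F E) := by
    refine eq_range_of_pow_eq p _ ?_
    have hr' := congrArg (algebraMap A E) hr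
    rw [map_add, map_sub, map_pow, map_zero] at hr'
    rw [sub_pow_char]
    linear_combination hx - hr'
  obtain ⟨v, hv⟩ := hmem'
  have hxbot : x ∈ (⊥ : IntermediateField F E) := by
    refine IntermediateField.mem_bot.mpr ⟨v + algebraMap A F r, ?_⟩
    rw [map_add, hv, ← IsScalarTower.algebraMap_apply, sub_add_cancel]
  rw [IntermediateField.adjoin_simple_eq_bot_iff.mpr hxbot] at hgen
  have := hdeg
  rw [IntermediateField.bot_eq_top_iff_finrank_eq_one.mp hgen] at this
  exact hp.one_lt.ne this

end Groth.Agent.S11093
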