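import Groth.Statements.S11094
import Mathlib
import Groth.Agent.Misc6.GenericDegree

set_option autoImplicit false
universe u
open CategoryTheory CategoryTheory.Limits MonoidalCategory CartesianMonoidalCategory MonObj GrpObj AlgebraicGeometry
open AbVar

namespace Groth.Agent.S11094

open CategoryTheory CategoryTheory.Limits AlgebraicGeometry MonoidalCategory CartesianMonoidalCategory MonObj

/-- A finite étale algebra over an algebraically closed field has as many points as its dimension. -/
theorem card_algHom_eq_finrank (k A : Type u) [Field k] [IsAlgClosed k] [CommRing A] [Algebra k A]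
    [Algebra.Etale k A] [Module.Finite k A] : Nat.card (A →ₐ[k] k) = Module.finrank k A := by
  classical
  refine le_antisymm (card_algHom_le_finrank _ _ _) ?_
  obtain ⟨I, hI, Ai, _, _, e, hAi⟩ := (Algebra.Etale.iff_exists_algEquiv_prod k A).1 inferInstance
  have hb : ∀ i, Function.Bijective (algebraMap k (Ai i)) := fun i => by
    haveI := (hAi i).1
    exact IsAlgClosed.algebraMap_bijective_of_isIntegral
  let r : ∀ i, k ≃ₐ[k] Ai i := fun i => AlgEquiv.ofBijective (Algebra.ofId k (Ai i)) (hb i)
  let e' : A ≃ₐ[k] (I → k) := e.trans (AlgEquiv.piCongrRight fun i => (r i).symm)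
  let ev : I → (A →ₐ[k] k) := fun i => (Pi.evalAlgHom k (fun _ => k) i).comp e'.toAlgHom
  have hev : Function.Injective ev := fun i i' h => by
    have := congrArg (fun g : A →ₐ[k] k => g (e'.symm (Pi.single i 1))) h
    by_contra hne
    simp [ev, hne, Pi.single_apply, Ne.symm hne] at this
  haveI := Fintype.ofFinite I
  haveI : Finite (A →ₐ[k] k) := inferInstance
  rw [e'.toLinearEquiv.finrank_eq, Module.finrank_fintype_fun_eq_card, Fintype.card_eq_nat_card]
  exact Nat.card_le_card_of_injective ev hev

theorem card_sections (k : Type u) [Field k] [IsAlgClosed k] {Z : Scheme.{u}}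
    (g : Z ⟶ Spec (CommRingCat.of k)) [IsFinite g] [Etale g] (y : Spec (CommRingCat.of k)) :
    Nat.card {s : Spec (CommRingCat.of k) ⟶ Z // s ≫ g = 𝟙 _} = g.finrank y := by
  rw [Groth.Misc6.GenericDegree.finrank_eq_appTop k g y]
  haveI : IsAffine Z := isAffine_of_isAffineHom g
  let φ := (Scheme.ΓSpecIso (CommRingCat.of k)).inv ≫ g.appTop
  letI := φ.hom.toAlgebra
  have hmap : Z.isoSpec.inv ≫ g = Spec.map φ := by
    rw [Spec.map_comp, ← Scheme.isoSpec_inv_naturality, Scheme.isoSpec_Spec_inv]
  haveI : Module.Finite k Γ(Z, ⊤) := by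
    have h2 : IsFinite (Z.isoSpec.inv ≫ g) := inferInstance
    rw [hmap] at h2
    exact (IsFinite.SpecMap_iff _).1 h2
  haveI : Algebra.Etale k Γ(Z, ⊤) := by
    have h2 : Etale (Z.isoSpec.inv ≫ g) := inferInstance
    rw [hmap] at h2
    exact RingHom.etale_algebraMap.1 (HasRingHomProperty.Spec_iff.1 h2)
  rw [← card_algHom_eq_finrank k Γ(Z, ⊤)]
  refine Nat.card_congr
    { toFun := fun s =>
        { toRingHom := (Spec.preimage (s.1 ≫ Z.isoSpec.hom)).hom
          commutes' := fun r => ?_ }
      invFun := fun p => ⟨Spec.map (CommRingCat.ofHom p.toRingHom) ≫ Z.isoSpec.inv, ?_⟩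
      left_inv := fun s => Subtype.ext ?_
      right_inv := fun p => ?_ }
  · have h : φ ≫ Spec.preimage (s.1 ≫ Z.isoSpec.hom) = 𝟙 _ := by
      apply Spec.map_injective
      rw [Spec.map_comp, Spec.map_preimage, Spec.map_id, ← hmap, Category.assoc, Iso.hom_inv_id_assoc, s.2]
    exact congr($h r)
  · rw [Category.assoc, hmap, ← Spec.map_comp]
    rw [show φ ≫ CommRingCat.ofHom p.toRingHom = 𝟙 _ from CommRingCat.hom_ext (RingHom.ext p.commutes), Spec.map_id]
  · show Spec.map (Spec.preimage (s.1 ≫ Z.isoSpec.hom)) ≫ Z.isoSpec.inv = s.1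
    rw [Spec.map_preimage, Category.assoc, Iso.hom_inv_id, Category.comp_id]
  · apply AlgHom.coe_ringHom_injective
    show (Spec.preimage ((Spec.map (CommRingCat.ofHom p.toRingHom) ≫ Z.isoSpec.inv) ≫ Z.isoSpec.hom)).hom = _
    rw [Category.assoc, Iso.inv_hom_id, Category.comp_id, Spec.preimage_map]
    rfl

/-- The map of function fields. -/
noncomputable def ff {X Y : Scheme.{u}} [IrreducibleSpace X] [IrreducibleSpace Y] (f : X ⟶ Y)
    (h : f (genericPoint X) = genericPoint Y) : Y.functionField ⟶ X.functionField :=
  Y.presheaf.stalkSpecializes (specializes_of_eq h) ≫ f.stalkMap (genericPoint X)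

theorem specMap_ff {X Y : Scheme.{u}} [IrreducibleSpace X] [IrreducibleSpace Y] (f : X ⟶ Y)
    (h : f (genericPoint X) = genericPoint Y) :
    Spec.map (ff f h) ≫ Y.fromSpecStalk (genericPoint Y) = X.fromSpecStalk (genericPoint X) ≫ f := by
  rw [ff, Spec.map_comp, Category.assoc, Scheme.SpecMap_stalkSpecializes_fromSpecStalk,
    Scheme.SpecMap_stalkMap_fromSpecStalk]

theorem apply_generic {X : Scheme.{u}} [IsIntegral X] (τ τ' : X ⟶ X) (h : τ' ≫ τ = 𝟙 X) :
    τ (genericPoint X) = genericPoint X := by
  have hs : Function.Surjective τ := fun x => ⟨τ' x, by rw [← Scheme.Hom.comp_apply, h]; rfl⟩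
  have h1 := (genericPoint_spec X).image τ.continuous
  rw [Set.image_univ, hs.range_eq, closure_univ] at h1
  exact h1.eq (genericPoint_spec X)

theorem degree_eq {X Y : Scheme.{u}} [IsIntegral X] [IsIntegral Y] (f : X ⟶ Y) [IsFinite f] [Flat f]
    [LocallyOfFinitePresentation f] (e : f (genericPoint X) = genericPoint Y) (y : Y) :
    (letI := (ff f e).hom.toAlgebra; Module.finrank Y.functionField X.functionField) = f.finrank y := by
  obtain ⟨_, ⟨U, hU, rfl⟩, hηU, -⟩ :=
    Y.isBasis_affineOpens.exists_subset_of_mem_open (Set.mem_univ (genericPoint Y)) isOpen_univ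
  obtain ⟨-, z, hz⟩ := Groth.Misc6.GenericDegree.finrank_eq_residueFieldMap f hU e (e.symm ▸ hηU)
  rw [(f.isLocallyConstant_finrank).apply_eq_of_preconnectedSpace y (Scheme.Opens.ι U z),
    ← Scheme.Hom.finrank_of_isPullback _ _ f (Scheme.Opens.ι U) (isPullback_morphismRestrict f U).flip z, hz]
  letI := (ff f e).hom.toAlgebra
  letI := (f.residueFieldMap (genericPoint X)).hom.toAlgebra
  haveI : IsIso (Y.presheaf.stalkSpecializes (specializes_of_eq e)) :=
    (TopCat.Presheaf.stalkCongr Y.presheaf (Inseparable.of_eq e.symm)).isIso_hom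
  have hfield : ∀ {Z : Scheme.{u}} [IsIntegral Z] (w : Z), w = genericPoint Z →
      Function.Bijective (Z.residue w) := by
    rintro Z _ w rfl
    refine ⟨?_, Z.residue_surjective _⟩
    exact RingHom.injective (R := Z.functionField) (Z.residue (genericPoint Z)).hom
  haveI : IsIso (Y.residue (f (genericPoint X))) :=
    (ConcreteCategory.isIso_iff_bijective _).2 (hfield _ e)
  haveI : IsIso (X.residue (genericPoint X)) :=
    (ConcreteCategory.isIso_iff_bijective _).2 (hfield _ rfl)
  let i : Y.functionField ⟶ Y.residueField (f (genericPoint X)) :=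
    Y.presheaf.stalkSpecializes (specializes_of_eq e) ≫ Y.residue (f (genericPoint X))
  let jX : X.functionField ⟶ X.residueField (genericPoint X) := X.residue (genericPoint X)
  have hc : i ≫ f.residueFieldMap (genericPoint X) = ff f e ≫ jX := by
    simp only [i, jX, ff, Category.assoc, Scheme.residue_residueFieldMap]
  exact Algebra.finrank_eq_of_equiv_equiv (asIso i).commRingCatIsoToRingEquiv
    (asIso jX).commRingCatIsoToRingEquiv (congrArg CommRingCat.Hom.hom hc)


/-- Let k be an algebraically closed field, E and E′ elliptic curves over k — group schemes over Spec k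
whose underlying schemes are proper, smooth, integral and one-dimensional — and φ : E → E′ a
homomorphism which is finite, surjective and étale (a separable isogeny), sending the generic point
of E to that of E′, so that the function field of E′ maps into the function field of E. Then the
function field of E is a Galois extension of that of E′, and the number of its automorphisms over
the function field of E′ equals the number of k-valued points of E that φ sends to the unit of E′. -/
theorem result (k : Type u) [Field k] [IsAlgClosed k]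
    (E E' : Over (Spec (CommRingCat.of k)))
    [GrpObj E] [IsProper E.hom] [Smooth E.hom] [IsIntegral E.left] (hE : topologicalKrullDim E.left = 1)
    [GrpObj E'] [IsProper E'.hom] [Smooth E'.hom] [IsIntegral E'.left] (hE' : topologicalKrullDim E'.left = 1)
    (φ : E ⟶ E') [IsMonHom φ] [IsFinite φ.left] [Surjective φ.left] [Etale φ.left]
    (e : φ.left (genericPoint E.left) = genericPoint E'.left) :
    letI := ((E'.left.presheaf.stalkSpecializes (specializes_of_eq e) ≫
      φ.left.stalkMap (genericPoint E.left)).hom).toAlgebra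
    IsGalois E'.left.functionField E.left.functionField ∧
      Nat.card (E.left.functionField ≃ₐ[E'.left.functionField] E.left.functionField) =
        Nat.card {P : 𝟙_ (Over (Spec (CommRingCat.of k))) ⟶ E // P ≫ φ = η[E']} := by
  let T : Over (Spec (CommRingCat.of k)) := 𝟙_ _
  let τ : (𝟙_ (Over (Spec (CommRingCat.of k))) ⟶ E) → (E ⟶ E) := fun P => (toUnit E ≫ P) * 𝟙 E
  have hcomp : ∀ P Q, τ P ≫ τ Q = τ (Q * P) := fun P Q => by
    simp only [τ, MonObj.comp_mul, Category.comp_id, ← Category.assoc]
    rw [toUnit_unique (((toUnit E ≫ P) * 𝟙 E) ≫ toUnit E) (toUnit E), _root_.mul_assoc]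
  have hone : τ 1 = 𝟙 E := by simp only [τ, MonObj.comp_one, _root_.one_mul]
  have hgen : ∀ P, (τ P).left (genericPoint E.left) = genericPoint E.left := fun P =>
    apply_generic (τ P).left (τ P⁻¹).left (by
      rw [← Over.comp_left, hcomp, mul_inv_cancel, hone]; rfl)
  have hover : ∀ P, P ≫ φ = η[E'] → τ P ≫ φ = φ := fun P hP => by
    have h1 : P ≫ φ = 1 := by rw [hP, MonObj.one_eq_one]
    simp only [τ, MonObj.mul_comp, Category.assoc, h1, MonObj.comp_one, _root_.one_mul, Category.id_comp]
  let K' := E'.left.functionField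
  letI := ((E'.left.presheaf.stalkSpecializes (specializes_of_eq e) ≫
      φ.left.stalkMap (genericPoint E.left)).hom).toAlgebra
  let ker := {P : 𝟙_ (Over (Spec (CommRingCat.of k))) ⟶ E // P ≫ φ = η[E']}
  -- the degree
  haveI : LocallyOfFinitePresentation φ.left := inferInstance
  let s₀ : Spec (CommRingCat.of k) ⟶ E'.left := η[E'].left
  have hdeg : Module.finrank E'.left.functionField E.left.functionField = Nat.card ker := by
    refine (degree_eq φ.left e (s₀ (IsLocalRing.closedPoint k))).trans ?_
    rw [← Scheme.Hom.finrank_pullback_snd φ.left s₀ (IsLocalRing.closedPoint k), ← card_sections k]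
    have hs₀ : s₀ ≫ E'.hom = 𝟙 _ := Over.w η[E']
    refine Nat.card_congr
      { toFun := fun s => ⟨Over.homMk (s.1 ≫ pullback.fst φ.left s₀) ?_, Over.OverMorphism.ext ?_⟩
        invFun := fun P => ⟨pullback.lift P.1.left (𝟙 _) ?_, pullback.lift_snd _ _ _⟩
        left_inv := fun s => Subtype.ext (pullback.hom_ext (pullback.lift_fst _ _ _) ((pullback.lift_snd _ _ _).trans s.2.symm))
        right_inv := fun P => Subtype.ext (Over.OverMorphism.ext (pullback.lift_fst _ _ _)) }
    · show (s.1 ≫ pullback.fst φ.left s₀) ≫ E.hom = 𝟙 _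
      rw [← Over.w φ, Category.assoc, pullback.condition_assoc, hs₀, Category.comp_id, s.2]
    · show (s.1 ≫ pullback.fst φ.left s₀) ≫ φ.left = s₀
      rw [Category.assoc, pullback.condition, reassoc_of% s.2]
    · exact (congrArg CommaMorphism.left P.2).trans (Category.id_comp _).symm
  haveI : Nonempty ker := ⟨⟨η[E], IsMonHom.one_hom φ⟩⟩
  haveI : FiniteDimensional E'.left.functionField E.left.functionField := by
    refine Module.finite_of_finrank_pos ?_
    rw [show Module.finrank E'.left.functionField E.left.functionField = φ.left.finrank (genericPoint E'.left) from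
      degree_eq φ.left e _]
    exact (Scheme.Hom.one_le_finrank_iff_surjective φ.left).2 ‹_› _
  -- automorphisms
  let g : ker → (E.left.functionField →ₐ[E'.left.functionField] E.left.functionField) := fun P =>
    { toRingHom := (ff (τ P.1).left (hgen P.1)).hom
      commutes' := fun r => by
        have h : ff φ.left e ≫ ff (τ P.1).left (hgen P.1) = ff φ.left e := by
          apply Spec.map_injective
          rw [← cancel_mono (E'.left.fromSpecStalk _), Spec.map_comp, Category.assoc, specMap_ff,
            reassoc_of% specMap_ff (τ P.1).left (hgen P.1), ← Over.comp_left, hover P.1 P.2]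
        exact congr($h r) }
  have hg : Function.Injective g := fun P Q h => by
    have h' : ff (τ P.1).left (hgen P.1) = ff (τ Q.1).left (hgen Q.1) :=
      CommRingCat.hom_ext (RingHom.ext fun x => DFunLike.congr_fun h x)
    haveI : IsDominant (E.left.fromSpecStalk (genericPoint E.left)) := ⟨fun x => by
      refine closure_mono ?_ ((genericPoint_spec E.left).specializes (Set.mem_univ x)).mem_closure
      exact Set.singleton_subset_iff.2 ⟨_, Scheme.fromSpecStalk_closedPoint⟩⟩
    haveI : IsSeparated E.hom := inferInstance
    have ht : τ P.1 = τ Q.1 := by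
      refine Over.OverMorphism.ext (ext_of_isDominant_of_isSeparated E.hom
        ((Over.w (τ P.1)).trans (Over.w (τ Q.1)).symm) (E.left.fromSpecStalk (genericPoint E.left)) ?_)
      rw [← specMap_ff (τ P.1).left (hgen P.1), ← specMap_ff (τ Q.1).left (hgen Q.1), h']
    have h1 : ∀ R : 𝟙_ (Over (Spec (CommRingCat.of k))) ⟶ E, η[E] ≫ τ R = R := fun R => by
      simp only [τ, MonObj.comp_mul, Category.comp_id, ← Category.assoc]
      rw [toUnit_unique (η[E] ≫ toUnit E) (𝟙 _), Category.id_comp, MonObj.one_eq_one, _root_.mul_one]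
    exact Subtype.ext ((h1 P.1).symm.trans ((congrArg (η[E] ≫ ·) ht).trans (h1 Q.1)))
  have hle : Nat.card ker ≤ Nat.card (E.left.functionField ≃ₐ[E'.left.functionField] E.left.functionField) := by
    rw [Nat.card_congr (Algebra.IsAlgebraic.algEquivEquivAlgHom E'.left.functionField E.left.functionField).toEquiv]
    exact Nat.card_le_card_of_injective g hg
  have hge : Nat.card (E.left.functionField ≃ₐ[E'.left.functionField] E.left.functionField) ≤
      Module.finrank E'.left.functionField E.left.functionField := by
    rw [Nat.card_congr (Algebra.IsAlgebraic.algEquivEquivAlgHom E'.left.functionField E.left.functionField).toEquiv]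
    exact card_algHom_le_finrank _ _ _
  have heq : Nat.card (E.left.functionField ≃ₐ[E'.left.functionField] E.left.functionField) = Nat.card ker :=
    le_antisymm (hdeg ▸ hge) hle
  exact ⟨IsGalois.of_card_aut_eq_finrank E'.left.functionField E.left.functionField (heq.trans hdeg.symm), heq⟩

end Groth.Agent.S11094
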