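import Groth.Statements.S11095
import Groth.Agent.VarietyBC.TensorGeom

set_option autoImplicit false
universe u
open CAlg

namespace Groth.Agent.S11095

/-- Let K₀ be a perfect field, K an algebraic extension of K₀ and F₀ a field extension of K₀ such that
K₀ is algebraically closed in F₀. Then the K₀-algebra F₀ ⊗ K is a field; consequently F₀ and K,
embedded in it by x ↦ x ⊗ 1 and y ↦ 1 ⊗ y, are linearly disjoint over K₀. -/
theorem result (K₀ F₀ K : Type u)
    [Field K₀] [PerfectField K₀] [Field F₀] [Algebra K₀ F₀] [Field K] [Algebra K₀ K]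
    [Algebra.IsAlgebraic K₀ K] (h : algebraicClosure K₀ F₀ = ⊥) :
    IsField (TensorProduct K₀ F₀ K) := by
  have : Algebra.IsSeparable K₀ K := Algebra.IsAlgebraic.isSeparable_of_perfectField
  refine Groth.VarietyBC.isField_tensor_sepClosure (fun x hx => ?_) K
  have : x ∈ algebraicClosure K₀ F₀ := mem_algebraicClosure_iff.mpr hx.isIntegral.isAlgebraic
  rwa [h, IntermediateField.mem_bot] at this

end Groth.Agent.S11095
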