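import Groth.Statements.S11096
-- import your own Groth.Agent.* helpers here

set_option autoImplicit false
universe u
open Neron

namespace Groth.Agent.S11096

/-- Let a Weierstrass equation have coefficients in a commutative ring R and let I be an ideal with a₃,
a₄, a₆ ∈ I. If the discriminant Δ does not lie in I ^ 2, then a₆ does not lie in I ^ 2 and b₂ does
not lie in I. (For a discrete valuation ring with maximal ideal (π): if π divides a₃, a₄, a₆ and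
v(Δ) = 1, then v(a₆) = 1 and π does not divide b₂.) -/
theorem result {R : Type u} [CommRing R] (W : WeierstrassCurve R)
    (I : Ideal R) (h3 : W.a₃ ∈ I) (h4 : W.a₄ ∈ I) (h6 : W.a₆ ∈ I) (hΔ : W.Δ ∉ I ^ 2) :
    W.a₆ ∉ I ^ 2 ∧ W.b₂ ∉ I := by
  have key : ∀ x y : R, x ∈ I → y ∈ I → x * y ∈ I ^ 2 := fun x y hx hy => by
    rw [sq]; exact Ideal.mul_mem_mul hx hy
  have hb6 : W.b₆ - 4 * W.a₆ ∈ I ^ 2 := by
    rw [WeierstrassCurve.b₆]; ring_nf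
    simpa [sq] using key _ _ h3 h3
  have hb4 : W.b₄ ∈ I := by
    rw [WeierstrassCurve.b₄]; exact add_mem (I.mul_mem_left _ h4) (I.mul_mem_left _ h3)
  have hb6' : W.b₆ ∈ I := by
    rw [WeierstrassCurve.b₆]
    exact add_mem (by rw [sq]; exact I.mul_mem_left _ h3) (I.mul_mem_left _ h6)
  have hb8 : W.b₈ ∈ I := by
    rw [WeierstrassCurve.b₈, show W.a₁ ^ 2 * W.a₆ + 4 * W.a₂ * W.a₆ - W.a₁ * W.a₃ * W.a₄ + W.a₂ * W.a₃ ^ 2 -
      W.a₄ ^ 2 = (W.a₁ ^ 2 + 4 * W.a₂) * W.a₆ + (W.a₂ * W.a₃ - W.a₁ * W.a₄) * W.a₃ - W.a₄ * W.a₄ by ring]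
    exact sub_mem (add_mem (I.mul_mem_left _ h6) (I.mul_mem_left _ h3)) (I.mul_mem_left _ h4)
  have hD : W.Δ - (-W.b₂ ^ 2 * W.b₈) ∈ I ^ 2 := by
    have := add_mem (add_mem (Ideal.mul_mem_left (I ^ 2) (-8 * W.b₄) (key _ _ hb4 hb4))
      (Ideal.mul_mem_left (I ^ 2) (-27 : R) (key _ _ hb6' hb6')))
      (Ideal.mul_mem_left (I ^ 2) (9 * W.b₂) (key _ _ hb4 hb6'))
    convert this using 1; rw [WeierstrassCurve.Δ]; ring
  refine ⟨fun h => hΔ ?_, fun h => hΔ ?_⟩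
  · have : W.b₈ ∈ I ^ 2 := by
      rw [WeierstrassCurve.b₈, show W.a₁ ^ 2 * W.a₆ + 4 * W.a₂ * W.a₆ - W.a₁ * W.a₃ * W.a₄ + W.a₂ * W.a₃ ^ 2 -
        W.a₄ ^ 2 = (W.a₁ ^ 2 + 4 * W.a₂) * W.a₆ + (-W.a₁) * (W.a₃ * W.a₄) + W.a₂ * (W.a₃ * W.a₃) +
        (-1) * (W.a₄ * W.a₄) by ring]
      exact add_mem (add_mem (add_mem (Ideal.mul_mem_left _ _ h) (Ideal.mul_mem_left _ _ (key _ _ h3 h4)))
        (Ideal.mul_mem_left _ _ (key _ _ h3 h3))) (Ideal.mul_mem_left _ _ (key _ _ h4 h4))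
    have := add_mem hD (Ideal.mul_mem_left (I ^ 2) (-W.b₂ ^ 2) this)
    convert this using 1; ring
  · have := Ideal.mul_mem_left (I ^ 2) (-W.b₈) (key _ _ h h)
    have := add_mem hD this
    convert this using 1; ring

end Groth.Agent.S11096
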