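import Groth.Statements.S11097
import Groth.Agent.NeronArea.Weierstrass
import Mathlib.Tactic


set_option autoImplicit false
universe u
open Polynomial
open Neron

namespace Groth.Agent.S11097

/-- Let R be a discrete valuation ring with maximal ideal m and let y² + a₁xy + a₃y = x³ + a₂x² + a₄x +
a₆ be a Weierstrass equation with coefficients in R such that a₃, a₄, a₆ ∈ m and a₆ ∉ m². Then the
affine scheme defined by the equation over R is regular at the point π = x = y = 0 of its special
fibre: the localization of the coordinate ring at a maximal ideal containing the image of m and the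
classes of x and y is a regular local ring. (The published statement asserts regularity of the
projective Weierstrass scheme; this row states it at the point π = x = y = 0 of the special fibre.) -/
theorem result (R : Type u) [CommRing R] [IsDomain R]
    [IsDiscreteValuationRing R] (W : WeierstrassCurve.Affine R)
    (h3 : W.a₃ ∈ IsLocalRing.maximalIdeal R) (h4 : W.a₄ ∈ IsLocalRing.maximalIdeal R)
    (h6 : W.a₆ ∈ IsLocalRing.maximalIdeal R) (h6' : W.a₆ ∉ IsLocalRing.maximalIdeal R ^ 2)
    (P : Ideal W.CoordinateRing) [P.IsMaximal]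
    (hP : ∀ r ∈ IsLocalRing.maximalIdeal R, algebraMap R W.CoordinateRing r ∈ P)
    (hx : WeierstrassCurve.Affine.CoordinateRing.mk W (C X) ∈ P)
    (hy : WeierstrassCurve.Affine.CoordinateRing.mk W X ∈ P) :
    IsRegularLocalRing (Localization.AtPrime P) := by
  have hirr : Irreducible W.a₆ := by
    obtain ⟨ϖ, hϖ⟩ := IsDiscreteValuationRing.exists_irreducible R
    rw [hϖ.maximalIdeal_eq] at h6 h6'
    obtain ⟨v, hv⟩ := Ideal.mem_span_singleton.1 h6
    have hvu : IsUnit v := by
      by_contra hnu
      have : v ∈ IsLocalRing.maximalIdeal R := (IsLocalRing.mem_maximalIdeal _).2 hnu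
      rw [hϖ.maximalIdeal_eq] at this
      exact h6' (by rw [hv, sq]; exact Ideal.mul_mem_mul (Ideal.mem_span_singleton_self ϖ) this)
    rw [hv]; exact (irreducible_mul_isUnit hvu).2 hϖ
  set x := WeierstrassCurve.Affine.CoordinateRing.mk W (C X) with hxdef
  set y := WeierstrassCurve.Affine.CoordinateRing.mk W X with hydef
  let ι := algebraMap R W.CoordinateRing
  have halg : ∀ r : R, ι r = WeierstrassCurve.Affine.CoordinateRing.mk W (C (C r)) := fun r => rfl
  have heq : y ^ 2 + (ι W.a₁ * x + ι W.a₃) * y -
      (x ^ 3 + ι W.a₂ * x ^ 2 + ι W.a₄ * x + ι W.a₆) = 0 := by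
    have : WeierstrassCurve.Affine.CoordinateRing.mk W W.polynomial = 0 := AdjoinRoot.mk_self
    rw [← this]
    simp [WeierstrassCurve.Affine.polynomial, Cubic.toPoly, halg, hxdef, hydef]
  have hI : P = Ideal.span {x, y} := by
    refine le_antisymm (fun z hz => ?_) (Ideal.span_le.2 (Set.insert_subset hx (Set.singleton_subset_iff.2 hy)))
    have hxm : x ∈ Ideal.span {x, y} := Ideal.subset_span (Set.mem_insert _ _)
    have hym : y ∈ Ideal.span {x, y} := Ideal.subset_span (Set.mem_insert_of_mem _ rfl)
    obtain ⟨p, q, rfl⟩ := WeierstrassCurve.Affine.CoordinateRing.exists_smul_basis_eq z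
    change p • (1 : W.CoordinateRing) + q • y ∈ P at hz
    show p • (1 : W.CoordinateRing) + q • y ∈ Ideal.span {x, y}
    have hp : p • (1 : W.CoordinateRing) - ι (p.coeff 0) ∈ Ideal.span {x, y} := by
      rw [WeierstrassCurve.Affine.CoordinateRing.smul, mul_one]
      nth_rewrite 1 [← X_mul_divX_add p]
      simp only [map_add, map_mul, halg, add_sub_cancel_right]
      exact Ideal.mul_mem_right _ _ hxm
    have hq : q • WeierstrassCurve.Affine.CoordinateRing.mk W X ∈ Ideal.span {x, y} := by
      rw [WeierstrassCurve.Affine.CoordinateRing.smul]; exact Ideal.mul_mem_left _ _ hym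
    have hrest : p • (1 : W.CoordinateRing) + q • y - ι (p.coeff 0) ∈ Ideal.span {x, y} := by
      rw [add_sub_right_comm]; exact add_mem hp hq
    have hle : Ideal.span {x, y} ≤ P :=
      Ideal.span_le.2 (Set.insert_subset hx (Set.singleton_subset_iff.2 hy))
    have hP0 : ι (p.coeff 0) ∈ P := by
      have := sub_mem hz (hle hrest)
      rwa [sub_sub_cancel] at this
    have hm : p.coeff 0 ∈ IsLocalRing.maximalIdeal R := by
      by_contra h
      have hu : IsUnit (p.coeff 0) := by
        simpa [IsLocalRing.mem_maximalIdeal] using h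
      exact Ideal.IsPrime.ne_top inferInstance (Ideal.eq_top_of_isUnit_mem _ hP0 (hu.map ι))
    rw [hirr.maximalIdeal_eq] at hm
    obtain ⟨r, hr⟩ := Ideal.mem_span_singleton.1 hm
    have h6m : ι W.a₆ ∈ Ideal.span {x, y} := by
      have h : ι W.a₆ = (y + ι W.a₁ * x + ι W.a₃) * y - (x ^ 2 + ι W.a₂ * x + ι W.a₄) * x := by
        linear_combination (-1 : W.CoordinateRing) * heq
      rw [h]
      exact sub_mem (Ideal.mul_mem_left _ _ hym) (Ideal.mul_mem_left _ _ hxm)
    have : ι (p.coeff 0) ∈ Ideal.span {x, y} := by rw [hr, map_mul]; exact Ideal.mul_mem_right _ _ h6m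
    have := add_mem hrest this
    rwa [sub_add_cancel] at this
  have : IsNoetherianRing W.CoordinateRing :=
    inferInstanceAs (IsNoetherianRing (R[X][X] ⧸ Ideal.span {W.polynomial}))
  refine Groth.NeronArea.Weierstrass.isRegularLocalRing_of_span_pair P
    (algebraMap _ _ x) (algebraMap _ _ y) ?_ ?_
  · rw [← Localization.AtPrime.map_eq_maximalIdeal]
    conv_lhs => arg 2; rw [hI]
    rw [Ideal.map_span, Set.image_pair]
  · refine Groth.NeronArea.Weierstrass.two_le_ringKrullDim W P hirr (hP _ h6) fun h => ?_
    have : (X : R[X]) ∈ P.comap (algebraMap R[X] W.CoordinateRing) := hx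
    rw [h, Ideal.mem_span_singleton, Polynomial.C_dvd_iff_dvd_coeff] at this
    have := this 1
    rw [coeff_X_one] at this
    exact hirr.not_isUnit (isUnit_of_dvd_one this)

end Groth.Agent.S11097
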