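import Groth.Statements.S11099
import Groth.Agent.NeronArea.WeilExtensionBase
import Groth.Agent.S4440


set_option autoImplicit false
universe u
open CategoryTheory CategoryTheory.Limits AlgebraicGeometry
open Neron

namespace Groth.Agent.S11099

/-- Let R be a Dedekind domain, X → Spec R smooth, G → Spec R a proper group scheme, U ⊆ X an open
subscheme which is dense in every fibre of X → Spec R, and f : U → G a morphism over Spec R (a
rational map X ⇢ G over R whose domain is dense in all fibres). Then f extends uniquely to a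
morphism X → G over Spec R: a rational map from a smooth R-scheme to a proper R-group scheme,
defined densely on every fibre, is a morphism. -/
theorem result {R : Type u} [CommRing R] [IsDedekindDomain R] {X G : Scheme.{u}}
    (pX : X ⟶ Spec (CommRingCat.of R)) (pG : G ⟶ Spec (CommRingCat.of R)) [Smooth pX]
    [GrpObj (Over.mk pG)] [IsProper pG]
    (U : X.Opens) (hdense : ∀ x : X, x ∈ closure ((U : Set X) ∩ {y | pX.base y = pX.base x}))
    (f : (U : Scheme.{u}) ⟶ G) (hf : f ≫ pG = U.ι ≫ pX) :
    ∃! g : X ⟶ G, g ≫ pG = pX ∧ U.ι ≫ g = f := by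
  haveI := Groth.NeronArea.Weil.isLocallyNoetherian_of_smooth pX
  have hX := Groth.NeronArea.Weil.isRegularLocalRing_of_smooth_dedekind (R := R) pX
  haveI := Groth.NeronArea.Weil.isReduced_of_regular hX
  have hU : Dense (U : Set X) := fun x => closure_mono Set.inter_subset_left (hdense x)
  obtain ⟨V, hUV, g, hg1, hg2, hV⟩ := Groth.Agent.S4440.result pG pX (fun y _ => hX y) U hU f hf
  obtain ⟨g', ⟨hg'1, hg'2⟩, -⟩ := Groth.NeronArea.Weil.existsUnique_extension pX pG hX V g hg1
    (fun x => closure_mono (Set.inter_subset_inter_left _ (fun z hz => hUV hz)) (hdense x)) hV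
  haveI : IsDominant U.ι := ⟨by rw [DenseRange, Scheme.Opens.range_ι]; exact hU⟩
  refine ⟨g', ⟨hg'1, ?_⟩, fun b hb => ?_⟩
  · rw [← hg2, ← hg'2, Scheme.homOfLE_ι_assoc]
  · refine ext_of_isDominant_of_isSeparated pG (hb.1.trans hg'1.symm) U.ι ?_
    rw [hb.2, ← hg2, ← hg'2, Scheme.homOfLE_ι_assoc]

end Groth.Agent.S11099
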