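import Groth.Statements.S11100
import Groth.Agent.NeronArea.SectionSmooth
import Mathlib.AlgebraicGeometry.Noetherian


set_option autoImplicit false
universe u
open CategoryTheory AlgebraicGeometry
open Neron

namespace Groth.Agent.S11100

/-- Let R be a Dedekind domain and p : X → Spec R flat and locally of finite presentation with X regular
(all local rings regular). Then every section s of p factors through the smooth locus of p: for
every point t of Spec R, p is smooth at s(t). (The published statement is for regular arithmetic
surfaces over a Dedekind domain with perfect residue fields; this row assumes only that X is flat,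
locally of finite presentation and regular.) -/
theorem result {R : Type u} [CommRing R] [IsDedekindDomain R]
    {X : Scheme.{u}} (p : X ⟶ Spec (CommRingCat.of R)) [Flat p] [LocallyOfFinitePresentation p]
    (hreg : ∀ x : X, IsRegularLocalRing (X.presheaf.stalk x))
    (s : Spec (CommRingCat.of R) ⟶ X) (hs : s ≫ p = 𝟙 _) (t : Spec (CommRingCat.of R)) :
    s.base t ∈ p.smoothLocus := by
  haveI := hreg
  let x := s.base t
  haveI hlfp : LocallyOfFinitePresentation p := inferInstance
  refine Groth.NeronArea.mem_smoothLocus_of_section p s hs _ ⟨t, rfl⟩ (Flat.stalkMap p _) ?_ ?_
  · let q : PrimeSpectrum R := p.base (s.base t)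
    letI : Algebra R ((Spec (CommRingCat.of R)).presheaf.stalk q) := StructureSheaf.stalkAlgebra R q
    haveI : IsLocalization.AtPrime ((Spec (CommRingCat.of R)).presheaf.stalk q) q.asIdeal :=
      StructureSheaf.IsLocalization.to_stalk R q
    let e : Localization.AtPrime q.asIdeal ≃+* (Spec (CommRingCat.of R)).presheaf.stalk q :=
      (IsLocalization.algEquiv q.asIdeal.primeCompl _ _).toRingEquiv
    haveI : IsPrincipalIdealRing (Localization.AtPrime q.asIdeal) := by
      by_cases hq : q.asIdeal = ⊥
      · haveI : IsFractionRing R (Localization.AtPrime q.asIdeal) := by
          have h : IsLocalization q.asIdeal.primeCompl (Localization.AtPrime q.asIdeal) := inferInstance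
          have h2 : q.asIdeal.primeCompl = nonZeroDivisors R := by
            ext r; simp [Ideal.primeCompl, hq]
          show IsLocalization (nonZeroDivisors R) _
          rw [← h2]; exact h
        letI := IsFractionRing.toField R (K := Localization.AtPrime q.asIdeal)
        exact inferInstance
      · haveI := IsLocalization.AtPrime.isDiscreteValuationRing_of_dedekind_domain R hq (Localization.AtPrime q.asIdeal)
        infer_instance
    haveI : IsPrincipalIdealRing ((Spec (CommRingCat.of R)).presheaf.stalk q) :=
      IsPrincipalIdealRing.of_surjective e.toRingHom e.surjective
    exact IsPrincipalIdealRing.principal _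
  · intro h
    exact Submodule.eq_bot_of_le_smul_of_le_jacobson_bot (IsLocalRing.maximalIdeal _) _
      (IsNoetherian.noetherian _) (by rw [smul_eq_mul, ← pow_two, h])
      (IsLocalRing.maximalIdeal_le_jacobson _)

end Groth.Agent.S11100
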