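import Groth.Statements.S11103
import Groth.Agent.NeronArea.Mapping
import Mathlib


set_option autoImplicit false
universe u
open CategoryTheory CategoryTheory.Limits AlgebraicGeometry
open Neron

namespace Groth.Agent.S11103

/-- Let R be a Dedekind domain with fraction field K, let R' be a Dedekind domain finite étale over R
(the integral closure of R in a finite unramified extension K' of K), and let N be a Néron model
over Spec R of its generic fibre N_K. Then the base change N' = N ×_R R' is a Néron model over Spec
R' of its generic fibre N'_{K'}: it is smooth, separated and of finite type over Spec R', and every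
K'-morphism from the generic fibre of a smooth R'-scheme to N'_{K'} extends uniquely to an
R'-morphism into N'. (The published statement concerns the Néron model of an elliptic curve with the
mapping property for rational maps; this row allows any N and tests the mapping property on
morphisms from smooth schemes. The property generally fails for ramified extensions.) -/
theorem result (R R' : Type u) [CommRing R] [IsDedekindDomain R]
    [CommRing R'] [IsDedekindDomain R'] [Algebra R R'] [Module.Finite R R'] [Algebra.Etale R R']
    (N : Over (Spec (CommRingCat.of R)))
    (hN : Neron.IsNeronModelOf R N ((Neron.genericFibre R).obj N) (Iso.refl _)) :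
    Neron.IsNeronModelOf R'
      ((Over.pullback (Spec.map (CommRingCat.ofHom (algebraMap R R')))).obj N)
      ((Neron.genericFibre R').obj ((Over.pullback (Spec.map (CommRingCat.ofHom (algebraMap R R')))).obj N))
      (Iso.refl _) := by
  obtain ⟨hsm, hsep, hlft, hqc, hmap⟩ := hN
  refine ⟨inferInstanceAs (Smooth (pullback.snd _ _)), inferInstanceAs (IsSeparated (pullback.snd _ _)),
    inferInstanceAs (LocallyOfFiniteType (pullback.snd _ _)), inferInstanceAs (QuasiCompact (pullback.snd _ _)),
    fun Y hY => ?_⟩
  let g : Spec (CommRingCat.of R') ⟶ Spec (CommRingCat.of R) := Spec.map (CommRingCat.ofHom (algebraMap R R'))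
  haveI : FaithfulSMul R R' := by
    refine (faithfulSMul_iff_algebraMap_injective R R').2 ((RingHom.injective_iff_ker_eq_bot _).2
      ((Submodule.eq_bot_iff _).2 fun r hr => ?_))
    have h : r • (1 : R') = 0 := by rw [← Algebra.algebraMap_eq_smul_one]; exact hr
    exact (smul_eq_zero.1 h).resolve_right one_ne_zero
  haveI : Algebra.IsIntegral R R' := inferInstance
  haveI : Algebra.IsAlgebraic R R' := inferInstance
  let ψ : FractionRing R →+* FractionRing R' :=
    IsFractionRing.lift (g := (algebraMap R' (FractionRing R')).comp (algebraMap R R'))
      ((IsFractionRing.injective R' (FractionRing R')).comp (FaithfulSMul.algebraMap_injective R R'))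
  letI : Algebra (FractionRing R) (FractionRing R') := ψ.toAlgebra
  haveI : IsScalarTower R (FractionRing R) (FractionRing R') := IsScalarTower.of_algebraMap_eq fun r => by
    show _ = ψ (algebraMap R (FractionRing R) r)
    rw [IsFractionRing.lift_algebraMap]
    rfl
  haveI : Algebra.IsPushout R R' (FractionRing R) (FractionRing R') :=
    Algebra.isPushout_of_isLocalization (nonZeroDivisors R) _ _ _
  have hpb := isPullback_SpecMap_of_isPushout _ _ _ _
    (CommRingCat.isPushout_of_isPushout R R' (FractionRing R) (FractionRing R'))
  have hsq : IsPullback (Spec.map (CommRingCat.ofHom (algebraMap (FractionRing R) (FractionRing R'))))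
      (Neron.genPt R') (Neron.genPt R) g := hpb.flip
  haveI : Smooth g := (HasRingHomProperty.Spec_iff (P := @Smooth)).2 (RingHom.smooth_algebraMap.2 inferInstance)
  have h := (Groth.NeronArea.bijective_baseChange_iff (Neron.genPt R) g (Neron.genPt R') hsq Y N).2 (by
    have := hmap ((Over.map g).obj Y) (inferInstanceAs (Smooth (Y.hom ≫ g)))
    simpa only [Iso.refl_hom, Category.comp_id] using this)
  simp only [Iso.refl_hom]
  have e : ∀ f : Y ⟶ (Over.pullback g).obj N, (Neron.genericFibre R').map f ≫ 𝟙 _ = (Over.pullback (Neron.genPt R')).map f :=
    fun f => Category.comp_id _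
  exact Eq.mpr (congrArg Function.Bijective (funext e)) h

end Groth.Agent.S11103
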