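import Groth.Statements.S11104
import Groth.Agent.NeronArea.RegularHypersurface
import Groth.Agent.S11097
import Mathlib.Tactic
import Mathlib.Algebra.TrivSqZeroExt.Basic
import Mathlib.RingTheory.LocalRing.ResidueField.Ideal


set_option autoImplicit false
universe u
open Neron

open Polynomial

namespace Groth.Agent.S11104

/-- Let R be a discrete valuation ring with maximal ideal m and y² + a₁xy + a₃y = x³ + a₂x² + a₄x + a₆ a
Weierstrass equation over R with nonzero discriminant (an elliptic curve over the fraction field)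
such that a₃, a₄, a₆ ∈ m and a₆ ∉ m². Then the affine scheme over R defined by the equation is
regular: every localization of its coordinate ring at a prime ideal is a regular local ring. (The
published statement asserts regularity of the projective Weierstrass scheme in P²_R; this row states
it for the affine part.) -/
theorem result (R : Type u) [CommRing R] [IsDomain R]
    [IsDiscreteValuationRing R] (W : WeierstrassCurve.Affine R) (hΔ : W.Δ ≠ 0)
    (h3 : W.a₃ ∈ IsLocalRing.maximalIdeal R) (h4 : W.a₄ ∈ IsLocalRing.maximalIdeal R)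
    (h6 : W.a₆ ∈ IsLocalRing.maximalIdeal R) (h6' : W.a₆ ∉ IsLocalRing.maximalIdeal R ^ 2)
    (P : Ideal W.CoordinateRing) [P.IsPrime] :
    IsRegularLocalRing (Localization.AtPrime P) := by
  set F : R[X][X] := W.polynomial with hFdef
  set M : Ideal R[X][X] := P.comap (Ideal.Quotient.mk (Ideal.span {F})) with hMdef
  have : M.IsPrime := Ideal.IsPrime.comap (hK := ‹P.IsPrime›) _
  have : IsRegularRing R := isRegularRing_iff.mpr fun p hp => by
    by_cases h : p = ⊥
    · subst h; infer_instance
    · have := IsLocalization.AtPrime.isDiscreteValuationRing_of_dedekind_domain R h (Localization.AtPrime p)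
      infer_instance
  by_cases hsing : algebraMap R[X][X] (Localization.AtPrime M) F ∈
      IsLocalRing.maximalIdeal (Localization.AtPrime M) ^ 2
  swap
  · exact @Groth.NeronArea.isRegularLocalRing_atPrime_of_quotient _ _ _ F P ‹_› hsing
  let L := P.ResidueField
  let φ : R[X][X] →+* L := (algebraMap W.CoordinateRing L).comp (WeierstrassCurve.Affine.CoordinateRing.mk W)
  let c : R →+* L := φ.comp (C.comp C)
  set x₀ := φ (C X) with hx₀
  set y₀ := φ X with hy₀
  have key : ∀ a b : L, F.eval₂ (eval₂RingHom ((TrivSqZeroExt.inlHom L L).comp c)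
      (TrivSqZeroExt.inl x₀ + TrivSqZeroExt.inr a)) (TrivSqZeroExt.inl y₀ + TrivSqZeroExt.inr b) = 0 := by
    intro a b
    let ψ : R[X][X] →+* TrivSqZeroExt L L := eval₂RingHom (eval₂RingHom ((TrivSqZeroExt.inlHom L L).comp c)
      (TrivSqZeroExt.inl x₀ + TrivSqZeroExt.inr a)) (TrivSqZeroExt.inl y₀ + TrivSqZeroExt.inr b)
    have hfst : (TrivSqZeroExt.fstHom L L L).toRingHom.comp ψ = φ :=
      Polynomial.ringHom_ext' (Polynomial.ringHom_ext (fun r => by simp [ψ, c]) (by simp [ψ, hx₀]))
        (by simp [ψ, hy₀])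
    have hker : ∀ z, φ z = 0 ↔ z ∈ M := fun z => Ideal.algebraMap_residueField_eq_zero
    have hunit : ∀ s : M.primeCompl, IsUnit (ψ s) := fun s => by
      rw [TrivSqZeroExt.isUnit_iff_isUnit_fst, isUnit_iff_ne_zero]
      intro h
      exact s.2 ((hker s).1 ((RingHom.congr_fun hfst s).symm.trans h))
    let Ψ : Localization.AtPrime M →+* TrivSqZeroExt L L := IsLocalization.lift hunit
    have hmax : ∀ z ∈ IsLocalRing.maximalIdeal (Localization.AtPrime M), (Ψ z).fst = 0 := by
      intro z hz
      by_contra h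
      obtain ⟨⟨m, s⟩, hms⟩ := IsLocalization.surj M.primeCompl z
      have h1 := congrArg (fun t => (Ψ t).fst) hms
      simp only [map_mul, TrivSqZeroExt.fst_mul, Ψ, IsLocalization.lift_eq] at h1
      have hm : m ∈ M := by
        rw [← IsLocalization.AtPrime.to_map_mem_maximal_iff (Localization.AtPrime M) M m, ← hms]
        exact Ideal.mul_mem_right _ _ hz
      rw [show (ψ m).fst = 0 from (RingHom.congr_fun hfst m).trans ((hker m).2 hm)] at h1
      exact (mul_eq_zero.1 h1).elim h fun h' =>
        s.2 ((hker s).1 ((RingHom.congr_fun hfst s).symm.trans h'))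
    have hsq : IsLocalRing.maximalIdeal (Localization.AtPrime M) ^ 2 ≤ RingHom.ker Ψ := by
      rw [sq, Ideal.mul_le]
      intro u hu v hv
      rw [RingHom.mem_ker, map_mul]
      ext <;> simp [hmax u hu, hmax v hv]
    have := hsq hsing
    rw [RingHom.mem_ker] at this
    exact (IsLocalization.lift_eq hunit F).symm.trans this
  have hev : ∀ a b : L, y₀ ^ 2 + c W.a₁ * x₀ * y₀ + c W.a₃ * y₀ -
      (x₀ ^ 3 + c W.a₂ * x₀ ^ 2 + c W.a₄ * x₀ + c W.a₆) = 0 ∧
      (2 * y₀ + c W.a₁ * x₀ + c W.a₃) * b +
        (c W.a₁ * y₀ - (3 * x₀ ^ 2 + 2 * c W.a₂ * x₀ + c W.a₄)) * a = 0 := by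
    intro a b
    have h := key a b
    simp only [hFdef, WeierstrassCurve.Affine.polynomial, eval₂_sub, eval₂_add, eval₂_mul, eval₂_X_pow,
      eval₂_X, eval₂_C, coe_eval₂RingHom, RingHom.comp_apply, TrivSqZeroExt.inlHom_apply] at h
    have h1 := congrArg TrivSqZeroExt.fst h
    have h2 := congrArg TrivSqZeroExt.snd h
    simp only [pow_succ, pow_zero, one_mul, TrivSqZeroExt.fst_mul, TrivSqZeroExt.snd_mul, TrivSqZeroExt.fst_add,
      TrivSqZeroExt.snd_add, TrivSqZeroExt.fst_sub, TrivSqZeroExt.snd_sub, TrivSqZeroExt.fst_inl,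
      TrivSqZeroExt.snd_inl, TrivSqZeroExt.fst_inr, TrivSqZeroExt.snd_inr, TrivSqZeroExt.fst_zero,
      TrivSqZeroExt.snd_zero, smul_eq_mul, MulOpposite.smul_eq_mul_unop, MulOpposite.unop_op, add_zero] at h1 h2
    exact ⟨by linear_combination h1, by linear_combination h2⟩
  have hF0 := (hev 0 0).1
  have hY : 2 * y₀ + c W.a₁ * x₀ + c W.a₃ = 0 := by simpa using (hev 0 1).2
  have hX : c W.a₁ * y₀ - (3 * x₀ ^ 2 + 2 * c W.a₂ * x₀ + c W.a₄) = 0 := by simpa using (hev 1 0).2
  have hc : ∀ r, c r = 0 ↔ algebraMap R W.CoordinateRing r ∈ P := fun r =>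
    Ideal.algebraMap_residueField_eq_zero (I := P)
  by_cases hπ : RingHom.ker c = IsLocalRing.maximalIdeal R
  · have hk : ∀ r ∈ IsLocalRing.maximalIdeal R, c r = 0 := fun r hr => by
      rw [← hπ] at hr; exact hr
    rw [hk _ h3, hk _ h4, hk _ h6] at hF0
    rw [hk _ h3] at hY
    rw [hk _ h4] at hX
    simp only [zero_mul, add_zero] at hF0 hY hX
    have hx0 : x₀ = 0 := by
      by_contra hx
      have hy : y₀ = x₀ * (y₀ / x₀) := (mul_div_cancel₀ y₀ hx).symm
      set t := y₀ / x₀
      rw [hy] at hF0 hY hX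
      have e1 : t ^ 2 + c W.a₁ * t - (x₀ + c W.a₂) = 0 :=
        (mul_eq_zero.1 (show x₀ ^ 2 * (t ^ 2 + c W.a₁ * t - (x₀ + c W.a₂)) = 0 by
          linear_combination hF0)).resolve_left (pow_ne_zero 2 hx)
      have e2 : 2 * t + c W.a₁ = 0 :=
        (mul_eq_zero.1 (show x₀ * (2 * t + c W.a₁) = 0 by linear_combination hY)).resolve_left hx
      have e3 : c W.a₁ * t - (3 * x₀ + 2 * c W.a₂) = 0 :=
        (mul_eq_zero.1 (show x₀ * (c W.a₁ * t - (3 * x₀ + 2 * c W.a₂)) = 0 by
          linear_combination hX)).resolve_left hx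
      exact hx (by linear_combination 2 * e1 - t * e2 - e3)
    have hy0 : y₀ = 0 := by
      rw [hx0] at hF0
      exact pow_eq_zero_iff (n := 2) two_ne_zero |>.1 (by linear_combination hF0)
    have hxP : WeierstrassCurve.Affine.CoordinateRing.mk W (C X) ∈ P :=
      (Ideal.algebraMap_residueField_eq_zero (I := P)).1 hx0
    have hyP : WeierstrassCurve.Affine.CoordinateRing.mk W X ∈ P :=
      (Ideal.algebraMap_residueField_eq_zero (I := P)).1 hy0
    have hmP : ∀ r ∈ IsLocalRing.maximalIdeal R, algebraMap R W.CoordinateRing r ∈ P :=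
      fun r hr => (hc r).1 (hk r hr)
    have : P.IsMaximal := by
      obtain ⟨N, hN, hPN⟩ := Ideal.exists_le_maximal P (Ideal.IsPrime.ne_top inferInstance)
      suffices N ≤ P by rwa [le_antisymm hPN this]
      intro z hz
      obtain ⟨p, q, rfl⟩ := WeierstrassCurve.Affine.CoordinateRing.exists_smul_basis_eq z
      have hzr : p • (1 : W.CoordinateRing) + q • WeierstrassCurve.Affine.CoordinateRing.mk W X -
          algebraMap R W.CoordinateRing (p.coeff 0) ∈ P := by
        rw [add_sub_right_comm, WeierstrassCurve.Affine.CoordinateRing.smul,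
          WeierstrassCurve.Affine.CoordinateRing.smul, mul_one]
        refine add_mem ?_ (Ideal.mul_mem_left _ _ hyP)
        nth_rewrite 1 [← X_mul_divX_add p]
        rw [map_add, map_add, map_mul, map_mul,
          show algebraMap R W.CoordinateRing (p.coeff 0) =
            WeierstrassCurve.Affine.CoordinateRing.mk W (C (C (p.coeff 0))) from rfl, add_sub_cancel_right]
        exact Ideal.mul_mem_right _ _ hxP
      have hr := sub_mem hz (hPN hzr)
      rw [sub_sub_cancel] at hr
      have hm : p.coeff 0 ∈ IsLocalRing.maximalIdeal R := by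
        by_contra h
        exact hN.ne_top (Ideal.eq_top_of_isUnit_mem _ hr ((IsLocalRing.notMem_maximalIdeal.1 h).map _))
      have := add_mem hzr (hmP _ hm)
      rwa [sub_add_cancel] at this
    exact Groth.Agent.S11097.result R W h3 h4 h6 h6' P hmP hxP hyP
  · exfalso
    have hinj : Function.Injective c := by
      rw [RingHom.injective_iff_ker_eq_bot]
      by_contra hne
      exact hπ (IsLocalRing.eq_maximalIdeal ((RingHom.ker_isPrime c).isMaximal hne))
    have hΔ' : (W.map c).Δ ≠ 0 := by
      rw [WeierstrassCurve.map_Δ]; exact (map_ne_zero_iff c hinj).2 hΔ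
    have : (W.map c).IsElliptic := ⟨isUnit_iff_ne_zero.2 hΔ'⟩
    have heq : (W.map c).Equation x₀ y₀ := by
      rw [WeierstrassCurve.Affine.equation_iff']; simpa using hF0
    have hns := WeierstrassCurve.Affine.equation_iff_nonsingular.1 heq
    rw [WeierstrassCurve.Affine.nonsingular_iff'] at hns
    exact hns.2.elim (fun h => h (by simpa using hX)) (fun h => h (by simpa using hY))

end Groth.Agent.S11104
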