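import Groth.Statements.S11107
import Groth.Agent.NeronArea.WeilExtensionBase
import Groth.Agent.S4440


set_option autoImplicit false
universe u
open CategoryTheory AlgebraicGeometry
open Neron

namespace Groth.Agent.S11107

/-- Let R be a Dedekind domain, X → Spec R a smooth morphism, Y → Spec R a proper morphism, U ⊆ X a
dense open subscheme and f : U → Y a morphism over Spec R (a rational map X ⇢ Y over R). Then f
extends, over Spec R, to an open subscheme V ⊇ U of X such that every point of X outside V has a
local ring of Krull dimension at least 2: the locus where the rational map is undefined has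
codimension at least two. (The published statement assumes the rational map dominant; this row does
not.) -/
theorem result {R : Type u} [CommRing R] [IsDedekindDomain R]
    {X Y : Scheme.{u}} (pX : X ⟶ Spec (CommRingCat.of R)) (pY : Y ⟶ Spec (CommRingCat.of R))
    [Smooth pX] [IsProper pY] (U : X.Opens) (hU : Dense (U : Set X))
    (f : (U : Scheme.{u}) ⟶ Y) (hf : f ≫ pY = U.ι ≫ pX) :
    ∃ (V : X.Opens) (hUV : U ≤ V) (g : (V : Scheme.{u}) ⟶ Y),
      g ≫ pY = V.ι ≫ pX ∧ X.homOfLE hUV ≫ g = f ∧
      ∀ x : X, x ∉ V → (2 : WithBot ℕ∞) ≤ ringKrullDim (X.presheaf.stalk x) := by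
  haveI := Groth.NeronArea.Weil.isLocallyNoetherian_of_smooth pX
  have hX := Groth.NeronArea.Weil.isRegularLocalRing_of_smooth_dedekind (R := R) pX
  haveI := Groth.NeronArea.Weil.isReduced_of_regular hX
  obtain ⟨V, hUV, g, hg1, hg2, hV⟩ := Groth.Agent.S4440.result pY pX (fun y _ => hX y) U hU f hf
  refine ⟨V, hUV, g, hg1, hg2, fun x hx => ?_⟩
  by_contra h
  refine hx (hV x ?_)
  generalize ringKrullDim (X.presheaf.stalk x) = d at h ⊢
  match d with
  | ⊥ => exact bot_le
  | (⊤ : ℕ∞) => exact absurd (WithBot.coe_le_coe.2 le_top) h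
  | ((n : ℕ) : ℕ∞) =>
    have h2 : ¬ (2 ≤ n) := fun h2 => h (WithBot.coe_le_coe.2 (show (2 : ℕ∞) ≤ (n : ℕ∞) by exact_mod_cast h2))
    exact_mod_cast (show n ≤ 1 by omega)

end Groth.Agent.S11107
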