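import Groth.Statements.S11112
import Groth.Agent.DerivedCoh.RHomQCohSharp

set_option autoImplicit false
universe u
open CategoryTheory CategoryTheory.Limits AlgebraicGeometry
attribute [local instance] HasDerivedCategory.standard
open Perf

namespace Groth.Agent.S11112

open Groth.DerivedCoh.KFlat (T IsKFlat tot totL totR)
open Groth.DerivedCoh.PCoh (Near)
open Groth.Misc4.QCohDPerf Groth.KTheory.Perf Groth.Misc4.QCohDRHom Groth.DerivedCoh HomologicalComplex
local notation "up" => ComplexShape.up ℤ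


/-- Let X be a quasi-compact quasi-separated scheme, F a cochain complex of O_X-modules whose class in
D(O_X) is n-pseudo-coherent, and G an object of D(O_X) with quasi-coherent cohomology sheaves and
H^m(G) = 0 for all m < r. With the derived tensor product - ⊗^L F and the internal hom RHom(F, -) as
its right adjoint (under existence binders), the cohomology sheaf H^j(RHom(F, G)) is quasi-coherent
for every j < r - n. In particular RHom(F, G) has quasi-coherent cohomology sheaves when F is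
pseudo-coherent. -/
theorem result (X : Scheme.{u}) [CompactSpace X] [QuasiSeparatedSpace X]
    (F : CochainComplex X.Modules ℤ) (n : ℤ) (hF : DCoh.IsPseudoCoherentD n (DCoh.toD X F)) [DCoh.HasLTensorCx F]
    [DCoh.HasRSheafHom F] (G : DCoh.D X) (hG : DCoh.IsQCohD G) (r : ℤ)
    (hGr : ∀ m : ℤ, m < r → IsZero (DCoh.HD G m)) (j : ℤ) (hj : j < r - n) :
    Coh.IsQCoh (DCoh.HD ((DCoh.RSheafHom F).obj G) j) := by
  haveI hge : G.IsGE r := (DerivedCategory.isGE_iff _ _).2 hGr
  have hKp := hF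
  let a := r
  let L := G
  let K := F
  have hL : DCoh.IsQCohD L := hG
  let K₀ := (Groth.DerivedCoh.KFlat.flatResolution X).obj K
  let π := (Groth.DerivedCoh.KFlat.flatResolutionAug X).app K
  haveI : QuasiIso π := Groth.DerivedCoh.KFlat.flatResolution_quasiIso K
  haveI : IsIso (DerivedCategory.Q.map π) :=
    (DerivedCategory.isIso_Q_map_iff_quasiIso _ _).2 inferInstance
  have hK₀ := Groth.DerivedCoh.KFlat.flatResolution_isKFlat K
  have hKf := Groth.DerivedCoh.KFlat.flatResolution_isFlat K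
  haveI := Groth.DerivedCoh.KFlat.hasLTensorCx K₀
  haveI := Groth.Misc4.HasRSheafHom.hasRSheafHom K₀ hK₀ hKf
  haveI : ∀ C, IsIso ((Functor.whiskerLeft (Groth.DerivedCoh.KFlat.flatResolution X)
      (Functor.whiskerRight ((DCoh.tensorCx (X := X)).flip.map π) DerivedCategory.Q)).app C) := fun C => by
    haveI : QuasiIso ((totR (T X) ((Groth.DerivedCoh.KFlat.flatResolution X).obj C)).map π) :=
      Groth.DerivedCoh.KFlat.quasiIso_totR (T X)
        (Groth.DerivedCoh.KFlat.flatResolution_isKFlat_flip C) π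
    exact (DerivedCategory.isIso_Q_map_iff_quasiIso _ _).2 this
  haveI := NatIso.isIso_of_isIso_app (Functor.whiskerLeft (Groth.DerivedCoh.KFlat.flatResolution X)
    (Functor.whiskerRight ((DCoh.tensorCx (X := X)).flip.map π) DerivedCategory.Q))
  let c : DCoh.LTensorCx K₀ ≅ DCoh.LTensorCx K :=
    Localization.liftNatIso DerivedCategory.Q (HomologicalComplex.quasiIso X.Modules up)
      (DerivedCategory.Q ⋙ DCoh.LTensorCx K₀) (DerivedCategory.Q ⋙ DCoh.LTensorCx K) _ _
      (Groth.DerivedCoh.KFlat.ltcxResIso K₀ ≪≫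
        asIso (Functor.whiskerLeft (Groth.DerivedCoh.KFlat.flatResolution X)
          (Functor.whiskerRight ((DCoh.tensorCx (X := X)).flip.map π) DerivedCategory.Q)) ≪≫
        (Groth.DerivedCoh.KFlat.ltcxResIso K).symm)
  refine (Groth.QCohMod.isQCoh_iff_of_iso ((DerivedCategory.homologyFunctor _ j).mapIso
    ((((DCoh.RSheafHomAdj K).ofNatIsoLeft c.symm).rightAdjointUniq (DCoh.RSheafHomAdj K₀)).app L))).2 ?_
  refine Groth.QCohMod.isQCoh_of_forall_exists _ fun x => ?_
  obtain ⟨V, hx, E, α, hE, hα⟩ := (Groth.DerivedCoh.PCoh.isPseudoCoherentD_iff _ _).1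
    (Groth.DerivedCoh.PCoh.isPseudoCoherentD_of_iso (asIso (DerivedCategory.Q.map π)).symm
      hKp) x
  refine ⟨V, hx, ?_⟩
  let K' := (Rc V.ι).obj K₀
  let α' : DCoh.toD _ E ⟶ DCoh.toD _ K' := α ≫ (rdQIso V.ι K₀).hom
  obtain ⟨A, s, hs, g, hfac⟩ := DerivedCategory.right_fac α'
  haveI := hs
  have hsg : DerivedCategory.Q.map g = DerivedCategory.Q.map s ≫ α' := by
    rw [hfac, IsIso.hom_inv_id_assoc]
  let A₀ := (Groth.DerivedCoh.KFlat.flatResolution _).obj A
  let ρ := (Groth.DerivedCoh.KFlat.flatResolutionAug _).app A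
  haveI : IsIso (DerivedCategory.Q.map ρ) := (DerivedCategory.isIso_Q_map_iff_quasiIso _ ρ).2
    (Groth.DerivedCoh.KFlat.flatResolution_quasiIso A)
  have hA₀ := Groth.DerivedCoh.KFlat.flatResolution_isKFlat A
  have hK' : IsKFlat (T _) K' := Groth.DerivedCoh.PCoh.isKFlat_rc V.ι hK₀
  haveI := Groth.DerivedCoh.KFlat.hasLTensorCx A₀
  haveI := Groth.Misc4.HasRSheafHom.hasRSheafHom A₀ hA₀ (Groth.DerivedCoh.KFlat.flatResolution_isFlat A)
  haveI := Groth.DerivedCoh.KFlat.hasLTensorCx K'
  haveI := Groth.Misc4.HasRSheafHom.hasRSheafHom K' hK'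
    (fun q => Groth.DerivedCoh.PCoh.isFlat_restrict V.ι (hKf q))
  let g₀ : A₀ ⟶ K' := ρ ≫ g
  have hg : Near n (DerivedCategory.Q.map g₀) := by
    rw [Functor.map_comp, hsg]
    exact (Groth.DerivedCoh.PCoh.near_of_isIso _).comp ((Groth.DerivedCoh.PCoh.near_of_isIso _).comp
      (hα.comp (Groth.DerivedCoh.PCoh.near_of_isIso _)))
  haveI : ((Rd V.ι).obj L).IsGE a := by
    rw [DerivedCategory.isGE_iff]
    intro l hl
    obtain ⟨d⟩ := nonempty_hdRd V.ι L l
    exact ((Scheme.Modules.restrictFunctor V.ι).map_isZero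
      (DerivedCategory.isZero_of_isGE L a l hl)).of_iso d
  have hq := RHomQCohSharp.isQCoh_hd_of_near_sharp g₀ hA₀ hK' hg (L := (Rd V.ι).obj L) (a := a) j (by omega)
    (isQCohD_rhom A₀ (isPerfect_of_iso (asIso (DerivedCategory.Q.map ρ) ≪≫
      asIso (DerivedCategory.Q.map s)).symm (isPerfect_toD hE)) (isQCohD_restrict V.ι hL) j)
  obtain ⟨d⟩ := nonempty_hdRd V.ι ((DCoh.RSheafHom K₀).obj L) j
  exact (Groth.QCohMod.isQCoh_iff_of_iso d).1 ((Groth.QCohMod.isQCoh_iff_of_iso
    ((DerivedCategory.homologyFunctor _ j).mapIso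
      ((Groth.DerivedCoh.ExtZero.restrRHomIso V.ι K₀).app L))).2 hq)

end Groth.Agent.S11112
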