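import Groth.Statements.S11113
import Groth.Agent.DerivedCoh.HomVanish
import Groth.Agent.Misc4.PerfectGenerator
import Groth.Agent.DerivedCoh.PushPull.Adjunction

set_option autoImplicit false
universe u
open CategoryTheory CategoryTheory.Limits AlgebraicGeometry
attribute [local instance] HasDerivedCategory.standard
open Perf

namespace Groth.Agent.S11113

open Groth.DerivedCoh Pretriangulated

/-- `Hom(K, -)` sends `φ` to a bijection for perfect `K` -/
theorem bijective_comp {X Y : Scheme.{u}} (f : X ⟶ Y) [DCoh.HasRpush f]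
    [hT : ∀ F : CochainComplex X.Modules ℤ, DCoh.HasLTensorCx F]
    [hR : ∀ F : CochainComplex X.Modules ℤ, DCoh.HasRSheafHom F] {A₁ A₂ : DCoh.D X} (φ : A₁ ⟶ A₂)
    (h : ∀ F : CochainComplex X.Modules ℤ, (∀ m : ℤ, DCoh.IsPseudoCoherentD m (DCoh.toD X F)) →
      IsIso ((DCoh.Rpush f).map ((DCoh.RSheafHom F).map φ)))
    {K : DCoh.D X} (hK : DCoh.IsPerfect K) : Function.Bijective fun ψ : K ⟶ A₁ => ψ ≫ φ := by
  obtain ⟨F, ⟨eF⟩⟩ := Groth.KTheory.Perf.exists_rep K
  let K₀ := (KFlat.flatResolution X).obj F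
  haveI : IsIso (DerivedCategory.Q.map ((KFlat.flatResolutionAug X).app F)) :=
    (DerivedCategory.isIso_Q_map_iff_quasiIso _ _).2 (KFlat.flatResolution_quasiIso F)
  let eK : DCoh.toD X K₀ ≅ K :=
    asIso (DerivedCategory.Q.map ((KFlat.flatResolutionAug X).app F)) ≪≫ eF
  have hK₀ := KFlat.flatResolution_isKFlat F
  haveI := KFlat.hasLpull f
  let adjP := PushPull.lpullRpushAdj f
  let eO : (DCoh.Lpull f).obj (DCoh.inD _ (Coh.structureModule _)) ≅
      DCoh.inD X (Coh.structureModule X) :=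
    (DCoh.Lpull f).mapIso (HomVanish.unitIso _).symm ≪≫ KFlat.lpullQIso f _ (RelAmp.isKFlat_unitCx _) ≪≫
      DerivedCategory.Q.mapIso (RelAmp.pullUnitCxIso f) ≪≫ HomVanish.unitIso X
  let adj := DCoh.RSheafHomAdj K₀
  let eU := Groth.Misc4.PerfectCompact.ltcxUnitIso K₀ hK₀
  haveI hz := h K₀ (Groth.DerivedCoh.PCoh.isPseudoCoherentD_of_isPerfect
    (Groth.KTheory.Perf.isPerfect_of_iso eK.symm hK))
  let O₁ := DCoh.inD Y (Coh.structureModule Y)
  let T : ∀ A : DCoh.D X, (K ⟶ A) ≃ (O₁ ⟶ (DCoh.Rpush f).obj ((DCoh.RSheafHom K₀).obj A)) := fun A =>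
    ((eU ≪≫ eK).homCongr (Iso.refl A)).symm.trans ((adj.homEquiv _ A).trans
      ((eO.homCongr (Iso.refl _)).symm.trans (adjP.homEquiv _ _)))
  have hnat : ∀ ψ : K ⟶ A₁, T A₂ (ψ ≫ φ) = T A₁ ψ ≫ (DCoh.Rpush f).map ((DCoh.RSheafHom K₀).map φ) := by
    intro ψ
    simp [T, Adjunction.homEquiv_naturality_right]
  have e : (fun ψ : K ⟶ A₁ => ψ ≫ φ) =
      (T A₂).symm ∘ (fun χ => χ ≫ (DCoh.Rpush f).map ((DCoh.RSheafHom K₀).map φ)) ∘ T A₁ :=
    funext fun ψ => ((T A₂).eq_symm_apply).2 (hnat ψ)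
  rw [e]
  have hb : Function.Bijective fun χ : O₁ ⟶ _ => χ ≫ (DCoh.Rpush f).map ((DCoh.RSheafHom K₀).map φ) :=
    ⟨fun a b hab => (cancel_mono _).1 hab,
    fun χ => ⟨χ ≫ inv ((DCoh.Rpush f).map ((DCoh.RSheafHom K₀).map φ)), by simp⟩⟩
  exact (T A₂).symm.bijective.comp (hb.comp (T A₁).bijective)

/-- Let f : X ⟶ Y be locally of finite presentation with X and Y quasi-compact quasi-separated, let Rf_*
exist, and suppose that for every cochain complex F of O_X-modules the derived tensor functor - ⊗^L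
F exists and has a right adjoint RHom(F, -) (existence binders). Let φ : A₁ ⟶ A₂ be a morphism in
D(O_X) between objects with quasi-coherent cohomology sheaves vanishing below some degree c. If Rf_*
RHom(F, φ) is an isomorphism for every complex F whose class in D(O_X) is pseudo-coherent, then φ is
an isomorphism. -/
theorem result {X Y : Scheme.{u}} [CompactSpace X] [QuasiSeparatedSpace X] [CompactSpace Y] [QuasiSeparatedSpace Y]
    (f : X ⟶ Y) [LocallyOfFinitePresentation f] [DCoh.HasRpush f]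
    [hT : ∀ F : CochainComplex X.Modules ℤ, DCoh.HasLTensorCx F]
    [hR : ∀ F : CochainComplex X.Modules ℤ, DCoh.HasRSheafHom F]
    {A₁ A₂ : DCoh.D X} (h₁ : DCoh.IsQCohD A₁) (h₂ : DCoh.IsQCohD A₂) (c : ℤ) [A₁.IsGE c] [A₂.IsGE c]
    (φ : A₁ ⟶ A₂)
    (h : ∀ F : CochainComplex X.Modules ℤ, (∀ m : ℤ, DCoh.IsPseudoCoherentD m (DCoh.toD X F)) →
      IsIso ((DCoh.Rpush f).map ((DCoh.RSheafHom F).map φ))) :
    IsIso φ := by
  obtain ⟨C, v, w, hC⟩ := distinguished_cocone_triangle φ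
  refine (Triangle.isZero₃_iff_isIso₁ _ hC).1 ?_
  obtain ⟨P, hP, -, hgen⟩ := Groth.Misc4.PerfectGenerator.gen X Set.univ isClosed_univ (fun _ _ _ => by simp)
  refine hgen C ?_ (fun _ => Set.subset_univ _) fun n ψ => ?_
  · exact Groth.Misc4.QCohDPerf.isQCohD_obj₂ _ (rot_of_distTriang _ hC) h₂
      (Groth.Misc4.QCohDPerf.isQCohD_shift h₁ 1)
  · let e := ((shiftFunctorAdd' (DCoh.D X) (n - 1) 1 n (by omega)).app P).symm
    obtain ⟨χ, hχ⟩ := (shiftFunctor (DCoh.D X) (1 : ℤ)).map_surjective (e.hom ≫ ψ ≫ w)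
    have hw : ψ ≫ w = 0 := by
      have h0 : χ ≫ φ = 0 := (shiftFunctor (DCoh.D X) (1 : ℤ)).map_injective (by
        rw [Functor.map_comp, hχ, Functor.map_zero, Category.assoc, Category.assoc,
          show w ≫ φ⟦(1 : ℤ)⟧' = 0 from comp_distTriang_mor_zero₃₁ _ hC, comp_zero, comp_zero])
      have : χ = 0 := (bijective_comp f φ h (Groth.KTheory.Perf.isPerfect_shift hP (n - 1))).1
        (h0.trans zero_comp.symm)
      rw [← cancel_epi e.hom, ← hχ, this, Functor.map_zero, comp_zero]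
    obtain ⟨ξ, hξ⟩ := Triangle.coyoneda_exact₃ _ hC ψ hw
    obtain ⟨η, hη⟩ := (bijective_comp f φ h (Groth.KTheory.Perf.isPerfect_shift hP n)).2 ξ
    rw [hξ, ← hη]
    exact (Category.assoc _ _ _).trans
      ((congrArg (η ≫ ·) (comp_distTriang_mor_zero₁₂ _ hC)).trans comp_zero)

end Groth.Agent.S11113
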