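import Groth.Statements.S11114
import Groth.Agent.Misc4.PushRestrict
import Groth.Agent.DerivedCoh.KInj.Products
import Groth.Agent.QCohMod.Stalk
import Groth.Agent.KTheory.PerfCoh

set_option autoImplicit false
universe u
open CategoryTheory CategoryTheory.Limits AlgebraicGeometry
attribute [local instance] HasDerivedCategory.standard
open DCoh

namespace Groth.Agent.S11114

open Groth.DerivedCoh Pretriangulated HomologicalComplex

/-- a quasi-isomorphism on affine sections is a quasi-isomorphism -/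
theorem isIso_Q_map_of_sections {Y : Scheme.{u}} {J₁ J₂ : CochainComplex Y.Modules ℤ} (u : J₁ ⟶ J₂)
    (h : ∀ U : Y.Opens, IsAffineOpen U → IsIso (DerivedCategory.Q.map
      (((Scheme.Modules.restrictFunctor U.ι ⋙ DCoh.gammaAb (U : Scheme.{u})).mapHomologicalComplex
        (ComplexShape.up ℤ)).map u))) : IsIso (DerivedCategory.Q.map u) := by
  let C := CochainComplex.mappingCone u
  have hdist := (DerivedCategory.mem_distTriang_iff _).2 ⟨_, _, u, ⟨Iso.refl _⟩⟩
  suffices ∀ i, C.ExactAt i by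
    refine (Triangle.isZero₃_iff_isIso₁ _ hdist).1 ?_
    refine (IsZero.iff_id_eq_zero _).2 ?_
    have hq : IsIso (DerivedCategory.Q.map (0 : C ⟶ C)) := (DerivedCategory.isIso_Q_map_iff_quasiIso _ _).2
      ⟨fun k => (quasiIsoAt_iff_exactAt _ k (this k)).2 (this k)⟩
    rw [Functor.map_zero] at hq
    have h0 : 𝟙 (DerivedCategory.Q.obj C) = 0 := by
      rw [← IsIso.inv_hom_id (0 : DerivedCategory.Q.obj C ⟶ DerivedCategory.Q.obj C), comp_zero]
    exact h0
  intro i
  rw [HomologicalComplex.exactAt_iff, Groth.QCohMod.exact_iff_stalk]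
  intro x
  rw [ShortComplex.ab_exact_iff]
  intro t ht
  obtain ⟨W, hxW, s, rfl⟩ := (C.X i).presheaf.exists_germ_eq t
  have ht' : (C.X _).presheaf.germ W x hxW ((C.d i ((ComplexShape.up ℤ).next i)).app W s) =
      (C.X ((ComplexShape.up ℤ).next i)).presheaf.germ W x hxW 0 := by
    rw [map_zero]
    exact (TopCat.Presheaf.stalkFunctor_map_germ_apply W x hxW
      ((Scheme.Modules.toPresheaf Y).map (C.d i _)) s).symm.trans ht
  obtain ⟨W', hxW', i₁, i₂, hs⟩ := (C.X _).presheaf.germ_eq x hxW hxW _ _ ht'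
  obtain ⟨U, hU, hxU, hUW⟩ := exists_isAffineOpen_mem_and_subset (U := W') (x := x) hxW'
  let F := Scheme.Modules.restrictFunctor U.ι ⋙ DCoh.gammaAb (U : Scheme.{u})
  have hT := (DerivedCategory.mem_distTriang_iff _).2
    ⟨_, _, (F.mapHomologicalComplex (ComplexShape.up ℤ)).map u, ⟨Iso.refl _⟩⟩
  have hz := (Triangle.isZero₃_iff_isIso₁ _ hT).2 (h U hU)
  have hex : ((F.mapHomologicalComplex (ComplexShape.up ℤ)).obj C).ExactAt i := by
    refine ((CochainComplex.mappingCone
      ((F.mapHomologicalComplex (ComplexShape.up ℤ)).map u)).exactAt_iff_isZero_homology i |>.2 ?_).of_iso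
      (CochainComplex.mappingCone.mapHomologicalComplexIso u F).symm
    exact ((DerivedCategory.homologyFunctor _ i).map_isZero hz).of_iso
      ((DerivedCategory.homologyFunctorFactors _ i).app _).symm
  rw [HomologicalComplex.exactAt_iff, ShortComplex.ab_exact_iff] at hex
  have hi : U.ι ''ᵁ ⊤ = U := U.ι_image_top
  have hW : U.ι ''ᵁ ⊤ ≤ W := hi.trans_le (le_trans hUW i₁.le)
  let s' := (C.X i).presheaf.map (homOfLE hW).op s
  have hd : (C.d i ((ComplexShape.up ℤ).next i)).app (U.ι ''ᵁ ⊤) s' = 0 := by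
    have h1 := congrArg ((C.X _).presheaf.map (homOfLE (hi.trans_le hUW)).op) hs
    rw [map_zero, map_zero, ← ConcreteCategory.comp_apply, ← Functor.map_comp] at h1
    refine Eq.trans ?_ h1
    have := congrArg (fun p => (ConcreteCategory.hom p) s)
      ((C.d i ((ComplexShape.up ℤ).next i)).mapPresheaf.naturality (homOfLE hW).op)
    exact this
  obtain ⟨r, hr⟩ := hex s' hd
  have hxi : x ∈ U.ι ''ᵁ ⊤ := hi.symm ▸ hxU
  refine ⟨(C.X ((ComplexShape.up ℤ).prev i)).presheaf.germ (U.ι ''ᵁ ⊤) x hxi r, ?_⟩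
  refine (TopCat.Presheaf.stalkFunctor_map_germ_apply (U.ι ''ᵁ ⊤) x hxi
    ((Scheme.Modules.toPresheaf Y).map (C.d _ i)) r).trans ?_
  exact (congrArg _ hr).trans (TopCat.Presheaf.germ_res_apply _ (homOfLE hW) x hxi s)



/-- Let Y be a quasi-compact quasi-separated scheme and assume the unbounded derived functor of global
sections RΓ(U, -) exists for every open U of Y (existence binder). A morphism φ : G₁ ⟶ G₂ in D(O_Y)
is an isomorphism if and only if for every affine open U of Y the morphism RΓ(U, φ|_U) of D(Ab),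
obtained from φ through restriction to U and derived global sections, is an isomorphism. -/
theorem result {Y : Scheme.{u}} [CompactSpace Y] [QuasiSeparatedSpace Y]
    [hR : ∀ U : Y.Opens, DCoh.HasRΓ (U : Scheme.{u})] {G₁ G₂ : DCoh.D Y} (φ : G₁ ⟶ G₂) :
    IsIso φ ↔ ∀ U : Y.Opens, IsAffineOpen U →
      IsIso ((DCoh.RΓ (U : Scheme.{u})).map ((DCoh.restrictD U.ι).map φ)) := by
  refine ⟨fun h U _ => inferInstance, fun h => ?_⟩
  obtain ⟨J₁, hJ₁, ⟨e₁⟩⟩ := KInjRes.exists_kInjective_iso G₁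
  obtain ⟨J₂, hJ₂, ⟨e₂⟩⟩ := KInjRes.exists_kInjective_iso G₂
  haveI := hJ₁
  haveI := hJ₂
  obtain ⟨u, hu⟩ := KInjRes.Q_map_surjective J₁ J₂ (e₁.hom ≫ φ ≫ e₂.inv)
  suffices IsIso (DerivedCategory.Q.map u) by
    rw [show φ = e₁.inv ≫ DerivedCategory.Q.map u ≫ e₂.hom by simp [hu]]
    infer_instance
  refine isIso_Q_map_of_sections u fun U hU => ?_
  haveI := h U hU
  let res := Groth.Misc4.PushRestrict.resCx U.ι
  haveI : ((res.obj J₁)).IsKInjective := Groth.Misc4.PushRestrict.isKInjective_resCx U.ι J₁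
  haveI : ((res.obj J₂)).IsKInjective := Groth.Misc4.PushRestrict.isKInjective_resCx U.ι J₂
  haveI : IsIso ((DCoh.restrictD U.ι ⋙ DCoh.RΓ (U : Scheme.{u})).map (DerivedCategory.Q.map u)) := by
    have : DerivedCategory.Q.map u = e₁.hom ≫ φ ≫ e₂.inv := hu
    rw [this, Functor.comp_map, Functor.map_comp, Functor.map_comp, Functor.map_comp, Functor.map_comp]
    infer_instance
  have n₁ := (Functor.isoWhiskerRight ((Scheme.Modules.restrictFunctor U.ι).mapDerivedCategoryFactors) (DCoh.RΓ (U : Scheme.{u}))).hom.naturality u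
  haveI hRR : IsIso ((DCoh.RΓ (U : Scheme.{u})).map (DerivedCategory.Q.map (res.map u))) :=
    ((MorphismProperty.isomorphisms _).arrow_mk_iso_iff (Arrow.isoMk
      ((Functor.isoWhiskerRight ((Scheme.Modules.restrictFunctor U.ι).mapDerivedCategoryFactors) (DCoh.RΓ (U : Scheme.{u}))).app J₁)
      ((Functor.isoWhiskerRight ((Scheme.Modules.restrictFunctor U.ι).mapDerivedCategoryFactors) (DCoh.RΓ (U : Scheme.{u}))).app J₂) n₁.symm)).1 this
  let η := (DCoh.gammaKh (U : Scheme.{u})).totalRightDerivedUnit DerivedCategory.Qh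
    (HomotopyCategory.quasiIso (U : Scheme.{u}).Modules (ComplexShape.up ℤ))
  let q := HomotopyCategory.quotient (U : Scheme.{u}).Modules (ComplexShape.up ℤ)
  haveI := Groth.Misc4.PushRestrict.isIso_unit_app (DCoh.gammaAb (U : Scheme.{u})) (res.obj J₁)
  haveI := Groth.Misc4.PushRestrict.isIso_unit_app (DCoh.gammaAb (U : Scheme.{u})) (res.obj J₂)
  have n₂ := η.naturality (q.map (res.map u))
  exact ((MorphismProperty.isomorphisms _).arrow_mk_iso_iff (Arrow.isoMk (asIso (η.app (q.obj (res.obj J₁))))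
    (asIso (η.app (q.obj (res.obj J₂)))) n₂.symm)).2 hRR

end Groth.Agent.S11114
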