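import Groth.Statements.S11115
import Groth.Agent.DerivedCoh.KFlat.RpushComp
import Mathlib.Algebra.Homology.Factorizations.CM5b
import Mathlib.Algebra.Homology.DerivedCategory.RightDerivedFunctorPlus

set_option autoImplicit false
universe u
open CategoryTheory CategoryTheory.Limits AlgebraicGeometry
attribute [local instance] HasDerivedCategory.standard
open Perf

namespace Groth.Agent.S11115

/-- Let f : X ⟶ Y be a quasi-compact quasi-separated morphism of schemes and assume the unbounded
derived direct image Rf_* exists. If F in D(O_X) has cohomology sheaves vanishing below degree n,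
then so has Rf_* F. (The published statement restricts F to complexes with quasi-coherent
cohomology; this row allows any F.) -/
theorem result {X Y : Scheme.{u}} (f : X ⟶ Y) [QuasiCompact f] [QuasiSeparated f] [DCoh.HasRpush f]
    (F : DCoh.D X) (n : ℤ) [F.IsGE n] : ((DCoh.Rpush f).obj F).IsGE n := by
  obtain ⟨L, hL, ⟨e⟩⟩ := DerivedCategory.exists_iso_Q_obj_of_isGE F n
  haveI := hL
  obtain ⟨I, i, hi, hI, hge⟩ := CochainComplex.Plus.modelCategoryQuillen.exists_quasiIso_injective L n
  haveI := hi
  haveI := hI
  haveI := hge
  haveI := CochainComplex.isKInjective_of_injective I n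
  haveI := Groth.DerivedCoh.KFlat.isIso_pushUnit_app f I
  haveI : CochainComplex.IsStrictlyGE
      (((Scheme.Modules.pushforward f).mapHomologicalComplex (ComplexShape.up ℤ)).obj I) n := by
    rw [CochainComplex.isStrictlyGE_iff]
    intro q hq
    exact (Scheme.Modules.pushforward f).map_isZero (I.isZero_of_isStrictlyGE n q hq)
  refine ⟨_, (DCoh.Rpush f).mapIso (e ≪≫ asIso (DerivedCategory.Q.map i) ≪≫
      ((DerivedCategory.quotientCompQhIso X.Modules).app I).symm) ≪≫
    (asIso (((DCoh.pushKh f).totalRightDerivedUnit DerivedCategory.Qh
      (HomotopyCategory.quasiIso X.Modules (ComplexShape.up ℤ))).app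
        ((HomotopyCategory.quotient X.Modules (ComplexShape.up ℤ)).obj I))).symm ≪≫
    (DerivedCategory.quotientCompQhIso Y.Modules).app
      (((Scheme.Modules.pushforward f).mapHomologicalComplex (ComplexShape.up ℤ)).obj I), inferInstance⟩

end Groth.Agent.S11115
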