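import Groth.Statements.S11122
import Groth.Agent.DerivedCoh.RelPerfectBC
import Groth.Agent.Misc4.QCohCd
import Groth.Agent.KTheory.RelPCBounded
import Groth.Agent.DerivedCoh.PerfPush.ProperSupp

set_option autoImplicit false
universe u
open CategoryTheory CategoryTheory.Limits AlgebraicGeometry
attribute [local instance] HasDerivedCategory.standard
open Perf

namespace Groth.Agent.S11122

open Groth.DerivedCoh Groth.DerivedCoh.PCoh Pretriangulated

open scoped ZeroObject in
/-- an object with cohomology in low degrees only is pseudo-coherent above them -/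
theorem isPseudoCoherentD_of_below {Z : Scheme.{u}} {m : ℤ} {K : DCoh.D Z} (h : Below m K) :
    DCoh.IsPseudoCoherentD m K := by
  refine (isPseudoCoherentD_iff m K).2 fun x => ⟨⊤, trivial, 0, 0,
    ⟨⟨0, 0, fun i _ => (HomologicalComplex.eval _ _ i).map_isZero (isZero_zero _)⟩,
      fun i => Groth.KTheory.LocFree.isFinLocFree_zero ((HomologicalComplex.eval _ _ i).map_isZero (isZero_zero _))⟩, ?_⟩
  have hsrc : ∀ i, IsZero ((DerivedCategory.homologyFunctor _ i).obj
      (DCoh.toD ((⊤ : Z.Opens) : Scheme.{u}) (0 : CochainComplex _ ℤ))) := fun i =>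
    (DerivedCategory.Q ⋙ DerivedCategory.homologyFunctor _ i).map_isZero (isZero_zero _)
  have htgt := below_rd (⊤ : Z.Opens).ι h
  exact ⟨fun i hi => ⟨⟨0, (hsrc i).eq_of_src _ _, (htgt i hi.le).eq_of_src _ _⟩⟩,
    ⟨fun a b _ => (htgt m le_rfl).eq_of_src a b⟩⟩

/-- Let f : X ⟶ Y be a quasi-compact quasi-separated morphism of schemes with Y quasi-compact, and
assume the unbounded derived direct image Rf_* exists. Suppose there is an integer k such that for
every integer n and every object F of D(O_X) with bounded cohomology that is n-pseudo-coherent, Rf_*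
F is (n + k)-pseudo-coherent. Then for every object F of D(O_X) that is n-pseudo-coherent for all n
(no boundedness assumed), Rf_* F is n-pseudo-coherent for all n. (The published statement obtains
the bound for proper pseudo-coherent f from a cited finiteness theorem; this row assumes the bound.) -/
theorem result {X Y : Scheme.{u}} (f : X ⟶ Y) [QuasiCompact f]
    [QuasiSeparated f] [CompactSpace Y] [DCoh.HasRpush f] (k : ℤ)
    (hK : ∀ (F : DCoh.D X) (n a b : ℤ), F.IsGE a → F.IsLE b → DCoh.IsPseudoCoherentD n F →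
      DCoh.IsPseudoCoherentD (n + k) ((DCoh.Rpush f).obj F))
    (F : DCoh.D X) (hF : ∀ m : ℤ, DCoh.IsPseudoCoherentD m F) (m : ℤ) :
    DCoh.IsPseudoCoherentD m ((DCoh.Rpush f).obj F) := by
  haveI : CompactSpace X := QuasiCompact.compactSpace_of_compactSpace f
  obtain ⟨C, ⟨eC⟩⟩ := Groth.KTheory.Perf.exists_rep F
  obtain ⟨b₀, hb₀⟩ := Groth.KTheory.RelPC.exists_isZero_homology
    (isPseudoCoherentD_of_iso eC.symm (hF 0))
  have hb : ∀ i, b₀ < i → IsZero ((DerivedCategory.homologyFunctor _ i).obj F) := fun i hi =>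
    ((hb₀ i hi).of_iso ((DerivedCategory.homologyFunctorFactors _ i).app C)).of_iso
      ((DerivedCategory.homologyFunctor _ i).mapIso eC.symm)
  obtain ⟨N, -, hN⟩ := Groth.Misc4.QCohCd.exists_isZero_HD f
  let a := min (m - k) (m - N)
  let t := (DerivedCategory.TStructure.t : Triangulated.TStructure (DCoh.D X))
  let T := (t.triangleLTGE a).obj F
  have hT : T ∈ distTriang _ := t.triangleLTGE_distinguished a F
  haveI h₁ : T.obj₁.IsLE (a - 1) := t.isLE_truncLT_obj F a (a - 1) (by omega)
  haveI h₃ : T.obj₃.IsGE a := t.isGE_truncGE_obj F a a le_rfl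
  have h₁z : ∀ i, a ≤ i → IsZero ((DerivedCategory.homologyFunctor _ i).obj T.obj₁) := fun i hi =>
    DerivedCategory.isZero_of_isLE _ (a - 1) i (by omega)
  have h₃z : ∀ i, i < a → IsZero ((DerivedCategory.homologyFunctor _ i).obj T.obj₃) := fun i hi =>
    DerivedCategory.isZero_of_isGE _ a i hi
  have hq : DCoh.IsQCohD T.obj₁ := fun i => by
    rcases lt_or_ge i a with hi | hi
    · haveI : Epi ((DerivedCategory.homologyFunctor _ i).map T.mor₁) :=
        (DerivedCategory.HomologySequence.epi_homologyMap_mor₁_iff T hT i).2 ((h₃z i hi).eq_of_tgt _ _)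
      haveI : Mono ((DerivedCategory.homologyFunctor _ i).map T.mor₁) :=
        (DerivedCategory.HomologySequence.mono_homologyMap_mor₁_iff T hT (i - 1) i (by omega)).2
          ((h₃z (i - 1) (by omega)).eq_of_src _ _)
      haveI := isIso_of_mono_of_epi ((DerivedCategory.homologyFunctor _ i).map T.mor₁)
      exact (Groth.QCohMod.isQCoh_iff_of_iso (asIso ((DerivedCategory.homologyFunctor _ i).map T.mor₁))).2
        (RelPerfectBC.isQCohD_of_pc hF i)
    · exact Groth.Misc4.QCohDPerf.isQCoh_isZero (h₁z i hi)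
  have hle₃ : T.obj₃.IsLE (max b₀ a) := (DerivedCategory.isLE_iff _ _).2 fun i hi =>
    (DerivedCategory.HomologySequence.exact₃ T hT i (i + 1) rfl).isZero_of_both_zeros
      ((hb i (lt_of_le_of_lt (le_max_left _ _) hi)).eq_of_src _ _)
      ((h₁z (i + 1) (by omega)).eq_of_tgt _ _)
  have hpc₃ : DCoh.IsPseudoCoherentD (m - k) T.obj₃ :=
    isPseudoCoherentD_obj₃ T hT (isPseudoCoherentD_of_below fun i hi => h₁z i (by omega)) (hF _)
  have h₃' := hK T.obj₃ (m - k) a (max b₀ a) h₃ hle₃ hpc₃
  rw [sub_add_cancel] at h₃'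
  obtain ⟨c, hc⟩ := PerfPush.exists_distinguished f T hT
  exact isPseudoCoherentD_obj₂ _ hc
    (isPseudoCoherentD_of_below fun i hi => hN T.obj₁ hq (a - 1) h₁ i (by omega)) h₃'

end Groth.Agent.S11122
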