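import Groth.Statements.S11124
import Groth.Agent.Misc4.PushRestrict

set_option autoImplicit false
universe u
open CategoryTheory CategoryTheory.Limits AlgebraicGeometry
attribute [local instance] HasDerivedCategory.standard
open Perf

namespace Groth.Agent.S11124

/-- Let f : X ⟶ Y be a morphism of schemes, B a K-injective cochain complex of O_X-modules and U an open
subset of Y, and assume the unbounded derived functor of global sections on U exists. Then the
termwise direct image f_*B, restricted to U, is acyclic for global sections: the canonical map Γ(U,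
f_*B) ⟶ RΓ(U, (f_*B)|_U) in D(Ab), the unit of the total right derived functor at this complex, is
an isomorphism. (The published statement is for ringed spaces; this row is the case of schemes.) -/
theorem result {X Y : Scheme.{u}} (f : X ⟶ Y) (B : CochainComplex X.Modules ℤ)
    [B.IsKInjective] (U : Y.Opens) [DCoh.HasRΓ (U : Scheme.{u})] :
    IsIso (((DCoh.gammaKh (U : Scheme.{u})).totalRightDerivedUnit DerivedCategory.Qh
      (HomotopyCategory.quasiIso (U : Scheme.{u}).Modules (ComplexShape.up ℤ))).app
      ((HomotopyCategory.quotient (U : Scheme.{u}).Modules (ComplexShape.up ℤ)).obj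
        ((DCoh.restrictCx U).obj (((Scheme.Modules.pushforward f).mapHomologicalComplex (ComplexShape.up ℤ)).obj B)))) := by
  open Groth.Misc4.PushRestrict Groth.DerivedCoh.KFlat in
  let J := (resCx (f ⁻¹ᵁ U).ι).obj B
  haveI : J.IsKInjective := isKInjective_resCx _ B
  let P := (pushCx (f ∣_ U)).obj J
  let c : (DCoh.restrictCx U).obj (((Scheme.Modules.pushforward f).mapHomologicalComplex (ComplexShape.up ℤ)).obj B) ≅ P :=
    ((NatIso.mapHomologicalComplex (baseLocalIso f U) (ComplexShape.up ℤ))).app B
  let η := (DCoh.gammaKh (U : Scheme.{u})).totalRightDerivedUnit DerivedCategory.Qh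
    (HomotopyCategory.quasiIso (U : Scheme.{u}).Modules (ComplexShape.up ℤ))
  let Q := HomotopyCategory.quotient (U : Scheme.{u}).Modules (ComplexShape.up ℤ)
  let I := (kres (U : Scheme.{u})).obj P
  let a : P ⟶ I := (kresAug (U : Scheme.{u})).app P
  haveI : IsIso (η.app (Q.obj I)) :=
    isIso_unit_app (DCoh.gammaAb (U : Scheme.{u})) I
  haveI : IsIso ((DCoh.gammaKh (U : Scheme.{u})).map (Q.map a)) := isIso_gCx_aug (f ∣_ U) J
  haveI : IsIso ((DerivedCategory.Qh ⋙ DCoh.RΓ (U : Scheme.{u})).map (Q.map a)) := by
    haveI := isIso_L₀_map a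
    exact inferInstanceAs (IsIso ((DCoh.RΓ (U : Scheme.{u})).map ((L₀ (U : Scheme.{u})).map a)))
  haveI : IsIso (η.app (Q.obj P)) := by
    have h := η.naturality (Q.map a)
    haveI : IsIso (η.app (Q.obj P) ≫ (DerivedCategory.Qh ⋙ DCoh.RΓ (U : Scheme.{u})).map (Q.map a)) := by
      rw [← h]; infer_instance
    exact IsIso.of_isIso_comp_right _ ((DerivedCategory.Qh ⋙ DCoh.RΓ (U : Scheme.{u})).map (Q.map a))
  exact (NatTrans.isIso_app_iff_of_iso η (Q.mapIso c)).2 inferInstance

end Groth.Agent.S11124
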