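import Groth.Statements.S11129
import Groth.Agent.QCohMod.QCohCatBasic
import Groth.Agent.QCohMod.Coherent
import Groth.Agent.CohTwo.CohSub
import Mathlib.CategoryTheory.Subobject.NoetherianObject

set_option autoImplicit false
universe u
open CategoryTheory AlgebraicGeometry
open QCohCat

namespace Groth.Agent.S11129

open Groth.QCohMod Limits

/-- On a noetherian scheme, a finite affine cover. -/
lemma exists_cover (Y : Scheme.{u}) [IsNoetherian Y] :
    ∃ (J : Type u) (_ : Finite J) (W : J → Y.Opens),
      (∀ j, IsAffineOpen (W j)) ∧ (∀ x, ∃ j, x ∈ W j) :=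
  ⟨_, inferInstance, fun j ↦ (Y.affineCover.finiteSubcover.f j).opensRange,
    fun j ↦ isAffineOpen_opensRange _, fun x ↦ ⟨_, Y.affineCover.finiteSubcover.covers x⟩⟩

/-- For a noetherian scheme Y, an object M of the category QCoh(O_Y) of quasi-coherent O_Y-modules (a
full subcategory of all O_Y-modules) is a noetherian object of that category if and only if M is
coherent (quasi-coherent of finite type). (The published statement also records that QCoh(O_Y) is a
locally noetherian category; only the characterisation of its noetherian objects is stated here.) -/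
theorem result (Y : Scheme.{u}) [IsNoetherian Y] (M : QCohCat.QCoh Y) :
    IsNoetherianObject M ↔ Coh.IsCoh M.obj := by
  obtain ⟨J, hJ, W, hW, hcov⟩ := exists_cover Y
  have hsup : iSup W = ⊤ := TopologicalSpace.Opens.ext (Set.eq_univ_of_forall fun x ↦
    TopologicalSpace.Opens.mem_iSup.mpr (hcov x))
  constructor
  · intro hN
    let S : Set (Subobject M) := {P | Coh.IsCoh (P : QCohCat.QCoh Y).obj}
    obtain ⟨K₀, i₀, hi₀, hK₀, -⟩ := Groth.CohTwo.exists_coh_sub M.obj W hW hcov (fun _ ↦ ∅)
    have : ∀ (K : Y.Modules) (i : K ⟶ M.obj) [Mono i] (hK : Coh.IsCoh K), ∃ P ∈ S,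
        ∀ U, Set.range (i.app U) ⊆ Set.range (P.arrow.hom.app U) := by
      intro K i _ hK
      haveI := hK.1
      let k : toQCoh K ⟶ M := ObjectProperty.homMk i
      haveI : Mono k := mono_homMk (M := toQCoh K) i
      refine ⟨Subobject.mk k, isCoh_of_iso
        ((QCohCat.isQCoh Y).ι.mapIso (Subobject.underlyingIso k).symm) hK, fun U ↦ ?_⟩
      rintro _ ⟨a, rfl⟩
      refine ⟨(Subobject.underlyingIso k).inv.hom.app U a, ?_⟩
      have := congr($(Subobject.underlyingIso_arrow k).hom.app U a)
      exact this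
    have hne : S.Nonempty := ⟨_, (this K₀ i₀ hK₀).choose_spec.1⟩
    obtain ⟨P, hP, hmax⟩ := (wellFounded_gt (α := Subobject M)).has_min S hne
    suffices hall : ∀ j, Function.Surjective (P.arrow.hom.app (W j)) by
      haveI := Groth.Ega2Proj.isIso_of_affine_cover P.arrow.hom W hW hsup fun j ↦
        ⟨app_injective_of_mono _ _, hall j⟩
      exact isCoh_of_iso (asIso P.arrow.hom) hP
    intro j s
    classical
    have hft : ∀ j', ∃ G : Finset Γ(M.obj, W j'),
        Set.range (P.arrow.hom.app (W j')) ⊆ Submodule.span Γ(Y, W j') (G : Set Γ(M.obj, W j')) := by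
      intro j'
      haveI := hP.1
      obtain ⟨G, hG⟩ := (finite_sections _ hP.2 (hW j')).fg_top
      refine ⟨G.image (P.arrow.hom.app (W j')), ?_⟩
      rintro _ ⟨a, rfl⟩
      have ha : a ∈ Submodule.span Γ(Y, W j') (G : Set _) := hG ▸ Submodule.mem_top
      rw [Finset.coe_image]
      exact (Submodule.map_span (appₗ P.arrow.hom (W j')) (G : Set _)).le
        (Submodule.mem_map_of_mem ha)
    choose G hG using hft
    obtain ⟨K, i, hi, hK, hKS⟩ := Groth.CohTwo.exists_coh_sub M.obj W hW hcov
      (Function.update G j (insert s (G j)))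
    obtain ⟨Q, hQ, hiQ⟩ := this K i hK
    have hsub : ∀ j', Set.range (P.arrow.hom.app (W j')) ⊆ Set.range (Q.arrow.hom.app (W j')) := by
      intro j'
      refine (hG j').trans ?_
      intro b hb
      exact (Submodule.span_le (p := LinearMap.range (appₗ Q.arrow.hom (W j')))).mpr
        (fun g hg ↦ hiQ _ (hKS j' g (by
          rcases eq_or_ne j' j with rfl | hj
          · rw [Function.update_self]; exact Finset.mem_insert_of_mem hg
          · rwa [Function.update_of_ne hj]))) hb
    have hle : P ≤ Q := by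
      obtain ⟨t, ht⟩ := exists_lift_of_cover P.arrow.hom Q.arrow.hom W hW hsup hsub
      exact Subobject.le_of_comm (ObjectProperty.homMk t) (ObjectProperty.hom_ext _ ht)
    rcases hle.eq_or_lt with rfl | hlt
    · exact hiQ _ (hKS j s (by rw [Function.update_self]; exact Finset.mem_insert_self _ _))
    · exact absurd hlt (hmax Q hQ)
  · intro hM
    rw [isNoetherianObject_iff_monotone_chain_condition]
    intro f
    have hst : ∀ j, ∃ n, ∀ m, n ≤ m →
        Set.range ((f m).arrow.hom.app (W j)) ⊆ Set.range ((f n).arrow.hom.app (W j)) := by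
      intro j
      haveI := hM.1
      haveI := finite_sections _ hM.2 (hW j)
      haveI : IsNoetherianRing Γ(Y, W j) := IsLocallyNoetherian.component_noetherian ⟨W j, hW j⟩
      let g : ℕ →o Submodule Γ(Y, W j) Γ(M.obj, W j) :=
        ⟨fun n ↦ LinearMap.range (appₗ (f n).arrow.hom (W j)), fun a b hab ↦ by
          rintro _ ⟨x, rfl⟩
          exact ⟨(Subobject.ofLE _ _ (f.2 hab)).hom.app (W j) x,
            congr($(Subobject.ofLE_arrow (f.2 hab)).hom.app (W j) x)⟩⟩
      obtain ⟨n, hn⟩ := monotone_stabilizes_iff_noetherian.mpr inferInstance g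
      exact ⟨n, fun m hm ↦ (congrArg SetLike.coe (hn m hm)).ge⟩
    choose n hn using hst
    haveI := Fintype.ofFinite J
    refine ⟨Finset.univ.sup n, fun m hm ↦ subobject_eq_of_range_eq (f.2 hm) W hW hsup fun j ↦ ?_⟩
    refine (hn j m ((Finset.le_sup (Finset.mem_univ j)).trans hm)).trans ?_
    rintro _ ⟨x, rfl⟩
    exact ⟨(Subobject.ofLE _ _ (f.2 (Finset.le_sup (Finset.mem_univ j)))).hom.app (W j) x,
      congr($(Subobject.ofLE_arrow (f.2 (Finset.le_sup (Finset.mem_univ j)))).hom.app (W j) x)⟩

end Groth.Agent.S11129
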