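import Groth.Statements.S1113
import Groth.Agent.AbSub.TruncFactor

set_option autoImplicit false
universe w v u
open CategoryTheory CategoryTheory.Limits
open CohDer

namespace Groth.Agent.S1113

/-- Let K : ℕᵒᵖ ⥤ CochainComplex A ℤ be a sequence of cochain maps … → K₂ → K₁ → K₀ in an abelian
category with Hⁱ(K₀) = 0 for i < 0 and such that for every j < n the map Hʲ(Kⱼ₊₁) → Hʲ(Kⱼ) is zero.
Then in the derived category the composite Kₙ → K₀ factors through the canonical truncation Kₙ →
τ_{≥ n}Kₙ. -/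
theorem result {A : Type u} [Category.{v} A] [Abelian A] [HasDerivedCategory.{w} A]
    (K : ℕᵒᵖ ⥤ CochainComplex A ℤ) (n : ℕ)
    (h0 : ∀ i : ℤ, i < 0 → IsZero ((K.obj (Opposite.op 0)).homology i))
    (hz : ∀ j : ℕ, j < n → HomologicalComplex.homologyMap (K.map (homOfLE (Nat.le_succ j)).op) (j : ℤ) = 0) :
    ∃ φ : DerivedCategory.Q.obj ((K.obj (Opposite.op n)).truncGE (n : ℤ)) ⟶ DerivedCategory.Q.obj (K.obj (Opposite.op 0)),
      DerivedCategory.Q.map ((K.obj (Opposite.op n)).πTruncGE (n : ℤ)) ≫ φ = DerivedCategory.Q.map (K.map (homOfLE (Nat.zero_le n)).op) := by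
  induction n with
  | zero =>
    have : (K.obj (Opposite.op 0)).IsGE 0 := by
      rw [CochainComplex.isGE_iff]
      intro i hi
      rw [HomologicalComplex.exactAt_iff_isZero_homology]
      exact h0 i hi
    have : QuasiIso ((K.obj (Opposite.op 0)).πTruncGE ((0 : ℕ) : ℤ)) := by
      rw [CochainComplex.quasiIso_πTruncGE_iff]; simpa using this
    have : IsIso (DerivedCategory.Q.map ((K.obj (Opposite.op 0)).πTruncGE ((0 : ℕ) : ℤ))) :=
      inferInstance
    refine ⟨inv (DerivedCategory.Q.map ((K.obj (Opposite.op 0)).πTruncGE ((0 : ℕ) : ℤ))), ?_⟩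
    rw [IsIso.hom_inv_id, show (homOfLE (Nat.zero_le 0)).op = 𝟙 _ from rfl, K.map_id, DerivedCategory.Q.map_id]
  | succ n ih =>
    obtain ⟨φ, hφ⟩ := ih (fun j hj => hz j (by omega))
    let L := K.obj (Opposite.op (n + 1))
    let f : L ⟶ K.obj (Opposite.op n) := K.map (homOfLE (Nat.le_succ n)).op
    let m := CochainComplex.truncGEMap f (n : ℤ)
    have hm : HomologicalComplex.homologyMap m (n : ℤ) = 0 := by
      have : QuasiIsoAt (L.πTruncGE (n : ℤ)) (n : ℤ) := L.quasiIsoAt_πTruncGE _ _ le_rfl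
      have h := congrArg (fun t => HomologicalComplex.homologyMap t (n : ℤ))
        (CochainComplex.πTruncGE_naturality f (n : ℤ))
      rw [HomologicalComplex.homologyMap_comp, HomologicalComplex.homologyMap_comp,
        hz n (Nat.lt_succ_self n), zero_comp] at h
      exact (cancel_epi (HomologicalComplex.homologyMap (L.πTruncGE (n : ℤ)) (n : ℤ))).1
        (h.trans comp_zero.symm)
    obtain ⟨ψ, hψ⟩ := Groth.TruncFactor.exists_fac_truncGE (DerivedCategory.Q.map m)
      (n : ℤ) ((n + 1 : ℕ) : ℤ) (by omega)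
      ((Groth.TruncFactor.homology_map_Q_eq_zero_iff m _).2 hm)
    refine ⟨DerivedCategory.Q.map
      (CochainComplex.truncGEMap (L.πTruncGE (n : ℤ)) ((n + 1 : ℕ) : ℤ)) ≫ ψ ≫ φ, ?_⟩
    rw [← Category.assoc, ← Functor.map_comp, CochainComplex.πTruncGE_naturality,
      Functor.map_comp, Category.assoc, reassoc_of% hψ, ← Category.assoc, ← Functor.map_comp,
      CochainComplex.πTruncGE_naturality, Functor.map_comp, Category.assoc, hφ, ← Functor.map_comp,
      ← Functor.map_comp, ← op_comp, homOfLE_comp]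

end Groth.Agent.S1113
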