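import Groth.Statements.S11130
import Groth.Agent.DescentBase.QCohFpqc

set_option autoImplicit false
universe u
open CategoryTheory AlgebraicGeometry
open Desc

namespace Groth.Agent.S11130

/-- Let f : X → Y be a flat, surjective and quasi-compact morphism of schemes and M any O_Y-module. Then
M is quasi-coherent if and only if the pullback f^*M is quasi-coherent. -/
theorem result {X Y : Scheme.{u}} (f : X ⟶ Y)
    [Flat f] [Surjective f] [QuasiCompact f] (M : Y.Modules) :
    Coh.IsQCoh M ↔ Coh.IsQCoh ((Scheme.Modules.pullback f).obj M) := by
  refine ⟨fun h => ?_, Groth.DescentBase.QCohFpqc.isQCoh_of_pullback f M⟩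
  haveI : M.IsQuasicoherent := h
  exact Groth.QCohMod.isQCoh_pullback_obj f M

end Groth.Agent.S11130
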