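import Groth.Statements.S11131
import Groth.Agent.S6160
import Groth.Agent.SiteCohomology.ModulesGrothendieck

set_option autoImplicit false
universe u
open CategoryTheory
open ModSite

namespace Groth.Agent.S11131

open CategoryTheory.Limits

/-- Let F : C ⥤ D be a functor between small sites which preserves coverings, is continuous
(precomposition with F preserves sheaves) and is cocontinuous (every covering of F y is refined by
the image of a covering of y). For sheaves of rings S on C and R on D and a ring map φ : S ⟶ F_* R,
the restriction functor from sheaves of R-modules to sheaves of S-modules (precompose with F,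
restrict scalars along φ) is a left adjoint. (The published statement asks the functor to send
coverings to coverings and to preserve fibre products of members of a covering, takes commutative
structure sheaves, and also asserts that restriction commutes with sheafification of presheaves of
modules; this row assumes only that restriction along the functor preserves sheaves, that coverings
go to coverings and that the functor is cocontinuous, and states only that the right adjoint
exists.) -/
theorem result
    {C : Type u} [SmallCategory C] {D : Type u} [SmallCategory D]
    (J : GrothendieckTopology C) (K : GrothendieckTopology D) (F : C ⥤ D)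
    [F.IsContinuous J K] (hF : CoverPreserving J K F) [F.IsCocontinuous J K]
    {S : Sheaf J RingCat.{u}} {R : Sheaf K RingCat.{u}}
    (φ : S ⟶ (F.sheafPushforwardContinuous RingCat.{u} J K).obj R) :
    (SheafOfModules.pushforward.{u} φ).IsLeftAdjoint := by
  have := Groth.Agent.S6160.reflIso R
  have := Groth.Agent.S6160.reflIso S
  have hS : PreservesColimitsOfSize.{u, u} (SheafOfModules.toSheaf.{u} S) :=
    ⟨fun {W} _ => Groth.QCohMod.preservesColimitsOfShape_toSheaf S W⟩
  have hR : PreservesColimitsOfSize.{u, u} (SheafOfModules.toSheaf.{u} R) :=
    ⟨fun {W} _ => Groth.QCohMod.preservesColimitsOfShape_toSheaf R W⟩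
  have : (F.sheafPushforwardContinuous AddCommGrpCat.{u} J K).IsLeftAdjoint :=
    (F.sheafAdjunctionCocontinuous AddCommGrpCat.{u} J K).isLeftAdjoint
  have e : SheafOfModules.pushforward.{u} φ ⋙ SheafOfModules.toSheaf.{u} S ≅
      SheafOfModules.toSheaf.{u} R ⋙ F.sheafPushforwardContinuous AddCommGrpCat.{u} J K := Iso.refl _
  have : PreservesColimitsOfSize.{u, u} (SheafOfModules.pushforward.{u} φ ⋙ SheafOfModules.toSheaf.{u} S) :=
    preservesColimits_of_natIso e.symm
  have : ReflectsColimitsOfSize.{u, u} (SheafOfModules.toSheaf.{u} S) := reflectsColimits_of_reflectsIsomorphisms
  have : PreservesColimitsOfSize.{u, u} (SheafOfModules.pushforward.{u} φ) :=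
    preservesColimits_of_reflects_of_preserves _ (SheafOfModules.toSheaf.{u} S)
  have : WellPowered.{u} (SheafOfModules.{u} R)ᵒᵖ :=
    @CategoryTheory.Abelian.wellPowered_opposite _ _ _ inferInstance (IsGrothendieckAbelian.wellPowered (SheafOfModules.{u} R))
  exact isLeftAdjoint_of_preservesColimits_of_isSeparating
    ((isSeparator_separator (SheafOfModules.{u} R)) : _) _

end Groth.Agent.S11131
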