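import Groth.Statements.S11134
import Groth.Agent.SitesTopoi.Mod.KFlat

set_option autoImplicit false
universe u
open CategoryTheory
open ModSite

namespace Groth.Agent.S11134

/-- On a small ringed site (C, J, O) with commutative O, for every object x of C the module O_x =
j_{x!}(O restricted to C/x), placed in degree 0 as a cochain complex, is K-flat. -/
theorem result {C : Type u} [SmallCategory C] {J : GrothendieckTopology C}
    (O : Sheaf J CommRingCat.{u}) (x : C) :
    ModSite.IsKFlat ((CochainComplex.singleFunctor (ModSite.Mod O) 0).obj (ModSite.freeOn O x)) := by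
  open Groth.SitesTopoi.KFlatSite Groth.DerivedCoh in
    rw [isKFlat_iff]
    refine KFlat.isKFlat_of_flat (T O) _ 0 (fun q hq => HomologicalComplex.isZero_single_obj_X _ _ _ _ (by omega)) fun q => flat_of_isFlat ?_
    rcases eq_or_ne q 0 with rfl | hq
    · exact Groth.SitesTopoi.ModH.isFlat_of_iso (HomologicalComplex.singleObjXSelf _ _ _).symm (Groth.SitesTopoi.ModH.isFlat_freeOn O x)
    · exact isFlat_of_isZero (HomologicalComplex.isZero_single_obj_X _ _ _ _ hq)

end Groth.Agent.S11134
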