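import Groth.Statements.S11136
import Mathlib.RingTheory.Invariant.Basic
import Mathlib.RingTheory.Spectrum.Prime.Noetherian

set_option autoImplicit false
open scoped Pointwise

universe u v
open InvTh

namespace Groth.Agent.S11136

/-- Let a finite group G act on a Noetherian commutative ring R by ring automorphisms, with ring of
invariants A (A → R injective with image the fixed elements). When the prime spectrum of A is
connected, any two connected components of Spec R are exchanged by some element of G: for all points
x, y of Spec R there is g in G whose induced self-map of Spec R carries the connected component of x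
onto the connected component of y. -/
theorem result
    (A : Type u) (R : Type v) [CommRing A] [CommRing R] [Algebra A R] [IsNoetherianRing R]
    (G : Type u) [Group G] [Finite G] [MulSemiringAction G R] [SMulCommClass G A R]
    [Algebra.IsInvariant A R G] [FaithfulSMul A R]
    [ConnectedSpace (PrimeSpectrum A)] (x y : PrimeSpectrum R) :
    ∃ g : G, PrimeSpectrum.comap (MulSemiringAction.toRingHom G R g) '' connectedComponent x =
      connectedComponent y := by
  classical
  let T : G → PrimeSpectrum R → PrimeSpectrum R := fun g ↦ PrimeSpectrum.comap (MulSemiringAction.toRingHom G R g)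
  have hT : ∀ g, Continuous (T g) := fun g ↦ PrimeSpectrum.continuous_comap _
  have hTT : ∀ (g h : G) p, T g (T h p) = T (h * g) p := fun g h p ↦ by
    ext z
    simp [T, mul_smul]
  have hT1 : ∀ p, T 1 p = p := fun p ↦ by ext z; simp [T]
  have himg : ∀ g p, T g '' connectedComponent p = connectedComponent (T g p) := fun g p ↦ by
    refine le_antisymm ((hT g).image_connectedComponent_subset p) fun q hq ↦ ⟨T g⁻¹ q, ?_, ?_⟩
    · have := (hT g⁻¹).image_connectedComponent_subset (T g p) (Set.mem_image_of_mem _ hq)
      rwa [hTT, mul_inv_cancel, hT1] at this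
    · rw [hTT, inv_mul_cancel, hT1]
  set C := connectedComponent x
  have hCo : IsOpen C := by
    rw [← isClosed_compl_iff]
    have : Cᶜ = ⋃ Z ∈ {Z ∈ irreducibleComponents (PrimeSpectrum R) | Z ⊆ Cᶜ}, Z := by
      ext q
      refine ⟨fun hq ↦ ?_, fun hq ↦ ?_⟩
      · refine Set.mem_biUnion ⟨irreducibleComponent_mem_irreducibleComponents q, fun z hz hzC ↦ hq ?_⟩
          mem_irreducibleComponent
        have e1 := connectedComponent_eq (irreducibleComponent_subset_connectedComponent hz)
        have e2 := connectedComponent_eq hzC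
        change q ∈ connectedComponent x
        rw [e2, ← e1]
        exact mem_connectedComponent
      · obtain ⟨Z, hZ, hqZ⟩ := Set.mem_iUnion₂.mp hq
        exact hZ.2 hqZ
    rw [this]
    exact (TopologicalSpace.NoetherianSpace.finite_irreducibleComponents.subset fun Z h ↦ h.1).isClosed_biUnion
      fun Z hZ ↦ isClosed_of_mem_irreducibleComponents Z hZ.1
  set U := ⋃ g : G, T g '' C with hU
  have hUc : IsClosed U := isClosed_iUnion_of_finite fun g ↦ by rw [himg]; exact isClosed_connectedComponent
  have hUo : IsOpen U := isOpen_iUnion fun g ↦ by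
    have : T g '' C = T g⁻¹ ⁻¹' C := by
      ext q
      refine ⟨?_, fun hq ↦ ⟨_, hq, by rw [hTT, inv_mul_cancel, hT1]⟩⟩
      rintro ⟨p, hp, rfl⟩
      rw [Set.mem_preimage, hTT, mul_inv_cancel, hT1]; exact hp
    rw [this]
    exact hCo.preimage (hT _)
  let f := PrimeSpectrum.comap (algebraMap A R)
  have hint := Algebra.IsInvariant.isIntegral A R G
  have hf : IsClosedMap f := PrimeSpectrum.isClosedMap_comap_of_isIntegral _ hint.isIntegral
  have hsur : Function.Surjective f := Algebra.IsIntegral.comap_surjective A R
  have hsep : ∀ p ∈ U, ∀ q, f p = f q → q ∈ U := fun p hp q hpq ↦ by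
    obtain ⟨g, hg⟩ := Algebra.IsInvariant.exists_smul_of_under_eq A R G p.asIdeal q.asIdeal
      (congrArg PrimeSpectrum.asIdeal hpq)
    obtain ⟨h, hh⟩ := Set.mem_iUnion.mp hp
    obtain ⟨c, hc, rfl⟩ := hh
    refine Set.mem_iUnion.mpr ⟨h * g⁻¹, c, hc, ?_⟩
    refine PrimeSpectrum.ext ?_
    rw [hg]
    ext z
    simp [T, Ideal.mem_pointwise_smul_iff_inv_smul_mem, mul_smul]
  have hxU : x ∈ U := Set.mem_iUnion.mpr ⟨1, x, mem_connectedComponent, hT1 x⟩
  have hUuniv : U = Set.univ := by
    have hcl : IsClopen (f '' U) := by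
      refine ⟨hf _ hUc, ?_⟩
      have : f '' U = (f '' Uᶜ)ᶜ := by
        ext a
        refine ⟨?_, fun ha ↦ ?_⟩
        · rintro ⟨p, hp, rfl⟩ ⟨q, hq, hqp⟩
          exact hq (hsep p hp q hqp.symm)
        · obtain ⟨p, rfl⟩ := hsur a
          exact ⟨p, by_contra fun hp ↦ ha ⟨p, hp, rfl⟩, rfl⟩
      rw [this]
      exact (hf _ hUo.isClosed_compl).isOpen_compl
    have huniv := hcl.eq_univ ⟨f x, x, hxU, rfl⟩
    refine Set.eq_univ_of_forall fun q ↦ ?_
    obtain ⟨p, hp, hpq⟩ := huniv.symm ▸ Set.mem_univ (f q)
    exact hsep p hp q hpq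
  obtain ⟨g, hg⟩ := Set.mem_iUnion.mp (hUuniv ▸ Set.mem_univ y)
  refine ⟨g, ?_⟩
  change T g '' C = _
  rw [himg] at hg ⊢
  exact connectedComponent_eq hg

end Groth.Agent.S11136
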