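import Groth.Statements.S11137
import Mathlib.RingTheory.Ideal.GoingDown
import Mathlib.RingTheory.Invariant.Basic

set_option autoImplicit false
open scoped Pointwise

universe u v
open InvTh

namespace Groth.Agent.S11137

/-- Let G be a finite group acting by ring automorphisms on a Noetherian commutative ring R, and let A
be its ring of invariants (A → R injective with image the fixed elements), with R module-finite over
A. Then the going-down property holds for the extension A → R. (The published statement also asserts
that G acts transitively on the primes of R over a given prime of A; this row states only the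
going-down assertion.) -/
theorem result
    (A : Type u) (R : Type v) [CommRing A] [CommRing R] [Algebra A R] [IsNoetherianRing R]
    (G : Type u) [Group G] [Finite G] [MulSemiringAction G R] [SMulCommClass G A R]
    [Algebra.IsInvariant A R G] [FaithfulSMul A R] [Module.Finite A R] :
    Algebra.HasGoingDown A R := by
  have := Algebra.IsInvariant.isIntegral A R G
  refine ⟨fun {p} _ Q _ hpQ ↦ ?_⟩
  have hker : RingHom.ker (algebraMap A R) ≤ p := by
    rw [(RingHom.injective_iff_ker_eq_bot _).mp (FaithfulSMul.algebraMap_injective A R)]; exact bot_le
  obtain ⟨P₀, -, hP₀, hP₀p⟩ := Ideal.exists_ideal_over_prime_of_isIntegral p ⊥ hker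
  obtain ⟨Q', hle, hQ', hQ'q⟩ := Ideal.exists_ideal_over_prime_of_isIntegral (Q.under A) P₀
    (hP₀p.symm ▸ hpQ.le)
  obtain ⟨g, rfl⟩ := Algebra.IsInvariant.exists_smul_of_under_eq A R G Q' Q hQ'q
  exact ⟨g • P₀, Ideal.pointwise_smul_le_pointwise_smul_iff.mpr hle, hP₀.smul g,
    ⟨(hP₀p.symm.trans (Ideal.under_smul A P₀ g).symm)⟩⟩

end Groth.Agent.S11137
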