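import Groth.Statements.S11139
import Groth.Agent.InvTheory.DepthInvariants

set_option autoImplicit false
universe u
open TensorProduct
open InvTh

namespace Groth.Agent.S11139

/-- Let k be a field and H a finite-dimensional commutative Hopf algebra over k (the coordinate ring of
a finite k-group scheme G) which is linearly reductive, i.e. every finite-dimensional H-comodule is
semisimple. Let R be a commutative k-algebra of finite type with an H-comodule structure whose
coaction R → R ⊗ H is multiplicative and unital (an action of G on Spec R), and let A be the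
k-subalgebra of invariants, the elements a whose coaction is a ⊗ 1. If the ring R satisfies Serre's
condition (S_r), then (S_r) holds both for R viewed as a module over A and for the ring A itself. -/
theorem result (k : Type u) [Field k]
    (H : Type u) [CommRing H] [HopfAlgebra k H] [Module.Finite k H] (hG : HopfRep.IsLinearlyReductive k H)
    (R : Type u) [CommRing R] [Algebra k R] [Algebra.FiniteType k R] [HopfRep.Comod k H R]
    (hmul : ∀ x y : R, HopfRep.Comod.coact (k := k) (A := H) (x * y) =
        HopfRep.Comod.coact (k := k) (A := H) x * HopfRep.Comod.coact (k := k) (A := H) y)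
    (hone : HopfRep.Comod.coact (k := k) (A := H) (1 : R) = 1)
    (A : Subalgebra k R)
    (hA : ∀ a : R, a ∈ A ↔ HopfRep.Comod.coact (k := k) (A := H) a = a ⊗ₜ[k] (1 : H))
    (r : ℕ) (hR : LocCoh.HasSk r R R) :
    LocCoh.HasSk r A R ∧ LocCoh.HasSk r A A := by
  classical
  have := Groth.InvTheory.finite_invariants hmul hone hA
  have := Groth.InvTheory.finiteType_invariants hmul hone hA
  have : IsNoetherianRing A := Algebra.FiniteType.isNoetherianRing k A
  have : IsNoetherianRing R := Algebra.FiniteType.isNoetherianRing k R
  have hsd : ∀ (T : Type u) [CommRing T] (P : Ideal T) [P.IsPrime],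
      Module.supportDim (Localization.AtPrime P) (LocalizedModule P.primeCompl T) = P.height := fun T _ P _ ↦ by
    have h : Module.supportDim (Localization.AtPrime P) (LocalizedModule P.primeCompl T) =
        ringKrullDim (Localization.AtPrime P) := Module.supportDim_self_eq_ringKrullDim _
    rw [h, IsLocalization.AtPrime.ringKrullDim_eq_height P (Localization.AtPrime P)]
  have hle : ∀ (p : Ideal A) [p.IsPrime],
      Module.supportDim (Localization.AtPrime p) (LocalizedModule p.primeCompl R) ≤ p.height := fun p _ ↦ by
    rw [← IsLocalization.AtPrime.ringKrullDim_eq_height p (Localization.AtPrime p)]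
    exact Module.supportDim_le_ringKrullDim _ _
  have main : ∀ (p : Ideal A) [p.IsPrime],
      min (r : ℕ∞) p.height ≤ LocCoh.depth (Localization.AtPrime p) (LocalizedModule p.primeCompl R) ∧
      min (r : ℕ∞) p.height ≤ LocCoh.depth (Localization.AtPrime p) (LocalizedModule p.primeCompl A) := fun p _ ↦ by
    obtain ⟨n, hn⟩ := ENat.ne_top_iff_exists.mp (ne_top_of_le_ne_top (ENat.natCast_ne_top r) (min_le_left (r : ℕ∞) p.height))
    rw [← hn]
    refine Groth.InvTheory.le_depth_invariants hG hmul hone hA p n fun q _ hq ↦ ?_
    have h1 := hR q
    rw [hsd, ← WithBot.coe_natCast, ← WithBot.coe_min, WithBot.coe_le_coe] at h1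
    refine le_trans ?_ h1
    rw [hn, ← Groth.InvTheory.height_comap_invariants hmul hone hA q]
    exact min_le_min_left _ (Ideal.height_mono hq)
  refine ⟨fun p _ ↦ ?_, fun p _ ↦ ?_⟩
  · refine (min_le_min_left _ (hle p)).trans ?_
    rw [← WithBot.coe_natCast, ← WithBot.coe_min, WithBot.coe_le_coe]
    exact (main p).1
  · rw [hsd, ← WithBot.coe_natCast, ← WithBot.coe_min, WithBot.coe_le_coe]
    exact (main p).2

end Groth.Agent.S11139
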