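import Groth.Statements.S11140
import Groth.Agent.InvTheory.DepthInvariants

set_option autoImplicit false
universe u
open TensorProduct
open InvTh

namespace Groth.Agent.S11140

/-- Let k be a field and H a finite-dimensional commutative Hopf algebra over k (the coordinate ring of
a finite k-group scheme G) which is linearly reductive, i.e. every finite-dimensional H-comodule is
semisimple. Let R be a commutative k-algebra of finite type with an H-comodule structure whose
coaction R → R ⊗ H is multiplicative and unital (an action of G on Spec R), and let A be the
k-subalgebra of invariants. If R is a Cohen–Macaulay ring, then so is A, and R is maximal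
Cohen–Macaulay as a module over A: for every prime p of A the localized module R_p over A_p is
Cohen–Macaulay and its support has Krull dimension equal to that of A_p. -/
theorem result (k : Type u) [Field k]
    (H : Type u) [CommRing H] [HopfAlgebra k H] [Module.Finite k H] (hG : HopfRep.IsLinearlyReductive k H)
    (R : Type u) [CommRing R] [Algebra k R] [Algebra.FiniteType k R] [HopfRep.Comod k H R]
    (hmul : ∀ x y : R, HopfRep.Comod.coact (k := k) (A := H) (x * y) =
        HopfRep.Comod.coact (k := k) (A := H) x * HopfRep.Comod.coact (k := k) (A := H) y)
    (hone : HopfRep.Comod.coact (k := k) (A := H) (1 : R) = 1)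
    (A : Subalgebra k R)
    (hA : ∀ a : R, a ∈ A ↔ HopfRep.Comod.coact (k := k) (A := H) a = a ⊗ₜ[k] (1 : H))
    (hR : LocCoh.IsCohenMacaulayRing R) :
    LocCoh.IsCohenMacaulayRing A ∧ ∀ (p : Ideal A) [p.IsPrime],
      LocCoh.IsCohenMacaulayModule (Localization.AtPrime p) (LocalizedModule p.primeCompl R) ∧
        Module.supportDim (Localization.AtPrime p) (LocalizedModule p.primeCompl R) =
          ringKrullDim (Localization.AtPrime p) := by
  classical
  have := Groth.InvTheory.finite_invariants hmul hone hA
  have := Groth.InvTheory.finiteType_invariants hmul hone hA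
  have : IsNoetherianRing A := Algebra.FiniteType.isNoetherianRing k A
  have : IsNoetherianRing R := Algebra.FiniteType.isNoetherianRing k R
  have hsd : ∀ (T : Type u) [CommRing T] (P : Ideal T) [P.IsPrime],
      Module.supportDim (Localization.AtPrime P) (LocalizedModule P.primeCompl T) = P.height := fun T _ P _ ↦ by
    have h : Module.supportDim (Localization.AtPrime P) (LocalizedModule P.primeCompl T) =
        ringKrullDim (Localization.AtPrime P) := Module.supportDim_self_eq_ringKrullDim _
    rw [h, IsLocalization.AtPrime.ringKrullDim_eq_height P (Localization.AtPrime P)]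
  have hle : ∀ (p : Ideal A) [p.IsPrime],
      Module.supportDim (Localization.AtPrime p) (LocalizedModule p.primeCompl R) ≤ p.height := fun p _ ↦ by
    rw [← IsLocalization.AtPrime.ringKrullDim_eq_height p (Localization.AtPrime p)]
    exact Module.supportDim_le_ringKrullDim _ _
  have hdep : ∀ (T : Type u) [CommRing T] (P : Ideal T) [P.IsPrime], IsNoetherianRing T →
      LocCoh.depth (Localization.AtPrime P) (LocalizedModule P.primeCompl T) =
        LocCoh.depth (Localization.AtPrime P) (Localization.AtPrime P) := fun T _ P _ _ ↦ rfl
  have hRd : ∀ (q : Ideal R) [q.IsPrime],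
      LocCoh.depth (Localization.AtPrime q) (LocalizedModule q.primeCompl R) = q.height := fun q _ ↦ by
    rw [hdep R q inferInstance]
    have h := (hR.isCohenMacaulayLocalRing_localization q).supportDim_eq_depth
    rw [Module.supportDim_self_eq_ringKrullDim, IsLocalization.AtPrime.ringKrullDim_eq_height q] at h
    exact (WithBot.coe_inj.mp h).symm
  have main : ∀ (p : Ideal A) [p.IsPrime],
      p.height ≤ LocCoh.depth (Localization.AtPrime p) (LocalizedModule p.primeCompl R) ∧
      p.height ≤ LocCoh.depth (Localization.AtPrime p) (LocalizedModule p.primeCompl A) := fun p _ ↦ by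
    obtain ⟨n, hn⟩ := ENat.ne_top_iff_exists.mp (Ideal.height_ne_top (I := p) (Ideal.IsPrime.ne_top ‹_›))
    rw [← hn]
    refine Groth.InvTheory.le_depth_invariants hG hmul hone hA p n fun q _ hq ↦ ?_
    rw [hn, hRd, ← Groth.InvTheory.height_comap_invariants hmul hone hA q]
    exact Ideal.height_mono hq
  refine ⟨{ isCohenMacaulayLocalRing_localization := fun p _ ↦
      { supportDim_eq_depth := ?_ } }, fun p _ ↦ ?_⟩
  · have h2 := WithBot.coe_le_coe.mpr (main p).2
    rw [hdep A p inferInstance] at h2
    refine le_antisymm ?_ (Groth.LocCohBase.depth_le_supportDim _)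
    rw [Module.supportDim_self_eq_ringKrullDim, IsLocalization.AtPrime.ringKrullDim_eq_height p]
    exact h2
  · have : Nontrivial (LocalizedModule p.primeCompl R) := by
      refine Function.Injective.nontrivial (α := LocalizedModule p.primeCompl A)
        (LocalizedModule.map_injective p.primeCompl (Algebra.linearMap A R) Subtype.coe_injective)
    have h1 := Groth.LocCohBase.depth_le_supportDim (R := Localization.AtPrime p) (LocalizedModule p.primeCompl R)
    have h2 := WithBot.coe_le_coe.mpr (main p).1
    have h3 : Module.supportDim (Localization.AtPrime p) (LocalizedModule p.primeCompl R) = p.height :=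
      le_antisymm (hle p) (h2.trans h1)
    refine ⟨le_antisymm ((hle p).trans h2) h1, ?_⟩
    rw [h3, IsLocalization.AtPrime.ringKrullDim_eq_height p (Localization.AtPrime p)]

end Groth.Agent.S11140
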