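import Groth.Statements.S11141
import Groth.Agent.InvTheory.EqualizerNormal
import Groth.Agent.InvTheory.Shear
import Mathlib.LinearAlgebra.Dimension.Free

set_option autoImplicit false
universe u
open TensorProduct
open InvTh

namespace Groth.Agent.S11141

/-- Let k be a field, H a finitely generated commutative Hopf algebra over k (the coordinate ring of a
group scheme affine and of finite type over k), and S a commutative k-algebra which is
ring-isomorphic to a finite product of normal (integrally closed) domains and carries an H-comodule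
structure whose coaction S → S ⊗ H is multiplicative and unital. Then the k-subalgebra of invariants
of S, the elements s whose coaction is s ⊗ 1, is again ring-isomorphic to a finite product of normal
domains. -/
theorem result (k : Type u) [Field k]
    (H : Type u) [CommRing H] [HopfAlgebra k H] [Algebra.FiniteType k H]
    (S : Type u) [CommRing S] [Algebra k S] [HopfRep.Comod k H S]
    (hmul : ∀ x y : S, HopfRep.Comod.coact (k := k) (A := H) (x * y) =
        HopfRep.Comod.coact (k := k) (A := H) x * HopfRep.Comod.coact (k := k) (A := H) y)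
    (hone : HopfRep.Comod.coact (k := k) (A := H) (1 : S) = 1)
    {ι : Type u} [Fintype ι] (D : ι → Type u) [∀ i, CommRing (D i)] [∀ i, IsDomain (D i)]
    [∀ i, IsIntegrallyClosed (D i)] (e : S ≃+* Π i, D i)
    (A : Subalgebra k S)
    (hA : ∀ a : S, a ∈ A ↔ HopfRep.Comod.coact (k := k) (A := H) a = a ⊗ₜ[k] (1 : H)) :
    ∃ (κ : Type u) (_ : Fintype κ) (E : κ → Type u) (_ : ∀ j, CommRing (E j)) (_ : ∀ j, IsDomain (E j))
      (_ : ∀ j, IsIntegrallyClosed (E j)), Nonempty (A ≃+* Π j, E j) := by
  let c : S →+* S ⊗[k] H := (Groth.InvTheory.coactHom k H S hmul hone).toRingHom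
  let i₀ : S →+* S ⊗[k] H := Algebra.TensorProduct.includeLeftRingHom
  have hc : ∀ s ∈ nonZeroDivisors S, c s ∈ nonZeroDivisors (S ⊗[k] H) := fun s hs ↦
    Groth.InvTheory.coact_mem_nonZeroDivisors k H S hmul hone hs
  have hi : ∀ s ∈ nonZeroDivisors S, i₀ s ∈ nonZeroDivisors (S ⊗[k] H) := fun s hs ↦ by
    refine mem_nonZeroDivisors_iff_left.mpr fun z hz ↦ ?_
    refine Module.Flat.rTensor_preserves_injective_linearMap (M := H) (LinearMap.mulLeft k s)
      (fun x y h ↦ (mul_cancel_left_mem_nonZeroDivisors hs).mp h) ?_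
    rw [map_zero, ← hz]
    clear hz
    induction z using TensorProduct.induction_on with
    | zero => simp
    | add x y hx hy => simp only [map_add, mul_add, hx, hy]
    | tmul x y => simp [i₀]
  let F : Set ((Π i, D i) →+* S ⊗[k] H) := {c.comp e.symm.toRingHom, i₀.comp e.symm.toRingHom}
  have hnzd : ∀ d ∈ nonZeroDivisors (Π i, D i), e.symm d ∈ nonZeroDivisors S := fun d hd ↦
    mem_nonZeroDivisors_iff_right.mpr fun x hx ↦ e.injective (by
      rw [map_zero]
      refine mem_nonZeroDivisors_iff_right.mp hd _ ?_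
      have := congrArg e hx
      rwa [map_mul, e.apply_symm_apply, map_zero] at this)
  have hF : ∀ f ∈ F, ∀ d ∈ nonZeroDivisors (Π i, D i), f d ∈ nonZeroDivisors (S ⊗[k] H) := by
    rintro f (rfl | rfl) d hd
    · exact hc _ (hnzd d hd)
    · exact hi _ (hnzd d hd)
  let A' : Subring (Π i, D i) := A.toSubring.map e.toRingHom
  have hA' : ∀ a, a ∈ A' ↔ ∀ f ∈ F, ∀ f' ∈ F, f a = f' a := fun a ↦ by
    have : a ∈ A' ↔ c (e.symm a) = i₀ (e.symm a) := by
      refine Iff.trans ?_ (hA (e.symm a))
      exact ⟨fun ⟨x, hx, hxa⟩ ↦ by rw [← hxa]; simpa using hx, fun h ↦ ⟨_, h, e.apply_symm_apply a⟩⟩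
    rw [this]
    refine ⟨fun h ↦ ?_, fun h ↦ h _ (Or.inl rfl) _ (Or.inr rfl)⟩
    rintro f (rfl | rfl) f' (rfl | rfl)
    exacts [rfl, h, h.symm, rfl]
  obtain ⟨κ, hκ, E, hE, hd, hn, ⟨iso⟩⟩ := Groth.InvTheory.exists_pi_normal_of_saturated A'
    (Groth.InvTheory.isSaturated_equalizer F hF A' hA')
  exact ⟨κ, hκ, E, hE, hd, hn, ⟨(e.subringMap (s := A.toSubring)).trans iso⟩⟩

end Groth.Agent.S11141
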