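import Groth.Statements.S5798
import Groth.Agent.SpectralTopology.Dim

set_option autoImplicit false
universe u
open TopDim

namespace Groth.Agent.S5798
open Groth.SpectralTopology Topology TopologicalSpace

/-- If (U_i) is an open covering of a topological space X, then dim(X) = sup_i dim(U_i). -/
theorem result (X : Type u) [TopologicalSpace X] (ι : Type u)
    (U : ι → TopologicalSpace.Opens X) (hcov : ⨆ i, U i = ⊤) :
    topologicalKrullDim X = ⨆ i, topologicalKrullDim (U i) := by
  refine le_antisymm (topologicalKrullDim_le_iff.2 fun l ↦ ?_)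
    (iSup_le fun i ↦ topologicalKrullDim_subspace_le X (U i : Set X))
  obtain ⟨x, hx⟩ := l.head.isIrreducible.nonempty
  obtain ⟨i, hi⟩ := TopologicalSpace.Opens.mem_iSup.1 (hcov ▸ TopologicalSpace.Opens.mem_top x)
  exact (length_le_of_head_inter_range (U i).isOpen.isOpenEmbedding_subtypeVal l
    ⟨x, hx, ⟨x, hi⟩, rfl⟩).trans (le_iSup (fun j ↦ topologicalKrullDim (U j)) i)

end Groth.Agent.S5798
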