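import Groth.Statements.S11146
import Groth.Agent.GrpLCI.Group
import Groth.Agent.Dual3Gor.Basic
import Groth.Agent.Gorenstein.LCI
import Groth.Agent.S0342
import Groth.Agent.S0543
import Groth.Agent.S5798

set_option backward.isDefEq.respectTransparency false

universe v

namespace Groth.Agent.S11146
open IsLocalRing

/-- A complete intersection local ring is Gorenstein. -/
theorem isGorenstein_of_ci {A : Type v} [CommRing A] [IsLocalRing A] [IsNoetherianRing A]
    (h : Pi1.IsCompleteIntersection A) : LocCoh.IsGorensteinLocalRing A := by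
  obtain ⟨B, _, _, rs, hmem, hreg, ⟨e⟩⟩ := h
  have hB := (GrothGoren.isGorenstein_iff B).mp (Groth.Agent.S0342.result B)
  obtain hq := GrothGoren.exists_injLT_quotient_ofList _ B rs rfl hmem hreg.toIsWeaklyRegular hB
  let C := AdicCompletion (maximalIdeal A) A
  haveI : IsLocalRing C := inferInstance
  haveI : IsNoetherianRing C := Groth.Agent.S0543.result _ _
  haveI : IsLocalRing (B ⧸ Ideal.span {r | r ∈ rs}) := e.isLocalRing
  have hC : LocCoh.IsGorensteinLocalRing C :=
    Groth.Dual3Gor.isGorenstein_of_ringEquiv e.symm ((GrothGoren.isGorenstein_iff _).mpr hq)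
  haveI : IsLocalHom (algebraMap A C) := by
    refine ((local_hom_TFAE (algebraMap A C)).out 0 2).mpr ?_
    rw [AdicCompletion.maximalIdeal_eq_map]
  exact ((Groth.Dual3Gor.isGorenstein_flat_iff (algebraMap A C)
    (RingHom.flat_algebraMap_iff.2 inferInstance)).1 hC).1

end Groth.Agent.S11146

set_option autoImplicit false
universe u
open CategoryTheory MonoidalCategory CartesianMonoidalCategory MonObj GrpObj AlgebraicGeometry
attribute [local instance] HasDerivedCategory.standard
open GrpSch

namespace Groth.Agent.S11146

/-- Group schemes over Gorenstein rings: let R be a Gorenstein local ring and G a group scheme over Spec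
R which is flat and of finite type over Spec R. Then G is a Gorenstein scheme (locally Noetherian
with all local rings Gorenstein) and has finite Krull dimension. (The published statement concerns
every member of the diagram Spec R ← G ⇇ G ×_R G of the action groupoid, each of which is Spec R or
again a flat finite-type group scheme over Spec R, and adds that O_S[d], for S = Spec R and d the
dimension of R, is then an equivariant dualizing complex; this row states the first assertion for
G.) -/
theorem result (R : Type u) [CommRing R]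
    [LocCoh.IsGorensteinLocalRing R] (G : Over (Spec (CommRingCat.of R))) [GrpObj G] [Flat G.hom]
    [LocallyOfFiniteType G.hom] [QuasiCompact G.hom] :
    Dual3.IsGorenstein G.left ∧ topologicalKrullDim G.left < ⊤ := by
  haveI : IsNoetherianRing R := inferInstance
  haveI : IsLocallyNoetherian G.left := LocallyOfFiniteType.isLocallyNoetherian G.hom
  let S := Spec (CommRingCat.of R)
  refine ⟨⟨inferInstance, fun x => ?_⟩, ?_⟩
  · have hS : LocCoh.IsGorensteinLocalRing (S.presheaf.stalk (G.hom x)) := by
      obtain ⟨n, hn⟩ := (GrothGoren.isGorenstein_iff R).1 inferInstance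
      haveI : LocCoh.IsGorensteinLocalRing (Localization.AtPrime (G.hom x).asIdeal) :=
        (GrothGoren.isGorenstein_iff _).2 ⟨_, GrothGoren.exists_injLT_localization _ hn⟩
      exact Groth.Dual3Gor.isGorenstein_of_ringEquiv
        (StructureSheaf.stalkIso R (G.hom x)).toRingEquiv inferInstance
    obtain ⟨e⟩ := Groth.Flatmor4.exists_fiberStalkEquiv G.hom x
    haveI : IsNoetherianRing (CInt.fiberStalk G.hom x) :=
      isNoetherianRing_of_ringEquiv _ e
    have hf : LocCoh.IsGorensteinLocalRing (CInt.fiberStalk G.hom x) :=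
      Groth.Agent.S11146.isGorenstein_of_ci (Groth.GrpLCI.isCompleteIntersection_fiberStalk G x)
    exact (Groth.Dual3Gor.isGorenstein_flat_iff (G.hom.stalkMap x).hom (Flat.stalkMap G.hom x)).2
      ⟨hS, Groth.Dual3Gor.isGorenstein_of_ringEquiv e.symm hf⟩
  · haveI : CompactSpace G.left := QuasiCompact.compactSpace_of_compactSpace G.hom
    obtain ⟨t, ht⟩ := isCompact_univ.elim_finite_subcover (fun U : G.left.affineOpens => (U.1 : Set G.left))
      (fun U => U.1.isOpen) (fun z _ => by
        obtain ⟨_, ⟨U, hU, rfl⟩, hzU, -⟩ :=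
          G.left.isBasis_affineOpens.exists_subset_of_mem_open (Set.mem_univ z) isOpen_univ
        exact Set.mem_iUnion.2 ⟨⟨U, hU⟩, hzU⟩)
    have key : ∀ U : G.left.affineOpens, ∃ n : ℕ, topologicalKrullDim U.1 ≤ ringKrullDim R + n := by
      intro U
      have hft : (G.hom.appLE ⊤ U.1 (by simp)).hom.FiniteType :=
        LocallyOfFiniteType.finiteType_appLE G.hom (isAffineOpen_top S) U.2 _
      let φ : R →+* Γ(G.left, U.1) :=
        (G.hom.appLE ⊤ U.1 (by simp)).hom.comp (Scheme.ΓSpecIso (CommRingCat.of R)).inv.hom
      have hφ : φ.FiniteType := hft.comp (RingHom.FiniteType.of_surjective _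
        (Scheme.ΓSpecIso (CommRingCat.of R)).symm.commRingCatIsoToRingEquiv.surjective)
      letI := φ.toAlgebra
      haveI : Algebra.FiniteType R Γ(G.left, U.1) := hφ
      obtain ⟨n, f, hf⟩ := Algebra.FiniteType.iff_quotient_mvPolynomial''.1 ‹Algebra.FiniteType R Γ(G.left, U.1)›
      refine ⟨n, ?_⟩
      have h1 : topologicalKrullDim U.1 = ringKrullDim Γ(G.left, U.1) :=
        (U.2.isoSpec.hom.homeomorph.isHomeomorph.topologicalKrullDim_eq).trans
          (PrimeSpectrum.topologicalKrullDim_eq_ringKrullDim _)
      rw [h1]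
      exact (ringKrullDim_le_of_surjective f.toRingHom hf).trans
        (by rw [MvPolynomial.ringKrullDim_of_isNoetherianRing]; simp)
    choose n hn using key
    have hcov : ⨆ i : (t : Set G.left.affineOpens), i.1.1 = ⊤ := by
      refine eq_top_iff.2 fun z _ => ?_
      obtain ⟨U, hUt, hz⟩ := Set.mem_iUnion₂.1 (ht (Set.mem_univ z))
      exact TopologicalSpace.Opens.mem_iSup.2 ⟨⟨U, hUt⟩, hz⟩
    rw [Groth.Agent.S5798.result G.left _ (fun i : (t : Set G.left.affineOpens) => i.1.1) hcov]
    obtain ⟨d, hd⟩ := finiteRingKrullDim_iff_ne_bot_and_top.mp (inferInstance : FiniteRingKrullDim R)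
    refine lt_of_le_of_lt (b := ringKrullDim R + ((t.sum n : ℕ) : WithBot ℕ∞)) (iSup_le fun i => (hn i.1).trans ?_) ?_
    · gcongr
      exact_mod_cast Finset.single_le_sum (fun j _ => Nat.zero_le (n j)) i.2
    · cases h : ringKrullDim R with
      | bot => exact absurd h d
      | coe a =>
        have ha : a ≠ ⊤ := fun ha => hd (by rw [h, ha]; rfl)
        rw [lt_top_iff_ne_top]
        intro hc
        have : a + ((t.sum n : ℕ) : ℕ∞) = ⊤ := WithBot.coe_injective hc
        simp [ha] at this

end Groth.Agent.S11146
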