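import Groth.Statements.S16001
import Groth.Agent.FrobLCI.RelFrob
import Mathlib.RingTheory.Etale.Basic

set_option autoImplicit false
universe u
open FrobAlg

namespace Groth.Agent.S16001

/-- Let A be a commutative ring of prime characteristic p and B a commutative A-algebra of
characteristic p such that the relative Frobenius B ⊗_{A,Frob} A → B, b ⊗ a ↦ b^p a, is bijective
(that is, Spec B → Spec A is relatively perfect; no finiteness condition is imposed). Then B is
formally étale over A. (The source proves that every perfect algebraic stack over an algebraic space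
of characteristic p is formally étale over it; this is the case of an affine scheme over an affine
base.) -/
theorem result (p : ℕ) [Fact p.Prime] (A : Type u) [CommRing A] [CharP A p]
    (B : Type u) [CommRing B] [Algebra A B] [CharP B p]
    (h : Function.Bijective (FrobAlg.relFrob p A B)) : Algebra.FormallyEtale A B := by
  classical
  have hp := (Fact.out : p.Prime)
  rw [Algebra.FormallyEtale.iff_comp_bijective]
  intro C _ _ I hI
  have hC : (p : C) = 0 := by rw [← map_natCast (algebraMap A C), CharP.cast_eq_zero, map_zero]
  refine ⟨fun g₁ g₂ hg => ?_, fun g => ?_⟩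
  · refine AlgHom.ext fun b => ?_
    obtain ⟨z, rfl⟩ := h.2 b
    exact Groth.FrobLCI.RelFrob.eq_on_range hI g₁ g₂
      (fun b => Ideal.Quotient.eq.1 (AlgHom.congr_fun hg b)) z
  · rcases subsingleton_or_nontrivial C with hs | hs
    · exact ⟨{ toFun := fun _ => 0, map_one' := Subsingleton.elim _ _,
               map_mul' := fun _ _ => Subsingleton.elim _ _, map_zero' := rfl,
               map_add' := fun _ _ => Subsingleton.elim _ _, commutes' := fun _ => Subsingleton.elim _ _ },
        AlgHom.ext fun b => Subsingleton.elim _ _⟩
    have hCp : CharP C p := (CharP.charP_iff_prime_eq_zero hp).mpr hC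
    let φ : (C ⧸ I) →+* C := Ideal.Quotient.lift I (frobenius C p) fun x hx => by
      rw [frobenius_def, Groth.FrobLCI.RelFrob.pow_eq_pow_of_sub_mem hC hI
        (show x - 0 ∈ I by rwa [sub_zero]), zero_pow hp.ne_zero]
    have hφ : ∀ c, φ (Ideal.Quotient.mk I c) = c ^ p := fun c => Ideal.Quotient.lift_mk _ _ _
    let f : B →ₐ[A] FrobAlg.Target p A C :=
      { toRingHom := (FrobAlg.toTarget p A C : C →+* FrobAlg.Target p A C).comp (φ.comp g.toRingHom)
        commutes' := fun a => by
          change FrobAlg.toTarget p A C (φ (g (algebraMap A B a))) =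
            FrobAlg.toTarget p A C (algebraMap A C a ^ p)
          rw [AlgHom.commutes, ← Ideal.Quotient.mk_algebraMap, hφ] }
    let L := Algebra.TensorProduct.lift f (FrobAlg.inclHom p A C) (fun _ _ => Commute.all _ _)
    let e := RingEquiv.ofBijective (FrobAlg.relFrob p A B) h
    let G : B →+* C := ((FrobAlg.toTarget p A C).symm : FrobAlg.Target p A C →+* C).comp
      (L.toRingHom.comp (e.symm : B →+* FrobAlg.BaseChange p A B))
    have hG : ∀ b t, G (FrobAlg.relFrob p A B (b ⊗ₜ t)) =
        φ (g b) * algebraMap A C (Groth.FrobLCI.RelFrob.untwist p A t) := fun b t => by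
      have he : e.symm (FrobAlg.relFrob p A B (b ⊗ₜ t)) = b ⊗ₜ t := e.symm_apply_apply (b ⊗ₜ t)
      change (FrobAlg.toTarget p A C).symm (L (e.symm (FrobAlg.relFrob p A B (b ⊗ₜ t)))) = _
      rw [he, Algebra.TensorProduct.lift_tmul, map_mul]
      rfl
    let G' : B →ₐ[A] C :=
      { toRingHom := G
        commutes' := fun a => by
          have := hG 1 (FrobAlg.toTwist p A a)
          rw [map_one, map_one, one_mul, Groth.FrobLCI.RelFrob.relFrob_tmul, one_pow, one_mul] at this
          exact this }
    refine ⟨G', AlgHom.ext fun b => ?_⟩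
    obtain ⟨z, rfl⟩ := h.2 b
    induction z using TensorProduct.induction_on with
    | zero => rw [map_zero, map_zero, map_zero]
    | tmul x t =>
      change Ideal.Quotient.mk I (G _) = g _
      obtain ⟨c, hc⟩ := Ideal.Quotient.mk_surjective (g x)
      rw [hG, ← hc, hφ, map_mul, map_pow, hc, Groth.FrobLCI.RelFrob.relFrob_tmul, map_mul, map_pow,
        AlgHom.commutes, Ideal.Quotient.mk_algebraMap]
    | add x y hx hy => rw [map_add, map_add, hx, hy, map_add]

end Groth.Agent.S16001
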