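import Groth.Statements.S11148
import Groth.Agent.InvTheory.GorensteinInvariants

set_option autoImplicit false
universe u
open InvTh

namespace Groth.Agent.S11148

/-- Let k be a field, G a finite group whose order is invertible in k, and ρ : G → GL_n(k) a group
homomorphism all of whose values have determinant 1. Let G act on the polynomial ring k[X_1, …, X_n]
by ring automorphisms fixing k with g • X_i = Σ_j ρ(g)_{ji} X_j (the induced action on the symmetric
algebra of the representation), and let A be the ring of invariants (A → k[X] injective with image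
the fixed elements). Then A is a Gorenstein ring. (The published statement allows any linearly
reductive finite k-group scheme G with G → GL(V) factoring through SL(V), and also identifies the
canonical module of A with A; this row is the case of a constant group of order invertible in k and
keeps the Gorenstein conclusion.) -/
theorem result (k : Type u) [Field k] (n : ℕ)
    (G : Type u) [Group G] [Finite G] (hG : IsUnit ((Nat.card G : ℕ) : k))
    (ρ : G →* Matrix.GeneralLinearGroup (Fin n) k)
    (hdet : ∀ g : G, Matrix.det ((ρ g : Matrix (Fin n) (Fin n) k)) = 1)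
    [MulSemiringAction G (MvPolynomial (Fin n) k)]
    (hC : ∀ (g : G) (c : k), g • (MvPolynomial.C c : MvPolynomial (Fin n) k) = MvPolynomial.C c)
    (hX : ∀ (g : G) (i : Fin n), g • (MvPolynomial.X i : MvPolynomial (Fin n) k) =
      ∑ j : Fin n, (ρ g : Matrix (Fin n) (Fin n) k) j i • (MvPolynomial.X j : MvPolynomial (Fin n) k))
    (A : Type u) [CommRing A] [Algebra A (MvPolynomial (Fin n) k)]
    [SMulCommClass G A (MvPolynomial (Fin n) k)] [Algebra.IsInvariant A (MvPolynomial (Fin n) k) G]
    [FaithfulSMul A (MvPolynomial (Fin n) k)] :
    LocCoh.IsGorensteinRing A := by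
  have hsc : SMulCommClass G k (MvPolynomial (Fin n) k) := ⟨fun g c p ↦ by
    rw [MvPolynomial.smul_eq_C_mul, MvPolynomial.smul_eq_C_mul, smul_mul', hC]⟩
  have hfix : ∀ c : k, ∃ a : A, algebraMap A (MvPolynomial (Fin n) k) a = MvPolynomial.C c := fun c ↦
    Algebra.IsInvariant.isInvariant (A := A) (G := G) _ (fun g ↦ hC g c)
  choose φ hφ using hfix
  have hinj := FaithfulSMul.algebraMap_injective A (MvPolynomial (Fin n) k)
  let φh : k →+* A :=
    { toFun := φ
      map_one' := hinj (by rw [hφ, map_one, map_one])
      map_mul' := fun a b ↦ hinj (by rw [hφ, map_mul, map_mul, hφ, hφ])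
      map_zero' := hinj (by rw [hφ, map_zero, map_zero])
      map_add' := fun a b ↦ hinj (by rw [hφ, map_add, map_add, hφ, hφ]) }
  letI : Algebra k A := φh.toAlgebra
  haveI : IsScalarTower k A (MvPolynomial (Fin n) k) := IsScalarTower.of_algebraMap_eq fun c ↦ (hφ c).symm
  exact Groth.InvTheory.GorInv.isGorensteinRing_invariants (S := A) hinj hG ρ hdet hX

end Groth.Agent.S11148
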