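import Groth.Statements.S11153
import Groth.Agent.KTheory.BoundedInjective

set_option autoImplicit false
universe w v u
open CategoryTheory CategoryTheory.Limits
open CohDer

namespace Groth.Agent.S11153

/-- (i) ⇔ (iii): let A be an abelian category with enough injectives and K a bounded below cochain
complex of objects of A. Then K admits a quasi-isomorphism into a bounded complex of injective
objects of A if and only if there is an integer n₀ such that Hom_{D(A)}(Y[0], K[i]) = 0 for every
object Y of A and every i > n₀. -/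
theorem result {A : Type u} [Category.{v} A] [Abelian A]
    [HasDerivedCategory.{w} A] [EnoughInjectives A]
    (K : CochainComplex A ℤ) (a : ℤ) [K.IsStrictlyGE a] :
    (∃ (I : CochainComplex A ℤ) (b c : ℤ) (f : K ⟶ I), I.IsStrictlyGE b ∧ I.IsStrictlyLE c ∧
        (∀ n : ℤ, Injective (I.X n)) ∧ QuasiIso f) ↔
      ∃ n₀ : ℤ, ∀ (Y : A) (i : ℤ), n₀ < i →
        ∀ φ : (DerivedCategory.singleFunctor A 0).obj Y ⟶ (DerivedCategory.Q.obj K)⟦i⟧, φ = 0 := by
  open Groth.Agent.BoundedInjective in
  constructor
  · rintro ⟨I, b, c, f, _, _, hI, _⟩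
    have := CochainComplex.isKInjective_of_injective I b
    exact ⟨c, fun Y i hi φ => (van_iff _ i).2 (van_of_isZero I i (I.isZero_of_isStrictlyLE c i hi)
      (asIso (DerivedCategory.Q.map f)).symm) Y φ⟩
  · rintro ⟨n₀, h⟩
    obtain ⟨I, i, _, hI, _⟩ := CochainComplex.Plus.modelCategoryQuillen.exists_quasiIso_injective K a
    have h' : ∀ k, max n₀ a < k → Van (DerivedCategory.Q.obj I) k := fun k hk F φ => by
      let e := asIso (DerivedCategory.Q.map i)
      exact (cancel_mono e.inv).1 (((van_iff _ k).1 (fun F ψ => h F k (lt_of_le_of_lt (le_max_left _ _) hk) ψ)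
        F (φ ≫ e.inv)).trans zero_comp.symm)
    obtain ⟨J, r, _, hJ, hJa, hJb⟩ := exists_trunc I a (max n₀ a)
      (by have := le_max_right n₀ a; omega) hI h'
    exact ⟨J, a, max n₀ a, i ≫ r, hJa, hJb, hJ, inferInstance⟩

end Groth.Agent.S11153
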