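import Groth.Statements.S11159
import Groth.Agent.KTheory.BoundedInjective
import Mathlib.CategoryTheory.Triangulated.TStructure.TruncLTGE

set_option autoImplicit false
universe w v u
open CategoryTheory CategoryTheory.Limits CategoryTheory.Pretriangulated
open CohDer

namespace Groth.Agent.S11159

/-- Let A be an abelian category with enough injectives and X ⟶ Y ⟶ Z ⟶ X⟦1⟧ a distinguished triangle in
D(A). If X and Z are each isomorphic in D(A) to a bounded complex of injective objects of A, then so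
is Y. -/
theorem result {A : Type u} [Category.{v} A] [Abelian A]
    [HasDerivedCategory.{w} A] [EnoughInjectives A]
    (T : Triangle (DerivedCategory A)) (hT : T ∈ distTriang (DerivedCategory A))
    (h₁ : (∃ (I : CochainComplex A ℤ) (b c : ℤ), I.IsStrictlyGE b ∧ I.IsStrictlyLE c ∧
        (∀ n : ℤ, Injective (I.X n)) ∧ Nonempty (T.obj₁ ≅ DerivedCategory.Q.obj I)))
    (h₃ : (∃ (I : CochainComplex A ℤ) (b c : ℤ), I.IsStrictlyGE b ∧ I.IsStrictlyLE c ∧
        (∀ n : ℤ, Injective (I.X n)) ∧ Nonempty (T.obj₃ ≅ DerivedCategory.Q.obj I))) :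
    (∃ (I : CochainComplex A ℤ) (b c : ℤ), I.IsStrictlyGE b ∧ I.IsStrictlyLE c ∧
        (∀ n : ℤ, Injective (I.X n)) ∧ Nonempty (T.obj₂ ≅ DerivedCategory.Q.obj I)) := by
  open Groth.Agent.BoundedInjective in
  obtain ⟨I₁, b₁, c₁, _, _, hI₁, ⟨e₁⟩⟩ := h₁
  obtain ⟨I₃, b₃, c₃, _, _, hI₃, ⟨e₃⟩⟩ := h₃
  have := CochainComplex.isKInjective_of_injective I₁ b₁
  have := CochainComplex.isKInjective_of_injective I₃ b₃
  have g₁ : T.obj₁.IsGE b₁ := DerivedCategory.TStructure.t.isGE_of_iso e₁.symm b₁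
  have g₃ : T.obj₃.IsGE b₃ := DerivedCategory.TStructure.t.isGE_of_iso e₃.symm b₃
  let a := min b₁ b₃
  let b := max a (max c₁ c₃)
  have : T.obj₂.IsGE a := DerivedCategory.TStructure.t.isGE₂ T hT a
    (DerivedCategory.TStructure.t.isGE_of_ge _ a b₁ (min_le_left _ _))
    (DerivedCategory.TStructure.t.isGE_of_ge _ a b₃ (min_le_right _ _))
  have hv : ∀ k, b < k → Van T.obj₂ k := fun k hk F φ => by
    have h1 : c₁ < k := lt_of_le_of_lt ((le_max_left _ _).trans (le_max_right _ _)) hk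
    have h3 : c₃ < k := lt_of_le_of_lt ((le_max_right _ _).trans (le_max_right _ _)) hk
    obtain ⟨ψ, hψ⟩ := T.coyoneda_exact₂ hT φ
      (van_of_isZero I₃ k (I₃.isZero_of_isStrictlyLE c₃ k h3) e₃.symm F (φ ≫ T.mor₂))
    rw [hψ, van_of_isZero I₁ k (I₁.isZero_of_isStrictlyLE c₁ k h1) e₁.symm F ψ, zero_comp]
  obtain ⟨J, hJ, hJa, hJb, ⟨e⟩⟩ := exists_complex T.obj₂ a b (by have := le_max_left a (max c₁ c₃); omega) hv
  exact ⟨J, a, b, hJa, hJb, hJ, ⟨e.symm⟩⟩

end Groth.Agent.S11159
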