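import Groth.Statements.S11164
import Groth.Agent.CohTwo.ColimStalk
import Groth.Agent.CohTwo.ExtZero
import Groth.Agent.CohTwo.TensorBelow

set_option autoImplicit false
universe u
open CategoryTheory CategoryTheory.Limits AlgebraicGeometry
attribute [local instance] HasDerivedCategory.standard
open Coherent

namespace Groth.Agent.S11164

/-- Every O_X-module on a scheme X is a quotient of a flat O_X-module; precisely, for every O_X-module F
there are opens U_i of X and an epimorphism ∐ j_{U_i !} O_{U_i} ⟶ F, and such a direct sum of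
extensions by zero of structure sheaves of opens is flat (all its stalks are flat over the local
rings). -/
theorem result {X : Scheme.{u}} (F : X.Modules) :
    ∃ (ι : Type u) (U : ι → X.Opens) (p : (∐ fun i => CxOX.extZeroUnit (U i).ι) ⟶ F),
      Epi p ∧ FlatMod.IsFlat (∐ fun i => CxOX.extZeroUnit (U i).ι) := by
  classical
  let ι : Type u := Σ U : X.Opens, Γ(F, U.ι.opensRange)
  let φ : ∀ i : ι, Groth.CohTwo.belowO X i.1.ι.opensRange ⟶ F := fun i =>
    (Groth.CohTwo.exists_sectionHom F i.2).choose
  let p : (∐ fun i : ι => CxOX.extZeroUnit i.1.ι) ⟶ F :=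
    Sigma.desc fun i => (Groth.CohTwo.extZeroUnitIso i.1.ι).hom ≫ φ i
  refine ⟨ι, fun i => i.1, p, ⟨fun {G} g h e => Groth.CohTwo.hom_ext_app fun W s => ?_⟩,
    Groth.CohTwo.isFlat_sigma _ fun i => Groth.CohTwo.isFlat_of_iso
      (Groth.CohTwo.extZeroUnitIso _) (Groth.CohTwo.isFlat_below_structureModule _)⟩
  obtain ⟨V, hV⟩ : ∃ V : X.Opens, V.ι.opensRange = W := ⟨W, W.opensRange_ι⟩
  subst hV
  have hi := (Sigma.ι (fun i : ι => CxOX.extZeroUnit i.1.ι) ⟨V, s⟩ ≫= e)
  simp only [p, ← Category.assoc, Sigma.ι_desc] at hi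
  simp only [Category.assoc, cancel_epi] at hi
  have hs := (Groth.CohTwo.exists_sectionHom F s).choose_spec
  have := congr(($hi).app V.ι.opensRange (Groth.CohTwo.oneSec le_rfl))
  simp only [Scheme.Modules.Hom.comp_app, ConcreteCategory.comp_apply] at this
  simp only [φ] at this
  rwa [hs] at this

end Groth.Agent.S11164
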