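import Groth.Statements.S11165
import Groth.Agent.CohBase.AffinePush
import Groth.Agent.CohBase.RpushAb

set_option autoImplicit false
universe u
open CategoryTheory CategoryTheory.Limits AlgebraicGeometry
open Coherent

namespace Groth.Agent.S11165

/-- Let f : X ⟶ Y be a separated morphism of schemes, U an open of X on which f restricts to an affine
morphism, i : U ⟶ X the inclusion and F a quasi-coherent O_X-module. Then i_*(F|_U) is acyclic for
f_*: its higher direct images R^j f_* vanish for j > 0. (The binder asserting injective resolutions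
of O_X-modules always holds.) -/
theorem result {X Y : Scheme.{u}} (f : X ⟶ Y) [IsSeparated f]
    (U : X.Opens) [IsAffineHom (U.ι ≫ f)] (F : X.Modules) (hF : Coh.IsQCoh F)
    [HasInjectiveResolutions X.Modules] (j : ℕ) (hj : 0 < j) :
    IsZero ((Coh.Rpush f j).obj ((Scheme.Modules.pushforward U.ι).obj ((Scheme.Modules.restrictFunctor U.ι).obj F))) := by
  obtain ⟨q, rfl⟩ : ∃ q, j = q + 1 := ⟨j - 1, by omega⟩
  haveI : IsAffineHom U.ι := IsAffineHom.of_comp U.ι f
  haveI := hF
  let G : U.toScheme.Modules := (Scheme.Modules.restrictFunctor U.ι).obj F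
  haveI : G.IsQuasicoherent := Scheme.Modules.isQuasicoherent_restrictFunctor U.ι F
  have hG := Groth.CohBase.pushAcyclic_of_isAffineHom U.ι G
  let i_G : X.Modules := (Scheme.Modules.pushforward U.ι).obj G
  have hA : Groth.CohBase.PushAcyclic f.base (Groth.CohBase.abSheaf i_G) := by
    intro V y hy
    obtain ⟨W, hW, hyW, hWV⟩ := exists_isAffineOpen_mem_and_subset hy
    refine ⟨W, hWV, hyW, fun n => ?_⟩
    obtain ⟨e⟩ := hG.nonempty_equiv_H' (n + 1) (f ⁻¹ᵁ W)
    have h0 : Groth.CohBase.HVanish (X := U.toScheme.toTopCat) (Groth.CohBase.abSheaf G) (n + 1)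
        (U.ι ⁻¹ᵁ f ⁻¹ᵁ W) := Groth.CohBase.hVanish_of_isAffineOpen G (hW.preimage (U.ι ≫ f)) n
    exact @Equiv.subsingleton _ _ e.toEquiv h0
  have h1 : Limits.IsZero ((Coh.RpushAb f (q + 1)).obj (Coh.toAb i_G)) := hA.isZero_rightDerived q
  obtain ⟨e⟩ := Groth.CohBase.nonempty_toAb_Rpush_iso f (q + 1) (M := i_G)
  have h2 := h1.of_iso e
  haveI : (Groth.CohBase.toAbF Y).Faithful :=
    inferInstanceAs (SheafOfModules.toSheaf.{u} Y.ringCatSheaf).Faithful
  exact (Limits.IsZero.iff_id_eq_zero _).2 ((Groth.CohBase.toAbF Y).map_injective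
    (h2.eq_of_src _ _))

end Groth.Agent.S11165
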