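import Groth.Statements.S11167
import Groth.Agent.CohTwo.Ideals
import Groth.Agent.CohTwo.Stalk

set_option autoImplicit false
universe u
open CategoryTheory CategoryTheory.Limits AlgebraicGeometry
open Coherent

namespace Groth.Agent.S11167

/-- Let X be a Noetherian scheme and G ⟶ O_X a sub-O_X-module of the structure sheaf (a sheaf of ideals,
not necessarily quasi-coherent). Then there are finitely many opens U_i of X and finitely many
sections s_{ij} ∈ G(U_i) such that for every point x of X the germs at x of those s_{ij} with x ∈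
U_i generate the stalk G_x as an O_{X,x}-module. -/
theorem result {X : Scheme.{u}} [IsNoetherian X]
    (G : X.Modules) (ι : G ⟶ Coh.structureModule X) [Mono ι] :
    ∃ (m : ℕ) (U : Fin m → X.Opens) (k : Fin m → ℕ)
      (s : (i : Fin m) → Fin (k i) → (G.presheaf.obj (Opposite.op (U i)) : Type u)),
      ∀ x : X, Submodule.span (X.presheaf.stalk x)
          (Set.range (fun p : (Σ i : {i : Fin m // x ∈ U i}, Fin (k i.1)) =>
            (G.presheaf.germ (U p.1.1) x p.1.2) (s p.1.1 p.2))) = ⊤ := by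
  classical
  have haff : ∀ η : X, ∃ U₀ : X.Opens, IsAffineOpen U₀ ∧ η ∈ U₀ := fun η => by
    obtain ⟨U₀, hU₀, hη, -⟩ := exists_isAffineOpen_mem_and_subset
      (show η ∈ (⊤ : X.Opens) from trivial)
    exact ⟨U₀, hU₀, hη⟩
  choose U₀ hU₀ hη₀ using haff
  have hN : ∀ η, IsNoetherianRing Γ(X, U₀ η) := fun η =>
    IsLocallyNoetherian.component_noetherian ⟨U₀ η, hU₀ η⟩
  choose U k s hηU _ hs using fun η =>
    haveI := hN η
    Groth.CohTwo.exists_local_generators (hU₀ η) η (hη₀ η) ι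
  obtain ⟨S, hS⟩ := Groth.CohTwo.exists_finset_cover U hηU
  let pt : Fin S.card → X := fun i => (S.equivFin.symm i).1
  refine ⟨S.card, fun i => U (pt i), fun i => k (pt i), fun i => s (pt i), fun x => ?_⟩
  refine eq_top_iff.2 fun t _ => ?_
  obtain ⟨η, hηS, hxU, hηx⟩ := hS x
  obtain ⟨i, rfl⟩ : ∃ i, pt i = η := ⟨S.equivFin ⟨η, hηS⟩, by simp [pt]⟩
  obtain ⟨W, hxW, g, rfl⟩ := Groth.CohTwo.stalk_exists_germ G x t
  obtain ⟨W', hW, hU', c, hxW', e⟩ := hs (pt i) ι le_rfl x hxU hηx W g hxW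
  rw [← Groth.CohTwo.stalk_germ_res G x hW hxW', Groth.CohTwo.toFun_injective ι W' e, map_sum]
  refine Submodule.sum_mem _ fun j _ => ?_
  rw [Groth.CohTwo.stalk_germ_smul, Groth.CohTwo.stalk_germ_res]
  exact Submodule.smul_mem _ _ (Submodule.subset_span ⟨⟨⟨i, hxU⟩, j⟩, rfl⟩)

end Groth.Agent.S11167
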