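import Groth.Statements.S11171
import Groth.Agent.DualCore.Unique

set_option autoImplicit false
universe u
open CategoryTheory
attribute [local instance] HasDerivedCategory.standard
open Dual

namespace Groth.Agent.S11171

/-- Over a Noetherian local ring A with residue field k, let R be an object of D(A) whose cohomology
modules are finite and vanish in all sufficiently negative degrees. If there is an integer d such
that the A-module of maps k → R[i] in D(A) is zero for every i ≠ d and is A-linearly isomorphic to k
for i = d, then R is a dualizing complex for A (finite injective dimension, finite cohomology, and A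
→ End(R) bijective with no self-maps of nonzero degree). -/
theorem result (A : Type u) [CommRing A] [IsLocalRing A] [IsNoetherianRing A] (R : Dual.D A) (hfin : ∀ i : ℤ, Module.Finite A (Dual.HD A R i)) (hbdd : ∃ a : ℤ, ∀ i : ℤ, i < a → Subsingleton (Dual.HD A R i)) (d : ℤ) (hvan : ∀ i : ℤ, i ≠ d → Subsingleton (Dual.inD A (IsLocalRing.ResidueField A) ⟶ R⟦i⟧)) (hd : Nonempty ((Dual.inD A (IsLocalRing.ResidueField A) ⟶ R⟦d⟧) ≃ₗ[A] IsLocalRing.ResidueField A)) : Dual.IsDualizing A R := by
  obtain ⟨a, ha⟩ := hbdd
  haveI : DerivedCategory.IsGE R a := Groth.DualCore.isGE_of_HD R a ha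
  haveI : DerivedCategory.IsGE (R⟦d⟧) (a - d) := DerivedCategory.TStructure.t.isGE_shift R a d (a - d)
  obtain ⟨e⟩ := hd
  have hres : Groth.DualCore.HasResidue (R⟦d⟧) :=
    { vanish := fun i hi => haveI := hvan (d + i) (by lia)
        (Groth.DualCore.homShiftEquiv _ R d (d + i) i rfl).toEquiv.subsingleton
      equiv := ⟨(Groth.DualCore.homShiftEquiv _ R d d 0 (add_zero d)).trans e⟩ }
  have hfin' : ∀ i, Module.Finite A (Dual.HD A (R⟦d⟧) i) := fun i => by
    haveI : Module.Finite A (((DerivedCategory.homologyFunctor (ModuleCat.{u} A) 0).shift (d + i)).obj R) :=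
      hfin (d + i)
    exact Module.Finite.equiv ((((DerivedCategory.homologyFunctor (ModuleCat.{u} A) 0).shiftIso d i (d + i) rfl)).app
      R).symm.toLinearEquiv
  exact Groth.DualCore.isDualizing_of_iso ((shiftFunctorCompIsoId (Dual.D A) d (-d) (add_neg_cancel d)).app R)
    (Groth.DualCore.isDualizing_shift (Groth.DualCore.isDualizing_of_hasResidue hres hfin' (a - d)) (-d))

end Groth.Agent.S11171
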