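import Groth.Statements.S11173
import Groth.Agent.DualCore.CM

set_option autoImplicit false
universe u
open CategoryTheory
attribute [local instance] HasDerivedCategory.standard
open Dual

namespace Groth.Agent.S11173

/-- Let A be a Noetherian ring of finite Krull dimension and R an object of D(A) whose cohomology
modules are finite and vanish in all sufficiently negative degrees. If for every prime ideal p of A
the derived base change of R to the local ring A_p (the total left derived functor of extension of
scalars, assumed to exist) is a dualizing complex for A_p, then R is a dualizing complex for A. (The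
published statement is for a Noetherian scheme of finite Krull dimension and a pointwise dualizing
complex; this row is its affine case, with the pointwise hypothesis expressed through the local
rings at all primes.) -/
theorem result (A : Type u) [CommRing A] [IsNoetherianRing A] (hdim : ringKrullDim A < ⊤) (R : Dual.D A) (hfin : ∀ i : ℤ, Module.Finite A (Dual.HD A R i)) (hbdd : ∃ a : ℤ, ∀ i : ℤ, i < a → Subsingleton (Dual.HD A R i)) (h : ∀ p : PrimeSpectrum A, ∃ _ : DRing.HasLBaseChange (algebraMap A (Localization.AtPrime p.asIdeal)), Dual.IsDualizing (Localization.AtPrime p.asIdeal) ((DRing.LBaseChange (algebraMap A (Localization.AtPrime p.asIdeal))).obj R)) : Dual.IsDualizing A R := by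
  obtain ⟨a₀, ha₀⟩ := hbdd
  haveI : DerivedCategory.IsGE R a₀ := Groth.DualCore.isGE_of_HD R a₀ ha₀
  have hd : ∀ p : PrimeSpectrum A, Dual.IsDualizing (Localization.AtPrime p.asIdeal)
      ((Groth.DualCore.extD A (Localization.AtPrime p.asIdeal)).obj R) := fun p => by
    obtain ⟨_, hp⟩ := h p
    exact Groth.DualCore.isDualizing_of_iso
      ((Groth.DualCore.LBaseChangeIso A (Localization.AtPrime p.asIdeal)).app R) hp
  obtain ⟨N, hN⟩ : ∃ N : ℕ, ringKrullDim A ≤ (N : ℕ) := by
    induction hx : ringKrullDim A using WithBot.recBotCoe with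
    | bot => exact ⟨0, bot_le⟩
    | coe x =>
      induction x using ENat.recTopCoe with
      | top => exact absurd (hx ▸ hdim) (lt_irrefl _)
      | coe N => exact ⟨N, le_rfl⟩
  -- the local picture at a prime
  have loc : ∀ p : PrimeSpectrum A, ∃ n : ℤ,
      (∀ (M : Type u) [AddCommGroup M] [Module (Localization.AtPrime p.asIdeal) M] (i : ℤ),
        (i < n - N ∨ n < i) → Subsingleton (Dual.inD (Localization.AtPrime p.asIdeal) M ⟶
          ((Groth.DualCore.extD A (Localization.AtPrime p.asIdeal)).obj R)⟦i⟧)) ∧
      ∃ i, n - N ≤ i ∧ i ≤ n ∧ Nontrivial (LocalizedModule p.asIdeal.primeCompl (Dual.HD A R i)) := by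
    intro p
    haveI : IsNoetherianRing (Localization.AtPrime p.asIdeal) :=
      IsLocalization.isNoetherianRing p.asIdeal.primeCompl _ inferInstance
    obtain ⟨n, hn, -, -⟩ := Groth.DualCore.exists_normalized (hd p)
    have hω' := Groth.DualCore.isDualizing_shift (hd p) n
    have hBN : ringKrullDim (Localization.AtPrime p.asIdeal) ≤ (N : ℕ) :=
      ((IsLocalization.AtPrime.ringKrullDim_eq_height p.asIdeal _).trans_le
        (Ideal.height_le_ringKrullDim_of_ne_top p.2.ne_top)).trans hN
    have hvan : ∀ (M : Type u) [AddCommGroup M] [Module (Localization.AtPrime p.asIdeal) M],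
        Module.Finite (Localization.AtPrime p.asIdeal) M → ∀ i : ℤ, (i < n - N ∨ n < i) →
        Subsingleton (Dual.inD (Localization.AtPrime p.asIdeal) M ⟶
          ((Groth.DualCore.extD A (Localization.AtPrime p.asIdeal)).obj R)⟦i⟧) := by
      intro M _ _ _ i hi
      haveI := Groth.DualCore.hom_le_ringKrullDim hω' hn M
        ((Module.supportDim_le_ringKrullDim _ M).trans hBN) (i - n) (by lia)
      exact (Groth.DualCore.homShiftEquiv _ _ n i (i - n) (by lia)).toEquiv.symm.subsingleton
    refine ⟨n, fun M _ _ => Groth.DualCore.injDim_of_finite _ _ _ hvan M, ?_⟩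
    obtain ⟨d, hd'⟩ := Groth.DualCore.exists_supportDim_eq (Localization.AtPrime p.asIdeal)
      (Localization.AtPrime p.asIdeal)
    have hne := Groth.DualCore.nontrivial_hom_supportDim hω' hn _ d hd'
    rw [Groth.DualCore.nontrivial_shift_iff _ _ n (n + -(d : ℤ)) _ rfl] at hne
    refine ⟨n + -(d : ℤ), ?_, by lia, ?_⟩
    · by_contra hc
      haveI := hvan (Localization.AtPrime p.asIdeal) inferInstance (n + -(d : ℤ)) (Or.inl (by lia))
      exact not_subsingleton (Dual.inD (Localization.AtPrime p.asIdeal) (Localization.AtPrime p.asIdeal) ⟶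
          ((Groth.DualCore.extD A (Localization.AtPrime p.asIdeal)).obj R)⟦n + -(d : ℤ)⟧) inferInstance
    · rw [Groth.DualCore.mem_support_iff_tensor,
        (Groth.DualCore.HDExtEquiv R (n + -(d : ℤ))).toEquiv.nontrivial_congr,
        ← (Groth.DualCore.homAEquiv ((Groth.DualCore.extD A (Localization.AtPrime p.asIdeal)).obj R) _).toEquiv.nontrivial_congr]
      exact hne
  choose n hvan wit hw₁ hw₂ hw₃ using loc
  have hHD : ∀ (p : PrimeSpectrum A) (i : ℤ), (i < n p - N ∨ n p < i) →
      Subsingleton (LocalizedModule p.asIdeal.primeCompl (Dual.HD A R i)) := by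
    intro p i hi
    by_contra hc
    rw [not_subsingleton_iff_nontrivial, Groth.DualCore.mem_support_iff_tensor,
      (Groth.DualCore.HDExtEquiv R i).toEquiv.nontrivial_congr,
      ← (Groth.DualCore.homAEquiv ((Groth.DualCore.extD A (Localization.AtPrime p.asIdeal)).obj R) i).toEquiv.nontrivial_congr] at hc
    haveI := hvan p (Localization.AtPrime p.asIdeal) i hi
    exact not_subsingleton (Dual.inD (Localization.AtPrime p.asIdeal) (Localization.AtPrime p.asIdeal) ⟶
          ((Groth.DualCore.extD A (Localization.AtPrime p.asIdeal)).obj R)⟦i⟧) inferInstance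
  obtain ⟨C, hC⟩ : ∃ C : ℕ, ∀ p, (n p).natAbs ≤ C := by
    classical
    let T : Finset (PrimeSpectrum A) := ((minimalPrimes.finite_of_isNoetherianRing A).preimage
      (fun x _ y _ hxy => PrimeSpectrum.ext hxy) : Set.Finite (PrimeSpectrum.asIdeal ⁻¹' minimalPrimes A)).toFinset
    refine ⟨(T.sum fun q => (wit q).natAbs) + N, fun p => ?_⟩
    obtain ⟨q, hq, hqp⟩ := Ideal.exists_minimalPrimes_le (bot_le : (⊥ : Ideal A) ≤ p.asIdeal)
    have hmem : (⟨q, hq.1.1⟩ : PrimeSpectrum A) ∈ T := by simpa [T, minimalPrimes] using hq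
    have h1 := Finset.single_le_sum (f := fun q => (wit q).natAbs) (fun x _ => Nat.zero_le _) hmem
    have h2 : ¬ (wit ⟨q, hq.1.1⟩ < n p - N ∨ n p < wit ⟨q, hq.1.1⟩) := fun hc => by
      haveI := hHD p _ hc
      exact not_subsingleton_iff_nontrivial.2
        (Module.mem_support_mono (show (⟨q, hq.1.1⟩ : PrimeSpectrum A) ≤ p from hqp) (hw₃ ⟨q, hq.1.1⟩)) this
    lia
  haveI : DerivedCategory.IsLE R (C : ℤ) := (DerivedCategory.isLE_iff R _).2 fun i hi => by
    refine ModuleCat.isZero_iff_subsingleton.2 ?_
    show Subsingleton (Dual.HD A R i)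
    refine (Module.support_eq_empty_iff (R := A)).1 (Set.eq_empty_iff_forall_notMem.2 fun p hp => ?_)
    have := hC p
    exact not_subsingleton_iff_nontrivial.2 hp (hHD p i (Or.inr (by lia)))
  refine Groth.DualCore.isDualizing_of_maximal R hfin a₀ C ⟨-(C + N : ℤ), C, fun M _ _ hM i hi => ?_⟩
    fun m _ => hd ⟨m, inferInstance⟩
  refine Groth.DualCore.injDim_of_family (fun m : MaximalSpectrum A => Localization.AtPrime m.asIdeal)
    (fun M _ _ h => Groth.DualCore.subsingleton_of_maximal M h) R a₀ (-(C + N : ℤ)) C (fun j M _ _ i hi => ?_) M hM i hi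
  have := hC ⟨j.asIdeal, inferInstance⟩
  exact hvan ⟨j.asIdeal, inferInstance⟩ M i (by lia)

end Groth.Agent.S11173
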