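import Groth.Statements.S11175
import Groth.Agent.LocDual.GorensteinCriterion

set_option autoImplicit false
universe u
open CategoryTheory
open Goren

namespace Groth.Agent.S11175

/-- A Noetherian local ring A with maximal ideal m is Gorenstein (A has finite injective dimension as a
module over itself) if and only if there is a natural number d such that the local cohomology
modules H^i_m(A) (direct limits of Ext^i(A/m^n, A)) vanish for all i ≠ d and H^d_m(A) is an
injective A-module. -/
theorem result (A : Type u) [CommRing A] [IsLocalRing A] [IsNoetherianRing A] : LocCoh.IsGorensteinLocalRing A ↔ ∃ d : ℕ, (∀ i : ℕ, i ≠ d → Subsingleton (LocCoh.H (IsLocalRing.maximalIdeal A) i A)) ∧ Module.Injective A (LocCoh.H (IsLocalRing.maximalIdeal A) d A) := by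
  constructor
  · intro hA
    have hA' := (GrothGoren.isGorenstein_iff A).1 hA
    obtain ⟨d, hd, -, -, -⟩ := GrothGoren.exists_dim A hA'
    obtain ⟨hvan, f, hf⟩ := Groth.LocDual.exists_hull_H_top d A hA' hd
    refine ⟨d, fun i hi => ?_, hf.isInjective⟩
    rcases Nat.lt_or_ge i d with h | h
    · exact hvan i h
    · exact Groth.LocCohBase.cdLE_of_dim_le _ d (le_of_eq hd) A i (lt_of_le_of_ne h (Ne.symm hi))
  · rintro ⟨d, hvan, hinj⟩
    exact (GrothGoren.isGorenstein_iff A).2 (GrothGoren.exists_injLT_iff.2
      ⟨d + 1, fun i hi => Groth.LocDual.extZ_residueField_of_H d A hvan hinj i (by omega)⟩)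

end Groth.Agent.S11175
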