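import Groth.Statements.S11178
import Groth.Agent.DualFinite.Main

set_option autoImplicit false
universe u
open CategoryTheory
attribute [local instance] HasDerivedCategory.standard
open Dual

namespace Groth.Agent.S11178

/-- The affine form: let A be a Noetherian ring with a dualizing complex ω, and G a cochain complex of
A-modules whose cohomology modules are finite and vanish outside a bounded range of degrees, with
RHom_A(G, −) existing as a total right derived functor. Then G has finite Tor-dimension (G is
isomorphic in D(A) to a bounded complex of flat modules) if and only if RHom_A(G, ω) has finite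
injective dimension (is isomorphic in D(A) to a bounded complex of injective modules). -/
theorem result (A : Type u) [CommRing A] [IsNoetherianRing A] (ω : Dual.D A) (hω : Dual.IsDualizing A ω) (G : DRing.Cx A) [DRing.HasRHomCx G] (hfin : ∀ i : ℤ, Module.Finite A (Dual.HD A (DRing.toD G) i)) (hbdd : ∃ a b : ℤ, ∀ i : ℤ, (i < a ∨ b < i) → Subsingleton (Dual.HD A (DRing.toD G) i)) : DRing.HasFiniteTorDimCx A (DRing.toD G) ↔ DRing.HasFiniteInjDim A ((DRing.RHomCx G).obj ω) := by
  obtain ⟨a₀, b₀, hab⟩ := hω.finite_injective_dimension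
  obtain ⟨r⟩ := Groth.DualCore.exists_injRep ω a₀ b₀ hab
  haveI := r.hGE
  haveI := r.hLE
  haveI : ∀ q, Injective (r.I.X q) := fun q =>
    (Module.injective_iff_injective_object A (r.I.X q)).1 (r.injective q)
  haveI : r.I.IsKInjective := CochainComplex.isKInjective_of_injective r.I r.a
  have hI : DRing.VanishesOutside r.I r.a r.b := fun i hi => by
    rcases hi with hi | hi
    · exact r.I.isZero_of_isStrictlyGE r.a i hi
    · exact r.I.isZero_of_isStrictlyLE r.b i hi
  constructor
  · rintro ⟨a, b, F, hF, hflat, ⟨e⟩⟩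
    haveI := Groth.DAlg.RHomCx.hasRHomCx F
    obtain ⟨c⟩ := Groth.LocCohTransform.RHomDual.nonempty_rhom_congr e ω
    exact ⟨r.a - b, r.b - a, DRing.homCx F r.I,
      Groth.DualFinite.vanishesOutside_homCx F r.I a b r.a r.b hF hI,
      Groth.DualFinite.injective_homCx F r.I hflat r.injective,
      ⟨Groth.DAlg.RHomCx.objIso F r.I ≪≫ (DRing.RHomCx F).mapIso r.iso ≪≫ c⟩⟩
  · rintro ⟨a, b, J, hJ, hinj, ⟨e⟩⟩
    haveI := Groth.DAlg.RHomCx.hasRHomCx J
    obtain ⟨d⟩ := (Groth.Agent.S1819.result A ω hω G hfin).2 J ⟨e⟩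
    exact ⟨r.a - b, r.b - a, DRing.homCx J r.I,
      Groth.DualFinite.vanishesOutside_homCx J r.I a b r.a r.b hJ hI,
      Groth.DualFinite.flat_homCx J r.I hinj r.injective,
      ⟨Groth.DAlg.RHomCx.objIso J r.I ≪≫ (DRing.RHomCx J).mapIso r.iso ≪≫ d⟩⟩

end Groth.Agent.S11178
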