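import Groth.Statements.S11179
import Groth.Agent.Gorenstein.Basic
import Groth.Agent.DualCore.ModuleHom

set_option autoImplicit false
universe u
open CategoryTheory
attribute [local instance] HasDerivedCategory.standard
open Goren

namespace Groth.Agent.S11179

/-- A Noetherian local ring A is Gorenstein (A has finite injective dimension as a module over itself)
if and only if the complex A[0] is a dualizing complex for A (finite injective dimension expressed
by vanishing of maps M[0] → A[i] in D(A) outside a bounded range, finite cohomology, A → End(A[0])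
bijective and no self-maps of nonzero degree). -/
theorem result (A : Type u) [CommRing A] [IsLocalRing A] [IsNoetherianRing A] : LocCoh.IsGorensteinLocalRing A ↔ Dual.IsDualizing A (Dual.inD A A) := by
  have hExt : ∀ (M : Type u) [AddCommGroup M] [Module A M] (n : ℕ),
      Subsingleton (Dual.inD A M ⟶ (Dual.inD A A)⟦(n : ℤ)⟧) ↔ GrothGoren.ExtZ A M A n :=
    fun M _ _ n => (Abelian.Ext.homEquiv (X := ModuleCat.of A M) (Y := ModuleCat.of A A)
      (n := n)).symm.subsingleton_congr
  haveI : DerivedCategory.IsGE (Dual.inD A A) 0 := inferInstanceAs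
    (DerivedCategory.IsGE ((DerivedCategory.singleFunctor (ModuleCat.{u} A) 0).obj (ModuleCat.of A A)) 0)
  haveI : DerivedCategory.IsLE (Dual.inD A A) 0 := inferInstanceAs
    (DerivedCategory.IsLE ((DerivedCategory.singleFunctor (ModuleCat.{u} A) 0).obj (ModuleCat.of A A)) 0)
  rw [GrothGoren.isGorenstein_iff]
  constructor
  · rintro ⟨m, hm⟩
    refine ⟨inferInstance, ⟨0, m, fun M _ _ i hi => ?_⟩, fun i => ?_, ?_, fun i hi => ?_⟩
    · rcases hi with hi | hi
      · exact Groth.DualCore.subsingleton_hom_of_lt (Dual.inD A A) 0 M i hi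
      · obtain ⟨n, rfl⟩ := Int.eq_ofNat_of_zero_le (show 0 ≤ i by omega)
        exact (hExt M n).2 (hm.extZ M (by omega))
    · rcases eq_or_ne i 0 with rfl | hi
      · let e := ((DerivedCategory.singleFunctorCompHomologyFunctorIso (ModuleCat.{u} A) 0).app
          (ModuleCat.of A A)).toLinearEquiv
        haveI : Module.Finite A ↑((𝟭 (ModuleCat.{u} A)).obj (ModuleCat.of A A)) :=
          inferInstanceAs (Module.Finite A A)
        exact Module.Finite.equiv e.symm
      · haveI : Subsingleton (Dual.HD A (Dual.inD A A) i) := by
          refine ModuleCat.subsingleton_of_isZero ?_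
          rcases lt_or_gt_of_ne hi with h | h
          · exact (DerivedCategory.isGE_iff _ 0).1 inferInstance i h
          · exact (DerivedCategory.isLE_iff _ 0).1 inferInstance i h
        infer_instance
    · let e := ((DerivedCategory.singleFunctorCompHomologyFunctorIso (ModuleCat.{u} A) 0).app
        (ModuleCat.of A A)).toLinearEquiv
      have hcomp : ∀ a : A, e (Groth.DualCore.evalOne (Dual.inD A A) (a • 𝟙 _)) = a := by
        intro a
        have hgen : Groth.DualCore.evalOne (Dual.inD A A) (𝟙 _) = e.symm (1 : A) := by
          show ((DerivedCategory.homologyFunctor (ModuleCat.{u} A) 0).map (𝟙 _)).hom Groth.DualCore.gen = _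
          rw [CategoryTheory.Functor.map_id]
          rfl
        rw [map_smul, hgen, map_smul, LinearEquiv.apply_symm_apply]
        exact mul_one a
      refine ⟨fun a b h => ?_, fun f => ⟨e (Groth.DualCore.evalOne _ f), ?_⟩⟩
      · rw [← hcomp a, ← hcomp b]
        exact congrArg (fun g => e (Groth.DualCore.evalOne (Dual.inD A A) g)) h
      · exact (Groth.DualCore.evalOne_bijective _).1 (e.injective (hcomp _))
    · rcases lt_or_gt_of_ne hi with h | h
      · exact Groth.DualCore.subsingleton_hom_of_lt (Dual.inD A A) 0 A i h
      · obtain ⟨n, rfl⟩ := Int.eq_ofNat_of_zero_le h.le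
        obtain ⟨k, rfl⟩ : ∃ k, n = k + 1 := ⟨n - 1, by omega⟩
        exact (hExt A (k + 1)).2 GrothGoren.extZ_of_projective
  · intro h
    obtain ⟨a, b, hab⟩ := h.finite_injective_dimension
    refine GrothGoren.exists_injLT_iff.2 ⟨b.toNat + 1, fun i hi => (hExt _ i).1 (hab _ i (Or.inr ?_))⟩
    omega

end Groth.Agent.S11179
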