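import Groth.Statements.S1118
import Groth.Agent.Misc4.ProjQCoh

set_option autoImplicit false
universe u
open CategoryTheory CategoryTheory.Limits AlgebraicGeometry Opposite
attribute [local instance] HasDerivedCategory.standard
open Perf

namespace Groth.Agent.S1118

/-- Let f : X ⟶ Y be quasi-compact and quasi-separated, E ∈ D(O_X) with quasi-coherent cohomology
sheaves, K a cochain complex of O_Y-modules whose image in D(O_Y) has quasi-coherent cohomology
sheaves, and M a cochain complex of O_X-modules representing Lf^*K. Assuming the derived functors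
involved exist, Rf_*(E) ⊗^L K and Rf_*(E ⊗^L M) are isomorphic in D(O_Y). (The source proves that
the canonical projection-formula map is an isomorphism; only the existence of an isomorphism is
asserted here.) -/
theorem result {X Y : Scheme.{u}} (f : X ⟶ Y) [QuasiCompact f] [QuasiSeparated f] [DCoh.HasRpush f] [DCoh.HasLpull f]
    (E : DCoh.D X) (hE : DCoh.IsQCohD E) (K : CochainComplex Y.Modules ℤ) (hK : DCoh.IsQCohD (DCoh.toD Y K)) [DCoh.HasLTensorCx K]
    (M : CochainComplex X.Modules ℤ) (hM : Nonempty (DCoh.toD X M ≅ (DCoh.Lpull f).obj (DCoh.toD Y K))) [DCoh.HasLTensorCx M] :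
    Nonempty ((DCoh.LTensorCx K).obj ((DCoh.Rpush f).obj E) ≅ (DCoh.Rpush f).obj ((DCoh.LTensorCx M).obj E)) := by
  let P := (Groth.DerivedCoh.KFlat.flatResolution Y).obj K
  let M' := (Groth.DerivedCoh.KFlat.flatResolution X).obj M
  have hP := Groth.DerivedCoh.KFlat.flatResolution_isKFlat K
  have hM' := Groth.DerivedCoh.KFlat.flatResolution_isKFlat M
  have hfP := Groth.DerivedCoh.KFlat.isKFlat_pullCx f P hP
  haveI := Groth.DerivedCoh.KFlat.hasLTensorCx_of_isKFlat P hP
  haveI := Groth.DerivedCoh.KFlat.hasLTensorCx_of_isKFlat M' hM'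
  haveI := Groth.DerivedCoh.KFlat.hasLTensorCx_of_isKFlat _ hfP
  haveI := Groth.DerivedCoh.KFlat.flatResolution_quasiIso K
  haveI := Groth.DerivedCoh.KFlat.flatResolution_quasiIso M
  haveI := (DerivedCategory.isIso_Q_map_iff_quasiIso _
    ((Groth.DerivedCoh.KFlat.flatResolutionAug Y).app K)).2 inferInstance
  haveI := (DerivedCategory.isIso_Q_map_iff_quasiIso _
    ((Groth.DerivedCoh.KFlat.flatResolutionAug X).app M)).2 inferInstance
  let eK : DCoh.toD Y P ≅ DCoh.toD Y K :=
    asIso (DerivedCategory.Q.map ((Groth.DerivedCoh.KFlat.flatResolutionAug Y).app K))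
  let eM : DCoh.toD X M' ≅ DCoh.toD X ((Groth.DerivedCoh.KFlat.pullCx f).obj P) :=
    asIso (DerivedCategory.Q.map ((Groth.DerivedCoh.KFlat.flatResolutionAug X).app M)) ≪≫ hM.some ≪≫
      (DCoh.Lpull f).mapIso eK.symm ≪≫ Groth.DerivedCoh.KFlat.lpullQIso f P hP
  obtain ⟨c⟩ := Groth.DerivedCoh.Duality.nonempty_ltcx_congr hM' hfP eM
  obtain ⟨a⟩ := Groth.Misc4.ProjQCoh.nonempty_ltcx_resolution K ((DCoh.Rpush f).obj E)
  obtain ⟨b⟩ := Groth.Misc4.ProjQCoh.nonempty_ltcx_resolution M E
  obtain ⟨d⟩ := Groth.Misc4.ProjQCoh.nonempty_projection f P hP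
    (Groth.Misc4.QCohDPerf.isQCohD_of_iso eK.symm hK) E hE
  exact ⟨a ≪≫ d ≪≫ (DCoh.Rpush f).mapIso ((c.app E).symm ≪≫ b.symm)⟩

end Groth.Agent.S1118
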