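import Groth.Statements.S11180
import Mathlib.Tactic
import Mathlib.RingTheory.AdicCompletion.AsTensorProduct
import Mathlib.RingTheory.AdicCompletion.LocalRing
import Mathlib.RingTheory.AdicCompletion.Noetherian
import Mathlib.RingTheory.Flat.FaithfullyFlat.Algebra
import Groth.Agent.Calg1.Completion
import Mathlib.RingTheory.Flat.Stability
import Mathlib.RingTheory.Localization.BaseChange

set_option autoImplicit false
universe u
open scoped TensorProduct
open CAlg

namespace Groth.Agent.S11180

/-- Let A be a Noetherian ring and M an A-module. If an element m of M is such that 1 ⊗ m = 0 in B ⊗_A M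
for every A-algebra B which is a complete Noetherian local ring, flat over A, then m = 0.
(Equivalently the natural map from M to the limit of the modules B ⊗_A M over all such B is
injective.) -/
theorem result (A : Type u) [CommRing A] [IsNoetherianRing A] (M : Type u) [AddCommGroup M] [Module A M] (m : M) (h : ∀ (B : Type u) [CommRing B] [Algebra A B] [IsNoetherianRing B] [IsLocalRing B], IsAdicComplete (IsLocalRing.maximalIdeal B) B → Module.Flat A B → (1 : B) ⊗ₜ[A] m = 0) : m = 0 := by
  classical
  by_contra hm
  let J : Ideal A := (Submodule.span A {m}).annihilator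
  have hJ : J ≠ ⊤ := by
    rw [Ne, Ideal.eq_top_iff_one, Submodule.mem_annihilator_span_singleton, one_smul]; exact hm
  obtain ⟨P, hP, hle⟩ := Ideal.exists_le_maximal J hJ
  let Am := Localization.AtPrime P
  let B := AdicCompletion (IsLocalRing.maximalIdeal Am) Am
  haveI : IsScalarTower A Am B := IsScalarTower.of_algebraMap_eq (fun _ => rfl)
  have hfg : (IsLocalRing.maximalIdeal Am).FG := IsNoetherian.noetherian _
  haveI : IsNoetherianRing B := Groth.Calg1.isNoetherianRing_adicCompletion _ hfg
  haveI : Module.Flat Am B := AdicCompletion.flat_of_isNoetherian _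
  haveI : Module.Flat A B := Module.Flat.trans A Am B
  haveI : IsLocalHom (algebraMap Am B) := AdicCompletion.algebraMap_isLocalHom_of_fg hfg
  haveI : Module.FaithfullyFlat Am B := Module.FaithfullyFlat.of_flat_of_isLocalHom
  have hcomp : IsAdicComplete (IsLocalRing.maximalIdeal B) B := AdicCompletion.isAdicComplete_of_fg hfg
  have h0 : (1 : B) ⊗ₜ[A] m = 0 := h B hcomp inferInstance
  let e := TensorProduct.AlgebraTensorModule.cancelBaseChange A Am B B M
  have h1 : (1 : B) ⊗ₜ[Am] ((1 : Am) ⊗ₜ[A] m) = 0 := by
    apply e.injective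
    rw [TensorProduct.AlgebraTensorModule.cancelBaseChange_tmul, one_smul, h0, map_zero]
  have h2 : (1 : Am) ⊗ₜ[A] m = 0 :=
    Module.FaithfullyFlat.tensorProduct_mk_injective (A := Am) (B := B) (Am ⊗[A] M)
      (h1.trans (TensorProduct.tmul_zero _ _).symm)
  obtain ⟨⟨c, hc⟩, hc0⟩ :=
    (IsLocalizedModule.eq_zero_iff P.primeCompl (TensorProduct.mk A Am M 1)).mp h2
  exact hc (hle ((Submodule.mem_annihilator_span_singleton _ _).mpr hc0))

end Groth.Agent.S11180
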