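import Groth.Statements.S11185
import Groth.Agent.DualCore.Regular

set_option autoImplicit false
universe u
open CategoryTheory
attribute [local instance] HasDerivedCategory.standard
open Dual

namespace Groth.Agent.S11185

/-- Let A be a Noetherian ring all of whose local rings A_p at primes are regular and whose Krull
dimension is finite. Then the complex A[0] is a dualizing complex for A (finite injective dimension,
finite cohomology, A → End(A[0]) bijective and no self-maps of nonzero degree). -/
theorem result (A : Type u) [CommRing A] [IsNoetherianRing A] (hreg : ∀ p : PrimeSpectrum A, IsRegularLocalRing (Localization.AtPrime p.asIdeal)) (hdim : ringKrullDim A < ⊤) : Dual.IsDualizing A (Dual.inD A A) := by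
  obtain ⟨D, hD⟩ : ∃ D : ℕ, ringKrullDim A ≤ (D : WithBot ℕ∞) := by
    induction hx : ringKrullDim A using WithBot.recBotCoe with
    | bot => exact ⟨0, bot_le⟩
    | coe x =>
      induction x using ENat.recTopCoe with
      | top => exact absurd (hx ▸ hdim) (lt_irrefl _)
      | coe N => exact ⟨N, le_rfl⟩
  haveI : LocCoh.IsGorensteinRing A := ⟨fun p hp => by
    haveI := hreg ⟨p, hp⟩
    exact (GrothGoren.isGorenstein_iff _).2 (GrothGoren.exists_injLT_of_regular _ (Localization.AtPrime p) le_rfl)⟩
  exact Groth.DualCore.isDualizing_inD_of_injLT (GrothGoren.exists_injLT_of_isGorensteinRing hD)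

end Groth.Agent.S11185
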