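import Groth.Statements.S11186
import Groth.Agent.DualCore.SmoothDegree

set_option autoImplicit false
universe u
open CategoryTheory
attribute [local instance] HasDerivedCategory.standard
open Dual

namespace Groth.Agent.S11186

/-- Let A be a Noetherian ring, A → B a smooth ring map of relative dimension n, ω a dualizing complex
for A, and q a prime of B lying over the prime p of A, with residue field extension κ(p) ⊆ κ(q) of
transcendence degree t. Assume the derived base change functors from D(A) to D(A_p) and to D(B_q)
exist. If the module of maps κ(p) → ω_p[d] in D(A_p) is nonzero (so d is the unique such degree, the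
codimension value of ω at p), then the module of maps κ(q) → (ω ⊗^L_A B_q)[d − t + n] in D(B_q) is
nonzero: the codimension function of ω ⊗^L_A B at q equals that of ω at p minus the transcendence
degree plus the relative dimension. (The published formula is stated for the base change twisted by
the top relative differentials and shifted by n, where it reads codimension at q = codimension at p
+ transcendence degree; with the convention that the codimension function rises by one under
immediate specialization, the generic point of the affine line over a field shows that the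
transcendence degree must enter with a minus sign, as here.) -/
theorem result (A B : Type u) [CommRing A] [CommRing B] [Algebra A B] [IsNoetherianRing A] (n : ℕ) (hs : FlatCA.SmoothRelDim n A B) (ω : Dual.D A) (hω : Dual.IsDualizing A ω) (p : Ideal A) [p.IsPrime] (q : Ideal B) [q.IsPrime] [hq : q.LiesOver p] [DRing.HasLBaseChange (algebraMap A (Localization.AtPrime p))] [DRing.HasLBaseChange (algebraMap A (Localization.AtPrime q))] (d : ℤ) (hd : Nontrivial (Dual.inD (Localization.AtPrime p) p.ResidueField ⟶ ((DRing.LBaseChange (algebraMap A (Localization.AtPrime p))).obj ω)⟦d⟧)) (t : ℕ) (ht : @Algebra.trdeg p.ResidueField q.ResidueField _ _ (Ideal.ResidueField.mapₐ p q (Algebra.ofId A B) hq.over).toRingHom.toAlgebra = (t : Cardinal.{u})) : Nontrivial (Dual.inD (Localization.AtPrime q) q.ResidueField ⟶ ((DRing.LBaseChange (algebraMap A (Localization.AtPrime q))).obj ω)⟦(d - (t : ℤ) + (n : ℤ))⟧) := by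
  haveI : AlgebraicGeometry.SmoothOfRelativeDimension n
      (AlgebraicGeometry.Spec.map (CommRingCat.ofHom (algebraMap A B))) := hs
  haveI : AlgebraicGeometry.Smooth (AlgebraicGeometry.Spec.map (CommRingCat.ofHom (algebraMap A B))) :=
    AlgebraicGeometry.SmoothOfRelativeDimension.smooth n _
  haveI : Algebra.Smooth A B := RingHom.smooth_algebraMap.1
    ((AlgebraicGeometry.HasRingHomProperty.Spec_iff (P := @AlgebraicGeometry.Smooth) (φ := CommRingCat.ofHom (algebraMap A B))).1 inferInstance)
  haveI : IsNoetherianRing B := Algebra.FiniteType.isNoetherianRing A B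
  let R := Localization.AtPrime q
  haveI : IsNoetherianRing R := IsLocalization.isNoetherianRing q.primeCompl _ inferInstance
  haveI : Module.Flat B R := IsLocalization.flat R q.primeCompl
  haveI : Module.Flat A R := Module.Flat.trans A B R
  have hq' : q.comap (algebraMap A B) = p := hq.over.symm
  letI : Algebra (Localization.AtPrime p) R :=
    (Localization.localRingHom p q (algebraMap A B) hq'.symm).toAlgebra
  haveI : IsScalarTower A (Localization.AtPrime p) R := IsScalarTower.of_algebraMap_eq fun x =>
    (IsScalarTower.algebraMap_apply A B R x).trans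
      (Localization.localRingHom_to_map p q (algebraMap A B) hq'.symm x).symm
  have hd' : Nontrivial (Dual.inD (Localization.AtPrime p) (IsLocalRing.ResidueField (Localization.AtPrime p)) ⟶
      ((Groth.DualCore.extD A (Localization.AtPrime p)).obj ω)⟦d⟧) :=
    (Linear.homCongr (Localization.AtPrime p) (Iso.refl _) ((shiftFunctor _ d).mapIso
      ((Groth.DualCore.LBaseChangeIso A (Localization.AtPrime p)).app ω))).symm.toEquiv.nontrivial
  -- the closed fibre
  obtain ⟨Q, hQ, ⟨e⟩⟩ := Groth.DualCore.exists_fibre_localization_equiv (A := A) q
  haveI : IsRegularRing ((q.comap (algebraMap A B)).Fiber B) :=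
    Groth.Agent.S9408.isRegularRing_of_smooth (q.comap (algebraMap A B)).ResidueField _
  haveI : IsRegularLocalRing (Localization.AtPrime Q) := IsRegularRing.isRegularLocalRing_localization _
  obtain ⟨k, hk⟩ := (GrothGoren.exists_injLT_iff_of_ringEquiv (R := Localization.AtPrime Q)
    (S := Localization.AtPrime q ⧸ (q.comap (algebraMap A B)).map (algebraMap A (Localization.AtPrime q))) e).1
    (GrothGoren.exists_injLT_of_regular _ _ le_rfl)
  rw [hq'] at hk
  have hP := Groth.DualCore.map_comap_ne_top (A := A) q
  rw [hq'] at hP
  have hdim := Groth.DualCore.ringKrullDim_fibre_add_trdeg p B n q hq' t ht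
  haveI : Nontrivial (R ⧸ p.map (algebraMap A R)) := Ideal.Quotient.nontrivial_iff.2 hP
  haveI : IsLocalRing (R ⧸ p.map (algebraMap A R)) :=
    IsLocalRing.of_surjective' (Ideal.Quotient.mk _) Ideal.Quotient.mk_surjective
  obtain ⟨c, hc, -⟩ := GrothGoren.exists_dim (R ⧸ p.map (algebraMap A R)) ⟨k, hk⟩
  have hn : c + t = n := by
    rw [hc] at hdim
    exact_mod_cast hdim
  have hgoal := Groth.DualCore.nontrivial_residue_of_fibre hω p d hd' (R := R) hP hk c hc
  rw [show d - (t : ℤ) + (n : ℤ) = d + (c : ℤ) by omega]
  haveI := hgoal
  exact (Linear.homCongr R (Iso.refl _) ((shiftFunctor _ (d + (c : ℤ))).mapIso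
    ((Groth.DualCore.LBaseChangeIso A R).app ω))).toEquiv.nontrivial

end Groth.Agent.S11186
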