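import Groth.Statements.S11188
import Groth.Agent.Agf.Observable

set_option autoImplicit false
universe u
open CategoryTheory MonoidalCategory CartesianMonoidalCategory MonObj GrpObj AlgebraicGeometry
open scoped TensorProduct
open AGF
open Groth.Agf

namespace Groth.Agent.S11188

/-- (1) ⇔ (2) ⇔ (3): let k be an algebraically closed field, G a linear algebraic group over k (an
affine smooth group scheme over k) and H a closed subgroup of G (a smooth closed subgroup scheme, i
: H → G). The following are equivalent: (i) H is observable in G, i.e. a rational point of G whose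
right translation fixes every right-H-invariant global function on G lies in H; (ii) there are a
finite-dimensional rational G-module V and a vector v in V whose stabiliser, on rational points, is
H; (iii) there are finitely many right-H-invariant global functions on G which separate the cosets
gH: two rational points of G at which they all take the same values differ by right multiplication
by a rational point of H. -/
theorem result (k : Type u) [Field k] [IsAlgClosed k]
    (G : Over (Spec (CommRingCat.of k))) [GrpObj G] [IsAffine G.left] [Smooth G.hom]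
    (H : Over (Spec (CommRingCat.of k))) [GrpObj H] [Smooth H.hom] (i : H ⟶ G) [IsMonHom i]
    [IsClosedImmersion i.left] :
    List.TFAE [
      AGF.IsObservableIn k i,
      ∃ (V : Type u) (_ : AddCommGroup V) (_ : Module k V) (_ : Module.Finite k V) (ρ : VecGrp.GMod G V) (v : V),
        AGF.IsStabOnPts k i ρ v,
      ∃ s : Finset Γ(G.left, ⊤), (∀ f ∈ s, AGF.IsRTransInv i f) ∧
        ∀ g g' : VecGrp.pt k k ⟶ G, (∀ f ∈ s, g.left.appTop f = g'.left.appTop f) →
          ∃ h : VecGrp.pt k k ⟶ H, g' = g * (h ≫ i)] := by
  classical
  have : IsAffine H.left := isAffine_of_closedImm i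
  have : IsReduced G.left := fn_isReduced_of_smooth G
  have : IsReduced H.left := fn_isReduced_of_smooth H
  tfae_have 1 → 3 := by
    intro hobs
    obtain ⟨s, hs, h⟩ := exists_finset_agree (G := G) {f | AGF.IsRTransInv i f}
    refine ⟨s, fun f hf => hs hf, fun g g' hgg => ?_⟩
    have hag : ∀ f : Fn G, AGF.IsRTransInv i f → evalPt g f = evalPt g' f := fun f hf =>
      h g g' (fun a ha => congrArg (ptFn k) (hgg a ha)) f hf
    obtain ⟨t, ht⟩ := hobs (g⁻¹ * g') (fixes_of_agree i g g' hag)
    exact ⟨t, by rw [ht, mul_inv_cancel_left]⟩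
  tfae_have 3 → 2 := by
    rintro ⟨s, hs, hsep⟩
    let M := ({f // f ∈ s} → Fn G)
    let ρ : VecGrp.GMod G M := piGMod (regRep G)
    let v : M := fun f => f.1
    obtain ⟨W, hWfin, hvW, hW⟩ := exists_finite_stable ρ {v}
    have hv : v ∈ W := hvW (by simp)
    refine ⟨W, inferInstance, inferInstance, hWfin, subGMod ρ hW, ⟨v, hv⟩, fun g => ?_⟩
    rw [← (incl_injective k W).eq_iff, subGMod_incl]
    simp only [LinearMap.baseChange_tmul, Submodule.subtype_apply, ρ]
    rw [piGMod_fixed_iff]
    constructor
    · intro hg
      have hg' : ∀ f ∈ s, (1 : VecGrp.pt k k ⟶ G).left.appTop f = g.left.appTop f := by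
        intro f hf
        exact ptFn_bijective.1 (evalPt_one_of_isRTransInv ((regRep_fixed_iff g f).1 (hg ⟨f, hf⟩))).symm
      obtain ⟨t, ht⟩ := hsep 1 g hg'
      exact ⟨t, by rw [ht, _root_.one_mul]⟩
    · rintro ⟨t, rfl⟩ f
      rw [regRep_fixed_iff, isRTransInv_iff]
      intro B _ _ x u
      rw [← Category.assoc]
      exact (isRTransInv_iff i f.1).1 (hs f.1 f.2) B x (u ≫ t)
  tfae_have 2 → 1 := by
    rintro ⟨V, _, _, _, ρ, v, hv⟩ g hg
    refine (hv g).1 (fixed_of_fixes_invariants ρ i g hg (mem_fixedUnder_of_ratPts ρ i fun t => ?_))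
    exact (hv _).2 ⟨t, rfl⟩
  tfae_finish

end Groth.Agent.S11188
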