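import Groth.Statements.S1119
import Groth.Agent.DerivedCoh.PerfFP.RelPerfect
import Groth.Agent.RelPC.TotRel
import Groth.Agent.DEquivH6.DiagPhi
import Groth.Agent.Misc4.QCohDTensor
-- import your own Groth.Agent.* helpers here

set_option autoImplicit false
universe u
open CategoryTheory CategoryTheory.Limits AlgebraicGeometry Opposite
attribute [local instance] HasDerivedCategory.standard
open Perf

namespace Groth.Agent.S1119

/-- Let A be a ring, π : X ⟶ Spec A with X quasi-compact and quasi-separated, and K a cochain complex of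
O_X-modules whose image in D(O_X) is bounded above with quasi-coherent cohomology sheaves. Assuming
Rπ_* and - ⊗^L K exist: if Rπ_*(E ⊗^L K) is pseudo-coherent on Spec A for every perfect E ∈ D(O_X),
then Rπ_*(E ⊗^L K) is pseudo-coherent for every pseudo-coherent E ∈ D(O_X). (The source phrases the
condition with RΓ(X, -) valued in D(A); on the affine base the two formulations correspond under
D(A) ≃ D_QCoh(Spec A).) -/
theorem result (A : Type u) [CommRing A] (X : Scheme.{u}) [CompactSpace ↥X] [QuasiSeparatedSpace ↥X]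
    (π : X ⟶ Spec (CommRingCat.of A)) [DCoh.HasRpush π]
    (K : CochainComplex X.Modules ℤ) (hK : DCoh.IsQCohD (DCoh.toD X K)) (b : ℤ) [(DCoh.toD X K).IsLE b] [DCoh.HasLTensorCx K]
    (h : ∀ E : DCoh.D X, DCoh.IsPerfect E → ∀ m : ℤ, DCoh.IsPseudoCoherentD m ((DCoh.Rpush π).obj ((DCoh.LTensorCx K).obj E)))
    (E : DCoh.D X) (hE : ∀ m : ℤ, DCoh.IsPseudoCoherentD m E) (m : ℤ) :
    DCoh.IsPseudoCoherentD m ((DCoh.Rpush π).obj ((DCoh.LTensorCx K).obj E)) := by
  open Groth.DerivedCoh.PCoh CategoryTheory.Pretriangulated in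
  haveI : QuasiCompact π := inferInstance
  haveI : QuasiSeparated π := inferInstance
  obtain ⟨N, hN0, hN⟩ := Groth.Misc4.QCohCd.exists_isZero_HD π
  have hKb : Below (b + 1) (DCoh.toD X K) := fun i hi =>
    (DerivedCategory.isLE_iff (DCoh.toD X K) b).1 inferInstance i (by omega)
  obtain ⟨M, hd, -, hKf, ⟨eM⟩⟩ := Groth.RelPC.exists_flat_model (DCoh.toD X K) hKb
  haveI := Groth.DerivedCoh.KFlat.hasLTensorCx_of_isKFlat M hKf
  obtain ⟨cM⟩ := Groth.DEquivH6.DiagPhi.nonempty_ltcx_congr eM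
  have hMq : DCoh.IsQCohD (DCoh.toD X M) := Groth.Misc4.QCohDPerf.isQCohD_of_iso eM.symm hK
  obtain ⟨r, hr⟩ := Groth.Misc4.ApproxQcqs.holds X Set.univ isClosed_univ (fun _ _ _ => by simp)
  have hqc : DCoh.IsQCohD E := Groth.DerivedCoh.RelPerfectBC.isQCohD_of_pc hE
  obtain ⟨P, α, hP, -, h1, h2⟩ := hr (m - N - b - 1) E hqc (hE _) fun i _ => Set.subset_univ _
  obtain ⟨C, g, δ, hT⟩ := distinguished_cocone_triangle α
  have hC : Below (m - N - b - 1) C := below_of_near _ hT ⟨h1, h2⟩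
  have hCq : DCoh.IsQCohD C := Groth.Misc4.QCohDPerf.isQCohD_obj₂ (Triangle.mk α g δ).rotate
    (rot_of_distTriang _ hT) hqc
    (Groth.Misc4.QCohDPerf.isQCohD_shift (Groth.Misc4.Thomason.isQCohD_of_isPerfect hP) 1)
  obtain ⟨S', hS', ⟨e₁⟩, ⟨e₂⟩, ⟨e₃⟩⟩ :=
    Groth.Misc4.QCohDTensor.triTr_ltcx M hKf (Triangle.mk α g δ) hT
  have e₃' : (DCoh.LTensorCx M).obj C ≅ S'.obj₃ := e₃.symm
  have hS3q : DCoh.IsQCohD S'.obj₃ := Groth.Misc4.QCohDPerf.isQCohD_of_iso e₃'
    (Groth.Misc4.QCohDTensor.isQCohD_LTensorCx M hMq hCq)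
  obtain ⟨Cc, ⟨ec⟩⟩ := Groth.KTheory.Perf.exists_rep C
  have hS3 : Below (m - N - b - 1 + b) S'.obj₃ :=
    (Groth.RelPC.below_tot hKf (hC.of_iso ec.symm) hd).of_iso
      ((Groth.DerivedCoh.KFlat.ltcxIso M hKf Cc).symm ≪≫ (DCoh.LTensorCx M).mapIso ec ≪≫ e₃')
  haveI : S'.obj₃.IsLE (m - N - b - 1 + b) :=
    (DerivedCategory.isLE_iff _ _).2 fun i hi => hS3 i (by omega)
  have h3 : Below m ((DCoh.Rpush π).obj S'.obj₃) := fun i hi => hN _ hS3q (m - N - b - 1 + b) inferInstance i (by omega)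
  obtain ⟨c, hc⟩ := Groth.DAlg.RFTriangle.exists_distinguished (Scheme.Modules.pushforward π) (DCoh.Rpush π)
    ((DCoh.pushKh π).totalRightDerivedUnit DerivedCategory.Qh
      (HomotopyCategory.quasiIso X.Modules (ComplexShape.up ℤ))) S' hS'
  have h2' := isPseudoCoherentD_obj₂ _ hc
    (isPseudoCoherentD_of_iso ((DCoh.Rpush π).mapIso (e₁ ≪≫ cM.app P).symm) (h P hP m))
    (Groth.DerivedCoh.PerfFP.isPseudoCoherentD_of_below h3)
  exact isPseudoCoherentD_of_iso ((DCoh.Rpush π).mapIso (e₂ ≪≫ cM.app E)) h2'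

end Groth.Agent.S1119
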