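import Groth.Statements.S11192
import Groth.Agent.AlgGrp1.Geom
import Groth.Agent.NeronArea.SmoothLocusNMP
import Groth.Agent.Variety2.Normal
import Mathlib.RingTheory.IntegralClosure.IntegrallyClosed
-- import your own Groth.Agent.* helpers here

set_option autoImplicit false
universe u
open CategoryTheory MonoidalCategory CartesianMonoidalCategory MonObj GrpObj AlgebraicGeometry
open scoped TensorProduct
open AGF

namespace Groth.Agent.S11192

/-- The equalizer of two maps from an integrally closed domain is integrally closed,
as soon as one of them preserves nonzero divisors. -/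
theorem isIntegrallyClosed_eqLocus {A B : Type u} [CommRing A] [IsDomain A] [IsIntegrallyClosed A]
    [CommRing B] (φ ψ : A →+* B) (hψ : ∀ a : A, a ≠ 0 → IsLeftRegular (ψ a)) :
    IsIntegrallyClosed ↥(RingHom.eqLocus φ ψ) := by
  set R := RingHom.eqLocus φ ψ
  rw [isIntegrallyClosed_iff (FractionRing R)]
  intro x hx
  have hj : Function.Injective ((algebraMap A (FractionRing A)).comp R.subtype) :=
    (IsFractionRing.injective A (FractionRing A)).comp Subtype.val_injective
  let j : FractionRing R →+* FractionRing A := IsFractionRing.lift hj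
  obtain ⟨a, b, hb, rfl⟩ := IsFractionRing.div_surjective R (x : FractionRing R)
  have hb0 : (b : A) ≠ 0 := fun h => nonZeroDivisors.ne_zero hb (Subtype.ext h)
  have hz : IsIntegral A (j (algebraMap R _ a / algebraMap R _ b)) := by
    letI : Algebra R A := R.subtype.toAlgebra
    have := IsIntegral.map_of_comp_eq R.subtype j (by
      ext r
      exact (IsFractionRing.lift_algebraMap (K := FractionRing R) hj r).symm) hx
    exact this
  obtain ⟨c, hc⟩ := IsIntegrallyClosed.isIntegral_iff.1 hz
  rw [map_div₀, IsFractionRing.lift_algebraMap, IsFractionRing.lift_algebraMap, RingHom.comp_apply,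
    RingHom.comp_apply] at hc
  have hcb : c * (b : A) = a := by
    apply IsFractionRing.injective A (FractionRing A)
    rw [map_mul, hc]
    exact div_mul_cancel₀ _ (fun h => hb0 (IsFractionRing.injective A (FractionRing A) (h.trans (map_zero _).symm)))
  have hcR : φ c = ψ c := by
    apply hψ _ hb0
    show ψ b * φ c = ψ b * ψ c
    have hb' : φ b = ψ b := b.2
    have ha' : φ a = ψ a := a.2
    rw [← map_mul, mul_comm (b : A), hcb, ← ha', ← hcb, map_mul, hb', mul_comm]
  refine ⟨⟨c, hcR⟩, ?_⟩
  rw [eq_div_iff (IsFractionRing.to_map_ne_zero_of_mem_nonZeroDivisors hb), ← map_mul]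
  exact congrArg _ (Subtype.ext hcb)


/-- Let k be an algebraically closed field, G a linear algebraic group over k (an affine smooth group
scheme over k) and H a closed subgroup of G (a smooth closed subgroup scheme, i : H → G), with G
connected. Then the ring of global functions on G invariant under right translation by H is
integrally closed. -/
theorem result (k : Type u) [Field k] [IsAlgClosed k]
    (G : Over (Spec (CommRingCat.of k))) [GrpObj G] [IsAffine G.left] [Smooth G.hom]
    (H : Over (Spec (CommRingCat.of k))) [GrpObj H] [Smooth H.hom] (i : H ⟶ G) [IsMonHom i]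
    [IsClosedImmersion i.left] [ConnectedSpace G.left] :
    IsIntegrallyClosed ↥(AGF.rTransInv i) := by
  haveI : QuasiCompact G.hom := inferInstance
  haveI : IsAffine H.left := isAffine_of_isAffineHom i.left
  haveI : IsIntegral G.left := Groth.AlgGrp1.isIntegral_of_smooth G
  have hK : Pi1.IsNormalScheme (Spec (CommRingCat.of k)) := fun x => by
    haveI : Subsingleton ↥(Spec (CommRingCat.of k)) := inferInstanceAs (Subsingleton (PrimeSpectrum k))
    rw [Subsingleton.elim x (genericPoint ↥(Spec (CommRingCat.of k)))]
    exact ⟨inferInstanceAs (IsDomain (Spec (CommRingCat.of k)).functionField),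
      inferInstanceAs (IsIntegrallyClosed (Spec (CommRingCat.of k)).functionField)⟩
  have hN := Groth.NeronArea.isNormalScheme_of_smooth G.hom hK
  haveI : Nonempty (⊤ : G.left.Opens) := ⟨⟨Classical.arbitrary G.left, trivial⟩⟩
  haveI : IsIntegrallyClosed Γ(G.left, ⊤) := Groth.Variety2.isIntegrallyClosed_Γ (fun x => (hN x).2) ⊤
  haveI : IsAffine (G ⊗ H).left := inferInstanceAs (IsAffine (Limits.pullback G.hom H.hom))
  haveI : Flat (fst G H).left := inferInstanceAs (Flat (Limits.pullback.fst G.hom H.hom))
  refine isIntegrallyClosed_eqLocus _ _ fun a ha => ?_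
  letI := (fst G H).left.appTop.hom.toAlgebra
  haveI : Module.Flat Γ(G.left, ⊤) Γ((G ⊗ H).left, ⊤) := Scheme.Hom.flat_appTop (f := (fst G H).left)
  have hreg := IsSMulRegular.of_flat (S := Γ((G ⊗ H).left, ⊤))
    (IsSMulRegular.of_ne_zero ha : IsSMulRegular Γ(G.left, ⊤) a)
  exact fun x y h => hreg (by simp only [Algebra.smul_def]; exact h)

end Groth.Agent.S11192
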