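import Groth.Statements.S11194
import Mathlib
import Groth.Agent.AgfChar.Weights
-- import your own Groth.Agent.* helpers here

set_option autoImplicit false
universe u
open CategoryTheory MonoidalCategory CartesianMonoidalCategory MonObj GrpObj AlgebraicGeometry
open scoped TensorProduct
open AGF

namespace Groth.Agent.S11194

/-- (i) ⇔ (iii): let k be an algebraically closed field, G a linear algebraic group over k (an affine
smooth group scheme over k) and H a closed subgroup of G (a smooth closed subgroup scheme, i : H →
G); let G₀ ⊆ G and H₀ ⊆ H be the identity components (connected open subgroup schemes) and i₀ : H₀ →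
G₀ the induced homomorphism. Then H is observable in G if and only if H₀ is observable in G₀. -/
theorem result (k : Type u) [Field k] [IsAlgClosed k]
    (G : Over (Spec (CommRingCat.of k))) [GrpObj G] [IsAffine G.left] [Smooth G.hom]
    (H : Over (Spec (CommRingCat.of k))) [GrpObj H] [Smooth H.hom] (i : H ⟶ G) [IsMonHom i]
    [IsClosedImmersion i.left]
    (G₀ : Over (Spec (CommRingCat.of k))) [GrpObj G₀] [ConnectedSpace G₀.left] (jG : G₀ ⟶ G) [IsMonHom jG]
    [IsOpenImmersion jG.left]
    (H₀ : Over (Spec (CommRingCat.of k))) [GrpObj H₀] [ConnectedSpace H₀.left] (jH : H₀ ⟶ H) [IsMonHom jH]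
    [IsOpenImmersion jH.left] (i₀ : H₀ ⟶ G₀) [IsMonHom i₀] (hc : i₀ ≫ jG = jH ≫ i) :
    AGF.IsObservableIn k i ↔ AGF.IsObservableIn k i₀ := by
  open Groth.Agf in
  have : IsAffine H.left := isAffine_of_closedImm i
  have : IsClosedImmersion jG.left :=
    IsClosedImmersion.of_isPreimmersion jG.left (Groth.Agf.isClosed_range_openSubgroup jG)
  have : IsAffine G₀.left := Groth.Agf.isAffine_of_closedImm jG
  have : IsClosedImmersion jH.left :=
    IsClosedImmersion.of_isPreimmersion jH.left (Groth.Agf.isClosed_range_openSubgroup jH)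
  have : IsAffine H₀.left := Groth.Agf.isAffine_of_closedImm jH
  have : Smooth H₀.hom := by rw [← Over.w jH]; infer_instance
  have : Smooth G₀.hom := by rw [← Over.w jG]; infer_instance
  have : IsClosedImmersion (jH ≫ i).left := by rw [Over.comp_left]; infer_instance
  constructor
  · intro hobs g hg
    have h₀ : AGF.IsObservableIn k (jH ≫ i) := Groth.AgfChar.obs_of_charCond (jH ≫ i)
      (Groth.AgfChar.charCond_comp i jH (Groth.AgfChar.charCond_of_obs jH (Groth.AgfChar.obs_of_isOpenImmersion jH))
        (Groth.AgfChar.charCond_of_obs i hobs))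
    obtain ⟨h, hh⟩ := Groth.Agf.exists_of_obs (jH ≫ i) jG (𝟙 H₀) i₀ (by rw [Category.id_comp, hc]) h₀ g hg
    refine ⟨h, Over.OverMorphism.ext ((cancel_mono jG.left).1 ?_)⟩
    have := congrArg Over.Hom.left (show (h ≫ i₀) ≫ jG = g ≫ jG by rw [Category.assoc, hc, hh])
    simpa using this
  · intro hobs
    have := Groth.Agf.finite_quotient_range jH
    exact Groth.Agf.obs_of_finite i jG jH i₀ hc.symm hobs

end Groth.Agent.S11194
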