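import Groth.Statements.S11198
import Groth.Agent.AlgGrp1.BorelRigid
import Groth.Agent.AlgGrp1.MatRep

open scoped Groth.Agf

set_option autoImplicit false
universe u
open CategoryTheory MonoidalCategory CartesianMonoidalCategory MonObj GrpObj AlgebraicGeometry
open scoped TensorProduct
open AGF

namespace Groth.Agent.S11198

/-- Let k be an algebraically closed field, G a linear algebraic group over k and H₁ ⊆ H₂ ⊆ G closed
subgroups (smooth closed subgroup schemes i₁ : H₁ → H₂, i₂ : H₂ → G), such that the quotient H₂/H₁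
(the scheme X with H₂-action a and base point o) is proper over k and irreducible. Then a global
function on G is invariant under right translation by H₁ if and only if it is invariant under right
translation by H₂. -/
theorem result (k : Type u) [Field k] [IsAlgClosed k]
    (G : Over (Spec (CommRingCat.of k))) [GrpObj G] [IsAffine G.left] [Smooth G.hom]
    (H₂ : Over (Spec (CommRingCat.of k))) [GrpObj H₂] [Smooth H₂.hom] (i₂ : H₂ ⟶ G) [IsMonHom i₂] [IsClosedImmersion i₂.left]
    (H₁ : Over (Spec (CommRingCat.of k))) [GrpObj H₁] [Smooth H₁.hom] (i₁ : H₁ ⟶ H₂) [IsMonHom i₁] [IsClosedImmersion i₁.left]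
    (X : Over (Spec (CommRingCat.of k))) (a : AlgGrp.Action H₂ X) (o : 𝟙_ (Over (Spec (CommRingCat.of k))) ⟶ X) (hX : AGF.IsQuotient i₁ X a o)
    [IsProper X.hom] [IrreducibleSpace X.left] :
    AGF.rTransInv (i₁ ≫ i₂) = AGF.rTransInv i₂ := by
  have : QuasiCompact H₂.hom := by rw [← Over.w i₂]; infer_instance
  refine le_antisymm (fun f hf => ?_) fun f hf => ?_
  · let A := Polynomial k
    let φ : Polynomial k →ₐ[k] Groth.Agf.Fn G := Polynomial.aeval (show Groth.Agf.Fn G from f)
    let fh : G ⟶ CoactBr.sp k (Polynomial k) := Groth.AlgGrp1.toAffine φ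
    have hpull : ∀ {W : Over (Spec (CommRingCat.of k))} (m : W ⟶ G) (p : Polynomial k),
        Groth.Agf.pull (m ≫ fh) (Groth.AlgGrp1.spFn p) = Groth.Agf.pull m (φ p) := fun m p => by
      rw [Groth.Agf.pull_comp, ← Groth.AlgGrp1.pull_toAffine φ p]
    have hext : ∀ {W : Over (Spec (CommRingCat.of k))} (m m' : W ⟶ G), m.left.appTop f = m'.left.appTop f →
        m ≫ fh = m' ≫ fh := fun {W} m m' h => by
      refine Groth.AlgGrp1.hom_sp_ext fun p => ?_
      rw [hpull, hpull]
      refine congrArg (fun (ψ : Polynomial k →ₐ[k] Groth.Agf.Fn W) => ψ p)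
        (Polynomial.algHom_ext (f := (Groth.Agf.pull m).comp φ) (g := (Groth.Agf.pull m').comp φ) ?_)
      simp only [AlgHom.comp_apply, φ, Polynomial.aeval_X]
      exact h
    have hinv : ((G ◁ (i₁ ≫ i₂)) ≫ μ[G]) ≫ fh = fst G H₁ ≫ fh := hext _ _ hf
    have hmul : ∀ {T W : Over (Spec (CommRingCat.of k))} (j : T ⟶ G) (g : W ⟶ G) (t : W ⟶ T),
        lift g t ≫ (G ◁ j) ≫ μ[G] = g * (t ≫ j) := fun j g t => by
      rw [lift_whiskerLeft_assoc, ← Hom.mul_def]
    let F : H₂ ⊗ G ⟶ CoactBr.sp k (Polynomial k) := (snd H₂ G * (fst H₂ G ≫ i₂)) ≫ fh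
    have hFl : ∀ {W : Over (Spec (CommRingCat.of k))} (h : W ⟶ H₂) (g : W ⟶ G),
        lift h g ≫ F = (g * (h ≫ i₂)) ≫ fh := fun h g => by
      simp only [F, ← Category.assoc, MonObj.comp_mul, lift_snd, lift_fst]
    have : IsAffine (CoactBr.sp k (Polynomial k)).left := inferInstanceAs (IsAffine (Spec _))
    have e := Groth.AlgGrp1.eq_snd_of_invariant' hX F fun W h h' g => by
      rw [hFl, hFl, MonObj.mul_comp h (h' ≫ i₁) i₂, Category.assoc, ← _root_.mul_assoc]
      have := congrArg (lift (g * (h ≫ i₂)) h' ≫ ·) hinv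
      simp only [← Category.assoc, lift_fst] at this
      rw [Category.assoc (lift (g * (h ≫ i₂)) h'), hmul] at this
      exact this
    have e2 := congrArg (lift (snd G H₂) (fst G H₂) ≫ ·) e
    simp only [hFl, lift_snd_assoc, Category.id_comp, MonObj.comp_one, MonObj.one_comp, _root_.mul_one] at e2
    have e3 : ((G ◁ i₂) ≫ μ[G]) ≫ fh = fst G H₂ ≫ fh := by
      rw [← e2, ← Category.id_comp (G ◁ i₂), ← lift_fst_snd, Category.assoc (lift _ _), hmul]
    have e4 := congrArg (fun m => Groth.Agf.pull m (Groth.AlgGrp1.spFn (Polynomial.X : Polynomial k))) e3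
    simp only [hpull, φ, Polynomial.aeval_X] at e4
    exact e4
  · have e : (G ◁ (i₁ ≫ i₂)) ≫ μ[G] = (G ◁ i₁) ≫ (G ◁ i₂) ≫ μ[G] := by
      rw [MonoidalCategory.whiskerLeft_comp, Category.assoc]
    show ((G ◁ (i₁ ≫ i₂)) ≫ μ[G]).left.appTop f = (fst G H₁).left.appTop f
    rw [e, ← whiskerLeft_fst G i₁]
    show ((G ◁ i₁).left ≫ ((G ◁ i₂) ≫ μ[G]).left).appTop f = ((G ◁ i₁).left ≫ (fst G H₂).left).appTop f
    rw [Scheme.Hom.comp_appTop, Scheme.Hom.comp_appTop]
    exact congrArg (G ◁ i₁).left.appTop hf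

end Groth.Agent.S11198
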