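import Groth.Statements.S11200
import Mathlib
import Groth.Agent.AgfChar.Weights
-- import your own Groth.Agent.* helpers here

set_option autoImplicit false
universe u
open CategoryTheory MonoidalCategory CartesianMonoidalCategory MonObj GrpObj AlgebraicGeometry
open scoped TensorProduct
open AGF

namespace Groth.Agent.S11200

/-- Let k be an algebraically closed field, G a linear algebraic group over k (an affine smooth group
scheme over k) and H a closed subgroup of G (a smooth closed subgroup scheme, i : H → G). If H has
no non-trivial character (every homomorphism from H to the multiplicative group is trivial), then H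
is observable in G. -/
theorem result (k : Type u) [Field k] [IsAlgClosed k]
    (G : Over (Spec (CommRingCat.of k))) [GrpObj G] [IsAffine G.left] [Smooth G.hom]
    (H : Over (Spec (CommRingCat.of k))) [GrpObj H] [Smooth H.hom] (i : H ⟶ G) [IsMonHom i]
    [IsClosedImmersion i.left]
    (hχ : ∀ (χ : H ⟶ Red.Gm (Spec (CommRingCat.of k))), IsMonHom χ → χ = 1) :
    AGF.IsObservableIn k i := by
  have : IsAffine H.left := Groth.Agf.isAffine_of_closedImm i
  open Groth.Agf Groth.AgfChar in
  refine obs_of_charCond i ?_
  rintro u hu ⟨f, hf0, hf⟩
  obtain ⟨χ, hχm, hχu⟩ := Groth.AgfChar.exists_char hu (hf.isUnit hf0)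
  have h1 : u = 1 := by rw [← hχu, hχ χ hχm, Groth.Reductive.gmFn_one]
  exact ⟨1, fun h0 => hf0 (by rw [← _root_.mul_one f, h0, mul_zero]), fun x h => by simp [h1]⟩

end Groth.Agent.S11200
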