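import Groth.Statements.S11205
import Groth.Agent.VarietyBC.RadicialSections

set_option autoImplicit false
universe u
open CategoryTheory MonoidalCategory CartesianMonoidalCategory MonObj GrpObj AlgebraicGeometry
open scoped TensorProduct
open AGF

namespace Groth.Agent.S11205

/-- Let k be an algebraically closed field and let X and Y be irreducible normal varieties over k
(integral separated schemes of finite type over k all of whose local rings are integrally closed),
and π : Y → X a k-morphism which is bijective on points. If the ring of global functions of Y is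
finitely generated over k, then so is the ring of global functions of X. (The published statement
asks π bijective on rational points; this row asks bijectivity on all points, which for schemes of
finite type over an algebraically closed field is the same condition.) -/
theorem result (k : Type u) [Field k] [IsAlgClosed k] (X Y : Over (Spec (CommRingCat.of k)))
    [IsIntegral X.left] [IsIntegral Y.left] [LocallyOfFiniteType X.hom] [QuasiCompact X.hom]
    [IsSeparated X.hom] [LocallyOfFiniteType Y.hom] [QuasiCompact Y.hom] [IsSeparated Y.hom]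
    (hX : ∀ x : X.left, IsIntegrallyClosed ↑(X.left.presheaf.stalk x))
    (hY : ∀ y : Y.left, IsIntegrallyClosed ↑(Y.left.presheaf.stalk y))
    (π : Y ⟶ X) (hπ : Function.Bijective π.left.base)
    (hfg : ((Scheme.ΓSpecIso (CommRingCat.of k)).inv ≫ Y.hom.appTop).hom.FiniteType) :
    ((Scheme.ΓSpecIso (CommRingCat.of k)).inv ≫ X.hom.appTop).hom.FiniteType := by
  haveI : Surjective π.left := ⟨hπ.2⟩
  have hw : π.left ≫ X.hom = Y.hom := Over.w π
  haveI := Groth.VarietyBC.RadicialSections.universallyInjective_of_injective π.left X.hom Y.hom hw hπ.1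
  haveI : AlgebraicGeometry.IsLocallyNoetherian X.left :=
    LocallyOfFiniteType.isLocallyNoetherian X.hom
  haveI : Nonempty (⊤ : Y.left.Opens) := ⟨⟨genericPoint Y.left, trivial⟩⟩
  haveI : Nonempty (⊤ : X.left.Opens) := ⟨⟨genericPoint X.left, trivial⟩⟩
  let e : (CommRingCat.of k) ⟶ Γ(Spec (CommRingCat.of k), ⊤) := (Scheme.ΓSpecIso (CommRingCat.of k)).inv
  letI : Algebra k Γ(X.left, ⊤) := (e ≫ X.hom.appTop).hom.toAlgebra
  letI : Algebra k Γ(Y.left, ⊤) := (e ≫ Y.hom.appTop).hom.toAlgebra
  letI : Algebra Γ(X.left, ⊤) Γ(Y.left, ⊤) := π.left.appTop.hom.toAlgebra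
  haveI : IsScalarTower k Γ(X.left, ⊤) Γ(Y.left, ⊤) := IsScalarTower.of_algebraMap_eq' (by
    show (e ≫ Y.hom.appTop).hom = π.left.appTop.hom.comp (e ≫ X.hom.appTop).hom
    rw [← CommRingCat.hom_comp, Category.assoc, ← Scheme.Hom.comp_appTop, hw])
  haveI hYft : Algebra.FiniteType k Γ(Y.left, ⊤) := hfg
  haveI : Algebra.IsIntegral Γ(X.left, ⊤) Γ(Y.left, ⊤) := ⟨fun F => by
    obtain ⟨N, hN, z, hz⟩ := Groth.VarietyBC.RadicialSections.exists_pow_mem π.left
      (Y.left.germToFunctionField ⊤ F)
    rw [← map_pow] at hz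
    obtain ⟨g, hg⟩ := Groth.VarietyBC.RadicialSections.exists_section π.left hX z _ hz
    exact IsIntegral.of_pow hN (hg ▸ isIntegral_algebraMap)⟩
  haveI : Algebra.FiniteType Γ(X.left, ⊤) Γ(Y.left, ⊤) :=
    Algebra.FiniteType.of_restrictScalars_finiteType k Γ(X.left, ⊤) Γ(Y.left, ⊤)
  haveI : Module.Finite Γ(X.left, ⊤) Γ(Y.left, ⊤) := Algebra.IsIntegral.finite
  have hinj : Function.Injective (algebraMap Γ(X.left, ⊤) Γ(Y.left, ⊤)) := fun a b h => by
    apply Scheme.germToFunctionField_injective X.left ⊤
    apply (Groth.VarietyBC.RadicialSections.fieldMap π.left).hom.injective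
    haveI : Nonempty (π.left ⁻¹ᵁ (⊤ : X.left.Opens)) := ⟨⟨genericPoint Y.left, trivial⟩⟩
    show Groth.VarietyBC.RadicialSections.fieldMap π.left (X.left.germToFunctionField ⊤ a) =
      Groth.VarietyBC.RadicialSections.fieldMap π.left (X.left.germToFunctionField ⊤ b)
    rw [Groth.VarietyBC.RadicialSections.fieldMap_germ, Groth.VarietyBC.RadicialSections.fieldMap_germ]
    exact congrArg _ h
  exact ⟨fg_of_fg_of_fg k Γ(X.left, ⊤) Γ(Y.left, ⊤) hYft.out Module.Finite.fg_top hinj⟩


end Groth.Agent.S11205
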