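import Groth.Statements.S11216
import Groth.Agent.Agf.OrbitSpec

set_option autoImplicit false
universe u
open CategoryTheory MonoidalCategory CartesianMonoidalCategory MonObj GrpObj AlgebraicGeometry
open scoped TensorProduct
open AGF

namespace Groth.Agent.S11216

open scoped Groth.Agf
open Groth.Agf

/-- (b) ⇒ (i): let k be an algebraically closed field, G a linear algebraic group over k (an affine
smooth group scheme over k) and H a closed subgroup of G (a smooth closed subgroup scheme, i : H →
G), with H observable in G and k[G]^H finitely generated over the constants; let X = Spec k[G]^H and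
φ : G → X the morphism given by the inclusion k[G]^H ⊆ k[G]. Then the image of φ (the orbit of the
base point) is open in X and every point of X outside the image has codimension at least 2 (its
prime ideal has height ≥ 2). (The published statement also asserts that G/H maps isomorphically onto
the image, and that finite generation is equivalent to an orbit-closure condition in a
representation; neither is stated here.) -/
theorem result (k : Type u) [Field k] [IsAlgClosed k]
    (G : Over (Spec (CommRingCat.of k))) [GrpObj G] [IsAffine G.left] [Smooth G.hom]
    (H : Over (Spec (CommRingCat.of k))) [GrpObj H] [Smooth H.hom] (i : H ⟶ G) [IsMonHom i]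
    [IsClosedImmersion i.left]
    (hobs : AGF.IsObservableIn k i) (hfg : AGF.SubringFGOver k G (AGF.rTransInv i)) :
    IsOpen (Set.range ⇑(G.left.toSpecΓ ≫ Spec.map (CommRingCat.ofHom (AGF.rTransInv i).subtype)).base) ∧
      ∀ x : ↥(Spec (CommRingCat.of ↥(AGF.rTransInv i))),
        x ∉ Set.range ⇑(G.left.toSpecΓ ≫ Spec.map (CommRingCat.ofHom (AGF.rTransInv i).subtype)).base →
          (2 : ℕ∞) ≤ x.asIdeal.height := by
  have := isAffine_of_closedImm i
  let B := rTransInvAlg i
  have := rTransInvAlg_finiteType i hfg
  have := fn_finiteType (k := k) G
  have : IsNoetherianRing (Fn G) := fn_isNoetherianRing G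
  have hNB : IsNoetherianRing B := Algebra.FiniteType.isNoetherianRing k _
  have : IsReduced G.left := fn_isReduced_of_smooth G
  have hr : Set.range ⇑(G.left.toSpecΓ ≫ Spec.map (CommRingCat.ofHom (AGF.rTransInv i).subtype)).base =
      Set.range (PrimeSpectrum.comap B.val.toRingHom) := by
    rw [Scheme.Hom.comp_base, TopCat.coe_comp, Set.range_comp, G.left.toSpecΓ.surjective.range_eq, Set.image_univ]
    rfl
  rw [hr]
  refine ⟨isOpen_range_comap i hfg, fun x hx => ?_⟩
  exact two_le_height_of_not_mem_range (B := B) (A := Fn G) B.val.toRingHom Subtype.val_injective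
    (isOpen_range_comap i hfg)
    (fun a c f ha hf => ⟨⟨f, isRTransInv_of_mul_eq i ha a.2 c.2 hf⟩, rfl⟩) x hx

end Groth.Agent.S11216
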