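import Groth.Statements.S11217

set_option autoImplicit false
universe u
open CategoryTheory MonoidalCategory CartesianMonoidalCategory MonObj GrpObj AlgebraicGeometry
open scoped TensorProduct
open AGF

namespace Groth.Agent.S11217

open MvPolynomial Finsupp

theorem der_sum_apply {k A : Type*} [CommRing k] [CommRing A] [Algebra k A] {J : Type*} (t : Finset J)
    (D : J → Derivation k A A) (x : A) : (∑ i ∈ t, D i) x = ∑ i ∈ t, D i x := by
  classical
  induction t using Finset.induction_on with
  | empty => simp
  | insert a t ha ih => simp [Finset.sum_insert ha, ih]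

theorem mkDer_eq_sum {k : Type u} [CommRing k] {σ : Type} [Fintype σ] [DecidableEq σ]
    (g : σ → MvPolynomial σ k) (f : MvPolynomial σ k) :
    mkDerivation k g f = ∑ i, g i * pderiv i f := by
  have h : mkDerivation k g = ∑ i, g i • pderiv (R := k) i := by
    refine derivation_ext fun j => ?_
    rw [mkDerivation_X]
    simp [der_sum_apply, pderiv_X, Pi.single_apply]
  conv_lhs => rw [h]
  simp [der_sum_apply]

/-- Let k be a field of characteristic zero and m ≥ 2; in the polynomial ring k[x, y, z, s, t, u, v]
(variables 0, …, 6) let δ be the k-derivation with δ(x) = δ(y) = δ(z) = 0, δ(s) = x^(m+1), δ(t) =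
y^(m+1), δ(u) = z^(m+1), δ(v) = (xyz)^m, and grade by total degree in s, t, u, v. If f is
homogeneous of degree n ≥ 1 for this grading and δ(f) = 0, then every coefficient of f, as a
polynomial in s, t, u, v over k[x, y, z], lies in the ideal (x, y, z): every monomial of f has
positive degree in x, y, z. (The published statement allows n = 0, where the constant 1 is a
counterexample; this row assumes n ≥ 1. The published definition of the derivation gives δ(v) =
(xyz)^(m+1), for which the assertion fails: v − (yz)^(m+1)·s is killed by δ and has the monomial v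
with coefficient 1; this row uses δ(v) = (xyz)^m, the exponent of the published action formula and
of the published examples of invariants.) -/
theorem result (k : Type u) [Field k] [CharZero k] (m : ℕ) (hm : 2 ≤ m) (n : ℕ) (hn : 1 ≤ n)
    (f : MvPolynomial (Fin 7) k)
    (hf : MvPolynomial.IsWeightedHomogeneous (![0, 0, 0, 1, 1, 1, 1] : Fin 7 → ℕ) f n)
    (hδ : MvPolynomial.mkDerivation k
      (![0, 0, 0, MvPolynomial.X 0 ^ (m + 1), MvPolynomial.X 1 ^ (m + 1), MvPolynomial.X 2 ^ (m + 1),
        (MvPolynomial.X 0 * MvPolynomial.X 1 * MvPolynomial.X 2) ^ m] : Fin 7 → MvPolynomial (Fin 7) k) f = 0) :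
    ∀ d ∈ f.support, 0 < d 0 + d 1 + d 2 := by
  intro d hd
  by_contra hcon
  have h0 : d 0 = 0 := by omega
  have h1 : d 1 = 0 := by omega
  have h2 : d 2 = 0 := by omega
  have hc : coeff d f ≠ 0 := MvPolynomial.mem_support_iff.mp hd
  have hw : Finsupp.weight (![0, 0, 0, 1, 1, 1, 1] : Fin 7 → ℕ) d = n := hf hc
  rw [Finsupp.weight_apply, Finsupp.sum_fintype _ _ (by simp)] at hw
  simp [Fin.sum_univ_succ] at hw
  rw [mkDer_eq_sum] at hδ
  set b : Fin 7 →₀ ℕ := single 0 m + single 1 m + single 2 m with hb
  have e6 : ((X 0 * X 1 * X 2) ^ m : MvPolynomial (Fin 7) k) = monomial b 1 := by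
    rw [mul_pow, mul_pow, X_pow_eq_monomial, X_pow_eq_monomial, X_pow_eq_monomial]
    simp [monomial_mul, hb]
  simp [Fin.sum_univ_succ, X_pow_eq_monomial, e6, -Finsupp.single_add] at hδ
  -- d 3 = 0
  have key : ∀ e : Fin 7 →₀ ℕ, coeff e (monomial (single 0 (m+1)) 1 * pderiv 3 f +
      (monomial (single 1 (m+1)) 1 * pderiv 4 f +
      (monomial (single 2 (m+1)) 1 * pderiv 5 f + monomial b 1 * pderiv 6 f))) = 0 := by
    intro e; rw [hδ]; simp
  simp only [coeff_add, coeff_monomial_mul', coeff_pderiv] at key
  have hb0 : b 0 = m ∧ b 1 = m ∧ b 2 = m := by simp [hb]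
  have a3 : d 3 = 0 := by
    by_contra h
    have := key (d - single 3 1 + single 0 (m + 1))
    rw [if_pos le_add_self, if_neg, if_neg, if_neg] at this
    · have e : d - single 3 1 + single 0 (m + 1) - single 0 (m + 1) = d - single 3 1 := by simp
      have e' : d - single 3 1 + single 3 1 = d :=
        tsub_add_cancel_of_le (Finsupp.single_le_iff.mpr (by omega))
      rw [e, e'] at this
      simp [hc] at this
      exact Nat.cast_add_one_ne_zero _ this
    all_goals intro hle
    · have := hle 1; simp [hb0, h1] at this; omega
    · have := hle 2; simp [hb0, h2] at this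
    · have := hle 1; simp [hb0, h1] at this
  have a4 : d 4 = 0 := by
    by_contra h
    have := key (d - single 4 1 + single 1 (m + 1))
    rw [if_pos le_add_self, if_neg, if_neg, if_neg] at this
    · have e : d - single 4 1 + single 1 (m + 1) - single 1 (m + 1) = d - single 4 1 := by simp
      have e' : d - single 4 1 + single 4 1 = d :=
        tsub_add_cancel_of_le (Finsupp.single_le_iff.mpr (by omega))
      rw [e, e'] at this
      simp [hc] at this
      exact Nat.cast_add_one_ne_zero _ this
    all_goals intro hle
    · have := hle 0; simp [hb0, h0] at this; omega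
    · have := hle 2; simp [hb0, h2] at this
    · have := hle 0; simp [hb0, h0] at this
  have a5 : d 5 = 0 := by
    by_contra h
    have := key (d - single 5 1 + single 2 (m + 1))
    rw [if_pos le_add_self, if_neg, if_neg, if_neg] at this
    · have e : d - single 5 1 + single 2 (m + 1) - single 2 (m + 1) = d - single 5 1 := by simp
      have e' : d - single 5 1 + single 5 1 = d :=
        tsub_add_cancel_of_le (Finsupp.single_le_iff.mpr (by omega))
      rw [e, e'] at this
      simp [hc] at this
      exact Nat.cast_add_one_ne_zero _ this
    all_goals intro hle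
    · have := hle 0; simp [hb0, h0] at this; omega
    · have := hle 1; simp [hb0, h1] at this
    · have := hle 0; simp [hb0, h0] at this
  have a6 : d 6 = n := by omega
  have := key (d - single 6 1 + b)
  rw [if_pos le_add_self, if_neg, if_neg, if_neg] at this
  · have e : d - single 6 1 + b - b = d - single 6 1 := by simp
    have e' : d - single 6 1 + single 6 1 = d :=
      tsub_add_cancel_of_le (Finsupp.single_le_iff.mpr (by omega))
    rw [e, e'] at this
    simp [hc] at this
    exact Nat.cast_add_one_ne_zero _ this
  all_goals intro hle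
  · have := hle 2; simp [hb0, h2] at this
  · have := hle 1; simp [hb0, h1] at this
  · have := hle 0; simp [hb0, h0] at this

end Groth.Agent.S11217
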