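import Groth.Statements.S11218
import Groth.Agent.AlgGrp1.Orbit
import Groth.Agent.AlgGrp1.Blanchard

set_option autoImplicit false
universe u
open CategoryTheory MonoidalCategory CartesianMonoidalCategory MonObj GrpObj AlgebraicGeometry
open scoped TensorProduct
open AGF

namespace Groth.Agent.S11218

variable {k : Type u} [Field k] {G H X Y : Over (Spec (CommRingCat.of k))} [GrpObj G] [GrpObj H]

/-- The restriction of an action along a homomorphism. -/
noncomputable def resAction (i : H ⟶ G) [IsMonHom i] (a : AlgGrp.Action G X) : AlgGrp.Action H X where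
  act := (i ▷ X) ≫ a.act
  one_act := by
    rw [← comp_whiskerRight_assoc, IsMonHom.one_hom, a.one_act]
  mul_act := by
    apply AlgGrp.Action.hom_ext_lift₃
    intro T g h x
    simp only [lift_whiskerRight_assoc, lift_lift_associator_hom_assoc, lift_whiskerLeft_assoc]
    rw [← Hom.mul_def, MonObj.mul_comp, a.lift_mul_act]

/-- Let k be an algebraically closed field, G a linear algebraic group over k (an affine smooth group
scheme over k) and H a closed subgroup of G (a smooth closed subgroup scheme, i : H → G), such that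
the quotient G/H (the scheme Y with action b and base point o′) is proper over k (complete). Let G
act on a variety X over k (separated, of finite type) and let x be a rational point of X; let Z ⊆ X
be the closure of the H-orbit of x. Then the closure of the G-orbit of x is G·Z, the image under the
action map of the preimage of Z in G × X. (The published statement takes X affine; the argument does
not use this, and this row drops it.) -/
theorem result (k : Type u) [Field k] [IsAlgClosed k]
    (G : Over (Spec (CommRingCat.of k))) [GrpObj G] [IsAffine G.left] [Smooth G.hom]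
    (H : Over (Spec (CommRingCat.of k))) [GrpObj H] [Smooth H.hom] (i : H ⟶ G) [IsMonHom i]
    [IsClosedImmersion i.left]
    (Y : Over (Spec (CommRingCat.of k))) (b : AlgGrp.Action G Y) (o' : 𝟙_ (Over (Spec (CommRingCat.of k))) ⟶ Y) (hY : AGF.IsQuotient i Y b o')
    [IsProper Y.hom]
    (X : Over (Spec (CommRingCat.of k))) [IsSeparated X.hom] [LocallyOfFiniteType X.hom] [QuasiCompact X.hom]
    (a : AlgGrp.Action G X) (x : 𝟙_ (Over (Spec (CommRingCat.of k))) ⟶ X) :
    closure (Set.range ⇑(a.orbitMap x).left.base) =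
      ⇑a.act.left.base '' (⇑(snd G X).left.base ⁻¹' closure (Set.range ⇑(i ≫ a.orbitMap x).left.base)) := by
  obtain ⟨hYlft, hflat, hsurj, hpb⟩ := hY
  set O := Set.range ⇑(a.orbitMap x).left.base with hO
  set Z := closure (Set.range ⇑(i ≫ a.orbitMap x).left.base) with hZdef
  let aH := resAction i a
  have hHorb : aH.orbitMap x = i ≫ a.orbitMap x := by
    rw [Groth.AlgGrp1.comp_orbit]
    show lift (𝟙 H) (toUnit H ≫ x) ≫ (i ▷ X) ≫ a.act = _
    rw [lift_whiskerRight_assoc, Category.id_comp]
  have hZinv : Groth.AlgGrp1.IsInvariant aH Z := by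
    refine Groth.AlgGrp1.IsInvariant.closure ?_
    rw [← hHorb]
    exact Groth.AlgGrp1.isInvariant_range (Groth.AlgGrp1.regularAction H) aH _
      (Groth.AlgGrp1.orbitMap_equivariant aH x)
  -- the quotient map times `X` is open
  let q := b.orbitMap o'
  have : Flat q.left := hflat
  have : Surjective q.left := hsurj
  have : LocallyOfFinitePresentation q.left := Groth.AlgGrp1.lfp_left q
  have : UniversallyOpen (q ▷ X).left :=
    MorphismProperty.of_isPullback (Groth.AlgGrp1.isPullback_whiskerRight q X) (inferInstance : UniversallyOpen q.left)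
  have : Surjective (q ▷ X).left :=
    MorphismProperty.of_isPullback (Groth.AlgGrp1.isPullback_whiskerRight q X) hsurj
  let θ : G ⊗ X ⟶ X := (Groth.AlgGrp1.shear a).inv ≫ snd G X
  let C : Set (G ⊗ X).left := θ.left.base ⁻¹' Z
  have hsat : ∀ p p' : (G ⊗ X).left, (q ▷ X).left.base p = (q ▷ X).left.base p' → p ∈ C → p' ∈ C := by
    intro p p' hpp hp
    let W : Over (Spec (CommRingCat.of k)) :=
      Over.mk (Limits.pullback.fst (q ▷ X).left (q ▷ X).left ≫ (G ⊗ X).hom)
    let u₁ : W ⟶ G ⊗ X := Over.homMk (Limits.pullback.fst (q ▷ X).left (q ▷ X).left) rfl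
    let v₁ : W ⟶ G ⊗ X := Over.homMk (Limits.pullback.snd (q ▷ X).left (q ▷ X).left) (by
      show _ ≫ (G ⊗ X).hom = Limits.pullback.fst _ _ ≫ (G ⊗ X).hom
      rw [← Over.w (q ▷ X), ← Category.assoc, ← Limits.pullback.condition, Category.assoc])
    have huv : u₁ ≫ (q ▷ X) = v₁ ≫ (q ▷ X) := Over.OverMorphism.ext Limits.pullback.condition
    have h1 : u₁ ≫ fst G X ≫ q = v₁ ≫ fst G X ≫ q := by
      simpa using congrArg (· ≫ fst Y X) huv
    have h2 : u₁ ≫ snd G X = v₁ ≫ snd G X := by simpa using congrArg (· ≫ snd Y X) huv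
    let w := hpb.lift (u₁ ≫ fst G X) (v₁ ≫ fst G X) (by simpa only [Category.assoc] using h1)
    have hw1 : w ≫ fst G H = u₁ ≫ fst G X := hpb.lift_fst _ _ _
    have hw2 : w ≫ (G ◁ i) ≫ μ[G] = v₁ ≫ fst G X := hpb.lift_snd _ _ _
    have hθ : ∀ {T : Over (Spec (CommRingCat.of k))} (z : T ⟶ G ⊗ X),
        z ≫ θ = lift (z ≫ fst G X)⁻¹ (z ≫ snd G X) ≫ a.act := fun z => by
      simp [θ, Groth.AlgGrp1.shear, comp_lift_assoc, GrpObj.comp_inv]
    have hg : v₁ ≫ fst G X = (u₁ ≫ fst G X) * (w ≫ snd G H ≫ i) := by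
      rw [← hw1, ← hw2, ← MonObj.comp_mul, Hom.mul_def]
      refine congrArg (fun z => w ≫ z ≫ μ[G]) ?_
      apply CartesianMonoidalCategory.hom_ext <;> simp
    have hv : v₁ ≫ θ = lift ((w ≫ snd G H)⁻¹) (u₁ ≫ θ) ≫ aH.act := by
      show _ = lift _ _ ≫ (i ▷ X) ≫ a.act
      rw [lift_whiskerRight_assoc, hθ, hθ, GrpObj.inv_comp, Category.assoc, ← a.lift_mul_act, hg,
        _root_.mul_inv_rev, h2]
    obtain ⟨z, hz1, hz2⟩ := Scheme.Pullback.exists_preimage_pullback (f := (q ▷ X).left) (g := (q ▷ X).left) p p' hpp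
    let j := lift ((w ≫ snd G H)⁻¹) (u₁ ≫ θ)
    have e1 : (snd H X).left.base (j.left.base z) = θ.left.base p := by
      rw [← hz1]
      exact congr(($(show j ≫ snd H X = u₁ ≫ θ from lift_snd _ _)).left.base z)
    have e2 : aH.act.left.base (j.left.base z) = θ.left.base p' := by
      rw [← hz2]
      exact congr(($hv.symm).left.base z)
    have h3 : j.left.base z ∈ (snd H X).left.base ⁻¹' Z := by
      show _ ∈ Z
      rw [e1]; exact hp
    rw [← hZinv] at h3
    show θ.left.base p' ∈ Z
    rw [← e2]
    exact h3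
  have hC : IsClosed C := isClosed_closure.preimage θ.left.continuous
  have hD : IsClosed ((q ▷ X).left.base '' C) := by
    have : ((q ▷ X).left.base '' C)ᶜ = (q ▷ X).left.base '' Cᶜ := by
      ext y
      constructor
      · intro hy
        obtain ⟨p, rfl⟩ := (q ▷ X).left.surjective y
        exact ⟨p, fun hp => hy ⟨p, hp, rfl⟩, rfl⟩
      · rintro ⟨p, hp, rfl⟩ ⟨p', hp', he⟩
        exact hp (hsat p' p he hp')
    rw [← isOpen_compl_iff, this]
    exact (q ▷ X).left.isOpenMap _ hC.isOpen_compl
  have hproj : IsClosedMap (snd Y X).left.base := (Limits.pullback.snd Y.hom X.hom).isClosedMap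
  have hGZ : a.act.left.base '' ((snd G X).left.base ⁻¹' Z) =
      (snd Y X).left.base '' ((q ▷ X).left.base '' C) := by
    rw [← Set.image_comp, ← TopCat.coe_comp, ← Scheme.Hom.comp_base, ← Over.comp_left, whiskerRight_snd]
    ext y
    constructor
    · rintro ⟨p, hp, rfl⟩
      refine ⟨(Groth.AlgGrp1.shear a).hom.left.base p, ?_, ?_⟩
      · show θ.left.base _ ∈ Z
        rw [show θ.left.base ((Groth.AlgGrp1.shear a).hom.left.base p) = (snd G X).left.base p from
          congr(($(show (Groth.AlgGrp1.shear a).hom ≫ θ = snd G X by simp [θ])).left.base p)]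
        exact hp
      · exact congr(($(show (Groth.AlgGrp1.shear a).hom ≫ snd G X = a.act from lift_snd _ _)).left.base p)
    · rintro ⟨p, hp, rfl⟩
      refine ⟨(Groth.AlgGrp1.shear a).inv.left.base p, hp, ?_⟩
      exact congr(($(show (Groth.AlgGrp1.shear a).inv ≫ a.act = snd G X by
        rw [Iso.inv_comp_eq]; exact (lift_snd _ _).symm)).left.base p)
  have hinv : Groth.AlgGrp1.IsInvariant a (closure O) :=
    (Groth.AlgGrp1.isInvariant_range (Groth.AlgGrp1.regularAction G) a _
      (Groth.AlgGrp1.orbitMap_equivariant a x)).closure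
  refine subset_antisymm (closure_minimal ?_ (hGZ ▸ hproj _ hD)) ?_
  · rintro _ ⟨g, rfl⟩
    refine ⟨(lift (𝟙 G) (toUnit G ≫ x)).left.base g, ?_, rfl⟩
    have hx : (η[H] ≫ i ≫ a.orbitMap x) = x := by
      rw [IsMonHom.one_hom_assoc, Groth.AlgGrp1.comp_orbit,
        toUnit_unique (toUnit (𝟙_ (Over (Spec (CommRingCat.of k))))) (𝟙 _), Category.id_comp]
      have h1 := a.lift_one_act x
      rwa [show (1 : 𝟙_ (Over (Spec (CommRingCat.of k))) ⟶ G) = η[G] by simp [Hom.one_def]] at h1
    apply subset_closure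
    refine ⟨η[H].left.base ((toUnit G).left.base g), ?_⟩
    calc (i ≫ a.orbitMap x).left.base (η[H].left.base ((toUnit G).left.base g))
        = x.left.base ((toUnit G).left.base g) := congr(($hx).left.base ((toUnit G).left.base g))
      _ = (snd G X).left.base ((lift (𝟙 G) (toUnit G ≫ x)).left.base g) :=
        congr(($((lift_snd (𝟙 G) (toUnit G ≫ x)).symm)).left.base g)
  · rintro _ ⟨p, hp, rfl⟩
    have hsub : Z ⊆ closure O := closure_mono (by
      rintro _ ⟨h, rfl⟩
      exact ⟨i.left.base h, rfl⟩)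
    have h3 : p ∈ (snd G X).left.base ⁻¹' closure O := hsub hp
    rw [← hinv] at h3
    exact h3

end Groth.Agent.S11218
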