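import Groth.Statements.S11220
import Mathlib
import Groth.Agent.AgfChar.Weights
-- import your own Groth.Agent.* helpers here

set_option autoImplicit false
universe u
open CategoryTheory MonoidalCategory CartesianMonoidalCategory MonObj GrpObj AlgebraicGeometry
open scoped TensorProduct
open AGF

namespace Groth.Agent.S11220

/-- Let k be an algebraically closed field, G a linear algebraic group over k (an affine smooth group
scheme over k) and H a closed subgroup of G (a smooth closed subgroup scheme, i : H → G). Then H is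
observable in G if and only if, for every character χ of H which occurs on a nonzero
H-semi-invariant vector of some finite-dimensional rational G-module (h·v = χ(h)v), the inverse
character χ⁻¹ also occurs on a nonzero H-semi-invariant vector of some finite-dimensional rational
G-module (every one-dimensional H-module found inside a finite-dimensional G-module has its dual
inside one too). -/
theorem result (k : Type u) [Field k] [IsAlgClosed k]
    (G : Over (Spec (CommRingCat.of k))) [GrpObj G] [IsAffine G.left] [Smooth G.hom]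
    (H : Over (Spec (CommRingCat.of k))) [GrpObj H] [Smooth H.hom] (i : H ⟶ G) [IsMonHom i]
    [IsClosedImmersion i.left] :
    AGF.IsObservableIn k i ↔
      ∀ (χ : H ⟶ Red.Gm (Spec (CommRingCat.of k))), IsMonHom χ →
        (∃ (V : Type u) (_ : AddCommGroup V) (_ : Module k V) (_ : Module.Finite k V) (ρ : VecGrp.GMod G V) (v : V), v ≠ 0 ∧
          ∀ (B : Type u) [CommRing B] [Algebra k B] (h : VecGrp.pt k B ⟶ H),
            ρ.ρ B (h ≫ i) ((1 : B) ⊗ₜ[k] v) = VecGrp.chiVal χ h • ((1 : B) ⊗ₜ[k] v)) →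
        (∃ (V : Type u) (_ : AddCommGroup V) (_ : Module k V) (_ : Module.Finite k V) (ρ : VecGrp.GMod G V) (v : V), v ≠ 0 ∧
          ∀ (B : Type u) [CommRing B] [Algebra k B] (h : VecGrp.pt k B ⟶ H),
            ρ.ρ B (h ≫ i) ((1 : B) ⊗ₜ[k] v) = VecGrp.chiVal χ⁻¹ h • ((1 : B) ⊗ₜ[k] v)) := by
  open Groth.Agf Groth.AgfChar in
  have : IsAffine H.left := Groth.Agf.isAffine_of_closedImm i
  open Groth.Agf Groth.AgfChar in
  constructor
  · rintro hobs χ hχ ⟨V, _, _, _, ρ, v, hv, hw⟩
    haveI := hχ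
    obtain ⟨f, hf0, hf⟩ := exists_fn_of_vector i ρ hv (Red.gmFn χ) fun h => by
      rw [← chiVal_eq]
      exact pk_of_weight ρ (h ≫ i) v _ (hw k h)
    obtain ⟨b, hb0, hb⟩ := charCond_of_obs i hobs _ (isMult_gmFn χ) ⟨f, hf0, hf⟩
    obtain ⟨W, i1, i2, i3, ρ', w, hw0, hw'⟩ := exists_vector_of_fn i hb0 (u := Red.gmFn χ⁻¹) fun h => fn_ext_pts fun x => by
      rw [evalPt_rT, map_smul, smul_eq_mul, ← hb x h, ← _root_.mul_assoc, mul_comm (evalPt h (Red.gmFn χ⁻¹)),
        _root_.mul_assoc, ← map_mul, Groth.Reductive.gmFn_inv_mul, map_one, _root_.mul_one]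
    refine ⟨W, i1, i2, i3, ρ', w, hw0, fun B _ _ h => ?_⟩
    rw [hw' B h, chiVal_eq]
  · intro hR
    refine obs_of_charCond i ?_
    rintro u hu ⟨f, hf0, hf⟩
    obtain ⟨χ, hχm, hχu⟩ := exists_char hu (hf.isUnit hf0)
    subst hχu
    obtain ⟨W, i1, i2, i3, ρ, w, hw0, hw⟩ := exists_vector_of_fn i hf0 (u := Red.gmFn χ) (rT_semi_of_semi i hf)
    obtain ⟨V, _, _, _, ρ', v, hv, hv'⟩ := hR χ hχm ⟨W, i1, i2, i3, ρ, w, hw0, fun B _ _ h => by
      rw [hw B h, chiVal_eq]⟩
    obtain ⟨b, hb0, hb⟩ := exists_fn_of_vector i ρ' hv (Red.gmFn χ⁻¹) fun h => by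
      rw [← chiVal_eq]
      exact pk_of_weight ρ' (h ≫ i) v _ (hv' k h)
    refine ⟨b, hb0, fun x h => ?_⟩
    rw [hb x h, mul_comm (evalPt h (Red.gmFn χ⁻¹)) (evalPt x b), _root_.mul_assoc, ← map_mul,
      Groth.Reductive.gmFn_inv_mul, map_one, _root_.mul_one]

end Groth.Agent.S11220
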