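import Groth.Statements.S11221
import Mathlib.RingTheory.Ideal.AssociatedPrime.Localization
import Mathlib.RingTheory.Ideal.KrullsHeightTheorem

set_option autoImplicit false
universe u
open CategoryTheory MonoidalCategory CartesianMonoidalCategory MonObj GrpObj AlgebraicGeometry
open scoped TensorProduct
open AGF

namespace Groth.Agent.S11221

/-- Let R be a Noetherian integrally closed domain with fraction field K and let p be a prime ideal of R
of height one. Then there is f ∈ K which is not in R but lies in the local ring R_q ⊆ K of every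
height-one prime q ≠ p (f = a/b with b ∉ q): a rational function on Spec R with a pole along V(p)
only. (The published statement is for the coordinate ring of a normal affine variety; this row is
for any Noetherian integrally closed domain, which is all the argument uses.) -/
theorem result (R : Type u) [CommRing R] [IsDomain R] [IsNoetherianRing R] [IsIntegrallyClosed R]
    (p : Ideal R) [p.IsPrime] (hp : p.height = 1) :
    ∃ f : FractionRing R, f ∉ Set.range ⇑(algebraMap R (FractionRing R)) ∧
      ∀ q : Ideal R, q.IsPrime → q.height = 1 → q ≠ p →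
        ∃ a b : R, b ∉ q ∧ f * algebraMap R (FractionRing R) b = algebraMap R (FractionRing R) a := by
  have hp0 : p ≠ ⊥ := by rintro rfl; simp at hp
  obtain ⟨x, hxp, hx0⟩ := Submodule.exists_mem_ne_zero_of_ne_bot hp0
  have hmin : p ∈ (Module.annihilator R (R ⧸ Ideal.span {x})).minimalPrimes := by
    rw [Ideal.annihilator_quotient]
    refine ⟨⟨inferInstance, by simpa using hxp⟩, fun q ⟨hq, hxq⟩ hqp => ?_⟩
    by_contra hne
    have hlt : q < p := lt_of_le_not_ge hqp hne
    have : q.height < p.height := Ideal.height_strict_mono_of_isPrime hlt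
    rw [hp, Order.lt_one_iff_nonpos] at this
    have hq0 : q = ⊥ := by
      have h0 : q.height = 0 := nonpos_iff_eq_zero.1 this
      exact Ideal.height_eq_zero_iff_eq_bot.1 h0
    subst hq0
    exact hx0 (by simpa using hxq)
  have hass := Module.associatedPrimes.minimalPrimes_annihilator_subset_associatedPrimes R (R ⧸ Ideal.span {x}) hmin
  rw [AssociatedPrimes.mem_iff, isAssociatedPrime_iff] at hass
  obtain ⟨hpp, y', hy'⟩ := hass
  obtain ⟨y, rfl⟩ := Ideal.Quotient.mk_surjective y'
  have hmem : ∀ r : R, r ∈ p ↔ x ∣ r * y := by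
    intro r
    rw [hy', Submodule.mem_colon_singleton, Submodule.mem_bot, Algebra.smul_def, ← Ideal.mem_span_singleton,
      ← Ideal.Quotient.eq_zero_iff_mem, map_mul]
    rfl
  have hinj := IsFractionRing.injective R (FractionRing R)
  have hxF : algebraMap R (FractionRing R) x ≠ 0 := fun h => hx0 (hinj (h.trans (map_zero _).symm))
  refine ⟨algebraMap R (FractionRing R) y / algebraMap R (FractionRing R) x, ?_, ?_⟩
  · rintro ⟨c, hc⟩
    rw [eq_div_iff hxF, ← map_mul] at hc
    apply Ideal.IsPrime.ne_top ‹p.IsPrime›
    rw [Ideal.eq_top_iff_one, hmem]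
    exact ⟨c, by rw [_root_.one_mul, ← hinj hc, mul_comm]⟩
  · intro q hq hq1 hqp
    have hnle : ¬ p ≤ q := by
      intro hle
      have hlt : p < q := lt_of_le_of_ne hle (Ne.symm hqp)
      have := Ideal.height_strict_mono_of_isPrime hlt
      rw [hp, hq1] at this
      exact lt_irrefl _ this
    obtain ⟨b, hbp, hbq⟩ := SetLike.not_le_iff_exists.1 hnle
    obtain ⟨a, ha⟩ := (hmem b).1 hbp
    refine ⟨a, b, hbq, ?_⟩
    rw [div_mul_eq_mul_div, div_eq_iff hxF, ← map_mul, ← map_mul]
    congr 1
    rw [mul_comm y b, ha, mul_comm]

end Groth.Agent.S11221
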