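import Groth.Statements.S11223
import Mathlib.RingTheory.IntegralClosure.Algebra.Basic
-- import your own Groth.Agent.* helpers here

set_option autoImplicit false
universe u
open CAlg

namespace Groth.Agent.S11223

/-- Let k be a field, let z_1, ..., z_m be homogeneous polynomials of positive degree in the polynomial
ring k[x_1, ..., x_n], and suppose the radical of the ideal (z_1, ..., z_m) is the ideal (x_1, ...,
x_n) generated by the variables. Then the polynomial ring is integral over the subalgebra generated
by z_1, ..., z_m. (The published statement is over an algebraically closed field; this row takes any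
field, which its proof allows.) -/
theorem result (k : Type u) [Field k] (n m : ℕ)
    (z : Fin m → MvPolynomial (Fin n) k) (d : Fin m → ℕ) (hd : ∀ i, 0 < d i)
    (hz : ∀ i, (z i).IsHomogeneous (d i))
    (hrad : (Ideal.span (Set.range z)).radical =
      Ideal.span (Set.range (MvPolynomial.X : Fin n → MvPolynomial (Fin n) k))) :
    Algebra.IsIntegral (Algebra.adjoin k (Set.range z)) (MvPolynomial (Fin n) k) := by
  classical
  let B := Algebra.adjoin k (Set.range z)
  set I := Ideal.span (Set.range z)
  have hpow : ∀ i : Fin n, ∃ N, (MvPolynomial.X i : MvPolynomial (Fin n) k) ^ N ∈ I := fun i => by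
    have : (MvPolynomial.X i : MvPolynomial (Fin n) k) ∈ I.radical := hrad ▸ Ideal.subset_span ⟨i, rfl⟩
    exact this
  choose N hN using hpow
  let D := (∑ i, N i) + 1
  let T : Set (MvPolynomial (Fin n) k) :=
    (fun s : Fin n →₀ ℕ => MvPolynomial.monomial s (1 : k)) '' {s | s.degree < D}
  have hTfin : T.Finite := (Finsupp.finite_of_degree_lt D).image _
  let P : Submodule B (MvPolynomial (Fin n) k) := Submodule.span B T
  have hzmul : ∀ j, ∀ g ∈ P, z j * g ∈ P := fun j g hg =>
    P.smul_mem (⟨z j, Algebra.subset_adjoin ⟨j, rfl⟩⟩ : B) hg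
  have hcmul : ∀ (c : k), ∀ g ∈ P, MvPolynomial.C c * g ∈ P := fun c g hg =>
    P.smul_mem (⟨MvPolynomial.C c, B.algebraMap_mem c⟩ : B) hg
  have key : ∀ e : ℕ, ∀ s : Fin n →₀ ℕ, s.degree = e → MvPolynomial.monomial s (1 : k) ∈ P := by
    intro e
    induction e using Nat.strong_induction_on with
    | _ e ih =>
    intro s hs
    by_cases hlt : e < D
    · exact Submodule.subset_span ⟨s, hs.trans_lt hlt, rfl⟩
    have hhom : ∀ (e' : ℕ), e' < e → ∀ g : MvPolynomial (Fin n) k, g.IsHomogeneous e' → g ∈ P := by
      intro e' he' g hg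
      rw [g.as_sum]
      refine P.sum_mem fun t ht => ?_
      rw [← mul_one (g.coeff t), ← MvPolynomial.C_mul_monomial]
      exact hcmul _ _ (ih e' he' t (hg.degree_eq_sum_deg_support ht).symm)
    obtain ⟨i, hi⟩ : ∃ i, N i ≤ s i := by
      by_contra! h
      have h1 : s.degree ≤ ∑ i, N i := by
        rw [Finsupp.degree_eq_sum]
        exact Finset.sum_le_sum fun i _ => (h i).le
      omega
    have hmem : MvPolynomial.monomial s (1 : k) ∈ I := by
      rw [← add_tsub_cancel_of_le (show Finsupp.single i (N i) ≤ s from Finsupp.single_le_iff.mpr hi),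
        MvPolynomial.monomial_single_add]
      exact I.mul_mem_right _ (hN i)
    obtain ⟨g, hg⟩ := Ideal.mem_span_range_iff_exists_fun.mp hmem
    have h2 := congrArg (MvPolynomial.homogeneousComponent e) hg
    rw [map_sum, MvPolynomial.homogeneousComponent_of_mem
      (show MvPolynomial.monomial s (1 : k) ∈ MvPolynomial.homogeneousSubmodule (Fin n) k e from
        MvPolynomial.isHomogeneous_monomial _ hs), if_pos rfl] at h2
    rw [← h2]
    refine P.sum_mem fun j _ => ?_
    rw [← MvPolynomial.sum_homogeneousComponent (g j), Finset.sum_mul, map_sum]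
    refine P.sum_mem fun t _ => ?_
    rw [MvPolynomial.homogeneousComponent_of_mem
      (show _ ∈ MvPolynomial.homogeneousSubmodule (Fin n) k (t + d j) from
        (MvPolynomial.homogeneousComponent_isHomogeneous t (g j)).mul (hz j))]
    split
    · next h =>
      rw [mul_comm]
      exact hzmul j _ (hhom t (by have := hd j; omega) _ (MvPolynomial.homogeneousComponent_isHomogeneous t (g j)))
    · exact P.zero_mem
  have htop : P = ⊤ := eq_top_iff.mpr fun f _ => by
    rw [f.as_sum]
    refine P.sum_mem fun t _ => ?_
    rw [← mul_one (f.coeff t), ← MvPolynomial.C_mul_monomial]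
    exact hcmul _ _ (key _ t rfl)
  have : Module.Finite B (MvPolynomial (Fin n) k) := ⟨⟨hTfin.toFinset, by rw [Set.Finite.coe_toFinset]; exact htop⟩⟩
  exact Algebra.IsIntegral.of_finite B _

end Groth.Agent.S11223
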