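import Groth.Statements.S11233
import Mathlib

set_option autoImplicit false
universe u
open CAlg

namespace Groth.Agent.S11233

/-- Let k be an algebraically closed field, A an integral domain which is a k-algebra, T an m by m
matrix over A with invertible determinant, and let the additive group k^m act on the polynomial ring
A[y_1, ..., y_m] by the A-algebra maps y_s ↦ y_s + Σ_r h_r T_rs. Then the only invariant polynomials
are the constants: a polynomial fixed by all these substitutions lies in A. -/
theorem result (k : Type u) [Field k] [IsAlgClosed k]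
    (A : Type u) [CommRing A] [IsDomain A] [Algebra k A] (m : ℕ) (T : Matrix (Fin m) (Fin m) A)
    (hT : IsUnit T.det) (f : MvPolynomial (Fin m) A)
    (hf : ∀ h : Fin m → k, MvPolynomial.aeval
      (fun s : Fin m => MvPolynomial.X s + MvPolynomial.C (∑ r : Fin m, algebraMap k A (h r) * T r s)) f = f) :
    ∃ a : A, f = MvPolynomial.C a := by
  classical
  haveI : Infinite k := IsAlgClosed.instInfinite
  let g : MvPolynomial (Fin m) A := MvPolynomial.aeval
    (fun s : Fin m => ∑ r : Fin m, MvPolynomial.X r * MvPolynomial.C (T r s)) f
  have hinj : Function.Injective (algebraMap k A) := (algebraMap k A).injective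
  have hg : g = MvPolynomial.C (MvPolynomial.constantCoeff f) := by
    refine MvPolynomial.funext_set (fun _ => Set.range (algebraMap k A))
      (fun _ => Set.infinite_range_of_injective hinj) ?_
    intro x hx
    choose h hh using fun r => hx r (Set.mem_univ r)
    simp only [g, MvPolynomial.eval_C]
    rw [← MvPolynomial.eval_zero]
    rw [← congrArg (MvPolynomial.eval (0 : Fin m → A)) (hf h)]
    show (MvPolynomial.eval x).comp (MvPolynomial.aeval _).toRingHom f = (MvPolynomial.eval 0).comp (MvPolynomial.aeval _).toRingHom f
    congr 1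
    refine MvPolynomial.ringHom_ext (fun a => by simp) (fun s => ?_)
    simp [← hh]
  refine ⟨MvPolynomial.constantCoeff f, ?_⟩
  let ρ : MvPolynomial (Fin m) A →ₐ[A] MvPolynomial (Fin m) A := MvPolynomial.aeval
    (fun r => ∑ s, MvPolynomial.X s * MvPolynomial.C (T⁻¹ s r))
  let L : Fin m → MvPolynomial (Fin m) A := fun s => ∑ r : Fin m, MvPolynomial.X r * MvPolynomial.C (T r s)
  have hρ : ρ.comp (MvPolynomial.aeval L) = AlgHom.id A (MvPolynomial (Fin m) A) := by
    refine MvPolynomial.algHom_ext fun s => ?_
    simp only [ρ, L, AlgHom.comp_apply, MvPolynomial.aeval_X, map_sum, map_mul, MvPolynomial.aeval_C, AlgHom.id_apply]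
    rw [MvPolynomial.algebraMap_eq]
    simp_rw [Finset.sum_mul, mul_assoc, ← map_mul]
    rw [Finset.sum_comm]
    simp_rw [← Finset.mul_sum, ← map_sum]
    have e : ∀ x, (∑ r, T⁻¹ x r * T r s) = (1 : Matrix (Fin m) (Fin m) A) x s := fun x => by
      rw [← Matrix.nonsing_inv_mul T hT, Matrix.mul_apply]
    simp_rw [e, Matrix.one_apply]
    simp
  have h2 : ρ g = f := by
    have := DFunLike.congr_fun hρ f
    rw [AlgHom.comp_apply, AlgHom.id_apply] at this
    exact this
  rw [hg, ← MvPolynomial.algebraMap_eq, AlgHom.commutes] at h2
  exact h2.symm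

end Groth.Agent.S11233
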