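import Groth.Statements.S11234
import Groth.Agent.Agf.GMod
import Groth.Agent.AlgGrp2.GLnPts
import Groth.Agent.AlgGrp1.AffineRep

set_option autoImplicit false
universe u
open CategoryTheory MonoidalCategory CartesianMonoidalCategory MonObj GrpObj AlgebraicGeometry
open scoped TensorProduct
open AGF

namespace Groth.Agent.S11234

open Groth.Agf
open scoped Groth.Agf

noncomputable section

variable {k : Type u} [Field k]

theorem hom_ext_univ {X Y : Over (Spec (CommRingCat.of k))} [IsAffine X.left] [IsAffine Y.left] {f g : X ⟶ Y}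
    (h : evalPt (univ X ≫ f) = evalPt (univ X ≫ g)) : f = g := by
  apply hom_ext_fn
  simpa [evalPt_comp] using h

theorem smooth_GLn (n : ℕ) : Smooth (CoactBr.sp k (CoordGrp.GLn n k)).hom := by
  have : Algebra.FinitePresentation k (CoordGrp.GLn n k) := by
    show Algebra.FinitePresentation k (CoordGrp.GLb n k ⧸ CoordGrp.GLb.relIdeal n k)
    have : Algebra.FinitePresentation k (CoordGrp.GLb n k) :=
      inferInstanceAs (Algebra.FinitePresentation k (MvPolynomial ((Fin n × Fin n) ⊕ Unit) k))
    exact Algebra.FinitePresentation.quotient ⟨{CoordGrp.GLb.rel n k}, by simp [CoordGrp.GLb.relIdeal]⟩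
  have : Algebra.FormallySmooth k (CoordGrp.GLn n k) := by
    refine Algebra.FormallySmooth.of_comp_surjective fun C _ _ I hI f => ?_
    choose M hM using fun i j : Fin n => Ideal.Quotient.mk_surjective (f (CoordGrp.GLn.X i j))
    obtain ⟨d, hd⟩ := Ideal.Quotient.mk_surjective (f CoordGrp.GLn.Dinv)
    have hq : (Ideal.Quotient.mkₐ k I).mapMatrix (Matrix.of M) = f.mapMatrix (CoordGrp.GLn.genMat n k) := by
      ext i j; exact hM i j
    have h1 : Ideal.Quotient.mk I ((Matrix.of M).det * d) = 1 := by
      rw [map_mul, hd, show Ideal.Quotient.mk I (Matrix.of M).det = Ideal.Quotient.mkₐ k I (Matrix.of M).det from rfl,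
        AlgHom.map_det, hq, ← AlgHom.map_det, ← CoordGrp.GLn.det_eq, ← map_mul, CoordGrp.GLn.det_mul_Dinv, map_one]
    have hz : (Matrix.of M).det * d - 1 ∈ I := Ideal.Quotient.eq.1 (h1.trans (map_one _).symm)
    have hz2 : ((Matrix.of M).det * d - 1) * ((Matrix.of M).det * d - 1) = 0 := by
      have := Ideal.pow_mem_pow hz 2
      rw [hI, Ideal.mem_bot] at this
      rw [← sq]; exact this
    refine ⟨CoordGrp.GLn.pt n k (Matrix.of M) (d * (2 - (Matrix.of M).det * d)) (by linear_combination -hz2), ?_⟩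
    refine CoordGrp.GLn.algHom_ext (fun i j => ?_) ?_
    · simp [CoordGrp.GLn.pt_X, hM]
    · have : (Ideal.Quotient.mk I) (d * (2 - (Matrix.of M).det * d)) = f CoordGrp.GLn.Dinv := by
        rw [map_mul, map_sub, h1, hd, map_ofNat]; norm_num
      simpa using this
  have : Algebra.Smooth k (CoordGrp.GLn n k) := ⟨inferInstance, inferInstance⟩
  exact (HasRingHomProperty.Spec_iff (P := @Smooth)).2 (RingHom.smooth_algebraMap.2 this)

section Coord

variable {B W : Type u} [CommRing B] [Algebra k B] [AddCommGroup W] [Module k W] {n : ℕ}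

theorem expand (b : Module.Basis (Fin n) k W) (x : B ⊗[k] W) :
    ∑ l, contract (b.coord l) B x • ((1 : B) ⊗ₜ[k] b l) = x := by
  induction x using TensorProduct.induction_on with
  | zero => simp
  | tmul c w =>
    simp only [contract_tmul, Module.Basis.coord_apply, TensorProduct.smul_tmul', smul_eq_mul, _root_.mul_one]
    simp only [TensorProduct.smul_tmul, ← TensorProduct.tmul_sum, Module.Basis.sum_repr]
  | add x y hx hy => simp only [map_add, add_smul, Finset.sum_add_distrib, hx, hy]

end Coord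

variable {G : Over (Spec (CommRingCat.of k))} [GrpObj G] [IsAffine G.left]

/-- The homomorphism into `GL_m` given by a multiplicative matrix of functions. -/
theorem exists_hom {m : ℕ} (P : Matrix (Fin m) (Fin m) (Fn G))
    (hmul : ∀ (B : Type u) [CommRing B] [Algebra k B] (g h : VecGrp.pt k B ⟶ G),
      (evalPt (g * h)).mapMatrix P = (evalPt g).mapMatrix P * (evalPt h).mapMatrix P)
    (hone : ∀ (B : Type u) [CommRing B] [Algebra k B],
      (evalPt (1 : VecGrp.pt k B ⟶ G)).mapMatrix P = 1) :
    ∃ u : G ⟶ CoactBr.sp k (CoordGrp.GLn m k), IsMonHom u ∧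
      ∀ (B : Type u) [CommRing B] [Algebra k B] (g : VecGrp.pt k B ⟶ G),
        Groth.AlgGrp2.ptMat (R := k) (L := B) (m := m) (g ≫ u) = (evalPt g).mapMatrix P := by
  have e := hmul (Fn G) (univ G) (univ G)⁻¹
  rw [mul_inv_cancel, hone, evalPt_univ, show (AlgHom.id k (Fn G)).mapMatrix P = P from Matrix.map_id P] at e
  obtain ⟨du, hdu⟩ := (Matrix.isUnit_iff_isUnit_det P).1 ⟨⟨P, _, e.symm, mul_eq_one_comm.1 e.symm⟩, rfl⟩
  let φ : CoordGrp.GLn m k →ₐ[k] Fn G :=
    CoordGrp.GLn.pt m k P (↑du⁻¹ : Fn G) (by rw [← hdu, Units.mul_inv])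
  let u : G ⟶ CoactBr.sp k (CoordGrp.GLn m k) := Groth.AlgGrp1.toAffine φ
  have hpt : ∀ (B : Type u) [CommRing B] [Algebra k B] (g : VecGrp.pt k B ⟶ G),
      Groth.AlgGrp2.ptMat (R := k) (L := B) (m := m) (g ≫ u) = (evalPt g).mapMatrix P := fun B _ _ g => by
    rw [show (g ≫ u : CoactBr.sp k B ⟶ _) = CoactBr.pt ((evalPt g).comp φ) from Groth.AlgGrp1.comp_toAffine φ g,
      Groth.AlgGrp2.ptMat_pt]
    ext i j
    simp [Groth.AlgGrp2.glMat, φ]
  have : IsAffine (G ⊗ G).left := tensor_isAffine G G
  have : IsAffine (CoactBr.sp k (CoordGrp.GLn m k)).left :=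
    inferInstanceAs (IsAffine (Spec (CommRingCat.of (CoordGrp.GLn m k))))
  have key : μ[G] ≫ u = (fst G G ≫ u) * (snd G G ≫ u) := by
    refine hom_ext_univ (congrArg evalPt ?_)
    have hμ : μ[G] = fst G G * snd G G := by rw [Hom.mul_def, lift_fst_snd, Category.id_comp]
    rw [MonObj.comp_mul, ← Category.assoc, ← Category.assoc, ← Category.assoc, hμ, MonObj.comp_mul]
    refine Groth.AlgGrp2.ptMat_injective (R := k) (L := Fn (G ⊗ G)) (m := m) ?_
    exact ((hpt _ _).trans (by rw [hmul, ← hpt, ← hpt]; rfl)).trans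
      (Groth.AlgGrp2.ptMat_mul _ _).symm
  refine ⟨u, Groth.AlgGrp1.isMonHom_of_points u fun U a c => ?_, hpt⟩
  have := congrArg (lift a c ≫ ·) key
  simp only [MonObj.comp_mul, lift_fst_assoc, lift_snd_assoc] at this
  rwa [← Category.assoc, ← Hom.mul_def] at this

section Rep

variable {W : Type u} [AddCommGroup W] [Module k W] (ρ : VecGrp.GMod G W) {n : ℕ} (b : Module.Basis (Fin n) k W)
  (v : W)

/-- The matrix of the representation. -/
def repMat : Matrix (Fin n) (Fin n) (Fn G) := Matrix.of fun i j => coeffFn ρ (b.coord i) (b j)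

/-- The cocycle `g ↦ g v - v`, in coordinates. -/
def coMat : Matrix (Fin n) (Fin 1) (Fn G) :=
  Matrix.of fun i _ => coeffFn ρ (b.coord i) v - algebraMap k (Fn G) (b.coord i v)

/-- The block matrix. -/
def blockMat (c : k) : Matrix (Fin (n + 1)) (Fin (n + 1)) (Fn G) :=
  Matrix.reindexAlgEquiv k (Fn G) finSumFinEquiv (Matrix.fromBlocks (repMat ρ b) (c • coMat ρ b v) 0 1)

variable {B : Type u} [CommRing B] [Algebra k B]

theorem coeff_mul (g h : VecGrp.pt k B ⟶ G) (i : Fin n) (w : W) :
    evalPt (g * h) (coeffFn ρ (b.coord i) w) =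
      ∑ l, evalPt g (coeffFn ρ (b.coord i) (b l)) * evalPt h (coeffFn ρ (b.coord l) w) := by
  rw [evalPt_coeffFn, rho_mul_apply]
  conv_lhs => rw [← expand b (ρ.ρ B h ((1 : B) ⊗ₜ[k] w))]
  simp only [map_sum, map_smul, contract_smul, ← evalPt_coeffFn]
  exact Finset.sum_congr rfl fun l _ => _root_.mul_comm _ _

theorem coeff_one (i : Fin n) (w : W) :
    evalPt (1 : VecGrp.pt k B ⟶ G) (coeffFn ρ (b.coord i) w) = algebraMap k B (b.coord i w) := by
  rw [evalPt_coeffFn, map_one, LinearEquiv.coe_one, id_eq, contract_tmul, Algebra.algebraMap_eq_smul_one]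

theorem repMat_mul (g h : VecGrp.pt k B ⟶ G) :
    (evalPt (g * h)).mapMatrix (repMat ρ b) =
      (evalPt g).mapMatrix (repMat ρ b) * (evalPt h).mapMatrix (repMat ρ b) := by
  ext i j
  exact coeff_mul ρ b g h i (b j)

theorem coMat_mul (g h : VecGrp.pt k B ⟶ G) :
    (coMat ρ b v).map (evalPt (g * h)) =
      (evalPt g).mapMatrix (repMat ρ b) * (coMat ρ b v).map (evalPt h) + (coMat ρ b v).map (evalPt g) := by
  ext i j
  have hv : evalPt g (coeffFn ρ (b.coord i) v) =
      ∑ l, evalPt g (coeffFn ρ (b.coord i) (b l)) * algebraMap k B (b.coord l v) := by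
    have := coeff_mul ρ b g 1 i v
    simpa only [_root_.mul_one, coeff_one] using this
  simp only [Matrix.map_apply, Matrix.add_apply, Matrix.mul_apply, AlgHom.mapMatrix_apply, coMat, repMat,
    Matrix.of_apply, map_sub, AlgHom.commutes, mul_sub, Finset.sum_sub_distrib, ← coeff_mul, ← hv]
  abel

theorem blockMat_map (c : k) (g : VecGrp.pt k B ⟶ G) :
    (evalPt g).mapMatrix (blockMat ρ b v c) = Matrix.reindexAlgEquiv k B finSumFinEquiv
      (Matrix.fromBlocks ((evalPt g).mapMatrix (repMat ρ b)) (c • (coMat ρ b v).map (evalPt g)) 0 1) := by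
  ext i j
  simp only [blockMat, AlgHom.mapMatrix_apply, Matrix.map_apply, Matrix.reindexAlgEquiv_apply, Matrix.reindex_apply,
    Matrix.submatrix_apply]
  generalize finSumFinEquiv.symm i = i'
  generalize finSumFinEquiv.symm j = j'
  rcases i' with i' | i' <;> rcases j' with j' | j' <;>
    simp [Matrix.one_apply, apply_ite (evalPt g)]

theorem blockMat_mul (c : k) (g h : VecGrp.pt k B ⟶ G) :
    (evalPt (g * h)).mapMatrix (blockMat ρ b v c) =
      (evalPt g).mapMatrix (blockMat ρ b v c) * (evalPt h).mapMatrix (blockMat ρ b v c) := by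
  rw [blockMat_map, blockMat_map, blockMat_map, ← map_mul, Matrix.fromBlocks_multiply, repMat_mul, coMat_mul]
  simp [smul_add, Matrix.mul_smul]

theorem blockMat_one (c : k) : (evalPt (1 : VecGrp.pt k B ⟶ G)).mapMatrix (blockMat ρ b v c) = 1 := by
  have h1 : (evalPt (1 : VecGrp.pt k B ⟶ G)).mapMatrix (repMat ρ b) = 1 := by
    ext i j
    simp [repMat, coeff_one, Matrix.one_apply, Finsupp.single_apply, apply_ite (algebraMap k B), eq_comm]
  have h2 : (coMat ρ b v).map (evalPt (1 : VecGrp.pt k B ⟶ G)) = 0 := by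
    ext i j
    simp [coMat, coeff_one]
  rw [blockMat_map, h1, h2, smul_zero, Matrix.fromBlocks_one, map_one]

end Rep

/-- The statement of the template. -/
theorem tfae [IsAlgClosed k] [Smooth G.hom]
    (H : Over (Spec (CommRingCat.of k))) [GrpObj H] [IsAffine H.left] (i : H ⟶ G) [IsMonHom i] :
    List.TFAE [
      ∀ f : Γ(G.left, ⊤), ((G ◁ i) ≫ μ[G]).left.appTop f = (fst G H).left.appTop f →
        ∃ c : k, f = G.hom.appTop ((Scheme.ΓSpecIso (CommRingCat.of k)).inv c),
      ∀ (E : Type u) [AddCommGroup E] [Module k E] (ρ : VecGrp.GMod G E),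
        ρ.fixedUnder i = ρ.fixedUnder (𝟙 G),
      ∀ (G' : Over (Spec (CommRingCat.of k))) [GrpObj G'] [IsAffine G'.left] [Smooth G'.hom]
        (r s : G ⟶ G') [IsMonHom r] [IsMonHom s], i ≫ r = i ≫ s → r = s] := by
  classical
  tfae_have 1 → 2 := by
    intro hb E _ _ ρ
    ext m
    constructor
    · intro hm B _ _ g
      rw [Category.comp_id]
      refine eq_of_contract fun ψ => ?_
      obtain ⟨c, hc⟩ := hb _ (coeffFn_isRTransInv ρ i ψ hm)
      rw [← algebraMap_fn] at hc
      have hc1 : c = ψ m := by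
        have := congrArg (evalPt (1 : VecGrp.pt k k ⟶ G)) hc
        rw [AlgHom.commutes, evalPt_coeffFn, map_one, LinearEquiv.coe_one, id_eq, contract_tmul] at this
        simpa using this.symm
      rw [← evalPt_coeffFn, hc, AlgHom.commutes, contract_tmul, hc1, Algebra.algebraMap_eq_smul_one]
    · intro hm B _ _ t
      simpa using hm B (t ≫ i)
  tfae_have 2 → 1 := by
    intro hc f hf
    have hmem : f ∈ (regRep G).fixedUnder i := fun B _ _ t => by
      rw [regRep_apply, rTransAlg, ← Category.assoc,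
        (isRTransInv_iff i f).1 hf _ _ _, evalPt_ptMap, evalPt_univ]
      rfl
    rw [hc] at hmem
    have h := hmem (Fn G) (univ G)
    rw [Category.comp_id, regRep_apply, rTransAlg] at h
    let Φ : Fn G ⊗[k] Fn G →ₐ[k] Fn G := Algebra.TensorProduct.lift (AlgHom.id k (Fn G))
      ((Algebra.ofId k (Fn G)).comp (evalPt (1 : VecGrp.pt k k ⟶ G))) fun _ _ => Commute.all _ _
    have e := congrArg Φ h
    rw [← AlgHom.comp_apply, ← evalPt_ptMap, MonObj.comp_mul] at e
    have e1 : VecGrp.ptMap Φ ≫ VecGrp.ptMap (Algebra.TensorProduct.includeRight : Fn G →ₐ[k] Fn G ⊗[k] Fn G) ≫ univ G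
        = 1 := by
      rw [show (1 : VecGrp.pt k (Fn G) ⟶ G) =
          VecGrp.ptMap (Algebra.ofId k (Fn G)) ≫ (1 : VecGrp.pt k k ⟶ G) from (MonObj.comp_one _).symm]
      apply pt_ext
      rw [evalPt_ptMap, evalPt_ptMap, evalPt_univ, AlgHom.comp_id, evalPt_ptMap]
      refine AlgHom.ext fun a => ?_
      simp [Φ]
    have e2 : VecGrp.ptMap Φ ≫ VecGrp.ptMap (Algebra.TensorProduct.includeLeft : Fn G →ₐ[k] Fn G ⊗[k] Fn G) ≫ univ G
        = univ G := by
      apply pt_ext
      rw [evalPt_ptMap, evalPt_ptMap, evalPt_univ, AlgHom.comp_id]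
      refine AlgHom.ext fun a => ?_
      simp [Φ]
    rw [e1, e2, _root_.one_mul, evalPt_univ] at e
    exact ⟨evalPt (1 : VecGrp.pt k k ⟶ G) f, by rw [← algebraMap_fn]; simpa [Φ] using e⟩
  tfae_have 1 → 3 := by
    intro hb G' _ _ _ r s _ _ hrs
    refine mul_inv_eq_one.1 ?_
    refine hom_ext_univ (AlgHom.ext fun f => ?_)
    have hinv : AGF.IsRTransInv i (pull (r * s⁻¹) f) := by
      rw [isRTransInv_iff]
      intro B _ _ x t
      rw [← evalPt_comp_apply, ← evalPt_comp_apply]
      refine congrArg (fun z => evalPt z f) ?_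
      simp only [MonObj.comp_mul, GrpObj.comp_inv, MonObj.mul_comp, Category.assoc, hrs, _root_.mul_inv_rev]
      group
    obtain ⟨c, hc⟩ := hb _ hinv
    rw [← algebraMap_fn] at hc
    have h1 := congrArg (evalPt (univ G)) hc
    have h2 := congrArg (evalPt (1 : VecGrp.pt k (Fn G) ⟶ G)) hc
    rw [AlgHom.commutes, ← evalPt_comp_apply] at h1 h2
    rw [h1, ← h2]
    congr 2
    simp [MonObj.comp_mul, GrpObj.comp_inv, MonObj.one_comp, MonObj.comp_one]
  tfae_have 3 → 2 := by
    intro he E _ _ ρ
    ext m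
    constructor
    · intro hm
      obtain ⟨W, _, hmW, hW⟩ := exists_finite_stable ρ {m}
      let v : W := ⟨m, hmW (by simp)⟩
      let ρW := subGMod ρ hW
      let b := Module.finBasis k W
      let N := CoordGrp.GLn (Module.finrank k W + 1) k
      obtain ⟨r, _, hr⟩ := exists_hom (blockMat ρW b v 0) (fun B _ _ => blockMat_mul ρW b v 0)
        (fun B _ _ => blockMat_one ρW b v 0)
      obtain ⟨s, _, hs⟩ := exists_hom (blockMat ρW b v 1) (fun B _ _ => blockMat_mul ρW b v 1)
        (fun B _ _ => blockMat_one ρW b v 1)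
      have : Smooth (CoactBr.sp k N).hom := smooth_GLn _
      have : IsAffine (CoactBr.sp k N).left := inferInstanceAs (IsAffine (Spec (CommRingCat.of N)))
      have hfix : ∀ (B : Type u) [CommRing B] [Algebra k B] (g : VecGrp.pt k B ⟶ G),
          ρ.ρ B g ((1 : B) ⊗ₜ[k] m) = (1 : B) ⊗ₜ[k] m ↔ (coMat ρW b v).map (evalPt g) = 0 := by
        intro B _ _ g
        have e : ρW.ρ B g ((1 : B) ⊗ₜ[k] v) = (1 : B) ⊗ₜ[k] v ↔ ρ.ρ B g ((1 : B) ⊗ₜ[k] m) = (1 : B) ⊗ₜ[k] m := by
          rw [← (incl_injective B W).eq_iff, subGMod_incl, LinearMap.baseChange_tmul]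
          rfl
        rw [← e]
        constructor
        · intro h
          ext l j
          simp [coMat, evalPt_coeffFn, h, Algebra.algebraMap_eq_smul_one]
        · intro h
          refine (expand b (ρW.ρ B g ((1 : B) ⊗ₜ[k] v))).symm.trans (Eq.trans ?_ (expand b ((1 : B) ⊗ₜ[k] v)))
          refine Finset.sum_congr rfl fun l _ => congrArg (· • _) ?_
          have := congrFun (congrFun h l) 0
          simp only [coMat, Matrix.map_apply, Matrix.of_apply, map_sub, AlgHom.commutes, Matrix.zero_apply,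
            sub_eq_zero, evalPt_coeffFn] at this
          rw [this, contract_tmul, Algebra.algebraMap_eq_smul_one]
      have hH : i ≫ r = i ≫ s := by
        refine hom_ext_univ (congrArg evalPt ?_)
        rw [← Category.assoc, ← Category.assoc]
        refine Groth.AlgGrp2.ptMat_injective (R := k) (L := Fn H) ((hr _ _).trans (Eq.trans ?_ (hs _ _).symm))
        rw [blockMat_map, blockMat_map, (hfix _ _).1 (hm _ (univ H))]
        simp
      have hrs := he _ r s hH
      subst hrs
      intro B _ _ g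
      rw [Category.comp_id]
      refine (hfix B g).2 ?_
      have e := (hr B g).symm.trans (hs B g)
      rw [blockMat_map, blockMat_map] at e
      have e' := (Matrix.fromBlocks_inj.1 ((Matrix.reindexAlgEquiv k B finSumFinEquiv).injective e)).2.1
      simpa using e'.symm
    · intro hm B _ _ t
      simpa using hm B (t ≫ i)
  tfae_finish

end


/-- Let k be an algebraically closed field, G a linear algebraic group over k (affine, smooth) and H a
smooth closed subgroup of G. The following are equivalent: (b) every global function on G invariant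
under right translation by H is a constant; (c) for every rational G-module E, the H-invariants of E
coincide with the G-invariants; (e) two homomorphisms from G to a linear algebraic group which agree
on H are equal. (The published list also contains the statement that H is epimorphic in the sense of
its hull under the stabilizer correspondence, and the statement that complementary H-stable
subspaces of a rational G-module are G-stable; this row states the other three.) -/
theorem result (k : Type u) [Field k] [IsAlgClosed k]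
    (G : Over (Spec (CommRingCat.of k))) [GrpObj G] [IsAffine G.left] [Smooth G.hom]
    (H : Over (Spec (CommRingCat.of k))) [GrpObj H] [Smooth H.hom] (i : H ⟶ G) [IsMonHom i]
    [IsClosedImmersion i.left] :
    List.TFAE [
      ∀ f : Γ(G.left, ⊤), ((G ◁ i) ≫ μ[G]).left.appTop f = (fst G H).left.appTop f →
        ∃ c : k, f = G.hom.appTop ((Scheme.ΓSpecIso (CommRingCat.of k)).inv c),
      ∀ (E : Type u) [AddCommGroup E] [Module k E] (ρ : VecGrp.GMod G E),
        ρ.fixedUnder i = ρ.fixedUnder (𝟙 G),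
      ∀ (G' : Over (Spec (CommRingCat.of k))) [GrpObj G'] [IsAffine G'.left] [Smooth G'.hom]
        (r s : G ⟶ G') [IsMonHom r] [IsMonHom s], i ≫ r = i ≫ s → r = s] := by
  have : IsAffine H.left := isAffine_of_isAffineHom i.left
  exact tfae H i

end Groth.Agent.S11234
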