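import Groth.Statements.S11235
import Mathlib

set_option autoImplicit false
universe u
open CAlg

namespace Groth.Agent.S11235

/-- Let k be an algebraically closed field, A a commutative k-algebra, α ∈ k, and M a maximal ideal of
the polynomial ring A[x] containing x - α. Let I ⊆ M be an ideal whose zero set in Spec A[x] is
invariant under the automorphisms x ↦ c·x, c ∈ k nonzero (equivalently: the image of I under each
such A-algebra automorphism has the same radical as I). Then there is a maximal ideal of A[x]
containing I and x. -/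
theorem result (k : Type u) [Field k] [IsAlgClosed k]
    (A : Type u) [CommRing A] [Algebra k A] (α : k)
    (M : Ideal (Polynomial A)) (hM : M.IsMaximal)
    (hα : Polynomial.X - Polynomial.C (algebraMap k A α) ∈ M)
    (I : Ideal (Polynomial A)) (hIM : I ≤ M)
    (hI : ∀ c : kˣ, (I.map (Polynomial.aeval (R := A)
      (algebraMap k A (c : k) • (Polynomial.X : Polynomial A)))).radical = I.radical) :
    ∃ N : Ideal (Polynomial A), N.IsMaximal ∧ I ≤ N ∧ Polynomial.X ∈ N := by
  by_cases h : I ⊔ Ideal.span {Polynomial.X} = ⊤
  swap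
  · obtain ⟨N, hN, hle⟩ := Ideal.exists_le_maximal _ h
    exact ⟨N, hN, le_sup_left.trans hle, hle (Ideal.mem_sup_right (Ideal.mem_span_singleton_self _))⟩
  exfalso
  haveI : Infinite k := IsAlgClosed.instInfinite
  haveI : Infinite {c : k // c ≠ 0} := ((Set.finite_singleton (0:k)).infinite_compl).to_subtype
  obtain ⟨g, hg, a, ha, hga⟩ := Submodule.mem_sup.1 ((Ideal.eq_top_iff_one _).1 h)
  have hg0 : g.eval 0 = 1 := by
    obtain ⟨b, rfl⟩ := Ideal.mem_span_singleton.1 ha
    simpa using congrArg (Polynomial.eval 0) hga
  by_cases hα0 : α = 0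
  · subst hα0
    exact hM.ne_top (top_le_iff.1 (h ▸ sup_le hIM ((Ideal.span_singleton_le_iff_mem _).2 (by simpa using hα))))
  letI : Field (Polynomial A ⧸ M) := Ideal.Quotient.field M
  let π : A →+* Polynomial A ⧸ M := (Ideal.Quotient.mk M).comp Polynomial.C
  have hX : Ideal.Quotient.mk M Polynomial.X = π (algebraMap k A α) := Ideal.Quotient.eq.2 hα
  let G : Polynomial (Polynomial A ⧸ M) := g.map π
  have key : ∀ c : kˣ, G.eval (π (algebraMap k A (c * α))) = 0 := by
    intro c
    have h1 : I.map (Polynomial.aeval (R := A) (algebraMap k A (c : k) • (Polynomial.X : Polynomial A))) ≤ M := by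
      refine Ideal.le_radical.trans ?_
      rw [hI c]
      exact (Ideal.radical_mono hIM).trans hM.isPrime.radical.le
    have h2 := Ideal.Quotient.eq_zero_iff_mem.2 (h1 (Ideal.mem_map_of_mem _ hg))
    rw [Polynomial.aeval_def, Polynomial.hom_eval₂] at h2
    rw [Polynomial.eval_map, ← h2]
    congr 1
    rw [Polynomial.smul_eq_C_mul, map_mul (Ideal.Quotient.mk M), hX]
    simp [π]
  have hinj : Function.Injective (π.comp (algebraMap k A)) := RingHom.injective _
  have : G = 0 := by
    refine Polynomial.eq_zero_of_infinite_isRoot G (Set.Infinite.mono ?_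
      ((Set.infinite_range_of_injective (f := fun c : {c : k // c ≠ 0} => π (algebraMap k A (c.1 * α))) ?_)))
    · rintro x ⟨⟨c, hc⟩, rfl⟩
      exact key (Units.mk0 c hc)
    · intro c d hcd
      exact Subtype.ext (mul_right_cancel₀ hα0 (hinj hcd))
  have := congrArg (Polynomial.eval 0) this
  simp [G, Polynomial.eval_map, Polynomial.eval₂_at_zero, Polynomial.coeff_zero_eq_eval_zero, hg0] at this

end Groth.Agent.S11235
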