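import Groth.Statements.S11238
import Mathlib.FieldTheory.RatFunc.Luroth
import Mathlib.RingTheory.Localization.Away.Basic
import Mathlib.Algebra.MvPolynomial.Funext

set_option autoImplicit false
universe u
open AGF

namespace Groth.Agent.S11238

open scoped RatFunc Polynomial
open IntermediateField.algebraAdjoinAdjoin

/-- A line on which `p/q` is not constant and `D` does not vanish identically. -/
theorem exists_line {k : Type u} [Field k] [Infinite k] {σ : Type} (p q D : MvPolynomial σ k)
    (hD : D ≠ 0) (hq : q ≠ 0) (hpq : ∀ c : k, p ≠ MvPolynomial.C c * q) :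
    ∃ ε : MvPolynomial σ k →ₐ[k] k[X], ε (D * q) ≠ 0 ∧ ∀ c : k, ε p ≠ Polynomial.C c * ε q := by
  obtain ⟨a, ha⟩ : ∃ a, MvPolynomial.eval a (D * q) ≠ 0 := by
    by_contra h
    push Not at h
    exact mul_ne_zero hD hq (MvPolynomial.funext (fun x => by simp [h x]))
  have haq : MvPolynomial.eval a q ≠ 0 := fun h => ha (by simp [h])
  let c₀ := MvPolynomial.eval a p / MvPolynomial.eval a q
  obtain ⟨a', ha'⟩ : ∃ a', MvPolynomial.eval a' (D * q * (p - MvPolynomial.C c₀ * q)) ≠ 0 := by
    by_contra h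
    push Not at h
    exact mul_ne_zero (mul_ne_zero hD hq) (sub_ne_zero.2 (hpq c₀)) (MvPolynomial.funext (fun x => by simp [h x]))
  let ε : MvPolynomial σ k →ₐ[k] k[X] :=
    MvPolynomial.aeval fun i => Polynomial.C (a i) + Polynomial.C (a' i - a i) * Polynomial.X
  have hε : ∀ (t : k) (f : MvPolynomial σ k),
      (ε f).eval t = MvPolynomial.eval (fun i => a i + (a' i - a i) * t) f := by
    intro t f
    induction f using MvPolynomial.induction_on with
    | C c => simp [ε]
    | add f g hf hg => simp [hf, hg]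
    | mul_X f i hf => simp [ε, hf] at *; simp [hf]
  have h0 : ∀ f, (ε f).eval 0 = MvPolynomial.eval a f := fun f => by
    rw [hε]; exact congrArg (fun v => MvPolynomial.eval v f) (funext fun i => by ring)
  have h1 : ∀ f, (ε f).eval 1 = MvPolynomial.eval a' f := fun f => by
    rw [hε]; exact congrArg (fun v => MvPolynomial.eval v f) (funext fun i => by ring)
  refine ⟨ε, fun h => ha (by rw [← h0, h, Polynomial.eval_zero]), fun c hc => ?_⟩
  have e0 := congrArg (Polynomial.eval 0) hc
  have e1 := congrArg (Polynomial.eval 1) hc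
  simp only [Polynomial.eval_mul, Polynomial.eval_C, h0, h1] at e0 e1
  have hcc : c = c₀ := by simp only [c₀]; rw [e0, mul_div_cancel_right₀ _ haq]
  apply ha'
  simp [e1, hcc]

/-- Substitution along the line makes sense on `p/q` and on the generators. -/
theorem exists_hom {k : Type u} [Field k] [IsAlgClosed k] {n : ℕ} (D : MvPolynomial (Fin n) k) (hD : D ≠ 0)
    (p q : MvPolynomial (Fin n) k) (hq : q ∣ D) (hpq : ∀ c : k, p ≠ MvPolynomial.C c * q) :
    ∃ (R : Subalgebra k (FractionRing (MvPolynomial (Fin n) k))) (ψ : R →ₐ[k] k⟮X⟯),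
      (∀ r : MvPolynomial (Fin n) k, (algebraMap _ (FractionRing (MvPolynomial (Fin n) k)) r) / algebraMap _ _ D ∈ R) ∧
      ∃ hx : (algebraMap _ (FractionRing (MvPolynomial (Fin n) k)) p) / algebraMap _ _ q ∈ R,
        Transcendental k (ψ ⟨_, hx⟩) := by
  have : Infinite k := IsAlgClosed.instInfinite
  have hq0 : q ≠ 0 := fun h => hD (zero_dvd_iff.1 (h ▸ hq))
  obtain ⟨ε, hε, hεpq⟩ := exists_line p q D hD hq0 hpq
  let P := MvPolynomial (Fin n) k
  let L := FractionRing P
  have hDL : IsUnit (algebraMap P L D) := (map_ne_zero_iff _ (IsFractionRing.injective P L)).2 hD |>.isUnit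
  let j : Localization.Away D →ₐ[k] L := IsLocalization.Away.liftAlgHom (S := Localization.Away D) D
    (f := IsScalarTower.toAlgHom k P L) hDL
  have hεD : ε D ≠ 0 := fun h => hε (by rw [map_mul, h, zero_mul])
  have hεq : ε q ≠ 0 := fun h => hε (by rw [map_mul, h, mul_zero])
  let g : P →ₐ[k] k⟮X⟯ := (IsScalarTower.toAlgHom k k[X] k⟮X⟯).comp ε
  have hg : IsUnit (g D) := ((map_ne_zero_iff _ (IsFractionRing.injective k[X] k⟮X⟯)).2 hεD).isUnit
  let ψ₀ : Localization.Away D →ₐ[k] k⟮X⟯ := IsLocalization.Away.liftAlgHom (S := Localization.Away D) D (f := g) hg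
  have hjC : ∀ r, j (algebraMap P _ r) = algebraMap P L r := fun r => IsLocalization.Away.lift_eq D hDL r
  have hψC : ∀ r, ψ₀ (algebraMap P _ r) = g r := fun r => IsLocalization.Away.lift_eq D hg r
  have hjinj : Function.Injective j := by
    rw [injective_iff_map_eq_zero]
    intro z hz
    obtain ⟨⟨a, s⟩, hs⟩ := IsLocalization.surj (Submonoid.powers D) z
    have h' := congrArg j hs
    rw [map_mul, hz, zero_mul, hjC] at h'
    have ha : a = 0 := (map_eq_zero_iff _ (IsFractionRing.injective P L)).1 h'.symm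
    rw [ha, map_zero] at hs
    exact (IsLocalization.map_units (Localization.Away D) s).mul_left_eq_zero.1 hs
  let e := AlgEquiv.ofInjective j hjinj
  have hmem : ∀ r, algebraMap P L r / algebraMap P L D ∈ j.range := fun r => by
    refine ⟨algebraMap P _ r * IsLocalization.Away.invSelf D, ?_⟩
    show j _ = _
    rw [eq_div_iff hDL.ne_zero, ← hjC D, ← map_mul, mul_assoc, mul_comm (IsLocalization.Away.invSelf D),
      IsLocalization.Away.mul_invSelf, _root_.mul_one, hjC]
  obtain ⟨w, hw⟩ := hq
  have hqL : algebraMap P L q ≠ 0 := (map_ne_zero_iff _ (IsFractionRing.injective P L)).2 hq0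
  have hwL : algebraMap P L w ≠ 0 :=
    (map_ne_zero_iff _ (IsFractionRing.injective P L)).2 (fun h => hD (by rw [hw, h, mul_zero]))
  have hx : algebraMap P L p / algebraMap P L q ∈ j.range := by
    have := hmem (p * w)
    have hDw : algebraMap P L D = algebraMap P L q * algebraMap P L w := by rw [← map_mul, ← hw]
    rwa [hDw, map_mul, mul_div_mul_right _ _ hwL] at this
  refine ⟨j.range, ψ₀.comp e.symm.toAlgHom, hmem, hx, ?_⟩
  intro halg
  obtain ⟨c, hc⟩ : ∃ c : k, algebraMap k k⟮X⟯ c = ψ₀ (e.symm ⟨_, hx⟩) := by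
    by_contra hne
    refine RatFunc.transcendental_of_ne_C _ ?_ halg
    rintro ⟨c, hc⟩
    exact hne ⟨c, by rw [RatFunc.algebraMap_eq_C]; exact hc.symm⟩
  have e1 : e.symm ⟨_, hx⟩ * algebraMap P _ q = algebraMap P _ p := by
    apply hjinj
    rw [map_mul, hjC, hjC]
    have : j (e.symm ⟨_, hx⟩) = algebraMap P L p / algebraMap P L q := congrArg Subtype.val (e.apply_symm_apply ⟨_, hx⟩)
    rw [this, div_mul_cancel₀ _ hqL]
  have e2 := congrArg ψ₀ e1
  rw [map_mul, hψC, hψC, ← hc] at e2
  refine hεpq c (IsFractionRing.injective k[X] k⟮X⟯ ?_)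
  rw [map_mul, ← Polynomial.algebraMap_eq, ← IsScalarTower.algebraMap_apply]
  exact e2.symm

/-- Over an algebraically closed field k, a unirational variety of dimension one is rational. Field
form: let K be a finitely generated field extension of k of transcendence degree one (K is algebraic
over k(x) for some x ∈ K transcendental over k) admitting a k-embedding into a purely transcendental
extension k(t_1, ..., t_n). Then K = k(t) for some t ∈ K transcendental over k. -/
theorem result (k : Type u) [Field k] [IsAlgClosed k]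
    (K : Type u) [Field K] [Algebra k K] (hfg : (⊤ : IntermediateField k K).FG)
    (x : K) (hx : Transcendental k x) (halg : Algebra.IsAlgebraic ↥(IntermediateField.adjoin k {x}) K)
    (n : ℕ) (φ : K →ₐ[k] FractionRing (MvPolynomial (Fin n) k)) :
    ∃ t : K, Transcendental k t ∧ IntermediateField.adjoin k {t} = ⊤ := by
  classical
  let P := MvPolynomial (Fin n) k
  let L := FractionRing P
  obtain ⟨s, hs⟩ := hfg
  obtain ⟨p, q, hq, hpq⟩ := IsFractionRing.div_surjective (A := P) (φ x)
  have hq0 : q ≠ 0 := nonZeroDivisors.ne_zero hq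
  have hqL : algebraMap P L q ≠ 0 := (map_ne_zero_iff _ (IsFractionRing.injective P L)).2 hq0
  have hxc : ∀ c : k, p ≠ MvPolynomial.C c * q := by
    intro c hc
    apply hx
    have : φ x = φ (algebraMap k K c) := by
      rw [← hpq, AlgHom.commutes, hc, map_mul, mul_div_cancel_right₀ _ hqL,
        ← MvPolynomial.algebraMap_eq, ← IsScalarTower.algebraMap_apply]
    rw [φ.injective this]
    exact isAlgebraic_algebraMap c
  choose num den hden hnd using fun y : {y // y ∈ s} => IsFractionRing.div_surjective (A := P) (φ y.1)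
  let D : P := q * ∏ y, den y
  have hD : D ≠ 0 := mul_ne_zero hq0 (Finset.prod_ne_zero_iff.2 fun y _ => nonZeroDivisors.ne_zero (hden y))
  obtain ⟨R, ψ, hR, hxR, htr⟩ := exists_hom D hD p q (Dvd.intro _ rfl) hxc
  let S : Subalgebra k K := Algebra.adjoin k (insert x ↑s)
  have hφS : ∀ z ∈ S, φ z ∈ R := by
    show S ≤ R.comap φ
    refine Algebra.adjoin_le ?_
    rintro y (rfl | hy)
    · show φ y ∈ R; rw [← hpq]; exact hxR
    · show φ y ∈ R
      rw [← hnd ⟨y, hy⟩]
      have hdL : algebraMap P L (den ⟨y, hy⟩) ≠ 0 :=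
        (map_ne_zero_iff _ (IsFractionRing.injective P L)).2 (nonZeroDivisors.ne_zero (hden _))
      have h2 := hR (num ⟨y, hy⟩ * (q * ∏ z ∈ Finset.univ.erase ⟨y, hy⟩, den z))
      have hDe : D = den ⟨y, hy⟩ * (q * ∏ z ∈ Finset.univ.erase ⟨y, hy⟩, den z) := by
        rw [mul_left_comm, Finset.mul_prod_erase _ _ (Finset.mem_univ _)]
      have hne : algebraMap P L (q * ∏ z ∈ Finset.univ.erase (⟨y, hy⟩ : {y // y ∈ s}), den z) ≠ 0 :=
        (map_ne_zero_iff _ (IsFractionRing.injective P L)).2 (fun h => hD (by rw [hDe, h, mul_zero]))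
      generalize q * ∏ z ∈ Finset.univ.erase (⟨y, hy⟩ : {y // y ∈ s}), den z = W at h2 hDe hne
      rwa [hDe, map_mul, map_mul, mul_div_mul_right _ _ hne] at h2
  let Φ₀ : S →ₐ[k] k⟮X⟯ := ψ.comp ((φ.comp S.val).codRestrict R fun z => hφS z z.2)
  have hxS : x ∈ S := Algebra.subset_adjoin (Set.mem_insert _ _)
  have hΦx : Transcendental k (Φ₀ ⟨x, hxS⟩) := by
    have : (⟨φ x, hφS x hxS⟩ : R) = ⟨_, hxR⟩ := Subtype.ext hpq.symm
    show Transcendental k (ψ ⟨φ x, hφS x hxS⟩)
    rw [this]; exact htr
  let xS : S := ⟨x, hxS⟩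
  have haev : ∀ f : k[X], ((Polynomial.aeval xS f : S) : K) = Polynomial.aeval x f := fun f =>
    (Polynomial.aeval_algHom_apply S.val xS f).symm
  have hinj : Function.Injective Φ₀ := by
    rw [injective_iff_map_eq_zero]
    intro z hz
    by_contra hz0
    have hzK : (z : K) ≠ 0 := fun h => hz0 (Subtype.ext h)
    let A : Subalgebra k S := Algebra.adjoin k {xS}
    have halgS : IsAlgebraic ↥A z := by
      have h1 : IsAlgebraic ↥(Algebra.adjoin k ({x} : Set K)) (z : K) :=
        (IsFractionRing.comap_isAlgebraic_iff (A := ↥(Algebra.adjoin k ({x} : Set K)))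
          (K := ↥(IntermediateField.adjoin k {x})) (C := K)).2 halg |>.isAlgebraic (z : K)
      let f : A →ₐ[k] ↥(Algebra.adjoin k ({x} : Set K)) :=
        (S.val.comp A.val).codRestrict _ fun a => by
          obtain ⟨a, ha⟩ := a
          show ((a : S) : K) ∈ _
          simp only [A] at ha
          rw [Algebra.adjoin_singleton_eq_range_aeval] at ha ⊢
          obtain ⟨g, rfl⟩ := ha
          exact ⟨g, (haev g).symm⟩
      refine IsAlgebraic.of_ringHom_of_comp_eq f S.val.toRingHom h1 ?_ Subtype.val_injective rfl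
      rintro ⟨a, ha⟩
      rw [Algebra.adjoin_singleton_eq_range_aeval] at ha
      obtain ⟨g, rfl⟩ := ha
      refine ⟨⟨Polynomial.aeval xS g, ?_⟩, Subtype.ext (haev g)⟩
      simp only [A, Algebra.adjoin_singleton_eq_range_aeval]; exact ⟨g, rfl⟩
    obtain ⟨m, hm0, w, hw⟩ := halgS.exists_nonzero_dvd (mem_nonZeroDivisors_of_ne_zero hz0)
    have hmr : (m : S) ∈ (Polynomial.aeval (R := k) xS).range := by
      rw [← Algebra.adjoin_singleton_eq_range_aeval]; exact m.2
    obtain ⟨g, hg⟩ := hmr
    apply hΦx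
    refine ⟨g, fun h => hm0 (Subtype.ext ?_), ?_⟩
    · show (m : S) = 0
      rw [← hg, h]; exact map_zero _
    · rw [Polynomial.aeval_algHom_apply]
      show Φ₀ ((Polynomial.aeval xS).toRingHom g) = 0
      rw [show (Polynomial.aeval xS).toRingHom g = (m : S) from hg]
      have : (m : S) = z * w := hw
      rw [this, map_mul, hz, zero_mul]
  have hfrac : IsFractionRing S K := IsFractionRing.of_field S K fun z => by
    have hz : z ∈ IntermediateField.adjoin k (↑s : Set K) := by rw [hs]; trivial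
    obtain ⟨a, ha, b, hb, rfl⟩ := IntermediateField.mem_adjoin_iff_div.1 hz
    exact ⟨⟨a, Algebra.adjoin_mono (Set.subset_insert _ _) ha⟩, ⟨b, Algebra.adjoin_mono (Set.subset_insert _ _) hb⟩, rfl⟩
  let Φ : K →ₐ[k] k⟮X⟯ := IsFractionRing.liftAlgHom (K := K) hinj
  let E := Φ.fieldRange
  have hΦ : Φ x = Φ₀ xS := IsFractionRing.lift_algebraMap (A := S) (K := K) hinj xS
  have hE : E ≠ ⊥ := by
    intro h
    have hm : Φ x ∈ (⊥ : IntermediateField k k⟮X⟯) := h ▸ ⟨x, rfl⟩
    obtain ⟨c, hc⟩ := IntermediateField.mem_bot.1 hm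
    apply hΦx
    have hh : Φ₀ ⟨x, hxS⟩ = algebraMap k k⟮X⟯ c := by rw [hc, hΦ]
    rw [hh]; exact isAlgebraic_algebraMap c
  obtain ⟨t, ht⟩ : RatFunc.Luroth.generator E ∈ E := by
    rw [RatFunc.Luroth.eq_adjoin_generator (E := E)] 
    conv => arg 2; rw [← RatFunc.Luroth.eq_adjoin_generator (E := E)]
    exact IntermediateField.mem_adjoin_simple_self k _
  refine ⟨t, fun h => RatFunc.Luroth.transcendental_generator hE (ht ▸ h.algHom Φ), ?_⟩
  apply IntermediateField.map_injective Φ
  rw [IntermediateField.adjoin_map, Set.image_singleton]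
  show IntermediateField.adjoin k {Φ t} = _
  rw [show Φ t = RatFunc.Luroth.generator E from ht, ← RatFunc.Luroth.eq_adjoin_generator,
    ← AlgHom.fieldRange_eq_map]

end Groth.Agent.S11238
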