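import Groth.Statements.S11240
-- import your own Groth.Agent.* helpers here

set_option autoImplicit false
universe u
open AGF

namespace Groth.Agent.S11240

/-- For a single root subgroup: let k be an algebraically closed field and X = (x_ab) the generic n × m
matrix over the polynomial ring k[x_ab]. Let i ≠ j be row indices and let I (rows) and J (columns)
be strictly increasing sequences of length p. The minor of X with rows I and columns J is invariant
under replacing X by (1 + b·E_ij)·X for every b ∈ k (the one-parameter unipotent group adding b
times row j to row i) if and only if j occurs in I whenever i does. (The published statement gives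
the criterion for the group generated by several such root subgroups, which is the conjunction of
these.) -/
theorem result (k : Type u) [Field k] [IsAlgClosed k] (n m p : ℕ)
    (i j : Fin n) (hij : i ≠ j) (I : Fin p ↪o Fin n) (J : Fin p ↪o Fin m) :
    (∀ b : k, ((Matrix.transvection i j (MvPolynomial.C b) *
        (Matrix.of fun a c => (MvPolynomial.X (a, c) : MvPolynomial (Fin n × Fin m) k))).submatrix I J).det =
        ((Matrix.of fun a c => (MvPolynomial.X (a, c) : MvPolynomial (Fin n × Fin m) k)).submatrix I J).det) ↔
      (i ∈ Set.range I → j ∈ Set.range I) := by
  classical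
  set X : Matrix (Fin n) (Fin m) (MvPolynomial (Fin n × Fin m) k) := (Matrix.of fun a c => (MvPolynomial.X (a, c) : MvPolynomial (Fin n × Fin m) k)) with hX
  have rowsEq : ∀ (b : k) (a : Fin n) (c : Fin m),
      ((Matrix.transvection i j (MvPolynomial.C b) * X : Matrix (Fin n) (Fin m) _)) a c =
        if a = i then X i c + MvPolynomial.C b * X j c else X a c := by
    intro b a c
    split_ifs with ha
    · subst ha; rw [Matrix.transvection_mul_apply_same]
    · rw [Matrix.transvection_mul_apply_of_ne _ _ _ _ ha]
  constructor
  · intro h hi
    by_contra hj
    obtain ⟨r, hr⟩ := hi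
    have e : (Matrix.transvection i j (MvPolynomial.C (1:k)) * X).submatrix I J =
        (X.submatrix I J).updateRow r (fun c => X (I r) (J c) + X j (J c)) := by
      ext a c
      rw [Matrix.submatrix_apply, rowsEq, Matrix.updateRow_apply]
      by_cases ha : a = r
      · subst ha; simp [hr]
      · have : I a ≠ i := fun hh => ha (I.injective (hh.trans hr.symm))
        simp [ha, this]
    have h1 := h 1
    rw [e, show (fun c => X (I r) (J c) + X j (J c)) = (fun c => X (I r) (J c)) + (fun c => X j (J c)) from rfl,
      Matrix.det_updateRow_add,
      show (fun c => X (I r) (J c)) = (X.submatrix I J) r from rfl, Matrix.updateRow_eq_self,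
      add_eq_left] at h1
    let I' : Fin p → Fin n := Function.update I r j
    have hinj : Function.Injective I' := by
      intro a b hab
      simp only [I', Function.update_apply] at hab
      by_cases ha : a = r <;> by_cases hb : b = r
      · rw [ha, hb]
      · simp [ha, hb] at hab; exact absurd ⟨b, hab.symm⟩ hj
      · simp [ha, hb] at hab; exact absurd ⟨a, hab⟩ hj
      · simp [ha, hb] at hab; exact hab
    let v : Fin n × Fin m → k := fun q => if ∃ t, I' t = q.1 ∧ J t = q.2 then 1 else 0
    have h2 := congrArg (MvPolynomial.eval v) h1
    rw [RingHom.map_det, map_zero] at h2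
    have e2 : (MvPolynomial.eval v).mapMatrix ((X.submatrix I J).updateRow r (fun c => X j (J c))) = 1 := by
      ext a c
      have : ((X.submatrix I J).updateRow r (fun c => X j (J c))) a c = MvPolynomial.X (I' a, J c) := by
        by_cases ha : a = r
        · subst ha; simp [I', hX]
        · simp [I', hX, ha, Matrix.updateRow_apply, Function.update_apply]
      rw [RingHom.mapMatrix_apply, Matrix.map_apply, this, MvPolynomial.eval_X]
      by_cases hac : a = c
      · subst hac; simp [v]
      · have : ¬ ∃ t, I' t = I' a ∧ J t = J c := by
          rintro ⟨t, ht, ht'⟩
          exact hac ((hinj ht).symm.trans (J.injective ht'))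
        simp only [v]; rw [if_neg this, Matrix.one_apply_ne hac]
    rw [e2, Matrix.det_one] at h2
    exact one_ne_zero h2
  · intro h b
    by_cases hi : i ∈ Set.range I
    · obtain ⟨r, hr⟩ := hi
      obtain ⟨s, hs⟩ := h ⟨r, hr⟩
      have hrs : r ≠ s := by rintro rfl; exact hij (hr.symm.trans hs)
      have e : (Matrix.transvection i j (MvPolynomial.C b) * X).submatrix I J =
          (X.submatrix I J).updateRow r ((X.submatrix I J) r + (MvPolynomial.C b : MvPolynomial (Fin n × Fin m) k) • (X.submatrix I J) s) := by
        ext a c
        rw [Matrix.submatrix_apply, rowsEq, Matrix.updateRow_apply]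
        by_cases ha : a = r
        · subst ha; simp [hr, hs]
        · have : I a ≠ i := fun hh => ha (I.injective (hh.trans hr.symm))
          simp [ha, this]
      rw [e, Matrix.det_updateRow_add_smul_self _ hrs]
    · congr 1
      ext a c
      rw [Matrix.submatrix_apply, rowsEq, Matrix.submatrix_apply, if_neg]
      exact fun hh => hi ⟨a, hh⟩

end Groth.Agent.S11240
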