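import Groth.Statements.S6094
-- import your own Groth.Agent.* helpers here

set_option autoImplicit false
universe u
open CategoryTheory MonObj GrpObj AlgebraicGeometry
open scoped TensorProduct
open SGA3

namespace Groth.Agent.S6094

section
open VecGrp

variable {R : Type u} [CommRing R] {A : Type u} [CommRing A] [HopfAlgebra R A]
  {E : Type u} [AddCommGroup E] [Module R E]


/-- the algebra map of a point -/
noncomputable def al {B : Type u} [CommRing B] [Algebra R B] (g : pt R B ⟶ ((Spec (CommRingCat.of A)).asOver (Spec (CommRingCat.of R)))) : A →ₐ[R] B :=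
  (Spec.mapMulEquiv.symm g).ofConv

/-- product of two algebra maps -/
noncomputable def lf {B : Type u} [CommRing B] [Algebra R B] (f g : A →ₐ[R] B) : A ⊗[R] A →ₐ[R] B :=
  Algebra.TensorProduct.lift f g (fun x y => Commute.all (f x) (g y))

@[simp] theorem lf_tmul {B : Type u} [CommRing B] [Algebra R B] (f g : A →ₐ[R] B) (x y : A) :
    lf f g (x ⊗ₜ y) = f x * g y := Algebra.TensorProduct.lift_tmul ..

theorem al_mul {B : Type u} [CommRing B] [Algebra R B] (g h : pt R B ⟶ ((Spec (CommRingCat.of A)).asOver (Spec (CommRingCat.of R)))) :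
    al (g * h) = (lf (al g) (al h)).comp
      (Bialgebra.comulAlgHom R A) := by
  refine (congrArg WithConv.ofConv (map_mul Spec.mapMulEquiv.symm g h)).trans ?_
  ext a
  have := AlgHom.convMul_apply (Spec.mapMulEquiv.symm g) (Spec.mapMulEquiv.symm h) a
  refine this.trans ?_
  rw [AlgHom.comp_apply, Bialgebra.comulAlgHom_apply]
  induction Coalgebra.comul (R := R) a with
  | zero => simp
  | tmul x y => simp [al]
  | add x y hx hy => simp_all [map_add]

theorem al_one {B : Type u} [CommRing B] [Algebra R B] :
    al (1 : pt R B ⟶ ((Spec (CommRingCat.of A)).asOver (Spec (CommRingCat.of R)))) = (Algebra.ofId R B).comp (Bialgebra.counitAlgHom R A) := by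
  refine (congrArg WithConv.ofConv (map_one Spec.mapMulEquiv.symm)).trans ?_
  ext a
  rfl

theorem al_ptMap {B B' : Type u} [CommRing B] [Algebra R B] [CommRing B'] [Algebra R B']
    (φ : B →ₐ[R] B') (g : pt R B ⟶ ((Spec (CommRingCat.of A)).asOver (Spec (CommRingCat.of R)))) : al (ptMap φ ≫ g) = φ.comp (al g) := by
  have h : ptMap φ ≫ g = Spec.mapMulEquiv (WithConv.toConv (φ.comp (al g))) := by
    apply Over.OverMorphism.ext
    have hg : g.left = Spec.map (CommRingCat.ofHom (al g).toRingHom) :=
      (congrArg (fun q => q.left) (Spec.mapMulEquiv.apply_symm_apply g)).symm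
    rw [Over.comp_left, hg, ptMap_left]
    exact (Spec.map_comp _ _).symm
  refine (congrArg (fun q => (Spec.mapMulEquiv.symm q).ofConv) h).trans ?_
  exact congrArg WithConv.ofConv (MulEquiv.symm_apply_apply _ _)

/-- contraction -/
noncomputable def tf {B : Type u} [CommRing B] [Algebra R B] (f : A →ₐ[R] B) : E ⊗[R] A →ₗ[R] B ⊗[R] E :=
  (TensorProduct.comm R E B).toLinearMap ∘ₗ f.toLinearMap.lTensor E

theorem tf_tmul {B : Type u} [CommRing B] [Algebra R B] (f : A →ₐ[R] B) (e : E) (a : A) :
    tf f (e ⊗ₜ a) = f a ⊗ₜ[R] e := rfl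

theorem Wmap_tf {B B' : Type u} [CommRing B] [Algebra R B] [CommRing B'] [Algebra R B']
    (φ : B →ₐ[R] B') (f : A →ₐ[R] B) (w : E ⊗[R] A) : Wmap φ (tf f w) = tf (φ.comp f) w := by
  induction w with
  | zero => simp
  | tmul e a => simp [tf_tmul]
  | add x y hx hy => simp [hx, hy]

/-- the action by a point -/
noncomputable def act (δ : E →ₗ[R] E ⊗[R] A) {B : Type u} [CommRing B] [Algebra R B] (f : A →ₐ[R] B) :
    B ⊗[R] E →ₗ[B] B ⊗[R] E :=
  (tf f ∘ₗ δ).liftBaseChange B

theorem act_tmul (δ : E →ₗ[R] E ⊗[R] A) {B : Type u} [CommRing B] [Algebra R B] (f : A →ₐ[R] B) (b : B) (x : E) :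
    act δ f (b ⊗ₜ x) = b • tf f (δ x) := LinearMap.liftBaseChange_tmul ..

theorem act_tf (δ : E →ₗ[R] E ⊗[R] A) {B : Type u} [CommRing B] [Algebra R B] (f g : A →ₐ[R] B) (z : E ⊗[R] A) :
    act δ f (tf g z) = TensorProduct.comm R E B
      ((lf f g).toLinearMap.lTensor E
        (TensorProduct.assoc R E A A (δ.rTensor A z))) := by
  induction z using TensorProduct.induction_on with
  | zero => simp
  | add x y hx hy => simp only [map_add, hx, hy]
  | tmul y a =>
    rw [tf_tmul, act_tmul, LinearMap.rTensor_tmul]
    induction δ y with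
    | zero => simp
    | add u v hu hv => simp only [map_add, smul_add, TensorProduct.add_tmul, hu, hv]
    | tmul e a' => simp [tf_tmul, TensorProduct.smul_tmul', mul_comm]

theorem tf_lift (δ : E →ₗ[R] E ⊗[R] A) {B : Type u} [CommRing B] [Algebra R B] (f g : A →ₐ[R] B) (x : E) :
    tf ((lf f g).comp (Bialgebra.comulAlgHom R A)) (δ x) =
      TensorProduct.comm R E B ((lf f g).toLinearMap.lTensor E
        ((CoalgebraStruct.comul (R := R) (A := A)).lTensor E (δ x))) := by
  induction δ x with
  | zero => simp
  | add u v hu hv => simp only [map_add, hu, hv]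
  | tmul e a => rfl

/-- the module structure of a coassociative counital coaction -/
noncomputable def gmod (δ : E →ₗ[R] E ⊗[R] A)
    (h1 : (TensorProduct.assoc R E A A).toLinearMap ∘ₗ δ.rTensor A ∘ₗ δ =
      (CoalgebraStruct.comul (R := R) (A := A)).lTensor E ∘ₗ δ)
    (h2 : (CoalgebraStruct.counit (R := R) (A := A)).lTensor E ∘ₗ δ = (TensorProduct.mk R E R).flip 1) :
    GMod ((Spec (CommRingCat.of A)).asOver (Spec (CommRingCat.of R))) E where
  ρ B _ _ := (LinearMap.GeneralLinearGroup.generalLinearEquiv B (W R E B)).toMonoidHom.comp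
    (MonoidHom.toHomUnits
      { toFun := fun g => act δ (al g)
        map_one' := by
          refine TensorProduct.AlgebraTensorModule.ext fun b x => ?_
          rw [al_one, act_tmul, Module.End.one_apply]
          have hc := LinearMap.congr_fun h2 x
          have : tf ((Algebra.ofId R B).comp (Bialgebra.counitAlgHom R A)) (δ x) = (1 : B) ⊗ₜ[R] x := by
            have e : ∀ w : E ⊗[R] A, tf ((Algebra.ofId R B).comp (Bialgebra.counitAlgHom R A)) w =
                TensorProduct.comm R E B ((Algebra.linearMap R B).lTensor E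
                  ((CoalgebraStruct.counit (R := R) (A := A)).lTensor E w)) := by
              intro w
              induction w with
              | zero => simp
              | add u v hu hv => simp only [map_add, hu, hv]
              | tmul e a => rfl
            rw [e, show (CoalgebraStruct.counit (R := R) (A := A)).lTensor E (δ x) = x ⊗ₜ[R] (1 : R) from hc]
            simp
          rw [this, TensorProduct.smul_tmul', smul_eq_mul, _root_.mul_one]
        map_mul' := fun g h => by
          refine TensorProduct.AlgebraTensorModule.ext fun b x => ?_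
          rw [Module.End.mul_apply, act_tmul, act_tmul, map_smul, act_tf, al_mul, tf_lift]
          rw [show TensorProduct.assoc R E A A (δ.rTensor A (δ x)) =
            (CoalgebraStruct.comul (R := R) (A := A)).lTensor E (δ x) from LinearMap.congr_fun h1 x] })
  naturality {B B'} _ _ _ _ φ g z := by
    show Wmap φ (act δ (al g) z) = act δ (al (ptMap φ ≫ g)) (Wmap φ z)
    rw [al_ptMap]
    induction z using TensorProduct.induction_on with
    | zero => simp
    | add u v hu hv => simp only [map_add, hu, hv]
    | tmul b x => rw [act_tmul, Wmap_smul, Wmap_tf, Wmap_tmul, act_tmul]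

theorem gmod_ext {m m' : GMod ((Spec (CommRingCat.of A)).asOver (Spec (CommRingCat.of R))) E}
    (h : ∀ (B : Type u) [CommRing B] [Algebra R B] (g : pt R B ⟶ ((Spec (CommRingCat.of A)).asOver (Spec (CommRingCat.of R)))) (x : E),
      m.ρ B g ((1 : B) ⊗ₜ[R] x) = m'.ρ B g ((1 : B) ⊗ₜ[R] x)) : m = m' := by
  obtain ⟨ρ, n⟩ := m
  obtain ⟨ρ', n'⟩ := m'
  have : @ρ = @ρ' := by
    funext B _ _
    refine MonoidHom.ext fun g => LinearEquiv.toLinearMap_injective ?_
    refine TensorProduct.AlgebraTensorModule.ext fun b x => ?_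
    rw [show b ⊗ₜ[R] x = b • ((1 : B) ⊗ₜ[R] x) by rw [TensorProduct.smul_tmul', smul_eq_mul, _root_.mul_one],
      map_smul, map_smul]
    exact congrArg (fun w => b • w) (h B g x)
  subst this
  rfl

/-- the universal point -/
noncomputable def univ : pt R A ⟶ ((Spec (CommRingCat.of A)).asOver (Spec (CommRingCat.of R))) := Spec.mapMulEquiv (WithConv.toConv (AlgHom.id R A))

theorem al_mk {B : Type u} [CommRing B] [Algebra R B] (f : A →ₐ[R] B) :
    al (Spec.mapMulEquiv (WithConv.toConv f) : pt R B ⟶ ((Spec (CommRingCat.of A)).asOver (Spec (CommRingCat.of R)))) = f :=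
  congrArg WithConv.ofConv (MulEquiv.symm_apply_apply _ _)

theorem al_injective {B : Type u} [CommRing B] [Algebra R B] : Function.Injective (al (R := R) (A := A) (B := B)) :=
  fun _ _ h => Spec.mapMulEquiv.symm.injective (WithConv.ofConv_injective h)

theorem eq_ptMap_univ {B : Type u} [CommRing B] [Algebra R B] (g : pt R B ⟶ ((Spec (CommRingCat.of A)).asOver (Spec (CommRingCat.of R)))) :
    g = ptMap (al g) ≫ univ := by
  apply al_injective
  rw [al_ptMap, univ, al_mk, AlgHom.comp_id]

variable (m : GMod ((Spec (CommRingCat.of A)).asOver (Spec (CommRingCat.of R))) E)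

/-- the coaction of a module structure -/
noncomputable def coact : E →ₗ[R] E ⊗[R] A :=
  (TensorProduct.comm R A E).toLinearMap ∘ₗ ((m.ρ A univ).toLinearMap.restrictScalars R) ∘ₗ TensorProduct.mk R A E 1

theorem rho_eq {B : Type u} [CommRing B] [Algebra R B] (g : pt R B ⟶ ((Spec (CommRingCat.of A)).asOver (Spec (CommRingCat.of R)))) (x : E) :
    m.ρ B g ((1 : B) ⊗ₜ[R] x) = tf (al g) (coact m x) := by
  conv_lhs => rw [eq_ptMap_univ g, show (1 : B) ⊗ₜ[R] x = Wmap (al g) ((1 : A) ⊗ₜ[R] x) by simp, ← m.naturality]
  have : ∀ w : A ⊗[R] E, Wmap (al g) w = tf (al g) (TensorProduct.comm R A E w) := by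
    intro w
    induction w with
    | zero => simp
    | add u v hu hv => simp only [map_add, hu, hv]
    | tmul a e => simp [tf_tmul]
  exact this _

theorem rho_act {B : Type u} [CommRing B] [Algebra R B] (g : pt R B ⟶ ((Spec (CommRingCat.of A)).asOver (Spec (CommRingCat.of R)))) (z : B ⊗[R] E) :
    m.ρ B g z = act (coact m) (al g) z := by
  induction z using TensorProduct.induction_on with
  | zero => simp
  | add u v hu hv => simp only [map_add, hu, hv]
  | tmul b x =>
    rw [act_tmul, show b ⊗ₜ[R] x = b • ((1 : B) ⊗ₜ[R] x) by rw [TensorProduct.smul_tmul', smul_eq_mul, _root_.mul_one],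
      map_smul, rho_eq]

theorem coact_coassoc : (TensorProduct.assoc R E A A).toLinearMap ∘ₗ (coact m).rTensor A ∘ₗ coact m =
    (CoalgebraStruct.comul (R := R) (A := A)).lTensor E ∘ₗ coact m := by
  refine LinearMap.ext fun x => ?_
  let l : A →ₐ[R] A ⊗[R] A := Algebra.TensorProduct.includeLeft
  let r : A →ₐ[R] A ⊗[R] A := Algebra.TensorProduct.includeRight
  let g : pt R (A ⊗[R] A) ⟶ ((Spec (CommRingCat.of A)).asOver (Spec (CommRingCat.of R))) := Spec.mapMulEquiv (WithConv.toConv l)
  let h : pt R (A ⊗[R] A) ⟶ ((Spec (CommRingCat.of A)).asOver (Spec (CommRingCat.of R))) := Spec.mapMulEquiv (WithConv.toConv r)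
  have hlr : lf l r = AlgHom.id R (A ⊗[R] A) := by
    ext <;> simp [l, r]
  have h1 := rho_eq m (g * h) x
  rw [map_mul, LinearEquiv.mul_apply, rho_eq, rho_act, act_tf, al_mul, al_mk, al_mk, tf_lift, hlr] at h1
  have h2 := (TensorProduct.comm R E (A ⊗[R] A)).injective h1
  simp only [AlgHom.toLinearMap_id, LinearMap.lTensor_id, LinearMap.id_apply] at h2
  exact h2

theorem coact_counit : (CoalgebraStruct.counit (R := R) (A := A)).lTensor E ∘ₗ coact m =
    (TensorProduct.mk R E R).flip 1 := by
  refine LinearMap.ext fun x => ?_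
  have h1 := rho_eq m (1 : pt R R ⟶ ((Spec (CommRingCat.of A)).asOver (Spec (CommRingCat.of R)))) x
  rw [map_one, al_one] at h1
  have e : ∀ w : E ⊗[R] A, tf ((Algebra.ofId R R).comp (Bialgebra.counitAlgHom R A)) w =
      TensorProduct.comm R E R ((CoalgebraStruct.counit (R := R) (A := A)).lTensor E w) := by
    intro w
    induction w with
    | zero => simp
    | add u v hu hv => simp only [map_add, hu, hv]
    | tmul e a => rfl
  rw [e] at h1
  apply (TensorProduct.comm R E R).injective
  exact h1.symm

end

/-- Let R be a commutative ring, A a commutative Hopf algebra over R, G = Spec A the corresponding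
affine group scheme over Spec R, and E an R-module. A G-module structure on E (for every R-algebra
B, a natural action of the B-valued points of G on B ⊗_R E by B-linear automorphisms) and a right
A-comodule structure δ : E → E ⊗_R A are said to correspond when, for every R-algebra B, every
B-valued point g of G with associated algebra map f : A → B and every x ∈ E, the point g sends 1 ⊗ x
to the image of δ(x) under E ⊗_R A → B ⊗_R E, y ⊗ a ↦ f(a) ⊗ y. Then every comodule structure on E
corresponds to exactly one G-module structure, and every G-module structure corresponds to exactly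
one R-linear δ : E → E ⊗_R A which is coassociative and counital. -/
theorem result (R : Type u) [CommRing R] (A : Type u) [CommRing A] [HopfAlgebra R A]
    (E : Type u) [AddCommGroup E] [Module R E] :
    (∀ [HopfRep.Comod R A E], ∃! m : VecGrp.GMod ((Spec (CommRingCat.of A)).asOver (Spec (CommRingCat.of R))) E,
        (∀ (B : Type u) [CommRing B] [Algebra R B] (g : VecGrp.pt R B ⟶ ((Spec (CommRingCat.of A)).asOver (Spec (CommRingCat.of R)))) (x : E),
          m.ρ B g ((1 : B) ⊗ₜ[R] x) =
            (TensorProduct.comm R E B) (LinearMap.lTensor E (Spec.mapMulEquiv.symm g).ofConv.toLinearMap (HopfRep.Comod.coact (k := R) (A := A) x)))) ∧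
    (∀ m : VecGrp.GMod ((Spec (CommRingCat.of A)).asOver (Spec (CommRingCat.of R))) E, ∃! δ : E →ₗ[R] E ⊗[R] A,
        ((TensorProduct.assoc R E A A).toLinearMap ∘ₗ δ.rTensor A ∘ₗ δ =
            (CoalgebraStruct.comul (R := R) (A := A)).lTensor E ∘ₗ δ ∧
          (CoalgebraStruct.counit (R := R) (A := A)).lTensor E ∘ₗ δ = (TensorProduct.mk R E R).flip 1) ∧
        (∀ (B : Type u) [CommRing B] [Algebra R B] (g : VecGrp.pt R B ⟶ ((Spec (CommRingCat.of A)).asOver (Spec (CommRingCat.of R)))) (x : E),
          m.ρ B g ((1 : B) ⊗ₜ[R] x) =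
            (TensorProduct.comm R E B) (LinearMap.lTensor E (Spec.mapMulEquiv.symm g).ofConv.toLinearMap (δ x)))) := by
  refine ⟨?_, fun m => ⟨coact m, ⟨⟨coact_coassoc m, coact_counit m⟩, fun B _ _ g x => rho_eq m g x⟩, ?_⟩⟩
  · intro _
    refine ⟨gmod (HopfRep.Comod.coact (k := R) (A := A)) HopfRep.Comod.coassoc HopfRep.Comod.counit_comp,
      fun B _ _ g x => ?_, fun m hm => gmod_ext fun B _ _ g x => ?_⟩
    · exact (act_tmul _ _ _ _).trans (one_smul _ _)
    · exact (hm B g x).trans ((act_tmul _ _ _ _).trans (one_smul _ _)).symm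
  · rintro δ ⟨-, hδ⟩
    refine LinearMap.ext fun x => ?_
    have h1 : tf (al univ) (δ x) = tf (al univ) (coact m x) := (hδ A univ x).symm.trans (rho_eq m univ x)
    have h2 := (TensorProduct.comm R E A).injective h1
    rw [univ, al_mk, AlgHom.toLinearMap_id, LinearMap.lTensor_id] at h2
    exact h2

end Groth.Agent.S6094
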