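import Groth.Statements.S11241
import Groth.Agent.Misc1.Unip.NoSubtorus
import Groth.Agent.S6094

set_option autoImplicit false
universe u
open CategoryTheory MonoidalCategory CartesianMonoidalCategory MonObj GrpObj AlgebraicGeometry
open scoped TensorProduct
open AGF

namespace Groth.Agent.S11241

/-- Let k be an algebraically closed field and H a connected unipotent linear algebraic group over k
(affine, smooth, connected, with no nontrivial subtorus), acting rationally by algebra automorphisms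
on a commutative k-algebra A which is an integral domain. An H-invariant element of the fraction
field of A is a quotient of two H-invariant elements of A: if a₀, b₀ ∈ A with b₀ ≠ 0 satisfy
(h·a₀)·b₀ = a₀·(h·b₀) for every point h of H (invariance of a₀/b₀), then there are a, b ∈ A^H with b
≠ 0 and a·b₀ = b·a₀. (The published statement allows any unipotent H; this row takes H connected.) -/
theorem result (k : Type u) [Field k] [IsAlgClosed k]
    (H : Over (Spec (CommRingCat.of k))) [GrpObj H] [IsAffine H.left] [Smooth H.hom] [ConnectedSpace H.left]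
    (hH : Red.HasNoSubtorus k H)
    (A : Type u) [CommRing A] [IsDomain A] [Algebra k A] (ρ : VecGrp.GMod H A) (hρ : ρ.IsMult)
    (a₀ b₀ : A) (hb₀ : b₀ ≠ 0)
    (hinv : ∀ (B : Type u) [CommRing B] [Algebra k B] (h : VecGrp.pt k B ⟶ H),
      ρ.ρ B h ((1 : B) ⊗ₜ[k] a₀) * ((1 : B) ⊗ₜ[k] b₀) = ((1 : B) ⊗ₜ[k] a₀) * ρ.ρ B h ((1 : B) ⊗ₜ[k] b₀)) :
    ∃ a b : A, a ∈ ρ.fixedUnder (𝟙 H) ∧ b ∈ ρ.fixedUnder (𝟙 H) ∧ b ≠ 0 ∧ a * b₀ = b * a₀ := by
  obtain ⟨C, _, _, _, _, e, he, hU⟩ := Groth.Misc1.Unip.exists_unipotent_hopf H hH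
  haveI := he
  let m : VecGrp.GMod (CoactBr.sp k C) A :=
    { ρ := fun B _ _ => (ρ.ρ B).comp (MonoidHom.mk' (fun g => g ≫ e.hom) fun g h => MonObj.mul_comp g h e.hom)
      naturality := fun φ g x => by
        refine (ρ.naturality φ (g ≫ e.hom) x).trans ?_
        simp }
  obtain ⟨δ, ⟨⟨hcoassoc, hcounit⟩, hδ⟩, -⟩ := (Groth.Agent.S6094.result k C A).2 m
  letI : HopfRep.Comod k C A := ⟨δ, hcoassoc, hcounit⟩
  -- the universal point
  let g₀ : VecGrp.pt k C ⟶ CoactBr.sp k C := Spec.mapMulEquiv (WithConv.toConv (AlgHom.id k C))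
  let Φ : A →ₗ[k] C ⊗[k] A := (TensorProduct.comm k A C).toLinearMap ∘ₗ δ
  have hΦ : ∀ a, ρ.ρ C (g₀ ≫ e.hom) ((1 : C) ⊗ₜ[k] a) = Φ a := fun a => by
    refine (hδ C g₀ a).trans ?_
    have : (Spec.mapMulEquiv (R := k) (S := C) (T := C)).symm g₀ = WithConv.toConv (AlgHom.id k C) :=
      MulEquiv.symm_apply_apply _ _
    rw [this]
    simp [Φ]
  have hnzd : ∀ z : C ⊗[k] A, z * ((1 : C) ⊗ₜ[k] b₀) = 0 → z = 0 := fun z hz => by
    have hinj : Function.Injective ((LinearMap.mulRight k b₀).lTensor C) :=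
      Module.Flat.lTensor_preserves_injective_linearMap _ (mul_left_injective₀ hb₀)
    have e1 : (LinearMap.mulRight k b₀).lTensor C z = z * ((1 : C) ⊗ₜ[k] b₀) := by
      clear hz
      induction z using TensorProduct.induction_on with
      | zero => simp
      | tmul c a => simp
      | add x y hx hy => simp only [map_add, add_mul, hx, hy]
    exact hinj (by rw [e1, hz, map_zero])
  have hmul := (hρ C (g₀ ≫ e.hom)).1
  have hΦb : ∀ z : C ⊗[k] A, z * Φ b₀ = 0 → z = 0 := fun z hz => by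
    obtain ⟨w, rfl⟩ := (ρ.ρ C (g₀ ≫ e.hom)).surjective z
    rw [← hΦ, ← hmul, ← map_zero (ρ.ρ C (g₀ ≫ e.hom))] at hz
    rw [hnzd w ((ρ.ρ C (g₀ ≫ e.hom)).injective hz), map_zero]
  let M : Submodule k A :=
    { carrier := {b | ∃ a, a * b₀ = b * a₀}
      add_mem' := fun {x y} ⟨a, ha⟩ ⟨a', ha'⟩ => ⟨a + a', by rw [add_mul, add_mul, ha, ha']⟩
      zero_mem' := ⟨0, by simp⟩
      smul_mem' := fun c {x} ⟨a, ha⟩ => ⟨c • a, by simp only [smul_mul_assoc, ha]⟩ }
  have hrel : ∀ a b : A, a * b₀ = b * a₀ →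
      Φ a * ((1 : C) ⊗ₜ[k] b₀) = Φ b * ((1 : C) ⊗ₜ[k] a₀) := fun a b hab => by
    have h1 : Φ a * Φ b₀ = Φ b * Φ a₀ := by
      rw [← hΦ, ← hΦ, ← hΦ, ← hΦ, ← hmul, ← hmul]
      simp [hab]
    have h2 : Φ a₀ * ((1 : C) ⊗ₜ[k] b₀) = ((1 : C) ⊗ₜ[k] a₀) * Φ b₀ := by
      rw [← hΦ, ← hΦ]
      exact hinv C (g₀ ≫ e.hom)
    refine sub_eq_zero.1 (hΦb _ ?_)
    rw [sub_mul, mul_right_comm, h1, _root_.mul_assoc (Φ b), h2, ← _root_.mul_assoc, sub_self]
  have hstab : ∀ (φ : C →ₗ[k] k), ∀ b ∈ M, Groth.ComodLib.op φ b ∈ M := by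
    rintro φ b ⟨a, hab⟩
    refine ⟨Groth.ComodLib.op φ a, ?_⟩
    let sl : C ⊗[k] A →ₗ[k] A := (TensorProduct.lid k A).toLinearMap ∘ₗ φ.rTensor A
    have key : ∀ (x c : A), sl (Φ x * ((1 : C) ⊗ₜ[k] c)) = Groth.ComodLib.op φ x * c := fun x c => by
      rw [Groth.ComodLib.op_apply]
      change sl (TensorProduct.comm k A C (δ x) * _) = Groth.ComodLib.slice φ (δ x) * c
      induction δ x using TensorProduct.induction_on with
      | zero => simp
      | tmul y z => simp [sl, smul_mul_assoc]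
      | add y z hy hz => simp only [map_add, add_mul, hy, hz]
    rw [← key, ← key, hrel a b hab]
  obtain ⟨b, ⟨a, hab⟩, hb, hfix⟩ := Groth.Misc1.Unip.exists_fixed_of_stable hU M hstab
    (x := b₀) ⟨a₀, mul_comm _ _⟩ hb₀
  have hfixed : ∀ x : A, δ x = x ⊗ₜ[k] (1 : C) → x ∈ ρ.fixedUnder (𝟙 H) := fun x hx B _ _ t => by
    have := hδ B (t ≫ e.inv) x
    rw [hx] at this
    simpa [m] using this
  have hafix : δ a = a ⊗ₜ[k] (1 : C) := by
    have h1 : Φ b = (1 : C) ⊗ₜ[k] b := by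
      change TensorProduct.comm k A C (δ b) = _
      rw [show δ b = b ⊗ₜ[k] (1 : C) from hfix]
      simp
    refine (TensorProduct.comm k A C).injective (sub_eq_zero.1 (hnzd _ ?_))
    change (Φ a - _) * _ = 0
    rw [sub_mul, hrel a b hab, h1]
    simp [hab]
  exact ⟨a, b, hfixed a hafix, hfixed b hfix, hb, hab⟩

end Groth.Agent.S11241
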