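import Groth.Statements.S11243
import Groth.Agent.RootData.Domain

set_option autoImplicit false
universe u v w
open RootD

namespace Groth.Agent.S11243

/-- (b), for a connected group, as a statement about its root datum: let P be a finite reduced
crystallographic root pairing over ℤ with weight lattice M, and b a base of P (simple roots,
determining the positive roots). Then there is an additive map h : M → ℤ which is positive on every
positive root (so that h strictly increases along the dominance order) and non-negative on every
dominant weight, i.e. on every ω ∈ M pairing non-negatively with all simple coroots. (Part (c),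
invariance under the component group of a disconnected group, is not stated.) -/
theorem result {ι : Type u} {M : Type v} {N : Type w}
    [Fintype ι] [AddCommGroup M] [AddCommGroup N]
    (P : RootPairing ι ℤ M N) [P.IsReduced] [P.IsCrystallographic] (b : P.Base) :
    ∃ h : M →+ ℤ, (∀ i : ι, b.IsPos i → 0 < h (P.root i)) ∧
      ∀ ω : M, (∀ j ∈ b.support, 0 ≤ P.toLinearMap ω (P.coroot j)) → 0 ≤ h ω := by
  classical
  set S := Finset.univ.filter fun i ↦ b.IsPos i with hSdef
  have hb := Groth.RootData.Base.isSimpleSys b
  have hcoe : (S : Set ι) = RootD.posOf P (b.support : Set ι) := by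
    ext i; simp [hSdef, Groth.RootData.Base.mem_posOf_iff]
  have hS : RootD.IsPosSys P (S : Set ι) := hcoe.symm ▸ Groth.RootData.IsSimpleSys.isPosSys hb
  refine ⟨(∑ k ∈ S, P.coroot' k : M →ₗ[ℤ] ℤ).toAddMonoidHom, fun i hi ↦ ?_, fun ω hω ↦ ?_⟩
  · rw [LinearMap.toAddMonoidHom_coe, LinearMap.coe_sum, Finset.sum_apply]
    simp only [Groth.RootData.coroot'_root, Int.cast_id]
    exact Groth.RootData.sum_pI_pos_of_mem hS (by simp [hSdef, hi])
  · rw [LinearMap.toAddMonoidHom_coe, LinearMap.coe_sum, Finset.sum_apply]
    refine Finset.sum_nonneg fun k hk ↦ ?_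
    have hk' : P.coroot k ∈ RootD.natSpan P.flip (b.support : Set ι) := by
      have e := Groth.RootData.posOf_eq_of_subset (P := P.flip) (S := (S : Set ι))
        (Groth.RootData.Base.isSimpleSys b.flip) (Groth.RootData.IsPosSys.flip hS)
        (fun x hx ↦ by rw [hcoe]; exact Groth.RootData.subset_posOf _ hx)
      have : k ∈ RootD.posOf P.flip (b.support : Set ι) := e ▸ hk
      exact this
    obtain ⟨s, hs, hsk⟩ := Groth.RootData.exists_multiset_of_mem_natSpan hk'
    change 0 ≤ P.toLinearMap ω (P.coroot k)
    rw [← hsk, map_multiset_sum]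
    refine Multiset.sum_nonneg fun x hx ↦ ?_
    obtain ⟨a, ha, rfl⟩ := Multiset.mem_map.mp hx
    obtain ⟨l, hl, rfl⟩ := Multiset.mem_map.mp ha
    exact hω l (hs l hl)

end Groth.Agent.S11243
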