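import Groth.Statements.S16130
import Groth.Agent.AlgGrp2.OrbitDim
import Groth.Agent.GrpschAbsch.GrpDim
import Groth.Agent.FibreDim.Composition
import Groth.Agent.AlgGrp1.GenericFlat
import Groth.Agent.AlgGrp1.SmoothReduced
import Groth.Agent.Agf.Quot
import Groth.Agent.VarietyBC.Dim
import Groth.Agent.Flatmor4.ImageDom
import Mathlib.AlgebraicGeometry.AlgClosed.Basic
-- import your own Groth.Agent.* helpers here

set_option autoImplicit false
universe u
open CategoryTheory MonoidalCategory CartesianMonoidalCategory MonObj GrpObj AlgebraicGeometry CategoryTheory.Limits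
open AlgGrp

namespace Groth.Agent.S16130


/-- Homeomorphisms of schemes preserve coheights. -/
lemma coheight_eq_of_homeomorph {A B : Scheme.{u}} (e : A ≃ₜ B) (a : A) :
    Order.coheight (e a) = Order.coheight a := by
  refine Order.coheight_orderIso ({ toEquiv := e.toEquiv, map_rel_iff' := ?_ } : A ≃o B) a
  intro x y
  show e y ⤳ e x ↔ y ⤳ x
  exact e.isEmbedding.toIsInducing.specializes_iff

/-- Over an algebraically closed field k, let G be an algebraic group (a smooth k-group scheme of finite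
type, not necessarily connected) acting on a variety X (a reduced separated k-scheme of finite
type), and let x be a k-point of X with orbit map α_x : G → X. Then dim G = dim(G · x) + dim(G_x),
where G · x is the image of α_x with its subspace topology and G_x is the stabilizer, the fibre of
α_x over x; all dimensions are Krull dimensions of topological spaces. (The published statement also
asserts that the irreducible components of G · x are precisely the G⁰-orbits it contains, all of
that dimension; that clause is not stated here.) -/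
theorem result (k : Type u) [Field k] [IsAlgClosed k]
    (G X : Over (Spec (CommRingCat.of k))) [GrpObj G] [Smooth G.hom] [QuasiCompact G.hom]
    [IsReduced X.left] [IsSeparated X.hom] [LocallyOfFiniteType X.hom] [QuasiCompact X.hom]
    (a : AlgGrp.Action G X) (x : 𝟙_ (Over (Spec (CommRingCat.of k))) ⟶ X) :
    topologicalKrullDim ↥G.left =
      topologicalKrullDim ↥(Set.range (a.orbitMap x).left.base) +
        topologicalKrullDim ↥(Limits.pullback (a.orbitMap x).left x.left) := by
  let f := (a.orbitMap x).left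
  have : CompactSpace G.left := QuasiCompact.compactSpace_of_compactSpace G.hom
  have : CompactSpace X.left := QuasiCompact.compactSpace_of_compactSpace X.hom
  have : IsReduced G.left := Groth.AlgGrp1.isReduced_of_smooth G.hom
  have := LocallyOfFiniteType.isLocallyNoetherian G.hom
  have := LocallyOfFiniteType.isLocallyNoetherian X.hom
  have : AlgebraicGeometry.IsNoetherian X.left := ⟨⟩
  have : AlgebraicGeometry.IsNoetherian G.left := ⟨⟩
  have : LocallyOfFiniteType f := by
    have : LocallyOfFiniteType (f ≫ X.hom) := by rw [Over.w]; infer_instance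
    exact locallyOfFiniteType_of_comp f X.hom
  have : QuasiCompact f := inferInstance
  let Z := f.image
  let o := f.toImage
  have hoi : o ≫ f.imageι = f := f.toImage_imageι
  have : IsSchemeTheoreticallyDominant o := Groth.Flatmor4.isSchemeTheoreticallyDominant_toImage f
  have : IsReduced Z := IsSchemeTheoreticallyDominant.isReduced o
  let zh : Z ⟶ Spec (CommRingCat.of k) := f.imageι ≫ X.hom
  have : LocallyOfFiniteType zh := inferInstanceAs (LocallyOfFiniteType (_ ≫ _))
  have := LocallyOfFiniteType.isLocallyNoetherian zh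
  have : CompactSpace Z := f.imageι.isClosedEmbedding.compactSpace
  have : AlgebraicGeometry.IsNoetherian Z := ⟨⟩
  have : Nonempty G.left := ⟨η[G].left (IsLocalRing.closedPoint k)⟩
  have : Nonempty Z := ⟨o (Classical.arbitrary _)⟩
  have : LocallyOfFiniteType o := by
    have : LocallyOfFiniteType (o ≫ f.imageι) := by rw [hoi]; infer_instance
    exact locallyOfFiniteType_of_comp o f.imageι
  have : QuasiCompact o := inferInstance
  obtain ⟨ξ₀, hz₀max, hz₀dim⟩ : ∃ ξ₀ : Z, IsMax ξ₀ ∧ ∀ z : Z, Order.height z ≤ Order.height ξ₀ := by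
    obtain ⟨N, hN⟩ := Groth.AlgGrp2.exists_height_le zh
    classical
    have hb : ∃ n : ℕ, ∀ z : Z, Order.height z ≤ (n : ℕ∞) := ⟨N, hN⟩
    by_cases h0 : Nat.find hb = 0
    · obtain ⟨ξ, -, hξ⟩ := Groth.GrpschAbsch.exists_isMax_ge (Classical.arbitrary Z)
      refine ⟨ξ, hξ, fun z => (Nat.find_spec hb z).trans ?_⟩
      rw [h0]; exact zero_le
    · obtain ⟨m, hm⟩ := Nat.exists_eq_succ_of_ne_zero h0
      have hmin := Nat.find_min hb (m := m) (by omega)
      push_neg at hmin
      obtain ⟨z, hz⟩ := hmin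
      obtain ⟨ξ, hzξ, hξ⟩ := Groth.GrpschAbsch.exists_isMax_ge z
      refine ⟨ξ, hξ, fun w => (Nat.find_spec hb w).trans ?_⟩
      rw [hm]
      push_cast
      exact (Order.add_one_le_of_lt hz).trans (Order.height_mono hzξ)
  -- an open set inside the component of `ξ₀` over which `o` is flat
  have hZ' : closure {ξ₀} ∈ irreducibleComponents Z := Groth.GrpschAbsch.closure_mem_irreducibleComponents hz₀max
  have hfin : (irreducibleComponents Z).Finite := TopologicalSpace.NoetherianSpace.finite_irreducibleComponents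
  let W : Z.Opens := ⟨(⋃ C ∈ irreducibleComponents Z \ {closure {ξ₀}}, C)ᶜ,
    (hfin.sdiff.isClosed_biUnion fun C hC => isClosed_of_mem_irreducibleComponents C hC.1).isOpen_compl⟩
  have hz₀W : ξ₀ ∈ W := by
    intro h
    simp only [Set.mem_iUnion] at h
    obtain ⟨C, hC, hz₀C⟩ := h
    exact hC.2 (subset_antisymm (hZ'.2 hC.1.1
      (closure_minimal (Set.singleton_subset_iff.2 hz₀C) (isClosed_of_mem_irreducibleComponents C hC.1)))
      (closure_minimal (Set.singleton_subset_iff.2 hz₀C) (isClosed_of_mem_irreducibleComponents C hC.1)))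
  have hWξ₀ : ∀ z ∈ W, ξ₀ ⤳ z := by
    intro z hz
    rw [specializes_iff_mem_closure]
    by_contra h
    refine hz ?_
    simp only [Set.mem_iUnion]
    exact ⟨irreducibleComponent z, ⟨irreducibleComponent_mem_irreducibleComponents z,
      fun e => h (e ▸ mem_irreducibleComponent)⟩, mem_irreducibleComponent⟩
  have : Nonempty W := ⟨⟨ξ₀, hz₀W⟩⟩
  have : AlgebraicGeometry.IsNoetherian W.toScheme :=
    have : CompactSpace W.toScheme := isCompact_iff_compactSpace.mp (TopologicalSpace.NoetherianSpace.isCompact _)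
    ⟨⟩
  have : IsReduced W.toScheme := isReduced_of_isOpenImmersion W.ι
  have : LocallyOfFiniteType (o ∣_ W) := IsZariskiLocalAtTarget.restrict ‹LocallyOfFiniteType o› W
  have : QuasiCompact (o ∣_ W) := IsZariskiLocalAtTarget.restrict ‹QuasiCompact o› W
  obtain ⟨V, hVne, hVflat⟩ := Groth.AlgGrp1.exists_flat_restrict (o ∣_ W)
  have := LocallyOfFiniteType.jacobsonSpace zh
  let r := (o ∣_ W) ∣_ V
  have := hVflat
  have : LocallyOfFiniteType r := IsZariskiLocalAtTarget.restrict ‹LocallyOfFiniteType (o ∣_ W)› V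
  have : IsLocallyNoetherian V.toScheme := inferInstance
  have : LocallyOfFinitePresentation r := inferInstance
  have hri : r ≫ V.ι ≫ W.ι = ((o ∣_ W) ⁻¹ᵁ V).ι ≫ (o ⁻¹ᵁ W).ι ≫ o := by
    rw [morphismRestrict_ι_assoc, morphismRestrict_ι]
  have hrne : (Set.range r.base).Nonempty := by
    obtain ⟨v, hv⟩ := hVne
    obtain ⟨g, hg⟩ := o.denseRange.exists_mem_open (W.ι.isOpenEmbedding.isOpenMap _ V.2) ⟨_, v, hv, rfl⟩
    obtain ⟨v', hv', hvg⟩ := hg
    let g₁ : (o ⁻¹ᵁ W).toScheme := ⟨g, by show o g ∈ W; rw [← hvg]; exact v'.2⟩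
    have hg₁ : (o ∣_ W) g₁ = v' := by
      apply W.ι.isOpenEmbedding.injective
      rw [← Scheme.Hom.comp_apply, morphismRestrict_ι]
      exact hvg.symm
    exact ⟨_, ⟨g₁, by show (o ∣_ W) g₁ ∈ V; rw [hg₁]; exact hv'⟩, rfl⟩
  obtain ⟨y, ⟨⟨v₀, ⟨g₀', rfl⟩, rfl⟩, hyc⟩⟩ := nonempty_inter_closedPoints
    (Z := (V.ι ≫ W.ι) '' Set.range r.base) (hrne.image _)
    ((V.ι ≫ W.ι).isOpenEmbedding.isOpenMap _ r.isOpenMap.isOpen_range).isLocallyClosed
  let y' : W.toScheme := V.ι (r g₀')
  have hy' : y' ∈ V := (r g₀').2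
  have hflat : ∀ g : G.left, o g = W.ι y' → (o.stalkMap g).hom.Flat := by
    intro g hg
    have hgW : g ∈ o ⁻¹ᵁ W := by show o g ∈ W; rw [hg]; exact y'.2
    let g₁ : (o ⁻¹ᵁ W).toScheme := ⟨g, hgW⟩
    have hg₁ : (o ∣_ W) g₁ = y' := by
      apply W.ι.isOpenEmbedding.injective
      rw [← Scheme.Hom.comp_apply, morphismRestrict_ι]
      exact hg
    let g₂ : ((o ∣_ W) ⁻¹ᵁ V).toScheme := ⟨g₁, by show (o ∣_ W) g₁ ∈ V; rw [hg₁]; exact hy'⟩
    have h1 : ((o ∣_ W ∣_ V).stalkMap g₂).hom.Flat := Flat.stalkMap _ g₂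
    have h2 := ((RingHom.Flat.respectsIso.arrow_mk_iso_iff (morphismRestrictStalkMap (o ∣_ W) V g₂)).1 h1)
    exact (RingHom.Flat.respectsIso.arrow_mk_iso_iff (morphismRestrictStalkMap o W g₁)).1 h2
  have := LocallyOfFiniteType.jacobsonSpace G.hom
  obtain ⟨g₀, hg₀, hg₀c⟩ : (o ⁻¹' {W.ι y'} ∩ closedPoints G.left).Nonempty := by
    have hsurj : (o ⁻¹' {W.ι y'}).Nonempty :=
      ⟨((o ⁻¹ᵁ W).ι (((o ∣_ W) ⁻¹ᵁ V).ι g₀')), (congr(($hri) g₀')).symm⟩
    exact nonempty_inter_closedPoints hsurj
      ((mem_closedPoints_iff.1 hyc).preimage o.continuous).isLocallyClosed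
  -- heights
  have hz₀r : ∃ g, o g = ξ₀ := by
    obtain ⟨g, -, hg⟩ := Groth.FibreDim.generalizing_of_flat_stalkMap o g₀ (hflat g₀ hg₀) g₀ specializes_rfl ξ₀
      (by rw [show o.base g₀ = W.ι y' from hg₀]; exact hWξ₀ _ y'.2)
    exact ⟨g, hg⟩
  have hdimZ : topologicalKrullDim Z = ((Order.height ξ₀ : ℕ∞) : WithBot ℕ∞) := by
    rw [Groth.Variety2.Dim.dim_eq_iSup_height]
    exact le_antisymm (iSup_le fun z => WithBot.coe_le_coe.2 (hz₀dim z))
      (le_iSup (fun z : Z => ((Order.height z : ℕ∞) : WithBot ℕ∞)) ξ₀)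
  have hrange : topologicalKrullDim ↥(Set.range (a.orbitMap x).left.base) =
      topologicalKrullDim Z := by
    refine le_antisymm ?_ ?_
    · have hsub : Set.range f.base ⊆ Set.range f.imageι.base := by
        rintro _ ⟨g, rfl⟩
        exact ⟨o g, by rw [← Scheme.Hom.comp_apply, hoi]⟩
      exact ((Topology.IsEmbedding.inclusion hsub).toIsInducing.topologicalKrullDim_le).trans
        (le_of_eq (f.imageι.isEmbedding.toHomeomorph.isHomeomorph.topologicalKrullDim_eq).symm)
    · rw [hdimZ, Groth.AlgGrp2.dim_locallyClosed X.hom (Groth.AlgGrp1.isLocallyClosed_range_orbitMap a x),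
        ← Groth.Variety2.Dim.height_eq_of_isPreimmersion (f := zh) X.hom f.imageι rfl ξ₀]
      obtain ⟨g, hg⟩ := hz₀r
      exact le_iSup₂ (f := fun z (_ : z ∈ Set.range f.base) => ((Order.height z : ℕ∞) : WithBot ℕ∞))
        (f.imageι ξ₀) ⟨g, by rw [← hg, ← Scheme.Hom.comp_apply, hoi]⟩
  have hcoh : ringKrullDim (Z.presheaf.stalk (W.ι y')) = ((Order.height ξ₀ : ℕ∞) : WithBot ℕ∞) := by
    refine le_antisymm ?_ ?_
    · rw [ringKrullDim_stalk_eq_coheight, ← hdimZ]
      let := specializationOrder (X := Z)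
      rw [topologicalKrullDim, Order.krullDim_eq_of_orderIso irreducibleSetEquivPoints]
      exact Order.coheight_le_krullDim _
    · let : Z.Over (Spec (CommRingCat.of k)) := ⟨zh⟩
      have : LocallyOfFiniteType (Z ↘ Spec (CommRingCat.of k)) := ‹LocallyOfFiniteType zh›
      have h := Groth.VarietyBC.height_le_add_coheight k (X := Z)
        (Scheme.le_iff_specializes.2 (hWξ₀ (W.ι y') y'.2))
      rw [(Groth.Variety2.Dim.height_eq_zero_iff (W.ι y')).2 (mem_closedPoints_iff.1 hyc), zero_add] at h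
      rw [ringKrullDim_stalk_eq_coheight]
      exact WithBot.coe_le_coe.2 h
  -- translation of the stabiliser onto the fibre
  let t : 𝟙_ (Over (Spec (CommRingCat.of k))) ⟶ G :=
    Over.homMk (pointOfClosedPoint G.hom g₀ hg₀c) (pointOfClosedPoint_comp G.hom g₀ hg₀c)
  let φ : G ≅ G :=
    { hom := (toUnit G ≫ t) * 𝟙 G
      inv := (toUnit G ≫ t)⁻¹ * 𝟙 G
      hom_inv_id := by
        simp [MonObj.comp_mul, GrpObj.comp_inv, ← Category.assoc, toUnit_unique (_ ≫ toUnit G) (toUnit G)]
      inv_hom_id := by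
        simp [MonObj.comp_mul, ← Category.assoc, toUnit_unique (_ ≫ toUnit G) (toUnit G)] }
  let act : X ⟶ X := lift (toUnit X ≫ t) (𝟙 X) ≫ a.act
  have hcomm : φ.hom ≫ a.orbitMap x = a.orbitMap x ≫ act := by
    simp only [φ, act, comp_lift_assoc, Category.comp_id, Groth.Agf.comp_orbitMap, Groth.Agf.lift_mul_act]
    rw [← Category.assoc, toUnit_unique (a.orbitMap x ≫ toUnit X) (toUnit G), ← Groth.Agf.comp_orbitMap,
      Category.id_comp]
  let act' : X ⟶ X := lift (toUnit X ≫ t⁻¹) (𝟙 X) ≫ a.act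
  have hact : act ≫ act' = 𝟙 X := by
    simp only [act, act', comp_lift_assoc, Category.comp_id]
    rw [← Category.assoc, toUnit_unique (_ ≫ toUnit X) (toUnit X), ← Groth.Agf.lift_mul_act,
      ← MonObj.comp_mul, inv_mul_cancel, MonObj.comp_one, Groth.Agf.lift_one_act]
  let pt := IsLocalRing.closedPoint k
  have hy : (lift t x ≫ a.act).left pt = f.imageι (W.ι y') := by
    have h1 : t ≫ a.orbitMap x = lift t x ≫ a.act := by
      rw [Groth.Agf.comp_orbitMap, toUnit_unit, Category.id_comp]
    rw [← h1, ← hg₀, ← Scheme.Hom.comp_apply, hoi, Over.comp_left, Scheme.Hom.comp_apply]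
    exact congrArg f (pointOfClosedPoint_apply G.hom g₀ hg₀c pt)
  have hax : act.left (x.left pt) = f.imageι (W.ι y') := by
    rw [← hy, ← Scheme.Hom.comp_apply, ← Over.comp_left]
    congr 1
    simp [act, comp_lift_assoc, toUnit_unique (x ≫ toUnit X) (𝟙 _)]
  have hfib : ∀ z : G.left, f z = x.left pt ↔ o (φ.hom.left z) = W.ι y' := by
    intro z
    rw [← f.imageι.isEmbedding.injective.eq_iff, ← Scheme.Hom.comp_apply, hoi, ← hax]
    have h1 : f (φ.hom.left z) = act.left (f z) := congr(($hcomm).left z)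
    rw [h1]
    refine ⟨fun h => congrArg _ h, fun h => ?_⟩
    have h2 : ∀ w : X.left, act'.left (act.left w) = w := fun w => congr(($hact).left w)
    rw [← h2 (f z), h, h2]
  let Gx := Limits.pullback f x.left
  have : IsClosedImmersion x.left :=
    have : IsClosedImmersion (x.left ≫ X.hom) := by
      rw [Over.w x]; exact (inferInstance : IsClosedImmersion (𝟙 (Spec (CommRingCat.of k))))
    IsClosedImmersion.of_comp x.left X.hom
  have : IsIso φ.hom.left := ((Over.forget _).mapIso φ).isIso_hom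
  let j : Gx ⟶ G.left := Limits.pullback.fst f x.left ≫ φ.hom.left
  have hjr : Set.range j = o ⁻¹' {W.ι y'} := by
    show Set.range (φ.hom.left ∘ Limits.pullback.fst f x.left) = _
    rw [Set.range_comp, Scheme.Pullback.range_fst]
    ext w
    constructor
    · rintro ⟨z, ⟨t', ht'⟩, rfl⟩
      rw [Subsingleton.elim (α := PrimeSpectrum k) t' pt] at ht'
      exact (hfib z).1 ht'.symm
    · intro hw
      have hz : φ.hom.left (φ.inv.left w) = w := congr(($(φ.inv_hom_id)).left w)
      exact ⟨φ.inv.left w, ⟨pt, ((hfib _).2 (by rw [hz]; exact hw)).symm⟩, hz⟩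
  let e : Gx ≃ₜ o.fiber (W.ι y') := j.isEmbedding.toHomeomorph.trans
    ((Homeomorph.setCongr hjr).trans (o.fiberHomeo (W.ι y')).symm)
  have hej : ∀ z, o.fiberι (W.ι y') (e z) = j z := fun z => by
    rw [← o.fiberHomeo_apply]
    simp only [e, Homeomorph.trans_apply]
    erw [Homeomorph.apply_symm_apply]
    rfl
  have hkey : ∀ z : Gx, IsClosed ({z} : Set Gx) → topologicalKrullDim G.left =
      ((Order.height ξ₀ : ℕ∞) : WithBot ℕ∞) + ((Order.coheight z : ℕ∞) : WithBot ℕ∞) := by
    intro z hz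
    have hgc : IsClosed ({j z} : Set G.left) := by
      simpa using (j.isClosedEmbedding.isClosedMap _ hz)
    have hoy : o (j z) = W.ι y' := hjr.le ⟨z, rfl⟩
    have hadd := Groth.FibreDim.ringKrullDim_stalk_eq_add_of_generalizing o (j z)
      (Groth.FibreDim.generalizing_of_flat_stalkMap o (j z) (hflat _ hoy))
    rw [Groth.GrpschAbsch.ringKrullDim_stalk_closedPoint G hgc] at hadd
    rw [hadd]
    congr 1
    · rw [← hcoh, hoy]
    · rw [ringKrullDim_stalk_eq_coheight, ← coheight_eq_of_homeomorph e z]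
      congr 1
      have : ∀ (y₁ : Z) (_ : y₁ = W.ι y') (u : o.fiber y₁) (v : o.fiber (W.ι y')),
          o.fiberι y₁ u = o.fiberι (W.ι y') v → Order.coheight u = Order.coheight v := by
        intro y₁ h1 u v huv
        subst h1
        rw [(o.fiberι _).isEmbedding.injective huv]
      exact this _ hoy _ _ (by rw [o.fiberι_asFiber, hej])
  have hGx : topologicalKrullDim Gx = ⨆ z : Gx, ((Order.coheight z : ℕ∞) : WithBot ℕ∞) := by
    let := specializationOrder (X := Gx)
    rw [topologicalKrullDim, Order.krullDim_eq_of_orderIso irreducibleSetEquivPoints,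
      Order.krullDim_eq_iSup_coheight]
  have : LocallyOfFiniteType (Limits.pullback.fst f x.left ≫ G.hom) := inferInstance
  have := LocallyOfFiniteType.jacobsonSpace (Limits.pullback.fst f x.left ≫ G.hom)
  have hclosed : ∀ w : Gx, ∃ z : Gx, IsClosed ({z} : Set Gx) ∧ Order.coheight w ≤ Order.coheight z := by
    intro w
    obtain ⟨z, hz, hzc⟩ := nonempty_inter_closedPoints
      (⟨w, subset_closure rfl⟩ : (closure ({w} : Set Gx)).Nonempty) isClosed_closure.isLocallyClosed
    exact ⟨z, hzc, Order.coheight_anti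
      (Scheme.le_iff_specializes.2 (specializes_iff_mem_closure.2 hz))⟩
  have : Nonempty Gx := by
    obtain ⟨z, hz⟩ := hjr.ge (show g₀ ∈ o ⁻¹' {W.ι y'} from hg₀)
    exact ⟨z⟩
  obtain ⟨z₁, hz₁, -⟩ := hclosed (Classical.arbitrary _)
  rw [hrange, hdimZ, hkey z₁ hz₁, hGx]
  congr 1
  refine le_antisymm (le_iSup (fun z : Gx => ((Order.coheight z : ℕ∞) : WithBot ℕ∞)) z₁) (iSup_le fun w => ?_)
  obtain ⟨z, hz, hwz⟩ := hclosed w
  have h := (hkey z hz).symm.trans (hkey z₁ hz₁)
  rw [← WithBot.coe_add, ← WithBot.coe_add, WithBot.coe_inj] at h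
  exact WithBot.coe_le_coe.2 (hwz.trans
    (WithTop.add_left_cancel (Groth.Variety2.Dim.height_ne_top zh ξ₀) h).le)

end Groth.Agent.S16130
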