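import Groth.Statements.S11244
import Groth.Agent.S16130
import Groth.Agent.EqStab.StabDim
import Groth.Agent.AlgGrp2.OrbitDim

set_option autoImplicit false
universe u
open CategoryTheory MonoidalCategory CartesianMonoidalCategory MonObj GrpObj AlgebraicGeometry
open scoped TensorProduct
open AGF

namespace Groth.Agent.S11244

variable {k : Type u} [Field k] {G X : Over (Spec (CommRingCat.of k))} [GrpObj G]

/-- The stabiliser of a rational point is the fibre of its orbit map. -/
noncomputable def stabOrbitIso (a : AlgGrp.Action G X) (x : 𝟙_ (Over (Spec (CommRingCat.of k))) ⟶ X) :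
    GLinSh.stab a x ≅ Limits.pullback (a.orbitMap x).left x.left := by
  have h1 : GIT.psi a x ≫ (ρ_ X).hom = (ρ_ G).hom ≫ a.orbitMap x := by
    rw [rightUnitor_hom, rightUnitor_hom, GIT.psi, lift_fst, AlgGrp.Action.orbitMap, ← Category.assoc]
    congr 1
    apply CartesianMonoidalCategory.hom_ext
    · simp
    · simp only [lift_snd, whiskerLeft_snd, comp_lift, Category.comp_id, ← Category.assoc]
      exact congrArg (· ≫ x) (toUnit_unique _ _)
  have h2 : lift x (𝟙 _) ≫ (ρ_ X).hom = x := by rw [rightUnitor_hom, lift_fst]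
  haveI : IsIso (ρ_ G).hom.left := ((Over.forget _).mapIso (ρ_ G)).isIso_hom
  haveI : IsIso (ρ_ X).hom.left := ((Over.forget _).mapIso (ρ_ X)).isIso_hom
  refine @asIso _ _ _ _ (Limits.pullback.map (GIT.psi a x).left (lift x (𝟙 _)).left (a.orbitMap x).left x.left
    (ρ_ G).hom.left (𝟙 _) (ρ_ X).hom.left (by rw [← Over.comp_left, ← Over.comp_left, h1])
    (by rw [← Over.comp_left, h2, Category.id_comp])) ?_
  exact @Limits.pullback.map_isIso _ _ _ _ _ _ _ _ _ _ _ _ _ _ _ _ _ _ _ ‹_› inferInstance ‹_›

/-- An orbit and its closure have the same dimension. -/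
theorem dim_closure_eq {X : Scheme.{u}} (f : X ⟶ Spec (CommRingCat.of k)) [LocallyOfFiniteType f]
    [CompactSpace X] {S : Set X} (hS : IsLocallyClosed S) (hne : S.Nonempty) :
    topologicalKrullDim (closure S) = topologicalKrullDim S := by
  have hlt := Groth.AlgGrp2.dim_boundary_lt f hS hne
  obtain ⟨U, Z, hU, hZ, hUZ⟩ := hS
  have hB : IsClosed (closure S \ S) := by
    have : closure S \ S = closure S ∩ Uᶜ := by
      ext z
      refine ⟨fun h => ⟨h.1, fun hz => h.2 ?_⟩, fun h => ⟨h.1, fun hz => h.2 ?_⟩⟩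
      · rw [hUZ]
        exact ⟨hz, closure_minimal (hUZ ▸ Set.inter_subset_right) hZ h.1⟩
      · exact (hUZ ▸ hz : z ∈ U ∩ Z).1
    rw [this]
    exact isClosed_closure.inter hU.isClosed_compl
  have hS' : IsLocallyClosed S := ⟨U, Z, hU, hZ, hUZ⟩
  rw [Groth.AlgGrp2.dim_locallyClosed f hS'] at hlt ⊢
  rw [Groth.AlgGrp2.dim_locallyClosed f hB.isLocallyClosed] at hlt
  rw [Groth.AlgGrp2.dim_locallyClosed f isClosed_closure.isLocallyClosed]
  refine le_antisymm (iSup₂_le fun z hz => ?_) (biSup_mono fun z hz => subset_closure hz)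
  by_cases hzS : z ∈ S
  · exact le_iSup₂ (f := fun z (_ : z ∈ S) => ((Order.height z : ℕ∞) : WithBot ℕ∞)) z hzS
  · exact le_trans (le_iSup₂ (f := fun z (_ : z ∈ closure S \ S) => ((Order.height z : ℕ∞) : WithBot ℕ∞))
      z ⟨hz, hzS⟩) hlt.le

theorem exists_nat_of_le {v : WithBot ℕ∞} {N : ℕ} (h0 : 0 ≤ v) (h : v ≤ (N : WithBot ℕ∞)) :
    ∃ g : ℕ, v = (g : WithBot ℕ∞) := by
  induction v using WithBot.recBotCoe with
  | bot => simp at h0
  | coe w => ?_
  obtain ⟨g, rfl⟩ := ENat.ne_top_iff_exists.1 (ne_top_of_le_ne_top (ENat.natCast_ne_top N) (WithBot.coe_le_coe.1 h))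
  exact ⟨g, rfl⟩

theorem dim_nonneg (T : Type u) [TopologicalSpace T] [hT : Nonempty T] : 0 ≤ topologicalKrullDim T := by
  obtain ⟨t⟩ := hT
  have : Nonempty (TopologicalSpace.IrreducibleCloseds T) :=
    ⟨⟨closure {t}, isIrreducible_singleton.closure, isClosed_closure⟩⟩
  exact Order.krullDim_nonneg

theorem dim_iff {o s : WithBot ℕ∞} {g r : ℕ} (ho : 0 ≤ o) (hs : 0 ≤ s) (h : (g : WithBot ℕ∞) = o + s) :
    o ≤ (r : WithBot ℕ∞) ↔ ((g - r : ℕ) : WithBot ℕ∞) ≤ s := by
  obtain ⟨o', rfl⟩ := exists_nat_of_le ho ((le_add_of_nonneg_right hs).trans h.ge)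
  obtain ⟨s', rfl⟩ := exists_nat_of_le hs ((le_add_of_nonneg_left ho).trans h.ge)
  rw [← Nat.cast_add, Nat.cast_inj] at h
  rw [Nat.cast_le, Nat.cast_le]
  omega

/-- Let k be an algebraically closed field, G a linear algebraic group over k (affine, smooth) acting on
an irreducible variety X over k (reduced, separated, of finite type). For a rational point x of X
let dim G·x be the dimension of the closure of its orbit. Then for every r the set of rational
points x with dim G·x ≤ r is closed: there is a closed subset Z of X whose rational points are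
exactly those x. (The second assertion, that the points of maximal orbit dimension form a dense open
subset, follows.) -/
theorem result (k : Type u) [Field k] [IsAlgClosed k]
    (G : Over (Spec (CommRingCat.of k))) [GrpObj G] [IsAffine G.left] [Smooth G.hom]
    (X : Over (Spec (CommRingCat.of k))) [IrreducibleSpace ↥X.left] [IsReduced X.left]
    [IsSeparated X.hom] [LocallyOfFiniteType X.hom] [QuasiCompact X.hom]
    (a : AlgGrp.Action G X) (r : ℕ) :
    ∃ Z : Set ↥X.left, IsClosed Z ∧
      ∀ x : 𝟙_ (Over (Spec (CommRingCat.of k))) ⟶ X,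
        topologicalKrullDim ↥(closure (Set.range ⇑(a.orbitMap x).left.base)) ≤ (r : WithBot ℕ∞) ↔
          Set.range ⇑x.left.base ⊆ Z := by
  have : CompactSpace X.left := QuasiCompact.compactSpace_of_compactSpace X.hom
  have : LocallyOfFiniteType G.hom := inferInstance
  have : CompactSpace G.left := inferInstance
  have : QuasiCompact G.hom := inferInstance
  obtain ⟨N, hN⟩ := Groth.AlgGrp2.exists_height_le G.hom
  have hg : topologicalKrullDim G.left ≤ (N : WithBot ℕ∞) := by
    rw [Groth.Variety2.Dim.dim_eq_iSup_height]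
    exact iSup_le fun y => WithBot.coe_le_coe.2 (hN y)
  have hne : Nonempty G.left := ⟨η[G].left (IsLocalRing.closedPoint k)⟩
  obtain ⟨g, hg'⟩ : ∃ g : ℕ, topologicalKrullDim G.left = (g : WithBot ℕ∞) :=
    exists_nat_of_le (dim_nonneg G.left) hg
  refine ⟨{p | ((g - r : ℕ) : WithBot ℕ∞) ≤ topologicalKrullDim (GLinSh.stab a (Over.homMk
    (X.left.fromSpecResidueField p) rfl : Over.mk (X.left.fromSpecResidueField p ≫ X.hom) ⟶ X))},
    Groth.EqStab.isClosed_le_dim_stab a _, fun x => ?_⟩
  let p := x.left (IsLocalRing.closedPoint k)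
  have hx : x.left ≫ X.hom = 𝟙 _ := Over.w x
  have hrange : Set.range x.left.base = {p} := by
    ext z
    constructor
    · rintro ⟨t, rfl⟩
      exact congrArg x.left.base (Subsingleton.elim (α := ↥(Spec (CommRingCat.of k))) t _)
    · rintro rfl; exact ⟨_, rfl⟩
  rw [hrange, Set.singleton_subset_iff, Set.mem_ofPred_eq]
  have hp : IsClosed {p} := ((pointEquivClosedPoint X.hom) ⟨x.left, hx⟩).2
  have hpx : pointOfClosedPoint X.hom p hp = x.left := by
    refine ext_of_apply_closedPoint_eq X.hom (pointOfClosedPoint_comp X.hom p hp) hx ?_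
    rw [pointOfClosedPoint_apply]
  let e := Limits.pullback.map (Groth.EqStab.stabProj a) x.left (Groth.EqStab.stabProj a)
    (X.left.fromSpecResidueField p) (𝟙 _) (Spec.map (residueFieldIsoBase X.hom p hp).hom) (𝟙 _) (by simp)
    (by rw [Category.comp_id, ← hpx]; rfl)
  have hstab : topologicalKrullDim (GLinSh.stab a (Over.homMk (X.left.fromSpecResidueField p) rfl :
      Over.mk (X.left.fromSpecResidueField p ≫ X.hom) ⟶ X)) =
        topologicalKrullDim ↥(Limits.pullback (a.orbitMap x).left x.left) :=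
    IsHomeomorph.topologicalKrullDim_eq _ (Scheme.homeoOfIso
      (Groth.EqStab.stabIso a _ ≪≫ (asIso e).symm ≪≫ (Groth.EqStab.stabIso a x).symm ≪≫
        stabOrbitIso a x)).isHomeomorph
  have hform := Groth.Agent.S16130.result k G X a x
  rw [hg'] at hform
  have hOne : (Set.range (a.orbitMap x).left.base).Nonempty :=
    ⟨_, η[G].left (IsLocalRing.closedPoint k), rfl⟩
  rw [dim_closure_eq X.hom (Groth.AlgGrp1.isLocallyClosed_range_orbitMap a x) hOne, hstab]
  have : Nonempty (Set.range (a.orbitMap x).left.base) := hOne.to_subtype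
  have : Nonempty ↥(Limits.pullback (a.orbitMap x).left x.left) := by
    obtain ⟨z, hz⟩ := Scheme.Pullback.exists_preimage_pullback (f := (a.orbitMap x).left) (g := x.left)
      (η[G].left (IsLocalRing.closedPoint k)) (IsLocalRing.closedPoint k) (by
        rw [← Scheme.Hom.comp_apply, ← Over.comp_left]
        congr 2
        rw [AlgGrp.Action.orbitMap, ← Category.assoc, comp_lift, Category.comp_id, ← Category.assoc,
          toUnit_unique (η[G] ≫ toUnit G) (𝟙 _), Category.id_comp]
        exact a.lift_one_act x |>.symm ▸ rfl)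
    exact ⟨z⟩
  exact dim_iff (dim_nonneg _) (dim_nonneg _) hform

end Groth.Agent.S11244
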