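import Groth.Statements.S11252
import Groth.Agent.Smt.Schubert

set_option autoImplicit false
universe u
open W4bk4grassmannian

namespace Groth.Agent.S11252

open W4bk4grassmannian in
/-- Standard monomial basis for a union of Schubert varieties: let K be an algebraically closed field, 0
< d < n, and I(d,n) the strictly increasing maps Fin d → Fin n ordered entrywise; S = K[X_θ : θ ∈
I(d,n)] is the Plücker polynomial ring and, for τ ∈ I(d,n), J(τ) ⊆ S is the ideal of polynomials
vanishing at the d × d row-minors of every n × d matrix over K whose minors on rows φ ≰ τ are zero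
(the homogeneous ideal of the Schubert variety X(τ) ⊆ G(d,n)). Let τ_1, …, τ_r ∈ I(d,n) and let J =
⋂_i J(τ_i) be the homogeneous ideal of the union ⋃_i X(τ_i). Then the classes in S/J of the
monomials X_{θ_1} ⋯ X_{θ_m} (m ≥ 0) along chains θ_1 ≥ ⋯ ≥ θ_m all of whose members lie below some
τ_i are linearly independent over K and span S/J. -/
theorem result (K : Type u) [Field K] [IsAlgClosed K] (d n : ℕ)
    (hd : 0 < d) (hdn : d < n) (r : ℕ) (τs : Fin r → Idx d n) :
    LinearIndependent K (fun c : (Σ m : ℕ, {c : Fin m → Idx d n // Antitone c ∧ ∃ i, ∀ k, c k ≤ τs i}) =>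
        Ideal.Quotient.mk (⨅ i, schubertVanishing K d n (τs i)) (chainMon K c.2.1)) ∧
      Submodule.span K (Set.range fun c : (Σ m : ℕ, {c : Fin m → Idx d n // Antitone c ∧ ∃ i, ∀ k, c k ≤ τs i}) =>
        Ideal.Quotient.mk (⨅ i, schubertVanishing K d n (τs i)) (chainMon K c.2.1)) = ⊤ := by
  classical
  let emb : (Σ m : ℕ, {c : Fin m → Idx d n // Antitone c ∧ ∃ i, ∀ k, c k ≤ τs i}) → Groth.Smt.Chain d n :=
    fun c => ⟨c.1, c.2.1, c.2.2.1⟩
  have hinj : Function.Injective emb := by
    rintro ⟨m, c, hc⟩ ⟨m', c', hc'⟩ h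
    simp only [emb, Sigma.mk.injEq] at h
    obtain ⟨rfl, h⟩ := h
    obtain rfl : c = c' := congrArg Subtype.val (eq_of_heq h)
    rfl
  constructor
  · rw [linearIndependent_iff]
    intro l hl
    ext c
    obtain ⟨i, hi⟩ := c.2.2.2
    rw [← Finsupp.mapDomain_apply hinj l c]
    refine Groth.Smt.coeff_eq_zero_of_mem K hd hdn.le (τ := τs i) (l.mapDomain emb) ?_ (C := emb c) hi
    refine Ideal.mem_iInf.1 (Ideal.Quotient.eq_zero_iff_mem.1
      (?_ : Ideal.Quotient.mk (⨅ i, schubertVanishing K d n (τs i)) _ = 0)) i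
    rw [← hl, Finsupp.linearCombination_apply, Finsupp.sum_mapDomain_index (h := fun C (c : K) => c • Groth.Smt.sm K C) (fun _ => zero_smul K _)
      (fun _ _ _ => add_smul _ _ _), ← Ideal.Quotient.mkₐ_eq_mk (R₁ := K), map_finsuppSum]
    refine Finsupp.sum_congr fun c _ => ?_
    rw [map_smul]
    rfl
  · refine Submodule.eq_top_iff'.2 fun x => ?_
    obtain ⟨f, rfl⟩ := Ideal.Quotient.mk_surjective x
    obtain ⟨l, hl⟩ := Groth.Smt.exists_expand K f
    have hmem : f - (l.sum fun C c => c • Groth.Smt.sm K C) ∈ ⨅ i, schubertVanishing K d n (τs i) :=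
      Ideal.mem_iInf.2 fun i => Groth.Smt.plIdealTop_le_schubertVanishing K (τs i) hl
    rw [Ideal.Quotient.eq.2 hmem, Finsupp.sum, map_sum]
    refine Submodule.sum_mem _ fun C _ => ?_
    rw [← Ideal.Quotient.mkₐ_eq_mk (R₁ := K), map_smul, Ideal.Quotient.mkₐ_eq_mk (R₁ := K)]
    refine Submodule.smul_mem _ _ ?_
    by_cases h : ∃ i, ∀ k, C.2.1 k ≤ τs i
    · exact Submodule.subset_span ⟨⟨C.1, C.2.1, C.2.2, h⟩, rfl⟩
    · rw [Ideal.Quotient.eq_zero_iff_mem.2 (Ideal.mem_iInf.2 fun i =>
        Groth.Smt.sm_mem_schubertVanishing K (fun hh => h ⟨i, hh⟩))]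
      exact zero_mem _

end Groth.Agent.S11252
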