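import Groth.Statements.S11253
import Groth.Agent.Smt.Schubert

set_option autoImplicit false
universe u
open W4bk4grassmannian

namespace Groth.Agent.S11253

open W4bk4grassmannian in
/-- Intersections of Schubert varieties are reduced: let K be an algebraically closed field, 0 < d < n,
and I(d,n) the strictly increasing maps Fin d → Fin n ordered entrywise; S = K[X_θ : θ ∈ I(d,n)] is
the Plücker polynomial ring and, for τ ∈ I(d,n), J(τ) ⊆ S is the ideal of polynomials vanishing at
the d × d row-minors of every n × d matrix over K whose minors on rows φ ≰ τ are zero (the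
homogeneous ideal of the Schubert variety X(τ) ⊆ G(d,n)). Then for all w₁, w₂ ∈ I(d,n) the ideal
J(w₁) + J(w₂) of S is radical. -/
theorem result (K : Type u) [Field K] [IsAlgClosed K] (d n : ℕ)
    (hd : 0 < d) (hdn : d < n) (w₁ w₂ : Idx d n) :
    (schubertVanishing K d n w₁ ⊔ schubertVanishing K d n w₂).IsRadical := by
  have h : schubertVanishing K d n w₁ ⊔ schubertVanishing K d n w₂ =
      schubertVanishing K d n (W4bk4grassmannian.inf w₁ w₂) := by
    refine le_antisymm (sup_le ?_ ?_) ?_
    · refine le_iInf fun A => le_iInf fun hA => iInf_le_of_le A (iInf_le_of_le ?_ le_rfl)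
      exact fun φ hφ => hA φ fun h => hφ ((Groth.Smt.le_idxInf_iff.1 h).1)
    · refine le_iInf fun A => le_iInf fun hA => iInf_le_of_le A (iInf_le_of_le ?_ le_rfl)
      exact fun φ hφ => hA φ fun h => hφ ((Groth.Smt.le_idxInf_iff.1 h).2)
    · rw [Groth.Smt.schubertVanishing_eq_plIdeal K hd hdn.le,
        Groth.Smt.schubertVanishing_eq_plIdeal K hd hdn.le,
        Groth.Smt.schubertVanishing_eq_plIdeal K hd hdn.le]
      refine Ideal.span_le.2 ?_
      rintro f (hf | ⟨φ, hφ, rfl⟩)
      · exact Submodule.mem_sup_left (Ideal.subset_span (Or.inl hf))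
      · by_cases h1 : φ ≤ w₁
        · exact Submodule.mem_sup_right (Ideal.subset_span
            (Or.inr ⟨φ, fun h2 => hφ (Groth.Smt.le_idxInf_iff.2 ⟨h1, h2⟩), rfl⟩))
        · exact Submodule.mem_sup_left (Ideal.subset_span (Or.inr ⟨φ, h1, rfl⟩))
  rw [h]
  exact (Groth.Smt.schubertVanishing_isPrime K hd hdn.le _).isRadical

end Groth.Agent.S11253
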