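import Groth.Statements.S11254
import Groth.Agent.Smt.Schubert

set_option autoImplicit false
universe u
open W4bk4grassmannian

namespace Groth.Agent.S11254

open W4bk4grassmannian in
/-- Let K be an algebraically closed field, 0 < d < n, and I(d,n) the strictly increasing maps Fin d →
Fin n ordered entrywise; S = K[X_θ : θ ∈ I(d,n)] is the Plücker polynomial ring and, for τ ∈ I(d,n),
J(τ) ⊆ S is the ideal of polynomials vanishing at the d × d row-minors of every n × d matrix over K
whose minors on rows φ ≰ τ are zero (the homogeneous ideal of the Schubert variety X(τ) ⊆ G(d,n)).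
Let τ ∈ I(d,n) admit some φ < τ (X(τ) has positive dimension). Then J(τ) + (X_τ) = ⋂_φ J(φ), the
intersection over the Schubert divisors φ of τ, i.e. the φ < τ with Σ_t (φ_t - t) + 1 = Σ_t (τ_t -
t). (For the zero-dimensional Schubert variety there is no divisor and the left side is the
irrelevant ideal, so positive dimension is required at the level of ideals.) -/
theorem result (K : Type u) [Field K] [IsAlgClosed K]
    (d n : ℕ) (hd : 0 < d) (hdn : d < n) (τ : Idx d n) (hτ : ∃ φ : Idx d n, φ < τ) :
    schubertVanishing K d n τ ⊔ Ideal.span {MvPolynomial.X τ} =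
      ⨅ φ ∈ divisors τ, schubertVanishing K d n φ := by
  classical
  apply le_antisymm
  · refine le_iInf fun φ => le_iInf fun hφ => sup_le ?_ ?_
    · refine le_iInf fun A => le_iInf fun hA => iInf_le_of_le A (iInf_le_of_le ?_ le_rfl)
      exact fun ψ hψ => hA ψ fun h => hψ (h.trans hφ.1.le)
    · rw [Ideal.span_le, Set.singleton_subset_iff]
      refine Groth.Smt.plIdeal_le_schubertVanishing K φ (Ideal.subset_span (Or.inr ⟨τ, ?_, rfl⟩))
      exact hφ.1.not_ge
  · intro f hf
    obtain ⟨l, hl⟩ := Groth.Smt.exists_expand K f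
    rw [Ideal.mem_iInf] at hf
    have h0 : ∀ (C : Groth.Smt.Chain d n), (∀ φ ∈ divisors τ, ¬ ∀ k, C.2.1 k ≤ φ) ∨ l C = 0 := by
      intro C
      by_cases hex : ∃ φ ∈ divisors τ, ∀ k, C.2.1 k ≤ φ
      · obtain ⟨φ, hφ, hC⟩ := hex
        exact Or.inr ((Groth.Smt.mem_schubertVanishing_iff K hd hdn.le hl).1
          (Ideal.mem_iInf.1 (hf φ) hφ) C hC)
      · exact Or.inl fun φ hφ hC => hex ⟨φ, hφ, hC⟩
    have hsum : (l.sum fun C c => c • Groth.Smt.sm K C) ∈
        schubertVanishing K d n τ ⊔ Ideal.span {MvPolynomial.X τ} := by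
      refine Submodule.sum_mem _ fun C hC => Submodule.smul_of_tower_mem _ _ ?_
      rw [Finsupp.mem_support_iff] at hC
      have hC0 := (h0 C).resolve_right hC
      by_cases hle : ∀ k, C.2.1 k ≤ τ
      · obtain ⟨m, c, hc⟩ := C
        rcases Nat.eq_zero_or_pos m with rfl | hm
        · obtain ⟨φ₀, hφ₀⟩ := hτ
          obtain ⟨φ, hφ, -⟩ := Groth.Smt.exists_divisor_ge hφ₀
          exact absurd (fun k => k.elim0) (hC0 φ hφ)
        · rcases lt_or_eq_of_le (hle ⟨0, hm⟩) with hlt | heq
          · obtain ⟨φ, hφ, hge⟩ := Groth.Smt.exists_divisor_ge hlt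
            exact absurd (fun k => (hc (Nat.zero_le _)).trans hge) (hC0 φ hφ)
          · refine Submodule.mem_sup_right ?_
            refine Ideal.span_mono ?_ (Groth.Smt.sm_mem_span_of_not K (P := fun θ => θ = τ) ⟨⟨0, hm⟩, heq⟩)
            rintro g ⟨θ, rfl, rfl⟩
            rfl
      · exact Submodule.mem_sup_left (Groth.Smt.sm_mem_schubertVanishing K hle)
    have h1 := Submodule.mem_sup_left (T := Ideal.span {(MvPolynomial.X τ : PlRing K d n)})
      (Groth.Smt.plIdealTop_le_schubertVanishing K τ hl)
    simpa using Ideal.add_mem _ h1 hsum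

end Groth.Agent.S11254
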