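import Groth.Statements.S1126
import Mathlib

set_option autoImplicit false
open CategoryTheory CategoryTheory.Limits AlgebraicGeometry Opposite
universe u
open Desc

namespace Groth.Agent.S1126

/-- If the base change of a morphism along a quasi-compact flat surjective morphism to its target is a
universal homeomorphism, then the morphism is a universal homeomorphism. (Stated for a single
quasi-compact flat surjective base change; combined with Zariski-locality on the target this gives
the fpqc-local form.) -/
theorem result :
    MorphismProperty.DescendsAlong (FlatMor.IsUnivHomeo.{u})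
      (@Surjective ⊓ @Flat ⊓ @QuasiCompact : MorphismProperty Scheme.{u}) := by
  have h : FlatMor.IsUnivHomeo.{u} =
      (@UniversallyClosed ⊓ @UniversallyInjective ⊓ @Surjective : MorphismProperty Scheme.{u}) := by
    ext X Y f
    constructor
    · intro hf
      refine ⟨⟨⟨?_⟩, ⟨?_⟩⟩, ⟨?_⟩⟩
      · exact fun _ _ g a b hsq => (hf g a b hsq).isClosedEmbedding.isClosedMap
      · exact fun _ _ g a b hsq => (hf g a b hsq).bijective.injective
      · exact (MorphismProperty.universally_le _ f hf : IsHomeomorph f.base).bijective.surjective
    · rintro ⟨⟨hc, hi⟩, hs⟩ A B g a b hsq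
      have h1 : UniversallyClosed b := MorphismProperty.of_isPullback hsq.flip hc
      have h2 : UniversallyInjective b := MorphismProperty.of_isPullback hsq.flip hi
      have h3 : Surjective b := MorphismProperty.of_isPullback hsq.flip hs
      exact isHomeomorph_iff_continuous_isClosedMap_bijective.mpr
        ⟨b.continuous, b.isClosedMap, b.injective, b.surjective⟩
  rw [h]
  exact ⟨fun hsq hg hf => ⟨⟨MorphismProperty.of_isPullback_of_descendsAlong hsq hg hf.1.1,
    MorphismProperty.of_isPullback_of_descendsAlong hsq hg hf.1.2⟩,
    MorphismProperty.of_isPullback_of_descendsAlong hsq hg hf.2⟩⟩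

end Groth.Agent.S1126
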