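import Groth.Statements.S11261
import Groth.Agent.Smt.Expansion

set_option autoImplicit false
universe u
open W4bk4grassmannian

namespace Groth.Agent.S11261

open W4bk4grassmannian in
/-- Shape of the straightening relations of a skew pair: let K be an algebraically closed field, 0 < d <
n, S = K[X_θ : θ ∈ I(d,n)] the Plücker polynomial ring on the strictly increasing maps Fin d → Fin n
ordered entrywise, and J ⊆ S the ideal of polynomials vanishing at the row-minors of every n × d
matrix over K (the homogeneous ideal of G(d,n)). Let τ, φ ∈ I(d,n) be incomparable, with entrywise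
maximum τ ∨ φ and minimum τ ∧ φ. Then there is a K-linear combination g of monomials X_α X_β with β
≤ α, τ ∨ φ < α and β < τ ∧ φ such that X_τ X_φ - X_{τ∨φ} X_{τ∧φ} - g lies in J. -/
theorem result (K : Type u) [Field K] [IsAlgClosed K] (d n : ℕ)
    (hd : 0 < d) (hdn : d < n) (τ φ : Idx d n) (h₁ : ¬ τ ≤ φ) (h₂ : ¬ φ ≤ τ) :
    ∃ g ∈ Submodule.span K {f : PlRing K d n | ∃ α β : Idx d n,
        β ≤ α ∧ W4bk4grassmannian.sup τ φ < α ∧ β < W4bk4grassmannian.inf τ φ ∧
          f = MvPolynomial.X α * MvPolynomial.X β},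
      MvPolynomial.X τ * MvPolynomial.X φ -
          MvPolynomial.X (W4bk4grassmannian.sup τ φ) * MvPolynomial.X (W4bk4grassmannian.inf τ φ) - g ∈
        vanishing K d n := by
  classical
  obtain ⟨l, hl⟩ := Groth.Smt.exists_expand K (MvPolynomial.X τ * MvPolynomial.X φ)
  obtain ⟨h1, h2⟩ := Groth.Smt.pair_expansion hd τ φ hl
  set C₀ := Groth.Smt.pairChain (W4bk4grassmannian.sup τ φ) (W4bk4grassmannian.inf τ φ)
    (Groth.Smt.idxInf_le_sup τ φ) with hC₀
  refine ⟨∑ C ∈ l.support.erase C₀, l C • Groth.Smt.sm K C, ?_, ?_⟩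
  · refine Submodule.sum_mem _ fun C hC => ?_
    rw [Finset.mem_erase, Finsupp.mem_support_iff] at hC
    obtain ⟨α, β, h, rfl, hα, hβ, -⟩ := h2 C hC.2 hC.1
    rw [Groth.Smt.sm_pairChain]
    exact Submodule.smul_mem _ _ (Submodule.subset_span ⟨α, β, h, hα, hβ, rfl⟩)
  · have hmem : C₀ ∈ l.support := by rw [Finsupp.mem_support_iff, h1]; exact one_ne_zero
    rw [Finsupp.sum, ← Finset.add_sum_erase _ _ hmem, h1, one_smul, hC₀, Groth.Smt.sm_pairChain] at hl
    rw [sub_sub]
    have hle : plIdealTop (d := d) (n := n) K ≤ vanishing K d n := by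
      refine Ideal.span_le.2 ?_
      rintro f ⟨i, j, r, -, rfl⟩
      simp only [vanishing, SetLike.mem_coe, Ideal.mem_iInf]
      exact fun A => Groth.Smt.aeval_shuffleRel A i j r
    exact hle hl

end Groth.Agent.S11261
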