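import Groth.Statements.S11269
import Groth.Agent.Smt.RegularGlue
import Mathlib.RingTheory.Ideal.AssociatedPrime.Finiteness
import Mathlib.RingTheory.Regular.Flat
import Mathlib.RingTheory.Ideal.KrullsHeightTheorem

set_option autoImplicit false
universe u
open W4bk4grassmannian

namespace Groth.Agent.S11269

/-- Let R be a Noetherian integral domain. Then R satisfies Serre's condition (S_2) (depth R_P ≥ min(2,
dim R_P) for all primes P) if and only if, for every nonzero a ∈ R, every associated prime of the
R-module R/(a) has height one. -/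
theorem result (R : Type u) [CommRing R] [IsDomain R]
    [IsNoetherianRing R] :
    LocCoh.HasSk 2 R R ↔
      ∀ a : R, a ≠ 0 → ∀ P : Ideal R, P ∈ associatedPrimes R (R ⧸ Ideal.span {a}) → P.height = 1 := by
  classical
  have hdim : ∀ (p : Ideal R) [p.IsPrime],
      Module.supportDim (Localization.AtPrime p) (LocalizedModule p.primeCompl R) =
        (p.height : WithBot ℕ∞) := fun p _ => by
    have e : Module.supportDim (Localization.AtPrime p) (LocalizedModule p.primeCompl R) =
        ringKrullDim (Localization.AtPrime p) := Module.supportDim_self_eq_ringKrullDim _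
    rw [e, IsLocalization.AtPrime.ringKrullDim_eq_height p (Localization.AtPrime p)]
  constructor
  · intro h a ha P hP
    obtain ⟨hPp, z, hz⟩ := isAssociatedPrime_iff.1 hP
    haveI := hPp
    obtain ⟨z, rfl⟩ := Ideal.Quotient.mk_surjective z
    have hmem : ∀ r : R, r ∈ P ↔ r * z ∈ Ideal.span {a} := fun r => by
      rw [hz, Submodule.mem_colon_singleton, Submodule.mem_bot, Algebra.smul_def,
        ← Ideal.Quotient.eq_zero_iff_mem, map_mul]
      rfl
    have hzne : z ∉ Ideal.span {a} := fun hh => hPp.ne_top ((Ideal.eq_top_iff_one P).2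
      ((hmem 1).2 (by rwa [one_mul])))
    have haP : a ∈ P := (hmem a).2 (Ideal.mul_mem_right _ _ (Ideal.mem_span_singleton_self a))
    have h1 : 1 ≤ P.height := Order.one_le_iff_ne_zero.2 fun h0 => by
      rw [Ideal.height_eq_zero_iff, IsDomain.minimalPrimes_eq_singleton_bot] at h0
      exact ha ((Submodule.mem_bot R).1 ((Set.mem_singleton_iff.1 h0) ▸ haP))
    refine le_antisymm ?_ h1
    set L := Localization.AtPrime P
    have hdep : LocCoh.depth L (LocalizedModule P.primeCompl R) ≤ 1 := by
      rw [LocCoh.depth, LocCoh.idealDepth, if_neg]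
      swap
      · exact (Submodule.top_ne_ideal_smul_of_le_jacobson_annihilator
          (IsLocalRing.maximalIdeal_le_jacobson _)).symm
      refine iSup₂_le fun rs hrs => ?_
      match rs, hrs with
      | [], _ => simp
      | [_], _ => simp
      | x :: y :: rs, hrs =>
        exfalso
        obtain ⟨hreg, hm⟩ := hrs
        replace hreg : RingTheory.Sequence.IsWeaklyRegular L (x :: y :: rs) := hreg
        rw [RingTheory.Sequence.isWeaklyRegular_cons_iff,
          RingTheory.Sequence.isWeaklyRegular_cons_iff] at hreg
        obtain ⟨hx, hy, -⟩ := hreg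
        have haL : algebraMap R L a ≠ 0 := fun e => ha (IsLocalization.injective L
          P.primeCompl_le_nonZeroDivisors (by rw [e, map_zero]))
        have hzL : ∀ w : L, algebraMap R L z ≠ algebraMap R L a * w := fun w e => by
          obtain ⟨b, s, rfl⟩ := IsLocalization.exists_mk'_eq P.primeCompl w
          rw [IsLocalization.mul_mk'_eq_mk'_of_mul, IsLocalization.eq_mk'_iff_mul_eq,
            ← map_mul] at e
          have e2 := IsLocalization.injective L P.primeCompl_le_nonZeroDivisors e
          exact s.2 ((hmem s).2 (Ideal.mem_span_singleton.2 ⟨b, by rw [← e2, mul_comm]⟩))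
        have hkill : ∀ t ∈ IsLocalRing.maximalIdeal L,
            ∃ w, t * algebraMap R L z = algebraMap R L a * w := fun t ht => by
          rw [← Localization.AtPrime.map_eq_maximalIdeal] at ht
          have hle : Ideal.map (algebraMap R L) P ≤
              (Ideal.span {algebraMap R L a}).colon (Ideal.span {algebraMap R L z}) := by
            refine Ideal.map_le_iff_le_comap.2 fun r hr => ?_
            rw [Ideal.mem_comap, Submodule.mem_colon]
            intro q hq
            obtain ⟨c, rfl⟩ := Ideal.mem_span_singleton.1 hq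
            rw [smul_eq_mul, ← mul_assoc, ← map_mul]
            refine Ideal.mul_mem_right _ _ ?_
            obtain ⟨c, hc⟩ := Ideal.mem_span_singleton.1 ((hmem r).1 hr)
            rw [hc, map_mul]
            exact Ideal.mul_mem_right _ _ (Ideal.mem_span_singleton_self _)
          have := Submodule.mem_colon.1 (hle ht) _ (Ideal.mem_span_singleton_self _)
          exact Ideal.mem_span_singleton.1 this
        obtain ⟨u, hu⟩ := hkill x (hm x (by simp))
        obtain ⟨v, hv⟩ := hkill y (hm y (by simp))
        have he : x * v = y * u := mul_left_cancel₀ haL (by linear_combination y * hu - x * hv)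
        have hu0 : (Submodule.Quotient.mk u : QuotSMulTop x L) = 0 :=
          hy.right_eq_zero_of_smul (by
            rw [← Submodule.Quotient.mk_smul, Groth.Smt.mk_eq_zero_iff]
            exact ⟨v, by simpa using he⟩)
        obtain ⟨w, rfl⟩ := (Groth.Smt.mk_eq_zero_iff x u).1 hu0
        exact hzL w (hx (show x • algebraMap R L z = x • (algebraMap R L a * w) by
          simp only [smul_eq_mul] at hu ⊢; linear_combination hu))
    have h2 := le_trans (h P) (WithBot.coe_le_coe.2 hdep)
    rw [hdim P, ← WithBot.coe_natCast, ← WithBot.coe_min, WithBot.coe_le_coe] at h2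
    rcases min_le_iff.1 h2 with h3 | h3
    · exact absurd (show (2 : ℕ∞) ≤ 1 from h3) (by decide)
    · exact h3
  · intro h p hp
    rw [hdim p, LocCoh.depth, LocCoh.idealDepth]
    split_ifs
    · exact le_trans (min_le_left _ _) (WithBot.coe_le_coe.2 le_top)
    rw [← WithBot.coe_natCast, ← WithBot.coe_min, WithBot.coe_le_coe]
    by_cases h0 : p.height = 0
    · rw [h0]; exact le_trans (min_le_right _ _) bot_le
    have hpne : p ≠ ⊥ := fun e => h0 (by
      rw [Ideal.height_eq_zero_iff, IsDomain.minimalPrimes_eq_singleton_bot, e]; rfl)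
    obtain ⟨x, hxp, hx0⟩ := Submodule.exists_mem_ne_zero_of_ne_bot hpne
    have hxr : IsSMulRegular R x := fun b c e => mul_left_cancel₀ hx0 (by simpa using e)
    have hmap : ∀ r ∈ p, algebraMap R (Localization.AtPrime p) r ∈
        IsLocalRing.maximalIdeal (Localization.AtPrime p) := fun r hr => by
      rw [← Localization.AtPrime.map_eq_maximalIdeal]
      exact Ideal.mem_map_of_mem _ hr
    by_cases h1 : p.height ≤ 1
    · refine le_trans (min_le_right _ _) (le_trans h1 ?_)
      refine le_iSup₂_of_le [algebraMap R (Localization.AtPrime p) x] ⟨?_, ?_⟩ (by simp)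
      · exact RingTheory.Sequence.IsWeaklyRegular.of_flat (S := Localization.AtPrime p)
          ((RingTheory.Sequence.isWeaklyRegular_singleton_iff R x).2 hxr)
      · intro r hr
        rw [List.mem_singleton] at hr
        exact hr ▸ hmap x hxp
    have hex : ∃ y ∈ p, ∀ Q ∈ associatedPrimes R (R ⧸ Ideal.span {x}), y ∉ Q := by
      by_contra hc
      push Not at hc
      have hsub : (p : Set R) ⊆
          ⋃ Q ∈ ((associatedPrimes.finite R (R ⧸ Ideal.span {x})).toFinset : Set (Ideal R)),
            (Q : Set R) := fun r hr => by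
        obtain ⟨Q, hQ, hrQ⟩ := hc r hr
        exact Set.mem_iUnion₂.2 ⟨Q, by simpa using hQ, hrQ⟩
      obtain ⟨Q, hQ, hle⟩ := (Ideal.subset_union_prime (f := id) ⊥ ⊥ (fun Q hQ _ _ =>
        (((associatedPrimes.finite R _).mem_toFinset).1 hQ).isPrime)).1 hsub
      rw [Set.Finite.mem_toFinset] at hQ
      exact h1 ((Ideal.height_mono hle).trans (h x hx0 Q hQ).le)
    obtain ⟨y, hyp, hy⟩ := hex
    have hyr : IsSMulRegular (QuotSMulTop x R) y := by
      rw [isSMulRegular_iff_right_eq_zero_of_smul]
      intro m
      refine Submodule.Quotient.induction_on _ m fun b hb => ?_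
      rw [← Submodule.Quotient.mk_smul, Groth.Smt.mk_eq_zero_iff] at hb
      obtain ⟨c, hc⟩ := hb
      have : (Ideal.Quotient.mk (Ideal.span {x}) b) = 0 := by
        by_contra hb0
        have hz : y ∈ {r : R | ∃ m : R ⧸ Ideal.span {x}, m ≠ 0 ∧ r • m = 0} :=
          ⟨_, hb0, by
            rw [Algebra.smul_def, Ideal.Quotient.algebraMap_eq, ← map_mul,
              Ideal.Quotient.eq_zero_iff_mem, Ideal.mem_span_singleton]
            exact ⟨c, by simpa using hc.symm⟩⟩
        rw [← biUnion_associatedPrimes_eq_zero_divisors] at hz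
        obtain ⟨Q, hQ, hyQ⟩ := Set.mem_iUnion₂.1 hz
        exact hy Q hQ hyQ
      rw [Ideal.Quotient.eq_zero_iff_mem, Ideal.mem_span_singleton] at this
      obtain ⟨e, rfl⟩ := this
      exact (Groth.Smt.mk_eq_zero_iff x _).2 ⟨e, by simp⟩
    refine le_trans (min_le_left _ _) ?_
    refine le_iSup₂_of_le [algebraMap R (Localization.AtPrime p) x,
      algebraMap R (Localization.AtPrime p) y] ⟨?_, ?_⟩ (by simp)
    · exact RingTheory.Sequence.IsWeaklyRegular.of_flat (S := Localization.AtPrime p)
        ((RingTheory.Sequence.isWeaklyRegular_cons_iff R x [y]).2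
          ⟨hxr, (RingTheory.Sequence.isWeaklyRegular_singleton_iff _ y).2 hyr⟩)
    · intro r hr
      simp only [List.mem_cons, List.not_mem_nil, or_false] at hr
      rcases hr with rfl | rfl
      exacts [hmap x hxp, hmap y hyp]

end Groth.Agent.S11269
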