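import Groth.Statements.S11270
import Groth.Agent.Smt.Schubert

set_option autoImplicit false
universe u
open W4bk4grassmannian

namespace Groth.Agent.S11270

open W4bk4grassmannian in
/-- The least Plücker coordinate is a prime element on every Schubert variety: let K be an algebraically
closed field, 0 < d < n, and I(d,n) the strictly increasing maps Fin d → Fin n ordered entrywise; S
= K[X_θ : θ ∈ I(d,n)] is the Plücker polynomial ring and, for τ ∈ I(d,n), J(τ) ⊆ S is the ideal of
polynomials vanishing at the d × d row-minors of every n × d matrix over K whose minors on rows φ ≰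
τ are zero (the homogeneous ideal of the Schubert variety X(τ) ⊆ G(d,n)). Let w ∈ I(d,n) and let ι =
(0, 1, …, d - 1) be the least element of I(d,n), written (1, …, d) in 1-based indexing. Then the
class of X_ι in S/J(w) is a prime element; it generates the kernel of the restriction to the section
of X(w) by the opposite Schubert divisor. -/
theorem result (K : Type u) [Field K] [IsAlgClosed K] (d n : ℕ)
    (hd : 0 < d) (hdn : d < n) (w : Idx d n) :
    Prime (Ideal.Quotient.mk (schubertVanishing K d n w)
      (MvPolynomial.X (⟨fun t => ⟨t.val, lt_trans t.isLt hdn⟩, fun a b h => h⟩ : Idx d n))) := by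
  classical
  set ι : Idx d n := ⟨fun t => ⟨t.val, lt_trans t.isLt hdn⟩, fun a b h => h⟩
  let v₁ : Idx d n := ⟨fun t => if t.val + 1 = d then ⟨d, hdn⟩ else ⟨t.val, lt_trans t.isLt hdn⟩, by
    intro a b hab
    have hb := b.isLt
    have : a.val < b.val := hab
    simp only [Fin.lt_def]
    split_ifs <;> simp only <;> omega⟩
  have hv : ∀ θ : Idx d n, v₁ ≤ θ ↔ θ ≠ ι := by
    intro θ
    constructor
    · rintro h rfl
      have := h ⟨d - 1, by omega⟩
      simp [v₁, ι, show d - 1 + 1 = d by omega, Fin.le_def] at this
      omega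
    · intro h t
      have h1 := Groth.Smt.le_val θ t
      show v₁.1 t ≤ θ.1 t
      simp only [v₁]
      split_ifs with ht
      · rw [Fin.le_def]
        show d ≤ (θ.1 t).val
        by_contra hlt
        apply h
        apply Subtype.ext
        funext s
        apply Fin.ext
        show (θ.1 s).val = s.val
        have h2 := Groth.Smt.le_val θ s
        have h3 : (θ.1 s).val + (t.val - s.val) ≤ (θ.1 t).val := by
          obtain ⟨k, hk⟩ : ∃ k, s.val + k = t.val := ⟨t.val - s.val, by omega⟩
          clear hlt ht h h1 h2
          induction k generalizing s with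
          | zero => have : s = t := Fin.ext (by omega); subst this; simp
          | succ k ih =>
            have h5 := ih ⟨s.val + 1, by omega⟩ (by simp; omega)
            have h4 : (θ.1 s).val < (θ.1 ⟨s.val + 1, by omega⟩).val := θ.2 (by simp [Fin.lt_def])
            simp only at h5
            omega
        omega
      · exact Fin.le_def.2 h1
  have hne : Ideal.Quotient.mk (schubertVanishing K d n w) (MvPolynomial.X ι) ≠ 0 := by
    intro h
    rw [Ideal.Quotient.eq_zero_iff_mem, ← Groth.Smt.sm_pairChain_single (K := K)] at h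
    have h1 := Groth.Smt.coeff_eq_zero_of_mem K hd hdn.le (τ := w)
      (Finsupp.single (⟨1, fun _ => ι, fun _ _ _ => le_rfl⟩ : Groth.Smt.Chain d n) 1)
      (by rw [Finsupp.sum_single_index (h := fun C (c : K) => c • Groth.Smt.sm K C) (zero_smul K _), one_smul]
          exact h)
      (C := ⟨1, fun _ => ι, fun _ _ _ => le_rfl⟩) (fun _ => Groth.Smt.bot_le hdn.le w)
    rw [Finsupp.single_eq_same] at h1
    exact one_ne_zero h1
  rw [← Ideal.span_singleton_prime hne]
  have hJ : schubertVanishing K d n w ⊔ Ideal.span {MvPolynomial.X ι} = Groth.Smt.ivalIdeal K v₁ w := by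
    rw [Groth.Smt.schubertVanishing_eq_plIdeal K hd hdn.le, plIdeal, Groth.Smt.ivalIdeal, plIdealTop,
      Ideal.span_union, sup_assoc, ← Ideal.span_union]
    congr 2
    ext f
    simp only [Set.mem_union, Set.mem_setOf_eq, Set.mem_singleton_iff, Groth.Smt.InIval]
    constructor
    · rintro (⟨φ, hφ, rfl⟩ | rfl)
      · exact ⟨φ, fun h => hφ h.2, rfl⟩
      · exact ⟨ι, fun h => (hv ι).1 h.1 rfl, rfl⟩
    · rintro ⟨φ, hφ, rfl⟩
      by_cases he : φ = ι
      · exact Or.inr (by rw [he])
      · exact Or.inl ⟨φ, fun h => hφ ⟨(hv φ).2 he, h⟩, rfl⟩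
  haveI : (schubertVanishing K d n w ⊔ Ideal.span {MvPolynomial.X ι}).IsPrime := by
    rw [hJ]; exact Groth.Smt.ivalIdeal_isPrime K hd v₁ w
  rw [show Ideal.span {Ideal.Quotient.mk (schubertVanishing K d n w) (MvPolynomial.X ι)} =
      (schubertVanishing K d n w ⊔ Ideal.span {MvPolynomial.X ι}).map (Ideal.Quotient.mk _) by
    rw [Ideal.map_sup, Ideal.map_quotient_self, bot_sup_eq, Ideal.map_span, Set.image_singleton]]
  exact Ideal.map_isPrime_of_surjective Ideal.Quotient.mk_surjective (by simp)

end Groth.Agent.S11270
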