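import Groth.Statements.S11271
import Groth.Agent.Smt.Normalize
import Mathlib.LinearAlgebra.Matrix.SchurComplement
import Mathlib.Algebra.Polynomial.Roots

set_option autoImplicit false
universe u
open W4bk4grassmannian

namespace Groth.Agent.S11271

open W4bk4grassmannian in
/-- Semistable matrices are the matrices of full rank: let K be an algebraically closed field, 0 < d <
n, and let SL_d(K) act on n × d matrices by right multiplication; a matrix A is semistable when the
zero matrix is not in the Zariski closure of its orbit, i.e. when some polynomial in the entries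
vanishes at A g for every g ∈ SL_d(K) but not at 0. Then A is semistable if and only if its columns
are linearly independent. -/
theorem result (K : Type u) [Field K]
    [IsAlgClosed K] (d n : ℕ) (hd : 0 < d) (hdn : d < n) (A : Matrix (Fin n) (Fin d) K) :
    LinearIndependent K A.transpose ↔
      ∃ f : MatRing K d n, (∀ g : Matrix.SpecialLinearGroup (Fin d) K,
        MvPolynomial.eval (fun p : Fin n × Fin d => (A * (g : Matrix (Fin d) (Fin d) K)) p.1 p.2) f = 0) ∧
        MvPolynomial.eval (fun _ : Fin n × Fin d => (0 : K)) f ≠ 0 := by
  classical
  constructor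
  · intro hA
    obtain ⟨θ, hθ⟩ := Groth.Smt.exists_minor_ne_zero A hA
    refine ⟨minor K d n θ.1 - MvPolynomial.C (Groth.Smt.det' A θ.1), fun g => ?_, ?_⟩
    · have e := Groth.Smt.det'_mul A (g : Matrix (Fin d) (Fin d) K) θ.1
      rw [g.2, mul_one] at e
      rw [map_sub, MvPolynomial.eval_C, minor, RingHom.map_det, sub_eq_zero, ← e, Groth.Smt.det']
      congr 1
      ext s t
      simp
    · rw [map_sub, MvPolynomial.eval_C, minor, RingHom.map_det]
      rw [Matrix.det_eq_zero_of_row_eq_zero ⟨0, hd⟩ (by intro j; simp)]
      simpa using hθ
  · rintro ⟨f, hf, hf0⟩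
    by_contra hA
    obtain ⟨v, hv, j, hj⟩ := Fintype.not_linearIndependent_iff.1 hA
    have hAv : A.mulVec v = 0 := by
      rw [← hv]
      ext a
      simp [Matrix.mulVec, dotProduct, Finset.sum_apply, mul_comm]
    let q : Polynomial K := MvPolynomial.aeval
      (fun p : Fin n × Fin d => Polynomial.C (A p.1 p.2) * Polynomial.X) f
    have hq : ∀ c : K, q.eval c = MvPolynomial.eval (fun p : Fin n × Fin d => c * A p.1 p.2) f := by
      intro c
      simp only [q]
      rw [← Polynomial.coe_evalRingHom, MvPolynomial.aeval_def, MvPolynomial.eval₂_comp_left]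
      show _ = MvPolynomial.eval₂ (RingHom.id K) _ f
      congr 1
      · ext x; simp
      · funext p; simp [Function.comp_apply]; ring
    have key : ∀ c : K, c ≠ 0 → q.IsRoot c := by
      intro c hc
      let γ : K := (c ^ d)⁻¹ - 1
      let M : Matrix (Fin d) (Fin d) K := 1 + Matrix.replicateCol Unit (γ • v) *
        Matrix.replicateRow Unit (Pi.single j (v j)⁻¹)
      have hM : (c • M).det = 1 := by
        rw [Matrix.det_smul, Fintype.card_fin, Matrix.det_one_add_replicateCol_mul_replicateRow,
          single_dotProduct, Pi.smul_apply, smul_eq_mul]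
        simp only [γ]
        field_simp
        ring
      have hAM : A * (c • M) = c • A := by
        rw [Matrix.mul_smul, Matrix.mul_add, Matrix.mul_one, ← Matrix.mul_assoc,
          ← Matrix.replicateCol_mulVec, Matrix.mulVec_smul, hAv, smul_zero]
        simp
      have := hf ⟨c • M, hM⟩
      rw [Polynomial.IsRoot, hq]
      simpa [hAM] using this
    have hq0 : q = 0 := Polynomial.eq_zero_of_infinite_isRoot q
      (((Set.finite_singleton (0 : K)).infinite_compl).mono fun c hc => key c hc)
    apply hf0
    have := hq 0
    rw [hq0, Polynomial.eval_zero] at this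
    simpa using this.symm

end Groth.Agent.S11271
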