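import Groth.Statements.S11277
import Mathlib.RingTheory.Algebraic.Basic
import Mathlib.RingTheory.GradedAlgebra.Basic

set_option autoImplicit false
universe u v
open W4bk4grassmannian

namespace Groth.Agent.S11277

/-- Let K be a field, R = ⊕_{i ≥ 0} R_i an ℕ-graded commutative K-algebra which is an integral domain,
and s ∈ R_e a homogeneous element of degree e > 0. Let R_(s) ⊆ R[1/s] be the homogeneous
localization (fractions f / s^k with f homogeneous of degree k e). Then the image of s in R[1/s] is
transcendental over R_(s). -/
theorem result (K : Type u) [Field K] (R : Type v) [CommRing R]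
    [IsDomain R] [Algebra K R] (𝒜 : ℕ → Submodule K R) [GradedAlgebra 𝒜] (e : ℕ) (he : 0 < e) (s : R)
    (hs : s ∈ 𝒜 e) :
    Transcendental (HomogeneousLocalization.Away 𝒜 s) (algebraMap R (Localization.Away s) s) := by
  classical
  rw [transcendental_iff]
  intro p hp
  by_cases hs0 : s = 0
  · haveI : Subsingleton (Localization.Away s) :=
      IsLocalization.subsingleton (M := Submonoid.powers s) (hs0 ▸ Submonoid.mem_powers s)
    refine Polynomial.ext fun i => HomogeneousLocalization.val_injective _ ?_
    exact Subsingleton.elim _ _
  have hev := (Finset.eventually_all (Finset.range (p.natDegree + 1))).2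
    (fun i _ => HomogeneousLocalization.Away.eventually_smul_mem hs (p.coeff i))
  obtain ⟨M, hM⟩ := hev.exists
  choose! b hb hbe using hM
  have hinj : Function.Injective (algebraMap R (Localization.Away s)) :=
    IsLocalization.injective _ (powers_le_nonZeroDivisors_of_noZeroDivisors hs0)
  have hsum : ∑ i ∈ Finset.range (p.natDegree + 1), b i * s ^ i = 0 := by
    apply hinj
    rw [map_sum, map_zero]
    rw [Polynomial.aeval_eq_sum_range] at hp
    have := congrArg (fun y => (s ^ M : R) • y) hp
    simp only [Finset.smul_sum, smul_zero] at this
    rw [← this]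
    refine Finset.sum_congr rfl fun i hi => ?_
    rw [map_mul, hbe i hi, map_pow, smul_mul_assoc]
    congr 1
  refine Polynomial.ext fun j => ?_
  rw [Polynomial.coeff_zero]
  by_cases hj : j ∈ Finset.range (p.natDegree + 1)
  · have := congrArg (GradedRing.proj 𝒜 (M • e + j • e)) hsum
    simp only [map_sum, map_zero, GradedRing.proj_apply] at this
    rw [Finset.sum_eq_single_of_mem j hj] at this
    · rw [DirectSum.decompose_of_mem_same 𝒜 (SetLike.mul_mem_graded (hb j hj)
        (SetLike.pow_mem_graded j hs))] at this
      have h0 : b j = 0 := (mul_eq_zero.1 this).resolve_right (pow_ne_zero _ hs0)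
      have := hbe j hj
      rw [h0, map_zero, Algebra.smul_def] at this
      apply HomogeneousLocalization.val_injective (x := Submonoid.powers s)
      rw [HomogeneousLocalization.val_zero]
      refine (mul_eq_zero.1 this.symm).resolve_left ?_
      exact fun hz => hs0 (eq_zero_of_pow_eq_zero (hinj (by simpa using hz)))
    · intro i hi hij
      refine DirectSum.decompose_of_mem_ne 𝒜 (SetLike.mul_mem_graded (hb i hi)
        (SetLike.pow_mem_graded i hs)) ?_
      simp [he.ne', hij]
  · exact Polynomial.coeff_eq_zero_of_natDegree_lt (by simpa using hj)

end Groth.Agent.S11277
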