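import Groth.Statements.S1128
import Groth.Agent.DescentBase.FlatTower

set_option autoImplicit false
open CategoryTheory CategoryTheory.Limits AlgebraicGeometry Opposite
universe u
open Desc

namespace Groth.Agent.S1128

/-- If f is flat and surjective and the composite of f with g is flat, then g is flat; together with
stability of flatness under composition this says flatness is fpqc local on the source. -/
theorem result {X' X Y : Scheme.{u}} (f : X' ⟶ X) (g : X ⟶ Y) [Flat f]
    [Surjective f] [Flat (f ≫ g)] : Flat g := by
  refine Flat.of_stalkMap _ fun y => ?_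
  obtain ⟨x, rfl⟩ := f.surjective y
  have h1 := Flat.stalkMap f x
  have h2 := Flat.stalkMap (f ≫ g) x
  rw [Scheme.Hom.stalkMap_comp] at h2
  letI := (g.stalkMap (f x)).hom.toAlgebra
  letI := (f.stalkMap x).hom.toAlgebra
  letI := ((f.stalkMap x).hom.comp (g.stalkMap (f x)).hom).toAlgebra
  have : IsScalarTower (Y.presheaf.stalk (g (f x))) (X.presheaf.stalk (f x)) (X'.presheaf.stalk x) :=
    .of_algebraMap_eq' rfl
  have : Module.Flat (X.presheaf.stalk (f x)) (X'.presheaf.stalk x) := h1
  have : IsLocalHom (algebraMap (X.presheaf.stalk (f x)) (X'.presheaf.stalk x)) :=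
    inferInstanceAs (IsLocalHom (f.stalkMap x).hom)
  have : Module.FaithfullyFlat (X.presheaf.stalk (f x)) (X'.presheaf.stalk x) :=
    Module.FaithfullyFlat.of_flat_of_isLocalHom
  have : Module.Flat (Y.presheaf.stalk (g (f x))) (X'.presheaf.stalk x) := h2
  exact Groth.DescentBase.flat_of_flat_of_faithfullyFlat (Y.presheaf.stalk (g (f x))) (X.presheaf.stalk (f x)) (X'.presheaf.stalk x)

end Groth.Agent.S1128
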