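import Groth.Statements.S11280
import Groth.Agent.ArtfunDeform.FSNilpotent
import Mathlib.RingTheory.Unramified.Basic
import Mathlib.RingTheory.Smooth.Basic

set_option autoImplicit false
universe u
open Deform

namespace Groth.Agent.S11280

/-- Let k be an algebraically closed field, A a local Artinian k-algebra with residue field k and t an
element of the maximal ideal of A annihilated by the maximal ideal, so that A is a small extension
of A/tA. Let B be a flat A-algebra whose closed fibre B/m_A B is a formally smooth k-algebra (an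
infinitesimal deformation over A of a formally smooth k-algebra). Then every A-algebra automorphism
of B/tB is induced by an A-algebra automorphism of B. (The published statement asks the automorphism
of B/tB to induce the identity on B/m_A B; this row does not. The published statement takes the
closed fibre smooth, that is formally smooth and essentially of finite type; this row asks the
closed fibre to be formally smooth over k in the sense of lifting along all square-zero surjections
of commutative k-algebras, with no finiteness condition.) -/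
theorem result
    {k : Type u} [Field k] [IsAlgClosed k]
    {A : Type u} [CommRing A] [Algebra k A] [IsLocalRing A] [IsArtinianRing A]
    (hres : ∀ a : A, ∃ c : k, a - algebraMap k A c ∈ IsLocalRing.maximalIdeal A)
    (t : A) (ht : t ∈ IsLocalRing.maximalIdeal A)
    (htm : ∀ a ∈ IsLocalRing.maximalIdeal A, a * t = 0)
    {B : Type u} [CommRing B] [Algebra A B] [Module.Flat A B] [Algebra k B] [IsScalarTower k A B]
    (hsm : Algebra.FormallySmooth k (B ⧸ (IsLocalRing.maximalIdeal A).map (algebraMap A B)))
    (σ : (B ⧸ Ideal.span {algebraMap A B t}) ≃ₐ[A] (B ⧸ Ideal.span {algebraMap A B t})) :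
    ∃ τ : B ≃ₐ[A] B, ∀ b : B,
      Ideal.Quotient.mk (Ideal.span {algebraMap A B t}) (τ b) =
        σ (Ideal.Quotient.mk (Ideal.span {algebraMap A B t}) b) := by
  classical
  let m := IsLocalRing.maximalIdeal A
  let mB := m.map (algebraMap A B)
  let g : A ⧸ m →+* B ⧸ mB := Ideal.quotientMap _ (algebraMap A B) Ideal.le_comap_map
  have hg : g.FormallySmooth := by
    letI : Algebra (A ⧸ m) (B ⧸ mB) := g.toAlgebra
    rw [← RingHom.algebraMap_toAlgebra g, RingHom.formallySmooth_algebraMap]
    haveI : IsScalarTower k (A ⧸ m) (B ⧸ mB) := IsScalarTower.of_algebraMap_eq fun c => by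
      change Ideal.Quotient.mk mB (algebraMap k B c) = Ideal.Quotient.mk mB (algebraMap A B (algebraMap k A c))
      rw [← IsScalarTower.algebraMap_apply]
    haveI : Algebra.FormallyUnramified k (A ⧸ m) := Algebra.FormallyUnramified.of_surjective (Algebra.ofId k (A ⧸ m)) fun x => by
      obtain ⟨a, rfl⟩ := Ideal.Quotient.mk_surjective x
      obtain ⟨c, hc⟩ := hres a
      exact ⟨c, (Ideal.Quotient.eq.2 hc).symm⟩
    haveI : Algebra.FormallySmooth k (B ⧸ mB) := hsm
    exact Algebra.FormallySmooth.of_restrictScalars k (A ⧸ m) (B ⧸ mB)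
  have hnil : IsNilpotent m := by
    have : Ideal.jacobson (⊥ : Ideal A) = m := IsLocalRing.jacobson_eq_maximalIdeal ⊥ bot_ne_top
    rw [← this]
    exact IsArtinianRing.isNilpotent_jacobson_bot
  have hfs : (algebraMap A B).FormallySmooth :=
    Groth.ArtfunDeform.formallySmooth_of_flat_of_isNilpotent (algebraMap A B) (RingHom.flat_algebraMap_iff.2 inferInstance)
      (Ideal.Quotient.mk m) (Ideal.Quotient.mk mB) g Ideal.Quotient.mk_surjective Ideal.Quotient.mk_surjective
      (RingHom.ext fun r => rfl) (by rwa [Ideal.mk_ker]) (by rw [Ideal.mk_ker, Ideal.mk_ker]) hg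
  haveI : Algebra.FormallySmooth A B := RingHom.formallySmooth_algebraMap.1 hfs
  let I : Ideal B := Ideal.span {algebraMap A B t}
  have htt : algebraMap A B t * algebraMap A B t = 0 := by rw [← map_mul, htm t ht, map_zero]
  have hI : IsNilpotent I := ⟨2, by rw [Ideal.span_singleton_pow, pow_two, htt, Ideal.span_singleton_eq_bot.2 rfl]; rfl⟩
  let f : B →ₐ[A] B := Algebra.FormallySmooth.lift I hI (σ.toAlgHom.comp (Ideal.Quotient.mkₐ A I))
  let f' : B →ₐ[A] B := Algebra.FormallySmooth.lift I hI (σ.symm.toAlgHom.comp (Ideal.Quotient.mkₐ A I))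
  have hf : ∀ b, Ideal.Quotient.mk I (f b) = σ (Ideal.Quotient.mk I b) := fun b => Algebra.FormallySmooth.mk_lift I hI _ b
  have hf' : ∀ b, Ideal.Quotient.mk I (f' b) = σ.symm (Ideal.Quotient.mk I b) := fun b => Algebra.FormallySmooth.mk_lift I hI _ b
  have key : ∀ h : B →ₐ[A] B, (∀ b, Ideal.Quotient.mk I (h b) = Ideal.Quotient.mk I b) → Function.Bijective h := by
    intro h hh
    have e : ∀ b, h (2 * b - h b) = b ∧ 2 * h b - h (h b) = b := fun b => by
      obtain ⟨w, hw⟩ := Ideal.mem_span_singleton'.1 (Ideal.Quotient.eq.1 (hh b))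
      obtain ⟨w', hw'⟩ := Ideal.mem_span_singleton'.1 (Ideal.Quotient.eq.1 (hh w))
      have e1 : h b = b + w * algebraMap A B t := by rw [hw]; ring
      have e2 : h w = w + w' * algebraMap A B t := by rw [hw']; ring
      have e3 : h (h b) = b + 2 * (w * algebraMap A B t) := by
        conv_lhs => rw [e1]
        rw [map_add, map_mul, AlgHom.commutes, e2, e1]
        linear_combination w' * htt
      refine ⟨?_, by rw [e1] at e3 ⊢; rw [e3]; ring⟩
      rw [map_sub, map_mul, map_ofNat, e3, e1]
      ring
    refine ⟨fun a b hab => ?_, fun b => ⟨_, (e b).1⟩⟩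
    rw [← (e a).2, ← (e b).2, hab]
  have h1 : Function.Bijective (f'.comp f) := key _ fun b => by
    rw [AlgHom.comp_apply, hf', hf, AlgEquiv.symm_apply_apply]
  have h2 : Function.Bijective (f.comp f') := key _ fun b => by
    rw [AlgHom.comp_apply, hf, hf', AlgEquiv.apply_symm_apply]
  exact ⟨AlgEquiv.ofBijective f ⟨Function.Injective.of_comp h1.1, Function.Surjective.of_comp h2.2⟩, hf⟩

end Groth.Agent.S11280
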