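import Groth.Statements.S11281
import Mathlib.RingTheory.Noetherian.OfPrime
import Mathlib.RingTheory.Filtration
import Mathlib.RingTheory.Artinian.Ring
import Mathlib.RingTheory.Ideal.Quotient.Nilpotent
import Mathlib.Tactic.LinearCombination
import Mathlib.RingTheory.HopkinsLevitzki

set_option autoImplicit false
universe u
open Deform

namespace Groth.Agent.S11281

/-- Let k be an algebraically closed field, Λ a local Noetherian k-algebra with residue field k, and R a
local Noetherian Λ-algebra, with local structure map and residue field k. The following are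
equivalent: (a) every Λ-extension of R by its residue field k is trivial, i.e. the relative
obstruction space o(R/Λ) = Ex_Λ(R, k) vanishes; (b) for every local Artinian Λ-algebra B with
residue field k and every t in the maximal ideal of B annihilated by the maximal ideal, every
Λ-algebra map R → B/tB lifts to a Λ-algebra map R → B (formal smoothness of R over Λ tested on small
extensions of Artinian rings). The test algebras B range over the universe of R. -/
theorem result
    {k : Type u} [Field k] [IsAlgClosed k]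
    {Λ : Type u} [CommRing Λ] [Algebra k Λ] [IsLocalRing Λ] [IsNoetherianRing Λ]
    (hΛ : ∀ a : Λ, ∃ c : k, a - algebraMap k Λ c ∈ IsLocalRing.maximalIdeal Λ)
    {R : Type u} [CommRing R] [Algebra Λ R] [IsLocalRing R] [IsNoetherianRing R]
    [IsLocalHom (algebraMap Λ R)]
    (hR : ∀ r : R, ∃ c : k, r - algebraMap Λ R (algebraMap k Λ c) ∈ IsLocalRing.maximalIdeal R) :
    (∀ X : Exal.Ext Λ R (IsLocalRing.ResidueField R), X.IsTrivial) ↔
    (∀ (B : Type u) [CommRing B] [Algebra Λ B] [IsLocalRing B] [IsArtinianRing B],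
      (∀ b : B, ∃ c : k, b - algebraMap Λ B (algebraMap k Λ c) ∈ IsLocalRing.maximalIdeal B) →
      ∀ t : B, t ∈ IsLocalRing.maximalIdeal B → (∀ b ∈ IsLocalRing.maximalIdeal B, b * t = 0) →
      ∀ φ : R →ₐ[Λ] B ⧸ Ideal.span {t},
        ∃ φ' : R →ₐ[Λ] B, (Ideal.Quotient.mkₐ Λ (Ideal.span {t})).comp φ' = φ) := by
  classical
  let mR := IsLocalRing.maximalIdeal R
  let σ : k →+* IsLocalRing.ResidueField R := (IsLocalRing.residue R).comp ((algebraMap Λ R).comp (algebraMap k Λ))
  have hσ : Function.Bijective σ := ⟨σ.injective, fun x => by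
    obtain ⟨r, rfl⟩ := IsLocalRing.residue_surjective x
    obtain ⟨c, hc⟩ := hR r
    exact ⟨c, (Ideal.Quotient.eq.2 hc).symm⟩⟩
  let τ : IsLocalRing.ResidueField R →+* k := (RingEquiv.ofBijective σ hσ).symm.toRingHom
  have hτσ : ∀ c, τ (σ c) = c := fun c => (RingEquiv.ofBijective σ hσ).symm_apply_apply c
  have hστ : ∀ z, σ (τ z) = z := fun z => (RingEquiv.ofBijective σ hσ).apply_symm_apply z
  constructor
  · intro h B _ _ _ _ hB t htm htkill φ
    let I := Ideal.span {t}
    by_cases ht0 : t = 0
    · have hI : I = ⊥ := Ideal.span_singleton_eq_bot.2 ht0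
      let e : (B ⧸ I) →ₐ[Λ] B := Ideal.Quotient.liftₐ I (AlgHom.id Λ B) fun x hx => by rw [hI, Ideal.mem_bot] at hx; exact hx
      refine ⟨e.comp φ, AlgHom.ext fun r => ?_⟩
      obtain ⟨b, hb⟩ := Ideal.Quotient.mk_surjective (φ r)
      change Ideal.Quotient.mk I (e (φ r)) = φ r
      rw [← hb]
      rfl
    let ψ : k →+* B := (algebraMap Λ B).comp (algebraMap k Λ)
    choose cB hcB using hB
    have hIm : I ≤ IsLocalRing.maximalIdeal B := (Ideal.span_singleton_le_iff_mem _).2 htm
    haveI : Nontrivial (B ⧸ I) := Ideal.Quotient.nontrivial_iff.2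
      fun e => (IsLocalRing.maximalIdeal.isMaximal B).ne_top (top_le_iff.1 (e ▸ hIm))
    let π : B ⧸ I →+* IsLocalRing.ResidueField B := Ideal.Quotient.lift I (IsLocalRing.residue B)
      fun x hx => Ideal.Quotient.eq_zero_iff_mem.2 (hIm hx)
    let χ : R →+* IsLocalRing.ResidueField B := π.comp φ.toRingHom
    have hχk : ∀ c : k, χ (algebraMap Λ R (algebraMap k Λ c)) = IsLocalRing.residue B (ψ c) := fun c => by
      change π (φ (algebraMap Λ R (algebraMap k Λ c))) = _
      rw [φ.commutes]
      rfl
    have hχm : ∀ r ∈ mR, χ r = 0 := fun r hr => by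
      have hp : RingHom.ker χ ≤ mR := IsLocalRing.le_maximalIdeal (RingHom.ker_ne_top χ)
      obtain ⟨b, hb⟩ := IsLocalRing.residue_surjective (χ r)
      have hb' : χ r = IsLocalRing.residue B (ψ (cB b)) := hb.symm.trans (Ideal.Quotient.eq.2 (hcB b))
      have h1 : r - algebraMap Λ R (algebraMap k Λ (cB b)) ∈ mR :=
        hp ((RingHom.mem_ker).2 (by rw [map_sub, hχk, hb', sub_self]))
      have h2 : σ (cB b) = 0 := by
        have := sub_mem hr h1
        rw [sub_sub_cancel] at this
        exact Ideal.Quotient.eq_zero_iff_mem.2 this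
      rw [hb', (map_eq_zero σ).1 h2, map_zero, map_zero]
    have hbr : ∀ (b : B) (r : R), Ideal.Quotient.mk I b = φ r → ∀ c : k, σ c = IsLocalRing.residue R r → b * t = ψ c * t := by
      intro b r hb c hc
      have hm : r - algebraMap Λ R (algebraMap k Λ c) ∈ mR := Ideal.Quotient.eq.1 hc.symm
      have h0 := hχm _ hm
      rw [map_sub, hχk, sub_eq_zero] at h0
      have h1 : IsLocalRing.residue B b = IsLocalRing.residue B (ψ c) := by
        rw [← h0]
        change π (Ideal.Quotient.mk I b) = π (φ r)
        rw [hb]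
      rw [← sub_eq_zero, ← sub_mul]
      exact htkill _ (Ideal.Quotient.eq.1 h1)
    let P : Subalgebra Λ (B × R) :=
      AlgHom.equalizer ((Ideal.Quotient.mkₐ Λ I).comp (AlgHom.fst Λ B R)) (φ.comp (AlgHom.snd Λ B R))
    have hmem : ∀ x : B × R, x ∈ P ↔ Ideal.Quotient.mk I x.1 = φ x.2 := fun _ => Iff.rfl
    have hincl : ∀ z : IsLocalRing.ResidueField R, ((ψ (τ z) * t, 0) : B × R) ∈ P := fun z => (hmem _).2 (by
      rw [map_zero, Ideal.Quotient.eq_zero_iff_mem]
      exact Ideal.mul_mem_left _ _ (Ideal.mem_span_singleton_self t))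
    let incl : IsLocalRing.ResidueField R →+ P :=
      { toFun := fun z => ⟨(ψ (τ z) * t, 0), hincl z⟩
        map_zero' := Subtype.ext (Prod.ext (by simp) rfl)
        map_add' := fun a b => Subtype.ext (Prod.ext
          (show ψ (τ (a + b)) * t = ψ (τ a) * t + ψ (τ b) * t by rw [map_add, map_add, add_mul])
          (show (0 : R) = 0 + 0 by rw [add_zero])) }
    let X : Exal.Ext Λ R (IsLocalRing.ResidueField R) :=
      { E := P
        proj := (AlgHom.snd Λ B R).comp P.val
        incl := incl
        isExtension :=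
          { proj_surjective := fun r => by
              obtain ⟨b, hb⟩ := Ideal.Quotient.mk_surjective (φ r)
              exact ⟨⟨(b, r), (hmem _).2 hb⟩, rfl⟩
            incl_injective := fun a b hab => by
              have h1 : ψ (τ a) * t = ψ (τ b) * t := congrArg (fun x : P => (x : B × R).1) hab
              refine (RingEquiv.ofBijective σ hσ).symm.injective ?_
              by_contra hne
              have h0 : ψ (τ a - τ b) * t = 0 := by rw [map_sub, sub_mul, h1, sub_self]
              exact ht0 (((isUnit_iff_ne_zero.2 (sub_ne_zero.2 hne)).map ψ).mul_right_eq_zero.1 h0)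
            exact := fun x => by
              refine ⟨fun hx => ?_, fun ⟨z, hz⟩ => hz ▸ rfl⟩
              obtain ⟨⟨b, r⟩, hxP⟩ := x
              change r = 0 at hx
              subst hx
              have h1 := (hmem _).1 hxP
              rw [map_zero, Ideal.Quotient.eq_zero_iff_mem] at h1
              obtain ⟨c, rfl⟩ := Ideal.mem_span_singleton'.1 h1
              refine ⟨σ (cB c), Subtype.ext (Prod.ext ?_ rfl)⟩
              change ψ (τ (σ (cB c))) * t = c * t
              rw [hτσ, eq_comm, ← sub_eq_zero, ← sub_mul]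
              exact htkill _ (hcB c)
            mul_incl := fun x z => by
              obtain ⟨⟨b, r⟩, hxP⟩ := x
              refine Subtype.ext (Prod.ext ?_ (mul_zero r))
              change b * (ψ (τ z) * t) = ψ (τ (r • z)) * t
              have h1 : τ (r • z) = τ (IsLocalRing.residue R r) * τ z := by
                rw [Algebra.smul_def, map_mul]
                rfl
              rw [h1, map_mul, mul_left_comm, hbr b r ((hmem _).1 hxP) (τ (IsLocalRing.residue R r)) (hστ _)]
              ring } }
    obtain ⟨s, hs⟩ := h X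
    refine ⟨((AlgHom.fst Λ B R).comp P.val).comp s, AlgHom.ext fun r => ?_⟩
    have h1 := (hmem _).1 (s r).2
    have h2 : ((s r : P) : B × R).2 = r := hs r
    rw [h2] at h1
    exact h1
  · intro h X
    let E := X.E
    let ε : E := X.incl 1
    have hpr : Function.Surjective X.proj := X.isExtension.proj_surjective
    have hker2 : ∀ x y : E, X.proj x = 0 → X.proj y = 0 → x * y = 0 := fun x y hx hy => by
      obtain ⟨z, rfl⟩ := (X.isExtension.exact y).1 hy
      rw [X.isExtension.mul_incl, hx, zero_smul, map_zero]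
    have hkerε : ∀ x : E, X.proj x = 0 → x ∈ Ideal.span {ε} := fun x hx => by
      obtain ⟨z, rfl⟩ := (X.isExtension.exact x).1 hx
      obtain ⟨r, rfl⟩ := IsLocalRing.residue_surjective z
      obtain ⟨e, he⟩ := hpr r
      refine Ideal.mem_span_singleton'.2 ⟨e, ?_⟩
      change e * X.incl 1 = _
      rw [X.isExtension.mul_incl, he, Algebra.smul_def, mul_one]
      rfl
    have hpε : X.proj ε = 0 := (X.isExtension.exact _).2 ⟨1, rfl⟩
    haveI : Nontrivial E := X.proj.toRingHom.domain_nontrivial
    have hunit : ∀ e : E, IsUnit (X.proj e) → IsUnit e := fun e he => by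
      obtain ⟨w, hw⟩ := he.exists_right_inv
      obtain ⟨f, rfl⟩ := hpr w
      have h1 : X.proj (e * f - 1) = 0 := by rw [map_sub, map_mul, map_one, hw, sub_self]
      refine IsUnit.of_mul_eq_one (f * (1 - (e * f - 1))) ?_
      have h2 := hker2 _ _ h1 h1
      linear_combination -h2
    haveI : IsLocalRing E := IsLocalRing.of_isUnit_or_isUnit_one_sub_self fun e => by
      rcases IsLocalRing.isUnit_or_isUnit_one_sub_self (X.proj e) with h1 | h1
      · exact Or.inl (hunit _ h1)
      · exact Or.inr (hunit _ (by rwa [map_sub, map_one]))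
    let mE := IsLocalRing.maximalIdeal E
    have hmE : ∀ e, e ∈ mE ↔ X.proj e ∈ mR := fun e => by
      rw [IsLocalRing.mem_maximalIdeal, IsLocalRing.mem_maximalIdeal, mem_nonunits_iff, mem_nonunits_iff, not_iff_not]
      exact ⟨fun hu => hu.map X.proj, hunit e⟩
    haveI : IsNoetherianRing E := IsNoetherianRing.of_prime fun p hp => by
      have hεp : ε ∈ p := hp.mem_of_pow_mem 2 (by rw [pow_two, hker2 _ _ hpε hpε]; exact zero_mem _)
      obtain ⟨s, hs⟩ := IsNoetherian.noetherian (p.map X.proj)
      choose l hl using fun r : R => hpr r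
      refine ⟨insert ε (s.image l), le_antisymm (Ideal.span_le.2 ?_) fun x hx => ?_⟩
      · intro x hx
        rw [Finset.coe_insert, Finset.coe_image] at hx
        rcases hx with rfl | ⟨r, hr, rfl⟩
        · exact hεp
        · have h1 : r ∈ p.map X.proj := hs ▸ Ideal.subset_span hr
          obtain ⟨y, hy, hyr⟩ := (Ideal.mem_map_iff_of_surjective _ hpr).1 h1
          have h2 : l r - y ∈ p := (Ideal.span_singleton_le_iff_mem _).2 hεp (hkerε _ (by rw [map_sub, hl, hyr, sub_self]))
          simpa using add_mem h2 hy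
      · let K : Ideal E := Ideal.span ↑(insert ε (s.image l))
        have hεK : ε ∈ K := Ideal.subset_span (by simp)
        have h1 : p.map X.proj ≤ K.map X.proj := by
          rw [← hs]
          exact Ideal.span_le.2 fun r hr => hl r ▸ Ideal.mem_map_of_mem _ (Ideal.subset_span (by simp [Finset.mem_coe.1 hr]; exact Or.inr ⟨r, hr, rfl⟩))
        obtain ⟨y, hy, hyx⟩ := (Ideal.mem_map_iff_of_surjective _ hpr).1 (h1 (Ideal.mem_map_of_mem _ hx))
        have h2 : x - y ∈ K := (Ideal.span_singleton_le_iff_mem _).2 hεK (hkerε _ (by rw [map_sub, hyx, sub_self]))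
        change x ∈ K
        simpa using add_mem h2 hy
    have hε0 : ε ≠ 0 := fun e => one_ne_zero (X.isExtension.incl_injective (e.trans (map_zero X.incl).symm))
    obtain ⟨n, hn⟩ : ∃ n, ε ∉ mE ^ (n + 1) := by
      by_contra hno
      push Not at hno
      refine hε0 ?_
      rw [← Ideal.mem_bot, ← Ideal.iInf_pow_eq_bot_of_isLocalRing mE (IsLocalRing.maximalIdeal.isMaximal E).ne_top, Submodule.mem_iInf]
      intro i
      exact Ideal.pow_le_pow_right (Nat.le_succ i) (hno i)
    let N := mE ^ (n + 1)
    have hNker : ∀ x ∈ N, X.proj x = 0 → x = 0 := fun x hx hx0 => by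
      obtain ⟨a, rfl⟩ := Ideal.mem_span_singleton'.1 (hkerε x hx0)
      by_cases ha : IsUnit a
      · exact absurd ((N.unit_mul_mem_iff_mem ha).1 hx) hn
      · change a * X.incl 1 = 0
        rw [X.isExtension.mul_incl, Algebra.smul_def, mul_one,
          show algebraMap R (IsLocalRing.ResidueField R) (X.proj a) = 0 from
            Ideal.Quotient.eq_zero_iff_mem.2 ((hmE a).1 ((IsLocalRing.mem_maximalIdeal _).2 ha)), map_zero]
    have hNm : N ≤ mE := Ideal.pow_le_self (Nat.succ_ne_zero n)
    haveI : Nontrivial (E ⧸ N) := Ideal.Quotient.nontrivial_iff.2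
      fun e => (IsLocalRing.maximalIdeal.isMaximal E).ne_top (top_le_iff.1 (e ▸ hNm))
    haveI : IsLocalRing (E ⧸ N) := IsLocalRing.of_surjective' (Ideal.Quotient.mk N) Ideal.Quotient.mk_surjective
    have hmq : ∀ e : E, Ideal.Quotient.mk N e ∈ IsLocalRing.maximalIdeal (E ⧸ N) ↔ e ∈ mE := fun e => by
      rw [IsLocalRing.mem_maximalIdeal, IsLocalRing.mem_maximalIdeal, mem_nonunits_iff, mem_nonunits_iff, not_iff_not]
      refine ⟨fun hu => ?_, fun hu => hu.map (Ideal.Quotient.mk N)⟩
      by_contra hne
      obtain ⟨w, hw⟩ := hu.exists_right_inv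
      obtain ⟨w, rfl⟩ := Ideal.Quotient.mk_surjective w
      rw [← map_mul, ← map_one (Ideal.Quotient.mk N), Ideal.Quotient.eq] at hw
      have h1 := sub_mem (Ideal.mul_mem_right w mE ((IsLocalRing.mem_maximalIdeal _).2 hne)) (hNm hw)
      rw [sub_sub_cancel] at h1
      exact (IsLocalRing.maximalIdeal.isMaximal E).ne_top ((Ideal.eq_top_iff_one _).2 h1)
    haveI : IsNoetherianRing (E ⧸ N) := Ideal.Quotient.isNoetherianRing N
    haveI : IsArtinianRing (E ⧸ N) := by
      rw [isArtinianRing_iff_isNilpotent_maximalIdeal]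
      refine ⟨n + 1, ?_⟩
      rw [Ideal.zero_eq_bot, ← le_bot_iff]
      calc IsLocalRing.maximalIdeal (E ⧸ N) ^ (n + 1) ≤ (mE.map (Ideal.Quotient.mk N)) ^ (n + 1) :=
            Ideal.pow_right_mono (fun x hx => by
              obtain ⟨e, rfl⟩ := Ideal.Quotient.mk_surjective x
              exact Ideal.mem_map_of_mem _ ((hmq e).1 hx)) _
        _ = N.map (Ideal.Quotient.mk N) := by rw [← Ideal.map_pow]
        _ ≤ ⊥ := (Ideal.map_quotient_self _).le
    let t : E ⧸ N := Ideal.Quotient.mk N ε
    have htm : t ∈ IsLocalRing.maximalIdeal (E ⧸ N) := (hmq ε).2 ((hmE ε).2 (by rw [hpε]; exact zero_mem _))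
    let f : E →ₐ[Λ] (E ⧸ N) ⧸ Ideal.span {t} := (Ideal.Quotient.mkₐ Λ (Ideal.span {t})).comp (Ideal.Quotient.mkₐ Λ N)
    have hf : ∀ e, X.proj e = 0 → f e = 0 := fun e he => by
      obtain ⟨a, rfl⟩ := Ideal.mem_span_singleton'.1 (hkerε e he)
      refine Ideal.Quotient.eq_zero_iff_mem.2 ?_
      change Ideal.Quotient.mk N (a * ε) ∈ _
      rw [map_mul]
      exact Ideal.mul_mem_left _ _ (Ideal.mem_span_singleton_self t)
    choose l hl using fun r : R => hpr r
    have hfl : ∀ e r, X.proj e = r → f e = f (l r) := fun e r he => by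
      rw [← sub_eq_zero, ← map_sub]
      exact hf _ (by rw [map_sub, he, hl, sub_self])
    let φ : R →ₐ[Λ] (E ⧸ N) ⧸ Ideal.span {t} :=
      { toFun := fun r => f (l r)
        map_one' := by rw [← hfl 1 1 (map_one _), map_one]
        map_mul' := fun a b => by rw [← hfl (l a * l b) _ (by rw [map_mul, hl, hl]), map_mul]
        map_zero' := by rw [← hfl 0 0 (map_zero _), map_zero]
        map_add' := fun a b => by rw [← hfl (l a + l b) _ (by rw [map_add, hl, hl]), map_add]
        commutes' := fun a => by rw [← hfl (algebraMap Λ E a) _ (AlgHom.commutes _ a), AlgHom.commutes] }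
    obtain ⟨φ', hφ'⟩ := h (E ⧸ N) (fun b => by
        obtain ⟨e, rfl⟩ := Ideal.Quotient.mk_surjective b
        obtain ⟨c, hc⟩ := hR (X.proj e)
        refine ⟨c, ?_⟩
        rw [← Ideal.Quotient.mk_algebraMap, ← map_sub, hmq, hmE, map_sub, AlgHom.commutes]
        exact hc) t htm (fun b hb => by
        obtain ⟨e, rfl⟩ := Ideal.Quotient.mk_surjective b
        rw [← map_mul]
        refine (congrArg (Ideal.Quotient.mk N) ?_).trans (map_zero _)
        change e * X.incl 1 = 0
        rw [X.isExtension.mul_incl, Algebra.smul_def, mul_one,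
          show algebraMap R (IsLocalRing.ResidueField R) (X.proj e) = 0 from
            Ideal.Quotient.eq_zero_iff_mem.2 ((hmE e).1 ((hmq e).1 hb)), map_zero]) φ
    have huniq : ∀ r, ∃! e : E, X.proj e = r ∧ Ideal.Quotient.mk N e = φ' r := fun r => by
      obtain ⟨e, he⟩ := Ideal.Quotient.mk_surjective (φ' r)
      have h1 : f e = f (l r) := by
        have := AlgHom.congr_fun hφ' r
        change Ideal.Quotient.mk _ (φ' r) = f (l r) at this
        rw [← he] at this
        exact this
      obtain ⟨a, ha⟩ := Ideal.mem_span_singleton'.1 (Ideal.Quotient.eq.1 h1)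
      obtain ⟨a, rfl⟩ := Ideal.Quotient.mk_surjective a
      replace ha : Ideal.Quotient.mk N a * t = Ideal.Quotient.mk N e - Ideal.Quotient.mk N (l r) := ha
      refine ⟨l r + a * ε, ⟨by rw [map_add, map_mul, hpε, mul_zero, add_zero, hl], ?_⟩, fun y hy => ?_⟩
      · rw [map_add, map_mul, ← he]
        change Ideal.Quotient.mk N (l r) + Ideal.Quotient.mk N a * t = _
        rw [ha]
        abel
      · rw [← sub_eq_zero]
        refine hNker _ ?_ ?_
        · rw [← Ideal.Quotient.eq, hy.2, map_add, map_mul, ← he]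
          change _ = Ideal.Quotient.mk N (l r) + Ideal.Quotient.mk N a * t
          rw [ha]
          abel
        · rw [map_sub, hy.1, map_add, map_mul, hpε, mul_zero, add_zero, hl, sub_self]
    choose s hs hsu using huniq
    exact ⟨{ toFun := s
             map_one' := (hsu 1 1 ⟨map_one _, (map_one _).trans (map_one φ').symm⟩).symm
             map_mul' := fun a b => (hsu _ (s a * s b) ⟨by rw [map_mul, (hs a).1, (hs b).1],
               by rw [map_mul, map_mul φ', (hs a).2, (hs b).2]⟩).symm
             map_zero' := (hsu 0 0 ⟨map_zero _, (map_zero _).trans (map_zero φ').symm⟩).symm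
             map_add' := fun a b => (hsu _ (s a + s b) ⟨by rw [map_add, (hs a).1, (hs b).1],
               by rw [map_add, map_add φ', (hs a).2, (hs b).2]⟩).symm
             commutes' := fun a => (hsu _ (algebraMap Λ E a) ⟨AlgHom.commutes _ a,
               ((Ideal.Quotient.mkₐ Λ N).commutes a).trans (AlgHom.commutes φ' a).symm⟩).symm }, fun r => (hs r).1⟩

end Groth.Agent.S11281
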