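import Groth.Statements.S11282
import Groth.Agent.ArtfunDeform.ExalLocal
import Groth.Agent.ArtfunDeform.Cotangent

set_option autoImplicit false
universe u
open Deform

namespace Groth.Agent.S11282

/-- Let k be an algebraically closed field, Λ a complete local Noetherian k-algebra with residue field
k, and R a local Noetherian Λ-algebra with local structure map, residue field k and maximal ideal m.
Then for some n the pull-back map o((R/m^(n+1))/Λ) → o(R/Λ) on obstruction spaces is onto: every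
Λ-extension 0 → k → E → R → 0 of R by its residue field is the inverse image of a Λ-extension of
R/m^(n+1) by k. Concretely, the middle ring E of every such extension contains an ideal I which
meets the kernel k only in 0 and whose image in R is exactly m^(n+1) (then E/I is an extension of
R/m^(n+1) by k whose inverse image along R → R/m^(n+1) is E). -/
theorem result
    {k : Type u} [Field k] [IsAlgClosed k]
    {Λ : Type u} [CommRing Λ] [Algebra k Λ] [IsLocalRing Λ] [IsNoetherianRing Λ]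
    [IsAdicComplete (IsLocalRing.maximalIdeal Λ) Λ]
    (hΛ : ∀ a : Λ, ∃ c : k, a - algebraMap k Λ c ∈ IsLocalRing.maximalIdeal Λ)
    {R : Type u} [CommRing R] [Algebra Λ R] [IsLocalRing R] [IsNoetherianRing R]
    [IsLocalHom (algebraMap Λ R)]
    (hR : ∀ r : R, ∃ c : k, r - algebraMap Λ R (algebraMap k Λ c) ∈ IsLocalRing.maximalIdeal R) :
    ∃ n : ℕ, ∀ X : Exal.Ext Λ R (IsLocalRing.ResidueField R),
      ∃ I : Ideal X.E, (∀ x ∈ I, X.proj x = 0 → x = 0) ∧
        Ideal.map X.proj I = IsLocalRing.maximalIdeal R ^ (n + 1) := by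
  classical
  let mR := IsLocalRing.maximalIdeal R
  obtain ⟨d, x, hx⟩ : ∃ (d : ℕ) (x : Fin d → R), Ideal.span (Set.range x) = mR := by
    obtain ⟨s, hs⟩ := IsNoetherian.noetherian mR
    refine ⟨s.card, fun i => (s.equivFin.symm i : R), ?_⟩
    rw [← hs]
    congr 1
    exact (Set.range_comp Subtype.val _).trans (by simp)
  have hxm : ∀ i, x i ∈ mR := fun i => hx.le (Ideal.subset_span ⟨i, rfl⟩)
  let P := MvPowerSeries (Fin d) Λ
  let mP := IsLocalRing.maximalIdeal P
  haveI : IsAdicComplete mP P := Groth.ArtfunDeform.isAdicComplete_ps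
  have hXm : ∀ i, (MvPowerSeries.X i : P) ∈ mP := fun i => by
    rw [Groth.ArtfunDeform.mem_maximalIdeal_ps, MvPowerSeries.constantCoeff_X]
    exact zero_mem _
  let Q : ℕ → Type u := fun i => R ⧸ mR ^ (i + 1)
  haveI hQn : ∀ i, Nontrivial (Q i) := fun i => Ideal.Quotient.nontrivial_iff.2
    fun e => (IsLocalRing.maximalIdeal.isMaximal R).ne_top (top_le_iff.1 (e ▸ Ideal.pow_le_self (Nat.succ_ne_zero i)))
  haveI hQl : ∀ i, IsLocalRing (Q i) := fun i => IsLocalRing.of_surjective' (Ideal.Quotient.mk _) Ideal.Quotient.mk_surjective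
  have hmQ : ∀ i r, Ideal.Quotient.mk (mR ^ (i + 1)) r ∈ IsLocalRing.maximalIdeal (Q i) ↔ r ∈ mR := fun i r => by
    refine ⟨fun h => ?_, fun h => (IsLocalRing.maximalIdeal.isMaximal (Q i)).isPrime.mem_of_pow_mem (i + 1) ?_⟩
    · by_contra hr
      exact (IsLocalRing.mem_maximalIdeal _).1 h ((IsLocalRing.notMem_maximalIdeal.1 hr).map _)
    · rw [← map_pow, Ideal.Quotient.eq_zero_iff_mem.2 (Ideal.pow_mem_pow h _)]
      exact zero_mem _
  have hmQpow : ∀ i, IsLocalRing.maximalIdeal (Q i) ≤ mR.map (Ideal.Quotient.mk (mR ^ (i + 1))) := fun i z hz => by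
    obtain ⟨r, rfl⟩ := Ideal.Quotient.mk_surjective z
    exact Ideal.mem_map_of_mem _ ((hmQ i r).1 hz)
  haveI hQa : ∀ i, IsArtinianRing (Q i) := fun i => by
    haveI : IsNoetherianRing (Q i) := Ideal.Quotient.isNoetherianRing _
    rw [isArtinianRing_iff_isNilpotent_maximalIdeal]
    refine ⟨i + 1, ?_⟩
    rw [Ideal.zero_eq_bot, ← le_bot_iff]
    refine (Ideal.pow_right_mono (hmQpow i) _).trans ?_
    rw [← Ideal.map_pow]
    exact (Ideal.map_quotient_self _).le
  haveI hQc : ∀ i, IsAdicComplete (IsLocalRing.maximalIdeal (Q i)) (Q i) := fun i => Groth.ArtfunDeform.isAdicComplete_artinian (Q i)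
  let θ : ∀ i, P →ₐ[Λ] Q i := fun i =>
    Groth.Calg6.evalAdic (IsLocalRing.maximalIdeal (Q i)) (fun s => Ideal.Quotient.mk _ (x s)) fun s => (hmQ i _).2 (hxm s)
  have hθX : ∀ i s, θ i (MvPowerSeries.X s) = Ideal.Quotient.mk _ (x s) := fun i s => Groth.Calg6.evalAdic_X _ _ _ s
  have hext : ∀ {T : Type u} [CommRing T] [Algebra Λ T] [IsLocalRing T] [IsNoetherianRing T]
      (f g : P →ₐ[Λ] T), (∀ s, f (MvPowerSeries.X s) = g (MvPowerSeries.X s)) →
      (∀ s, f (MvPowerSeries.X s) ∈ IsLocalRing.maximalIdeal T) → ∀ p, f p = g p := fun {T} _ _ _ _ f g h hm p => by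
    have h' : f.toRingHom = g.toRingHom := Groth.ArtfunDeform.psHom_ext (fun a => by
      rw [show (MvPowerSeries.C a : P) = algebraMap Λ P a by
        rw [MvPowerSeries.algebraMap_apply, Algebra.algebraMap_self, RingHom.id_apply]]
      exact (f.commutes a).trans (g.commutes a).symm) h hm
    exact congrArg (fun t : P →+* T => t p) h'
  have hfac : ∀ {i j : ℕ} (hij : i ≤ j), ∀ p,
      Ideal.Quotient.factorₐ Λ (Ideal.pow_le_pow_right (I := mR) (Nat.add_le_add_right hij 1)) (θ j p) = θ i p := fun {i j} hij =>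
    hext ((Ideal.Quotient.factorₐ Λ (Ideal.pow_le_pow_right (I := mR) (Nat.add_le_add_right hij 1))).comp (θ j)) (θ i) (fun s => by rw [AlgHom.comp_apply, hθX, hθX]; rfl)
      (fun s => by rw [AlgHom.comp_apply, hθX]; exact (hmQ i _).2 (hxm s))
  have hθm : ∀ i, (mP.map (θ i)) ⊔ IsLocalRing.maximalIdeal (Q i) ^ 2 = IsLocalRing.maximalIdeal (Q i) ∧
      mR.map (Ideal.Quotient.mk (mR ^ (i + 1))) ≤ mP.map (θ i) := fun i => by
    have h1 : mR.map (Ideal.Quotient.mk (mR ^ (i + 1))) ≤ mP.map (θ i) := by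
      refine Ideal.map_le_iff_le_comap.2 (hx.ge.trans (Ideal.span_le.2 ?_))
      rintro _ ⟨s, rfl⟩
      rw [SetLike.mem_coe, Ideal.mem_comap, ← hθX i s]
      exact Ideal.mem_map_of_mem _ (hXm s)
    refine ⟨le_antisymm (sup_le (IsLocalRing.le_maximalIdeal ?_) (Ideal.pow_le_self two_ne_zero))
      (((hmQpow i).trans h1).trans le_sup_left), h1⟩
    intro htop
    have hle : mP.map (θ i) ≤ IsLocalRing.maximalIdeal (Q i) := by
      refine Ideal.map_le_iff_le_comap.2 fun p hp => ?_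
      rw [Ideal.mem_comap]
      by_contra hne
      have hker : RingHom.ker ((IsLocalRing.residue (Q i)).comp (θ i).toRingHom) ≤ mP :=
        IsLocalRing.le_maximalIdeal (RingHom.ker_ne_top _)
      obtain ⟨r, hr⟩ := Ideal.Quotient.mk_surjective (θ i p)
      obtain ⟨c, hc⟩ := hR r
      have h2 : p - algebraMap Λ P (algebraMap k Λ c) ∈ mP := hker ((RingHom.mem_ker).2 (Ideal.Quotient.eq_zero_iff_mem.2 (by
        change θ i (p - algebraMap Λ P (algebraMap k Λ c)) ∈ _
        rw [map_sub, AlgHom.commutes, ← hr, ← Ideal.Quotient.mk_algebraMap, ← map_sub, hmQ]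
        exact hc)))
      have h3 := sub_mem hp h2
      rw [sub_sub_cancel] at h3
      by_cases hc0 : c = 0
      · rw [hc0, map_zero, map_zero, sub_zero] at hc
        exact hne (hr ▸ (hmQ i r).2 hc)
      · exact (IsLocalRing.mem_maximalIdeal _).1 h3 (((isUnit_iff_ne_zero.2 hc0).map (algebraMap k Λ)).map (algebraMap Λ P))
    exact (IsLocalRing.maximalIdeal.isMaximal (Q i)).ne_top (top_le_iff.1 (htop ▸ hle))
  have hθs : ∀ i, Function.Surjective (θ i) := fun i =>
    Groth.ArtfunDeform.surjective_of_map_maximalIdeal (θ i).toRingHom (fun s => by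
      obtain ⟨r, rfl⟩ := Ideal.Quotient.mk_surjective s
      obtain ⟨c, hc⟩ := hR r
      refine ⟨algebraMap Λ P (algebraMap k Λ c), ?_⟩
      change _ - θ i _ ∈ _
      rw [AlgHom.commutes, ← Ideal.Quotient.mk_algebraMap, ← map_sub, hmQ]
      exact hc) (hθm i).1
  let J : Ideal P := ⨅ i, RingHom.ker (θ i)
  have hB : ∀ q p, θ q p = 0 → p ∈ J ⊔ mP ^ (q + 1) := fun q p hp => by
    have step : ∀ (j : ℕ) (a : P), θ (q + j) (p - a) = 0 →
        ∃ b ∈ mP ^ (q + j + 1), θ (q + (j + 1)) (p - (a + b)) = 0 := fun j a ha => by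
      obtain ⟨r, hr⟩ := Ideal.Quotient.mk_surjective (θ (q + (j + 1)) (p - a))
      have h1 := hfac (Nat.le_succ (q + j)) (p - a)
      rw [ha] at h1
      change Ideal.Quotient.factorₐ Λ _ (θ (q + (j + 1)) (p - a)) = 0 at h1
      rw [← hr] at h1
      have hr' : r ∈ mR ^ (q + j + 1) := Ideal.Quotient.eq_zero_iff_mem.1 h1
      have h2 : θ (q + (j + 1)) (p - a) ∈ (mP ^ (q + j + 1)).map (θ (q + (j + 1))) := by
        rw [← hr, Ideal.map_pow]
        refine Ideal.pow_right_mono (hθm _).2 _ ?_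
        rw [← Ideal.map_pow]
        exact Ideal.mem_map_of_mem _ hr'
      obtain ⟨b, hb, hbe⟩ := (Ideal.mem_map_iff_of_surjective _ (hθs _)).1 h2
      exact ⟨b, hb, by rw [← sub_sub, map_sub, hbe, sub_self]⟩
    choose b hbm hb using step
    let a : ∀ j : ℕ, {a : P // θ (q + j) (p - a) = 0} :=
      Nat.rec ⟨0, by rw [sub_zero]; exact hp⟩ fun j aj => ⟨aj.1 + b j aj.1 aj.2, hb j aj.1 aj.2⟩
    have hamem : ∀ j, (a j).1 ∈ mP ^ (q + 1) := fun j => by
      induction j with
      | zero => exact zero_mem _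
      | succ j ih => exact add_mem ih (Ideal.pow_le_pow_right (by omega) (hbm j (a j).1 (a j).2))
    have hcauchy : ∀ {m n : ℕ}, m ≤ n → (a m).1 - (a n).1 ∈ mP ^ m := fun {m n} hmn => by
      induction n, hmn using Nat.le_induction with
      | base => rw [sub_self]; exact zero_mem _
      | succ n hmn ih =>
        change (a m).1 - ((a n).1 + b n (a n).1 (a n).2) ∈ _
        rw [← sub_sub]
        exact sub_mem ih (Ideal.pow_le_pow_right (by omega) (hbm n (a n).1 (a n).2))
    obtain ⟨A, hA⟩ := IsPrecomplete.prec' (I := mP) (M := P) (fun j => (a j).1) fun {m n} hmn => by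
      rw [SModEq.sub_mem, smul_eq_mul, Ideal.mul_top]
      exact hcauchy hmn
    have hA' : ∀ j, (a j).1 - A ∈ mP ^ j := fun j => by
      have := hA j
      rwa [SModEq.sub_mem, smul_eq_mul, Ideal.mul_top] at this
    have hAm : A ∈ mP ^ (q + 1) := by
      have := sub_mem (hamem (q + 1)) (hA' (q + 1))
      rwa [sub_sub_cancel] at this
    refine Submodule.mem_sup.2 ⟨p - A, Ideal.mem_iInf.2 fun i => ?_, A, hAm, sub_add_cancel p A⟩
    rw [RingHom.mem_ker]
    have h1 : θ i (p - (a (i + 1)).1) = 0 := by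
      rw [← hfac (show i ≤ q + (i + 1) by omega), (a (i + 1)).2, map_zero]
    have h2 : θ i ((a (i + 1)).1 - A) = 0 := by
      have h3 := Ideal.mem_map_of_mem (θ i) (hA' (i + 1))
      rw [Ideal.map_pow] at h3
      have h4 := Ideal.pow_right_mono ((le_sup_left.trans (hθm i).1.le).trans (hmQpow i)) (i + 1) h3
      rwa [← Ideal.map_pow, Ideal.map_quotient_self, Ideal.mem_bot] at h4
    rw [show p - A = (p - (a (i + 1)).1) + ((a (i + 1)).1 - A) by ring, map_add, h1, h2, add_zero]
  obtain ⟨c, hc⟩ := Ideal.exists_pow_inf_eq_pow_smul mP (M := P) J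
  haveI : IsSimpleModule R (IsLocalRing.ResidueField R) :=
    isSimpleModule_iff_quot_maximal.2 ⟨mR, IsLocalRing.maximalIdeal.isMaximal R, ⟨LinearEquiv.refl R (R ⧸ mR)⟩⟩
  refine ⟨c + 1, fun X => ?_⟩
  haveI := Groth.ArtfunDeform.ExalLocal.isLocalRing_E X
  haveI := Groth.ArtfunDeform.ExalLocal.isNoetherianRing_E X
  let mE := IsLocalRing.maximalIdeal X.E
  refine ⟨mE ^ (c + 1 + 1), ?_, Groth.ArtfunDeform.ExalLocal.map_pow_eq X _⟩
  obtain ⟨n₀, hn₀⟩ := Groth.ArtfunDeform.ExalLocal.exists_pow_inf X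
  let q := n₀ + (c + 1)
  obtain ⟨_, hart, hmq⟩ := Groth.ArtfunDeform.ExalLocal.isArtinian_quot X (Nat.succ_ne_zero q)
  haveI := Groth.ArtfunDeform.isAdicComplete_artinian (X.E ⧸ mE ^ (q + 1))
  choose l hl using fun s : Fin d => X.isExtension.proj_surjective (x s)
  have hlm : ∀ s, l s ∈ mE := fun s => (Groth.ArtfunDeform.ExalLocal.mem_maximal_iff X).2 (hl s ▸ hxm s)
  let h : P →ₐ[Λ] X.E ⧸ mE ^ (q + 1) :=
    Groth.Calg6.evalAdic (IsLocalRing.maximalIdeal _) (fun s => Ideal.Quotient.mk _ (l s)) fun s => (hmq _).2 (hlm s)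
  have hhX : ∀ s, h (MvPowerSeries.X s) = Ideal.Quotient.mk _ (l s) := fun s => Groth.Calg6.evalAdic_X _ _ _ s
  have hth : ∀ p, Groth.ArtfunDeform.ExalLocal.truncProj X (q + 1) (h p) = θ q p :=
    hext ((Groth.ArtfunDeform.ExalLocal.truncProj X (q + 1)).comp h) (θ q)
      (fun s => by rw [AlgHom.comp_apply, hhX, Groth.ArtfunDeform.ExalLocal.truncProj_mk, hl, hθX])
      (fun s => by
        rw [AlgHom.comp_apply, hhX, Groth.ArtfunDeform.ExalLocal.truncProj_mk, hl]
        exact (hmQ q _).2 (hxm s))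
  let Ls : Ideal X.E := Ideal.span (Set.range l)
  have hLm : Ls ≤ mE := Ideal.span_le.2 (by rintro _ ⟨s, rfl⟩; exact hlm s)
  have hLK : mE ≤ Ls ⊔ RingHom.ker X.proj := fun e he => by
    have h1 : X.proj e ∈ Ls.map X.proj := by
      rw [Ideal.map_span, ← Set.range_comp, show (X.proj ∘ l) = x from funext hl, hx]
      exact (Groth.ArtfunDeform.ExalLocal.mem_maximal_iff X).1 he
    obtain ⟨y, hy, hye⟩ := (Ideal.mem_map_iff_of_surjective _ X.isExtension.proj_surjective).1 h1
    exact Submodule.mem_sup.2 ⟨y, hy, e - y, by rw [RingHom.mem_ker, map_sub, hye, sub_self], add_sub_cancel y e⟩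
  have hkill : mE * RingHom.ker X.proj = ⊥ := le_bot_iff.1 (Ideal.mul_le.2 fun a ha b hb => by
    rw [Groth.ArtfunDeform.ExalLocal.mul_eq_zero_of_mem X ha hb]
    exact zero_mem _)
  have hpowL : ∀ j, mE ^ (j + 1 + 1) ≤ Ls ^ (j + 1 + 1) := fun j => by
    induction j with
    | zero =>
      rw [pow_two, pow_two]
      refine (Ideal.mul_mono le_rfl hLK).trans ?_
      rw [Ideal.mul_sup, hkill, sup_bot_eq]
      refine (Ideal.mul_mono hLK le_rfl).trans ?_
      rw [Ideal.sup_mul, mul_comm (RingHom.ker X.proj) Ls]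
      refine sup_le le_rfl ((Ideal.mul_mono hLm le_rfl).trans ?_)
      rw [hkill]
      exact bot_le
    | succ j ih =>
      rw [pow_succ, pow_succ (M := Ideal X.E) Ls]
      refine (Ideal.mul_mono ih hLK).trans ?_
      rw [Ideal.mul_sup]
      refine sup_le le_rfl ((Ideal.mul_mono ((Ideal.pow_le_self (Nat.succ_ne_zero _)).trans hLm) le_rfl).trans ?_)
      rw [hkill]
      exact bot_le
  have hrep : ∀ j, ∀ y ∈ Ls ^ (j + 1), ∃ p ∈ mP ^ (j + 1), h p = Ideal.Quotient.mk _ y := fun j => by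
    induction j with
    | zero =>
      intro y hy
      rw [pow_one] at hy ⊢
      obtain ⟨a, rfl⟩ := (Submodule.mem_span_range_iff_exists_fun X.E).1 hy
      choose p hp using fun s : Fin d => hθs q (Ideal.Quotient.mk _ (X.proj (a s)))
      refine ⟨∑ s, p s * MvPowerSeries.X s, Ideal.sum_mem _ fun s _ => Ideal.mul_mem_left _ _ (hXm s), ?_⟩
      rw [map_sum, map_sum]
      refine Finset.sum_congr rfl fun s _ => ?_
      rw [map_mul, hhX, smul_eq_mul]
      obtain ⟨e, he, hb⟩ := Groth.ArtfunDeform.ExalLocal.compat_of_truncProj X ((hth (p s)).trans (hp s))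
      obtain ⟨i, hi, hib⟩ := (Ideal.mem_map_iff_of_surjective _ Ideal.Quotient.mk_surjective).1 hb
      have h1 : h (p s) = Ideal.Quotient.mk _ (e - i) := by rw [map_sub, hib, sub_sub_cancel]
      rw [h1, ← map_mul]
      refine congrArg _ (sub_eq_zero.1 ?_)
      rw [← sub_mul, mul_comm]
      refine Groth.ArtfunDeform.ExalLocal.mul_eq_zero_of_mem X (hlm s) ?_
      rw [map_sub, map_sub, he, show X.proj i = 0 from hi, sub_zero, sub_self]
    | succ j ih =>
      intro y hy
      rw [pow_succ] at hy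
      induction hy using Submodule.mul_induction_on' with
      | mem_mul_mem a ha b hb =>
        obtain ⟨pa, hpa, hea⟩ := ih a ha
        obtain ⟨cb, rfl⟩ := (Submodule.mem_span_range_iff_exists_fun X.E).1 hb
        choose p hp using fun s : Fin d => hθs q (Ideal.Quotient.mk _ (X.proj (cb s)))
        refine ⟨pa * ∑ s, p s * MvPowerSeries.X s, by
          rw [pow_succ mP (j + 1)]
          exact Ideal.mul_mem_mul hpa (Ideal.sum_mem _ fun s _ => Ideal.mul_mem_left _ _ (hXm s)), ?_⟩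
        rw [map_mul, hea, map_mul, map_sum, map_sum]
        congr 1
        refine Finset.sum_congr rfl fun s _ => ?_
        rw [map_mul, hhX, smul_eq_mul]
        obtain ⟨e, he, hb⟩ := Groth.ArtfunDeform.ExalLocal.compat_of_truncProj X ((hth (p s)).trans (hp s))
        obtain ⟨i, hi, hib⟩ := (Ideal.mem_map_iff_of_surjective _ Ideal.Quotient.mk_surjective).1 hb
        have h1 : h (p s) = Ideal.Quotient.mk _ (e - i) := by rw [map_sub, hib, sub_sub_cancel]
        rw [h1, ← map_mul]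
        refine congrArg _ (sub_eq_zero.1 ?_)
        rw [← sub_mul, mul_comm]
        refine Groth.ArtfunDeform.ExalLocal.mul_eq_zero_of_mem X (hlm s) ?_
        rw [map_sub, map_sub, he, show X.proj i = 0 from hi, sub_zero, sub_self]
      | add a _ b _ ha hb =>
        obtain ⟨p, hp, hpe⟩ := ha
        obtain ⟨p', hp', hpe'⟩ := hb
        exact ⟨p + p', add_mem hp hp', by rw [map_add, map_add, hpe, hpe']⟩
  intro z hz hz0
  obtain ⟨p, hp, hpe⟩ := hrep (c + 1) z (hpowL c hz)
  have hθp : θ q p = 0 := by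
    rw [← hth, hpe, Groth.ArtfunDeform.ExalLocal.truncProj_mk, hz0, map_zero]
  obtain ⟨j, hj, r, hr, hjr⟩ := Submodule.mem_sup.1 (hB q p hθp)
  have hhm : mP.map h ≤ IsLocalRing.maximalIdeal (X.E ⧸ mE ^ (q + 1)) := Ideal.map_le_iff_le_comap.2 fun y hy => by
    have h1 : θ q y ∈ IsLocalRing.maximalIdeal (Q q) := (le_sup_left.trans (hθm q).1.le) (Ideal.mem_map_of_mem _ hy)
    obtain ⟨e, he⟩ := Ideal.Quotient.mk_surjective (h y)
    rw [Ideal.mem_comap, ← he, hmq]
    rw [← hth, ← he, Groth.ArtfunDeform.ExalLocal.truncProj_mk] at h1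
    exact (Groth.ArtfunDeform.ExalLocal.mem_maximal_iff X).2 ((hmQ q _).1 h1)
  have hmEq : ∀ y ∈ IsLocalRing.maximalIdeal (X.E ⧸ mE ^ (q + 1)), ∃ e ∈ mE, Ideal.Quotient.mk _ e = y := fun y hy => by
    obtain ⟨e, rfl⟩ := Ideal.Quotient.mk_surjective y
    exact ⟨e, (hmq e).1 hy, rfl⟩
  have hhr : h r = 0 := by
    have h1 : h r ∈ (mP ^ (q + 1)).map h := Ideal.mem_map_of_mem h hr
    rw [Ideal.map_pow] at h1
    have h2 := Ideal.pow_right_mono (hhm.trans (fun y hy => by
      obtain ⟨e, he, rfl⟩ := hmEq y hy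
      exact Ideal.mem_map_of_mem _ he : _ ≤ mE.map (Ideal.Quotient.mk (mE ^ (q + 1))))) (q + 1) h1
    rwa [← Ideal.map_pow, Ideal.map_quotient_self, Ideal.mem_bot] at h2
  have hjm : j ∈ mP ^ (c + 1 + 1) := by
    have : j = p - r := by rw [← hjr]; ring
    rw [this]
    exact sub_mem hp (Ideal.pow_le_pow_right (show c + 1 + 1 ≤ q + 1 by omega) hr)
  have hjmJ : j ∈ mP * J := by
    have h1 : j ∈ mP ^ (c + 1 + 1) • (⊤ : Submodule P P) ⊓ J := ⟨by rw [smul_eq_mul, Ideal.mul_top]; exact hjm, hj⟩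
    rw [hc (c + 1 + 1) (by omega)] at h1
    refine Submodule.smul_mono (Ideal.pow_le_self (by omega)) inf_le_right h1
  have hhj : h j = 0 := by
    refine Submodule.mul_induction_on hjmJ (fun a ha b hb => ?_) fun a b ha hb => by rw [map_add, ha, hb, add_zero]
    obtain ⟨ea, hea, hea'⟩ := hmEq _ (hhm (Ideal.mem_map_of_mem h ha))
    have hb0 : Groth.ArtfunDeform.ExalLocal.truncProj X (q + 1) (h b) = Ideal.Quotient.mk _ (0 : R) := by
      rw [hth, map_zero]
      exact (RingHom.mem_ker).1 (Ideal.mem_iInf.1 hb q)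
    obtain ⟨e, he, hbe⟩ := Groth.ArtfunDeform.ExalLocal.compat_of_truncProj X hb0
    obtain ⟨i, hi, hib⟩ := (Ideal.mem_map_iff_of_surjective _ Ideal.Quotient.mk_surjective).1 hbe
    have h1 : h b = Ideal.Quotient.mk _ (e - i) := by rw [map_sub, hib, sub_sub_cancel]
    rw [map_mul, ← hea', h1, ← map_mul, Groth.ArtfunDeform.ExalLocal.mul_eq_zero_of_mem X hea
      (by rw [map_sub, he, show X.proj i = 0 from hi, sub_zero]), map_zero]
  refine hn₀ (q + 1) (by omega) z ?_ hz0
  rw [← Ideal.Quotient.eq_zero_iff_mem, ← hpe, ← hjr, map_add, hhj, hhr, add_zero]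

end Groth.Agent.S11282
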