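import Groth.Statements.S11283
import Groth.Agent.ArtfunDeform.ExalLocal
import Groth.Agent.ArtfunDeform.Completion
import Groth.Agent.AdicLinTop.CompletionQuot

set_option autoImplicit false
universe u
open Deform

namespace Groth.Agent.S11283

/-- Let k be an algebraically closed field, Λ a complete local Noetherian k-algebra with residue field
k, R a local Noetherian Λ-algebra with local structure map and residue field k, and R̂ the
completion of R at its maximal ideal. Let L be a simple R-module (a one-dimensional k-vector space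
on which R acts through its residue field) carrying a compatible R̂-module structure. Then inverse
image of Λ-extensions along R → R̂ induces a bijection o(R̂/Λ) → o(R/Λ) on classes of Λ-extensions
by L: two Λ-extensions of R̂ by L whose inverse images over R are equivalent are equivalent, and
every Λ-extension of R by L is equivalent to the inverse image of one of R̂. -/
theorem result
    {k : Type u} [Field k] [IsAlgClosed k]
    {Λ : Type u} [CommRing Λ] [Algebra k Λ] [IsLocalRing Λ] [IsNoetherianRing Λ]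
    [IsAdicComplete (IsLocalRing.maximalIdeal Λ) Λ]
    (hΛ : ∀ a : Λ, ∃ c : k, a - algebraMap k Λ c ∈ IsLocalRing.maximalIdeal Λ)
    {R : Type u} [CommRing R] [Algebra Λ R] [IsLocalRing R] [IsNoetherianRing R]
    [IsLocalHom (algebraMap Λ R)]
    (hR : ∀ r : R, ∃ c : k, r - algebraMap Λ R (algebraMap k Λ c) ∈ IsLocalRing.maximalIdeal R)
    (L : Type u) [AddCommGroup L] [Module (AdicCompletion (IsLocalRing.maximalIdeal R) R) L] [Module R L]
    [IsScalarTower R (AdicCompletion (IsLocalRing.maximalIdeal R) R) L] [IsSimpleModule R L] :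
    (∀ X X' : Exal.Ext Λ (AdicCompletion (IsLocalRing.maximalIdeal R) R) L,
        Nonempty ((X.pullback R).Equiv (X'.pullback R)) → Nonempty (X.Equiv X')) ∧
    (∀ Y : Exal.Ext Λ R L, ∃ X : Exal.Ext Λ (AdicCompletion (IsLocalRing.maximalIdeal R) R) L,
        Nonempty ((X.pullback R).Equiv Y)) := by
  classical
  let mR := IsLocalRing.maximalIdeal R
  let T := AdicCompletion mR R
  let mT := IsLocalRing.maximalIdeal T
  have hfg : mR.FG := mR.fg_of_isNoetherianRing
  haveI : IsNoetherianRing T := Groth.ArtfunDeform.isNoetherianRing_completion mR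
  have hmT : mT = mR.map (algebraMap R T) := AdicCompletion.maximalIdeal_eq_map
  have hker : ∀ (n : ℕ) (t : T), AdicCompletion.evalₐ mR n t = 0 ↔ t ∈ mT ^ n := fun n t => by
    rw [hmT, ← Groth.AdicLinTop.CompletionQuot.ker_evalₐ mR hfg n]
    rfl
  have hev : ∀ (n : ℕ) (r : R), AdicCompletion.evalₐ mR n (algebraMap R T r) = Ideal.Quotient.mk (mR ^ n) r :=
    fun n r => Groth.AdicLinTop.CompletionQuot.evalₐ_algebraMap mR n r
  have happrox : ∀ (n : ℕ) (t : T), ∃ r : R, t - algebraMap R T r ∈ mT ^ n := fun n t => by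
    obtain ⟨r, hr⟩ := Ideal.Quotient.mk_surjective (AdicCompletion.evalₐ mR n t)
    exact ⟨r, (hker n _).1 (by rw [map_sub, hev, hr, sub_self])⟩
  have hcomap : ∀ (n : ℕ) (r : R), algebraMap R T r ∈ mT ^ n ↔ r ∈ mR ^ n := fun n r => by
    rw [← hker, hev, Ideal.Quotient.eq_zero_iff_mem]
  haveI : IsSimpleModule T L := by
    refine (isSimpleModule_iff _ _).2 ?_
    haveI := IsSimpleModule.nontrivial R L
    refine { eq_bot_or_eq_top := fun W => ?_ }
    rcases eq_bot_or_eq_top (W.restrictScalars R) with h | h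
    · exact Or.inl ((Submodule.restrictScalars_eq_bot_iff R T L).1 h)
    · exact Or.inr ((Submodule.restrictScalars_eq_top_iff R T L).1 h)
  refine ⟨fun X X' => ?_, fun Y => ?_⟩
  · rintro ⟨e⟩
    haveI := Groth.ArtfunDeform.ExalLocal.isLocalRing_E X
    haveI := Groth.ArtfunDeform.ExalLocal.isLocalRing_E X'
    haveI := Groth.ArtfunDeform.ExalLocal.isLocalRing_E (X.pullback R)
    haveI := Groth.ArtfunDeform.ExalLocal.isLocalRing_E (X'.pullback R)
    obtain ⟨a₀, ha₀⟩ := Groth.ArtfunDeform.ExalLocal.exists_pow_inf X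
    obtain ⟨b₀, hb₀⟩ := Groth.ArtfunDeform.ExalLocal.exists_pow_inf X'
    let n := a₀ + b₀
    let N := IsLocalRing.maximalIdeal X.E ^ n
    let N' := IsLocalRing.maximalIdeal X'.E ^ n
    let ρ : (X.pullback R).E →ₐ[Λ] X.E ⧸ N :=
      (Ideal.Quotient.mkₐ Λ N).comp ((AlgHom.fst Λ X.E R).comp (X.fiberProd R).val)
    let ρ' : (X.pullback R).E →ₐ[Λ] X'.E ⧸ N' :=
      ((Ideal.Quotient.mkₐ Λ N').comp ((AlgHom.fst Λ X'.E R).comp (X'.fiberProd R).val)).comp e.toAlgEquiv.toAlgHom
    let pf : ∀ Z : Exal.Ext Λ T L, (Z.pullback R).E →ₐ[Λ] Z.E := fun Z => (AlgHom.fst Λ Z.E R).comp (Z.fiberProd R).val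
    have hfib : ∀ {Z : Exal.Ext Λ T L} (a : (Z.pullback R).E), Z.proj (pf Z a) = algebraMap R T ((Z.pullback R).proj a) :=
      fun a => a.2
    have hpt : ∀ x : X.E, ∃ a : (X.pullback R).E, ρ a = Ideal.Quotient.mk N x := fun x => by
      obtain ⟨r, hr⟩ := happrox n (X.proj x)
      have h1 : X.proj x - algebraMap R T r ∈ (IsLocalRing.maximalIdeal X.E ^ n).map X.proj := by
        rw [Groth.ArtfunDeform.ExalLocal.map_pow_eq]
        exact hr
      obtain ⟨w, hw, hwe⟩ := (Ideal.mem_map_iff_of_surjective _ X.isExtension.proj_surjective).1 h1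
      refine ⟨⟨(x - w, r), show X.proj (x - w) = algebraMap R T r by rw [map_sub, hwe, sub_sub_cancel]⟩, ?_⟩
      change Ideal.Quotient.mk N (x - w) = _
      rw [map_sub, Ideal.Quotient.eq_zero_iff_mem.2 hw, sub_zero]
    have hρ : Function.Surjective ρ := fun b => by
      obtain ⟨x, rfl⟩ := Ideal.Quotient.mk_surjective b
      exact hpt x
    have hmfst : ∀ {Z : Exal.Ext Λ T L} [IsLocalRing Z.E] [IsLocalRing (Z.pullback R).E] (a : (Z.pullback R).E),
        a ∈ IsLocalRing.maximalIdeal (Z.pullback R).E ^ n → (pf Z a) ∈ IsLocalRing.maximalIdeal Z.E ^ n := by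
      intro Z _ _ a ha
      let fst : (Z.pullback R).E →ₐ[Λ] Z.E := (AlgHom.fst Λ Z.E R).comp (Z.fiberProd R).val
      have h1 : (IsLocalRing.maximalIdeal (Z.pullback R).E).map fst ≤ IsLocalRing.maximalIdeal Z.E :=
        Ideal.map_le_iff_le_comap.2 fun b hb => by
          rw [Ideal.mem_comap, Groth.ArtfunDeform.ExalLocal.mem_maximal_iff Z]
          have h2 : ((Z.pullback R).proj b) ∈ mR := (Groth.ArtfunDeform.ExalLocal.mem_maximal_iff (Z.pullback R)).1 hb
          change Z.proj (pf Z b) ∈ mT
          rw [hfib b, hmT]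
          exact Ideal.mem_map_of_mem _ h2
      have h3 := Ideal.mem_map_of_mem fst ha
      rw [Ideal.map_pow] at h3
      exact Ideal.pow_right_mono h1 n h3
    have hρker : ∀ a, ρ a = 0 → ρ' a = 0 := fun a ha => by
      have h1 : (pf X a) ∈ N := Ideal.Quotient.eq_zero_iff_mem.1 ha
      have h2 : X.proj (pf X a) ∈ mT ^ n := by
        rw [← Groth.ArtfunDeform.ExalLocal.map_pow_eq X]
        exact Ideal.mem_map_of_mem _ h1
      rw [hfib a, hcomap, ← Groth.ArtfunDeform.ExalLocal.map_pow_eq (X.pullback R)] at h2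
      obtain ⟨b, hb, hbe⟩ := (Ideal.mem_map_iff_of_surjective _ (X.pullback R).isExtension.proj_surjective).1 h2
      obtain ⟨z, hz⟩ := ((X.pullback R).isExtension.exact (a - b)).1 (by
        rw [map_sub, hbe]; exact sub_self _)
      have hzN : X.incl z ∈ N := by
        have := congrArg (fun q : (X.pullback R).E => (pf X q)) hz
        change X.incl z = (pf X a) - (pf X b) at this
        rw [this]
        exact sub_mem h1 (hmfst b hb)
      have hz0 : z = 0 := X.isExtension.incl_injective
        ((ha₀ n (Nat.le_add_right _ _) _ hzN (Groth.ArtfunDeform.ExalLocal.proj_incl X z)).trans (map_zero X.incl).symm)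
      rw [hz0, map_zero] at hz
      have hab : a = b := sub_eq_zero.1 hz.symm
      subst hab
      refine Ideal.Quotient.eq_zero_iff_mem.2 (hmfst _ ?_)
      have h3 : e.toAlgEquiv a ∈ (IsLocalRing.maximalIdeal (X.pullback R).E ^ n).map e.toAlgEquiv :=
        Ideal.mem_map_of_mem _ hb
      rw [Ideal.map_pow] at h3
      refine Ideal.pow_right_mono (Ideal.map_le_iff_le_comap.2 fun c hc => ?_) n h3
      rw [Ideal.mem_comap, Groth.ArtfunDeform.ExalLocal.mem_maximal_iff (X'.pullback R), e.proj_apply,
        ← Groth.ArtfunDeform.ExalLocal.mem_maximal_iff]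
      exact hc
    let g : X.E ⧸ N →ₐ[Λ] X'.E ⧸ N' :=
      (Ideal.Quotient.liftₐ (RingHom.ker ρ) ρ' fun a ha => hρker a ha).comp
        (Ideal.quotientKerAlgEquivOfSurjective hρ).symm.toAlgHom
    have hg : ∀ a, g (ρ a) = ρ' a := fun a => by
      have h1 : (Ideal.quotientKerAlgEquivOfSurjective hρ).symm (ρ a) = Ideal.Quotient.mk _ a := by
        rw [AlgEquiv.symm_apply_eq]
        rfl
      simp only [g, AlgHom.comp_apply]
      change Ideal.Quotient.liftₐ (RingHom.ker ρ) ρ' (fun b hb => hρker b hb) ((Ideal.quotientKerAlgEquivOfSurjective hρ).symm (ρ a)) = ρ' a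
      rw [h1]
      rfl
    have hcompat : ∀ x, Groth.ArtfunDeform.ExalLocal.truncProj X' n (g (Ideal.Quotient.mk N x)) =
        Ideal.Quotient.mk (mT ^ n) (X.proj x) := fun x => by
      obtain ⟨a, ha⟩ := hpt x
      rw [← ha, hg]
      change Ideal.Quotient.mk (mT ^ n) (X'.proj (pf X' (e.toAlgEquiv a))) = _
      rw [hfib, show (X'.pullback R).proj (e.toAlgEquiv a) = ((X.pullback R).proj a) from e.proj_apply a, ← hfib a]
      exact congrArg (Groth.ArtfunDeform.ExalLocal.truncProj X n) ha
    obtain ⟨u, hu₁, hu₂⟩ := Groth.ArtfunDeform.ExalLocal.exists_hom X' (hb₀ n (Nat.le_add_left _ _)) X.proj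
      (g.comp (Ideal.Quotient.mkₐ Λ N)) fun x => Groth.ArtfunDeform.ExalLocal.compat_of_truncProj X' (hcompat x)
    have hincl : ∀ z, u (X.incl z) = X'.incl z := fun z => by
      refine Groth.ArtfunDeform.ExalLocal.eq_of_proj_mk X' (hb₀ n (Nat.le_add_left _ _))
        (by rw [hu₁, Groth.ArtfunDeform.ExalLocal.proj_incl, Groth.ArtfunDeform.ExalLocal.proj_incl]) ?_
      rw [hu₂]
      change g (ρ ((X.pullback R).incl z)) = _
      rw [hg]
      change Ideal.Quotient.mk N' (pf X' (e.toAlgEquiv ((X.pullback R).incl z))) = _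
      rw [e.apply_incl]
      rfl
    have hbij : Function.Bijective u := by
      refine ⟨(injective_iff_map_eq_zero u).2 fun x hx => ?_, fun y => ?_⟩
      · obtain ⟨z, rfl⟩ := (X.isExtension.exact x).1 (by rw [← hu₁, hx, map_zero])
        rw [hincl] at hx
        rw [X'.isExtension.incl_injective (hx.trans (map_zero X'.incl).symm), map_zero]
      · obtain ⟨x, hx⟩ := X.isExtension.proj_surjective (X'.proj y)
        obtain ⟨z, hz⟩ := (X'.isExtension.exact (y - u x)).1 (by rw [map_sub, hu₁, hx, sub_self])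
        exact ⟨x + X.incl z, by rw [map_add, hincl, hz, add_sub_cancel]⟩
    exact ⟨⟨AlgEquiv.ofBijective u hbij, hu₁, hincl⟩⟩
  · haveI := Groth.ArtfunDeform.ExalLocal.isLocalRing_E Y
    obtain ⟨n₀, hn₀⟩ := Groth.ArtfunDeform.ExalLocal.exists_pow_inf Y
    let n := n₀ + 1
    let N := IsLocalRing.maximalIdeal Y.E ^ n
    have hN : ∀ x ∈ N, Y.proj x = 0 → x = 0 := hn₀ n (Nat.le_succ _)
    let en : T →ₐ[Λ] R ⧸ mR ^ n := (AdicCompletion.evalₐ mR n).restrictScalars Λ
    let P : Subalgebra Λ ((Y.E ⧸ N) × T) :=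
      AlgHom.equalizer ((Groth.ArtfunDeform.ExalLocal.truncProj Y n).comp (AlgHom.fst Λ (Y.E ⧸ N) T))
        (en.comp (AlgHom.snd Λ (Y.E ⧸ N) T))
    have hPmem : ∀ x : (Y.E ⧸ N) × T, x ∈ P ↔ Groth.ArtfunDeform.ExalLocal.truncProj Y n x.1 = AdicCompletion.evalₐ mR n x.2 :=
      fun _ => Iff.rfl
    have hincl : ∀ z, ((Ideal.Quotient.mk N (Y.incl z), 0) : (Y.E ⧸ N) × T) ∈ P := fun z => (hPmem _).2 (by
      rw [Groth.ArtfunDeform.ExalLocal.truncProj_mk, Groth.ArtfunDeform.ExalLocal.proj_incl, map_zero, map_zero])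
    let incl : L →+ P :=
      { toFun := fun z => ⟨(Ideal.Quotient.mk N (Y.incl z), 0), hincl z⟩
        map_zero' := Subtype.ext (Prod.ext (by simp) rfl)
        map_add' := fun a b => Subtype.ext (Prod.ext
          (show Ideal.Quotient.mk N (Y.incl (a + b)) = Ideal.Quotient.mk N (Y.incl a) + Ideal.Quotient.mk N (Y.incl b) by
            rw [map_add, map_add])
          (show (0 : T) = 0 + 0 by rw [add_zero])) }
    let X : Exal.Ext Λ T L :=
      { E := P
        proj := (AlgHom.snd Λ (Y.E ⧸ N) T).comp P.val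
        incl := incl
        isExtension :=
          { proj_surjective := fun t => by
              obtain ⟨r, hr⟩ := Ideal.Quotient.mk_surjective (AdicCompletion.evalₐ mR n t)
              obtain ⟨y, rfl⟩ := Y.isExtension.proj_surjective r
              exact ⟨⟨(Ideal.Quotient.mk N y, t), (hPmem _).2 hr⟩, rfl⟩
            incl_injective := fun a b hab => Y.isExtension.incl_injective (Groth.ArtfunDeform.ExalLocal.eq_of_proj_mk Y hN
              (by rw [Groth.ArtfunDeform.ExalLocal.proj_incl, Groth.ArtfunDeform.ExalLocal.proj_incl])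
              (congrArg (fun x : P => (x : (Y.E ⧸ N) × T).1) hab))
            exact := fun x => by
              refine ⟨fun hx => ?_, fun ⟨z, hz⟩ => hz ▸ rfl⟩
              obtain ⟨⟨b, t⟩, hxP⟩ := x
              change t = 0 at hx
              subst hx
              have h1 := (hPmem _).1 hxP
              rw [map_zero, ← map_zero (Ideal.Quotient.mk (mR ^ n))] at h1
              obtain ⟨x, hx, hxb⟩ := Groth.ArtfunDeform.ExalLocal.exists_proj_mk Y
                (Groth.ArtfunDeform.ExalLocal.compat_of_truncProj Y h1)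
              obtain ⟨z, hz⟩ := (Y.isExtension.exact x).1 hx
              exact ⟨z, Subtype.ext (Prod.ext ((congrArg (Ideal.Quotient.mk N) hz).trans hxb) rfl)⟩
            mul_incl := fun x z => by
              obtain ⟨⟨b, t⟩, hxP⟩ := x
              obtain ⟨y, rfl⟩ := Ideal.Quotient.mk_surjective b
              refine Subtype.ext (Prod.ext ?_ (mul_zero t))
              change Ideal.Quotient.mk N y * Ideal.Quotient.mk N (Y.incl z) = Ideal.Quotient.mk N (Y.incl (t • z))
              rw [← map_mul, Y.isExtension.mul_incl]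
              congr 2
              have h1 := (hPmem _).1 hxP
              rw [Groth.ArtfunDeform.ExalLocal.truncProj_mk, ← hev] at h1
              have h2 : algebraMap R T (Y.proj y) - t ∈ mT ^ n := (hker n _).1 (by rw [map_sub, h1, sub_self])
              rw [← algebraMap_smul T (Y.proj y) z, ← sub_eq_zero, ← sub_smul]
              exact Groth.ArtfunDeform.ExalLocal.smul_eq_zero (Ideal.pow_le_self (Nat.succ_ne_zero _) h2) z } }
    refine ⟨X, ?_⟩
    let F : Y.E →ₐ[Λ] (X.pullback R).E :=
      { toFun := fun y => ⟨(⟨(Ideal.Quotient.mk N y, algebraMap R T (Y.proj y)), (hPmem _).2 (by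
          rw [Groth.ArtfunDeform.ExalLocal.truncProj_mk, hev])⟩, Y.proj y), rfl⟩
        map_one' := by
          refine Subtype.ext (Prod.ext (Subtype.ext (Prod.ext ?_ ?_)) ?_)
          · exact map_one _
          · exact (congrArg _ (map_one Y.proj)).trans (map_one _)
          · exact map_one Y.proj
        map_mul' := fun a b => by
          refine Subtype.ext (Prod.ext (Subtype.ext (Prod.ext ?_ ?_)) ?_)
          · exact map_mul _ a b
          · exact (congrArg _ (map_mul Y.proj a b)).trans (map_mul _ _ _)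
          · exact map_mul Y.proj a b
        map_zero' := by
          refine Subtype.ext (Prod.ext (Subtype.ext (Prod.ext ?_ ?_)) ?_)
          · exact map_zero _
          · exact (congrArg _ (map_zero Y.proj)).trans (map_zero _)
          · exact map_zero Y.proj
        map_add' := fun a b => by
          refine Subtype.ext (Prod.ext (Subtype.ext (Prod.ext ?_ ?_)) ?_)
          · exact map_add _ a b
          · exact (congrArg _ (map_add Y.proj a b)).trans (map_add _ _ _)
          · exact map_add Y.proj a b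
        commutes' := fun a => by
          refine Subtype.ext (Prod.ext (Subtype.ext (Prod.ext ?_ ?_)) ?_)
          · exact (Ideal.Quotient.mkₐ Λ N).commutes a
          · exact (congrArg _ (Y.proj.commutes a)).trans (IsScalarTower.algebraMap_apply Λ R T a).symm
          · exact Y.proj.commutes a }
    have hFp : ∀ y, (X.pullback R).proj (F y) = Y.proj y := fun y => rfl
    have hFi : ∀ z, F (Y.incl z) = (X.pullback R).incl z := fun z => by
      refine Subtype.ext (Prod.ext (Subtype.ext (Prod.ext rfl ?_)) ?_)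
      · exact (congrArg _ (Groth.ArtfunDeform.ExalLocal.proj_incl Y z)).trans (map_zero _)
      · exact Groth.ArtfunDeform.ExalLocal.proj_incl Y z
    have hFb : Function.Bijective F := by
      refine ⟨(injective_iff_map_eq_zero F).2 fun x hx => ?_, fun y => ?_⟩
      · obtain ⟨z, rfl⟩ := (Y.isExtension.exact x).1 (by rw [← hFp, hx, map_zero])
        rw [hFi] at hx
        rw [(X.pullback R).isExtension.incl_injective (hx.trans (map_zero (X.pullback R).incl).symm), map_zero]
      · obtain ⟨x, hx⟩ := Y.isExtension.proj_surjective ((X.pullback R).proj y)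
        obtain ⟨z, hz⟩ := ((X.pullback R).isExtension.exact (y - F x)).1 (by rw [map_sub, hFp, hx, sub_self])
        exact ⟨x + Y.incl z, by rw [map_add, hFi, hz, add_sub_cancel]⟩
    exact ⟨Exal.Ext.Equiv.symm ⟨AlgEquiv.ofBijective F hFb, hFp, hFi⟩⟩

end Groth.Agent.S11283
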