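import Groth.Statements.S11287
import Groth.Agent.ArtfunDeform.ExalLocal

set_option autoImplicit false
universe u
open Deform

namespace Groth.Agent.S11287

/-- Let k be an algebraically closed field, Λ a complete local Noetherian k-algebra with residue field
k, P = Λ[[X_1, …, X_d]] the power series ring, J an ideal of P contained in (X_1, …, X_d)^2, R =
P/J, and L a simple R-module (a copy of the residue field k). Then: (a) for every Λ-extension 0 → L
→ E → R → 0 the quotient map P → R lifts to a Λ-algebra map u : P → E; (b) for two such extensions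
E, E' with lifts u, u', the extensions are equivalent if and only if u and u' send every element of
J to the images of the same element of L (the restrictions J → L of the lifts agree); (c) every
P-linear map J → L is the restriction of a lift for some extension. Thus the classes of Λ-extensions
of R by L correspond bijectively to Hom_P(J, L), the dual of J/m_P J; this is the identification of
the obstruction space o(R/Λ) for a complete R (the general case reduces to it by passing to the
completion). -/
theorem result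
    {k : Type u} [Field k] [IsAlgClosed k]
    {Λ : Type u} [CommRing Λ] [Algebra k Λ] [IsLocalRing Λ] [IsNoetherianRing Λ]
    [IsAdicComplete (IsLocalRing.maximalIdeal Λ) Λ]
    (hΛ : ∀ a : Λ, ∃ c : k, a - algebraMap k Λ c ∈ IsLocalRing.maximalIdeal Λ)
    (d : ℕ) (J : Ideal (MvPowerSeries (Fin d) Λ))
    (hJ : J ≤ Ideal.span (Set.range (MvPowerSeries.X : Fin d → MvPowerSeries (Fin d) Λ)) ^ 2)
    (L : Type u) [AddCommGroup L] [Module (MvPowerSeries (Fin d) Λ ⧸ J) L] [Module (MvPowerSeries (Fin d) Λ) L]
    [IsScalarTower (MvPowerSeries (Fin d) Λ) (MvPowerSeries (Fin d) Λ ⧸ J) L] [IsSimpleModule (MvPowerSeries (Fin d) Λ ⧸ J) L] :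
    (∀ X : Exal.Ext Λ (MvPowerSeries (Fin d) Λ ⧸ J) L,
        ∃ u : MvPowerSeries (Fin d) Λ →ₐ[Λ] X.E, ∀ p, X.proj (u p) = Ideal.Quotient.mk J p) ∧
    (∀ (X X' : Exal.Ext Λ (MvPowerSeries (Fin d) Λ ⧸ J) L) (u : MvPowerSeries (Fin d) Λ →ₐ[Λ] X.E) (u' : MvPowerSeries (Fin d) Λ →ₐ[Λ] X'.E),
        (∀ p, X.proj (u p) = Ideal.Quotient.mk J p) → (∀ p, X'.proj (u' p) = Ideal.Quotient.mk J p) →
        (Nonempty (X.Equiv X') ↔ ∀ j ∈ J, ∃ z : L, X.incl z = u j ∧ X'.incl z = u' j)) ∧
    (∀ δ : J →ₗ[MvPowerSeries (Fin d) Λ] L, ∃ (X : Exal.Ext Λ (MvPowerSeries (Fin d) Λ ⧸ J) L) (u : MvPowerSeries (Fin d) Λ →ₐ[Λ] X.E),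
        (∀ p, X.proj (u p) = Ideal.Quotient.mk J p) ∧ ∀ j : J, X.incl (δ j) = u j) := by
  classical
  open Groth.ArtfunDeform Groth.ArtfunDeform.ExalLocal in
  let P := MvPowerSeries (Fin d) Λ
  let mP := IsLocalRing.maximalIdeal P
  have hXm : ∀ i, (MvPowerSeries.X i : P) ∈ mP := fun i => by
    rw [Groth.ArtfunDeform.mem_maximalIdeal_ps, MvPowerSeries.constantCoeff_X]
    exact zero_mem _
  have hJm2 : J ≤ mP ^ 2 := hJ.trans (Ideal.pow_right_mono (Ideal.span_le.2 (by rintro _ ⟨i, rfl⟩; exact hXm i)) 2)
  have hJm : J ≤ mP := hJm2.trans (Ideal.pow_le_self two_ne_zero)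
  haveI : Nontrivial (P ⧸ J) := Ideal.Quotient.nontrivial_iff.2
    fun e => (IsLocalRing.maximalIdeal.isMaximal P).ne_top (top_le_iff.1 (e ▸ hJm))
  haveI : IsLocalRing (P ⧸ J) := IsLocalRing.of_surjective' (Ideal.Quotient.mk J) Ideal.Quotient.mk_surjective
  have hmem : ∀ p ∈ mP, Ideal.Quotient.mk J p ∈ IsLocalRing.maximalIdeal (P ⧸ J) := fun p hp => by
    haveI : IsLocalHom (Ideal.Quotient.mk J : P →+* P ⧸ J) := IsLocalHom.of_surjective _ Ideal.Quotient.mk_surjective
    exact map_nonunit (Ideal.Quotient.mk J) p hp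
  refine ⟨fun X => ?_, fun X X' u u' hu hu' => ?_, fun δ => ?_⟩
  · haveI := Groth.ArtfunDeform.ExalLocal.isLocalRing_E X
    haveI := Groth.ArtfunDeform.ExalLocal.isNoetherianRing_E X
    obtain ⟨n₀, hn₀⟩ := Groth.ArtfunDeform.ExalLocal.exists_pow_inf X
    let n := n₀ + 1
    have hn : n ≠ 0 := Nat.succ_ne_zero _
    obtain ⟨_, hart, hmq⟩ := Groth.ArtfunDeform.ExalLocal.isArtinian_quot X hn
    haveI := Groth.ArtfunDeform.isAdicComplete_artinian (X.E ⧸ IsLocalRing.maximalIdeal X.E ^ n)
    choose l hl using fun i : Fin d => X.isExtension.proj_surjective (Ideal.Quotient.mk J (MvPowerSeries.X i))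
    have hlm : ∀ i, l i ∈ IsLocalRing.maximalIdeal X.E := fun i =>
      (Groth.ArtfunDeform.ExalLocal.mem_maximal_iff X).2 (hl i ▸ hmem _ (hXm i))
    let h : P →ₐ[Λ] X.E ⧸ IsLocalRing.maximalIdeal X.E ^ n :=
      Groth.Calg6.evalAdic (IsLocalRing.maximalIdeal _) (fun i => Ideal.Quotient.mk _ (l i)) fun i => (hmq _).2 (hlm i)
    let g : P →ₐ[Λ] P ⧸ J := Ideal.Quotient.mkₐ Λ J
    let Rn := (P ⧸ J) ⧸ IsLocalRing.maximalIdeal (P ⧸ J) ^ n
    have hRm : IsLocalRing.maximalIdeal (P ⧸ J) ^ n ≤ IsLocalRing.maximalIdeal (P ⧸ J) := Ideal.pow_le_self hn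
    haveI : Nontrivial Rn := Ideal.Quotient.nontrivial_iff.2
      fun e => (IsLocalRing.maximalIdeal.isMaximal (P ⧸ J)).ne_top (top_le_iff.1 (e ▸ hRm))
    haveI : IsLocalRing Rn := IsLocalRing.of_surjective' (Ideal.Quotient.mk _) Ideal.Quotient.mk_surjective
    have hkey : ((Groth.ArtfunDeform.ExalLocal.truncProj X n).comp h).toRingHom = ((Ideal.Quotient.mkₐ Λ _).comp g).toRingHom := by
      refine Groth.ArtfunDeform.psHom_ext (fun a => ?_) (fun i => ?_) (fun i => ?_)
      · rw [show (MvPowerSeries.C a : P) = algebraMap Λ P a by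
          rw [MvPowerSeries.algebraMap_apply, Algebra.algebraMap_self, RingHom.id_apply]]
        exact (((Groth.ArtfunDeform.ExalLocal.truncProj X n).comp h).commutes a).trans
          (((Ideal.Quotient.mkₐ Λ _).comp g).commutes a).symm
      · change Groth.ArtfunDeform.ExalLocal.truncProj X n (h (MvPowerSeries.X i)) = _
        rw [Groth.Calg6.evalAdic_X, Groth.ArtfunDeform.ExalLocal.truncProj_mk, hl]
        rfl
      · change Groth.ArtfunDeform.ExalLocal.truncProj X n (h (MvPowerSeries.X i)) ∈ _
        rw [Groth.Calg6.evalAdic_X, Groth.ArtfunDeform.ExalLocal.truncProj_mk, hl]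
        refine (IsLocalRing.maximalIdeal.isMaximal Rn).isPrime.mem_of_pow_mem n ?_
        rw [← map_pow, Ideal.Quotient.eq_zero_iff_mem.2 (Ideal.pow_mem_pow (hmem _ (hXm i)) n)]
        exact zero_mem _
    obtain ⟨u, hu, -⟩ := Groth.ArtfunDeform.ExalLocal.exists_hom X (hn₀ n (Nat.le_succ _)) g h fun q =>
      Groth.ArtfunDeform.ExalLocal.compat_of_truncProj X (congrArg (fun t : P →+* Rn => t q) hkey)
    exact ⟨u, hu⟩
  · haveI := Groth.ArtfunDeform.ExalLocal.isLocalRing_E X'
    constructor
    · rintro ⟨e⟩ j hj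
      obtain ⟨z, hz⟩ := (X.isExtension.exact (u j)).1 (by rw [hu]; exact Ideal.Quotient.eq_zero_iff_mem.2 hj)
      refine ⟨z, hz, ?_⟩
      let u₁ : P →ₐ[Λ] X'.E := e.toAlgEquiv.toAlgHom.comp u
      have hu₁ : ∀ p, X'.proj (u₁ p) = Ideal.Quotient.mk J p := fun p => (e.proj_apply _).trans (hu p)
      have hagree : ∀ y ∈ mP ^ 2, u₁ y = u' y := by
        intro y hy
        rw [pow_two] at hy
        induction hy using Submodule.mul_induction_on' with
        | mem_mul_mem a ha b hb =>
          have hd : ∀ p, X'.proj (u₁ p - u' p) = 0 := fun p => by rw [map_sub, hu₁, hu', sub_self]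
          have hmu : ∀ p ∈ mP, ∀ v : P →ₐ[Λ] X'.E, (∀ q, X'.proj (v q) = Ideal.Quotient.mk J q) → v p ∈ IsLocalRing.maximalIdeal X'.E :=
            fun p hp v hv => (Groth.ArtfunDeform.ExalLocal.mem_maximal_iff X').2 ((hv p).symm ▸ hmem p hp)
          have e1 := Groth.ArtfunDeform.ExalLocal.mul_eq_zero_of_mem X' (hmu a ha u₁ hu₁) (hd b)
          have e2 := Groth.ArtfunDeform.ExalLocal.mul_eq_zero_of_mem X' (hmu b hb u' hu') (hd a)
          rw [map_mul, map_mul]
          linear_combination e1 + e2
        | add a _ b _ ha hb => rw [map_add, map_add, ha, hb]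
      rw [← hagree j (hJm2 hj), ← e.apply_incl, hz]
      rfl
    · intro hz
      choose zf hzf hzf' using hz
      have huniq : ∀ (p : P) (z : L), u p + X.incl z = 0 → u' p + X'.incl z = 0 := fun p z h => by
        have hp : p ∈ J := by
          have := congrArg X.proj h
          rw [map_add, hu, Groth.ArtfunDeform.ExalLocal.proj_incl, add_zero, map_zero] at this
          exact Ideal.Quotient.eq_zero_iff_mem.1 this
        have hzz : zf p hp + z = 0 := X.isExtension.incl_injective (by rw [map_add, hzf, h, map_zero])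
        rw [← hzf' p hp, ← map_add, hzz, map_zero]
      have hrep : ∀ x : X.E, ∃ (p : P) (z : L), x = u p + X.incl z := fun x => by
        obtain ⟨p, hp⟩ := Ideal.Quotient.mk_surjective (X.proj x)
        obtain ⟨z, hz⟩ := (X.isExtension.exact (x - u p)).1 (by rw [map_sub, hu, hp, sub_self])
        exact ⟨p, z, by rw [hz, add_sub_cancel]⟩
      choose pf zg hpz using hrep
      let F : X.E → X'.E := fun x => u' (pf x) + X'.incl (zg x)
      have hF : ∀ p z, F (u p + X.incl z) = u' p + X'.incl z := fun p z => by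
        have h0 := huniq (pf (u p + X.incl z) - p) (zg (u p + X.incl z) - z) (by
          rw [map_sub, map_sub]
          linear_combination (hpz (u p + X.incl z)).symm)
        rw [map_sub, map_sub] at h0
        linear_combination h0
      have hFu : ∀ p, F (u p) = u' p := fun p => by
        have := hF p 0
        rwa [map_zero, map_zero, add_zero, add_zero] at this
      let Fhom : X.E →ₐ[Λ] X'.E :=
        { toFun := F
          map_one' := by rw [← map_one u, hFu, map_one]
          map_zero' := by rw [← map_zero u, hFu, map_zero]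
          map_add' := fun x y => by
            have := hF (pf x + pf y) (zg x + zg y)
            rw [map_add, map_add, add_add_add_comm, ← hpz, ← hpz] at this
            rw [this, map_add, map_add, add_add_add_comm]
          map_mul' := fun x y => by
            have e1 := X.isExtension.mul_incl (u (pf x)) (zg y)
            have e2 := X.isExtension.mul_incl (u (pf y)) (zg x)
            have e3 := Groth.ArtfunDeform.ExalLocal.mul_eq_zero_of_proj X
              (Groth.ArtfunDeform.ExalLocal.proj_incl X (zg x)) (Groth.ArtfunDeform.ExalLocal.proj_incl X (zg y))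
            have e1' := X'.isExtension.mul_incl (u' (pf x)) (zg y)
            have e2' := X'.isExtension.mul_incl (u' (pf y)) (zg x)
            have e3' := Groth.ArtfunDeform.ExalLocal.mul_eq_zero_of_proj X'
              (Groth.ArtfunDeform.ExalLocal.proj_incl X' (zg x)) (Groth.ArtfunDeform.ExalLocal.proj_incl X' (zg y))
            rw [hu] at e1 e2
            rw [hu'] at e1' e2'
            have hxy : x * y = u (pf x * pf y) + X.incl (Ideal.Quotient.mk J (pf x) • zg y + Ideal.Quotient.mk J (pf y) • zg x) := by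
              conv_lhs => rw [hpz x, hpz y]
              rw [map_mul, map_add]
              linear_combination e1 + e2 + e3
            change F (x * y) = (u' (pf x) + X'.incl (zg x)) * (u' (pf y) + X'.incl (zg y))
            rw [hxy, hF, map_mul, map_add]
            linear_combination -e1' - e2' - e3'
          commutes' := fun a => by
            change F (algebraMap Λ X.E a) = _
            rw [← u.commutes a, hFu, u'.commutes] }
      have hincl : ∀ z, Fhom (X.incl z) = X'.incl z := fun z => by
        have := hF 0 z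
        rwa [map_zero, map_zero, zero_add, zero_add] at this
      have hproj : ∀ x, X'.proj (Fhom x) = X.proj x := fun x => by
        change X'.proj (u' (pf x) + X'.incl (zg x)) = X.proj x
        conv_rhs => rw [hpz x]
        rw [map_add, map_add, hu, hu', Groth.ArtfunDeform.ExalLocal.proj_incl, Groth.ArtfunDeform.ExalLocal.proj_incl]
      have hbij : Function.Bijective Fhom := by
        refine ⟨(injective_iff_map_eq_zero Fhom).2 fun x hx => ?_, fun y => ?_⟩
        · obtain ⟨z, rfl⟩ := (X.isExtension.exact x).1 (by rw [← hproj, hx, map_zero])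
          rw [hincl] at hx
          rw [X'.isExtension.incl_injective (hx.trans (map_zero X'.incl).symm), map_zero]
        · obtain ⟨x, hx⟩ := X.isExtension.proj_surjective (X'.proj y)
          obtain ⟨z, hz⟩ := (X'.isExtension.exact (y - Fhom x)).1 (by rw [map_sub, hproj, hx, sub_self])
          exact ⟨x + X.incl z, by rw [map_add, hincl, hz, add_sub_cancel]⟩
      exact ⟨⟨AlgEquiv.ofBijective Fhom hbij, hproj, hincl⟩⟩
  · have hsm : ∀ (p : P) (z : L), p • z = Ideal.Quotient.mk J p • z := fun p z => by
      rw [← algebraMap_smul (P ⧸ J) p z]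
      rfl
    by_cases hδ : ∀ j, δ j = 0
    · letI := Exal.opModule (P ⧸ J) L
      haveI := Exal.isCentralScalar_opModule (P ⧸ J) L
      let X₀ := Exal.Ext.trivial Λ (P ⧸ J) L
      let s : (P ⧸ J) →ₐ[Λ] Exal.Ext.TrivCarrier Λ (P ⧸ J) L :=
        { toFun := TrivSqZeroExt.inl
          map_one' := rfl
          map_mul' := fun a b => (TrivSqZeroExt.inlHom (P ⧸ J) L).map_mul a b
          map_zero' := rfl
          map_add' := fun a b => TrivSqZeroExt.inl_add L a b
          commutes' := fun _ => rfl }
      refine ⟨X₀, s.comp (Ideal.Quotient.mkₐ Λ J), fun p => rfl, fun j => ?_⟩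
      rw [hδ, map_zero]
      change 0 = s (Ideal.Quotient.mk J (j : P))
      rw [Ideal.Quotient.eq_zero_iff_mem.2 j.2, map_zero]
    · push Not at hδ
      obtain ⟨j₀, hj₀⟩ := hδ
      let K : Ideal P := (LinearMap.ker δ).map J.subtype
      have hK : K ≤ J := Submodule.map_subtype_le _ _
      have hKmem : ∀ j : ↥J, (j : P) ∈ K ↔ δ j = 0 := fun j =>
        ⟨fun ⟨j', hj', e⟩ => Subtype.ext e ▸ hj', fun h => ⟨j, h, rfl⟩⟩
      have hsurj : ∀ z, ∃ j, δ j = z := fun z => by
        obtain ⟨r, hr⟩ := Groth.ArtfunDeform.ExalLocal.exists_smul_eq (R := P ⧸ J) hj₀ z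
        obtain ⟨p, rfl⟩ := Ideal.Quotient.mk_surjective r
        exact ⟨p • j₀, by rw [map_smul, hsm, hr]⟩
      choose sec hsec using hsurj
      have hdiff : ∀ (z : L) (j : ↥J), δ j = z → Ideal.Quotient.mk K (sec z : P) = Ideal.Quotient.mk K (j : P) := fun z j hj =>
        Ideal.Quotient.eq.2 ((hKmem (sec z - j)).2 (by rw [map_sub, hsec, hj, sub_self]))
      let incl : L →+ P ⧸ K :=
        { toFun := fun z => Ideal.Quotient.mk K (sec z : P)
          map_zero' := by
            rw [hdiff 0 0 (map_zero δ), ZeroMemClass.coe_zero, map_zero]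
          map_add' := fun a b => by
            rw [hdiff (a + b) (sec a + sec b) (by rw [map_add, hsec, hsec]), Submodule.coe_add, map_add] }
      let X : Exal.Ext Λ (P ⧸ J) L :=
        { E := P ⧸ K
          proj := Ideal.Quotient.factorₐ Λ hK
          incl := incl
          isExtension :=
            { proj_surjective := fun r => by
                obtain ⟨p, rfl⟩ := Ideal.Quotient.mk_surjective r
                exact ⟨Ideal.Quotient.mk K p, rfl⟩
              incl_injective := fun a b hab => by
                have h1 : δ (sec a - sec b) = 0 := (hKmem _).1 (Ideal.Quotient.eq.1 hab)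
                rwa [map_sub, hsec, hsec, sub_eq_zero] at h1
              exact := fun x => by
                obtain ⟨p, rfl⟩ := Ideal.Quotient.mk_surjective x
                refine ⟨fun hp => ?_, fun ⟨z, hz⟩ => ?_⟩
                · exact ⟨δ ⟨p, Ideal.Quotient.eq_zero_iff_mem.1 hp⟩, hdiff _ _ rfl⟩
                · rw [← hz]
                  exact Ideal.Quotient.eq_zero_iff_mem.2 (sec z).2
              mul_incl := fun x z => by
                obtain ⟨p, rfl⟩ := Ideal.Quotient.mk_surjective x
                refine ((hdiff (Ideal.Quotient.mk J p • z) (p • sec z) (by rw [map_smul, hsec, hsm])).trans ?_).symm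
                rw [Submodule.coe_smul, smul_eq_mul, map_mul]
                rfl } }
      exact ⟨X, Ideal.Quotient.mkₐ Λ K, fun p => rfl, fun j => hdiff (δ j) j rfl⟩

end Groth.Agent.S11287
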