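import Groth.Statements.S11288
import Mathlib.LinearAlgebra.Basis.VectorSpace
import Mathlib.LinearAlgebra.Dual.Lemmas
import Mathlib.Tactic.LinearCombination
import Mathlib.RingTheory.Ideal.Quotient.Operations

set_option autoImplicit false
universe u
open Deform

namespace Groth.Agent.S11288

/-- Let K be a field, R' a local Artinian K-algebra with residue field K, and t a nonzero element of the
maximal ideal m' of R' with m' t = 0, so that R' → R = R'/(t) is a small extension of R. Then the
extension is trivial, i.e. the projection admits a section which is a K-algebra map, if and only if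
t is not in m'^2; equivalently, iff the surjection m'/m'^2 → m_R/m_R^2 induced on cotangent spaces,
whose kernel is spanned by the class of t, is not bijective. For instance K[t]/(t^(n+1)) →
K[t]/(t^n) is a non-trivial small extension for n ≥ 2. (The published example allows any local
K-algebra with residue field K; the row takes R' Artinian, the case in which the subalgebra
generated by lifts of a basis of the cotangent space maps onto R.) -/
theorem result
    {K : Type u} [Field K]
    {R' : Type u} [CommRing R'] [Algebra K R'] [IsLocalRing R'] [IsArtinianRing R']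
    (hres : ∀ a : R', ∃ c : K, a - algebraMap K R' c ∈ IsLocalRing.maximalIdeal R')
    (t : R') (ht : t ∈ IsLocalRing.maximalIdeal R') (ht0 : t ≠ 0)
    (htm : ∀ a ∈ IsLocalRing.maximalIdeal R', a * t = 0) :
    (∃ s : (R' ⧸ Ideal.span {t}) →ₐ[K] R', ∀ x, Ideal.Quotient.mk (Ideal.span {t}) (s x) = x) ↔
      t ∉ IsLocalRing.maximalIdeal R' ^ 2 := by
  classical
  choose res hr using hres
  have hmk : ∀ (a : R') (c : K), a - algebraMap K R' c ∈ IsLocalRing.maximalIdeal R' → res a = c := fun a c h => by
    by_contra hne
    have h1 : algebraMap K R' (res a - c) ∈ IsLocalRing.maximalIdeal R' := by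
      have := sub_mem h (hr a)
      rwa [sub_sub_sub_cancel_left, ← map_sub] at this
    exact (IsLocalRing.mem_maximalIdeal _).1 h1 ((isUnit_iff_ne_zero.2 (sub_ne_zero.2 hne)).map _)
  have htsq : t * t = 0 := htm t ht
  constructor
  · rintro ⟨s, hs⟩ ht2
    let g : R' → R' := fun a => s (Ideal.Quotient.mk _ a)
    have hg : ∀ a, a - g a ∈ Ideal.span {t} := fun a => (Ideal.Quotient.eq).1 (hs _).symm
    have hgm : ∀ a ∈ IsLocalRing.maximalIdeal R', g a ∈ IsLocalRing.maximalIdeal R' := fun a ha => by
      have := sub_mem ha (((Ideal.span_singleton_le_iff_mem _).2 ht) (hg a))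
      rwa [sub_sub_cancel] at this
    have h0 : ∀ m ∈ IsLocalRing.maximalIdeal R', ∀ x ∈ Ideal.span {t}, m * x = 0 := fun m hm x hx => by
      obtain ⟨c, rfl⟩ := Ideal.mem_span_singleton'.1 hx
      rw [mul_left_comm, htm m hm, mul_zero]
    have key : ∀ x ∈ IsLocalRing.maximalIdeal R' ^ 2, g x = x := by
      intro x hx
      rw [pow_two] at hx
      induction hx using Submodule.mul_induction_on' with
      | mem_mul_mem a ha b hb =>
        have e : a * b - g a * g b = b * (a - g a) + g a * (b - g b) := by ring
        rw [h0 b hb _ (hg a), h0 _ (hgm a ha) _ (hg b), add_zero, sub_eq_zero] at e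
        refine Eq.trans ?_ e.symm
        simp only [g, map_mul]
      | add a _ b _ ha hb =>
        have : g (a + b) = g a + g b := by simp only [g, map_add]
        rw [this, ha, hb]
    refine ht0 ((key t ht2).symm.trans ?_)
    simp only [g]
    rw [Ideal.Quotient.eq_zero_iff_mem.2 (Ideal.mem_span_singleton_self t), map_zero]
  · intro ht2
    let N : Submodule K R' := (IsLocalRing.maximalIdeal R' ^ 2).restrictScalars K
    obtain ⟨l₀, hl₀, hlN⟩ := Submodule.exists_dual_map_eq_bot_of_notMem (p := N) ht2 inferInstance
    let L : R' → K := fun a => (l₀ t)⁻¹ * l₀ (a - algebraMap K R' (res a))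
    have hresmul : ∀ a b, res (a * b) = res a * res b := fun a b => hmk _ _ (by
      rw [map_mul, show a * b - algebraMap K R' (res a) * algebraMap K R' (res b) =
        a * (b - algebraMap K R' (res b)) + algebraMap K R' (res b) * (a - algebraMap K R' (res a)) by ring]
      exact add_mem (Ideal.mul_mem_left _ _ (hr b)) (Ideal.mul_mem_left _ _ (hr a)))
    have hresadd : ∀ a b, res (a + b) = res a + res b := fun a b => hmk _ _ (by
      rw [map_add, add_sub_add_comm]
      exact add_mem (hr a) (hr b))
    have hresalg : ∀ c, res (algebraMap K R' c) = c := fun c => hmk _ _ (by rw [sub_self]; exact zero_mem _)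
    have hrest : res t = 0 := hmk _ _ (by rw [map_zero, sub_zero]; exact ht)
    have hLadd : ∀ a b, L (a + b) = L a + L b := fun a b => by
      simp only [L, hresadd, ← mul_add]
      rw [← map_add l₀, map_add (algebraMap K R'), add_sub_add_comm]
    have hLalg : ∀ c, L (algebraMap K R' c) = 0 := fun c => by simp [L, hresalg]
    have hLmul : ∀ a b, L (a * b) = res a * L b + res b * L a := fun a b => by
      have e : a * b - algebraMap K R' (res (a * b)) = res a • (b - algebraMap K R' (res b)) +
          res b • (a - algebraMap K R' (res a)) + (a - algebraMap K R' (res a)) * (b - algebraMap K R' (res b)) := by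
        rw [hresmul, map_mul, Algebra.smul_def, Algebra.smul_def]
        ring
      have h2 : l₀ ((a - algebraMap K R' (res a)) * (b - algebraMap K R' (res b))) = 0 := by
        have hm : (a - algebraMap K R' (res a)) * (b - algebraMap K R' (res b)) ∈ N := by
          change _ ∈ IsLocalRing.maximalIdeal R' ^ 2
          rw [pow_two]
          exact Ideal.mul_mem_mul (hr a) (hr b)
        have : l₀ ((a - algebraMap K R' (res a)) * (b - algebraMap K R' (res b))) ∈ N.map l₀ := ⟨_, hm, rfl⟩
        rwa [hlN, Submodule.mem_bot] at this
      simp only [L, e, map_add, map_smul, h2, add_zero, smul_eq_mul]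
      ring
    have hLt : L t = 1 := by
      simp only [L, hrest, map_zero, sub_zero]
      exact inv_mul_cancel₀ hl₀
    let r : R' →ₐ[K] R' :=
      { toFun := fun a => a - algebraMap K R' (L a) * t
        map_one' := by rw [← map_one (algebraMap K R'), hLalg, map_zero, zero_mul, sub_zero]
        map_zero' := by rw [← map_zero (algebraMap K R'), hLalg, map_zero, zero_mul, sub_zero]
        map_add' := fun a b => by rw [hLadd, map_add]; ring
        map_mul' := fun a b => by
          rw [hLmul, map_add (algebraMap K R'), map_mul (algebraMap K R') (res a), map_mul (algebraMap K R') (res b)]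
          have ha : a * t = algebraMap K R' (res a) * t := by rw [← sub_eq_zero, ← sub_mul]; exact htm _ (hr a)
          have hb : b * t = algebraMap K R' (res b) * t := by rw [← sub_eq_zero, ← sub_mul]; exact htm _ (hr b)
          linear_combination (algebraMap K R' (L b)) * ha + (algebraMap K R' (L a)) * hb -
            (algebraMap K R' (L a) * algebraMap K R' (L b)) * htsq
        commutes' := fun c => by rw [hLalg, map_zero, zero_mul, sub_zero] }
    have hrt : r t = 0 := by
      change t - algebraMap K R' (L t) * t = 0
      rw [hLt, map_one, one_mul, sub_self]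
    refine ⟨Ideal.Quotient.liftₐ _ r fun x hx => ?_, fun x => ?_⟩
    · obtain ⟨c, rfl⟩ := Ideal.mem_span_singleton'.1 hx
      rw [map_mul, hrt, mul_zero]
    · obtain ⟨a, rfl⟩ := Ideal.Quotient.mk_surjective x
      change Ideal.Quotient.mk _ (a - algebraMap K R' (L a) * t) = _
      rw [map_sub, map_mul, Ideal.Quotient.eq_zero_iff_mem.2 (Ideal.mem_span_singleton_self t), mul_zero, sub_zero]

end Groth.Agent.S11288
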