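import Groth.Statements.S11289
import Groth.Agent.SGA7.Torsor
import Groth.Agent.SGA7.TangentH1
import Groth.Agent.CohTwo.SheafHomIso
import Groth.Agent.S12483
import Groth.Agent.S12726
import Groth.Agent.OmegaSheaf.Smooth
-- import your own Groth.Agent.* helpers here

set_option autoImplicit false
universe u
open CategoryTheory CategoryTheory.Limits AlgebraicGeometry
open Deform

namespace Groth.Agent.S11289

open ArtFun ArtFun.Art Groth.ArtfunDeform Groth.SGA7Def

/-- With vanishing tangent space there is only the trivial deformation. -/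
lemma subsingleton_obj {k : Type u} [Field k] {X : Scheme.{u}} {x : X ⟶ Art.specPt k}
    [Subsingleton ((defFunctor (Λ := k) X x).obj (dual k k))] (A : Art k k) :
    Subsingleton ((defFunctor (Λ := k) X x).obj A) := by
  refine surj_induction (fun C B _ => Subsingleton ((defFunctor (Λ := k) X x).obj C) →
    Subsingleton ((defFunctor (Λ := k) X x).obj B)) ?_ ?_ ?_ (toBase A) A.res_surjective (h0_sch X x).2
  · intro C B e _ hC
    exact (bijective_map_of_isIso (defFunctor (Λ := k) X x) e).1.subsingleton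
  · intro C B p hp hC
    refine ⟨fun a b => ?_⟩
    obtain ⟨ξ₁, rfl⟩ := exists_cl' a
    obtain ⟨ξ₂, rfl⟩ := exists_cl' b
    obtain ⟨φ⟩ := cl_eq_iff'.1 (Subsingleton.elim (ξ₁.baseChange p).cl (ξ₂.baseChange p).cl)
    obtain ⟨D, p₁, p₂, hD⟩ := exists_isFibreProd p p hp.1
    obtain ⟨n, q, eJ, hq⟩ := exists_diff_map hp.isSemismallExt hD
    obtain ⟨e₁⟩ := nonempty_extn_equiv (X := X) (x := x) hp.1 hD ⟨ξ₁, DefSch.Iso.refl _⟩ q hq
    obtain ⟨e₂⟩ := nonempty_powEquiv (F := defFunctor (Λ := k) X x) (h0_sch X x) (heps_sch X x) n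
    haveI := (e₁.trans e₂).subsingleton
    exact congrArg (Quot.lift (fun t : Extn p (ξ₁.baseChange p) => t.1.cl) fun s t ⟨ψ, _⟩ => (cl_eq_iff'.2 ⟨SHom.ofIso ψ⟩).symm)
      (Subsingleton.elim (Quot.mk _ ⟨ξ₁, DefSch.Iso.refl _⟩) (Quot.mk (ExtnRel p _) ⟨ξ₂, φ.toIso⟩))
  · exact fun _ _ _ _ _ hp hq hA => hp (hq hA)

/-- Let k be an algebraically closed field and X a nonsingular variety over k (an integral scheme,
separated, quasi-compact and smooth over Spec k). Call X rigid when every infinitesimal deformation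
of X is trivial: for every local Artinian k-algebra A with a k-algebra augmentation e : A → k, every
scheme Y flat over Spec A and every morphism i : X → Y making X the fibre of Y over the closed point
Spec k → Spec A, there is an isomorphism of Y with the product X ×_k Spec A over Spec A under which
i becomes the canonical inclusion of X. Then X is rigid if and only if H^1(X, T_X) = 0, written here
as the vanishing of Ext^1(Ω_{X/k}, O_X) in the category of O_X-modules (the same group, Ω_{X/k}
being locally free). The Artinian algebras A range over the universe of X. -/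
theorem result
    {k : Type u} [Field k] [IsAlgClosed k]
    (X : Scheme.{u}) [X.Over (Spec (CommRingCat.of k))] [IsIntegral X]
    [Smooth (X ↘ Spec (CommRingCat.of k))] [IsSeparated (X ↘ Spec (CommRingCat.of k))]
    [QuasiCompact (X ↘ Spec (CommRingCat.of k))] [HasExt.{u} X.Modules] :
    (∀ (A : Type u) [CommRing A] [Algebra k A] [IsLocalRing A] [IsArtinianRing A] (e : A →ₐ[k] k)
        (Y : Scheme.{u}) (f : Y ⟶ Spec (CommRingCat.of A)) (i : X ⟶ Y), Flat f →
        IsPullback i (X ↘ Spec (CommRingCat.of k)) f (Spec.map (CommRingCat.ofHom e.toRingHom)) →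
        ∃ φ : Y ≅ pullback (X ↘ Spec (CommRingCat.of k)) (Spec.map (CommRingCat.ofHom (algebraMap k A))),
          φ.hom ≫ pullback.snd _ _ = f ∧ i ≫ φ.hom ≫ pullback.fst _ _ = 𝟙 X) ↔
    Subsingleton (Abelian.Ext.{u} (Omega.sheaf (X ↘ Spec (CommRingCat.of k))) (Coh.structureModule X) 1) := by
  let x := X ↘ Spec (CommRingCat.of k)
  let F := defFunctor (Λ := k) X x
  haveI : LocallyOfFiniteType x := inferInstance
  haveI : ArtFun.TangentStr F := (Groth.Agent.S12726.result F (h0_sch X x) (heps_sch X x)).some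
  haveI : DCoh.HasSheafHom (Omega.sheaf x) := Groth.CohTwo.LocFreeExt.hasSheafHom _
  obtain ⟨e⟩ := nonempty_linearEquiv_h1 k x
  obtain ⟨eE⟩ := Groth.Agent.S12483.result X (Omega.sheaf x) (Coh.structureModule X)
    (Groth.OmegaSheaf.isFinLocFree_sheaf x) 1
  let φ := Groth.CohTwo.SheafHomIso.iso (Omega.sheaf x) (Coh.structureModule X)
  let ψ : Groth.CohFin.HA x (tanSh x) 1 ≃ₗ[k]
      Groth.CohFin.HA x ((DCoh.sheafHom (Omega.sheaf x)).obj (Coh.structureModule X)) 1 :=
    LinearEquiv.ofLinear (Groth.CohFin.mapL x φ.inv 1) (Groth.CohFin.mapL x φ.hom 1)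
      (LinearMap.ext fun a => (Groth.CohFin.mapL_comp x φ.hom φ.inv 1 a).symm.trans
        (by rw [φ.hom_inv_id, Groth.CohFin.mapL_id]; rfl))
      (LinearMap.ext fun a => (Groth.CohFin.mapL_comp x φ.inv φ.hom 1 a).symm.trans
        (by rw [φ.inv_hom_id, Groth.CohFin.mapL_id]; rfl))
  let E : F.obj (dual k k) ≃ Abelian.Ext.{u} (Omega.sheaf x) (Coh.structureModule X) 1 :=
    (e.trans ψ).toEquiv.trans eE.toEquiv.symm
  constructor
  · intro hrig
    refine (E.subsingleton_congr).1 ⟨fun a b => ?_⟩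
    obtain ⟨ξ₁, rfl⟩ := exists_cl' a
    obtain ⟨ξ₂, rfl⟩ := exists_cl' b
    have key : ∀ ξ : DefSch X x (dual k k), ξ.cl = (DefSch.trivial X x (flat_of_field x) (dual k k)).cl := fun ξ => by
      obtain ⟨θ, hθ, hi⟩ := hrig (dual k k) (dual k k).res ξ.total ξ.f ξ.i ξ.flat ξ.isPullback
      refine (cl_eq_iff'.2 ⟨SHom.ofIso (ξ' := ξ) ⟨θ, hθ, ?_⟩⟩).symm
      apply pullback.hom_ext
      · exact ((Category.assoc _ _ _).trans hi).trans (DefSch.baseChange_i_fst (DefSch.self X x (flat_of_field x)) (Art.ofBase (dual k k))).symm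
      · exact (((Category.assoc _ _ _).trans (congrArg (ξ.i ≫ ·) hθ)).trans ξ.i_f).trans (DefSch.baseChange_i_f _ _).symm
    rw [key ξ₁, key ξ₂]
  · intro hsub A _ _ _ _ e Y f i hf hY
    haveI : Subsingleton (F.obj (dual k k)) := E.subsingleton
    let A' : Art k k := Art.of A e fun a => ⟨algebraMap k A a, e.commutes a⟩
    haveI := subsingleton_obj (X := X) (x := x) A'
    let ξ : DefSch X x A' := ⟨Y, f, hf, i, hY⟩
    obtain ⟨θ₀⟩ := cl_eq_iff'.1 (Subsingleton.elim (DefSch.trivial X x (flat_of_field x) A').cl ξ.cl)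
    let θ := θ₀.toIso
    refine ⟨θ.iso, θ.hom_f, ?_⟩
    exact (Category.assoc _ _ _).symm.trans ((congrArg (· ≫ pullback.fst _ _) θ.i_hom).trans (DefSch.baseChange_i_fst (DefSch.self X x (flat_of_field x)) (Art.ofBase A')))

end Groth.Agent.S11289
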