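import Groth.Statements.S11291
import Groth.Agent.S11288
import Groth.Agent.ArtfunDeform.AlgDef.HullDim

set_option autoImplicit false
universe u
open Deform

namespace Groth.Agent.S11291

/-- Let k be an algebraically closed field and A a local Artinian k-algebra with residue field k and
non-zero maximal ideal, i.e. A is not k. Then the obstruction space o(A) = Ex_k(A, k) is not zero:
there is a k-extension 0 → k → E → A → 0 of A by its residue field which is not trivial (admits no
k-algebra section). Equivalently, k is the only formally smooth object among local Artinian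
k-algebras with residue field k. -/
theorem result
    {k : Type u} [Field k] [IsAlgClosed k]
    {A : Type u} [CommRing A] [Algebra k A] [IsLocalRing A] [IsArtinianRing A]
    (hres : ∀ a : A, ∃ c : k, a - algebraMap k A c ∈ IsLocalRing.maximalIdeal A)
    (hA : IsLocalRing.maximalIdeal A ≠ ⊥) :
    ∃ X : Exal.Ext k A (IsLocalRing.ResidueField A), ¬ X.IsTrivial := by
  classical
  open ArtFun Groth.ArtfunDeform in
  choose cf hcf using hres
  have hbij : Function.Bijective (algebraMap k (IsLocalRing.ResidueField A)) :=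
    ⟨(algebraMap k _).injective, fun x => by
      obtain ⟨a, rfl⟩ := IsLocalRing.residue_surjective x
      exact ⟨cf a, (Ideal.Quotient.eq.2 (hcf a)).symm⟩⟩
  let e : k ≃ₐ[k] IsLocalRing.ResidueField A := AlgEquiv.ofBijective (Algebra.ofId k _) hbij
  let resA : A →ₐ[k] k := e.symm.toAlgHom.comp (Ideal.Quotient.mkₐ k (IsLocalRing.maximalIdeal A))
  have hresA : Function.Surjective resA := e.symm.surjective.comp Ideal.Quotient.mk_surjective
  haveI : IsNoetherianRing A := inferInstance
  let R : ArtFun.CRing k k :=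
    { carrier := A
      res := resA
      res_surjective := hresA
      isAdicComplete := Groth.ArtfunDeform.isAdicComplete_artinian A }
  let n := (IsLocalRing.maximalIdeal A).spanFinrank
  obtain ⟨S, eS, θ, -, hθ, hθres, hmin, -, -, -⟩ := Groth.ArtfunDeform.exists_minPres R (n := n) rfl
  let mS := IsLocalRing.maximalIdeal S.carrier
  let J := RingHom.ker θ
  have hJ2 : J ≤ mS ^ 2 := fun x hx => hmin x hx
  have hJm : J ≤ mS := hJ2.trans (Ideal.pow_le_self two_ne_zero)
  obtain ⟨N, hN⟩ : IsNilpotent (IsLocalRing.maximalIdeal A) := by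
    rw [← IsLocalRing.jacobson_eq_maximalIdeal (⊥ : Ideal A) bot_ne_top]
    exact IsArtinianRing.isNilpotent_jacobson_bot
  have hθm : mS.map θ ≤ IsLocalRing.maximalIdeal A := Ideal.map_le_iff_le_comap.2 fun x hx => by
    rw [Ideal.mem_comap]
    exact (CRing.mem_maximalIdeal_iff R _).2 ((congrArg (fun g : S.carrier →ₐ[k] k => g x) hθres).trans
      ((CRing.mem_maximalIdeal_iff S x).1 hx))
  have hmN : mS ^ N ≤ J := fun x hx => by
    have h1 : θ x ∈ (mS.map θ) ^ N := by rw [← Ideal.map_pow]; exact Ideal.mem_map_of_mem θ hx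
    have h2 := Ideal.pow_right_mono hθm N h1
    rw [hN] at h2
    exact h2
  have hn : n ≠ 0 := fun h => hA (by
    rw [← Submodule.spanFinrank_eq_zero_iff_eq_bot (IsNoetherian.noetherian (IsLocalRing.maximalIdeal A))]
    exact h)
  have hJ0 : J ≠ ⊥ := fun h => by
    have hX : eS.symm (MvPowerSeries.X ⟨0, Nat.pos_of_ne_zero hn⟩) ∈ mS := (IsLocalRing.mem_maximalIdeal _).2 fun hu => by
      have := (hu.map eS).map (MvPowerSeries.constantCoeff)
      rw [AlgEquiv.apply_symm_apply, MvPowerSeries.constantCoeff_X] at this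
      exact not_isUnit_zero this
    have := hmN (Ideal.pow_mem_pow hX N)
    rw [h, Ideal.mem_bot, ← map_pow, map_eq_zero_iff _ eS.symm.injective, pow_eq_zero_iff'] at this
    have h1 := congrArg (MvPowerSeries.coeff (Finsupp.single (⟨0, Nat.pos_of_ne_zero hn⟩ : Fin n) 1)) this.1
    simp [MvPowerSeries.coeff_X] at h1
  obtain ⟨K, hKlt, hmax⟩ := set_has_maximal_iff_noetherian.2 (inferInstance : IsNoetherian S.carrier S.carrier)
    {K | K < J} ⟨⊥, bot_lt_iff_ne_bot.2 hJ0⟩
  replace hKlt : K < J := hKlt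
  obtain ⟨c, hcJ, hcK⟩ := SetLike.exists_of_lt hKlt
  have hspan : J ≤ K ⊔ Ideal.span {c} := by
    have hle : K ⊔ Ideal.span {c} ≤ J := sup_le hKlt.le ((Ideal.span_singleton_le_iff_mem _).2 hcJ)
    by_contra hne
    have := eq_of_le_of_not_lt le_sup_left (hmax _ (lt_of_le_not_ge hle hne))
    exact hcK (this ▸ Submodule.mem_sup_right (Ideal.mem_span_singleton_self c))
  have hmK : mS * J ≤ K := by
    have hne : K ⊔ mS • J ≠ J := fun e => (not_le_of_gt hKlt)
      (Submodule.le_of_le_smul_of_le_jacobson_bot (IsNoetherian.noetherian J)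
        (IsLocalRing.maximalIdeal_le_jacobson ⊥) e.ge)
    have := eq_of_le_of_not_lt le_sup_left (hmax _ (lt_of_le_of_ne (sup_le hKlt.le Submodule.smul_le_right) hne))
    rw [this]
    exact le_sup_right
  have hNK : CRing.mpow S N ≤ K := le_trans (by
    change mS ^ (N + 1) ≤ _
    rw [pow_succ']
    exact Ideal.mul_mono_right hmN) hmK
  obtain ⟨C, π, hπ, hπK⟩ := Groth.ArtfunDeform.exists_quotArt S (hKlt.le.trans hJm) hNK
  let A₀ : ArtFun.Art k k := ArtFun.Art.of A resA hresA
  obtain ⟨p, hp⟩ := Groth.ArtfunDeform.exists_hom_of_homSet π hπ (⟨θ, hθres⟩ : ArtFun.HomSet S.carrier S.res A₀)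
    fun x hx => (hKlt.le ((hπK x).1 hx) : x ∈ J)
  let pA : C →ₐ[k] A := p.toAlgHom
  have hpπ : ∀ x, pA (π.1 x) = θ x := fun x => congrArg (fun φ : ArtFun.HomSet S.carrier S.res A₀ => φ.1 x) hp
  let t : C := π.1 c
  have ht0 : t ≠ 0 := fun h => hcK ((hπK c).1 h)
  have hπm : ∀ x, π.1 x ∈ IsLocalRing.maximalIdeal C ↔ x ∈ mS := fun x => by
    rw [ArtFun.Art.mem_maximalIdeal_iff, CRing.mem_maximalIdeal_iff, homSet_res π x]
  have htm : ∀ a ∈ IsLocalRing.maximalIdeal C, a * t = 0 := fun a ha => by
    obtain ⟨x, rfl⟩ := hπ a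
    rw [← map_mul, hπK]
    exact hmK (Ideal.mul_mem_mul ((hπm x).1 ha) hcJ)
  have htC : t ∈ IsLocalRing.maximalIdeal C := (hπm c).2 (hJm hcJ)
  have ht2 : t ∈ IsLocalRing.maximalIdeal C ^ 2 := by
    have h1 : t ∈ (mS ^ 2).map π.1 := Ideal.mem_map_of_mem π.1 (hJ2 hcJ)
    rw [Ideal.map_pow] at h1
    exact Ideal.pow_right_mono (Ideal.map_le_iff_le_comap.2 fun x hx => Ideal.mem_comap.2 ((hπm x).2 hx)) 2 h1
  have hker : ∀ y : C, pA y = 0 ↔ y ∈ Ideal.span {t} := fun y => by
    obtain ⟨x, rfl⟩ := hπ y
    rw [hpπ]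
    refine ⟨fun hx => ?_, fun hx => ?_⟩
    · obtain ⟨a, ha, b, hb, rfl⟩ := Submodule.mem_sup.1 (hspan hx)
      obtain ⟨r, rfl⟩ := Ideal.mem_span_singleton'.1 hb
      rw [map_add, (hπK a).2 ha, zero_add, map_mul]
      exact Ideal.mul_mem_left _ _ (Ideal.mem_span_singleton_self t)
    · obtain ⟨r, hr⟩ := Ideal.mem_span_singleton'.1 hx
      obtain ⟨r, rfl⟩ := hπ r
      rw [← hpπ, ← hr, map_mul, hpπ c]
      exact (congrArg (pA (π.1 r) * ·) (show θ c = 0 from hcJ)).trans (mul_zero _)
  let el : IsLocalRing.ResidueField A →ₐ[k] k := e.symm.toAlgHom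
  let incl : IsLocalRing.ResidueField A →+ C :=
    { toFun := fun z => algebraMap k C (el z) * t
      map_zero' := by rw [map_zero, map_zero, zero_mul]
      map_add' := fun a b => by rw [map_add, map_add, add_mul] }
  have hres' : ∀ y : C, y - algebraMap k C (C.res y) ∈ IsLocalRing.maximalIdeal C := fun y => by
    rw [ArtFun.Art.mem_maximalIdeal_iff, map_sub, AlgHom.commutes, Algebra.algebraMap_self_apply, sub_self]
  let X : Exal.Ext k A (IsLocalRing.ResidueField A) :=
    { E := C
      proj := pA
      incl := incl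
      isExtension :=
        { proj_surjective := fun a => ⟨π.1 (hθ a).choose, (hpπ _).trans (hθ a).choose_spec⟩
          incl_injective := fun a b hab => by
            refine e.symm.injective ?_
            by_contra hne
            have h0 : algebraMap k C (el a - el b) * t = 0 := by rw [map_sub, sub_mul]; exact sub_eq_zero.2 hab
            exact ht0 (((isUnit_iff_ne_zero.2 (sub_ne_zero.2 hne)).map (algebraMap k C)).mul_right_eq_zero.1 h0)
          exact := fun y => by
            rw [hker]
            refine ⟨fun hy => ?_, fun ⟨z, hz⟩ => hz ▸ Ideal.mul_mem_left _ _ (Ideal.mem_span_singleton_self t)⟩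
            obtain ⟨r, rfl⟩ := Ideal.mem_span_singleton'.1 hy
            refine ⟨e (C.res r), ?_⟩
            have := htm _ (hres' r)
            rw [sub_mul, sub_eq_zero] at this
            change algebraMap k C (e.symm (e (C.res r))) * t = r * t
            rw [AlgEquiv.symm_apply_apply, this]
          mul_incl := fun y z => by
            have := htm _ (hres' y)
            rw [sub_mul, sub_eq_zero] at this
            change y * (algebraMap k C (el z) * t) = algebraMap k C (el (pA y • z)) * t
            rw [Algebra.smul_def, map_mul el, map_mul, mul_left_comm, this, ← mul_assoc, mul_comm (algebraMap k C (el z))]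
            congr 2
            exact congrArg (algebraMap k C) ((ArtFun.Art.res_app p y).symm : _ = resA (pA y)) } }
  refine ⟨X, fun hX => ?_⟩
  obtain ⟨s, hs⟩ := hX
  refine (Groth.Agent.S11288.result (fun y => ⟨C.res y, hres' y⟩) t htC ht0 htm).1 ?_ ht2
  let q : (C ⧸ Ideal.span {t}) →ₐ[k] A := Ideal.Quotient.liftₐ _ pA fun y hy => (hker y).2 hy
  refine ⟨s.comp q, fun x => ?_⟩
  obtain ⟨y, rfl⟩ := Ideal.Quotient.mk_surjective x
  refine Ideal.Quotient.eq.2 ((hker _).1 ?_)
  rw [map_sub, sub_eq_zero]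
  exact hs (pA y)

end Groth.Agent.S11291
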