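import Groth.Statements.S11292
import Groth.Agent.EGA41Two.Exal
import Groth.Agent.ArtfunDeform.ExalSplit

set_option autoImplicit false
universe u
open Deform

namespace Groth.Agent.S11292

/-- Let k be an algebraically closed field, Λ and R local Noetherian k-algebras with residue field k,
and Λ → R a local k-algebra homomorphism. Then the relative obstruction space vanishes — every
Λ-extension of R by its residue field k is trivial — if and only if (a) the tangent map t_R → t_Λ is
surjective: every k-derivation of Λ into k extends along Λ → R to a k-derivation of R into k, and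
(b) the obstruction map o(R) → o(Λ) given by inverse image is injective on classes: two k-extensions
of R by k whose inverse images over Λ are equivalent are equivalent (R is less obstructed than Λ).
Here k is the residue field of R, a module over R, Λ and k through the structure maps. -/
theorem result
    {k : Type u} [Field k] [IsAlgClosed k]
    {Λ : Type u} [CommRing Λ] [Algebra k Λ] [IsLocalRing Λ] [IsNoetherianRing Λ]
    (hΛ : ∀ a : Λ, ∃ c : k, a - algebraMap k Λ c ∈ IsLocalRing.maximalIdeal Λ)
    {R : Type u} [CommRing R] [Algebra Λ R] [Algebra k R] [IsScalarTower k Λ R]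
    [IsLocalRing R] [IsNoetherianRing R] [IsLocalHom (algebraMap Λ R)]
    (hR : ∀ r : R, ∃ c : k, r - algebraMap k R c ∈ IsLocalRing.maximalIdeal R) :
    (∀ X : Exal.Ext Λ R (IsLocalRing.ResidueField R), X.IsTrivial) ↔
    ((∀ D : Derivation k Λ (IsLocalRing.ResidueField R),
        ∃ D' : Derivation k R (IsLocalRing.ResidueField R), ∀ a : Λ, D' (algebraMap Λ R a) = D a) ∧
     (∀ Y Y' : Exal.Ext k R (IsLocalRing.ResidueField R),
        Nonempty ((Y.pullback Λ).Equiv (Y'.pullback Λ)) → Nonempty (Y.Equiv Y'))) := by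
  classical
  let L := IsLocalRing.ResidueField R
  letI := Exal.opModule R L
  haveI := Exal.isCentralScalar_opModule R L
  constructor
  · intro h
    refine ⟨fun D => ?_, fun Y Y' hYY => ?_⟩
    · obtain ⟨s, hs⟩ := h (Exal.Ext.ofDerivation (C := R) D)
      let δ : R → L := fun r => TrivSqZeroExt.snd (show TrivSqZeroExt R L from s r)
      have hfst : ∀ r, TrivSqZeroExt.fst (show TrivSqZeroExt R L from s r) = r := hs
      have hadd : ∀ a b, δ (a + b) = δ a + δ b := fun a b =>
        (congrArg (fun z => TrivSqZeroExt.snd (show TrivSqZeroExt R L from z)) (map_add s a b)).trans (TrivSqZeroExt.snd_add _ _)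
      have hmul : ∀ a b, δ (a * b) = a • δ b + b • δ a := fun a b => by
        refine ((congrArg (fun z => TrivSqZeroExt.snd (show TrivSqZeroExt R L from z)) (map_mul s a b)).trans
          (TrivSqZeroExt.snd_mul _ _)).trans ?_
        rw [hfst, hfst]
        rfl
      have halg : ∀ a : Λ, δ (algebraMap Λ R a) = D a := fun a => by
        refine (congrArg (fun z => TrivSqZeroExt.snd (show TrivSqZeroExt R L from z)) (s.commutes a)).trans ?_
        change TrivSqZeroExt.snd (TrivSqZeroExt.inl (algebraMap Λ R a) + TrivSqZeroExt.inr (D a) : TrivSqZeroExt R L) = _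
        simp
      have hk : ∀ c : k, δ (algebraMap k R c) = 0 := fun c => by
        rw [IsScalarTower.algebraMap_apply k Λ R, halg, D.map_algebraMap]
      refine ⟨Derivation.mk' { toFun := δ, map_add' := hadd, map_smul' := fun c r => ?_ } hmul, halg⟩
      rw [Algebra.smul_def, hmul, hk, smul_zero, add_zero, algebraMap_smul]
      rfl
    · obtain ⟨φ⟩ := hYY
      have hpi : ∀ {Z : Exal.Ext k R L} (z : L), Z.proj (Z.incl z) = 0 := fun {Z} z => (Z.isExtension.exact _).2 ⟨z, rfl⟩
      let G : Subalgebra k (Y.E × Y'.E) :=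
        AlgHom.equalizer (Y.proj.comp (AlgHom.fst k Y.E Y'.E)) (Y'.proj.comp (AlgHom.snd k Y.E Y'.E))
      have hGmem : ∀ x : Y.E × Y'.E, x ∈ G ↔ Y.proj x.1 = Y'.proj x.2 := fun _ => Iff.rfl
      let Δ : Ideal G :=
        { carrier := {g | ∃ z, (g : Y.E × Y'.E) = (Y.incl z, Y'.incl z)}
          zero_mem' := ⟨0, by rw [map_zero, map_zero]; rfl⟩
          add_mem' := fun {a b} ⟨z, hz⟩ ⟨w, hw⟩ => ⟨z + w, by rw [Subalgebra.coe_add, hz, hw, map_add, map_add]; rfl⟩
          smul_mem' := fun c g ⟨z, hz⟩ => ⟨Y.proj (c : Y.E × Y'.E).1 • z, by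
            rw [smul_eq_mul, Subalgebra.coe_mul, hz]
            refine Prod.ext ?_ ?_
            · exact Y.isExtension.mul_incl _ z
            · refine (Y'.isExtension.mul_incl _ z).trans ?_
              rw [← (hGmem _).1 c.2]⟩ }
      let mk' : G →+* G ⧸ Δ := Ideal.Quotient.mk Δ
      have hlift : ∀ a : Λ, ∃ u : (Y.pullback Λ).E, (Y.pullback Λ).proj u = a := fun a =>
        (Y.pullback Λ).isExtension.proj_surjective a
      let fy : (Y.pullback Λ).E →ₐ[k] Y.E := (AlgHom.fst k Y.E Λ).comp (Y.fiberProd Λ).val
      let fy' : (Y'.pullback Λ).E →ₐ[k] Y'.E := (AlgHom.fst k Y'.E Λ).comp (Y'.fiberProd Λ).val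
      have hfy : ∀ u, Y.proj (fy u) = algebraMap Λ R ((Y.pullback Λ).proj u) := fun u => u.2
      have hfy' : ∀ u, Y'.proj (fy' u) = algebraMap Λ R ((Y'.pullback Λ).proj u) := fun u => u.2
      let pt : (Y.pullback Λ).E →ₐ[k] G :=
        AlgHom.codRestrict (fy.prod (fy'.comp φ.toAlgEquiv.toAlgHom)) G fun u => (hGmem _).2 (by
          change Y.proj (fy u) = Y'.proj (fy' (φ.toAlgEquiv u))
          rw [hfy, hfy', φ.proj_apply])
      have hker : ∀ u, (Y.pullback Λ).proj u = 0 → mk' (pt u) = 0 := fun u hu => by
        obtain ⟨z, rfl⟩ := ((Y.pullback Λ).isExtension.exact u).1 hu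
        refine Ideal.Quotient.eq_zero_iff_mem.2 ⟨z, Prod.ext rfl ?_⟩
        change fy' (φ.toAlgEquiv ((Y.pullback Λ).incl z)) = Y'.incl z
        rw [φ.apply_incl]
        rfl
      choose l hl using hlift
      have hlu : ∀ u a, (Y.pullback Λ).proj u = a → mk' (pt u) = mk' (pt (l a)) := fun u a hu => by
        rw [← sub_eq_zero, ← map_sub, ← map_sub]
        exact hker _ (by rw [map_sub, hu, hl, sub_self])
      let st : Λ →+* G ⧸ Δ :=
        { toFun := fun a => mk' (pt (l a))
          map_one' := by rw [← hlu 1 1 (map_one _), map_one, map_one]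
          map_mul' := fun a b => by rw [← hlu (l a * l b) _ (by rw [map_mul, hl, hl]), map_mul, map_mul]
          map_zero' := by rw [← hlu 0 0 (map_zero _), map_zero, map_zero]
          map_add' := fun a b => by rw [← hlu (l a + l b) _ (by rw [map_add, hl, hl]), map_add, map_add] }
      have hcomm : ∀ (c : Λ) (x : G ⧸ Δ), st c * x = x * st c := fun c x => by
        obtain ⟨g, hg⟩ := Ideal.Quotient.mk_surjective x
        rw [← hg]
        change mk' _ * mk' g = mk' g * mk' _
        rw [← map_mul, ← map_mul, mul_comm]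
      letI instW : Algebra Λ (G ⧸ Δ) := RingHom.toAlgebra' st hcomm
      let pr : G →+* R := (Y.proj.toRingHom.comp (AlgHom.fst k Y.E Y'.E).toRingHom).comp G.val.toRingHom
      have hΔ : ∀ g ∈ Δ, pr g = 0 := fun g hg => by
        obtain ⟨z, hz⟩ := hg
        change Y.proj (g : Y.E × Y'.E).1 = 0
        rw [hz]
        exact hpi z
      let p₀ : G ⧸ Δ →+* R := Ideal.Quotient.lift Δ pr hΔ
      have hincl : ∀ z, ((Y.incl z, 0) : Y.E × Y'.E) ∈ G := fun z => (hGmem _).2 (by rw [hpi, map_zero])
      let incl : L →+ G ⧸ Δ :=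
        { toFun := fun z => mk' ⟨(Y.incl z, 0), hincl z⟩
          map_zero' := by
            convert map_zero mk' using 2
            exact Subtype.ext (Prod.ext (map_zero Y.incl) rfl)
          map_add' := fun a b => by
            rw [← map_add]
            exact congrArg mk' (Subtype.ext (Prod.ext (map_add Y.incl a b) (add_zero (0 : Y'.E)).symm)) }
      have hp₀ : ∀ a, p₀ (st a) = algebraMap Λ R a := fun a => by
        change Y.proj (fy (l a)) = algebraMap Λ R a
        rw [hfy, hl]
      let pA : (G ⧸ Δ) →ₐ[Λ] R :=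
        { toFun := fun x => p₀ x, map_one' := map_one p₀, map_mul' := map_mul p₀, map_zero' := map_zero p₀,
          map_add' := map_add p₀, commutes' := hp₀ }
      let W : Exal.Ext Λ R L :=
        { E := G ⧸ Δ
          proj := pA
          incl := incl
          isExtension :=
            { proj_surjective := fun r => by
                obtain ⟨y, hy⟩ := Y.isExtension.proj_surjective r
                obtain ⟨y', hy'⟩ := Y'.isExtension.proj_surjective r
                exact ⟨mk' ⟨(y, y'), (hGmem _).2 (hy.trans hy'.symm)⟩, hy⟩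
              incl_injective := fun a b hab => by
                obtain ⟨z, hz⟩ := Ideal.Quotient.eq.1 hab
                have h1 : Y.incl a - Y.incl b = Y.incl z := congrArg Prod.fst hz
                have h2 : (0 : Y'.E) - 0 = Y'.incl z := congrArg Prod.snd hz
                have hz0 : z = 0 := Y'.isExtension.incl_injective (by rw [← h2, sub_self, map_zero])
                rw [hz0, map_zero, sub_eq_zero] at h1
                exact Y.isExtension.incl_injective h1
              exact := fun x => by
                obtain ⟨⟨⟨y, y'⟩, hg⟩, rfl⟩ := Ideal.Quotient.mk_surjective x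
                refine ⟨fun hy => ?_, fun ⟨z, hz⟩ => hz ▸ hpi z⟩
                change Y.proj y = 0 at hy
                obtain ⟨z, rfl⟩ := (Y.isExtension.exact y).1 hy
                obtain ⟨w, rfl⟩ := (Y'.isExtension.exact y').1 (((hGmem _).1 hg).symm.trans hy)
                refine ⟨z - w, Ideal.Quotient.eq.2 ⟨-w, Prod.ext ?_ ?_⟩⟩
                · change Y.incl (z - w) - Y.incl z = Y.incl (-w)
                  rw [map_sub, map_neg]
                  ring
                · change (0 : Y'.E) - Y'.incl w = Y'.incl (-w)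
                  rw [map_neg, zero_sub]
              mul_incl := fun x z => by
                obtain ⟨⟨⟨y, y'⟩, hg⟩, rfl⟩ := Ideal.Quotient.mk_surjective x
                change mk' _ * mk' _ = mk' _
                rw [← map_mul]
                exact congrArg mk' (Subtype.ext (Prod.ext (Y.isExtension.mul_incl y z) (mul_zero y'))) } }
      obtain ⟨s, hs⟩ := h W
      have hex : ∀ y : Y.E, ∃! y' : Y'.E, ∃ h : (y, y') ∈ G, mk' ⟨(y, y'), h⟩ = s (Y.proj y) := fun y => by
        obtain ⟨⟨⟨a, b⟩, hab⟩, hab'⟩ := Ideal.Quotient.mk_surjective (s (Y.proj y))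
        have ha : Y.proj a = Y.proj y := (congrArg W.proj hab').trans (hs _)
        obtain ⟨z, hz⟩ := (Y.isExtension.exact (y - a)).1 (by rw [map_sub, ha, sub_self])
        refine ⟨b + Y'.incl z, ⟨(hGmem _).2 (by rw [map_add, hpi, add_zero, ← (hGmem _).1 hab, ha]), ?_⟩, ?_⟩
        · rw [← hab']
          refine Ideal.Quotient.eq.2 ⟨z, Prod.ext ?_ ?_⟩
          · exact hz.symm
          · change b + Y'.incl z - b = Y'.incl z
            ring
        · rintro c ⟨hc, hce⟩
          rw [← hab'] at hce
          obtain ⟨w, hw⟩ := Ideal.Quotient.eq.1 hce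
          have h1 : y - a = Y.incl w := congrArg Prod.fst hw
          have h2 : c - b = Y'.incl w := congrArg Prod.snd hw
          rw [Y.isExtension.incl_injective (hz.trans h1), ← h2]
          ring
      choose F hF hFu using hex
      have hFG : ∀ y, (y, F y) ∈ G := fun y => (hF y).1
      have hFs : ∀ y, mk' ⟨(y, F y), hFG y⟩ = s (Y.proj y) := fun y => (hF y).2
      let Fh : Y.E →ₐ[k] Y'.E :=
        { toFun := F
          map_one' := (hFu 1 1 ⟨G.one_mem, by rw [map_one, map_one]; exact map_one mk'⟩).symm
          map_mul' := fun a b => (hFu (a * b) (F a * F b) ⟨G.mul_mem (hFG a) (hFG b), by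
            rw [map_mul, map_mul, ← hFs a, ← hFs b, ← map_mul]
            rfl⟩).symm
          map_zero' := (hFu 0 0 ⟨G.zero_mem, by rw [map_zero, map_zero]; exact map_zero mk'⟩).symm
          map_add' := fun a b => (hFu (a + b) (F a + F b) ⟨G.add_mem (hFG a) (hFG b), by
            rw [map_add, map_add, ← hFs a, ← hFs b, ← map_add]
            rfl⟩).symm
          commutes' := fun c => (hFu (algebraMap k Y.E c) (algebraMap k Y'.E c) ⟨G.algebraMap_mem c, by
            rw [Y.proj.commutes, IsScalarTower.algebraMap_apply k Λ R, s.commutes]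
            change _ = mk' (pt (l (algebraMap k Λ c)))
            rw [← hlu (algebraMap k (Y.pullback Λ).E c) _ (AlgHom.commutes _ c), pt.commutes]
            rfl⟩).symm }
      have hp : ∀ y, Y'.proj (Fh y) = Y.proj y := fun y => ((hGmem _).1 (hFG y)).symm
      have hi : ∀ z, Fh (Y.incl z) = Y'.incl z := fun z =>
        (hFu (Y.incl z) (Y'.incl z) ⟨(hGmem _).2 (by rw [hpi, hpi]),
          ((Ideal.Quotient.eq_zero_iff_mem (I := Δ)).2 ⟨z, rfl⟩).trans ((congrArg s (hpi z)).trans (map_zero s)).symm⟩).symm
      have hbij : Function.Bijective Fh := by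
        refine ⟨(injective_iff_map_eq_zero Fh).2 fun x hx' => ?_, fun y => ?_⟩
        · obtain ⟨z, rfl⟩ := (Y.isExtension.exact x).1 (by rw [← hp, hx', map_zero])
          rw [hi] at hx'
          rw [Y'.isExtension.incl_injective (hx'.trans (map_zero Y'.incl).symm), map_zero]
        · obtain ⟨x, hx⟩ := Y.isExtension.proj_surjective (Y'.proj y)
          obtain ⟨z, hz⟩ := (Y'.isExtension.exact (y - Fh x)).1 (by rw [map_sub, hp, hx, sub_self])
          exact ⟨x + Y.incl z, by rw [map_add, hi, hz, add_sub_cancel]⟩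
      exact ⟨⟨AlgEquiv.ofBijective Fh hbij, hp, hi⟩⟩
  · rintro ⟨hder, hinj⟩ X
    let Y : Exal.Ext k R L := X.restrictBase k
    let Y₀ : Exal.Ext k R L := Exal.Ext.trivial k R L
    obtain ⟨s₀, hs₀⟩ := Groth.ArtfunDeform.ExalSplit.exists_section_trivial (A := k) (B := R) (L := L)
    let r₁ : Λ →ₐ[k] Y.E :=
      { (algebraMap Λ X.E : Λ →+* X.RestrictCarrier k) with commutes' := fun _ => rfl }
    have hr₁ : ∀ a, Y.proj (r₁ a) = algebraMap Λ R a := fun a => X.proj.commutes a
    let σ₁ : Λ →ₐ[k] (Y.pullback Λ).E := AlgHom.codRestrict (r₁.prod (AlgHom.id k Λ)) (Y.fiberProd Λ) fun a => hr₁ a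
    let σ₂ : Λ →ₐ[k] (Y₀.pullback Λ).E :=
      AlgHom.codRestrict ((s₀.comp (IsScalarTower.toAlgHom k Λ R)).prod (AlgHom.id k Λ)) (Y₀.fiberProd Λ)
        fun a => hs₀ (algebraMap Λ R a)
    obtain ⟨e⟩ := hinj Y Y₀ (Groth.ArtfunDeform.ExalSplit.equiv_of_sections _ _ σ₁ (fun _ => rfl) σ₂ (fun _ => rfl))
    obtain ⟨t, ht⟩ := Groth.ArtfunDeform.ExalSplit.isTrivial_of_equiv e ⟨s₀, hs₀⟩
    obtain ⟨D, hD⟩ := Groth.EGA41Two.exists_derivation (A := k) (X := X) t.toRingHom ht fun c => t.commutes c
    obtain ⟨D', hD'⟩ := hder D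
    let tX : R →+* X.E := t.toRingHom
    let s : R → X.E := fun r => tX r + X.incl (D' r)
    have hts : ∀ r, X.proj (tX r) = r := ht
    refine ⟨{ toFun := s, map_one' := ?_, map_mul' := ?_, map_zero' := ?_, map_add' := ?_, commutes' := ?_ }, fun r => ?_⟩
    · simp only [s, D'.map_one_eq_zero, map_zero, add_zero]
      exact map_one tX
    · intro a b
      have h1 := X.isExtension.mul_incl (tX a) (D' b)
      have h2 := X.isExtension.mul_incl (tX b) (D' a)
      have h3 := X.isExtension.mul_incl (X.incl (D' a)) (D' b)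
      rw [(X.isExtension.exact _).2 ⟨D' a, rfl⟩, zero_smul, map_zero] at h3
      rw [hts] at h1 h2
      have h4 : tX (a * b) = (tX a) * (tX b) := map_mul tX a b
      simp only [s, D'.leibniz, map_add]
      rw [h4]
      linear_combination -h1 - h2 - h3
    · simp only [s, map_zero, add_zero]
    · intro a b
      have h4 : tX (a + b) = (tX a) + (tX b) := map_add tX a b
      simp only [s, map_add]
      ring
    · intro a
      have := hD a
      simp only [s, hD']
      rw [this]
      exact add_sub_cancel _ _
    · change X.proj (tX r + X.incl (D' r)) = r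
      rw [map_add, (X.isExtension.exact _).2 ⟨D' r, rfl⟩, add_zero]
      exact hts r

end Groth.Agent.S11292
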