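import Groth.Statements.S11294
import Groth.Agent.EtaleAlgebra.EmbeddedDefGraph
-- import your own Groth.Agent.* helpers here

set_option autoImplicit false
universe u
open Deform

namespace Groth.Agent.S11294

open TrivSqZeroExt in
/-- Let P be a commutative ring, J an ideal, and P[ε] the ring of dual numbers over P. First-order
embedded deformations of Spec(P/J) in Spec P, namely ideals J' of P[ε] lifting J (the image of J'
under ε ↦ 0 is J) with P[ε]/J' flat over the dual numbers — flatness being replaced by the condition
that every element of P[ε]/J' annihilated by ε is a multiple of ε (equivalent to flatness over k[ε]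
when P is an algebra over a field k) — are in canonical bijection with Hom_P(J, P/J) =
Hom_{P/J}(J/J^2, P/J), the normal module: to φ corresponds the ideal of all a + εb with a in J and b
reducing to φ(a) modulo J. The first clause says this rule defines exactly one ideal for each φ; the
second says an ideal J' is a flat lift of J precisely when its membership is given by this rule for
some φ. (The published statement is the global one, identifying first-order deformations of a closed
subscheme X of an algebraic scheme Y with H^0(X, N_{X/Y}); this row is the affine computation in its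
proof, valid for every commutative ring P.) -/
theorem result (P : Type u) [CommRing P] (J : Ideal P) :
    (∀ φ : J →ₗ[P] (P ⧸ J), ∃! J' : Ideal (DualNumber P),
        ∀ a b : P, (inl a + inr b : DualNumber P) ∈ J' ↔ ∃ h : a ∈ J, Ideal.Quotient.mk J b = φ ⟨a, h⟩) ∧
    (∀ J' : Ideal (DualNumber P),
      (J'.map (TrivSqZeroExt.fstHom P P P) = J ∧
        ∀ m : DualNumber P ⧸ J', Ideal.Quotient.mk J' DualNumber.eps * m = 0 →
          ∃ m' : DualNumber P ⧸ J', m = Ideal.Quotient.mk J' DualNumber.eps * m') ↔
      ∃ φ : J →ₗ[P] (P ⧸ J), ∀ a b : P,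
        (inl a + inr b : DualNumber P) ∈ J' ↔ ∃ h : a ∈ J, Ideal.Quotient.mk J b = φ ⟨a, h⟩) := by
  let q : P →ₗ[P] (P ⧸ J) := (Ideal.Quotient.mkₐ P J).toLinearMap
  have hkill : ∀ a ∈ J, ∀ v : P, q (a • v) = 0 := fun a ha v =>
    Ideal.Quotient.eq_zero_iff_mem.2 (J.mul_mem_right _ ha)
  have hker : ∀ v, q v = 0 → v ∈ J • (⊤ : Submodule P P) := fun v hv => by
    rw [← mul_one v]
    exact Submodule.smul_mem_smul (Ideal.Quotient.eq_zero_iff_mem.1 hv) trivial
  refine ⟨fun φ => Groth.EtaleAlgebra.EmbeddedDef.existsUnique_ideal J q hkill φ, fun J' => ?_⟩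
  refine Iff.trans (and_congr_right fun hmap => ?_)
    (Groth.EtaleAlgebra.EmbeddedDef.ideal_iff J q Ideal.Quotient.mk_surjective hkill hker J')
  have heps : ∀ z : DualNumber P, DualNumber.eps * z = inr z.fst := fun z =>
    TrivSqZeroExt.ext (by simp) (by simp [snd_mul])
  constructor
  · intro h v hv
    refine Ideal.Quotient.eq_zero_iff_mem.2 ?_
    obtain ⟨m', hm'⟩ := h (Ideal.Quotient.mk J' (inl v)) (by
      rw [← map_mul, heps, fst_inl]; exact Ideal.Quotient.eq_zero_iff_mem.2 hv)
    obtain ⟨w, rfl⟩ := Ideal.Quotient.mk_surjective m'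
    rw [← map_mul, heps] at hm'
    have h3 := Ideal.mem_map_of_mem (fstHom P P P) (Ideal.Quotient.eq.1 hm')
    rw [hmap] at h3
    simpa [fstHom] using h3
  · intro h x hx
    obtain ⟨z, rfl⟩ := Ideal.Quotient.mk_surjective x
    rw [← map_mul, heps] at hx
    have h1 : z.fst ∈ J := Ideal.Quotient.eq_zero_iff_mem.1 (h _ (Ideal.Quotient.eq_zero_iff_mem.1 hx))
    rw [← hmap] at h1
    obtain ⟨w, hw, hwz⟩ := (Ideal.mem_map_iff_of_surjective _ (show Function.Surjective (fstHom P P P) from
      fun a => ⟨inl a, rfl⟩)).1 h1
    have h4 : w.fst = z.fst := hwz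
    refine ⟨Ideal.Quotient.mk J' (inl (z.snd - w.snd)), ?_⟩
    rw [← map_mul, heps, fst_inl, Ideal.Quotient.eq]
    convert hw using 1
    exact TrivSqZeroExt.ext (by simp [h4]) (by simp)

end Groth.Agent.S11294
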