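import Groth.Statements.S11298


set_option autoImplicit false
universe u v
open LocCoh

namespace Groth.Agent.S11298

/-- Let X = Spec B be an affine Noetherian scheme, Z = V(I) a closed subscheme and G a coherent sheaf,
i.e. a finitely generated B-module M, with dual G^v = Hom_B(M, B). If depth_Z(O_X) ≥ 2 then
depth_Z(G^v) ≥ 2. Here the depth along I of a module N is the supremum of the lengths of N-regular
sequences contained in I (and is infinite when I N = N). (The published statement adds that sections
of the dual over X and over X minus Z agree; this row omits that clause.) -/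
theorem result (B : Type u) [CommRing B] [IsNoetherianRing B]
    (I : Ideal B) (M : Type v) [AddCommGroup M] [Module B M] [Module.Finite B M]
    (h : 2 ≤ LocCoh.idealDepth I B) : 2 ≤ LocCoh.idealDepth I (M →ₗ[B] B) := by
  unfold LocCoh.idealDepth at h ⊢
  split_ifs at h with hI
  · have : I • (⊤ : Submodule B (M →ₗ[B] B)) = ⊤ := by
      have h1 : I = ⊤ := by simpa [Submodule.mem_top] using hI
      rw [h1, Submodule.top_smul]
    rw [if_pos this]; exact le_top
  obtain ⟨x, y, hx, hy, hreg⟩ : ∃ x y, x ∈ I ∧ y ∈ I ∧ RingTheory.Sequence.IsWeaklyRegular B [x, y] := by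
    by_contra hcon
    refine absurd h (not_le.2 (lt_of_le_of_lt (b := 1) (iSup₂_le ?_) (by decide)))
    rintro (_ | ⟨x, _ | ⟨y, rest⟩⟩) ⟨hr, hmem⟩
    · simp
    · simp
    · refine absurd ⟨x, y, hmem x (by simp), hmem y (by simp), ?_⟩ hcon
      exact ((RingTheory.Sequence.isWeaklyRegular_append_iff B [x, y] rest).1 hr).1
  obtain ⟨h1, h2⟩ := (RingTheory.Sequence.isWeaklyRegular_cons_iff B x [y]).1 hreg
  have h2' : IsSMulRegular (QuotSMulTop x B) y :=
    ((RingTheory.Sequence.isWeaklyRegular_cons_iff _ y []).1 h2).1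
  have hH : RingTheory.Sequence.IsWeaklyRegular (M →ₗ[B] B) [x, y] := by
    refine (RingTheory.Sequence.isWeaklyRegular_cons_iff _ x [y]).2
      ⟨fun f g e => LinearMap.ext fun m => h1 (LinearMap.congr_fun e m), ?_⟩
    refine (RingTheory.Sequence.isWeaklyRegular_cons_iff _ y []).2
      ⟨?_, RingTheory.Sequence.IsWeaklyRegular.nil B _⟩
    refine isSMulRegular_iff_right_eq_zero_of_smul.2 fun F hF => ?_
    obtain ⟨f, rfl⟩ := Submodule.Quotient.mk_surjective _ F
    rw [← Submodule.Quotient.mk_smul, Submodule.Quotient.mk_eq_zero,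
      Submodule.mem_smul_pointwise_iff_exists] at hF
    obtain ⟨g, -, hg⟩ := hF
    have hdiv : ∀ m, ∃ c, x • c = f m := by
      intro m
      have : (Submodule.Quotient.mk (f m) : QuotSMulTop x B) = 0 := by
        refine h2'.right_eq_zero_of_smul ?_
        rw [← Submodule.Quotient.mk_smul, Submodule.Quotient.mk_eq_zero]
        exact Submodule.mem_smul_pointwise_iff_exists _ _ _ |>.2
          ⟨g m, Submodule.mem_top, LinearMap.congr_fun hg m⟩
      obtain ⟨c, -, hc⟩ := (Submodule.mem_smul_pointwise_iff_exists _ _ _).1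
        ((Submodule.Quotient.mk_eq_zero _).1 this)
      exact ⟨c, hc⟩
    choose c hc using hdiv
    rw [Submodule.Quotient.mk_eq_zero, Submodule.mem_smul_pointwise_iff_exists]
    refine ⟨{ toFun := c, map_add' := fun a b => h1 ?_, map_smul' := fun r a => h1 ?_ },
      Submodule.mem_top, LinearMap.ext hc⟩
    · simp only [smul_add, hc, map_add]
    · show x • c (r • a) = x • (r • c a)
      rw [smul_comm x r, hc, hc, map_smul]
  split_ifs with hI'
  · exact le_top
  · exact le_iSup₂_of_le [x, y] ⟨hH, fun r hr => by
      rcases List.mem_cons.1 hr with rfl | hr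
      · exact hx
      · rw [List.mem_singleton.1 hr]; exact hy⟩ (le_refl _)

end Groth.Agent.S11298
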