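import Groth.Statements.S11299
import Mathlib

set_option autoImplicit false
universe u
open CAlg

namespace Groth.Agent.S11299
variable {P : Type u} [CommRing P]

noncomputable section

def kerMap {F F' : Type u} [AddCommGroup F] [Module P F] [AddCommGroup F'] [Module P F']
    (j : F →ₗ[P] P) (j' : F' →ₗ[P] P) (α : F →ₗ[P] F') (hα : j'.comp α = j) :
    LinearMap.ker j →ₗ[P] LinearMap.ker j' :=
  α.restrict fun x hx => by
    rw [LinearMap.mem_ker] at hx ⊢
    rw [← hx, ← hα]; rfl

def quotMap {F F' : Type u} [AddCommGroup F] [Module P F] [AddCommGroup F'] [Module P F']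
    (B : Type u) [AddCommGroup B] [Module P B]
    (j : F →ₗ[P] P) (j' : F' →ₗ[P] P) (α : F →ₗ[P] F') (hα : j'.comp α = j) :
    ((LinearMap.ker j' →ₗ[P] B) ⧸ LinearMap.range (LinearMap.lcomp P B (LinearMap.ker j').subtype)) →ₗ[P]
      ((LinearMap.ker j →ₗ[P] B) ⧸ LinearMap.range (LinearMap.lcomp P B (LinearMap.ker j).subtype)) :=
  Submodule.mapQ _ _ (LinearMap.lcomp P B (kerMap j j' α hα)) (by
    rintro _ ⟨ψ, rfl⟩
    exact ⟨ψ.comp α, rfl⟩)

theorem quotMap_quotMap {F F' : Type u} [AddCommGroup F] [Module P F] [AddCommGroup F'] [Module P F']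
    (B : Type u) [AddCommGroup B] [Module P B] (j : F →ₗ[P] P) (j' : F' →ₗ[P] P)
    (α : F →ₗ[P] F') (hα : j'.comp α = j) (β : F' →ₗ[P] F) (hβ : j.comp β = j')
    (x : (LinearMap.ker j →ₗ[P] B) ⧸ LinearMap.range (LinearMap.lcomp P B (LinearMap.ker j).subtype)) :
    quotMap B j j' α hα (quotMap B j' j β hβ x) = x := by
  obtain ⟨φ, rfl⟩ := Submodule.Quotient.mk_surjective _ x
  let h : F →ₗ[P] LinearMap.ker j := (β.comp α - LinearMap.id).codRestrict _ fun f => by
    rw [LinearMap.mem_ker, LinearMap.sub_apply, map_sub, LinearMap.comp_apply,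
      ← LinearMap.comp_apply j β, hβ, ← LinearMap.comp_apply j' α, hα, LinearMap.id_apply, sub_self]
  simp only [quotMap, Submodule.mapQ_apply]
  rw [Submodule.Quotient.eq]
  refine ⟨φ.comp h, LinearMap.ext fun r => ?_⟩
  simp only [LinearMap.lcomp_apply, LinearMap.comp_apply, LinearMap.sub_apply]
  rw [← map_sub]
  rfl

def trivialRel {F : Type u} [AddCommGroup F] [Module P F] (j : F →ₗ[P] P) :
    Submodule P (LinearMap.ker j) :=
  Submodule.comap (LinearMap.ker j).subtype
    (Submodule.span P {y : F | ∃ u v : F, y = j u • v - j v • u})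

def T2 {F : Type u} [AddCommGroup F] [Module P F] (B : Type u) [AddCommGroup B] [Module P B]
    (j : F →ₗ[P] P) :=
  Submodule.map (LinearMap.range (LinearMap.lcomp P B (LinearMap.ker j).subtype)).mkQ
    (LinearMap.ker (LinearMap.lcomp P B (trivialRel j).subtype))

theorem quotMap_mem {F F' : Type u} [AddCommGroup F] [Module P F] [AddCommGroup F'] [Module P F']
    (B : Type u) [AddCommGroup B] [Module P B]
    (j : F →ₗ[P] P) (j' : F' →ₗ[P] P) (α : F →ₗ[P] F') (hα : j'.comp α = j) :
    ∀ x ∈ T2 B j', quotMap B j j' α hα x ∈ T2 B j := by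
  rintro _ ⟨φ, hφ, rfl⟩
  refine ⟨LinearMap.lcomp P B (kerMap j j' α hα) φ, ?_, rfl⟩
  rw [SetLike.mem_coe, LinearMap.mem_ker] at hφ ⊢
  refine LinearMap.ext fun r => ?_
  have hmem : α (r : LinearMap.ker j) ∈
      Submodule.span P {y : F' | ∃ u v : F', y = j' u • v - j' v • u} := by
    have hr : ((r : LinearMap.ker j) : F) ∈
        Submodule.span P {y : F | ∃ u v : F, y = j u • v - j v • u} := r.2
    have := Submodule.mem_map_of_mem (f := α) hr
    rw [Submodule.map_span] at this
    refine Submodule.span_mono ?_ this
    rintro _ ⟨_, ⟨u, v, rfl⟩, rfl⟩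
    refine ⟨α u, α v, ?_⟩
    rw [map_sub, map_smul, map_smul, ← hα]
    rfl
  exact LinearMap.congr_fun hφ ⟨kerMap j j' α hα r, hmem⟩

end

/-- The second cotangent module does not depend on the presentation: let P be a commutative ring, J an
ideal and B = P/J. For a presentation of J, i.e. a finitely generated free P-module F with a
P-linear map j : F → P with image J, let R = ker j be the relation module and R^tr ⊆ R the span of
the trivial relations j(u) • v - j(v) • u; the module T^2 of the presentation is the quotient of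
Hom_B(R/R^tr, B), realised as the P-linear maps R → P/J vanishing on R^tr, by the restrictions to R
of the P-linear maps F → P/J (here: the image of that submodule in the quotient of Hom_P(R, P/J) by
the restrictions). Then for two presentations (F, j) and (F', j') of the same ideal J the two
modules T^2 are isomorphic as P-modules (existence of an isomorphism; the comparison maps depend on
expressing one system of generators through the other). (The published statement takes B essentially
of finite type over a field and P smooth; this row allows any commutative ring P and ideal J.) -/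
theorem result (P : Type u) [CommRing P] (J : Ideal P)
    (F : Type u) [AddCommGroup F] [Module P F] [Module.Free P F] [Module.Finite P F]
    (F' : Type u) [AddCommGroup F'] [Module P F'] [Module.Free P F'] [Module.Finite P F']
    (j : F →ₗ[P] P) (j' : F' →ₗ[P] P) (hj : LinearMap.range j = J) (hj' : LinearMap.range j' = J) :
    Nonempty (↥(Submodule.map
          (LinearMap.range (LinearMap.lcomp P (P ⧸ J) (LinearMap.ker j).subtype)).mkQ
          (LinearMap.ker (LinearMap.lcomp P (P ⧸ J)
            (Submodule.comap (LinearMap.ker j).subtype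
              (Submodule.span P {y : F | ∃ u v : F, y = j u • v - j v • u})).subtype))) ≃ₗ[P]
      ↥(Submodule.map
          (LinearMap.range (LinearMap.lcomp P (P ⧸ J) (LinearMap.ker j').subtype)).mkQ
          (LinearMap.ker (LinearMap.lcomp P (P ⧸ J)
            (Submodule.comap (LinearMap.ker j').subtype
              (Submodule.span P {y : F' | ∃ u v : F', y = j' u • v - j' v • u})).subtype)))) := by
  obtain ⟨α, hα⟩ := Module.projective_lifting_property (LinearMap.rangeRestrict j')
    ((LinearEquiv.ofEq _ _ hj'.symm).toLinearMap.comp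
      (j.codRestrict J fun x => hj ▸ LinearMap.mem_range_self j x))
    (LinearMap.surjective_rangeRestrict j')
  obtain ⟨β, hβ⟩ := Module.projective_lifting_property (LinearMap.rangeRestrict j)
    ((LinearEquiv.ofEq _ _ hj.symm).toLinearMap.comp
      (j'.codRestrict J fun x => hj' ▸ LinearMap.mem_range_self j' x))
    (LinearMap.surjective_rangeRestrict j)
  have hα' : j'.comp α = j := LinearMap.ext fun x => congrArg Subtype.val (LinearMap.congr_fun hα x)
  have hβ' : j.comp β = j' := LinearMap.ext fun x => congrArg Subtype.val (LinearMap.congr_fun hβ x)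
  refine ⟨LinearEquiv.ofLinearMap
    ((quotMap (P ⧸ J) j' j β hβ').restrict (quotMap_mem (P ⧸ J) j' j β hβ'))
    ((quotMap (P ⧸ J) j j' α hα').restrict (quotMap_mem (P ⧸ J) j j' α hα')) ?_ ?_⟩
  · exact LinearMap.ext fun x => Subtype.ext (quotMap_quotMap (P ⧸ J) j' j β hβ' α hα' x.1)
  · exact LinearMap.ext fun x => Subtype.ext (quotMap_quotMap (P ⧸ J) j j' α hα' β hβ' x.1)

end Groth.Agent.S11299
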