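import Groth.Statements.S1496
import Groth.Agent.Chow.AmpleComp
import Groth.Agent.Chow.QuasiProjective

set_option autoImplicit false
universe u
attribute [local instance] HasDerivedCategory.standard
open FlatMor

namespace Groth.Agent.S1496

open AlgebraicGeometry CategoryTheory Limits in
/-- An immersion into projective space over a base with an ample module gives an ample module. -/
theorem exists_ample_of_immersion {X S : Scheme.{u}} {n : ℕ} (i : X ⟶ CohB1.ProjSpaceOver n S)
    [IsImmersion i] [QuasiCompact i] (hS : ∃ N : S.Modules, CohB1.IsAmple N) :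
    ∃ L : X.Modules, CohB1.IsAmple L := by
  haveI := Groth.Variety2.isProper_projSpaceOver_toBase n S
  haveI : QuasiCompact (Groth.Chow.PEmb.strMap i) :=
    inferInstanceAs (QuasiCompact (i ≫ CohB1.ProjSpaceOver.toBase n S))
  obtain ⟨N, hN⟩ := hS
  haveI : CompactSpace S := hN.2.1
  haveI : S.IsSeparated := Groth.PropsBasic.Ample.isSeparated_of_cover hN.1 hN.2.2
  obtain ⟨hft, hqc, L, hL⟩ := Groth.Chow.PEmb.isQuasiProjective i
  obtain ⟨m₀, hm₀⟩ := Groth.Chow.exists_comp_isAmple _ hL hN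
  exact ⟨_, hm₀ m₀ le_rfl⟩

open AlgebraicGeometry CategoryTheory Limits in
/-- Let S be a scheme carrying an ample invertible sheaf and f : X → S a morphism. Then f is a closed
immersion into some projective space over S (f factors as a closed immersion X → Pⁿ_S followed by
the projection Pⁿ_S → S, for some n) if and only if f is proper and X carries an ample invertible
sheaf; and the latter holds if and only if f is proper and some O_X-module is ample relative to f. -/
theorem result {X S : Scheme.{u}} (hS : ∃ N : S.Modules, CohB1.IsAmple N) (f : X ⟶ S) :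
    ((∃ (n : ℕ) (i : X ⟶ CohB1.ProjSpaceOver n S), IsClosedImmersion i ∧ i ≫ pullback.snd (CohB1.ProjSpace.toSpec n (ULift.{u} ℤ)) (specULiftZIsTerminal.from S) = f) ↔
      (IsProper f ∧ ∃ L : X.Modules, CohB1.IsAmple L)) ∧
    ((IsProper f ∧ ∃ L : X.Modules, CohB1.IsAmple L) ↔ (IsProper f ∧ ∃ L : X.Modules, RelAmple.IsRelAmple f L)) := by
  have h1 : ∀ (n : ℕ) (i : X ⟶ CohB1.ProjSpaceOver n S), IsClosedImmersion i →
      i ≫ CohB1.ProjSpaceOver.toBase n S = f → IsProper f ∧ (∃ L : X.Modules, CohB1.IsAmple L) ∧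
        ∃ L : X.Modules, RelAmple.IsRelAmple f L := by
    rintro n i hi rfl
    haveI := Groth.Variety2.isProper_projSpaceOver_toBase n S
    haveI : QuasiCompact (Groth.Chow.PEmb.strMap i) :=
      inferInstanceAs (QuasiCompact (i ≫ CohB1.ProjSpaceOver.toBase n S))
    exact ⟨inferInstance, exists_ample_of_immersion i hS, Groth.Chow.PEmb.exists_isRelAmple i⟩
  have h2 : IsProper f → (∃ L : X.Modules, CohB1.IsAmple L) →
      ∃ (n : ℕ) (i : X ⟶ CohB1.ProjSpaceOver n S), IsClosedImmersion i ∧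
        i ≫ CohB1.ProjSpaceOver.toBase n S = f := by
    rintro hf ⟨L, hL⟩
    obtain ⟨n₁, hn₁⟩ := Groth.Chow.exists_isRelVeryAmplePn f hL
    obtain ⟨n, i, hi, hif, -⟩ := hn₁ n₁ le_rfl
    haveI := Groth.Variety2.isProper_projSpaceOver_toBase n S
    haveI : IsProper (i ≫ CohB1.ProjSpaceOver.toBase n S) := by
      rw [show i ≫ CohB1.ProjSpaceOver.toBase n S = f from hif]; exact hf
    haveI : IsProper i := IsProper.of_comp i (CohB1.ProjSpaceOver.toBase n S)
    exact ⟨n, i, (IsClosedImmersion.iff_isProper_and_mono i).mpr ⟨inferInstance, inferInstance⟩, hif⟩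
  refine ⟨⟨?_, fun h => h2 h.1 h.2⟩, fun h => ⟨h.1, ?_⟩, fun h => ⟨h.1, ?_⟩⟩
  · rintro ⟨n, i, hi, hif⟩
    exact ⟨(h1 n i hi hif).1, (h1 n i hi hif).2.1⟩
  · obtain ⟨n, i, hi, hif⟩ := h2 h.1 h.2
    exact (h1 n i hi hif).2.2
  · obtain ⟨N, hN⟩ := hS
    haveI := h.1
    haveI : CompactSpace S := hN.2.1
    haveI : S.IsSeparated := Groth.PropsBasic.Ample.isSeparated_of_cover hN.1 hN.2.2
    obtain ⟨L, hL⟩ := h.2
    obtain ⟨m₀, hm₀⟩ := Groth.Chow.exists_comp_isAmple f hL hN
    exact ⟨_, hm₀ m₀ le_rfl⟩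

end Groth.Agent.S1496
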