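import Groth.Statements.S11302
import Groth.Agent.ArtfunDeform.CotT.Syzygy
import Mathlib.Algebra.MvPolynomial.Derivation
import Mathlib.RingTheory.Ideal.Quotient.Operations

set_option autoImplicit false
universe u
open Deform

namespace Groth.Agent.S11302

open MvPolynomial in
/-- T^1 of a complete intersection; the hypersurface case P/(f, ∂f/∂X_1, ..., ∂f/∂X_d) is n = 1: let k
be an algebraically closed field, P = k[X_1, ..., X_d], f_1, ..., f_n a regular sequence in P (each
f_i a non-zero-divisor modulo the preceding ones), J the ideal they generate and B = P/J. The first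
cotangent module T^1_B — the cokernel of Der_k(P, B) → Hom_P(J, B), a derivation being restricted to
J — is isomorphic, as a P-module, to B^n modulo the B-submodule generated by the d columns
(∂f_1/∂X_j, ..., ∂f_n/∂X_j), j = 1, ..., d, of the Jacobian matrix reduced modulo J, through the map
sending the class of φ : J → B to the class of (φ(f_1), ..., φ(f_n)). (The published formula allows
P to be a localisation of the polynomial ring; this row takes the polynomial ring.) -/
theorem result (k : Type u) [Field k] [IsAlgClosed k] (d n : ℕ)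
    (f : Fin n → MvPolynomial (Fin d) k) (hreg : RingTheory.Sequence.IsWeaklyRegular (MvPolynomial (Fin d) k) (List.ofFn f)) :
    ∃ e : ((↥(Ideal.span (Set.range f)) →ₗ[MvPolynomial (Fin d) k] (MvPolynomial (Fin d) k ⧸ Ideal.span (Set.range f))) ⧸
            Submodule.span (MvPolynomial (Fin d) k)
              {ψ : ↥(Ideal.span (Set.range f)) →ₗ[MvPolynomial (Fin d) k] (MvPolynomial (Fin d) k ⧸ Ideal.span (Set.range f)) |
                ∃ D : Derivation k (MvPolynomial (Fin d) k) (MvPolynomial (Fin d) k ⧸ Ideal.span (Set.range f)), ∀ a : ↥(Ideal.span (Set.range f)), ψ a = D (a : MvPolynomial (Fin d) k)}) ≃ₗ[MvPolynomial (Fin d) k]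
          ((Fin n → MvPolynomial (Fin d) k ⧸ Ideal.span (Set.range f)) ⧸
            Submodule.span (MvPolynomial (Fin d) k ⧸ Ideal.span (Set.range f))
              (Set.range fun j : Fin d => fun i : Fin n => Ideal.Quotient.mk (Ideal.span (Set.range f)) (pderiv j (f i)))),
      ∀ φ : ↥(Ideal.span (Set.range f)) →ₗ[MvPolynomial (Fin d) k] (MvPolynomial (Fin d) k ⧸ Ideal.span (Set.range f)),
        e (Submodule.Quotient.mk φ) =
          Submodule.Quotient.mk (fun i : Fin n => φ ⟨f i, Ideal.subset_span (Set.mem_range_self i)⟩) := by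
  classical
  let P := MvPolynomial (Fin d) k
  let J : Ideal P := Ideal.span (Set.range f)
  let mkJ : P →+* P ⧸ J := Ideal.Quotient.mk J
  have hlen : ∀ i : Fin n, (i : ℕ) < (List.ofFn f).length := fun i => by rw [List.length_ofFn]; exact i.2
  have hsyz : Groth.ArtfunDeform.HasOnlyTrivialSyz f := Groth.ArtfunDeform.hasOnlyTrivialSyz_of_regular f fun i x hx => by
    have hspan : Ideal.span (f '' {j | j < i}) = Ideal.ofList ((List.ofFn f).take i.1) := by
      rw [Ideal.ofList]
      congr 1
      ext p
      constructor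
      · rintro ⟨j, hj, rfl⟩
        exact List.mem_take_iff_getElem.2 ⟨j.1, lt_min hj (hlen j), List.getElem_ofFn _⟩
      · intro hp
        obtain ⟨j, hj, rfl⟩ := List.mem_take_iff_getElem.1 hp
        have hji := (lt_min_iff.1 hj).1
        exact ⟨⟨j, lt_trans hji i.2⟩, hji, (List.getElem_ofFn _).symm⟩
    rw [hspan] at hx ⊢
    have key : ∀ z : P, z ∈ (Ideal.ofList ((List.ofFn f).take i.1) • ⊤ : Submodule P P) ↔ z ∈ Ideal.ofList ((List.ofFn f).take i.1) := by
      intro z
      rw [smul_eq_mul, Ideal.mul_top]
    rw [← key, ← Submodule.Quotient.mk_eq_zero]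
    refine (hreg.regular_mod_prev i.1 (hlen i)) ?_
    change (List.ofFn f)[i.1] • (Submodule.Quotient.mk x : P ⧸ _) = (List.ofFn f)[i.1] • 0
    rw [smul_zero, ← Submodule.Quotient.mk_smul, Submodule.Quotient.mk_eq_zero, key, smul_eq_mul, mul_comm,
      List.getElem_ofFn]
    exact hx
  let g : Fin n → ↥J := fun i => ⟨f i, Ideal.subset_span (Set.mem_range_self i)⟩
  let T : (Fin n →₀ P) →ₗ[P] ↥J := Finsupp.linearCombination P g
  have hT : ∀ q, ((T q : ↥J) : P) = Finsupp.linearCombination P f q := fun q => by
    rw [show f = J.subtype ∘ g from rfl, ← LinearMap.map_finsupp_linearCombination]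
    rfl
  have hTsurj : Function.Surjective T := fun x => by
    obtain ⟨q, hq⟩ := (Finsupp.mem_span_range_iff_exists_finsupp (v := f) (R := P)).1 x.2
    exact ⟨q, Subtype.ext ((hT q).trans (by rw [Finsupp.linearCombination_apply]; exact hq))⟩
  let Φ : (↥J →ₗ[P] P ⧸ J) →ₗ[P] (Fin n → P ⧸ J) :=
    { toFun := fun φ i => φ (g i)
      map_add' := fun _ _ => rfl
      map_smul' := fun _ _ => rfl }
  have hΦ : Function.Bijective Φ := by
    refine ⟨fun φ ψ h => LinearMap.ext fun x => ?_, fun b => ?_⟩
    · obtain ⟨q, rfl⟩ := hTsurj x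
      simp only [T, Finsupp.linearCombination_apply, map_finsuppSum, map_smul]
      exact Finsupp.sum_congr fun i _ => congrArg (q i • ·) (congrFun h i)
    · let L : (Fin n →₀ P) →ₗ[P] P ⧸ J := Finsupp.linearCombination P b
      have hL : LinearMap.ker T ≤ LinearMap.ker L := fun q hq => by
        have hq' : Finsupp.linearCombination P f q = 0 := by
          rw [← hT, LinearMap.mem_ker.1 hq]
          rfl
        have hmem : ∀ a : Fin n →₀ P, ∀ y : P ⧸ J, Finsupp.linearCombination P f a • y = 0 := fun a y => by
          obtain ⟨y, rfl⟩ := Ideal.Quotient.mk_surjective y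
          refine Ideal.Quotient.eq_zero_iff_mem.2 (Ideal.mul_mem_right _ _ ?_)
          exact (Finsupp.mem_span_range_iff_exists_finsupp (v := f) (R := P)).2 ⟨a, (Finsupp.linearCombination_apply P a).symm⟩
        have h1 : Groth.ArtfunDeform.trivSub f ≤ LinearMap.ker L := by
          rw [Groth.ArtfunDeform.trivSub, Submodule.span_le]
          rintro _ ⟨a, c, rfl⟩
          rw [SetLike.mem_coe, LinearMap.mem_ker, map_sub, map_smul, map_smul, hmem, hmem, sub_zero]
        exact h1 (hsyz q hq')
      refine ⟨((LinearMap.ker T).liftQ L hL).comp (LinearMap.quotKerEquivOfSurjective T hTsurj).symm.toLinearMap,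
        funext fun i => ?_⟩
      change (LinearMap.ker T).liftQ L hL ((LinearMap.quotKerEquivOfSurjective T hTsurj).symm (g i)) = b i
      have hgi : (LinearMap.quotKerEquivOfSurjective T hTsurj).symm (g i) = Submodule.Quotient.mk (Finsupp.single i 1) := by
        rw [LinearEquiv.symm_apply_eq]
        change g i = T (Finsupp.single i 1)
        simp [T]
      rw [hgi]
      change L (Finsupp.single i 1) = b i
      simp [L]
  let col : Fin d → Fin n → P ⧸ J := fun j i => mkJ (MvPolynomial.pderiv j (f i))
  have hD : ∀ (D : Derivation k P (P ⧸ J)) (q : P), D q = ∑ j, MvPolynomial.pderiv j q • D (MvPolynomial.X j) := fun D q => by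
    induction q using MvPolynomial.induction_on with
    | C a =>
      rw [show (MvPolynomial.C a : P) = algebraMap k P a from rfl, D.map_algebraMap]
      refine (Finset.sum_eq_zero fun j _ => ?_).symm
      rw [Derivation.map_algebraMap, zero_smul]
    | add p q hp hq => simp only [map_add, hp, hq, add_smul, Finset.sum_add_distrib]
    | mul_X p i hp =>
      rw [D.leibniz, hp, Finset.smul_sum]
      simp only [Derivation.leibniz, add_smul, Finset.sum_add_distrib, smul_eq_mul, mul_smul]
      congr 1
      rw [Finset.sum_eq_single i (fun j _ hj => by rw [MvPolynomial.pderiv_X_of_ne (Ne.symm hj), zero_smul, smul_zero])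
        (fun h => absurd (Finset.mem_univ i) h), MvPolynomial.pderiv_X_self, one_smul]
  let C₀ : Submodule (P ⧸ J) (Fin n → P ⧸ J) := Submodule.span (P ⧸ J) (Set.range col)
  let e₀ : (↥J →ₗ[P] P ⧸ J) ≃ₗ[P] (Fin n → P ⧸ J) := LinearEquiv.ofBijective Φ hΦ
  let S₀ : Submodule P (↥J →ₗ[P] P ⧸ J) :=
    Submodule.span P {ψ | ∃ D : Derivation k P (P ⧸ J), ∀ a : ↥J, ψ a = D (a : P)}
  have hmap : S₀.map e₀.toLinearMap = C₀.restrictScalars P := by
    refine le_antisymm ?_ fun v hv => ?_
    · rw [Submodule.map_span, Submodule.span_le]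
      rintro _ ⟨ψ, ⟨D, hψ⟩, rfl⟩
      refine (Submodule.mem_span_range_iff_exists_fun (P ⧸ J)).2 ⟨fun j => D (MvPolynomial.X j), funext fun i => ?_⟩
      change (∑ j, D (MvPolynomial.X j) • col j) i = ψ (g i)
      rw [hψ, hD D, Finset.sum_apply]
      exact Finset.sum_congr rfl fun j _ => mul_comm _ _
    · obtain ⟨c, rfl⟩ := (Submodule.mem_span_range_iff_exists_fun (P ⧸ J)).1 hv
      let D : Derivation k P (P ⧸ J) := MvPolynomial.mkDerivation k c
      refine ⟨{ toFun := fun a => D (a : P), map_add' := fun a b => map_add D _ _, map_smul' := fun r a => ?_ },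
        Submodule.subset_span ⟨D, fun a => rfl⟩, funext fun i => ?_⟩
      · change D (r * (a : P)) = r • D (a : P)
        rw [D.leibniz]
        obtain ⟨y, hy⟩ := Ideal.Quotient.mk_surjective (D r)
        rw [← hy]
        refine add_eq_left.2 (Ideal.Quotient.eq_zero_iff_mem.2 (Ideal.mul_mem_right _ _ a.2))
      · change D (f i) = (∑ j, c j • col j) i
        rw [hD D, Finset.sum_apply]
        refine Finset.sum_congr rfl fun j _ => ?_
        rw [MvPolynomial.mkDerivation_X]
        change mkJ (MvPolynomial.pderiv j (f i)) * c j = c j * mkJ (MvPolynomial.pderiv j (f i))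
        exact mul_comm _ _
  exact ⟨(Submodule.Quotient.equiv S₀ (C₀.restrictScalars P) e₀ hmap).trans
    (Submodule.Quotient.restrictScalarsEquiv P C₀), fun φ => rfl⟩

end Groth.Agent.S11302
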