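import Groth.Statements.S11304
import Groth.Agent.Quot.FlagHilb

set_option autoImplicit false
universe u
open CategoryTheory CategoryTheory.Limits AlgebraicGeometry
open FGA

namespace Groth.Agent.S11304

/-- Flag Hilbert schemes: the case of flags of length two: let k be an algebraically closed field and r
≥ 1. The functor sending a k-scheme T to the set of pairs X_1 ⊆ X_2 of closed subschemes of P^r_T,
each flat and proper over T, is representable by a k-scheme which is a disjoint union of projective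
k-schemes, with a universal nested pair. Stated here on locally Noetherian test schemes and with
closed subschemes given by their quasi-coherent ideal sheaves (X_1 ⊆ X_2 meaning I_{X_2} ≤ I_{X_1}):
there are a locally Noetherian k-scheme H, a nested pair (W_1, W_2) over H through which every
nested pair over a locally Noetherian k-scheme T is pulled back along a unique k-morphism T → H, and
a decomposition of H into pieces each admitting a closed immersion over k into some projective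
space. (The published statement treats flags of any length, each piece indexed by a tuple of Hilbert
polynomials; this row states length two and does not record the indexing.) -/
theorem result (k : Type u) [Field k] [IsAlgClosed k] (r : ℕ) (hr : 1 ≤ r) :
    ∃ (H : Over (Spec (CommRingCat.of k))) (W₁ W₂ : FGA.HilbSet (CohB1.ProjSpaceOver.toBase r (Spec (CommRingCat.of k))) H),
      W₂.1 ≤ W₁.1 ∧ IsLocallyNoetherian H.left ∧
      (∀ (T : Over (Spec (CommRingCat.of k))) [IsLocallyNoetherian T.left] (Y₁ Y₂ : FGA.HilbSet (CohB1.ProjSpaceOver.toBase r (Spec (CommRingCat.of k))) T),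
          Y₂.1 ≤ Y₁.1 →
          ∃! g : T ⟶ H, FGA.hilbPull (CohB1.ProjSpaceOver.toBase r (Spec (CommRingCat.of k))) g W₁.1 = Y₁.1 ∧ FGA.hilbPull (CohB1.ProjSpaceOver.toBase r (Spec (CommRingCat.of k))) g W₂.1 = Y₂.1) ∧
      ∃ (ι : Type u) (P : ι → Scheme.{u}) (e : (∐ P) ≅ H.left) (m : ι → ℕ)
        (c : ∀ a, P a ⟶ CohB1.ProjSpaceOver (m a) (Spec (CommRingCat.of k))),
        ∀ a, IsClosedImmersion (c a) ∧
          c a ≫ CohB1.ProjSpaceOver.toBase (m a) (Spec (CommRingCat.of k)) = Limits.Sigma.ι P a ≫ e.hom ≫ H.hom := by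
  let S : Scheme.{u} := Spec (CommRingCat.of k)
  let f := CohB1.ProjSpaceOver.toBase r S
  obtain ⟨H₀, Z, hrep, ι, P, e, m, c, hc⟩ : ∃ (H₀ : Over S) (Z : FGA.HilbSet f H₀),
      FGA.HilbRepresentedBy f H₀ Z ∧
      ∃ (ι : Type u) (P : ι → Scheme.{u}) (e : (∐ P) ≅ H₀.left) (m : ι → ℕ)
        (c : ∀ a, P a ⟶ CohB1.ProjSpaceOver (m a) S),
        ∀ a, IsClosedImmersion (c a) ∧
          c a ≫ CohB1.ProjSpaceOver.toBase (m a) S = Limits.Sigma.ι P a ≫ e.hom ≫ H₀.hom := by
    have key : ∀ g : CohB1.ProjSpaceOver r S ⟶ S, 𝟙 _ ≫ f = g →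
        ∃ (H₀ : Over S) (Z : FGA.HilbSet g H₀), FGA.HilbRepresentedBy g H₀ Z ∧
          ∃ (ι : Type u) (P : ι → Scheme.{u}) (e : (∐ P) ≅ H₀.left) (m : ι → ℕ)
            (c : ∀ a, P a ⟶ CohB1.ProjSpaceOver (m a) S),
            ∀ a, IsClosedImmersion (c a) ∧
              c a ≫ CohB1.ProjSpaceOver.toBase (m a) S = Limits.Sigma.ι P a ≫ e.hom ≫ H₀.hom := by
      rintro g rfl
      exact Groth.Agent.S3218.result S r (CohB1.ProjSpaceOver r S) (𝟙 _)
    exact key f (Category.id_comp _)
  have hH₀ : IsLocallyNoetherian H₀.left := hrep.1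
  have : IsProper f := Groth.Variety2.isProper_projSpaceOver_toBase r S
  have hlft : LocallyOfFiniteType H₀.hom := by
    have h1 : LocallyOfFiniteType (e.hom ≫ H₀.hom) := by
      rw [IsZariskiLocalAtSource.iff_of_openCover (P := @LocallyOfFiniteType) (sigmaOpenCover P)]
      intro a
      have := (hc a).1
      have := Groth.Variety2.isProper_projSpaceOver_toBase (m a) S
      change LocallyOfFiniteType (Sigma.ι P a ≫ e.hom ≫ H₀.hom)
      rw [← (hc a).2]
      infer_instance
    have h2 : H₀.hom = e.inv ≫ e.hom ≫ H₀.hom := by rw [Iso.inv_hom_id_assoc]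
    rw [h2]
    infer_instance
  -- the product
  let H₂ : Over S := Over.mk (pullback.fst H₀.hom H₀.hom ≫ H₀.hom)
  let π₁ : H₂ ⟶ H₀ := Over.homMk (pullback.fst H₀.hom H₀.hom) rfl
  let π₂ : H₂ ⟶ H₀ := Over.homMk (pullback.snd H₀.hom H₀.hom) pullback.condition.symm
  have : IsLocallyNoetherian H₂.left :=
    LocallyOfFiniteType.isLocallyNoetherian (pullback.fst H₀.hom H₀.hom)
  have hprop : ∀ T : Over S, IsProper (PicF.XTproj f T) := fun T =>
    MorphismProperty.of_isPullback (IsPullback.of_hasPullback f T.hom) ‹IsProper f›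
  have hN : ∀ T : Over S, IsLocallyNoetherian T.left → IsLocallyNoetherian (PicF.XT f T) :=
    fun T _ => have := hprop T; LocallyOfFiniteType.isLocallyNoetherian (PicF.XTproj f T)
  let O := Coh.structureModule (CohB1.ProjSpaceOver r S)
  let eT := Groth.Quot.eT f
  have := hN H₀ hH₀
  have := hN H₂ inferInstance
  let I₁ := FGA.hilbPull f π₁ Z.1
  let I₂ := FGA.hilbPull f π₂ Z.1
  let K₀ : FGA.QuotSet f O H₀ := ⟨Groth.Quot.subI (eT H₀) Z.1, Groth.Quot.isCoh_subI _ _,
    (Groth.Quot.isFlatOver_subI_iff _ _ _).2 Z.2.2⟩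
  let K₁ := Groth.Quot.subI (eT H₂) I₁
  let K₂ := Groth.Quot.subI (eT H₂) I₂
  have hm₁ : Coh.IsCoh (cokernel K₁.arrow) ∧
      FlatMod.IsFlatOver (PicF.XTproj f H₂) (cokernel K₁.arrow) := by
    rw [show K₁ = FGA.quotPull f O π₁ K₀.1 from (Groth.Quot.quotPull_subI f π₁ Z.1).symm]
    exact Groth.Quot.quotPull_mem f π₁ K₀
  -- the closed condition
  have hOq : (FGA.ET f O H₂).IsQuasicoherent :=
    have : O.IsQuasicoherent := Groth.QCohMod.isQCoh_unit _
    Groth.QCohMod.isQCoh_pullback_obj _ _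
  have hK₂ : Coh.IsCoh (K₂ : (PicF.XT f H₂).Modules) := by
    have hO : Coh.IsCoh (FGA.ET f O H₂) := Groth.FlatStrata.isCoh_pullback _
      (have : IsLocallyNoetherian (CohB1.ProjSpaceOver r S) :=
        LocallyOfFiniteType.isLocallyNoetherian f
      Groth.QCohMod.isCoh_unit)
    let q := (eT H₂).hom ≫ Groth.CohBase.unitPush I₂.subschemeι
    have : (Coh.structureModule I₂.subscheme).IsQuasicoherent := Groth.QCohMod.isQCoh_unit _
    have := Groth.QCohMod.isQCoh_pushforward (Coh.structureModule I₂.subscheme) I₂.subschemeι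
    have hk := Groth.QCohMod.isCoh_kernel q hO
    have := hk.1
    exact Groth.QCohMod.isCoh_of_iso (kernelSubobjectIso q).symm hk
  have := hprop H₂
  obtain ⟨W, cW, hcW, hW⟩ := Groth.Quot.exists_hom_vanishing_locus (PicF.XTproj f H₂)
    (Groth.Quot.isRelAmple_ET_twistOne r H₂) hK₂ hm₁.1 hm₁.2
    (IsPullback.of_horiz_isIso (⟨by simp⟩ : CommSq (𝟙 (PicF.XT f H₂)) (PicF.XTproj f H₂)
      (PicF.XTproj f H₂) (𝟙 H₂.left)))
    ((Scheme.Modules.pullback (𝟙 (PicF.XT f H₂))).map (K₂.arrow ≫ cokernel.π K₁.arrow))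
  have hcond : ∀ (T : Over S) [IsLocallyNoetherian T.left] (g : T ⟶ H₂),
      FGA.hilbPull f g I₂ ≤ FGA.hilbPull f g I₁ ↔ ∃ z, z ≫ cW = g.left := fun T _ g => by
    have := hN T inferInstance
    refine Iff.trans ?_ (hW g.left (Groth.Quot.isPullback_XTmap f g))
    rw [← Groth.Quot.subI_le_iff (eT T), ← Groth.Quot.quotPull_subI f g I₁,
      ← Groth.Quot.quotPull_subI f g I₂,
      Groth.Quot.pullback_map_comp_eq_zero_iff (PicF.XTmap f g) (𝟙 _) (Category.comp_id _)]
    refine (Groth.Quot.image_le_image_map_iff (Scheme.Modules.pullback (PicF.XTmap f g)) K₁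
      (FGA.ETiso f O g) _).trans ?_
    rw [Category.assoc, Iso.hom_inv_id_assoc, ← Functor.map_comp]
  let H : Over S := Over.mk (cW ≫ H₂.hom)
  let cH : H ⟶ H₂ := Over.homMk cW rfl
  have : IsClosedImmersion cH.left := hcW
  have hHn : IsLocallyNoetherian H.left := LocallyOfFiniteType.isLocallyNoetherian cW
  have := hN H hHn
  have hZ₁ : FGA.hilbPull f cH I₂ ≤ FGA.hilbPull f cH I₁ :=
    (hcond H cH).2 ⟨𝟙 _, Category.id_comp _⟩
  have hpull : ∀ {T T' : Over S} [IsLocallyNoetherian T.left] [IsLocallyNoetherian T'.left]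
      (g : T' ⟶ T) (I : (PicF.XT f T).IdealSheafData),
      Flat (I.subschemeι ≫ PicF.XTproj f T) →
        IsProper ((FGA.hilbPull f g I).subschemeι ≫ PicF.XTproj f T') ∧
          Flat ((FGA.hilbPull f g I).subschemeι ≫ PicF.XTproj f T') := by
    intro T T' hT hT' g I hI
    have := hN T hT
    have := hN T' hT'
    have := hprop T'
    refine ⟨inferInstance, (Groth.Quot.isFlatOver_subI_iff (eT T') _ _).1 ?_⟩
    rw [← Groth.Quot.quotPull_subI]
    exact (Groth.Quot.quotPull_mem f g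
      ⟨Groth.Quot.subI (eT T) I, Groth.Quot.isCoh_subI _ _,
        (Groth.Quot.isFlatOver_subI_iff _ _ _).2 hI⟩).2
  have hcomp : ∀ {T T' T'' : Over S} [IsLocallyNoetherian T.left] [IsLocallyNoetherian T'.left]
      [IsLocallyNoetherian T''.left] (g : T'' ⟶ T') (h : T' ⟶ T)
      (I : (PicF.XT f T).IdealSheafData),
      FGA.hilbPull f g (FGA.hilbPull f h I) = FGA.hilbPull f (g ≫ h) I := by
    intro T T' T'' hT hT' hT'' g h I
    have := hN T hT
    have := hN T' hT'
    have := hN T'' hT''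
    refine Groth.Quot.subI_injective (eT T'') ?_
    rw [← Groth.Quot.quotPull_subI, ← Groth.Quot.quotPull_subI, ← Groth.Quot.quotPull_subI,
      Groth.Quot.quotPull_comp]
  refine ⟨H, ⟨_, hpull cH I₁ (hpull π₁ Z.1 Z.2.2).2⟩, ⟨_, hpull cH I₂ (hpull π₂ Z.1 Z.2.2).2⟩,
    hZ₁, hHn, fun T _ Y₁ Y₂ hY => ?_, ?_⟩
  · obtain ⟨g₁, hg₁, hu₁⟩ := hrep.2 T Y₁
    obtain ⟨g₂, hg₂, hu₂⟩ := hrep.2 T Y₂
    let g : T ⟶ H₂ := Over.homMk (pullback.lift g₁.left g₂.left ((Over.w g₁).trans (Over.w g₂).symm))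
      ((Category.assoc _ _ _).symm.trans ((congrArg (· ≫ H₀.hom)
        (pullback.lift_fst _ _ _)).trans (Over.w g₁)))
    have e₁ : g ≫ π₁ = g₁ := Over.OverMorphism.ext (pullback.lift_fst _ _ _)
    have e₂ : g ≫ π₂ = g₂ := Over.OverMorphism.ext (pullback.lift_snd _ _ _)
    obtain ⟨z, hz⟩ := (hcond T g).1 (by
      rw [hcomp, hcomp, e₁, e₂, hg₁, hg₂]
      exact hY)
    let h : T ⟶ H := Over.homMk z (by
      change z ≫ cW ≫ H₂.hom = T.hom
      rw [← Category.assoc, hz, Over.w])
    have hh : h ≫ cH = g := Over.OverMorphism.ext hz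
    refine ⟨h, ⟨?_, ?_⟩, fun h' hh' => ?_⟩
    · change FGA.hilbPull f h (FGA.hilbPull f cH I₁) = Y₁.1
      rw [hcomp, hh, hcomp, e₁, hg₁]
    · change FGA.hilbPull f h (FGA.hilbPull f cH I₂) = Y₂.1
      rw [hcomp, hh, hcomp, e₂, hg₂]
    · have h1 : (h' ≫ cH) ≫ π₁ = g₁ := hu₁ _ (by
        change FGA.hilbPull f ((h' ≫ cH) ≫ π₁) Z.1 = Y₁.1
        rw [← hcomp, ← hcomp]
        exact hh'.1)
      have h2 : (h' ≫ cH) ≫ π₂ = g₂ := hu₂ _ (by
        change FGA.hilbPull f ((h' ≫ cH) ≫ π₂) Z.1 = Y₂.1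
        rw [← hcomp, ← hcomp]
        exact hh'.2)
      refine Over.OverMorphism.ext ((cancel_mono cW).1 ?_)
      rw [show h.left ≫ cW = g.left from hz]
      apply pullback.hom_ext
      · exact (congrArg CommaMorphism.left h1).trans (congrArg CommaMorphism.left e₁).symm
      · exact (congrArg CommaMorphism.left h2).trans (congrArg CommaMorphism.left e₂).symm
  · have : IsClosedImmersion (show H.left ⟶ pullback H₀.hom H₀.hom from cW) := hcW
    exact Groth.Quot.exists_decomp_closed_product P e m c hc H cW rfl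

end Groth.Agent.S11304
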