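import Groth.Statements.S11306
import Mathlib

set_option autoImplicit false
universe u
open TensorProduct
open CAlg

namespace Groth.Agent.S11306

/-- Take a Noetherian local domain A, with residue field k and fraction field K, and let M be a finitely
generated A-module. If k ⊗_A M and K ⊗_A M have the same dimension r (over k and over K
respectively), then M is a free A-module of rank r. -/
theorem result (A : Type u) [CommRing A] [IsDomain A]
    [IsNoetherianRing A] [IsLocalRing A] (M : Type u) [AddCommGroup M] [Module A M] [Module.Finite A M] (r : ℕ)
    (hk : Module.finrank (IsLocalRing.ResidueField A) (IsLocalRing.ResidueField A ⊗[A] M) = r)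
    (hK : Module.finrank (FractionRing A) (FractionRing A ⊗[A] M) = r) :
    Module.Free A M ∧ Module.finrank A M = r := by
  classical
  let k := IsLocalRing.ResidueField A
  let K := FractionRing A
  let b := (Module.finBasis k (k ⊗[A] M)).reindex (finCongr hk)
  have hs : Function.Surjective (TensorProduct.mk A k M 1) :=
    TensorProduct.mk_surjective A M k Ideal.Quotient.mk_surjective
  choose g hg using fun i => hs (b i)
  have hspan := IsLocalRing.span_eq_top_of_tmul_eq_basis g b hg
  let L : (Fin r → A) →ₗ[A] M := Fintype.linearCombination A g
  have hL : Function.Surjective L := by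
    rw [← LinearMap.range_eq_top, Fintype.range_linearCombination, hspan]
  have hbij : Function.Bijective (L.baseChange K) := by
    have hsur : Function.Surjective (L.baseChange K) := LinearMap.lTensor_surjective K hL
    refine ⟨(LinearMap.injective_iff_surjective_of_finrank_eq_finrank ?_).2 hsur, hsur⟩
    rw [hK, Module.finrank_baseChange, Module.finrank_fin_fun]
  have hinj : Function.Injective L := by
    intro x y hxy
    have h1 : (1 : K) ⊗ₜ[A] x = (1 : K) ⊗ₜ[A] y := hbij.1 (by simp [hxy])
    have h2 := congrArg (TensorProduct.piScalarRight A K K (Fin r)) h1
    funext i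
    have h3 := congrFun h2 i
    simp [Algebra.smul_def] at h3
    exact h3
  let e := LinearEquiv.ofBijective L ⟨hinj, hL⟩
  exact ⟨Module.Free.of_equiv e, by rw [← e.finrank_eq, Module.finrank_fin_fun]⟩

end Groth.Agent.S11306
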