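import Groth.Statements.S11308
import Groth.Agent.Agf.BlowUpExceptional
import Groth.Agent.Agf.RegularPoints
import Groth.Agent.Ega4Algebra2.RegularImmersion
import Groth.Agent.Ega4Algebra2.RegularIdeal
import Groth.Agent.VarietyBC.CotangentInjective
import Groth.Agent.HTopHyper.BlowUpProper
import Groth.Agent.Divisors.BlowUpBasic
import Groth.Agent.BlowUpBasics.Global
import Groth.Agent.RefRank.RelDiv
-- import your own Groth.Agent.* helpers here

set_option autoImplicit false
universe u
open CategoryTheory CategoryTheory.Limits AlgebraicGeometry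
open NonsingVar

namespace Groth.Agent.S11308

open IsLocalRing in
/-- The maximal ideal of a regular local ring is generated by a regular sequence. -/
theorem isRegularIdeal_maximalIdeal (R : Type u) [CommRing R] [IsRegularLocalRing R] :
    CInt.IsRegularIdeal (maximalIdeal R) := by
  let b := Module.finBasis (ResidueField R) (CotangentSpace R)
  choose g hg using fun i => (maximalIdeal R).toCotangent_surjective (b i)
  let f : Fin _ → R := fun i => (g i : R)
  have hspan : Ideal.span (Set.range f) = maximalIdeal R :=
    Groth.VarietyBC.CotInj.span_eq_maximalIdeal g (by rw [funext hg]; exact b.span_eq)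
  have he : Ideal.ofList (List.ofFn f) = maximalIdeal R := by
    refine (congrArg Ideal.span (Set.ext fun x => ?_)).trans hspan
    simp [List.mem_ofFn]
  refine ⟨List.ofFn f, ⟨Groth.Ega4b.isWeaklyRegular_of_independent_mod_sq _ R f (fun i => (g i).2)
    fun a ha i => ?_, ?_⟩, he⟩
  · have h2 : ∑ i, residue R (a i) • b i = 0 := by
      rw [← show (maximalIdeal R).toCotangent (∑ i, a i • g i) = ∑ i, residue R (a i) • b i from by
        rw [map_sum]
        refine Finset.sum_congr rfl fun i _ => ?_
        rw [map_smul, hg, ← algebraMap_smul (ResidueField R) (a i)]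
        rfl]
      rw [Ideal.toCotangent_eq_zero, Submodule.coe_sum]
      exact ha
    exact (residue_eq_zero_iff _).mp (Fintype.linearIndependent_iff.mp b.linearIndependent _ h2 i)
  · intro h
    rw [he, smul_eq_mul, Ideal.mul_top] at h
    exact (maximalIdeal.isMaximal R).ne_top h.symm

open IsLocalRing in
/-- The kernel of a surjection of regular local rings is generated by a regular sequence. -/
theorem isRegularIdeal_ker {R S : Type u} [CommRing R] [IsRegularLocalRing R] [CommRing S]
    [IsRegularLocalRing S] (φ : R →+* S) (hφ : Function.Surjective φ) :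
    CInt.IsRegularIdeal (RingHom.ker φ) := by
  have := IsRegularLocalRing.of_ringEquiv (RingHom.quotientKerEquivOfSurjective hφ).symm
  refine Groth.Ega4b.isRegularIdeal_of_regular_of_quotient _ (maximalIdeal R)
    (le_maximalIdeal (RingHom.ker_ne_top φ)) le_rfl (isRegularIdeal_maximalIdeal R) ?_
  haveI := IsLocalHom.of_surjective (Ideal.Quotient.mk (RingHom.ker φ)) Ideal.Quotient.mk_surjective
  have h : (maximalIdeal R).map (Ideal.Quotient.mk (RingHom.ker φ)) = maximalIdeal (R ⧸ RingHom.ker φ) := by
    rw [← IsLocalRing.maximalIdeal_comap (Ideal.Quotient.mk (RingHom.ker φ)),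
      Ideal.map_comap_of_surjective _ Ideal.Quotient.mk_surjective]
  rw [h]
  exact isRegularIdeal_maximalIdeal _


/-- Let k be an algebraically closed field, X a nonsingular variety over k (an integral scheme,
separated and of finite type over k, all of whose local rings are regular), Y a nonsingular closed
subvariety of X (an integral closed subscheme all of whose local rings are regular) with ideal sheaf
I, and π : X~ → X a blowing-up of X with respect to I, characterised by its universal property. Then
X~ is nonsingular: all of its local rings are regular. -/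
theorem result (k : Type u) [Field k] [IsAlgClosed k]
    (X : Scheme.{u}) [X.Over (Spec (CommRingCat.of k))] [IsIntegral X] [IsSeparated (X ↘ (Spec (CommRingCat.of k)))]
    [LocallyOfFiniteType (X ↘ (Spec (CommRingCat.of k)))] [QuasiCompact (X ↘ (Spec (CommRingCat.of k)))]
    (hreg : ∀ x : ↥X, IsRegularLocalRing ↑(X.presheaf.stalk x))
    (Y : Scheme.{u}) (i : Y ⟶ X) [IsClosedImmersion i] [IsIntegral Y]
    (hregY : ∀ y : ↥Y, IsRegularLocalRing ↑(Y.presheaf.stalk y))
    (Xt : Scheme.{u}) (π : Xt ⟶ X) (hπ : BlowUp.IsBlowUp π i.ker) :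
    ∀ z : ↥Xt, IsRegularLocalRing ↑(Xt.presheaf.stalk z) := by
  classical
  have := LocallyOfFiniteType.isLocallyNoetherian (X ↘ (Spec (CommRingCat.of k)))
  have hproper := Groth.HTopHyper.isProper_of_isBlowUp hπ (fun U => by
    haveI := IsLocallyNoetherian.component_noetherian U
    exact IsNoetherian.noetherian _)
  intro z
  by_cases hz : π z ∈ i.ker.support
  swap
  · have := Groth.Divisors.isIso_stalkMap_off hπ z hz
    have := hreg (π z)
    exact IsRegularLocalRing.of_ringEquiv
      (RingEquiv.ofBijective (π.stalkMap z).hom (ConcreteCategory.bijective_of_isIso _))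
  obtain ⟨w, hw⟩ : π z ∈ Set.range i := by
    have h : π z ∈ (i.ker.support : Set X) := hz
    rwa [Scheme.Hom.support_ker,
      i.isClosedEmbedding.isClosed_range.closure_eq] at h
  have := hreg (i w)
  have := hregY w
  obtain ⟨V, hwV, hV⟩ := (Groth.Ega4b.regular_near_iff i w).mpr
    (isRegularIdeal_ker (i.stalkMap w).hom (i.stalkMap_surjective w))
  obtain ⟨U, hU, hwU, rs, hrs, hker⟩ := hV.2 ⟨w, hwV⟩
  let g : Spec Γ((V : Scheme.{u}), U) ⟶ X := hU.fromSpec ≫ V.ι
  let f : Fin rs.length → Γ((V : Scheme.{u}), U) := fun j => rs.get j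
  have hf : List.ofFn f = rs := List.ofFn_get rs
  have hspan : Ideal.span (Set.range f) = Ideal.ofList rs := by
    refine (congrArg Ideal.span (Set.ext fun x => ?_)).trans (congrArg Ideal.ofList hf)
    simp [List.mem_ofFn]
  have hkerg : i.ker.comap g = Groth.BlowUpBasics.sheafOf (Ideal.span (Set.range f)) := by
    rw [Scheme.IdealSheafData.comap_comp, ← Scheme.IdealSheafData.ker_fst_of_isClosedImmersion i V.ι,
      ← Scheme.Hom.ker_comp_of_isIso (isPullback_morphismRestrict i V).isoPullback.hom,
      (isPullback_morphismRestrict i V).isoPullback_hom_fst, hspan, ← hker]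
    exact Groth.HTopHyper.comap_fromSpec _ ⟨U, hU⟩
  -- the chart
  have hb : BlowUp.IsBlowUp (pullback.fst g π) (Groth.BlowUpBasics.sheafOf (Ideal.span (Set.range f))) :=
    hkerg ▸ Groth.BlowUpBasics.isBlowUp_of_isPullback hπ (IsPullback.of_hasPullback g π)
  haveI : IsClosedImmersion (pullback.fst g i) := MorphismProperty.pullback_fst _ _ inferInstance
  haveI : IsNoetherianRing Γ((V : Scheme.{u}), U) := IsLocallyNoetherian.component_noetherian ⟨U, hU⟩
  have hjker : (pullback.fst g i).ker = Groth.BlowUpBasics.sheafOf (Ideal.span (Set.range f)) :=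
    (Scheme.IdealSheafData.ker_fst_of_isClosedImmersion i g).trans hkerg
  have hsm := @Groth.Agf.BlowUpExceptional.smooth_snd _ _ _ f (hf.symm ▸ hrs.toIsWeaklyRegular) _ _
    (pullback.fst g π) hb (pullback.fst g i) ‹_› hjker
  -- the points
  obtain ⟨a, ha⟩ : π z ∈ Set.range g := by
    refine ⟨hU.primeIdealOf ⟨(i ∣_ V) ⟨w, hwV⟩, hwU⟩, ?_⟩
    show V.ι (hU.fromSpec (hU.primeIdealOf ⟨(i ∣_ V) ⟨w, hwV⟩, hwU⟩)) = π z
    rw [hU.fromSpec_primeIdealOf, ← hw, ← Scheme.Hom.comp_apply, morphismRestrict_ι]
    rfl
  obtain ⟨zt, hzt₁, hzt₂⟩ := Scheme.Pullback.exists_preimage_pullback a z ha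
  obtain ⟨wt, hwt₁, hwt₂⟩ := Scheme.Pullback.exists_preimage_pullback a w (ha.trans hw.symm)
  obtain ⟨e, he₁, he₂⟩ := Scheme.Pullback.exists_preimage_pullback (f := pullback.fst g π)
    (g := pullback.fst g i) zt wt (hzt₁.trans hwt₁.symm)
  have : IsLocallyNoetherian (pullback g i) :=
    LocallyOfFiniteType.isLocallyNoetherian (pullback.fst g i)
  have hwreg : IsRegularLocalRing ((pullback g i).presheaf.stalk
      (pullback.snd (pullback.fst g π) (pullback.fst g i) e)) := by
    rw [he₂]
    have := hregY (pullback.snd g i wt)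
    exact IsRegularLocalRing.of_ringEquiv
      (RingEquiv.ofBijective ((pullback.snd g i).stalkMap wt).hom (ConcreteCategory.bijective_of_isIso _))
  have := @Groth.Agf.RegularPoints.isRegularLocalRing_stalk_of_smooth _ _ ‹_›
    (pullback.snd (pullback.fst g π) (pullback.fst g i)) hsm e hwreg
  -- the exceptional divisor
  let c := pullback.fst (pullback.fst g π) (pullback.fst g i)
  have hc : BlowUp.IsEffCartierIdeal c.ker := by
    rw [Scheme.IdealSheafData.ker_fst_of_isClosedImmersion, hjker]
    exact hb.1
  have : IsLocallyNoetherian (pullback g π) :=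
    LocallyOfFiniteType.isLocallyNoetherian (pullback.fst g π)
  obtain ⟨O, hO, heO, -⟩ := exists_isAffineOpen_mem_and_subset (x := c e) (U := ⊤) trivial
  obtain ⟨t, ht, hts⟩ := Groth.RefRank.RelDiv.exists_stalk_gen hc (V := ⟨O, hO⟩) heO
  have hker' : RingHom.ker (c.stalkMap e).hom = Ideal.span {t} := by
    rw [Groth.Ega4b.ker_stalkMap_eq_map c hO e heO]
    exact hts
  have htm : t ∈ IsLocalRing.maximalIdeal ((pullback g π).presheaf.stalk (c e)) :=
    IsLocalRing.le_maximalIdeal (RingHom.ker_ne_top (c.stalkMap e).hom)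
      (hker' ▸ Ideal.mem_span_singleton_self t)
  have := IsRegularLocalRing.of_ringEquiv ((Ideal.quotEquivOfEq hker'.symm).trans
    (RingHom.quotientKerEquivOfSurjective (c.stalkMap_surjective e))).symm
  have hzreg : IsRegularLocalRing ((pullback g π).presheaf.stalk zt) :=
    he₁ ▸ Groth.Ega4Algebra1.isRegularLocalRing_of_quotient_span_singleton htm ht
  rw [← hzt₂]
  exact IsRegularLocalRing.of_ringEquiv
    (RingEquiv.ofBijective ((pullback.snd g π).stalkMap zt).hom (ConcreteCategory.bijective_of_isIso _)).symm

end Groth.Agent.S11308
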