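import Groth.Statements.S11309
import Groth.Agent.BlowUpLCI.ExceptionalBundle
import Groth.Agent.S2889

set_option autoImplicit false
universe u
open CategoryTheory CategoryTheory.Limits AlgebraicGeometry TopologicalSpace Opposite
open scoped HomogeneousIdeal
noncomputable section
open NonsingVar

namespace Groth.Agent.S11309

/-- A relative Proj transported along an isomorphism. -/
theorem exists_chart_of_iso {S P P' : Scheme.{u}} {𝒮 : RelProj.QCGrAlg S} {p : P ⟶ S}
    {chart : ∀ (U : S.Opens) (hU : IsAffineOpen U), (((p ⁻¹ᵁ U : P.Opens) : Scheme.{u}) ≅ Proj (𝒮.deg U hU))}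
    (hP : RelProj.IsRelProj 𝒮 p chart) (r : P' ⟶ P) [IsIso r] (q : P' ⟶ S) (hq : r ≫ p = q) :
    ∃ chart' : ∀ (U : S.Opens) (hU : IsAffineOpen U), (((q ⁻¹ᵁ U : P'.Opens) : Scheme.{u}) ≅ Proj (𝒮.deg U hU)),
      RelProj.IsRelProj 𝒮 q chart' := by
  subst hq
  have (U : P.Opens) : IsIso (r ∣_ U) :=
    IsZariskiLocalAtTarget.restrict (P := MorphismProperty.isomorphisms Scheme) ‹IsIso r› U
  refine ⟨fun U hU => @asIso _ _ _ _ (r ∣_ (p ⁻¹ᵁ U)) (this _) ≪≫ chart U hU, ⟨fun U hU => ?_, fun U hU a => ?_⟩⟩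
  · change ((r ∣_ (p ⁻¹ᵁ U)) ≫ (chart U hU).hom) ≫ _ = (r ⁻¹ᵁ (p ⁻¹ᵁ U)).ι ≫ r ≫ p
    rw [Category.assoc, hP.chart_over, morphismRestrict_ι_assoc]
  · change P'.homOfLE _ ≫ (r ∣_ (p ⁻¹ᵁ U)) ≫ (chart U hU).hom =
      ((r ∣_ (p ⁻¹ᵁ S.basicOpen a)) ≫ (chart (S.basicOpen a) (hU.basicOpen a)).hom) ≫ _
    rw [Category.assoc, ← hP.chart_res U hU a, ← Category.assoc, ← Category.assoc]
    congr 1
    rw [← cancel_mono (p ⁻¹ᵁ U).ι]
    simp only [Category.assoc, morphismRestrict_ι, Scheme.homOfLE_ι]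
    exact Scheme.homOfLE_ι_assoc _ _ _

/-- Let k be an algebraically closed field, X a nonsingular variety over k (integral, separated and of
finite type over k, all local rings regular), i : Y → X a nonsingular closed subvariety (an integral
closed subscheme with regular local rings) with ideal sheaf I, and π : X~ → X a blowing-up of X
along I (universal property). Let Y′ be the closed subscheme of X~ defined by the inverse image
ideal I·O_{X~} and q : Y′ → Y the induced projection (the unique morphism with q followed by i equal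
to the inclusion of Y′ followed by π). Let S be a graded symmetric algebra of the conormal sheaf
I/I² of Y in X (a quasi-coherent O_Y-module). Then Y′ together with q is a relative Proj of S over
Y, that is, Y′ is isomorphic over Y to the projective space bundle P(I/I²): there is a family of
charts over the affine opens of Y exhibiting q as Proj of S. -/
theorem result (k : Type u) [Field k] [IsAlgClosed k]
    (X : Scheme.{u}) [X.Over (Spec (CommRingCat.of k))] [IsIntegral X] [IsSeparated (X ↘ (Spec (CommRingCat.of k)))]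
    [LocallyOfFiniteType (X ↘ (Spec (CommRingCat.of k)))] [QuasiCompact (X ↘ (Spec (CommRingCat.of k)))]
    (hreg : ∀ x : ↥X, IsRegularLocalRing ↑(X.presheaf.stalk x))
    (Y : Scheme.{u}) (i : Y ⟶ X) [IsClosedImmersion i] [IsIntegral Y]
    (hregY : ∀ y : ↥Y, IsRegularLocalRing ↑(Y.presheaf.stalk y))
    (Xt : Scheme.{u}) (π : Xt ⟶ X) (hπ : BlowUp.IsBlowUp π i.ker)
    (q : (BlowUp.exceptional π i.ker).subscheme ⟶ Y)
    (hq : q ≫ i = (BlowUp.exceptional π i.ker).subschemeι ≫ π)
    (hE : Coh.IsQCoh (Omega.conormal i))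
    (𝒮 : RelProj.QCGrAlg Y) (j : Omega.conormal i ⟶ 𝒮.toModule)
    (h𝒮 : RelProj.IsGrSymAlg (Omega.conormal i) 𝒮 j) :
    ∃ chart : ∀ (U : Y.Opens) (hU : IsAffineOpen U),
        (((q ⁻¹ᵁ U : ((BlowUp.exceptional π i.ker).subscheme).Opens) : Scheme.{u}) ≅ Proj (𝒮.deg U hU)),
      RelProj.IsRelProj 𝒮 q chart := by
  have hreg' : Mor2.IsRegularClosedImmersion i := by
    haveI : IsLocallyNoetherian X := LocallyOfFiniteType.isLocallyNoetherian (X ↘ (Spec (CommRingCat.of k)))
    refine ⟨inferInstance, fun z => ?_⟩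
    haveI := hregY z
    obtain ⟨V, hzV, hV⟩ := (Groth.Agent.S2889.result i z).2 (hreg (i z))
    obtain ⟨U, hU, hzU, rs, hrs, hker⟩ := hV.2 ⟨z, hzV⟩
    refine ⟨V.ι ''ᵁ U, hU.image_of_isOpenImmersion _, ⟨⟨i z, hzV⟩, ?_, rfl⟩, rs, hrs, ?_⟩
    · have e : (i ∣_ V) ⟨z, hzV⟩ = (⟨i z, hzV⟩ : V.toScheme) :=
        Subtype.ext (morphismRestrict_base_coe i V ⟨z, hzV⟩)
      rwa [e] at hzU
    · rw [Scheme.ker_morphismRestrict_ideal] at hker
      exact hker
  haveI : (Omega.conormal i).IsQuasicoherent := hE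
  obtain ⟨P, p, chart, hP⟩ := Groth.Ega2P2.exists_isRelProj 𝒮
  have hO1 := Groth.RelTw.isRelTwist_relTwist hP 1
  obtain ⟨φ, hφ⟩ := Groth.RelTw.exists_phi h𝒮 hP hO1
  let B : Groth.RelVA.Bdl (Omega.conormal i) := ⟨𝒮, j, h𝒮, P, p, chart, hP, _, _, hO1, φ, hφ⟩
  have hsq : IsPullback (BlowUp.exceptional π i.ker).subschemeι q π i := by
    have hI : IsIso i.toImage := inferInstance
    refine IsPullback.of_iso (IsPullback.of_hasPullback π i.ker.subschemeι)
      (Scheme.IdealSheafData.comapIso i.ker π).symm (Iso.refl _) (asIso i.toImage).symm (Iso.refl _) ?_ ?_ ?_ ?_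
    · simp
    · rw [← cancel_mono i]
      simp only [Iso.symm_hom, asIso_inv, Category.assoc, hq, Scheme.IdealSheafData.comapIso_inv_subschemeι_assoc]
      rw [show inv i.toImage ≫ i = i.ker.subschemeι by rw [IsIso.inv_comp_eq]; exact i.toImage_imageι.symm]
      exact pullback.condition.symm
    · simp
    · simp only [Iso.refl_hom, Category.comp_id, Iso.symm_hom, asIso_inv]
      rw [IsIso.eq_inv_comp]
      exact i.toImage_imageι
  obtain ⟨φc, r, hr, -, hclass⟩ := Groth.BlowUpLCI.exists_iso_bdl hreg' hπ hsq B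
  exact exists_chart_of_iso hP r q hclass.1

end Groth.Agent.S11309
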