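import Groth.Statements.S1131
import Groth.Agent.DescentBase.Canonical

set_option autoImplicit false
open CategoryTheory CategoryTheory.Limits AlgebraicGeometry Opposite
universe u
open Desc

namespace Groth.Agent.S1131

set_option backward.isDefEq.respectTransparency.types false

/-- If p : X ⟶ S is surjective, flat and quasi-compact, then the functor sending a scheme over S to its
canonical descent datum relative to p is full. (Faithfulness, which needs no quasi-compactness, is a
companion statement.) (Descent data are taken in functor-of-points form, equivalent by the Yoneda
lemma to the usual form of an isomorphism over X ×_S X satisfying the cocycle condition.) -/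
theorem result {X S : Scheme.{u}} (p : X ⟶ S) [Surjective p] [Flat p] [QuasiCompact p] :
    (Desc.toDD p).Full := by
  refine ⟨fun {U U'} η => ?_⟩
  let k := Groth.DescentBase.component η
  let π := pullback.snd p U.hom
  have hk := Groth.DescentBase.component_compat η
  let f := EffectiveEpi.desc π k (fun {Z} g₁ g₂ h => hk Z g₁ g₂ h)
  have hf : π ≫ f = k := EffectiveEpi.fac _ _ _
  refine ⟨Over.homMk f ?_, Groth.DescentBase.map_eq_of_component η _ hf⟩
  rw [← cancel_epi π, ← Category.assoc, hf]
  exact Groth.DescentBase.component_comp η

end Groth.Agent.S1131
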