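import Groth.Statements.S11316
import Groth.Agent.Duality.ClosedDual
import Groth.Agent.Flatmor4.MiracleScheme
import Groth.Agent.Variety2.DimScheme

set_option autoImplicit false
universe u
open CategoryTheory CategoryTheory.Limits AlgebraicGeometry
attribute [local instance] HasDerivedCategory.standard
open ProjDual

namespace Groth.Agent.S11316

/-- Let k be an algebraically closed field and X a closed subscheme of some P^N_k, of dimension n, which
is Cohen–Macaulay (every local ring of X is Cohen–Macaulay) and equidimensional (every irreducible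
component of X has dimension n); let (ω, t) be a dualizing sheaf for X, i.e. ω is coherent, t :
H^n(X, ω) → k is k-linear, and for every coherent F and every k-linear form ψ on H^n(X, F) there is
exactly one φ : F → ω with ψ = t ∘ H^n(φ). Then for every finite locally free O_X-module F for which
the internal Hom functor Hom_{O_X}(F, -) exists (right adjoint of F ⊗ -) and every i ≤ n, the k-dual
of H^i(X, F) is isomorphic to H^(n-i)(X, Hom_{O_X}(F, ω)). (Existence of a k-linear isomorphism
only; the published statement writes the second module as H^(n-i)(X, F^∨ ⊗ ω) and obtains the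
isomorphism from the duality maps θ^i.) -/
theorem result
    (k : Type u) [Field k] [IsAlgClosed k] (N n : ℕ) (X : Scheme.{u}) [X.Over (Spec (CommRingCat.of k))]
    (ι : X ⟶ CohB1.ProjSpace N k) [IsClosedImmersion ι] (hι : ι ≫ CohB1.ProjSpace.toSpec N k = X ↘ Spec (CommRingCat.of k))
    (hn : topologicalKrullDim ↥X = n)
    (hCM : ∀ x : X, LocCoh.IsCohenMacaulayLocalRing (X.presheaf.stalk x))
    (heq : ∀ Z : Set ↥X, Z ∈ irreducibleComponents ↥X → topologicalKrullDim ↥Z = (n : WithBot ℕ∞))
    (ω : X.Modules) (hω : Coh.IsCoh ω) (t : Coh.HH X ω n →ₗ[k] k)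
    (hdual : ∀ F : X.Modules, Coh.IsCoh F → ∀ ψ : Coh.HH X F n →ₗ[k] k,
        ∃! φ : F ⟶ ω, ∀ x : Coh.HH X F n,
          ψ x = t (Sheaf.H.map ((SheafOfModules.toSheaf X.ringCatSheaf).map φ) n x))
    (F : X.Modules) (hF : FlatMod.IsFinLocFree F) [DCoh.HasSheafHom F] (i : ℕ) (hi : i ≤ n) :
    Nonempty (Module.Dual k (Coh.HH X F i) ≃ₗ[k] Coh.HH X ((DCoh.sheafHom F).obj ω) (n - i)) := by
  have he : ∀ η : X, IsMax η → Order.height η = n := fun η hη => by
    have hZ : closure ({η} : Set ↥X) ∈ irreducibleComponents ↥X := by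
      refine ⟨isIrreducible_singleton.closure, fun T hT hsub => ?_⟩
      obtain ⟨ζ, hζ⟩ := QuasiSober.sober hT.closure isClosed_closure
      have h1 : ζ ⤳ η := hζ.specializes (subset_closure (hsub (subset_closure rfl)))
      have h2 : η ⤳ ζ := Scheme.le_iff_specializes.1 (hη (Scheme.le_iff_specializes.2 h1))
      exact fun t ht => (h2.mem_closed isClosed_closure (subset_closure rfl)) |>
        fun hm => ((hζ.specializes (subset_closure ht))).mem_closed isClosed_closure hm
    have h := heq _ hZ
    rw [Groth.Variety2.Dim.dim_closure_singleton] at h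
    exact WithBot.coe_injective h
  have := Groth.Duality.Closed.isNoetherian ι
  have := Groth.PnCoh.isLocallyNoetherian_projSpace N k
  have hclosed : ∀ x : X, IsClosed ({x} : Set ↥X) → ringKrullDim (X.presheaf.stalk x) = n := fun x hx => by
    have h := Groth.Flatmor4.height_add_dim_stalk_of_equidim (ι ≫ CohB1.ProjSpace.toSpec N k) he x
    rw [Order.height_eq_zero.2 fun y hy => le_of_eq
      ((Scheme.le_iff_specializes.1 hy).mem_closed hx rfl).symm] at h
    simpa using h
  haveI : HasExt.{u} X.Modules := hasExt_of_enoughInjectives _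
  have hcov := Groth.Duality.Closed.hasAcyclicCovers ι hω (d := n) (s := n)
    fun q hq _ => (Groth.Duality.Closed.forall_vanish_iff_cm ι hn).2
      (fun x hx => ⟨hCM x, hclosed x hx⟩) q hq
  have := Groth.Duality.SheafHom.hasSheafHom F
  obtain ⟨a⟩ := Groth.Duality.SheafHom.nonempty_ext_linearEquiv k F hF (n - i) ω
  obtain ⟨b⟩ := Groth.Duality.DualPair.nonempty_linearEquiv t hdual hcov (Nat.sub_le n i) le_rfl
    (Groth.KTheory.LocFree.isCoh hF)
  rw [show n - (n - i) = i by omega] at b
  exact ⟨b.symm ≪≫ₗ a⟩

end Groth.Agent.S11316
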