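import Groth.Statements.S11317
import Groth.Agent.Duality.SmoothDual
import Groth.Agent.Duality.SheafHomExt
import Groth.Agent.Duality.WedgePairing

set_option autoImplicit false
universe u
open CategoryTheory CategoryTheory.Limits AlgebraicGeometry
open ProjDual

namespace Groth.Agent.S11317

/-- Let k be an algebraically closed field and X a nonsingular projective variety of dimension n over k
— an integral k-scheme, smooth of relative dimension n over k, with a closed immersion into some
P^N_k over k. Let p, q ≤ n and let L and L' be O_X-modules which are a p-th, respectively an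
(n-p)-th, exterior power of the sheaf of differentials of X over k. Then H^q(X, L) and H^(n-q)(X,
L') have the same dimension over k: h^q(Ω^p) = h^(n-q)(Ω^(n-p)). (The published statement gives a
natural isomorphism of H^q(X, Ω^p) with the dual of H^(n-q)(X, Ω^(n-p)); this row records the
equality of dimensions.) -/
theorem result (k : Type u) [Field k] [IsAlgClosed k] (n N : ℕ)
    (X : Scheme.{u}) [X.Over (Spec (CommRingCat.of k))] [IsIntegral X]
    [SmoothOfRelativeDimension n (X ↘ Spec (CommRingCat.of k))]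
    (ι : X ⟶ CohB1.ProjSpace N k) [IsClosedImmersion ι] (hι : ι ≫ CohB1.ProjSpace.toSpec N k = X ↘ Spec (CommRingCat.of k))
    (p q : ℕ) (hp : p ≤ n) (hq : q ≤ n) (L L' : X.Modules)
    (hL : ExtPow.IsExtPow p (Omega.sheaf (X ↘ Spec (CommRingCat.of k))) L)
    (hL' : ExtPow.IsExtPow (n - p) (Omega.sheaf (X ↘ Spec (CommRingCat.of k))) L') :
    Module.finrank k (Coh.HH X L q) = Module.finrank k (Coh.HH X L' (n - q)) := by
  haveI := Groth.PnCoh.isLocallyNoetherian_projSpace N k
  haveI : QuasiSeparated (X ↘ Spec (CommRingCat.of k)) := by rw [← hι]; infer_instance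
  haveI : IsProper (X ↘ Spec (CommRingCat.of k)) := by
    haveI := Groth.Variety2.isProper_projSpace_toSpec N k
    rw [← hι]; infer_instance
  haveI : Smooth (X ↘ Spec (CommRingCat.of k)) := SmoothOfRelativeDimension.smooth n _
  haveI : HasExt.{u} X.Modules := hasExt_of_enoughInjectives _
  haveI := Groth.Duality.Closed.isNoetherian ι
  have hE := Groth.OmegaSheaf.isFinLocFreeOfRank_sheaf (X ↘ Spec (CommRingCat.of k)) n
  haveI := Groth.KTheory.LocFree.isQCoh (Groth.LocFree.isFinLocFree_of_rank hE)
  obtain ⟨t, ht, hcov⟩ := Groth.Duality.SmoothDual.exists_dualData ι hι _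
    (Groth.LocFree.isExtPow_extPow n (Omega.sheaf (X ↘ Spec (CommRingCat.of k))))
  have hF := Groth.LocFree.isFinLocFree_extPow (Groth.LocFree.isFinLocFree_of_rank hE) p
  haveI := Groth.CohTwo.LocFreeExt.hasSheafHom (Groth.LocFree.extPow p (Omega.sheaf (X ↘ Spec (CommRingCat.of k))))
  obtain ⟨a⟩ := Groth.Duality.SheafHom.nonempty_ext_linearEquiv k _ hF (n - q)
    (Groth.LocFree.extPow n (Omega.sheaf (X ↘ Spec (CommRingCat.of k))))
  obtain ⟨b⟩ := Groth.Duality.DualPair.nonempty_linearEquiv t ht hcov (Nat.sub_le n q) le_rfl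
    (Groth.KTheory.LocFree.isCoh hF)
  rw [show n - (n - q) = q by omega] at b
  obtain ⟨w⟩ := Groth.Duality.WedgePairing.nonempty_sheafHom_top_iso hE (show p + (n - p) = n by omega)
  obtain ⟨e1⟩ := Groth.LocFree.nonempty_iso_extPow hL
  obtain ⟨e2⟩ := Groth.LocFree.nonempty_iso_extPow hL'
  rw [← (Groth.EulerDeg.hEquiv k e1 q).finrank_eq, ← (Groth.EulerDeg.hEquiv k (w ≪≫ e2) (n - q)).finrank_eq,
    ← (b.symm ≪≫ₗ a).finrank_eq, Subspace.dual_finrank_eq]

end Groth.Agent.S11317
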