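import Groth.Statements.S1132
import Mathlib

set_option autoImplicit false
open CategoryTheory CategoryTheory.Limits AlgebraicGeometry Opposite
universe u
open Desc

namespace Groth.Agent.S1132

/-- If p : X ⟶ S is a surjective flat morphism of schemes, the functor sending a scheme over S to its
canonical descent datum relative to p is faithful. (This is a special case of a more general
published statement; in this case the objects being descended are simply schemes over S. Descent
data are taken in functor-of-points form, equivalent by the Yoneda lemma to an isomorphism over X
×_S X satisfying the cocycle condition.) -/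
theorem result {X S : Scheme.{u}} (p : X ⟶ S) [Surjective p] [Flat p] :
    (Desc.toDD p).Faithful := by
  constructor
  intro U U' a b h
  have h2 := congrArg (fun e : (Desc.toDD p).obj U ⟶ (Desc.toDD p).obj U' => e.hom.left ≫ pullback.snd p U'.hom) h
  replace h2 : pullback.map p U.hom p U'.hom (𝟙 X) a.left (𝟙 S) (by simp) (by simp) ≫ pullback.snd p U'.hom =
      pullback.map p U.hom p U'.hom (𝟙 X) b.left (𝟙 S) (by simp) (by simp) ≫ pullback.snd p U'.hom := h2
  simp only [pullback.map, pullback.lift_snd] at h2
  have : Surjective (pullback.snd p U.hom) := inferInstance
  have := Flat.epi_of_flat_of_surjective (pullback.snd p U.hom)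
  exact Over.OverMorphism.ext ((cancel_epi _).mp h2)

end Groth.Agent.S1132
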