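import Groth.Statements.S11320
import Groth.Agent.FlatMor2.ColimCoh.Space
import Mathlib.Topology.NoetherianSpace

set_option autoImplicit false
universe u
open CategoryTheory CategoryTheory.Limits
open CohTop

namespace Groth.Agent.S11320

/-- On a Noetherian topological space X, the direct limit, in the category of abelian sheaves, of a
directed system (F_i) of flasque abelian sheaves indexed by a nonempty directed preorder is flasque
(all its restriction maps are surjective). -/
theorem result {X : TopCat.{u}} [TopologicalSpace.NoetherianSpace X]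
    (ι : Type u) [Preorder ι] [IsDirected ι (· ≤ ·)] [Nonempty ι]
    (D : ι ⥤ CohTop.Ab X) (hD : ∀ i : ι, TopCat.Sheaf.IsFlasque (D.obj i)) :
    TopCat.Sheaf.IsFlasque (colimit D : CohTop.Ab X) := by
  haveI : PrespectralSpace X := ⟨TopologicalSpace.isTopologicalBasis_of_isOpen_of_nhds
    (fun s hs => hs.1) (fun a v ha hv => ⟨v, ⟨hv, TopologicalSpace.NoetherianSpace.isCompact v⟩, ha, subset_rfl⟩)⟩
  refine ⟨fun {U V} g => (AddCommGrpCat.epi_iff_surjective _).2 fun x => ?_⟩
  obtain ⟨i, y, hy⟩ := Groth.FlatMor2.ColimCoh.rep_sections (𝔅 := Groth.FlatMor2.ColimCoh.qcqsBasis X)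
    (colimit.cocone D) (colimit.isColimit D) (U := V.unop) ⟨TopologicalSpace.NoetherianSpace.isCompact _,
      fun a b _ _ _ _ _ _ => TopologicalSpace.NoetherianSpace.isCompact _⟩ x
  obtain ⟨z, hz⟩ := (AddCommGrpCat.epi_iff_surjective _).1 ((hD i).epi g) y
  refine ⟨(colimit.ι D i).hom.app U z, ?_⟩
  exact ((ConcreteCategory.congr_hom ((colimit.ι D i).hom.naturality g) z).symm.trans
    (congrArg ((colimit.ι D i).hom.app V) hz)).trans hy

end Groth.Agent.S11320
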