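import Groth.Statements.S11322
import Groth.Agent.Flatmor4.FlatDim

set_option autoImplicit false
universe u
open CategoryTheory AlgebraicGeometry
open FlatMor

namespace Groth.Agent.S11322

/-- Let k be a field, X and Y schemes of finite type over k with Y irreducible, f : X → Y a flat
k-morphism and n a natural number. Then all irreducible components of X have dimension dim Y + n if
and only if, for each point y of Y (generic points included), all irreducible components of the
fibre of f over y have dimension n. -/
theorem result (k : Type u) [Field k]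
    {X Y : Scheme.{u}} (qX : X ⟶ Spec (CommRingCat.of k)) (qY : Y ⟶ Spec (CommRingCat.of k))
    [LocallyOfFiniteType qX] [QuasiCompact qX] [LocallyOfFiniteType qY] [QuasiCompact qY]
    [IrreducibleSpace ↥Y] (f : X ⟶ Y) (hf : f ≫ qY = qX) [Flat f] (n : ℕ) :
    (∀ Z : Set ↥X, Z ∈ irreducibleComponents ↥X → topologicalKrullDim ↥Z = topologicalKrullDim ↥Y + (n : WithBot ℕ∞)) ↔
      ∀ (y : Y) (Z : Set ↥(f.fiber y)), Z ∈ irreducibleComponents ↥(f.fiber y) →
        topologicalKrullDim ↥Z = (n : WithBot ℕ∞) := by
  haveI : LocallyOfFiniteType (f ≫ qY) := hf ▸ inferInstance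
  haveI : LocallyOfFiniteType f := locallyOfFiniteType_of_comp f qY
  haveI : IsLocallyNoetherian Y := LocallyOfFiniteType.isLocallyNoetherian qY
  haveI : LocallyOfFinitePresentation f := inferInstance
  obtain ⟨d, -, hd⟩ := Groth.Variety2.Dim.exists_trdegAt_eq_height qY (genericPoint Y)
  rw [Groth.Flatmor4.forall_component_dim_iff (fun e => e = topologicalKrullDim Y + (n : WithBot ℕ∞)),
    Groth.Flatmor4.dim_eq_height_genericPoint, hd,
    Groth.Flatmor4.forall_fibre_component_dim_iff f (fun e => e = (n : WithBot ℕ∞)),
    ← Groth.Flatmor4.forall_isMax_asFiber_iff f (fun e => (e : WithBot ℕ∞) = (n : WithBot ℕ∞))]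
  refine forall₂_congr fun η hη => ?_
  obtain ⟨t, -, ht⟩ := Groth.FibreDim.exists_relTrdeg_eq_height f η
  rw [Groth.Flatmor4.height_eq_height_add qY f η, ht,
    Groth.FibreDim.eq_genericPoint_of_isMax (Groth.Flatmor4.isMax_image f hη), hd]
  norm_cast
  omega

end Groth.Agent.S11322
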