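import Groth.Statements.S11324
import Groth.Agent.Duality.PnExtShVanish

set_option autoImplicit false
universe u
open CategoryTheory CategoryTheory.Limits AlgebraicGeometry
open ProjDual

namespace Groth.Agent.S11324

/-- Let k be a field, P = P^N_k, ι : X → P a closed immersion, r a natural number with dim X + r ≤ N (so
X has codimension at least r in P), and ω_P = O_P(-N-1). Then for every i < r the Ext sheaf
Ext^i_{O_P}(ι_* O_X, ω_P) — the i-th right derived functor of the internal Hom functor Hom(ι_* O_X,
-) on O_P-modules (its existence and that of injective resolutions are the stated instance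
hypotheses, both true), evaluated at ω_P — is zero. -/
theorem result (k : Type u) [Field k] (N : ℕ)
    {X : Scheme.{u}} (ι : X ⟶ CohB1.ProjSpace N k) [IsClosedImmersion ι] (r : ℕ)
    (hr : topologicalKrullDim ↥X + (r : WithBot ℕ∞) ≤ (N : WithBot ℕ∞))
    [ModSite.HasSheafHom (O := (CohB1.ProjSpace N k).sheaf) ((Scheme.Modules.pushforward ι).obj (Coh.structureModule X))]
    [HasInjectiveResolutions (ModSite.Mod (CohB1.ProjSpace N k).sheaf)] (i : ℕ) (hi : i < r) :
    IsZero ((ModSite.extSh (O := (CohB1.ProjSpace N k).sheaf)
      ((Scheme.Modules.pushforward ι).obj (Coh.structureModule X)) i).obj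
        (Twist.twistProjSpace N k (-((N : ℤ) + 1)))) := by
  have hF : Coh.IsCoh ((Scheme.Modules.pushforward ι).obj (Coh.structureModule X)) :=
    Groth.CohTwo.isCoh_push ι (Groth.KTheory.LocFree.isCoh (Groth.LocFree.isFinLocFree_unit X))
  rcases le_or_gt i N with hiN | hiN
  · refine (Groth.Duality.Pn.isZero_extSh_omega_iff hF (show (N - i) + i = N by omega)).2
      (Groth.Duality.Pn.negVanish_push_of_dim_lt ι ?_)
    revert hr
    generalize topologicalKrullDim ↥X = a
    rcases a with _ | a
    · intro _
      exact bot_lt_iff_ne_bot.2 (WithBot.natCast_ne_bot _)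
    · intro hr
      have h' : a + (r : ℕ∞) ≤ (N : ℕ∞) := WithBot.coe_le_coe.1 hr
      induction a using ENat.recTopCoe with
      | top => simp at h'
      | coe a =>
        have h2 : a + r ≤ N := by exact_mod_cast h'
        exact WithBot.coe_lt_coe.2 (ENat.natCast_lt_natCast.2 (show a < N - i by omega))
  · rcases isEmpty_or_nonempty ↥X with he | ⟨⟨x⟩⟩
    · have := Groth.PnCoh.isLocallyNoetherian_projSpace N k
      refine (Groth.Duality.SheafExtStalk.isZero_extSh_iff (Groth.Duality.Pn.hasLocFreeCovers k N) _ _ hF i).2
        fun y => ?_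
      have hz' : Subsingleton (((Scheme.Modules.pushforward ι).obj (Coh.structureModule X)).presheaf.stalk y) :=
        not_not.1 fun hs => IsEmpty.false (Groth.CohTwo.support_push_subset ι _ hs).choose
      exact Groth.Duality.subsingleton_ext_of_isZero_left (ModuleCat.isZero_of_subsingleton _) _ i
    · exfalso
      have : Nonempty (TopologicalSpace.IrreducibleCloseds ↥X) :=
        ⟨⟨closure {x}, isIrreducible_singleton.closure, isClosed_closure⟩⟩
      have h0 : (0 : WithBot ℕ∞) ≤ topologicalKrullDim ↥X := Order.krullDim_nonneg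
      have h1 : ((r : ℕ) : WithBot ℕ∞) ≤ (N : WithBot ℕ∞) := le_trans (le_add_of_nonneg_left h0) hr
      exact absurd (Nat.cast_le.1 h1) (by omega)

end Groth.Agent.S11324
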