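import Groth.Statements.S11325
import Groth.Agent.Duality.FundLocal.Corollaries
import Groth.Agent.Duality.PnDualizing
import Groth.Agent.Duality.PnStalk
import Groth.Agent.Duality.ClosedDual
import Groth.Agent.KoszShLib.CMLocal
import Groth.Agent.LocDual.DimQuotient
import Groth.Agent.Calg4.RegularAscent
import Groth.Agent.CohTwo.LocFreeDual
import Groth.Agent.SiteCohomology.SchemeModules
import Groth.Agent.Flatmor4.MiracleScheme
import Groth.Agent.Variety2.DimScheme
import Groth.Agent.Curves1.Node.AtWorst
import Groth.Agent.S10831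

set_option autoImplicit false
set_option maxHeartbeats 1000000
set_option linter.style.haveILetI false
universe u
open CategoryTheory CategoryTheory.Limits AlgebraicGeometry
attribute [local instance] HasDerivedCategory.standard
open ProjDual

namespace Groth.Agent.S11325

theorem exists_nat_dim (R : Type u) [CommRing R] [IsLocalRing R] [IsNoetherianRing R] :
    ∃ a : ℕ, ringKrullDim R = a := by
  have h1 : (IsLocalRing.maximalIdeal R).height ≠ ⊤ :=
    Ideal.height_ne_top (IsLocalRing.maximalIdeal.isMaximal R).ne_top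
  obtain ⟨a, ha⟩ := ENat.ne_top_iff_exists.1 h1
  exact ⟨a, by rw [← IsLocalRing.maximalIdeal_height_eq_ringKrullDim, ← ha]; rfl⟩

/-- Let k be a field, P = P^N_k and ι : X → P a closed immersion which makes X a local complete
intersection of codimension r in P: every irreducible component of X has dimension N - r, and every
point of X has an affine open neighbourhood U in P on which the ideal of X is generated by r
sections. Let C be an r-th exterior power of the conormal sheaf of X in P (a locally free O_X-module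
of rank one; its internal Hom functor is assumed to exist, which it does) and put M = ι^* O_P(-N-1)
⊗ Hom_{O_X}(C, O_X), that is ω_P ⊗ (∧^r of the conormal sheaf)^∨. Then M is a dualizing sheaf for X:
with n = N - r there is a k-linear map t : H^n(X, M) → k such that for every coherent O_X-module F
and every k-linear form ψ on H^n(X, F) there is exactly one morphism φ : F → M with ψ = t ∘ H^n(φ).
(The published statement says that the dualizing sheaf of X is isomorphic to M, and in particular is
invertible; by uniqueness of dualizing sheaves this is the same assertion.) -/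
theorem result
    (k : Type u) [Field k] (N r : ℕ) (hr : r ≤ N) (X : Scheme.{u}) [X.Over (Spec (CommRingCat.of k))]
    (ι : X ⟶ CohB1.ProjSpace N k) [IsClosedImmersion ι] (hι : ι ≫ CohB1.ProjSpace.toSpec N k = X ↘ Spec (CommRingCat.of k))
    (heq : ∀ Z : Set ↥X, Z ∈ irreducibleComponents ↥X → topologicalKrullDim ↥Z = ((N - r : ℕ) : WithBot ℕ∞))
    (hgen : ∀ x : X, ∃ U : (CohB1.ProjSpace N k).affineOpens, ι.base x ∈ (U : (CohB1.ProjSpace N k).Opens) ∧
      ∃ f : Fin r → Γ(CohB1.ProjSpace N k, (U : (CohB1.ProjSpace N k).Opens)), ι.ker.ideal U = Ideal.span (Set.range f))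
    (C : X.Modules) (hC : ExtPow.IsExtPow r (Omega.conormal ι) C) [DCoh.HasSheafHom C] :
    ∃ t : Coh.HH X (CohB1.tensorMod ((Scheme.Modules.pullback ι).obj (Twist.twistProjSpace N k (-((N : ℤ) + 1))))
        ((DCoh.sheafHom C).obj (Coh.structureModule X))) (N - r) →ₗ[k] k,
      ∀ F : X.Modules, Coh.IsCoh F → ∀ ψ : Coh.HH X F (N - r) →ₗ[k] k,
        ∃! φ : F ⟶ (CohB1.tensorMod ((Scheme.Modules.pullback ι).obj (Twist.twistProjSpace N k (-((N : ℤ) + 1)))) ((DCoh.sheafHom C).obj (Coh.structureModule X))), ∀ x : Coh.HH X F (N - r),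
          ψ x = t (Sheaf.H.map ((SheafOfModules.toSheaf X.ringCatSheaf).map φ) (N - r) x) := by
  haveI := Groth.PnCoh.isLocallyNoetherian_projSpace N k
  haveI := Groth.Duality.Closed.isNoetherian ι
  haveI : LocallyOfFiniteType (ι ≫ CohB1.ProjSpace.toSpec N k) := by
    haveI := Groth.Variety2.isProper_projSpace_toSpec N k
    infer_instance
  have := Groth.Duality.Pn.irreducibleSpace_projSpace N k
  have hreg := fun x => Groth.Duality.Pn.isRegularLocalRing_stalk N k x
  have hCM : ∀ x, LocCoh.IsCohenMacaulayLocalRing ((CohB1.ProjSpace N k).presheaf.stalk x) := fun x =>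
    haveI := hreg x
    Groth.Calg4.isCohenMacaulayLocalRing_of_isRegularLocalRing _
  have he : ∀ η : X, IsMax η → Order.height η = ((N - r : ℕ) : ℕ∞) := fun η hη => by
    have h := heq _ ((Groth.Curves1.Node.mem_genericPoints_iff_isMax η).2 hη)
    rw [Groth.Variety2.Dim.dim_closure_singleton] at h
    exact WithBot.coe_injective h
  have hht : ∀ y : X, (r : ℕ∞) ≤ (RingHom.ker (ι.stalkMap y).hom).height := fun y => by
    have h1 := Groth.Variety2.Dim.ringKrullDim_stalk_add_height (CohB1.ProjSpace.toSpec N k) (ι y)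
    rw [Groth.Variety2.PSpace.dim_projSpace, Groth.Variety2.Dim.height_eq_of_isPreimmersion
      (ι ≫ CohB1.ProjSpace.toSpec N k) (CohB1.ProjSpace.toSpec N k) ι rfl] at h1
    have h2 := Groth.Flatmor4.height_add_dim_stalk_of_equidim (ι ≫ CohB1.ProjSpace.toSpec N k) he y
    obtain ⟨a, ha⟩ : ∃ a : ℕ, ringKrullDim (X.presheaf.stalk y) = a :=
      exists_nat_dim (X.presheaf.stalk y)
    obtain ⟨b, hb⟩ : ∃ b : ℕ, ringKrullDim ((CohB1.ProjSpace N k).presheaf.stalk (ι y)) = b :=
      exists_nat_dim ((CohB1.ProjSpace N k).presheaf.stalk (ι y))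
    rw [hb] at h1
    rw [ha] at h2
    have hab : a + r = b := by
      generalize Order.height y = c at h1 h2
      induction c using ENat.recTopCoe with
      | top =>
        have h2' : (⊤ : ℕ∞) + (a : ℕ∞) = ((N - r : ℕ) : ℕ∞) := WithBot.coe_injective h2
        rw [top_add] at h2'
        exact absurd h2' (ENat.top_ne_coe _)
      | coe c =>
        have h2' : (c : ℕ∞) + (a : ℕ∞) = ((N - r : ℕ) : ℕ∞) := WithBot.coe_injective h2
        have h1' : (b : ℕ∞) + (c : ℕ∞) = (N : ℕ∞) := WithBot.coe_injective h1
        have e1 : b + c = N := by exact_mod_cast h1'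
        have e2 : c + a = N - r := by
          generalize N - r = m at h2' ⊢
          exact_mod_cast h2'
        omega
    let I := RingHom.ker (ι.stalkMap y).hom
    have hne : I ≠ ⊤ := RingHom.ker_ne_top _
    have hd : ringKrullDim (((CohB1.ProjSpace N k).presheaf.stalk (ι y)) ⧸ I) = (a : WithBot ℕ∞) := by
      rw [ringKrullDim_eq_of_ringEquiv (RingHom.quotientKerEquivOfSurjective
        (f := (ι.stalkMap y).hom) (ι.stalkMap_surjective y))]
      exact ha
    obtain ⟨g, hg⟩ := ENat.ne_top_iff_exists.1 (Ideal.height_ne_top hne)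
    have := Groth.LocDual.height_add_ringKrullDim_quotient (hCM (ι y)) hb I
      (IsLocalRing.le_maximalIdeal hne) hg.symm hd
    show (r : ℕ∞) ≤ I.height
    rw [← hg]
    exact_mod_cast (show r ≤ g by omega)
  have hcod : RegImm.IsRegularImmersionOfCodim RegImm.Kind.regular r ι := by
    refine ⟨inferInstance, fun z => ?_⟩
    obtain ⟨U, hz, f, hf, hreg'⟩ := Groth.KoszShLib.exists_regular_nhd hCM ι r
      (fun y => (hgen y).imp fun U hU => hU) hht z
    refine ⟨U, hz, inferInstance, List.ofFn f, List.length_ofFn, ⟨hreg', ?_⟩, ?_⟩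
    · rw [ne_eq, eq_comm, Ideal.smul_eq_mul, Ideal.mul_top]
      intro h
      have h' : (1 : Γ(CohB1.ProjSpace N k, U.1)) ∈ RingHom.ker (ι.app U.1).hom := by
        rw [← Scheme.Hom.ker_apply, hf]
        have := h ▸ Submodule.mem_top (R := Γ(CohB1.ProjSpace N k, U.1)) (x := (1 : Γ(CohB1.ProjSpace N k, U.1)))
        simpa [Ideal.ofList, Set.range] using this
      rw [RingHom.mem_ker, map_one] at h'
      haveI : Nonempty (ι ⁻¹ᵁ U.1) := ⟨⟨z, hz⟩⟩
      exact one_ne_zero h'
    · rw [← Scheme.Hom.ker_apply, hf]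
      simp [Ideal.ofList, Set.range]
  haveI : ModSite.HasSheafHom (O := (CohB1.ProjSpace N k).sheaf)
      ((Scheme.Modules.pushforward ι).obj (Coh.structureModule X)) := Groth.SitesTopoi.ModH.hasSheafHom _
  haveI : HasInjectiveResolutions (ModSite.Mod (CohB1.ProjSpace N k).sheaf) :=
    inferInstanceAs (HasInjectiveResolutions (CohB1.ProjSpace N k).Modules)
  haveI : (Groth.Duality.Pn.omega k N).IsQuasicoherent :=
    Groth.KTheory.LocFree.isQCoh (Groth.LocFree.isFinLocFree_of_rank
      (Groth.LocFree.isInvertible_iff_ofRank_one.1 (Groth.PnCoh.isInvertible_twist N k _)))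
  obtain ⟨e⟩ := Groth.Duality.FundLocal.nonempty_extSh_iso_of_isExtPow ι hcod (Groth.Duality.Pn.omega k N) C hC
  have hCf : FlatMod.IsFinLocFree C :=
    Groth.LocFree.isFinLocFree_of_isExtPow (Groth.Duality.FundLocal.isFinLocFree_conormal_of_regular ι hcod) hC
  obtain ⟨br, -⟩ := Groth.PicAux.exists_braiding (Groth.CohTwo.LocFreeDual.dual C)
    ((Scheme.Modules.pullback ι).obj (Groth.Duality.Pn.omega k N))
  let e' : (DCoh.sheafHom C).obj ((Scheme.Modules.pullback ι).obj (Groth.Duality.Pn.omega k N)) ≅
      CohB1.tensorMod ((Scheme.Modules.pullback ι).obj (Groth.Duality.Pn.omega k N))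
        ((DCoh.sheafHom C).obj (Coh.structureModule X)) :=
    ((Groth.CohTwo.LocFreeDual.dualTensorIso hCf).app _).symm ≪≫ br ≪≫
      ((DCoh.tensorBi (X := X)).obj ((Scheme.Modules.pullback ι).obj (Groth.Duality.Pn.omega k N))).mapIso
        (Groth.CohTwo.SheafHomIso.iso C (Coh.structureModule X)).symm
  exact Groth.Duality.Pn.exists_dualizing ι hι (show (N - r) + r = N by omega)
    (by rw [Groth.Agent.S10831.result]; exact iSup₂_le fun Z hZ => (heq Z hZ).le) _
    ⟨(e ≪≫ (Scheme.Modules.pushforward ι).mapIso e').symm⟩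

end Groth.Agent.S11325
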