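import Groth.Statements.S11330
import Groth.Agent.CurveBridge.TensorNumerics

set_option autoImplicit false
universe u
open CategoryTheory CategoryTheory.Limits AlgebraicGeometry
open Curves Groth.CurveBridge

namespace Groth.Agent.S11330

/-- Let k be an algebraically closed field and X a curve over k (an integral scheme, proper over k, of
dimension one, with all local rings regular), and L an invertible O_X-module. Then L is generated by
its global sections (a quotient of a free O_X-module) if and only if for every closed point P of X,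
with ideal sheaf I_P ⊆ O_X, dim_k H^0(X, L ⊗ I_P) = dim_k H^0(X, L) - 1. -/
theorem result (k : Type u) [Field k] [IsAlgClosed k] (X : Scheme.{u}) [X.Over (Spec (CommRingCat.of k))]
    [IsIntegral X] [IsProper (X ↘ (Spec (CommRingCat.of k)))] (hdim : topologicalKrullDim X = 1)
    (hreg : ∀ x : X, IsRegularLocalRing (X.presheaf.stalk x)) (L : X.Modules) (hL : PicF.IsInvertible L) :
    Curv2.IsGloballyGenerated L ↔
      ∀ (P : X) (hP : IsClosed ({P} : Set X)),
        Module.finrank k (Coh.HH X (CohB1.tensorMod L (ClSub.idealMod (Scheme.IdealSheafData.vanishingIdeal ⟨{P}, hP⟩))) 0) + 1 = Module.finrank k (Coh.HH X L 0) := by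
  have h : IsRegCurve X := ⟨hdim, hreg⟩
  have hK := isFunctionField (k := k) (X := X) hdim
  obtain ⟨φ, D, hφ, h0, -, -⟩ := exists_divEmb h hK hL
  have key : ∀ x : Pt X, Module.finrank k (Coh.HH X (CohB1.tensorMod L
      (ClSub.idealMod (Scheme.IdealSheafData.vanishingIdeal ⟨{x.1}, x.2⟩))) 0) =
      FunFld.ell (D - Finsupp.single (placeAt (k := k) h x) 1) := fun x => by
    obtain ⟨hI, χ, hχ⟩ := exists_divEmb_twist_point h hK hL hφ x
    exact (numerics_of_divEmb h hK hI hχ).1
  constructor
  · intro hgg P hP
    rw [key ⟨P, hP⟩, h0]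
    have h1 := ell_lt_of_isGloballyGenerated h hK hL hgg hφ (placeAt (k := k) h ⟨P, hP⟩)
    have h2 := ell_le_single_add h D (placeAt (k := k) h ⟨P, hP⟩)
    omega
  · intro hall
    refine isGloballyGenerated_of_no_base h hK hL hφ fun Q => ?_
    obtain ⟨x, rfl⟩ := placeAt_surjective (k := k) h Q
    have := hall x.1 x.2
    rw [key x, h0] at this
    omega

end Groth.Agent.S11330
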