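import Groth.Statements.S13458
import Groth.Agent.OmegaSheaf.DiffSequence
import Groth.Agent.OmegaSheaf.DiffProduct
import Mathlib.RingTheory.Etale.Field
import Mathlib.RingTheory.Etale.Kaehler
import Mathlib.AlgebraicGeometry.FunctionField

set_option autoImplicit false
universe u
open CategoryTheory CategoryTheory.Limits AlgebraicGeometry TopologicalSpace
open SmVar

namespace Groth.Agent.S13458

open TensorProduct Groth.OmegaSheaf

/-- `B ⊗ Ω_A → Ω_B` is injective when `B` embeds in a formally étale `A`-algebra and `Ω_A` is flat. -/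
private theorem injective_mapBaseChange (R A B L : Type u) [CommRing R] [CommRing A] [CommRing B]
    [CommRing L] [Algebra R A] [Algebra R B] [Algebra A B] [IsScalarTower R A B] [Algebra R L]
    [Algebra A L] [Algebra B L] [IsScalarTower R A L] [IsScalarTower R B L] [IsScalarTower A B L]
    [Algebra.FormallyEtale A L] [Module.Flat A (KaehlerDifferential R A)]
    (hinj : Function.Injective (algebraMap B L)) :
    Function.Injective (KaehlerDifferential.mapBaseChange R A B) := by
  let r : B ⊗[A] KaehlerDifferential R A →ₗ[A] L ⊗[A] KaehlerDifferential R A :=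
    (IsScalarTower.toAlgHom A B L).toLinearMap.rTensor (KaehlerDifferential R A)
  have hr : Function.Injective r := Module.Flat.rTensor_preserves_injective_linearMap _ hinj
  have hb : Function.Bijective (KaehlerDifferential.mapBaseChange R A L) := by
    have he : (KaehlerDifferential.mapBaseChange R A L : _ → _) =
        KaehlerDifferential.tensorKaehlerEquivOfFormallyEtale R A L := by
      refine funext fun z => tensor_kaehler_ext (KaehlerDifferential.mapBaseChange R A L).toAddMonoidHom
        (KaehlerDifferential.tensorKaehlerEquivOfFormallyEtale R A L).toAddEquiv.toAddMonoidHom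
        (fun b s => ?_) z
      change KaehlerDifferential.mapBaseChange R A L _ =
        KaehlerDifferential.tensorKaehlerEquivOfFormallyEtale R A L _
      simp
    rw [he]
    exact (KaehlerDifferential.tensorKaehlerEquivOfFormallyEtale R A L).bijective
  have hsq : ∀ z, KaehlerDifferential.map R R B L (KaehlerDifferential.mapBaseChange R A B z) =
      KaehlerDifferential.mapBaseChange R A L (r z) := by
    intro z
    refine tensor_kaehler_ext
      ((KaehlerDifferential.map R R B L).toAddMonoidHom.comp
        (KaehlerDifferential.mapBaseChange R A B).toAddMonoidHom)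
      ((KaehlerDifferential.mapBaseChange R A L).toAddMonoidHom.comp r.toAddMonoidHom) (fun b s => ?_) z
    change KaehlerDifferential.map R R B L (KaehlerDifferential.mapBaseChange R A B _) =
      KaehlerDifferential.mapBaseChange R A L (algebraMap B L b ⊗ₜ _)
    simp only [LinearMap.id_apply]
    rw [KaehlerDifferential.mapBaseChange_tmul, KaehlerDifferential.mapBaseChange_tmul, map_smul,
      KaehlerDifferential.map_D, KaehlerDifferential.map_D, KaehlerDifferential.map_D,
      ← IsScalarTower.algebraMap_apply A B L, algebraMap_smul]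
  intro z z' h
  refine hr (hb.1 ?_)
  rw [← hsq, ← hsq, h]

/-- Let k be a field, X and Y integral schemes each smooth over Spec k and of the same dimension, and φ
: X → Y a morphism over k which is dominant and separable: the residue field of X at its generic
point is a separable algebraic extension of the residue field of Y at the image point (the function
field of Y, as φ is dominant). Let Ω_Y and Ω_X be sheaves of differentials of Y and of X over k,
given as universal derivations, and c : φ^*Ω_Y → Ω_X the compatible map (it sends the pullback of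
d_Y s to d_X(φ^♯ s)). Then c is a monomorphism of O_X-modules, so the relative cotangent sequence of
φ is exact on the left as well. (The injectivity is what is stated here; the identification of the
cokernel with Ω_{X/Y} is the general cotangent sequence.) -/
theorem result (k : Type u) [Field k] {X Y : Scheme.{u}}
    (pX : X ⟶ Spec (CommRingCat.of k)) (pY : Y ⟶ Spec (CommRingCat.of k)) (φ : X ⟶ Y) (w : φ ≫ pY = pX)
    [IsIntegral X] [IsIntegral Y] [Smooth pX] [Smooth pY]
    (hdim : topologicalKrullDim X = topologicalKrullDim Y) (hdom : DenseRange φ.base)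
    (hsep : letI := (φ.residueFieldMap (genericPoint X)).hom.toAlgebra
      Algebra.IsSeparable (Y.residueField (φ.base (genericPoint X))) (X.residueField (genericPoint X)))
    (ΩY : Y.Modules) (dY : OmegaSh.Der pY ΩY) (hY : OmegaSh.IsUniversal dY)
    (ΩX : X.Modules) (dX : OmegaSh.Der pX ΩX) (hX : OmegaSh.IsUniversal dX)
    (c : (Scheme.Modules.pullback φ).obj ΩY ⟶ ΩX) (hc : OmegaSh.IsDiffCompat φ dY dX c) :
    Mono c := by
  subst w
  haveI := isQCoh_of_isUniversal hY
  haveI := isQCoh_of_isUniversal hX
  let ξ := genericPoint X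
  have hη : IsGenericPoint (φ.base ξ) (⊤ : Set Y) := by
    refine isGenericPoint_iff_specializes.mpr fun y => ⟨fun _ => trivial, fun _ => ?_⟩
    rw [specializes_iff_mem_closure]
    have hsub : Set.range φ.base ⊆ closure {φ.base ξ} := by
      rintro _ ⟨x, rfl⟩
      exact specializes_iff_mem_closure.mp ((genericPoint_specializes x).map φ.base.hom.continuous)
    exact (closure_minimal hsub isClosed_closure) (hdom.closure_range.symm ▸ trivial)
  have hYf : IsField (Y.presheaf.stalk (φ.base ξ)) :=
    isField_stalk_of_closure_mem_irreducibleComponents Y _ (by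
      rw [irreducibleComponents_eq_singleton]
      exact hη.def)
  refine mono_of_affine_cover c fun x => ?_
  obtain ⟨c₁, P, hP, e, hxP⟩ := exists_chart_triple φ pY x
  refine ⟨P, hP, hxP, (app_iff_mapBaseChange hY hX hc c₁ hP e).1.mpr ?_⟩
  have hξP : ξ ∈ P := (genericPoint_specializes x).mem_open P.2 hxP
  have hξU : φ.base ξ ∈ c₁.U := e hξP
  let _ := chartAlg pY c₁.e
  let _ := Groth.QCohMod.sectionsAlg φ e
  letI := (pY.appLE c₁.V c₁.U c₁.e ≫ φ.appLE c₁.U P e).hom.toAlgebra
  haveI : IsScalarTower Γ(Spec (CommRingCat.of k), c₁.V) Γ(Y, c₁.U) Γ(X, P) :=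
    IsScalarTower.of_algebraMap_eq fun _ => rfl
  let K := Y.residueField (φ.base ξ)
  let L := X.residueField ξ
  letI : Algebra K L := (φ.residueFieldMap ξ).hom.toAlgebra
  haveI : Algebra.IsSeparable K L := hsep
  letI : Algebra Γ(Y, c₁.U) K := (Y.evaluation c₁.U _ hξU).hom.toAlgebra
  letI : Algebra Γ(X, P) L := (X.evaluation P ξ hξP).hom.toAlgebra
  letI : Algebra Γ(Y, c₁.U) L := ((algebraMap K L).comp (algebraMap Γ(Y, c₁.U) K)).toAlgebra
  haveI : IsScalarTower Γ(Y, c₁.U) K L := IsScalarTower.of_algebraMap_eq fun _ => rfl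
  have hcomp : φ.appLE c₁.U P e ≫ X.evaluation P ξ hξP =
      Y.evaluation c₁.U _ hξU ≫ φ.residueFieldMap ξ := by
    simp only [Scheme.evaluation, LocallyRingedSpace.evaluation]
    rw [Category.assoc]
    erw [Scheme.residue_residueFieldMap]
    rw [← Category.assoc, ← Category.assoc, Scheme.Hom.germ_stalkMap]
    congr 1
    rw [Scheme.Hom.appLE, Category.assoc]
    erw [X.presheaf.germ_res (homOfLE e) ξ hξP]
  haveI : IsScalarTower Γ(Y, c₁.U) Γ(X, P) L :=
    IsScalarTower.of_algebraMap_eq fun r => congr($(hcomp.symm) r)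
  letI : Algebra Γ(Spec (CommRingCat.of k), c₁.V) L :=
    ((algebraMap Γ(Y, c₁.U) L).comp (algebraMap Γ(Spec (CommRingCat.of k), c₁.V) Γ(Y, c₁.U))).toAlgebra
  haveI : IsScalarTower Γ(Spec (CommRingCat.of k), c₁.V) Γ(Y, c₁.U) L :=
    IsScalarTower.of_algebraMap_eq fun _ => rfl
  haveI : IsScalarTower Γ(Spec (CommRingCat.of k), c₁.V) Γ(X, P) L :=
    IsScalarTower.of_algebraMap_eq fun r => congr($(hcomp.symm) (algebraMap _ Γ(Y, c₁.U) r))
  haveI : Algebra.Smooth Γ(Spec (CommRingCat.of k), c₁.V) Γ(Y, c₁.U) :=
    pY.smooth_appLE c₁.hV c₁.hU c₁.e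
  letI := TopCat.Presheaf.algebra_section_stalk Y.presheaf (⟨φ.base ξ, hξU⟩ : c₁.U)
  haveI := c₁.hU.isLocalization_stalk ⟨φ.base ξ, hξU⟩
  letI := hYf.toField
  let er : Y.presheaf.stalk (φ.base ξ) ≃ₐ[Γ(Y, c₁.U)] K := AlgEquiv.ofBijective
    { (Y.residue (φ.base ξ)).hom with commutes' := fun _ => rfl }
    ⟨(Y.residue (φ.base ξ)).hom.injective, IsLocalRing.residue_surjective⟩
  haveI : IsLocalization (c₁.hU.primeIdealOf ⟨φ.base ξ, hξU⟩).asIdeal.primeCompl K :=
    IsLocalization.isLocalization_of_algEquiv _ er
  haveI : Algebra.FormallyEtale Γ(Y, c₁.U) K :=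
    Algebra.FormallyEtale.of_isLocalization (c₁.hU.primeIdealOf ⟨φ.base ξ, hξU⟩).asIdeal.primeCompl
  haveI : Algebra.FormallyEtale K L := Algebra.FormallyEtale.of_isSeparable K L
  haveI : Algebra.FormallyEtale Γ(Y, c₁.U) L := Algebra.FormallyEtale.comp Γ(Y, c₁.U) K L
  refine injective_mapBaseChange _ _ _ L ?_
  have hres : Function.Injective (X.residue ξ).hom := by
    letI : Field (X.presheaf.stalk ξ) := inferInstanceAs (Field X.functionField)
    exact (X.residue ξ).hom.injective
  exact hres.comp (germ_injective_of_isIntegral X ξ hξP)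

end Groth.Agent.S13458
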