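import Groth.Statements.S11332
import Groth.Agent.Curves1.Hurwitz.Cotangent
import Groth.Agent.Curves1.RR.EtaleGenusZero
import Groth.Agent.Curves1.CurveMor.Flat
import Groth.Agent.CurveBridge.Omega
import Groth.Agent.CurveBridge.RegularSmooth
import Groth.Agent.RefRank.Norm.Normal
import Groth.Agent.Cycles.NormScheme
import Groth.Agent.EulerDeg.LineBundle
import Groth.Agent.S13458
import Groth.Agent.S15003
import Groth.Agent.RefRank.Normality

set_option autoImplicit false
universe u
open CategoryTheory CategoryTheory.Limits AlgebraicGeometry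
open Curves

namespace Groth.Agent.S11332

open scoped Groth.CurveBridge in
/-- The residue fields at the generic points are the function fields. -/
theorem exists_residue_equivs {X Y : Scheme.{u}} [IsIntegral X] [IsIntegral Y] (f : X ⟶ Y)
    (e : f (genericPoint X) = genericPoint Y) :
    ∃ (e₁ : Y.functionField ≃+* Y.residueField (f (genericPoint X)))
      (e₂ : X.functionField ≃+* X.residueField (genericPoint X)),
      ∀ a, (f.residueFieldMap (genericPoint X)).hom (e₁ a) =
        e₂ ((Y.presheaf.stalkSpecializes (specializes_of_eq e) ≫ f.stalkMap (genericPoint X)) a) := by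
  have hb : ∀ (y : Y) (h : y = genericPoint Y),
      Function.Bijective fun a : Y.functionField => Y.residue y (Y.presheaf.stalkSpecializes (specializes_of_eq h) a) := by
    rintro _ rfl
    simp only [TopCat.Presheaf.stalkSpecializes_refl]
    exact Groth.RefRank.residue_gen_bijective
  refine ⟨RingEquiv.ofBijective ((Y.presheaf.stalkSpecializes (specializes_of_eq e)) ≫ Y.residue (f (genericPoint X))).hom
      (hb _ e), RingEquiv.ofBijective (X.residue (genericPoint X)).hom Groth.RefRank.residue_gen_bijective, fun a => ?_⟩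
  show (Y.residue (f (genericPoint X)) ≫ f.residueFieldMap (genericPoint X)) _ = _
  rw [Scheme.residue_residueFieldMap]
  rfl

/-- Let f : X → Y be a finite morphism over k of curves over an algebraically closed field k (integral,
proper over k, of dimension one, all local rings regular), sending the generic point of X to that of
Y, such that the function field extension K(X)/K(Y) is separable; let n = [K(X) : K(Y)] be its
degree. Then 2 g(X) - 2 = n (2 g(Y) - 2) + deg R, where g denotes the genus dim_k H^1(O) and the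
degree of the ramification divisor R = Σ_P length(Ω_{X/Y,P}) · P is written as dim_k H^0(X,
Ω_{X/Y}), Ω_{X/Y} being the (torsion) sheaf of relative differentials of f. -/
theorem result (k : Type u) [Field k] [IsAlgClosed k] (X : Scheme.{u}) [X.Over (Spec (CommRingCat.of k))]
    [IsIntegral X] [IsProper (X ↘ (Spec (CommRingCat.of k)))] (hdimX : topologicalKrullDim X = 1)
    (hregX : ∀ x : X, IsRegularLocalRing (X.presheaf.stalk x))
    (Y : Scheme.{u}) [Y.Over (Spec (CommRingCat.of k))]
    [IsIntegral Y] [IsProper (Y ↘ (Spec (CommRingCat.of k)))] (hdimY : topologicalKrullDim Y = 1)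
    (hregY : ∀ x : Y, IsRegularLocalRing (Y.presheaf.stalk x))
    (f : X ⟶ Y) [IsFinite f] (hf : f ≫ (Y ↘ (Spec (CommRingCat.of k))) = X ↘ (Spec (CommRingCat.of k)))
    (e : f (genericPoint X) = genericPoint Y) :
    letI := ((Y.presheaf.stalkSpecializes (specializes_of_eq e) ≫ f.stalkMap (genericPoint X)).hom).toAlgebra
    Algebra.IsSeparable Y.functionField X.functionField →
      2 * (Curv2.genus k X : ℤ) - 2 =
        (f.residueDegree (genericPoint X) : ℤ) * (2 * (Curv2.genus k Y : ℤ) - 2) +
          (Module.finrank k (Coh.HH X (Omega.sheaf f) 0) : ℤ) := by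
  intro hsep
  have : IsLocallyNoetherian X := LocallyOfFiniteType.isLocallyNoetherian (X ↘ (Spec (CommRingCat.of k)))
  have : IsLocallyNoetherian Y := LocallyOfFiniteType.isLocallyNoetherian (Y ↘ (Spec (CommRingCat.of k)))
  have : CompactSpace Y := QuasiCompact.compactSpace_of_compactSpace (Y ↘ (Spec (CommRingCat.of k)))
  haveI := Groth.CurveBridge.smooth_of_regular k X hregX
  haveI := Groth.CurveBridge.smooth_of_regular k Y hregY
  have hX : Groth.CurveBridge.IsRegCurve X := ⟨hdimX, hregX⟩
  have hY : Groth.CurveBridge.IsRegCurve Y := ⟨hdimY, hregY⟩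
  haveI : Flat f := Groth.Curves1.CurveMor.flat_of_dominant f e
    (fun y => (Groth.RefRank.isNormalScheme_of_regular hregY y).2) hdimY.le
  haveI : Surjective f := by
    refine ⟨fun y => ?_⟩
    have hy : y ∈ closure ({genericPoint Y} : Set Y) :=
      specializes_iff_mem_closure.1 ((genericPoint_spec Y).specializes (S := Set.univ) trivial)
    exact closure_minimal (s := {genericPoint Y}) (t := Set.range f)
      (Set.singleton_subset_iff.2 (Set.mem_range.2 ⟨_, e⟩)) f.isClosedMap.isClosed_range hy
  obtain ⟨e₁, e₂, hcomm⟩ := exists_residue_equivs f e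
  have hdeg : f.residueDegree (genericPoint X) = f.finrank (genericPoint Y) := by
    rw [Groth.Agent.S15003.finrank_genericPoint f e]
    letI := ((Y.presheaf.stalkSpecializes (specializes_of_eq e) ≫ f.stalkMap (genericPoint X)).hom).toAlgebra
    letI := (f.residueFieldMap (genericPoint X)).hom.toAlgebra
    exact (Algebra.finrank_eq_of_equiv_equiv e₁ e₂ (RingHom.ext hcomm)).symm
  have hsep' : letI := (f.residueFieldMap (genericPoint X)).hom.toAlgebra
      Algebra.IsSeparable (Y.residueField (f.base (genericPoint X))) (X.residueField (genericPoint X)) := by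
    letI := ((Y.presheaf.stalkSpecializes (specializes_of_eq e) ≫ f.stalkMap (genericPoint X)).hom).toAlgebra
    haveI := hsep
    letI := (f.residueFieldMap (genericPoint X)).hom.toAlgebra
    exact Algebra.IsSeparable.of_equiv_equiv e₁ e₂ (RingHom.ext hcomm)
  have hux : OmegaSh.IsUniversal (OmegaSh.dOmega (X ↘ (Spec (CommRingCat.of k)))) :=
    Groth.OmegaSheaf.isUniversal_dOmega _
  have huy : OmegaSh.IsUniversal (OmegaSh.dOmega (Y ↘ (Spec (CommRingCat.of k)))) :=
    Groth.OmegaSheaf.isUniversal_dOmega _
  have key : ∀ (q : X ⟶ Spec (CommRingCat.of k)) (ΩX : X.Modules) (dX : OmegaSh.Der q ΩX), OmegaSh.IsUniversal dX →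
      q = f ≫ (Y ↘ (Spec (CommRingCat.of k))) → Smooth q →
      ∃ (c : (Scheme.Modules.pullback f).obj (Omega.sheaf (Y ↘ (Spec (CommRingCat.of k)))) ⟶ ΩX)
        (p : ΩX ⟶ Omega.sheaf f) (w : c ≫ p = 0), (ShortComplex.mk c p w).ShortExact := by
    rintro q ΩX dX hd rfl hq
    obtain ⟨c, p, w, hc, hex, hp⟩ := Groth.Curves1.Hurwitz.exists_cotangent f (Y ↘ (Spec (CommRingCat.of k))) huy hd
      (Groth.OmegaSheaf.isUniversal_dOmega f)
    haveI : Mono c := Groth.Agent.S13458.result k (f ≫ (Y ↘ (Spec (CommRingCat.of k)))) _ f rfl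
      (hdimX.trans hdimY.symm) f.surjective.denseRange hsep' _ _ huy _ _ hd c hc
    haveI : Epi p := hp
    exact ⟨c, p, w, { exact := hex }⟩
  obtain ⟨c, p, w, hses⟩ := key _ _ _ hux hf.symm inferInstance
  obtain ⟨-, -, hdX⟩ := Groth.CurveBridge.omega_numerics (k := k) (X := X) hX
  obtain ⟨-, -, hdY⟩ := Groth.CurveBridge.omega_numerics (k := k) (X := Y) hY
  have hiX := Groth.CurveBridge.isInvertible_omega (X := X) (Groth.CurveBridge.isFunctionField (k := k) hdimX)
  have hiY := Groth.CurveBridge.isInvertible_omega (X := Y) (Groth.CurveBridge.isFunctionField (k := k) hdimY)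
  have hpull := Groth.Curves1.RR.deg_pullback_finite k hdimY.le f hf (f.finrank (genericPoint Y))
    (fun y => (Scheme.Hom.isLocallyConstant_finrank f).apply_eq_of_preconnectedSpace y (genericPoint Y)) hiY
  have hiN := Groth.PicAux.isInvertible_pullback f hiY
  have hc0 : c ≠ 0 := by
    intro h0
    haveI := hses.mono_f
    obtain ⟨U, s, hU, hs⟩ := (Groth.PicAux.isInvertible_iff_exists_gen _).1 hiN (genericPoint X)
    have hinj := (Groth.CohTwo.mono_iff_app_injective c).1 (hses.mono_f) U
    have hz : s = 0 := hinj (by rw [h0, map_zero]; rfl)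
    have h1 : (1 : Γ(X, U)) = 0 := hs.smul_inj le_rfl (by rw [one_smul, zero_smul, Groth.PicAux.res_self, hz])
    haveI : Nonempty U := ⟨⟨_, hU⟩⟩
    exact one_ne_zero h1
  haveI : TopologicalSpace.NoetherianSpace X := Groth.EulerDeg.noetherianSpace_of_proper k X
  have hsupp := Groth.EulerDeg.supportedAtClosed_cokernel hiN hiX hc0 hdimX.le
  have hsub := Groth.EulerDeg.deg_sub_eq_euler_cokernel hiN hiX hc0 k
  have eiso : cokernel c ≅ Omega.sheaf f :=
    haveI := hses.epi_g
    IsColimit.coconePointUniqueUpToIso (colimit.isColimit _) hses.gIsCokernel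
  have hh : Curv2.euler k X (cokernel c) = (Module.finrank k (Coh.HH X (Omega.sheaf f) 0) : ℤ) := by
    rw [Groth.EulerDeg.euler_eq_h0 k hsupp, Groth.EulerDeg.finrank_congr eiso 0]
  rw [hpull, hdX, hdY, hh, ← hdeg] at hsub
  linear_combination hsub

end Groth.Agent.S11332
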