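import Groth.Statements.S11333
import Groth.Agent.Curves1.FrobTwist.Main
import Groth.Agent.CurveBridge.RegularSmooth

set_option autoImplicit false
universe u
open CategoryTheory CategoryTheory.Limits AlgebraicGeometry
open Curves

namespace Groth.Agent.S11333

/-- Let f : X → Y be a finite morphism over k of curves over an algebraically closed field k (integral,
proper over k, of dimension one, all local rings regular), sending the generic point of X to that of
Y, such that the function field extension K(X)/K(Y) is purely inseparable. Then X and Y are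
isomorphic as schemes (the isomorphism need not be compatible with the k-structures; existence of an
isomorphism only). -/
theorem result (k : Type u) [Field k] [IsAlgClosed k] (X : Scheme.{u}) [X.Over (Spec (CommRingCat.of k))]
    [IsIntegral X] [IsProper (X ↘ (Spec (CommRingCat.of k)))] (hdimX : topologicalKrullDim X = 1)
    (hregX : ∀ x : X, IsRegularLocalRing (X.presheaf.stalk x))
    (Y : Scheme.{u}) [Y.Over (Spec (CommRingCat.of k))]
    [IsIntegral Y] [IsProper (Y ↘ (Spec (CommRingCat.of k)))] (hdimY : topologicalKrullDim Y = 1)
    (hregY : ∀ x : Y, IsRegularLocalRing (Y.presheaf.stalk x))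
    (f : X ⟶ Y) [IsFinite f] (hf : f ≫ (Y ↘ (Spec (CommRingCat.of k))) = X ↘ (Spec (CommRingCat.of k)))
    (e : f (genericPoint X) = genericPoint Y) :
    letI := ((Y.presheaf.stalkSpecializes (specializes_of_eq e) ≫ f.stalkMap (genericPoint X)).hom).toAlgebra
    IsPurelyInseparable Y.functionField X.functionField → Nonempty (X ≅ Y) := by
  intro hpi
  haveI : Smooth (X ↘ Spec (CommRingCat.of k)) := Groth.CurveBridge.smooth_of_regular k X hregX
  haveI : Smooth (Y ↘ Spec (CommRingCat.of k)) := Groth.CurveBridge.smooth_of_regular k Y hregY
  have hnk : Pi1.IsNormalScheme (Spec (CommRingCat.of k)) :=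
    Groth.Calg4.NormChar.isNormalScheme_specField _ (Field.toIsField k)
  have hnX := Groth.NeronArea.isNormalScheme_of_smooth (X ↘ Spec (CommRingCat.of k)) hnk
  have hnY := Groth.NeronArea.isNormalScheme_of_smooth (Y ↘ Spec (CommRingCat.of k)) hnk
  obtain hk | ⟨p, hp, hpk⟩ := CharP.exists' k
  · haveI : CharZero Y.functionField := charZero_of_injective_ringHom
      (Groth.Curves1.FrobTwist.baseMap (Y ↘ Spec (CommRingCat.of k))).injective
    letI : Algebra Y.functionField X.functionField := (Groth.Curves1.FrobTwist.fieldMap f e).toAlgebra
    haveI : Module.Finite Y.functionField X.functionField := Groth.Curves1.FrobTwist.finite_fieldMap f e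
    haveI : IsPurelyInseparable Y.functionField X.functionField := hpi
    haveI : Algebra.IsSeparable Y.functionField X.functionField := inferInstance
    have hs := IsPurelyInseparable.surjective_algebraMap_of_isSeparable Y.functionField X.functionField
    haveI : IsLocallyNoetherian Y := LocallyOfFiniteType.isLocallyNoetherian (Y ↘ Spec (CommRingCat.of k))
    obtain ⟨g, -, hfg⟩ := Groth.Curves1.FrobTwist.exists_hom_of_fieldMap hnY hdimY.le
      (Y ↘ Spec (CommRingCat.of k)) (X ↘ Spec (CommRingCat.of k)) f (𝟙 X)
      (by rw [hf, Category.id_comp]) e rfl (fun z _ => hs z)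
    haveI : IsDominant f := ⟨by
      rw [DenseRange, dense_iff_closure_eq, ← Set.univ_subset_iff, ← genericPoint_closure]
      exact closure_mono (Set.singleton_subset_iff.2 ⟨_, e⟩)⟩
    haveI : Y.IsSeparated := ⟨by
      rw [← terminal.comp_from (Y ↘ Spec (CommRingCat.of k))]
      infer_instance⟩
    exact ⟨⟨f, g, hfg, ext_of_isDominant f (by rw [← Category.assoc, hfg, Category.comp_id, Category.id_comp])⟩⟩
  · haveI := hp
    haveI : ExpChar k p := ExpChar.prime hp.out
    obtain ⟨r, i, -⟩ := Groth.Curves1.FrobTwist.exists_iso p _ _ hdimX hdimY hnY f hf e hpi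
    haveI : IsIso (CommRingCat.ofHom (iterateFrobenius k p r)) := by
      rw [ConcreteCategory.isIso_iff_bijective]
      exact (iterateFrobeniusEquiv k p r).bijective
    exact ⟨(i ≪≫ asIso (pullback.fst _ _)).symm⟩

end Groth.Agent.S11333
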