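import Groth.Statements.S11335
import Groth.Agent.CurveBridge.LinSeriesExists
import Groth.Agent.CurveBridge.Canonical
import Groth.Agent.CurveBridge.RegularSmooth

set_option autoImplicit false
universe u
open CategoryTheory CategoryTheory.Limits AlgebraicGeometry
open Curves Groth.CurveBridge

namespace Groth.Agent.S11335

/-- Let k be an algebraically closed field and X a curve over k (an integral scheme, proper over k, of
dimension one, with all local rings regular), of genus g ≥ 2. Then the canonical sheaf Ω_{X/k} is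
very ample (isomorphic to the pullback of O(1) along a closed immersion into some P^n_k over k)
exactly when X carries no g^1_2 (X is not hyperelliptic), a g^1_2 being an invertible module of
degree 2 together with two k-linearly independent global sections. -/
theorem result (k : Type u) [Field k] [IsAlgClosed k] (X : Scheme.{u}) [X.Over (Spec (CommRingCat.of k))]
    [IsIntegral X] [IsProper (X ↘ (Spec (CommRingCat.of k)))] (hdim : topologicalKrullDim X = 1)
    (hreg : ∀ x : X, IsRegularLocalRing (X.presheaf.stalk x)) (hg : 2 ≤ Curv2.genus k X) :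
    (∃ (n : ℕ) (i : X ⟶ CohB1.ProjSpace n k), IsClosedImmersion i ∧ i ≫ CohB1.ProjSpace.toSpec n k = (X ↘ (Spec (CommRingCat.of k))) ∧
        Nonempty ((Scheme.Modules.pullback i).obj (Twist.twistProjSpace n k 1) ≅ (Omega.sheaf (X ↘ (Spec (CommRingCat.of k)))))) ↔
      ¬ (∃ (M : X.Modules) (s : Fin 2 → LinSer.Sect X M), LinSer.IsLinSer k X M 2 1 s) := by
  have h : IsRegCurve X := ⟨hdim, hreg⟩
  have hK := isFunctionField (k := k) (X := X) hdim
  have hF := isFF k X hdim
  haveI := smooth_of_regular k X hreg
  have hΩ := isInvertible_omega (k := k) (X := X) hK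
  obtain ⟨φ, C, hφ, h0, hdC, -⟩ := exists_divEmb h hK hΩ
  obtain ⟨hn0, -, hnd⟩ := omega_numerics (k := k) (X := X) h
  have hC := isCanonical_of_numerics h hK h0 hdC hn0 hnd
  have hgF := genus_eq h hK
  rw [exists_closedImmersion_iff h hK hφ hΩ]
  have hrr : ∀ P Q : FunFld.Place k X.functionField,
      (FunFld.ell (Finsupp.single P (1 : ℤ) + Finsupp.single Q 1) : ℤ) + FunFld.genus k X.functionField =
        3 + FunFld.ell (C - Finsupp.single P 1 - Finsupp.single Q 1) := fun P Q => by
    have h1 := Groth.FunFld1.riemann_roch hK hC (Finsupp.single P (1 : ℤ) + Finsupp.single Q 1)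
    rw [Groth.FunFld1.deg_add, Groth.FunFld1.deg_single, Groth.FunFld1.deg_single,
      Groth.FunFld1.deg_eq_one_of_isAlgClosed hF P, Groth.FunFld1.deg_eq_one_of_isAlgClosed hF Q,
      ← sub_sub] at h1
    push_cast at h1
    linarith
  have hCg := Groth.FunFld1.ell_canonical hK hC
  constructor
  · rintro H ⟨M, s, hM⟩
    obtain ⟨ψ, E, hψ, hlE, hdE, -⟩ := exists_divEmb h hK hM.1
    obtain ⟨-, f, -⟩ := exists_div_numerics h hK hM.1
    have h2 : 2 ≤ FunFld.ell E := hlE ▸ le_finrank_of_linIndep s hM.2.2
    have hne : FunFld.L E ≠ ⊥ := fun hb => by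
      unfold FunFld.ell at h2
      rw [hb, finrank_bot] at h2
      omega
    obtain ⟨w, hw, hE⟩ := hF.exists_effective_of_ne_bot hne
    have hd2 : (E + FunFld.div k w).deg = 2 := by
      rw [Groth.FunFld1.deg_add, hF.deg_div, add_zero, ← hdE, hM.2.1]
      rfl
    classical
    obtain ⟨P, hP⟩ : ∃ P, (E + FunFld.div k w) P ≠ 0 := by
      by_contra! hc
      rw [show E + FunFld.div k w = 0 from Finsupp.ext hc, Groth.FunFld1.deg_zero] at hd2
      omega
    have hE' : 0 ≤ E + FunFld.div k w - Finsupp.single P 1 := fun R => by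
      have := hE R
      simp only [Finsupp.coe_zero, Pi.zero_apply] at this
      simp only [Finsupp.coe_zero, Pi.zero_apply, Finsupp.sub_apply, Finsupp.single_apply]
      split_ifs with e
      · subst e; omega
      · simpa using this
    obtain ⟨Q, -, hQ⟩ := Groth.FunFld1.effective_deg_one hF hE' (by
      rw [Groth.FunFld1.deg_sub, Groth.FunFld1.deg_single, hd2,
        Groth.FunFld1.deg_eq_one_of_isAlgClosed hF P]
      rfl)
    have he : Finsupp.single P (1 : ℤ) + Finsupp.single Q 1 = E + FunFld.div k w := by
      rw [← hQ]; abel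
    have h1 := hrr P Q
    rw [he, hF.ell_add_div E hw] at h1
    have h3 := H P Q
    omega
  · intro hno P Q
    have h1 := hrr P Q
    have h4 : FunFld.ell (Finsupp.single P (1 : ℤ) + Finsupp.single Q 1) ≤ 1 := by
      by_contra hc
      refine hno (exists_linSer_of_divisor h hK (d := 2) (r := 1) ?_ (Nat.lt_of_not_le hc))
      rw [Groth.FunFld1.deg_add, Groth.FunFld1.deg_single, Groth.FunFld1.deg_single,
        Groth.FunFld1.deg_eq_one_of_isAlgClosed hF P, Groth.FunFld1.deg_eq_one_of_isAlgClosed hF Q]
      rfl
    have h5 : 1 ≤ FunFld.ell (Finsupp.single P (1 : ℤ) + Finsupp.single Q 1) := by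
      rw [← Groth.FunFld1.ell_zero_eq hK]
      exact ell_mono hF (add_nonneg (Finsupp.single_nonneg.mpr zero_le_one)
        (Finsupp.single_nonneg.mpr zero_le_one))
    omega

end Groth.Agent.S11335
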