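import Groth.Statements.S11337
import Groth.Agent.CurveBridge.CliffordApps
import Groth.Agent.Curves1.RR.Numerics

set_option autoImplicit false
universe u
open CategoryTheory CategoryTheory.Limits AlgebraicGeometry
open Curves

open Groth.CurveBridge

namespace Groth.Agent.S11337

/-- Let k be an algebraically closed field and X a curve over k (an integral scheme, proper over k, of
dimension one, with all local rings regular), and L an invertible O_X-module with an inverse M such
that H^0(X, L) ≠ 0, H^0(X, Ω_{X/k} ⊗ M) ≠ 0, L is isomorphic neither to O_X nor to Ω_{X/k}, and 2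
(dim_k H^0(X, L) - 1) = deg L. Then X is hyperelliptic and L is a multiple of the g^1_2: there is an
invertible module N of degree 2 with two k-linearly independent global sections (a g^1_2) such that
L ≅ N^{⊗ r} with r = dim_k H^0(X, L) - 1. (Only the implication from equality is stated here; the
converse, that on a hyperelliptic curve the effective special multiples of the g^1_2 attain
equality, is not part of this statement.) -/
theorem result (k : Type u) [Field k] [IsAlgClosed k] (X : Scheme.{u}) [X.Over (Spec (CommRingCat.of k))]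
    [IsIntegral X] [IsProper (X ↘ (Spec (CommRingCat.of k)))] (hdim : topologicalKrullDim X = 1)
    (hreg : ∀ x : X, IsRegularLocalRing (X.presheaf.stalk x))
    (L M : X.Modules) (hL : PicF.IsInvertible L) (hM : ClSub.IsInverseOf L M)
    (hs : Nontrivial (Coh.HH X L 0)) (hsp : Nontrivial (Coh.HH X (CohB1.tensorMod (Omega.sheaf (X ↘ (Spec (CommRingCat.of k)))) M) 0))
    (h0 : IsEmpty (L ≅ Coh.structureModule X)) (hK : IsEmpty (L ≅ (Omega.sheaf (X ↘ (Spec (CommRingCat.of k))))))
    (heq : 2 * (Module.finrank k (Coh.HH X L 0) : ℤ) = Curv2.deg k X L 1 + 2) :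
    ∃ (N : X.Modules) (s : Fin 2 → LinSer.Sect X N), LinSer.IsLinSer k X N 2 1 s ∧
      Nonempty (L ≅ CohB1.tensorPow N (Module.finrank k (Coh.HH X L 0) - 1)) := by
  have hKe := hK
  clear hK
  have h : IsRegCurve X := ⟨hdim, hreg⟩
  haveI := smooth_of_regular k X hreg
  have hK := isFunctionField (k := k) (X := X) hdim
  obtain ⟨hn0, -, hnd⟩ := omega_numerics (k := k) (X := X) h
  have hΩ := isInvertible_omega (k := k) (X := X) hK
  obtain ⟨s, hs'⟩ := exists_mono_of_nontrivial k (Groth.PicAux.isInvertible_tensorMod hΩ
    (Groth.PicAux.isInvertible_of_isInverseOf hL hM)) hsp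
  obtain ⟨ι, hι⟩ := exists_mono_of_section_tensor hM s
  obtain ⟨h1, h0'⟩ := CliffordEquality.special h hL hs ι
  have hpos : 0 < Curv2.deg k X L 1 := by
    rcases eq_or_lt_of_le (show 0 ≤ Curv2.deg k X L 1 by omega) with he | he
    · obtain ⟨e⟩ := CliffordEquality.nonempty_iso_structure h hL (by omega) he.symm
      exact (h0.false e).elim
    · exact he
  have hlt : Curv2.deg k X L 1 < 2 * (Curv2.genus k X : ℤ) - 2 := by
    rcases lt_trichotomy (Curv2.deg k X L 1) (2 * (Curv2.genus k X : ℤ) - 2) with he | he | he
    · exact he
    · obtain ⟨e⟩ := nonempty_iso_of_canonical_numerics h hK hL hΩ (by omega) he hn0.ge hnd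
      exact (hKe.false e).elim
    · have := Groth.Curves1.RR.subsingleton_h1_of_deg_ge k hdim.le (finrank_h0_structure h hK) hL (by omega)
      rw [Module.finrank_zero_of_subsingleton (M := Coh.HH X L 1)] at h1
      omega
  exact CliffordEquality.extremal h hL hpos hlt heq

end Groth.Agent.S11337
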