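import Groth.Statements.S11338
import Groth.Agent.CurveBridge.GeneralTwist
import Groth.Agent.CurveBridge.VeryAmple
import Groth.Agent.CurveBridge.RegularSmooth
import Groth.Agent.CliffIndex.Lemmas

set_option autoImplicit false
set_option linter.style.haveILetI false
universe u
open CategoryTheory CategoryTheory.Limits AlgebraicGeometry
open Curves
open Groth.CurveBridge

namespace Groth.Agent.S11338

/-- Let k be an algebraically closed field and X a curve over k (an integral scheme, proper over k, of
dimension one, with all local rings regular), of genus g ≥ 2, and d an integer. Then X carries a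
very ample divisor of degree d that is nonspecial — an invertible module L with deg L = d, H^1(X, L)
= 0 (equivalently H^0 of ω ⊗ L^{-1} vanishes), and L isomorphic to the pullback of O(1) along a
closed immersion into some P^n_k over k — if and only if d ≥ g + 3. -/
theorem result (k : Type u) [Field k] [IsAlgClosed k] (X : Scheme.{u}) [X.Over (Spec (CommRingCat.of k))]
    [IsIntegral X] [IsProper (X ↘ (Spec (CommRingCat.of k)))] (hdim : topologicalKrullDim X = 1)
    (hreg : ∀ x : X, IsRegularLocalRing (X.presheaf.stalk x)) (hg : 2 ≤ Curv2.genus k X) (d : ℤ) :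
    (∃ L : X.Modules, PicF.IsInvertible L ∧ Curv2.deg k X L 1 = d ∧ Subsingleton (Coh.HH X L 1) ∧
      (∃ (n : ℕ) (i : X ⟶ CohB1.ProjSpace n k), IsClosedImmersion i ∧ i ≫ CohB1.ProjSpace.toSpec n k = (X ↘ (Spec (CommRingCat.of k))) ∧
        Nonempty ((Scheme.Modules.pullback i).obj (Twist.twistProjSpace n k 1) ≅ L))) ↔
      (Curv2.genus k X : ℤ) + 3 ≤ d := by
  classical
  have h : Groth.CurveBridge.IsRegCurve X := ⟨hdim, hreg⟩
  have hK := Groth.CurveBridge.isFunctionField (k := k) (X := X) hdim
  have hF := Groth.CurveBridge.isFF k X hdim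
  haveI := Groth.CurveBridge.smooth_of_regular k X hreg
  haveI := Groth.CurveDiv.smoothOfRelativeDimension_one_of_curve (X ↘ Spec (CommRingCat.of k)) hdim
  have hgg := Groth.CurveBridge.genus_eq (k := k) h hK
  rw [hgg] at hg ⊢
  obtain ⟨W, hW⟩ := Groth.FunFld1.exists_isCanonical hK
  have hdW := Groth.FunFld1.deg_canonical hK hW
  have hd1 := fun P => Groth.FunFld1.deg_eq_one_of_isAlgClosed hF (P := P)
  constructor
  · rintro ⟨L, hL, hdeg, hsub, hemb⟩
    obtain ⟨φ, D, hφ, h0, hdD, h1⟩ := Groth.CurveBridge.exists_divEmb h hK hL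
    have hsep := (Groth.CurveBridge.exists_closedImmersion_iff (k := k) h hK hφ hL).mp hemb
    haveI := hsub
    rw [Module.finrank_zero_of_subsingleton] at h1
    rw [hgg] at h1
    have hl : (FunFld.ell D : ℤ) = d + 1 - FunFld.genus k X.functionField := by
      rw [← hdeg, hdD]; omega
    have hdD' : FunFld.Divisor.deg D = d := by rw [← hdD, hdeg]
    by_contra hlt
    push Not at hlt
    obtain ⟨P⟩ := hF.nonempty_place
    have hP := hsep P P
    by_cases h3 : d = (FunFld.genus k X.functionField : ℤ) + 2
    · have hell : FunFld.ell D = 3 := by omega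
      obtain ⟨P, Q, hPQ⟩ := Groth.CliffIndex.exists_pencil_of_net hK hell (by
        rw [hdD', h3]
        intro he
        nlinarith)
      have := hsep P Q
      omega
    have hell : FunFld.ell D = 2 ∧ d = (FunFld.genus k X.functionField : ℤ) + 1 := by omega
    obtain ⟨hell2, hdg⟩ := hell
    have hpos : 1 ≤ FunFld.ell (D - Finsupp.single P 1) := by
      have := Groth.CliffIndex.ell_le_single_add hK D P
      omega
    have hne : FunFld.L (D - Finsupp.single P 1) ≠ ⊥ := fun hb => by
      unfold FunFld.ell at hpos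
      rw [hb, finrank_bot] at hpos
      omega
    obtain ⟨z, hz, hz0⟩ := hF.exists_effective_of_ne_bot hne
    set E := D - Finsupp.single P 1 + FunFld.div k z with hE
    have hEd : FunFld.Divisor.deg E = FunFld.genus k X.functionField := by
      rw [hE, Groth.FunFld1.deg_add, hF.deg_div, Groth.FunFld1.deg_sub,
        Groth.FunFld1.deg_single, hd1, hdD', hdg]
      push_cast
      ring
    obtain ⟨Q, hQ⟩ : ∃ Q, 1 ≤ E Q := by
      by_contra! hc
      have hE0 : E = 0 := by
        ext R
        have h1 := hz0 R
        have h2 := hc R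
        simp only [Finsupp.coe_zero, Pi.zero_apply] at h1 ⊢
        omega
      rw [hE0, Groth.FunFld1.deg_zero] at hEd
      omega
    have hsQ : Finsupp.single Q 1 ≤ E := fun R => by
      by_cases hR : R = Q
      · subst hR; rw [Finsupp.single_eq_same]; exact hQ
      · rw [Finsupp.single_eq_of_ne hR]; exact hz0 R
    have h2 := Groth.CurveBridge.ell_mono hF (sub_nonneg.mpr hsQ)
    rw [Groth.FunFld1.ell_zero_eq hK, hE, show D - Finsupp.single P 1 + FunFld.div k z -
      Finsupp.single Q 1 = D - Finsupp.single P 1 - Finsupp.single Q 1 + FunFld.div k z by abel,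
      Groth.FunFld1.IsFF.ell_add_div hF _ hz] at h2
    have := hsep P Q
    omega
  · intro hd
    obtain ⟨P₀⟩ := hF.nonempty_place
    have hM : ∀ P Q, FunFld.ell (W + Finsupp.single P 1 + Finsupp.single Q 1) ≤
        FunFld.genus k X.functionField + 1 := fun P Q => by
      have h1 := Groth.FunFld1.riemann_roch hK hW (W + Finsupp.single P 1 + Finsupp.single Q 1)
      rw [Groth.FunFld1.IsFF.ell_eq_zero_of_deg_neg hF
        (D := W - (W + Finsupp.single P 1 + Finsupp.single Q 1))] at h1
      · simp only [Groth.FunFld1.deg_add, Groth.FunFld1.deg_single, hd1, hdW] at h1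
        push_cast at h1
        omega
      · simp only [Groth.FunFld1.deg_sub, Groth.FunFld1.deg_add, Groth.FunFld1.deg_single, hd1]
        push_cast
        omega
    obtain ⟨E, hEd, hE⟩ :=
      Groth.CurveBridge.GeneralTwist.exists_divisor_kill_pairs h hK W _ hM
    obtain ⟨n, hn⟩ : ∃ n : ℕ, d = (FunFld.genus k X.functionField : ℤ) + 3 + n :=
      ⟨(d - ((FunFld.genus k X.functionField : ℤ) + 3)).toNat, by omega⟩
    set D := E + n • Finsupp.single P₀ (1 : ℤ) with hD
    have hDd : FunFld.Divisor.deg D = d := by
      rw [hD, Groth.FunFld1.deg_add, Groth.FunFld1.deg_nsmul, Groth.FunFld1.deg_single, hd1, hEd, hn]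
      push_cast
      ring
    have hnn : (0 : FunFld.Divisor k X.functionField) ≤ n • Finsupp.single P₀ (1 : ℤ) :=
      nsmul_nonneg (Finsupp.single_nonneg.mpr zero_le_one) _
    have hsp : ∀ P Q, FunFld.ell (W - (D - Finsupp.single P 1 - Finsupp.single Q 1)) = 0 := fun P Q => by
      refine Nat.le_zero.mp ((Groth.CurveBridge.ell_mono hF ?_).trans (hE P Q).le)
      rw [hD, show W - (E + n • Finsupp.single P₀ (1 : ℤ) - Finsupp.single P 1 - Finsupp.single Q 1) =
        W - E + Finsupp.single P 1 + Finsupp.single Q 1 - n • Finsupp.single P₀ (1 : ℤ) by abel]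
      exact sub_le_self _ hnn
    have hns : FunFld.ell (W - D) = 0 := by
      refine Nat.le_zero.mp ((Groth.CurveBridge.ell_mono hF ?_).trans (hsp P₀ P₀).le)
      rw [show W - (D - Finsupp.single P₀ 1 - Finsupp.single P₀ 1) =
        W - D + (Finsupp.single P₀ 1 + Finsupp.single P₀ 1) by abel]
      exact le_add_of_nonneg_right
        (add_nonneg (Finsupp.single_nonneg.mpr zero_le_one) (Finsupp.single_nonneg.mpr zero_le_one))
    have hrr := Groth.FunFld1.riemann_roch hK hW D
    rw [hns, hDd] at hrr
    have hsep : ∀ P Q, FunFld.ell (D - Finsupp.single P 1 - Finsupp.single Q 1) + 2 = FunFld.ell D :=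
      fun P Q => by
        have h1 := Groth.FunFld1.riemann_roch hK hW (D - Finsupp.single P 1 - Finsupp.single Q 1)
        rw [hsp P Q] at h1
        simp only [Groth.FunFld1.deg_sub, Groth.FunFld1.deg_single, hd1, hDd] at h1
        push_cast at h1 hrr
        omega
    obtain ⟨L, φ, hL, hφ⟩ := Groth.CurveBridge.RationalTwist.exists_line h hK D
    obtain ⟨n0, nd, n1⟩ := Groth.CurveBridge.numerics_of_divEmb h hK hL hφ
    refine ⟨L, hL, by rw [nd, hDd], ?_,
      (Groth.CurveBridge.exists_closedImmersion_iff (k := k) h hK hφ hL).mpr hsep⟩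
    haveI := Groth.CurveBridge.finite_h h hK hL 1
    refine (Module.finrank_zero_iff (R := k)).mp ?_
    rw [hgg, hDd] at n1
    push_cast at hrr
    omega

end Groth.Agent.S11338
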