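import Groth.Statements.S11343
import Groth.Agent.SurfRR.Numerics
import Groth.Agent.CurveBridge.RegularSmooth
import Groth.Agent.LocFree.ExtPow
-- import your own Groth.Agent.* helpers here

set_option autoImplicit false
universe u
open CategoryTheory CategoryTheory.Limits AlgebraicGeometry
open Surf

namespace Groth.Agent.S11343

/-- Let X be a surface over an algebraically closed field k (an integral scheme of dimension two with
all local rings regular, admitting a closed immersion into some P^n_k over k), and H an ample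
invertible O_X-module. Some integer n₀ has the property that H^2(X, L) = 0 for every invertible
module L with (L·H) > n₀; here (L·H) = χ(O_X) - χ(L) - χ(H) + χ(L ⊗ H) is the intersection number
(packaged as FGA.intNum). -/
theorem result (k : Type u) [Field k] [IsAlgClosed k] (X : Scheme.{u}) [X.Over (Spec (CommRingCat.of k))]
    [IsIntegral X] (hdim : topologicalKrullDim X = 2) (hreg : ∀ x : X, IsRegularLocalRing (X.presheaf.stalk x))
    (hproj : ∃ (n : ℕ) (ι : X ⟶ CohB1.ProjSpace n k), IsClosedImmersion ι ∧ ι ≫ CohB1.ProjSpace.toSpec n k = (X ↘ (Spec (CommRingCat.of k))))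
    (H : X.Modules) (hH : CohB1.IsAmple H) :
    ∃ n₀ : ℤ, ∀ L : X.Modules, PicF.IsInvertible L → n₀ < FGA.intNum k X 2 ![L, H] (Coh.structureModule X) → Subsingleton (Coh.HH X L 2) := by
  obtain ⟨N, ι, hc, hι⟩ := hproj
  haveI := Groth.SurfRR.isProper_of_embedding k hι
  haveI := Groth.CurveBridge.smooth_of_regular k X hreg
  obtain ⟨hWi, hDD⟩ := Groth.SurfRR.dualDim_topForms' k hdim (Groth.LocFree.isExtPow_extPow 2 _)
  refine ⟨Groth.Inter.pair k (Groth.LocFree.extPow 2 (Omega.sheaf (X ↘ Spec (CommRingCat.of k)))) H,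
    fun L hL hlt => ?_⟩
  rw [Groth.Inter.intNum_eq_pair k hdim.le] at hlt
  obtain ⟨L', -, hLL'⟩ := Groth.PicAux.exists_isInverseOf hL
  have hL' := Groth.PicAux.isInvertible_of_isInverseOf hL hLL'
  haveI := Groth.SurfRR.subsingleton_h0_of_pair_neg k hdim (Groth.PicAux.isInvertible_tensorMod hWi hL') hH
    (by rw [Groth.Inter.pair_tensor k hdim.le hWi hL' hH.1, Groth.Inter.pair_inverse k hdim.le hL hLL' hH.1]
        linarith)
  refine Groth.SurfRR.subsingleton_of_finrank_eq_zero k (Groth.Inter.isCoh_of_isInvertible hL) ?_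
  rw [← hDD L L' hL hLL' 0 (by omega), Module.finrank_zero_of_subsingleton]

end Groth.Agent.S11343
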