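import Groth.Statements.S11345
import Groth.Agent.PointBlowUp.Canonical
import Groth.Agent.Curves1.RR.PointMod

set_option autoImplicit false
universe u
open CategoryTheory CategoryTheory.Limits AlgebraicGeometry
open Surf

namespace Groth.Agent.S11345

/-- Let X be a surface over an algebraically closed field k (an integral scheme of dimension two with
all local rings regular, admitting a closed immersion into some P^n_k over k), P a closed point of X
with ideal sheaf m_P, and π : X' → X the monoidal transformation with centre P (a blowing up of X in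
m_P, characterised by its universal property), with exceptional curve E of ideal I_E = m_P · O_{X'};
let W and W' be canonical sheaves of X and X' (second exterior powers of the sheaves of
differentials), X' being again a surface of the same kind. Then K_{X'} = π^* K_X + E in Pic X', i.e.
W' ⊗ I_E ≅ π^* W (existence of an isomorphism), and K_{X'}^2 = K_X^2 - 1, intersection numbers being
(L·M) = χ(O) - χ(L) - χ(M) + χ(L ⊗ M) (packaged as FGA.intNum). -/
theorem result (k : Type u) [Field k] [IsAlgClosed k] (X : Scheme.{u}) [X.Over (Spec (CommRingCat.of k))]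
    [IsIntegral X] (hdim : topologicalKrullDim X = 2) (hreg : ∀ x : X, IsRegularLocalRing (X.presheaf.stalk x))
    (hproj : ∃ (n : ℕ) (ι : X ⟶ CohB1.ProjSpace n k), IsClosedImmersion ι ∧ ι ≫ CohB1.ProjSpace.toSpec n k = (X ↘ (Spec (CommRingCat.of k))))
    (W : X.Modules) (hW : ExtPow.IsExtPow 2 (Omega.sheaf (X ↘ (Spec (CommRingCat.of k)))) W)
    (P : X) (hP : IsClosed ({P} : Set X))
    (X' : Scheme.{u}) (π : X' ⟶ X) (hπ : BlowUp.IsBlowUp π (Scheme.IdealSheafData.vanishingIdeal ⟨{P}, hP⟩))
    [IsIntegral X'] (hdim' : topologicalKrullDim X' = 2) (hreg' : ∀ x : X', IsRegularLocalRing (X'.presheaf.stalk x))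
    (hproj' : ∃ (n : ℕ) (ι : X' ⟶ CohB1.ProjSpace n k), IsClosedImmersion ι ∧ ι ≫ CohB1.ProjSpace.toSpec n k = π ≫ (X ↘ (Spec (CommRingCat.of k))))
    (W' : X'.Modules) (hW' : ExtPow.IsExtPow 2 (Omega.sheaf (π ≫ (X ↘ (Spec (CommRingCat.of k))))) W') :
    letI : X'.Over (Spec (CommRingCat.of k)) := ⟨π ≫ (X ↘ (Spec (CommRingCat.of k)))⟩
    Nonempty (CohB1.tensorMod W' (ClSub.idealMod (BlowUp.exceptional π (Scheme.IdealSheafData.vanishingIdeal ⟨{P}, hP⟩))) ≅
        (Scheme.Modules.pullback π).obj W) ∧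
      FGA.intNum k X' 2 ![W', W'] (Coh.structureModule X') = FGA.intNum k X 2 ![W, W] (Coh.structureModule X) - 1 := by
  letI : X'.Over (Spec (CommRingCat.of k)) := ⟨π ≫ (X ↘ (Spec (CommRingCat.of k)))⟩
  obtain ⟨n, ι, hι, hιs⟩ := hproj
  have : IsProper (X ↘ Spec (CommRingCat.of k)) := hιs ▸ inferInstance
  have := Groth.PointBlowUp.isProper_over k hP hπ rfl
  have hc : ∀ Z ∈ irreducibleComponents (X : Type u), topologicalKrullDim Z = 2 := fun Z hZ => by
    have h1 : Z = Set.univ := by
      rw [irreducibleComponents_eq_singleton] at hZ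
      exact hZ
    rw [h1]
    exact (IsHomeomorph.topologicalKrullDim_eq _ (Homeomorph.Set.univ X).isHomeomorph).trans hdim
  have hc' := Groth.PointBlowUp.dim_component k hc hP hπ rfl
  have := Groth.CurveBridge.smooth_of_regular k X hreg
  have := Groth.CurveBridge.smooth_of_regular k X' hreg'
  obtain ⟨φ⟩ := Groth.PointBlowUp.nonempty_canonical (k := k) hc hreg hP hπ rfl
  obtain ⟨ε⟩ := Groth.LocFree.nonempty_iso_extPow hW
  obtain ⟨ε'⟩ := Groth.LocFree.nonempty_iso_extPow (X := X') hW'
  set E := BlowUp.exceptional π (Scheme.IdealSheafData.vanishingIdeal (⟨{P}, hP⟩ : TopologicalSpace.Closeds X))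
  let e : CohB1.tensorMod W' (ClSub.idealMod E) ≅ (Scheme.Modules.pullback π).obj W :=
    PicGrp.tensorModIso ε'.symm (Iso.refl _) ≪≫ φ.symm ≪≫ (Scheme.Modules.pullback π).mapIso ε
  refine ⟨⟨e⟩, ?_⟩
  have hWi : PicF.IsInvertible W := Groth.LocFree.isInvertible_det (Groth.PointBlowUp.rank_omega hc) hW
  have hW'i : PicF.IsInvertible W' := Groth.LocFree.isInvertible_det (Groth.PointBlowUp.rank_omega hc') hW'
  have hEi := Groth.PicAux.isInvertible_idealMod hπ.1
  have hpW := Groth.PicAux.isInvertible_pullback π hWi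
  rw [Groth.Inter.intNum_eq_pair k (X := X') hdim'.le, Groth.Inter.intNum_eq_pair k (X := X) hdim.le]
  have h1 := Groth.PointBlowUp.pair_pullback k hc hP hπ rfl hWi hWi
  have h2 := Groth.PointBlowUp.pair_pullback_exceptional k hc hP hπ rfl hWi
  have h3 := Groth.PointBlowUp.pair_exceptional k hc hreg hP hπ rfl
  letI : Algebra k (X.residueField P) := Curv2.resAlgebra k X P
  rw [Groth.Curves1.RR.finrank_residueField_eq_one k P hP] at h3
  rw [Groth.Inter.pair_congr k ⟨e.symm⟩, Groth.Inter.pair_tensor k hdim'.le hW'i hEi hpW,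
    Groth.Inter.pair_comm k W', Groth.Inter.pair_congr k ⟨e.symm⟩, Groth.Inter.pair_comm k (ClSub.idealMod E),
    Groth.Inter.pair_congr k ⟨e.symm⟩, Groth.Inter.pair_tensor k hdim'.le hW'i hEi hW'i,
    Groth.Inter.pair_tensor k hdim'.le hW'i hEi hEi, Groth.Inter.pair_comm k (ClSub.idealMod E) W'] at h1
  rw [Groth.Inter.pair_congr k ⟨e.symm⟩, Groth.Inter.pair_tensor k hdim'.le hW'i hEi hEi] at h2
  simp only [E, BlowUp.exceptional] at h1 h2 h3
  omega

end Groth.Agent.S11345
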