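import Groth.Statements.S11349
import Groth.Agent.FunFld1.Reflection
import Groth.Agent.CurveBridge.AutField
import Groth.Agent.CurveBridge.RatPoints
import Groth.Agent.CurveBridge.TensorNumerics

set_option autoImplicit false
universe u
open CategoryTheory CategoryTheory.Limits AlgebraicGeometry
open Curves

namespace Groth.Agent.S11349

open Groth.CurveBridge Groth.FunFld1 Groth.CurveBridge.AutField

/-- Take an algebraically closed field k of characteristic different from 2 and an elliptic curve X over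
k — an integral scheme, proper over k, of dimension one, all local rings regular, of genus dim_k
H^1(X, O_X) = 1 — and let P, Q be closed points of X, possibly equal. Then there is an automorphism
σ of X over k with σ² = id and σ(P) = Q such that R + σ(R) is linearly equivalent to P + Q for every
closed point R; the last condition is written on ideal sheaves of points: I_R ⊗ I_{σ(R)} ≅ I_P ⊗
I_Q. -/
theorem result (k : Type u) [Field k] [IsAlgClosed k] (X : Scheme.{u}) [X.Over (Spec (CommRingCat.of k))]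
    [IsIntegral X] [IsProper (X ↘ (Spec (CommRingCat.of k)))] (hdim : topologicalKrullDim X = 1)
    (hreg : ∀ x : X, IsRegularLocalRing (X.presheaf.stalk x)) (hchar : ringChar k ≠ 2) (hg : Curv2.genus k X = 1)
    (P Q : X) (hP : IsClosed ({P} : Set X)) (hQ : IsClosed ({Q} : Set X)) :
    ∃ σ : X ≅ X, σ.hom ≫ (X ↘ (Spec (CommRingCat.of k))) = (X ↘ (Spec (CommRingCat.of k))) ∧ σ.hom ≫ σ.hom = 𝟙 X ∧ σ.hom P = Q ∧
      ∀ (R R' : X) (hR : IsClosed ({R} : Set X)) (hR' : IsClosed ({R'} : Set X)), σ.hom R = R' →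
        Nonempty (CohB1.tensorMod (ClSub.idealMod (Scheme.IdealSheafData.vanishingIdeal ⟨{R}, hR⟩)) (ClSub.idealMod (Scheme.IdealSheafData.vanishingIdeal ⟨{R'}, hR'⟩)) ≅ CohB1.tensorMod (ClSub.idealMod (Scheme.IdealSheafData.vanishingIdeal ⟨{P}, hP⟩)) (ClSub.idealMod (Scheme.IdealSheafData.vanishingIdeal ⟨{Q}, hQ⟩))) := by
  classical
  have h : IsRegCurve X := ⟨hdim, hreg⟩
  have hK := isFunctionField (k := k) (X := X) hdim
  have hgK : FunFld.genus k X.functionField = 1 := (genus_eq h hK).symm.trans hg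
  obtain ⟨σ, hσ2, -, hσP, hσR⟩ := Reflection.exists_reflection hK (Ring.two_ne_zero hchar) hgK
    (placeAt (k := k) h ⟨P, hP⟩) (placeAt (k := k) h ⟨Q, hQ⟩)
  obtain ⟨u, ⟨hs, hu, huσ⟩, -⟩ := existsUnique_of_algHom k h σ.toAlgHom
  have hσ : (σ : X.functionField →+* X.functionField) = fieldMap u hu := huσ.symm
  have huu : u ≫ u = 𝟙 X := by
    refine (existsUnique_of_algHom k h (AlgHom.id k X.functionField)).unique (y₁ := u ≫ u) (y₂ := 𝟙 X)
      ⟨by rw [Category.assoc, hs, hs], ?_, ?_⟩ ⟨Category.id_comp _, rfl, ?_⟩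
    · show u (u (genericPoint X)) = _
      rw [hu, hu]
    · rw [fieldMap, fieldHom_comp u u hu hu, CommRingCat.hom_comp]
      refine RingHom.ext fun z => ?_
      show fieldMap u hu (fieldMap u hu z) = z
      rw [huσ]
      exact hσ2 z
    · rw [fieldMap, fieldHom_id]; rfl
  refine ⟨⟨u, u, huu, huu⟩, hs, huu, ?_, fun R R' hR hR' hRR' => ?_⟩
  · rw [comapPlace_placeAt h u hu hs σ hσ] at hσP
    exact congrArg Subtype.val (placeAt_injective h hσP)
  · obtain ⟨f, hf, he⟩ := hσR (placeAt (k := k) h ⟨R, hR⟩)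
    rw [comapPlace_placeAt h u hu hs σ hσ,
      show (⟨u R, isClosed_image h u hs ⟨R, hR⟩⟩ : Pt X) = ⟨R', hR'⟩ from Subtype.ext hRR'] at he
    obtain ⟨iR, χR, eR⟩ := exists_divEmb_pointIdeal (k := k) h ⟨R, hR⟩
    obtain ⟨iR', χR', eR'⟩ := exists_divEmb_pointIdeal (k := k) h ⟨R', hR'⟩
    obtain ⟨iP, χP, eP⟩ := exists_divEmb_pointIdeal (k := k) h ⟨P, hP⟩
    obtain ⟨iQ, χQ, eQ⟩ := exists_divEmb_pointIdeal (k := k) h ⟨Q, hQ⟩
    obtain ⟨ω₁, hω₁⟩ := exists_divEmb_tensor h iR iR' eR eR'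
    obtain ⟨ω₂, hω₂⟩ := exists_divEmb_tensor h iP iQ eP eQ
    refine nonempty_iso_of_linEquiv h hK (Groth.PicAux.isInvertible_tensorMod iR iR')
      (Groth.PicAux.isInvertible_tensorMod iP iQ) hω₁ hω₂ hf ?_
    rw [← sub_eq_iff_eq_add'] at he
    rw [← he]
    abel

end Groth.Agent.S11349
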