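import Groth.Statements.S11350
import Groth.Agent.CliffIndex.Castelnuovo
import Groth.Agent.CliffIndex.CharFree
import Groth.Agent.CurveBridge.CliffordApps
import Groth.Agent.CurveBridge.SpaceCurve
-- import your own Groth.Agent.* helpers here

set_option autoImplicit false
set_option backward.isDefEq.respectTransparency.types false
universe u
open CategoryTheory CategoryTheory.Limits AlgebraicGeometry
open Curves

namespace Groth.Agent.S11350

open Groth.CliffIndex Groth.CurveBridge Groth.Chow
open scoped Groth.CurveBridge

/-- Let k be an algebraically closed field and X a curve over k (integral, proper over k, of dimension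
one, all local rings regular) together with a closed immersion i : X → P^3_k over k whose image is
not contained in any plane — every nonzero global section of O(1) on P^3_k restricts to a nonzero
global section of i^* O(1) — and let d = deg i^* O(1) be its degree and g its genus. Then d ≥ 3 and
g ≤ d²/4 - d + 1 if d is even, g ≤ (d² - 1)/4 - d + 1 if d is odd; both cases read g ≤ ⌊d²/4⌋ - d +
1 (integer division below). -/
theorem result (k : Type u) [Field k] [IsAlgClosed k] (X : Scheme.{u}) [X.Over (Spec (CommRingCat.of k))]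
    [IsIntegral X] [IsProper (X ↘ (Spec (CommRingCat.of k)))] (hdim : topologicalKrullDim X = 1)
    (hreg : ∀ x : X, IsRegularLocalRing (X.presheaf.stalk x))
    (i : X ⟶ CohB1.ProjSpace 3 k) [IsClosedImmersion i] (hi : i ≫ CohB1.ProjSpace.toSpec 3 k = (X ↘ (Spec (CommRingCat.of k))))
    (hplane : ∀ s : LinSer.Sect (CohB1.ProjSpace 3 k) (Twist.twistProjSpace 3 k 1), s ≠ 0 →
      OmegaSh.pullSect i (Twist.twistProjSpace 3 k 1) ⊤ s ≠ 0) :
    3 ≤ Curv2.deg k X ((Scheme.Modules.pullback i).obj (Twist.twistProjSpace 3 k 1)) 1 ∧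
      (Curv2.genus k X : ℤ) ≤
        Curv2.deg k X ((Scheme.Modules.pullback i).obj (Twist.twistProjSpace 3 k 1)) 1 ^ 2 / 4 -
          Curv2.deg k X ((Scheme.Modules.pullback i).obj (Twist.twistProjSpace 3 k 1)) 1 + 1 := by
  have h : IsRegCurve X := ⟨hdim, hreg⟩
  have hK := Groth.CurveBridge.isFunctionField (k := k) (X := X) h.dim
  have hI := Groth.PicAux.isInvertible_pullback i (ToPn.twist_isInvertible (R := k) (n := 3))
  obtain ⟨φ, D, hφ, d0, dd, -⟩ := exists_divEmb h hK hI
  have h4 : 4 ≤ FunFld.ell D := by
    rcases SpaceCurve.choose_le_h0_or_exists i hi (fun M hM => finite_h h hK hM 0) 1 hI with h1 | ⟨Q, hQ, hQ0⟩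
    · rw [← d0]
      exact (Nat.choose_one_right _).symm.trans_le h1
    · exact absurd hQ0 (hplane Q hQ)
  have hsep : ∀ P, GenPos.Sep D P :=
    (exists_closedImmersion_iff h hK hφ hI).mp ⟨3, i, inferInstance, hi, ⟨Iso.refl _⟩⟩
  have hb : GenPos.Bpf D := fun P => by
    have := hsep P P
    have := ell_le_single_add hK (D - Finsupp.single P 1) P
    omega
  rw [dd, genus_eq h hK]
  exact ⟨by have := GenPos.ell_le_deg_add_one hK (D := D) (by omega); omega,
    CharFree.genus_le_castelnuovo_veryAmple hK hb hsep h4⟩

end Groth.Agent.S11350
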