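import Groth.Statements.S11351
import Groth.Agent.FunFld1.Reflection
import Groth.Agent.CurveBridge.AutField
import Groth.Agent.CurveBridge.PencilMap
import Groth.Agent.Misc6.FinCovCover

set_option autoImplicit false
set_option backward.isDefEq.respectTransparency.types false
universe u
open CategoryTheory CategoryTheory.Limits AlgebraicGeometry
open Curves

namespace Groth.Agent.S11351

open Opposite Groth.CurveBridge Groth.FunFld1 Groth.CurveBridge.AutField

/-- The embedding of function fields of a morphism mapping the generic point to the generic point. -/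
theorem exists_fieldAlgHom {k : Type u} [Field k] {X Y : Scheme.{u}} [X.Over (Spec (CommRingCat.of k))]
    [Y.Over (Spec (CommRingCat.of k))] [IsIntegral X] [IsIntegral Y] (f : X ⟶ Y)
    (hf : f ≫ (Y ↘ Spec (CommRingCat.of k)) = X ↘ Spec (CommRingCat.of k))
    (hfη : f (genericPoint X) = genericPoint Y) :
    ∃ A : Y.functionField →ₐ[k] X.functionField,
      Spec.map (CommRingCat.ofHom A.toRingHom) ≫ genMap (X := Y) = genMap (X := X) ≫ f ∧
      Set.range A = Set.range ((ToLine.genEquiv X).symm.toRingHom.comp (f.residueFieldMap (genericPoint X)).hom) := by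
  let φ : Y.functionField ⟶ X.functionField :=
    Y.presheaf.stalkSpecializes (specializes_of_eq hfη) ≫ f.stalkMap (genericPoint X)
  have hφ : Spec.map φ ≫ genMap (X := Y) = genMap (X := X) ≫ f := by
    rw [genMap, genMap, Spec.map_comp, Category.assoc, Scheme.SpecMap_stalkSpecializes_fromSpecStalk,
      Scheme.SpecMap_stalkMap_fromSpecStalk]
  have hc : ∀ c : k, φ.hom (algebraMap k _ c) = algebraMap k X.functionField c := fun c => by
    have e := congrArg (fun m => m ≫ (Y ↘ Spec (CommRingCat.of k))) hφ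
    simp only [Category.assoc, hf, genMap] at e
    rw [fromSpecStalk_over, fromSpecStalk_over, ← Spec.map_comp] at e
    exact ConcreteCategory.congr_hom (Spec.map_injective e) c
  refine ⟨{ φ.hom with commutes' := hc }, hφ, ?_⟩
  have key : ∀ b : Y.presheaf.stalk (f (genericPoint X)),
      (ToLine.genEquiv X).symm.toRingHom.comp (f.residueFieldMap (genericPoint X)).hom (Y.residue _ b) =
        (f.stalkMap (genericPoint X)).hom b := fun b =>
    (congrArg (ToLine.genEquiv X).symm
      (ConcreteCategory.congr_hom (Scheme.residue_residueFieldMap f (genericPoint X)) b)).trans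
      ((ToLine.genEquiv X).symm_apply_apply _)
  ext z
  constructor
  · rintro ⟨a, rfl⟩
    exact ⟨_, key _⟩
  · rintro ⟨w, rfl⟩
    obtain ⟨b, rfl⟩ := IsLocalRing.residue_surjective (R := Y.presheaf.stalk (f (genericPoint X))) w
    obtain ⟨a, rfl⟩ := DoubleCover.surjective_stalkSpecializes hfη b
    exact ⟨a, (key _).symm⟩

/-- Automorphisms of the function field come from automorphisms of the curve. -/
theorem exists_iso {k : Type u} [Field k] {X : Scheme.{u}} [X.Over (Spec (CommRingCat.of k))] [IsIntegral X]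
    [IsProper (X ↘ Spec (CommRingCat.of k))] (h : IsRegCurve X) (φ : X.functionField ≃ₐ[k] X.functionField) :
    ∃ u : X ≅ X, u.hom ≫ (X ↘ Spec (CommRingCat.of k)) = X ↘ Spec (CommRingCat.of k) ∧
      ∃ hu : u.hom (genericPoint X) = genericPoint X, fieldMap u.hom hu = (φ : X.functionField →+* X.functionField) := by
  obtain ⟨u, ⟨hs, hu, huφ⟩, -⟩ := existsUnique_of_algHom k h φ.toAlgHom
  obtain ⟨v, ⟨hs', hv, hvφ⟩, -⟩ := existsUnique_of_algHom k h φ.symm.toAlgHom
  have key : ∀ (a b : X ⟶ X) (ha : a (genericPoint X) = genericPoint X) (hb : b (genericPoint X) = genericPoint X),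
      a ≫ (X ↘ Spec (CommRingCat.of k)) = X ↘ Spec (CommRingCat.of k) →
      b ≫ (X ↘ Spec (CommRingCat.of k)) = X ↘ Spec (CommRingCat.of k) →
      (∀ z, fieldMap a ha (fieldMap b hb z) = z) → a ≫ b = 𝟙 X := by
    intro a b ha hb hsa hsb hab
    refine (existsUnique_of_algHom k h (AlgHom.id k X.functionField)).unique (y₁ := a ≫ b) (y₂ := 𝟙 X)
      ⟨by rw [Category.assoc, hsb, hsa], ?_, ?_⟩ ⟨Category.id_comp _, rfl, ?_⟩
    · show b (a (genericPoint X)) = _
      rw [ha, hb]
    · rw [fieldMap, fieldHom_comp a b ha hb, CommRingCat.hom_comp]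
      exact RingHom.ext hab
    · rw [fieldMap, fieldHom_id]; rfl
  refine ⟨⟨u, v, key u v hu hv hs hs' fun z => ?_, key v u hv hu hs' hs fun z => ?_⟩, hs, hu, huφ⟩
  · rw [huφ, hvφ]; exact φ.apply_symm_apply z
  · rw [hvφ, huφ]; exact φ.symm_apply_apply z

/-- Take an algebraically closed field k of characteristic different from 2 and an elliptic curve X over
k (integral, proper over k, of dimension one, all local rings regular, of genus dim_k H^1(X, O_X) =
1), and let f₁, f₂ : X → P^1_k be two finite morphisms over k of degree 2 (the direct image of O_X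
is locally free of rank 2). Then there are an automorphism σ of X over k and an automorphism τ of
P^1_k over k such that f₂ ∘ σ = τ ∘ f₁. -/
theorem result (k : Type u) [Field k] [IsAlgClosed k] (X : Scheme.{u}) [X.Over (Spec (CommRingCat.of k))]
    [IsIntegral X] [IsProper (X ↘ (Spec (CommRingCat.of k)))] (hdim : topologicalKrullDim X = 1)
    (hreg : ∀ x : X, IsRegularLocalRing (X.presheaf.stalk x)) (hchar : ringChar k ≠ 2) (hg : Curv2.genus k X = 1)
    (f₁ f₂ : X ⟶ (CohB1.ProjSpace 1 k)) [IsFinite f₁] [IsFinite f₂]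
    (hf₁ : f₁ ≫ CohB1.ProjSpace.toSpec 1 k = (X ↘ (Spec (CommRingCat.of k)))) (hf₂ : f₂ ≫ CohB1.ProjSpace.toSpec 1 k = (X ↘ (Spec (CommRingCat.of k))))
    (hd₁ : FlatMod.IsFinLocFreeOfRank 2 ((Scheme.Modules.pushforward f₁).obj (Coh.structureModule X)))
    (hd₂ : FlatMod.IsFinLocFreeOfRank 2 ((Scheme.Modules.pushforward f₂).obj (Coh.structureModule X))) :
    ∃ (σ : X ≅ X) (τ : (CohB1.ProjSpace 1 k) ≅ (CohB1.ProjSpace 1 k)), σ.hom ≫ (X ↘ (Spec (CommRingCat.of k))) = (X ↘ (Spec (CommRingCat.of k))) ∧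
      τ.hom ≫ CohB1.ProjSpace.toSpec 1 k = CohB1.ProjSpace.toSpec 1 k ∧ σ.hom ≫ f₂ = f₁ ≫ τ.hom := by
  classical
  have h : IsRegCurve X := ⟨hdim, hreg⟩
  have hK := isFunctionField (k := k) (X := X) hdim
  have hgK : FunFld.genus k X.functionField = 1 := (genus_eq h hK).symm.trans hg
  letI : (CohB1.ProjSpace 1 k).Over (Spec (CommRingCat.of k)) := ⟨CohB1.ProjSpace.toSpec 1 k⟩
  haveI : IsProper (CohB1.ProjSpace 1 k ↘ Spec (CommRingCat.of k)) :=
    inferInstanceAs (IsProper (CohB1.ProjSpace.toSpec 1 k))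
  have hY : IsRegCurve (CohB1.ProjSpace 1 k) := ⟨by rw [Groth.Variety2.PSpace.dim_projSpace]; rfl,
    fun y => Groth.Duality.Pn.isRegularLocalRing_stalk 1 k y⟩
  -- the two subfields
  have side : ∀ (f : X ⟶ CohB1.ProjSpace 1 k) [IsFinite f],
      f ≫ CohB1.ProjSpace.toSpec 1 k = X ↘ Spec (CommRingCat.of k) →
      FlatMod.IsFinLocFreeOfRank 2 ((Scheme.Modules.pushforward f).obj (Coh.structureModule X)) →
      ∃ (t : X.functionField) (A : (CohB1.ProjSpace 1 k).functionField →ₐ[k] X.functionField),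
        Transcendental k t ∧
        Module.finrank (IntermediateField.adjoin k ({t} : Set X.functionField)) X.functionField = 2 ∧
        A.fieldRange = IntermediateField.adjoin k ({t} : Set X.functionField) ∧
        Spec.map (CommRingCat.ofHom A.toRingHom) ≫ genMap (X := CohB1.ProjSpace 1 k) = genMap (X := X) ≫ f := by
    intro f _ hf hd
    obtain ⟨⟨-, hflat, -⟩, hrk⟩ := Groth.Misc6.FinCov.isCover_of_pushforward f 2 hd
    haveI := hflat
    obtain ⟨hfη, hres⟩ := DoubleCover.residueDegree_of_rank h f hrk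
    obtain ⟨t, ht⟩ := ToLine.range_eq_adjoin (k := k) f hf
    obtain ⟨ht2, -⟩ := ToLine.coordinate_of_range f ht
    rw [hres] at ht2
    obtain ⟨A, hA, hAr⟩ := exists_fieldAlgHom (k := k) f hf hfη
    exact ⟨t, A, ToLine.transcendental_of_finrank hdim (by omega), ht2,
      SetLike.coe_injective (((AlgHom.coe_fieldRange A).trans hAr).trans ht), hA⟩
  obtain ⟨t₁, A₁, htr₁, ht₁, hA₁, hg₁⟩ := side f₁ hf₁ hd₁
  obtain ⟨t₂, A₂, htr₂, ht₂, hA₂, hg₂⟩ := side f₂ hf₂ hd₂
  obtain ⟨σ, hσ⟩ := Reflection.exists_algEquiv_map_adjoin hK (Ring.two_ne_zero hchar) hgK htr₁ ht₁ htr₂ ht₂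
  rw [← hA₁, ← hA₂] at hσ
  let ψ : (CohB1.ProjSpace 1 k).functionField ≃ₐ[k] (CohB1.ProjSpace 1 k).functionField :=
    (AlgEquiv.ofInjectiveField A₂).trans ((A₂.fieldRange.intermediateFieldMap σ).trans
      ((IntermediateField.equivOfEq hσ).trans (AlgEquiv.ofInjectiveField A₁).symm))
  have hψ : ∀ z, A₁ (ψ z) = σ (A₂ z) := fun z => by
    have := congrArg Subtype.val ((AlgEquiv.ofInjectiveField A₁).apply_symm_apply
      ((IntermediateField.equivOfEq hσ) (A₂.fieldRange.intermediateFieldMap σ (AlgEquiv.ofInjectiveField A₂ z))))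
    exact this
  obtain ⟨u, hu1, hu, huσ⟩ := exists_iso h σ
  obtain ⟨τ, hτ1, hτ, hτψ⟩ := exists_iso hY ψ
  refine ⟨u, τ, hu1, hτ1, ?_⟩
  haveI : IsDominant (genMap (X := X)) := by
    refine ⟨fun z => ?_⟩
    have : genericPoint X ∈ Set.range (genMap (X := X)).base :=
      ⟨IsLocalRing.closedPoint (X.presheaf.stalk (genericPoint X)), Scheme.fromSpecStalk_closedPoint⟩
    exact closure_mono (Set.singleton_subset_iff.mpr this)
      ((genericPoint_spec X).specializes trivial).mem_closure
  refine ext_of_isDominant_of_isSeparated (CohB1.ProjSpace 1 k ↘ Spec (CommRingCat.of k)) ?_ (genMap (X := X)) ?_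
  · show (u.hom ≫ f₂) ≫ CohB1.ProjSpace.toSpec 1 k = (f₁ ≫ τ.hom) ≫ CohB1.ProjSpace.toSpec 1 k
    rw [Category.assoc, Category.assoc, hf₂, hu1,
      show τ.hom ≫ CohB1.ProjSpace.toSpec 1 k = CohB1.ProjSpace.toSpec 1 k from hτ1, hf₁]
  · rw [← Category.assoc, ← spec_fieldHom u.hom hu, Category.assoc, ← hg₂, ← Category.assoc (genMap (X := X)) f₁,
      ← hg₁, Category.assoc, ← spec_fieldHom τ.hom hτ, ← Category.assoc, ← Category.assoc, ← Spec.map_comp,
      ← Spec.map_comp]
    congr 2
    refine CommRingCat.hom_ext (RingHom.ext fun z => ?_)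
    show fieldMap u.hom hu (A₂ z) = A₁ (fieldMap τ.hom hτ z)
    rw [huσ, hτψ]
    exact (hψ z).symm

end Groth.Agent.S11351
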