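import Groth.Statements.S11352
import Groth.Agent.CurveBridge.Main
import Groth.Agent.CurveBridge.Clifford
import Groth.Agent.CurveBridge.Linear
import Groth.Agent.PropsBasic.AmpleSec
import Groth.Agent.PicAux.Tensor
import Groth.Agent.EulerDeg.FiniteSupport

set_option autoImplicit false
universe u
open CategoryTheory CategoryTheory.Limits AlgebraicGeometry
open Curves

open TopologicalSpace WithZero
open Groth.PicAux Groth.CurveBridge
open scoped Groth.CurveBridge

namespace Groth.Agent.S11352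

section Aux

variable {k : Type u} [Field k] {X : Scheme.{u}} [X.Over (Spec (CommRingCat.of k))] [IsIntegral X]
  [IsProper (X ↘ Spec (CommRingCat.of k))]

variable (k) in
include k in
/-- A nonzero global section is a generator near the generic point; send it to `1`. -/
theorem exists_normalised {L : X.Modules} (hL : PicF.IsInvertible L) (hs : Nontrivial (Coh.HH X L 0)) :
    ∃ (U₀ : X.Opens) (t : Γ(L, ⊤)) (φ : L ⟶ constK X), genericPoint X ∈ U₀ ∧
      Gen L U₀ (res L le_top t) ∧ Mono φ ∧ φ.app U₀ (res L le_top t) = ksec U₀ 1 := by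
  haveI := hs
  obtain ⟨v, hv⟩ := exists_ne (0 : Coh.HH X L 0)
  let t : Γ(L, ⊤) := Groth.EulerDeg.h0Equiv k L v
  have ht : t ≠ 0 := fun h0 => hv ((Groth.EulerDeg.h0Equiv k L).map_eq_zero_iff.1 h0)
  have hη : genericPoint X ∈ Groth.PropsBasic.Ample.gloc t := by
    obtain ⟨U, e, hU, he⟩ := (isInvertible_iff_exists_gen L).1 hL (genericPoint X)
    obtain ⟨φ, hmono, hφ⟩ := exists_embedding hL hU he
    obtain ⟨c, hc⟩ := he.exists_coeff le_rfl (res L (le_top : U ≤ ⊤) t)
    rw [res_self] at hc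
    by_contra hn
    have hnb : genericPoint X ∉ X.basicOpen c := fun hb =>
      hn (Groth.PropsBasic.Ample.gloc_inf_eq_basicOpen he hc ▸ hb : genericPoint X ∈ Groth.PropsBasic.Ample.gloc t ⊓ U).1
    rw [Scheme.mem_basicOpen X c _ hU] at hnb
    have hc0 : X.presheaf.germ U _ hU c = 0 := by
      by_contra h0
      exact hnb (IsUnit.mk0 (G₀ := X.functionField) _ h0)
    refine ht (app_injective φ ⊤ ?_)
    rw [map_zero]
    refine constK_ext fun hT => ?_
    have h1 := congrArg (fun a => kv hU (φ.app U a)) hc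
    rw [app_res, kv_res, Scheme.Modules.Hom.app_smul, kv_smul, hc0, zero_mul] at h1
    rw [map_zero]
    exact h1
  obtain ⟨φ, hmono, hφ⟩ := exists_embedding hL hη (Groth.PropsBasic.Ample.gen_gloc t le_rfl)
  exact ⟨_, t, φ, hη, Groth.PropsBasic.Ample.gen_gloc t le_rfl, hmono, hφ⟩

variable (h : IsRegCurve X)
include h

/-- The divisor is minus the order of the value of a local generator. -/
theorem exp_eq_val {L : X.Modules} (φ : L ⟶ constK X) [Mono φ] {D : FunFld.Divisor k X.functionField}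
    (hD : ∀ (x : Pt X) z, InStalk φ x.1 z ↔ (placeAt (k := k) h x).1 z ≤ exp (D (placeAt (k := k) h x)))
    (x : Pt X) {U : X.Opens} (hx : x.1 ∈ U) {e : Γ(L, U)} (he : Gen L U e) :
    exp (D (placeAt (k := k) h x)) =
      (placeAt (k := k) h x).1 (kv (generic_mem U hx) (φ.app U e)) := by
  set P := placeAt (k := k) h x
  set w := kv (generic_mem U hx) (φ.app U e) with hw
  refine le_antisymm ?_ ((hD x w).1 ⟨U, hx, e, rfl⟩)
  obtain ⟨z, hz⟩ := Groth.FunFld1.exists_val_eq_exp P (D P)
  obtain ⟨a, ha⟩ := (inStalk_iff_of_gen φ hx he z).1 ((hD x z).2 hz.le)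
  rw [← hz, ← ha, map_mul]
  calc P.1 (algebraMap (X.presheaf.stalk x.1) X.functionField a) * P.1 w ≤ 1 * P.1 w :=
        mul_le_mul_left ((placeAt_le_one_iff (k := k) h x _).2 ⟨a, rfl⟩) _
    _ = P.1 w := one_mul _

end Aux

/-- Let k be an algebraically closed field and X a curve over k (an integral scheme, proper over k, of
dimension one, with all local rings regular), and L, L' invertible O_X-modules each with a nonzero
global section (the sheaves of effective divisors D and E). Then dim |D| + dim |E| ≤ dim |D + E|; in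
terms of sections, dim_k H^0(X, L) + dim_k H^0(X, L') ≤ dim_k H^0(X, L ⊗ L') + 1. -/
theorem result (k : Type u) [Field k] [IsAlgClosed k] (X : Scheme.{u}) [X.Over (Spec (CommRingCat.of k))]
    [IsIntegral X] [IsProper (X ↘ (Spec (CommRingCat.of k)))] (hdim : topologicalKrullDim X = 1)
    (hreg : ∀ x : X, IsRegularLocalRing (X.presheaf.stalk x))
    (L L' : X.Modules) (hL : PicF.IsInvertible L) (hL' : PicF.IsInvertible L')
    (hs : Nontrivial (Coh.HH X L 0)) (hs' : Nontrivial (Coh.HH X L' 0)) :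
    Module.finrank k (Coh.HH X L 0) + Module.finrank k (Coh.HH X L' 0) ≤ Module.finrank k (Coh.HH X (CohB1.tensorMod L L') 0) + 1 := by
  have h : IsRegCurve X := ⟨hdim, hreg⟩
  have hK := Groth.CurveBridge.isFunctionField (k := k) (X := X) hdim
  obtain ⟨U, t, φ, hU, he, hφm, hφ⟩ := exists_normalised k hL hs
  obtain ⟨U', t', φ', hU', he', hφm', hφ'⟩ := exists_normalised k hL' hs'
  have hW : genericPoint X ∈ U ⊓ U' := ⟨hU, hU'⟩
  have heW := (he.res (inf_le_left : U ⊓ U' ≤ U)).tensor (he'.res (inf_le_right : U ⊓ U' ≤ U'))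
  obtain ⟨φ'', hφm'', hφ''⟩ := exists_embedding (isInvertible_tensorMod hL hL') hW heW
  obtain ⟨D, hD⟩ := exists_divisor (k := k) φ h hL hU he hφ
  obtain ⟨D', hD'⟩ := exists_divisor (k := k) φ' h hL' hU' he' hφ'
  obtain ⟨D'', hD''⟩ := exists_divisor (k := k) φ'' h (isInvertible_tensorMod hL hL') hW heW hφ''
  obtain ⟨q⟩ := nonempty_h0_equiv φ h hU hφ hD
  obtain ⟨q'⟩ := nonempty_h0_equiv φ' h hU' hφ' hD'
  obtain ⟨q''⟩ := nonempty_h0_equiv φ'' h hW hφ'' hD''
  have hpos : ∀ {N : X.Modules} (ψ : N ⟶ constK X) (V : X.Opens) (u : Γ(N, ⊤)) (E : FunFld.Divisor k X.functionField),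
      genericPoint X ∈ V → ψ.app V (res N le_top u) = ksec V 1 →
      (∀ (x : Pt X) z, InStalk ψ x.1 z ↔ (placeAt (k := k) h x).1 z ≤ exp (E (placeAt (k := k) h x))) →
      0 ≤ E := by
    intro N ψ V u E hV hψ hE P
    obtain ⟨x, rfl⟩ := (placeEquiv (k := k) h).surjective P
    have h1 : InStalk ψ x.1 1 := by
      refine ⟨⊤, trivial, u, ?_⟩
      have h2 := congrArg (kv hV) hψ
      rw [app_res, kv_res, kv_ksec] at h2
      exact h2
    have h3 := (hE x 1).1 h1
    rw [map_one, ← exp_zero, exp_le_exp] at h3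
    exact h3
  have hsum : D'' = D + D' := by
    ext P
    obtain ⟨x, rfl⟩ := (placeEquiv (k := k) h).surjective P
    show D'' (placeAt (k := k) h x) = D (placeAt (k := k) h x) + D' (placeAt (k := k) h x)
    obtain ⟨V, g, hxV, hg⟩ := (isInvertible_iff_exists_gen L).1 hL x.1
    obtain ⟨V', g', hxV', hg'⟩ := (isInvertible_iff_exists_gen L').1 hL' x.1
    have hx : x.1 ∈ V ⊓ V' := ⟨hxV, hxV'⟩
    have hV := generic_mem _ hx
    let G := res L (inf_le_left : V ⊓ V' ≤ V) g
    let G' := res L' (inf_le_right : V ⊓ V' ≤ V') g'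
    have hG : Gen L (V ⊓ V') G := hg.res _
    have hG' : Gen L' (V ⊓ V') G' := hg'.res _
    apply exp_injective
    rw [exp_add, exp_eq_val h φ'' hD'' x hx (hG.tensor hG'), exp_eq_val h φ hD x hx hG,
      exp_eq_val h φ' hD' x hx hG', ← map_mul]
    congr 1
    obtain ⟨W, hW1, hW2⟩ : ∃ W : X.Opens, W ≤ (U ⊓ U') ⊓ (V ⊓ V') ∧ genericPoint X ∈ W :=
      ⟨_, le_rfl, hW, hV⟩
    obtain ⟨c, hc⟩ := he.exists_coeff (hW1.trans (inf_le_left.trans inf_le_left))
      (res L (hW1.trans inf_le_right) G)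
    obtain ⟨c', hc'⟩ := he'.exists_coeff (hW1.trans (inf_le_left.trans inf_le_right))
      (res L' (hW1.trans inf_le_right) G')
    have hc0 := congrArg (fun a => kv hW2 (φ.app W a)) hc
    have hc0' := congrArg (fun a => kv hW2 (φ'.app W a)) hc'
    simp only [Scheme.Modules.Hom.app_smul, kv_smul] at hc0 hc0'
    simp only [app_res, kv_res, hφ, hφ', kv_ksec, mul_one] at hc0 hc0'
    have hval : kv hW2 (φ''.app W (res _ (hW1.trans inf_le_right) (tmulSec G G'))) =
        X.presheaf.germ W (genericPoint X) hW2 c * X.presheaf.germ W (genericPoint X) hW2 c' := by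
      rw [res_tmulSec, hc, hc', tmulSec_smul_left, tmulSec_smul_right,
        Scheme.Modules.Hom.app_smul, Scheme.Modules.Hom.app_smul, kv_smul, kv_smul]
      have hone : kv hW2 (φ''.app W (res _ (hW1.trans inf_le_left)
          (tmulSec (res L (inf_le_left : U ⊓ U' ≤ U) (res L le_top t))
            (res L' (inf_le_right : U ⊓ U' ≤ U') (res L' le_top t'))))) = 1 := by
        rw [app_res, kv_res, hφ'', kv_ksec]
      rw [res_tmulSec] at hone
      simp only [res_res] at hone ⊢
      rw [hone, mul_one]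
    rw [app_res, kv_res] at hval
    rw [hval, hc0, hc0']
  rw [q.finrank_eq, q'.finrank_eq, q''.finrank_eq, hsum]
  have := Groth.CurveBridge.ell_add_ell_le hK (hpos φ U t D hU hφ hD) (hpos φ' U' t' D' hU' hφ' hD')
  unfold FunFld.ell at this
  omega

end Groth.Agent.S11352
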