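import Groth.Statements.S11357
import Groth.Agent.S11332
import Groth.Agent.Curves1.Hurwitz.Ramification

set_option autoImplicit false
universe u
open CategoryTheory CategoryTheory.Limits AlgebraicGeometry
open Curves
open scoped Groth.CurveBridge

namespace Groth.Agent.S11357

/-- Let f : X → Y be a finite morphism over k of curves over an algebraically closed field k (integral,
proper over k, of dimension one, all local rings regular), sending the generic point to the generic
point, with K(X)/K(Y) separable, and let R be the ramification divisor Σ_P length(Ω_{X/Y,P}) · P,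
whose ideal sheaf I_R is the 0-th Fitting ideal of the torsion sheaf Ω_{X/Y} (at P it is m_P to the
power length(Ω_{X/Y,P})). Then K_X is linearly equivalent to f^* K_Y + R: Ω_{X/k} ⊗ I_R ≅ f^*
Ω_{Y/k} (existence of an isomorphism, i.e. equality of classes in Pic X). -/
theorem result (k : Type u) [Field k] [IsAlgClosed k] (X : Scheme.{u}) [X.Over (Spec (CommRingCat.of k))]
    [IsIntegral X] [IsProper (X ↘ (Spec (CommRingCat.of k)))] (hdimX : topologicalKrullDim X = 1)
    (hregX : ∀ x : X, IsRegularLocalRing (X.presheaf.stalk x))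
    (Y : Scheme.{u}) [Y.Over (Spec (CommRingCat.of k))]
    [IsIntegral Y] [IsProper (Y ↘ (Spec (CommRingCat.of k)))] (hdimY : topologicalKrullDim Y = 1)
    (hregY : ∀ x : Y, IsRegularLocalRing (Y.presheaf.stalk x))
    (f : X ⟶ Y) [IsFinite f] (hf : f ≫ (Y ↘ (Spec (CommRingCat.of k))) = X ↘ (Spec (CommRingCat.of k)))
    (e : f (genericPoint X) = genericPoint Y) :
    letI := ((Y.presheaf.stalkSpecializes (specializes_of_eq e) ≫ f.stalkMap (genericPoint X)).hom).toAlgebra
    Algebra.IsSeparable Y.functionField X.functionField →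
      Nonempty (CohB1.tensorMod (Omega.sheaf (X ↘ (Spec (CommRingCat.of k)))) (ClSub.idealMod (Fitt.sheafIdeal (Omega.sheaf f) 0)) ≅
        (Scheme.Modules.pullback f).obj (Omega.sheaf (Y ↘ (Spec (CommRingCat.of k))))) := by
  intro hsep
  have : IsLocallyNoetherian X := LocallyOfFiniteType.isLocallyNoetherian (X ↘ (Spec (CommRingCat.of k)))
  have : IsLocallyNoetherian Y := LocallyOfFiniteType.isLocallyNoetherian (Y ↘ (Spec (CommRingCat.of k)))
  have : CompactSpace Y := QuasiCompact.compactSpace_of_compactSpace (Y ↘ (Spec (CommRingCat.of k)))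
  haveI := Groth.CurveBridge.smooth_of_regular k X hregX
  haveI := Groth.CurveBridge.smooth_of_regular k Y hregY
  have hX : Groth.CurveBridge.IsRegCurve X := ⟨hdimX, hregX⟩
  have hY : Groth.CurveBridge.IsRegCurve Y := ⟨hdimY, hregY⟩
  haveI : Flat f := Groth.Curves1.CurveMor.flat_of_dominant f e
    (fun y => (Groth.RefRank.isNormalScheme_of_regular hregY y).2) hdimY.le
  haveI : Surjective f := by
    refine ⟨fun y => ?_⟩
    have hy : y ∈ closure ({genericPoint Y} : Set Y) :=
      specializes_iff_mem_closure.1 ((genericPoint_spec Y).specializes (S := Set.univ) trivial)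
    exact closure_minimal (s := {genericPoint Y}) (t := Set.range f)
      (Set.singleton_subset_iff.2 (Set.mem_range.2 ⟨_, e⟩)) f.isClosedMap.isClosed_range hy
  obtain ⟨e₁, e₂, hcomm⟩ := Groth.Agent.S11332.exists_residue_equivs f e
  have hsep' : letI := (f.residueFieldMap (genericPoint X)).hom.toAlgebra
      Algebra.IsSeparable (Y.residueField (f.base (genericPoint X))) (X.residueField (genericPoint X)) := by
    letI := ((Y.presheaf.stalkSpecializes (specializes_of_eq e) ≫ f.stalkMap (genericPoint X)).hom).toAlgebra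
    haveI := hsep
    letI := (f.residueFieldMap (genericPoint X)).hom.toAlgebra
    exact Algebra.IsSeparable.of_equiv_equiv e₁ e₂ (RingHom.ext hcomm)
  have hux : OmegaSh.IsUniversal (OmegaSh.dOmega (X ↘ (Spec (CommRingCat.of k)))) :=
    Groth.OmegaSheaf.isUniversal_dOmega _
  have huy : OmegaSh.IsUniversal (OmegaSh.dOmega (Y ↘ (Spec (CommRingCat.of k)))) :=
    Groth.OmegaSheaf.isUniversal_dOmega _
  have key : ∀ (q : X ⟶ Spec (CommRingCat.of k)) (ΩX : X.Modules) (dX : OmegaSh.Der q ΩX), OmegaSh.IsUniversal dX →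
      q = f ≫ (Y ↘ (Spec (CommRingCat.of k))) → Smooth q →
      ∃ (c : (Scheme.Modules.pullback f).obj (Omega.sheaf (Y ↘ (Spec (CommRingCat.of k)))) ⟶ ΩX)
        (p : ΩX ⟶ Omega.sheaf f) (w : c ≫ p = 0), (ShortComplex.mk c p w).ShortExact := by
    rintro q ΩX dX hd rfl hq
    obtain ⟨c, p, w, hc, hex, hp⟩ := Groth.Curves1.Hurwitz.exists_cotangent f (Y ↘ (Spec (CommRingCat.of k))) huy hd
      (Groth.OmegaSheaf.isUniversal_dOmega f)
    haveI : Mono c := Groth.Agent.S13458.result k (f ≫ (Y ↘ (Spec (CommRingCat.of k)))) _ f rfl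
      (hdimX.trans hdimY.symm) f.surjective.denseRange hsep' _ _ huy _ _ hd c hc
    haveI : Epi p := hp
    exact ⟨c, p, w, { exact := hex }⟩
  obtain ⟨c, p, w, hses⟩ := key _ _ _ hux hf.symm inferInstance
  have hiX := Groth.CurveBridge.isInvertible_omega (X := X) (Groth.CurveBridge.isFunctionField (k := k) hdimX)
  have hiY := Groth.CurveBridge.isInvertible_omega (X := Y) (Groth.CurveBridge.isFunctionField (k := k) hdimY)
  have hiN := Groth.PicAux.isInvertible_pullback f hiY
  have hc0 : c ≠ 0 := by
    intro h0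
    haveI := hses.mono_f
    obtain ⟨U, s, hU, hs⟩ := (Groth.PicAux.isInvertible_iff_exists_gen _).1 hiN (genericPoint X)
    have hinj := (Groth.CohTwo.mono_iff_app_injective c).1 (hses.mono_f) U
    have hz : s = 0 := hinj (by rw [h0, map_zero]; rfl)
    have h1 : (1 : Γ(X, U)) = 0 := hs.smul_inj le_rfl (by rw [one_smul, zero_smul, Groth.PicAux.res_self, hz])
    haveI : Nonempty U := ⟨⟨_, hU⟩⟩
    exact one_ne_zero h1
  haveI := hses.epi_g
  exact Groth.Curves1.Hurwitz.nonempty_iso_tensor_fitting hiN hiX c hc0 p w hses.exact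
    (Groth.OmegaSheaf.isQCoh_of_isUniversal (Groth.OmegaSheaf.isUniversal_dOmega f))
    (Groth.OmegaSheaf.isFT_sheaf f)

end Groth.Agent.S11357
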