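import Groth.Statements.S11359
import Groth.Agent.Gorenstein.HullBaseChange

set_option autoImplicit false
universe u
open InjHull

namespace Groth.Agent.S11359

/-- For a flat homomorphism A → B of Noetherian local rings whose fibre ring B/m_A B is an Artinian
Gorenstein local ring, tensoring an injective hull of the residue field of A with B gives an
injective hull of the residue field of B. -/
theorem result (A : Type u) [CommRing A] [IsLocalRing A] [IsNoetherianRing A] (B : Type u) [CommRing B] [IsLocalRing B] [IsNoetherianRing B] [Algebra A B] [Module.Flat A B] (hG : LocCoh.IsGorensteinLocalRing (B ⧸ (IsLocalRing.maximalIdeal A).map (algebraMap A B))) (hArt : IsArtinianRing (B ⧸ (IsLocalRing.maximalIdeal A).map (algebraMap A B))) (E : Type u) [AddCommGroup E] [Module A E] (f : IsLocalRing.ResidueField A →ₗ[A] E) (hf : InjHull.IsInjectiveHull f) : ∃ g : IsLocalRing.ResidueField B →ₗ[B] TensorProduct A B E, InjHull.IsInjectiveHull g := by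
  haveI := hG.toIsLocalRing
  haveI : IsLocalHom (algebraMap A B) := ⟨fun a ha => by
    by_contra hna
    exact not_subsingleton (B ⧸ (IsLocalRing.maximalIdeal A).map (algebraMap A B))
      (Ideal.Quotient.subsingleton_iff.2 (Ideal.eq_top_of_isUnit_mem _
        (Ideal.mem_map_of_mem _ hna) ha))⟩
  exact GrothGoren.exists_hull_baseChange A B hG.exists_hasInjectiveDimensionLT hArt hf

end Groth.Agent.S11359
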