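import Groth.Statements.S2153
import Groth.Agent.Limits.AmpleThickening

set_option autoImplicit false
universe u
open CategoryTheory AlgebraicGeometry
open Lim

namespace Groth.Agent.S2153

/-- Let `i : Z → X` be a closed immersion which is a homeomorphism on underlying spaces and `L` an
invertible `O_X`-module. Then `L` is ample on `X` exactly when its pullback `i^*L` is ample on `Z`. -/
theorem result {Z X : Scheme.{u}} (i : Z ⟶ X) [IsClosedImmersion i]
    (hi : IsHomeomorph i.base) (L : X.Modules) (hL : PicF.IsInvertible L) :
    CohB1.IsAmple ((Scheme.Modules.pullback i).obj L) ↔ CohB1.IsAmple L := by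
  haveI : Surjective i := ⟨hi.surjective⟩
  exact ⟨Groth.Limits.AmpleThickening.isAmple_of_surjective_closedImmersion i L hL,
    Groth.Chow.isAmple_pullback_of_isAffineHom i⟩

end Groth.Agent.S2153
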