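import Groth.Statements.S11369
import Groth.Agent.Inter.KleimanCor

set_option autoImplicit false
universe u
open CategoryTheory CategoryTheory.Limits AlgebraicGeometry TopologicalSpace
open Variety

namespace Groth.Agent.S11369

/-- Let X be proper over an algebraically closed field k and L an invertible O_X-module generated by its
global sections. If for every integral closed subscheme C of X of dimension one the pullback of L to
C is ample, then L is ample. -/
theorem result (k : Type u) [Field k] [IsAlgClosed k] (X : Scheme.{u})
    [X.Over (Spec (CommRingCat.of k))] [IsProper (X ↘ (Spec (CommRingCat.of k)))]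
    (L : X.Modules) (hL : PicF.IsInvertible L) (hgen : Curv2.IsGloballyGenerated L)
    (hcurves : ∀ C : X.IdealSheafData, IsIntegral C.subscheme →
      topologicalKrullDim (C.support : Set X) = 1 →
        CohB1.IsAmple ((Scheme.Modules.pullback C.subschemeι).obj L)) :
    CohB1.IsAmple L := by
  have hN : IsNoetherian X := Inter.isNoetherian k
  refine Inter.isAmple_of_strictlyNef_effective k hL (fun y hy => ?_) fun ξ _ d hd => ?_
  · let i := (IntMult.ptIdeal y).subschemeι
    letI : (IntMult.ptIdeal y).subscheme.Over (Spec (CommRingCat.of k)) :=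
      ⟨i ≫ (X ↘ Spec (CommRingCat.of k))⟩
    have : IsProper ((IntMult.ptIdeal y).subscheme ↘ Spec (CommRingCat.of k)) :=
      inferInstanceAs (IsProper (i ≫ (X ↘ Spec (CommRingCat.of k))))
    have hint : IsIntegral (IntMult.ptIdeal y).subscheme := CohTwo.isIntegral_closure_subscheme rfl
    have hdim := (Inter.dim_ptIdeal_subscheme y).trans hy
    have hA := hcurves (IntMult.ptIdeal y) hint ((Inter.dim_support_ptIdeal y).trans hy)
    have hZN : IsNoetherian (IntMult.ptIdeal y).subscheme := Inter.isNoetherian k
    have e := Inter.delta_push k i rfl [L] (by simpa using hL) (Coh.structureModule _)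
    simp only [List.map_cons, List.map_nil] at e
    rw [show Cyc.closureStructureSheaf y = (Coh.push i).obj (Coh.structureModule _) from rfl, e]
    obtain ⟨M, -, hLM⟩ := PicAux.exists_isInverseOf hA.1
    have hO : Coh.IsCoh (Coh.structureModule (IntMult.ptIdeal y).subscheme) :=
      Inter.isCoh_of_isInvertible (EulerDeg.isInvertible_structureModule _)
    have hs : CohB1.support (Coh.structureModule (IntMult.ptIdeal y).subscheme) = Set.univ :=
      Set.eq_univ_of_forall fun x h => by
        have := (RefRank.oneEquiv x).toEquiv.nontrivial_congr.1 inferInstance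
        exact not_subsingleton _ h
    have hd : topologicalKrullDim (CohB1.support (Coh.structureModule (IntMult.ptIdeal y).subscheme)) =
        ((1 : ℕ) : WithBot ℕ∞) := by
      rw [hs, IsHomeomorph.topologicalKrullDim_eq _ (Homeomorph.Set.univ _).isHomeomorph, hdim]
    rw [Inter.delta_inverse_cons k hA.1 hLM (l := []) (by simp) hO hd.le]
    exact neg_lt_zero.2 (Inter.delta_pos k [M] (by simpa using ⟨_, hA, hLM⟩) _ hO hd)
  · let i := (IntMult.ptIdeal ξ).subschemeι
    have hgg : Curv2.IsGloballyGenerated (CohB1.tensorPow L 1) := by
      obtain ⟨J, p, hp⟩ := hgen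
      have hp' : @Epi X.Modules _ _ _ p := hp
      let e := (Inter.tensor_one L).some.symm
      exact ⟨J, p ≫ e.hom, @epi_comp X.Modules _ _ _ _ p hp' e.hom _⟩
    obtain ⟨s, hs⟩ := Inter.exists_section_pullback_of_gg (PicAux.isInvertible_tensorPow hL 1) hgg i
    refine ⟨0, (PicAux.pullback_tensorPow i L 1).some.hom.app ⊤ s, fun h => hs ?_⟩
    apply ((ConcreteCategory.isIso_iff_bijective
      ((PicAux.pullback_tensorPow i L 1).some.hom.app ⊤)).1 inferInstance).1
    rw [h, map_zero]

end Groth.Agent.S11369
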