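import Groth.Statements.S1137
import Groth.Agent.Pi1Lef.Apply

set_option backward.isDefEq.respectTransparency false
set_option backward.defeqAttrib.useBackward true
set_option linter.style.haveILetI false
-- import your own Groth.Agent.* helpers here

set_option autoImplicit false
universe u
open Pi1

namespace Groth.Agent.S1137

open AlgebraicGeometry CategoryTheory CategoryTheory.Limits in
/-- Let A be a Noetherian local ring, f an element of the maximal ideal with (A, (f)) a henselian pair,
and A' the adic completion of A. Let U and U₀ be the punctured spectra of A and of A/fA, and U', U'₀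
their base changes along Spec A' ⟶ Spec A. If restriction of finite etale covers from U' to U'₀ is
fully faithful, then restriction from U to U₀ is fully faithful. -/
theorem result (A : Type u) [CommRing A] [IsNoetherianRing A] [IsLocalRing A] (f : A) (hf : f ∈ IsLocalRing.maximalIdeal A) [HenselianRing A (Ideal.span {f})]
    (h : (FEt.restrict (pullback.fst (pullback.fst (FEt.puncturedSpec A).ι (Spec.map (CommRingCat.ofHom (algebraMap A (AdicCompletion (IsLocalRing.maximalIdeal A) A))))) (pullback.fst (FEt.puncturedSpec A).ι (Spec.map (CommRingCat.ofHom (Ideal.Quotient.mk (Ideal.span {f}))))))).Full ∧ (FEt.restrict (pullback.fst (pullback.fst (FEt.puncturedSpec A).ι (Spec.map (CommRingCat.ofHom (algebraMap A (AdicCompletion (IsLocalRing.maximalIdeal A) A))))) (pullback.fst (FEt.puncturedSpec A).ι (Spec.map (CommRingCat.ofHom (Ideal.Quotient.mk (Ideal.span {f}))))))).Faithful) :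
    (FEt.restrict (pullback.fst (FEt.puncturedSpec A).ι (Spec.map (CommRingCat.ofHom (Ideal.Quotient.mk (Ideal.span {f})))))).Full ∧ (FEt.restrict (pullback.fst (FEt.puncturedSpec A).ι (Spec.map (CommRingCat.ofHom (Ideal.Quotient.mk (Ideal.span {f})))))).Faithful := by
  obtain ⟨_, _⟩ := h
  refine Groth.Pi1Lef.fullyFaithful_of_completion fun {W} w _ _ => ?_
  let C := AdicCompletion (IsLocalRing.maximalIdeal A) A
  let σ := Spec.map (CommRingCat.ofHom (algebraMap A C))
  let pr := pullback.fst (FEt.puncturedSpec A).ι σ
  let u₀ := pullback.fst (FEt.puncturedSpec A).ι (Spec.map (CommRingCat.ofHom (Ideal.Quotient.mk (Ideal.span {f}))))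
  let f' := pullback.fst pr u₀
  let W' : FEt.Cat (pullback (FEt.puncturedSpec A).ι σ) :=
    MorphismProperty.Over.mk ⊤ (pullback.snd w pr)
      ⟨MorphismProperty.pullback_snd _ _ (inferInstance : IsFinite w),
        MorphismProperty.pullback_snd _ _ (inferInstance : Etale w)⟩
  have hb := Groth.Pi1Lef.clopenBij_of_fullyFaithful f' W'
  let e := pullbackRightPullbackFstIso (FEt.puncturedSpec A).ι σ w
  let he := Scheme.homeoOfIso e
  haveI : IsClosedImmersion (Spec.map (CommRingCat.ofHom (Ideal.Quotient.mk (Ideal.span {f})))) :=
    IsClosedImmersion.spec_of_surjective _ Ideal.Quotient.mk_surjective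
  haveI : IsClosedImmersion u₀ := MorphismProperty.pullback_fst _ _ inferInstance
  haveI : IsClosedImmersion f' := MorphismProperty.pullback_fst _ _ inferInstance
  haveI : IsClosedImmersion (pullback.fst (pullback.snd w pr) f') :=
    MorphismProperty.pullback_fst _ _ inferInstance
  refine ⟨_, inferInstance, he ∘ (pullback.fst (pullback.snd w pr) f').base,
    he.isEmbedding.comp (pullback.fst (pullback.snd w pr) f').isClosedEmbedding.isEmbedding, ?_,
    (Groth.HensPair.ClopenBij.comp_homeomorph he).2 hb⟩
  rw [Set.range_comp, Scheme.Pullback.range_fst]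
  ext y
  obtain ⟨x, rfl⟩ := he.surjective y
  rw [he.injective.mem_set_image]
  have h1 : (pullback.fst (w ≫ (FEt.puncturedSpec A).ι) σ) (he x) = pullback.fst w pr x :=
    congr($(pullbackRightPullbackFstIso_hom_fst (FEt.puncturedSpec A).ι σ w).base x)
  rw [Set.mem_preimage, Set.mem_preimage, h1, Scheme.Pullback.range_fst pr u₀, Set.mem_preimage,
    Scheme.Pullback.range_fst, Groth.Pi1Lef.range_mk_base]
  have h2 : pr (pullback.snd w pr x) = w (pullback.fst w pr x) :=
    congr($(pullback.condition (f := w) (g := pr)).base x).symm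
  change (FEt.puncturedSpec A).ι (pr (pullback.snd w pr x)) ∈ PrimeSpectrum.zeroLocus ({f} : Set A) ↔ _
  rw [h2]
  rfl

end Groth.Agent.S1137
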