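import Groth.Statements.S11370
import Groth.Agent.Inter.PushProper
import Groth.Agent.Inter.NakaiCoeff

set_option autoImplicit false
universe u
open CategoryTheory CategoryTheory.Limits AlgebraicGeometry TopologicalSpace
open Variety

namespace Groth.Agent.S11370

/-- Let X be proper over an algebraically closed field k and L an invertible O_X-module such that (L ·
C) = χ(O_C ⊗ L) - χ(O_C) ≥ 0 for every integral closed subscheme C ⊆ X of dimension one. Then for
every integral closed subscheme Z ⊆ X of dimension d > 0 the intersection number (L^d · Z) is ≥ 0;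
here (L^d · Z) is the coefficient of n_1⋯n_d in any rational polynomial P with χ(X, O_Z ⊗ L^{⊗n_1} ⊗
⋯ ⊗ L^{⊗n_d}) = P(n_1, …, n_d) for all exponents in ℕ^d. (The published statement is phrased for a
Cartier divisor D; it depends on D only through L = O_X(D), and the printed reduction to integral X
covers every invertible L.) -/
theorem result (k : Type u) [Field k] [IsAlgClosed k] (X : Scheme.{u})
    [X.Over (Spec (CommRingCat.of k))] [IsProper (X ↘ (Spec (CommRingCat.of k)))]
    (L : X.Modules) (hL : PicF.IsInvertible L)
    (hnef : ∀ C : X.IdealSheafData, IsIntegral C.subscheme →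
      topologicalKrullDim (C.support : Set X) = 1 → 0 ≤ (Curv2.euler k X (CohB1.tensorMod (ClSub.quotMod C) L) - Curv2.euler k X (ClSub.quotMod C)))
    (Z : X.IdealSheafData) [IsIntegral Z.subscheme] (d : ℕ) (hd : 0 < d)
    (hZ : topologicalKrullDim (Z.support : Set X) = d)
    (P : MvPolynomial (Fin d) ℚ)
    (hP : ∀ n : Fin d → ℕ, (Curv2.euler k X (Curv2.tensorPows (ClSub.quotMod Z) d (fun _ => L) n) : ℚ) =
      MvPolynomial.eval (fun i => (n i : ℚ)) P) :
    0 ≤ MvPolynomial.coeff (Finsupp.equivFunOnFinite.symm fun _ : Fin d => 1) P := by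
  have hN : IsNoetherian X := Inter.isNoetherian k
  obtain ⟨M, hM, hLM⟩ := PicAux.exists_isInverseOf hL
  obtain ⟨hc, hs⟩ := Inter.support_quotMod k Z
  have hdim : topologicalKrullDim (CohB1.support (ClSub.quotMod Z)) ≤ (d : ℕ) := by
    rw [hs]; exact hZ.le
  have h := Inter.delta_replicate_inverse k hL hLM hc d [] (by simp) (by simpa using hdim)
  simp only [List.append_nil] at h
  rw [Inter.coeff_eq_delta k hL hc hdim P hP, h]
  push_cast
  rw [← mul_assoc, ← mul_pow, neg_mul_neg, one_mul, one_pow, one_mul, Int.cast_nonneg_iff]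
  exact Inter.kleiman_proper k hL hLM (Inter.nonneg_of_forall k hL hLM hnef) d _ hc
    (by rwa [List.length_replicate])

end Groth.Agent.S11370
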