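import Groth.Statements.S11382
import Groth.Agent.NagComp.Goodman
import Groth.Agent.NagComp.AmpleLocus

set_option autoImplicit false
set_option linter.style.haveILetI false
universe u
open CategoryTheory CategoryTheory.Limits AlgebraicGeometry TopologicalSpace
open Variety

namespace Groth.Agent.S11382

/-- Let X be proper and integral over an algebraically closed field k and U ⊆ X an open subset with
closed complement Y. Then U is affine if and only if there exist a closed subscheme Z of X, defined
by a quasi-coherent ideal 𝓙 with support contained in Y, and a blowing-up f : X' ⟶ X of X in Z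
(characterised by its universal property; X' is again proper over k), such that f⁻¹(Y) is the
support of an effective Cartier divisor D on X' admitting an ample invertible module O_{X'}(D), i.e.
an ample tensor inverse of the ideal of D. -/
theorem result (k : Type u) [Field k] [IsAlgClosed k] (X : Scheme.{u})
    [X.Over (Spec (CommRingCat.of k))] [IsProper (X ↘ (Spec (CommRingCat.of k)))] [IsIntegral X]
    (U : X.Opens) :
    IsAffineOpen U ↔
      ∃ 𝓙 : X.IdealSheafData, (𝓙.support : Set X) ⊆ (U : Set X)ᶜ ∧
        ∃ (X' : Scheme.{u}) (f : X' ⟶ X), BlowUp.IsBlowUp f 𝓙 ∧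
          IsProper (f ≫ (X ↘ (Spec (CommRingCat.of k)))) ∧
          ∃ (D : X'.IdealSheafData) (L : X'.Modules), BlowUp.IsEffCartierIdeal D ∧
            (D.support : Set X') = (fun x => f x) ⁻¹' ((U : Set X)ᶜ) ∧
            ClSub.IsInverseOf L (ClSub.idealMod D) ∧ CohB1.IsAmple L := by
  constructor
  · intro hU
    rcases (U : Set X).eq_empty_or_nonempty with he | hne
    · obtain ⟨X', f, hf⟩ := Groth.BlowUpBasics.exists_isBlowUp X (⊥ : X.IdealSheafData)
      have hs : ((⊥ : X.IdealSheafData).support : Set X) = Set.univ := by simp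
      haveI : IsEmpty X' := Groth.HensPair.isEmpty_blowUp_of_support_eq_univ hf hs
      haveI : IsProper f := Groth.HTopHyper.isProper_of_isBlowUp hf
        fun V => by
          rw [Scheme.IdealSheafData.ideal_bot]
          exact Submodule.fg_bot
      have hD : BlowUp.IsEffCartierIdeal (⊥ : X'.IdealSheafData) := fun x => isEmptyElim x
      obtain ⟨L, -, hL, hinv, -⟩ := Groth.PicAux.exists_invertible_section hD
      refine ⟨⊥, fun x _ hxU => (Set.eq_empty_iff_forall_notMem.1 he x) hxU, X', f, hf, inferInstance,
        ⊥, L, hD, ?_, hinv, hL, ⟨by simp [Set.univ_eq_empty_iff.2 ‹IsEmpty X'›]⟩, fun x => isEmptyElim x⟩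
      ext x
      exact isEmptyElim x
    · obtain ⟨K, T, f, D, L, h1, h2, h3, h4, h5, h6, h7⟩ :=
        Groth.NagComp.Goodman.exists_ample_boundary (X ↘ Spec (CommRingCat.of k)) U hU hne
      exact ⟨K, h1, T, f, h2, h3, D, L, h4, h5, h6, h7⟩
  · rintro ⟨K, hK, X', f, hf, hp, D, L, hD, hDs, hinv, hA⟩
    obtain ⟨s, hs, -⟩ := Groth.PicAux.exists_section_zeroScheme_eq hD hinv
    have hg : Groth.PropsBasic.Ample.gloc (Groth.PicAux.gsec s) = f ⁻¹ᵁ U := by
      ext x
      rw [← Groth.PropsBasic.Ample.genLocus_eq_gloc, SetLike.mem_coe,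
        Groth.PicAux.mem_genLocus_iff_not_mem_support hA.1, hs, ← SetLike.mem_coe, hDs]
      exact not_not
    have ha : IsAffineOpen (f ⁻¹ᵁ U) := hg ▸
      Groth.NagComp.isAffineOpen_gloc_of_isAmple (f ≫ X ↘ Spec (CommRingCat.of k)) hA _
    haveI := Groth.BlowUpBasics.isIso_morphismRestrict hf U (Set.disjoint_left.mpr fun x hx => hK hx)
    haveI : IsAffine (f ⁻¹ᵁ U : Scheme.{u}) := ha
    exact IsAffine.of_isIso (inv (f ∣_ U))

end Groth.Agent.S11382
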