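import Groth.Statements.S17334
import Mathlib
-- import your own Groth.Agent.* helpers here

set_option autoImplicit false
universe u v
open CAlg

namespace Groth.Agent.S17334

/-- Let k be a field and A a nonzero commutative k-algebra which is finite-dimensional as a k-vector
space. Then A is indecomposable (no decomposition as a product of two nonzero rings, i.e. no
idempotent other than 0 and 1) if and only if A is a local ring. (In the source k is algebraically
closed and the lemma adds that the maximal ideal is then the nilradical, is nilpotent, and has
residue field k; the equivalence itself uses only that k is a field, and the zero algebra is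
excluded here explicitly.) -/
theorem result (k : Type u) [Field k]
    (A : Type v) [CommRing A] [Algebra k A] [Module.Finite k A] [Nontrivial A] :
    (∀ e : A, IsIdempotentElem e → e = 0 ∨ e = 1) ↔ IsLocalRing A := by
  have : IsArtinianRing A := IsArtinianRing.of_finite k A
  constructor
  · intro h
    refine IsLocalRing.of_isUnit_or_isUnit_one_sub_self fun a => ?_
    obtain ⟨n, y, hy⟩ := IsArtinian.exists_pow_succ_smul_dvd a (1 : A)
    simp only [smul_eq_mul, mul_one] at hy
    have hk : ∀ j : ℕ, a ^ (n + j) * y ^ j = a ^ n := by
      intro j
      induction j with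
      | zero => simp
      | succ j ih =>
        calc a ^ (n + (j + 1)) * y ^ (j + 1) = a ^ j * y ^ j * (a ^ n.succ * y) := by rw [Nat.succ_eq_add_one]; ring
          _ = a ^ j * y ^ j * a ^ n := by rw [hy]
          _ = a ^ (n + j) * y ^ j := by ring
          _ = a ^ n := ih
    have h2 : IsIdempotentElem (a ^ n * y ^ n) := by
      show a ^ n * y ^ n * (a ^ n * y ^ n) = _
      calc a ^ n * y ^ n * (a ^ n * y ^ n) = a ^ (n + n) * y ^ n * y ^ n := by ring
        _ = a ^ n * y ^ n := by rw [hk]
    rcases h _ h2 with h0 | h1
    · right
      refine IsNilpotent.isUnit_one_sub ⟨n, ?_⟩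
      calc a ^ n = a ^ (n + n) * y ^ n := (hk n).symm
        _ = a ^ n * (a ^ n * y ^ n) := by ring
        _ = 0 := by rw [h0, mul_zero]
    · rcases Nat.eq_zero_or_pos n with hn | hn
      · left
        subst hn
        simp only [Nat.succ_eq_add_one, zero_add, pow_one, pow_zero] at hy
        exact IsUnit.of_mul_eq_one y hy
      · left
        exact isUnit_of_dvd_one (h1 ▸ (dvd_pow_self a hn.ne').mul_right _)
  · intro hl e he
    have h0 : e * (1 - e) = 0 := by rw [mul_sub, mul_one, he.eq, sub_self]
    rcases IsLocalRing.isUnit_or_isUnit_one_sub_self e with hu | hu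
    · right
      exact (sub_eq_zero.1 (hu.mul_right_eq_zero.1 h0)).symm
    · left
      exact hu.mul_left_eq_zero.1 h0

end Groth.Agent.S17334
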