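import Groth.Statements.S11393
import Mathlib
import Groth.Agent.S17334

set_option autoImplicit false
universe u
open CategoryTheory CategoryTheory.Limits AlgebraicGeometry TopologicalSpace
open Variety

namespace Groth.Agent.S11393

/-- In a connected space every idempotent global section is trivial. -/
theorem eq_zero_or_eq_one_of_isIdempotentElem {Z : Scheme.{u}} [PreconnectedSpace Z] [Nonempty Z]
    (e : Γ(Z, ⊤)) (he : IsIdempotentElem e) : e = 0 ∨ e = 1 := by
  have h0 : e * (1 - e) = 0 := by rw [mul_sub, mul_one, he.eq, sub_self]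
  have hcov : ∀ z : Z, z ∈ Z.basicOpen e ∨ z ∈ Z.basicOpen (1 - e) := fun z => by
    rw [Scheme.mem_basicOpen Z e z (show z ∈ (⊤ : Z.Opens) from trivial),
      Scheme.mem_basicOpen Z (1 - e) z (show z ∈ (⊤ : Z.Opens) from trivial), map_sub, map_one]
    exact IsLocalRing.isUnit_or_isUnit_one_sub_self _
  have hdisj : ∀ z : Z, ¬ (z ∈ Z.basicOpen e ∧ z ∈ Z.basicOpen (1 - e)) := fun z hz => by
    have : z ∈ Z.basicOpen (e * (1 - e)) := by rw [Scheme.basicOpen_mul]; exact hz
    rw [h0] at this
    simp at this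
  have hclop : IsClopen (Z.basicOpen e : Set Z) := by
    refine ⟨?_, (Z.basicOpen e).isOpen⟩
    rw [show (Z.basicOpen e : Set Z) = (Z.basicOpen (1 - e) : Set Z)ᶜ from Set.ext fun z =>
      ⟨fun h h' => hdisj z ⟨h, h'⟩, fun h => (hcov z).resolve_right h⟩]
    exact (Z.basicOpen (1 - e)).isOpen.isClosed_compl
  have hu : ∀ s : Γ(Z, ⊤), (∀ z, z ∈ Z.basicOpen s) → IsUnit s := fun s hs =>
    Z.toRingedSpace.isUnit_of_isUnit_germ ⊤ s fun z hz => (Scheme.mem_basicOpen _ _ z hz).1 (hs z)
  rcases isClopen_iff.1 hclop with h | h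
  · left
    have h1 : IsUnit (1 - e) := hu _ fun z => (hcov z).resolve_left fun hz => by
      rw [← SetLike.mem_coe, h] at hz; exact hz
    exact (h1.mul_left_eq_zero).1 h0
  · right
    have h1 : IsUnit e := hu _ fun z => by rw [← SetLike.mem_coe, h]; trivial
    exact (sub_eq_zero.1 ((h1.mul_right_eq_zero).1 h0)).symm

/-- In an algebra integral over an algebraically closed field without nontrivial idempotents every
element is a scalar plus a nilpotent. -/
theorem exists_sub_isNilpotent (k A : Type u) [Field k] [IsAlgClosed k] [CommRing A] [Nontrivial A]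
    (φ : k →+* A) (hφ : φ.IsIntegral) (hA : ∀ e : A, IsIdempotentElem e → e = 0 ∨ e = 1) (a : A) :
    ∃ c : k, IsNilpotent (a - φ c) := by
  let := φ.toAlgebra
  let B := Algebra.adjoin k ({a} : Set A)
  have : Module.Finite k B := Module.Finite.iff_fg.2 (IsIntegral.fg_adjoin_singleton (hφ a))
  have : IsLocalRing B := (Groth.Agent.S17334.result k B).1 fun e he => by
    rcases hA e (by
      have h := congrArg (Subtype.val : B → A) he.eq
      exact h) with h | h
    · exact Or.inl (Subtype.ext h)
    · exact Or.inr (Subtype.ext h)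
  have : IsArtinianRing B := IsArtinianRing.of_finite k B
  have : Module.Finite k (IsLocalRing.ResidueField B) :=
    Module.Finite.of_surjective (IsScalarTower.toAlgHom k B (IsLocalRing.ResidueField B)).toLinearMap
      IsLocalRing.residue_surjective
  have : Algebra.IsAlgebraic k (IsLocalRing.ResidueField B) := Algebra.IsAlgebraic.of_finite k _
  let a' : B := ⟨a, Algebra.subset_adjoin rfl⟩
  obtain ⟨c, hc⟩ := (IsAlgClosed.algebraMap_bijective_of_isIntegral (k := k)
    (K := IsLocalRing.ResidueField B)).2 (IsLocalRing.residue B a')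
  refine ⟨c, ?_⟩
  have hm : a' - algebraMap k B c ∈ IsLocalRing.maximalIdeal B := by
    rw [← IsLocalRing.residue_eq_zero_iff, map_sub, sub_eq_zero, ← hc]
    rfl
  have hnil : IsNilpotent (a' - algebraMap k B c) := by
    obtain ⟨n, hn⟩ := IsArtinianRing.isNilpotent_jacobson_bot (R := B)
    rw [IsLocalRing.jacobson_eq_maximalIdeal ⊥ bot_ne_top] at hn
    exact ⟨n, by
      have := Ideal.pow_mem_pow hm n
      rwa [hn] at this⟩
  exact hnil.map (B.val : B →ₐ[k] A)

theorem section_val_one {J : Type} [Category.{0} J] (F : J ⥤ CommRingCat.{u}) (a b : ↑(limit F))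
    (h : ∀ j, (limit.π F j).hom a = (limit.π F j).hom b) : a = b :=
  Concrete.limit_ext F a b h

/-- An element of a limit of rings is a unit if all its components are. -/
theorem isUnit_of_forall {F : ℕᵒᵖ ⥤ CommRingCat.{u}} (a : ↑(limit F))
    (h : ∀ j, IsUnit ((limit.π F j).hom a)) : IsUnit a := by
  let b : ∀ j, F.obj j := fun j => ↑(h j).unit⁻¹
  have hb : b ∈ (F ⋙ forget CommRingCat).sections := by
    intro i j φ
    show (F.map φ).hom (b i) = b j
    have h1 : (F.map φ).hom ((limit.π F i).hom a) = (limit.π F j).hom a := by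
      rw [← RingHom.comp_apply, ← CommRingCat.hom_comp, limit.w]
    have h2 : (F.map φ).hom (b i) * (limit.π F j).hom a = 1 := by
      rw [← h1, ← map_mul, IsUnit.val_inv_mul, map_one]
    exact (h j).mul_right_cancel (h2.trans (IsUnit.val_inv_mul _).symm)
  let hl := isLimitOfPreserves (forget CommRingCat) (limit.isLimit F)
  let x : ↑(limit F) := (Types.isLimitEquivSections hl).symm ⟨b, hb⟩
  refine IsUnit.of_mul_eq_one x (section_val_one F _ _ fun j => ?_)
  have hx : (limit.π F j).hom x = b j := Types.isLimitEquivSections_symm_apply hl ⟨b, hb⟩ j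
  rw [map_mul, map_one, hx]
  exact IsUnit.mul_val_inv _

/-- Let X be proper over an algebraically closed field k and 𝓘 a quasi-coherent ideal whose closed
subscheme Y is connected (and nonempty); let Y_m be the closed subscheme of 𝓘^{m+1} and A = lim_m
Γ(Y_m, O_{Y_m}) the ring of formal-regular functions along Y (global sections of the structure sheaf
of the formal completion), formed as the limit in commutative rings along the restriction maps
Γ(Y_{m+1}, O) → Γ(Y_m, O). Then A is a local ring, and every element a of A differs from the image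
of some constant c ∈ k by an element whose image in each Γ(Y_m, O_{Y_m}) is nilpotent (so the
residue field of A is k through the structure map). (The published statement also asserts that A is
a complete local ring; that clause is not included here.) -/
theorem result (k : Type u) [Field k] [IsAlgClosed k] (X : Scheme.{u})
    [X.Over (Spec (CommRingCat.of k))] [IsProper (X ↘ (Spec (CommRingCat.of k)))]
    (𝓘 : X.IdealSheafData) (hY : _root_.IsConnected (𝓘.support : Set X)) :
    IsLocalRing ↑(limit (Functor.ofOpSequence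
        (X := fun m : ℕ => Γ((𝓘 ^ (m + 1)).subscheme, ⊤))
        (fun m : ℕ => (Scheme.IdealSheafData.inclusion (Lef.pow_succ_le 𝓘 m)).appTop))) ∧
      ∀ a : ↑(limit (Functor.ofOpSequence
        (X := fun m : ℕ => Γ((𝓘 ^ (m + 1)).subscheme, ⊤))
        (fun m : ℕ => (Scheme.IdealSheafData.inclusion (Lef.pow_succ_le 𝓘 m)).appTop))),
        ∃ c : k, ∀ m : ℕ, IsNilpotent (Sub.sub (α := ↑Γ((𝓘 ^ (m + 1)).subscheme, ⊤))
          ((limit.π (Functor.ofOpSequence
              (X := fun m : ℕ => Γ((𝓘 ^ (m + 1)).subscheme, ⊤))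
              (fun m : ℕ => (Scheme.IdealSheafData.inclusion (Lef.pow_succ_le 𝓘 m)).appTop)) (Opposite.op m)).hom a)
          (((𝓘 ^ (m + 1)).subschemeι ≫ (X ↘ Spec (CommRingCat.of k))).appTop.hom
            ((Scheme.ΓSpecIso (CommRingCat.of k)).inv.hom c))) := by
  set qX := X ↘ (Spec (CommRingCat.of k))
  have hne : ∀ m : ℕ, Nonempty (𝓘 ^ (m + 1)).subscheme := fun m => by
    obtain ⟨x, hx⟩ := hY.nonempty
    have : x ∈ Set.range (𝓘 ^ (m + 1)).subschemeι := by
      rw [Scheme.IdealSheafData.range_subschemeι, Scheme.IdealSheafData.support_pow_succ]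
      exact hx
    exact ⟨this.choose⟩
  have hpc : ∀ m : ℕ, PreconnectedSpace (𝓘 ^ (m + 1)).subscheme := fun m => by
    refine ⟨?_⟩
    rw [(𝓘 ^ (m + 1)).subschemeι.isEmbedding.isInducing.isPreconnected_image.symm, Set.image_univ,
      Scheme.IdealSheafData.range_subschemeι, Scheme.IdealSheafData.support_pow_succ]
    exact hY.isPreconnected
  let φ : ∀ m : ℕ, k →+* Γ((𝓘 ^ (m + 1)).subscheme, ⊤) := fun m =>
    ((𝓘 ^ (m + 1)).subschemeι ≫ qX).appTop.hom.comp (Scheme.ΓSpecIso (CommRingCat.of k)).inv.hom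
  have hnt : ∀ m : ℕ, Nontrivial Γ((𝓘 ^ (m + 1)).subscheme, ⊤) := fun m =>
    (((𝓘 ^ (m + 1)).subscheme).presheaf.germ ⊤ (hne m).some trivial).hom.domain_nontrivial
  have hint : ∀ m, (φ m).IsIntegral := fun m => by
    have : UniversallyClosed ((𝓘 ^ (m + 1)).subschemeι ≫ qX) := inferInstance
    exact RingHom.IsIntegral.trans _ _
      (RingHom.isIntegral_of_surjective _
        (Scheme.ΓSpecIso (CommRingCat.of k)).commRingCatIsoToRingEquiv.symm.surjective)
      (isIntegral_appTop_of_universallyClosed _)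
  set F := Functor.ofOpSequence (X := fun m : ℕ => Γ((𝓘 ^ (m + 1)).subscheme, ⊤))
    (fun m : ℕ => (Scheme.IdealSheafData.inclusion (Lef.pow_succ_le 𝓘 m)).appTop)
  let p : ∀ m : ℕ, ↑(limit F) →+* Γ((𝓘 ^ (m + 1)).subscheme, ⊤) := fun m => (limit.π F (Opposite.op m)).hom
  let t : ∀ m : ℕ, Γ((𝓘 ^ (m + 1 + 1)).subscheme, ⊤) →+* Γ((𝓘 ^ (m + 1)).subscheme, ⊤) :=
    fun m => (Scheme.IdealSheafData.inclusion (Lef.pow_succ_le 𝓘 m)).appTop.hom
  have hp : ∀ m a, t m (p (m + 1) a) = p m a := fun m a => by
    have h := limit.w F (homOfLE (Nat.le_add_right m 1)).op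
    rw [Functor.ofOpSequence_map_homOfLE_succ] at h
    exact congrArg (fun f => f.hom a) h
  have hφ : ∀ m c, t m (φ (m + 1) c) = φ m c := fun m c => by
    show ((((𝓘 ^ (m + 1 + 1)).subschemeι ≫ qX).appTop) ≫
      (Scheme.IdealSheafData.inclusion (Lef.pow_succ_le 𝓘 m)).appTop).hom _ = _
    rw [← Scheme.Hom.comp_appTop, Scheme.IdealSheafData.inclusion_subschemeι_assoc]
    rfl
  have huniq : ∀ m (a : Γ((𝓘 ^ (m + 1)).subscheme, ⊤)) (c c' : k),
      IsNilpotent (a - φ m c) → IsNilpotent (a - φ m c') → c = c' := by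
    intro m a c c' h h'
    have := hnt m
    by_contra hcc
    have h1 : IsNilpotent (φ m (c' - c)) := by
      rw [map_sub, show φ m c' - φ m c = (a - φ m c) - (a - φ m c') by ring]
      exact (Commute.all _ _).isNilpotent_sub h h'
    exact h1.not_isUnit ((isUnit_iff_ne_zero.2 (sub_ne_zero.2 (Ne.symm hcc))).map (φ m))
  have key : ∀ a : ↑(limit F), ∃ c : k, ∀ m, IsNilpotent (p m a - φ m c) := by
    intro a
    have hex : ∀ m, ∃ c : k, IsNilpotent (p m a - φ m c) := fun m =>
      @exists_sub_isNilpotent k _ _ _ _ (hnt m) (φ m) (hint m)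
        (fun e he => @eq_zero_or_eq_one_of_isIdempotentElem _ (hpc m) (hne m) e he) (p m a)
    choose c hc using hex
    refine ⟨c 0, fun m => ?_⟩
    suffices h : c m = c 0 by rw [← h]; exact hc m
    induction m with
    | zero => rfl
    | succ m ih =>
      rw [← ih]
      refine huniq m (p m a) _ _ ?_ (hc m)
      have h := (hc (m + 1)).map (t m)
      rwa [map_sub, hp, hφ] at h
  have hnt' : Nontrivial ↑(limit F) := by
    have := hnt 0
    exact (p 0).domain_nontrivial
  have hunit : ∀ (a : ↑(limit F)) (c : k), c ≠ 0 → (∀ m, IsNilpotent (p m a - φ m c)) → IsUnit a := by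
    intro a c hc h
    refine isUnit_of_forall a fun j => ?_
    obtain ⟨m⟩ := j
    show IsUnit (p m a)
    rw [show p m a = φ m c + (p m a - φ m c) by ring]
    exact (h m).isUnit_add_left_of_commute ((isUnit_iff_ne_zero.2 hc).map (φ m)) (Commute.all _ _)
  refine ⟨IsLocalRing.of_isUnit_or_isUnit_one_sub_self fun a => ?_, key⟩
  obtain ⟨c, hc⟩ := key a
  by_cases h0 : c = 0
  · refine Or.inr (hunit (1 - a) (1 - c) (by simp [h0]) fun m => ?_)
    rw [map_sub, map_sub, map_one, map_one, show (1 - p m a) - (1 - φ m c) = -(p m a - φ m c) by ring]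
    exact (hc m).neg
  · exact Or.inl (hunit a c h0 hc)

end Groth.Agent.S11393
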