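import Groth.Statements.S11394
import Groth.Agent.AlgGrp1.Blanchard
import Groth.Agent.AlgGrp1.Points
import Groth.Agent.HensPair.SteinNormalization
import Groth.Agent.CohFin.ProjFinite
-- import your own Groth.Agent.* helpers here

set_option autoImplicit false
universe u
open CategoryTheory MonoidalCategory CartesianMonoidalCategory MonObj GrpObj AlgebraicGeometry CategoryTheory.Limits
open AlgGrp

namespace Groth.Agent.S11394

section Helpers

open CategoryTheory Limits MonoidalCategory CartesianMonoidalCategory MonObj AlgebraicGeometry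
  TopologicalSpace Groth.AlgGrp1

/-- A proper morphism with `O_Y = f_* O_X` has connected fibres. -/
theorem isPreconnected_fibre {X Y : Scheme.{u}} (f : X ⟶ Y) [IsProper f]
    (hf : ∀ U : Y.Opens, IsIso (f.app U)) (y : Y) : _root_.IsPreconnected (f.base ⁻¹' {y}) := by
  have hgc := Groth.HensPair.geometricallyConnected_toNormalization f Groth.CohFin.projFinite
  have happ := Groth.HensPair.isIso_toNormalization_app f
  have hn : ∀ U : Y.Opens, IsIso (f.fromNormalization.app U) := by
    intro U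
    have e : f.fromNormalization.app U ≫ f.toNormalization.app (f.fromNormalization ⁻¹ᵁ U) =
        (f.toNormalization ≫ f.fromNormalization).app U := (Scheme.Hom.comp_app _ _ U).symm
    have h2 : IsIso ((f.toNormalization ≫ f.fromNormalization).app U) := by
      have aux : ∀ g : X ⟶ Y, g = f → IsIso (g.app U) := by rintro g rfl; exact hf U
      exact aux _ f.toNormalization_fromNormalization
    rw [← e] at h2
    have := happ (f.fromNormalization ⁻¹ᵁ U)
    exact @IsIso.of_isIso_comp_right _ _ _ _ _ (f.fromNormalization.app U) (f.toNormalization.app (f.fromNormalization ⁻¹ᵁ U)) (happ _) h2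
  have : IsIso f.fromNormalization := by
    rw [← MorphismProperty.isomorphisms.iff]
    refine (HasAffineProperty.iff_of_iSup_eq_top (P := MorphismProperty.isomorphisms Scheme) _
      (iSup_affineOpens_eq_top Y)).mpr fun U => ?_
    have : IsAffine (f.fromNormalization ⁻¹ᵁ U.1).toScheme := (U.2.preimage f.fromNormalization)
    refine ⟨inferInstance, ?_⟩
    rw [morphismRestrict_appTop]
    exact @IsIso.comp_isIso _ _ _ _ _ _ _ (hn _) (Functor.map_isIso _ _)
  have : f.base ⁻¹' {y} = f.toNormalization.base ⁻¹' {(inv f.fromNormalization).base y} := by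
    ext x
    have e : f.base x = f.fromNormalization.base (f.toNormalization.base x) :=
      (congr(($(f.toNormalization_fromNormalization)).base x)).symm
    simp only [Set.mem_preimage, Set.mem_singleton_iff, e]
    constructor
    · rintro rfl
      exact (congr(($(IsIso.hom_inv_id f.fromNormalization)).base (f.toNormalization.base x))).symm
    · intro h
      rw [h]
      exact congr(($(IsIso.inv_hom_id f.fromNormalization)).base y)
  rw [this]
  exact (f.toNormalization.isConnected_preimage_singleton _).isPreconnected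

/-- Two morphisms from a local scheme into a common affine open agree as soon as they agree after
jointly injective changes of rings. -/
theorem eq_of_local {R : CommRingCat.{u}} [IsLocalRing R] {Y : Scheme.{u}} {V : Y.Opens}
    (hV : IsAffineOpen V) (g₁ g₂ : Spec R ⟶ Y) (h₁ : g₁.base (IsLocalRing.closedPoint R) ∈ V)
    (h₂ : g₂.base (IsLocalRing.closedPoint R) ∈ V) {I : Type*} {R' : I → CommRingCat.{u}}
    (φ : ∀ i, R ⟶ R' i) (hφ : ∀ r, (∀ i, (φ i).hom r = 0) → r = 0)
    (h : ∀ i, Spec.map (φ i) ≫ g₁ = Spec.map (φ i) ≫ g₂) : g₁ = g₂ := by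
  have hr : ∀ (g : Spec R ⟶ Y), g.base (IsLocalRing.closedPoint R) ∈ V →
      Set.range g.base ⊆ Set.range V.ι.base := by
    rintro g hg _ ⟨p, rfl⟩
    rw [Scheme.Opens.range_ι]
    exact ((IsLocalRing.specializes_closedPoint p).map g.continuous).mem_open V.2 hg
  have : IsAffine V.toScheme := hV
  rw [← IsOpenImmersion.lift_fac V.ι g₁ (hr g₁ h₁), ← IsOpenImmersion.lift_fac V.ι g₂ (hr g₂ h₂)]
  congr 1
  apply ext_of_isAffine
  ext s
  refine (ConcreteCategory.bijective_of_isIso (Scheme.ΓSpecIso R).hom).1 ?_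
  rw [← sub_eq_zero]
  refine hφ _ fun i => ?_
  rw [map_sub, sub_eq_zero]
  have e : Spec.map (φ i) ≫ IsOpenImmersion.lift V.ι g₁ (hr g₁ h₁) =
      Spec.map (φ i) ≫ IsOpenImmersion.lift V.ι g₂ (hr g₂ h₂) := by
    rw [← cancel_mono V.ι]
    simpa using h i
  have nat : ∀ z, (φ i).hom ((Scheme.ΓSpecIso R).hom.hom z) =
      (Scheme.ΓSpecIso (R' i)).hom.hom ((Spec.map (φ i)).appTop.hom z) := fun z =>
    (congr($(Scheme.ΓSpecIso_naturality (φ i)).hom z)).symm
  rw [nat, nat]
  exact congrArg (Scheme.ΓSpecIso (R' i)).hom.hom congr(($e).appTop.hom s)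

variable {k : Type u} [Field k] {G X Y : Over (Spec (CommRingCat.of k))}
  {f : X ⟶ Y} [IsProper f.left] [GrpObj G] [LocallyOfFiniteType G.hom]

/-- Near the unit, translates of two points in one fibre have the same image. -/
theorem eq_at_unit (hf : ∀ U : Y.left.Opens, IsAffineOpen U → IsIso (f.left.app U))
    (q : G ⊗ X ⟶ Y) (he : (η[G] ▷ X) ≫ q = snd _ X ≫ f)
    (x₁ x₂ : 𝟙_ (Over (Spec (CommRingCat.of k))) ⟶ X) (hx : x₁ ≫ f = x₂ ≫ f) :
    G.left.fromSpecStalk (η[G].left.base (IsLocalRing.closedPoint k)) ≫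
        (lift (𝟙 G) (toUnit G ≫ x₁) ≫ q).left =
      G.left.fromSpecStalk (η[G].left.base (IsLocalRing.closedPoint k)) ≫
        (lift (𝟙 G) (toUnit G ≫ x₂) ≫ q).left := by
  have := isLocallyNoetherian_left G
  let x₀ := η[G].left.base (IsLocalRing.closedPoint k)
  let R := G.left.presheaf.stalk x₀
  obtain ⟨instR, t, ht⟩ := exists_algebra (X := G) (G.left.fromSpecStalk x₀)
  let ρ : R ⟶ CommRingCat.of k := Scheme.stalkClosedPointTo η[G].left
  have hρ : Spec.map ρ ≫ G.left.fromSpecStalk x₀ = η[G].left :=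
    Scheme.Spec_stalkClosedPointTo_fromSpecStalk η[G].left
  have : IsLocalHom ρ.hom := by
    show IsLocalHom (Scheme.stalkClosedPointTo η[G].left).hom
    infer_instance
  have hker : ∀ r ∈ IsLocalRing.maximalIdeal R, ρ.hom r = 0 := by
    intro r hr
    by_contra h
    exact hr (isUnit_of_map_unit ρ.hom r (isUnit_iff_ne_zero.2 h))
  have hpt : ∀ x : 𝟙_ (Over (Spec (CommRingCat.of k))) ⟶ X,
      η[G] ≫ lift (𝟙 G) (toUnit G ≫ x) ≫ q = x ≫ f := by
    intro x
    have e : η[G] ≫ lift (𝟙 G) (toUnit G ≫ x) = lift (𝟙 _) x ≫ (η[G] ▷ X) := by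
      apply CartesianMonoidalCategory.hom_ext <;> simp
    rw [reassoc_of% e, he, lift_snd_assoc]
  obtain ⟨_, ⟨V, hV, rfl⟩, hyV, -⟩ := Y.left.isBasis_affineOpens.exists_subset_of_mem_open
    (Set.mem_univ ((x₁ ≫ f).left.base (IsLocalRing.closedPoint k))) isOpen_univ
  have hc : (G.left.fromSpecStalk x₀).base (IsLocalRing.closedPoint R) = x₀ :=
    G.left.fromSpecStalk_closedPoint
  refine eq_of_local hV _ _ ?_ ?_
    (fun n : ℕ => CommRingCat.ofHom (Ideal.Quotient.mk (IsLocalRing.maximalIdeal R ^ (n + 1))))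
    (fun r hr => ?_) fun n => ?_
  · show (lift (𝟙 G) (toUnit G ≫ x₁) ≫ q).left.base ((G.left.fromSpecStalk x₀).base _) ∈ V
    rw [hc]
    show (η[G] ≫ lift (𝟙 G) (toUnit G ≫ x₁) ≫ q).left.base _ ∈ V
    rw [hpt]
    exact hyV
  · show (lift (𝟙 G) (toUnit G ≫ x₂) ≫ q).left.base ((G.left.fromSpecStalk x₀).base _) ∈ V
    rw [hc]
    show (η[G] ≫ lift (𝟙 G) (toUnit G ≫ x₂) ≫ q).left.base _ ∈ V
    rw [hpt, ← hx]
    exact hyV
  · have h : r ∈ (⨅ i : ℕ, IsLocalRing.maximalIdeal R ^ i : Ideal R) := by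
      rw [Ideal.mem_iInf]
      intro i
      exact Ideal.pow_le_pow_right (Nat.le_succ i) (Ideal.Quotient.eq_zero_iff_mem.1 (hr i))
    rw [Ideal.iInf_pow_eq_bot_of_isLocalRing _ (IsLocalRing.maximalIdeal.isMaximal R).ne_top] at h
    exact h
  · let I := IsLocalRing.maximalIdeal R ^ (n + 1)
    let jr : R ⧸ I →+* k := Ideal.Quotient.lift I ρ.hom
      (fun r hr => hker r (Ideal.pow_le_self (Nat.succ_ne_zero n) hr))
    let tn := specAlgMap (Ideal.Quotient.mkₐ k I) ≫ t
    have hjr : Spec.map (CommRingCat.ofHom jr) ≫ tn.left = η[G].left := by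
      show Spec.map (CommRingCat.ofHom jr) ≫ Spec.map _ ≫ t.left = _
      rw [ht, ← hρ, ← Category.assoc, ← Spec.map_comp]
      rfl
    let j : 𝟙_ (Over (Spec (CommRingCat.of k))) ⟶ specAlg k (R ⧸ I) :=
      Over.homMk (Spec.map (CommRingCat.ofHom jr)) (by
        have := Over.w η[G]
        rw [← hjr, Category.assoc, Over.w tn] at this
        exact this)
    have hsurj : Surjective j.left := by
      refine ⟨fun P' => ⟨IsLocalRing.closedPoint k, ?_⟩⟩
      have aux : ∀ Q : PrimeSpectrum (R ⧸ I),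
          Q.asIdeal.comap (Ideal.Quotient.mk I) = IsLocalRing.maximalIdeal R := by
        intro Q
        refine ((IsLocalRing.maximalIdeal.isMaximal R).eq_of_le (Ideal.IsPrime.comap _).ne_top ?_).symm
        intro r hr
        refine Ideal.IsPrime.mem_of_pow_mem inferInstance (n + 1) ?_
        rw [Ideal.mem_comap, Ideal.Quotient.eq_zero_iff_mem.2 (Ideal.pow_mem_pow hr _)]
        exact Ideal.zero_mem _
      refine PrimeSpectrum.ext (Ideal.comap_injective_of_surjective _ Ideal.Quotient.mk_surjective ?_)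
      exact (aux _).trans (aux _).symm
    obtain ⟨b, hb⟩ := exists_desc_infinitesimal hf j tn η[G] (Over.OverMorphism.ext hjr) q he
    have fac : ∀ x : 𝟙_ (Over (Spec (CommRingCat.of k))) ⟶ X,
        tn ≫ lift (𝟙 G) (toUnit G ≫ x) ≫ q =
          lift (𝟙 _) (toUnit _ ≫ x ≫ f) ≫ b := by
      intro x
      have e : tn ≫ lift (𝟙 G) (toUnit G ≫ x) = lift (𝟙 _) (toUnit _ ≫ x) ≫ (tn ▷ X) := by
        apply CartesianMonoidalCategory.hom_ext <;> simp
      rw [reassoc_of% e, ← hb, lift_whiskerLeft_assoc, Category.assoc]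
    have e := (fac x₁).trans ((by rw [hx]) : _ = _) |>.trans (fac x₂).symm
    have e' := congr(($e).left)
    simp only [Over.comp_left, tn, ht, Category.assoc] at e'
    exact e'

/-- A rational point over a closed point. -/
theorem exists_point [IsAlgClosed k] {Z : Over (Spec (CommRingCat.of k))} [LocallyOfFiniteType Z.hom]
    (z : Z.left) (hz : z ∈ closedPoints Z.left) :
    ∃ s : 𝟙_ (Over (Spec (CommRingCat.of k))) ⟶ Z, s.left.base (IsLocalRing.closedPoint k) = z := by
  obtain ⟨s, hs⟩ := exists_point_over_closed k Z z hz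
  refine ⟨Over.homMk (show Spec (CommRingCat.of k) ⟶ Z.left from s.left) ?_, hs⟩
  exact (Over.w s).trans (Spec.map_id _)

/-- A rational point is closed. -/
theorem isClosed_point {Z : Over (Spec (CommRingCat.of k))} [LocallyOfFiniteType Z.hom]
    (s : 𝟙_ (Over (Spec (CommRingCat.of k))) ⟶ Z) :
    s.left.base (IsLocalRing.closedPoint k) ∈ closedPoints Z.left := by
  have : JacobsonSpace (Spec (CommRingCat.of k)) :=
    LocallyOfFiniteType.jacobsonSpace (𝟙 (Spec (CommRingCat.of k)))
  have : LocallyOfFiniteType (s.left ≫ Z.hom) := by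
    rw [Over.w s]; exact inferInstanceAs (LocallyOfFiniteType (𝟙 _))
  have : LocallyOfFiniteType s.left := locallyOfFiniteType_of_comp _ Z.hom
  have := LocallyOfFiniteType.jacobsonSpace Z.hom
  exact s.left.closePoints_subset_preimage_closedPoints (IsLocalRing.isClosed_singleton_closedPoint k)

/-- Translates of two rational points in one fibre have the same image. -/
theorem base_eq_of_points [IsAlgClosed k] [QuasiCompact G.hom] [ConnectedSpace G.left]
    [LocallyOfFiniteType X.hom] [LocallyOfFiniteType Y.hom] [QuasiCompact Y.hom]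
    (hf : ∀ U : Y.left.Opens, IsIso (f.left.app U))
    (q : G ⊗ X ⟶ Y) (he : (η[G] ▷ X) ≫ q = snd _ X ≫ f)
    (g : 𝟙_ (Over (Spec (CommRingCat.of k))) ⟶ G)
    (x₁ x₂ : 𝟙_ (Over (Spec (CommRingCat.of k))) ⟶ X) (hx : x₁ ≫ f = x₂ ≫ f) :
    (lift g x₁ ≫ q).left.base (IsLocalRing.closedPoint k) =
      (lift g x₂ ≫ q).left.base (IsLocalRing.closedPoint k) := by
  have := isLocallyNoetherian_left G
  have := irreducibleSpace_of_connected G
  let e₀ := η[G].left.base (IsLocalRing.closedPoint k)
  let g₀ := g.left.base (IsLocalRing.closedPoint k)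
  let ξ := genericPoint G.left
  have hξ : ∀ z : G.left, ξ ⤳ z := fun z => (genericPoint_spec G.left).specializes (Set.mem_univ z)
  let ψ : G.left.presheaf.stalk g₀ ⟶ G.left.residueField ξ :=
    G.left.presheaf.stalkSpecializes (hξ g₀) ≫ G.left.residue ξ
  obtain ⟨A, hA, hAloc⟩ := IsLocalRing.exists_factor_valuationRing ψ.hom
  let φ : G.left.presheaf.stalk g₀ ⟶ CommRingCat.of A :=
    CommRingCat.ofHom (ψ.hom.codRestrict A.toSubring hA)
  have : IsLocalHom φ.hom := hAloc
  let v : Spec (CommRingCat.of A) ⟶ G.left := Spec.map φ ≫ G.left.fromSpecStalk g₀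
  have hv : v.base (IsLocalRing.closedPoint A) = g₀ := by
    show (G.left.fromSpecStalk g₀).base ((Spec.map φ).base _) = _
    rw [show (Spec.map φ).base (IsLocalRing.closedPoint A) =
      IsLocalRing.closedPoint (G.left.presheaf.stalk g₀) from IsLocalRing.comap_closedPoint φ.hom]
    exact G.left.fromSpecStalk_closedPoint
  let jA : CommRingCat.of A ⟶ G.left.residueField ξ := CommRingCat.ofHom A.subtype
  let h : (𝟙_ (Over (Spec (CommRingCat.of k))) ⟶ X) → (G ⟶ Y) := fun x =>
    lift (𝟙 G) (toUnit G ≫ x) ≫ q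
  have hgen : ∀ x x', x ≫ f = x' ≫ f →
      Spec.map jA ≫ v ≫ (h x).left = Spec.map jA ≫ v ≫ (h x').left := by
    intro x x' hxx
    have e : Spec.map jA ≫ v = Spec.map (G.left.residue ξ) ≫
        Spec.map (G.left.presheaf.stalkSpecializes (hξ e₀)) ≫ G.left.fromSpecStalk e₀ := by
      have : φ ≫ jA = ψ := rfl
      show Spec.map jA ≫ Spec.map φ ≫ _ = _
      rw [← Category.assoc, ← Spec.map_comp, this, Spec.map_comp, Category.assoc,
        Scheme.SpecMap_stalkSpecializes_fromSpecStalk, Scheme.SpecMap_stalkSpecializes_fromSpecStalk]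
    have aux : ∀ z, Spec.map jA ≫ v ≫ (h z).left = Spec.map (G.left.residue ξ) ≫
        Spec.map (G.left.presheaf.stalkSpecializes (hξ e₀)) ≫ G.left.fromSpecStalk e₀ ≫ (h z).left :=
      fun z => (Category.assoc _ _ _).symm.trans ((congrArg (· ≫ (h z).left) e).trans (by simp only [Category.assoc]))
    rw [aux, aux]
    exact congrArg (fun w => Spec.map (G.left.residue ξ) ≫
      Spec.map (G.left.presheaf.stalkSpecializes (hξ e₀)) ≫ w) (eq_at_unit (fun U _ => hf U) q he x x' hxx)
  -- the possible limits are finitely many closed points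
  let Fib := f.left.base ⁻¹' {(x₁ ≫ f).left.base (IsLocalRing.closedPoint k)}
  let φX : X ⟶ Y := lift (toUnit X ≫ g) (𝟙 X) ≫ q
  have hφX : ∀ x : 𝟙_ (Over (Spec (CommRingCat.of k))) ⟶ X,
      φX.left.base (x.left.base (IsLocalRing.closedPoint k)) = (v ≫ (h x).left).base (IsLocalRing.closedPoint A) := by
    intro x
    have e₁ : x ≫ φX = g ≫ h x := by
      simp [φX, h, comp_lift_assoc]
    have e₂ := congr(($e₁).left.base (IsLocalRing.closedPoint k))
    show _ = (h x).left.base (v.base _)
    rw [hv]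
    exact e₂
  let S : Set Y.left := {p | ∃ x : 𝟙_ (Over (Spec (CommRingCat.of k))) ⟶ X,
    x ≫ f = x₁ ≫ f ∧ (lift g x ≫ q).left.base (IsLocalRing.closedPoint k) = p}
  have hS' : ∀ x : 𝟙_ (Over (Spec (CommRingCat.of k))) ⟶ X,
      φX.left.base (x.left.base (IsLocalRing.closedPoint k)) = (lift g x ≫ q).left.base (IsLocalRing.closedPoint k) := by
    intro x
    have e₁ : x ≫ φX = lift g x ≫ q := by simp [φX, comp_lift_assoc]
    exact congr(($e₁).left.base (IsLocalRing.closedPoint k))
  have hfin : S.Finite := by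
    have : CompactSpace Y.left := QuasiCompact.compactSpace_of_compactSpace Y.hom
    let 𝒰 := Y.left.affineCover.finiteSubcover
    refine Set.Finite.subset (Set.finite_iUnion
      (f := fun i => S ∩ Set.range (𝒰.f i).base) fun i => Set.Subsingleton.finite ?_) fun p hp =>
        Set.mem_iUnion.2 ⟨𝒰.idx p, hp, 𝒰.covers p⟩
    rintro _ ⟨⟨x, hxf, rfl⟩, hi⟩ _ ⟨⟨x', hxf', rfl⟩, hi'⟩
    rw [← hS', hφX] at hi hi' ⊢
    rw [← hS', hφX]
    have : IsAffine (𝒰.X i) := inferInstanceAs (IsAffine (Y.left.affineCover.X _))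
    have hgg := eq_of_local (isAffineOpen_opensRange (𝒰.f i)) (v ≫ (h x).left) (v ≫ (h x').left)
      hi hi' (fun _ : PUnit.{1} => jA) (fun r hr => Subtype.ext (hr ⟨⟩)) fun _ =>
        hgen x x' (hxf.trans hxf'.symm)
    rw [hgg]
  have hclosed : ∀ s ⊆ S, IsClosed s := by
    intro s hs
    rw [← Set.biUnion_of_singleton s]
    refine (hfin.subset hs).isClosed_biUnion fun p hp => ?_
    obtain ⟨x, -, rfl⟩ := hs hp
    exact isClosed_point (lift g x ≫ q)
  have hFib : IsClosed Fib :=
    (isClosed_point (x₁ ≫ f) : IsClosed _).preimage f.left.continuous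
  have hsub : Fib ⊆ φX.left.base ⁻¹' S := by
    have := LocallyOfFiniteType.jacobsonSpace X.hom
    refine subset_trans subset_closure (?_ : closure Fib ⊆ _)
    rw [← JacobsonSpace.closure_inter_closedPoints_eq_closure hFib.isLocallyClosed]
    refine closure_minimal ?_ ((hclosed S subset_rfl).preimage φX.left.continuous)
    intro z ⟨hzF, hz⟩
    obtain ⟨x, rfl⟩ := exists_point z hz
    refine ⟨x, ?_, (hS' x).symm⟩
    exact Over.OverMorphism.ext (ext_of_apply_closedPoint_eq Y.hom (Over.w (x ≫ f)) (Over.w (x₁ ≫ f)) hzF)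
  obtain ⟨h₁, h₂⟩ : x₁.left.base (IsLocalRing.closedPoint k) ∈ Fib ∧
      x₂.left.base (IsLocalRing.closedPoint k) ∈ Fib :=
    ⟨rfl, congr(($(hx.symm)).left.base (IsLocalRing.closedPoint k))⟩
  rw [← hS', ← hS']
  by_contra hne
  obtain ⟨z, hzF, hz1, hz2⟩ := isPreconnected_closed_iff.1
    ((isPreconnected_fibre f.left hf _).image φX.left.base φX.left.continuous.continuousOn)
    {φX.left.base (x₁.left.base (IsLocalRing.closedPoint k))}
    (S \ {φX.left.base (x₁.left.base (IsLocalRing.closedPoint k))})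
    (hclosed _ (Set.singleton_subset_iff.2 (hsub h₁))) (hclosed _ Set.diff_subset)
    (by
      rintro _ ⟨z, hz, rfl⟩
      by_cases hh : φX.left.base z = φX.left.base (x₁.left.base (IsLocalRing.closedPoint k))
      · exact Or.inl hh
      · exact Or.inr ⟨hsub hz, hh⟩)
    ⟨_, ⟨_, h₁, rfl⟩, rfl⟩ ⟨_, ⟨_, h₂, rfl⟩, hsub h₂, fun hh => hne hh.symm⟩
  exact hz2.2 hz1

/-- Blanchard's lemma, the target being only of finite type. -/
theorem blanchard [IsAlgClosed k] [QuasiCompact G.hom] [ConnectedSpace G.left]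
    [LocallyOfFiniteType X.hom] [LocallyOfFiniteType Y.hom] [QuasiCompact Y.hom]
    (hf : ∀ U : Y.left.Opens, IsIso (f.left.app U)) (a : AlgGrp.Action G X) :
    ∃! b : AlgGrp.Action G Y, (G ◁ f) ≫ b.act = a.act ≫ f := by
  have hf' : ∀ U : Y.left.Opens, IsAffineOpen U → IsIso (f.left.app U) := fun U _ => hf U
  have he : (η[G] ▷ X) ≫ a.act ≫ f = snd _ X ≫ f := by
    rw [← Category.assoc, a.one_act, leftUnitor_hom]
  obtain ⟨b, hb⟩ := exists_desc_whiskerLeft hf' G (a.act ≫ f) (fun z z' hz => by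
    let Q : Over (Spec (CommRingCat.of k)) :=
      Over.mk (pullback.fst (G ◁ f).left (G ◁ f).left ≫ (G ⊗ X).hom)
    let u₁ : Q ⟶ G ⊗ X := Over.homMk (pullback.fst (G ◁ f).left (G ◁ f).left) rfl
    let u₂ : Q ⟶ G ⊗ X := Over.homMk (pullback.snd (G ◁ f).left (G ◁ f).left) (by
      show pullback.snd _ _ ≫ (G ⊗ X).hom = pullback.fst _ _ ≫ (G ⊗ X).hom
      rw [← Over.w (G ◁ f), pullback.condition_assoc])
    have hu : u₁ ≫ (G ◁ f) = u₂ ≫ (G ◁ f) := Over.OverMorphism.ext pullback.condition
    have : LocallyOfFiniteType (G ⊗ X).hom :=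
      inferInstanceAs (LocallyOfFiniteType (pullback.fst G.hom X.hom ≫ G.hom))
    have : IsProper (G ◁ f).left :=
      MorphismProperty.of_isPullback (isPullback_whiskerLeft G f) ‹IsProper f.left›
    have : LocallyOfFiniteType Q.hom :=
      inferInstanceAs (LocallyOfFiniteType (pullback.fst (G ◁ f).left (G ◁ f).left ≫ (G ⊗ X).hom))
    have hcl : ∀ c ∈ closedPoints Q.left,
        (u₁ ≫ a.act ≫ f).left.base c = (u₂ ≫ a.act ≫ f).left.base c := by
      intro c hc
      obtain ⟨r, rfl⟩ := exists_point c hc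
      have hg : r ≫ u₂ ≫ fst G X = r ≫ u₁ ≫ fst G X := by
        have := congrArg (fun w => r ≫ w ≫ fst G Y) hu
        simpa using this.symm
      have hxx : (r ≫ u₁ ≫ snd G X) ≫ f = (r ≫ u₂ ≫ snd G X) ≫ f := by
        have := congrArg (fun w => r ≫ w ≫ snd G Y) hu
        simpa using this
      have key := base_eq_of_points hf (a.act ≫ f) he (r ≫ u₁ ≫ fst G X) _ _ hxx
      have e₁ : lift (r ≫ u₁ ≫ fst G X) (r ≫ u₁ ≫ snd G X) = r ≫ u₁ := by
        apply CartesianMonoidalCategory.hom_ext <;> simp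
      have e₂ : lift (r ≫ u₁ ≫ fst G X) (r ≫ u₂ ≫ snd G X) = r ≫ u₂ := by
        apply CartesianMonoidalCategory.hom_ext <;> simp [hg]
      rw [e₁, e₂] at key
      exact key
    obtain ⟨w, hw₁, hw₂⟩ := Scheme.Pullback.exists_preimage_pullback z z' hz
    have := LocallyOfFiniteType.jacobsonSpace Q.hom
    have spec : ∀ c₁ c₂ : Q.left → Y.left, Continuous c₁ → Continuous c₂ →
        (∀ c ∈ closedPoints Q.left, c₁ c = c₂ c) → c₂ w ⤳ c₁ w := by
      intro c₁ c₂ hc₁ hc₂ h12
      rw [specializes_iff_mem_closure]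
      have : closure {w} ⊆ c₁ ⁻¹' closure {c₂ w} := by
        refine subset_trans subset_closure (?_ : closure (closure {w}) ⊆ _)
        rw [← JacobsonSpace.closure_inter_closedPoints_eq_closure (X := Q.left) isClosed_closure.isLocallyClosed]
        refine closure_minimal ?_ (isClosed_closure.preimage hc₁)
        intro c ⟨hcw, hc⟩
        rw [Set.mem_preimage]
        rw [h12 c hc, ← Set.image_singleton (f := c₂)]
        exact image_closure_subset_closure_image hc₂ ⟨c, hcw, rfl⟩
      exact this (subset_closure rfl)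
    have heq : (u₁ ≫ a.act ≫ f).left.base w = (u₂ ≫ a.act ≫ f).left.base w :=
      ((spec _ _ (u₁ ≫ a.act ≫ f).left.continuous (u₂ ≫ a.act ≫ f).left.continuous hcl).antisymm
        (spec _ _ (u₂ ≫ a.act ≫ f).left.continuous (u₁ ≫ a.act ≫ f).left.continuous
          fun c hc => (hcl c hc).symm)).eq.symm
    have r₁ : u₁.left.base w = z := hw₁
    have r₂ : u₂.left.base w = z' := hw₂
    rw [← r₁, ← r₂]
    exact heq)
  refine ⟨⟨b, ?_, ?_⟩, hb, fun b' hb' => ?_⟩
  · apply cancel_whiskerLeft hf'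
    rw [whisker_exchange_assoc, hb, he, leftUnitor_hom, whiskerLeft_snd]
  · apply cancel_whiskerLeft hf'
    rw [whisker_exchange_assoc, hb, ← Category.assoc, a.mul_act]
    simp only [Category.assoc]
    rw [← hb, ← whiskerLeft_comp_assoc G a.act f, ← hb, whiskerLeft_comp_assoc,
      tensor_whiskerLeft_assoc, Iso.inv_hom_id_assoc]
  · obtain ⟨b', h1, h2⟩ := b'
    have : b' = b := cancel_whiskerLeft hf' G (hb'.trans hb.symm)
    subst this
    rfl

end Helpers

/-- Over an algebraically closed field k, let f : X → Y be a proper morphism of k-schemes of finite type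
such that the induced map from sections of O_Y to sections of O_X is bijective over every open
subset of Y, and let G be a connected k-group scheme of finite type acting on X. Then there is
exactly one action of G on Y for which f is G-equivariant. -/
theorem result (k : Type u) [Field k] [IsAlgClosed k]
    (G X Y : Over (Spec (CommRingCat.of k))) [GrpObj G] [LocallyOfFiniteType G.hom] [QuasiCompact G.hom]
    [ConnectedSpace ↥G.left] [LocallyOfFiniteType X.hom] [QuasiCompact X.hom]
    [LocallyOfFiniteType Y.hom] [QuasiCompact Y.hom]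
    (f : X ⟶ Y) [IsProper f.left] (hf : ∀ U : Y.left.Opens, IsIso (f.left.app U))
    (a : AlgGrp.Action G X) :
    ∃! b : AlgGrp.Action G Y, (G ◁ f) ≫ b.act = a.act ≫ f :=
  blanchard hf a

end Groth.Agent.S11394
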