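import Groth.Statements.S11396
import Groth.Agent.AlgGrpEquiv.Orbit
import Groth.Agent.AbvarAlb.GenProper

set_option autoImplicit false
universe u
open CategoryTheory MonoidalCategory CartesianMonoidalCategory MonObj GrpObj AlgebraicGeometry CategoryTheory.Limits
open AlgGrp

namespace Groth.Agent.S11396

/-- Over an algebraically closed field k, let A be an abelian variety (a proper, smooth, connected
k-group scheme) acting on a smooth variety X (integral, separated, of finite type over k),
faithfully in the sense that every rational point of A acting as the identity of X is the identity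
element. Then there exist a k-morphism φ : X → A and a positive integer n such that φ(a · x) = φ(x)
· aⁿ for all points a of A and x of X (with values in any k-scheme). -/
theorem result (k : Type u) [Field k] [IsAlgClosed k]
    (A X : Over (Spec (CommRingCat.of k))) [GrpObj A] [IsProper A.hom] [Smooth A.hom] [ConnectedSpace ↥A.left]
    [LocallyOfFiniteType X.hom] [QuasiCompact X.hom] [IsSeparated X.hom] [IsIntegral X.left] [Smooth X.hom]
    (a : AlgGrp.Action A X)
    (hfaith : ∀ g : 𝟙_ (Over (Spec (CommRingCat.of k))) ⟶ A, lift (toUnit X ≫ g) (𝟙 X) ≫ a.act = 𝟙 X → g = η[A]) :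
    ∃ (φ : X ⟶ A) (n : ℕ), 0 < n ∧
      ∀ (T : Over (Spec (CommRingCat.of k))) (g : T ⟶ A) (x : T ⟶ X), lift g x ≫ a.act ≫ φ = (x ≫ φ) * g ^ n := by
  have := Groth.AlgGrp1.geometricallyIntegral_of_smooth A
  have hassoc : ∀ {T : Over (Spec (CommRingCat.of k))} (u v : T ⟶ A) (x : T ⟶ X),
      lift u (lift v x ≫ a.act) ≫ a.act = lift (u * v) x ≫ a.act := fun u v x => by
    have e := congrArg (lift (lift u v) x ≫ ·) a.mul_act
    simp only [lift_whiskerRight_assoc, lift_lift_associator_hom_assoc, lift_whiskerLeft_assoc] at e
    exact e.symm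
  have hone : ∀ {T : Over (Spec (CommRingCat.of k))} (x : T ⟶ X), lift (1 : T ⟶ A) x ≫ a.act = x := fun x => by
    have e := congrArg (lift (toUnit _) x ≫ ·) a.one_act
    simp only [lift_whiskerRight_assoc, lift_leftUnitor_hom] at e
    exact e
  obtain ⟨x₀, hfin⟩ := Groth.AlgGrpEquiv.exists_finite_orb a.act hassoc hone
    fun g hg => (hfaith g hg).trans (MonObj.one_eq_one A)
  have := Groth.AbvarAlb.geometricallyIntegral_of_isIntegral X
  exact Groth.AlgGrpEquiv.exists_equivariant_of_affine a.act hassoc hone x₀

end Groth.Agent.S11396
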