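import Groth.Statements.S11398
import Groth.Agent.S8004
import Groth.Agent.S7982
import Groth.Agent.AlgGrp1.AffineQuot

set_option autoImplicit false
universe u
open CategoryTheory MonoidalCategory CartesianMonoidalCategory MonObj GrpObj AlgebraicGeometry CategoryTheory.Limits
open AlgGrp

namespace Groth.Agent.S11398

/-- Over an algebraically closed field k, every algebraic group G (a smooth k-group scheme of finite
type) has a largest connected affine normal algebraic subgroup G_aff: a homomorphism and closed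
immersion i : N → G from a smooth, connected, affine k-group scheme, normal in G, through which
every other such subgroup factors. Moreover the quotient G/G_aff has trivial G_aff: for every flat
surjective homomorphism q : G → Q of k-group schemes of finite type with kernel i, every smooth
connected affine normal closed subgroup of Q is the trivial group. -/
theorem result (k : Type u) [Field k] [IsAlgClosed k]
    (G : Over (Spec (CommRingCat.of k))) [GrpObj G] [Smooth G.hom] [QuasiCompact G.hom] :
    ∃ (N : Over (Spec (CommRingCat.of k))) (_ : GrpObj N) (i : N ⟶ G), (IsMonHom i ∧ IsClosedImmersion i.left ∧ Smooth N.hom ∧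
      ConnectedSpace ↥N.left ∧ IsAffine N.left ∧ AlgGrp.IsNormalHom i) ∧
      (∀ (N' : Over (Spec (CommRingCat.of k))) [GrpObj N'] (i' : N' ⟶ G) [IsMonHom i'] [IsClosedImmersion i'.left]
        [Smooth N'.hom] [ConnectedSpace ↥N'.left] [IsAffine N'.left], AlgGrp.IsNormalHom i' → ∃ f : N' ⟶ N, f ≫ i = i') ∧
      (∀ (Q : Over (Spec (CommRingCat.of k))) [GrpObj Q] [LocallyOfFiniteType Q.hom] [QuasiCompact Q.hom] (q : G ⟶ Q) [IsMonHom q]
        [Surjective q.left] [Flat q.left], AlgGrp.IsKernel i q →
        ∀ (N'' : Over (Spec (CommRingCat.of k))) [GrpObj N''] (i'' : N'' ⟶ Q) [IsMonHom i''] [IsClosedImmersion i''.left]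
          [Smooth N''.hom] [ConnectedSpace ↥N''.left] [IsAffine N''.left], AlgGrp.IsNormalHom i'' → IsIso N''.hom) := by
  classical
  let e : 𝟙_ (Over (Spec (CommRingCat.of k))) ⟶ G := η[G]
  have he : ∀ {T : Over (Spec (CommRingCat.of k))} (t : T ⟶ 𝟙_ _), t ≫ e = 1 := fun t => by
    rw [toUnit_unique t (toUnit _)]; rfl
  have : IsMonHom e := Groth.AlgGrp1.isMonHom_of_points e fun T u v => by rw [he, he, he, _root_.one_mul]
  have hec : IsClosedImmersion e.left := AlgebraicGeometry.isClosedImmersion_of_comp_eq_id G.hom e.left (Over.w e)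
  have hsm : Smooth (𝟙_ (Over (Spec (CommRingCat.of k)))).hom := inferInstanceAs (Smooth (𝟙 _))
  have hco : ConnectedSpace ↥(𝟙_ (Over (Spec (CommRingCat.of k)))).left :=
    inferInstanceAs (ConnectedSpace ↥(Spec (CommRingCat.of k)))
  have hen : AlgGrp.IsNormalHom e := fun T g n => ⟨n, by rw [he]; group⟩
  obtain ⟨N, _, i, hm, hc, hs, hconn, hn, hP, hmax, hq⟩ := Groth.Agent.S8004.result k
    (fun E _ => IsAffine E.left)
    (fun N E Q _ _ _ _ _ _ _ _ _ i q _ _ _ _ hk hN hQ => (Groth.Agent.S7982.result k N E Q i q hk).1 hN hQ)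
    (fun E Q _ _ _ _ _ _ q _ _ _ hE => Groth.AlgGrp1.isAffine_of_quotient q)
    G ⟨_, _, e, ‹_›, hec, hsm, hco, hen, inferInstanceAs (IsAffine (Spec (CommRingCat.of k)))⟩
  refine ⟨N, _, i, ⟨hm, hc, hs, hconn, hP, hn⟩, fun N' _ i' _ _ _ _ _ hn' => hmax N' i' ‹_› ‹_› ‹_› hn' ‹_›, ?_⟩
  intro Q _ _ _ q _ _ _ hk N'' _ i'' _ _ _ _ _ hn''
  have := hq Q q hk N'' i'' ‹_› ‹_› ‹_› hn'' ‹_›
  have : IsIso η[N''].left := inferInstanceAs (IsIso ((Over.forget _).map η[N'']))
  have hw : η[N''].left ≫ N''.hom = 𝟙 _ := Over.w η[N'']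
  have : IsIso (η[N''].left ≫ N''.hom) := by rw [hw]; infer_instance
  exact IsIso.of_isIso_comp_left η[N''].left N''.hom

end Groth.Agent.S11398
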