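import Groth.Statements.S11404
import Groth.Agent.AlgGrp1.Antiaffine
import Groth.Agent.AlgGrp1.Geom

set_option autoImplicit false
universe u
open CategoryTheory MonoidalCategory CartesianMonoidalCategory MonObj GrpObj AlgebraicGeometry CategoryTheory.Limits
open AlgGrp

namespace Groth.Agent.S11404

open Groth.AlgGrp1

/-- Decomposition of a family of morphisms of an abelian variety to itself preserving nothing. -/
theorem exists_decomp (k : Type u) [Field k]
    (A S : Over (Spec (CommRingCat.of k))) [GrpObj A] [IsProper A.hom] [Smooth A.hom] [ConnectedSpace ↥A.left]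
    [LocallyOfFiniteType S.hom] [ConnectedSpace ↥S.left] (s₀ : 𝟙_ _ ⟶ S) (F : A ⊗ S ⟶ A) :
    ∃ (g : S ⟶ A) (h : A ⟶ A), IsMonHom h ∧ F = (snd A S ≫ g) * (fst A S ≫ h) ∧
      ∀ (g' : S ⟶ A) (h' : A ⟶ A), IsMonHom h' → F = (snd A S ≫ g') * (fst A S ≫ h') → g' = g ∧ h' = h := by
  have : LocallyOfFiniteType A.hom := inferInstance
  have : QuasiCompact A.hom := inferInstance
  have : IsIntegral A.left := isIntegral_of_smooth A
  have hA : HasConstFunctions A := hasConstFunctions_of_isIntegral η[A]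
  let g : S ⟶ A := lift 1 (𝟙 S) ≫ F
  let φ : A ⊗ S ⟶ A := (snd A S ≫ g)⁻¹ * F
  let h : A ⟶ A := lift (𝟙 A) (toUnit A ≫ s₀) ≫ φ
  have hφ1 : lift 1 (𝟙 S) ≫ φ = 1 := by
    simp [φ, g, MonObj.comp_mul, GrpObj.comp_inv]
  have hh1 : ∀ {T : Over (Spec (CommRingCat.of k))}, (1 : T ⟶ A) ≫ h = 1 := by
    intro T
    have e : lift (1 : T ⟶ A) (toUnit T ≫ s₀) = (toUnit T ≫ s₀) ≫ lift 1 (𝟙 S) := by
      simp [comp_lift]
    show (1 : T ⟶ A) ≫ lift (𝟙 A) (toUnit A ≫ s₀) ≫ φ = 1
    rw [comp_lift_assoc, Category.comp_id, ← Category.assoc (1 : T ⟶ A), toUnit_unique ((1 : T ⟶ A) ≫ toUnit A) (toUnit T), e,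
      Category.assoc, hφ1, MonObj.comp_one]
  have hd : φ * (fst A S ≫ h)⁻¹ = 1 := by
    refine pairing_eq_one hA 1 s₀ _ ?_ ?_
    · simp only [MonObj.comp_mul, GrpObj.comp_inv, lift_fst_assoc, Category.id_comp]
      exact mul_inv_cancel h
    · simp only [MonObj.comp_mul, GrpObj.comp_inv, lift_fst_assoc, MonObj.comp_one, hφ1, hh1, inv_one,
        _root_.mul_one]
  have hmon : IsMonHom h := by
    let d : A ⊗ A ⟶ A := ((fst A A * snd A A) ≫ h) * (snd A A ≫ h)⁻¹ * (fst A A ≫ h)⁻¹
    have hd : d = 1 := by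
      refine pairing_eq_one hA 1 1 d ?_ ?_ <;>
      · simp only [d, MonObj.comp_mul, GrpObj.comp_inv, lift_fst_assoc, lift_snd_assoc, Category.id_comp,
          MonObj.comp_one, hh1, inv_one, _root_.mul_one]
        rw [← Category.assoc, MonObj.comp_mul, lift_fst, lift_snd]
        simp
    refine isMonHom_of_points h fun T a b => ?_
    have := congrArg (fun r => lift a b ≫ r) hd
    simp only [d, MonObj.comp_mul, GrpObj.comp_inv, lift_fst_assoc, lift_snd_assoc, MonObj.comp_one,
      mul_inv_eq_one] at this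
    rw [← Category.assoc, MonObj.comp_mul, lift_fst, lift_snd, mul_inv_eq_iff_eq_mul] at this
    exact this
  have hF : F = (snd A S ≫ g) * (fst A S ≫ h) := by
    rw [← mul_inv_eq_one.1 hd]
    simp [φ]
  refine ⟨g, h, hmon, hF, fun g' h' hh' heq => ?_⟩
  have hg : g' = g := by
    have := congrArg (fun r => lift 1 (𝟙 S) ≫ r) heq
    simpa [g, MonObj.comp_mul, MonObj.one_comp] using this.symm
  refine ⟨hg, ?_⟩
  subst hg
  have := congrArg (fun r => lift (𝟙 A) (toUnit A ≫ s₀) ≫ r) (hF.symm.trans heq)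
  simp only [MonObj.comp_mul, lift_fst_assoc, Category.id_comp] at this
  exact (mul_left_cancel this).symm

/-- Over an algebraically closed field k, let A be an abelian variety (a proper, smooth, connected
k-group scheme) and S a connected k-scheme of finite type. For every automorphism f of A × S over S
there are a unique k-morphism g : S → A and a unique group automorphism h of A with f(a, s) = (g(s)
· h(a), s) on points. (This is the functor-of-points form, over a connected base, of the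
identification of the automorphism group scheme of A with the semidirect product of A, acting by
translations, and the constant group of group automorphisms; in particular the neutral component is
A.) -/
theorem result (k : Type u) [Field k] [IsAlgClosed k]
    (A S : Over (Spec (CommRingCat.of k))) [GrpObj A] [IsProper A.hom] [Smooth A.hom] [ConnectedSpace ↥A.left]
    [LocallyOfFiniteType S.hom] [QuasiCompact S.hom] [ConnectedSpace ↥S.left]
    (f : A ⊗ S ≅ A ⊗ S) (hf : f.hom ≫ snd A S = snd A S) :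
    ∃ (g : S ⟶ A) (h : A ⟶ A), IsMonHom h ∧ IsIso h ∧
      f.hom ≫ fst A S = (snd A S ≫ g) * (fst A S ≫ h) ∧
      ∀ (g' : S ⟶ A) (h' : A ⟶ A), IsMonHom h' →
        f.hom ≫ fst A S = (snd A S ≫ g') * (fst A S ≫ h') → g' = g ∧ h' = h := by
  have := LocallyOfFiniteType.jacobsonSpace S.hom
  obtain ⟨p, -, hp⟩ := nonempty_inter_closedPoints (Z := (Set.univ : Set ↥S.left)) Set.univ_nonempty
    isClosed_univ.isLocallyClosed
  let s₀ : 𝟙_ (Over (Spec (CommRingCat.of k))) ⟶ S :=
    Over.homMk _ ((pointEquivClosedPoint S.hom).symm ⟨p, hp⟩).2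
  obtain ⟨g, h, hh, hF, huniq⟩ := exists_decomp k A S s₀ (f.hom ≫ fst A S)
  obtain ⟨g₁, h₁, hh₁, hF₁, -⟩ := exists_decomp k A S s₀ (f.inv ≫ fst A S)
  obtain ⟨g₂, h₂, -, -, huniq₂⟩ := exists_decomp k A S s₀ (fst A S)
  have key : ∀ (f : A ⊗ S ≅ A ⊗ S), f.hom ≫ snd A S = snd A S → ∀ (g g' : S ⟶ A) (h h' : A ⟶ A),
      IsMonHom h → IsMonHom h' →
      f.hom ≫ fst A S = (snd A S ≫ g) * (fst A S ≫ h) →
      f.inv ≫ fst A S = (snd A S ≫ g') * (fst A S ≫ h') → h' ≫ h = 𝟙 A := by
    intro f hf g g' h h' _ _ e e'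
    have hinv : f.inv ≫ snd A S = snd A S := by rw [Iso.inv_comp_eq, hf]
    have h0 : fst A S = (snd A S ≫ (g * (g' ≫ h))) * (fst A S ≫ (h' ≫ h)) := by
      conv_lhs => rw [← f.inv_hom_id_assoc (fst A S), e, MonObj.comp_mul, reassoc_of% hinv,
        ← Category.assoc f.inv, e', MonObj.mul_comp]
      rw [MonObj.comp_mul, Category.assoc, Category.assoc, _root_.mul_assoc]
    have hc : IsMonHom (h' ≫ h) := inferInstance
    obtain ⟨-, ha⟩ := huniq₂ _ _ hc h0
    have h1 : fst A S = (snd A S ≫ (1 : S ⟶ A)) * (fst A S ≫ 𝟙 A) := by simp [MonObj.comp_one]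
    obtain ⟨-, hb⟩ := huniq₂ _ _ inferInstance h1
    exact ha.trans hb.symm
  have hinv : f.inv ≫ snd A S = snd A S := by rw [Iso.inv_comp_eq, hf]
  refine ⟨g, h, hh, ⟨h₁, ?_, ?_⟩, hF, huniq⟩
  · exact key f.symm hinv g₁ g h₁ h hh₁ hh hF₁ hF
  · exact key f hf g g₁ h h₁ hh hh₁ hF hF₁

end Groth.Agent.S11404
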