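import Groth.Statements.S11405
import Groth.Agent.AlgGrp1.MatRep
-- import your own Groth.Agent.* helpers here

set_option autoImplicit false
universe u
open CategoryTheory MonoidalCategory CartesianMonoidalCategory MonObj GrpObj AlgebraicGeometry CategoryTheory.Limits
open AlgGrp

namespace Groth.Agent.S11405

open Groth.Agf (Fn pull evalPt contract)
open scoped TensorProduct Groth.Agf

/-- Over an algebraically closed field, all functions invisible means only constants. -/
theorem hasConst_of_invisible {k : Type u} [Field k] [IsAlgClosed k]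
    (G : Over (Spec (CommRingCat.of k))) [GrpObj G] [Smooth G.hom] [QuasiCompact G.hom]
    (h : ∀ (g : VecGrp.pt k k ⟶ G) (f : Fn G), evalPt g f = evalPt (1 : VecGrp.pt k k ⟶ G) f) :
    Groth.AlgGrp1.HasConstFunctions G := by
  have := Groth.AlgGrp1.geometricallyReduced_of_smooth_hom G
  have := Groth.AlgGrp1.isReduced_left G
  have e : ∀ c, ((Scheme.ΓSpecIso (CommRingCat.of k)).inv ≫ G.hom.appTop).hom c = algebraMap k (Fn G) c :=
    fun c => rfl
  refine ⟨fun a b hab => ?_, fun f => ⟨evalPt (1 : VecGrp.pt k k ⟶ G) f, ?_⟩⟩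
  · rw [e, e] at hab
    have := congrArg (evalPt (1 : VecGrp.pt k k ⟶ G)) hab
    rwa [AlgHom.commutes, AlgHom.commutes] at this
  · rw [e]
    exact Groth.AlgGrp1.fn_ext_points fun g => by rw [AlgHom.commutes, h g f]; rfl

theorem rep_trivial {k : Type u} [Field k] [IsAlgClosed k]
    (G : Over (Spec (CommRingCat.of k))) [GrpObj G] [Smooth G.hom] [QuasiCompact G.hom]
    (hc : Groth.AlgGrp1.HasConstFunctions G)
    (M : Type u) [AddCommGroup M] [Module k M] (m : VecGrp.GMod G M)
    (B : Type u) [CommRing B] [Algebra k B] (g : VecGrp.pt k B ⟶ G) : m.ρ B g = 1 := by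
  have := Groth.AlgGrp1.geometricallyReduced_of_smooth_hom G
  have := Groth.AlgGrp1.isReduced_left G
  have hinv : ∀ (y : VecGrp.pt k k ⟶ G) (f : Fn G), evalPt y f = evalPt (1 : VecGrp.pt k k ⟶ G) f := by
    intro y f
    obtain ⟨c, rfl⟩ := hc.2 f
    exact ((evalPt y).commutes c).trans ((evalPt (1 : VecGrp.pt k k ⟶ G)).commutes c).symm
  -- rational points act trivially
  have hk : ∀ (y : VecGrp.pt k k ⟶ G) (v : M), m.ρ k y ((1 : k) ⊗ₜ[k] v) = (1 : k) ⊗ₜ[k] v := by
    intro y v
    refine Groth.Agf.eq_of_contract fun ψ => ?_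
    obtain ⟨F, hF⟩ := Groth.Agent.S11416.exists_fn G (fun y => contract ψ k (m.ρ k y ((1 : k) ⊗ₜ[k] v))) fun U => by
      let V : Over (Spec (CommRingCat.of k)) := Over.mk (U.1.ι ≫ G.hom)
      let inc : V ⟶ G := Over.homMk U.1.ι rfl
      have : IsAffine V.left := U.2
      refine ⟨contract ψ (Fn V) (m.ρ (Fn V) (Groth.Agf.univ V ≫ inc) ((1 : Fn V) ⊗ₜ[k] v)), fun y => ?_⟩
      rw [← Groth.Agf.contract_Wmap, m.naturality, ← Category.assoc, Groth.Agf.ptMap_univ, VecGrp.Wmap_tmul, map_one]
    rw [← hF y, hinv, hF 1, map_one]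
    rfl
  -- hence the universal points
  have huniv : ∀ (U : G.left.affineOpens) (v : M),
      let V : Over (Spec (CommRingCat.of k)) := Over.mk (U.1.ι ≫ G.hom)
      ∀ [IsAffine V.left], m.ρ (Fn V) (Groth.Agf.univ V ≫ (Over.homMk U.1.ι rfl : V ⟶ G)) ((1 : Fn V) ⊗ₜ[k] v) =
        (1 : Fn V) ⊗ₜ[k] v := by
    intro U v V _
    have : LocallyOfFiniteType V.hom := inferInstanceAs (LocallyOfFiniteType (U.1.ι ≫ G.hom))
    have : IsReduced V.left := inferInstanceAs (IsReduced U.1.toScheme)
    refine Groth.Agf.eq_of_contract fun ψ => Groth.AlgGrp1.fn_ext_points fun y => ?_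
    rw [← Groth.Agf.contract_Wmap, ← Groth.Agf.contract_Wmap, m.naturality, ← Category.assoc,
      Groth.Agf.ptMap_univ, VecGrp.Wmap_tmul, map_one]
    exact congrArg (contract ψ k) (hk _ v)
  refine LinearEquiv.ext fun x => ?_
  induction x using TensorProduct.induction_on with
  | zero => simp
  | add a b ha hb => rw [map_add, ha, hb, map_add]
  | tmul b v =>
    suffices h1 : m.ρ B g ((1 : B) ⊗ₜ[k] v) = (1 : B) ⊗ₜ[k] v by
      rw [show b ⊗ₜ[k] v = b • ((1 : B) ⊗ₜ[k] v) by rw [TensorProduct.smul_tmul', smul_eq_mul, _root_.mul_one],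
        map_smul, h1]
      rfl
    refine Groth.Agf.eq_of_contract fun ψ => ?_
    rw [← sub_eq_zero]
    set d := contract ψ B (m.ρ B g ((1 : B) ⊗ₜ[k] v)) - contract ψ B ((1 : B) ⊗ₜ[k] v) with hd
    have hloc : ∀ p : PrimeSpectrum B, ∃ r, r ∉ p.asIdeal ∧ algebraMap B (Localization.Away r) d = 0 := by
      intro p
      obtain ⟨U, hU, hpU, -⟩ := exists_isAffineOpen_mem_and_subset
        (x := g.left.base p) (U := (⊤ : G.left.Opens)) trivial
      obtain ⟨_, ⟨r, rfl⟩, hr, hrU⟩ := PrimeSpectrum.isTopologicalBasis_basic_opens.exists_subset_of_mem_open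
        (show p ∈ g.left.base ⁻¹' U from hpU) (U.2.preimage g.left.continuous)
      refine ⟨r, hr, ?_⟩
      let φ : B →ₐ[k] Localization.Away r := IsScalarTower.toAlgHom k B (Localization.Away r)
      let V : Over (Spec (CommRingCat.of k)) := Over.mk ((U : G.left.Opens).ι ≫ G.hom)
      have : IsAffine V.left := hU
      let inc : V ⟶ G := Over.homMk (U : G.left.Opens).ι rfl
      have : IsOpenImmersion inc.left := inferInstanceAs (IsOpenImmersion (U : G.left.Opens).ι)
      have hsub : Set.range (VecGrp.ptMap φ ≫ g).left ⊆ Set.range inc.left := by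
        show _ ⊆ Set.range (U : G.left.Opens).ι
        rw [Scheme.Opens.range_ι]
        rintro _ ⟨q, rfl⟩
        refine hrU ?_
        have : PrimeSpectrum.comap (algebraMap B (Localization.Away r)) q ∈ (PrimeSpectrum.basicOpen r : Set (PrimeSpectrum B)) := by
          rw [← PrimeSpectrum.localization_away_comap_range (Localization.Away r) r]
          exact ⟨q, rfl⟩
        exact this
      let y : VecGrp.pt k (Localization.Away r) ⟶ V := Over.homMk
        (IsOpenImmersion.lift inc.left (VecGrp.ptMap φ ≫ g).left hsub) (by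
          show IsOpenImmersion.lift inc.left _ hsub ≫ inc.left ≫ G.hom = _
          rw [IsOpenImmersion.lift_fac_assoc, Over.w (VecGrp.ptMap φ ≫ g)])
      have hy : y ≫ inc = VecGrp.ptMap φ ≫ g := Over.OverMorphism.ext (IsOpenImmersion.lift_fac _ _ _)
      show φ d = 0
      rw [hd, map_sub, ← Groth.Agf.contract_Wmap, ← Groth.Agf.contract_Wmap, m.naturality, VecGrp.Wmap_tmul,
        map_one, sub_eq_zero, ← hy, ← Groth.Agf.ptMap_univ y]
      congr 1
      have := congrArg (VecGrp.Wmap (evalPt y)) (huniv ⟨U, hU⟩ v)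
      rw [m.naturality, VecGrp.Wmap_tmul, map_one, ← Category.assoc] at this
      exact this
    have hz : ∀ p : PrimeSpectrum B, ∃ r, r ∉ p.asIdeal ∧ r * d = 0 := by
      intro p
      obtain ⟨r, hr, h0⟩ := hloc p
      obtain ⟨⟨_, e, rfl⟩, he⟩ := (IsLocalization.map_eq_zero_iff (Submonoid.powers r) _ _).1 h0
      exact ⟨r ^ e, fun h => hr (p.isPrime.mem_of_pow_mem e h), he⟩
    by_contra hne
    have hann : (⊥ : Ideal B).colon {d} ≠ ⊤ := by
      rw [Ne, Ideal.eq_top_iff_one, Submodule.mem_colon_singleton]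
      simpa using hne
    obtain ⟨mx, hmx, hle⟩ := Ideal.exists_le_maximal _ hann
    obtain ⟨r, hr, h0⟩ := hz ⟨mx, hmx.isPrime⟩
    exact hr (hle (Submodule.mem_colon_singleton.2 (by simpa using h0)))

/-- Over an algebraically closed field k, the following are equivalent for an algebraic group G (a
smooth k-group scheme of finite type): (i) the only global functions on G are the constants; (ii)
every finite-dimensional linear representation of G is trivial (every point of G with values in a
k-algebra B acts as the identity on B ⊗ M, for every G-module structure on a finite-dimensional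
k-vector space M); (iii) every action of G on a variety (integral, separated k-scheme of finite
type) with a fixed rational point is the trivial action. Stated as (i) ⇔ (ii) and (i) ⇔ (iii). -/
theorem result (k : Type u) [Field k] [IsAlgClosed k]
    (G : Over (Spec (CommRingCat.of k))) [GrpObj G] [Smooth G.hom] [QuasiCompact G.hom] :
    (Function.Bijective ((Scheme.ΓSpecIso (CommRingCat.of k)).inv ≫ G.hom.appTop).hom ↔
      ∀ (M : Type u) [AddCommGroup M] [Module k M] [Module.Finite k M] (m : VecGrp.GMod G M)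
        (B : Type u) [CommRing B] [Algebra k B] (g : VecGrp.pt k B ⟶ G), m.ρ B g = 1) ∧
    (Function.Bijective ((Scheme.ΓSpecIso (CommRingCat.of k)).inv ≫ G.hom.appTop).hom ↔
      ∀ (X : Over (Spec (CommRingCat.of k))) [LocallyOfFiniteType X.hom] [QuasiCompact X.hom] [IsSeparated X.hom]
        [IsIntegral X.left] (a : AlgGrp.Action G X) (x : 𝟙_ (Over (Spec (CommRingCat.of k))) ⟶ X), a.IsFixedPt x → a.act = snd G X) := by
  constructor
  · constructor
    · intro hc M _ _ _ m B _ _ g
      exact rep_trivial G hc M m B g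
    · intro h
      obtain ⟨n, Mat, hmul, hone, hker⟩ := Groth.AlgGrp1.exists_matRep G
      refine hasConst_of_invisible G fun g => hker g ?_
      exact (Groth.AlgGrp1.matGMod_eq_one_iff Mat hmul hone g).1 (h _ (Groth.AlgGrp1.matGMod Mat hmul hone) k g)
  · constructor
    · intro hc X _ _ _ _ a x hx
      have := Groth.AlgGrp1.isLocallyNoetherian_left X
      have : QuasiSeparated G.hom := by have := Groth.AlgGrp1.isSeparated_grpObj G; infer_instance
      have h := Groth.AlgGrp1.eq_snd_comp_of_const hc η[G] x x a.act (by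
        have := hx (G ⊗ 𝟙_ _) (fst G (𝟙_ _))
        rw [show G ◁ x = lift (fst G (𝟙_ _)) (toUnit _ ≫ x) by
          apply CartesianMonoidalCategory.hom_ext
          · simp
          · rw [whiskerLeft_snd, lift_snd, toUnit_unique (snd G (𝟙_ _)) (toUnit _)]]
        exact this)
      rw [h, show lift (toUnit X ≫ η[G]) (𝟙 X) ≫ a.act = 𝟙 X from a.lift_one_act _, Category.comp_id]
    · intro h
      obtain ⟨n, Mat, hmul, hone, hker⟩ := Groth.AlgGrp1.exists_matRep G
      refine hasConst_of_invisible G fun g => hker g ?_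
      let X := CoactBr.sp k (Groth.AlgGrp1.AffRing k n)
      have hft : Algebra.FiniteType k (Groth.AlgGrp1.AffRing k n) := inferInstance
      have : LocallyOfFiniteType X.hom :=
        (HasRingHomProperty.Spec_iff (P := @LocallyOfFiniteType)).2 (RingHom.finiteType_algebraMap.2 hft)
      have : QuasiCompact X.hom := inferInstanceAs (QuasiCompact (Spec.map _))
      have : IsSeparated X.hom := inferInstanceAs (IsSeparated (Spec.map _))
      have : IsIntegral X.left := inferInstanceAs (IsIntegral (Spec (CommRingCat.of (Groth.AlgGrp1.AffRing k n))))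
      let o : 𝟙_ (Over (Spec (CommRingCat.of k))) ⟶ X :=
        Groth.AlgGrp1.toAffine (MvPolynomial.aeval fun _ => (0 : Fn (𝟙_ (Over (Spec (CommRingCat.of k))))))
      have ho : (Groth.AlgGrp1.matAction Mat hmul hone).IsFixedPt o := by
        intro T g
        refine Groth.AlgGrp1.coord_ext fun i => ?_
        have h0 : ∀ j, Groth.AlgGrp1.coord (toUnit T ≫ o) j = 0 := fun j => by
          rw [Groth.AlgGrp1.coord_comp, Groth.AlgGrp1.coord, Groth.AlgGrp1.pull_toAffine, MvPolynomial.aeval_X, map_zero]
        show Groth.AlgGrp1.coord (lift g (toUnit T ≫ o) ≫ Groth.AlgGrp1.matAct Mat) i = _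
        rw [Groth.AlgGrp1.coord_matAct, h0]
        simp [h0]
      exact Groth.AlgGrp1.evalPt_eq_one_of_matAct_eq_snd Mat (h X _ o ho) g

end Groth.Agent.S11405
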