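import Groth.Statements.S11410
import Groth.Agent.AlgGrp1.ActAffine

set_option autoImplicit false
universe u
open CategoryTheory MonoidalCategory CartesianMonoidalCategory MonObj GrpObj AlgebraicGeometry CategoryTheory.Limits
open AlgGrp

namespace Groth.Agent.S11410

/-- Over an algebraically closed field k, let G be an algebraic group (a smooth k-group scheme of finite
type) acting on a variety X (an integral, separated k-scheme of finite type), faithfully in the
sense that every rational point of G acting as the identity of X is the identity element. Then for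
every rational point x of X, the isotropy subgroup scheme of x (a closed subgroup scheme of G whose
points are exactly the points of G fixing x) is affine. -/
theorem result (k : Type u) [Field k] [IsAlgClosed k]
    (G X : Over (Spec (CommRingCat.of k))) [GrpObj G] [Smooth G.hom] [QuasiCompact G.hom]
    [LocallyOfFiniteType X.hom] [QuasiCompact X.hom] [IsSeparated X.hom] [IsIntegral X.left]
    (a : AlgGrp.Action G X)
    (hfaith : ∀ g : 𝟙_ (Over (Spec (CommRingCat.of k))) ⟶ G, lift (toUnit X ≫ g) (𝟙 X) ≫ a.act = 𝟙 X → g = η[G])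
    (x : 𝟙_ (Over (Spec (CommRingCat.of k))) ⟶ X) (St : Over (Spec (CommRingCat.of k))) [GrpObj St] (s : St ⟶ G) [IsMonHom s] [IsClosedImmersion s.left]
    (hs : ∀ (T : Over (Spec (CommRingCat.of k))) (g : T ⟶ G), (∃ t : T ⟶ St, t ≫ s = g) ↔ lift g (toUnit T ≫ x) ≫ a.act = toUnit T ≫ x) :
    IsAffine St.left := by
  have := Groth.AlgGrp1.isLocallyNoetherian_left X
  have : LocallyOfFiniteType St.hom := by rw [← Over.w s]; infer_instance
  have : QuasiCompact St.hom := by rw [← Over.w s]; infer_instance
  have : Mono s := Over.mono_of_mono_left s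
  let b : AlgGrp.Action St X :=
    { act := (s ▷ X) ≫ a.act
      one_act := by rw [← comp_whiskerRight_assoc, IsMonHom.one_hom, a.one_act]
      mul_act := Groth.AlgGrp1.mulAct_of_points _ fun T g g' y => by
        rw [lift_whiskerRight_assoc, lift_whiskerRight_assoc, lift_whiskerRight_assoc, MonObj.mul_comp,
          a.lift_mul_act] }
  have hb : ∀ {T : Over (Spec (CommRingCat.of k))} (g : T ⟶ St) (y : T ⟶ X),
      lift g y ≫ b.act = lift (g ≫ s) y ≫ a.act := fun g y => lift_whiskerRight_assoc _ _ _ _
  refine Groth.AlgGrp1.isAffine_of_fixedPt k St X b x (fun T g => ?_) fun g hg => ?_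
  · rw [hb, (hs T (g ≫ s)).1 ⟨g, rfl⟩]
  · rw [hb] at hg
    rw [← cancel_mono s, MonObj.one_comp]
    let i : VecGrp.pt k k ≅ 𝟙_ (Over (Spec (CommRingCat.of k))) :=
      ⟨toUnit _, Groth.AlgGrp1.toPt _, Groth.AlgGrp1.toPt_unique _ _, toUnit_unique _ _⟩
    have h1 : i.inv ≫ g ≫ s = η[G] := by
      refine hfaith _ ?_
      have := congrArg (lift (toUnit X ≫ i.inv) (𝟙 X) ≫ ·) hg
      simp only [comp_lift_assoc, lift_fst_assoc, lift_snd, Category.assoc] at this
      exact this
    calc g ≫ s = i.hom ≫ i.inv ≫ g ≫ s := by rw [Iso.hom_inv_id_assoc]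
      _ = 1 := by rw [h1]; rfl

end Groth.Agent.S11410
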