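import Groth.Statements.S11411
import Groth.Agent.AlgGrp1.Const

set_option autoImplicit false
universe u
open CategoryTheory MonoidalCategory CartesianMonoidalCategory MonObj GrpObj AlgebraicGeometry CategoryTheory.Limits
open AlgGrp

namespace Groth.Agent.S11411

/-- Over an algebraically closed field k, let G be an algebraic group (a smooth k-group scheme of finite
type) and N the kernel of the canonical morphism ρ : G → Spec O(G), i.e. the fibre of ρ over the
image of the unit. Then N is the smallest normal subgroup scheme of G with affine quotient: for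
every closed normal subgroup scheme H of G with a flat surjective homomorphism G → Q of k-group
schemes of finite type with kernel H and Q affine, the inclusion of N factors through H. And N is
the largest anti-affine subgroup scheme: every homomorphism and closed immersion into G from a
k-group scheme whose only global functions are the constants factors through N. (The published
statement also asserts O(N) = k, that N is a connected algebraic group central in G⁰, and O(G/N) =
O(G) finitely generated; those parts are not restated here.) -/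
theorem result (k : Type u) [Field k] [IsAlgClosed k]
    (G : Over (Spec (CommRingCat.of k))) [GrpObj G] [Smooth G.hom] [QuasiCompact G.hom] :
    (∀ (H Q : Over (Spec (CommRingCat.of k))) [GrpObj H] [GrpObj Q] (h : H ⟶ G) [IsMonHom h] [IsClosedImmersion h.left]
        [LocallyOfFiniteType Q.hom] [QuasiCompact Q.hom] (q : G ⟶ Q) [IsMonHom q] [Surjective q.left] [Flat q.left],
        AlgGrp.IsKernel h q → IsAffine Q.left →
        ∃ f : pullback G.left.toSpecΓ (η[G].left ≫ G.left.toSpecΓ) ⟶ H.left, f ≫ h.left = pullback.fst G.left.toSpecΓ (η[G].left ≫ G.left.toSpecΓ)) ∧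
    (∀ (M : Over (Spec (CommRingCat.of k))) [GrpObj M] (j : M ⟶ G) [IsMonHom j] [IsClosedImmersion j.left],
        Function.Bijective ((Scheme.ΓSpecIso (CommRingCat.of k)).inv ≫ M.hom.appTop).hom →
        ∃ f : M.left ⟶ pullback G.left.toSpecΓ (η[G].left ≫ G.left.toSpecΓ), f ≫ pullback.fst G.left.toSpecΓ (η[G].left ≫ G.left.toSpecΓ) = j.left) := by
  refine ⟨?_, ?_⟩
  · intro H Q _ _ h _ _ _ _ q _ _ _ hk hQ
    obtain ⟨gq, hgq⟩ := Groth.AlgGrp1.exists_factor_toSpecΓ q.left
    obtain ⟨gs, hgs⟩ := Groth.AlgGrp1.exists_factor_toSpecΓ G.hom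
    let P : Over (Spec (CommRingCat.of k)) :=
      Over.mk (pullback.fst G.left.toSpecΓ (η[G].left ≫ G.left.toSpecΓ) ≫ G.hom)
    let ι₀ : P ⟶ G := Over.homMk (pullback.fst G.left.toSpecΓ (η[G].left ≫ G.left.toSpecΓ)) rfl
    have hs : pullback.fst G.left.toSpecΓ (η[G].left ≫ G.left.toSpecΓ) ≫ G.hom =
        pullback.snd G.left.toSpecΓ (η[G].left ≫ G.left.toSpecΓ) := by
      rw [hgs, pullback.condition_assoc, Category.assoc, ← hgs]
      exact (congrArg (_ ≫ ·) (Over.w η[G])).trans (Category.comp_id _)
    obtain ⟨f, hf⟩ := Groth.AlgGrp1.IsKernel.exists_lift hk ι₀ (by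
      apply Over.OverMorphism.ext
      have e1 : η[G].left ≫ q.left = η[Q].left := congrArg (fun r => r.left) (IsMonHom.one_hom (f := q))
      show pullback.fst G.left.toSpecΓ (η[G].left ≫ G.left.toSpecΓ) ≫ q.left =
        (pullback.fst G.left.toSpecΓ (η[G].left ≫ G.left.toSpecΓ) ≫ G.hom) ≫ η[Q].left
      rw [hs, ← e1, hgq, pullback.condition_assoc, Category.assoc])
    exact ⟨f.left, congrArg (fun r => r.left) hf⟩
  · intro M _ j _ _ hM
    refine ⟨pullback.lift j.left M.hom ?_, pullback.lift_fst _ _ _⟩
    rw [Groth.AlgGrp1.HasConstFunctions.eq_const hM (j.left ≫ G.left.toSpecΓ) η[M]]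
    have e1 : η[M].left ≫ j.left = η[G].left := congrArg (fun r => r.left) (IsMonHom.one_hom (f := j))
    rw [reassoc_of% e1]

end Groth.Agent.S11411
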