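import Groth.Statements.S11412
import Groth.Agent.AlgGrp1.AntiAffineSmooth

set_option autoImplicit false
universe u
open CategoryTheory MonoidalCategory CartesianMonoidalCategory MonObj GrpObj AlgebraicGeometry CategoryTheory.Limits
open AlgGrp

namespace Groth.Agent.S11412

/-- Over an algebraically closed field k, let G be a k-group scheme of finite type whose only global
functions are the constants. Then G is reduced, i.e. smooth over k, and for every closed subgroup
scheme H of G and every quotient G/H (a k-scheme X of locally finite type with a G-action and a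
rational point o whose orbit map is flat and surjective and identifies G × H with G ×_X G), the only
global functions on X are the constants. (The published statement also records that G is connected
and commutative.) -/
theorem result (k : Type u) [Field k] [IsAlgClosed k]
    (G : Over (Spec (CommRingCat.of k))) [GrpObj G] [LocallyOfFiniteType G.hom] [QuasiCompact G.hom]
    (hG : Function.Bijective ((Scheme.ΓSpecIso (CommRingCat.of k)).inv ≫ G.hom.appTop).hom) :
    Smooth G.hom ∧
      ∀ (H : Over (Spec (CommRingCat.of k))) [GrpObj H] (h : H ⟶ G) [IsMonHom h] [IsClosedImmersion h.left]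
        (X : Over (Spec (CommRingCat.of k))) (a : AlgGrp.Action G X) (o : 𝟙_ (Over (Spec (CommRingCat.of k))) ⟶ X), AGF.IsQuotient h X a o →
        Function.Bijective ((Scheme.ΓSpecIso (CommRingCat.of k)).inv ≫ X.hom.appTop).hom := by
  refine ⟨Groth.AlgGrp1.AntiAffineSmooth.smooth_of_hasConstFunctions G hG, fun H _ h _ _ X a o hq => ?_⟩
  obtain ⟨-, hfl, hs, -⟩ := hq
  let f := a.orbitMap o
  have hinj : Function.Injective f.left.appTop := by
    intro s t hst
    refine TopCat.Presheaf.section_ext X.left.sheaf ⊤ s t fun x hx => ?_
    obtain ⟨y, rfl⟩ := f.left.surjective x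
    apply Groth.Agf.stalkMap_injective f.left y
    show f.left.stalkMap y (X.left.presheaf.germ ⊤ (f.left y) hx s) = f.left.stalkMap y (X.left.presheaf.germ ⊤ (f.left y) hx t)
    rw [Scheme.Hom.germ_stalkMap_apply, Scheme.Hom.germ_stalkMap_apply]
    exact congrArg _ hst
  refine ⟨?_, fun s => ?_⟩
  · have : Nontrivial Γ(X.left, ⊤) := RingHom.domain_nontrivial
      (o.left.appTop ≫ (Scheme.ΓSpecIso (CommRingCat.of k)).hom).hom
    exact RingHom.injective _
  · obtain ⟨c, hc⟩ := hG.2 (f.left.appTop s)
    refine ⟨c, hinj ?_⟩
    rw [← hc]
    show f.left.appTop (X.hom.appTop ((Scheme.ΓSpecIso (CommRingCat.of k)).inv c)) = _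
    rw [← ConcreteCategory.comp_apply, ← Scheme.Hom.comp_appTop, Over.w]
    rfl

end Groth.Agent.S11412
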