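import Groth.Statements.S11418
import Groth.Agent.AlgGrp1.Act

set_option autoImplicit false
universe u
open CategoryTheory MonoidalCategory CartesianMonoidalCategory MonObj GrpObj AlgebraicGeometry CategoryTheory.Limits
open AlgGrp

namespace Groth.Agent.S11418

/-- Over an algebraically closed field k, let G be an affine algebraic group (smooth affine k-group
scheme of finite type) and π : X → Y a principal G-bundle of k-schemes of finite type: G acts on X,
π is G-invariant, faithfully flat, and the square formed by the action, the second projection G × X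
→ X and π is cartesian. Then the map θ sending a G-equivariant morphism f : X → G (for the
conjugation action on G, i.e. f(g·x) = g f(x) g⁻¹ on points) to the automorphism x ↦ f(x)·x is a
bijection onto the bundle automorphisms: every G-equivariant automorphism φ of X with π ∘ φ = π
equals θ(f) for exactly one such f. -/
theorem result (k : Type u) [Field k] [IsAlgClosed k]
    (G X Y : Over (Spec (CommRingCat.of k))) [GrpObj G] [Smooth G.hom] [QuasiCompact G.hom] [IsAffine G.left]
    [LocallyOfFiniteType X.hom] [QuasiCompact X.hom] [LocallyOfFiniteType Y.hom] [QuasiCompact Y.hom]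
    (a : AlgGrp.Action G X) (π : X ⟶ Y) (hinv : a.act ≫ π = snd G X ≫ π) [Flat π.left] [Surjective π.left]
    (hcart : IsPullback (snd G X) a.act π π)
    (φ : X ≅ X) (hφ : φ.hom ≫ π = π) (hφeq : (G ◁ φ.hom) ≫ a.act = a.act ≫ φ.hom) :
    ∃! f : X ⟶ G, (∀ (S : Over (Spec (CommRingCat.of k))) (g : S ⟶ G) (x : S ⟶ X),
        lift g x ≫ a.act ≫ f = g * (x ≫ f) * g⁻¹) ∧ φ.hom = lift f (𝟙 X) ≫ a.act := by
  have w : 𝟙 X ≫ π = φ.hom ≫ π := by rw [Category.id_comp, hφ]
  let z : X ⟶ G ⊗ X := hcart.lift (𝟙 X) φ.hom w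
  have z1 : z ≫ snd G X = 𝟙 X := hcart.lift_fst _ _ _
  have z2 : z ≫ a.act = φ.hom := hcart.lift_snd _ _ _
  have hz : z = lift (z ≫ fst G X) (𝟙 X) := by
    apply CartesianMonoidalCategory.hom_ext <;> simp [z1]
  have huniq : ∀ {S : Over (Spec (CommRingCat.of k))} (g g' : S ⟶ G) (x : S ⟶ X),
      lift g x ≫ a.act = lift g' x ≫ a.act → g = g' := by
    intro S g g' x h
    have := hcart.hom_ext (show lift g x ≫ snd G X = lift g' x ≫ snd G X by rw [lift_snd, lift_snd]) h
    simpa using congrArg (· ≫ fst G X) this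
  refine ⟨z ≫ fst G X, ⟨fun S g x => ?_, by rw [← hz, z2]⟩, fun f hf => ?_⟩
  · let f := z ≫ fst G X
    have hf : φ.hom = lift f (𝟙 X) ≫ a.act := by rw [← hz, z2]
    have hx : ∀ {S : Over (Spec (CommRingCat.of k))} (x : S ⟶ X), x ≫ φ.hom = lift (x ≫ f) x ≫ a.act := by
      intro S x; rw [hf, comp_lift_assoc, Category.comp_id]
    show lift g x ≫ a.act ≫ f = g * (x ≫ f) * g⁻¹
    apply huniq _ _ (lift g x ≫ a.act)
    rw [← Category.assoc (lift g x), ← hx, Category.assoc, ← hφeq, lift_whiskerLeft_assoc, hx,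
      ← a.lift_mul_act, ← a.lift_mul_act, inv_mul_cancel_right]
  · apply huniq _ _ (𝟙 X)
    rw [← hz, z2, ← hf.2]

end Groth.Agent.S11418
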