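import Groth.Statements.S11420
import Groth.Agent.AlgGrp1.Blanchard
import Groth.Agent.AlgGrp1.Antiaffine

set_option autoImplicit false
universe u
open CategoryTheory MonoidalCategory CartesianMonoidalCategory MonObj GrpObj AlgebraicGeometry CategoryTheory.Limits
open AlgGrp

namespace Groth.Agent.S11420

/-- Over an algebraically closed field k, let X and Y be complete varieties (proper, integral, separated
k-schemes of finite type) and let a connected k-group scheme of finite type G act on X × Y. Then
there are unique actions of G on X and on Y such that the given action is the product action g·(x,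
y) = (g·x, g·y). (This is the form, for actions of connected group schemes, of the identification of
the neutral component of the automorphism group scheme of X × Y with the product of those of X and
Y; the representability of these group schemes is not asserted here.) -/
theorem result (k : Type u) [Field k] [IsAlgClosed k]
    (G X Y : Over (Spec (CommRingCat.of k))) [GrpObj G] [LocallyOfFiniteType G.hom] [QuasiCompact G.hom] [ConnectedSpace ↥G.left]
    [IsProper X.hom] [IsIntegral X.left]
    [IsProper Y.hom] [IsIntegral Y.left]
    (a : AlgGrp.Action G (X ⊗ Y)) :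
    ∃ (b : AlgGrp.Action G X) (c : AlgGrp.Action G Y),
      a.act = lift ((G ◁ fst X Y) ≫ b.act) ((G ◁ snd X Y) ≫ c.act) ∧
      ∀ (b' : AlgGrp.Action G X) (c' : AlgGrp.Action G Y),
        a.act = lift ((G ◁ fst X Y) ≫ b'.act) ((G ◁ snd X Y) ≫ c'.act) → b' = b ∧ c' = c := by
  have hprod : IsProper (X ⊗ Y).hom := by dsimp; infer_instance
  have key : ∀ (U V : Over (Spec (CommRingCat.of k))) [IsProper U.hom] [IsIntegral U.left]
      (B : V.left.Opens), IsAffineOpen B →
      IsIso ((pullback.fst V.hom U.hom).app B) := by
    intro U V _ _ B hB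
    obtain ⟨u⟩ := Groth.AlgGrp1.exists_point U
    have : IsIso (U.hom.app ⊤) := (Groth.AlgGrp1.hasConstFunctions_of_isIntegral u).isIso_appTop
    exact Groth.AlgGrp1.isIso_app_baseChange (IsPullback.of_hasPullback V.hom U.hom).flip
      (isAffineOpen_top _) hB (U := ⊤) le_top
  have key' : ∀ (U V : Over (Spec (CommRingCat.of k))) [IsProper U.hom] [IsIntegral U.left]
      (B : V.left.Opens), IsAffineOpen B → IsIso ((pullback.snd U.hom V.hom).app B) := by
    intro U V _ _ B hB
    obtain ⟨u⟩ := Groth.AlgGrp1.exists_point U
    have : IsIso (U.hom.app ⊤) := (Groth.AlgGrp1.hasConstFunctions_of_isIntegral u).isIso_appTop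
    exact Groth.AlgGrp1.isIso_app_baseChange (IsPullback.of_hasPullback U.hom V.hom)
      (isAffineOpen_top _) hB (U := ⊤) le_top
  have : IsProper (fst X Y).left := inferInstanceAs (IsProper (pullback.fst X.hom Y.hom))
  have : IsProper (snd X Y).left := inferInstanceAs (IsProper (pullback.snd X.hom Y.hom))
  obtain ⟨b, hb, hb'⟩ := Groth.AlgGrp1.existsUnique_action_descends (f := fst X Y) (key Y X) a
  obtain ⟨c, hc, hc'⟩ := Groth.AlgGrp1.existsUnique_action_descends (f := snd X Y) (key' X Y) a
  refine ⟨b, c, ?_, fun b' c' h => ⟨hb' b' ?_, hc' c' ?_⟩⟩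
  · apply CartesianMonoidalCategory.hom_ext <;> simp [hb, hc]
  · simp [h]
  · simp [h]

end Groth.Agent.S11420
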