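import Groth.Statements.S14578
import Groth.Agent.AlgGrp1.Antiaffine

set_option autoImplicit false
universe u
open CategoryTheory MonoidalCategory CartesianMonoidalCategory MonObj GrpObj AlgebraicGeometry CategoryTheory.Limits
open AlgGrp

namespace Groth.Agent.S14578

/-- Let k be a field, H an anti-affine k-group scheme of finite type (its only global functions are the
constants), G a k-group scheme of finite type and f : H → G a morphism of k-schemes with f(e_H) =
e_G. Then f is a homomorphism. (The second assertion, that f factors through the centre of the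
neutral component of G, is not restated here.) -/
theorem result (k : Type u) [Field k]
    (H G : Over (Spec (CommRingCat.of k))) [GrpObj H] [GrpObj G] [LocallyOfFiniteType H.hom] [QuasiCompact H.hom]
    [LocallyOfFiniteType G.hom] [QuasiCompact G.hom]
    (hH : Function.Bijective ((Scheme.ΓSpecIso (CommRingCat.of k)).inv ≫ H.hom.appTop).hom) (f : H ⟶ G) (hf : η[H] ≫ f = η[G]) : IsMonHom f := by
  have := Groth.AlgGrp1.HasConstFunctions.connectedSpace (X := H) hH
  let d : H ⊗ H ⟶ G := ((fst H H * snd H H) ≫ f) * ((fst H H ≫ f) * (snd H H ≫ f))⁻¹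
  have h1 : (1 : H ⟶ H) ≫ f = 1 := by
    rw [Hom.one_def, Category.assoc, hf]; rfl
  have hd : d = 1 := by
    refine Groth.AlgGrp1.pairing_eq_one hH η η d ?_ ?_
    · simp only [d, MonObj.comp_mul, GrpObj.comp_inv, lift_fst_assoc, lift_snd_assoc, ← Hom.one_def]
      rw [← Category.assoc, MonObj.comp_mul, lift_fst, lift_snd, _root_.mul_one, h1]
      simp [Category.id_comp]
    · simp only [d, MonObj.comp_mul, GrpObj.comp_inv, lift_fst_assoc, lift_snd_assoc, ← Hom.one_def]
      rw [← Category.assoc, MonObj.comp_mul, lift_fst, lift_snd, _root_.one_mul, h1]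
      simp [Category.id_comp]
  refine Groth.AlgGrp1.isMonHom_of_points f fun T a b => ?_
  have h := congrArg (fun r => lift a b ≫ r) hd
  simp only [d, MonObj.comp_mul, GrpObj.comp_inv, lift_fst_assoc, lift_snd_assoc, MonObj.comp_one] at h
  rw [← Category.assoc, MonObj.comp_mul, lift_fst, lift_snd, mul_inv_eq_one] at h
  exact h

end Groth.Agent.S14578
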