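import Groth.Statements.S11421
import Groth.Agent.AlgGrp1.Antiaffine
import Groth.Agent.S14578

set_option autoImplicit false
universe u
open CategoryTheory MonoidalCategory CartesianMonoidalCategory MonObj GrpObj AlgebraicGeometry CategoryTheory.Limits
open AlgGrp

namespace Groth.Agent.S11421

/-- Over an algebraically closed field k, let G be an algebraic group (smooth k-group scheme of finite
type) whose only global functions are the constants, H a connected algebraic group, S a connected
k-scheme of finite type and f : G × S → H a morphism of k-schemes. Then there are a unique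
k-morphism φ : S → H and a unique homomorphism ψ : G → H with f(g, s) = φ(s) · ψ(g) on points. (This
is the decomposition, over a connected base, behind the identification of the functor of morphisms
from G to H with H × Hom_gp(G, H); the published statement is the equivalence of representability of
that functor with anti-affineness of G, whose converse direction is not stated here.) -/
theorem result (k : Type u) [Field k] [IsAlgClosed k]
    (G H S : Over (Spec (CommRingCat.of k))) [GrpObj G] [Smooth G.hom] [QuasiCompact G.hom]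
    (hG : Function.Bijective ((Scheme.ΓSpecIso (CommRingCat.of k)).inv ≫ G.hom.appTop).hom)
    [GrpObj H] [Smooth H.hom] [QuasiCompact H.hom] [ConnectedSpace ↥H.left]
    [LocallyOfFiniteType S.hom] [QuasiCompact S.hom] [ConnectedSpace ↥S.left]
    (f : G ⊗ S ⟶ H) :
    ∃ (φ : S ⟶ H) (ψ : G ⟶ H), IsMonHom ψ ∧ f = (snd G S ≫ φ) * (fst G S ≫ ψ) ∧
      ∀ (φ' : S ⟶ H) (ψ' : G ⟶ H), IsMonHom ψ' → f = (snd G S ≫ φ') * (fst G S ≫ ψ') → φ' = φ ∧ ψ' = ψ := by
  obtain ⟨s₀⟩ := Groth.AlgGrp1.exists_point S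
  let φ : S ⟶ H := lift (toUnit S ≫ η[G]) (𝟙 S) ≫ f
  let ψ : G ⟶ H := (toUnit G ≫ s₀ ≫ φ)⁻¹ * (lift (𝟙 G) (toUnit G ≫ s₀) ≫ f)
  have hψ : η[G] ≫ ψ = η[H] := by
    have e : η[G] ≫ ψ = 1 := by
      have hu : ∀ {Z : Over (Spec (CommRingCat.of k))} (x : 𝟙_ _ ⟶ Z), η[G] ≫ toUnit G ≫ x = x :=
        fun x => by rw [← Category.assoc, toUnit_unique (η[G] ≫ toUnit G) (𝟙 _), Category.id_comp]
      have hu' : ∀ {Z : Over (Spec (CommRingCat.of k))} (x : 𝟙_ _ ⟶ Z), s₀ ≫ toUnit S ≫ x = x :=
        fun x => by rw [← Category.assoc, toUnit_unique (s₀ ≫ toUnit S) (𝟙 _), Category.id_comp]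
      simp only [ψ, φ, MonObj.comp_mul, GrpObj.comp_inv, comp_lift_assoc, Category.comp_id, hu, hu']
      simp
    rw [e, Hom.one_def, toUnit_unique (toUnit (𝟙_ _)) (𝟙 _), Category.id_comp]
  have hψm : IsMonHom ψ := Groth.Agent.S14578.result k G H hG ψ hψ
  let d : G ⊗ S ⟶ H := (snd G S ≫ φ)⁻¹ * f * (fst G S ≫ ψ)⁻¹
  have hd : d = 1 := by
    refine Groth.AlgGrp1.pairing_eq_one hG η[G] s₀ d ?_ ?_
    · simp only [d, ψ, MonObj.comp_mul, GrpObj.comp_inv, lift_fst_assoc, lift_snd_assoc, Category.id_comp,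
        Category.assoc]
      group
    · simp only [d, MonObj.comp_mul, GrpObj.comp_inv, lift_fst_assoc, lift_snd_assoc, Category.id_comp,
        Category.assoc, hψ]
      show φ⁻¹ * φ * (toUnit S ≫ η[H])⁻¹ = 1
      rw [← Hom.one_def]; group
  have hf : f = (snd G S ≫ φ) * (fst G S ≫ ψ) := by
    have h := hd
    simp only [d, mul_inv_eq_one, inv_mul_eq_iff_eq_mul] at h
    exact h
  refine ⟨φ, ψ, hψm, hf, fun φ' ψ' hψ' hf' => ?_⟩
  have h1 : η[G] ≫ ψ' = η[H] := IsMonHom.one_hom ψ'
  have hφ : φ' = φ := by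
    show φ' = lift (toUnit S ≫ η[G]) (𝟙 S) ≫ f
    rw [hf', MonObj.comp_mul, lift_snd_assoc, lift_fst_assoc, Category.id_comp, Category.assoc, h1,
      ← Hom.one_def, _root_.mul_one]
  subst hφ
  refine ⟨rfl, ?_⟩
  have h := congrArg (fun r => lift (𝟙 G) (toUnit G ≫ s₀) ≫ r) (hf'.symm.trans hf)
  simp only [MonObj.comp_mul, lift_snd_assoc, lift_fst_assoc, Category.id_comp] at h
  exact mul_left_cancel h

end Groth.Agent.S11421
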