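import Groth.Statements.S11424
import Groth.Agent.AlgGrp1.Basic
import Groth.Agent.EtaleBase.FpqcDescent

set_option autoImplicit false
universe u
open CategoryTheory MonoidalCategory CartesianMonoidalCategory MonObj GrpObj AlgebraicGeometry CategoryTheory.Limits
open AlgGrp

namespace Groth.Agent.S11424

/-- Over an algebraically closed field k, let G be an algebraic group (a smooth k-group scheme of finite
type), h : H → G a smooth affine closed normal subgroup, and q : G → Q a flat surjective
homomorphism of k-group schemes of finite type with kernel h (so Q = G/H). Then the quotient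
morphism q is affine. (The published statement is the equivalence between affineness of G and of
both H and G/H; this row states that the quotient morphism G → G/H is affine.) -/
theorem result (k : Type u) [Field k] [IsAlgClosed k]
    (G H Q : Over (Spec (CommRingCat.of k))) [GrpObj G] [Smooth G.hom] [QuasiCompact G.hom]
    [GrpObj H] (h : H ⟶ G) [IsMonHom h] [IsClosedImmersion h.left] [Smooth H.hom] [IsAffine H.left]
    [GrpObj Q] [LocallyOfFiniteType Q.hom] [QuasiCompact Q.hom]
    (q : G ⟶ Q) [IsMonHom q] [Surjective q.left] [Flat q.left] (hk : AlgGrp.IsKernel h q) :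
    IsAffineHom q.left := by
  have sq : IsPullback (fst G H) (fst G H * (snd G H ≫ h)) q q := by
    have w : fst G H ≫ q = (fst G H * (snd G H ≫ h)) ≫ q := by
      rw [MonObj.mul_comp, Category.assoc, Groth.AlgGrp1.IsKernel.comp_eq_one hk, MonObj.comp_one,
        _root_.mul_one]
    have cond : ∀ s : PullbackCone q q, (s.fst⁻¹ * s.snd) ≫ q = 1 := fun s => by
      rw [MonObj.mul_comp, GrpObj.inv_comp, s.condition, inv_mul_cancel]
    refine ⟨⟨w⟩, ⟨PullbackCone.IsLimit.mk _
      (fun s => lift s.fst (Groth.AlgGrp1.IsKernel.exists_lift hk _ (cond s)).choose) ?_ ?_ ?_⟩⟩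
    · intro s; exact lift_fst _ _
    · intro s
      rw [MonObj.comp_mul, lift_fst, lift_snd_assoc,
        (Groth.AlgGrp1.IsKernel.exists_lift hk _ (cond s)).choose_spec, mul_inv_cancel_left]
    · intro s m hm hm'
      have := Groth.AlgGrp1.IsKernel.mono hk
      apply CartesianMonoidalCategory.hom_ext
      · simpa using hm
      · rw [lift_snd, ← cancel_mono h, Category.assoc,
          (Groth.AlgGrp1.IsKernel.exists_lift hk _ (cond s)).choose_spec, ← hm, ← hm', MonObj.comp_mul,
          inv_mul_cancel_left]
  have sq' := sq.map (Over.forget _)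
  have : IsAffineHom H.hom := inferInstance
  have h1 : IsAffineHom (fst G H).left := isAffineHom_isStableUnderBaseChange.of_isPullback (IsPullback.of_hasPullback G.hom H.hom).flip ‹IsAffineHom H.hom›
  have hq : QuasiCompact q.left := by
    have := Groth.AlgGrp1.isSeparated_grpObj Q
    have : QuasiCompact (q.left ≫ Q.hom) := by rw [Over.w q]; infer_instance
    exact QuasiCompact.of_comp q.left Q.hom
  exact MorphismProperty.of_isPullback_of_descendsAlong (P := @IsAffineHom) (Q := Groth.EtaleBase.Fpqc)
    sq' ⟨⟨‹Surjective q.left›, ‹Flat q.left›⟩, hq⟩ h1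

end Groth.Agent.S11424
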