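import Groth.Statements.S11428
import Groth.Agent.GitGeomQuot.Basic

set_option autoImplicit false
universe u
open CategoryTheory MonoidalCategory CartesianMonoidalCategory MonObj GrpObj AlgebraicGeometry Topology
open GIT

namespace Groth.Agent.S11428
open CategoryTheory.Limits

/-- If (Y, φ) is a geometric quotient of X by G over S, then Y is separated over S exactly when the
action is separated, i.e. the image of (σ, p₂) : G ×_S X → X ×_S X is closed. -/
theorem result (S : Scheme.{u}) (G X Y : Over S) [GrpObj G]
    (a : AlgGrp.Action G X) (φ : X ⟶ Y) (h : GIT.IsGeomQuot a φ) :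
    IsSeparated Y.hom ↔ IsClosed (Set.range (GIT.psi a (𝟙 X)).left.base) := by
  have hr := Groth.Agent.GitGeomQuot.range_psi h.inv h.orbit (𝟙 X)
  have hquot : IsQuotientMap (Groth.Agent.GitGeomQuot.mapLeft φ X).base := by
    exact h.subm _ _ _ (Groth.Agent.GitGeomQuot.isPullback_mapLeft φ X).flip
  let M : pullback Y.hom X.hom ⟶ pullback Y.hom Y.hom :=
    pullback.lift (pullback.fst _ _) (pullback.snd _ _ ≫ φ.left)
      (by rw [Category.assoc, Over.w φ, pullback.condition])
  have hM1 : M ≫ pullback.fst _ _ = pullback.fst _ _ := pullback.lift_fst _ _ _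
  have hM2 : M ≫ pullback.snd _ _ = pullback.snd _ _ ≫ φ.left := pullback.lift_snd _ _ _
  have hM : IsPullback (pullback.snd Y.hom X.hom) M φ.left (pullback.snd Y.hom Y.hom) := by
    refine IsPullback.of_bot (h₁₁ := pullback.snd Y.hom X.hom) ?_ (pullback.lift_snd _ _ _).symm
      (IsPullback.of_hasPullback Y.hom Y.hom).flip
    simp only [hM1, Over.w φ]
    exact (IsPullback.of_hasPullback Y.hom X.hom).flip
  have hgr : Set.range (Groth.Agent.GitGeomQuot.graph (𝟙 X ≫ φ)).base =
      M.base ⁻¹' Set.range (pullback.diagonal Y.hom).base := by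
    apply subset_antisymm
    · rintro _ ⟨x, rfl⟩
      refine ⟨φ.left.base x, ?_⟩
      have e : φ.left ≫ pullback.diagonal Y.hom =
          Groth.Agent.GitGeomQuot.graph (𝟙 X ≫ φ) ≫ M := by
        apply pullback.hom_ext <;> simp [hM1, hM2, Over.comp_left]
      rw [← Scheme.Hom.comp_apply, ← Scheme.Hom.comp_apply, e]
    · rintro z ⟨y, hy⟩
      obtain ⟨r, hr1, -⟩ := Scheme.Pullback.exists_preimage_pullback (f := M)
        (g := pullback.diagonal Y.hom) z y hy.symm
      subst hr1
      have c := pullback.condition (f := M) (g := pullback.diagonal Y.hom)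
      have c1 := c =≫ pullback.fst _ _
      have c2 := c =≫ pullback.snd _ _
      simp only [Category.assoc, hM1, hM2, pullback.diagonal_fst,
        pullback.diagonal_snd, Category.comp_id] at c1 c2
      have e : (pullback.fst M (pullback.diagonal Y.hom) ≫ pullback.snd Y.hom X.hom) ≫
          Groth.Agent.GitGeomQuot.graph (𝟙 X ≫ φ) = pullback.fst M (pullback.diagonal Y.hom) := by
        apply pullback.hom_ext
        · simpa using c2.trans c1.symm
        · simp
      exact ⟨(pullback.fst M (pullback.diagonal Y.hom) ≫ pullback.snd Y.hom X.hom).base r,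
        by rw [← Scheme.Hom.comp_apply, e]⟩
  rw [hr, hgr, ← Set.preimage_comp]
  constructor
  · intro hs
    exact (pullback.diagonal Y.hom).isClosedEmbedding.isClosed_range.preimage
      ((Scheme.Hom.continuous M).comp (Scheme.Hom.continuous _))
  · intro hc
    have hq : IsQuotientMap (M.base ∘ (Groth.Agent.GitGeomQuot.mapLeft φ X).base) :=
      (h.subm _ _ _ hM.flip).comp hquot
    exact ⟨IsClosedImmersion.of_isPreimmersion _ (hq.isClosed_preimage.mp hc)⟩

end Groth.Agent.S11428
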