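import Groth.Statements.S1143
import Groth.Agent.Misc12.SplitExt.Core
import Groth.Agent.Hensel1.Transfer
import Groth.Agent.Pi1FEt.SpecEquiv

set_option autoImplicit false
universe u
open Pi1

open TensorProduct Opposite CommAlgCat

namespace Groth.Agent.S1143

open AlgebraicGeometry CategoryTheory CategoryTheory.Limits in
/-- A finite etale K-scheme that splits over L comes from a finite etale A-scheme (this is the
essential-image part of exactness of the sequence π₁(Spec L) → π₁(Spec K) → π₁(Spec A) → 1; the
surjectivity and composition parts of the exact sequence are separate facts). Let A be a normal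
local domain with fraction field K, let R be a strict henselization of A (with A → R local) and L a
fraction field of R, with compatible algebra structures (A → K → L and A → R → L agree). If V is
finite etale over Spec K and its base change to Spec L is split (a finite disjoint union of copies
of Spec L), then V is isomorphic to the restriction to Spec K of a finite etale cover Y of Spec A
(only the existence of such Y and of an isomorphism is asserted). -/
theorem result (A : Type u) [CommRing A] [IsDomain A]
    [IsLocalRing A] [IsIntegrallyClosed A] (R : Type u) [CommRing R] [IsLocalRing R] [Algebra A R] [IsLocalHom (algebraMap A R)] [Hensel.IsStrictHenselization A R]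
    (K L : Type u) [Field K] [Field L] [Algebra A K] [IsFractionRing A K] [Algebra R L] [IsFractionRing R L]
    [Algebra K L] [Algebra A L] [IsScalarTower A K L] [IsScalarTower A R L]
    (V : FEt.Cat (Spec (CommRingCat.of K)))
    (hV : Pi1.IsSplit ((FEt.restrict (Spec.map (CommRingCat.ofHom (algebraMap K L)))).obj V)) :
    ∃ Y : FEt.Cat (Spec (CommRingCat.of A)),
      Nonempty ((FEt.restrict (Spec.map (CommRingCat.ofHom (algebraMap A K)))).obj Y ≅ V) := by
  obtain ⟨M⟩ := Groth.Hensel1.hensModel_of_isStrictHenselization (R := A) (S := R)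
  obtain ⟨_, _⟩ := M.normal_iff.mp ⟨‹_›, ‹_›⟩
  have : Module.FaithfullyFlat A R := M.faithfullyFlat
  have : Algebra.IsAlgebraic A R :=
    have := Groth.Misc12.SplitExt.isAlgebraic_hens (A := A) M.Ω
    M.equiv.isAlgebraic
  have hR : ∀ (E : Type u) [CommRing E] [Algebra A E] [Module.Flat A E] (x : R ⊗[A] E),
      IsIntegral R x →
        x ∈ Set.range (Algebra.TensorProduct.map (AlgHom.id A R) (integralClosure A E).val) := by
    intro E _ _ _ x hx
    let f : R ⊗[A] E →ₐ[A] Groth.Hensel1.Hens A M.Ω ⊗[A] E :=
      Algebra.TensorProduct.map M.equiv.symm.toAlgHom (AlgHom.id A E)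
    obtain ⟨w, hw⟩ := Groth.Misc12.SplitExt.mem_range_of_isIntegral_hens (A := A) M.Ω E (f x)
      (hx.map_of_comp_eq M.equiv.symm.toAlgHom.toRingHom f.toRingHom (by
        ext r
        simp [f, Algebra.TensorProduct.algebraMap_apply]))
    refine ⟨Algebra.TensorProduct.map M.equiv.toAlgHom (AlgHom.id A _) w, ?_⟩
    have hinj : Function.Injective f :=
      Function.LeftInverse.injective (g := Algebra.TensorProduct.map M.equiv.toAlgHom (AlgHom.id A E))
        fun y => by
          induction y with
          | zero => simp
          | tmul a b => simp [f]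
          | add a b ha hb => rw [map_add, map_add, ha, hb]
    apply hinj
    rw [← hw]
    clear hw
    induction w with
    | zero => simp
    | tmul a b => simp [f]
    | add a b ha hb => simp only [map_add, ha, hb]
  -- the algebra of `V`
  let E₀ := ((Groth.Pi1FEt.specFun K).objPreimage V).unop
  let eV : (Groth.Pi1FEt.specFun K).obj (op E₀) ≅ V := (Groth.Pi1FEt.specFun K).objObjPreimageIso V
  let eL : (Groth.Pi1FEt.specFun L).obj (op ((FiniteEtale.baseChange.{u, u} K L).obj E₀)) ≅
      (FEt.restrict (Spec.map (CommRingCat.ofHom (algebraMap K L)))).obj V :=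
    (Groth.Pi1FEt.specFunPullbackIso K L).app (op E₀) ≪≫ (FEt.restrict _).mapIso eV
  obtain ⟨ι, hι, e, he⟩ := hV
  have := hι
  have hs : IsIso (sigmaSpec fun _ : ι => CommRingCat.of.{u} L) := inferInstance
  let eS : (FEt.restrict (Spec.map (CommRingCat.ofHom (algebraMap K L)))).obj V ≅
      (Groth.Pi1FEt.specFun L).obj (op (FiniteEtale.of L (ι → L))) :=
    MorphismProperty.Over.isoMk
      (e ≪≫ @asIso _ _ _ _ (sigmaSpec fun _ : ι => CommRingCat.of.{u} L) hs) (by
        rw [Iso.trans_hom, Category.assoc, ← Iso.eq_inv_comp]
        refine Sigma.hom_ext _ _ fun i => ?_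
        rw [he, asIso_hom]
        erw [ι_sigmaSpec_assoc]
        show Spec.map _ ≫ Spec.map (CommRingCat.ofHom (algebraMap L (ι → L))) = _
        rw [← Spec.map_comp, ← Spec.map_id]
        rfl)
  let eA := CommAlgCat.algEquivOfIso
    ((ObjectProperty.ι _).mapIso ((Groth.Pi1FEt.specFun L).preimageIso (eL ≪≫ eS)).unop)
  let _ : Algebra A E₀.obj := Algebra.compHom _ (algebraMap A K)
  have : IsScalarTower A K E₀.obj := IsScalarTower.of_algebraMap_eq fun _ => rfl
  obtain ⟨hfin, het, ⟨μ⟩⟩ := Groth.Misc12.SplitExt.finite_etale_integralClosure R hR K L E₀.obj eA.symm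
  let B₀ : FiniteEtale.{u} A := FiniteEtale.of A (integralClosure A E₀.obj)
  refine ⟨(Groth.Pi1FEt.specFun A).obj (op B₀), ⟨?_⟩⟩
  exact ((Groth.Pi1FEt.specFunPullbackIso A K).app (op B₀)).symm ≪≫
    (Groth.Pi1FEt.specFun K).mapIso
      (FiniteEtale.isoMk (S := E₀) (T := (FiniteEtale.baseChange.{u, u} A K).obj B₀) μ.symm).op ≪≫ eV

end Groth.Agent.S1143
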