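import Groth.Statements.S11434
import Groth.Agent.GrpschAbsch.RigidityNoeth

set_option autoImplicit false
universe u
open CategoryTheory MonoidalCategory CartesianMonoidalCategory MonObj GrpObj AlgebraicGeometry Topology
open GIT

namespace Groth.Agent.S11434

theorem constFibre {X S : Scheme.{u}} (p : X ⟶ S)
    (h0 : ∀ s : S, Function.Bijective (Limits.pullback.snd p (S.fromSpecResidueField s)).appTop) (s : S) :
    Groth.GrpschAbsch.Rigid.ConstFibre p s :=
  (h0 s).2.comp (ConcreteCategory.bijective_of_isIso (Scheme.ΓSpecIso (S.residueField s)).inv).2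

theorem surjective {X S : Scheme.{u}} (p : X ⟶ S)
    (h0 : ∀ s : S, Function.Bijective (Limits.pullback.snd p (S.fromSpecResidueField s)).appTop) : Surjective p := by
  refine ⟨fun s ↦ ?_⟩
  by_contra h
  have : IsEmpty ↥(Limits.pullback p (S.fromSpecResidueField s)) := ⟨fun z ↦ h ⟨Limits.pullback.fst p (S.fromSpecResidueField s) z, by
    rw [← Scheme.Hom.comp_apply, Limits.pullback.condition, Scheme.Hom.comp_apply]
    exact Scheme.fromSpecResidueField_apply _ _⟩⟩
  have : Subsingleton Γ(Limits.pullback p (S.fromSpecResidueField s), ⊤) :=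
    inferInstance
  exact not_subsingleton (S.residueField s) ((h0 s).1.comp (ConcreteCategory.bijective_of_isIso (Scheme.ΓSpecIso (S.residueField s)).inv).1).subsingleton


/-- Let S, X, Y be locally Noetherian, p : X → S flat, q : Y → S separated, f : X → Y over S, with S
connected and κ(s) → H⁰(X_s, O_{X_s}) bijective for every point s of S; assume either that p is
proper, or that p is a closed map and has a section. If f collapses one fibre p⁻¹(s) to a single
point, then f = t ∘ p for a section t of q. (The published statement assumes all schemes separated;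
this row assumes only that q is separated, which is what the proof uses.) -/
theorem result (S X Y : Scheme.{u}) [IsLocallyNoetherian S] [IsLocallyNoetherian X]
    [IsLocallyNoetherian Y] (p : X ⟶ S) (q : Y ⟶ S) (f : X ⟶ Y) (hf : f ≫ q = p) [Flat p] [IsSeparated q]
    [ConnectedSpace S]
    (h0 : ∀ s : S, Function.Bijective (Limits.pullback.snd p (S.fromSpecResidueField s)).appTop)
    (hp : IsProper p ∨ (IsClosedMap p.base ∧ ∃ e : S ⟶ X, e ≫ p = 𝟙 S))
    (s : S) (hs : ∀ x x' : X, p.base x = s → p.base x' = s → f.base x = f.base x') :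
    ∃ t : S ⟶ Y, t ≫ q = 𝟙 S ∧ f = p ≫ t := by
  have hc := constFibre p h0
  have : Surjective p := surjective p h0
  have hs' : s ∈ Groth.GrpschAbsch.Rigid.collapseSet p f := by
    rintro _ ⟨x, hx, rfl⟩ _ ⟨x', hx', rfl⟩
    exact hs x x' hx hx'
  suffices h : ∃ σ, p ≫ σ = f ∧ σ ≫ q = 𝟙 S by
    obtain ⟨σ, h1, h2⟩ := h
    exact ⟨σ, h2, h1.symm⟩
  rcases hp with hp | ⟨hcl, e, he⟩
  · obtain ⟨σ, hσ⟩ := Groth.GrpschAbsch.Rigid.exists_desc_of_connected p f q hf hc hs'
    have : Epi p := Flat.epi_of_flat_of_surjective p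
    exact ⟨σ, hσ, by rw [← cancel_epi p, reassoc_of% hσ, hf, Category.comp_id]⟩
  · obtain ⟨σ, hσ⟩ := Groth.GrpschAbsch.Rigid.exists_desc_of_connected_section p f q hf hc hcl e he hs'
    exact ⟨σ, hσ, by rw [← Category.id_comp (σ ≫ q), ← he, Category.assoc, reassoc_of% hσ, hf]⟩

end Groth.Agent.S11434
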