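import Groth.Statements.S11435
import Mathlib
import Groth.Agent.AlgGrp1.OrbitScheme
import Groth.Agent.EtaleBase.FpqcDescent
import Groth.Agent.AlgGrp2.Basic

set_option autoImplicit false
universe u
open CategoryTheory MonoidalCategory CartesianMonoidalCategory MonObj GrpObj AlgebraicGeometry Topology
open GIT

namespace Groth.Agent.S11435
open CategoryTheory.Limits (pullback)

/-- Over an algebraically closed field k, let a group scheme G of finite type act on a scheme X of
finite type and let x be a k-rational point of X. Then the orbit morphism ψ_x : G × Spec k → X ×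
Spec k, g ↦ (g · x, pt), is proper if and only if the orbit of x (the image of ψ_x) is closed and
the stabilizer of x (the fibre of ψ_x over (x, pt)) is proper over k. -/
theorem result (k : Type u) [Field k] [IsAlgClosed k]
    (G X : Over (Spec (CommRingCat.of k))) [GrpObj G] [LocallyOfFiniteType G.hom] [QuasiCompact G.hom]
    [LocallyOfFiniteType X.hom] [QuasiCompact X.hom] (a : AlgGrp.Action G X)
    (x : 𝟙_ (Over (Spec (CommRingCat.of k))) ⟶ X) :
    IsProper (GIT.psi a x).left ↔
      IsClosed (Set.range (GIT.psi a x).left.base) ∧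
        IsProper (Limits.pullback.snd (GIT.psi a x).left (lift x (𝟙 (𝟙_ (Over (Spec (CommRingCat.of k)))))).left ≫
          (𝟙_ (Over (Spec (CommRingCat.of k)))).hom) := by
  let E1 := 𝟙_ (Over (Spec (CommRingCat.of k)))
  let f := a.orbitMap x
  haveI : IsIso (fst G E1) := by rw [← rightUnitor_hom]; infer_instance
  haveI : IsIso (fst X E1) := by rw [← rightUnitor_hom]; infer_instance
  haveI : IsIso (fst G E1).left := inferInstanceAs (IsIso ((Over.forget _).map (fst G E1)))
  haveI : IsIso (fst X E1).left := inferInstanceAs (IsIso ((Over.forget _).map (fst X E1)))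
  haveI : IsIso (E1).hom := inferInstanceAs (IsIso (𝟙 (Spec (CommRingCat.of k))))
  have hpsi : GIT.psi a x ≫ fst X E1 = fst G E1 ≫ f := by
    have h1 : fst G E1 ≫ lift (𝟙 G) (toUnit G ≫ x) = G ◁ x := by
      apply CartesianMonoidalCategory.hom_ext
      · simp [E1]
      · simp only [Category.assoc, lift_snd, whiskerLeft_snd]
        rw [← Category.assoc]; congr 1; exact toUnit_unique _ _
    rw [GIT.psi, lift_fst, ← h1, Category.assoc]
    rfl
  have hx : lift x (𝟙 E1) ≫ fst X E1 = x := lift_fst _ _
  have hpsi' := congrArg (fun m => m.left) hpsi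
  have hx' := congrArg (fun m => m.left) hx
  simp only [Over.comp_left] at hpsi' hx'
  have hP : IsProper (GIT.psi a x).left ↔ IsProper f.left := by
    rw [← MorphismProperty.cancel_right_of_respectsIso @IsProper (GIT.psi a x).left (fst X E1).left,
      hpsi', MorphismProperty.cancel_left_of_respectsIso @IsProper]
  have hR : Set.range f.left.base = (fst X E1).left.base '' Set.range (GIT.psi a x).left.base := by
    rw [← Set.range_comp]
    have : ((fst G E1).left ≫ f.left).base = ((GIT.psi a x).left ≫ (fst X E1).left).base := by rw [hpsi']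
    refine Eq.trans ?_ (congrArg (fun m => Set.range (ConcreteCategory.hom m)) this)
    simp only [Scheme.Hom.comp_base, TopCat.coe_comp]
    rw [Function.Surjective.range_comp (fst G E1).left.surjective]
  -- the stabiliser
  obtain ⟨P, p₁, p₂, sq⟩ : ∃ (P : Over (Spec (CommRingCat.of k))) (p₁ : P ⟶ G) (p₂ : P ⟶ E1),
      IsPullback p₁ p₂ f x := ⟨_, _, _, IsPullback.of_hasPullback f x⟩
  have hsq := sq.map (Over.forget _)
  have hS : IsPullback ((fst G E1).left) ((GIT.psi a x).left) f.left (fst X E1).left :=
    IsPullback.of_horiz_isIso ⟨hpsi'.symm⟩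
  have hS2 : IsPullback (Limits.pullback.fst (GIT.psi a x).left (lift x (𝟙 E1)).left ≫ (fst G E1).left)
      (Limits.pullback.snd (GIT.psi a x).left (lift x (𝟙 E1)).left) f.left x.left := by
    have := (IsPullback.of_hasPullback (GIT.psi a x).left (lift x (𝟙 E1)).left).flip.paste_vert hS.flip
    rw [hx'] at this
    exact this.flip
  have hstab : IsProper (Limits.pullback.snd (GIT.psi a x).left (lift x (𝟙 E1)).left ≫ E1.hom) ↔
      IsProper P.hom := by
    rw [← Over.w p₂]
    have e : hS2.isoPullback.hom ≫ hsq.isoPullback.inv ≫ p₂.left =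
        Limits.pullback.snd (GIT.psi a x).left (lift x (𝟙 E1)).left := by
      erw [hsq.isoPullback_inv_snd, hS2.isoPullback_hom_snd]
    rw [← e, Category.assoc, Category.assoc]
    exact (MorphismProperty.cancel_left_of_respectsIso @IsProper _ _).trans
      (MorphismProperty.cancel_left_of_respectsIso @IsProper _ _)
  constructor
  · intro h
    refine ⟨(GIT.psi a x).left.isClosedMap.isClosed_range, ?_⟩
    haveI : IsProper (Limits.pullback.snd (GIT.psi a x).left (lift x (𝟙 E1)).left) :=
      MorphismProperty.pullback_snd _ _ h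
    exact (MorphismProperty.cancel_right_of_respectsIso @IsProper _ _).mpr this
  · rintro ⟨hcl, hst⟩
    rw [hP]
    have hPh := hstab.mp hst
    have : Mono p₁ := ⟨fun u v h => sq.hom_ext h (toUnit_unique _ _)⟩
    have hx1 : ∀ {T : Over (Spec (CommRingCat.of k))} (u : T ⟶ G),
        u ≫ f = toUnit T ≫ x ↔ lift u (toUnit T ≫ x) ≫ a.act = toUnit T ≫ x := fun u => by
      simp [f, AlgGrp.Action.orbitMap, comp_lift_assoc]
    obtain ⟨_, hp⟩ := Groth.Agf.exists_grpObj_of_subgroup p₁ (fun T u => u ≫ f = toUnit T ≫ x)
      (fun T u => ⟨fun ⟨z, hz⟩ => by rw [← hz, Category.assoc, sq.w, ← Category.assoc,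
          toUnit_unique (z ≫ p₂) (toUnit T)],
        fun hu => ⟨sq.lift u (toUnit T) hu, sq.lift_fst _ _ _⟩⟩)
      (fun T => by rw [hx1, a.lift_one_act])
      (fun T u v hu hv => by
        rw [hx1] at hu hv ⊢
        rw [a.lift_mul_act, hv, hu])
      (fun T u hu => by
        rw [hx1] at hu ⊢
        conv_lhs => rw [← hu]
        rw [← a.lift_mul_act, inv_mul_cancel, a.lift_one_act])
    have hGo : IsPullback p₁ (toUnit P) (a.orbitMap x) x := by
      rw [toUnit_unique (toUnit P) p₂]; exact sq
    obtain ⟨X', b, x', j, hj, -, -, hqc, ⟨hlft, hflat, hsurj, hpb⟩, horb⟩ :=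
      Groth.AlgGrp1.exists_isQuotient_stabilizer a x p₁ hGo
    have horb' : (b.orbitMap x').left ≫ j.left = f.left := congrArg (fun m => m.left) horb
    haveI : IsClosedImmersion j.left := by
      refine IsClosedImmersion.of_isPreimmersion _ ?_
      have : Set.range j.left.base = Set.range f.left.base := by
        rw [← horb', Scheme.Hom.comp_base, TopCat.coe_comp,
          Function.Surjective.range_comp hsurj.surj]
      rw [this, hR]
      exact (fst X E1).left.homeomorph.isClosedMap _ hcl
    have hfst : IsProper (fst G P).left :=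
      MorphismProperty.of_isPullback (Groth.AlgGrp2.isPullback_fst_snd G P).flip hPh
    haveI : QuasiCompact (b.orbitMap x').left := by
      have : QuasiCompact f.left := by
        have : IsLocallyNoetherian X.left := LocallyOfFiniteType.isLocallyNoetherian X.hom
        have : QuasiCompact (f.left ≫ X.hom) := by rw [Over.w]; infer_instance
        exact QuasiCompact.of_comp _ X.hom
      have : QuasiCompact ((b.orbitMap x').left ≫ j.left) := by rw [horb']; infer_instance
      exact QuasiCompact.of_comp _ j.left
    haveI : IsProper (b.orbitMap x').left :=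
      MorphismProperty.of_isPullback_of_descendsAlong (P := @IsProper) (Q := Groth.EtaleBase.Fpqc)
        (hpb.map (Over.forget _)) ⟨⟨hsurj, hflat⟩, inferInstanceAs (QuasiCompact (b.orbitMap x').left)⟩ hfst
    rw [← horb']
    exact inferInstanceAs (IsProper ((b.orbitMap x').left ≫ j.left))

end Groth.Agent.S11435
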