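import Groth.Statements.S11438
import Groth.Agent.S11434
import Mathlib.CategoryTheory.Monoidal.Cartesian.Over

set_option autoImplicit false
universe u
open CategoryTheory MonoidalCategory CartesianMonoidalCategory MonObj GrpObj AlgebraicGeometry Topology
open GIT

open CartesianMonoidalCategory GrpObj
namespace Groth.Agent.S11438

/-- Let S be connected and locally Noetherian, G a locally Noetherian group scheme separated over S, X →
S proper and flat with κ(s) → H⁰(X_s, O_{X_s}) bijective for every s, and f, g : X → G morphisms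
over S which agree on one fibre X_s. Then there is a section t of G over S with f = (t ∘ p) · g, the
product taken in the group of X-valued points of G. -/
theorem result (S : Scheme.{u}) [IsLocallyNoetherian S] [ConnectedSpace S]
    (X G : Over S) [GrpObj G] [IsLocallyNoetherian G.left] [IsSeparated G.hom] [IsProper X.hom] [Flat X.hom]
    (h0 : ∀ s : S, Function.Bijective (Limits.pullback.snd X.hom (S.fromSpecResidueField s)).appTop)
    (f g : X ⟶ G) (s : S)
    (hs : Limits.pullback.fst X.hom (S.fromSpecResidueField s) ≫ f.left =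
      Limits.pullback.fst X.hom (S.fromSpecResidueField s) ≫ g.left) :
    ∃ t : 𝟙_ (Over S) ⟶ G, f = (toUnit X ≫ t) * g := by
  have hc := Groth.Agent.S11434.constFibre X.hom h0
  have : Surjective X.hom := Groth.Agent.S11434.surjective X.hom h0
  let d : X ⟶ G := f * g⁻¹
  let k : Over.mk (X.hom.fiberι s ≫ X.hom) ⟶ X := Over.homMk (X.hom.fiberι s) rfl
  have hk : k ≫ d = 1 := by
    show k ≫ (f * g⁻¹) = 1
    rw [MonObj.comp_mul, GrpObj.comp_inv, show k ≫ f = k ≫ g from Over.OverMorphism.ext hs, mul_inv_cancel]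
  have hs' : s ∈ Groth.GrpschAbsch.Rigid.collapseSet X.hom d.left := by
    have hpt : ∀ x, X.hom x = s → d.left x = (η[G] : 𝟙_ (Over S) ⟶ G).left s := by
      intro x hx
      obtain ⟨w, rfl⟩ : x ∈ Set.range (X.hom.fiberι s) := by rw [Scheme.Hom.range_fiberι]; exact hx
      have h := congr(($hk).left w)
      simp only [Over.comp_left, Scheme.Hom.comp_apply] at h
      refine h.trans ?_
      rw [Hom.one_def]
      show η[G].left ((X.hom.fiberι s ≫ X.hom) w) = _
      rw [Scheme.Hom.comp_apply, hx]
    rintro _ ⟨x₁, hx₁, rfl⟩ _ ⟨x₂, hx₂, rfl⟩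
    rw [hpt x₁ hx₁, hpt x₂ hx₂]
  obtain ⟨σ, hσ⟩ := Groth.GrpschAbsch.Rigid.exists_desc_of_connected X.hom d.left G.hom (Over.w d) hc hs'
  have : Epi X.hom := Flat.epi_of_flat_of_surjective X.hom
  let t : 𝟙_ (Over S) ⟶ G := Over.homMk σ (by
    show σ ≫ G.hom = 𝟙 S
    rw [← cancel_epi X.hom, reassoc_of% hσ, Over.w d, Category.comp_id])
  refine ⟨t, ?_⟩
  rw [show toUnit X ≫ t = d from Over.OverMorphism.ext hσ]
  simp [d]

end Groth.Agent.S11438
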