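import Groth.Statements.S11439
import Groth.Agent.S11434
import Mathlib.CategoryTheory.Monoidal.Cartesian.Over

set_option autoImplicit false
universe u
open CategoryTheory MonoidalCategory CartesianMonoidalCategory MonObj GrpObj AlgebraicGeometry Topology
open GIT

open CartesianMonoidalCategory GrpObj
namespace Groth.Agent.S11439

/-- Let S be locally Noetherian, G a locally Noetherian group scheme separated over S, X → S proper and
flat with κ(s) → H⁰(X_s, O_{X_s}) bijective for every s, and Y connected, locally Noetherian,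
separated over S with a section over S. Then every morphism f : X ×_S Y → G over S factors as f = (g
∘ p₁) · (h ∘ p₂) with g : X → G and h : Y → G. -/
theorem result (S : Scheme.{u}) [IsLocallyNoetherian S]
    (X Y G : Over S) [GrpObj G] [IsLocallyNoetherian G.left] [IsSeparated G.hom] [IsProper X.hom] [Flat X.hom]
    (h0 : ∀ s : S, Function.Bijective (Limits.pullback.snd X.hom (S.fromSpecResidueField s)).appTop)
    [IsLocallyNoetherian Y.left] [IsSeparated Y.hom] [ConnectedSpace Y.left] (e : 𝟙_ (Over S) ⟶ Y)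
    (f : X ⊗ Y ⟶ G) :
    ∃ (g : X ⟶ G) (h : Y ⟶ G), f = (fst X Y ≫ g) * (snd X Y ≫ h) := by
  let i : X ⟶ X ⊗ Y := lift (𝟙 X) (toUnit X ≫ e)
  let g : X ⟶ G := i ≫ f
  let d : X ⊗ Y ⟶ G := (fst X Y ≫ g)⁻¹ * f
  have hid : i ≫ d = 1 := by
    show i ≫ ((fst X Y ≫ g)⁻¹ * f) = 1
    rw [MonObj.comp_mul, GrpObj.comp_inv, lift_fst_assoc, Category.id_comp]
    exact inv_mul_cancel g
  let ξ : (X ⊗ Y).left ⟶ Y.left := (snd X Y).left
  have : IsProper ξ := inferInstanceAs (IsProper (Limits.pullback.snd X.hom Y.hom))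
  have : Flat ξ := inferInstanceAs (Flat (Limits.pullback.snd X.hom Y.hom))
  have : Surjective X.hom := Groth.Agent.S11434.surjective X.hom h0
  have : Surjective ξ := MorphismProperty.pullback_snd (P := @Surjective) X.hom Y.hom ‹_›
  have hc : ∀ y, Groth.GrpschAbsch.Rigid.ConstFibre ξ y := fun y ↦
    Groth.GrpschAbsch.Rigid.constFibre_baseChange (p := (fst X Y).left) (f := X.hom) (q := Y.hom)
      (IsPullback.of_hasPullback X.hom Y.hom) y (Groth.Agent.S11434.constFibre X.hom h0 _)
  have hd : d.left ≫ G.hom = ξ ≫ Y.hom := (Over.w d).trans (Over.w (snd X Y)).symm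
  let π : (X ⊗ Y).left ⟶ Limits.pullback G.hom Y.hom := Limits.pullback.lift d.left ξ hd
  have he : e.left ≫ Y.hom = 𝟙 S := Over.w e
  have sq : IsPullback i.left X.hom ξ e.left := by
    refine IsPullback.of_right ?_ ?_ (IsPullback.of_hasPullback X.hom Y.hom)
    · rw [show i.left ≫ Limits.pullback.fst X.hom Y.hom = 𝟙 X.left from
        congr(($(lift_fst (𝟙 X) (toUnit X ≫ e))).left), he]
      exact IsPullback.of_horiz_isIso ⟨by simp⟩
    · exact congr(($(lift_snd (𝟙 X) (toUnit X ≫ e))).left)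
  have heG : η[G].left ≫ G.hom = e.left ≫ Y.hom := (Over.w η[G]).trans he.symm
  have hiπ : i.left ≫ π = X.hom ≫ Limits.pullback.lift η[G].left e.left heG := by
    apply Limits.pullback.hom_ext
    · simp only [π, Category.assoc, Limits.pullback.lift_fst]
      refine congr(($hid).left).trans ?_
      rw [Hom.one_def]
      rfl
    · simp only [π, Category.assoc, Limits.pullback.lift_snd]
      exact sq.w
  obtain ⟨s₀⟩ : Nonempty S := ⟨Y.hom (Classical.arbitrary Y.left)⟩
  have hs : e.left s₀ ∈ Groth.GrpschAbsch.Rigid.collapseSet ξ π := by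
    have hpt : ∀ z, ξ z = e.left s₀ → π z = Limits.pullback.lift η[G].left e.left heG s₀ := by
      intro z hz
      obtain ⟨w, hw₁, hw₂⟩ := Scheme.Pullback.exists_preimage_pullback z s₀ (f := ξ) (g := e.left) hz
      have h := congr($hiπ (sq.isoPullback.inv w))
      rw [Scheme.Hom.comp_apply, Scheme.Hom.comp_apply, ← Scheme.Hom.comp_apply sq.isoPullback.inv i.left,
        sq.isoPullback_inv_fst, ← Scheme.Hom.comp_apply sq.isoPullback.inv X.hom, sq.isoPullback_inv_snd,
        hw₁, hw₂] at h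
      exact h
    rintro _ ⟨z₁, hz₁, rfl⟩ _ ⟨z₂, hz₂, rfl⟩
    rw [hpt z₁ hz₁, hpt z₂ hz₂]
  obtain ⟨σ, hσ⟩ := Groth.GrpschAbsch.Rigid.exists_desc_of_connected ξ π (Limits.pullback.snd G.hom Y.hom)
    (Limits.pullback.lift_snd _ _ _) hc hs
  have : Epi ξ := Flat.epi_of_flat_of_surjective ξ
  have hσd : ξ ≫ σ ≫ Limits.pullback.fst G.hom Y.hom = d.left := by
    rw [reassoc_of% hσ]
    exact Limits.pullback.lift_fst _ _ _
  let h : Y ⟶ G := Over.homMk (σ ≫ Limits.pullback.fst G.hom Y.hom) (by
    rw [← cancel_epi ξ, Category.assoc, reassoc_of% hσd]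
    exact hd)
  refine ⟨g, h, ?_⟩
  rw [show snd X Y ≫ h = d from Over.OverMorphism.ext hσd]
  exact (mul_inv_cancel_left (fst X Y ≫ g) f).symm

end Groth.Agent.S11439
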