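import Groth.Statements.S11440
import Groth.Agent.GrpschAbsch.AbSchRigid
import Groth.Agent.GrpschAbsch.FibreFlat
import Groth.Agent.Reductive.CentralDescent
-- import your own Groth.Agent.* helpers here

set_option autoImplicit false
universe u
open CategoryTheory MonoidalCategory CartesianMonoidalCategory MonObj GrpObj AlgebraicGeometry Topology
open GIT

namespace Groth.Agent.S11440

/-- Let S be Noetherian, X an abelian scheme over S (smooth proper group scheme with connected geometric
fibres), G any locally Noetherian group scheme separated over S, and f : X → G a morphism over S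
carrying the unit of X to the unit of G. Then f is a homomorphism. -/
theorem result (S : Scheme.{u}) [IsNoetherian S]
    (X G : Over S) [GrpObj X] [GrpObj G] [Smooth X.hom] [IsProper X.hom]
    (hc : ∀ s : S, ConnectedSpace (Red.geomFibre s X).left)
    [IsLocallyNoetherian G.left] [IsSeparated G.hom] (f : X ⟶ G) (hf : η[X] ≫ f = η[G]) :
    IsMonHom f := by
  have : GeometricallyConnected X.hom :=
    Groth.Reductive.FreeDiag.geometricallyConnected_of_geomPt X.hom fun s ↦ hc s
  have : GeometricallyReduced X.hom := Groth.GrpschAbsch.FibreFlat.geometricallyReduced_of_smooth X.hom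
  let d : X ⊗ X ⟶ G := (μ ≫ f) * ((fst X X ≫ f) * (snd X X ≫ f))⁻¹
  have hμ : (μ : X ⊗ X ⟶ X) = fst X X * snd X X := by
    rw [Hom.mul_def, lift_fst_snd, Category.id_comp]
  have hd : d = 1 := by
    refine Groth.GrpschAbsch.AbSchRigid.eq_one_of_axes X X G η[X] η[X] d ?_ ?_
    · simp only [d, MonObj.comp_mul, GrpObj.comp_inv, hμ, ← Category.assoc, lift_fst, lift_snd]
      rw [← Hom.one_def, _root_.one_mul, Category.id_comp, Hom.one_def, Category.assoc, hf, ← Hom.one_def,
        _root_.one_mul, mul_inv_cancel]
    · simp only [d, MonObj.comp_mul, GrpObj.comp_inv, hμ, ← Category.assoc, lift_fst, lift_snd]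
      rw [← Hom.one_def, _root_.mul_one, Category.id_comp, Hom.one_def, Category.assoc, hf, ← Hom.one_def,
        _root_.mul_one, mul_inv_cancel]
  refine ⟨hf, ?_⟩
  rw [mul_inv_eq_one.mp hd, Hom.mul_def, ← lift_fst_comp_snd_comp]

end Groth.Agent.S11440
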