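import Groth.Statements.S11444
import Mathlib
import Groth.Agent.Ega43FP2.TorDimFibre
import Groth.Agent.Misc13.TorDimFactor
import Groth.Agent.Ega4Algebra2.SchemeFibre
import Groth.Agent.CMMor.Criterion
import Groth.Agent.FibreDim.Smooth
import Groth.Agent.FibreDim.DimStalk
import Groth.Agent.FibreDim.DimFormulaCor
-- import your own Groth.Agent.* helpers here

set_option autoImplicit false
universe u
open CategoryTheory MonoidalCategory CartesianMonoidalCategory MonObj GrpObj AlgebraicGeometry Topology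
open GIT

namespace Groth.Agent.S11444


/-- Let X → Y → S be morphisms of finite type of Noetherian schemes with Y → S smooth with all fibres of
dimension n and X → S flat. Then X → Y has Tor-dimension at most n. -/
theorem result (S X Y : Scheme.{u}) [IsNoetherian S] [IsNoetherian X] [IsNoetherian Y]
    (p : X ⟶ S) (q : Y ⟶ S) (f : X ⟶ Y) (hf : f ≫ q = p) [LocallyOfFiniteType f] (n : ℕ)
    [SmoothOfRelativeDimension n q] [Flat p] : DerSch.HasTorDimLE f n := by
  subst hf
  haveI : Smooth q := SmoothOfRelativeDimension.smooth n q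
  intro x
  rw [Groth.Misc13.TorDimFactor.hasTorAmplitudeAt_unit_iff]
  letI : Algebra (Y.presheaf.stalk (f x)) (X.presheaf.stalk x) := (f.stalkMap x).hom.toAlgebra
  refine (Groth.DAlg.hasTorDimLE_iff (R := Y.presheaf.stalk (f x)) (X.presheaf.stalk x) n).1 ?_
  letI : Algebra (S.presheaf.stalk (q (f x))) (Y.presheaf.stalk (f x)) := (q.stalkMap (f x)).hom.toAlgebra
  letI : Algebra (S.presheaf.stalk (q (f x))) (X.presheaf.stalk x) :=
    ((f.stalkMap x).hom.comp (q.stalkMap (f x)).hom).toAlgebra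
  haveI : IsScalarTower (S.presheaf.stalk (q (f x))) (Y.presheaf.stalk (f x)) (X.presheaf.stalk x) :=
    IsScalarTower.of_algebraMap_eq fun _ => rfl
  haveI : IsLocalHom (algebraMap (S.presheaf.stalk (q (f x))) (Y.presheaf.stalk (f x))) :=
    inferInstanceAs (IsLocalHom (q.stalkMap (f x)).hom)
  haveI : IsLocalHom (algebraMap (Y.presheaf.stalk (f x)) (X.presheaf.stalk x)) :=
    inferInstanceAs (IsLocalHom (f.stalkMap x).hom)
  haveI : Module.Flat (S.presheaf.stalk (q (f x))) (Y.presheaf.stalk (f x)) := Flat.stalkMap q (f x)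
  haveI : Module.Flat (S.presheaf.stalk (q (f x))) (X.presheaf.stalk x) := by
    have h : ((f ≫ q).stalkMap x).hom.Flat := Flat.stalkMap (f ≫ q) x
    rw [show (f ≫ q).stalkMap x = q.stalkMap (f x) ≫ f.stalkMap x from Scheme.Hom.stalkMap_comp f q x] at h
    exact h
  obtain ⟨e⟩ := Groth.Ega4b.nonempty_fiberStalk_equiv q (f x)
  haveI : IsRegularLocalRing (CInt.fiberStalk q (f x)) :=
    Groth.CMMor.isRegularLocalRing_stalk_fiber q (q (f x)) (q.asFiber (f x))
  haveI : IsRegularLocalRing (Y.presheaf.stalk (f x) ⧸ (IsLocalRing.maximalIdeal (S.presheaf.stalk (q (f x)))).map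
      (algebraMap (S.presheaf.stalk (q (f x))) (Y.presheaf.stalk (f x)))) := IsRegularLocalRing.of_ringEquiv e.symm
  haveI : LocallyOfFiniteType (q.fiberToSpecResidueField (q (f x))) :=
    inferInstanceAs (LocallyOfFiniteType (Limits.pullback.snd q (S.fromSpecResidueField (q (f x)))))
  haveI : IsLocallyNoetherian (q.fiber (q (f x))) :=
    LocallyOfFiniteType.isLocallyNoetherian (q.fiberToSpecResidueField (q (f x)))
  obtain ⟨r, hr⟩ := Groth.FibreDim.exists_ringKrullDim_eq_natCast (CInt.fiberStalk q (f x))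
  have hrn : r ≤ n := by
    have := Groth.FibreDim.ringKrullDim_fiber_stalk_le q (f x)
    rw [Groth.FibreDim.fibreDimAt_eq_of_smoothOfRelativeDimension n q (f x)] at this
    have h' : (r : WithBot ℕ∞) ≤ (n : WithBot ℕ∞) := hr ▸ this
    exact_mod_cast h'
  obtain ⟨V, hV, hyV, -⟩ := exists_isAffineOpen_mem_and_subset (U := (⊤ : Y.Opens)) (x := f x) trivial
  obtain ⟨W, hW, hxW, hWV⟩ := exists_isAffineOpen_mem_and_subset (U := f ⁻¹ᵁ V) (x := x) hyV
  let algVW : Algebra Γ(Y, V) Γ(X, W) := (f.appLE V W hWV).hom.toAlgebra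
  have : Algebra.FiniteType Γ(Y, V) Γ(X, W) := f.finiteType_appLE hV hW hWV
  obtain ⟨m, φ, hφ⟩ := Algebra.FiniteType.iff_quotient_mvPolynomial''.1 this
  letI : Algebra Γ(X, W) (X.presheaf.stalk x) := (X.presheaf.germ W x hxW).hom.toAlgebra
  haveI : IsLocalization.AtPrime (X.presheaf.stalk x) (hW.primeIdealOf ⟨x, hxW⟩).asIdeal :=
    hW.isLocalization_stalk ⟨x, hxW⟩
  refine Groth.Ega43FP2.hasTorDimLE_essFiniteType (A := S.presheaf.stalk (q (f x))) n r
    ((ringKrullDim_eq_of_ringEquiv e).trans hr) hrn m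
    (fun i => algebraMap Γ(X, W) (X.presheaf.stalk x) (φ (MvPolynomial.X i))) fun z => ?_
  obtain ⟨⟨a, s⟩, has⟩ := IsLocalization.surj (hW.primeIdealOf ⟨x, hxW⟩).asIdeal.primeCompl z
  let gy := (Y.presheaf.germ V (f x) hyV).hom
  have key : ∀ b : MvPolynomial (Fin m) Γ(Y, V), MvPolynomial.aeval
      (fun i => algebraMap Γ(X, W) (X.presheaf.stalk x) (φ (MvPolynomial.X i))) (MvPolynomial.map gy b) =
      algebraMap Γ(X, W) (X.presheaf.stalk x) (φ b) := by
    intro b
    induction b using MvPolynomial.induction_on with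
    | C a =>
      rw [MvPolynomial.map_C, MvPolynomial.aeval_C, show φ (MvPolynomial.C a) = (f.appLE V W hWV).hom a from φ.commutes a]
      show f.stalkMap x (Y.presheaf.germ V (f x) hyV a) = X.presheaf.germ W x hxW (f.appLE V W hWV a)
      rw [Scheme.Hom.germ_stalkMap_apply]
      exact (TopCat.Presheaf.germ_res_apply X.presheaf (homOfLE hWV) x hxW _).symm
    | add b c hb hc => simp only [map_add, hb, hc]
    | mul_X b i hb => simp only [map_mul, hb, MvPolynomial.map_X, MvPolynomial.aeval_X]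
  obtain ⟨b, hb⟩ := hφ a
  obtain ⟨c, hc⟩ := hφ s
  refine ⟨MvPolynomial.map gy b, MvPolynomial.map gy c, ?_, ?_⟩
  · rw [key, hc]
    exact IsLocalization.map_units (X.presheaf.stalk x) s
  · rw [key, key, hb, hc]
    exact has

end Groth.Agent.S11444
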