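import Groth.Statements.S1145
import Groth.Agent.Pi1FEt.FullClopen
import Groth.Agent.Hensel1.EtaleStalk
import Groth.Agent.Hensel1.Transfer
import Groth.Agent.SchemeMorphisms.Points
import Mathlib

set_option autoImplicit false
universe u
open Pi1

set_option backward.isDefEq.respectTransparency false

namespace Groth.Agent.S1145

open AlgebraicGeometry CategoryTheory CategoryTheory.Limits

/-- Disjoint open subsets which cover a dense open have disjoint closures, when the punctured
strictly henselian spectra at the missing points are connected. -/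
theorem disjoint_closure {Y : Scheme.{u}}
    (W₁ W₂ : Set Y) (h₁ : IsOpen W₁) (h₂ : IsOpen W₂) (hdisj : Disjoint W₁ W₂)
    (hcov : ∀ z : Y, z ∈ closure W₁ ∪ closure W₂)
    (hgen₁ : ∀ y ∈ closure W₁, ∃ w ∈ W₁, w ⤳ y) (hgen₂ : ∀ y ∈ closure W₂, ∃ w ∈ W₂, w ⤳ y)
    (hsh : ∀ y : Y, y ∉ W₁ → y ∉ W₂ → ∀ (R : Type u) [CommRing R] [IsLocalRing R]
      [Algebra (Y.presheaf.stalk y) R] [IsLocalHom (algebraMap (Y.presheaf.stalk y) R)]
      [Hensel.IsStrictHenselization (Y.presheaf.stalk y) R],
      ConnectedSpace (FEt.puncturedSpec R : Scheme.{u})) :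
    Disjoint (closure W₁) (closure W₂) := by
  classical
  by_contra hnd
  obtain ⟨y₀, hy₀⟩ := Set.not_disjoint_iff_nonempty_inter.mp hnd
  set E := closure W₁ ∩ closure W₂ with hE
  have hEc : IsClosed E := isClosed_closure.inter isClosed_closure
  -- a generic point of the intersection
  obtain ⟨y, hy, hmin⟩ : ∃ y ∈ E, ∀ z ∈ E, z ⤳ y → z = y := by
    haveI : QuasiSober E := hEc.isClosedEmbedding_subtypeVal.quasiSober
    let Z := irreducibleComponent (⟨y₀, hy₀⟩ : E)
    have hZ : IsIrreducible Z := isIrreducible_irreducibleComponent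
    obtain ⟨g, hg⟩ := QuasiSober.sober hZ isClosed_irreducibleComponent
    refine ⟨g.1, g.2, fun z hz hzg => ?_⟩
    have hsp : (⟨z, hz⟩ : E) ⤳ g := (subtype_specializes_iff _ _).mpr hzg
    have hle : Z ⊆ closure {⟨z, hz⟩} := by
      rw [← hg.def]
      exact closure_minimal (Set.singleton_subset_iff.mpr (specializes_iff_mem_closure.mp hsp)) isClosed_closure
    have heq : Z = closure {⟨z, hz⟩} :=
      ((irreducibleComponent_property _).2.2 _ isIrreducible_singleton.closure.isPreirreducible hle).symm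
    have : IsGenericPoint (⟨z, hz⟩ : E) Z := heq.symm
    exact congrArg Subtype.val (this.eq hg)
  have hy1 : y ∉ W₁ := fun h => by
    obtain ⟨z, hz1, hz2⟩ := mem_closure_iff.mp hy.2 W₁ h₁ h
    exact Set.disjoint_left.mp hdisj hz1 hz2
  have hy2 : y ∉ W₂ := fun h => by
    obtain ⟨z, hz2, hz1⟩ := mem_closure_iff.mp hy.1 W₂ h₂ h
    exact Set.disjoint_left.mp hdisj hz1 hz2
  obtain ⟨R, _, _, _, _, _⟩ := Groth.Hensel1.exists_isStrictHenselization (Y.presheaf.stalk y)
  haveI := hsh y hy1 hy2 R
  obtain ⟨M⟩ := Groth.Hensel1.hensModel_of_isStrictHenselization (R := Y.presheaf.stalk y) (S := R)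
  haveI := M.faithfullyFlat
  let π : Spec (CommRingCat.of R) ⟶ Y :=
    Spec.map (CommRingCat.ofHom (algebraMap (Y.presheaf.stalk y) R)) ≫ Y.fromSpecStalk y
  have hπy : π.base (IsLocalRing.closedPoint R) = y := by
    rw [Scheme.Hom.comp_apply]
    exact (congrArg (Y.fromSpecStalk y).base (IsLocalRing.comap_closedPoint _)).trans Scheme.fromSpecStalk_closedPoint
  have hπspec : ∀ q, π.base q ⤳ y := fun q =>
    hπy ▸ (IsLocalRing.specializes_closedPoint q).map π.continuous
  have hπuniq : ∀ q, π.base q = y → q = IsLocalRing.closedPoint R := by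
    intro q hq
    have h1 : (Spec.map (CommRingCat.ofHom (algebraMap (Y.presheaf.stalk y) R))).base q =
        IsLocalRing.closedPoint (Y.presheaf.stalk y) :=
      (Y.fromSpecStalk y).isEmbedding.injective (hq.trans Scheme.fromSpecStalk_closedPoint.symm)
    have h2 : Ideal.comap (algebraMap (Y.presheaf.stalk y) R) q.asIdeal =
        IsLocalRing.maximalIdeal (Y.presheaf.stalk y) := congrArg PrimeSpectrum.asIdeal h1
    refine PrimeSpectrum.ext ((IsLocalRing.maximalIdeal.isMaximal R).eq_of_le q.isPrime.ne_top ?_).symm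
    rw [← M.map_maximalIdeal, Ideal.map_le_iff_le_comap, h2]
  have hπsurj : ∀ z : Y, z ⤳ y → ∃ q, π.base q = z := by
    intro z hz
    obtain ⟨p, rfl⟩ : z ∈ Set.range (Y.fromSpecStalk y).base := by
      rw [Scheme.range_fromSpecStalk]; exact hz
    obtain ⟨q, hq⟩ := PrimeSpectrum.comap_surjective_of_faithfullyFlat
      (A := Y.presheaf.stalk y) (B := R) p
    exact ⟨q, by rw [Scheme.Hom.comp_apply]; exact congrArg _ hq⟩
  let ψ : (FEt.puncturedSpec R : Scheme.{u}) ⟶ Y := (FEt.puncturedSpec R).ι ≫ π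
  have hψne : ∀ q, ψ.base q ≠ y := fun q hq => q.2 (hπuniq q.1 hq)
  have hψspec : ∀ q, ψ.base q ⤳ y := fun q => hπspec q.1
  have hlift : ∀ z : Y, z ⤳ y → z ≠ y → ∃ q, ψ.base q = z := fun z hz hne => by
    obtain ⟨q, hq⟩ := hπsurj z hz
    exact ⟨⟨q, fun h => hne (by rw [← hq, Set.mem_singleton_iff.mp h, hπy])⟩, hq⟩
  have hcover : ∀ q, ψ.base q ∈ closure W₁ ∪ closure W₂ := by
    intro q
    exact hcov _
  obtain ⟨w₁, hw₁, hw₁y⟩ := hgen₁ y hy.1
  obtain ⟨w₂, hw₂, hw₂y⟩ := hgen₂ y hy.2
  obtain ⟨q₁, hq₁⟩ := hlift w₁ hw₁y fun h => hy1 (h ▸ hw₁)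
  obtain ⟨q₂, hq₂⟩ := hlift w₂ hw₂y fun h => hy2 (h ▸ hw₂)
  obtain ⟨q, -, hq1, hq2⟩ := isPreconnected_closed_iff.mp
    (PreconnectedSpace.isPreconnected_univ (α := ↥(FEt.puncturedSpec R : Scheme.{u})))
    (ψ.base ⁻¹' closure W₁) (ψ.base ⁻¹' closure W₂)
    (isClosed_closure.preimage ψ.continuous) (isClosed_closure.preimage ψ.continuous)
    (fun q _ => hcover q) ⟨q₁, trivial, show ψ.base q₁ ∈ closure W₁ from hq₁ ▸ subset_closure hw₁⟩
    ⟨q₂, trivial, show ψ.base q₂ ∈ closure W₂ from hq₂ ▸ subset_closure hw₂⟩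
  exact hψne q (hmin _ ⟨hq1, hq2⟩ (hψspec q))

open AlgebraicGeometry CategoryTheory CategoryTheory.Limits in
/-- Let X be a scheme and U a dense open subscheme with quasi-compact inclusion such that every point of
the complement of U is closed and, for every such point x and every strict henselization R of the
local ring at x, the punctured spectrum of R is connected. Then restriction of finite etale covers
from X to U is fully faithful. -/
theorem result {X : Scheme.{u}} (U : X.Opens)
    (hU : Dense (U : Set X)) [QuasiCompact U.ι] (hcl : ∀ x : X, x ∉ U → IsClosed ({x} : Set X))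
    (hsh : ∀ x : X, x ∉ U → ∀ (R : Type u) [CommRing R] [IsLocalRing R] [Algebra (X.presheaf.stalk x) R]
      [IsLocalHom (algebraMap (X.presheaf.stalk x) R)] [Hensel.IsStrictHenselization (X.presheaf.stalk x) R],
      ConnectedSpace (FEt.puncturedSpec R : Scheme.{u})) :
    (FEt.restrict U.ι).Full ∧ (FEt.restrict U.ι).Faithful := by
  refine ⟨Groth.Pi1FEt.restrict_full_of_clopen U.ι ?_ ?_,
    Groth.Pi1Etale.restrict_faithful_of_denseRange U.ι (by rw [DenseRange, Scheme.Opens.range_ι]; exact hU)⟩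
  · intro A C hC hsub
    haveI : Etale A.hom := A.prop.2
    have hd' := Groth.Pi1Etale.denseRange_pullback_fst A.hom U.ι A.hom.isOpenMap
      (by rw [DenseRange, Scheme.Opens.range_ι]; exact hU)
    exact Set.univ_subset_iff.1 (hd'.closure_range.symm.subset.trans (hC.1.closure_subset_iff.2 hsub))
  intro A C₀ hC₀
  let g : A.left ⟶ X := A.hom
  haveI : IsFinite g := A.prop.1
  haveI : Etale g := A.prop.2
  let j := pullback.fst g U.ι
  have hjrange : Set.range j.base = g.base ⁻¹' (U : Set X) := by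
    rw [Scheme.Pullback.range_fst, Scheme.Opens.range_ι]
  have hd' : DenseRange j.base := Groth.Pi1Etale.denseRange_pullback_fst g U.ι g.isOpenMap
    (by rw [DenseRange, Scheme.Opens.range_ι]; exact hU)
  let W₁ := j.base '' C₀
  let W₂ := j.base '' C₀ᶜ
  have hcov : ∀ z, z ∈ closure W₁ ∪ closure W₂ := fun z => by
    rw [← closure_union, ← Set.image_union, Set.union_compl_self, Set.image_univ]
    exact hd' z
  have hdisj : Disjoint W₁ W₂ :=
    Set.disjoint_image_of_injective j.isOpenEmbedding.injective disjoint_compl_right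
  haveI : QuasiCompact j := MorphismProperty.pullback_fst _ _ inferInstance
  have hgen : ∀ (S : Set ↥(pullback g U.ι)), IsClopen S → ∀ y ∈ closure (j.base '' S),
      ∃ w ∈ j.base '' S, w ⤳ y := by
    intro S hS y hy
    let O : (pullback g U.ι).Opens := ⟨S, hS.2⟩
    haveI : IsClosedImmersion O.ι := IsClosedImmersion.of_isPreimmersion _
      (by rw [Scheme.Opens.range_ι]; exact hS.1)
    have hr : Set.range (O.ι ≫ j).base = j.base '' S := by
      show Set.range (j.base ∘ O.ι.base) = _
      rw [Set.range_comp, Scheme.Opens.range_ι]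
      rfl
    obtain ⟨w, hw⟩ := Groth.SchemeMorphisms.exists_specializes_of_mem_closure_range (O.ι ≫ j)
      (s := y) (show y ∈ closure (Set.range (O.ι ≫ j).base) by rw [hr]; exact hy)
    exact ⟨_, hr.le ⟨w, rfl⟩, hw⟩
  have hsh' : ∀ y : A.left, y ∉ W₁ → y ∉ W₂ → ∀ (R : Type u) [CommRing R] [IsLocalRing R]
      [Algebra (A.left.presheaf.stalk y) R] [IsLocalHom (algebraMap (A.left.presheaf.stalk y) R)]
      [Hensel.IsStrictHenselization (A.left.presheaf.stalk y) R],
      ConnectedSpace (FEt.puncturedSpec R : Scheme.{u}) := by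
    intro y h1 h2 R _ _ _ _ _
    have hyU : g.base y ∉ U := fun h => by
      obtain ⟨w, hw⟩ := hjrange.ge h
      rcases Classical.em (w ∈ C₀) with hw' | hw'
      · exact h1 ⟨w, hw', hw⟩
      · exact h2 ⟨w, hw', hw⟩
    letI : Algebra (X.presheaf.stalk (g.base y)) (A.left.presheaf.stalk y) := (g.stalkMap y).hom.toAlgebra
    haveI : IsLocalHom (algebraMap (X.presheaf.stalk (g.base y)) (A.left.presheaf.stalk y)) :=
      inferInstanceAs (IsLocalHom (g.stalkMap y).hom)
    letI : Algebra (X.presheaf.stalk (g.base y)) R :=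
      ((algebraMap (A.left.presheaf.stalk y) R).comp (g.stalkMap y).hom).toAlgebra
    haveI : IsScalarTower (X.presheaf.stalk (g.base y)) (A.left.presheaf.stalk y) R :=
      .of_algebraMap_eq fun _ => rfl
    haveI : IsLocalHom (algebraMap (X.presheaf.stalk (g.base y)) R) :=
      inferInstanceAs (IsLocalHom ((algebraMap (A.left.presheaf.stalk y) R).comp (g.stalkMap y).hom))
    haveI := Groth.Hensel1.isStrictHenselization_of_essentiallyEtale
      (Groth.Hensel1.isEssentiallyEtale_stalkMap_of_etale g y) R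
    exact hsh (g.base y) hyU R
  have hcl := disjoint_closure W₁ W₂ (j.isOpenEmbedding.isOpenMap _ hC₀.2)
    (j.isOpenEmbedding.isOpenMap _ hC₀.compl.2) hdisj hcov (hgen _ hC₀) (hgen _ hC₀.compl) hsh'
  refine ⟨closure W₁, ⟨isClosed_closure, ?_⟩, ?_⟩
  · have : closure W₁ = (closure W₂)ᶜ := Set.ext fun z =>
      ⟨fun h => Set.disjoint_left.mp hcl h, fun h => (hcov z).resolve_right h⟩
    rw [this]; exact isClosed_closure.isOpen_compl
  · rw [show (pullback.fst A.hom U.ι).base ⁻¹' closure W₁ = closure (j.base ⁻¹' W₁) from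
      j.isOpenEmbedding.isOpenMap.preimage_closure_eq_closure_preimage j.continuous W₁,
      Set.preimage_image_eq _ j.isOpenEmbedding.injective, hC₀.1.closure_eq]

end Groth.Agent.S1145
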