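import Groth.Statements.S11450
import Mathlib
import Groth.Agent.Calg7.Derived.TorFinite
-- import your own Groth.Agent.* helpers here

set_option autoImplicit false
universe u
open CategoryTheory
open DefT

namespace Groth.Agent.S11450

/-- A module M over a Noetherian commutative ring A is flat if and only if Tor_1^A(M, A/p) vanishes for
every prime ideal p of A. -/
theorem result (A : Type u) [CommRing A]
    [IsNoetherianRing A] (M : Type u) [AddCommGroup M] [Module A M] :
    Module.Flat A M ↔ ∀ p : Ideal A, p.IsPrime →
      Limits.IsZero (((CategoryTheory.Tor (ModuleCat.{u} A) 1).obj (ModuleCat.of A M)).obj (ModuleCat.of A (A ⧸ p))) := by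
  refine ⟨fun _ p _ => Groth.Calg7.Tor.isZero_of_flat_left _ 0, fun h => ?_⟩
  have key : ∀ (N : Type u) [AddCommGroup N] [Module A N] [Module.Finite A N],
      CategoryTheory.Limits.IsZero (Groth.Calg7.Tor.T 1 (ModuleCat.of A M) (ModuleCat.of A N)) := by
    intro N _ _ hN
    induction hN using IsNoetherianRing.induction_on_isQuotientEquivQuotientPrime A with
    | subsingleton P =>
      haveI : Module.Flat A (ModuleCat.of A P) := inferInstanceAs (Module.Flat A P)
      exact Groth.Calg7.Tor.isZero_of_flat_right _ _ 0
    | quotient P p e =>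
      exact (h p.1 p.2).of_iso (((CategoryTheory.Tor (ModuleCat.{u} A) 1).obj _).mapIso e.toModuleIso)
    | exact N₁ N₂ N₃ f g hf hg he h1 h3 =>
      have w : ModuleCat.ofHom f ≫ ModuleCat.ofHom g = 0 := ModuleCat.hom_ext he.linearMap_comp_eq_zero
      exact Groth.Calg7.Tor.isZero_R₂ _ (S := CategoryTheory.ShortComplex.mk _ _ w)
        { exact := (CategoryTheory.ShortComplex.ShortExact.moduleCat_exact_iff_function_exact _).2 he
          mono_f := (ModuleCat.mono_iff_injective _).2 hf
          epi_g := (ModuleCat.epi_iff_surjective _).2 hg } 1 h1 h3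
  exact (Groth.Calg7.Tor.flat_iff_isZero_tor_one M).2 fun I _ => key (A ⧸ I)

end Groth.Agent.S11450
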