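import Groth.Statements.S11451
import Groth.Agent.Calg4.SmoothRegularField
import Groth.Agent.Ega41Adic.RegularOfSmooth

set_option autoImplicit false
universe u
open DefT

namespace Groth.Agent.S11451

/-- Let k be an algebraically closed field and A a local k-algebra essentially of finite type over k
with residue field k. Then regularity of A as a local ring is equivalent to the following: for every
local k-algebra B' of finite dimension over k, every ideal J of B' of square zero and every
k-algebra homomorphism f : A → B'/J, there is a k-algebra homomorphism g : A → B' lifting f. (Local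
k-algebras of finite k-dimension are exactly the local Artin rings finite over k; lifting against
square-zero kernels is equivalent to lifting against nilpotent ones by induction.) -/
theorem result (k : Type u) [Field k] [IsAlgClosed k]
    (A : Type u) [CommRing A] [IsLocalRing A] [Algebra k A] [Algebra.EssFiniteType k A]
    (hres : Function.Surjective (algebraMap k (IsLocalRing.ResidueField A))) :
    IsRegularLocalRing A ↔
      ∀ (B' : Type u) [CommRing B'] [IsLocalRing B'] [Algebra k B'] [Module.Finite k B']
        (J : Ideal B'), J ^ 2 = ⊥ → ∀ f : A →ₐ[k] B' ⧸ J,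
          ∃ g : A →ₐ[k] B', (Ideal.Quotient.mkₐ k J).comp g = f := by
  classical
  have : IsNoetherianRing A := Algebra.EssFiniteType.isNoetherianRing k A
  constructor
  · intro hreg
    let S := Algebra.EssFiniteType.subalgebra k A
    have : Algebra.FiniteType k S :=
      (Subalgebra.fg_iff_finiteType _).1 ⟨Algebra.EssFiniteType.finset k A, rfl⟩
    let q : Ideal S := (IsLocalRing.maximalIdeal A).comap (algebraMap S A)
    have hu : ∀ s : S, s ∈ q.primeCompl ↔ IsUnit (algebraMap S A s) := fun s =>
      (not_congr (IsLocalRing.mem_maximalIdeal _)).trans not_not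
    have : IsLocalization q.primeCompl A := by
      refine (isLocalization_iff _ _).2 ⟨fun y => (hu y).1 y.2, fun z => ?_, fun {a b} h => ?_⟩
      · obtain ⟨⟨a, s, hs⟩, e⟩ := IsLocalization.surj (Algebra.EssFiniteType.submonoid k A) z
        exact ⟨(a, ⟨s, (hu s).2 hs⟩), e⟩
      · obtain ⟨⟨c, hc⟩, e⟩ := (IsLocalization.eq_iff_exists (Algebra.EssFiniteType.submonoid k A) A).1 h
        exact ⟨⟨c, (hu c).2 hc⟩, e⟩
    let e : Localization.AtPrime q ≃ₐ[k] A :=
      (IsLocalization.algEquiv q.primeCompl (Localization.AtPrime q) A).restrictScalars k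
    have : IsRegularLocalRing (Localization.AtPrime q) := IsRegularLocalRing.of_ringEquiv e.symm.toRingEquiv
    have hsurj : Function.Surjective (algebraMap k q.ResidueField) := by
      intro z
      obtain ⟨x, rfl⟩ := IsLocalRing.residue_surjective z
      obtain ⟨c, hc⟩ := hres (IsLocalRing.residue A (e x))
      refine ⟨c, ?_⟩
      rw [IsScalarTower.algebraMap_apply k (Localization.AtPrime q) q.ResidueField]
      refine Ideal.Quotient.eq.2 (fun hu' => ?_)
      have h1 : algebraMap k A c - e x ∈ IsLocalRing.maximalIdeal A := by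
        rw [IsScalarTower.algebraMap_apply k A (IsLocalRing.ResidueField A)] at hc
        exact Ideal.Quotient.eq.1 hc
      refine (IsLocalRing.mem_maximalIdeal _).1 h1 ?_
      have := hu'.map e
      rwa [map_sub, e.commutes] at this
    have : Algebra.FormallySmooth k q.ResidueField := Algebra.FormallySmooth.of_equiv
      (AlgEquiv.ofBijective (Algebra.ofId k q.ResidueField) ⟨(algebraMap k q.ResidueField).injective, hsurj⟩)
    have hq : Algebra.FormallySmooth k (Localization.AtPrime q) := Groth.Calg4.isSmoothAt_of_isRegularLocalRing q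
    have : Algebra.FormallySmooth k A := Algebra.FormallySmooth.of_equiv e
    intro B' _ _ _ _ J hJ f
    exact Algebra.FormallySmooth.exists_lift J ⟨2, hJ⟩ f
  · intro hlift
    refine Groth.Ega41Adic.isRegularLocalRing_of_isAdicFormallySmooth (k := k) ?_
    intro C _ _ J hJ ψ ⟨l, hl⟩
    rcases subsingleton_or_nontrivial C with hC | hC
    · exact ⟨{ toFun := fun _ => 0, map_one' := Subsingleton.elim _ _, map_mul' := fun _ _ => Subsingleton.elim _ _,
               map_zero' := rfl, map_add' := fun _ _ => Subsingleton.elim _ _, commutes' := fun _ => Subsingleton.elim _ _ },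
        AlgHom.ext fun x => (Ideal.Quotient.mk_surjective (ψ x)).elim fun c hc => by
          rw [← hc]; exact congrArg (Ideal.Quotient.mk J) (Subsingleton.elim (0 : C) c)⟩
    let I : Ideal A := IsLocalRing.maximalIdeal A ^ (l + 1)
    have hI : ∀ x ∈ I, ψ x = 0 := fun x hx => hl x (Ideal.pow_le_pow_right (Nat.le_succ l) hx)
    obtain ⟨gens, hgens⟩ := IsNoetherian.noetherian (IsLocalRing.maximalIdeal A)
    choose w hw using fun g : gens => Ideal.Quotient.mk_surjective (ψ g.1)
    let v : gens → A × C := fun g => (g.1, w g)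
    let E : Subalgebra k ((A ⧸ I) × C) := Algebra.adjoin k (Set.range fun g => (Ideal.Quotient.mk I (v g).1, (v g).2))
    -- the generators are nilpotent
    have hnil : ∀ g, IsNilpotent ((Ideal.Quotient.mk I (v g).1, (v g).2) : (A ⧸ I) × C) := by
      intro g
      have hg : g.1 ∈ IsLocalRing.maximalIdeal A := hgens ▸ Submodule.subset_span g.2
      refine ⟨(l + 1) * 2, Prod.ext ?_ ?_⟩
      · show (Ideal.Quotient.mk I g.1) ^ ((l + 1) * 2) = 0
        rw [← map_pow, Ideal.Quotient.eq_zero_iff_mem]
        exact Ideal.pow_le_pow_right (by omega) (Ideal.pow_mem_pow hg _)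
      · show w g ^ ((l + 1) * 2) = 0
        rw [pow_mul, ← Ideal.mem_bot, ← hJ]
        refine Ideal.pow_mem_pow (Ideal.Quotient.eq_zero_iff_mem.1 ?_) 2
        rw [map_pow, hw, ← map_pow]
        exact hI _ (Ideal.pow_mem_pow hg _)
    have : Module.Finite k E := by
      refine Module.Finite.iff_fg.2 (fg_adjoin_of_finite (Set.finite_range _) ?_)
      rintro _ ⟨g, rfl⟩
      obtain ⟨N, hN⟩ := hnil g
      exact IsIntegral.of_pow (Nat.succ_pos N) (by rw [pow_succ, hN, zero_mul]; exact isIntegral_zero)
    let π : E →ₐ[k] A ⧸ I := (AlgHom.fst k (A ⧸ I) C).comp E.val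
    have hπψ : ∀ x : E, ∀ a, Ideal.Quotient.mk I a = π x → Ideal.Quotient.mk J x.1.2 = ψ a := by
      rintro ⟨x, hx⟩
      induction hx using Algebra.adjoin_induction with
      | mem x hx =>
        obtain ⟨g, rfl⟩ := hx
        intro a ha
        show Ideal.Quotient.mk J (w g) = ψ a
        rw [hw, eq_comm, ← sub_eq_zero, ← map_sub]
        exact hI _ (Ideal.Quotient.eq.1 ha)
      | algebraMap c =>
        intro a ha
        show Ideal.Quotient.mk J (algebraMap k C c) = ψ a
        rw [Ideal.Quotient.mk_algebraMap, ← ψ.commutes, eq_comm, ← sub_eq_zero, ← map_sub]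
        exact hI _ (Ideal.Quotient.eq.1 (ha.trans (Ideal.Quotient.mk_algebraMap k I c).symm))
      | add x y _ _ h1 h2 =>
        intro a ha
        obtain ⟨a₁, h₁⟩ := Ideal.Quotient.mk_surjective x.1
        show Ideal.Quotient.mk J (x.2 + y.2) = ψ a
        rw [map_add, h1 a₁ h₁, h2 (a - a₁) (by rw [map_sub, ha, h₁]; exact add_sub_cancel_left _ _), ← map_add, add_sub_cancel]
      | mul x y _ _ h1 h2 =>
        intro a ha
        obtain ⟨a₁, h₁⟩ := Ideal.Quotient.mk_surjective x.1
        obtain ⟨a₂, h₂⟩ := Ideal.Quotient.mk_surjective y.1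
        show Ideal.Quotient.mk J (x.2 * y.2) = ψ a
        rw [map_mul, h1 a₁ h₁, h2 a₂ h₂, ← map_mul, eq_comm, ← sub_eq_zero, ← map_sub]
        refine hI _ (Ideal.Quotient.eq.1 ?_)
        rw [ha, map_mul, h₁, h₂]
        rfl
    -- surjectivity
    have hπs : Function.Surjective π := by
      suffices H : ∀ d, ∀ a ∈ IsLocalRing.maximalIdeal A ^ (l + 1 - d), Ideal.Quotient.mk I a ∈ π.range by
        intro z
        obtain ⟨a, rfl⟩ := Ideal.Quotient.mk_surjective z
        exact (H (l + 1) a (by simp)).imp fun x hx => hx
      intro d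
      induction d with
      | zero => intro a ha; exact ⟨0, by rw [map_zero, eq_comm, Ideal.Quotient.eq_zero_iff_mem]; simpa [I] using ha⟩
      | succ d ih =>
        intro a ha
        by_cases hd : l + 1 ≤ d
        · exact ih a (by rw [Nat.sub_eq_zero_of_le hd]; simp)
        have hsucc : l + 1 - d = (l + 1 - (d + 1)) + 1 := by omega
        have hmax : ∀ b ∈ IsLocalRing.maximalIdeal A, ∀ c ∈ IsLocalRing.maximalIdeal A ^ (l + 1 - (d + 1)),
            c * b ∈ IsLocalRing.maximalIdeal A ^ (l + 1 - d) := fun b hb c hc => by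
          rw [hsucc, pow_succ]; exact Ideal.mul_mem_mul hc hb
        have hprod : ∀ j, ∀ c ∈ IsLocalRing.maximalIdeal A ^ j, ∃ c', Ideal.Quotient.mk I c' ∈ π.range ∧
            c - c' ∈ IsLocalRing.maximalIdeal A ^ (j + 1) := by
          intro j
          induction j with
          | zero =>
            intro c _
            obtain ⟨r, hr⟩ := hres (IsLocalRing.residue A c)
            refine ⟨algebraMap k A r, ⟨algebraMap k E r, ?_⟩, ?_⟩
            · exact (π.commutes r).trans (Ideal.Quotient.mk_algebraMap k I r).symm
            · rw [zero_add, pow_one]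
              refine Ideal.Quotient.eq.1 (hr.symm.trans ?_)
              rw [IsScalarTower.algebraMap_apply k A (IsLocalRing.ResidueField A)]
              rfl
          | succ j ihj =>
            intro c hc
            rw [pow_succ] at hc
            induction hc using Submodule.mul_induction_on' with
            | mem_mul_mem u hu v hv =>
              rw [← hgens] at hv
              induction hv using Submodule.span_induction generalizing u with
              | mem v hv =>
                obtain ⟨u', ⟨e₁, he₁⟩, hu2⟩ := ihj u hu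
                refine ⟨u' * v, ⟨e₁ * ⟨_, Algebra.subset_adjoin ⟨⟨v, hv⟩, rfl⟩⟩, ?_⟩, ?_⟩
                · refine (map_mul π _ _).trans ?_
                  rw [map_mul]
                  exact congrArg₂ (· * ·) he₁ rfl
                · rw [pow_succ, ← sub_mul]
                  exact Ideal.mul_mem_mul hu2 (hgens ▸ Submodule.subset_span hv)
              | zero => exact ⟨0, by simp, by simp⟩
              | add v v' _ _ h1 h2 =>
                obtain ⟨c₁, hc₁, hc₁'⟩ := h1 u hu
                obtain ⟨c₂, hc₂, hc₂'⟩ := h2 u hu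
                exact ⟨c₁ + c₂, by rw [map_add]; exact add_mem hc₁ hc₂, by
                  have := add_mem hc₁' hc₂'; rwa [sub_add_sub_comm, ← mul_add] at this⟩
              | smul r v _ h1 =>
                obtain ⟨c₁, hc₁, hc₁'⟩ := h1 (u * r) (Ideal.mul_mem_right _ _ hu)
                exact ⟨c₁, hc₁, by rwa [smul_eq_mul, ← mul_assoc]⟩
            | add u _ v _ h1 h2 =>
              obtain ⟨c₁, hc₁, hc₁'⟩ := h1
              obtain ⟨c₂, hc₂, hc₂'⟩ := h2
              exact ⟨c₁ + c₂, by rw [map_add]; exact add_mem hc₁ hc₂, by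
                have := add_mem hc₁' hc₂'; rwa [sub_add_sub_comm] at this⟩
        obtain ⟨c', hc', hc''⟩ := hprod _ a ha
        rw [← hsucc] at hc''
        have := add_mem hc' (ih _ hc'')
        rwa [← map_add, add_sub_cancel] at this
    have hker : ∀ x ∈ RingHom.ker π.toRingHom, x.1.2 ∈ J := fun x hx => by
      rw [← Ideal.Quotient.eq_zero_iff_mem, hπψ x 0 (by rw [map_zero]; exact hx.symm), map_zero]
    have hJ' : RingHom.ker π.toRingHom ^ 2 = ⊥ := by
      rw [eq_bot_iff, pow_two, Ideal.mul_le]
      intro x hx y hy
      rw [Ideal.mem_bot]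
      refine Subtype.ext (Prod.ext ?_ ?_)
      · show π x * π y = 0
        rw [show π x = 0 from hx, zero_mul]
      · show x.1.2 * y.1.2 = 0
        rw [← Ideal.mem_bot, ← hJ, pow_two]
        exact Ideal.mul_mem_mul (hker x hx) (hker y hy)
    have : Nontrivial (A ⧸ I) := Ideal.Quotient.nontrivial_iff.2 fun e =>
      (IsLocalRing.maximalIdeal.isMaximal A).ne_top (top_le_iff.1 (e ▸ Ideal.pow_le_self (Nat.succ_ne_zero l)))
    have : IsLocalRing (A ⧸ I) := IsLocalRing.of_surjective' (Ideal.Quotient.mk I) Ideal.Quotient.mk_surjective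
    have : Nontrivial E := π.toRingHom.domain_nontrivial
    have : IsLocalHom π.toRingHom := ⟨fun x hx => by
      obtain ⟨y, hy⟩ := hx.exists_right_inv
      obtain ⟨y', rfl⟩ := hπs y
      have h1 : x * y' - 1 ∈ RingHom.ker π.toRingHom := by
        rw [RingHom.mem_ker, map_sub, map_mul, map_one]
        exact sub_eq_zero.2 hy
      have h2 := Ideal.pow_mem_pow h1 2
      rw [hJ', Ideal.mem_bot] at h2
      exact IsUnit.of_mul_eq_one (y' * (2 - x * y')) (by linear_combination -h2)⟩
    have : IsLocalRing E := RingHom.domain_isLocalRing π.toRingHom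
    let e₀ := Ideal.quotientKerAlgEquivOfSurjective hπs
    obtain ⟨g, hg⟩ := hlift E (RingHom.ker π.toRingHom) hJ' (e₀.symm.toAlgHom.comp (Ideal.Quotient.mkₐ k I))
    have hg' : ∀ a, π (g a) = Ideal.Quotient.mk I a := fun a => by
      have h1 := congrArg e₀ (AlgHom.congr_fun hg a)
      exact h1.trans (e₀.apply_symm_apply _)
    exact ⟨((AlgHom.snd k (A ⧸ I) C).comp E.val).comp g, AlgHom.ext fun a => hπψ (g a) a (hg' a).symm⟩

end Groth.Agent.S11451
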