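import Groth.Statements.S11452
import Groth.Agent.ArtfunDeform.TrivialDef
import Groth.Agent.ArtfunDeform.CotT.Smooth
import Groth.Agent.FlatMor2.AffineThickening

set_option autoImplicit false
universe u
open CategoryTheory AlgebraicGeometry
open DefT

open scoped TensorProduct

namespace Groth.Agent.S11452

theorem eq_isoSpec_hom_comp {X : Scheme.{u}} [IsAffine X] {R : CommRingCat.{u}} (f : X ⟶ Spec R) :
    f = X.isoSpec.hom ≫ Spec.map ((Scheme.ΓSpecIso R).inv ≫ f.appTop) := by
  have h := Scheme.isoSpec_hom_naturality f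
  rw [Scheme.isoSpec_Spec_hom] at h
  rw [Spec.map_comp, reassoc_of% h, ← Spec.map_comp, Iso.inv_hom_id, Spec.map_id, Category.comp_id]

/-- Let k be an algebraically closed field, X an affine scheme of finite type over k whose local rings
are all regular, A a local Artin k-algebra with a k-algebra augmentation e : A → k, and g : X' →
Spec A a flat morphism whose fibre over the k-point Spec k → Spec A given by e is X (with its
structure map to Spec k). Then there is an isomorphism from X' to the trivial deformation X ×_{Spec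
k} Spec A compatible with the projections to Spec A. -/
theorem result (k : Type u) [Field k]
    [IsAlgClosed k] (X : Scheme.{u}) (hX : X ⟶ Spec (CommRingCat.of k)) [IsAffine X]
    [LocallyOfFiniteType hX] (hreg : ∀ x : X, IsRegularLocalRing (X.presheaf.stalk x))
    (A : Type u) [CommRing A] [IsLocalRing A] [IsArtinianRing A] [Algebra k A] (e : A →ₐ[k] k)
    (X' : Scheme.{u}) (g : X' ⟶ Spec (CommRingCat.of A)) [Flat g] (i : X ⟶ X')
    (hsq : IsPullback i hX g (Spec.map (CommRingCat.ofHom e.toRingHom))) :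
    ∃ φ : X' ≅ Limits.pullback hX (Spec.map (CommRingCat.ofHom (algebraMap k A))),
      φ.hom ≫ Limits.pullback.snd hX (Spec.map (CommRingCat.ofHom (algebraMap k A))) = g := by
  classical
  -- the augmentation is surjective with nilpotent kernel
  have he : Function.Surjective e := fun c => ⟨algebraMap k A c, e.commutes c⟩
  have hkm : RingHom.ker e.toRingHom = IsLocalRing.maximalIdeal A :=
    IsLocalRing.eq_maximalIdeal (RingHom.ker_isMaximal_of_surjective e.toRingHom he)
  let ε : CommRingCat.of A ⟶ CommRingCat.of k := CommRingCat.ofHom e.toRingHom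
  have : IsClosedImmersion (Spec.map ε) := IsClosedImmersion.spec_of_surjective ε he
  have : Surjective (Spec.map ε) := ⟨fun x => ⟨IsLocalRing.closedPoint k, Subsingleton.elim (α := PrimeSpectrum A) _ _⟩⟩
  have : IsClosedImmersion i := MorphismProperty.of_isPullback hsq.flip inferInstance
  have : Surjective i := MorphismProperty.of_isPullback hsq.flip inferInstance
  have : IsAffine X' := Groth.FlatMor2.isAffine_of_surjective_closedImmersion i
  -- rings
  let β : CommRingCat.of k ⟶ Γ(X, ⊤) := (Scheme.ΓSpecIso (CommRingCat.of k)).inv ≫ hX.appTop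
  let α : CommRingCat.of A ⟶ Γ(X', ⊤) := (Scheme.ΓSpecIso (CommRingCat.of A)).inv ≫ g.appTop
  let ι : CommRingCat.of k ⟶ CommRingCat.of A := CommRingCat.ofHom (algebraMap k A)
  let algB : Algebra k Γ(X, ⊤) := β.hom.toAlgebra
  let algA : Algebra A Γ(X', ⊤) := α.hom.toAlgebra
  let algk : Algebra k Γ(X', ⊤) := (α.hom.comp (algebraMap k A)).toAlgebra
  have : IsScalarTower k A Γ(X', ⊤) := .of_algebraMap_eq' rfl
  have hflat : Module.Flat A Γ(X', ⊤) := RingHom.flat_algebraMap_iff.1
    (RingHom.Flat.comp (RingHom.Flat.of_bijective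
      (ConcreteCategory.bijective_of_isIso (Scheme.ΓSpecIso (CommRingCat.of A)).inv))
      (HasRingHomProperty.appTop (P := @Flat) g ‹Flat g›))
  have : Algebra.FiniteType k Γ(X, ⊤) := RingHom.finiteType_algebraMap.1
    (RingHom.FiniteType.comp (HasRingHomProperty.appTop (P := @LocallyOfFiniteType) hX ‹_›)
      (RingHom.FiniteType.of_surjective _ (ConcreteCategory.bijective_of_isIso (Scheme.ΓSpecIso (CommRingCat.of k)).inv).2))
  have : Algebra.FormallySmooth k Γ(X, ⊤) := by
    refine Groth.ArtfunDeform.formallySmooth_iff_regular.2 fun p hp => ?_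
    have hy : (isAffineOpen_top X).fromSpec (⟨p, hp⟩ : PrimeSpectrum Γ(X, ⊤)) ∈ (⊤ : X.Opens) := trivial
    let hstalk : Algebra Γ(X, ⊤) (X.presheaf.stalk ((isAffineOpen_top X).fromSpec (⟨p, hp⟩ : PrimeSpectrum Γ(X, ⊤)))) :=
      TopCat.Presheaf.algebra_section_stalk X.presheaf ⟨_, hy⟩
    have hloc := (isAffineOpen_top X).isLocalization_stalk' ⟨p, hp⟩ hy
    have := hreg ((isAffineOpen_top X).fromSpec (⟨p, hp⟩ : PrimeSpectrum Γ(X, ⊤)))
    exact IsRegularLocalRing.of_ringEquiv
      (@IsLocalization.algEquiv Γ(X, ⊤) _ p.primeCompl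
        (X.presheaf.stalk ((isAffineOpen_top X).fromSpec (⟨p, hp⟩ : PrimeSpectrum Γ(X, ⊤)))) _ hstalk hloc
        (Localization.AtPrime p) _ _ _).toRingEquiv
  -- the closed fibre
  have hw : α ≫ i.appTop = ε ≫ β := by
    have e1 : g.appTop ≫ i.appTop = (Spec.map ε).appTop ≫ hX.appTop :=
      (Scheme.Hom.comp_appTop i g).symm.trans ((congrArg Scheme.Hom.appTop hsq.w).trans (Scheme.Hom.comp_appTop hX _))
    simp only [α, β, Category.assoc, e1]
    rw [← Category.assoc, ← Scheme.ΓSpecIso_inv_naturality, Category.assoc]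
  let ρ : Γ(X', ⊤) →ₐ[k] Γ(X, ⊤) :=
    { i.appTop.hom with
      commutes' := fun c => by
        refine (ConcreteCategory.congr_hom hw (algebraMap k A c)).trans ?_
        show β (e (algebraMap k A c)) = β c
        rw [e.commutes]
        rfl }
  have hρ : Function.Surjective ρ := i.app_surjective ⊤ (isAffineOpen_top X')
  have hker : RingHom.ker ρ.toRingHom = (IsLocalRing.maximalIdeal A).map α.hom := by
    refine le_antisymm (fun x hx => ?_) ?_
    · let K := (IsLocalRing.maximalIdeal A).map α.hom
      have hq := isPushout_appTop_of_isPullback hsq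
      let a₁ : Γ(Spec (CommRingCat.of k), ⊤) ⟶ CommRingCat.of (Γ(X', ⊤) ⧸ K) :=
        (Scheme.ΓSpecIso (CommRingCat.of k)).hom ≫ CommRingCat.ofHom
          (((Ideal.Quotient.mk K).comp α.hom).comp (algebraMap k A))
      have hc : g.appTop ≫ CommRingCat.ofHom (Ideal.Quotient.mk K) = (Spec.map ε).appTop ≫ a₁ := by
        rw [← cancel_epi (Scheme.ΓSpecIso (CommRingCat.of A)).inv]
        simp only [a₁]
        rw [← Category.assoc (Scheme.ΓSpecIso (CommRingCat.of A)).inv (Spec.map ε).appTop, ← Scheme.ΓSpecIso_inv_naturality,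
          Category.assoc, Iso.inv_hom_id_assoc, ← Category.assoc]
        refine CommRingCat.hom_ext (RingHom.ext fun a => ?_)
        show Ideal.Quotient.mk K (α a) = Ideal.Quotient.mk K (α (algebraMap k A (e a)))
        refine Ideal.Quotient.eq.2 ?_
        rw [← map_sub]
        refine Ideal.mem_map_of_mem _ (hkm.le ?_)
        rw [RingHom.mem_ker]
        show e (a - algebraMap k A (e a)) = 0
        rw [map_sub, e.commutes]
        exact sub_self _
      have e2 := ConcreteCategory.congr_hom (hq.inl_desc _ _ hc) x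
      refine Ideal.Quotient.eq_zero_iff_mem.1 (Eq.trans e2.symm ?_)
      exact (congrArg (hq.desc _ _ hc).hom (show i.appTop x = 0 from hx)).trans (map_zero _)
    · rw [Ideal.map_le_iff_le_comap]
      intro a ha
      show i.appTop (α a) = 0
      refine (ConcreteCategory.congr_hom hw a).trans ?_
      show β (e a) = 0
      rw [show e a = 0 from hkm.ge ha, map_zero]
  obtain ⟨φ, -, hbij⟩ := Groth.ArtfunDeform.TrivialDef.exists_bijective_lift e ρ hρ hker
    (fun a => ConcreteCategory.congr_hom hw a)
  let Φ := RingEquiv.ofBijective _ hbij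
  have hpo : IsPushout ι β α (CommRingCat.ofHom φ.toRingHom) :=
    (CommRingCat.isPushout_tensorProduct k A Γ(X, ⊤)).of_iso (Iso.refl _) (Iso.refl _) (Iso.refl _)
      Φ.toCommRingCatIso (by simp [ι]) (by simp [β]; rfl)
      (by
        refine CommRingCat.hom_ext (RingHom.ext fun a => ?_)
        refine Eq.trans (b := α a) ?_ rfl
        exact (Algebra.TensorProduct.lift_tmul (Algebra.ofId A Γ(X', ⊤)) φ (fun _ _ => Commute.all _ _) a 1).trans
          ((congrArg (_ * ·) (map_one φ)).trans (mul_one _)))
      (by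
        refine CommRingCat.hom_ext (RingHom.ext fun b => ?_)
        refine Eq.trans (b := φ b) ?_ rfl
        exact (Algebra.TensorProduct.lift_tmul (Algebra.ofId A Γ(X', ⊤)) φ (fun _ _ => Commute.all _ _) 1 b).trans
          ((congrArg (· * _) (map_one _)).trans (one_mul _)))
  have hpb : IsPullback (X'.isoSpec.hom ≫ Spec.map (CommRingCat.ofHom φ.toRingHom) ≫ X.isoSpec.inv) g hX (Spec.map ι) := by
    refine (isPullback_SpecMap_of_isPushout _ _ _ _ hpo).flip.of_iso X'.isoSpec.symm X.isoSpec.symm (Iso.refl _) (Iso.refl _) ?_ ?_ ?_ ?_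
    · simp
    · rw [Iso.refl_hom, Category.comp_id, Iso.symm_hom, eq_isoSpec_hom_comp g, Iso.inv_hom_id_assoc]
    · rw [Iso.refl_hom, Category.comp_id, Iso.symm_hom, eq_isoSpec_hom_comp hX, Iso.inv_hom_id_assoc]
    · simp
  exact ⟨hpb.isoPullback, hpb.isoPullback_hom_snd⟩

end Groth.Agent.S11452
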