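import Groth.Statements.S11453
import Mathlib
-- import your own Groth.Agent.* helpers here

set_option autoImplicit false
universe u
open scoped Polynomial
open DefT

namespace Groth.Agent.S11453

open scoped TensorProduct

section
attribute [local instance] Polynomial.algebra

private theorem free_finite_poly (k A : Type u) [Field k] [CommRing A] [Algebra k A]
    [Module.Finite k A] : Module.Free k[X] A[X] ∧ Module.Finite k[X] A[X] :=
  let e := (Algebra.IsPushout.equiv k k[X] A A[X]).toLinearEquiv
  ⟨Module.Free.of_equiv e, Module.Finite.equiv e⟩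

end

private theorem flat_finite_of_exact (R : Type u) [CommRing R] {M N P : Type u} [AddCommGroup M]
    [Module R M] [AddCommGroup N] [Module R N] [AddCommGroup P] [Module R P]
    [Module.Free R M] [Module.Finite R M] [Module.Free R P] [Module.Finite R P]
    (f : M →ₗ[R] N) (g : N →ₗ[R] P) (hf : Function.Injective f) (hg : Function.Surjective g)
    (hfg : Function.Exact f g) : Module.Flat R N ∧ Module.Finite R N := by
  obtain ⟨s, hs⟩ := Module.projective_lifting_property g LinearMap.id hg
  let e : (M × P) →ₗ[R] N := f.coprod s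
  have hsg : ∀ p, g (s p) = p := fun p => LinearMap.congr_fun hs p
  have hgf : ∀ m, g (f m) = 0 := fun m => (hfg (f m)).2 ⟨m, rfl⟩
  have he : Function.Bijective e := by
    refine ⟨(injective_iff_map_eq_zero _).2 fun x hx => ?_, fun n => ?_⟩
    · simp only [e, LinearMap.coprod_apply] at hx
      have h2 : x.2 = 0 := by
        have := congrArg g hx
        rwa [map_add, hgf, hsg, zero_add, map_zero] at this
      rw [h2, map_zero, add_zero] at hx
      exact Prod.ext (hf (hx.trans (map_zero f).symm)) h2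
    · obtain ⟨m, hm⟩ := (hfg (n - s (g n))).1 (by rw [map_sub, hsg, sub_self])
      exact ⟨(m, g n), by simp [e, hm]⟩
  exact ⟨Module.Flat.of_linearEquiv (LinearEquiv.ofBijective e he).symm,
    Module.Finite.equiv (LinearEquiv.ofBijective e he)⟩


/-- Let k be an algebraically closed field, A = k[x, y], and 𝔞 ⊆ A an ideal of finite colength n ≥ 2
with radical (x, y), i.e. Spec(A/𝔞) is supported at the origin. Then there is an ideal 𝔞' ⊆ A[t]
defining a family finite and flat over k[t] (A[t]/𝔞' is a finitely generated flat k[t]-module, hence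
locally free of rank n) whose fibre at t = 0 is 𝔞 and whose fibre ideal 𝔞_c at every c ≠ 0 is
contained in the maximal ideal of the origin and in the maximal ideal of some other k-point p ≠ (0,
0); so for t ≠ 0 the fibre is supported at two or more distinct points. (The published statement
allows colength 1 and puts the second point at (0, t); for colength 1 every finite flat family has
one-point fibres, and the family constructed in the published proof has its second piece at the
roots of f(x, t) on the line y = t after a linear change of the coordinates x, y, which need not lie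
at x = 0; this row states what that construction yields. The published statement asks the family to
be flat over k[t]; this row asks it to be finite and flat, as the constructed family is — f is monic
in x and (y − t)·y^N lies in the ideal for some N — and as the published proof's count of the
constant fibre length n presupposes; with flatness alone the fibre conditions here could be met by
adjoining a component that never meets t = 0.) -/
theorem result (k : Type u) [Field k] [IsAlgClosed k]
    (𝔞 : Ideal (MvPolynomial (Fin 2) k)) [Module.Finite k (MvPolynomial (Fin 2) k ⧸ 𝔞)]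
    (hn : 2 ≤ Module.finrank k (MvPolynomial (Fin 2) k ⧸ 𝔞))
    (hsupp : 𝔞.radical = Ideal.span {MvPolynomial.X 0, MvPolynomial.X 1}) :
    ∃ 𝔞' : Ideal (MvPolynomial (Fin 2) k)[X],
      RingHom.Flat (R := k[X]) (S := (MvPolynomial (Fin 2) k)[X] ⧸ 𝔞')
        ((Ideal.Quotient.mk 𝔞').comp (Polynomial.mapRingHom (algebraMap k (MvPolynomial (Fin 2) k)))) ∧
      RingHom.Finite (A := k[X]) (B := (MvPolynomial (Fin 2) k)[X] ⧸ 𝔞')
        ((Ideal.Quotient.mk 𝔞').comp (Polynomial.mapRingHom (algebraMap k (MvPolynomial (Fin 2) k)))) ∧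
      Ideal.map (Polynomial.evalRingHom (0 : MvPolynomial (Fin 2) k)) 𝔞' = 𝔞 ∧
      ∀ c : k, c ≠ 0 →
        Ideal.map (Polynomial.evalRingHom (MvPolynomial.C c)) 𝔞' ≤ Ideal.span {MvPolynomial.X 0, MvPolynomial.X 1} ∧
        ∃ p : Fin 2 → k, p ≠ 0 ∧
          Ideal.map (Polynomial.evalRingHom (MvPolynomial.C c)) 𝔞' ≤
            Ideal.span (Set.range (fun i : Fin 2 => MvPolynomial.X i - MvPolynomial.C (p i))) := by
  classical
  letI : Algebra k[X] (MvPolynomial (Fin 2) k)[X] := Polynomial.algebra k _
  have hm_le : 𝔞 ≤ Ideal.span {MvPolynomial.X 0, MvPolynomial.X 1} := hsupp ▸ Ideal.le_radical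
  have hXrad : ∀ l : Fin 2, MvPolynomial.X l ∈ 𝔞.radical := by
    intro l
    rw [hsupp]
    fin_cases l <;> exact Ideal.subset_span (by simp)
  -- evaluation at a point generates its maximal ideal
  have hker : ∀ (p : Fin 2 → k) (g : MvPolynomial (Fin 2) k),
      g - MvPolynomial.C (MvPolynomial.eval p g) ∈
        Ideal.span (Set.range fun l : Fin 2 => MvPolynomial.X l - MvPolynomial.C (p l)) := by
    intro p g
    set I := Ideal.span (Set.range fun l : Fin 2 =>
      MvPolynomial.X l - MvPolynomial.C (R := k) (p l))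
    have h : (Ideal.Quotient.mk I).comp ((MvPolynomial.C).comp (MvPolynomial.eval p)) =
        Ideal.Quotient.mk I := by
      refine MvPolynomial.ringHom_ext (fun r => by simp) fun l => ?_
      simp only [RingHom.comp_apply, MvPolynomial.eval_X]
      refine (Ideal.Quotient.eq.2 ?_).symm
      exact Ideal.subset_span ⟨l, rfl⟩
    exact (Ideal.Quotient.eq.1 (RingHom.congr_fun h g).symm)
  obtain ⟨j, hj⟩ : ∃ j : Fin 2, MvPolynomial.X j ∉ 𝔞 := by
    by_contra hall
    push Not at hall
    have hle : Ideal.span {MvPolynomial.X 0, MvPolynomial.X 1} ≤ 𝔞 := Ideal.span_le.2 (by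
      rintro _ (rfl | rfl) <;> exact hall _)
    have hone : Module.finrank k (MvPolynomial (Fin 2) k ⧸ 𝔞) ≤ 1 := by
      refine finrank_le_one (Ideal.Quotient.mk 𝔞 1) fun q => ?_
      obtain ⟨g, rfl⟩ := Ideal.Quotient.mk_surjective q
      refine ⟨MvPolynomial.eval 0 g, ?_⟩
      have h0 := hker 0 g
      have : Ideal.span (Set.range fun l : Fin 2 =>
          MvPolynomial.X l - MvPolynomial.C ((0 : Fin 2 → k) l)) ≤ 𝔞 := Ideal.span_le.2 (by
        rintro _ ⟨l, rfl⟩
        simpa using hall l)
      rw [Ideal.Quotient.eq.2 (this h0)]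
      show Ideal.Quotient.mk 𝔞 ((MvPolynomial.eval 0 g) • 1) = _
      rw [MvPolynomial.smul_eq_C_mul, mul_one]
    omega
  obtain ⟨i, hij, hcases⟩ : ∃ i : Fin 2, i ≠ j ∧ ∀ l, l = i ∨ l = j := by
    fin_cases j
    · exact ⟨1, by decide, by decide⟩
    · exact ⟨0, by decide, by decide⟩
  set x : MvPolynomial (Fin 2) k := MvPolynomial.X i with hxdef
  set y : MvPolynomial (Fin 2) k := MvPolynomial.X j with hydef
  -- restriction to the line `y = 0`
  let e0 : MvPolynomial (Fin 2) k →ₐ[k] k[X] :=
    MvPolynomial.aeval fun l => if l = i then Polynomial.X else 0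
  let ι0 : k[X] →ₐ[k] MvPolynomial (Fin 2) k := Polynomial.aeval x
  have he0x : e0 x = Polynomial.X := by simp [e0, x]
  have he0y : e0 y = 0 := by simp [e0, y, hij.symm]
  have hretr : ∀ g, g - ι0 (e0 g) ∈ Ideal.span {y} := by
    intro g
    have h : (Ideal.Quotient.mkₐ k (Ideal.span {y})).comp (ι0.comp e0) =
        Ideal.Quotient.mkₐ k (Ideal.span {y}) := by
      refine MvPolynomial.algHom_ext fun l => ?_
      simp only [AlgHom.comp_apply, Ideal.Quotient.mkₐ_eq_mk]
      rcases hcases l with rfl | rfl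
      · rw [show MvPolynomial.X l = x from rfl, he0x]
        simp [ι0]
      · rw [show MvPolynomial.X l = y from rfl, he0y, map_zero, map_zero]
        exact (Ideal.Quotient.eq_zero_iff_mem.2 (Ideal.mem_span_singleton_self y)).symm
    exact Ideal.Quotient.eq.1 (AlgHom.congr_fun h g).symm
  let J : Ideal k[X] := 𝔞.map e0.toRingHom
  obtain ⟨Nx, hNx⟩ := hXrad i
  obtain ⟨Ny, hNy⟩ := hXrad j
  have hxJ : (Polynomial.X : k[X]) ^ Nx ∈ J := by
    rw [← he0x, ← map_pow]
    exact Ideal.mem_map_of_mem _ hNx
  let hexa : ∃ a, (Polynomial.X : k[X]) ^ a ∈ J := ⟨Nx, hxJ⟩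
  set a := Nat.find hexa with hadef
  have haJ : (Polynomial.X : k[X]) ^ a ∈ J := Nat.find_spec hexa
  have hJdvd : ∀ h ∈ J, (Polynomial.X : k[X]) ^ a ∣ h := by
    intro h hh
    obtain ⟨gen, hgen⟩ := (IsPrincipalIdealRing.principal J).principal
    have hgd : ∀ z ∈ J, gen ∣ z := fun z hz =>
      Ideal.mem_span_singleton.1 (by rw [hgen] at hz; exact hz)
    obtain ⟨b, -, hb⟩ := (dvd_prime_pow Polynomial.prime_X Nx).1 (hgd _ hxJ)
    have hbJ : (Polynomial.X : k[X]) ^ b ∈ J :=
      (by rw [hgen]; exact Ideal.mem_span_singleton.2 hb.dvd)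
    exact (pow_dvd_pow _ (Nat.find_min' hexa hbJ)).trans (hb.symm.dvd.trans (hgd h hh))
  have e0eval : ∀ g, (e0 g).eval 0 = MvPolynomial.eval 0 g := by
    intro g
    have h : (Polynomial.aeval (R := k) (0 : k)).comp e0 = MvPolynomial.aeval (0 : Fin 2 → k) := by
      refine MvPolynomial.algHom_ext fun l => ?_
      rcases hcases l with rfl | rfl <;> simp [e0, hij.symm]
    simpa [MvPolynomial.aeval_eq_eval] using AlgHom.congr_fun h g
  have hm0 : ∀ g ∈ Ideal.span {MvPolynomial.X (R := k) (0 : Fin 2), MvPolynomial.X 1},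
      MvPolynomial.eval 0 g = 0 := by
    intro g hg
    have : Ideal.span {MvPolynomial.X (R := k) (0 : Fin 2), MvPolynomial.X 1} ≤
        RingHom.ker (MvPolynomial.eval (0 : Fin 2 → k)) := Ideal.span_le.2 (by
      rintro _ (rfl | rfl) <;> simp)
    exact this hg
  have ha : 0 < a := by
    rw [pos_iff_ne_zero]
    intro h0
    have h1 : (1 : k[X]) ∈ J := by simpa [h0] using haJ
    have : J ≤ RingHom.ker (Polynomial.evalRingHom (0 : k)) := Ideal.map_le_iff_le_comap.2 fun g hg => by
      show (e0 g).eval 0 = 0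
      rw [e0eval]
      exact hm0 g (hm_le hg)
    simpa using this h1
  -- normal form modulo `𝔞`
  let W : Submodule k (MvPolynomial (Fin 2) k) :=
    Submodule.span k {z | ∃ l m : ℕ, m < a ∧ z = y ^ l * x ^ m}
  let V : Submodule k (MvPolynomial (Fin 2) k) := 𝔞.restrictScalars k ⊔ W
  have hyV : ∀ z ∈ V, y * z ∈ V := by
    intro z hz
    obtain ⟨z₁, hz₁, z₂, hz₂, rfl⟩ := Submodule.mem_sup.1 hz
    rw [mul_add]
    refine Submodule.add_mem_sup (𝔞.mul_mem_left y hz₁) ?_
    have : W ≤ W.comap (LinearMap.mulLeft k y) := Submodule.span_le.2 (by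
      rintro _ ⟨l, m, hm, rfl⟩
      refine Submodule.subset_span ⟨l + 1, m, hm, ?_⟩
      simp [pow_succ']; ring)
    exact this hz₂
  have hbase : ∀ g, ∃ v ∈ V, ∃ q, g = v + y * q := by
    intro g
    obtain ⟨q, hq⟩ := Ideal.mem_span_singleton.1 (hretr g)
    have hxa : ∀ f : k[X], ∃ v ∈ V, ∃ q, ι0 f = v + y * q := by
      intro f
      induction f using Polynomial.induction_on' with
      | add p r hp hr =>
        obtain ⟨v, hv, q, hq⟩ := hp
        obtain ⟨v', hv', q', hq'⟩ := hr
        exact ⟨v + v', add_mem hv hv', q + q', by rw [map_add, hq, hq']; ring⟩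
      | monomial m c =>
        by_cases hm : m < a
        · refine ⟨ι0 (Polynomial.monomial m c), ?_, 0, by simp⟩
          refine Submodule.mem_sup_right ?_
          rw [show ι0 (Polynomial.monomial m c) = c • (y ^ 0 * x ^ m) by
            simp [ι0, MvPolynomial.smul_eq_C_mul]]
          exact Submodule.smul_mem _ _ (Submodule.subset_span ⟨0, m, hm, rfl⟩)
        · obtain ⟨z, hz, hze⟩ :=
            (Ideal.mem_map_iff_of_surjective e0.toRingHom (fun f => ⟨ι0 f, by
              show (e0.comp ι0) f = AlgHom.id k k[X] f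
              congr 1
              exact Polynomial.algHom_ext (by simp [ι0, he0x])⟩)).1
              (J.mul_mem_left (Polynomial.C c * Polynomial.X ^ (m - a)) haJ)
          obtain ⟨q, hq⟩ := Ideal.mem_span_singleton.1 (hretr z)
          refine ⟨z, Submodule.mem_sup_left hz, -q, ?_⟩
          have hze' : e0 z = Polynomial.monomial m c := by
            rw [← Polynomial.C_mul_X_pow_eq_monomial]
            refine hze.trans ?_
            rw [mul_assoc, ← pow_add, Nat.sub_add_cancel (not_lt.1 hm)]
          rw [hze'] at hq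
          linear_combination -hq
    obtain ⟨v, hv, q', hq'⟩ := hxa (e0 g)
    exact ⟨v, hv, q + q', by linear_combination hq + hq'⟩
  have hstep : ∀ (s : ℕ) (g : MvPolynomial (Fin 2) k), ∃ v ∈ V, ∃ q, g = v + y ^ s * q := by
    intro s
    induction s with
    | zero => exact fun g => ⟨0, zero_mem _, g, by simp⟩
    | succ s ih =>
      intro g
      obtain ⟨v, hv, q, hq⟩ := ih g
      obtain ⟨v', hv', q', hq'⟩ := hbase q
      have hpow : ∀ (s : ℕ) (z : MvPolynomial (Fin 2) k), z ∈ V → y ^ s * z ∈ V := by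
        intro s z hz
        induction s with
        | zero => simpa using hz
        | succ s ih => rw [pow_succ', mul_assoc]; exact hyV _ ih
      exact ⟨v + y ^ s * v', add_mem hv (hpow s _ hv'), q', by rw [hq, hq', pow_succ]; ring⟩
  obtain ⟨F, hFa, w, hw, hFw⟩ : ∃ F ∈ 𝔞, ∃ w ∈ W, F = x ^ a - w := by
    obtain ⟨v, hv, q, hq⟩ := hstep Ny (x ^ a)
    obtain ⟨z₁, hz₁, z₂, hz₂, rfl⟩ := Submodule.mem_sup.1 hv
    exact ⟨z₁ + y ^ Ny * q, 𝔞.add_mem hz₁ (𝔞.mul_mem_right q hNy), z₂, hz₂,
      by linear_combination -hq⟩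
  -- the curve seen over `k[t]`
  let Φ : MvPolynomial (Fin 2) k →ₐ[k] k[X][X] :=
    MvPolynomial.aeval fun l => if l = i then Polynomial.X else Polynomial.C Polynomial.X
  have hΦx : Φ x = Polynomial.X := by simp [Φ, x]
  have hΦy : Φ y = Polynomial.C Polynomial.X := by simp [Φ, y, hij.symm]
  set G := Φ F with hGdef
  have hGw : (Φ w).degree < a := by
    rw [← Polynomial.mem_degreeLT]
    have : W ≤ ((Polynomial.degreeLT k[X] a).restrictScalars k).comap Φ.toLinearMap :=
      Submodule.span_le.2 (by
        rintro _ ⟨l, m, hm, rfl⟩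
        show Φ (y ^ l * x ^ m) ∈ Polynomial.degreeLT k[X] a
        rw [map_mul, map_pow, map_pow, hΦx, hΦy, ← map_pow, Polynomial.mem_degreeLT]
        exact (Polynomial.degree_C_mul_X_pow_le m _).trans_lt (by exact_mod_cast hm))
    exact this hw
  have hGmonic : G.Monic := by
    rw [hGdef, hFw, map_sub, map_pow, hΦx]
    exact Polynomial.monic_X_pow_sub hGw
  have hGdeg : G.natDegree = a := by
    refine Polynomial.natDegree_eq_of_degree_eq_some ?_
    rw [hGdef, hFw, map_sub, map_pow, hΦx, Polynomial.degree_sub_eq_left_of_degree_lt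
      (by rwa [Polynomial.degree_X_pow]), Polynomial.degree_X_pow]
  have he0Φ : ∀ g, e0 g = (Φ g).map (Polynomial.evalRingHom 0) := by
    intro g
    have h : e0 = (Polynomial.mapAlgHom (Polynomial.aeval (R := k) (0 : k))).comp Φ := by
      refine MvPolynomial.algHom_ext fun l => ?_
      rcases hcases l with rfl | rfl <;> simp [e0, Φ, hij.symm]
    rw [h]
    simp [Polynomial.coe_aeval_eq_evalRingHom]
  have he0F : e0 F = Polynomial.X ^ a := by
    have hmon : (e0 F).Monic := he0Φ F ▸ hGmonic.map _
    refine (Polynomial.eq_of_monic_of_dvd_of_natDegree_le (Polynomial.monic_X_pow a) hmon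
      (hJdvd _ (Ideal.mem_map_of_mem _ hFa)) ?_)
    rw [he0Φ, hGmonic.natDegree_map, Polynomial.natDegree_X_pow, hGdeg]
  let 𝔠 : Ideal (MvPolynomial (Fin 2) k) :=
    Submodule.comap (LinearMap.mulLeft (MvPolynomial (Fin 2) k) y) 𝔞
  have hle_c : 𝔞 ≤ 𝔠 := fun g hg => 𝔞.mul_mem_left y hg
  have hc_m : ∀ e ∈ 𝔠, MvPolynomial.eval 0 e = 0 := by
    intro e he
    by_contra hne
    have hu : 𝔠 = ⊤ := by
      by_contra hnt
      obtain ⟨M, hM, hle⟩ := Ideal.exists_le_maximal _ hnt
      have hXM : ∀ l, MvPolynomial.X l ∈ M := fun l =>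
        hM.isPrime.radical.le ((Ideal.radical_mono (hle_c.trans hle)) (hXrad l))
      apply hM.ne_top
      have h0 := hker 0 e
      have hsub : e - MvPolynomial.C (MvPolynomial.eval 0 e) ∈ M :=
        Ideal.span_le.2 (by rintro _ ⟨l, rfl⟩; simpa using hXM l) h0
      refine Ideal.eq_top_of_isUnit_mem _ (by simpa using sub_mem (hle he) hsub)
        ((Ne.isUnit hne).map _)
    exact hj (by simpa [𝔠] using (hu ▸ Submodule.mem_top : (1 : MvPolynomial (Fin 2) k) ∈ 𝔠))
  have hdecomp : ∀ g ∈ 𝔞, g ∈ Ideal.span {F} ⊔ Ideal.span {y} * 𝔠 := by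
    intro g hg
    obtain ⟨h, hh⟩ := hJdvd _ (Ideal.mem_map_of_mem e0.toRingHom hg)
    have hh' : e0 g = Polynomial.X ^ a * h := hh
    have h1 : g - ι0 h * F ∈ Ideal.span {y} := by
      have h2 := hretr (g - ι0 h * F)
      rwa [map_sub, map_mul, he0F, show e0 (ι0 h) = h from ?_, hh', mul_comm h, sub_self,
        map_zero, sub_zero] at h2
      show (e0.comp ι0) h = AlgHom.id k k[X] h
      congr 1
      exact Polynomial.algHom_ext (by simp [ι0, he0x])
    obtain ⟨q, hq⟩ := Ideal.mem_span_singleton.1 h1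
    have hqc : q ∈ 𝔠 := by
      show y * q ∈ 𝔞
      rw [← hq]
      exact sub_mem hg (𝔞.mul_mem_left _ hFa)
    rw [show g = ι0 h * F + y * q by rw [← hq]; ring]
    exact Submodule.add_mem_sup (Ideal.mul_mem_left _ _ (Ideal.mem_span_singleton_self F))
      (Ideal.mul_mem_mul (Ideal.mem_span_singleton_self y) hqc)
  let yt : (MvPolynomial (Fin 2) k)[X] := Polynomial.C y - Polynomial.X
  let Cg : Ideal (MvPolynomial (Fin 2) k)[X] := 𝔠.map Polynomial.C
  let I : Ideal (MvPolynomial (Fin 2) k)[X] :=
    Ideal.span {Polynomial.C F} ⊔ Ideal.span {yt} * Cg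
  let π : (MvPolynomial (Fin 2) k)[X] →ₐ[k[X]] k[X][X] :=
    { Polynomial.eval₂RingHom Φ.toRingHom (Polynomial.C Polynomial.X) with
      commutes' := fun p => by
        show Polynomial.eval₂ Φ.toRingHom (Polynomial.C Polynomial.X)
          (p.map (algebraMap k _)) = Polynomial.C p
        rw [Polynomial.eval₂_map, AlgHom.toRingHom_eq_coe, AlgHom.comp_algebraMap]
        induction p using Polynomial.induction_on' with
        | add p q hp hq => simp [hp, hq]
        | monomial n c => simp [← Polynomial.C_mul_X_pow_eq_monomial, IsScalarTower.algebraMap_apply k k[X] k[X][X]] }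
  have hπC : ∀ g, π (Polynomial.C g) = Φ g := fun g => Polynomial.eval₂_C _ _
  have hπX : π Polynomial.X = Polynomial.C Polynomial.X := Polynomial.eval₂_X _ _
  let σ : k[X][X] →+* (MvPolynomial (Fin 2) k)[X] :=
    Polynomial.eval₂RingHom (Polynomial.mapRingHom (algebraMap k _)) (Polynomial.C x)
  have hπyt : π yt = 0 := by rw [map_sub, hπC, hπX, hΦy, sub_self]
  have hπσ : ∀ p, π (σ p) = p := by
    intro p
    have h : π.toRingHom.comp σ = RingHom.id _ := by
      refine Polynomial.ringHom_ext (fun q => ?_) ?_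
      · show π (σ (Polynomial.C q)) = Polynomial.C q
        rw [show σ (Polynomial.C q) = algebraMap k[X] _ q from Polynomial.eval₂_C _ _]
        exact π.commutes q
      · show π (σ Polynomial.X) = Polynomial.X
        rw [show σ Polynomial.X = Polynomial.C x from Polynomial.eval₂_X _ _, hπC, hΦx]
    exact RingHom.congr_fun h p
  have hσπ : ∀ s, s - σ (π s) ∈ Ideal.span {yt} := by
    intro s
    have h : (Ideal.Quotient.mk (Ideal.span {yt})).comp (σ.comp π.toRingHom) =
        Ideal.Quotient.mk (Ideal.span {yt}) := by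
      refine Polynomial.ringHom_ext' (MvPolynomial.ringHom_ext (fun r => ?_) fun l => ?_) ?_
      · show Ideal.Quotient.mk _ (σ (π (Polynomial.C (MvPolynomial.C r)))) = _
        rw [hπC, show Φ (MvPolynomial.C r) = Polynomial.C (Polynomial.C r) by simp [Φ]]
        simp [σ]
      · show Ideal.Quotient.mk _ (σ (π (Polynomial.C (MvPolynomial.X l)))) = _
        rcases hcases l with rfl | rfl
        · rw [show MvPolynomial.X l = x from rfl, hπC, hΦx]
          simp [σ, x]
        · rw [show MvPolynomial.X l = y from rfl, hπC, hΦy]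
          refine (Ideal.Quotient.eq.2 ?_).symm
          simp [σ, yt, y, Ideal.mem_span_singleton]
      · show Ideal.Quotient.mk _ (σ (π Polynomial.X)) = _
        rw [hπX]
        simp [σ]
    exact Ideal.Quotient.eq.1 (RingHom.congr_fun h s).symm
  have hIle : I ≤ Ideal.comap π (Ideal.span {G}) := sup_le
    (Ideal.span_le.2 (by rintro _ rfl; simp [hπC, ← hGdef, Ideal.mem_span_singleton]))
    (Ideal.mul_le.2 fun p hp q _ => by
      obtain ⟨r, rfl⟩ := Ideal.mem_span_singleton.1 hp
      simp [hπyt])
  let φ : ((MvPolynomial (Fin 2) k)[X] ⧸ I) →ₐ[k[X]] (k[X][X] ⧸ Ideal.span {G}) :=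
    Ideal.Quotient.liftₐ I ((Ideal.Quotient.mkₐ k[X] (Ideal.span {G})).comp π)
      fun s hs => Ideal.Quotient.eq_zero_iff_mem.2 (hIle hs)
  let ψ : ((MvPolynomial (Fin 2) k)[X] ⧸ Cg) →ₗ[k[X]] (MvPolynomial (Fin 2) k)[X] ⧸ I :=
    (Cg.restrictScalars k[X]).mapQ (I.restrictScalars k[X]) (LinearMap.mulLeft k[X] yt)
      fun s hs => Ideal.mem_sup_right (Ideal.mul_mem_mul (Ideal.mem_span_singleton_self yt) hs)
  have hψ : ∀ s, ψ (Ideal.Quotient.mk Cg s) = Ideal.Quotient.mk I (yt * s) := fun s => rfl
  have hyt0 : yt ≠ 0 := fun h => by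
    have := congrArg (fun p => Polynomial.coeff p 1) h
    simp [yt] at this
  have hψinj : Function.Injective ψ := by
    refine (injective_iff_map_eq_zero _).2 fun q hq => ?_
    obtain ⟨s, rfl⟩ := Ideal.Quotient.mk_surjective q
    rw [hψ, Ideal.Quotient.eq_zero_iff_mem] at hq
    obtain ⟨u, hu, v, hv, huv⟩ := Submodule.mem_sup.1 hq
    obtain ⟨r, rfl⟩ := Ideal.mem_span_singleton.1 hu
    obtain ⟨e, he, rfl⟩ := Ideal.mem_span_singleton_mul.1 hv
    have hr : π r = 0 := by
      have := congrArg π huv
      rw [map_add, map_mul, map_mul, map_mul, hπyt, zero_mul, zero_mul, add_zero, hπC] at this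
      exact (mul_eq_zero.1 this).resolve_left hGmonic.ne_zero
    have := hσπ r
    rw [hr, map_zero, sub_zero] at this
    obtain ⟨r', rfl⟩ := Ideal.mem_span_singleton.1 this
    refine Ideal.Quotient.eq_zero_iff_mem.2 ?_
    rw [show s = Polynomial.C F * r' + e from mul_left_cancel₀ hyt0 (by rw [← huv]; ring)]
    exact Ideal.add_mem _ (Ideal.mul_mem_right _ _ (Ideal.mem_map_of_mem _ (hle_c hFa))) he
  have hexact : Function.Exact ψ φ.toLinearMap := by
    intro q
    obtain ⟨s, rfl⟩ := Ideal.Quotient.mk_surjective q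
    constructor
    · intro hs
      obtain ⟨r, hr⟩ := Ideal.mem_span_singleton.1
        (Ideal.Quotient.eq_zero_iff_mem.1 (hs : Ideal.Quotient.mk (Ideal.span {G}) (π s) = 0))
      have hr' : π s = G * r := hr
      have h1 := hσπ (s - σ r * Polynomial.C F)
      rw [map_sub, map_mul, hπσ, hπC, ← hGdef, hr', mul_comm G r, sub_self, map_zero,
        sub_zero] at h1
      obtain ⟨e, he⟩ := Ideal.mem_span_singleton.1 h1
      refine ⟨Ideal.Quotient.mk Cg e, ?_⟩
      rw [hψ, Ideal.Quotient.eq]
      rw [show yt * e - s = -(σ r) * Polynomial.C F by rw [← he]; ring]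
      exact Ideal.mem_sup_left (Ideal.mul_mem_left _ _ (Ideal.mem_span_singleton_self _))
    · rintro ⟨e, he⟩
      obtain ⟨e, rfl⟩ := Ideal.Quotient.mk_surjective e
      rw [← he, hψ]
      show Ideal.Quotient.mk _ (π (yt * e)) = 0
      rw [map_mul, hπyt, zero_mul, map_zero]
  haveI : Module.Finite k (MvPolynomial (Fin 2) k ⧸ 𝔠) :=
    Module.Finite.of_surjective (Ideal.Quotient.factorₐ k hle_c).toLinearMap
      (Ideal.Quotient.factor_surjective hle_c)
  obtain ⟨hfree, hfin⟩ := free_finite_poly k (MvPolynomial (Fin 2) k ⧸ 𝔠)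
  letI : Algebra k[X] (MvPolynomial (Fin 2) k ⧸ 𝔠)[X] := Polynomial.algebra k _
  let mc : (MvPolynomial (Fin 2) k)[X] →ₐ[k[X]] (MvPolynomial (Fin 2) k ⧸ 𝔠)[X] :=
    { Polynomial.mapRingHom (Ideal.Quotient.mk 𝔠) with
      commutes' := fun p => by
        show (p.map (algebraMap k _)).map (Ideal.Quotient.mk 𝔠) = p.map (algebraMap k _)
        rw [Polynomial.map_map]
        rfl }
  have hmc : RingHom.ker mc = Cg := by
    show RingHom.ker (Polynomial.mapRingHom (Ideal.Quotient.mk 𝔠)) = _
    rw [Polynomial.ker_mapRingHom, Ideal.mk_ker]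
  let eC : ((MvPolynomial (Fin 2) k)[X] ⧸ Cg) ≃ₐ[k[X]] (MvPolynomial (Fin 2) k ⧸ 𝔠)[X] :=
    (Ideal.quotientEquivAlgOfEq k[X] hmc.symm).trans
      (Ideal.quotientKerAlgEquivOfSurjective (f := mc)
        (Polynomial.map_surjective _ Ideal.Quotient.mk_surjective))
  haveI := Module.Free.of_equiv eC.toLinearEquiv.symm
  haveI := Module.Finite.equiv eC.toLinearEquiv.symm
  haveI := hGmonic.free_quotient
  haveI := hGmonic.finite_quotient
  obtain ⟨hflat, hfinite⟩ := flat_finite_of_exact k[X] ψ φ.toLinearMap hψinj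
    (fun q => by
      obtain ⟨p, rfl⟩ := Ideal.Quotient.mk_surjective q
      exact ⟨Ideal.Quotient.mk I (σ p), by
        show Ideal.Quotient.mk _ (π (σ p)) = _; rw [hπσ]⟩) hexact
  have halg : algebraMap k[X] ((MvPolynomial (Fin 2) k)[X] ⧸ I) =
      (Ideal.Quotient.mk I).comp (Polynomial.mapRingHom (algebraMap k (MvPolynomial (Fin 2) k))) :=
    rfl
  have hmap : ∀ c : MvPolynomial (Fin 2) k, Ideal.map (Polynomial.evalRingHom c) I =
      Ideal.span {F} ⊔ Ideal.span {y - c} * 𝔠 := by
    intro c
    rw [Ideal.map_sup, Ideal.map_mul, Ideal.map_map, Ideal.map_span, Ideal.map_span,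
      Set.image_singleton, Set.image_singleton]
    have hid : (Polynomial.evalRingHom c).comp Polynomial.C =
        RingHom.id (MvPolynomial (Fin 2) k) := RingHom.ext fun r => Polynomial.eval_C
    rw [hid, Ideal.map_id]
    simp [yt]
  refine ⟨I, ?_, ?_, ?_, fun c hc => ⟨?_, ?_⟩⟩
  · rw [← halg]
    exact RingHom.flat_algebraMap_iff.2 hflat
  · rw [← halg]
    exact RingHom.finite_algebraMap.2 hfinite
  · rw [hmap, sub_zero]
    refine le_antisymm (sup_le ((Ideal.span_singleton_le_iff_mem _).2 hFa) ?_) hdecomp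
    rw [Ideal.span_singleton_mul_le_iff]
    exact fun z hz => hz
  · rw [hmap]
    refine sup_le ((Ideal.span_singleton_le_iff_mem _).2 (hm_le hFa)) ?_
    rw [Ideal.span_singleton_mul_le_iff]
    intro z hz
    refine Ideal.mul_mem_left _ _ ?_
    have h0 := hker 0 z
    rw [hc_m z hz, map_zero, sub_zero] at h0
    refine Ideal.span_le.2 ?_ h0
    rintro _ ⟨l, rfl⟩
    fin_cases l <;> simpa using Ideal.subset_span (by simp)
  · obtain ⟨r, hr⟩ := IsAlgClosed.exists_root (G.map (Polynomial.evalRingHom c)) (by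
      rw [hGmonic.degree_map, Polynomial.degree_eq_natDegree hGmonic.ne_zero, hGdeg]
      exact_mod_cast ha.ne')
    let p : Fin 2 → k := fun l => if l = i then r else c
    have hpF : ∀ g, MvPolynomial.eval p g = ((Φ g).map (Polynomial.evalRingHom c)).eval r := by
      intro g
      have h : MvPolynomial.aeval p = ((Polynomial.aeval (R := k) r).comp
          ((Polynomial.mapAlgHom (Polynomial.aeval (R := k) c)).comp Φ)) := by
        refine MvPolynomial.algHom_ext fun l => ?_
        rcases hcases l with rfl | rfl <;> simp [Φ, p, hij.symm]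
      simpa [MvPolynomial.aeval_eq_eval, Polynomial.coe_aeval_eq_evalRingHom] using
        AlgHom.congr_fun h g
    refine ⟨p, fun h0 => hc ?_, ?_⟩
    · simpa [p, hij.symm] using congrFun h0 j
    · rw [hmap]
      refine sup_le ((Ideal.span_singleton_le_iff_mem _).2 ?_) ?_
      · have := hker p F
        rwa [hpF F, ← hGdef, hr.eq_zero, map_zero, sub_zero] at this
      · rw [Ideal.span_singleton_mul_le_iff]
        intro z _
        refine Ideal.mul_mem_right _ _ (Ideal.subset_span ⟨j, ?_⟩)
        simp [y, p, hij.symm]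

end Groth.Agent.S11453
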