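import Groth.Statements.S11454
import Groth.Agent.ArtfunDeform.RegFlat

set_option autoImplicit false
universe u
open DefT

namespace Groth.Agent.S11454

/-- Let C' be a local Artin ring, J ⊊ C' a proper ideal annihilated by the maximal ideal, C = C'/J, A' a
flat C'-algebra whose reduction modulo the maximal ideal of C' is a Cohen–Macaulay local ring, and A
= A'/JA'. If a'_1, …, a'_r ∈ A' have images in A forming a regular sequence with A/(a_1, …, a_r)
flat over C, then a'_1, …, a'_r is a regular sequence on A' and A'/(a'_1, …, a'_r) is flat over C'.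
(Regular sequences stand in for the exactness of the Koszul complexes in the published statement;
over a Noetherian local ring with the elements in the maximal ideal the two are equivalent.) -/
theorem result (C' : Type u) [CommRing C'] [IsLocalRing C'] [IsArtinianRing C'] (J : Ideal C')
    (hJ : IsLocalRing.maximalIdeal C' * J = ⊥) (hJne : J ≠ ⊤) (A' : Type u) [CommRing A'] [Algebra C' A'] [Module.Flat C' A']
    [LocCoh.IsCohenMacaulayLocalRing (A' ⧸ (IsLocalRing.maximalIdeal C').map (algebraMap C' A'))]
    (r : ℕ) (a' : Fin r → A')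
    (hreg : RingTheory.Sequence.IsRegular (A' ⧸ J.map (algebraMap C' A'))
      (List.ofFn (fun i => Ideal.Quotient.mk (J.map (algebraMap C' A')) (a' i))))
    [Module.Flat (C' ⧸ J) ((A' ⧸ J.map (algebraMap C' A')) ⧸
      Ideal.span (Set.range (fun i => Ideal.Quotient.mk (J.map (algebraMap C' A')) (a' i))))] :
    RingTheory.Sequence.IsRegular A' (List.ofFn a') ∧ Module.Flat C' (A' ⧸ Ideal.span (Set.range a')) := by
  classical
  set I := J.map (algebraMap C' A') with hI
  have hmap : List.ofFn (fun i => Ideal.Quotient.mk I (a' i)) = (List.ofFn a').map (algebraMap A' (A' ⧸ I)) := by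
    rw [List.map_ofFn]; rfl
  have h1 : RingTheory.Sequence.IsWeaklyRegular (A' ⧸ I) (List.ofFn a') :=
    (RingTheory.Sequence.isWeaklyRegular_map_algebraMap_iff (A' ⧸ I) (A' ⧸ I) (List.ofFn a')).mp (hmap ▸ hreg.toIsWeaklyRegular)
  have h2 : RingTheory.Sequence.IsWeaklyRegular (A' ⧸ I • (⊤ : Submodule A' A')) (List.ofFn a') :=
    (LinearEquiv.isWeaklyRegular_congr (Submodule.quotEquivOfEq _ _ (by rw [Ideal.smul_eq_mul, Ideal.mul_top])) _).mp h1
  obtain ⟨hw, hf⟩ := Groth.ArtfunDeform.RegFlat.isWeaklyRegular_and_flat hJne (List.ofFn a') A' h2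
  have hspan : Ideal.ofList (List.ofFn a') = Ideal.span (Set.range a') := by
    simp [Ideal.ofList, List.mem_ofFn, Set.range]
  have hsm : Ideal.ofList (List.ofFn a') • (⊤ : Submodule A' A') = Ideal.span (Set.range a') := by
    rw [hspan, Ideal.smul_eq_mul, Ideal.mul_top]
  refine ⟨⟨hw, fun htop => hreg.top_ne_smul ?_⟩, ?_⟩
  · rw [hsm] at htop
    have e : Ideal.ofList (List.ofFn fun i => Ideal.Quotient.mk I (a' i)) = ⊤ := by
      rw [hmap, ← Ideal.map_ofList, hspan, ← htop, Ideal.map_top]
    rw [e, Submodule.top_smul]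
  · exact Module.Flat.of_linearEquiv ((Submodule.quotEquivOfEq _ _ hsm.symm).restrictScalars C')

end Groth.Agent.S11454
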