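import Groth.Statements.S11455
import Groth.Agent.ArtfunDeform.IdealTorsor

set_option autoImplicit false
universe u
open DefT

namespace Groth.Agent.S11455

/-- Let C' be a local Artin ring, J ⊊ C' a proper ideal annihilated by the maximal ideal, C = C'/J, A' a
flat C'-algebra whose reduction modulo the maximal ideal of C' is a Cohen–Macaulay local ring, A =
A'/JA', and a_1, …, a_r a regular sequence on A with A/(a_1, …, a_r) flat over C. Then every ideal
I' of A' with A'/I' flat over C' and with image (a_1, …, a_r) in A is generated by some lifts a'_1,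
…, a'_r of the a_i. -/
theorem result (C' : Type u) [CommRing C'] [IsLocalRing C'] [IsArtinianRing C'] (J : Ideal C')
    (hJ : IsLocalRing.maximalIdeal C' * J = ⊥) (hJne : J ≠ ⊤) (A' : Type u) [CommRing A'] [Algebra C' A'] [Module.Flat C' A']
    [LocCoh.IsCohenMacaulayLocalRing (A' ⧸ (IsLocalRing.maximalIdeal C').map (algebraMap C' A'))]
    (r : ℕ) (a : Fin r → A' ⧸ J.map (algebraMap C' A'))
    (hreg : RingTheory.Sequence.IsRegular (A' ⧸ J.map (algebraMap C' A')) (List.ofFn a))
    [Module.Flat (C' ⧸ J) ((A' ⧸ J.map (algebraMap C' A')) ⧸ Ideal.span (Set.range a))]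
    (I' : Ideal A') [Module.Flat C' (A' ⧸ I')]
    (hI' : I'.map (Ideal.Quotient.mk (J.map (algebraMap C' A'))) = Ideal.span (Set.range a)) :
    ∃ a' : Fin r → A', (∀ i, Ideal.Quotient.mk (J.map (algebraMap C' A')) (a' i) = a i) ∧
      I' = Ideal.span (Set.range a') := by
  classical
  have hJJ : J * J = ⊥ := le_bot_iff.mp ((Ideal.mul_mono_left (IsLocalRing.le_maximalIdeal hJne)).trans hJ.le)
  have hL : Groth.ArtfunDeform.IdealTorsor.Lifts (Ideal.span (Set.range a)) I' := hI'
  choose a' ha' hea using fun i => hL.exists_lift (Ideal.subset_span (Set.mem_range_self i) : a i ∈ Ideal.span (Set.range a))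
  refine ⟨a', hea, le_antisymm ?_ (Ideal.span_le.mpr (Set.range_subset_iff.mpr ha'))⟩
  have hK : Groth.ArtfunDeform.IdealTorsor.Lifts (Ideal.span (Set.range a)) (Ideal.span (Set.range a')) := by
    rw [Groth.ArtfunDeform.IdealTorsor.Lifts, Ideal.map_span, ← Set.range_comp]
    congr 1
    exact congrArg Set.range (funext hea)
  intro y hy
  obtain ⟨b, hb, e⟩ := hK.exists_lift (hL.mk_mem hy)
  obtain ⟨z, hz⟩ := Groth.ArtfunDeform.IdealTorsor.exists_mu J A' (Ideal.Quotient.eq.mp e.symm)
  have hbI : b ∈ I' := Ideal.span_le.mpr (Set.range_subset_iff.mpr ha') hb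
  have := hK.mu_mem_of_psi hJJ (hL.psi_of_mu_mem (hz ▸ sub_mem hy hbI))
  rw [hz] at this
  simpa using add_mem this hb

end Groth.Agent.S11455
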