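import Groth.Statements.S11456
import Groth.Agent.ArtfunDeform.RegFlat
import Groth.Agent.ArtfunDeform.IdealTorsor

set_option autoImplicit false
universe u
open DefT

namespace Groth.Agent.S11456

/-- Let C be a local Artin ring with maximal ideal m, A a flat C-algebra such that A₀ = A/mA is a
Cohen–Macaulay local ring, and I ⊆ A an ideal with A/I flat over C whose image in A₀ is generated by
a regular sequence b_1, …, b_r on A₀. Then I is generated by r elements a_1, …, a_r forming a
regular sequence on A (so the Koszul complex on the a_i resolves A/I). -/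
theorem result (C : Type u) [CommRing C]
    [IsLocalRing C] [IsArtinianRing C] (A : Type u) [CommRing A] [Algebra C A] [Module.Flat C A]
    [LocCoh.IsCohenMacaulayLocalRing (A ⧸ (IsLocalRing.maximalIdeal C).map (algebraMap C A))]
    (I : Ideal A) [Module.Flat C (A ⧸ I)] (r : ℕ)
    (b : Fin r → A ⧸ (IsLocalRing.maximalIdeal C).map (algebraMap C A))
    (hb : RingTheory.Sequence.IsRegular (A ⧸ (IsLocalRing.maximalIdeal C).map (algebraMap C A)) (List.ofFn b))
    (hI : I.map (Ideal.Quotient.mk ((IsLocalRing.maximalIdeal C).map (algebraMap C A))) = Ideal.span (Set.range b)) :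
    ∃ a : Fin r → A, RingTheory.Sequence.IsRegular A (List.ofFn a) ∧ I = Ideal.span (Set.range a) := by
  classical
  have hmem : ∀ i, b i ∈ I.map (Ideal.Quotient.mk ((IsLocalRing.maximalIdeal C).map (algebraMap C A))) := fun i => by rw [hI]; exact Ideal.subset_span (Set.mem_range_self i)
  choose a ha hab using fun i => (Ideal.mem_map_iff_of_surjective _ Ideal.Quotient.mk_surjective).mp (hmem i)
  set K : Ideal A := Ideal.span (Set.range a) with hK
  have hKI : K ≤ I := Ideal.span_le.mpr (Set.range_subset_iff.mpr ha)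
  have hmap : List.ofFn b = (List.ofFn a).map (algebraMap A (A ⧸ ((IsLocalRing.maximalIdeal C).map (algebraMap C A)))) := by
    rw [List.map_ofFn]; exact congrArg List.ofFn (funext fun i => (hab i).symm)
  have h1 : RingTheory.Sequence.IsWeaklyRegular (A ⧸ ((IsLocalRing.maximalIdeal C).map (algebraMap C A))) (List.ofFn a) :=
    (RingTheory.Sequence.isWeaklyRegular_map_algebraMap_iff (A ⧸ ((IsLocalRing.maximalIdeal C).map (algebraMap C A))) (A ⧸ ((IsLocalRing.maximalIdeal C).map (algebraMap C A))) (List.ofFn a)).mp (hmap ▸ hb.toIsWeaklyRegular)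
  have h2 : RingTheory.Sequence.IsWeaklyRegular (A ⧸ ((IsLocalRing.maximalIdeal C).map (algebraMap C A)) • (⊤ : Submodule A A)) (List.ofFn a) :=
    (LinearEquiv.isWeaklyRegular_congr (Submodule.quotEquivOfEq _ _ (by rw [Ideal.smul_eq_mul, Ideal.mul_top])) _).mp h1
  obtain ⟨hw, -⟩ := Groth.ArtfunDeform.RegFlat.isWeaklyRegular_and_flat (IsLocalRing.maximalIdeal.isMaximal C).ne_top (List.ofFn a) A h2
  have hspan : Ideal.ofList (List.ofFn a) = K := by simp [Ideal.ofList, List.mem_ofFn, Set.range, hK]
  refine ⟨a, ⟨hw, fun htop => hb.top_ne_smul ?_⟩, ?_⟩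
  · rw [Ideal.smul_eq_mul, Ideal.mul_top, hspan] at htop
    rw [Ideal.smul_eq_mul, Ideal.mul_top, hmap, ← Ideal.map_ofList, hspan, ← htop, Ideal.map_top]
  -- `I ∩ mA = mI`
  have hinf : ∀ y ∈ I, y ∈ ((IsLocalRing.maximalIdeal C).map (algebraMap C A)) → y ∈ ((IsLocalRing.maximalIdeal C).map (algebraMap C A)) * I := by
    intro y hy hyM
    obtain ⟨z, rfl⟩ := Groth.ArtfunDeform.IdealTorsor.exists_mu (IsLocalRing.maximalIdeal C) A hyM
    have h0 : LinearMap.rTensor ↥(IsLocalRing.maximalIdeal C) (Ideal.Quotient.mkₐ C I).toLinearMap z = 0 := by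
      apply Groth.ArtfunDeform.IdealTorsor.mu_injective (IsLocalRing.maximalIdeal C) (A ⧸ I)
      rw [Groth.ArtfunDeform.IdealTorsor.mu_natural, map_zero]
      exact Ideal.Quotient.eq_zero_iff_mem.mpr hy
    obtain ⟨w, rfl⟩ := (rTensor_exact ↥(IsLocalRing.maximalIdeal C) (LinearMap.exact_subtype_ker_map (Ideal.Quotient.mkₐ C I).toLinearMap)
      Ideal.Quotient.mk_surjective z).mp h0
    clear hy hyM h0
    induction w using TensorProduct.induction_on with
    | zero => simp
    | tmul x j =>
      rw [LinearMap.rTensor_tmul, Groth.ArtfunDeform.IdealTorsor.mu_tmul, Algebra.smul_def]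
      exact Ideal.mul_mem_mul (Ideal.mem_map_of_mem _ j.2) (Ideal.Quotient.eq_zero_iff_mem.mp x.2)
    | add u v hu hv => rw [map_add, map_add]; exact add_mem hu hv
  have hle : I ≤ K ⊔ ((IsLocalRing.maximalIdeal C).map (algebraMap C A)) * I := by
    intro y hy
    have h3 : Ideal.Quotient.mk ((IsLocalRing.maximalIdeal C).map (algebraMap C A)) y ∈ K.map (Ideal.Quotient.mk ((IsLocalRing.maximalIdeal C).map (algebraMap C A))) := by
      have e : K.map (Ideal.Quotient.mk ((IsLocalRing.maximalIdeal C).map (algebraMap C A))) = Ideal.span (Set.range b) := by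
        rw [hK, Ideal.map_span, ← Set.range_comp]; exact congrArg _ (congrArg Set.range (funext hab))
      rw [e, ← hI]; exact Ideal.mem_map_of_mem _ hy
    obtain ⟨c, hc, e⟩ := (Ideal.mem_map_iff_of_surjective _ Ideal.Quotient.mk_surjective).mp h3
    exact Submodule.mem_sup.mpr ⟨c, hc, y - c, hinf _ (sub_mem hy (hKI hc)) (Ideal.Quotient.eq.mp e.symm), by ring⟩
  obtain ⟨k, hk⟩ := IsArtinianRing.isNilpotent_jacobson_bot (R := C)
  rw [IsLocalRing.jacobson_eq_maximalIdeal ⊥ bot_ne_top] at hk
  have hpow : ∀ n, I ≤ K ⊔ ((IsLocalRing.maximalIdeal C).map (algebraMap C A)) ^ n * I := by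
    intro n
    induction n with
    | zero => simp
    | succ n ih =>
      refine ih.trans (sup_le le_sup_left ?_)
      refine (Ideal.mul_mono_right hle).trans ?_
      rw [Ideal.mul_sup, ← mul_assoc, ← pow_succ]
      exact sup_le_sup_right Ideal.mul_le_right _
  refine le_antisymm ?_ hKI
  refine (hpow k).trans (sup_le le_rfl ?_)
  rw [← Ideal.map_pow, hk]
  simp

end Groth.Agent.S11456
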