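import Groth.Statements.S11458
import Groth.Agent.ArtfunDeform.MinorsLift

set_option autoImplicit false
universe u
open DefT

namespace Groth.Agent.S11458

/-- Let C be a local Artin ring with maximal ideal m, A a flat C-algebra of finite type whose special
fibre A₀ = A/mA is smooth over C/m, and I ⊆ A an ideal with A/I flat over C whose image I₀ in A₀ has
height ≥ 2 at every prime containing it (A₀/I₀ of codimension 2) and is generated by the signed
maximal minors of an (r+1) × r matrix φ₀ over A₀ for which 0 → A₀^r → A₀^{r+1} → A₀ (matrix, then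
minors) is exact. Then there is an (r+1) × r matrix φ over A whose signed maximal minors generate I
and for which 0 → A^r → A^{r+1} → A is exact, so that 0 → A^r → A^{r+1} → A → A/I → 0 is a
resolution. -/
theorem result (C : Type u) [CommRing C]
    [IsLocalRing C] [IsArtinianRing C] (A : Type u) [CommRing A] [Algebra C A] [Module.Flat C A]
    [Algebra.FiniteType C A]
    [Algebra.Smooth (C ⧸ IsLocalRing.maximalIdeal C) (A ⧸ (IsLocalRing.maximalIdeal C).map (algebraMap C A))]
    (I : Ideal A) [Module.Flat C (A ⧸ I)]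
    (hcodim : ∀ p : Ideal (A ⧸ (IsLocalRing.maximalIdeal C).map (algebraMap C A)), p.IsPrime →
      I.map (Ideal.Quotient.mk ((IsLocalRing.maximalIdeal C).map (algebraMap C A))) ≤ p → (2 : ℕ∞) ≤ p.height)
    (r : ℕ)
    (φ₀ : Matrix (Fin (r + 1)) (Fin r) (A ⧸ (IsLocalRing.maximalIdeal C).map (algebraMap C A)))
    (h₀ : (Ideal.span (Set.range (fun i : Fin (r + 1) => (-1 : (A ⧸ (IsLocalRing.maximalIdeal C).map (algebraMap C A))) ^ (i : ℕ) * ((φ₀).submatrix i.succAbove id).det)) = I.map (Ideal.Quotient.mk ((IsLocalRing.maximalIdeal C).map (algebraMap C A))) ∧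
        Function.Injective (φ₀).mulVecLin ∧
        LinearMap.range (φ₀).mulVecLin = LinearMap.ker (Fintype.linearCombination (A ⧸ (IsLocalRing.maximalIdeal C).map (algebraMap C A)) (fun i : Fin (r + 1) => (-1 : (A ⧸ (IsLocalRing.maximalIdeal C).map (algebraMap C A))) ^ (i : ℕ) * ((φ₀).submatrix i.succAbove id).det)))) :
    ∃ φ : Matrix (Fin (r + 1)) (Fin r) A, (Ideal.span (Set.range (fun i : Fin (r + 1) => (-1 : A) ^ (i : ℕ) * ((φ).submatrix i.succAbove id).det)) = I ∧
        Function.Injective (φ).mulVecLin ∧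
        LinearMap.range (φ).mulVecLin = LinearMap.ker (Fintype.linearCombination A (fun i : Fin (r + 1) => (-1 : A) ^ (i : ℕ) * ((φ).submatrix i.succAbove id).det))) := by
  obtain ⟨hspan, hinj, hrange⟩ := h₀
  have := Groth.ArtfunDeform.MinorsLift.isRegularRing_fibre (C := C) (B := A)
  let f₀ : Fin (r + 1) → A ⧸ (IsLocalRing.maximalIdeal C).map (algebraMap C A) :=
    Groth.ArtfunDeform.MinorsLift.minors φ₀
  have hmem : ∀ i, f₀ i ∈ I.map (Ideal.Quotient.mk ((IsLocalRing.maximalIdeal C).map (algebraMap C A))) := fun i => by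
    rw [← hspan]; exact Ideal.subset_span ⟨i, rfl⟩
  choose a ha haf using fun i => (Ideal.mem_map_iff_of_surjective _ Ideal.Quotient.mk_surjective).1 (hmem i)
  have hne := (IsLocalRing.maximalIdeal.isMaximal C).ne_top
  have haf' : (fun i => Ideal.Quotient.mk ((IsLocalRing.maximalIdeal C).map (algebraMap C A)) (a i)) = f₀ := funext haf
  obtain ⟨hI, φ, hφ, hcomp⟩ := Groth.ArtfunDeform.MinorsLift.exists_lift_relations I (IsLocalRing.maximalIdeal C) hne a ha
    (by rw [haf']; exact hspan.symm) φ₀ (fun j => by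
      simp only [haf]; exact Groth.ArtfunDeform.MinorsLift.minors_mul φ₀ j)
  subst hφ
  let f := Groth.ArtfunDeform.MinorsLift.minors φ
  have hff : ∀ i, Ideal.Quotient.mk ((IsLocalRing.maximalIdeal C).map (algebraMap C A)) (f i) = f₀ i := fun i =>
    (Groth.ArtfunDeform.MinorsLift.minors_map _ φ i).symm
  have H2 : ∀ y : Fin (r + 1) → A, ∑ i, y i * f i ∈ (IsLocalRing.maximalIdeal C).map (algebraMap C A) →
      ∃ x, ∀ i, y i - φ.mulVec x i ∈ (IsLocalRing.maximalIdeal C).map (algebraMap C A) := by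
    intro y hy
    have hk : (fun i => Ideal.Quotient.mk ((IsLocalRing.maximalIdeal C).map (algebraMap C A)) (y i)) ∈
        LinearMap.ker (Fintype.linearCombination _ f₀) := by
      rw [LinearMap.mem_ker, Fintype.linearCombination_apply]
      simp only [smul_eq_mul, ← hff, ← map_mul, ← map_sum]
      exact Ideal.Quotient.eq_zero_iff_mem.2 hy
    obtain ⟨xb, hxb⟩ := hrange.ge hk
    choose x hx using fun j => Ideal.Quotient.mk_surjective (xb j)
    refine ⟨x, fun i => Ideal.Quotient.eq.1 ?_⟩
    rw [RingHom.map_mulVec, show _ ∘ x = xb from funext hx]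
    exact (congrFun hxb i).symm
  have hcd : ∀ P : Ideal (A ⧸ (IsLocalRing.maximalIdeal C).map (algebraMap C A)), P.IsPrime →
      (∀ i, Ideal.Quotient.mk ((IsLocalRing.maximalIdeal C).map (algebraMap C A)) (f i) ∈ P) → (2 : ℕ∞) ≤ P.height :=
    fun P hP hPf => hcodim P hP (by
      rw [← hspan, Ideal.span_le]
      rintro _ ⟨i, rfl⟩
      have := hPf i
      rw [hff] at this
      exact this)
  have hsp := Groth.ArtfunDeform.MinorsLift.span_eq φ f a (Groth.ArtfunDeform.MinorsLift.minors_mul φ) hcomp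
    (IsLocalRing.maximalIdeal C) hne (fun i => Ideal.Quotient.eq.1 (by rw [haf, hff])) H2 hcd
  obtain ⟨h1, h2, -⟩ := Groth.ArtfunDeform.MinorsLift.core φ f (Groth.ArtfunDeform.MinorsLift.minors_mul φ)
    (Groth.ArtfunDeform.MinorsLift.H1_of_mod φ (IsLocalRing.maximalIdeal C) hne hinj) H2
  exact ⟨φ, hsp.symm.trans hI.symm, h1, h2⟩

end Groth.Agent.S11458
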