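import Groth.Statements.S11459
import Groth.Agent.ArtfunDeform.MinorsLift

set_option autoImplicit false
universe u
open DefT

namespace Groth.Agent.S11459

/-- Let C' be a local Artin ring, J ⊊ C' a proper ideal annihilated by the maximal ideal, C = C'/J, A' a
flat C'-algebra of finite type with smooth special fibre, A = A'/JA', and φ an (r+1) × r matrix over
A with 0 → A^r → A^{r+1} → A exact (matrix, then signed maximal minors f_i) A/(f_0, …, f_r) flat
over C, and every prime of A containing (f_0, …, f_r) of height ≥ 2 (codimension 2). Then any ideal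
I' ⊆ A' such that A'/I' is flat over C' and the image of I' in A is (f_0, …, f_r) is generated by
the signed maximal minors of some matrix φ' over A' reducing to φ. -/
theorem result (C' : Type u) [CommRing C'] [IsLocalRing C'] [IsArtinianRing C'] (J : Ideal C')
    (hJ : IsLocalRing.maximalIdeal C' * J = ⊥) (hJne : J ≠ ⊤) (A' : Type u) [CommRing A'] [Algebra C' A'] [Module.Flat C' A']
    [Algebra.FiniteType C' A']
    [Algebra.Smooth (C' ⧸ IsLocalRing.maximalIdeal C') (A' ⧸ (IsLocalRing.maximalIdeal C').map (algebraMap C' A'))]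
    (r : ℕ) (φ : Matrix (Fin (r + 1)) (Fin r) (A' ⧸ J.map (algebraMap C' A')))
    (hφ : Function.Injective φ.mulVecLin ∧
      LinearMap.range φ.mulVecLin = LinearMap.ker (Fintype.linearCombination (A' ⧸ J.map (algebraMap C' A')) (fun i : Fin (r + 1) => (-1 : (A' ⧸ J.map (algebraMap C' A'))) ^ (i : ℕ) * ((φ).submatrix i.succAbove id).det)))
    [Module.Flat (C' ⧸ J) ((A' ⧸ J.map (algebraMap C' A')) ⧸ Ideal.span (Set.range (fun i : Fin (r + 1) => (-1 : (A' ⧸ J.map (algebraMap C' A'))) ^ (i : ℕ) * ((φ).submatrix i.succAbove id).det)))]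
    (hcodim : ∀ p : Ideal (A' ⧸ J.map (algebraMap C' A')), p.IsPrime →
      Ideal.span (Set.range (fun i : Fin (r + 1) => (-1 : (A' ⧸ J.map (algebraMap C' A'))) ^ (i : ℕ) * ((φ).submatrix i.succAbove id).det)) ≤ p → (2 : ℕ∞) ≤ p.height)
    (I' : Ideal A') [Module.Flat C' (A' ⧸ I')]
    (hI' : I'.map (Ideal.Quotient.mk (J.map (algebraMap C' A'))) = Ideal.span (Set.range (fun i : Fin (r + 1) => (-1 : (A' ⧸ J.map (algebraMap C' A'))) ^ (i : ℕ) * ((φ).submatrix i.succAbove id).det))) :
    ∃ φ' : Matrix (Fin (r + 1)) (Fin r) A', φ'.map (Ideal.Quotient.mk (J.map (algebraMap C' A'))) = φ ∧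
      I' = Ideal.span (Set.range (fun i : Fin (r + 1) => (-1 : A') ^ (i : ℕ) * ((φ').submatrix i.succAbove id).det)) := by
  have := Groth.ArtfunDeform.MinorsLift.isRegularRing_fibre (C := C') (B := A')
  let fb : Fin (r + 1) → A' ⧸ J.map (algebraMap C' A') := Groth.ArtfunDeform.MinorsLift.minors φ
  have hmem : ∀ i, fb i ∈ I'.map (Ideal.Quotient.mk (J.map (algebraMap C' A'))) := fun i => by
    rw [hI']; exact Ideal.subset_span ⟨i, rfl⟩
  choose a ha haf using fun i => (Ideal.mem_map_iff_of_surjective _ Ideal.Quotient.mk_surjective).1 (hmem i)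
  have haf' : (fun i => Ideal.Quotient.mk (J.map (algebraMap C' A')) (a i)) = fb := funext haf
  obtain ⟨hI, φ', hφ', hcomp⟩ := Groth.ArtfunDeform.MinorsLift.exists_lift_relations I' J hJne a ha
    (by rw [haf']; exact hI') φ (fun j => by
      simp only [haf]; exact Groth.ArtfunDeform.MinorsLift.minors_mul φ j)
  subst hφ'
  let f := Groth.ArtfunDeform.MinorsLift.minors φ'
  have hff : (fun i => Ideal.Quotient.mk (J.map (algebraMap C' A')) (f i)) = fb := funext fun i =>
    (Groth.ArtfunDeform.MinorsLift.minors_map _ φ' i).symm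
  have hfl : Module.Flat (C' ⧸ J) ((A' ⧸ J.map (algebraMap C' A')) ⧸
      Ideal.span (Set.range fun i => Ideal.Quotient.mk (J.map (algebraMap C' A')) (f i))) := by
    rw [hff]
    assumption
  have H2 := Groth.ArtfunDeform.MinorsLift.H2_of_mod φ' f J hJne (by rw [hff]; exact hφ.2.ge)
  have hJm : J.map (algebraMap C' A') ≤ (IsLocalRing.maximalIdeal C').map (algebraMap C' A') :=
    Ideal.map_mono (IsLocalRing.le_maximalIdeal hJne)
  have hcd : ∀ P : Ideal (A' ⧸ (IsLocalRing.maximalIdeal C').map (algebraMap C' A')), P.IsPrime →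
      (∀ i, Ideal.Quotient.mk ((IsLocalRing.maximalIdeal C').map (algebraMap C' A')) (f i) ∈ P) → (2 : ℕ∞) ≤ P.height := by
    intro P hP hPf
    have hker : RingHom.ker (Ideal.Quotient.factor hJm) ≤ nilradical (A' ⧸ J.map (algebraMap C' A')) := by
      intro z hz
      obtain ⟨z, rfl⟩ := Ideal.Quotient.mk_surjective z
      rw [RingHom.mem_ker, Ideal.Quotient.factor_mk, Ideal.Quotient.eq_zero_iff_mem] at hz
      obtain ⟨n, hn⟩ := Groth.ArtfunDeform.MinorsLift.isNilpotent_maximal (C := C') (B := A')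
      refine mem_nilradical.2 (IsNilpotent.map ⟨n, ?_⟩ _)
      have := Ideal.pow_mem_pow hz n
      rwa [hn] at this
    rw [← Groth.ArtfunDeform.MinorsLift.height_comap_of_isNilpotent_ker (Ideal.Quotient.factor hJm)
      (Ideal.Quotient.factor_surjective hJm) hker P]
    refine hcodim _ (Ideal.IsPrime.comap _) (Ideal.span_le.2 ?_)
    rintro _ ⟨i, rfl⟩
    show Ideal.Quotient.factor hJm (fb i) ∈ P
    rw [← hff, Ideal.Quotient.factor_mk]
    exact hPf i
  have hsp := Groth.ArtfunDeform.MinorsLift.span_eq φ' f a (Groth.ArtfunDeform.MinorsLift.minors_mul φ') hcomp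
    J hJne (fun i => Ideal.Quotient.eq.1 ((haf i).trans (congrFun hff i).symm)) H2 hcd
  exact ⟨φ', rfl, hI.trans hsp⟩

end Groth.Agent.S11459
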