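import Groth.Statements.S11461
import Mathlib.RingTheory.Ideal.AssociatedPrime.Finiteness
import Mathlib.RingTheory.Finiteness.Nakayama
import Mathlib.Algebra.Homology.ShortComplex.ModuleCat
import Mathlib.RingTheory.Ideal.Quotient.Operations

set_option autoImplicit false
universe u
open CategoryTheory
open DefT

namespace Groth.Agent.S11461

/-- Let B be a Noetherian ring and F an additive, B-linear endofunctor of B-modules which preserves
finite generation and is semi-exact on short exact sequences of finitely generated modules (the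
image sequence is exact in the middle). If F kills B/m for every maximal ideal m, then F kills every
finitely generated B-module. (The published statement assumes F only additive; this row assumes F
B-linear, and takes the functor on all B-modules with the hypotheses and the conclusion on the
finitely generated ones.) -/
theorem result (B : Type u) [CommRing B]
    [IsNoetherianRing B] (F : ModuleCat.{u} B ⥤ ModuleCat.{u} B) [F.Additive] [F.Linear B]
    (hfg : ∀ M : ModuleCat.{u} B, Module.Finite B M → Module.Finite B (F.obj M))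
    (hex : ∀ S : ShortComplex (ModuleCat.{u} B), S.ShortExact → Module.Finite B S.X₂ → (S.map F).Exact)
    (h0 : ∀ m : Ideal B, m.IsMaximal → Limits.IsZero (F.obj (ModuleCat.of B (B ⧸ m))))
    (M : ModuleCat.{u} B) (hM : Module.Finite B M) : Limits.IsZero (F.obj M) := by
  classical
  have key : ∀ (A B' C : ModuleCat.{u} B) (f : A ⟶ B') (g : B' ⟶ C), Function.Injective f.hom → Function.Surjective g.hom →
      Function.Exact f.hom g.hom → Module.Finite B B' →
      ∃ w : f ≫ g = 0, ((ShortComplex.mk f g w).map F).Exact := by
    intro A B' C f g hf hg hfg hB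
    have w : f ≫ g = 0 := ModuleCat.hom_ext (LinearMap.ext fun x => (hfg (f.hom x)).2 ⟨x, rfl⟩)
    haveI : Mono f := (ModuleCat.mono_iff_injective f).2 hf
    haveI : Epi g := (ModuleCat.epi_iff_surjective g).2 hg
    refine ⟨w, hex _ (ShortComplex.ShortExact.mk' ?_ inferInstance inferInstance) hB⟩
    exact (CategoryTheory.ShortComplex.ShortExact.moduleCat_exact_iff_function_exact _).2 hfg
  have main : ∀ I : Ideal B, I.IsPrime → Limits.IsZero (F.obj (ModuleCat.of B (B ⧸ I))) := by
    intro I
    induction I using WellFoundedGT.induction with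
    | _ p ih =>
      intro hp
      let M₀ := ModuleCat.of B (B ⧸ p)
      let M' := F.obj M₀
      haveI : Module.Finite B M' := hfg M₀ (inferInstanceAs (Module.Finite B (B ⧸ p)))
      have hzero : ∀ r ∈ p, ∀ z : M', r • z = 0 := by
        intro r hr z
        have h1 : (r • 𝟙 M₀ : M₀ ⟶ M₀) = 0 := ModuleCat.hom_ext (LinearMap.ext fun x => by
          obtain ⟨x, rfl⟩ := Ideal.Quotient.mk_surjective (x : B ⧸ p)
          change Ideal.Quotient.mk p (r • x) = 0
          exact Ideal.Quotient.eq_zero_iff_mem.2 (p.mul_mem_right _ hr))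
        have h2 := congrArg (fun φ : M₀ ⟶ M₀ => F.map φ) h1
        simp only [Functor.map_smul, CategoryTheory.Functor.map_id, Functor.map_zero] at h2
        exact congrArg (fun φ : M' ⟶ M' => φ.hom z) h2
      suffices h : Module.annihilator B M' = ⊤ by
        haveI : Subsingleton M' := subsingleton_of_forall_eq 0 fun z => by
          have := (Module.mem_annihilator (r := (1 : B))).1 (h ▸ Submodule.mem_top) z
          rwa [one_smul] at this
        exact ModuleCat.isZero_of_subsingleton M'
      by_contra htop
      obtain ⟨m, hm, hle⟩ := Ideal.exists_le_maximal _ htop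
      have hpm : p ≤ m := fun r hr => hle (Module.mem_annihilator.2 (hzero r hr))
      rcases eq_or_lt_of_le hpm with rfl | hlt
      · haveI : Subsingleton M' := ModuleCat.subsingleton_of_isZero (h0 p hm)
        exact htop (Submodule.eq_top_iff'.2 fun r => Module.mem_annihilator.2 fun z => Subsingleton.elim _ _)
      obtain ⟨x, hxm, hxp⟩ := SetLike.exists_of_lt hlt
      let J : Ideal B := p ⊔ Ideal.span {x}
      have hJ : p < J := lt_of_le_of_ne le_sup_left fun e =>
        hxp (e ▸ Submodule.mem_sup_right (Ideal.mem_span_singleton_self x) : x ∈ p)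
      have hJ0 : Limits.IsZero (F.obj (ModuleCat.of B (B ⧸ J))) := by
        refine IsNoetherianRing.induction_on_isQuotientEquivQuotientPrime (A := B) (M := B ⧸ J)
          (inferInstanceAs (Module.Finite B (B ⧸ J)))
          (motive := fun N _ _ _ => J ≤ Module.annihilator B N → Limits.IsZero (F.obj (ModuleCat.of B N)))
          ?_ ?_ ?_ (by rw [Ideal.annihilator_quotient])
        · intro N _ _ _ _ _
          exact F.map_isZero (ModuleCat.isZero_of_subsingleton (ModuleCat.of B N))
        · intro N _ _ _ q e hN
          rw [e.annihilator_eq, Ideal.annihilator_quotient] at hN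
          exact (ih q.1 (lt_of_lt_of_le hJ hN) q.2).of_iso (F.mapIso e.toModuleIso)
        · intro N₁ _ _ _ N₂ _ _ _ N₃ _ _ _ f g hf hg hfg h₁ h₃ hN
          obtain ⟨w, hE⟩ := key (ModuleCat.of B N₁) (ModuleCat.of B N₂) (ModuleCat.of B N₃)
            (ModuleCat.ofHom f) (ModuleCat.ofHom g) hf hg hfg inferInstance
          exact hE.isZero_of_both_zeros ((h₁ (hN.trans (f.annihilator_le_of_injective hf))).eq_of_src _ _)
            ((h₃ (hN.trans (g.annihilator_le_of_surjective hg))).eq_of_tgt _ _)
      haveI : Nontrivial (B ⧸ p) := Ideal.Quotient.nontrivial_iff.2 hp.ne_top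
      obtain ⟨w, hE⟩ := key M₀ M₀ (ModuleCat.of B (B ⧸ J)) (x • 𝟙 M₀) (ModuleCat.ofHom (Submodule.factor (le_sup_left : p ≤ J)))
        (fun a b hab => by
          obtain ⟨a, rfl⟩ := Ideal.Quotient.mk_surjective (a : B ⧸ p)
          obtain ⟨b, rfl⟩ := Ideal.Quotient.mk_surjective (b : B ⧸ p)
          have h1 : x * (a - b) ∈ p := by
            rw [mul_sub]
            exact Ideal.Quotient.eq.1 (hab : Ideal.Quotient.mk p (x * a) = Ideal.Quotient.mk p (x * b))
          exact Ideal.Quotient.eq.2 ((hp.mem_or_mem h1).resolve_left hxp))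
        (Submodule.factor_surjective (le_sup_left : p ≤ J)) (fun y => by
          obtain ⟨y, rfl⟩ := Ideal.Quotient.mk_surjective (y : B ⧸ p)
          refine ⟨fun hy => ?_, ?_⟩
          · change Ideal.Quotient.mk J y = 0 at hy
            obtain ⟨a, ha, c, hc, hac⟩ := Submodule.mem_sup.1 (Ideal.Quotient.eq_zero_iff_mem.1 hy)
            obtain ⟨c, rfl⟩ := Ideal.mem_span_singleton'.1 hc
            refine ⟨Ideal.Quotient.mk p c, ?_⟩
            change Ideal.Quotient.mk p (x * c) = Ideal.Quotient.mk p y
            refine Ideal.Quotient.eq.2 ?_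
            rw [← hac, show x * c - (a + c * x) = -a by ring]
            exact neg_mem ha
          · rintro ⟨z, hz⟩
            obtain ⟨z, rfl⟩ := Ideal.Quotient.mk_surjective (z : B ⧸ p)
            change Ideal.Quotient.mk p (x * z) = Ideal.Quotient.mk p y at hz
            change Ideal.Quotient.mk J y = 0
            refine Ideal.Quotient.eq_zero_iff_mem.2 ?_
            have h1 : x * z - y ∈ J := Submodule.mem_sup_left (Ideal.Quotient.eq.1 hz)
            have h2 : x * z ∈ J := J.mul_mem_right z (Submodule.mem_sup_right (Ideal.mem_span_singleton_self x))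
            have := sub_mem h2 h1
            rwa [sub_sub_cancel] at this)
        (inferInstanceAs (Module.Finite B (B ⧸ p)))
      have hepi : Epi (F.map (x • 𝟙 M₀)) := hE.epi_f (hJ0.eq_of_tgt _ _)
      rw [Functor.map_smul, CategoryTheory.Functor.map_id, ModuleCat.epi_iff_surjective] at hepi
      have hsurj : Function.Surjective fun z : M' => x • z := hepi
      obtain ⟨r, hr, hr0⟩ := Submodule.exists_sub_one_mem_and_smul_eq_zero_of_fg_of_le_smul (Ideal.span {x}) (⊤ : Submodule B M')
        Module.Finite.fg_top (fun z _ => by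
          obtain ⟨z', rfl⟩ := hsurj z
          exact Submodule.smul_mem_smul (Ideal.mem_span_singleton_self x) Submodule.mem_top)
      have h1 : r ∈ m := hle (Module.mem_annihilator.2 fun z => hr0 z Submodule.mem_top)
      have h2 := sub_mem h1 ((Ideal.span_singleton_le_iff_mem _).2 hxm hr)
      rw [sub_sub_cancel] at h2
      exact hm.ne_top ((Ideal.eq_top_iff_one _).2 h2)
  refine IsNoetherianRing.induction_on_isQuotientEquivQuotientPrime (A := B) (M := M) hM
    (motive := fun N _ _ _ => Limits.IsZero (F.obj (ModuleCat.of B N))) ?_ ?_ ?_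
  · intro N _ _ _ _
    exact F.map_isZero (ModuleCat.isZero_of_subsingleton (ModuleCat.of B N))
  · intro N _ _ _ q e
    exact (main q.1 q.2).of_iso (F.mapIso e.toModuleIso)
  · intro N₁ _ _ _ N₂ _ _ _ N₃ _ _ _ f g hf hg hfg h₁ h₃
    obtain ⟨w, hE⟩ := key (ModuleCat.of B N₁) (ModuleCat.of B N₂) (ModuleCat.of B N₃)
      (ModuleCat.ofHom f) (ModuleCat.ofHom g) hf hg hfg inferInstance
    exact hE.isZero_of_both_zeros (h₁.eq_of_src _ _) (h₃.eq_of_tgt _ _)

end Groth.Agent.S11461
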