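import Groth.Statements.S11462
import Groth.Agent.ArtfunDeform.RegFlat
import Groth.Agent.Misc7.DepthTwoExtend
import Groth.Agent.RefRank.BigOpen

set_option autoImplicit false
universe u
open CategoryTheory AlgebraicGeometry Opposite
open DefT

namespace Groth.Agent.S11462

/-- Let C be a local Artin ring with maximal ideal m, A a Noetherian C-algebra flat over C such that
Spec(A/mA) is a normal scheme, and U ⊆ X = Spec A an open subset whose closed complement has
codimension ≥ 2, i.e. every prime of A not in U has height at least 2. Then the restriction map Γ(X,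
O_X) → Γ(U, O_X) is bijective. (The published statement assumes only that A is flat over C with
normal special fibre; this row also assumes A Noetherian: for a valuation ring of rank two over a
field, which is normal and flat, the functions on the complement of the closed point are not all
global.) -/
theorem result (C : Type u) [CommRing C]
    [IsLocalRing C] [IsArtinianRing C] (A : Type u) [CommRing A] [IsNoetherianRing A] [Algebra C A]
    [Module.Flat C A]
    (hnorm : Pi1.IsNormalScheme (Spec (CommRingCat.of (A ⧸ (IsLocalRing.maximalIdeal C).map (algebraMap C A)))))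
    (U : (Spec (CommRingCat.of A)).Opens)
    (hU : ∀ p : ↥(Spec (CommRingCat.of A)), p ∉ U → (2 : ℕ∞) ≤ p.asIdeal.height) :
    Function.Bijective ((Spec (CommRingCat.of A)).presheaf.map (homOfLE (le_top : U ≤ ⊤)).op) := by
  classical
  haveI : QuasiCompact U.ι := inferInstance
  refine Groth.Misc7.DepthTwo.bijective_restrict (U := U) (fun z hz => ?_) (isAffineOpen_top _) (top_inf_eq _).symm _
  let m := IsLocalRing.maximalIdeal C
  let p : Ideal A := z.asIdeal
  let I0 : Ideal A := m.map (algebraMap C A)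
  let L := (Spec (CommRingCat.of A)).presheaf.stalk z
  letI algL : Algebra A L := (inferInstance : Algebra A ((Spec.structureSheaf A).presheaf.stalk z))
  haveI locL : IsLocalization.AtPrime L p := inferInstanceAs (IsLocalization.AtPrime ((Spec.structureSheaf A).presheaf.stalk z) z.asIdeal)
  haveI : Module.Flat A L := IsLocalization.flat L p.primeCompl
  letI : Algebra C L := ((algebraMap A L).comp (algebraMap C A)).toAlgebra
  haveI : IsScalarTower C A L := IsScalarTower.of_algebraMap_eq (fun _ => rfl)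
  haveI : Module.Flat C L := Module.Flat.trans C A L
  obtain ⟨k, hk⟩ := IsArtinianRing.isNilpotent_jacobson_bot (R := C)
  rw [IsLocalRing.jacobson_eq_maximalIdeal ⊥ bot_ne_top] at hk
  have hIp : I0 ≤ p := fun x hx => z.isPrime.mem_of_pow_mem k (by
    have h2 : x ^ k ∈ I0 ^ k := Ideal.pow_mem_pow hx k
    simp only [I0, ← Ideal.map_pow, m, hk] at h2
    simp at h2
    rw [h2]; exact p.zero_mem)
  let p0 : Ideal (A ⧸ I0) := p.map (Ideal.Quotient.mk I0)
  haveI : p0.IsPrime := Ideal.map_isPrime_of_surjective Ideal.Quotient.mk_surjective (by rw [Ideal.mk_ker]; exact hIp)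
  have hp0 : p0.comap (Ideal.Quotient.mk I0) = p := by
    rw [Ideal.comap_map_of_surjective _ Ideal.Quotient.mk_surjective, ← RingHom.ker_eq_comap_bot, Ideal.mk_ker]
    exact sup_eq_left.mpr hIp
  -- the local ring of the fibre
  let L0 := (Spec (CommRingCat.of (A ⧸ I0))).presheaf.stalk ⟨p0, inferInstance⟩
  letI : Algebra (A ⧸ I0) L0 := (inferInstance : Algebra (A ⧸ I0) ((Spec.structureSheaf (A ⧸ I0)).presheaf.stalk ⟨p0, inferInstance⟩))
  haveI : IsLocalization.AtPrime L0 p0 := StructureSheaf.IsLocalization.to_stalk (A ⧸ I0) (⟨p0, inferInstance⟩ : PrimeSpectrum (A ⧸ I0))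
  haveI : IsDomain L0 := (hnorm ⟨p0, inferInstance⟩).1
  haveI : IsIntegrallyClosed L0 := (hnorm ⟨p0, inferInstance⟩).2
  haveI : IsNoetherianRing L0 := IsLocalization.isNoetherianRing p0.primeCompl L0 inferInstance
  have hle : p.primeCompl ≤ p0.primeCompl.comap (Ideal.Quotient.mk I0) := fun x hx hx0 => hx (hp0 ▸ hx0)
  let h : L →+* L0 := IsLocalization.map L0 (Ideal.Quotient.mk I0) hle
  have hmap : p.primeCompl.map (Ideal.Quotient.mk I0) = p0.primeCompl := by
    ext y
    constructor
    · rintro ⟨x, hx, rfl⟩; exact hle hx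
    · intro hy
      obtain ⟨x, rfl⟩ := Ideal.Quotient.mk_surjective y
      exact ⟨x, fun hx => hy (Ideal.mem_map_of_mem _ hx), rfl⟩
  have hsurj : Function.Surjective h := by
    intro y
    obtain ⟨⟨a, s⟩, e⟩ := IsLocalization.surj p0.primeCompl y
    obtain ⟨a, rfl⟩ := Ideal.Quotient.mk_surjective a
    obtain ⟨s', hs', es⟩ : (s : A ⧸ I0) ∈ p.primeCompl.map (Ideal.Quotient.mk I0) := by rw [hmap]; exact s.2
    refine ⟨IsLocalization.mk' L a ⟨s', hs'⟩, ?_⟩
    rw [IsLocalization.map_mk', IsLocalization.mk'_eq_iff_eq_mul]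
    simp only [es]
    exact e.symm
  let K : Ideal L := m.map (algebraMap C L)
  have hker : RingHom.ker h = K := by
    rw [IsLocalization.ker_map (S := L) L0 (g := Ideal.Quotient.mk I0) hmap, Ideal.mk_ker, Ideal.map_map]
    rfl
  -- dimension
  have hK : ∀ q : PrimeSpectrum L, q ∈ PrimeSpectrum.zeroLocus (K : Set L) := fun q x hx =>
    q.2.mem_of_pow_mem k (by
      have h2 : x ^ k ∈ K ^ k := Ideal.pow_mem_pow hx k
      simp only [K, ← Ideal.map_pow, m, hk] at h2
      simp at h2
      rw [h2]; exact q.1.zero_mem)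
  have hdim : (2 : WithBot ℕ∞) ≤ ringKrullDim L0 := by
    have e1 : ringKrullDim L0 = ringKrullDim (L ⧸ RingHom.ker h) :=
      (ringKrullDim_eq_of_ringEquiv (RingHom.quotientKerEquivOfSurjective hsurj)).symm
    rw [e1, hker, ringKrullDim_quotient]
    have e2 : PrimeSpectrum.zeroLocus (K : Set L) = Set.univ := Set.eq_univ_of_forall hK
    rw [e2, Order.krullDim_eq_of_orderIso OrderIso.Set.univ]
    change (2 : WithBot ℕ∞) ≤ ringKrullDim L
    rw [IsLocalization.AtPrime.ringKrullDim_eq_height p L]
    exact WithBot.coe_le_coe.mpr (hU z hz)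
  -- a regular pair on the fibre
  obtain ⟨a0, b0, ha0, hb0, hab⟩ : ∃ a b : L0, a ∈ IsLocalRing.maximalIdeal L0 ∧ b ∈ IsLocalRing.maximalIdeal L0 ∧
      RingTheory.Sequence.IsWeaklyRegular L0 [a, b] := by
    have hd := Groth.RefRank.two_le_depth_of_normal hdim
    rw [LocCoh.depth, LocCoh.idealDepth, if_neg (by rw [Ideal.smul_eq_mul, Ideal.mul_top]; exact Ideal.IsPrime.ne_top')] at hd
    by_contra hc
    have : (2 : ℕ∞) ≤ 1 := le_trans hd <| iSup₂_le fun rs hrs => by
      match rs, hrs with
      | [], _ => simp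
      | [a], _ => simp
      | a :: b :: rest, hrs =>
        exfalso
        refine hc ⟨a, b, hrs.2 a (by simp), hrs.2 b (by simp), ?_⟩
        exact ((RingTheory.Sequence.isWeaklyRegular_append_iff L0 [a, b] rest).mp hrs.1).1
    exact absurd this (by decide)
  letI : Algebra L L0 := h.toAlgebra
  obtain ⟨a, rfl⟩ := hsurj a0
  obtain ⟨b, rfl⟩ := hsurj b0
  have hmem : ∀ x, h x ∈ IsLocalRing.maximalIdeal L0 → x ∈ IsLocalRing.maximalIdeal L := fun x hx hu => hx (hu.map h)
  refine ⟨a, b, hmem a ha0, hmem b hb0, ?_⟩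
  let e : (L ⧸ K • (⊤ : Submodule L L)) ≃ₗ[L] L0 :=
    (Submodule.quotEquivOfEq _ _ (by
      rw [Ideal.smul_eq_mul, Ideal.mul_top, ← hker]; rfl)) ≪≫ₗ
      LinearMap.quotKerEquivOfSurjective (Algebra.linearMap L L0) hsurj
  exact (Groth.ArtfunDeform.RegFlat.isWeaklyRegular_and_flat (IsLocalRing.maximalIdeal.isMaximal C).ne_top [a, b] L
    ((e.isWeaklyRegular_congr _).mpr ((RingTheory.Sequence.isWeaklyRegular_map_algebraMap_iff L0 L0 [a, b]).mp hab))).1

end Groth.Agent.S11462
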