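import Groth.Statements.S11468
import Mathlib.RingTheory.HopkinsLevitzki
import Mathlib.RingTheory.Flat.EquationalCriterion
import Mathlib.RingTheory.Nakayama
import Mathlib.AlgebraicGeometry.Morphisms.Flat
-- import your own Groth.Agent.* helpers here

set_option autoImplicit false
universe u
open CategoryTheory AlgebraicGeometry
open DefT

namespace Groth.Agent.S11468

/-- the map from the base to the sections on an open -/
noncomputable abbrev α {C : Type u} [CommRing C] {X : Scheme.{u}} (g : X ⟶ Spec (CommRingCat.of C)) (U : X.Opens) :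
    CommRingCat.of C ⟶ Γ(X, U) :=
  (Scheme.ΓSpecIso (CommRingCat.of C)).inv ≫ g.appTop ≫ X.presheaf.map (homOfLE le_top).op

theorem α_res {C : Type u} [CommRing C] {X : Scheme.{u}} (g : X ⟶ Spec (CommRingCat.of C)) {U V : X.Opens}
    (h : V ≤ U) (c : C) : X.presheaf.map (homOfLE h).op ((α g U).hom c) = (α g V).hom c := by
  have : α g U ≫ X.presheaf.map (homOfLE h).op = α g V := by
    simp only [α, Category.assoc, ← Functor.map_comp]
    rfl
  exact ConcreteCategory.congr_hom this c

theorem res_res (X : Scheme.{u}) {U V W : X.Opens} (f : V ⟶ U) (f' : W ⟶ V) (f'' : W ⟶ U) (x : Γ(X, U)) :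
    X.presheaf.map f'.op (X.presheaf.map f.op x) = X.presheaf.map f''.op x := by
  rw [← ConcreteCategory.comp_apply, ← Functor.map_comp, ← op_comp, Subsingleton.elim (f' ≫ f) f'']

theorem flat_α {C : Type u} [CommRing C] {X : Scheme.{u}} (g : X ⟶ Spec (CommRingCat.of C)) [Flat g]
    {U : X.Opens} (hU : IsAffineOpen U) : RingHom.Flat (α g U).hom := by
  have h := HasRingHomProperty.appLE (P := @Flat) g ‹Flat g› ⟨⊤, isAffineOpen_top _⟩ ⟨U, hU⟩ (by simp)
  have e : α g U = (Scheme.ΓSpecIso (CommRingCat.of C)).inv ≫ g.appLE ⊤ U (by simp) := by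
    simp [α, Scheme.Hom.appLE]
  rw [e, CommRingCat.hom_comp]
  exact RingHom.Flat.comp (RingHom.Flat.of_bijective
    (ConcreteCategory.bijective_of_isIso (Scheme.ΓSpecIso (CommRingCat.of C)).inv)) h

theorem fromSpec_comp {C : Type u} [CommRing C] {X : Scheme.{u}} (g : X ⟶ Spec (CommRingCat.of C))
    {U : X.Opens} (hU : IsAffineOpen U) : hU.fromSpec ≫ g = Spec.map (α g U) := by
  refine ext_of_isAffine ?_
  rw [Scheme.Hom.comp_appTop]
  have e : hU.fromSpec.appTop = X.presheaf.map (homOfLE le_top).op ≫ (Scheme.ΓSpecIso Γ(X, U)).inv := by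
    rw [Scheme.Hom.appTop, hU.fromSpec_app_of_le ⊤ le_top]
    have : ∀ h : (⊤ : (Spec Γ(X, U)).Opens) ⟶ ⊤, (Spec Γ(X, U)).presheaf.map h.op = 𝟙 _ := fun h => by
      rw [Subsingleton.elim h (𝟙 _)]; simp
    erw [this]
    simp
  rw [e, ← cancel_epi (Scheme.ΓSpecIso (CommRingCat.of C)).inv, ← Scheme.ΓSpecIso_inv_naturality]
  simp [α]

/-- On an affine open, sections vanishing on the closed fibre lie in `I·O(U)`. -/
theorem mem_of_app_eq_zero {C : Type u} [CommRing C] (I : Ideal C) {X X₀ : Scheme.{u}}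
    (g : X ⟶ Spec (CommRingCat.of C)) (i : X₀ ⟶ X) (f₀ : X₀ ⟶ Spec (CommRingCat.of (C ⧸ I)))
    (hsq : IsPullback i f₀ g (Spec.map (CommRingCat.ofHom (Ideal.Quotient.mk I))))
    {U : X.Opens} (hU : IsAffineOpen U) (x : Γ(X, U)) (hx : i.app U x = 0) :
    x ∈ I.map (α g U).hom := by
  set K := I.map (α g U).hom
  let q : Γ(X, U) ⟶ CommRingCat.of (Γ(X, U) ⧸ K) := CommRingCat.ofHom (Ideal.Quotient.mk K)
  let l : CommRingCat.of (C ⧸ I) ⟶ CommRingCat.of (Γ(X, U) ⧸ K) :=
    CommRingCat.ofHom (Ideal.Quotient.lift I ((Ideal.Quotient.mk K).comp (α g U).hom) (fun a ha =>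
      Ideal.Quotient.eq_zero_iff_mem.2 (Ideal.mem_map_of_mem _ ha)))
  have hw : (Spec.map q ≫ hU.fromSpec) ≫ g = Spec.map l ≫ Spec.map (CommRingCat.ofHom (Ideal.Quotient.mk I)) := by
    rw [Category.assoc, fromSpec_comp, ← Spec.map_comp, ← Spec.map_comp]
    congr 1
  let ψ := hsq.lift _ _ hw
  have hψ : ψ ≫ i = Spec.map q ≫ hU.fromSpec := hsq.lift_fst _ _ _
  have h1 : (Spec.map q ≫ hU.fromSpec).app U x = 0 := by
    have h2 : (ψ ≫ i).app U x = 0 := by
      rw [Scheme.Hom.comp_app]
      exact (congrArg (ψ.app (i ⁻¹ᵁ U)).hom hx).trans (map_zero _)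
    rw [Scheme.Hom.congr_app hψ U, ConcreteCategory.comp_apply] at h2
    exact (ConcreteCategory.bijective_of_isIso ((Spec (CommRingCat.of (Γ(X, U) ⧸ K))).presheaf.map _)).1
      (h2.trans (map_zero _).symm)
  rw [Scheme.Hom.comp_app, hU.fromSpec_app_self, Category.assoc] at h1
  have htop : (⊤ : (Spec (CommRingCat.of (Γ(X, U) ⧸ K))).Opens) ≤ Spec.map q ⁻¹ᵁ hU.fromSpec ⁻¹ᵁ U := by
    rw [hU.fromSpec_preimage_self]; exact le_top
  have e₃ : (Spec Γ(X, U)).presheaf.map (eqToHom hU.fromSpec_preimage_self).op ≫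
      (Spec.map q).app (hU.fromSpec ⁻¹ᵁ U) ≫
        (Spec (CommRingCat.of (Γ(X, U) ⧸ K))).presheaf.map (homOfLE htop).op = (Spec.map q).appTop := by
    rw [← Scheme.Hom.appLE, Scheme.Hom.map_appLE, Scheme.Hom.appLE, Scheme.Hom.appTop]
    exact (congrArg _ ((Spec (CommRingCat.of (Γ(X, U) ⧸ K))).presheaf.map_id _)).trans (Category.comp_id _)
  have key : ((Scheme.ΓSpecIso Γ(X, U)).inv ≫ (Spec.map q).appTop) x = 0 := by
    rw [← e₃]
    exact (congrArg ((Spec (CommRingCat.of (Γ(X, U) ⧸ K))).presheaf.map (homOfLE htop).op).hom h1).trans (map_zero _)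
  rw [← Scheme.ΓSpecIso_inv_naturality, ConcreteCategory.comp_apply] at key
  exact Ideal.Quotient.eq_zero_iff_mem.1
    ((ConcreteCategory.bijective_of_isIso (Scheme.ΓSpecIso (CommRingCat.of (Γ(X, U) ⧸ K))).inv).1
      (key.trans (map_zero _).symm))

/-- Over a flat algebra, division by an element modulo an ideal. -/
theorem mem_map_of_smul_mem {C B : Type u} [CommRing C] [IsNoetherianRing C] [CommRing B] (φ : C →+* B)
    (hφ : RingHom.Flat φ) (J : Ideal C) (m : Ideal C) (a : C) (hm : ∀ c, a * c ∈ J → c ∈ m) (x : B)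
    (hx : φ a * x ∈ J.map φ) : x ∈ m.map φ := by
  algebraize [φ]
  obtain ⟨n, j, hj⟩ := Submodule.fg_iff_exists_fin_generating_family.1 (IsNoetherian.noetherian J)
  have hJ : J.map (algebraMap C B) = Ideal.span (Set.range fun l => algebraMap C B (j l)) := by
    rw [← hj, Ideal.map, ← Ideal.map, ← Ideal.span, Ideal.map_span, ← Set.range_comp]
    rfl
  rw [RingHom.algebraMap_toAlgebra] at hJ
  rw [hJ] at hx
  obtain ⟨y, hy⟩ := Ideal.mem_span_range_iff_exists_fun.1 hx
  have hrel : ∑ l : Option (Fin n), (Option.elim l a j) • (Option.elim l x (fun l => - y l)) = 0 := by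
    rw [Fintype.sum_option]
    simp only [Option.elim, Algebra.smul_def, RingHom.algebraMap_toAlgebra]
    rw [← hy, ← Finset.sum_add_distrib]
    refine Finset.sum_eq_zero fun l _ => ?_
    ring
  obtain ⟨s, c, z, hz, hc⟩ := Module.Flat.isTrivialRelation_of_sum_smul_eq_zero hrel
  have hx' : x = ∑ t, c none t • z t := hz none
  rw [hx']
  refine sum_mem fun t _ => ?_
  rw [Algebra.smul_def, RingHom.algebraMap_toAlgebra]
  refine Ideal.mul_mem_right _ _ (Ideal.mem_map_of_mem _ (hm _ ?_))
  have := hc t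
  rw [Fintype.sum_option] at this
  rw [show a * c none t = -∑ l, j l * c (some l) t from eq_neg_of_add_eq_zero_left this]
  exact neg_mem (sum_mem fun l _ => Ideal.mul_mem_right _ _ (hj ▸ Submodule.subset_span ⟨l, rfl⟩))

/-- A nonzero ideal in an Artinian local ring is one step above another one. -/
theorem exists_step {C : Type u} [CommRing C] [IsLocalRing C] [IsArtinianRing C] (J : Ideal C) (hJ : J ≠ ⊥) :
    ∃ (J' : Ideal C) (a : C), J' < J ∧ a ∈ J ∧ a ∉ J' ∧ J = J' ⊔ Ideal.span {a} ∧
      ∀ c, c ∈ IsLocalRing.maximalIdeal C ↔ a * c ∈ J' := by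
  obtain ⟨J', hJ', hmax⟩ := (wellFounded_gt : WellFounded ((· > ·) : Ideal C → Ideal C → Prop)).has_min
    {I | I < J} ⟨⊥, bot_lt_iff_ne_bot.2 hJ⟩
  have hJ'' : J' < J := hJ'
  obtain ⟨a, haJ, ha⟩ := SetLike.exists_of_lt hJ''
  have hsup : ∀ x, x ∈ J → x ∉ J' → J = J' ⊔ Ideal.span {x} := by
    intro x hx hx'
    by_contra hne
    have hle : J' ⊔ Ideal.span {x} ≤ J := sup_le hJ''.le ((Ideal.span_singleton_le_iff_mem _).2 hx)
    exact hmax _ (lt_of_le_of_ne hle (Ne.symm hne)) (lt_of_le_of_ne le_sup_left fun e =>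
      hx' (e ▸ Ideal.mem_sup_right (Ideal.mem_span_singleton_self x)))
  refine ⟨J', a, hJ'', haJ, ha, hsup a haJ ha, fun c => ⟨fun hc => ?_, fun hc => ?_⟩⟩
  · by_contra hac
    refine hJ''.not_ge (Submodule.le_of_le_smul_of_le_jacobson_bot (I := IsLocalRing.maximalIdeal C)
      (IsNoetherian.noetherian J) (IsLocalRing.maximalIdeal_le_jacobson ⊥) ?_)
    conv_lhs => rw [hsup _ (Ideal.mul_mem_right _ _ haJ) hac]
    refine sup_le_sup_left ((Ideal.span_singleton_le_iff_mem _).2 ?_) _
    rw [mul_comm, smul_eq_mul]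
    exact Ideal.mul_mem_mul hc haJ
  · by_contra hcm
    obtain ⟨u, rfl⟩ := IsLocalRing.notMem_maximalIdeal.1 hcm
    exact ha (by simpa using J'.mul_mem_right (↑u⁻¹ : C) hc)

/-- Let C be a local Artin ring with maximal ideal m and residue field k = C/m, g : X → Spec C a flat
morphism, and i : X₀ → X the fibre of g over the closed point, i.e. a pullback of g along Spec k →
Spec C, with structure map f₀ : X₀ → Spec k. If the induced ring map k → Γ(X₀, O_{X₀}) is bijective,
then so is C → Γ(X, O_X). -/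
theorem result (C : Type u) [CommRing C]
    [IsLocalRing C] [IsArtinianRing C] (X X₀ : Scheme.{u}) (g : X ⟶ Spec (CommRingCat.of C)) [Flat g]
    (i : X₀ ⟶ X) (f₀ : X₀ ⟶ Spec (CommRingCat.of (C ⧸ IsLocalRing.maximalIdeal C)))
    (hsq : IsPullback i f₀ g
      (Spec.map (CommRingCat.ofHom (Ideal.Quotient.mk (IsLocalRing.maximalIdeal C)))))
    (h0 : Function.Bijective ((Scheme.ΓSpecIso (CommRingCat.of (C ⧸ IsLocalRing.maximalIdeal C))).inv ≫
      f₀.appTop)) :
    Function.Bijective ((Scheme.ΓSpecIso (CommRingCat.of C)).inv ≫ g.appTop) := by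
  let ρ : CommRingCat.of (C ⧸ (IsLocalRing.maximalIdeal C)) ⟶ Γ(X₀, ⊤) := (Scheme.ΓSpecIso (CommRingCat.of (C ⧸ (IsLocalRing.maximalIdeal C)))).inv ≫ f₀.appTop
  have hρ : Function.Bijective ρ := h0
  have hα : α g ⊤ = (Scheme.ΓSpecIso (CommRingCat.of C)).inv ≫ g.appTop := by simp [α]
  rw [← hα]
  have hcomm : ∀ (U : X.Opens) (c : C), i.app U ((α g U).hom c) =
      X₀.presheaf.map (homOfLE le_top).op (ρ (Ideal.Quotient.mk (IsLocalRing.maximalIdeal C) c)) := by
    intro U c
    have e₂ : g.appTop ≫ i.app ⊤ = (Spec.map (CommRingCat.ofHom (Ideal.Quotient.mk (IsLocalRing.maximalIdeal C)))).appTop ≫ f₀.appTop :=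
      ((Scheme.Hom.comp_appTop i g).symm.trans (congrArg Scheme.Hom.appTop hsq.w)).trans (Scheme.Hom.comp_appTop f₀ _)
    refine (ConcreteCategory.congr_hom (i.naturality (homOfLE (le_top : U ≤ ⊤)).op) _).trans ?_
    refine congrArg (X₀.presheaf.map (homOfLE le_top).op) ?_
    refine (ConcreteCategory.congr_hom e₂ ((Scheme.ΓSpecIso (CommRingCat.of C)).inv c)).trans ?_
    exact congrArg f₀.appTop (ConcreteCategory.congr_hom
      (Scheme.ΓSpecIso_inv_naturality (CommRingCat.ofHom (Ideal.Quotient.mk (IsLocalRing.maximalIdeal C)))).symm c)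
  -- `C → Γ(X, O)` is injective
  have inj : ∀ J : Ideal C, ∀ c ∈ J, (∀ U : X.Opens, IsAffineOpen U → (α g U).hom c = 0) → c = 0 := by
    intro J
    induction J using WellFoundedLT.induction with
    | _ J ih =>
      intro c hc hc0
      rcases eq_or_ne J ⊥ with rfl | hJ
      · exact hc
      obtain ⟨J', a, hlt, haJ, ha, hsup, hmem⟩ := exists_step J hJ
      rw [hsup, Submodule.mem_sup] at hc
      obtain ⟨j, hj, r, hr, rfl⟩ := hc
      obtain ⟨t, rfl⟩ := Ideal.mem_span_singleton'.1 hr
      suffices ht : t ∈ (IsLocalRing.maximalIdeal C) from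
        ih J' hlt _ (add_mem hj (mul_comm a t ▸ (hmem t).1 ht)) hc0
      have h1 : ρ (Ideal.Quotient.mk (IsLocalRing.maximalIdeal C) t) = 0 := by
        refine TopCat.Sheaf.eq_of_locally_eq' X₀.sheaf (fun U : X.affineOpens => i ⁻¹ᵁ U.1) ⊤
          (fun U => homOfLE le_top) ?_ _ _ ?_
        · intro x _
          obtain ⟨U, hU, hxU, -⟩ := exists_isAffineOpen_mem_and_subset (x := i x) (U := ⊤) trivial
          exact TopologicalSpace.Opens.mem_iSup.2 ⟨⟨U, hU⟩, hxU⟩
        · intro U
          show X₀.presheaf.map _ _ = X₀.presheaf.map _ 0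
          rw [map_zero]
          refine Eq.trans (hcomm U.1 t).symm ?_
          have h2 : ∀ t', t' ∈ (IsLocalRing.maximalIdeal C).map (α g U.1).hom → i.app U.1 t' = 0 := by
            intro t' ht'
            induction ht' using Submodule.span_induction with
            | mem x hx =>
              obtain ⟨c, hc, rfl⟩ := hx
              rw [hcomm, Ideal.Quotient.eq_zero_iff_mem.2 hc, map_zero, map_zero]
            | zero => exact map_zero _
            | add x y _ _ hx hy => rw [map_add, hx, hy, add_zero]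
            | smul r x _ hx => rw [smul_eq_mul, map_mul, hx, mul_zero]
          refine h2 _ (mem_map_of_smul_mem (C := C) _ (flat_α g U.2) J' (IsLocalRing.maximalIdeal C) a (fun c => (hmem c).2) _ ?_)
          have h3 := hc0 U.1 U.2
          rw [map_add, map_mul] at h3
          rw [mul_comm, eq_neg_of_add_eq_zero_right h3]
          exact neg_mem (Ideal.mem_map_of_mem _ hj)
      exact Ideal.Quotient.eq_zero_iff_mem.1 (hρ.1 (h1.trans (map_zero _).symm))
  -- sections with values in `J` come from `J`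
  have surj : ∀ J : Ideal C, ∀ s : Γ(X, ⊤), (∀ U : X.Opens, IsAffineOpen U →
      X.presheaf.map (homOfLE le_top).op s ∈ J.map (α g U).hom) → ∃ c ∈ J, (α g ⊤).hom c = s := by
    intro J
    induction J using WellFoundedLT.induction with
    | _ J ih =>
      intro s hs
      rcases eq_or_ne J ⊥ with rfl | hJ
      · refine ⟨0, zero_mem _, ?_⟩
        rw [map_zero]
        refine (TopCat.Sheaf.eq_of_locally_eq' X.sheaf (fun U : X.affineOpens => U.1) ⊤
          (fun U => homOfLE le_top) ?_ _ _ ?_).symm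
        · intro x _
          obtain ⟨U, hU, hxU, -⟩ := exists_isAffineOpen_mem_and_subset (x := x) (U := ⊤) trivial
          exact TopologicalSpace.Opens.mem_iSup.2 ⟨⟨U, hU⟩, hxU⟩
        · intro U
          have := hs U.1 U.2
          rw [Ideal.map_bot, Ideal.mem_bot] at this
          exact this.trans (map_zero _).symm
      obtain ⟨J', a, hlt, haJ, ha, hsup, hmem⟩ := exists_step J hJ
      have hdec : ∀ U : X.affineOpens, ∃ t : Γ(X, U.1),
          X.presheaf.map (homOfLE le_top).op s - (α g U.1).hom a * t ∈ J'.map (α g U.1).hom := by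
        intro U
        have h1 := hs U.1 U.2
        rw [hsup, Ideal.map_sup, Ideal.map_span, Set.image_singleton, Submodule.mem_sup] at h1
        obtain ⟨j, hj, r, hr, e⟩ := h1
        obtain ⟨t, rfl⟩ := Ideal.mem_span_singleton'.1 hr
        exact ⟨t, by rw [← e, mul_comm t, add_sub_cancel_right]; exact hj⟩
      choose t ht using hdec
      have hker : ∀ (U : X.affineOpens) (x : Γ(X, U.1)), x ∈ (IsLocalRing.maximalIdeal C).map (α g U.1).hom → i.app U.1 x = 0 := by
        intro U x hx
        induction hx using Submodule.span_induction with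
        | mem x hx =>
          obtain ⟨c, hc, rfl⟩ := hx
          rw [hcomm, Ideal.Quotient.eq_zero_iff_mem.2 hc, map_zero, map_zero]
        | zero => exact map_zero _
        | add x y _ _ hx hy => rw [map_add, hx, hy, add_zero]
        | smul r x _ hx => rw [smul_eq_mul, map_mul, hx, mul_zero]
      have hres : ∀ (U W : X.affineOpens) (h : W.1 ≤ U.1),
          X₀.presheaf.map (homOfLE (i.preimage_mono h)).op (i.app U.1 (t U)) = i.app W.1 (t W) := by
        intro U W h
        have e1 : X₀.presheaf.map (homOfLE (i.preimage_mono h)).op (i.app U.1 (t U)) =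
            i.app W.1 (X.presheaf.map (homOfLE h).op (t U)) :=
          (ConcreteCategory.congr_hom (i.naturality (homOfLE h).op) (t U)).symm
        rw [e1, ← sub_eq_zero, ← map_sub]
        refine hker W _ (mem_map_of_smul_mem (C := C) _ (flat_α g W.2) J' (IsLocalRing.maximalIdeal C) a (fun c => (hmem c).2) _ ?_)
        have h1 : X.presheaf.map (homOfLE h).op (X.presheaf.map (homOfLE le_top).op s - (α g U.1).hom a * t U) ∈
            J'.map (α g W.1).hom := by
          have := Ideal.mem_map_of_mem (X.presheaf.map (homOfLE h).op).hom (ht U)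
          rw [Ideal.map_map] at this
          convert this using 2
          exact RingHom.ext fun c => (α_res g h c).symm
        have h2 := sub_mem (ht W) h1
        rw [map_sub, map_mul, α_res] at h2
        have e2 : X.presheaf.map (homOfLE h).op (X.presheaf.map (homOfLE (le_top (a := U.1))).op s) =
            X.presheaf.map (homOfLE (le_top (a := W.1))).op s := by
          rw [← ConcreteCategory.comp_apply, ← Functor.map_comp]
          rfl
        rw [e2] at h2
        convert h2 using 1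
        ring
      obtain ⟨σ, hσ, -⟩ := TopCat.Sheaf.existsUnique_gluing' X₀.sheaf (fun U : X.affineOpens => i ⁻¹ᵁ U.1) ⊤
        (fun U => homOfLE le_top) (by
          intro x _
          obtain ⟨U, hU, hxU, -⟩ := exists_isAffineOpen_mem_and_subset (x := i x) (U := ⊤) trivial
          exact TopologicalSpace.Opens.mem_iSup.2 ⟨⟨U, hU⟩, hxU⟩)
        (fun U => i.app U.1 (t U)) (by
          intro U V
          refine TopCat.Sheaf.eq_of_locally_eq' X₀.sheaf
            (fun W : {W : X.affineOpens // W.1 ≤ U.1 ⊓ V.1} => i ⁻¹ᵁ W.1.1) _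
            (fun W => homOfLE (i.preimage_mono W.2)) ?_ _ _ ?_
          · intro x hx
            obtain ⟨W, hW, hxW, hWUV⟩ := exists_isAffineOpen_mem_and_subset (x := i x) (U := U.1 ⊓ V.1) hx
            exact TopologicalSpace.Opens.mem_iSup.2 ⟨⟨⟨W, hW⟩, hWUV⟩, hxW⟩
          · intro W
            refine (res_res X₀ _ _ (homOfLE (i.preimage_mono (W.2.trans inf_le_left))) _).trans ?_
            refine Eq.trans ?_ (res_res X₀ _ _ (homOfLE (i.preimage_mono (W.2.trans inf_le_right))) _).symm
            exact (hres U W.1 (W.2.trans inf_le_left)).trans (hres V W.1 (W.2.trans inf_le_right)).symm)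
      obtain ⟨l, rfl⟩ := hρ.2 σ
      obtain ⟨l, rfl⟩ := Ideal.Quotient.mk_surjective l
      obtain ⟨c', hc', hc'e⟩ := ih J' hlt (s - (α g ⊤).hom (a * l)) (fun U hU => by
        rw [map_sub, α_res, map_mul]
        have h1 : t ⟨U, hU⟩ - (α g U).hom l ∈ (IsLocalRing.maximalIdeal C).map (α g U).hom := by
          refine mem_of_app_eq_zero (IsLocalRing.maximalIdeal C) g i f₀ hsq hU _ ?_
          rw [map_sub, hcomm, sub_eq_zero]
          exact (hσ ⟨U, hU⟩).symm
        have h2 : (α g U).hom a * (t ⟨U, hU⟩ - (α g U).hom l) ∈ J'.map (α g U).hom := by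
          refine Submodule.span_induction (p := fun x _ => (α g U).hom a * x ∈ J'.map (α g U).hom) ?_ ?_ ?_ ?_ h1
          · rintro _ ⟨c, hc, rfl⟩
            rw [← map_mul]
            exact Ideal.mem_map_of_mem _ ((hmem c).1 hc)
          · simp
          · intro x y _ _ hx hy; rw [mul_add]; exact add_mem hx hy
          · intro r x _ hx; rw [smul_eq_mul, mul_left_comm]; exact Ideal.mul_mem_left _ _ hx
        have := add_mem (ht ⟨U, hU⟩) h2
        convert this using 1
        ring)
      refine ⟨c' + a * l, add_mem (hlt.le hc') (Ideal.mul_mem_right _ _ haJ), ?_⟩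
      rw [map_add, hc'e, sub_add_cancel]
  refine ⟨(injective_iff_map_eq_zero (α g ⊤).hom).2 fun c hc => inj ⊤ c trivial fun U _ => by
    rw [← α_res g (le_top : U ≤ ⊤), hc, map_zero], fun s => ?_⟩
  obtain ⟨c, -, hc⟩ := surj ⊤ s (fun U _ => by rw [Ideal.map_top]; trivial)
  exact ⟨c, hc⟩

end Groth.Agent.S11468
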