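import Groth.Statements.S11469
import Mathlib.LinearAlgebra.TensorProduct.RightExactness
import Mathlib.RingTheory.Ideal.Operations

set_option autoImplicit false
universe u
open scoped TensorProduct
open DefT

namespace Groth.Agent.S11469

/-- Let C' be a local Artin ring with maximal ideal m, J ⊊ C' a proper ideal with mJ = 0, A' a
C'-algebra, M' an A'-module flat over C', and M₀ = M'/mM'. Then (1) every A'-linear endomorphism σ
of M' that is the identity modulo JM' is bijective, and there is exactly one A'-linear τ : M₀ → M₀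
⊗_{C'} J such that, for all x ∈ M' and all z ∈ M' ⊗_{C'} J mapping to σ(x) − x in M', the image of z
in M₀ ⊗_{C'} J is τ applied to the class of x; and (2) every A'-linear τ : M₀ → M₀ ⊗_{C'} J comes in
this way from some such σ. Thus the automorphisms of the extension M' inducing the identity on
M'/JM' correspond to Hom(M₀, M₀ ⊗ J). -/
theorem result (C' : Type u) [CommRing C'] [IsLocalRing C']
    [IsArtinianRing C'] (J : Ideal C') (hJ : IsLocalRing.maximalIdeal C' * J = ⊥) (hJne : J ≠ ⊤)
    (A' : Type u) [CommRing A'] [Algebra C' A'] (M' : Type u) [AddCommGroup M'] [Module A' M'] [Module C' M']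
    [IsScalarTower C' A' M'] [Module.Flat C' M'] :
    (∀ σ : M' →ₗ[A'] M', (∀ x : M', σ x - x ∈ (J.map (algebraMap C' A')) • (⊤ : Submodule A' M')) →
      Function.Bijective σ ∧
        ∃! τ : (M' ⧸ ((IsLocalRing.maximalIdeal C').map (algebraMap C' A')) • (⊤ : Submodule A' M')) →ₗ[A'] ((M' ⧸ ((IsLocalRing.maximalIdeal C').map (algebraMap C' A')) • (⊤ : Submodule A' M')) ⊗[C'] ↥J),
          (∀ (x : M') (z : M' ⊗[C'] ↥J), TensorProduct.rid C' M' (LinearMap.lTensor M' (Submodule.subtype J) z) = σ x - x →
            LinearMap.rTensor ↥J ((Submodule.mkQ (((IsLocalRing.maximalIdeal C').map (algebraMap C' A')) • (⊤ : Submodule A' M'))).restrictScalars C') z =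
              τ (Submodule.mkQ _ x))) ∧
    (∀ τ : (M' ⧸ ((IsLocalRing.maximalIdeal C').map (algebraMap C' A')) • (⊤ : Submodule A' M')) →ₗ[A'] ((M' ⧸ ((IsLocalRing.maximalIdeal C').map (algebraMap C' A')) • (⊤ : Submodule A' M')) ⊗[C'] ↥J),
      ∃ σ : M' →ₗ[A'] M', (∀ x : M', σ x - x ∈ (J.map (algebraMap C' A')) • (⊤ : Submodule A' M')) ∧
          (∀ (x : M') (z : M' ⊗[C'] ↥J), TensorProduct.rid C' M' (LinearMap.lTensor M' (Submodule.subtype J) z) = σ x - x →
            LinearMap.rTensor ↥J ((Submodule.mkQ (((IsLocalRing.maximalIdeal C').map (algebraMap C' A')) • (⊤ : Submodule A' M'))).restrictScalars C') z =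
              τ (Submodule.mkQ _ x))) := by
  classical
  set m : Ideal C' := IsLocalRing.maximalIdeal C' with hm
  set N : Submodule A' M' := (m.map (algebraMap C' A')) • (⊤ : Submodule A' M') with hN
  set JM : Submodule A' M' := (J.map (algebraMap C' A')) • (⊤ : Submodule A' M') with hJM
  have hJm : J ≤ m := IsLocalRing.le_maximalIdeal hJne
  let μ : M' ⊗[C'] ↥J →ₗ[C'] M' := (TensorProduct.rid C' M').toLinearMap ∘ₗ LinearMap.lTensor M' J.subtype
  have μt : ∀ (x : M') (j : J), μ (x ⊗ₜ j) = (j : C') • x := fun x j => by simp [μ]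
  have μinj : Function.Injective μ := (TensorProduct.rid C' M').injective.comp (Module.Flat.lTensor_preserves_injective_linearMap _ J.injective_subtype)
  have μa : ∀ (a : A') z, μ (a • z) = a • μ z := by
    intro a z
    induction z using TensorProduct.induction_on with
    | zero => simp
    | tmul x j => rw [TensorProduct.smul_tmul', μt, μt]; exact (smul_comm a (j : C') x).symm
    | add x y hx hy => simp [hx, hy]
  have μmem : ∀ z, μ z ∈ JM := by
    intro z
    induction z using TensorProduct.induction_on with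
    | zero => simp
    | tmul x j =>
      rw [μt, ← algebraMap_smul A' (j : C') x]
      exact Submodule.smul_mem_smul (Ideal.mem_map_of_mem _ j.2) trivial
    | add x y hx hy => rw [map_add]; exact add_mem hx hy
  have μsurj : ∀ y ∈ JM, ∃ z, μ z = y := by
    intro y hy
    refine Submodule.smul_induction_on (p := fun y => ∃ z, μ z = y) hy ?_ ?_
    · intro a ha x _
      refine Submodule.span_induction (p := fun a _ => ∀ x : M', ∃ z, μ z = a • x) ?_ ?_ ?_ ?_ ha x
      · rintro _ ⟨j, hj, rfl⟩ x
        exact ⟨x ⊗ₜ ⟨j, hj⟩, by rw [μt, algebraMap_smul]⟩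
      · exact fun x => ⟨0, by simp⟩
      · intro a b _ _ h1 h2 x
        obtain ⟨z, hz⟩ := h1 x
        obtain ⟨w, hw⟩ := h2 x
        exact ⟨z + w, by rw [map_add, hz, hw, add_smul]⟩
      · intro a b _ h x
        obtain ⟨z, hz⟩ := h x
        exact ⟨a • z, by rw [μa, hz, smul_assoc]⟩
    · rintro a b ⟨z, rfl⟩ ⟨w, rfl⟩
      exact ⟨z + w, map_add _ _ _⟩
  -- tensoring with `J` only sees the closed fibre
  let q : M' ⊗[C'] ↥J →ₗ[C'] (M' ⧸ N) ⊗[C'] ↥J := LinearMap.rTensor ↥J (N.mkQ.restrictScalars C')
  have qt : ∀ (x : M') (j : J), q (x ⊗ₜ j) = N.mkQ x ⊗ₜ j := fun x j => rfl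
  have qa : ∀ (a : A') z, q (a • z) = a • q z := by
    intro a z
    induction z using TensorProduct.induction_on with
    | zero => simp
    | tmul x j => rw [TensorProduct.smul_tmul', qt, qt, map_smul, TensorProduct.smul_tmul']
    | add x y hx hy => simp [hx, hy]
  have qsurj : Function.Surjective q := LinearMap.rTensor_surjective _ N.mkQ_surjective
  have hmJ : ∀ a ∈ m.map (algebraMap C' A'), ∀ b ∈ J.map (algebraMap C' A'), a * b = 0 := by
    intro a ha b hb
    have := Ideal.mul_mem_mul ha hb
    rwa [← Ideal.map_mul, hJ, Ideal.map_bot, Ideal.mem_bot] at this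
  have hNJ : ∀ x ∈ N, ∀ j : J, x ⊗ₜ[C'] j = 0 := by
    intro x hx
    refine Submodule.smul_induction_on (p := fun x => ∀ j : J, x ⊗ₜ[C'] j = 0) hx ?_ ?_
    · intro a ha x _ j
      refine μinj ?_
      rw [map_zero, μt, ← algebraMap_smul A' (j : C') (a • x), smul_smul, mul_comm, hmJ a ha _ (Ideal.mem_map_of_mem _ j.2), zero_smul]
    · intro x y hx hy j; rw [TensorProduct.add_tmul, hx, hy, add_zero]
  have qinj : Function.Injective q := by
    rw [injective_iff_map_eq_zero]
    intro z hz
    obtain ⟨w, rfl⟩ := (rTensor_exact ↥J (f := (N.subtype.restrictScalars C')) (g := N.mkQ.restrictScalars C')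
      (fun x => (LinearMap.exact_subtype_mkQ N) x) N.mkQ_surjective z).mp hz
    clear hz
    induction w using TensorProduct.induction_on with
    | zero => simp
    | tmul x j => exact hNJ _ x.2 j
    | add x y hx hy => simp [hx, hy]
  refine ⟨fun σ hσ => ⟨?_, ?_⟩, fun τ => ?_⟩
  · -- `σ - 1` squares to zero
    have hsq : ∀ x, σ (σ x - x) = σ x - x := by
      intro x
      rw [← sub_eq_zero]
      refine Submodule.smul_induction_on (p := fun y => σ y - y = 0) (hσ x) ?_ ?_
      · intro a ha y _
        rw [map_smul, ← smul_sub]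
        refine Submodule.smul_induction_on (p := fun y => a • y = 0) (hσ y) ?_ ?_
        · intro b hb y _
          rw [smul_smul, hmJ a (Ideal.map_mono hJm ha) b hb, zero_smul]
        · intro u v hu hv; rw [smul_add, hu, hv, add_zero]
      · intro u v hu hv; rw [map_add, add_sub_add_comm, hu, hv, add_zero]
    refine ⟨fun x y e => ?_, fun y => ⟨y + y - σ y, ?_⟩⟩
    · have h1 := hsq (x - y)
      rw [map_sub σ x y, e, sub_self, zero_sub, map_neg, map_sub σ x y, e, sub_self, neg_zero] at h1
      exact sub_eq_zero.mp (neg_eq_zero.mp h1.symm)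
    · have h1 := hsq y
      rw [map_sub] at h1
      rw [map_sub, map_add, sub_eq_iff_eq_add.mp h1]
      abel
  · let d : M' →ₗ[A'] M' := σ - LinearMap.id
    choose D hD using fun x => μsurj _ (hσ x)
    have hD0 : ∀ x z, μ z = σ x - x → z = D x := fun x z hz => μinj (by rw [hz, hD])
    let T : M' →ₗ[A'] (M' ⧸ N) ⊗[C'] ↥J :=
      { toFun := fun x => q (D x)
        map_add' := fun x y => by rw [← map_add, ← hD0 (x + y) (D x + D y) (by rw [map_add, hD, hD, map_add]; abel)]
        map_smul' := fun a x => by rw [RingHom.id_apply, ← qa, ← hD0 (a • x) (a • D x) (by rw [μa, hD, map_smul, smul_sub])] }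
    have hT : N ≤ LinearMap.ker T := by
      refine Submodule.smul_le.mpr ?_
      intro a ha x _
      rw [LinearMap.mem_ker, map_smul]
      obtain ⟨z, hz⟩ : ∃ z, z = D x := ⟨_, rfl⟩
      change a • q (D x) = 0
      rw [← qa, ← map_zero q]
      congr 1
      refine μinj ?_
      rw [map_zero, μa, hD]
      refine Submodule.smul_induction_on (p := fun y => a • y = 0) (hσ x) ?_ ?_
      · intro b hb y _
        rw [smul_smul, hmJ a ha b hb, zero_smul]
      · intro u v hu hv; rw [smul_add, hu, hv, add_zero]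
    refine ⟨N.liftQ T hT, fun x z hz => ?_, fun τ' hτ' => ?_⟩
    · rw [hD0 x z hz]; rfl
    · refine Submodule.linearMap_qext _ (LinearMap.ext fun x => ?_)
      exact (hτ' x (D x) (hD x)).symm
  · choose s hs using qsurj
    have hs0 : ∀ y z, q z = y → z = s y := fun y z hz => qinj (by rw [hz, hs])
    let σ : M' →ₗ[A'] M' :=
      { toFun := fun x => x + μ (s (τ (N.mkQ x)))
        map_add' := fun x y => by
          rw [map_add N.mkQ, map_add τ, ← hs0 _ (s (τ (N.mkQ x)) + s (τ (N.mkQ y))) (by rw [map_add, hs, hs]), map_add]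
          abel
        map_smul' := fun a x => by
          rw [RingHom.id_apply, map_smul N.mkQ, map_smul τ, ← hs0 _ (a • s (τ (N.mkQ x))) (by rw [qa, hs]), μa, smul_add] }
    refine ⟨σ, fun x => ?_, fun x z hz => ?_⟩
    · change x + μ (s (τ (N.mkQ x))) - x ∈ JM
      rw [add_sub_cancel_left]; exact μmem _
    · have e : μ z = μ (s (τ (N.mkQ x))) := by
        change μ z = σ x - x at hz
        rw [hz]; exact add_sub_cancel_left _ _
      change q z = _
      rw [μinj e, hs]

end Groth.Agent.S11469
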