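import Groth.Statements.S1147
import Groth.Agent.S9432
import Groth.Agent.S7547


set_option autoImplicit false
universe u
open Desc

namespace Groth.Agent.S1147

/-- Let A → B be a faithfully flat ring map of finite presentation. If B is a Jacobson ring then so is
A. (This is the affine descent direction of the statement that the Jacobson property is fppf local.) -/
theorem result (A B : Type u) [CommRing A] [CommRing B] [Algebra A B]
    [Module.FaithfullyFlat A B] [Algebra.FinitePresentation A B] [IsJacobsonRing B] : IsJacobsonRing A := by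
  obtain ⟨S', _, _, hqf, hft, hff, -, ⟨g⟩⟩ := Groth.Agent.S9432.result A B
  have : IsJacobsonRing S' := by
    let _ : Algebra B S' := g.toRingHom.toAlgebra
    have : IsScalarTower A B S' := IsScalarTower.of_algebraMap_eq fun a => (g.commutes a).symm
    have : Algebra.FiniteType B S' := Algebra.FiniteType.of_restrictScalars_finiteType A B S'
    exact isJacobsonRing_of_finiteType (A := B)
  rw [PrimeSpectrum.isJacobsonRing_iff_jacobsonSpace]
  by_contra hA
  obtain ⟨x, hx, hlc⟩ := Groth.Agent.S7547.result hA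
  obtain ⟨U, Z, hU, hZ, hUZ⟩ := hlc
  have hxUZ : x ∈ U ∩ Z := hUZ ▸ rfl
  obtain ⟨_, ⟨f, rfl⟩, hxf, hfU⟩ :=
    PrimeSpectrum.isTopologicalBasis_basic_opens.exists_subset_of_mem_open hxUZ.1 hU
  have hiso : ∀ y : PrimeSpectrum A, x.asIdeal ≤ y.asIdeal → f ∉ y.asIdeal → y = x := by
    intro y hy hf
    have hy' : y ∈ U ∩ Z :=
      ⟨hfU hf, ((PrimeSpectrum.le_iff_specializes x y).1 hy).mem_closed hZ hxUZ.2⟩
    rw [← hUZ] at hy'
    exact hy'
  obtain ⟨m, hm, hxm⟩ := Ideal.exists_le_maximal x.asIdeal x.2.ne_top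
  have hne : m ≠ x.asIdeal := fun h =>
    hx ((PrimeSpectrum.isClosed_singleton_iff_isMaximal x).2 (h ▸ hm))
  obtain ⟨n, hn⟩ := PrimeSpectrum.comap_surjective_of_faithfullyFlat (A := A) (B := S') ⟨m, hm.isPrime⟩
  have hn' : n.asIdeal.comap (algebraMap A S') = m := congrArg PrimeSpectrum.asIdeal hn
  have : n.asIdeal.LiesOver m := ⟨hn'.symm⟩
  have := x.2
  obtain ⟨q, hqn, hq, hqx⟩ := Ideal.exists_ideal_le_liesOver_of_le n.asIdeal hxm
  have hqx' : q.comap (algebraMap A S') = x.asIdeal := hqx.over.symm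
  have hfq : algebraMap A S' f ∉ q := fun h => hxf (hqx' ▸ (Ideal.mem_comap.2 h))
  refine hfq ?_
  rw [← (IsJacobsonRing.out ‹IsJacobsonRing S'› hq.isRadical), Ideal.jacobson, Ideal.mem_sInf]
  rintro M ⟨hqM, hM⟩
  by_contra hfM
  have hMx : M.comap (algebraMap A S') = x.asIdeal := congrArg PrimeSpectrum.asIdeal
    (hiso ⟨M.comap (algebraMap A S'), Ideal.IsPrime.comap _⟩ (hqx' ▸ Ideal.comap_mono hqM) hfM)
  have hqM' : q = M := Algebra.QuasiFinite.eq_of_le_of_under_eq (R := A) q M hqM (hqx'.trans hMx.symm)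
  have hqn' : q = n.asIdeal := (hqM' ▸ hM).eq_of_le n.2.ne_top hqn
  exact hne (by rw [← hn', ← hqn', hqx'])

end Groth.Agent.S1147
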