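import Groth.Statements.S11470
import Mathlib

set_option autoImplicit false
universe u
open Curves

namespace Groth.Agent.S11470


section helpers

open Polynomial

variable {k : Type u} [Field k]


noncomputable def uu : RatFunc k := (RatFunc.X : RatFunc k) * ((RatFunc.X : RatFunc k) - 1)

noncomputable def jj : RatFunc k := (256 : RatFunc k) * ((RatFunc.X : RatFunc k) ^ 2 - (RatFunc.X : RatFunc k) + 1) ^ 3 / ((RatFunc.X : RatFunc k) ^ 2 * ((RatFunc.X : RatFunc k) - 1) ^ 2)

theorem aeval_X_eq (P : k[X]) : aeval (RatFunc.X : RatFunc k) P = algebraMap k[X] (RatFunc k) P := by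
  rw [← RatFunc.algebraMap_X, aeval_algebraMap_apply, aeval_X_left_apply]

theorem aeval_X_injective : Function.Injective (aeval (RatFunc.X : RatFunc k) : k[X] → RatFunc k) := by
  intro P Q h
  rw [aeval_X_eq, aeval_X_eq] at h
  exact IsFractionRing.injective k[X] (RatFunc k) h

theorem x_sub_one_ne : (RatFunc.X : RatFunc k) - 1 ≠ 0 := by
  intro h
  have : aeval (RatFunc.X : RatFunc k) (X - 1 : k[X]) = aeval (RatFunc.X : RatFunc k) (0 : k[X]) := by simpa using h
  exact X_sub_C_ne_zero (1 : k) (by simpa using aeval_X_injective this)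

theorem uu_ne : (uu : RatFunc k) ≠ 0 := mul_ne_zero RatFunc.X_ne_zero x_sub_one_ne

theorem aeval_uu : aeval (RatFunc.X : RatFunc k) (X * (X - 1) : k[X]) = uu := by simp [uu]

theorem exists_rep {b : RatFunc k} (hb : b ∈ Algebra.adjoin k ({(RatFunc.X : RatFunc k), (RatFunc.X : RatFunc k)⁻¹, ((RatFunc.X : RatFunc k) - 1)⁻¹} : Set (RatFunc k))) :
    ∃ (P : k[X]) (m : ℕ), b = aeval (RatFunc.X : RatFunc k) P / uu ^ m := by
  induction hb using Algebra.adjoin_induction with
  | mem y hy =>
    rcases hy with rfl | rfl | rfl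
    · exact ⟨X, 0, by simp⟩
    · refine ⟨X - 1, 1, ?_⟩
      have := x_sub_one_ne (k := k)
      simp only [map_sub, aeval_X, map_one, pow_one, uu]
      field_simp
    · refine ⟨X, 1, ?_⟩
      have := RatFunc.X_ne_zero (K := k)
      simp only [aeval_X, pow_one, uu]
      field_simp
  | algebraMap r => exact ⟨Polynomial.C r, 0, by simp⟩
  | add y z _ _ hy hz =>
    obtain ⟨P, m, rfl⟩ := hy
    obtain ⟨Q, n, rfl⟩ := hz
    refine ⟨P * (X * (X - 1)) ^ n + Q * (X * (X - 1)) ^ m, m + n, ?_⟩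
    have := uu_ne (k := k)
    simp only [map_add, map_mul, map_pow, map_sub, aeval_X, map_one]
    rw [div_add_div _ _ (pow_ne_zero _ this) (pow_ne_zero _ this), ← pow_add]
    simp only [uu]
    ring
  | mul y z _ _ hy hz =>
    obtain ⟨P, m, rfl⟩ := hy
    obtain ⟨Q, n, rfl⟩ := hz
    exact ⟨P * Q, m + n, by rw [map_mul, pow_add, div_mul_div_comm]⟩

variable (σ τ : RatFunc k ≃ₐ[k] RatFunc k) (hσ : σ (RatFunc.X : RatFunc k) = (RatFunc.X : RatFunc k)⁻¹) (hτ : τ (RatFunc.X : RatFunc k) = 1 - (RatFunc.X : RatFunc k))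

include hσ in
theorem sigma_uu : σ uu = -((RatFunc.X : RatFunc k) - 1) / (RatFunc.X : RatFunc k) ^ 2 := by
  have := RatFunc.X_ne_zero (K := k)
  simp only [uu, map_mul, map_sub, map_one, hσ]
  field_simp
  ring

include hτ in
theorem tau_uu : τ uu = uu := by
  simp only [uu, map_mul, map_sub, map_one, hτ]
  ring

theorem map_ofNat256 (φ : RatFunc k ≃ₐ[k] RatFunc k) : φ 256 = 256 := map_ofNat φ 256

include hσ in
theorem sigma_jj : σ jj = jj := by
  have := RatFunc.X_ne_zero (K := k)
  have := x_sub_one_ne (k := k)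
  simp only [jj, map_div₀, map_mul, map_pow, map_add, map_sub, map_one, hσ, map_ofNat256]
  have h1 : (1 : RatFunc k) - (RatFunc.X : RatFunc k) ≠ 0 := by rw [← neg_sub]; exact neg_ne_zero.mpr this
  field_simp
  ring

include hτ in
theorem tau_jj : τ jj = jj := by
  simp only [jj, map_div₀, map_mul, map_pow, map_add, map_sub, map_one, hτ, map_ofNat256]
  congr 1 <;> ring

include hσ in
theorem sigma_rel {P : k[X]} {m : ℕ} (h : σ (aeval (RatFunc.X : RatFunc k) P / uu ^ m) = aeval (RatFunc.X : RatFunc k) P / uu ^ m) :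
    ∃ R : k[X], R.natDegree ≤ P.natDegree ∧ R.eval 1 = P.eval 1 ∧
      R * X ^ (3 * m) = (-1) ^ m * P * X ^ P.natDegree := by
  set n := P.natDegree
  refine ⟨∑ i ∈ Finset.range (n + 1), C (P.coeff i) * X ^ (n - i), ?_, ?_, aeval_X_injective ?_⟩
  · refine natDegree_sum_le_of_forall_le _ _ fun i _ => ?_
    exact (natDegree_C_mul_X_pow_le _ _).trans (Nat.sub_le _ _)
  · rw [eval_finsetSum, eval_eq_sum_range]
    simp [n]
  · have hx := RatFunc.X_ne_zero (K := k)
    have hx1 := x_sub_one_ne (k := k)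
    have hR : aeval (RatFunc.X : RatFunc k) (∑ i ∈ Finset.range (n + 1), C (P.coeff i) * X ^ (n - i)) =
        (RatFunc.X : RatFunc k) ^ n * aeval (RatFunc.X : RatFunc k)⁻¹ P := by
      rw [map_sum, aeval_eq_sum_range, Finset.mul_sum]
      refine Finset.sum_congr rfl fun i hi => ?_
      have hi' : i ≤ n := Nat.lt_succ_iff.mp (Finset.mem_range.mp hi)
      rw [map_mul, aeval_C, map_pow, aeval_X, pow_sub₀ _ hx hi', Algebra.smul_def, inv_pow]
      ring
    have hP : σ (aeval (RatFunc.X : RatFunc k) P) = aeval (RatFunc.X : RatFunc k)⁻¹ P := by rw [← aeval_algHom_apply, hσ]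
    rw [map_div₀, map_pow, sigma_uu σ hσ, hP, div_eq_div_iff (pow_ne_zero _ (div_ne_zero
      (neg_ne_zero.mpr hx1) (pow_ne_zero _ hx))) (pow_ne_zero _ uu_ne), div_pow, mul_div_assoc',
      eq_div_iff (pow_ne_zero _ (pow_ne_zero _ hx))] at h
    simp only [map_mul, hR, map_pow, aeval_X, map_neg, map_one]
    apply mul_right_cancel₀ (pow_ne_zero m hx1)
    rw [neg_pow ((RatFunc.X : RatFunc k) - 1)] at h
    simp only [uu, mul_pow] at h
    linear_combination (RatFunc.X : RatFunc k) ^ n * h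

include hσ hτ in
theorem mem_of_invariant (h2 : (2 : k) ≠ 0) :
    ∀ (m : ℕ) (P : k[X]), σ (aeval (RatFunc.X : RatFunc k) P / uu ^ m) = aeval (RatFunc.X : RatFunc k) P / uu ^ m →
      τ (aeval (RatFunc.X : RatFunc k) P / uu ^ m) = aeval (RatFunc.X : RatFunc k) P / uu ^ m →
      aeval (RatFunc.X : RatFunc k) P / uu ^ m ∈ Algebra.adjoin k ({jj} : Set (RatFunc k)) := by
  intro m
  induction m with
  | zero =>
    intro P hs _
    obtain ⟨R, hRd, -, hR⟩ := sigma_rel σ hσ hs
    simp only [mul_zero, pow_zero, one_mul, mul_one] at hR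
    have hn : P.natDegree = 0 := by
      by_cases hP : P = 0
      · simp [hP]
      rw [hR, natDegree_mul hP (pow_ne_zero _ X_ne_zero), natDegree_X_pow] at hRd
      omega
    rw [eq_C_of_natDegree_eq_zero hn]
    simp only [aeval_C, pow_zero, div_one]
    exact Subalgebra.algebraMap_mem _ _
  | succ m ih =>
    intro P hs ht
    -- reduce to the case where `P` vanishes at `0`
    suffices key : ∀ Q : k[X], Q.eval 0 = 0 →
        σ (aeval (RatFunc.X : RatFunc k) Q / uu ^ (m + 1)) = aeval (RatFunc.X : RatFunc k) Q / uu ^ (m + 1) →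
        τ (aeval (RatFunc.X : RatFunc k) Q / uu ^ (m + 1)) = aeval (RatFunc.X : RatFunc k) Q / uu ^ (m + 1) →
        aeval (RatFunc.X : RatFunc k) Q / uu ^ (m + 1) ∈ Algebra.adjoin k ({jj} : Set (RatFunc k)) by
      rcases Nat.even_or_odd (m + 1) with ⟨l, hl⟩ | hodd
      · set c := P.eval 0 * ((256 : k) ^ l)⁻¹
        have h256 : (256 : k) ≠ 0 := by
          rw [show (256 : k) = 2 ^ 8 by norm_num]
          exact pow_ne_zero _ h2
        set J : RatFunc k := algebraMap k (RatFunc k) c * jj ^ l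
        have hj2 : jj * uu ^ 2 = (256 : RatFunc k) * ((RatFunc.X : RatFunc k) ^ 2 - RatFunc.X + 1) ^ 3 := by
          rw [jj, uu, mul_pow, div_mul_cancel₀]
          exact mul_ne_zero (pow_ne_zero _ RatFunc.X_ne_zero) (pow_ne_zero _ x_sub_one_ne)
        have hJ : J = aeval (RatFunc.X : RatFunc k) (C (c * 256 ^ l) * (X ^ 2 - X + 1) ^ (3 * l)) /
            uu ^ (m + 1) := by
          have h256' : algebraMap k (RatFunc k) 256 = 256 := map_ofNat _ 256
          rw [eq_div_iff (pow_ne_zero _ uu_ne), hl, map_mul, map_pow, map_add, map_sub, map_pow,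
            aeval_X, map_one, aeval_C, map_mul, map_pow, h256', pow_mul]
          simp only [J]
          rw [mul_assoc (algebraMap k (RatFunc k) c) (jj ^ l), pow_add, ← sq, ← pow_mul, mul_comm l 2,
            pow_mul, ← mul_pow, hj2, mul_pow, mul_assoc]
        have hJmem : J ∈ Algebra.adjoin k ({jj} : Set (RatFunc k)) :=
          mul_mem (Subalgebra.algebraMap_mem _ _) (pow_mem (Algebra.subset_adjoin (Set.mem_singleton (jj : RatFunc k))) l)
        have hd : aeval (RatFunc.X : RatFunc k) P / uu ^ (m + 1) - J =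
            aeval (RatFunc.X : RatFunc k) (P - C (c * 256 ^ l) * (X ^ 2 - X + 1) ^ (3 * l)) / uu ^ (m + 1) := by
          rw [hJ, map_sub, sub_div]
        rw [← sub_add_cancel (aeval (RatFunc.X : RatFunc k) P / uu ^ (m + 1)) J, hd]
        refine add_mem (key _ ?_ ?_ ?_) hJmem
        · simp [c, h256]
        · rw [← hd, map_sub, hs]
          simp only [J, map_mul, map_pow, AlgEquiv.commutes, sigma_jj σ hσ]
        · rw [← hd, map_sub, ht]
          simp only [J, map_mul, map_pow, AlgEquiv.commutes, tau_jj τ hτ]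
      · refine key P ?_ hs ht
        obtain ⟨R, -, hR1, hR⟩ := sigma_rel σ hσ hs
        have h1 := congrArg (Polynomial.eval 1) hR
        simp [hodd.neg_one_pow, hR1] at h1
        have hP1 : P.eval 1 = 0 := by
          have : (2 : k) * P.eval 1 = 0 := by linear_combination h1
          exact (mul_eq_zero.mp this).resolve_left h2
        rw [map_div₀, map_pow, tau_uu τ hτ, ← aeval_algHom_apply, hτ] at ht
        have h3 : P.comp (1 - X) = P := by
          apply aeval_X_injective
          rw [aeval_comp, map_sub, map_one, aeval_X]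
          exact (div_left_inj' (pow_ne_zero _ uu_ne)).mp ht
        rw [← h3]
        simpa using hP1
    intro Q hQ0 hsQ htQ
    have h3 : Q.comp (1 - X) = Q := by
      apply aeval_X_injective
      rw [aeval_comp, map_sub, map_one, aeval_X]
      have h4 := htQ
      rw [map_div₀, map_pow, tau_uu τ hτ, ← aeval_algHom_apply, hτ] at h4
      exact (div_left_inj' (pow_ne_zero _ uu_ne)).mp h4
    have hQ1 : Q.eval 1 = 0 := by
      have := congrArg (Polynomial.eval 1) h3
      simpa [hQ0] using this.symm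
    obtain ⟨Q₁, rfl⟩ : X ∣ Q := by rw [X_dvd_iff, coeff_zero_eq_eval_zero, hQ0]
    obtain ⟨Q₂, rfl⟩ : X - C (1 : k) ∣ Q₁ := by
      rw [dvd_iff_isRoot]
      simpa using hQ1
    have heq : aeval (RatFunc.X : RatFunc k) (X * ((X - C (1 : k)) * Q₂)) / uu ^ (m + 1) = aeval (RatFunc.X : RatFunc k) Q₂ / uu ^ m := by
      rw [map_mul, map_mul, map_sub, aeval_X, map_one C, map_one, ← mul_assoc, pow_succ',
        show (RatFunc.X : RatFunc k) * ((RatFunc.X : RatFunc k) - 1) = uu from rfl, mul_div_mul_left _ _ uu_ne]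
    rw [heq] at hsQ htQ ⊢
    exact ih Q₂ hsQ htQ

end helpers

/-- The algebraic step of its proof: Fix an algebraically closed field k whose characteristic is neither
2 nor 3, let B ⊆ k(λ) be the k-subalgebra generated by λ, λ⁻¹ and (λ - 1)⁻¹ (the coordinate ring of
the λ-line with 0 and 1 removed), and let σ and τ be the k-algebra automorphisms of k(λ) determined
by σ(λ) = λ⁻¹ and τ(λ) = 1 - λ (they generate the group of order six permuting λ, 1/λ, 1-λ, 1/(1-λ),
λ/(λ-1), (λ-1)/λ). Then the elements of B fixed by σ and τ are exactly the elements of the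
k-subalgebra generated by j = 256 (λ² - λ + 1)³ / (λ² (λ - 1)²); in other words the ring of
invariants of B is the polynomial ring k[j]. -/
theorem result (k : Type u) [Field k] [IsAlgClosed k]
    (h2 : (2 : k) ≠ 0) (h3 : (3 : k) ≠ 0)
    (σ τ : RatFunc k ≃ₐ[k] RatFunc k) (hσ : σ RatFunc.X = (RatFunc.X : RatFunc k)⁻¹)
    (hτ : τ RatFunc.X = 1 - (RatFunc.X : RatFunc k)) (b : RatFunc k) :
    (b ∈ Algebra.adjoin k ({RatFunc.X, (RatFunc.X : RatFunc k)⁻¹, ((RatFunc.X : RatFunc k) - 1)⁻¹} : Set (RatFunc k)) ∧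
        σ b = b ∧ τ b = b) ↔
      b ∈ Algebra.adjoin k ({(256 : RatFunc k) * ((RatFunc.X : RatFunc k) ^ 2 - RatFunc.X + 1) ^ 3 /
        ((RatFunc.X : RatFunc k) ^ 2 * ((RatFunc.X : RatFunc k) - 1) ^ 2)} : Set (RatFunc k)) := by
  refine ⟨fun ⟨hb, hs, ht⟩ => ?_, fun hb => ?_⟩
  · obtain ⟨P, m, rfl⟩ := exists_rep hb
    exact mem_of_invariant σ τ hσ hτ h2 m P hs ht
  · change b ∈ Algebra.adjoin k ({jj} : Set (RatFunc k)) at hb
    refine Algebra.adjoin_le (S := (Algebra.adjoin k _) ⊓ AlgHom.equalizer σ.toAlgHom (AlgHom.id k _)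
      ⊓ AlgHom.equalizer τ.toAlgHom (AlgHom.id k _)) ?_ hb |> fun h => ⟨h.1.1, h.1.2, h.2⟩
    rintro y rfl
    refine ⟨⟨?_, sigma_jj σ hσ⟩, tau_jj τ hτ⟩
    rw [SetLike.mem_coe, jj, div_eq_mul_inv, mul_inv, ← inv_pow, ← inv_pow]
    refine mul_mem (mul_mem ?_ (pow_mem (add_mem (sub_mem (pow_mem ?_ _) ?_) (one_mem _)) _))
      (mul_mem (pow_mem (Algebra.subset_adjoin (by simp)) _) (pow_mem (Algebra.subset_adjoin (by simp)) _))
    · rw [show (256 : RatFunc k) = algebraMap k (RatFunc k) 256 from (map_ofNat _ 256).symm]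
      exact Subalgebra.algebraMap_mem _ _
    · exact Algebra.subset_adjoin (by simp)
    · exact Algebra.subset_adjoin (by simp)

end Groth.Agent.S11470
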