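import Groth.Statements.S1148
import Mathlib.RingTheory.Ideal.GoingDown
import Mathlib.RingTheory.LocalRing.ResidueField.Fiber
import Mathlib.RingTheory.FinitePresentation
import Mathlib.RingTheory.FiniteStability
import Mathlib.RingTheory.Spectrum.Prime.Noetherian

set_option autoImplicit false
universe u
open Desc

namespace Groth.Agent.S1148

/-- Affine form (finiteness of irreducible components of quasi-compact opens is fppf local; this is the
ascent direction for a morphism of affine schemes). Let A → B be a flat ring map of finite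
presentation. If Spec A has finitely many irreducible components, then so does Spec B. -/
theorem result (A B : Type u) [CommRing A] [CommRing B] [Algebra A B]
    [Module.Flat A B] [Algebra.FinitePresentation A B] (h : (irreducibleComponents (PrimeSpectrum A)).Finite) :
    (irreducibleComponents (PrimeSpectrum B)).Finite := by
  rw [← Set.finite_coe_iff] at h ⊢
  have : Finite (minimalPrimes A) := Finite.of_equiv _ (minimalPrimes.equivIrreducibleComponents A).toEquiv.symm
  suffices (minimalPrimes B).Finite by
    have := this.to_subtype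
    exact Finite.of_equiv _ (minimalPrimes.equivIrreducibleComponents B).toEquiv
  have hA : (minimalPrimes A).Finite := Set.toFinite _
  refine (hA.biUnion (t := fun p => {P ∈ minimalPrimes B | P.comap (algebraMap A B) = p}) fun p hp => ?_).subset ?_
  · have := hp.1.1
    let x : PrimeSpectrum A := ⟨p, hp.1.1⟩
    have : Algebra.FiniteType A B := inferInstance
    have : IsNoetherianRing (p.Fiber B) := Algebra.FiniteType.isNoetherianRing p.ResidueField _
    have hmin : (minimalPrimes (p.Fiber B)).Finite := minimalPrimes.finite_of_isNoetherianRing _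
    let e := PrimeSpectrum.preimageOrderIsoFiber A B x
    refine (hmin.subset (s := minimalPrimes (p.Fiber B)) le_rfl |>.preimage (f := PrimeSpectrum.asIdeal)
      (fun a _ b _ hab => PrimeSpectrum.ext hab) |>.image fun Q => (e.symm Q).1.asIdeal).subset ?_
    rintro P ⟨hP, hPp⟩
    have := hP.1.1
    let Pp : PrimeSpectrum.comap (algebraMap A B) ⁻¹' {x} := ⟨⟨P, hP.1.1⟩, PrimeSpectrum.ext hPp⟩
    refine ⟨e Pp, ⟨⟨(e Pp).2, bot_le⟩, fun Q hQ hle => ?_⟩, by simp [Pp]⟩
    let Qp : PrimeSpectrum (p.Fiber B) := ⟨Q, hQ.1⟩
    have h1 : (e.symm Qp).1 ≤ Pp.1 := (e.symm_apply_le).2 hle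
    have h2 : e.symm Qp = Pp := Subtype.ext (PrimeSpectrum.ext (le_antisymm h1 (hP.2 ⟨(e.symm Qp).1.2, bot_le⟩ h1)))
    rw [← h2, e.apply_symm_apply]
  · intro P hP
    have := hP.1.1
    refine Set.mem_biUnion (x := P.comap (algebraMap A B)) ⟨⟨inferInstance, bot_le⟩, fun q hq hle => ?_⟩ ⟨hP, rfl⟩
    have := hq.1
    rcases hle.eq_or_lt with he | hlt
    · exact he.ge
    · obtain ⟨Q, hQle, hQ, hQq⟩ := Ideal.exists_ideal_lt_liesOver_of_lt (S := B) (p := q) (q := P.comap (algebraMap A B)) P hlt
      exact absurd (hP.2 ⟨hQ, bot_le⟩ hQle.le) hQle.not_ge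

end Groth.Agent.S1148
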