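import Groth.Statements.S11482
import Groth.Agent.Curves1.RankTwo

set_option autoImplicit false
universe u
open CategoryTheory CategoryTheory.Limits AlgebraicGeometry
open Curves

namespace Groth.Agent.S11482

/-- Fix an algebraically closed field k and a nonsingular projective curve X over k of genus g (smooth,
proper, integral, of dimension one, g = dim H¹(X, O_X)) and E a locally free sheaf of rank 2 and
degree d (degree = χ(E) − 2χ(O_X)) that is indecomposable: in any decomposition E ≅ E₁ ⊕ E₂ one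
summand is zero. Then (a) every invertible subsheaf L ⊆ E has 2·deg L ≤ d + 2g − 2, and (b) there is
an invertible subsheaf L ⊆ E with d − 2g ≤ 2·deg L. (The published statement is that indecomposable
bundles of fixed rank and degree form a bounded family; this row states, in rank two, the degree
bounds for invertible subsheaves on which its proof rests.) -/
theorem result (k : Type u) [Field k] [IsAlgClosed k]
    (X : Scheme.{u}) [X.Over (Spec (CommRingCat.of k))] (hX : Curve.IsSmoothProperCurve k X (X ↘ Spec (CommRingCat.of k)))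
    (E : X.Modules) (hE : FlatMod.IsFinLocFreeOfRank 2 E)
    (hind : ∀ (E₁ E₂ : X.Modules), Nonempty (E ≅ E₁ ⊞ E₂) → IsZero E₁ ∨ IsZero E₂) :
    (∀ (L : X.Modules) (ι : L ⟶ E), PicF.IsInvertible L → Mono ι →
        2 * Curv2.deg k X L 1 ≤ Curv2.deg k X E 2 + 2 * (Curv2.genus k X : ℤ) - 2) ∧
      ∃ (L : X.Modules) (ι : L ⟶ E), PicF.IsInvertible L ∧ Mono ι ∧
        Curv2.deg k X E 2 - 2 * (Curv2.genus k X : ℤ) ≤ 2 * Curv2.deg k X L 1 := by
  obtain ⟨_, _, _, hdim⟩ := hX
  have hreg := (Groth.CurveBridge.isRegCurve_of_smooth k X hdim).reg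
  obtain ⟨h, hK, hc, ω, hω⟩ := Groth.Curves1.RankTwo.setup (k := k) hdim hreg
  rw [Groth.VBCurves.dg_eq k hE]
  refine ⟨fun L ι hL hι => ?_, ?_⟩
  · have hL1 := Groth.LocFree.isInvertible_iff_ofRank_one.1 hL
    rw [Groth.VBCurves.dg_eq k hL1]
    refine Groth.Curves1.RankTwo.two_mul_dg_le hc hω hE (fun L₁ L₂ h₁ h₂ => ⟨fun e => ?_⟩) hL1 ι
    rcases hind L₁ L₂ ⟨e⟩ with hz | hz
    · exact Groth.VBCurves.not_isZero_of_rank h₁ one_pos hz
    · exact Groth.VBCurves.not_isZero_of_rank h₂ one_pos hz
  · obtain ⟨L, ι, hL, hι, hd⟩ := Groth.Curves1.RankTwo.exists_big_sub hc hω h hK hE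
    exact ⟨L, ι, Groth.LocFree.isInvertible_iff_ofRank_one.2 hL, hι,
      by rw [Groth.VBCurves.dg_eq k hL]; exact hd⟩

end Groth.Agent.S11482

#print axioms Groth.Agent.S11482.result
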