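import Groth.Statements.S11487
import Groth.Agent.PnHyper.Horrocks

set_option autoImplicit false
universe u
open VBPn

namespace Groth.Agent.S11487

open CategoryTheory CategoryTheory.Limits AlgebraicGeometry Groth.PicAux Groth.PnHyper in
theorem aux (k : Type u) [Field k] (r : ℕ) : ∀ (t : ℕ) (E : (CohB1.ProjSpace (2 + t) k).Modules),
    FlatMod.IsFinLocFreeOfRank r E → ∀ (i : CohB1.ProjSpace 2 k ⟶ CohB1.ProjSpace (2 + t) k), IsClosedImmersion i →
    i ≫ CohB1.ProjSpace.toSpec (2 + t) k = CohB1.ProjSpace.toSpec 2 k →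
    Nonempty ((Scheme.Modules.pullback i).obj (Twist.twistProjSpace (2 + t) k 1) ≅ Twist.twistProjSpace 2 k 1) →
    ∀ a : Fin r → ℤ, Nonempty ((Scheme.Modules.pullback i).obj E ≅ ∐ fun j : Fin r => Twist.twistProjSpace 2 k (a j)) →
    Nonempty (E ≅ ∐ fun j : Fin r => Twist.twistProjSpace (2 + t) k (a j)) := by
  intro t
  induction t with
  | zero =>
    intro E _ i hci _ hO a ⟨e⟩
    haveI := hci
    haveI : IsIso i := Groth.Curves1.RR.isIso_of_isClosedImmersion_projSpace k 2 i
      Groth.Variety2.PSpace.dim_projSpace.ge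
    haveI := Groth.PnHyper.isEquivalence_pullback i
    haveI : PreservesColimitsOfSize.{0, 0} (Scheme.Modules.pullback i) :=
      (Scheme.Modules.pullbackPushforwardAdjunction i).leftAdjoint_preservesColimits
    exact ⟨(Scheme.Modules.pullback i).preimageIso (e ≪≫ (PreservesCoproduct.iso (Scheme.Modules.pullback i)
      (fun j : Fin r => Twist.twistProjSpace (2 + 0) k (a j)) ≪≫
      Sigma.mapIso fun j => (nonempty_pullback_twist i hO (a j)).some).symm)⟩
  | succ t ih =>
    intro E hE i hci hi hO a he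
    haveI := hci
    haveI := Groth.Curves1.RR.isIntegral_projSpace k (2 + t + 1)
    obtain ⟨h, i', hh, hi', hf, hhk, hik, hI, htw, hO'⟩ :=
      exists_factor (m := 2) (N := 2 + t) (by omega) (by omega) i hi hO
    have hR := Groth.LocFree.isFinLocFreeOfRank_pullback h hE
    obtain ⟨eH⟩ := ih _ hR i' hi' hik hO' a
      ⟨((Scheme.Modules.pullbackComp i' h).app E ≪≫ eqToIso (by rw [hf])) ≪≫ he.some⟩
    have hEl := Groth.LocFree.isFinLocFree_of_rank hE
    obtain ⟨m₀, hm₀⟩ := exists_vanish hEl
    have main : ∀ (s : ℕ) (d : ℤ), d ≤ -m₀ + s →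
        Subsingleton (Coh.HH (CohB1.ProjSpace (2 + t + 1) k)
          (CohB1.tensorMod E (Twist.twistProjSpace (2 + t + 1) k d)) 1) := by
      intro s
      induction s with
      | zero =>
        intro d hd
        rw [show d = -(-d) by ring]
        exact hm₀ (-d) (by push_cast at hd; omega) 1 (by omega)
      | succ s ihs =>
        intro d hd
        obtain ⟨S, hS, ⟨e1⟩, ⟨e2⟩, ⟨e3⟩⟩ := exists_twistSeq h hI htw hEl d
        refine Groth.Variety2.Reg.subsingleton_of_iso k e2 (Groth.Variety2.Reg.subsingleton_mid k hS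
          (Groth.Variety2.Reg.subsingleton_of_iso k e1.symm (ihs (d - 1) (by push_cast at hd; omega)))
          (Groth.Variety2.Reg.subsingleton_of_iso k e3.symm ((subsingleton_push_iff h 1 _).2 ?_)))
        exact Groth.Variety2.Reg.subsingleton_of_iso k
          ((DCoh.tensorRightMod (Twist.twistProjSpace (2 + t) k d)).mapIso eH).symm
          (subsingleton_twists a d Nat.one_pos (by omega))
    exact nonempty_iso_of_restriction (by omega) h hI htw hE
      (fun d => main (d + m₀).toNat d (by omega)) a ⟨eH⟩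

open CategoryTheory CategoryTheory.Limits AlgebraicGeometry in
/-- Let k be an algebraically closed field of characteristic zero, n ≥ 2, E a finite locally free
O-module of rank r on P^n_k, and i : P^2_k → P^n_k a closed immersion of k-schemes along which O(1)
pulls back to O(1) (the embedding of a plane). If i^*E ≅ O(a_1) ⊕ ⋯ ⊕ O(a_r) on P^2_k for some
integers a_j, then E ≅ O(b_1) ⊕ ⋯ ⊕ O(b_r) on P^n_k for some integers b_j. The published statement
is an equivalence; this row states the direction from the plane to P^n_k, the converse being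
immediate. -/
theorem result (k : Type u) [Field k] [IsAlgClosed k] [CharZero k]
    (n r : ℕ) (hn : 2 ≤ n) (E : (CohB1.ProjSpace n k).Modules) (hE : FlatMod.IsFinLocFreeOfRank r E)
    (i : CohB1.ProjSpace 2 k ⟶ CohB1.ProjSpace n k) [IsClosedImmersion i]
    (hi : i ≫ CohB1.ProjSpace.toSpec n k = CohB1.ProjSpace.toSpec 2 k)
    (hO : Nonempty ((Scheme.Modules.pullback i).obj (Twist.twistProjSpace n k 1) ≅ Twist.twistProjSpace 2 k 1))
    (hsplit : ∃ a : Fin r → ℤ,
      Nonempty ((Scheme.Modules.pullback i).obj E ≅ ∐ fun j : Fin r => Twist.twistProjSpace 2 k (a j))) :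
    ∃ b : Fin r → ℤ, Nonempty (E ≅ ∐ fun j : Fin r => Twist.twistProjSpace n k (b j)) := by
  obtain ⟨a, ha⟩ := hsplit
  obtain ⟨t, rfl⟩ : ∃ t, n = 2 + t := ⟨n - 2, by omega⟩
  exact ⟨a, aux k r t E hE i inferInstance hi hO a ha⟩

end Groth.Agent.S11487
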