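import Groth.Statements.S1149
import Groth.Agent.Pi1IntHom.Basic

set_option backward.isDefEq.respectTransparency false
set_option backward.defeqAttrib.useBackward true
set_option linter.style.haveILetI false

set_option autoImplicit false
universe u
open Pi1

namespace Groth.Agent.S1149

open AlgebraicGeometry CategoryTheory CategoryTheory.Limits in
/-- Let U and V be finite etale over a scheme X. Then some W finite etale over X has the following
property: for every morphism g : T ⟶ X the X-morphisms T ⟶ W are in bijection with the T-morphisms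
U_T ⟶ V_T between the base changes. (The source's identification is moreover compatible with base
change; only the bijections are asserted here.) -/
theorem result {X : Scheme.{u}} (U V : FEt.Cat X) :
    ∃ W : FEt.Cat X, ∀ (T : Scheme.{u}) (g : T ⟶ X),
      Nonempty ({s : T ⟶ W.left // s ≫ W.hom = g} ≃ ((FEt.restrict g).obj U ⟶ (FEt.restrict g).obj V)) := by
  haveI : IsFinite U.hom := U.prop.1
  haveI : Etale U.hom := U.prop.2
  haveI : IsFinite V.hom := V.prop.1
  haveI : Etale V.hom := V.prop.2
  obtain ⟨M, q, _, ev, H⟩ := Pi1IntHom.exists_isHom U.hom V.hom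
  obtain ⟨hf, he⟩ := H.finite_etale
  refine ⟨MorphismProperty.Over.mk ⊤ q ⟨hf, he⟩, fun T g => ⟨Equiv.ofBijective (fun s => ?_) ⟨?_, ?_⟩⟩⟩
  · exact MorphismProperty.Over.homMk
      (pullback.lift (Pi1IntHom.evAt U.hom q ev s.1 s.2) (pullback.snd U.hom g) (H.evAt_w _ _ q s.1 s.2))
      (pullback.lift_snd _ _ _) trivial
  · intro s s' h
    have h' : pullback.lift (f := V.hom) (g := g) (Pi1IntHom.evAt U.hom q ev s.1 s.2)
          (pullback.snd U.hom g) (H.evAt_w _ _ q s.1 s.2) =
        pullback.lift (Pi1IntHom.evAt U.hom q ev s'.1 s'.2) (pullback.snd U.hom g)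
          (H.evAt_w _ _ q s'.1 s'.2) := congrArg (fun z => z.left) h
    refine Subtype.ext (H.ext g s.1 s'.1 s.2 s'.2 ?_)
    simpa only [pullback.lift_fst] using congrArg (· ≫ pullback.fst V.hom g) h'
  · intro k
    let kl : pullback U.hom g ⟶ pullback V.hom g := k.left
    have hk : kl ≫ pullback.snd V.hom g = pullback.snd U.hom g := MorphismProperty.Over.w k
    obtain ⟨v, hv, hev⟩ := H.exists_lift g (kl ≫ pullback.fst V.hom g) (by
      rw [Category.assoc, pullback.condition, reassoc_of% hk])
    refine ⟨⟨v, hv⟩, MorphismProperty.Over.Hom.ext ?_⟩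
    change pullback.lift _ _ _ = kl
    apply pullback.hom_ext
    · rw [pullback.lift_fst, hev]
    · rw [pullback.lift_snd, hk]

end Groth.Agent.S1149
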