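import Groth.Statements.S11492
import Groth.Agent.PnSplit.GeneralSections
import Groth.Agent.S11505
import Groth.Agent.S10962
import Groth.Agent.Ega2Proj.SpansFinite
-- import your own Groth.Agent.* helpers here

set_option autoImplicit false
universe u
open VBPn

namespace Groth.PnSplit

open CategoryTheory CategoryTheory.Limits AlgebraicGeometry Groth.PicAux in
/-- Untwisting a trivial subbundle. -/
theorem exists_untwist {k : Type u} [Field k] {n q m : ℕ} {E : (CohB1.ProjSpace n k).Modules} {j a : ℤ}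
    (hinv : PicF.IsInvertible (Twist.twistProjSpace n k a))
    {φ : FlatMod.freeMod (CohB1.ProjSpace n k) q ⟶ CohB1.tensorMod E (Twist.twistProjSpace n k j)}
    (hφ : Mono φ) (hF : FlatMod.IsFinLocFreeOfRank m (cokernel φ))
    (he : Nonempty (CohB1.tensorMod (Twist.twistProjSpace n k j) (Twist.twistProjSpace n k a) ≅
      Twist.twistProjSpace n k (j + a))) (hja : j + a = 0) :
    ∃ (b : ℤ) (φ' : (∐ fun _ : Fin q => Twist.twistProjSpace n k b) ⟶ E),
      Mono φ' ∧ FlatMod.IsFinLocFreeOfRank m (cokernel φ') := by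
  let L := Twist.twistProjSpace n k a
  haveI := isEquivalence_tensorRightMod_of_isInvertible hinv
  let F := DCoh.tensorRightMod L
  haveI := hφ
  obtain ⟨l, -⟩ := exists_leftUnitor L
  obtain ⟨as, -⟩ := exists_associator E (Twist.twistProjSpace n k j) L
  obtain ⟨e3⟩ := Groth.PnCoh.nonempty_twist_zero_iso (CohB1.polyGrading n k)
  obtain ⟨e5⟩ := he
  let t : F.obj (CohB1.tensorMod E (Twist.twistProjSpace n k j)) ≅ E :=
    as ≪≫ PicGrp.tensorModIso (Iso.refl E)
      (e5 ≪≫ eqToIso (congrArg (Twist.twistProjSpace n k) hja) ≪≫ e3) ≪≫ SecTwist.unitorR E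
  let s : (∐ fun _ : Fin q => L) ≅ F.obj (FlatMod.freeMod (CohB1.ProjSpace n k) q) :=
    Sigma.mapIso (fun _ => l.symm) ≪≫
      (PreservesCoproduct.iso F fun _ : Fin q => Coh.structureModule (CohB1.ProjSpace n k)).symm
  have hmap : Mono (F.map φ) := Functor.map_mono F φ
  refine ⟨a, s.hom ≫ F.map φ ≫ t.hom, mono_comp _ _, ?_⟩
  refine Groth.LocFree.isFinLocFreeOfRank_of_iso
    (PreservesCokernel.iso F φ ≪≫ (cokernelCompIsIso (F.map φ) t.hom).symm ≪≫
      (cokernelEpiComp s.hom (F.map φ ≫ t.hom)).symm) ?_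
  have h := Groth.LocFree.isFinLocFreeOfRank_tensorMod hF (Groth.LocFree.isInvertible_iff_ofRank_one.1 hinv)
  rwa [mul_one] at h

open CategoryTheory CategoryTheory.Limits AlgebraicGeometry in
theorem exists_spans_tensor {X : Scheme.{u}} {L : X.Modules} (hL : CohB1.IsAmple L) (P : ℕ → X.Modules)
    (e : ∀ j, Nonempty (P j ≅ CohB1.tensorPow L j)) (E : X.Modules) (hE : Coh.IsCoh E) :
    ∃ j, Groth.Ega2Proj.SpansStalks (CohB1.tensorMod E (P j)) := by
  haveI := hE.1
  obtain ⟨j, hj⟩ := Groth.Ega2Proj.exists_spans_twist hL E hE.2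
  obtain ⟨ep⟩ := e j
  exact ⟨j, Groth.Ega2Proj.SpansStalks.of_iso ((DCoh.tensorBi.obj E).mapIso ep.symm) (hj j le_rfl)⟩

open CategoryTheory CategoryTheory.Limits AlgebraicGeometry in
theorem isAmple_one (k : Type u) [Field k] (n : ℕ) :
    CohB1.IsAmple (X := CohB1.ProjSpace n k) (Twist.twistProjSpace n k 1) :=
  Groth.Chow.isAmple_O1 n k

open CategoryTheory CategoryTheory.Limits AlgebraicGeometry in
theorem nonempty_pow (k : Type u) [Field k] (n : ℕ) (j : ℕ) :
    Nonempty (Twist.twistProjSpace n k (j : ℤ) ≅ CohB1.tensorPow (Twist.twistProjSpace n k 1) j) :=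
  Groth.Ega2Proj.nonempty_pow_iso (Groth.PnCoh.irrelevant_le_span_one n k) j

end Groth.PnSplit

namespace Groth.Agent.S11492

open CategoryTheory CategoryTheory.Limits AlgebraicGeometry in
/-- Let k be a characteristic-zero algebraically closed field and E a finite locally free O-module of
rank r > n on P^n_k. Then for some integer a, E sits in a short exact sequence of vector bundles 0 →
O(a)^(r−n) → E → F → 0 with F of rank n: a monomorphism from the direct sum of r − n copies of O(a)
into E whose cokernel is finite locally free of rank n. -/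
theorem result (k : Type u) [Field k] [IsAlgClosed k] [CharZero k]
    (n r : ℕ) (hrn : n < r) (E : (CohB1.ProjSpace n k).Modules) (hE : FlatMod.IsFinLocFreeOfRank r E) :
    ∃ (a : ℤ) (φ : (∐ fun _ : Fin (r - n) => Twist.twistProjSpace n k a) ⟶ E),
      Mono φ ∧ FlatMod.IsFinLocFreeOfRank n (cokernel φ) := by
  haveI := Groth.Agent.S11505.isIntegral_P (n := n) (k := k)
  have hA := Groth.PnSplit.isAmple_one k n
  obtain ⟨j, hsp⟩ := Groth.PnSplit.exists_spans_tensor hA (fun j => Twist.twistProjSpace n k (j : ℤ))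
    (Groth.PnSplit.nonempty_pow k n) E
    (Groth.KTheory.LocFree.isCoh (Groth.LocFree.isFinLocFree_of_rank hE))
  have hinv := Groth.PnCoh.isInvertible_twist n k (j : ℤ)
  have hinv' := Groth.PnCoh.isInvertible_twist n k (-(j : ℤ))
  have hEj : FlatMod.IsFinLocFreeOfRank (r - n + n) (CohB1.tensorMod E (Twist.twistProjSpace n k (j : ℤ))) := by
    have h := Groth.LocFree.isFinLocFreeOfRank_tensorMod hE
      (Groth.LocFree.isInvertible_iff_ofRank_one.1 hinv)
    rwa [mul_one, ← Nat.sub_add_cancel hrn.le] at h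
  have hcoh := Groth.KTheory.LocFree.isCoh (Groth.LocFree.isFinLocFree_of_rank hEj)
  haveI := hcoh.1
  haveI : CompactSpace ↥(CohB1.ProjSpace n k) := hA.2.1
  obtain ⟨N, ψ, hψ⟩ := Groth.Ega2Proj.exists_epi_freeMod_of_spans _ hcoh.2 hsp
  haveI := hψ
  obtain ⟨φ, hmono, hF⟩ := Groth.PnSplit.exists_trivial_subbundle hEj ψ
  exact Groth.PnSplit.exists_untwist hinv' hmono hF
    (Groth.Duality.Pn.nonempty_twist_tensor n k (j : ℤ) (-(j : ℤ))) (by simp)

end Groth.Agent.S11492
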