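import Groth.Statements.S11493
import Groth.Agent.VectorBundles.ExtFree

set_option autoImplicit false
universe u
open CategoryTheory Abelian
open VBPn

namespace Groth.Agent.S11493

/-- Let A be a Noetherian local ring and I an ideal with a free resolution of length 1, 0 → A^p → A^q →
I → 0 (equivalently: a surjection A^q → I with free kernel). Let 0 → A → M → I → 0 be an extension
with class e ∈ Ext^1(I, A). Then M is free if and only if e generates the A-module Ext^1(I, A); the
A-module structure being through End(A) = A, this says every element of Ext^1(I, A) is the composite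
of e with an endomorphism of A. -/
theorem result (A : Type u) [CommRing A] [IsNoetherianRing A] [IsLocalRing A]
    (I : Ideal A)
    (hres : ∃ (q : ℕ) (φ : (Fin q → A) →ₗ[A] ↥I), Function.Surjective φ ∧ Module.Free A ↥(LinearMap.ker φ))
    (S : ShortComplex (ModuleCat.{u} A)) (hS : S.ShortExact)
    (h₁ : Nonempty (S.X₁ ≅ ModuleCat.of A A)) (h₃ : Nonempty (S.X₃ ≅ ModuleCat.of A ↥I)) :
    Module.Free A S.X₂ ↔
      ∀ x : Abelian.Ext S.X₃ S.X₁ 1, ∃ f : S.X₁ ⟶ S.X₁, hS.extClass.comp (Abelian.Ext.mk₀ f) (add_zero 1) = x := by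
  obtain ⟨e₁⟩ := h₁
  obtain ⟨e₃⟩ := h₃
  obtain ⟨q, φ, hφ, hfree⟩ := hres
  have : Module.Free A S.X₁ := Module.Free.of_equiv e₁.toLinearEquiv.symm
  have : Module.Finite A S.X₁ := Module.Finite.equiv e₁.toLinearEquiv.symm
  have : Module.Finite A S.X₃ := Module.Finite.equiv e₃.toLinearEquiv.symm
  have hP₁ : Projective S.X₁ :=
    ModuleCat.projective_of_free (Module.Free.chooseBasis A S.X₁)
  constructor
  · intro hM x
    have : Projective S.X₂ := ModuleCat.projective_of_free (Module.Free.chooseBasis A S.X₂)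
    obtain ⟨y, hy⟩ := Ext.contravariant_sequence_exact₃ hS S.X₁ x
      (Ext.eq_zero_of_hasProjectiveDimensionLT _ 1 le_rfl) (add_zero 1)
    obtain ⟨f, rfl⟩ := Ext.homEquiv₀.symm.surjective y
    exact ⟨f, by simpa using hy⟩
  · intro he
    have : IsNoetherian A S.X₂ :=
      isNoetherian_of_range_eq_ker S.f.hom S.g.hom hS.exact.moduleCat_range_eq_ker
    have : Module.Finite A S.X₂ := inferInstance
    have hK := LinearMap.shortExact_shortComplexKer hφ
    have hK2 : Projective φ.shortComplexKer.X₂ :=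
      ModuleCat.projective_of_free (Pi.basisFun A (Fin q))
    have hK1 : Projective φ.shortComplexKer.X₁ :=
      ModuleCat.projective_of_free (Module.Free.chooseBasis A (LinearMap.ker φ))
    have hI : HasProjectiveDimensionLT φ.shortComplexKer.X₃ 2 :=
      hK.hasProjectiveDimensionLT_X₃ 1 inferInstance inferInstance
    have hX₃ : HasProjectiveDimensionLT S.X₃ 2 :=
      haveI := hI
      hasProjectiveDimensionLT_of_iso e₃.symm 2
    refine Groth.VectorBundles.free_of_hasProjectiveDimensionLT_two S.X₂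
      (hS.hasProjectiveDimensionLT_X₂ 2 inferInstance hX₃) ⟨fun a b => ?_⟩
    suffices key : ∀ x : Ext S.X₂ (ModuleCat.of A A) 1, x = 0 by rw [key a, key b]
    intro x
    have hx : x.comp (Ext.mk₀ e₁.inv) (add_zero 1) = 0 := by
      obtain ⟨x₃, hx₃⟩ := Ext.contravariant_sequence_exact₂ hS _
        (x.comp (Ext.mk₀ e₁.inv) (add_zero 1))
        (Ext.eq_zero_of_hasProjectiveDimensionLT _ 1 le_rfl)
      obtain ⟨f, hf⟩ := he x₃
      rw [← hx₃, ← hf, ← Ext.comp_assoc_of_third_deg_zero, hS.comp_extClass, Ext.zero_comp]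
    calc x = (x.comp (Ext.mk₀ e₁.inv) (add_zero 1)).comp (Ext.mk₀ e₁.hom) (add_zero 1) := by
          rw [Ext.comp_assoc_of_second_deg_zero, Ext.mk₀_comp_mk₀, e₁.inv_hom_id, Ext.comp_mk₀_id]
      _ = 0 := by rw [hx, Ext.zero_comp]

end Groth.Agent.S11493
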