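import Groth.Statements.S11494
import Groth.Agent.JumpLines.Main
import Groth.Agent.PropsBasic2.Reduced
-- import your own Groth.Agent.* helpers here

set_option autoImplicit false
set_option backward.isDefEq.respectTransparency.types false
universe u
open VBPn

namespace Groth.Agent.S11494

open CategoryTheory CategoryTheory.Limits AlgebraicGeometry in
/-- Let k be an algebraically closed field of characteristic zero and x_1, …, x_m pairwise distinct
closed points of P^2_k. There is a rank-2 vector bundle E on P^2_k whose restriction to any line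
containing exactly a of the points x_j splits as O(a) ⊕ O(−a): for every closed immersion of
k-schemes i : P^1_k → P^2_k along which O(1) pulls back to O(1), with a the number of indices j such
that x_j lies in the image of i, one has i^*E ≅ O(a) ⊕ O(−a). (In particular the generic splitting
type, on lines through none of the points, is (0, 0).) -/
theorem result (k : Type u) [Field k] [IsAlgClosed k] [CharZero k]
    (m : ℕ) (x : Fin m → ↥(CohB1.ProjSpace 2 k)) (hx : Function.Injective x)
    (hcl : ∀ j, IsClosed ({x j} : Set ↥(CohB1.ProjSpace 2 k))) :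
    ∃ E : (CohB1.ProjSpace 2 k).Modules, FlatMod.IsFinLocFreeOfRank 2 E ∧
      ∀ (i : CohB1.ProjSpace 1 k ⟶ CohB1.ProjSpace 2 k) [IsClosedImmersion i],
        i ≫ CohB1.ProjSpace.toSpec 2 k = CohB1.ProjSpace.toSpec 1 k →
        Nonempty ((Scheme.Modules.pullback i).obj (Twist.twistProjSpace 2 k 1) ≅ Twist.twistProjSpace 1 k 1) →
        Nonempty ((Scheme.Modules.pullback i).obj E ≅
          Twist.twistProjSpace 1 k (Nat.card {j : Fin m // x j ∈ Set.range i.base} : ℤ) ⊞
            Twist.twistProjSpace 1 k (-(Nat.card {j : Fin m // x j ∈ Set.range i.base} : ℤ))) := by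
  have hZ : IsClosed (Set.range x) := by
    rw [← Set.iUnion_singleton_eq_range]
    exact isClosed_iUnion_of_finite hcl
  let C : TopologicalSpace.Closeds (CohB1.ProjSpace 2 k) := ⟨Set.range x, hZ⟩
  let ι := (Scheme.IdealSheafData.vanishingIdeal C).subschemeι
  have hr : Set.range ι.base = Set.range x := Groth.PropsBasic2.range_vanishingIdeal_subschemeι C
  haveI : IsReduced (Scheme.IdealSheafData.vanishingIdeal C).subscheme :=
    Groth.PropsBasic2.isReduced_vanishingIdeal_subscheme C
  haveI : Finite (Scheme.IdealSheafData.vanishingIdeal C).subscheme :=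
    Finite.of_injective (fun y => (⟨ι y, hr.le ⟨y, rfl⟩⟩ : Set.range x))
      fun a b h => ι.isClosedEmbedding.injective (congrArg Subtype.val h)
  obtain ⟨S, hS, h2, hd, ⟨e3⟩⟩ := Groth.JumpLines.exists_planeBundle ι
  refine ⟨S.X₂, h2, fun i _ _ _ => ?_⟩
  obtain ⟨e⟩ := Groth.JumpLines.nonempty_restrict ι S hS h2 hd e3 i
  let E : (Scheme.IdealSheafData.vanishingIdeal C).subscheme ≃ Fin m :=
    (Equiv.ofInjective _ ι.isClosedEmbedding.injective).trans
      ((Equiv.setCongr hr).trans (Equiv.ofInjective x hx).symm)
  have hE : ∀ y, x (E y) = ι y := fun y => Equiv.apply_ofInjective_symm hx _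
  have hc : Nat.card {y // ι y ∈ Set.range i.base} = Nat.card {j : Fin m // x j ∈ Set.range i.base} :=
    Nat.card_congr (E.subtypeEquiv fun y => by rw [hE])
  rw [← hc]
  exact ⟨e⟩

end Groth.Agent.S11494
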