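import Groth.Statements.S11495
import Groth.Agent.VectorBundles.ExtFree
import Groth.Agent.Ega4Algebra1.RegularLocal

set_option autoImplicit false
universe u
open CategoryTheory Abelian
open VBPn

namespace Groth.Agent.S11495

/-- Let A be a regular local ring and M a finitely generated A-module. For every q ≥ 0, the projective
(homological) dimension of M is at most q if and only if Ext^i_A(M, A) = 0 for all i > q. The
published statement is for stalks of coherent analytic sheaves on a complex manifold; this row is
stated for any regular local ring. -/
theorem result (A : Type u) [CommRing A] [IsRegularLocalRing A]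
    (M : Type u) [AddCommGroup M] [Module A M] [Module.Finite A M] (q : ℕ) :
    HasProjectiveDimensionLT (ModuleCat.of A M) (q + 1) ↔
      ∀ i : ℕ, q < i → Subsingleton (Abelian.Ext (ModuleCat.of A M) (ModuleCat.of A A) i) := by
  refine ⟨fun h i hi => h.subsingleton _ (q + 1) i hi _, fun h => ?_⟩
  have h0 : HasProjectiveDimensionLT (ModuleCat.of A M)
      ((IsLocalRing.maximalIdeal A).spanFinrank + 1) :=
    Groth.Ega4Algebra1.pdLT_of_isRegularLocalRing A _ rfl M
  generalize (IsLocalRing.maximalIdeal A).spanFinrank = n at h0
  induction n with
  | zero => exact hasProjectiveDimensionLT_of_ge _ 1 (q + 1) (by omega)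
  | succ n ih =>
    rcases Nat.lt_or_ge q (n + 1) with hq | hq
    · exact ih (Groth.VectorBundles.hasProjectiveDimensionLT_of_subsingleton_ext _ n h0
        (h (n + 1) hq))
    · exact hasProjectiveDimensionLT_of_ge _ (n + 1 + 1) (q + 1) (by omega)

end Groth.Agent.S11495
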