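import Groth.Statements.S11496
import Groth.Agent.Ega4Algebra1.RegularLocal
import Groth.Agent.Ega4Algebra1.CatenaryDim

set_option autoImplicit false
universe u
open CategoryTheory
open VBPn

namespace Groth.Agent.S11496

/-- Let A be a regular local ring, M a finitely generated A-module and i ≥ 0. The support of Ext^i_A(M,
A) has dimension at most dim A − i: for every prime ideal p of A such that Ext^i over the
localization A_p of M_p into A_p is nonzero (this Ext group is the localization at p of Ext^i_A(M,
A)), one has dim(A/p) + i ≤ dim A. The published statement is for coherent analytic sheaves on an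
n-dimensional complex manifold; this row is stated for any regular local ring. -/
theorem result (A : Type u) [CommRing A] [IsRegularLocalRing A]
    (M : Type u) [AddCommGroup M] [Module A M] [Module.Finite A M] (i : ℕ) (p : Ideal A) [p.IsPrime]
    (h : Nontrivial (Abelian.Ext
      (ModuleCat.of (Localization.AtPrime p) (LocalizedModule p.primeCompl M))
      (ModuleCat.of (Localization.AtPrime p) (Localization.AtPrime p)) i)) :
    ringKrullDim (A ⧸ p) + (i : WithBot ℕ∞) ≤ ringKrullDim A := by
  have hAp : IsRegularLocalRing (Localization.AtPrime p) :=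
    Groth.Ega4Algebra1.isRegularLocalRing_localization_atPrime A p
  have : Module.Finite (Localization.AtPrime p) (LocalizedModule p.primeCompl M) :=
    Module.Finite.of_isLocalizedModule p.primeCompl (LocalizedModule.mkLinearMap p.primeCompl M)
  have hpd : HasProjectiveDimensionLT
      (ModuleCat.of (Localization.AtPrime p) (LocalizedModule p.primeCompl M)) _ :=
    Groth.Ega4Algebra1.pdLT_of_isRegularLocalRing (Localization.AtPrime p) _ rfl
      (LocalizedModule p.primeCompl M)
  have hi : i ≤ (IsLocalRing.maximalIdeal (Localization.AtPrime p)).spanFinrank := by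
    by_contra hc
    exact not_subsingleton_iff_nontrivial.2 h (hpd.subsingleton _ _ i (by omega) _)
  have h1 := hAp.spanFinrank_maximalIdeal
  rw [IsLocalization.AtPrime.ringKrullDim_eq_height p (Localization.AtPrime p)] at h1
  have h2 : ((IsLocalRing.maximalIdeal (Localization.AtPrime p)).spanFinrank : ℕ∞) =
      Order.height (⟨p, inferInstance⟩ : PrimeSpectrum A) := by
    rw [← PrimeSpectrum.height_eq_orderHeight]
    exact_mod_cast h1
  have h3 : (i : ℕ∞) ≤ Order.height (⟨p, inferInstance⟩ : PrimeSpectrum A) :=
    h2 ▸ by exact_mod_cast hi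
  rw [show ringKrullDim (A ⧸ p) = _ from
    Groth.Ega4Algebra1.ringKrullDim_quotient_eq_coheight A ⟨p, inferInstance⟩]
  show ((Order.coheight (⟨p, inferInstance⟩ : PrimeSpectrum A) : ℕ∞) : WithBot ℕ∞) +
    ((i : ℕ∞) : WithBot ℕ∞) ≤ Order.krullDim (PrimeSpectrum A)
  rw [← WithBot.coe_add, add_comm, Order.krullDim_eq_iSup_height_add_coheight_of_nonempty,
    WithBot.coe_le_coe]
  exact le_trans (by gcongr) (le_iSup (fun q : PrimeSpectrum A =>
    Order.height q + Order.coheight q) ⟨p, inferInstance⟩)

end Groth.Agent.S11496
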