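import Groth.Statements.S11497
import Mathlib.Algebra.Homology.DerivedCategory.Ext.ExactSequences

set_option autoImplicit false
universe w v u
open CategoryTheory
open VBPn

namespace Groth.Agent.S11497

open CategoryTheory Limits

theorem exists_extension {C : Type u} [Category.{v} C] [Abelian C] [HasExt.{w} C]
    {S : ShortComplex C} (hS : S.ShortExact) (Y : C) (h₃ : Subsingleton (Abelian.Ext S.X₃ Y 1))
    (h : S.X₁ ⟶ Y) : ∃ k : S.X₂ ⟶ Y, S.f ≫ k = h := by
  obtain ⟨x, hx⟩ := Abelian.Ext.contravariant_sequence_exact₁ hS Y (Abelian.Ext.mk₀ h)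
    (n₁ := 1) rfl (Subsingleton.elim _ _)
  obtain ⟨k, rfl⟩ := Abelian.Ext.addEquiv₀.symm.surjective x
  refine ⟨k, (Abelian.Ext.mk₀_bijective _ _).1 ?_⟩
  rw [← hx]
  simp

theorem exists_lifting {C : Type u} [Category.{v} C] [Abelian C] [HasExt.{w} C]
    {S : ShortComplex C} (hS : S.ShortExact) (X : C) (h₁ : Subsingleton (Abelian.Ext X S.X₁ 1))
    (h : X ⟶ S.X₃) : ∃ k : X ⟶ S.X₂, k ≫ S.g = h := by
  obtain ⟨x, hx⟩ := Abelian.Ext.covariant_sequence_exact₃ (X := X) hS (Abelian.Ext.mk₀ h)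
    (n₁ := 1) rfl (Subsingleton.elim _ _)
  obtain ⟨k, rfl⟩ := Abelian.Ext.addEquiv₀.symm.surjective x
  refine ⟨k, (Abelian.Ext.mk₀_bijective _ _).1 ?_⟩
  rw [← hx]
  simp

/-- In an abelian category, let M : A → B → C and M' : A' → B' → C' be monads, i.e. short complexes
whose first map is a monomorphism and whose second map is an epimorphism, with cohomology (homology)
objects E and E'. Suppose Hom(B, A') = 0, Hom(C, B') = 0 and Ext^1(C, A') = Ext^1(B, A') = Ext^1(C,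
B') = Ext^2(C, A') = 0. Then the map sending a morphism of monads M → M' to the induced morphism E →
E' is bijective. The published statement is for monads of vector bundles on a complex manifold X,
with Ext^i(C, A') written H^i(X, C^* ⊗ A'); this row is stated in any abelian category. -/
theorem result {C : Type u} [Category.{v} C] [Abelian C] [HasExt.{w} C]
    (M M' : ShortComplex C) [Mono M.f] [Epi M.g] [Mono M'.f] [Epi M'.g]
    (hBA : ∀ f : M.X₂ ⟶ M'.X₁, f = 0) (hCB : ∀ f : M.X₃ ⟶ M'.X₂, f = 0)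
    (hCA₁ : Subsingleton (Abelian.Ext M.X₃ M'.X₁ 1)) (hBA₁ : Subsingleton (Abelian.Ext M.X₂ M'.X₁ 1))
    (hCB₁ : Subsingleton (Abelian.Ext M.X₃ M'.X₂ 1)) (hCA₂ : Subsingleton (Abelian.Ext M.X₃ M'.X₁ 2)) :
    Function.Bijective (fun φ : M ⟶ M' => ShortComplex.homologyMap φ) := by
  have hS₀ : (ShortComplex.mk M.iCycles M.g M.iCycles_g).ShortExact :=
    ShortComplex.ShortExact.mk' (ShortComplex.exact_of_f_is_kernel _ M.cyclesIsKernel)
      inferInstance inferInstance
  have hmt : Mono M'.toCycles := mono_of_mono_fac M'.toCycles_i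
  have hS₁ : (ShortComplex.mk M'.toCycles M'.homologyπ M'.toCycles_comp_homologyπ).ShortExact :=
    ShortComplex.ShortExact.mk' (ShortComplex.exact_of_g_is_cokernel _ M'.homologyIsCokernel)
      hmt inferInstance
  constructor
  · intro φ ψ hφψ
    have hd : ShortComplex.homologyMap (φ - ψ) = 0 := by
      rw [ShortComplex.homologyMap_sub]
      exact sub_eq_zero.2 hφψ
    obtain ⟨d, rfl⟩ : ∃ d, φ = ψ + d := ⟨φ - ψ, by abel⟩
    rw [add_sub_cancel_left] at hd
    suffices d = 0 by rw [this, add_zero]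
    have hc : ShortComplex.cyclesMap d ≫ M'.homologyπ = 0 := by
      rw [← ShortComplex.homologyπ_naturality, hd, comp_zero]
    have : Mono (ShortComplex.mk M'.toCycles M'.homologyπ M'.toCycles_comp_homologyπ).f := hmt
    obtain ⟨h, hh⟩ : ∃ h, h ≫ _ = _ := ⟨hS₁.exact.lift (ShortComplex.cyclesMap d) hc,
      hS₁.exact.lift_f (ShortComplex.cyclesMap d) hc⟩
    change h ≫ M'.toCycles = _ at hh
    obtain ⟨k, hk⟩ := exists_extension hS₀ M'.X₁ hCA₁ h
    rw [hBA k, comp_zero] at hk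
    rw [← hk, zero_comp] at hh
    have h2 : M.iCycles ≫ d.τ₂ = 0 := by
      rw [← ShortComplex.cyclesMap_i, ← hh, zero_comp]
    have : Epi (ShortComplex.mk M.iCycles M.g M.iCycles_g).g := ‹Epi M.g›
    have hd₂ : d.τ₂ = 0 := by
      have := hS₀.exact.g_desc d.τ₂ h2
      rw [hCB (hS₀.exact.desc d.τ₂ h2)] at this
      rw [← this]
      exact comp_zero
    ext
    · rw [← cancel_mono M'.f, d.comm₁₂, hd₂]; simp
    · simpa using hd₂
    · rw [← cancel_epi M.g, ← d.comm₂₃, hd₂]; simp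
  · intro e
    have hK : Subsingleton (Abelian.Ext M.cycles M'.X₁ 1) := by
      refine ⟨fun x y => ?_⟩
      have hz : ∀ z : Abelian.Ext M.cycles M'.X₁ 1, z = 0 := fun z => by
        obtain ⟨z₂, hz₂⟩ := Abelian.Ext.contravariant_sequence_exact₁ hS₀ M'.X₁ z (n₁ := 2) rfl
          (hCA₂.elim _ _)
        rw [← hz₂, hBA₁.elim z₂ 0, Abelian.Ext.comp_zero]
      rw [hz x, hz y]
    obtain ⟨h, hh⟩ := exists_lifting hS₁ M.cycles hK (M.homologyπ ≫ e)
    change h ≫ M'.homologyπ = _ at hh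
    obtain ⟨t₂, ht₂⟩ := exists_extension hS₀ M'.X₂ hCB₁ (h ≫ M'.iCycles)
    change M.iCycles ≫ t₂ = _ at ht₂
    have hz : M.f ≫ t₂ = (M.toCycles ≫ h) ≫ M'.iCycles := by
      rw [← M.toCycles_i, Category.assoc, ht₂, Category.assoc]
    have : Mono (ShortComplex.mk M'.toCycles M'.homologyπ M'.toCycles_comp_homologyπ).f := hmt
    have hz₁ : (M.toCycles ≫ h) ≫ M'.homologyπ = 0 := by
      rw [Category.assoc, hh, ← Category.assoc, M.toCycles_comp_homologyπ, zero_comp]
    obtain ⟨t₁, ht₁⟩ : ∃ t, t ≫ _ = _ := ⟨hS₁.exact.lift (M.toCycles ≫ h) hz₁, hS₁.exact.lift_f (M.toCycles ≫ h) hz₁⟩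
    change t₁ ≫ M'.toCycles = _ at ht₁
    have : Epi (ShortComplex.mk M.iCycles M.g M.iCycles_g).g := ‹Epi M.g›
    have hz₃ : M.iCycles ≫ t₂ ≫ M'.g = 0 := by
      rw [← Category.assoc, ht₂, Category.assoc, M'.iCycles_g, comp_zero]
    obtain ⟨t₃, ht₃⟩ : ∃ t, _ ≫ t = _ := ⟨hS₀.exact.desc (t₂ ≫ M'.g) hz₃, hS₀.exact.g_desc (t₂ ≫ M'.g) hz₃⟩
    change M.g ≫ t₃ = _ at ht₃
    refine ⟨ShortComplex.homMk t₁ t₂ t₃ ?_ ht₃.symm, ?_⟩
    · rw [← M'.toCycles_i, ← Category.assoc, ht₁, hz]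
    · change ShortComplex.homologyMap _ = e
      rw [← cancel_epi M.homologyπ, ShortComplex.homologyπ_naturality, ← hh]
      congr 1
      rw [← cancel_mono M'.iCycles, ShortComplex.cyclesMap_i]
      exact ht₂

end Groth.Agent.S11497
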