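import Groth.Statements.S11498
import Groth.Agent.PnHyper.Vanish
import Groth.Agent.S11510
import Groth.Agent.SerreH0.Basic

set_option autoImplicit false
universe u
open VBPn

namespace Groth.Agent.S11498

open CategoryTheory CategoryTheory.Limits AlgebraicGeometry Groth.PicAux Groth.PnHyper in
theorem aux (k : Type u) [Field k] : ∀ (n : ℕ) (E : (CohB1.ProjSpace n k).Modules),
    FlatMod.IsFinLocFree E → ∀ (i : CohB1.ProjSpace 1 k ⟶ CohB1.ProjSpace n k), IsClosedImmersion i →
    i ≫ CohB1.ProjSpace.toSpec n k = CohB1.ProjSpace.toSpec 1 k →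
    Nonempty ((Scheme.Modules.pullback i).obj (Twist.twistProjSpace n k 1) ≅ Twist.twistProjSpace 1 k 1) →
    (∀ d : ℤ, 1 ≤ d → Subsingleton (Coh.HH (CohB1.ProjSpace 1 k)
      (CohB1.tensorMod ((Scheme.Modules.pullback i).obj E) (Twist.twistProjSpace 1 k (-d))) 0)) →
    ∀ d : ℤ, 1 ≤ d →
      Subsingleton (Coh.HH (CohB1.ProjSpace n k) (CohB1.tensorMod E (Twist.twistProjSpace n k (-d))) 0) := by
  intro n
  induction n with
  | zero => intro E _ i hci; exact absurd hci (not_isClosedImmersion_to_point le_rfl i)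
  | succ N ih =>
    intro E hE i hci hi hO hline d hd
    haveI := hci
    haveI := Groth.Curves1.RR.isIntegral_projSpace k (N + 1)
    rcases Nat.eq_zero_or_pos N with rfl | hN
    · haveI : IsIso i := Groth.Curves1.RR.isIso_of_isClosedImmersion_projSpace k 1 i
        Groth.Variety2.PSpace.dim_projSpace.ge
      obtain ⟨e⟩ := nonempty_pullback_twist i hO (-d)
      obtain ⟨ep, -⟩ := exists_pullback_tensorMod i E (Twist.twistProjSpace (0 + 1) k (-d))
      haveI := isEquivalence_pullback i
      let A := Scheme.Modules.pullbackPushforwardAdjunction i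
      haveI := A.isEquivalence_right_of_isEquivalence_left
      refine Groth.Variety2.Reg.subsingleton_of_iso k ((Scheme.Modules.pushforward i).mapIso
        (ep ≪≫ PicGrp.tensorModIso (Iso.refl _) e).symm ≪≫ (asIso (A.unit.app _)).symm) ?_
      exact (subsingleton_push_iff i 0 _).2 (hline d hd)
    obtain ⟨h, i', hh, hi', hf, hhk, hik, hI, htw, hO'⟩ := exists_factor le_rfl hN i hi hO
    have hH : ∀ b : ℤ, 1 ≤ b → Subsingleton (Coh.HH (CohB1.ProjSpace N k) (CohB1.tensorMod
        ((Scheme.Modules.pullback h).obj E) (Twist.twistProjSpace N k (-b))) 0) :=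
      ih _ (Groth.LocFree.isFinLocFree_pullback h hE) i' hi' hik hO' fun b hb =>
        Groth.Variety2.Reg.subsingleton_of_iso k (PicGrp.tensorModIso (((Scheme.Modules.pullbackComp i' h).app E ≪≫
          eqToIso (by rw [hf])).symm) (Iso.refl _)) (hline b hb)
    obtain ⟨m₀, hm₀⟩ := exists_vanish hE
    have step : ∀ b : ℤ, 1 ≤ b →
        Subsingleton (Coh.HH (CohB1.ProjSpace (N + 1) k) (CohB1.tensorMod E (Twist.twistProjSpace (N + 1) k (-b - 1))) 0) →
        Subsingleton (Coh.HH (CohB1.ProjSpace (N + 1) k) (CohB1.tensorMod E (Twist.twistProjSpace (N + 1) k (-b))) 0) := by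
      intro b hb h1
      obtain ⟨S, hS, ⟨e1⟩, ⟨e2⟩, ⟨e3⟩⟩ := exists_twistSeq h hI htw hE (-b)
      refine Groth.Variety2.Reg.subsingleton_of_iso k e2 (Groth.Variety2.Reg.subsingleton_mid k hS
        (Groth.Variety2.Reg.subsingleton_of_iso k e1.symm h1)
        (Groth.Variety2.Reg.subsingleton_of_iso k e3.symm ((subsingleton_push_iff h 0 _).2 (hH b hb))))
    have main : ∀ t : ℕ, ∀ b : ℤ, 1 ≤ b → max m₀ 1 ≤ b + t →
        Subsingleton (Coh.HH (CohB1.ProjSpace (N + 1) k) (CohB1.tensorMod E (Twist.twistProjSpace (N + 1) k (-b))) 0) := by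
      intro t
      induction t with
      | zero => intro b _ hb; exact hm₀ b ((le_max_left _ _).trans (by simpa using hb)) 0 (Nat.succ_pos N)
      | succ t iht =>
        intro b hb hbt
        refine step b hb ?_
        rw [show -b - 1 = -(b + 1) by ring]
        exact iht (b + 1) (by omega) (by push_cast at hbt; omega)
    exact main ((max m₀ 1).toNat) d hd (by omega)

open CategoryTheory CategoryTheory.Limits AlgebraicGeometry in
/-- Let k be a characteristic-zero algebraically closed field and E a rank-2 vector bundle (finite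
locally free O-module of rank 2) on P^n_k which is trivial on some line, i.e. i^*E ≅ O ⊕ O for some
closed immersion of k-schemes i : P^1_k → P^n_k along which O(1) pulls back to O(1). Then H^0(P^n_k,
E ⊗ O(−d)) = 0 for all d ≥ 1. The published statement assumes generic splitting type (0, 0) and
concludes semistability; this row assumes triviality on one line and concludes the vanishing of
H^0(E(−d)) for d ≥ 1, which for rank 2 with c_1 = 0 is semistability and is what the published proof
obtains from one such line. -/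
theorem result (k : Type u) [Field k] [IsAlgClosed k] [CharZero k]
    (n : ℕ) (E : (CohB1.ProjSpace n k).Modules) (hE : FlatMod.IsFinLocFreeOfRank 2 E)
    (i : CohB1.ProjSpace 1 k ⟶ CohB1.ProjSpace n k) [IsClosedImmersion i]
    (hi : i ≫ CohB1.ProjSpace.toSpec n k = CohB1.ProjSpace.toSpec 1 k)
    (hO : Nonempty ((Scheme.Modules.pullback i).obj (Twist.twistProjSpace n k 1) ≅ Twist.twistProjSpace 1 k 1))
    (htriv : Nonempty ((Scheme.Modules.pullback i).obj E ≅ FlatMod.freeMod (CohB1.ProjSpace 1 k) 2))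
    (d : ℤ) (hd : 1 ≤ d) :
    Subsingleton (Coh.HH (CohB1.ProjSpace n k) (CohB1.tensorMod E (Twist.twistProjSpace n k (-d))) 0) := by
  refine aux k n E (Groth.LocFree.isFinLocFree_of_rank hE) i inferInstance hi hO (fun b hb => ?_) d hd
  obtain ⟨e⟩ := htriv
  let F := (DCoh.tensorRightMod (Twist.twistProjSpace 1 k (-b)))
  haveI : F.IsEquivalence :=
    Groth.PicAux.isEquivalence_tensorRightMod_of_isInvertible (Groth.PnCoh.isInvertible_twist 1 k (-b))
  obtain ⟨l, -⟩ := Groth.PicAux.exists_leftUnitor (Twist.twistProjSpace 1 k (-b))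
  have h0 : ∀ σ : Coh.structureModule (CohB1.ProjSpace 1 k) ⟶ Twist.twistProjSpace 1 k (-b), σ = 0 :=
    Groth.Agent.S11510.hom_twist_eq_zero le_rfl (by omega)
  let T : CohB1.tensorMod ((Scheme.Modules.pullback i).obj E) (Twist.twistProjSpace 1 k (-b)) ≅
      ∐ fun _ : Fin 2 => Twist.twistProjSpace 1 k (-b) :=
    F.mapIso e ≪≫ PreservesCoproduct.iso F (fun _ : Fin 2 => Coh.structureModule (CohB1.ProjSpace 1 k)) ≪≫
      Sigma.mapIso fun _ => l
  by_contra hne
  obtain ⟨σ, hσ⟩ := (Groth.SerreH0.sections_ne_zero_iff _).1 hne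
  haveI : HasFiniteBiproducts (CohB1.ProjSpace 1 k).Modules := HasFiniteBiproducts.of_hasFiniteProducts
  let f : Fin 2 → (CohB1.ProjSpace 1 k).Modules := fun _ => Twist.twistProjSpace 1 k (-b)
  refine hσ ((cancel_mono T.hom).1 ((cancel_mono (biproduct.isoCoproduct f).inv).1 ?_))
  simp only [zero_comp]
  exact biproduct.hom_ext (f := f) _ _ fun j => ((h0 _).trans zero_comp.symm)

end Groth.Agent.S11498
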