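import Groth.Statements.S11499
import Mathlib.RingTheory.Localization.BaseChange
import Mathlib.LinearAlgebra.Dimension.Free
import Mathlib.RingTheory.Localization.Finiteness
import Mathlib.RingTheory.TensorProduct.Finite
import Mathlib.LinearAlgebra.Basis.VectorSpace

set_option autoImplicit false
universe u
open TensorProduct
open VBPn

namespace Groth.Agent.S11499

/-- Let A be an integral domain with fraction field K and M a finitely generated torsion-free A-module
of rank r (K ⊗_A M is r-dimensional over K). Then there is an injective A-linear map M → A^r. The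
published statement is for torsion-free coherent sheaves on a complex manifold, locally near a
point; this row is its statement for one stalk, over any domain. -/
theorem result (A : Type u) [CommRing A] [IsDomain A]
    (M : Type u) [AddCommGroup M] [Module A M] [Module.Finite A M] [NoZeroSMulDivisors A M] (r : ℕ)
    (hr : Module.finrank (FractionRing A) (FractionRing A ⊗[A] M) = r) :
    ∃ f : M →ₗ[A] (Fin r → A), Function.Injective f := by
  classical
  let g : M →ₗ[A] (FractionRing A ⊗[A] M) := TensorProduct.mk A (FractionRing A) M 1
  have : IsLocalizedModule (nonZeroDivisors A) g :=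
    IsLocalization.tensorProduct_isLocalizedModule (nonZeroDivisors A) (FractionRing A)
  have hginj : Function.Injective g := by
    rw [← LinearMap.ker_eq_bot, eq_bot_iff]
    intro m hm
    obtain ⟨s, hs⟩ := (IsLocalizedModule.eq_zero_iff (nonZeroDivisors A) g).1 (LinearMap.mem_ker.1 hm)
    rw [Submonoid.smul_def, smul_eq_zero] at hs
    exact hs.resolve_left (nonZeroDivisors.coe_ne_zero s)
  let B := Module.finBasisOfFinrankEq (FractionRing A) (FractionRing A ⊗[A] M) hr
  let φ : M →ₗ[A] (Fin r → FractionRing A) :=
    (B.equivFun.toLinearMap.restrictScalars A).comp g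
  have hφ : Function.Injective φ := B.equivFun.injective.comp hginj
  let ι : (Fin r → A) →ₗ[A] (Fin r → FractionRing A) :=
    LinearMap.pi fun i => (Algebra.linearMap A (FractionRing A)).comp (LinearMap.proj i)
  have hι : Function.Injective ι := by
    intro x y h
    funext i
    exact IsFractionRing.injective A (FractionRing A) (congrFun h i)
  obtain ⟨G, hG⟩ := Module.Finite.fg_top (R := A) (M := M)
  obtain ⟨b, hb⟩ := IsLocalization.exist_integer_multiples_of_finset (nonZeroDivisors A)
    ((G ×ˢ (Finset.univ : Finset (Fin r))).image fun p => φ p.1 p.2)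
  have hmem : ∀ m : M, (b : A) • φ m ∈ LinearMap.range ι := by
    intro m
    have hle : (⊤ : Submodule A M) ≤ (LinearMap.range ι).comap ((b : A) • φ) := by
      rw [← hG, Submodule.span_le]
      intro x hx
      have : ∀ i : Fin r, ∃ a : A, algebraMap A (FractionRing A) a = (b : A) • φ x i := fun i =>
        hb _ (Finset.mem_image.2 ⟨(x, i), Finset.mem_product.2 ⟨hx, Finset.mem_univ i⟩, rfl⟩)
      choose a ha using this
      exact ⟨a, funext fun i => by simpa [ι] using ha i⟩
    exact hle (Submodule.mem_top (x := m))
  let ψ : M →ₗ[A] LinearMap.range ι := ((b : A) • φ).codRestrict _ hmem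
  refine ⟨(LinearEquiv.ofInjective ι hι).symm.toLinearMap.comp ψ, ?_⟩
  refine (LinearEquiv.ofInjective ι hι).symm.injective.comp ?_
  intro x y h
  have h' : (b : A) • φ x = (b : A) • φ y := congrArg Subtype.val h
  apply hφ
  funext i
  have := congrFun h' i
  simp only [Pi.smul_apply] at this
  rw [Algebra.smul_def, Algebra.smul_def] at this
  exact mul_left_cancel₀ (by
    simpa using (map_ne_zero_iff _ (IsFractionRing.injective A (FractionRing A))).2
      (nonZeroDivisors.coe_ne_zero b)) this

end Groth.Agent.S11499
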