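import Groth.Statements.S1150
import Groth.Agent.Pi1Ample.SectionConnected
import Groth.Agent.Pi1PBC.Basic
-- import your own Groth.Agent.* helpers here

set_option autoImplicit false
set_option linter.style.haveILetI false
set_option backward.isDefEq.respectTransparency false
universe u
open Pi1

namespace Groth.Agent.S1150

open AlgebraicGeometry CategoryTheory CategoryTheory.Limits in
/-- Let X be a proper scheme over a field k, L an ample invertible O_X-module, s a global section of L
and Y = Z(s) its zero scheme. Assume depth(O_{X,x}) + dim(closure of x) > 1 for every point x of X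
not in Y. Then for every open subscheme V of X containing Y, restriction of finite etale covers from
V to Y (realised as Y ×_X V ⟶ V) is fully faithful; V = X is allowed. -/
theorem result (k : Type u) [Field k] (X : Scheme.{u})
    (f : X ⟶ Spec (CommRingCat.of k)) [IsProper f] (L : X.Modules) (hL : CohB1.IsAmple L)
    (s : Coh.structureModule X ⟶ L)
    (hd : ∀ x : X, x ∉ (PicF2.zeroScheme L s).support →
      (1 : WithBot ℕ∞) < (LocCoh.depth (X.presheaf.stalk x) (X.presheaf.stalk x) : WithBot ℕ∞) +
        topologicalKrullDim (closure ({x} : Set X)))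
    (V : X.Opens) (hV : ((PicF2.zeroScheme L s).support : Set X) ⊆ V) :
    (FEt.restrict (pullback.snd (PicF2.zeroScheme L s).subschemeι V.ι)).Full ∧
    (FEt.restrict (pullback.snd (PicF2.zeroScheme L s).subschemeι V.ι)).Faithful := by
  haveI : CompactSpace X := QuasiCompact.compactSpace_of_compactSpace f
  haveI : IsNoetherianRing (CommRingCat.of k) := inferInstanceAs (IsNoetherianRing k)
  haveI : IsLocallyNoetherian X := LocallyOfFiniteType.isLocallyNoetherian f
  haveI : IsNoetherian X := {}
  obtain ⟨U, hU, hZ⟩ := Groth.Pi1Ample.exists_affine_compl f hL s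
  refine Groth.Pi1PBC.fullyFaithful_of_clopenBij _ fun W => ?_
  let w : W.left ⟶ (V : Scheme.{u}) := W.hom
  haveI : IsFinite w := W.prop.1
  haveI : Etale w := W.prop.2
  let g : W.left ⟶ X := w ≫ V.ι
  haveI : IsFinite (g ∣_ V) := by
    rw [morphismRestrict_comp]
    haveI : IsIso (V.ι ∣_ V) := by
      have : Surjective (V.ι ∣_ V) := ⟨fun x => ⟨⟨⟨x.1, x.2⟩, x.2⟩, Subtype.ext (by
        change V.ι.base ((V.ι ∣_ V) ⟨⟨x.1, x.2⟩, x.2⟩) = x.1
        rw [← Scheme.Hom.comp_apply, morphismRestrict_ι]; rfl)⟩⟩
      exact (isIso_iff_isOpenImmersion_and_surjective _).2 ⟨inferInstance, inferInstance⟩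
    infer_instance
  let q := pullback.fst W.hom (pullback.snd (PicF2.zeroScheme L s).subschemeι V.ι)
  haveI : IsClosedImmersion (pullback.snd (PicF2.zeroScheme L s).subschemeι V.ι) :=
    MorphismProperty.pullback_snd _ _ inferInstance
  haveI : IsClosedImmersion q := MorphismProperty.pullback_fst _ _ inferInstance
  refine Groth.Pi1Ample.clopenBij_compl f g hU (hZ ▸ hV) ?_ (fun x hx => hd x fun h => ?_) q.base
    q.isClosedEmbedding.isEmbedding ?_
  · rintro _ ⟨z, rfl⟩
    exact (w z).2
  · have h' : x ∈ ((PicF2.zeroScheme L s).support : Set X) := h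
    rw [hZ] at h'
    exact h' hx
  · rw [← hZ]
    refine (Scheme.Pullback.range_fst W.hom _).trans ?_
    rw [Scheme.Pullback.range_snd, Scheme.IdealSheafData.range_subschemeι]
    rfl

end Groth.Agent.S1150
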