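import Groth.Statements.S11500
import Groth.Agent.PnHyper.FiniteGen
import Groth.Agent.S11510

set_option autoImplicit false
universe u
open VBPn

namespace Groth.Agent.S11500

open CategoryTheory CategoryTheory.Limits AlgebraicGeometry Groth.PicAux in
theorem surjective_twist {X : Scheme.{u}} {L M A B : X.Modules} (hM : PicF.IsInvertible M)
    (e : CohB1.tensorMod L M ≅ Coh.structureModule X) (p : A ⟶ B) (h : ∀ σ : L ⟶ B, ∃ τ, τ ≫ p = σ) :
    Function.Surjective (((DCoh.tensorRightMod M).map p).app ⊤) := by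
  intro t
  haveI := isEquivalence_tensorRightMod_of_isInvertible hM
  let F := DCoh.tensorRightMod M
  let e' : Coh.structureModule X ≅ F.obj L := e.symm
  let t' : Γ(F.obj B, (⊤ : X.Opens)) := t
  obtain ⟨τ, hτ⟩ := h (F.preimage (e'.inv ≫ homOfSection t'))
  refine ⟨(e'.hom ≫ F.map τ).app ⊤ (oneSec X ⊤), ?_⟩
  change ((e'.hom ≫ F.map τ) ≫ F.map p).app ⊤ (oneSec X ⊤) = t'
  rw [Category.assoc, ← F.map_comp, hτ, Functor.map_preimage, e'.hom_inv_id_assoc]
  exact homOfSection_one t'

open CategoryTheory CategoryTheory.Limits AlgebraicGeometry Groth.PicAux in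
theorem hom_to_negatives {k : Type u} [Field k] {n s : ℕ} (hn : 1 ≤ n) (m : Fin s → ℤ) (hm : ∀ j, m j < 0)
    {a : ℤ} (ha : 0 ≤ a)
    (σ : Twist.twistProjSpace n k a ⟶ ∐ fun j : Fin s => Twist.twistProjSpace n k (m j)) : σ = 0 := by
  classical
  let fam : Fin s → (CohB1.ProjSpace n k).Modules := fun j => Twist.twistProjSpace n k (m j)
  haveI : HasFiniteBiproducts (CohB1.ProjSpace n k).Modules := HasFiniteBiproducts.of_hasFiniteProducts
  refine (cancel_mono (biproduct.isoCoproduct fam).inv).1 (biproduct.hom_ext (f := fam) _ _ fun j => ?_)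
  rw [zero_comp, zero_comp]
  refine Groth.PnHyper.eq_zero_of_twist (Groth.PnCoh.isInvertible_twist n k (-a))
    (Groth.Duality.Pn.isInverseOf_twist n k a).some (fun t => ?_) _
  obtain ⟨e⟩ := Groth.Duality.Pn.nonempty_twist_tensor n k (m j) (-a)
  refine (cancel_mono e.hom).1 ((Groth.Agent.S11510.hom_twist_eq_zero hn ?_ (t ≫ e.hom)).trans zero_comp.symm)
  have := hm j
  omega

open CategoryTheory CategoryTheory.Limits AlgebraicGeometry in
theorem id_ne_zero {X : Scheme.{u}} [Nonempty X] {L : X.Modules} (hL : PicF.IsInvertible L) : 𝟙 L ≠ 0 := by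
  intro h
  obtain ⟨x⟩ : Nonempty X := inferInstance
  have h1 := Groth.LocFree.finrank_stalk (Groth.LocFree.isInvertible_iff_ofRank_one.1 hL) x
  have hz := (Groth.QCohMod.isZero_iff_stalk L).1 ((IsZero.iff_id_eq_zero L).2 h) x
  haveI : Subsingleton (L.presheaf.stalk x) := AddCommGrpCat.subsingleton_of_isZero hz
  rw [Module.finrank_zero_of_subsingleton] at h1
  exact Nat.zero_ne_one h1

open CategoryTheory CategoryTheory.Limits AlgebraicGeometry in
/-- Let k be a characteristic-zero algebraically closed field and E a semistable rank-2 vector bundle on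
P^2_k with c_1(E) = 0; here, for a finite locally free O-module E of rank 2, c_1(E) = 0 is expressed
as 'a second exterior power of E is isomorphic to O' and semistability as H^0(P^2_k, E ⊗ O(−1)) = 0,
which for such E is equivalent to it. Then there is a short exact sequence 0 → ⊕_i O(k_i) → ⊕_j
O(m_j) → E ⊗ O(−1) → 0 with finitely many integers k_i, m_j, all negative. -/
theorem result (k : Type u) [Field k] [IsAlgClosed k]
    [CharZero k] (E : (CohB1.ProjSpace 2 k).Modules) (hE : FlatMod.IsFinLocFreeOfRank 2 E)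
    (hdet : ∃ L : (CohB1.ProjSpace 2 k).Modules, ExtPow.IsExtPow 2 E L ∧
      Nonempty (L ≅ Coh.structureModule (CohB1.ProjSpace 2 k)))
    (hss : Subsingleton (Coh.HH (CohB1.ProjSpace 2 k) (CohB1.tensorMod E (Twist.twistProjSpace 2 k (-1))) 0)) :
    ∃ (r s : ℕ) (kk : Fin r → ℤ) (mm : Fin s → ℤ) (S : ShortComplex (CohB1.ProjSpace 2 k).Modules),
      S.ShortExact ∧ (∀ i, kk i < 0) ∧ (∀ j, mm j < 0) ∧
      Nonempty (S.X₁ ≅ ∐ fun i : Fin r => Twist.twistProjSpace 2 k (kk i)) ∧
      Nonempty (S.X₂ ≅ ∐ fun j : Fin s => Twist.twistProjSpace 2 k (mm j)) ∧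
      Nonempty (S.X₃ ≅ CohB1.tensorMod E (Twist.twistProjSpace 2 k (-1))) := by
  let E' := CohB1.tensorMod E (Twist.twistProjSpace 2 k (-1))
  have hinv := Groth.PnCoh.isInvertible_twist 2 k
  have hE' : FlatMod.IsFinLocFreeOfRank 2 E' := by
    have h := Groth.LocFree.isFinLocFreeOfRank_tensorMod hE (Groth.LocFree.isInvertible_iff_ofRank_one.1 (hinv (-1)))
    rwa [mul_one] at h
  have hE'l := Groth.LocFree.isFinLocFree_of_rank hE'
  have h0 : Subsingleton (Coh.HH (CohB1.ProjSpace 2 k) (CohB1.tensorMod E' (Twist.twistProjSpace 2 k 0)) 0) := by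
    obtain ⟨e0⟩ := Groth.PnCoh.nonempty_twist_zero_iso (CohB1.polyGrading 2 k)
    exact Groth.Variety2.Reg.subsingleton_of_iso k
      (PicGrp.tensorModIso (Iso.refl E') e0 ≪≫ SecTwist.unitorR E').symm hss
  obtain ⟨s, m, p, hp, hm, hgen⟩ := Groth.PnHyper.exists_gen_negative hE'l
    (fun b hb σ => Groth.Agent.S11505.hom_eq_zero hE' 0 h0 (by simpa using hb) σ)
  haveI := hp
  haveI := Groth.Curves1.RR.isIntegral_projSpace k 2
  let S : ShortComplex (CohB1.ProjSpace 2 k).Modules := ShortComplex.mk (kernel.ι p) p (kernel.condition p)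
  have hS : S.ShortExact :=
    { exact := ShortComplex.exact_of_f_is_kernel _ (kernelIsKernel p) }
  have hF := Groth.PnHyper.isFinLocFreeOfRank_twists (k := k) (n := 2) m
  have hK1 := Groth.LocFree.isFinLocFree_left hS (Groth.LocFree.isFinLocFree_of_rank hF) hE'l
  obtain ⟨r, hr⟩ : ∃ r, s = r + 2 := by
    obtain ⟨x⟩ : Nonempty (CohB1.ProjSpace 2 k) := inferInstance
    have := Groth.LocFree.finrank_stalk_add hS hK1 hE'l x
    rw [Groth.LocFree.finrank_stalk (M := S.X₂) hF x, Groth.LocFree.finrank_stalk (M := S.X₃) hE' x] at this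
    exact ⟨_, this⟩
  subst hr
  have hK : FlatMod.IsFinLocFreeOfRank r S.X₁ := Groth.LocFree.isFinLocFreeOfRank_left hS hF hE'
  letI : (CohB1.ProjSpace 2 k).Over (Spec (CommRingCat.of k)) := ⟨CohB1.ProjSpace.toSpec 2 k⟩
  obtain ⟨a, ⟨ea⟩⟩ := Groth.PnHyper.exists_split_of_vanish 2 r S.X₁ hK (fun i d hi hi2 => by
    obtain rfl : i = 1 := by omega
    exact Groth.Variety2.Reg.subsingleton_one_of_surjective k
      (Groth.PicAux.shortExact_tensorRightMod (hinv d) hS)
      (surjective_twist (hinv d) (eqToIso (by rw [neg_neg]) ≪≫ (Groth.Duality.Pn.isInverseOf_twist 2 k (-d)).some) p (hgen (-d)))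
      (Groth.PnHyper.subsingleton_twists m d Nat.one_pos (by omega)))
  refine ⟨r, r + 2, a, m, S, hS, fun i => ?_, hm, ⟨ea⟩, ⟨Iso.refl _⟩, ⟨Iso.refl _⟩⟩
  by_contra hai
  push Not at hai
  -- a summand `O(a i)` with `a i ≥ 0` would map nonzero to a sum of negative twists
  let σ : Twist.twistProjSpace 2 k (a i) ⟶ (∐ fun j => Twist.twistProjSpace 2 k (m j)) :=
    Sigma.ι (fun i : Fin r => Twist.twistProjSpace 2 k (a i)) i ≫ ea.inv ≫ kernel.ι p
  have hσ : σ = 0 := hom_to_negatives (by norm_num) m hm hai σ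
  have h1 : Sigma.ι (fun i : Fin r => Twist.twistProjSpace 2 k (a i)) i = 0 := by
    rw [← cancel_mono (ea.inv ≫ kernel.ι p), zero_comp]
    exact hσ
  let d' : Fin r → (CohB1.ProjSpace 2 k).Modules := fun i => Twist.twistProjSpace 2 k (a i)
  exact id_ne_zero (hinv (a i)) ((IsZero.iff_id_eq_zero _).1 (IsZero.of_mono_eq_zero (Sigma.ι d' i) h1))

end Groth.Agent.S11500
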