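import Groth.Statements.S11502
import Groth.Agent.PnHyper.CommonZero
import Groth.Agent.S11505

set_option autoImplicit false
universe u
open VBPn

namespace Groth.Agent.S11502

open CategoryTheory CategoryTheory.Limits AlgebraicGeometry Groth.PicAux in
/-- Two isomorphic twists of a module, tensored with a twist. -/
theorem exists_twist_map {X : Scheme.{u}} {A B J J' M : X.Modules} (hM : PicF.IsInvertible M)
    (A' B' : X.Modules) (eA : CohB1.tensorMod A M ≅ A') (eB : CohB1.tensorMod B M ≅ B')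
    (eJ : CohB1.tensorMod J M ≅ J') (ψ : A ⊞ B ⟶ J) [Epi ψ] : ∃ ψ' : A' ⊞ B' ⟶ J', Epi ψ' := by
  let F := DCoh.tensorRightMod M
  haveI : F.IsEquivalence := isEquivalence_tensorRightMod_of_isInvertible hM
  haveI : F.Additive := Functor.additive_of_preserves_binary_products F
  haveI := preservesBinaryBiproducts_of_preservesBiproducts F
  let t : F.obj (A ⊞ B) ≅ A' ⊞ B' :=
    Functor.mapBiprod F A B ≪≫ biprod.mapIso eA eB
  haveI : Epi (F.map ψ) := F.map_epi ψ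
  exact ⟨t.inv ≫ F.map ψ ≫ eJ.hom, inferInstance⟩

open CategoryTheory CategoryTheory.Limits in
theorem identities {C : Type*} [Category C] [Preadditive C] [HasBinaryBiproducts C] (A F G : C) :
    ((biprod.fst : A ⊞ (F ⊞ G) ⟶ A) ≫ biprod.inl + (biprod.snd ≫ biprod.fst) ≫ biprod.inl ≫ biprod.inr +
        (biprod.snd ≫ biprod.snd) ≫ biprod.inr ≫ biprod.inr = 𝟙 (A ⊞ (F ⊞ G))) ∧
    ((biprod.snd ≫ biprod.fst : A ⊞ (F ⊞ G) ⟶ F) ≫ biprod.inl ≫ biprod.inr +
        biprod.lift biprod.fst (biprod.snd ≫ biprod.snd) ≫ biprod.desc biprod.inl (biprod.inr ≫ biprod.inr) =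
          𝟙 (A ⊞ (F ⊞ G))) ∧
    ((biprod.desc biprod.inl (biprod.inr ≫ biprod.inr) : A ⊞ G ⟶ A ⊞ (F ⊞ G)) ≫ biprod.snd ≫ biprod.fst = 0) ∧
    ((biprod.desc biprod.inl (biprod.inr ≫ biprod.inr) : A ⊞ G ⟶ A ⊞ (F ⊞ G)) ≫
        biprod.lift biprod.fst (biprod.snd ≫ biprod.snd) = 𝟙 _) ∧
    ((biprod.snd ≫ biprod.snd : A ⊞ (F ⊞ G) ⟶ G) ≫ biprod.inr ≫ biprod.inr +
        biprod.lift biprod.fst (biprod.snd ≫ biprod.fst) ≫ biprod.desc biprod.inl (biprod.inl ≫ biprod.inr) =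
          𝟙 (A ⊞ (F ⊞ G))) ∧
    ((biprod.desc biprod.inl (biprod.inl ≫ biprod.inr) : A ⊞ F ⟶ A ⊞ (F ⊞ G)) ≫ biprod.snd ≫ biprod.snd = 0) ∧
    ((biprod.desc biprod.inl (biprod.inl ≫ biprod.inr) : A ⊞ F ⟶ A ⊞ (F ⊞ G)) ≫
        biprod.lift biprod.fst (biprod.snd ≫ biprod.fst) = 𝟙 _) := by
  refine ⟨?_, ?_, ?_, ?_, ?_, ?_, ?_⟩ <;> ext <;> simp

open CategoryTheory CategoryTheory.Limits AlgebraicGeometry Groth.PicAux in
theorem forward (k : Type u) [Field k] (n : ℕ) {J : (CohB1.ProjSpace n k).Modules} (c : ℤ)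
    {E X₃ : (CohB1.ProjSpace n k).Modules} (g : E ⟶ X₃) [Epi g]
    (h₃ : X₃ ≅ CohB1.tensorMod J (Twist.twistProjSpace n k c)) {a' b' : ℤ}
    (e : E ≅ Twist.twistProjSpace n k a' ⊞ Twist.twistProjSpace n k b') :
    ∃ ψ : Twist.twistProjSpace n k (-(c - a')) ⊞ Twist.twistProjSpace n k (-(c - b')) ⟶ J, Epi ψ := by
  obtain ⟨ea⟩ := Groth.Duality.Pn.nonempty_twist_tensor n k a' (-c)
  obtain ⟨eb⟩ := Groth.Duality.Pn.nonempty_twist_tensor n k b' (-c)
  obtain ⟨u⟩ := Groth.Duality.Pn.isInverseOf_twist n k c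
  obtain ⟨as, -⟩ := exists_associator J (Twist.twistProjSpace n k c) (Twist.twistProjSpace n k (-c))
  exact exists_twist_map (Groth.PnCoh.isInvertible_twist n k (-c)) _ _
    (ea ≪≫ eqToIso (by rw [show a' + -c = -(c - a') by ring]))
    (eb ≪≫ eqToIso (by rw [show b' + -c = -(c - b') by ring]))
    (as ≪≫ PicGrp.tensorModIso (Iso.refl J) u ≪≫ SecTwist.unitorR J)
    (e.inv ≫ g ≫ h₃.hom)

open CategoryTheory CategoryTheory.Limits AlgebraicGeometry Groth.PicAux in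
theorem lift_twist (k : Type u) [Field k] (n : ℕ) (hn : 2 ≤ n) {S : ShortComplex (CohB1.ProjSpace n k).Modules}
    (hS : S.ShortExact) (h₁ : S.X₁ ≅ Coh.structureModule (CohB1.ProjSpace n k)) (d : ℤ)
    (q : Twist.twistProjSpace n k d ⟶ S.X₃) : ∃ p, p ≫ S.g = q := by
  letI : (CohB1.ProjSpace n k).Over (Spec (CommRingCat.of k)) := ⟨CohB1.ProjSpace.toSpec n k⟩
  obtain ⟨l, -⟩ := exists_leftUnitor (Twist.twistProjSpace n k (-d))
  exact Groth.PnHyper.exists_lift_invertible k hS (Groth.PnCoh.isInvertible_twist n k (-d))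
    (Groth.Duality.Pn.isInverseOf_twist n k d).some
    (Groth.Variety2.Reg.subsingleton_of_iso k (PicGrp.tensorModIso h₁ (Iso.refl _) ≪≫ l).symm
      (Groth.PnCoh.subsingleton_HH_twist (n := n) (R := k) (-d) 1 (by omega) (by omega))) q

open CategoryTheory CategoryTheory.Limits AlgebraicGeometry in
/-- Let k be an algebraically closed field of characteristic zero, n ≥ 3, i : Y → P^n_k a closed
immersion which is a local complete intersection of codimension 2 (regular immersion of codimension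
2) with ideal sheaf J_Y, and E a rank-2 vector bundle belonging to Y, that is a finite locally free
O-module of rank 2 with a short exact sequence 0 → O → E → J_Y ⊗ O(c) → 0 for some integer c. Then E
splits as O(a') ⊕ O(b') for some integers a', b' if and only if Y is a global complete intersection:
J_Y is an epimorphic image of O(−a) ⊕ O(−b) for some integers a, b (Y is cut out
scheme-theoretically by two hypersurfaces). -/
theorem result (k : Type u) [Field k] [IsAlgClosed k] [CharZero k]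
    (n : ℕ) (hn : 3 ≤ n) {Y : Scheme.{u}} (i : Y ⟶ CohB1.ProjSpace n k) [IsClosedImmersion i]
    (hlci : RegImm.IsRegularImmersionOfCodim RegImm.Kind.regular 2 i) (c : ℤ)
    (S : ShortComplex (CohB1.ProjSpace n k).Modules) (hS : S.ShortExact) (hE : FlatMod.IsFinLocFreeOfRank 2 S.X₂)
    (h₁ : Nonempty (S.X₁ ≅ Coh.structureModule (CohB1.ProjSpace n k)))
    (h₃ : Nonempty (S.X₃ ≅ CohB1.tensorMod (ClSub.idealMod i.ker) (Twist.twistProjSpace n k c))) :
    (∃ a' b' : ℤ, Nonempty (S.X₂ ≅ Twist.twistProjSpace n k a' ⊞ Twist.twistProjSpace n k b')) ↔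
      ∃ (a b : ℤ) (ψ : Twist.twistProjSpace n k (-a) ⊞ Twist.twistProjSpace n k (-b) ⟶ ClSub.idealMod i.ker),
        Epi ψ := by
  obtain ⟨e₁⟩ := h₁
  obtain ⟨e₃⟩ := h₃
  haveI := hS.epi_g
  haveI := hS.mono_f
  constructor
  · rintro ⟨a', b', ⟨e⟩⟩
    obtain ⟨ψ, hψ⟩ := forward k n c S.g e₃ e
    exact ⟨c - a', c - b', ψ, hψ⟩
  · rintro ⟨a, b, ψ, hψ⟩
    haveI := hψ
    obtain ⟨ea⟩ := Groth.Duality.Pn.nonempty_twist_tensor n k (-a) c
    obtain ⟨eb⟩ := Groth.Duality.Pn.nonempty_twist_tensor n k (-b) c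
    obtain ⟨ψ', hψ'⟩ := exists_twist_map (Groth.PnCoh.isInvertible_twist n k c) _ _
      (ea ≪≫ eqToIso (by rw [show -a + c = c - a by ring]))
      (eb ≪≫ eqToIso (by rw [show -b + c = c - b by ring])) e₃.symm ψ
    haveI := hψ'
    obtain ⟨σ₁, hσ₁⟩ := lift_twist k n (by omega) hS e₁ (c - a) (biprod.inl ≫ ψ')
    obtain ⟨σ₂, hσ₂⟩ := lift_twist k n (by omega) hS e₁ (c - b) (biprod.inr ≫ ψ')
    obtain ⟨e00⟩ := Groth.PnCoh.nonempty_twist_zero_iso (CohB1.polyGrading n k)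
    let e0 : Twist.twistProjSpace n k 0 ≅ Coh.structureModule (CohB1.ProjSpace n k) := e00
    let A := Twist.twistProjSpace n k 0
    let F₁ := Twist.twistProjSpace n k (c - a)
    let F₂ := Twist.twistProjSpace n k (c - b)
    let z : A ⟶ S.X₂ := (e0 ≪≫ e₁.symm).hom ≫ S.f
    let Φ : A ⊞ (F₁ ⊞ F₂) ⟶ S.X₂ := biprod.desc z (biprod.desc σ₁ σ₂)
    haveI : Epi Φ := Preadditive.epi_of_cancel_zero _ fun {W} h hh => by
      have hz : z ≫ h = 0 := by
        have := biprod.inl ≫= hh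
        simpa [Φ] using this
      have hf : S.f ≫ h = 0 := by
        refine (cancel_epi (e0 ≪≫ e₁.symm).hom).1 ?_
        rw [comp_zero, ← Category.assoc]
        exact hz
      have hg : S.g ≫ hS.exact.desc h hf = h := hS.exact.g_desc h hf
      have h0 : biprod.desc σ₁ σ₂ ≫ h = 0 := by
        have := biprod.inr ≫= hh
        simpa [Φ] using this
      have h1 : ψ' ≫ hS.exact.desc h hf = 0 := by
        refine biprod.hom_ext' _ _ ?_ ?_
        · rw [comp_zero, ← Category.assoc, ← hσ₁, Category.assoc, hg, ← biprod.inl_desc_assoc σ₁ σ₂ h, h0, comp_zero]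
        · rw [comp_zero, ← Category.assoc, ← hσ₂, Category.assoc, hg, ← biprod.inr_desc_assoc σ₁ σ₂ h, h0, comp_zero]
      rw [← hg, (cancel_epi ψ').1 (h1.trans comp_zero.symm), comp_zero]
    let T : ShortComplex (CohB1.ProjSpace n k).Modules := ShortComplex.mk (kernel.ι Φ) Φ (kernel.condition Φ)
    have hT : T.ShortExact :=
      { exact := ShortComplex.exact_of_f_is_kernel _ (kernelIsKernel Φ) }
    have hone : ∀ d, FlatMod.IsFinLocFreeOfRank 1 (Twist.twistProjSpace n k d) := fun d =>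
      Groth.LocFree.isInvertible_iff_ofRank_one.1 (Groth.PnCoh.isInvertible_twist n k d)
    have hK : FlatMod.IsFinLocFreeOfRank 1 T.X₁ := Groth.LocFree.isFinLocFreeOfRank_left hT
      (Groth.LocFree.isFinLocFreeOfRank_biprod (hone 0)
        (Groth.LocFree.isFinLocFreeOfRank_biprod (hone (c - a)) (hone (c - b)))) hE
    obtain ⟨e, ⟨eK⟩⟩ := Groth.Agent.S11505.exists_twist_iso T.X₁ (Groth.LocFree.isInvertible_iff_ofRank_one.2 hK)
    let d : Fin 3 → ℤ := Fin.cases 0 (Fin.cases (c - a) fun _ => c - b)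
    let p : ∀ j, T.X₂ ⟶ Twist.twistProjSpace n k (d j) :=
      Fin.cases (motive := fun j => T.X₂ ⟶ Twist.twistProjSpace n k (d j)) biprod.fst
        (Fin.cases (motive := fun j => T.X₂ ⟶ Twist.twistProjSpace n k (d j.succ)) (biprod.snd ≫ biprod.fst)
          fun _ => biprod.snd ≫ biprod.snd)
    let i : ∀ j, Twist.twistProjSpace n k (d j) ⟶ T.X₂ :=
      Fin.cases (motive := fun j => Twist.twistProjSpace n k (d j) ⟶ T.X₂) biprod.inl
        (Fin.cases (motive := fun j => Twist.twistProjSpace n k (d j.succ) ⟶ T.X₂) (biprod.inl ≫ biprod.inr)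
          fun _ => biprod.inr ≫ biprod.inr)
    have htot : ∑ j, p j ≫ i j = 𝟙 T.X₂ := by
      rw [Fin.sum_univ_three]
      change biprod.fst ≫ biprod.inl + (biprod.snd ≫ biprod.fst) ≫ biprod.inl ≫ biprod.inr +
        (biprod.snd ≫ biprod.snd) ≫ biprod.inr ≫ biprod.inr = 𝟙 (A ⊞ (F₁ ⊞ F₂))
      exact (identities A F₁ F₂).1
    obtain ⟨j, hj⟩ := Groth.PnHyper.exists_isIso_component hn d hT (Groth.LocFree.isFinLocFree_of_rank hE) eK.symm p i htot
    haveI : IsIso (T.f ≫ p j) := IsIso.of_isIso_comp_left eK.symm.hom (T.f ≫ p j)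
    fin_cases j
    · haveI : IsIso (T.f ≫ (biprod.fst : A ⊞ (F₁ ⊞ F₂) ⟶ A)) := ‹_›
      haveI := Groth.PnHyper.isIso_complement hT (biprod.fst : A ⊞ (F₁ ⊞ F₂) ⟶ A) biprod.inl biprod.snd biprod.inr
        biprod.total biprod.inr_fst biprod.inr_snd
      exact ⟨c - a, c - b, ⟨(asIso ((biprod.inr : F₁ ⊞ F₂ ⟶ A ⊞ (F₁ ⊞ F₂)) ≫ Φ)).symm⟩⟩
    · haveI : IsIso (T.f ≫ (biprod.snd ≫ biprod.fst : A ⊞ (F₁ ⊞ F₂) ⟶ F₁)) := ‹_›
      haveI := Groth.PnHyper.isIso_complement hT (biprod.snd ≫ biprod.fst : A ⊞ (F₁ ⊞ F₂) ⟶ F₁)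
        (biprod.inl ≫ biprod.inr) (biprod.lift biprod.fst (biprod.snd ≫ biprod.snd))
        (biprod.desc biprod.inl (biprod.inr ≫ biprod.inr))
        (identities A F₁ F₂).2.1 (identities A F₁ F₂).2.2.1 (identities A F₁ F₂).2.2.2.1
      exact ⟨0, c - b, ⟨(asIso (biprod.desc biprod.inl (biprod.inr ≫ biprod.inr) ≫ Φ : A ⊞ F₂ ⟶ S.X₂)).symm⟩⟩
    · haveI : IsIso (T.f ≫ (biprod.snd ≫ biprod.snd : A ⊞ (F₁ ⊞ F₂) ⟶ F₂)) := ‹_›
      haveI := Groth.PnHyper.isIso_complement hT (biprod.snd ≫ biprod.snd : A ⊞ (F₁ ⊞ F₂) ⟶ F₂)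
        (biprod.inr ≫ biprod.inr) (biprod.lift biprod.fst (biprod.snd ≫ biprod.fst))
        (biprod.desc biprod.inl (biprod.inl ≫ biprod.inr))
        (identities A F₁ F₂).2.2.2.2.1 (identities A F₁ F₂).2.2.2.2.2.1 (identities A F₁ F₂).2.2.2.2.2.2
      exact ⟨0, c - a, ⟨(asIso (biprod.desc biprod.inl (biprod.inl ≫ biprod.inr) ≫ Φ : A ⊞ F₁ ⟶ S.X₂)).symm⟩⟩

end Groth.Agent.S11502
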