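import Groth.Statements.S11506
import Groth.Agent.LocFree.ExtPow
import Groth.Agent.LocFree.Tensor
import Groth.Agent.PicAux.Powers
import Groth.Agent.CurveBridge.Canonical
import Groth.Agent.EulerDeg.LineBundle
import Groth.Agent.EulerDeg.FiniteSupport
import Groth.Agent.Misc15.P1Stalk
import Groth.Agent.PnCoh.OverAffine
import Groth.Agent.Duality.SheafHomTwist
import Groth.Agent.PnCoh.VanishingClosed

set_option autoImplicit false
universe u
open VBPn

open CategoryTheory CategoryTheory.Limits AlgebraicGeometry Opposite TopologicalSpace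
open Groth.PicAux Groth.LocFree

namespace Groth.Agent.S11506

section Aux

variable {X : Scheme.{u}} {E N : X.Modules}

/-- `wedge ![a, b]` as a function linear in `a`. -/
noncomputable def wdg (W : X.Opens) (a b : Γ(E, W)) : Γ(extPow 2 E, W) := wedge 2 E ![a, b]

theorem wdg_eq (W : X.Opens) (a b : Γ(E, W)) :
    wdg W a b = extUnit 2 E W (exteriorPower.ιMulti Γ(X, W) 2 ![a, b]) := rfl

theorem wdg_add (W : X.Opens) (a a' b : Γ(E, W)) : wdg W (a + a') b = wdg W a b + wdg W a' b := by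
  rw [wdg_eq, wdg_eq, wdg_eq, ← map_add]
  exact congrArg _ ((exteriorPower.ιMulti Γ(X, W) 2).map_vecCons_add ![b] a a')

theorem wdg_smul (W : X.Opens) (r : Γ(X, W)) (a b : Γ(E, W)) : wdg W (r • a) b = r • wdg W a b := by
  rw [wdg_eq, wdg_eq, ← map_smul]
  exact congrArg _ ((exteriorPower.ιMulti Γ(X, W) 2).map_vecCons_smul ![b] r a)

theorem wdg_self (W : X.Opens) (a : Γ(E, W)) : wdg W a a = 0 := by
  rw [wdg_eq, (exteriorPower.ιMulti Γ(X, W) 2).map_eq_zero_of_eq ![a, a] (i := 0) (j := 1) rfl (by decide),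
    map_zero]

theorem wdg_swap (W : X.Opens) (a b : Γ(E, W)) : wdg W b a = -wdg W a b := by
  rw [wdg_eq, wdg_eq, ← map_neg, ← (exteriorPower.ιMulti Γ(X, W) 2).map_swap ![a, b]
    (show (0 : Fin 2) ≠ 1 by decide)]
  refine congrArg _ (congrArg _ ?_)
  funext i
  fin_cases i <;> rfl

theorem wdg_smul_right (W : X.Opens) (r : Γ(X, W)) (a b : Γ(E, W)) :
    wdg W a (r • b) = r • wdg W a b := by
  rw [wdg_swap W (r • b) a, wdg_smul, wdg_swap W a b, smul_neg, neg_neg]

theorem res_wdg {V W : X.Opens} (h : V ≤ W) (a b : Γ(E, W)) :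
    res _ h (wdg W a b) = wdg V (res E h a) (res E h b) := by
  rw [wdg, res_wedge]
  refine congrArg _ ?_
  funext i
  fin_cases i <;> rfl

/-- Nonzero sections give nonzero morphisms. -/
theorem homOfSection_ne_zero {M : X.Modules} {t : Γ(M, ⊤)} (ht : t ≠ 0) : homOfSection t ≠ 0 :=
  fun h0 => ht (by rw [← homOfSection_one t, h0]; rfl)

/-- A nonzero map `O → E ⊗ M` gives a nonzero map from an inverse of `M`. -/
theorem exists_hom_of_map {L M : X.Modules} (hLM : ClSub.IsInverseOf L M)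
    (s : Coh.structureModule X ⟶ CohB1.tensorMod E M) (hs : s ≠ 0) : ∃ σ : L ⟶ E, σ ≠ 0 := by
  haveI := Groth.PicAux.isEquivalence_tensorRightMod hLM
  obtain ⟨l, -⟩ := exists_leftUnitor L
  obtain ⟨as, -⟩ := exists_associator E M L
  let b : CohB1.tensorMod (CohB1.tensorMod E M) L ≅ E :=
    as ≪≫ PicGrp.tensorModIso (Iso.refl E) (isInverseOf_symm hLM).some ≪≫ SecTwist.unitorR E
  let m : CohB1.tensorMod (Coh.structureModule X) L ⟶ CohB1.tensorMod (CohB1.tensorMod E M) L :=
    KoszTw.tensorMap s (𝟙 L)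
  have hm : m ≠ 0 := by
    intro h0
    refine hs ((DCoh.tensorRightMod L).map_injective ?_)
    rw [Functor.map_zero, KoszTw.tensorRightMod_map]
    exact h0
  exact ⟨l.inv ≫ m ≫ b.hom, fun h0 => hm ((cancel_mono b.hom).1
    (((cancel_epi l.inv).1 (h0.trans comp_zero.symm)).trans zero_comp.symm))⟩

/-- Multiplication by a nonzero section is a monomorphism of twists. -/
theorem exists_mono_tensor [IsIntegral X] {P L : X.Modules} (hP : PicF.IsInvertible P) (hL : PicF.IsInvertible L)
    (z : Γ(P, ⊤)) (hz : z ≠ 0) : ∃ m : L ⟶ CohB1.tensorMod P L, Mono m := by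
  haveI := Groth.EulerDeg.mono_of_ne_zero (Groth.EulerDeg.isInvertible_structureModule X) hP
    (homOfSection_ne_zero hz)
  haveI := Groth.PicAux.isEquivalence_tensorRightMod_of_isInvertible hL
  obtain ⟨l, -⟩ := exists_leftUnitor L
  have hm : Mono ((DCoh.tensorRightMod L).map (homOfSection z)) := inferInstance
  rw [KoszTw.tensorRightMod_map] at hm
  exact ⟨l.inv ≫ KoszTw.tensorMap (homOfSection z) (𝟙 L), @mono_comp _ _ _ _ _ l.inv inferInstance _ hm⟩

variable (hN : PicF.IsInvertible N) (σ : N ⟶ E) (q : extPow 2 E ⟶ CohB1.tensorMod N N)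

include hN in
/-- The endomorphism `e ↦ q(e ∧ σ) σ`. -/
theorem exists_wedgeEnd : ∃ ψ : E ⟶ E, σ ≫ ψ = 0 ∧ ∀ (U V : X.Opens) (h : V ≤ U) (g : Γ(N, U))
    (_ : Gen N U g) (e : Γ(E, V)) (r : Γ(X, V)),
      q.app V (wdg V e (σ.app V (res N h g))) = r • tmulSec (res N h g) (res N h g) →
      ψ.app V e = r • σ.app V (res N h g) := by
  choose U g hxU hg using fun x : X => (isInvertible_iff_exists_gen N).1 hN x
  have hcov : iSup U = ⊤ := eq_top_iff.2 fun x _ => Opens.mem_iSup.2 ⟨x, hxU x⟩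
  have hex : ∀ (i : X) (V : X.Opens) (h : V ≤ U i) (e : Γ(E, V)), ∃ r : Γ(X, V),
      q.app V (wdg V e (σ.app V (res N h (g i)))) = r • tmulSec (res N h (g i)) (res N h (g i)) := by
    intro i V h e
    obtain ⟨r, hr⟩ := ((hg i).tensor (hg i)).exists_coeff h (q.app V (wdg V e (σ.app V (res N h (g i)))))
    exact ⟨r, by rw [hr, res_tmulSec]⟩
  choose c hc using hex
  have hindep : ∀ (i : X) (V : X.Opens) (h : V ≤ U i) (e : Γ(E, V)) (U' : X.Opens) (h' : V ≤ U')
      (g' : Γ(N, U')) (_ : Gen N U' g') (r : Γ(X, V)),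
      q.app V (wdg V e (σ.app V (res N h' g'))) = r • tmulSec (res N h' g') (res N h' g') →
      c i V h e • σ.app V (res N h (g i)) = r • σ.app V (res N h' g') := by
    intro i V h e U' h' g' hg' r hr
    obtain ⟨a, ha⟩ := (hg i).exists_coeff h (res N h' g')
    obtain ⟨b, hb⟩ := hg'.exists_coeff h' (res N h (g i))
    have hab : a * b = 1 := by
      refine hg'.smul_inj h' ?_
      rw [one_smul, mul_smul, ← hb, ← ha]
    have h1 : c i V h e = r * a := by
      refine ((hg i).tensor (hg i)).smul_inj h ?_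
      rw [res_tmulSec, ← hc]
      rw [ha, Scheme.Modules.Hom.app_smul, wdg_smul_right, Scheme.Modules.Hom.app_smul, tmulSec_smul_left,
        tmulSec_smul_right, hc] at hr
      rw [hc]
      have h2 := congrArg (b • ·) hr
      simp only [smul_smul] at h2 ⊢
      rw [show b * (a * c i V h e) = c i V h e by linear_combination (c i V h e) * hab,
        show b * (r * (a * a)) = r * a by linear_combination (r * a) * hab] at h2
      exact h2
    rw [h1, ha, Scheme.Modules.Hom.app_smul, smul_smul]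
  obtain ⟨ψ, hψ⟩ := exists_hom_of_cover (L := E) (M := E) hcov
    (fun i V h e => c i V h e • σ.app V (res N h (g i)))
    (fun i V h x y => by
      rw [← add_smul]
      congr 1
      refine ((hg i).tensor (hg i)).smul_inj h ?_
      rw [res_tmulSec, add_smul, ← hc, ← hc, ← hc, wdg_add, map_add])
    (fun i V h r x => by
      rw [smul_smul]
      congr 1
      refine ((hg i).tensor (hg i)).smul_inj h ?_
      rw [res_tmulSec, mul_smul, ← hc, ← hc, wdg_smul, Scheme.Modules.Hom.app_smul])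
    (fun i V W h h' x => by
      rw [res_smul, ← app_res, res_res]
      congr 1
      refine ((hg i).tensor (hg i)).smul_inj (h'.trans h) ?_
      rw [res_tmulSec, ← hc]
      have h2 := congrArg (res _ h') (hc i V h x)
      rw [← app_res, res_wdg, ← app_res, res_smul, res_tmulSec, res_res] at h2
      exact h2.symm)
    (fun i j V hi hj x => hindep i V hi x (U j) hj (g j) (hg j) _ (hc j V hj x))
  have hmain : ∀ (U' V : X.Opens) (h : V ≤ U') (g' : Γ(N, U'))
      (_ : Gen N U' g') (e : Γ(E, V)) (r : Γ(X, V)),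
      q.app V (wdg V e (σ.app V (res N h g'))) = r • tmulSec (res N h g') (res N h g') →
      ψ.app V e = r • σ.app V (res N h g') := by
    intro U' V h g' hg' e r hr
    refine res_ext (fun i => V ⊓ U i) (fun _ => inf_le_left) (le_iSup_inf hcov V) fun i => ?_
    rw [← app_res, hψ i _ inf_le_right, res_smul, ← app_res, res_res]
    refine hindep i _ inf_le_right _ U' _ g' hg' _ ?_
    have h2 := congrArg (res _ (inf_le_left : V ⊓ U i ≤ V)) hr
    rw [← app_res, res_wdg, ← app_res, res_smul, res_tmulSec, res_res] at h2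
    exact h2
  refine ⟨ψ, ?_, hmain⟩
  ext V m
  show ψ.app V (σ.app V m) = 0
  refine res_ext (fun i => V ⊓ U i) (fun _ => inf_le_left) (le_iSup_inf hcov V) fun i => ?_
  rw [← app_res, ← app_res]
  obtain ⟨a, ha⟩ := (hg i).exists_coeff (inf_le_right : V ⊓ U i ≤ U i) (res N inf_le_left m)
  rw [ha, Scheme.Modules.Hom.app_smul, Scheme.Modules.Hom.app_smul,
    hmain (U i) _ inf_le_right (g i) (hg i) _ 0 (by rw [wdg_self, map_zero, zero_smul]), zero_smul,
    smul_zero]
  exact (map_zero _).symm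

/-- A nonzero map from an invertible module to a plane bundle gives a nonzero endomorphism killing it. -/
theorem wedgeEnd_ne_zero [IsIntegral X] (hN : PicF.IsInvertible N) (hE : FlatMod.IsFinLocFreeOfRank 2 E)
    (hσ : σ ≠ 0) [Mono q] {ψ : E ⟶ E}
    (hψ : ∀ (U V : X.Opens) (h : V ≤ U) (g : Γ(N, U)) (_ : Gen N U g) (e : Γ(E, V)) (r : Γ(X, V)),
      q.app V (wdg V e (σ.app V (res N h g))) = r • tmulSec (res N h g) (res N h g) →
      ψ.app V e = r • σ.app V (res N h g)) : ψ ≠ 0 := by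
  classical
  haveI := KTheory.LocFree.isQCoh (isFinLocFree_of_rank hE)
  intro h0
  obtain ⟨W, m, hm⟩ : ∃ (W : X.Opens) (m : Γ(N, W)), σ.app W m ≠ 0 := by
    by_contra! h
    refine hσ ?_
    ext W m
    exact h W m
  obtain ⟨x, hxW, hx⟩ : ∃ (x : X) (hx : x ∈ W), E.presheaf.germ W x hx (σ.app W m) ≠ 0 := by
    by_contra! h
    exact hm (TopCat.Presheaf.section_ext ⟨E.presheaf, E.isSheaf⟩ W _ 0 fun x hx =>
      (h x hx).trans (map_zero _).symm)
  obtain ⟨U, b, hU, hxU, hb⟩ := exists_affine_basis_ofRank hE x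
  obtain ⟨U', g, hxU', hg⟩ := (isInvertible_iff_exists_gen N).1 hN x
  obtain ⟨_, ⟨V, hV, rfl⟩, hxV, hVle⟩ := X.isBasis_affineOpens.exists_subset_of_mem_open
    (show x ∈ W ⊓ U ⊓ U' from ⟨⟨hxW, hxU⟩, hxU'⟩) (W ⊓ U ⊓ U').2
  have hVW : V ≤ W := fun y hy => (hVle hy).1.1
  have hVU : V ≤ U := fun y hy => (hVle hy).1.2
  have hVU' : V ≤ U' := fun y hy => (hVle hy).2
  haveI : Nonempty V := ⟨⟨x, hxV⟩⟩
  let B := basisOfBasis' hb hVU
  set s := σ.app V (res N hVU' g) with hs
  have hs0 : s ≠ 0 := by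
    intro hz
    obtain ⟨a, ha⟩ := hg.exists_coeff hVU' (res N hVW m)
    apply hx
    rw [← E.presheaf.germ_res_apply (homOfLE hVW) x hxV]
    show E.presheaf.germ V x hxV (res E hVW (σ.app W m)) = 0
    rw [← app_res, ha, Scheme.Modules.Hom.app_smul, ← hs, hz, smul_zero, map_zero]
  have hgen := (hg.tensor hg).res hVU'
  have hcoef : ∀ e : Γ(E, V), wdg V e s = 0 := by
    intro e
    obtain ⟨r, hr⟩ := (hg.tensor hg).exists_coeff hVU' (q.app V (wdg V e s))
    rw [res_tmulSec] at hr
    have h1 := hψ U' V hVU' g hg e r hr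
    rw [h0] at h1
    have h2 : (0 : Γ(E, V)) = r • s := h1
    have hr0 : r = 0 := by
      by_contra hne
      refine hs0 (B.repr.injective ?_)
      have h3 := congrArg B.repr h2.symm
      rw [map_smul, map_zero] at h3
      rw [map_zero]
      exact (smul_eq_zero.1 h3).resolve_left hne
    rw [hr0, zero_smul] at hr
    have hinj : Function.Injective (q.app V) :=
      (TopCat.Presheaf.app_injective_iff_stalkFunctor_map_injective
        (F := (⟨(extPow 2 E).presheaf, (extPow 2 E).isSheaf⟩ : TopCat.Sheaf Ab.{u} X))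
        (G := (CohB1.tensorMod N N).presheaf)
        ((Scheme.Modules.toPresheaf X).map q)).mp ((Groth.QCohMod.mono_iff_stalk q).mp inferInstance) V
    exact hinj (hr.trans (map_zero _).symm)
  have hbb : ∀ a : Γ(X, V), a • wdg V (B 0) (B 1) = 0 → a = 0 := by
    intro a ha
    rw [wdg_eq, ← map_smul] at ha
    have h1 := (extUnit_bijective 2 E hV).1 (ha.trans (map_zero _).symm)
    have h2 := congrArg (exteriorPower.alternatingMapLinearEquiv B.det) h1
    rw [map_smul, exteriorPower.alternatingMapLinearEquiv_apply_ιMulti,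
      show ![B 0, B 1] = ⇑B by funext i; fin_cases i <;> rfl, B.det_self, smul_eq_mul, mul_one] at h2
    exact h2.trans (map_zero _)
  have hdec : s = B.repr s 0 • B 0 + B.repr s 1 • B 1 := by
    conv_lhs => rw [← B.sum_repr s, Fin.sum_univ_two]
  have hw : ∀ e : Γ(E, V), wdg V s e = 0 := fun e => by rw [wdg_swap V e s, hcoef e, neg_zero]
  refine hs0 ?_
  rw [hdec]
  have h0' := hw (B 1)
  rw [hdec, wdg_add, wdg_smul, wdg_smul, wdg_self, smul_zero, add_zero] at h0'
  have h1' := hw (B 0)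
  rw [hdec, wdg_add, wdg_smul, wdg_smul, wdg_self, smul_zero, zero_add, wdg_swap V (B 0) (B 1),
    smul_neg, neg_eq_zero] at h1'
  rw [hbb _ h0', hbb _ h1', zero_smul, zero_smul, add_zero]

end Aux

open CategoryTheory CategoryTheory.Limits AlgebraicGeometry in
/-- Let k be a characteristic-zero algebraically closed field and E a finite locally free O-module of
rank 2 on P^n_k with a second exterior power isomorphic to O(c), and let k₀ satisfy c + 2k₀ = 0 or c
+ 2k₀ = −1. If every endomorphism of E is a homothety (its underlying map of abelian sheaves is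
multiplication by a scalar in k), then H^0(P^n_k, E ⊗ O(k₀)) = 0. The published statement concludes
stability; this row concludes the vanishing of H^0 of the normalised twist, which for rank 2 is
stability. -/
theorem result (k : Type u) [Field k] [IsAlgClosed k] [CharZero k]
    (n : ℕ) (E : (CohB1.ProjSpace n k).Modules) (hE : FlatMod.IsFinLocFreeOfRank 2 E) (c k₀ : ℤ)
    (hdet : ∃ L : (CohB1.ProjSpace n k).Modules, ExtPow.IsExtPow 2 E L ∧ Nonempty (L ≅ Twist.twistProjSpace n k c))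
    (hk₀ : c + 2 * k₀ = 0 ∨ c + 2 * k₀ = -1)
    (hsimple : ∀ φ : E ⟶ E, ∃ c' : k, (SheafOfModules.toSheaf (CohB1.ProjSpace n k).ringCatSheaf).map φ =
      Coh.smulAb E (Coh.toGlobal (CohB1.ProjSpace.toSpec n k) c')) :
    Subsingleton (Coh.HH (CohB1.ProjSpace n k) (CohB1.tensorMod E (Twist.twistProjSpace n k k₀)) 0) := by
  haveI : Nonempty ↥(CohB1.ProjSpace n k) :=
    ⟨(Groth.PnCoh.overIso n k).inv (genericPoint _)⟩
  haveI : IsIntegral (CohB1.ProjSpace n k) :=
    isIntegral_of_isOpenImmersion (Groth.PnCoh.overIso n k).hom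
  haveI := Groth.KTheory.LocFree.isQCoh (Groth.LocFree.isFinLocFree_of_rank hE)
  by_contra hns
  rw [not_subsingleton_iff_nontrivial] at hns
  have hinv : ∀ d, PicF.IsInvertible (Twist.twistProjSpace n k d) :=
    fun d => Groth.PnCoh.isInvertible_twist n k d
  obtain ⟨v, hv⟩ := exists_ne (0 : Coh.HH (CohB1.ProjSpace n k)
    (CohB1.tensorMod E (Twist.twistProjSpace n k k₀)) 0)
  letI : (CohB1.ProjSpace n k).Over (Spec (CommRingCat.of k)) := ⟨CohB1.ProjSpace.toSpec n k⟩
  have hw : Groth.EulerDeg.h0Equiv k (CohB1.tensorMod E (Twist.twistProjSpace n k k₀)) v ≠ 0 :=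
    fun h0 => hv ((LinearEquiv.map_eq_zero_iff _).1 h0)
  have hinvk := Groth.Duality.Pn.isInverseOf_twist n k (-k₀)
  rw [neg_neg] at hinvk
  obtain ⟨σ, hσ⟩ := exists_hom_of_map hinvk _ (homOfSection_ne_zero hw)
  obtain ⟨L, hL, ⟨eL⟩⟩ := hdet
  obtain ⟨e'⟩ := Groth.LocFree.nonempty_iso_extPow hL
  obtain ⟨eN⟩ := Groth.Duality.Pn.nonempty_twist_tensor n k (-k₀) (-k₀)
  obtain ⟨j, hj⟩ : ∃ j : Twist.twistProjSpace n k c ⟶ Twist.twistProjSpace n k (-k₀ + -k₀), Mono j := by
    rcases hk₀ with h | h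
    · exact ⟨(eqToIso (congrArg (Twist.twistProjSpace n k) (show c = -k₀ + -k₀ by omega))).hom,
        inferInstance⟩
    · let P : MvPolynomial.homogeneousSubmodule (Fin (n + 1)) k 1 :=
        ⟨MvPolynomial.X 0, MvPolynomial.isHomogeneous_X k 0⟩
      have hP : P ≠ 0 := fun h0 => MvPolynomial.X_ne_zero (0 : Fin (n + 1)) (congrArg Subtype.val h0)
      have hz : Groth.EulerDeg.h0Equiv k (Twist.twistProjSpace n k ((1 : ℕ) : ℤ))
          (Groth.PnCoh.h0Equiv (n := n) (R := k) 1 P) ≠ 0 := fun h0 =>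
        hP ((LinearEquiv.map_eq_zero_iff _).1 ((LinearEquiv.map_eq_zero_iff _).1 h0))
      obtain ⟨m, hm⟩ := exists_mono_tensor (hinv _) (hinv c) _ hz
      haveI := hm
      obtain ⟨e1⟩ := Groth.Duality.Pn.nonempty_twist_tensor n k ((1 : ℕ) : ℤ) c
      exact ⟨m ≫ (e1 ≪≫ eqToIso (congrArg (Twist.twistProjSpace n k)
        (show ((1 : ℕ) : ℤ) + c = -k₀ + -k₀ by push_cast; omega))).hom, inferInstance⟩
  haveI := hj
  let q : Groth.LocFree.extPow 2 E ⟶
      CohB1.tensorMod (Twist.twistProjSpace n k (-k₀)) (Twist.twistProjSpace n k (-k₀)) :=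
    (e' ≪≫ eL).hom ≫ j ≫ eN.inv
  obtain ⟨ψ, hkill, hψ⟩ := exists_wedgeEnd (hinv (-k₀)) σ q
  have hne := wedgeEnd_ne_zero σ q (hinv (-k₀)) hE hσ hψ
  obtain ⟨a, ha⟩ := hsimple ψ
  rcases eq_or_ne a 0 with rfl | ha0
  · rw [map_zero, Coh.smulAb_zero] at ha
    exact hne ((SheafOfModules.toSheaf (CohB1.ProjSpace n k).ringCatSheaf).map_injective
      (ha.trans (Functor.map_zero _ _ _).symm))
  · have hiso : IsIso (Coh.smulAb E (Coh.toGlobal (CohB1.ProjSpace.toSpec n k) a)) := by
      refine ⟨Coh.smulAb E (Coh.toGlobal (CohB1.ProjSpace.toSpec n k) a⁻¹), ?_, ?_⟩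
      · rw [← Coh.smulAb_mul, ← map_mul, inv_mul_cancel₀ ha0, map_one, Coh.smulAb_one]
      · rw [← Coh.smulAb_mul, ← map_mul, mul_inv_cancel₀ ha0, map_one, Coh.smulAb_one]
    apply hσ
    have h0 : (SheafOfModules.toSheaf (CohB1.ProjSpace n k).ringCatSheaf).map σ ≫
        Coh.smulAb E (Coh.toGlobal (CohB1.ProjSpace.toSpec n k) a) = 0 := by
      refine (congrArg (_ ≫ ·) ha.symm).trans ?_
      refine (Functor.map_comp _ σ ψ).symm.trans ?_
      exact (congrArg (SheafOfModules.toSheaf (CohB1.ProjSpace n k).ringCatSheaf).map hkill).trans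
        (Functor.map_zero _ _ _)
    haveI := hiso
    exact (SheafOfModules.toSheaf (CohB1.ProjSpace n k).ringCatSheaf).map_injective
      (((cancel_mono _).1 (h0.trans zero_comp.symm)).trans (Functor.map_zero _ _ _).symm)

end Groth.Agent.S11506
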