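import Groth.Statements.S11507
import Groth.Agent.PnEuler.NullCorr
-- import your own Groth.Agent.* helpers here

set_option autoImplicit false
universe u
open VBPn

namespace Groth.Agent.S11507

open CategoryTheory CategoryTheory.Limits AlgebraicGeometry in
/-- Let k be an algebraically closed field of characteristic zero and n odd. Then there is a
monomorphism of O-modules O(−1) → Ω^1 ⊗ O(1) on P^n_k (Ω^1 the sheaf of differentials of P^n_k over
k) whose cokernel is finite locally free of rank n − 1; dually, a bundle epimorphism T(−1) → O(1)
whose kernel is a null-correlation bundle. The published statement also gives the total Chern class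
1 + h^2 + ⋯ + h^{n−1} of the null-correlation bundle; this row does not state it. -/
theorem result (k : Type u) [Field k] [IsAlgClosed k] [CharZero k]
    (n : ℕ) (hn : Odd n) :
    ∃ u : Twist.twistProjSpace n k (-1) ⟶
        CohB1.tensorMod (Omega.sheaf (CohB1.ProjSpace.toSpec n k)) (Twist.twistProjSpace n k 1),
      Mono u ∧ FlatMod.IsFinLocFreeOfRank (n - 1) (cokernel u) := by
  obtain ⟨d, rfl⟩ := hn
  let σ : Fin (2 * d + 1 + 1) → Fin (2 * d + 1 + 1) := fun i =>
    ⟨if i.val % 2 = 0 then i.val + 1 else i.val - 1, by split_ifs <;> omega⟩
  let s : Fin (2 * d + 1 + 1) → ℤ := fun i => if i.val % 2 = 0 then 1 else -1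
  have hp : ∀ i, (σ i).val % 2 = if i.val % 2 = 0 then 1 else 0 := fun i => by
    simp only [σ]; split_ifs <;> omega
  exact Groth.PnEuler.exists_nullCorrelation (m := 2 * d) σ s
    (fun i => Fin.ext (by simp only [σ]; split_ifs <;> omega))
    (fun i h => by have := congrArg Fin.val h; simp only [σ] at this; split_ifs at this <;> omega)
    (fun i => by simp only [s, hp i]; split_ifs <;> simp_all)
    (fun i => by simp only [s]; split_ifs <;> simp)

end Groth.Agent.S11507
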