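import Groth.Statements.S11508
import Groth.Agent.PnEuler.OmegaTwist
-- import your own Groth.Agent.* helpers here

set_option autoImplicit false
universe u
open VBPn

namespace Groth.Agent.S11508

open CategoryTheory CategoryTheory.Limits AlgebraicGeometry in
/-- Let k be an algebraically closed field of characteristic zero and u : O(−1) → Ω^1 ⊗ O(1) a
monomorphism of O-modules on P^n_k whose cokernel M is finite locally free of rank n − 1, so that M
is the dual of a null-correlation bundle N = ker(T(−1) → O(1)). Then every endomorphism of M is a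
homothety (its underlying map of abelian sheaves is multiplication by a scalar in k); equivalently N
is simple. The published argument is for N itself; this row is its dual form. -/
theorem result (k : Type u) [Field k] [IsAlgClosed k] [CharZero k] (n : ℕ)
    (u : Twist.twistProjSpace n k (-1) ⟶
      CohB1.tensorMod (Omega.sheaf (CohB1.ProjSpace.toSpec n k)) (Twist.twistProjSpace n k 1))
    [Mono u] (hM : FlatMod.IsFinLocFreeOfRank (n - 1) (cokernel u)) (φ : cokernel u ⟶ cokernel u) :
    ∃ c : k, (SheafOfModules.toSheaf (CohB1.ProjSpace n k).ringCatSheaf).map φ =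
      Coh.smulAb (cokernel u) (Coh.toGlobal (CohB1.ProjSpace.toSpec n k) c) := by
  haveI : HasExt.{u} (CohB1.ProjSpace n k).Modules := hasExt_of_enoughInjectives _
  let S : ShortComplex (CohB1.ProjSpace n k).Modules := ShortComplex.mk u (cokernel.π u) (cokernel.condition u)
  have hS : S.ShortExact :=
    { exact := ShortComplex.exact_of_g_is_cokernel _ (cokernelIsCokernel u) }
  obtain ⟨y, hy⟩ := Abelian.Ext.covariant_sequence_exact₃ S.X₂ hS (Abelian.Ext.mk₀ (cokernel.π u ≫ φ))
    (show 0 + 1 = 1 from rfl) (Groth.PnEuler.ext_omegaOne_eq_zero _)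
  obtain ⟨ψ, rfl⟩ := (Abelian.Ext.mk₀_bijective _ _).2 y
  rw [Abelian.Ext.mk₀_comp_mk₀] at hy
  have hy' : ψ ≫ cokernel.π u = cokernel.π u ≫ φ := (Abelian.Ext.mk₀_bijective _ _).1 hy
  obtain ⟨c, hc⟩ := Groth.PnEuler.exists_eq_scalar_omegaOne ψ
  refine ⟨c, ?_⟩
  rw [hc, Groth.PnEuler.scalar_comp, cancel_epi] at hy'
  rw [← hy', Groth.PnEuler.toSheaf_map_scalar]

end Groth.Agent.S11508
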