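import Groth.Statements.S11509
import Groth.Agent.PnEuler.OmegaTwist
import Groth.Agent.SerreH0.Basic
-- import your own Groth.Agent.* helpers here

set_option autoImplicit false
universe u
open VBPn

namespace Groth.Agent.S11509

open CategoryTheory CategoryTheory.Limits AlgebraicGeometry in
/-- Let k be an algebraically closed field of characteristic zero and u : O(−1) → Ω^1 ⊗ O(1) a
monomorphism of O-modules on P^3_k whose cokernel M is finite locally free of rank 2 (M is the dual
N^* of a null-correlation bundle N, and N ≅ N^* as c_1(N) = 0). Then H^0(P^3_k, M) = 0. The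
published statement says that the null-correlation bundle N is stable; this row states H^0(N^*) = 0,
which is equivalent since N ≅ N^* and c_1(N) = 0. -/
theorem result (k : Type u) [Field k] [IsAlgClosed k] [CharZero k]
    (u : Twist.twistProjSpace 3 k (-1) ⟶
      CohB1.tensorMod (Omega.sheaf (CohB1.ProjSpace.toSpec 3 k)) (Twist.twistProjSpace 3 k 1))
    [Mono u] (hM : FlatMod.IsFinLocFreeOfRank 2 (cokernel u)) :
    Subsingleton (Coh.HH (CohB1.ProjSpace 3 k) (cokernel u) 0) := by
  let f := CohB1.ProjSpace.toSpec 3 k
  let S : ShortComplex (CohB1.ProjSpace 3 k).Modules := ShortComplex.mk u (cokernel.π u) (cokernel.condition u)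
  have hS : S.ShortExact :=
    { exact := ShortComplex.exact_of_g_is_cokernel _ (cokernelIsCokernel u) }
  haveI : Subsingleton (CohFin.HA f S.X₁ 1) :=
    Groth.PnCoh.subsingleton_HH_twist (n := 3) (R := k) (-1) 1 (by omega) (by omega)
  haveI : Subsingleton (CohFin.HA f S.X₂ 0) := by
    by_contra h
    obtain ⟨σ, hσ⟩ := (Groth.SerreH0.sections_ne_zero_iff _).1 h
    exact hσ (Groth.PnEuler.hom_structure_omegaOne_eq_zero σ)
  refine subsingleton_of_forall_eq (0 : CohFin.HA f S.X₃ 0) fun x => ?_
  obtain ⟨y, rfl⟩ := (CohFin.exact_mapL_delta (f := f) hS 0 x).1 (Subsingleton.elim _ _)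
  rw [Subsingleton.elim y 0, map_zero]

end Groth.Agent.S11509
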