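import Groth.Statements.S11518
import Groth.Agent.PnEuler.Tango
-- import your own Groth.Agent.* helpers here

set_option autoImplicit false
universe u
open VBPn

namespace Groth.Agent.S11518

open CategoryTheory CategoryTheory.Limits AlgebraicGeometry in
/-- Let k be an algebraically closed field of characteristic zero. For every n there is a finite locally
free O-module F of rank n − 1 on P^n_k which is simple, i.e. every endomorphism of F is a homothety
(its underlying map of abelian sheaves is multiplication by a scalar in k); in particular F is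
indecomposable. (For n ≤ 2 the assertion is trivial. The published statement also gives the total
Chern class (1 − 2h)/(1 − h)^{n+1}; this row does not state it.) -/
theorem result (k : Type u) [Field k] [IsAlgClosed k] [CharZero k] (n : ℕ) :
    ∃ F : (CohB1.ProjSpace n k).Modules, FlatMod.IsFinLocFreeOfRank (n - 1) F ∧
      ∀ φ : F ⟶ F, ∃ c : k, (SheafOfModules.toSheaf (CohB1.ProjSpace n k).ringCatSheaf).map φ =
        Coh.smulAb F (Coh.toGlobal (CohB1.ProjSpace.toSpec n k) c) := by
  rcases n with _ | m
  · refine ⟨FlatMod.freeMod (CohB1.ProjSpace 0 k) 0, Groth.LocFree.isFinLocFreeOfRank_freeMod _ 0,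
      fun φ => ⟨1, ?_⟩⟩
    rw [map_one, Coh.smulAb_one, show φ = 𝟙 _ from Sigma.hom_ext _ _ fun i => i.elim0]
    exact (SheafOfModules.toSheaf (CohB1.ProjSpace 0 k).ringCatSheaf).map_id _
  · refine ⟨kernel (Groth.Tango.wr m k), Groth.Tango.isFinLocFreeOfRank_kernel, fun φ => ?_⟩
    obtain ⟨c, rfl⟩ := Groth.Tango.exists_eq_scalar_kernel φ
    exact ⟨c, Groth.PnEuler.toSheaf_map_scalar c _⟩

end Groth.Agent.S11518
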