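import Groth.Statements.S11519
import Groth.Agent.PnEuler.OmegaTwist
import Groth.Agent.LocFree.Rank
import Groth.Agent.PnCoh.GlobalFun

set_option autoImplicit false
universe u
open VBPn

namespace Groth.Agent.S11519

open CategoryTheory CategoryTheory.Limits AlgebraicGeometry in
/-- Let k be an algebraically closed field of characteristic zero and a, a' : O(−1) → Ω^1 ⊗ O(1) two
bundle monomorphisms of O-modules on P^3_k, i.e. monomorphisms whose cokernels E, E' are finite
locally free of rank 2 (null-correlation bundles up to duality). Then E ≅ E' if and only if a' = c·a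
for a nonzero constant c ∈ k: the underlying map of abelian sheaves of a' equals that of a followed
by multiplication by c on Ω^1 ⊗ O(1). -/
theorem result (k : Type u) [Field k] [IsAlgClosed k] [CharZero k]
    (a a' : Twist.twistProjSpace 3 k (-1) ⟶
      CohB1.tensorMod (Omega.sheaf (CohB1.ProjSpace.toSpec 3 k)) (Twist.twistProjSpace 3 k 1))
    [Mono a] [Mono a'] (hE : FlatMod.IsFinLocFreeOfRank 2 (cokernel a)) (hE' : FlatMod.IsFinLocFreeOfRank 2 (cokernel a')) :
    Nonempty (cokernel a ≅ cokernel a') ↔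
      ∃ c : k, c ≠ 0 ∧ (SheafOfModules.toSheaf (CohB1.ProjSpace 3 k).ringCatSheaf).map a' =
        (SheafOfModules.toSheaf (CohB1.ProjSpace 3 k).ringCatSheaf).map a ≫
          Coh.smulAb (CohB1.tensorMod (Omega.sheaf (CohB1.ProjSpace.toSpec 3 k)) (Twist.twistProjSpace 3 k 1))
            (Coh.toGlobal (CohB1.ProjSpace.toSpec 3 k) c) := by
  classical
  haveI : HasExt.{u} (CohB1.ProjSpace 3 k).Modules := hasExt_of_enoughInjectives _
  let X := CohB1.ProjSpace 3 k
  let sc := fun (c : k) (M : X.Modules) => Groth.HilbStab.scalar (Groth.PnEuler.scal ⊤ c) M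
  have hmul : ∀ (c c' : k) (M : X.Modules), sc c M ≫ sc c' M = sc (c' * c) M := fun c c' M =>
    Groth.CohTwo.hom_ext_app fun U m => by
      change (Groth.HilbStab.scalar (Groth.PnEuler.scal ⊤ c') M).app U
          ((Groth.HilbStab.scalar (Groth.PnEuler.scal ⊤ c) M).app U m) =
        (Groth.HilbStab.scalar (Groth.PnEuler.scal ⊤ (c' * c)) M).app U m
      rw [Groth.PnEuler.scalar_scal_app, Groth.PnEuler.scalar_scal_app, Groth.PnEuler.scalar_scal_app,
        map_mul, mul_smul]
  have hone : ∀ M : X.Modules, sc 1 M = 𝟙 M := fun M => Groth.CohTwo.hom_ext_app fun U m => by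
    refine (Groth.PnEuler.scalar_scal_app (1 : k) M U m).trans ?_
    rw [map_one, one_smul]
    rfl
  have hzero : ∀ M : X.Modules, sc 0 M = 0 := fun M => Groth.CohTwo.hom_ext_app fun U m => by
    refine (Groth.PnEuler.scalar_scal_app (0 : k) M U m).trans ?_
    rw [map_zero, zero_smul]
    rfl
  have hiso : ∀ (c : k) (M : X.Modules), c ≠ 0 → IsIso (sc c M) := fun c M hc =>
    ⟨sc c⁻¹ M, by rw [hmul, inv_mul_cancel₀ hc, hone], by rw [hmul, mul_inv_cancel₀ hc, hone]⟩
  have hne : Nonempty X := by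
    by_contra h
    rw [not_nonempty_iff] at h
    have hb : (⊤ : X.Opens) = ⊥ := SetLike.coe_injective (Subsingleton.elim _ _)
    haveI : Subsingleton Γ(X, ⊥) := inferInstance
    haveI : Subsingleton Γ(X, ⊤) := hb ▸ this
    exact one_ne_zero (α := k) ((Groth.PnCoh.toGlobal_bijective 3 k).1 (Subsingleton.elim (α := Γ(X, ⊤)) _ _))
  obtain ⟨pt⟩ := hne
  have hzero_rank : ∀ M : X.Modules, IsZero M → FlatMod.IsFinLocFreeOfRank 0 M := fun M hM => by
    refine Groth.LocFree.isFinLocFreeOfRank_of_basis (s := fun i : Fin 0 => i.elim0) fun V _ => ?_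
    have hs : ∀ z : Γ(M, V), z = 0 := fun z =>
      congr($((IsZero.iff_id_eq_zero M).1 hM).app V z)
    exact ⟨fun a b _ => Subsingleton.elim a b, fun z => ⟨0, by simp [hs z]⟩⟩
  constructor
  · rintro ⟨φ⟩
    let S : ShortComplex X.Modules := ShortComplex.mk a' (cokernel.π a') (cokernel.condition a')
    have hS : S.ShortExact :=
      { exact := ShortComplex.exact_of_g_is_cokernel _ (cokernelIsCokernel a') }
    obtain ⟨y, hy⟩ := Abelian.Ext.covariant_sequence_exact₃ S.X₂ hS
      (Abelian.Ext.mk₀ (cokernel.π a ≫ φ.hom)) (show 0 + 1 = 1 from rfl)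
      (Groth.PnEuler.ext_omegaOne_eq_zero _)
    obtain ⟨ψ, rfl⟩ := (Abelian.Ext.mk₀_bijective _ _).2 y
    rw [Abelian.Ext.mk₀_comp_mk₀] at hy
    have hy' : ψ ≫ cokernel.π a' = cokernel.π a ≫ φ.hom := (Abelian.Ext.mk₀_bijective _ _).1 hy
    obtain ⟨c, rfl⟩ := Groth.PnEuler.exists_eq_scalar_omegaOne ψ
    have hc : c ≠ 0 := by
      rintro rfl
      have h0 : cokernel.π a ≫ φ.hom = 0 := by
        rw [← hy']
        exact (congrArg (· ≫ cokernel.π a') (hzero _)).trans zero_comp
      have hz : IsZero (cokernel a) := (IsZero.iff_id_eq_zero _).2 (by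
        rw [← φ.hom_inv_id, zero_of_epi_comp (cokernel.π a) h0, zero_comp])
      have h2 := Groth.LocFree.rank_unique (hzero_rank _ hz) hE pt
      omega
    obtain ⟨t, ht⟩ : ∃ t : Twist.twistProjSpace 3 k (-1) ⟶ Twist.twistProjSpace 3 k (-1),
        t ≫ a' = a ≫ sc c _ := by
      refine ⟨_, hS.fIsKernel.fac (KernelFork.ofι (a ≫ sc c _) ?_) WalkingParallelPair.zero⟩
      change (a ≫ sc c _) ≫ cokernel.π a' = 0
      rw [Category.assoc, hy', ← Category.assoc, cokernel.condition, zero_comp]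
    obtain ⟨r, hr⟩ := Groth.PnEuler.exists_hom_twist_eq_scal (-1) t
    have ht' : t = sc r _ := Groth.CohTwo.hom_ext_app fun U m => by
      rw [hr]
      exact (Groth.PnEuler.scalar_scal_app r _ U m).symm
    subst ht'
    rw [Groth.PnEuler.scalar_comp] at ht
    have hr0 : r ≠ 0 := by
      rintro rfl
      rw [show Groth.HilbStab.scalar (Groth.PnEuler.scal ⊤ (0 : k)) _ = _ from hzero _, comp_zero] at ht
      haveI := hiso c (CohB1.tensorMod (Omega.sheaf (CohB1.ProjSpace.toSpec 3 k)) (Twist.twistProjSpace 3 k 1)) hc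
      have ha : a = 0 := (cancel_mono (sc c _)).1 (ht.symm.trans zero_comp.symm)
      have h1 : 𝟙 (Twist.twistProjSpace 3 k (-1)) = 0 := (cancel_mono a).1 (by simp [ha])
      have hz : IsZero (Twist.twistProjSpace 3 k (-1)) := (IsZero.iff_id_eq_zero _).2 h1
      have h2 := Groth.LocFree.rank_unique (hzero_rank _ hz)
        (Groth.LocFree.isInvertible_iff_ofRank_one.1 (Groth.PnCoh.isInvertible_twist 3 k (-1))) pt
      omega
    refine ⟨r⁻¹ * c, mul_ne_zero (inv_ne_zero hr0) hc, ?_⟩
    have h : a' = a ≫ sc (r⁻¹ * c) _ := by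
      rw [← hmul, ← Category.assoc, ← show a' ≫ sc r _ = a ≫ sc c _ from ht, Category.assoc, hmul,
        inv_mul_cancel₀ hr0, hone, Category.comp_id]
    rw [h]
    exact ((SheafOfModules.toSheaf _).map_comp _ _).trans
      (congrArg (_ ≫ ·) (Groth.PnEuler.toSheaf_map_scalar _ _))
  · rintro ⟨c, hc, h⟩
    have h' : a' = a ≫ sc c _ := (SheafOfModules.toSheaf X.ringCatSheaf).map_injective (by
      refine h.trans ?_
      exact (((SheafOfModules.toSheaf _).map_comp _ _).trans
        (congrArg (_ ≫ ·) (Groth.PnEuler.toSheaf_map_scalar _ _))).symm)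
    subst h'
    haveI := hiso c (CohB1.tensorMod (Omega.sheaf (CohB1.ProjSpace.toSpec 3 k)) (Twist.twistProjSpace 3 k 1)) hc
    exact ⟨(cokernelCompIsIso a (sc c _)).symm⟩

end Groth.Agent.S11519
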