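import Groth.Statements.S11523
-- import your own Groth.Agent.* helpers here
import Mathlib.CategoryTheory.Abelian.Exact
import Mathlib.CategoryTheory.Simple
import Mathlib.CategoryTheory.Subobject.ArtinianObject
import Mathlib.CategoryTheory.Subobject.NoetherianObject
import Mathlib.CategoryTheory.Adjunction.Limits
import Mathlib.CategoryTheory.Adjunction.FullyFaithful

set_option autoImplicit false
universe v u v' u'
open CategoryTheory CategoryTheory.Limits
open PervT

namespace Groth.Agent.S11523

theorem vanish {A : Type u} [Category.{v} A] [Abelian A] {B : Type u'} [Category.{v'} B] [Abelian B]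
    (u : A ⥤ B) [PreservesFiniteLimits u] [PreservesFiniteColimits u]
    (hlen : ∀ X : A, IsArtinianObject X ∧ IsNoetherianObject X)
    (hsimple : ∀ X : A, Simple X → Simple (u.obj X)) {K : B} {X : A} (k : K ⟶ u.obj X) [Mono k]
    (hK : ∀ (X' : A) (f : u.obj X' ⟶ K), f = 0) : IsZero K := by
  haveI := (hlen X).2
  let P : Set (Subobject X) := {T | Mono (k ≫ u.map (cokernel.π T.arrow))}
  have hne : P.Nonempty := by
    refine ⟨⊥, ?_⟩
    haveI : IsIso (cokernel.π (⊥ : Subobject X).arrow) := by
      have : ∀ {W : A} (f : W ⟶ X), f = 0 → IsIso (cokernel.π f) := by rintro W f rfl; infer_instance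
      exact this _ Subobject.bot_arrow
    exact mono_comp k _
  obtain ⟨T, hT, hmax⟩ := (wellFounded_gt : WellFounded ((· > ·) : Subobject X → _ → Prop)).has_min P hne
  haveI hT' : Mono (k ≫ u.map (cokernel.π T.arrow)) := hT
  by_cases hQ : IsZero (cokernel T.arrow)
  · exact IsZero.of_mono (k ≫ u.map (cokernel.π T.arrow)) (u.map_isZero hQ)
  exfalso
  haveI := (hlen (cokernel T.arrow)).1
  obtain ⟨Y, hY⟩ := exists_simple_subobject hQ
  haveI := hY
  haveI := hsimple _ hY
  let i := Y.arrow
  let π₂ := cokernel.π i
  let c := cokernel.π T.arrow ≫ π₂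
  have hmono : Mono (k ≫ u.map c) := by
    rw [Preadditive.mono_iff_cancel_zero]
    intro N g hg
    let S : ShortComplex A := ShortComplex.mk i π₂ (cokernel.condition i)
    have hS : (S.map u).Exact := (ShortComplex.exact_cokernel i).map u
    haveI : Mono (S.map u).f := inferInstanceAs (Mono (u.map i))
    let g' := kernel.lift (k ≫ u.map c) g hg
    suffices h : kernel.ι (k ≫ u.map c) = 0 by
      rw [← kernel.lift_ι (k ≫ u.map c) g hg, h, comp_zero]
    obtain ⟨l, hl⟩ : ∃ l, l ≫ u.map i = kernel.ι (k ≫ u.map c) ≫ k ≫ u.map (cokernel.π T.arrow) := by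
      have h0 : (kernel.ι (k ≫ u.map c) ≫ k ≫ u.map (cokernel.π T.arrow)) ≫ (S.map u).g = 0 := by
        show (_ ≫ _ ≫ _) ≫ u.map π₂ = 0
        rw [Category.assoc, Category.assoc, ← u.map_comp]
        exact kernel.condition (k ≫ u.map c)
      exact ⟨_, hS.lift_f _ h0⟩
    haveI : Mono l := by
      haveI : Mono (l ≫ u.map i) := by rw [hl]; infer_instance
      exact mono_of_mono l (u.map i)
    by_cases hl0 : l = 0
    · rw [hl0, zero_comp, ← zero_comp (f := k ≫ u.map (cokernel.π T.arrow)), cancel_mono] at hl
      exact hl.symm
    · haveI := isIso_of_mono_of_nonzero hl0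
      have := hK _ (inv l ≫ kernel.ι (k ≫ u.map c))
      simpa using congrArg (l ≫ ·) this
  apply hmax (Subobject.mk (kernel.ι c)) (by
    show Mono _
    haveI := hmono
    have hz : (Subobject.mk (kernel.ι c)).arrow ≫ c = 0 := by
      rw [← Subobject.underlyingIso_hom_comp_eq_mk (kernel.ι c), Category.assoc, kernel.condition, comp_zero]
    haveI : Mono ((k ≫ u.map (cokernel.π (Subobject.mk (kernel.ι c)).arrow)) ≫ u.map (cokernel.desc _ c hz)) := by
      rw [Category.assoc, ← u.map_comp, cokernel.π_desc]; exact hmono
    exact mono_of_mono _ (u.map (cokernel.desc _ c hz)))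
  refine lt_of_le_not_ge ?_ ?_
  · exact Subobject.le_mk_of_comm (kernel.lift c T.arrow (by simp [c])) (kernel.lift_ι _ _ _)
  · intro hle
    let q := pullback.snd (cokernel.π T.arrow) i
    have hf : pullback.fst (cokernel.π T.arrow) i ≫ c = 0 := by
      show _ ≫ _ ≫ _ = 0
      rw [pullback.condition_assoc, cokernel.condition, comp_zero]
    have h1 : kernel.ι c ≫ cokernel.π T.arrow = 0 := by
      rw [← Subobject.ofMkLE_arrow hle, Category.assoc, cokernel.condition, comp_zero]
    have h2 : q ≫ i = 0 := by
      rw [← pullback.condition, ← kernel.lift_ι c _ hf, Category.assoc, h1, comp_zero]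
    have h3 : i = 0 := by rw [← cancel_epi q, h2, comp_zero]
    exact Simple.not_isZero (Y : A) (IsZero.of_mono_eq_zero i h3)

/-- Let `u : A ⥤ B` be a fully faithful exact functor of abelian categories admitting a left adjoint and
a right adjoint `uStar`. Suppose every object of `A` has finite length (it is both an artinian and a
noetherian object) and that `u` sends simple objects to simple objects. Then for every object `Y` of
`B` the counit `u (uStar Y) ⟶ Y` of the adjunction `u ⊣ uStar` is a monomorphism. (The published
statement also lists two further conditions equivalent to this one: that for every object `Y` of `B`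
the unit `Y ⟶ u (L Y)` of the adjunction `L ⊣ u` of the left adjoint `L` is an epimorphism, and that
the essential image of `u` is stable under subobjects and quotients; this row states only the counit
condition.) -/
theorem result {A : Type u} [Category.{v} A] [Abelian A] {B : Type u'} [Category.{v'} B] [Abelian B]
    (u : A ⥤ B) [u.Full] [u.Faithful] [PreservesFiniteLimits u] [PreservesFiniteColimits u] [u.IsRightAdjoint]
    (uStar : B ⥤ A) (adj : u ⊣ uStar)
    (hlen : ∀ X : A, IsArtinianObject X ∧ IsNoetherianObject X)
    (hsimple : ∀ X : A, Simple X → Simple (u.obj X)) (Y : B) :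
    Mono (adj.counit.app Y) := by
  haveI : u.Additive := Functor.additive_of_preserves_binary_products u
  haveI : PreservesLimitsOfSize.{0, 0} uStar := adj.rightAdjoint_preservesLimits
  haveI : IsIso (uStar.map (adj.counit.app Y)) := by
    have := adj.right_triangle_components Y
    exact IsIso.of_isIso_fac_left this
  refine Preadditive.mono_of_kernel_iso_zero (IsZero.isoZero (vanish u hlen hsimple (kernel.ι (adj.counit.app Y)) ?_))
  intro X' f
  apply (adj.homEquiv _ _).injective
  rw [← cancel_mono (uStar.map (kernel.ι (adj.counit.app Y))),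
    ← cancel_mono (uStar.map (adj.counit.app Y))]
  simp only [Category.assoc, ← uStar.map_comp, kernel.condition, Functor.map_zero, comp_zero]

end Groth.Agent.S11523
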