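import Groth.Statements.S11532
import Groth.Agent.TopFinType.Flatness
-- import your own Groth.Agent.* helpers here

set_option autoImplicit false
universe u
open scoped TensorProduct
open AdicRing

namespace Groth.Agent.S11532

/-- Let R be a base ring of class (N) or (V) for the ideal I, A → B a morphism of R-algebras
topologically of finite type and M a finite B-module. Then M is a faithfully flat A-module exactly
when, for every n, writing A_n = A/I^(n+1)A, the module A_n ⊗_A M is faithfully flat over A_n. -/
theorem result
    (R : Type u) [CommRing R] (I : Ideal R) (hR : AdicRing.IsBase R I)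
    (A : Type u) [CommRing A] [Algebra R A] (hA : AdicRing.TopFiniteType R I A)
    (B : Type u) [CommRing B] [Algebra R B] [Algebra A B] [IsScalarTower R A B]
    (hB : AdicRing.TopFiniteType R I B)
    (M : Type u) [AddCommGroup M] [Module B M] [Module A M] [IsScalarTower A B M]
    [Module.Finite B M] :
    Module.FaithfullyFlat A M ↔
      ∀ n : ℕ, Module.FaithfullyFlat (AdicRing.trunc A I n) ((AdicRing.trunc A I n) ⊗[A] M) := by
  refine ⟨fun h n => by haveI := h; infer_instance, fun h => ?_⟩
  haveI : Module.Flat A M := Groth.TopFinType.flat_of_trunc hR hA hB fun n => (h n).toFlat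
  refine ⟨fun m hm htop => ?_⟩
  set q := (I ^ (0 + 1)).map (algebraMap R A) with hq
  have hqm : q ≤ m := (Ideal.map_mono (Ideal.pow_le_self (by simp))).trans
    (Groth.TopFinType.le_of_isMaximal hR hA hm)
  have hmax : (m.map (Ideal.Quotient.mk q)).IsMaximal := by
    refine (Ideal.map_eq_top_or_isMaximal_of_surjective _ Ideal.Quotient.mk_surjective hm).resolve_left fun ht => ?_
    have h1 := congrArg (Ideal.comap (Ideal.Quotient.mk q)) ht
    rw [Ideal.comap_map_of_surjective _ Ideal.Quotient.mk_surjective, Ideal.comap_top,
      ← RingHom.ker_eq_comap_bot, Ideal.mk_ker, sup_of_le_left hqm] at h1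
    exact hm.ne_top h1
  refine (h 0).submodule_ne_top hmax (eq_top_iff.2 fun z _ => ?_)
  induction z using TensorProduct.induction_on with
  | zero => exact Submodule.zero_mem _
  | add x y hx hy => exact Submodule.add_mem _ (hx trivial) (hy trivial)
  | tmul a x =>
    have hx : x ∈ m • (⊤ : Submodule A M) := htop.ge Submodule.mem_top
    refine Submodule.smul_induction_on hx (fun c hc y _ => ?_) (fun y y' hy hy' => ?_)
    · rw [TensorProduct.tmul_smul, ← algebraMap_smul (AdicRing.trunc A I 0) c]
      exact Submodule.smul_mem_smul (Ideal.mem_map_of_mem _ hc) Submodule.mem_top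
    · rw [TensorProduct.tmul_add]
      exact Submodule.add_mem _ hy hy'

end Groth.Agent.S11532
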