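import Groth.Statements.S1154
import Groth.Agent.PicAux.InsepDescent
import Groth.Agent.PicAux.KummerCover

set_option autoImplicit false
open CategoryTheory CategoryTheory.Limits AlgebraicGeometry Opposite
universe u
open PicF

namespace Groth.Agent.S1154

open AlgebraicGeometry in
theorem nonempty_iso_of_cl {Y : Scheme.{u}} {L M : Y.Modules} (h : PicF.cl L = PicF.cl M) :
    Nonempty (L ≅ M) := by
  have h' := Quot.eqvGen_exact h
  induction h' with
  | rel _ _ hr => exact hr
  | refl _ => exact ⟨CategoryTheory.Iso.refl _⟩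
  | symm _ _ hr ih => exact ⟨(ih (Quot.eqvGen_sound hr)).some.symm⟩
  | trans _ _ _ h₁ h₂ ih₁ ih₂ =>
    exact ⟨(ih₁ (Quot.eqvGen_sound h₁)).some ≪≫ (ih₂ (Quot.eqvGen_sound h₂)).some⟩

open AlgebraicGeometry CategoryTheory CategoryTheory.Limits TopologicalSpace in
open Groth.PicAux Groth.PicAux.InsepDescent in
theorem exists_descent (k k' : Type u) [Field k] [Field k'] [Algebra k k'] [IsPurelyInseparable k k']
    (p : ℕ) [ExpChar k p] {X : Scheme.{u}} (f : X ⟶ Spec (CommRingCat.of k)) [CompactSpace X]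
    [QuasiSeparatedSpace X] (n : ℕ)
    {L : (pullback f (Spec.map (CommRingCat.ofHom (algebraMap k k')))).Modules}
    (hL : PicF.IsInvertible L)
    (e : CohB1.tensorPow L n ≅ Coh.structureModule _) :
    ∃ (E : ℕ) (M : X.Modules), PicF.IsInvertible M ∧
      Nonempty (CohB1.tensorPow M n ≅ Coh.structureModule X) ∧
      Nonempty ((Scheme.Modules.pullback (proj k k' f)).obj M ≅ CohB1.tensorPow L (p ^ E)) := by
  classical
  obtain ⟨V, s, -, hyV, hs⟩ := exists_gen_cover hL
  choose y hy using (proj k k' f).surjective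
  choose U hU hxU hUV using fun x => exists_open_preimage_le k k' f x (V (y x)) (y x) (hy x) (hyV _)
  obtain ⟨t, ht⟩ := isCompact_univ.elim_finite_subcover (fun x => (U x : Set X))
    (fun x => (U x).isOpen) fun x _ => Set.mem_iUnion.2 ⟨x, hxU x⟩
  have hcov : iSup (fun a : t => U a) = ⊤ := eq_top_iff.2 fun x _ => by
    obtain ⟨i, hi⟩ := Set.mem_iUnion.1 (ht (Set.mem_univ x))
    obtain ⟨hit, hxi⟩ := Set.mem_iUnion.1 hi
    exact Opens.mem_iSup.2 ⟨⟨i, hit⟩, hxi⟩
  let π := proj k k' f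
  have hcov' : iSup (fun a : t => π ⁻¹ᵁ U a) = ⊤ := eq_top_iff.2 fun x _ => by
    obtain ⟨a, ha⟩ := Opens.mem_iSup.1 (hcov.symm ▸ trivial : π x ∈ iSup (fun a : t => U a))
    exact Opens.mem_iSup.2 ⟨a, ha⟩
  let σ : ∀ a : t, Γ(L, π ⁻¹ᵁ U a) := fun a => res L (hUV a) (s (y a))
  have hσ : ∀ a : t, Gen L (π ⁻¹ᵁ U a) (σ a) := fun a => (hs (y a)).res (hUV a)
  choose g hg using fun a b : t => (hσ b).exists_coeff
    (π.preimage_mono (inf_le_right : (U a : X.Opens) ⊓ U b ≤ U b))
    (res L (π.preimage_mono (inf_le_left : (U a : X.Opens) ⊓ U b ≤ U a)) (σ a))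
  have hgu : ∀ a b : t, IsUnit (g a b) := fun a b => by
    refine ((hσ b).res (π.preimage_mono inf_le_right)).isUnit_of_smul ?_
    rw [← hg a b]
    exact (hσ a).res _
  let w : ∀ a : t, Γ(pullback f (Spec.map (CommRingCat.ofHom (algebraMap k k'))), π ⁻¹ᵁ U a) :=
    fun a => toFun (e.hom.app _ (powSec (σ a) n))
  have hw : ∀ a : t, IsUnit (w a) := fun a => isUnit_toFun_of_gen (((hσ a).pow n).map e.hom)
  have hwg : ∀ a b : t, resX _ (π.preimage_mono (inf_le_left : (U a : X.Opens) ⊓ U b ≤ U a)) (w a) =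
      g a b ^ n * resX _ (π.preimage_mono (inf_le_right : (U a : X.Opens) ⊓ U b ≤ U b)) (w b) := by
    intro a b
    have h := congrArg (fun z => toFun (e.hom.app _ (powSec z n))) (hg a b)
    simp only [powSec_smul, ← res_powSec, Scheme.Modules.Hom.app_smul, toFun_smul] at h
    rw [app_res e.hom, app_res e.hom, toFun_res, toFun_res] at h
    exact h
  have hc : ∀ a b : t, IsCompact (((U a : X.Opens) ⊓ U b : X.Opens) : Set X) := fun a b =>
    QuasiSeparatedSpace.inter_isCompact _ _ (U a).isOpen (hU a).isCompact (U b).isOpen (hU b).isCompact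
  choose E₁ hE₁ using fun ab : t × t => exists_pow k k' p f (hc ab.1 ab.2) (g ab.1 ab.2)
  choose E₂ hE₂ using fun a : t => exists_pow k k' p f (hU a).isCompact (w a)
  let E := max (Finset.univ.sup E₁) (Finset.univ.sup E₂)
  have hη' : ∀ a b, ∃ η, π.app _ η = g a b ^ p ^ E := fun a b => by
    obtain ⟨d, hd⟩ := Nat.le.dest ((Finset.le_sup (f := E₁) (Finset.mem_univ (a, b))).trans
      (le_max_left _ (Finset.univ.sup E₂)))
    have := pow_mem_mono p (π.app ((U a : X.Opens) ⊓ U b)) (hE₁ (a, b)) d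
    rwa [hd] at this
  choose η hη using hη'
  have hC' : ∀ a : t, ∃ c, π.app _ c = w a ^ p ^ E := fun a => by
    obtain ⟨d, hd⟩ := Nat.le.dest ((Finset.le_sup (f := E₂) (Finset.mem_univ a)).trans
      (le_max_right (Finset.univ.sup E₁) _))
    have := pow_mem_mono p (π.app (U a : X.Opens)) (hE₂ a) d
    rwa [hd] at this
  choose c hc' using hC'
  have hcu : ∀ a, IsUnit (c a) := fun a => isUnit_of_app_pow k k' p f (hU a).isCompact (hw a) (hc' a)
  have hηu : ∀ a b, IsUnit (η a b) := fun a b =>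
    isUnit_of_app_pow k k' p f (hc a b) (hgu a b) (hη a b)
  have hcη : ∀ a b : t, resX X (inf_le_left : (U a : X.Opens) ⊓ U b ≤ U a) (c a) =
      η a b ^ n * resX X (inf_le_right : (U a : X.Opens) ⊓ U b ≤ U b) (c b) := fun a b => by
    refine app_injective k k' f _ ?_
    rw [map_mul, map_pow, app_resX, app_resX]
    change resX _ _ (π.app _ (c a)) = π.app _ (η a b) ^ n * resX _ _ (π.app _ (c b))
    rw [hη, hc', hc', map_pow, map_pow, ← pow_mul, mul_comm (p ^ E) n, pow_mul, ← mul_pow, ← hwg]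
  have hcoc : ∀ a b d : t,
      resX X (inf_le_inf_right (U d) inf_le_left : (U a : X.Opens) ⊓ U b ⊓ U d ≤ U a ⊓ U d) (η a d) =
        resX X (inf_le_left : (U a : X.Opens) ⊓ U b ⊓ U d ≤ U a ⊓ U b) (η a b) *
          resX X (inf_le_inf_right (U d) inf_le_right : (U a : X.Opens) ⊓ U b ⊓ U d ≤ U b ⊓ U d)
            (η b d) := fun a b d => by
    refine app_injective k k' f _ ?_
    rw [map_mul, app_resX, app_resX, app_resX]
    change resX _ _ (π.app _ (η a d)) = resX _ _ (π.app _ (η a b)) * resX _ _ (π.app _ (η b d))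
    rw [hη, hη, hη, map_pow, map_pow, map_pow, ← mul_pow]
    congr 1
    refine (hσ d).smul_inj (π.preimage_mono (inf_le_right : (U a : X.Opens) ⊓ U b ⊓ U d ≤ U d)) ?_
    have h1 := congrArg (res L (π.preimage_mono
      (inf_le_inf_right (U d) inf_le_left : (U a : X.Opens) ⊓ U b ⊓ U d ≤ U a ⊓ U d))) (hg a d)
    have h2 := congrArg (res L (π.preimage_mono
      (inf_le_left : (U a : X.Opens) ⊓ U b ⊓ U d ≤ U a ⊓ U b))) (hg a b)
    have h3 := congrArg (res L (π.preimage_mono
      (inf_le_inf_right (U d) inf_le_right : (U a : X.Opens) ⊓ U b ⊓ U d ≤ U b ⊓ U d))) (hg b d)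
    simp only [res_smul, res_res] at h1 h2 h3
    rw [← h1, h2, mul_smul, ← h3]
  obtain ⟨M, τ, hτ, hMi, hτη⟩ := exists_module_of_cocycle (fun a : t => (U a : X.Opens)) η hcov hηu hcoc
  refine ⟨E, M, hMi, ?_, ?_⟩
  · obtain ⟨i, -⟩ := exists_iso_of_gen hcov (fun a => powSec (τ a) n) (fun a => (hτ a).pow n)
      (fun a => c a • oneSec X (U a)) (fun a => (gen_oneSec _).smul_unit (hcu a)) fun a b r hr => by
        rw [res_powSec, res_powSec, hτη, powSec_smul] at hr
        have hr' : η a b ^ n = r := ((hτ b).res inf_le_right).pow n |>.smul_inj le_rfl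
          (by simpa only [res_self] using hr)
        rw [res_smul, res_smul, res_oneSec, res_oneSec, ← mul_smul, hcη, hr']
    exact ⟨i⟩
  · obtain ⟨i, -⟩ := exists_iso_of_gen hcov' (fun a => pullSec π M (τ a)) (fun a => (hτ a).pull π)
      (fun a => powSec (σ a) (p ^ E)) (fun a => (hσ a).pow _) fun a b r hr => by
        have h1 := congrArg (pullSec π M) (hτη a b)
        rw [pullSec_smul, ← res_pullSec, ← res_pullSec, hη] at h1
        have hr' : g a b ^ p ^ E = r := ((hτ b).pull π).smul_inj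
          (π.preimage_mono (inf_le_right : (U a : X.Opens) ⊓ U b ≤ U b)) (h1.symm.trans hr)
        rw [← hr', res_powSec, res_powSec]
        exact (congrArg (fun z => powSec z (p ^ E)) (hg a b)).trans
          (powSec_smul (g a b) _ (p ^ E))
    exact ⟨i⟩

/-- Let k have characteristic p > 0, let X be quasi-compact and quasi-separated over k whose ring of
global functions is k itself (the structure morphism induces an isomorphism on global sections), let
n be prime to p and k'/k purely inseparable. Then every isomorphism class of invertible modules M on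
X_{k'} with M^n trivial is the pullback of such a class on X (injectivity of this pullback on
classes being a separate fact). -/
theorem result (k : Type u) [Field k] (p : ℕ) [Fact p.Prime] [CharP k p]
    (X : Scheme.{u}) (f : X ⟶ Spec (CommRingCat.of k)) [CompactSpace X] [QuasiSeparatedSpace X]
    (hH0 : IsIso f.appTop) (n : ℕ) (hn : ¬ p ∣ n) (k' : Type u) [Field k'] [Algebra k k'] [IsPurelyInseparable k k'] :
    ∀ d : PicF.Cl (pullback f (Spec.map (CommRingCat.ofHom (algebraMap k k')))), (PicF.IsInvertibleCl d ∧ ∃ M : ((pullback f (Spec.map (CommRingCat.ofHom (algebraMap k k'))))).Modules, PicF.cl M = d ∧ Nonempty (CohB1.tensorPow M n ≅ Coh.structureModule ((pullback f (Spec.map (CommRingCat.ofHom (algebraMap k k'))))))) →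
      ∃ c : PicF.Cl X, (PicF.IsInvertibleCl c ∧ ∃ M : (X).Modules, PicF.cl M = c ∧ Nonempty (CohB1.tensorPow M n ≅ Coh.structureModule (X))) ∧ PicF.pullCl (pullback.fst f (Spec.map (CommRingCat.ofHom (algebraMap k k')))) c = d := by
  classical
  have : ExpChar k p := .prime Fact.out
  rintro d ⟨⟨L₀, hL₀, hL₀i⟩, L, hL, ⟨e⟩⟩
  subst hL
  have hLi : PicF.IsInvertible L := Groth.PicAux.isInvertible_of_iso hL₀i (Classical.choice
    (nonempty_iso_of_cl hL₀))
  have hn0 : 0 < n := Nat.pos_of_ne_zero fun h => hn (h ▸ dvd_zero p)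
  obtain ⟨E, M, hM, ⟨eM⟩, ⟨eP⟩⟩ := exists_descent k k' p f n hLi e
  have hcop : Nat.Coprime (p ^ E) n :=
    Nat.Coprime.pow_left _ ((Nat.Prime.coprime_iff_not_dvd Fact.out).2 hn)
  obtain ⟨a, j, haj⟩ : ∃ a j, p ^ E * a = 1 + n * j := by
    have h1 : 1 ≤ (p ^ E) ^ n.totient := Nat.one_le_pow _ _ (pow_pos (Fact.out : p.Prime).pos _)
    obtain ⟨j, hj⟩ := (Nat.modEq_iff_dvd' h1).1 (Nat.ModEq.pow_totient hcop).symm
    exact ⟨(p ^ E) ^ (n.totient - 1), j, by
      rw [← pow_succ', Nat.sub_add_cancel (Nat.totient_pos.2 hn0)]; omega⟩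
  refine ⟨PicF.cl (CohB1.tensorPow M a),
    ⟨⟨_, rfl, Groth.PicAux.isInvertible_tensorPow hM a⟩, _, rfl, ⟨?_⟩⟩, Quot.sound ⟨?_⟩⟩
  · exact (Groth.PicAux.tensorPow_mul M a n).some.symm ≪≫ eqToIso (by rw [mul_comm]) ≪≫
      (Groth.PicAux.tensorPow_mul M n a).some ≪≫ (Groth.PicAux.nonempty_tensorPow_iso eM a).some ≪≫
      (Groth.PicAux.tensorPow_structure a).some
  · exact (Groth.PicAux.pullback_tensorPow _ M a).some ≪≫
      (Groth.PicAux.nonempty_tensorPow_iso eP a).some ≪≫
      (Groth.PicAux.tensorPow_mul L (p ^ E) a).some.symm ≪≫ eqToIso (by rw [haj]) ≪≫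
      (Groth.PicAux.tensorPow_add L 1 (n * j)).some ≪≫
      PicGrp.tensorModIso (Groth.PicAux.tensorPow_one L).some
        ((Groth.PicAux.tensorPow_mul L n j).some ≪≫ (Groth.PicAux.nonempty_tensorPow_iso e j).some ≪≫
          (Groth.PicAux.tensorPow_structure j).some) ≪≫ SecTwist.unitorR L

end Groth.Agent.S1154
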