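import Groth.Statements.S11544
import Groth.Agent.AdicLinTop.ValIntegral
import Mathlib.Algebra.GCDMonoid.IntegrallyClosed
import Mathlib.RingTheory.PrincipalIdealDomain
import Mathlib.RingTheory.Norm.Transitivity
import Mathlib.FieldTheory.Minpoly.IsIntegrallyClosed

set_option autoImplicit false
universe u
open AdicRing

namespace Groth.Agent.S11544

/-- Let R be a complete valuation ring of height one with t a nonzero element generating an ideal of
definition, K its field of fractions, L an algebraic extension field of K and α an element of L.
Then α is integral over R if and only if the norm of α from K(α) down to K lies in R. -/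
theorem result
    (R : Type u) [CommRing R] [IsDomain R] [ValuationRing R] [Ring.KrullDimLE 1 R]
    (t : R) (ht : t ≠ 0) [IsAdicComplete (Ideal.span {t}) R]
    (L : Type u) [Field L] [Algebra R L] [Algebra (FractionRing R) L]
    [IsScalarTower R (FractionRing R) L] [Algebra.IsAlgebraic (FractionRing R) L] (α : L) :
    IsIntegral R α ↔
      Algebra.norm (FractionRing R) (IntermediateField.AdjoinSimple.gen (FractionRing R) α) ∈
        (algebraMap R (FractionRing R)).range := by
  classical
  set K := FractionRing R
  have hKinj : Function.Injective (algebraMap R K) := IsFractionRing.injective R K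
  have hLinj : Function.Injective (algebraMap R L) := by
    rw [IsScalarTower.algebraMap_eq R K L]
    exact (algebraMap K L).injective.comp hKinj
  have hαK : IsIntegral K α := (Algebra.IsAlgebraic.isAlgebraic α).isIntegral
  haveI : FiniteDimensional K (IntermediateField.adjoin K {α}) := IntermediateField.adjoin.finiteDimensional hαK
  set E := IntermediateField.adjoin K {α}
  set g : E := IntermediateField.AdjoinSimple.gen K α with hg
  have hEint : ∀ z : E, IsIntegral R z → Algebra.norm K z ∈ (algebraMap R K).range := fun z hz => by
    obtain ⟨r, hr⟩ := IsIntegrallyClosed.isIntegral_iff.mp (Algebra.isIntegral_norm K hz)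
    exact ⟨r, hr⟩
  have hco : ∀ z : E, IsIntegral R (z : L) → IsIntegral R z := fun z hz =>
    (isIntegral_algHom_iff (E.val.restrictScalars R) Subtype.val_injective).mp hz
  refine ⟨fun h => hEint g (hco g h), ?_⟩
  rintro ⟨n, hn⟩
  by_cases hα0 : α = 0
  · rw [hα0]; exact isIntegral_zero
  have halg : IsAlgebraic R α := (IsFractionRing.isAlgebraic_iff R K L).mpr
    (Algebra.IsAlgebraic.isAlgebraic α)
  rcases Groth.AdicLinTop.ValIntegral.isIntegral_or_isIntegral_inv (t := t) ht hLinj halg with h | h
  · exact h
  have hg0 : g ≠ 0 := fun h0 => hα0 (congrArg Subtype.val h0)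
  set y : E := g⁻¹ with hy
  have hyi : IsIntegral R y := hco y (by rw [hy]; push_cast; exact h)
  haveI : IsScalarTower R K E := IsScalarTower.of_algebraMap_eq fun r => Subtype.ext (IsScalarTower.algebraMap_apply R K L r)
  set q := minpoly R y with hq
  have hmon : q.Monic := minpoly.monic hyi
  have hqy : Polynomial.aeval y q = 0 := minpoly.aeval R y
  by_cases hu : IsUnit (q.coeff 0)
  · obtain ⟨w, hw⟩ := hu
    have h1 : y * (-(Polynomial.aeval y q.divX) * algebraMap R E (↑w⁻¹ : R)) = 1 := by
      have h2 := hqy
      rw [← Polynomial.X_mul_divX_add q, map_add, map_mul, Polynomial.aeval_X, Polynomial.aeval_C] at h2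
      rw [← mul_assoc, mul_neg, eq_neg_of_add_eq_zero_left h2, neg_neg, ← map_mul, ← hw, Units.mul_inv,
        map_one]
    have h3 : g = -(Polynomial.aeval y q.divX) * algebraMap R E (↑w⁻¹ : R) := by
      rw [← inv_eq_of_mul_eq_one_right h1, hy, inv_inv]
    have h4 : IsIntegral R g := by
      rw [h3]
      exact (IsIntegral.neg (Algebra.adjoin_le (S := integralClosure R E) (by simpa [mem_integralClosure_iff] using hyi) (Polynomial.aeval_mem_adjoin_singleton R y))).mul isIntegral_algebraMap
    exact h4.map (E.val.restrictScalars R)
  · exfalso
    have hmp : minpoly K y = q.map (algebraMap R K) := minpoly.isIntegrallyClosed_eq_field_fractions' K hyi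
    have hN : ∃ r, ¬ IsUnit r ∧ algebraMap R K r = Algebra.norm K y := by
      set F := IntermediateField.adjoin K {y}
      set k := Module.finrank F E
      have hk : 0 < k := Module.finrank_pos
      refine ⟨((-1) ^ (IntermediateField.adjoin.powerBasis (IsIntegral.of_finite K y)).dim * q.coeff 0) ^ k,
        ?_, ?_⟩
      · rw [isUnit_pow_iff hk.ne']
        exact fun h' => hu (isUnit_of_mul_isUnit_right h')
      · rw [Algebra.norm_eq_norm_adjoin K y,
          ← IntermediateField.adjoin.powerBasis_gen (IsIntegral.of_finite K y),
          Algebra.PowerBasis.norm_gen_eq_coeff_zero_minpoly, IntermediateField.adjoin.powerBasis_gen,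
          IntermediateField.minpoly_gen, hmp, Polynomial.coeff_map]
        simp
        rfl
    obtain ⟨r, hr, hrN⟩ := hN
    refine hr (IsUnit.of_mul_eq_one n (hKinj ?_))
    rw [map_mul, map_one, hrN, hn, ← map_mul, hy, inv_mul_cancel₀ hg0, map_one]

end Groth.Agent.S11544
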