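import Groth.Statements.S11547
import Groth.Agent.TopFinType.Rig
-- import your own Groth.Agent.* helpers here

set_option autoImplicit false
universe u
open AdicRing

namespace Groth.Agent.S11547

/-- Let R be a complete valuation ring of height one with t a nonzero element generating an ideal of
definition, φ : A → A' a homomorphism of admissible R-algebras, and u' : A' → B' a surjective
R-algebra homomorphism onto an admissible R-algebra B' which is a local integral domain of Krull
dimension one. Then the image of A in B' is an admissible R-algebra and a local integral domain of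
Krull dimension one. -/
theorem result
    (R : Type u) [CommRing R] [IsDomain R] [ValuationRing R] [Ring.KrullDimLE 1 R]
    (t : R) (ht : t ≠ 0) [IsAdicComplete (Ideal.span {t}) R]
    (A : Type u) [CommRing A] [Algebra R A] (hA : AdicRing.Admissible R (Ideal.span {t}) A)
    (A' : Type u) [CommRing A'] [Algebra R A'] (hA' : AdicRing.Admissible R (Ideal.span {t}) A')
    (φ : A →ₐ[R] A')
    (B' : Type u) [CommRing B'] [Algebra R B'] [IsDomain B'] [IsLocalRing B']
    (hB' : AdicRing.Admissible R (Ideal.span {t}) B') (hdim : ringKrullDim B' = 1)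
    (u' : A' →ₐ[R] B') (hu' : Function.Surjective u') :
    AdicRing.Admissible R (Ideal.span {t}) ((u'.comp φ).range) ∧
      IsLocalRing ((u'.comp φ).range) ∧ ringKrullDim ((u'.comp φ).range) = 1 := by
  haveI := Groth.TopFinType.rig_finite ht hB' hdim
  let ρ := u'.comp φ
  let T := ρ.range
  have hτB := Groth.TopFinType.rig_tau_ne_zero hB'
  have hτ : algebraMap R ↥T t ≠ 0 := fun h => hτB (congrArg Subtype.val h)
  haveI : Algebra.IsIntegral R ↥T := ⟨fun x => (isIntegral_algHom_iff T.val Subtype.val_injective).1
    (IsIntegral.of_finite R (x : B'))⟩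
  have hinj := Groth.TopFinType.algebraMap_injective (t := t) hτ
  obtain ⟨n, ψ, hψ⟩ := Groth.TopFinType.topFiniteType_of_topFinitePresentation hA.1
  have hT : AdicRing.TopFiniteType R (Ideal.span {t}) ↥T :=
    ⟨n, ρ.rangeRestrict.comp ψ, ρ.rangeRestrict_surjective.comp hψ⟩
  have hnt := Groth.TopFinType.noPowTorsion_of_domain (t := t) hτ
  have hd := Groth.TopFinType.ringKrullDim_eq_one ht (Groth.TopFinType.not_isUnit_t (t := t)) hinj
  haveI : Ring.KrullDimLE 1 ↥T := Ring.krullDimLE_iff.2 hd.le
  haveI := Groth.TopFinType.finite_of_krullDimLE ht hT hτ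
  exact ⟨⟨Groth.TopFinType.topFinitePresentation_of_noPowTorsion (Groth.TopFinType.isBase ht) hT hnt, hnt⟩,
    (Groth.TopFinType.rigPoint_of_finite (t := t) ht hinj).1, hd⟩

end Groth.Agent.S11547
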