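import Groth.Statements.S1157
import Groth.Agent.PicAux.GalDescent

set_option autoImplicit false
open CategoryTheory CategoryTheory.Limits AlgebraicGeometry Opposite
universe u
open PicF

open scoped Groth.Abvar.PicCalc

namespace Groth.Agent.S1157

/-- The descent statement only; injectivity of pullback on Picard groups and continuity of the Galois
action are not asserted: Let X be quasi-compact and quasi-separated over a field k, with ring of
global functions k itself and with a k-rational point, and let k'/k be a Galois extension. Then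
every isomorphism class of invertible modules on X ×_k Spec k' which is fixed by all the
automorphisms id_X × Spec σ, σ ∈ Gal(k'/k), is the pullback of the class of an invertible module on
X. -/
theorem result (k : Type u) [Field k] (X : Scheme.{u}) (f : X ⟶ Spec (CommRingCat.of k))
    [CompactSpace X] [QuasiSeparatedSpace X] (hH0 : IsIso f.appTop)
    (x : Spec (CommRingCat.of k) ⟶ X) (hx : x ≫ f = 𝟙 _)
    (k' : Type u) [Field k'] [Algebra k k'] [IsGalois k k']
    (d : PicF.Cl (pullback f (Spec.map (CommRingCat.ofHom (algebraMap k k'))))) (hd : PicF.IsInvertibleCl d)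
    (hfix : ∀ σ : k' ≃ₐ[k] k', PicF.pullCl (PicF2.twistAut f σ) d = d) :
    ∃ c : PicF.Cl X, PicF.IsInvertibleCl c ∧ PicF.pullCl (pullback.fst f (Spec.map (CommRingCat.ofHom (algebraMap k k')))) c = d := by
  classical
  let K := k'
  have hc := Groth.PicAux.GalDescent.constFun_of_field hH0
  let d' : PicLoc.PicSet (pullback f (Groth.Pi1Field.ext k K)) := ⟨d, hd⟩
  obtain ⟨L, hL, hLd⟩ := PicGrp.exists_eq_cls d'
  obtain ⟨s, -, L₀, hL₀, ⟨e⟩⟩ := Groth.PicAux.LimitInv.exists_stage_invertible
    (Groth.Pi1Field.sys K f) (Groth.Pi1Field.sysCone K f) (Groth.Pi1Field.isLimitSysCone K f)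
    IsCofiltered.nonempty.some hL
  obtain ⟨F, hF, hψ⟩ := Groth.Pi1Field.exists_field_over K f s.unop
  let F' : IntermediateField k K := IntermediateField.normalClosure k F K
  obtain ⟨ψ, hψ1, -⟩ := hψ F' F.le_normalClosure
  let c' : Groth.PicCurve.RS f x hx (Groth.GaloisBrauer.H13.specOver k F') :=
    Groth.PicAux.GalDescent.rsOf (Groth.Abvar.PicCalc.pull ψ (Groth.Abvar.PicCalc.cls hL₀))
  let v : Groth.GaloisBrauer.H13.specOver k K ⟶ Groth.GaloisBrauer.H13.specOver k F' :=
    Over.homMk (Spec.map (CommRingCat.ofHom (algebraMap F' K))) (by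
      show Spec.map _ ≫ Spec.map _ = Spec.map _
      rw [← Spec.map_comp]; rfl)
  have hv : Groth.Abvar.PicCalc.pull (PicF.XTmap f v) c'.1 = d' := by
    rw [← Groth.PicAux.GalDescent.proj_eq F' v rfl]
    refine ((Groth.Abvar.PicCalc.pull_comp (Groth.Pi1Field.proj K f F') ψ
      (Groth.Abvar.PicCalc.cls hL₀)).symm.trans
        (congrArg (fun g => Groth.Abvar.PicCalc.pull g (Groth.Abvar.PicCalc.cls hL₀)) hψ1)).trans ?_
    exact ((Groth.Abvar.PicCalc.pull_cls _ hL₀).trans
      ((Groth.Abvar.PicCalc.nonempty_iso_iff (PicLoc.isInvertible_pullback _ hL₀) hL).1 ⟨e⟩)).trans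
        hLd.symm
  have hfix' : ∀ τ : F' ≃ₐ[k] F', c'.map (Groth.GaloisBrauer.H13.galAut k F' τ) = c' := fun τ => by
    let σ : K ≃ₐ[k] K := (τ⁻¹.liftNormal K)⁻¹
    refine Subtype.ext (Groth.PicAux.GalDescent.pull_injective hc hx v ?_)
    show Groth.Abvar.PicCalc.pull _ (Groth.Abvar.PicCalc.pull _ c'.1) = _
    have hsq : v ≫ Groth.GaloisBrauer.H13.galAut k F' τ =
        Groth.GaloisBrauer.H13.galAut k K σ ≫ v := by
      refine Over.OverMorphism.ext ?_
      show Spec.map _ ≫ Spec.map _ = Spec.map _ ≫ Spec.map _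
      rw [← Spec.map_comp, ← Spec.map_comp]
      refine congrArg Spec.map (CommRingCat.hom_ext (RingHom.ext fun a => ?_))
      show algebraMap F' K (τ⁻¹ a) = σ⁻¹ (algebraMap F' K a)
      rw [show σ⁻¹ = τ⁻¹.liftNormal K from inv_inv _, AlgEquiv.liftNormal_commutes]
    rw [← Groth.Abvar.PicCalc.pull_comp, ← Groth.PicCurve.XTmap_comp', hsq,
      Groth.PicCurve.XTmap_comp', Groth.Abvar.PicCalc.pull_comp, hv]
    exact Subtype.ext (hfix σ⁻¹)
  obtain ⟨c, hcc⟩ := Groth.PicAux.GalDescent.exists_descent_finite hc c' hfix'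
  refine ⟨c.1, c.2, congrArg Subtype.val (show Groth.Abvar.PicCalc.pull
    (pullback.fst f (Groth.Pi1Field.ext k K)) c = d' from Eq.trans ?_ hv)⟩
  rw [← hcc, ← Groth.Abvar.PicCalc.pull_comp, ← Groth.PicAux.GalDescent.proj_eq F' v rfl,
    Groth.Pi1Field.proj_fst]

end Groth.Agent.S1157
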