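import Groth.Statements.S1162
import Groth.Agent.PropsBasic2.SchTop
import Mathlib

set_option autoImplicit false
open CategoryTheory CategoryTheory.Limits AlgebraicGeometry Opposite
universe u
open Desc

namespace Groth.Agent.S1162

open CategoryTheory.Limits

/-- Let f : X ⟶ Y be flat and separated. Write X⁰ for the generic points of the irreducible components
of X. If for every ξ in X⁰ the residue field extension κ(f ξ) ⊆ κ(ξ) is trivial and f is injective
on X⁰, then f is universally injective. -/
theorem result {X Y : Scheme.{u}} (f : X ⟶ Y) [Flat f] [IsSeparated f]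
    (h2 : ∀ ξ : X, closure ({ξ} : Set X) ∈ irreducibleComponents (X : Type u) →
      Function.Surjective (f.residueFieldMap ξ).hom)
    (h3 : Set.InjOn f.base {ξ : X | closure ({ξ} : Set X) ∈ irreducibleComponents (X : Type u)}) :
    UniversallyInjective f := by
  rw [UniversallyInjective.iff_diagonal]
  refine ⟨fun z => ?_⟩
  obtain ⟨η, hη, hηz⟩ := Groth.PropsBasic2.exists_genericPoint_specializes z
  rw [Groth.PropsBasic2.closure_mem_irreducibleComponents_iff] at hη
  have hgen : ∀ (p : pullback f f ⟶ X) [Flat p],
      closure ({p.base η} : Set X) ∈ irreducibleComponents (X : Type u) := by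
    intro p _
    rw [Groth.PropsBasic2.closure_mem_irreducibleComponents_iff]
    intro x hx
    obtain ⟨η', h', h''⟩ := AlgebraicGeometry.Flat.generalizingMap p hx
    rw [← h'', hη η' h']
  have h₁ := hgen (Limits.pullback.fst f f)
  have hfη : f.base ((Limits.pullback.fst f f).base η) = f.base ((Limits.pullback.snd f f).base η) := by
    rw [← Scheme.Hom.comp_apply, ← Scheme.Hom.comp_apply, Limits.pullback.condition]
  have heq := h3 h₁ (hgen (Limits.pullback.snd f f)) hfη
  have hclosed : IsClosed (Set.range (Limits.pullback.diagonal f).base) :=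
    (Limits.pullback.diagonal f).isClosedEmbedding.isClosed_range
  refine hηz.mem_closed hclosed ?_
  generalize hξ : (Limits.pullback.fst f f).base η = ξ at h₁ heq
  let ζ := (pullback f f).fromSpecResidueField η
  -- both projections of `η` are the same morphism from the spectrum of its residue field
  have key : ∀ (p : pullback f f ⟶ X), p.base η = ξ →
      ∃ a : X.residueField ξ ⟶ (pullback f f).residueField η,
        ζ ≫ p = Spec.map a ≫ X.fromSpecResidueField ξ := by
    intro p hp
    subst hp
    exact ⟨p.residueFieldMap η, (Scheme.Hom.SpecMap_residueFieldMap_fromSpecResidueField p η).symm⟩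
  obtain ⟨a, ha⟩ := key _ hξ
  obtain ⟨b, hb⟩ := key _ heq.symm
  have hab : a = b := by
    have h : Spec.map (f.residueFieldMap ξ ≫ a) = Spec.map (f.residueFieldMap ξ ≫ b) := by
      rw [← cancel_mono (Y.fromSpecResidueField (f.base ξ)), Spec.map_comp, Spec.map_comp,
        Category.assoc, Category.assoc, Scheme.Hom.SpecMap_residueFieldMap_fromSpecResidueField,
        reassoc_of% ha.symm, reassoc_of% hb.symm, Limits.pullback.condition]
    have h' := congrArg CommRingCat.Hom.hom (Spec.map_injective h)
    ext x
    obtain ⟨y, rfl⟩ := h2 ξ h₁ x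
    exact RingHom.congr_fun h' y
  have hζ : ζ = (ζ ≫ Limits.pullback.fst f f) ≫ Limits.pullback.diagonal f := by
    apply Limits.pullback.hom_ext
    · simp
    · rw [Category.assoc, Limits.pullback.diagonal_snd, Category.comp_id, ha, hb, hab]
  obtain ⟨w, hw⟩ : η ∈ Set.range ζ.base := by
    rw [Scheme.range_fromSpecResidueField]; rfl
  exact ⟨(ζ ≫ Limits.pullback.fst f f).base w, by
    rw [← Scheme.Hom.comp_apply, ← hζ]; exact hw⟩

end Groth.Agent.S1162
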