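import Groth.Statements.S1163
import Groth.Agent.DescentBase.FlatTower

set_option autoImplicit false
open CategoryTheory CategoryTheory.Limits AlgebraicGeometry Opposite
universe u
open Desc

namespace Groth.Agent.S1163

open scoped TensorProduct in
/-- If `B → X → C` has `B → C` faithfully flat and `X` is flat over `A`, then so is `B`. -/
theorem flat_of_factor (A B X C : Type u) [CommRing A] [CommRing B] [CommRing X] [CommRing C]
    [Algebra A B] [Algebra A X] [Algebra B X] [Algebra A C] [Algebra B C] [Algebra X C]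
    [IsScalarTower A B X] [IsScalarTower A B C] [IsScalarTower B X C] [Module.FaithfullyFlat B C]
    [Module.Flat A X] : Module.Flat A B := by
  refine Groth.DescentBase.flat_of_rTensor_injective (IsScalarTower.toAlgHom A B X).toLinearMap
    fun P _ _ => ?_
  let r : X →ₗ[A] C ⊗[B] B :=
    ((TensorProduct.rid B C).symm.toLinearMap.comp (IsScalarTower.toAlgHom B X C).toLinearMap).restrictScalars A
  have hr : r ∘ₗ (IsScalarTower.toAlgHom A B X).toLinearMap =
      ((TensorProduct.mk B C B) 1).restrictScalars A := by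
    ext b
    simp only [r, LinearMap.coe_comp, LinearMap.coe_restrictScalars, Function.comp_apply,
      AlgHom.toLinearMap_apply, IsScalarTower.coe_toAlgHom', LinearEquiv.coe_coe,
      TensorProduct.rid_symm_apply, TensorProduct.mk_apply]
    rw [← IsScalarTower.algebraMap_apply B X C, Algebra.algebraMap_eq_smul_one,
      TensorProduct.smul_tmul, smul_eq_mul, mul_one]
  have h := Groth.DescentBase.mk_one_rTensor_injective A B C B P
  rw [← hr, LinearMap.rTensor_comp, LinearMap.coe_comp] at h
  exact h.of_comp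

/-- The case P = flat, single fppf cover: Let f : X ⟶ Y and q : Y ⟶ Z be morphisms of schemes, and
suppose there is a flat, surjective morphism g : Y' ⟶ Y locally of finite presentation which factors
through f. If f ≫ q is flat, then q is flat. -/
theorem result {X Y Z Y' : Scheme.{u}} (f : X ⟶ Y) (q : Y ⟶ Z) (g : Y' ⟶ Y) [Flat g] [Surjective g]
    [LocallyOfFinitePresentation g] (l : Y' ⟶ X) (hl : l ≫ f = g) [Flat (f ≫ q)] : Flat q := by
  subst hl
  refine Flat.of_stalkMap _ fun y => ?_
  obtain ⟨y', rfl⟩ := (l ≫ f).surjective y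
  have h1 := Flat.stalkMap (l ≫ f) y'
  rw [Scheme.Hom.stalkMap_comp] at h1
  have h2 := Flat.stalkMap (f ≫ q) (l y')
  rw [Scheme.Hom.stalkMap_comp] at h2
  let _ := (q.stalkMap (f (l y'))).hom.toAlgebra
  let _ := (f.stalkMap (l y')).hom.toAlgebra
  let _ := (l.stalkMap y').hom.toAlgebra
  let _ := ((f.stalkMap (l y')).hom.comp (q.stalkMap (f (l y'))).hom).toAlgebra
  let _ := ((l.stalkMap y').hom.comp (f.stalkMap (l y')).hom).toAlgebra
  let _ := (((l.stalkMap y').hom.comp (f.stalkMap (l y')).hom).comp (q.stalkMap (f (l y'))).hom).toAlgebra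
  have : IsScalarTower (Z.presheaf.stalk (q (f (l y')))) (Y.presheaf.stalk (f (l y'))) (X.presheaf.stalk (l y')) :=
    .of_algebraMap_eq' rfl
  have : IsScalarTower (Z.presheaf.stalk (q (f (l y')))) (Y.presheaf.stalk (f (l y'))) (Y'.presheaf.stalk y') :=
    .of_algebraMap_eq' rfl
  have : IsScalarTower (Y.presheaf.stalk (f (l y'))) (X.presheaf.stalk (l y')) (Y'.presheaf.stalk y') :=
    .of_algebraMap_eq' rfl
  have : Module.Flat (Y.presheaf.stalk (f (l y'))) (Y'.presheaf.stalk y') := h1
  have : IsLocalHom (algebraMap (Y.presheaf.stalk (f (l y'))) (Y'.presheaf.stalk y')) :=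
    inferInstanceAs (IsLocalHom ((f.stalkMap (l y')) ≫ (l.stalkMap y')).hom)
  have : Module.FaithfullyFlat (Y.presheaf.stalk (f (l y'))) (Y'.presheaf.stalk y') :=
    Module.FaithfullyFlat.of_flat_of_isLocalHom
  have : Module.Flat (Z.presheaf.stalk (q (f (l y')))) (X.presheaf.stalk (l y')) := h2
  exact flat_of_factor (Z.presheaf.stalk (q (f (l y')))) (Y.presheaf.stalk (f (l y')))
    (X.presheaf.stalk (l y')) (Y'.presheaf.stalk y')

end Groth.Agent.S1163
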