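import Groth.Statements.S1164
import Groth.Agent.DescentBase.FlatTower

set_option autoImplicit false
universe u
open Desc

namespace Groth.Agent.S1164

open scoped TensorProduct in
/-- An algebra over an etale `R`-algebra `E` which is flat over `R` is flat over `E`. -/
theorem flat_of_etale (R E T : Type u) [CommRing R] [CommRing E] [CommRing T] [Algebra R E]
    [Algebra R T] [Algebra E T] [IsScalarTower R E T] [Algebra.Etale R E] [Module.Flat R T] :
    Module.Flat E T := by
  let ι : E →ₐ[R] T ⊗[R] E := Algebra.TensorProduct.includeRight
  let μ : T ⊗[R] E →ₐ[T] T := Algebra.TensorProduct.lift (AlgHom.id T T)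
    (IsScalarTower.toAlgHom R E T) (fun _ _ => Commute.all _ _)
  have h1 : μ.toRingHom.Flat := by
    let _ := μ.toRingHom.toAlgebra
    have : IsScalarTower T (T ⊗[R] E) T := IsScalarTower.of_algebraMap_eq fun t => (μ.commutes t).symm
    have : Algebra.Etale (T ⊗[R] E) T := Algebra.Etale.of_restrictScalars T _ _
    exact Algebra.Smooth.flat (T ⊗[R] E) T
  have h2 : ι.toRingHom.Flat := by
    have h3 : ι.toRingHom =
        (Algebra.TensorProduct.comm R E T).toRingEquiv.toRingHom.comp (algebraMap E (E ⊗[R] T)) := by
      ext e; simp [ι]
    rw [h3]
    exact RingHom.Flat.comp (RingHom.flat_algebraMap_iff.mpr inferInstance)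
      (RingHom.Flat.of_bijective (Algebra.TensorProduct.comm R E T).bijective)
  rw [← RingHom.flat_algebraMap_iff]
  have h4 : algebraMap E T = μ.toRingHom.comp ι.toRingHom := by
    ext e; simp [μ, ι]
  rw [h4]
  exact RingHom.Flat.comp h2 h1

/-- Let R → S be a local homomorphism of local rings. Let R' be a local ring which is a localization at
a prime of an etale R-algebra, with R → R' local, and similarly S' for S, and suppose S' is an
R'-algebra compatibly with the given maps. Then R → S is flat if and only if R' → S' is flat. (This
is the statement that flatness of a morphism of germs is etale local on source and target together.) -/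
theorem result (R S R' S' : Type u) [CommRing R] [CommRing S] [CommRing R'] [CommRing S']
    [IsLocalRing R] [IsLocalRing S] [IsLocalRing R'] [IsLocalRing S']
    [Algebra R S] [IsLocalHom (algebraMap R S)] [Algebra R R'] [IsLocalHom (algebraMap R R')]
    [Algebra S S'] [IsLocalHom (algebraMap S S')] [Algebra R' S'] [Algebra R S']
    [IsScalarTower R R' S'] [IsScalarTower R S S']
    (E : Type u) [CommRing E] [Algebra R E] [Algebra.Etale R E] (P : Ideal E) [P.IsPrime]
    [Algebra E R'] [IsScalarTower R E R'] [IsLocalization.AtPrime R' P]
    (F : Type u) [CommRing F] [Algebra S F] [Algebra.Etale S F] (Q : Ideal F) [Q.IsPrime]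
    [Algebra F S'] [IsScalarTower S F S'] [IsLocalization.AtPrime S' Q] :
    Module.Flat R S ↔ Module.Flat R' S' := by
  have : Module.Flat E R' := IsLocalization.flat R' P.primeCompl
  have : Module.Flat F S' := IsLocalization.flat S' Q.primeCompl
  have : Module.Flat R R' := Module.Flat.trans R E R'
  have : Module.Flat S S' := Module.Flat.trans S F S'
  constructor
  · intro h
    have : Module.Flat R S' := Module.Flat.trans R S S'
    let _ : Algebra E S' := ((algebraMap R' S').comp (algebraMap E R')).toAlgebra
    have : IsScalarTower E R' S' := IsScalarTower.of_algebraMap_eq fun _ => rfl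
    have : IsScalarTower R E S' := IsScalarTower.of_algebraMap_eq fun r => by
      rw [IsScalarTower.algebraMap_apply R R' S', IsScalarTower.algebraMap_apply R E R']; rfl
    have : Module.Flat E S' := flat_of_etale R E S'
    exact (Module.flat_iff_of_isLocalization R' P.primeCompl S').mpr this
  · intro h
    have : Module.Flat R S' := Module.Flat.trans R R' S'
    have : Module.FaithfullyFlat S S' := Module.FaithfullyFlat.of_flat_of_isLocalHom
    exact Groth.DescentBase.flat_of_flat_of_faithfullyFlat R S S'

end Groth.Agent.S1164
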