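import Groth.Statements.S15878
import Groth.Agent.AgfWeil.Kernel
import Groth.Agent.AlgGrp1.AffineQuot
import Groth.Agent.AlgGrp1.Extension
import Groth.Agent.GitQuot.FppfSourceScheme
import Groth.Agent.FlatMor2.FlatComp

set_option autoImplicit false
universe u
open CategoryTheory MonoidalCategory CartesianMonoidalCategory MonObj GrpObj AlgebraicGeometry
open AGF

set_option linter.style.haveILetI false
set_option backward.isDefEq.respectTransparency.types false

namespace Groth.Agent.S15878

/-- Kernels of homomorphisms of group objects. -/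
theorem exists_kernel {S : Scheme.{u}} {G Q : Over S} [GrpObj G] [GrpObj Q] (q : G ⟶ Q) [IsMonHom q] :
    ∃ (K : Over S) (_ : GrpObj K) (iK : K ⟶ G) (_ : IsMonHom iK), AlgGrp.IsKernel iK q := by
  let K := Limits.pullback q η[Q]
  let iK : K ⟶ G := Limits.pullback.fst q η[Q]
  have hK : AlgGrp.IsKernel iK q := by
    have h := IsPullback.of_hasPullback q η[Q]
    rwa [show Limits.pullback.snd q η[Q] = toUnit K from toUnit_unique _ _] at h
  let post : ∀ T : Over S, (T ⟶ G) →* (T ⟶ Q) := fun T =>
    MonoidHom.mk' (fun a => a ≫ q) (fun a b => MonObj.mul_comp a b q)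
  let F : (Over S)ᵒᵖ ⥤ GrpCat.{u} :=
    { obj := fun T => GrpCat.of (post T.unop).ker
      map := fun {T T'} g => GrpCat.ofHom (MonoidHom.mk'
        (fun a => ⟨g.unop ≫ a.1, by
          show (g.unop ≫ a.1) ≫ q = 1
          rw [Category.assoc, show a.1 ≫ q = 1 from a.2, MonObj.comp_one]⟩)
        (fun a b => Subtype.ext (MonObj.comp_mul _ _ _)))
      map_id := fun T => by ext a; exact Category.id_comp _
      map_comp := fun g g' => by ext a; exact Category.assoc _ _ _ }
  let α : (F ⋙ CategoryTheory.forget GrpCat).RepresentableBy K :=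
    { homEquiv := fun {T} =>
        { toFun := fun a => ⟨a ≫ iK, by
            show (a ≫ iK) ≫ q = 1
            rw [Category.assoc, hK.w, ← Category.assoc, toUnit_unique (a ≫ toUnit K) (toUnit _), ← Hom.one_def]⟩
          invFun := fun b => hK.lift b.1 (toUnit T) ((show b.1 ≫ q = 1 from b.2).trans Hom.one_def)
          left_inv := fun a => hK.hom_ext (IsPullback.lift_fst _ _ _ _) (toUnit_unique _ _)
          right_inv := fun b => Subtype.ext (IsPullback.lift_fst _ _ _ _) }
      homEquiv_comp := fun g f => Subtype.ext (Category.assoc _ _ _) }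
  let gK := GrpObj.ofRepresentableBy K F α
  refine ⟨K, gK, iK, Groth.AlgGrp1.isMonHom_of_points _ fun T a b => ?_, hK⟩
  exact congrArg Subtype.val (((yonedaGrpObjIsoOfRepresentableBy K F α).hom.app (Opposite.op T)).hom.map_mul a b)

/-- Base change of schemes over a field along a field extension is faithful. -/
theorem map_injective {S S' : Scheme.{u}} (φ : S' ⟶ S) [Flat φ] [Surjective φ] [QuasiCompact φ] {X Y : Over S}
    (a b : X ⟶ Y) (h : (Over.pullback φ).map a = (Over.pullback φ).map b) : a = b := by
  have : Epi (Limits.pullback.fst X.hom φ) := by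
    have : Flat (Limits.pullback.fst X.hom φ) := MorphismProperty.pullback_fst _ _ ‹Flat φ›
    have : Surjective (Limits.pullback.fst X.hom φ) := MorphismProperty.pullback_fst _ _ ‹Surjective φ›
    exact Flat.epi_of_flat_of_surjective _
  refine Over.OverMorphism.ext ((cancel_epi (Limits.pullback.fst X.hom φ)).1 ?_)
  rw [(Groth.AlgGrp1.isPullback_bc_map φ a).w, (Groth.AlgGrp1.isPullback_bc_map φ b).w, h]

/-- With k'/k finite purely inseparable, G a k-group locally of finite type, q : G_{k'} → Ḡ a faithfully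
flat homomorphism with quasi-compact kernel onto a commutative k'-group locally of finite type, (R,
q_R) a Weil restriction of Ḡ to k with q_R a homomorphism, H the image of the comparison
homomorphism i : G → R (H a closed subgroup of R through which i factors by a faithfully flat
homomorphism), and π : R → Q the fppf quotient group of R by H: Q is affine and its geometric fibre
has no non-trivial subtorus. (The published statement says that Q is a commutative unipotent
k-group; the absence of geometric subtori is the weaker property recorded here, and commutativity is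
inherited from R.) -/
theorem result (k k' : Type u) [Field k] [Field k']
    [Algebra k k'] [Module.Finite k k'] [IsPurelyInseparable k k']
    (G : Over (Spec (CommRingCat.of k))) [GrpObj G] [LocallyOfFiniteType G.hom]
    (Gbar : Over (Spec (CommRingCat.of k'))) [GrpObj Gbar] [LocallyOfFiniteType Gbar.hom]
    (q : Red.bc (Spec.map (CommRingCat.ofHom (algebraMap k k'))) G ⟶ Gbar) [IsMonHom q] [Surjective q.left] [Flat q.left]
    (N : Over (Spec (CommRingCat.of k'))) (iN : N ⟶ Red.bc (Spec.map (CommRingCat.ofHom (algebraMap k k'))) G) (hN : AlgGrp.IsKernel iN q) [CompactSpace N.left]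
    (R : Over (Spec (CommRingCat.of k))) [GrpObj R] (qR : Red.bc (Spec.map (CommRingCat.ofHom (algebraMap k k'))) R ⟶ Gbar) [IsMonHom qR]
    (hR : WeilRes.IsWeilRes (Spec.map (CommRingCat.ofHom (algebraMap k k'))) Gbar R qR)
    (H : Over (Spec (CommRingCat.of k))) [GrpObj H] (j : H ⟶ R) [IsMonHom j] [IsClosedImmersion j.left]
    (p : G ⟶ H) [IsMonHom p] [Surjective p.left] [Flat p.left] (hfac : p ≫ j = hR.lift G q)
    [IsCommMonObj Gbar]
    (Q : Over (Spec (CommRingCat.of k))) [GrpObj Q] (π : R ⟶ Q) [IsMonHom π] (hQ : RedSub.IsQuotient j π) :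
    IsAffine Q.left ∧ (∀ s : ↥(Spec (CommRingCat.of k)), Red.HasNoSubtorus (AlgebraicClosure ((Spec (CommRingCat.of k)).residueField s)) (Red.geomFibre s Q)) := by
  let φ := Spec.map (CommRingCat.ofHom (algebraMap k k'))
  have hflatφ : Flat φ := (HasRingHomProperty.Spec_iff (P := @Flat)).mpr (RingHom.flat_algebraMap_iff.mpr inferInstance)
  have hsurjφ : Surjective φ := ⟨fun y => ⟨(default : PrimeSpectrum k'), @Subsingleton.elim (PrimeSpectrum k) _ _ _⟩⟩
  have hqcφ : QuasiCompact φ := inferInstance
  let F : Over (Spec (CommRingCat.of k)) ⥤ Over (Spec (CommRingCat.of k')) := Over.pullback φ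
  obtain ⟨hπs, hπf, hπlfp, hπ⟩ := hQ
  let i := hR.lift G q
  have hi : F.map i ≫ qR = q := (Equiv.ofBijective _ (hR G)).apply_symm_apply q
  have hjπ : j ≫ π = 1 := by
    have h := congrArg (fun m => lift (toUnit H ≫ η[R]) (𝟙 H) ≫ m) hπ.w
    simp only [lift_fst_assoc, lift_whiskerLeft_assoc, Category.id_comp, Category.assoc] at h
    rw [← Category.assoc, ← Category.assoc (lift _ _), ← Hom.mul_def, ← Hom.one_def, _root_.one_mul, MonObj.one_comp] at h
    exact h.symm
  have hiπ : i ≫ π = 1 := by rw [show i = p ≫ j from hfac.symm, Category.assoc, hjπ, MonObj.comp_one]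
  -- the kernel of the counit
  obtain ⟨K, gK, iK, hiKm, hK⟩ : ∃ (K : Over (Spec (CommRingCat.of k'))) (_ : GrpObj K) (iK : K ⟶ Red.bc φ R)
      (_ : IsMonHom iK), AlgGrp.IsKernel iK qR := exists_kernel qR
  obtain ⟨hKa, hKlft, m, hm, hKm⟩ :=
    Groth.AgfWeil.kernel_affine_finiteType_exponent k k' Gbar R qR hR K iK hK
  have hmono : Mono iK := ⟨fun u v huv => hK.hom_ext huv (Subsingleton.elim _ _)⟩
  let G₁ := Red.bc φ G
  let i₁ : G₁ ⟶ Red.bc φ R := F.map i
  let μ₁ : K ⊗ G₁ ⟶ Red.bc φ R := (fst K G₁ ≫ iK) * (snd K G₁ ≫ i₁)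
  have hP : IsPullback μ₁ (snd K G₁) qR q := by
    have hw : μ₁ ≫ qR = snd K G₁ ≫ q := by
      simp only [μ₁, MonObj.mul_comp, Category.assoc, hK.w, hi, i₁]
      rw [← Category.assoc, toUnit_unique (fst K G₁ ≫ toUnit K) (toUnit _), ← Hom.one_def, _root_.one_mul]
    refine IsPullback.mk' hw (fun W u w h1 h2 => ?_) (fun W u t ht => ?_)
    · refine CartesianMonoidalCategory.hom_ext _ _ ?_ h2
      rw [← cancel_mono iK]
      simp only [μ₁, MonObj.comp_mul, ← Category.assoc, h2] at h1
      simpa using h1
    · have hker : (u * (t ≫ i₁)⁻¹) ≫ qR = toUnit W ≫ η[Gbar] := by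
        rw [MonObj.mul_comp, GrpObj.inv_comp, Category.assoc, hi, ht, mul_inv_cancel, Hom.one_def]
      refine ⟨lift (hK.lift (u * (t ≫ i₁)⁻¹) (toUnit W) hker) t, ?_, lift_snd _ _⟩
      simp only [μ₁, MonObj.comp_mul, lift_fst_assoc, lift_snd_assoc, IsPullback.lift_fst, inv_mul_cancel_right]
  have hPl := hP.map (Over.forget _)
  have : LocallyOfFiniteType G₁.hom := inferInstanceAs (LocallyOfFiniteType (Limits.pullback.snd G.hom φ))
  have : LocallyOfFinitePresentation q.left := Groth.AlgGrp1.lfp_left q
  have : Flat μ₁.left := MorphismProperty.of_isPullback hPl.flip ‹Flat q.left›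
  have : Surjective μ₁.left := MorphismProperty.of_isPullback hPl.flip ‹Surjective q.left›
  have : LocallyOfFinitePresentation μ₁.left :=
    MorphismProperty.of_isPullback hPl.flip ‹LocallyOfFinitePresentation q.left›
  let Q₁ := Red.bc φ Q
  let π₁ : Red.bc φ R ⟶ Q₁ := F.map π
  have sq := Groth.AlgGrp1.isPullback_bc_map φ π
  have : Flat π₁.left := MorphismProperty.of_isPullback sq hπf
  have : Surjective π₁.left := MorphismProperty.of_isPullback sq hπs
  have : LocallyOfFinitePresentation π₁.left := MorphismProperty.of_isPullback sq hπlfp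
  let f : K ⟶ Q₁ := iK ≫ π₁
  have hcomp : μ₁ ≫ π₁ = fst K G₁ ≫ f := by
    have h1 : i₁ ≫ π₁ = 1 := by
      show F.map i ≫ F.map π = 1
      rw [← F.map_comp, hiπ]
      exact map_one ((Over.pullback φ).homMonoidHom (X := G) (M := Q))
    simp only [μ₁, MonObj.mul_comp, Category.assoc, h1, MonObj.comp_one, _root_.mul_one, f]
  have hG₁f : Flat G₁.hom := inferInstance
  have hG₁s : Surjective G₁.hom := ⟨fun y => ⟨η[G₁].left y, by
    rw [← Scheme.Hom.comp_apply, Over.w η[G₁]]
    rfl⟩⟩
  have hfstf : Flat (fst K G₁).left := MorphismProperty.pullback_fst _ _ hG₁f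
  have hfsts : Surjective (fst K G₁).left := MorphismProperty.pullback_fst _ _ hG₁s
  have : Flat ((fst K G₁).left ≫ f.left) := by
    rw [← Over.comp_left, ← hcomp, Over.comp_left]; infer_instance
  have hff : Flat f.left := Groth.FlatMor2.flat_of_comp_surjective (fst K G₁).left f.left
  have : Surjective ((fst K G₁).left ≫ f.left) := by
    rw [← Over.comp_left, ← hcomp, Over.comp_left]; infer_instance
  have hfs : Surjective f.left := Surjective.of_comp (fst K G₁).left f.left
  have hiK : LocallyOfFinitePresentation iK.left := by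
    have : LocallyOfFiniteType (𝟙_ (Over (Spec (CommRingCat.of k')))).hom :=
      inferInstanceAs (LocallyOfFiniteType (𝟙 (Spec (CommRingCat.of k'))))
    exact MorphismProperty.of_isPullback (hK.map (Over.forget _)).flip (Groth.AlgGrp1.lfp_left η[Gbar])
  have : LocallyOfFinitePresentation f.left := inferInstanceAs (LocallyOfFinitePresentation (iK.left ≫ π₁.left))
  have : LocallyOfFiniteType (f.left ≫ Q₁.hom) := by rw [Over.w f]; infer_instance
  have hQ₁ : LocallyOfFiniteType Q₁.hom := Groth.GitQuot.FppfSource.locallyOfFiniteType_of_fppf f.left Q₁.hom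
  have : QuasiCompact (f.left ≫ Q₁.hom) := by rw [Over.w f]; infer_instance
  have : QuasiCompact Q₁.hom := Groth.GitQuot.FppfSource.quasiCompact_of_surjective_comp f.left Q₁.hom
  have hQ₁a : IsAffine Q₁.left := Groth.AlgGrp1.isAffine_of_quotient f
  refine ⟨?_, fun s => Groth.PRedWeil.hasNoSubtorus_geomFibre Q hm ?_ s⟩
  · have : IsAffineHom (Limits.pullback.snd Q.hom φ) := (inferInstance : IsAffineHom Q₁.hom)
    have : IsAffineHom Q.hom := MorphismProperty.of_pullback_snd_of_descendsAlong (P := @IsAffineHom)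
      (Q := @Surjective ⊓ @Flat ⊓ @QuasiCompact) (f := Q.hom) (g := φ) ⟨⟨hsurjφ, hflatφ⟩, hqcφ⟩ this
    exact isAffine_of_isAffineHom Q.hom
  · have hepi : Epi f := by
      have : Epi f.left := Flat.epi_of_flat_of_surjective _
      exact Over.epi_of_epi_left f
    have h1 : (𝟙 Q₁) ^ m = 1 := by
      rw [← cancel_epi f, MonObj.comp_pow, MonObj.comp_one, Category.comp_id, ← Category.id_comp f,
        ← MonObj.pow_comp, hKm, MonObj.one_comp]
    refine map_injective φ _ _ ?_
    have h2 := map_pow ((Over.pullback φ).homMonoidHom (X := Q) (M := Q)) (𝟙 Q) m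
    have h3 := map_one ((Over.pullback φ).homMonoidHom (X := Q) (M := Q))
    refine h2.trans (Eq.trans ?_ h3.symm)
    show ((Over.pullback φ).map (𝟙 Q)) ^ m = 1
    rw [(Over.pullback φ).map_id]
    exact h1

end Groth.Agent.S15878
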