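import Groth.Statements.S1178
import Groth.Agent.PropsBasic.FPSections
import Groth.Agent.LocFree.FP
import Groth.Agent.QCohMod.QCQS

set_option autoImplicit false
set_option linter.style.haveILetI false
open CategoryTheory CategoryTheory.Limits AlgebraicGeometry Opposite
universe u
open Desc

namespace Groth.Agent.S1178

set_option backward.isDefEq.respectTransparency.types false

/-- Let f : X ⟶ Y be finite and locally of finite presentation and F a quasi-coherent O_X-module. Then F
is finitely presented exactly when its pushforward f_*F is a finitely presented O_Y-module. -/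
theorem result {X Y : Scheme.{u}} (f : X ⟶ Y) [IsFinite f] [LocallyOfFinitePresentation f]
    (F : X.Modules) [F.IsQuasicoherent] :
    CohB1.IsFP F ↔ CohB1.IsFP ((Scheme.Modules.pushforward f).obj F) := by
  haveI : QuasiSeparated f := inferInstance
  haveI := Groth.QCohMod.isQCoh_pushforward (M := F) f
  have key : ∀ (V : Y.Opens), IsAffineOpen V →
      (Module.FinitePresentation Γ(X, f ⁻¹ᵁ V) Γ(F, f ⁻¹ᵁ V) ↔
        Module.FinitePresentation Γ(Y, V) Γ((Scheme.Modules.pushforward f).obj F, V)) := by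
    intro V hV
    letI := (f.app V).hom.toAlgebra
    letI : Module Γ(Y, V) Γ(F, f ⁻¹ᵁ V) := Module.compHom _ (f.app V).hom
    haveI : IsScalarTower Γ(Y, V) Γ(X, f ⁻¹ᵁ V) Γ(F, f ⁻¹ᵁ V) :=
      IsScalarTower.of_algebraMap_smul fun _ _ => rfl
    have e : Γ(F, f ⁻¹ᵁ V) ≃ₗ[Γ(Y, V)] Γ((Scheme.Modules.pushforward f).obj F, V) :=
      { AddEquiv.refl _ with map_smul' := fun _ _ => rfl }
    haveI : Module.Finite Γ(Y, V) Γ(X, f ⁻¹ᵁ V) :=
      RingHom.finite_algebraMap.mp (f.finite_app V hV)
    haveI : Algebra.FinitePresentation Γ(Y, V) Γ(X, f ⁻¹ᵁ V) := by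
      rw [← RingHom.finitePresentation_algebraMap, RingHom.algebraMap_toAlgebra, f.app_eq_appLE]
      exact f.finitePresentation_appLE hV (hV.preimage f) le_rfl
    haveI := Module.FinitePresentation.of_finite_of_finitePresentation Γ(Y, V) Γ(X, f ⁻¹ᵁ V)
    constructor
    · intro h
      haveI : Module.FinitePresentation Γ(Y, V) Γ(F, f ⁻¹ᵁ V) :=
        Module.FinitePresentation.trans _ _ Γ(X, f ⁻¹ᵁ V)
      exact Module.finitePresentation_of_surjective (M := Γ(F, f ⁻¹ᵁ V)) e.toLinearMap
        e.surjective (by rw [LinearEquiv.ker]; exact Submodule.fg_bot)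
    · intro h
      haveI : Module.FinitePresentation Γ(Y, V) Γ(F, f ⁻¹ᵁ V) :=
        Module.finitePresentation_of_surjective (M := Γ((Scheme.Modules.pushforward f).obj F, V))
          e.symm.toLinearMap e.symm.surjective (by rw [LinearEquiv.ker]; exact Submodule.fg_bot)
      haveI : Module.Finite Γ(X, f ⁻¹ᵁ V) Γ(F, f ⁻¹ᵁ V) :=
        Module.Finite.of_restrictScalars_finite Γ(Y, V) _ _
      obtain ⟨n, π, hπ⟩ := Module.Finite.exists_fin' Γ(X, f ⁻¹ᵁ V) Γ(F, f ⁻¹ᵁ V)
      have hk := Module.FinitePresentation.fg_ker (π.restrictScalars Γ(Y, V)) hπ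
      rw [LinearMap.ker_restrictScalars] at hk
      exact Module.finitePresentation_of_surjective π hπ
        (Submodule.FG.of_restrictScalars Γ(Y, V) hk)
  constructor
  · intro hF
    refine Groth.LocFree.isFP_of_affine_cover _ fun y => ?_
    obtain ⟨V, hV, hyV, -⟩ := TopologicalSpace.Opens.isBasis_iff_nbhd.mp Y.isBasis_affineOpens
      (TopologicalSpace.Opens.mem_top y)
    exact ⟨V, hV, hyV, (key V hV).mp
      (Groth.PropsBasic.FPSections.finitePresentation_sections F hF (hV.preimage f))⟩
  · intro hF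
    refine Groth.LocFree.isFP_of_affine_cover _ fun x => ?_
    obtain ⟨V, hV, hxV, -⟩ := TopologicalSpace.Opens.isBasis_iff_nbhd.mp Y.isBasis_affineOpens
      (TopologicalSpace.Opens.mem_top (f.base x))
    exact ⟨f ⁻¹ᵁ V, hV.preimage f, hxV, (key V hV).mpr
      (Groth.PropsBasic.FPSections.finitePresentation_sections _ hF hV)⟩

end Groth.Agent.S1178
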