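import Groth.Statements.S1179
import Groth.Agent.DescentBase.SourceLocal

set_option autoImplicit false
open CategoryTheory CategoryTheory.Limits AlgebraicGeometry Opposite
universe u
open Desc

namespace Groth.Agent.S1179

/-- Let f : X' ⟶ X be etale and surjective and g : X ⟶ Y a morphism. If f ≫ g is locally quasi-finite,
then g is locally quasi-finite; with stability under precomposition by etale maps this says that
local quasi-finiteness is etale local on the source. -/
theorem result {X' X Y : Scheme.{u}} (f : X' ⟶ X) (g : X ⟶ Y) [Etale f] [Surjective f]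
    [LocallyQuasiFinite (f ≫ g)] [LocallyOfFiniteType (f ≫ g)] : LocallyQuasiFinite g ∧ LocallyOfFiniteType g := by
  have := Groth.DescentBase.locallyOfFiniteType_of_smooth f g
  refine ⟨?_, this⟩
  rw [locallyQuasiFinite_iff_isDiscrete_preimage_singleton]
  intro y
  have hd := (f ≫ g).isDiscrete_preimage_singleton y
  rw [isDiscrete_iff_discreteTopology, discreteTopology_iff_isOpen_singleton] at hd ⊢
  rintro ⟨x, hx⟩
  obtain ⟨x', rfl⟩ := f.surjective x
  have hx' : x' ∈ (f ≫ g) ⁻¹' {y} := by simpa using hx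
  obtain ⟨U, hU, hU'⟩ := isOpen_induced_iff.mp (hd ⟨x', hx'⟩)
  refine isOpen_induced_iff.mpr ⟨f '' U, f.isOpenMap _ hU, ?_⟩
  ext ⟨z, hz⟩
  simp only [Set.mem_preimage, Set.mem_image, Set.mem_singleton_iff, Subtype.mk.injEq]
  constructor
  · rintro ⟨w, hw, rfl⟩
    have hw' : w ∈ (f ≫ g) ⁻¹' {y} := by simpa using hz
    have : (⟨w, hw'⟩ : ↥((f ≫ g) ⁻¹' {y})) ∈ Subtype.val ⁻¹' U := hw
    rw [hU'] at this
    rw [show w = x' from congrArg Subtype.val this]
  · rintro rfl
    exact ⟨x', (Set.ext_iff.mp hU' ⟨x', hx'⟩).mpr rfl, rfl⟩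

end Groth.Agent.S1179
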