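import Groth.Statements.S9438
import Groth.Agent.Calg4.RegularFlat

set_option autoImplicit false
universe u
open CAlg

namespace Groth.Agent.S9438

/-- The condition (R_k) descends along faithfully flat ring maps: if S is faithfully flat over R,
Noetherian and (R_k), then R is Noetherian and (R_k). -/
theorem result (k : ℕ) (R : Type u) [CommRing R] (S : Type u) [CommRing S]
    [Algebra R S] [Module.FaithfullyFlat R S] [IsNoetherianRing S] (hS : LocCoh.HasRk k S) :
    IsNoetherianRing R ∧ LocCoh.HasRk k R := by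
  have hN : IsNoetherianRing R := Groth.Ega4Algebra1.isNoetherianRing_of_faithfullyFlat R S
  refine ⟨hN, fun p _ hp => ?_⟩
  obtain ⟨⟨q₀, hq₀⟩, hq₀p⟩ := PrimeSpectrum.comap_surjective_of_faithfullyFlat (A := R) (B := S)
    ⟨p, inferInstance⟩
  have hq₀p' : q₀.comap (algebraMap R S) = p := congrArg PrimeSpectrum.asIdeal hq₀p
  obtain ⟨q, ⟨⟨hq, hpq⟩, hmin⟩, hqq₀⟩ := Ideal.exists_minimalPrimes_le
    (show p.map (algebraMap R S) ≤ q₀ from Ideal.map_le_iff_le_comap.mpr hq₀p'.ge)
  have hqp : q.comap (algebraMap R S) = p :=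
    le_antisymm ((Ideal.comap_mono hqq₀).trans hq₀p'.le) (Ideal.map_le_iff_le_comap.mp hpq)
  have : q.LiesOver p := ⟨hqp.symm⟩
  have hmem : q.map (Ideal.Quotient.mk (p.map (algebraMap R S))) ∈ minimalPrimes (S ⧸ p.map (algebraMap R S)) := by
    rw [minimalPrimes_eq_minimals, Set.mem_ofPred_eq]
    refine ⟨Ideal.map_isPrime_of_surjective Ideal.Quotient.mk_surjective (by simpa using hpq), ?_⟩
    intro Q hQ hle
    have h1 : Q.comap (Ideal.Quotient.mk (p.map (algebraMap R S))) ≤ q := by
      refine (Ideal.comap_mono hle).trans ?_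
      rw [Ideal.comap_map_of_surjective _ Ideal.Quotient.mk_surjective, ← RingHom.ker_eq_comap_bot,
        Ideal.mk_ker, sup_of_le_left hpq]
    have h2 := hmin (y := Q.comap (Ideal.Quotient.mk (p.map (algebraMap R S))))
      ⟨hQ.comap _, Ideal.mk_ker.ge.trans ((RingHom.ker_eq_comap_bot _).le.trans (Ideal.comap_mono bot_le))⟩ h1
    exact (Ideal.map_mono h2).trans Ideal.map_comap_le
  have hht : q.height ≤ k := by
    rw [Ideal.height_eq_height_add_of_liesOver_of_hasGoingDown p q,
      (Ideal.height_eq_zero_iff).mpr hmem, add_zero]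
    exact hp
  have := hS q hht
  have h := Groth.Ega4Algebra1.isRegularLocalRing_comap_of_flat R S q
  exact Groth.Ega4Algebra1.isRegularLocalRing_of_eq hqp h

end Groth.Agent.S9438
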