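import Groth.Statements.S1186
import Groth.Agent.SpecFerrand.Relative

set_option autoImplicit false
universe u
open Pi1

namespace Groth.Agent.S1186

open AlgebraicGeometry CategoryTheory CategoryTheory.Limits in
/-- Let i : Z ⟶ X be a closed immersion and j : Z ⟶ Y an integral morphism such that every fibre of j
lies in the preimage under i of some affine open of X, and let a : X ⟶ W, b : Y ⟶ W exhibit W as the
pushout of i and j in the category of schemes. If U is finite étale over X and V is finite étale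
over Y with U ×_X Z ≅ V ×_Y Z over Z, then there is a finite étale cover T of W whose restrictions
to X and to Y are isomorphic to U and to V respectively. (This is the essential-surjectivity part of
an equivalence between finite étale covers of W and the 2-fibre product of the categories of finite
étale covers of X and of Y over that of Z; only the gluing of objects is asserted, and the
compatibility of the two identifications over Z is not asserted.) -/
theorem result {Z X Y W : Scheme.{u}} (i : Z ⟶ X) [IsClosedImmersion i] (j : Z ⟶ Y) [IsIntegralHom j]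
    (h3 : ∀ y : Y, ∃ U : X.Opens, IsAffineOpen U ∧ ∀ z : Z, j.base z = y → i.base z ∈ U)
    (a : X ⟶ W) (b : Y ⟶ W) (hpo : IsPushout i j a b)
    (U : FEt.Cat X) (V : FEt.Cat Y) (e : (FEt.restrict i).obj U ≅ (FEt.restrict j).obj V) :
    ∃ T : FEt.Cat W, Nonempty ((FEt.restrict a).obj T ≅ U) ∧ Nonempty ((FEt.restrict b).obj T ≅ V) := by
  have hc : Groth.SpecFerrand.Glue.Covers i j := Groth.SpecFerrand.Glue.covers_of_fibres i j fun y => by
    obtain ⟨U, hU, h⟩ := h3 y
    exact ⟨U, hU, fun z hz => h z hz⟩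
  haveI : IsFinite U.hom := U.prop.1
  haveI : Etale U.hom := U.prop.2
  haveI : IsFinite V.hom := V.prop.1
  haveI : Etale V.hom := V.prop.2
  let i' := pullback.fst U.hom i
  let c := pullback.snd U.hom i
  let eL : pullback U.hom i ≅ pullback V.hom j :=
    { hom := e.hom.left
      inv := e.inv.left
      hom_inv_id := congrArg (fun t => t.left) e.hom_inv_id
      inv_hom_id := congrArg (fun t => t.left) e.inv_hom_id }
  have hw : eL.hom ≫ pullback.snd V.hom j = c := MorphismProperty.Over.w e.hom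
  let j' := eL.hom ≫ pullback.fst V.hom j
  have hX : IsPullback c i' i U.hom := (IsPullback.of_hasPullback U.hom i).flip
  have hY : IsPullback c j' j V.hom :=
    (IsPullback.of_hasPullback V.hom j).flip.of_iso eL.symm (Iso.refl _) (Iso.refl _) (Iso.refl _)
      (by simp [← hw]) (by simp [j']) (by simp) (by simp)
  haveI : IsClosedImmersion i' := MorphismProperty.of_isPullback hX inferInstance
  haveI : IsIntegralHom j' := MorphismProperty.of_isPullback hY inferInstance
  have hc' : Groth.SpecFerrand.Glue.Covers i' j' := fun y' => by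
    obtain ⟨k, hk⟩ := hc (V.hom y')
    refine ⟨⟨U.hom ⁻¹ᵁ k.U, V.hom ⁻¹ᵁ k.V, k.affU.preimage _, k.affV.preimage _, ?_⟩, hk⟩
    rw [← Scheme.Hom.comp_preimage, ← Scheme.Hom.comp_preimage, ← hX.w, ← hY.w, Scheme.Hom.comp_preimage,
      Scheme.Hom.comp_preimage, k.eq]
  have hP' := Groth.SpecFerrand.Glue.isPushout hc'
  have hcomm : i' ≫ U.hom ≫ a = j' ≫ V.hom ≫ b := by
    rw [← Category.assoc, ← hX.w, Category.assoc, hpo.w, ← Category.assoc, hY.w, Category.assoc]
  let kk := hP'.desc (U.hom ≫ a) (V.hom ≫ b) hcomm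
  have ha : Groth.SpecFerrand.Glue.a hc' ≫ kk = U.hom ≫ a := hP'.inl_desc _ _ _
  have hb : Groth.SpecFerrand.Glue.b hc' ≫ kk = V.hom ≫ b := hP'.inr_desc _ _ _
  have hl := Groth.SpecFerrand.isPullback_inl hc hpo hc' hP' hX hY ha hb
  have hr := Groth.SpecFerrand.isPullback_inr hc hpo hc' hP' hX hY ha hb
  obtain ⟨hia, hib, -, -⟩ := Groth.SpecFerrand.Glue.facts_of_isPushout hc hpo
  haveI : Etale kk := Groth.SpecFerrand.property_of_charts hc hpo hc' hP' hX hY ha hb fun r => r.etale.2
    ⟨(HasRingHomProperty.Spec_iff (P := @Etale)).1 (MorphismProperty.of_isPullback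
        (IsPullback.of_horiz_isIso_mono ⟨by simp⟩ : IsPullback (𝟙 _) (Spec.map r.β) (Spec.map r.β ≫ r.c.uY) r.c.uY)
        (show Etale (Spec.map r.β ≫ r.c.uY) from r.hβ ▸ inferInstance)),
      (HasRingHomProperty.Spec_iff (P := @Etale)).1 (MorphismProperty.of_isPullback
        (IsPullback.of_horiz_isIso_mono ⟨by simp⟩ : IsPullback (𝟙 _) (Spec.map r.α) (Spec.map r.α ≫ r.c.uX) r.c.uX)
        (show Etale (Spec.map r.α ≫ r.c.uX) from r.hα ▸ inferInstance))⟩
  haveI : IsAffineHom kk := by
    refine isAffineHom_of_forall_exists_isAffineOpen _ fun x => ?_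
    obtain ⟨ch, hx, -⟩ := Groth.SpecFerrand.Glue.exists_sqChart_le hc hpo (V := ⊤) (x := x) trivial
    refine ⟨ch.u.opensRange, hx, isAffineOpen_opensRange _, ?_⟩
    let k := ch.pair hpo.w
    let k' : Groth.SpecFerrand.Glue.GoodPair i' j' := ⟨U.hom ⁻¹ᵁ k.U, V.hom ⁻¹ᵁ k.V, k.affU.preimage _, k.affV.preimage _, by
      rw [← Scheme.Hom.comp_preimage, ← Scheme.Hom.comp_preimage, ← hX.w, ← hY.w, Scheme.Hom.comp_preimage,
        Scheme.Hom.comp_preimage, k.eq]⟩
    have e' : kk ⁻¹ᵁ ch.u.opensRange = (Groth.SpecFerrand.Glue.ιc i' j' k').opensRange := by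
      ext p
      rcases Groth.SpecFerrand.Glue.jointly_surjective_ab hc' p with ⟨w, rfl⟩ | ⟨w, rfl⟩
      · show kk (Groth.SpecFerrand.Glue.a hc' w) ∈ ch.u.opensRange ↔ _
        rw [← Scheme.Hom.comp_apply, ha, Scheme.Hom.comp_apply, ← ch.mem_pair_U hpo.w]
        exact Iff.of_eq (congrArg (w ∈ ·) (Groth.SpecFerrand.Glue.preimage_a hc' k')).symm
      · show kk (Groth.SpecFerrand.Glue.b hc' w) ∈ ch.u.opensRange ↔ _
        rw [← Scheme.Hom.comp_apply, hb, Scheme.Hom.comp_apply, ← ch.mem_pair_V hpo.w]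
        exact Iff.of_eq (congrArg (w ∈ ·) (Groth.SpecFerrand.Glue.preimage_b hc' k')).symm
    rw [e']
    exact isAffineOpen_opensRange _
  haveI : UniversallyClosed (Groth.SpecFerrand.Glue.a hc' ≫ kk) := ha ▸ inferInstance
  haveI : UniversallyClosed (Groth.SpecFerrand.Glue.b hc' ≫ kk) := hb ▸ inferInstance
  haveI : UniversallyClosed kk := Groth.SpecFerrand.universallyClosed_of_jointly _ _ kk
    (Groth.SpecFerrand.Glue.jointly_surjective_ab hc')
  haveI : IsIntegralHom kk := IsIntegralHom.iff_universallyClosed_and_isAffineHom.2 ⟨inferInstance, inferInstance⟩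
  haveI : IsFinite kk := (IsFinite.iff_isIntegralHom_and_locallyOfFiniteType _).2 ⟨inferInstance, inferInstance⟩
  refine ⟨MorphismProperty.Over.mk ⊤ kk ⟨inferInstance, inferInstance⟩,
    ⟨MorphismProperty.Over.isoMk hl.flip.isoPullback.symm ?_⟩, ⟨MorphismProperty.Over.isoMk hr.flip.isoPullback.symm ?_⟩⟩
  · exact hl.flip.isoPullback_inv_snd
  · exact hr.flip.isoPullback_inv_snd

end Groth.Agent.S1186
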