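import Groth.Statements.S7652
import Groth.Agent.ReducedNormal.Basic

set_option autoImplicit false
universe u
open CategoryTheory CategoryTheory.Limits AlgebraicGeometry
open Variety

namespace Groth.Agent.S7652

/-- For a reduced local Nagata ring (A, m) of Krull dimension one, write A' for the integral closure of
A in its total fraction ring. Then A' is a finite A-module, every localization of A' at a prime is
an integrally closed domain, and the quotient A'/A is an A-module of finite length. (The published
statement also says that A' is Nagata, which follows from the finiteness of A' over A; this row does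
not restate it.) -/
theorem result (A : Type u) [CommRing A] [IsLocalRing A]
    [IsReduced A] (hN : CAlg.IsNagata A) (hdim : ringKrullDim A = 1) :
    Module.Finite A (integralClosure A (FractionRing A)) ∧
      (∀ p : PrimeSpectrum (integralClosure A (FractionRing A)),
        IsDomain (Localization.AtPrime p.asIdeal) ∧ IsIntegrallyClosed (Localization.AtPrime p.asIdeal)) ∧
      Curv2.deltaInv A < ⊤ := by
  obtain ⟨hnoeth, hN2⟩ := hN
  have hfin : Module.Finite A (integralClosure A (FractionRing A)) := by
    refine Groth.ReducedNormal.finite_integralClosure A fun P => ?_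
    have := Ideal.minimalPrimes_isPrime P.2
    have hC : Module.Finite (A ⧸ P.1) (integralClosure (A ⧸ P.1) (FractionRing (A ⧸ P.1))) :=
      hN2 P.1 (FractionRing (A ⧸ P.1)) inferInstance
    have : Module.Finite A (A ⧸ P.1) := Module.Finite.of_surjective
      (IsScalarTower.toAlgHom A A (A ⧸ P.1)).toLinearMap Ideal.Quotient.mk_surjective
    have : Module.Finite A (integralClosure (A ⧸ P.1) (FractionRing (A ⧸ P.1))) :=
      Module.Finite.trans (A ⧸ P.1) _
    exact Module.Finite.of_surjective
      ({ toFun := fun x => ⟨x.1, isIntegral_trans x.1 x.2⟩
         map_add' := fun _ _ => rfl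
         map_smul' := fun _ _ => rfl } :
        integralClosure (A ⧸ P.1) (FractionRing (A ⧸ P.1)) →ₗ[A]
          integralClosure A (FractionRing (A ⧸ P.1)))
      fun x => ⟨⟨x.1, IsIntegral.tower_top x.2⟩, rfl⟩
  exact ⟨hfin, fun p => Groth.ReducedNormal.normal_localization A p.asIdeal,
    lt_top_iff_ne_top.mpr (Groth.ReducedNormal.length_ne_top_of_dim_one A hdim)⟩


end Groth.Agent.S7652
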