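import Groth.Statements.S8347
import Groth.Agent.CategoryFibred.SpSeqPages

set_option autoImplicit false
universe v u
open CategoryTheory CategoryTheory.Limits
open SpSeq

namespace Groth.Agent.S8347
open Groth.CatFib

/-- Let E be a spectral sequence in an abelian category with abutment data (H^m), and suppose that for
some page r and every total degree m there is an integer q(m) such that E_r^{m-q,q} = 0 for every q
other than q(m). Let n be a total degree such that the filtration of H^n is discrete (some step is
zero) and exhaustive (H^n is the supremum of the steps), and such that the position (n - q(n), q(n))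
is stationary from page r on. Then H^n is isomorphic to E_r^{n-q(n), q(n)}. (The published statement
asserts this without any condition on the differentials at the surviving positions; that version
fails when a differential d_r links the surviving terms of two consecutive total degrees, for
instance a spectral sequence whose only nonzero page-2 terms are E_2^{0,1} and E_2^{2,0} with d_2 an
isomorphism between them and zero abutment. The stationarity assumed here is automatic when q(m)
does not depend on m and r ≥ 2.) -/
theorem result {C : Type u} [Category.{v} C] [Abelian C] {r₀ : ℤ}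
    (E : CohomologicalSpectralSequence C r₀) {H : ℤ → C} (a : SpSeq.Abutment E H)
    (r : ℤ) (hr : r₀ ≤ r) (q : ℤ → ℤ)
    (hdeg : ∀ m q' : ℤ, q' ≠ q m → IsZero ((E.page r hr).X (m - q', q')))
    (n : ℤ) (hdisc : (a.filObj n).IsDiscrete) (hexh : a.IsExhaustive n)
    (hst : SpSeq.StationaryAt E (n - q n, q n) r) :
    Nonempty (H n ≅ (E.page r hr).X (n - q n, q n)) := by
  obtain ⟨p₀, hp₀⟩ : ∃ p₀, p₀ = n - q n := ⟨_, rfl⟩
  have hz : ∀ p : ℤ, p ≠ p₀ → IsZero (SpSeq.grPiece (a.fil n) (a.anti n) p) := by
    intro p hp
    refine SpSeqPages.isZero_grPiece a r hr n p ?_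
    have := hdeg n (n - p) (by omega)
    rwa [sub_sub_cancel] at this
  have top : a.fil n p₀ = ⊤ := by
    refine top_le_iff.1 (hexh.2 ?_)
    rintro _ ⟨p, rfl⟩
    change a.fil n p ≤ a.fil n p₀
    rcases le_total p₀ p with h | h
    · exact a.anti n h
    · exact (SpSeqPages.eq_of_isZero_grPiece (a.anti n) p p₀ h fun i _ hi => hz i (by omega)).le
  have bot : a.fil n (p₀ + 1) = ⊥ :=
    SpSeqPages.eq_bot_of_isZero_grPiece (a.anti n) _ hdisc fun i hi => hz i (by omega)
  have h0 : (a.fil n (p₀ + 1)).ofLE (a.fil n p₀) (a.anti n (Int.le_add_one le_rfl)) = 0 :=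
    (SpSeqPages.isZero_of_eq_bot _ bot).eq_of_src _ _
  have e : SpSeq.grPiece (a.fil n) (a.anti n) p₀ ≅ H n :=
    cokernelIsoOfEq h0 ≪≫ cokernelZeroIsoTarget ≪≫ Subobject.isoOfEq _ _ top ≪≫ asIso (⊤ : Subobject (H n)).arrow
  have key : ∀ s, (n - q n) + q n = s → Nonempty ((E.page r hr).X (n - q n, q n) ≅ SpSeq.grPiece (a.fil s) (a.anti s) (n - q n)) := by
    rintro s rfl
    exact ⟨SpSeqPages.statIso E _ _ _ hst (a.stat _) ≪≫ a.β (n - q n, q n)⟩
  obtain ⟨i⟩ := key n (sub_add_cancel _ _)
  subst hp₀
  exact ⟨(i ≪≫ e).symm⟩

end Groth.Agent.S8347
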