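import Groth.Statements.S1193
import Mathlib

set_option autoImplicit false
universe u
open FlatMor

namespace Groth.Agent.S1193

open IsLocalRing in
/-- Let R be a local ring, S an R-algebra whose closed fibre ring is Noetherian and N an S-module whose
closed fibre module N/𝔪N is finite. Let Σ be the set of elements of S acting injectively on N/𝔪N.
Then a prime of S is disjoint from Σ exactly when it lies inside an associated prime of N/𝔪N (the
primes of the localization at Σ), the localization of S at Σ has finitely many maximal ideals, and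
an ideal of that localization is maximal exactly when it is prime and contracts to a maximal member
of the set of associated primes of N/𝔪N. -/
theorem result {R S : Type u} [CommRing R] [IsLocalRing R] [CommRing S] [Algebra R S]
    (N : Type u) [AddCommGroup N] [Module S N] [Module R N] [IsScalarTower R S N]
    [IsNoetherianRing ((maximalIdeal R).Fiber S)]
    [Module.Finite ((maximalIdeal R).Fiber S) (FlatCA.fiberMod (maximalIdeal R) S N)] :
    (∀ (q : Ideal S) [q.IsPrime], Disjoint (q : Set S) (FlatCA.nzdFiber R S N) ↔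
        ∃ q' ∈ associatedPrimes S (FlatCA.fiberMod (maximalIdeal R) S N), q ≤ q') ∧
    {Q : Ideal (Localization (FlatCA.nzdFiber R S N)) | Q.IsMaximal}.Finite ∧
    (∀ Q : Ideal (Localization (FlatCA.nzdFiber R S N)), Q.IsMaximal ↔ (Q.IsPrime ∧
        Maximal (fun r => r ∈ associatedPrimes S (FlatCA.fiberMod (maximalIdeal R) S N))
          (Q.comap (algebraMap S (Localization (FlatCA.nzdFiber R S N)))))) := by
  classical
  set m := maximalIdeal R
  letI : Algebra S (m.Fiber S) := Algebra.TensorProduct.rightAlgebra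
  set M := FlatCA.fiberMod m S N
  have : IsScalarTower S (m.Fiber S) M :=
    inferInstanceAs (IsScalarTower S (m.Fiber S) (TensorProduct S (m.Fiber S) N))
  have hsurj : Function.Surjective (algebraMap S (m.Fiber S)) := by
    intro x
    obtain ⟨a, ha, s, hs⟩ := Ideal.Fiber.exists_smul_eq_one_tmul m x
    have hau : IsUnit a := by
      simpa [m, IsLocalRing.mem_maximalIdeal, mem_nonunits_iff] using ha
    obtain ⟨u, rfl⟩ := hau
    refine ⟨(↑u⁻¹ : R) • s, ?_⟩
    show (1 : m.ResidueField) ⊗ₜ[R] ((↑u⁻¹ : R) • s) = x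
    rw [TensorProduct.tmul_smul, ← hs, smul_smul, Units.inv_mul, one_smul]
  have hsmul : ∀ (s : S) (x : M), s • x = algebraMap S (m.Fiber S) s • x := fun s x =>
    (algebraMap_smul _ s x).symm
  have hcolon : ∀ x : M, (⊥ : Submodule S M).colon {x} =
      ((⊥ : Submodule (m.Fiber S) M).colon {x}).comap (algebraMap S (m.Fiber S)) := by
    intro x; ext s
    rw [Submodule.mem_colon_singleton, Submodule.mem_bot, Ideal.mem_comap, Submodule.mem_colon_singleton, Submodule.mem_bot, hsmul s x]
  have hass : ∀ P : Ideal S, P ∈ associatedPrimes S M ↔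
      ∃ Q ∈ associatedPrimes (m.Fiber S) M, P = Q.comap (algebraMap S (m.Fiber S)) := by
    intro P
    constructor
    · rintro ⟨hP, x, hx⟩
      rw [hcolon x, ← Ideal.comap_radical] at hx
      refine ⟨_, ⟨?_, x, rfl⟩, hx⟩
      rw [← Ideal.map_comap_of_surjective _ hsurj (((⊥ : Submodule (m.Fiber S) M).colon {x}).radical)]
      rw [← hx]
      haveI := hP
      exact Ideal.map_isPrime_of_surjective hsurj (hx ▸ Ideal.comap_mono bot_le)
    · rintro ⟨Q, ⟨hQ, x, hx⟩, rfl⟩
      refine ⟨inferInstance, x, ?_⟩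
      rw [hcolon x, ← Ideal.comap_radical, ← hx]
  let A := associatedPrimes S M
  have hAfin : A.Finite := by
    refine ((associatedPrimes.finite (m.Fiber S) M).image
      (Ideal.comap (algebraMap S (m.Fiber S)))).subset fun P hP => ?_
    obtain ⟨Q, hQ, rfl⟩ := (hass P).mp hP
    exact ⟨Q, hQ, rfl⟩
  have hsig : ∀ s : S, s ∉ FlatCA.nzdFiber R S N ↔ ∃ P ∈ A, s ∈ P := by
    intro s
    have hz := Set.ext_iff.mp (biUnion_associatedPrimes_eq_zero_divisors (m.Fiber S) M)
      (algebraMap S (m.Fiber S) s)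
    simp only [Set.mem_iUnion, Set.mem_setOf_eq, SetLike.mem_coe] at hz
    constructor
    · intro hs
      have : ∃ x : M, s • x = 0 ∧ x ≠ 0 := by
        by_contra! hc
        exact hs fun x hx => hc x hx
      obtain ⟨x, hx, hx0⟩ := this
      obtain ⟨Q, hQ, hsQ⟩ := hz.mpr ⟨x, hx0, (hsmul s x).symm.trans hx⟩
      exact ⟨_, (hass _).mpr ⟨Q, hQ, rfl⟩, hsQ⟩
    · rintro ⟨P, hP, hsP⟩ hs
      obtain ⟨Q, hQ, rfl⟩ := (hass P).mp hP
      obtain ⟨x, hx0, hx⟩ := hz.mp ⟨Q, hQ, hsP⟩
      exact hx0 (hs x ((hsmul s x).trans hx))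
  have h1 : ∀ (q : Ideal S) [q.IsPrime], Disjoint (q : Set S) (FlatCA.nzdFiber R S N) ↔
      ∃ q' ∈ A, q ≤ q' := by
    intro q _
    rw [Set.disjoint_left]
    constructor
    · intro hd
      have hsub : (q : Set S) ⊆ ⋃ P ∈ (hAfin.toFinset : Set (Ideal S)), (P : Set S) := by
        intro s hs
        obtain ⟨P, hP, hsP⟩ := (hsig s).mp (hd hs)
        exact Set.mem_biUnion (hAfin.mem_toFinset.mpr hP) hsP
      rw [Ideal.subset_union_prime ⊥ ⊥ (fun i hi _ _ => IsAssociatedPrime.isPrime (hAfin.mem_toFinset.mp hi))] at hsub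
      obtain ⟨P, hP, hle⟩ := hsub
      exact ⟨P, hAfin.mem_toFinset.mp hP, hle⟩
    · rintro ⟨q', hq', hle⟩ s hs
      exact (hsig s).mpr ⟨q', hq', hle hs⟩
  let L := Localization (FlatCA.nzdFiber R S N)
  have hmax : ∀ Q : Ideal L, Q.IsMaximal → Maximal (fun r => r ∈ A) (Q.comap (algebraMap S L)) := by
    intro Q hQ
    have hp : ∀ q' ∈ A, Q.comap (algebraMap S L) ≤ q' → q' = Q.comap (algebraMap S L) := by
      intro q' hq' hle
      have hprime : q'.IsPrime := IsAssociatedPrime.isPrime hq'
      have hd := (h1 q').mpr ⟨q', hq', le_rfl⟩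
      have hprime' := IsLocalization.isPrime_of_isPrime_disjoint (FlatCA.nzdFiber R S N) L q' hprime hd.symm
      have hle' : Q ≤ q'.map (algebraMap S L) := by
        rw [← IsLocalization.map_under (FlatCA.nzdFiber R S N) L Q]
        exact Ideal.map_mono hle
      rw [hQ.eq_of_le hprime'.ne_top hle']
      exact (IsLocalization.under_map_of_isPrime_disjoint _ _ hprime hd.symm).symm
    have hdis := ((IsLocalization.isPrime_iff_isPrime_disjoint (FlatCA.nzdFiber R S N) L Q).mp hQ.isPrime)
    have := hdis.1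
    obtain ⟨q', hq', hle⟩ := (h1 (Q.comap (algebraMap S L))).mp hdis.2.symm
    exact ⟨hp q' hq' hle ▸ hq', fun r hr hler => (hp r hr hler).le⟩
  refine ⟨h1, ?_, fun Q => ⟨fun hQ => ⟨hQ.isPrime, hmax Q hQ⟩, fun ⟨hQp, hQm⟩ => ?_⟩⟩
  · refine Set.Finite.of_finite_image (f := Ideal.comap (algebraMap S L))
      (hAfin.subset ?_) fun Q _ Q' _ he => ?_
    · rintro _ ⟨Q, hQ, rfl⟩
      exact (hmax Q hQ).1
    · exact (IsLocalization.orderEmbedding (FlatCA.nzdFiber R S N) L).injective he
  · obtain ⟨Q', hQ', hle⟩ := Q.exists_le_maximal hQp.ne_top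
    have := le_antisymm (Ideal.comap_mono hle) (hQm.2 (hmax Q' hQ').1 (Ideal.comap_mono hle))
    rwa [(IsLocalization.orderEmbedding (FlatCA.nzdFiber R S N) L).injective this]

end Groth.Agent.S1193
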