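import Groth.Statements.S1194
import Groth.Agent.Calg1.InjModMaximalEssFP
import Groth.Agent.FlatmorThree.UnivInjLocal

set_option autoImplicit false
universe u
open FlatMor TensorProduct

attribute [local instance] Algebra.TensorProduct.rightAlgebra

namespace Groth.Agent.S1194

open IsLocalRing in
/-- Let R → S be a local homomorphism of local rings which is essentially of finite presentation, and N
a finitely presented S-module flat over R. Then multiplication by any element of S acting
injectively on N/𝔪_R N is a universally injective map of R-modules on N, and the localization map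
from N to its localization at all such elements is universally injective over R. -/
theorem result {R S : Type u} [CommRing R] [IsLocalRing R] [CommRing S] [IsLocalRing S] [Algebra R S]
    [IsLocalHom (algebraMap R S)] (hS : FlatCA.EssFinitePresentation R S)
    (N : Type u) [AddCommGroup N] [Module S N] [Module R N] [IsScalarTower R S N] [Module.FinitePresentation S N] [Module.Flat R N] :
    (∀ s ∈ FlatCA.nzdFiber R S N, FlatCA.UnivInj R ((LinearMap.lsmul S N s).restrictScalars R)) ∧
    FlatCA.UnivInj R ((LocalizedModule.mkLinearMap (FlatCA.nzdFiber R S N) N).restrictScalars R) := by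
  have hS' : CAlgX.IsEssFinitePresentation R S := hS
  let m := IsLocalRing.maximalIdeal R
  let F := m.Fiber S
  let ρ : (F ⊗[S] N) ≃ₗ[m.ResidueField] m.ResidueField ⊗[R] N :=
    Algebra.IsPushout.cancelBaseChange R m.ResidueField S F N
  let e : (R ⧸ m) ≃ₗ[R] m.ResidueField :=
    LinearEquiv.ofBijective ((IsScalarTower.toAlgHom R (R ⧸ m) m.ResidueField).toLinearMap)
      (Ideal.bijective_algebraMap_quotient_residueField m)
  -- the kernel of `N → κ ⊗ N`
  have hker : ∀ x : N, (1 : F) ⊗ₜ[S] x = 0 ↔ x ∈ m.map (algebraMap R S) • (⊤ : Submodule S N) := by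
    intro x
    have h1 : ρ ((1 : F) ⊗ₜ[S] x) = (1 : m.ResidueField) ⊗ₜ[R] x :=
      Algebra.IsPushout.cancelBaseChange_tmul R m.ResidueField S F N x
    have h2 : (LinearEquiv.rTensor N e) ((1 : R ⧸ m) ⊗ₜ[R] x) = (1 : m.ResidueField) ⊗ₜ[R] x := by
      rw [LinearEquiv.rTensor_tmul, show e 1 = 1 from map_one (IsScalarTower.toAlgHom R (R ⧸ m) m.ResidueField)]
    have h3 : x ∈ m.map (algebraMap R S) • (⊤ : Submodule S N) ↔ x ∈ m • (⊤ : Submodule R N) := by
      rw [← Submodule.restrictScalars_mem R, Ideal.smul_restrictScalars, Submodule.restrictScalars_top]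
    rw [h3, ← Submodule.Quotient.mk_eq_zero, ← TensorProduct.quotTensorEquivQuotSMul_mk_one_tmul]
    refine (ρ.map_eq_zero_iff.symm.trans ?_).trans (TensorProduct.quotTensorEquivQuotSMul N m).map_eq_zero_iff.symm
    rw [h1, ← h2]
    exact (LinearEquiv.rTensor N e).map_eq_zero_iff
  have h1 : ∀ s ∈ FlatCA.nzdFiber R S N, FlatCA.UnivInj R ((LinearMap.lsmul S N s).restrictScalars R) := by
    intro s hs Q _ _
    rw [LinearMap.lTensor_inj_iff_rTensor_inj]
    refine Groth.Calg1.rTensor_injective_of_injective_mod hS' (LinearMap.lsmul S N s) (fun x hx => ?_) Q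
    rw [LinearMap.lsmul_apply] at hx
    refine (hker x).mp (hs ((1 : F) ⊗ₜ[S] x) ?_)
    exact (TensorProduct.tmul_smul s (1 : F) x).symm.trans ((hker _).mpr hx)
  exact ⟨h1, Groth.FlatmorThree.univInj_localization N _ h1⟩

end Groth.Agent.S1194
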