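import Groth.Statements.S1195
import Groth.Agent.Calg3.FibreAssTorsion

set_option autoImplicit false
universe u
open FlatMor TensorProduct

attribute [local instance] Algebra.TensorProduct.rightAlgebra

namespace Groth.Agent.S1195

open TensorProduct in
/-- Let S be a finitely presented R-algebra, N a finitely presented S-module flat over R, and S' a flat
S-algebra such that every prime q of S (over p in R) whose extension to the fibre ring over p is an
associated prime of the fibre module of N is the contraction of a prime of S'. Then the base change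
map N → S' ⊗_S N is universally injective as a map of R-modules. -/
theorem result {R S S' : Type u} [CommRing R] [CommRing S] [CommRing S'] [Algebra R S] [Algebra S S'] [Algebra R S'] [IsScalarTower R S S']
    [Algebra.FinitePresentation R S] [Module.Flat S S']
    (N : Type u) [AddCommGroup N] [Module S N] [Module R N] [IsScalarTower R S N] [Module.FinitePresentation S N] [Module.Flat R N]
    (h : ∀ (p : Ideal R) (q : Ideal S) [p.IsPrime] [q.IsPrime] [q.LiesOver p],
      FlatCA.fiberIdeal p q ∈ associatedPrimes (p.Fiber S) (FlatCA.fiberMod p S N) →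
      ∃ q' : Ideal S', q'.IsPrime ∧ q'.comap (algebraMap S S') = q) :
    FlatCA.UnivInj R ((TensorProduct.mk S S' N 1).restrictScalars R) := by
  intro Q _ _
  rw [LinearMap.lTensor_inj_iff_rTensor_inj, injective_iff_map_eq_zero]
  intro z hz
  -- the element dies in `S' ⊗ (N ⊗ Q)`
  let e := TensorProduct.AlgebraTensorModule.assoc R S S S' N Q
  have he : ∀ w : N ⊗[R] Q, e (((TensorProduct.mk S S' N 1).restrictScalars R).rTensor Q w) = (1 : S') ⊗ₜ[S] w := by
    intro w
    induction w with
    | zero => simp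
    | tmul n p => rfl
    | add a b ha hb => rw [map_add, map_add, ha, hb, TensorProduct.tmul_add]
  have h0 : (1 : S') ⊗ₜ[S] z = 0 := by rw [← he, hz, map_zero]
  let I : Ideal S := LinearMap.ker (LinearMap.toSpanSingleton S (N ⊗[R] Q) z)
  let g : (S ⧸ I) →ₗ[S] N ⊗[R] Q := Submodule.liftQ I (LinearMap.toSpanSingleton S (N ⊗[R] Q) z) le_rfl
  have hg : Function.Injective g := LinearMap.ker_eq_bot.mp (Submodule.ker_liftQ_eq_bot _ _ _ le_rfl)
  have htop : I.map (algebraMap S S') = ⊤ := by
    have h1 : (1 : S') ⊗ₜ[S] (Ideal.Quotient.mk I 1) = 0 := by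
      refine Module.Flat.lTensor_preserves_injective_linearMap (M := S') g hg ?_
      rw [LinearMap.lTensor_tmul, map_zero]
      change (1 : S') ⊗ₜ[S] ((1 : S) • z) = 0
      rw [one_smul, h0]
    have h2 := congrArg (TensorProduct.tensorQuotEquivQuotSMul S' I) h1
    rw [map_zero, TensorProduct.tensorQuotEquivQuotSMul_tmul_mk, one_smul, Submodule.Quotient.mk_eq_zero,
      Ideal.smul_top_eq_map, Submodule.restrictScalars_mem] at h2
    exact (Ideal.eq_top_iff_one _).mpr h2
  suffices hI : I = ⊤ by
    have h1 : (1 : S) ∈ I := hI ▸ Submodule.mem_top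
    change (1 : S) • z = 0 at h1
    rwa [one_smul] at h1
  by_contra hI
  obtain ⟨q, hq, hIq⟩ := Ideal.exists_le_maximal I hI
  have := hq.isPrime
  let p := q.comap (algebraMap R S)
  have : q.LiesOver p := ⟨rfl⟩
  have : Module.Finite (p.Fiber S) (FlatCA.fiberMod p S N) :=
    inferInstanceAs (Module.Finite (p.Fiber S) (p.Fiber S ⊗[S] N))
  let A : Set (Ideal (p.Fiber S)) :=
    {P | P ∈ associatedPrimes (p.Fiber S) (FlatCA.fiberMod p S N) ∧ P.comap (algebraMap S (p.Fiber S)) ≤ q}
  obtain ⟨t, htI, ht⟩ : ∃ t ∈ I, ∀ P ∈ A, t ∉ P.comap (algebraMap S (p.Fiber S)) := by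
    by_contra hno
    push Not at hno
    have hcover : (I : Set S) ⊆ ⋃ P ∈ A, ((P.comap (algebraMap S (p.Fiber S)) : Ideal S) : Set S) := fun i hi => by
      obtain ⟨P, hP, hiP⟩ := hno i hi
      exact Set.mem_biUnion hP hiP
    obtain ⟨P, hP, hle⟩ := (I.subset_union_prime_finite
      ((associatedPrimes.finite (p.Fiber S) (FlatCA.fiberMod p S N)).subset fun P hP => hP.1 : A.Finite)
      (f := fun P => P.comap (algebraMap S (p.Fiber S))) ⊥ ⊥ fun P hP _ _ => hP.1.isPrime.comap _).1 hcover
    have := hP.1.isPrime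
    let q₀ := P.comap (algebraMap S (p.Fiber S))
    have hover : q₀.LiesOver p := ⟨by
      rw [Ideal.under_def, Ideal.comap_comap, ← IsScalarTower.algebraMap_eq]
      exact (Ideal.LiesOver.over (P := P) (p := p))⟩
    obtain ⟨q', hq', hqq⟩ := h p q₀ ((Groth.RaynaudGruson.fiberIdeal_comap p P).symm ▸ hP.1)
    refine hq'.ne_top (top_le_iff.mp (htop ▸ Ideal.map_le_iff_le_comap.mpr ?_))
    exact hqq ▸ hle
  obtain ⟨u, huq, hu⟩ := Groth.Calg3.FibreAssTorsion.exists_notMem_smul_eq_zero N p q t
    (fun P hP hPq => ht P ⟨hP, hPq⟩) Q z htI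
  exact huq (hIq hu)

end Groth.Agent.S1195
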