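import Groth.Statements.S5167
import Groth.Agent.LocDual.FiniteLength

set_option autoImplicit false
universe u
open LocCoh

namespace Groth.Agent.S5167

/-- Let A be a Noetherian local ring which is a quotient of a regular local ring, m its maximal ideal, M
a finite A-module and n ≥ 0. Then H^i_m(M) is of finite length for all i ≤ n if and only if
depth(M_p) > n − dim(A/p) for every prime p ≠ m. -/
theorem result (R : Type u) [CommRing R] [IsRegularLocalRing R] (A : Type u) [CommRing A] [IsLocalRing A] [IsNoetherianRing A] (π : R →+* A) (hπ : Function.Surjective π) (M : Type u) [AddCommGroup M] [Module A M] [Module.Finite A M] (n : ℕ) : (∀ i : ℕ, i ≤ n → IsFiniteLength A (LocCoh.H (IsLocalRing.maximalIdeal A) i M)) ↔ ∀ p : PrimeSpectrum A, p.asIdeal ≠ IsLocalRing.maximalIdeal A → ∀ e : ℕ, ringKrullDim (A ⧸ p.asIdeal) = e → (n : ℕ∞) < LocCoh.depth (Localization.AtPrime p.asIdeal) (LocalizedModule p.asIdeal.primeCompl M) + e := by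
  letI := π.toAlgebra
  obtain ⟨k, hk⟩ := GrothGoren.exists_injLT_of_regular _ R le_rfl
  simp only [Groth.LocDual.isFiniteLength_H_iff_atPrime (R := R) ⟨k, hk⟩ hπ M]
  constructor
  · intro h p hp e he
    rcases Nat.lt_or_ge n e with hne | hne
    · exact lt_of_lt_of_le (by exact_mod_cast hne) le_add_self
    · haveI : Module.Finite (Localization.AtPrime p.asIdeal)
          (LocalizedModule p.asIdeal.primeCompl M) :=
        Module.Finite.of_isLocalizedModule p.asIdeal.primeCompl
          (LocalizedModule.mkLinearMap p.asIdeal.primeCompl M)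
      have h1 : ((n - e + 1 : ℕ) : ℕ∞) ≤ LocCoh.depth (Localization.AtPrime p.asIdeal)
          (LocalizedModule p.asIdeal.primeCompl M) :=
        (Groth.LocCohBase.le_idealDepth_iff_localCohomology _ _ _).2 fun j hj =>
          h (j + e) (by omega) p.asIdeal hp e j he rfl
      refine lt_of_lt_of_le (b := ((n - e + 1 : ℕ) : ℕ∞) + e) ?_ (by gcongr)
      exact_mod_cast (by omega : n < n - e + 1 + e)
  · intro h i hi p hp' hp e j he hje
    haveI : Module.Finite (Localization.AtPrime p) (LocalizedModule p.primeCompl M) :=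
      Module.Finite.of_isLocalizedModule p.primeCompl (LocalizedModule.mkLinearMap p.primeCompl M)
    have h0 := h ⟨p, hp'⟩ hp e he
    have h1 : ((j + 1 : ℕ) : ℕ∞) ≤ LocCoh.depth (Localization.AtPrime p)
        (LocalizedModule p.primeCompl M) := by
      by_contra hc
      rw [not_le] at hc
      have h2 : LocCoh.depth (Localization.AtPrime p) (LocalizedModule p.primeCompl M) ≤ (j : ℕ∞) :=
        (ENat.lt_natCast_add_one_iff).1 (by exact_mod_cast hc)
      have h3 : (n : ℕ∞) < ((j : ℕ∞) + e) := lt_of_lt_of_le h0 (by gcongr)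
      have h4 : n < j + e := by exact_mod_cast h3
      omega
    exact (Groth.LocCohBase.le_idealDepth_iff_localCohomology _ _ _).1 h1 j (Nat.lt_succ_self j)

end Groth.Agent.S5167
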