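import Groth.Statements.S1196
import Groth.Agent.S1194

set_option autoImplicit false
universe u
open FlatMor TensorProduct

attribute [local instance] Algebra.TensorProduct.rightAlgebra

namespace Groth.Agent.S1196

open TensorProduct IsLocalRing in
/-- Let R → S be a local homomorphism of local rings, essentially of finite presentation, N a finitely
presented S-module flat over R, and S' a flat S-algebra such that every prime of S which is an
associated prime of N/𝔪_R N is the contraction of a prime of S'. Then N → S' ⊗_S N is universally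
injective as a map of R-modules. -/
theorem result {R S S' : Type u} [CommRing R] [IsLocalRing R] [CommRing S] [IsLocalRing S] [CommRing S'] [Algebra R S] [IsLocalHom (algebraMap R S)] [Algebra S S'] [Algebra R S'] [IsScalarTower R S S']
    (hS : FlatCA.EssFinitePresentation R S) [Module.Flat S S']
    (N : Type u) [AddCommGroup N] [Module S N] [Module R N] [IsScalarTower R S N] [Module.FinitePresentation S N] [Module.Flat R N]
    (h : ∀ q ∈ associatedPrimes S (FlatCA.fiberMod (maximalIdeal R) S N),
      ∃ q' : Ideal S', q'.IsPrime ∧ q'.comap (algebraMap S S') = q) :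
    FlatCA.UnivInj R ((TensorProduct.mk S S' N 1).restrictScalars R) := by
  obtain ⟨hsmul, -⟩ := Groth.Agent.S1194.result hS N
  have hess : Algebra.EssFiniteType R S := by
    obtain ⟨S₀, _, _, _, _, T, _, _⟩ := hS
    have : Algebra.EssFiniteType S₀ S := Algebra.EssFiniteType.of_isLocalization S T
    exact Algebra.EssFiniteType.comp R S₀ S
  let F := (maximalIdeal R).Fiber S
  let fm := FlatCA.fiberMod (maximalIdeal R) S N
  have : Algebra.EssFiniteType (maximalIdeal R).ResidueField F :=
    inferInstanceAs (Algebra.EssFiniteType (maximalIdeal R).ResidueField ((maximalIdeal R).ResidueField ⊗[R] S))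
  have : IsNoetherianRing F := Algebra.EssFiniteType.isNoetherianRing (maximalIdeal R).ResidueField F
  have : Module.Finite F fm := inferInstanceAs (Module.Finite F (F ⊗[S] N))
  have : IsScalarTower S F fm := inferInstanceAs (IsScalarTower S F (F ⊗[S] N))
  intro Q _ _
  rw [LinearMap.lTensor_inj_iff_rTensor_inj, injective_iff_map_eq_zero]
  intro z hz
  -- the element dies in `S' ⊗ (N ⊗ Q)`
  let e := TensorProduct.AlgebraTensorModule.assoc R S S S' N Q
  have he : ∀ w : N ⊗[R] Q, e (((TensorProduct.mk S S' N 1).restrictScalars R).rTensor Q w) = (1 : S') ⊗ₜ[S] w := by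
    intro w
    induction w with
    | zero => simp
    | tmul n p => rfl
    | add a b ha hb => rw [map_add, map_add, ha, hb, TensorProduct.tmul_add]
  have h0 : (1 : S') ⊗ₜ[S] z = 0 := by rw [← he, hz, map_zero]
  let I : Ideal S := LinearMap.ker (LinearMap.toSpanSingleton S (N ⊗[R] Q) z)
  let g : (S ⧸ I) →ₗ[S] N ⊗[R] Q := Submodule.liftQ I (LinearMap.toSpanSingleton S (N ⊗[R] Q) z) le_rfl
  have hg : Function.Injective g := LinearMap.ker_eq_bot.mp (Submodule.ker_liftQ_eq_bot _ _ _ le_rfl)
  have htop : I.map (algebraMap S S') = ⊤ := by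
    have h1 : (1 : S') ⊗ₜ[S] (Ideal.Quotient.mk I 1) = 0 := by
      refine Module.Flat.lTensor_preserves_injective_linearMap (M := S') g hg ?_
      rw [LinearMap.lTensor_tmul, map_zero]
      change (1 : S') ⊗ₜ[S] ((1 : S) • z) = 0
      rw [one_smul, h0]
    have h2 := congrArg (TensorProduct.tensorQuotEquivQuotSMul S' I) h1
    rw [map_zero, TensorProduct.tensorQuotEquivQuotSMul_tmul_mk, one_smul, Submodule.Quotient.mk_eq_zero,
      Ideal.smul_top_eq_map, Submodule.restrictScalars_mem] at h2
    exact (Ideal.eq_top_iff_one _).mpr h2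
  -- some element of the annihilator is a nonzerodivisor on the closed fibre
  obtain ⟨t, htI, ht⟩ : ∃ t ∈ I, t ∈ FlatCA.nzdFiber R S N := by
    by_contra hno
    push Not at hno
    have hfin := associatedPrimes.finite F fm
    have hcover : (I : Set S) ⊆ ⋃ P ∈ associatedPrimes F fm, ((P.comap (algebraMap S F) : Ideal S) : Set S) := by
      intro i hi
      have hi' := hno i hi
      rw [mem_nonZeroSMulDivisors_iff] at hi'
      push Not at hi'
      obtain ⟨y, hy, hy0⟩ := hi'
      have hreg : ¬ IsSMulRegular fm (algebraMap S F i) := fun h' =>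
        hy0 (h' (show algebraMap S F i • y = algebraMap S F i • (0 : fm) by rw [smul_zero, algebraMap_smul]; exact hy))
      have hmem : algebraMap S F i ∈ ⋃ P ∈ associatedPrimes F fm, (P : Set F) := by
        rw [biUnion_associatedPrimes_eq_compl_regular]
        exact hreg
      obtain ⟨P, hP, hiP⟩ := Set.mem_iUnion₂.mp hmem
      exact Set.mem_biUnion hP hiP
    obtain ⟨P, hP, hle⟩ := (I.subset_union_prime_finite hfin (f := fun P => P.comap (algebraMap S F)) ⊥ ⊥
      fun P hP _ _ => hP.isPrime.comap _).1 hcover
    obtain ⟨hPp, x, hx⟩ := hP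
    have hq : P.comap (algebraMap S F) ∈ associatedPrimes S fm := by
      refine ⟨hPp.comap _, x, ?_⟩
      rw [hx, Ideal.comap_radical]
      congr 1
    obtain ⟨q', hq', hqq⟩ := h _ hq
    refine hq'.ne_top (top_le_iff.mp (htop ▸ Ideal.map_le_iff_le_comap.mpr ?_))
    exact hqq ▸ hle
  have hinj := (LinearMap.lTensor_inj_iff_rTensor_inj Q _).mp (hsmul t ht Q)
  refine hinj ?_
  rw [map_zero]
  have hact : ∀ w : N ⊗[R] Q, ((LinearMap.lsmul S N t).restrictScalars R).rTensor Q w = t • w := by
    intro w
    induction w with
    | zero => simp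
    | tmul n p => rfl
    | add a b ha hb => rw [map_add, ha, hb, smul_add]
  rw [hact]
  exact htI

end Groth.Agent.S1196
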