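import Groth.Statements.S17722
import Mathlib

set_option autoImplicit false
universe u
open CAlg

namespace Groth.Agent.S17722

/-- Let R → R' be a faithfully flat ring map between Noetherian integrally closed local domains, and p
an ideal of R. If the ideal pR' generated by the image of p is principal, then p is principal. (The
second assertion of the published lemma, descent of unique factorization, is not part of this row.) -/
theorem result
    (R R' : Type u) [CommRing R] [CommRing R'] [IsDomain R] [IsDomain R']
    [IsNoetherianRing R] [IsNoetherianRing R'] [IsLocalRing R] [IsLocalRing R']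
    [IsIntegrallyClosed R] [IsIntegrallyClosed R']
    [Algebra R R'] [Module.FaithfullyFlat R R']
    (p : Ideal R) (hp : (p.map (algebraMap R R')).IsPrincipal) :
    p.IsPrincipal := by
  obtain ⟨b, hb⟩ := hp
  rw [Ideal.submodule_span_eq] at hb
  rcases eq_or_ne b 0 with rfl | hb0
  · refine ⟨0, ?_⟩
    rw [Ideal.submodule_span_eq, Ideal.span_singleton_zero]
    rw [Ideal.span_singleton_zero] at hb
    rw [← Ideal.comap_map_eq_self_of_faithfullyFlat (B := R') p, hb, ← RingHom.ker_eq_comap_bot,
      ← RingHom.injective_iff_ker_eq_bot]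
    exact FaithfulSMul.algebraMap_injective R R'
  · let T : Ideal R' := Ideal.span {t | ∃ x ∈ p, algebraMap R R' x = b * t}
    have key : ∀ z ∈ p.map (algebraMap R R'), ∃ t ∈ T, z = b * t := by
      intro z hz
      induction hz using Submodule.span_induction with
      | mem z hz =>
        obtain ⟨x, hx, rfl⟩ := hz
        obtain ⟨t, ht⟩ := Ideal.mem_span_singleton.1 (hb ▸ Ideal.mem_map_of_mem _ hx :
          algebraMap R R' x ∈ Ideal.span {b})
        exact ⟨t, Ideal.subset_span ⟨x, hx, ht⟩, ht⟩
      | zero => exact ⟨0, zero_mem _, by rw [mul_zero]⟩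
      | add z₁ z₂ _ _ h₁ h₂ =>
        obtain ⟨t₁, ht₁, rfl⟩ := h₁
        obtain ⟨t₂, ht₂, rfl⟩ := h₂
        exact ⟨t₁ + t₂, add_mem ht₁ ht₂, by rw [mul_add]⟩
      | smul c z _ h =>
        obtain ⟨t, ht, rfl⟩ := h
        exact ⟨c * t, Ideal.mul_mem_left _ c ht, by rw [smul_eq_mul]; ring⟩
    obtain ⟨t, ht, htb⟩ := key b (hb ▸ Ideal.mem_span_singleton_self b)
    have h1 : t = 1 := mul_left_cancel₀ hb0 (by rw [mul_one]; exact htb.symm)
    subst h1
    obtain ⟨s, ⟨x, hx, hxs⟩, hs⟩ : ∃ s, (∃ x ∈ p, algebraMap R R' x = b * s) ∧ IsUnit s := by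
      by_contra hall
      simp only [not_exists, not_and] at hall
      exact (IsLocalRing.maximalIdeal.isMaximal R').ne_top ((Ideal.eq_top_iff_one _).2
        (Ideal.span_le.2 (fun s hs hu => by
          obtain ⟨x, hx, hxs⟩ := hs
          exact hall s ⟨x, hx, hxs⟩ hu) ht))
    refine ⟨x, ?_⟩
    rw [Ideal.submodule_span_eq]
    have hmap : p.map (algebraMap R R') = (Ideal.span {x}).map (algebraMap R R') := by
      rw [hb, Ideal.map_span, Set.image_singleton, hxs, Ideal.span_singleton_mul_right_unit hs]
    rw [← Ideal.comap_map_eq_self_of_faithfullyFlat (B := R') p, hmap,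
      Ideal.comap_map_eq_self_of_faithfullyFlat]

end Groth.Agent.S17722
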