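import Groth.Statements.S19890
import Mathlib
import Groth.Agent.S17722

set_option autoImplicit false
universe u
open CAlg

namespace Groth.Agent.S19890

/-- Let R → R' be a faithfully flat ring map between Noetherian integrally closed local domains. Then
unique factorization descends along this map: when R' is a UFD, so is R. (The first assertion of the
lemma, descent of principality for an ideal whose extension to R' is principal, is a separate
statement.) -/
theorem result
    (R R' : Type u) [CommRing R] [CommRing R'] [IsDomain R] [IsDomain R']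
    [IsNoetherianRing R] [IsNoetherianRing R'] [IsLocalRing R] [IsLocalRing R']
    [IsIntegrallyClosed R] [IsIntegrallyClosed R']
    [Algebra R R'] [Module.FaithfullyFlat R R'] [UniqueFactorizationMonoid R'] :
    UniqueFactorizationMonoid R := by
  classical
  have hinf : ∀ a b : R, (Ideal.span {a} ⊓ Ideal.span {b}).IsPrincipal := by
    intro a b
    refine Groth.Agent.S17722.result R R' _ ?_
    have heq : (Ideal.span {a} ⊓ Ideal.span {b}).map (algebraMap R R') =
        Ideal.span {algebraMap R R' a} ⊓ Ideal.span {algebraMap R R' b} := by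
      refine le_antisymm ?_ ?_
      · refine le_inf ?_ ?_
        · exact (Ideal.map_mono inf_le_left).trans (by rw [Ideal.map_span, Set.image_singleton])
        · exact (Ideal.map_mono inf_le_right).trans (by rw [Ideal.map_span, Set.image_singleton])
      · rintro z ⟨hza, hzb⟩
        obtain ⟨u, rfl⟩ := Ideal.mem_span_singleton'.1 hza
        obtain ⟨v, hv⟩ := Ideal.mem_span_singleton'.1 hzb
        have h0 : ∑ i, (![a, -b] : Fin 2 → R) i • (![u, v] : Fin 2 → R') i = 0 := by
          simp [Algebra.smul_def, map_neg, mul_comm _ u, mul_comm _ v, hv]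
        obtain ⟨k, α, w, hw, hα⟩ := Module.Flat.isTrivialRelation_of_sum_smul_eq_zero (R := R) (M := R') h0
        have h1 : u = ∑ j, α 0 j • w j := hw 0
        rw [h1, Finset.sum_mul]
        refine Ideal.sum_mem _ fun j _ => ?_
        have hmem : a * α 0 j ∈ Ideal.span {a} ⊓ Ideal.span {b} := by
          refine ⟨Ideal.mul_mem_right _ _ (Ideal.mem_span_singleton_self a), Ideal.mem_span_singleton'.2 ⟨α 1 j, ?_⟩⟩
          have h2 := hα j
          simp [Fin.sum_univ_two] at h2
          linear_combination -h2
        have := Ideal.mul_mem_left _ (w j) (Ideal.mem_map_of_mem (algebraMap R R') hmem)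
        convert this using 1
        rw [map_mul, Algebra.smul_def]
        ring
    rw [heq]
    let : StrongNormalizationMonoid R' := UniqueFactorizationMonoid.strongNormalizationMonoid
    let := UniqueFactorizationMonoid.toGCDMonoid R'
    refine ⟨lcm (algebraMap R R' a) (algebraMap R R' b), ?_⟩
    rw [Ideal.submodule_span_eq]
    ext z
    simp only [Ideal.mem_inf, Ideal.mem_span_singleton]
    exact (lcm_dvd_iff).symm
  have hprime : ∀ q : R, Irreducible q → Prime q := by
    intro q hq
    refine ⟨hq.ne_zero, hq.not_isUnit, fun x y hxy => ?_⟩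
    by_contra hno
    simp only [not_or] at hno
    obtain ⟨hx, hy⟩ := hno
    obtain ⟨l, hl⟩ := hinf q x
    rw [Ideal.submodule_span_eq] at hl
    have hlq : l ∈ Ideal.span {q} ⊓ Ideal.span {x} := hl ▸ Ideal.mem_span_singleton_self l
    obtain ⟨hlq, hlx⟩ := hlq
    obtain ⟨α, rfl⟩ := Ideal.mem_span_singleton.1 hlq
    obtain ⟨β, hβ⟩ := Ideal.mem_span_singleton.1 hlx
    have hmem : ∀ z, q ∣ z → x ∣ z → q * α ∣ z := fun z h1 h2 => by
      rw [← Ideal.mem_span_singleton, ← hl]
      exact ⟨Ideal.mem_span_singleton.2 h1, Ideal.mem_span_singleton.2 h2⟩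
    obtain ⟨c, hc⟩ := hmem (q * x) (dvd_mul_right _ _) (dvd_mul_left _ _)
    have hx0 : x ≠ 0 := fun h => hx (h ▸ dvd_zero q)
    have hqc : q = β * c := mul_left_cancel₀ hx0 (by rw [← mul_assoc, ← hβ, ← hc, mul_comm])
    rcases hq.isUnit_or_isUnit hqc with hu | hu
    · refine hx ?_
      have : q ∣ x * β := hβ ▸ dvd_mul_right q α
      exact hu.dvd_mul_right.1 this
    · refine hy ?_
      obtain ⟨d, hd⟩ := hmem (x * y) hxy (dvd_mul_right _ _)
      obtain ⟨c', hc'⟩ := hu.exists_right_inv
      have h5 : q * α = q * x * c' := by rw [hc, mul_assoc, hc', mul_one]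
      exact ⟨c' * d, mul_left_cancel₀ hx0 (by rw [hd, h5]; ring)⟩
  exact { irreducible_iff_prime := fun {q} => ⟨hprime q, fun h => h.irreducible⟩ }

end Groth.Agent.S19890
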