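import Groth.Statements.S1204
import Groth.Agent.RaynaudGruson.FibrewiseIso
import Groth.Agent.RaynaudGruson.IntegralProjective

set_option autoImplicit false
universe u
open FlatMor

namespace Groth.Agent.S1204

open Groth.RaynaudGruson Groth.RaynaudGruson.FibrewiseIso

open TensorProduct IsLocalRing in
/-- Let R be a local ring and S a finitely presented flat R-algebra with geometrically integral fibres,
so that 𝔭 = 𝔪_R S is a prime of S; let q be a prime of S over 𝔪_R and N a finite S-module. Then
there is an S-linear map α from a finite free module S^r to N inducing a bijection after base change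
to κ(𝔭); and for any such α the following are equivalent: N_q is flat over R; α is universally
injective over R and the cokernel of α is flat over R at q; α is injective and the cokernel is flat
at q; α localized at 𝔭 is bijective and the cokernel is flat at q; α localized at q is injective and
the cokernel is flat at q. -/
theorem result {R S : Type u} [CommRing R] [IsLocalRing R] [CommRing S] [Algebra R S] [Algebra.FinitePresentation R S] [Module.Flat R S]
    (hgi : FlatCA.GeomIntegralFibres R S) [((maximalIdeal R).map (algebraMap R S)).IsPrime]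
    (q : Ideal S) [q.IsPrime] [q.LiesOver (maximalIdeal R)]
    (N : Type u) [AddCommGroup N] [Module S N] [Module R N] [IsScalarTower R S N] [Module.Finite S N] :
    (∃ (r : ℕ) (α : (Fin r → S) →ₗ[S] N), Function.Bijective (α.baseChange ((maximalIdeal R).map (algebraMap R S)).ResidueField)) ∧
    ∀ (r : ℕ) (α : (Fin r → S) →ₗ[S] N), Function.Bijective (α.baseChange ((maximalIdeal R).map (algebraMap R S)).ResidueField) →
      [FlatCA.FlatAt R q N,
       FlatCA.UnivInj R (α.restrictScalars R) ∧ FlatCA.FlatAt R q (N ⧸ LinearMap.range α),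
       Function.Injective α ∧ FlatCA.FlatAt R q (N ⧸ LinearMap.range α),
       Function.Bijective (LocalizedModule.map ((maximalIdeal R).map (algebraMap R S)).primeCompl α) ∧ FlatCA.FlatAt R q (N ⧸ LinearMap.range α),
       Function.Injective (LocalizedModule.map q.primeCompl α) ∧ FlatCA.FlatAt R q (N ⧸ LinearMap.range α)].TFAE := by
  haveI := Groth.RaynaudGruson.IntegralProjective.projective_of_flat R S hgi
  set P : Ideal S := (maximalIdeal R).map (algebraMap R S) with hP
  refine ⟨exists_bijective_baseChange P N, fun r α hα => ?_⟩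
  have hPq : P ≤ q := Ideal.map_le_iff_le_comap.mpr (Ideal.over_def q (maximalIdeal R)).le
  have hPp : P.LiesOver (maximalIdeal R) :=
    ⟨le_antisymm Ideal.le_comap_map ((Ideal.comap_mono hPq).trans (Ideal.over_def q (maximalIdeal R)).ge)⟩
  have hsurj : ∀ m : N, ∃ t, t ∉ P ∧ ∃ g, t • m = α g := DevissageFlat.exists_smul_eq_apply P α hα.2
  have hker : ∀ (f : Fin r → S) (t : S), t ∉ P → t • α f = 0 → ∀ i, f i ∈ P :=
    fun f t ht h => DevissageFlat.forall_mem_of_smul_eq_zero P α hα.1 ht h
  have hsub : q.primeCompl ≤ P.primeCompl := fun s hs h => hs (hPq h)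
  have hunit : ∀ s, s ∉ maximalIdeal R → IsUnit s := fun s hs => notMem_maximalIdeal.mp hs
  have hflatP : FlatCA.FlatAt R q N → FlatPred.Pred R P.primeCompl N := fun h =>
    ((FlatPred.flatAt_iff q).mp h).mono hsub
  have hC : FlatCA.FlatAt R q N → FlatCA.FlatAt R q (N ⧸ LinearMap.range α) := fun h =>
    (FlatPred.flatAt_iff q).mpr (DevissageLocal.pred_coker (maximalIdeal R) P α hP hPp hsurj hker (hflatP h)
      (LinearMap.range α).mkQ (Submodule.mkQ_surjective _) (Submodule.ker_mkQ _)
      (fun s hs hsq => hs ((Ideal.over_def q (maximalIdeal R)).symm ▸ hsq)) ((FlatPred.flatAt_iff q).mp h))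
  tfae_have 1 → 2 := fun h => ⟨univInj_of_comp (g := (LocalizedModule.mkLinearMap P.primeCompl N).restrictScalars R) <| by
    haveI : Module.Flat R (LocalizedModule P.primeCompl N) := (FlatPred.flat_iff _).mpr (hflatP h)
    refine univInj_of_pure _ fun J hJ x hx => ?_
    obtain ⟨t, ht, htx⟩ := exists_smul_mem_of_mk_mem P.primeCompl 1 hx
    obtain ⟨c, hc, hcx⟩ := DevissageLocal.mem_smul_top_of_smul_apply_mem (maximalIdeal R) P α hP hPp hsurj hker
      (hflatP h) hJ ht htx
    exact (Submodule.smul_mem_iff_of_isUnit _ (hunit c hc)).mp hcx, hC h⟩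
  tfae_have 2 → 3 := fun h => ⟨injective_of_univInj (f := α.restrictScalars R) h.1, h.2⟩
  tfae_have 3 → 5 := fun h => ⟨injective_map_of_injective' _ α h.1, h.2⟩
  tfae_have 5 → 1 := fun h => flatAt_of_injective q α h.1 h.2
  tfae_have 1 → 4 := fun h =>
    ⟨bijective_map_atPrime (maximalIdeal R) P α hP hPp hsurj hker (hflatP h), hC h⟩
  tfae_have 4 → 5 := fun h => by
    refine ⟨injective_map_mono ?_ α (injective_map_of_atPrime (maximalIdeal R) P α hP hPp h.1.1), h.2⟩
    rintro _ ⟨s, hs, rfl⟩ hsq
    exact hs ((Ideal.over_def q (maximalIdeal R)).symm ▸ hsq)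
  tfae_finish

end Groth.Agent.S1204
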