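import Groth.Statements.S1205
import Groth.Agent.RaynaudGruson.FibrewiseIsoNhd

set_option autoImplicit false
universe u
open FlatMor

namespace Groth.Agent.S1205

open Groth.RaynaudGruson Groth.RaynaudGruson.FibrewiseIso

open TensorProduct in
/-- Let S be a finitely presented flat R-algebra with geometrically integral fibres, q a prime of S over
the prime 𝔯 of R, so that 𝔭 = 𝔯S is a prime of S, and N a finitely presented S-module. Then there is
an S-linear map α from a finite free module S^r to N inducing a bijection after base change to κ(𝔭);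
and for any such α the following are equivalent: N_q is flat over R; for some f ∈ R outside 𝔯 the
localization α_f is universally injective over R and for some g ∈ S outside q the localization of
the cokernel at g is flat over R; α localized at (the image of) 𝔯 is universally injective over R
and the cokernel is flat over R at q; α localized at 𝔯 is injective and the cokernel is flat at q; α
localized at 𝔭 is bijective and the cokernel is flat at q; α localized at q is injective and the
cokernel is flat at q. (Universal injectivity over R_f or R_𝔯 of a map of modules over these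
localizations is the same as over R, which is how it is written.) -/
theorem result {R S : Type u} [CommRing R] [CommRing S] [Algebra R S] [Algebra.FinitePresentation R S] [Module.Flat R S]
    (hgi : FlatCA.GeomIntegralFibres R S) (rr : Ideal R) [rr.IsPrime] [(rr.map (algebraMap R S)).IsPrime]
    (q : Ideal S) [q.IsPrime] [q.LiesOver rr]
    (N : Type u) [AddCommGroup N] [Module S N] [Module R N] [IsScalarTower R S N] [Module.FinitePresentation S N] :
    (∃ (r : ℕ) (α : (Fin r → S) →ₗ[S] N), Function.Bijective (α.baseChange (rr.map (algebraMap R S)).ResidueField)) ∧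
    ∀ (r : ℕ) (α : (Fin r → S) →ₗ[S] N), Function.Bijective (α.baseChange (rr.map (algebraMap R S)).ResidueField) →
      [FlatCA.FlatAt R q N,
       (∃ f : R, f ∉ rr ∧ FlatCA.UnivInj R ((LocalizedModule.map (Submonoid.powers (algebraMap R S f)) α).restrictScalars R)) ∧
         (∃ g : S, g ∉ q ∧ Module.Flat R (LocalizedModule (Submonoid.powers g) (N ⧸ LinearMap.range α))),
       FlatCA.UnivInj R ((LocalizedModule.map (Algebra.algebraMapSubmonoid S rr.primeCompl) α).restrictScalars R) ∧ FlatCA.FlatAt R q (N ⧸ LinearMap.range α),
       Function.Injective (LocalizedModule.map (Algebra.algebraMapSubmonoid S rr.primeCompl) α) ∧ FlatCA.FlatAt R q (N ⧸ LinearMap.range α),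
       Function.Bijective (LocalizedModule.map (rr.map (algebraMap R S)).primeCompl α) ∧ FlatCA.FlatAt R q (N ⧸ LinearMap.range α),
       Function.Injective (LocalizedModule.map q.primeCompl α) ∧ FlatCA.FlatAt R q (N ⧸ LinearMap.range α)].TFAE := by
  haveI := Groth.RaynaudGruson.IntegralProjective.projective_of_flat R S hgi
  set P : Ideal S := rr.map (algebraMap R S) with hP
  refine ⟨exists_bijective_baseChange P N, fun r α hα => ?_⟩
  have hPq : P ≤ q := Ideal.map_le_iff_le_comap.mpr (Ideal.over_def q rr).le
  have hPp : P.LiesOver rr :=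
    ⟨le_antisymm Ideal.le_comap_map ((Ideal.comap_mono hPq).trans (Ideal.over_def q rr).ge)⟩
  have hsurj : ∀ m : N, ∃ t, t ∉ P ∧ ∃ g, t • m = α g := DevissageFlat.exists_smul_eq_apply P α hα.2
  have hker : ∀ (f : Fin r → S) (t : S), t ∉ P → t • α f = 0 → ∀ i, f i ∈ P :=
    fun f t ht h => DevissageFlat.forall_mem_of_smul_eq_zero P α hα.1 ht h
  have hsub : q.primeCompl ≤ P.primeCompl := fun s hs h => hs (hPq h)
  have hUq : Algebra.algebraMapSubmonoid S rr.primeCompl ≤ q.primeCompl := by
    rintro _ ⟨s, hs, rfl⟩ hsq
    exact hs ((Ideal.over_def q rr).symm ▸ hsq)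
  have hflatP : FlatCA.FlatAt R q N → FlatPred.Pred R P.primeCompl N := fun h =>
    ((FlatPred.flatAt_iff q).mp h).mono hsub
  haveI : Module.FinitePresentation S (N ⧸ LinearMap.range α) :=
    Module.finitePresentation_of_surjective (LinearMap.range α).mkQ (Submodule.mkQ_surjective _)
      (by rw [Submodule.ker_mkQ]; exact Submodule.fg_range α)
  have hC : FlatCA.FlatAt R q N → FlatCA.FlatAt R q (N ⧸ LinearMap.range α) := fun h =>
    (FlatPred.flatAt_iff q).mpr (DevissageLocal.pred_coker rr P α hP hPp hsurj hker (hflatP h)
      (LinearMap.range α).mkQ (Submodule.mkQ_surjective _) (Submodule.ker_mkQ _)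
      (fun s hs => hUq ⟨s, hs, rfl⟩) ((FlatPred.flatAt_iff q).mp h))
  tfae_have 1 → 2 := fun h => ⟨exists_univInj_powers hgi rr P hPp α
    (bijective_map_atPrime rr P α hP hPp hsurj hker (hflatP h)), exists_flat_powers q (hC h)⟩
  tfae_have 2 → 6 := by
    rintro ⟨⟨f, hf, hinj⟩, g, hg, hflat⟩
    refine ⟨injective_map_mono (Submonoid.powers_le.mpr ?_) α
      (injective_of_univInj (f := (LocalizedModule.map _ α).restrictScalars R) hinj), ?_⟩
    · exact fun hfq => hf ((Ideal.over_def q rr).symm ▸ hfq)
    · exact (FlatPred.flatAt_iff q).mpr (((FlatPred.flat_iff _).mp hflat).mono (Submonoid.powers_le.mpr hg))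
  tfae_have 1 → 3 := fun h => ⟨univInj_map rr P α hP hPp hsurj hker (hflatP h), hC h⟩
  tfae_have 3 → 4 := fun h =>
    ⟨injective_of_univInj (f := (LocalizedModule.map _ α).restrictScalars R) h.1, h.2⟩
  tfae_have 4 → 6 := fun h => ⟨injective_map_mono hUq α h.1, h.2⟩
  tfae_have 1 → 5 := fun h => ⟨bijective_map_atPrime rr P α hP hPp hsurj hker (hflatP h), hC h⟩
  tfae_have 5 → 4 := fun h => ⟨injective_map_of_atPrime rr P α hP hPp h.1.1, h.2⟩
  tfae_have 6 → 1 := fun h => flatAt_of_injective q α h.1 h.2
  tfae_finish

end Groth.Agent.S1205
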