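import Groth.Statements.S9769
import Groth.Agent.Flatmor4.FreeFibre
import Groth.Agent.QCohMod.Pullback

set_option autoImplicit false
universe u
open FlatMor

namespace Groth.Agent.S9769

open AlgebraicGeometry CategoryTheory Limits in
/-- Let f : X ⟶ S be locally of finite presentation and F a finitely presented O_X-module which is flat
over S. Then the formation of the locus of points of X near which F is free (equivalently, for
finitely presented F, where the stalk of F is a free module) commutes with arbitrary base change:
for a cartesian square with g' : X' ⟶ X over S' ⟶ S, the free locus of (g')^*F is the preimage of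
that of F. The published statement also asserts that this locus is open; this row states only that
its formation commutes with base change. -/
theorem result {X S X' S' : Scheme.{u}} (f : X ⟶ S) [LocallyOfFinitePresentation f]
    (F : X.Modules) (hF : CohB1.IsFP F) (hfl : FlatMod.IsFlatOver f F)
    (g : S' ⟶ S) (f' : X' ⟶ S') (g' : X' ⟶ X) (hc : IsPullback g' f' f g) :
    {x' : ↑X' | Module.Free ↑(X'.presheaf.stalk x') ↑(((Scheme.Modules.pullback g').obj F).presheaf.stalk x')} =
      g' ⁻¹' {x : ↑X | Module.Free ↑(X.presheaf.stalk x) ↑(F.presheaf.stalk x)} := by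
  haveI : SheafOfModules.IsFinitePresentation (R := X.ringCatSheaf) F := hF
  haveI : F.IsQuasicoherent := inferInstanceAs (SheafOfModules.IsQuasicoherent (R := X.ringCatSheaf) F)
  ext x'
  simp only [Set.mem_ofPred_eq, Set.mem_preimage]
  let B := X.presheaf.stalk (g' x')
  let B' := X'.presheaf.stalk x'
  let M := F.presheaf.stalk (g' x')
  letI : Algebra B B' := Groth.QCohMod.stalkAlg g' x'
  let eM := Groth.QCohMod.pullStalkEquiv g' F x'
  constructor
  · intro hfree
    haveI : Module.Free B' (((Scheme.Modules.pullback g').obj F).presheaf.stalk x') := hfree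
    haveI : Module.Free B' (TensorProduct B B' M) := Module.Free.of_equiv eM.symm
    obtain ⟨K, K', _, _, _, _, π, π', ψ, hπ, hker, -, hψ, hψl, hsq⟩ :=
      Groth.Flatmor4.exists_fibre_square hc x'
    letI := π.toAlgebra
    letI := π'.toAlgebra
    letI := ψ.toAlgebra
    letI : Algebra B K' := (π'.comp (g'.stalkMap x').hom).toAlgebra
    haveI : IsScalarTower B B' K' := IsScalarTower.of_algebraMap_eq fun _ => rfl
    haveI : IsScalarTower B K K' := IsScalarTower.of_algebraMap_eq fun r => (hsq r).symm
    haveI : IsLocalHom (algebraMap K K') := hψl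
    haveI : Module.Flat K K' := hψ
    haveI : Module.FaithfullyFlat K K' := Module.FaithfullyFlat.of_flat_of_isLocalHom
    haveI := Groth.Flatmor4.finitePresentation_stalk F hF (g' x')
    haveI hK : Module.Free K (TensorProduct B K M) :=
      Groth.Flatmor4.free_fibre_of_baseChange (B' := B') (F' := K') inferInstance
    let A := S.presheaf.stalk (f (g' x'))
    letI : Algebra A B := (f.stalkMap (g' x')).hom.toAlgebra
    letI : Module A M := FlatMod.moduleStalkOver f F (g' x')
    haveI : IsScalarTower A B M := IsScalarTower.of_algebraMap_smul fun _ _ => rfl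
    haveI : Module.Flat A M := hfl (g' x')
    haveI : IsLocalHom (algebraMap A B) := inferInstanceAs (IsLocalHom (f.stalkMap (g' x')).hom)
    let I : Ideal B := (IsLocalRing.maximalIdeal A).map (algebraMap A B)
    let e : B ⧸ I ≃+* K :=
      (Ideal.quotEquivOfEq hker.symm).trans (RingHom.quotientKerEquivOfSurjective hπ)
    have he : ∀ r : B, e (Ideal.Quotient.mk I r) = π r := fun r => rfl
    letI : Algebra K (B ⧸ I) := e.symm.toRingHom.toAlgebra
    haveI : IsScalarTower B K (B ⧸ I) := IsScalarTower.of_algebraMap_eq fun r => by
      show Ideal.Quotient.mk I r = e.symm (π r)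
      rw [← he, RingEquiv.symm_apply_apply]
    haveI : Module.Free (B ⧸ I) (TensorProduct B (B ⧸ I) M) := Module.Free.of_equiv
      (TensorProduct.AlgebraTensorModule.cancelBaseChange B K (B ⧸ I) (B ⧸ I) M)
    exact Groth.Flatmor4.free_of_flat_of_free_fibre (A := A) inferInstance
  · intro hfree
    haveI : Module.Free B M := hfree
    exact Module.Free.of_equiv eM

end Groth.Agent.S9769
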