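import Groth.Statements.S12056
-- import your own Groth.Agent.* helpers here

set_option autoImplicit false
open Red

namespace Groth.Agent.S12056

/-- In formal-power-series form, let R be a commutative ring and F ∈ R⟦X⟧ with constant term 1 whose
linear coefficient a is a unit of R. Suppose that in R⟦X₀, X₁⟧ one has F(X₀ + X₁ · F(X₀)) = F(X₀) ·
F(X₁) (the functional equation F(x + y F(x)) = F(x) F(y)). Then F = 1 + a X. (The published
statement concerns a morphism to the multiplicative group from an open neighbourhood of the zero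
section in the additive group over a base scheme, the identity holding on an open neighbourhood of
the origin of the plane on which all terms are defined, with a the derivative at 0; this row states
it for formal power series over a ring.) -/
theorem result (R : Type) [CommRing R] (F : PowerSeries R)
    (h0 : PowerSeries.constantCoeff F = 1) (ha : IsUnit (PowerSeries.coeff 1 F))
    (hFE : PowerSeries.subst
        (MvPowerSeries.X (0 : Fin 2) + MvPowerSeries.X 1 * PowerSeries.subst (MvPowerSeries.X (0 : Fin 2)) F :
          MvPowerSeries (Fin 2) R) F =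
      PowerSeries.subst (MvPowerSeries.X (0 : Fin 2)) F * PowerSeries.subst (MvPowerSeries.X (1 : Fin 2)) F) :
    F = 1 + PowerSeries.C (PowerSeries.coeff 1 F) * PowerSeries.X := by
  classical
  have hX : ∀ i : Fin 2, PowerSeries.HasSubst (MvPowerSeries.X i : MvPowerSeries (Fin 2) R) := fun i =>
    PowerSeries.HasSubst.X i
  set P0 : MvPowerSeries (Fin 2) R := PowerSeries.subst (MvPowerSeries.X (0 : Fin 2)) F with hP0
  set P1 : MvPowerSeries (Fin 2) R := PowerSeries.subst (MvPowerSeries.X (1 : Fin 2)) F with hP1
  set u : MvPowerSeries (Fin 2) R := MvPowerSeries.X 0 + MvPowerSeries.X 1 * P0 with hu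
  set v : MvPowerSeries (Fin 2) R := MvPowerSeries.X 1 + MvPowerSeries.X 0 * P1 with hv
  have hsu : PowerSeries.HasSubst u := PowerSeries.HasSubst.of_constantCoeff_zero (by simp [hu])
  have hsv : PowerSeries.HasSubst v := PowerSeries.HasSubst.of_constantCoeff_zero (by simp [hv])
  -- swap the two variables
  set b : Fin 2 → MvPowerSeries (Fin 2) R := ![MvPowerSeries.X 1, MvPowerSeries.X 0] with hb
  have hsb : MvPowerSeries.HasSubst b := MvPowerSeries.hasSubst_of_constantCoeff_zero (by
    intro s; fin_cases s <;> simp [hb])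
  have hcomp : ∀ a : MvPowerSeries (Fin 2) R, PowerSeries.HasSubst a →
      MvPowerSeries.subst b (PowerSeries.subst a F) = PowerSeries.subst (MvPowerSeries.subst b a) F := by
    intro a haa
    rw [PowerSeries.subst_def, PowerSeries.subst_def,
      MvPowerSeries.subst_comp_subst_apply haa.const hsb]
  have hbX : ∀ i : Fin 2, MvPowerSeries.subst b (MvPowerSeries.X i : MvPowerSeries (Fin 2) R) = b i :=
    fun i => MvPowerSeries.subst_X hsb i
  have hbP0 : MvPowerSeries.subst b P0 = P1 := by
    rw [hP0, hcomp _ (hX 0), hbX]; rfl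
  have hbP1 : MvPowerSeries.subst b P1 = P0 := by
    rw [hP1, hcomp _ (hX 1), hbX]; rfl
  have hbu : MvPowerSeries.subst b u = v := by
    rw [hu, MvPowerSeries.subst_add hsb, MvPowerSeries.subst_mul hsb, hbX, hbX, hbP0]
    rfl
  have hFv : PowerSeries.subst v F = P1 * P0 := by
    rw [← hbu, ← hcomp u hsu, hFE, MvPowerSeries.subst_mul hsb, hbP0, hbP1]
  have key : PowerSeries.subst u F = PowerSeries.subst v F := by rw [hFv, hFE, mul_comm]
  -- compositional inverse of F - 1
  set G : PowerSeries R := F - 1 with hG
  have hG0 : PowerSeries.constantCoeff G = 0 := by simp [hG, h0]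
  have hG1 : IsUnit (PowerSeries.coeff 1 G) := by simpa [hG, PowerSeries.coeff_one] using ha
  set Hi := G.substInvOfIsUnit hG1
  have hinv : PowerSeries.subst G Hi = PowerSeries.X := PowerSeries.subst_substInvOfIsUnit_left G hG0 hG1
  have hsG : PowerSeries.HasSubst G := PowerSeries.HasSubst.of_constantCoeff_zero' hG0
  have hkey : PowerSeries.subst u G = PowerSeries.subst v G := by
    simp only [hG, ← PowerSeries.coe_substAlgHom hsu, ← PowerSeries.coe_substAlgHom hsv, map_sub, map_one]
    rw [PowerSeries.coe_substAlgHom hsu, PowerSeries.coe_substAlgHom hsv, key]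
  have huv : u = v := by
    have h1 := PowerSeries.subst_comp_subst_apply (R := R) hsG hsu Hi
    have h2 := PowerSeries.subst_comp_subst_apply (R := R) hsG hsv Hi
    rw [hinv, PowerSeries.subst_X hsu] at h1
    rw [hinv, PowerSeries.subst_X hsv] at h2
    rw [h1, h2, hkey]
  -- compare the coefficients of x y^n
  have hPc : ∀ (i : Fin 2) (e : Fin 2 →₀ ℕ), MvPowerSeries.coeff e (PowerSeries.subst (MvPowerSeries.X i) F) =
      if e = Finsupp.single i (e i) then PowerSeries.coeff (e i) F else 0 := by
    intro i e
    rw [PowerSeries.coeff_subst (hX i), finsum_eq_single _ (e i)]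
    · rw [MvPowerSeries.coeff_X_pow]
      split_ifs <;> simp
    · intro d hd
      rw [MvPowerSeries.coeff_X_pow, if_neg, smul_zero]
      intro he
      exact hd (by rw [he, Finsupp.single_eq_same])
  ext n
  rcases n with _ | _ | n
  · simp [h0]
  · simp
  · have hc := congrArg (MvPowerSeries.coeff (Finsupp.single (0 : Fin 2) 1 + Finsupp.single 1 (n + 2))) huv
    have hne : ∀ k : ℕ, Finsupp.single (0 : Fin 2) 1 + Finsupp.single 1 (n + 2) ≠ Finsupp.single (1 : Fin 2) k := by
      intro k hk
      have := DFunLike.congr_fun hk 0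
      simp at this
    have hne0 : ∀ k : ℕ, Finsupp.single (0 : Fin 2) 1 + Finsupp.single 1 (n + 2) ≠ Finsupp.single (0 : Fin 2) k := by
      intro k hk
      have := DFunLike.congr_fun hk 1
      simp at this
    rw [hu, hv, map_add, map_add, MvPowerSeries.X, MvPowerSeries.X, MvPowerSeries.coeff_monomial,
      MvPowerSeries.coeff_monomial, if_neg (hne0 1), if_neg (hne 1), zero_add, zero_add,
      MvPowerSeries.coeff_monomial_mul, MvPowerSeries.coeff_monomial_mul, hP0, hP1, hPc, hPc] at hc
    rw [show PowerSeries.coeff (n + 1 + 1) (1 + PowerSeries.C (PowerSeries.coeff 1 F) * PowerSeries.X) = 0 by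
      simp [PowerSeries.coeff_X]]
    have le1 : Finsupp.single (1 : Fin 2) 1 ≤ Finsupp.single (0 : Fin 2) 1 + Finsupp.single 1 (n + 2) := by
      intro i; fin_cases i <;> simp
    have le0 : Finsupp.single (0 : Fin 2) 1 ≤ Finsupp.single (0 : Fin 2) 1 + Finsupp.single 1 (n + 2) := le_self_add
    have hsub1 : Finsupp.single (0 : Fin 2) 1 + Finsupp.single 1 (n + 2) - Finsupp.single 1 1 =
        Finsupp.single (0 : Fin 2) 1 + Finsupp.single 1 (n + 1) := by
      ext i; fin_cases i <;> simp
    rw [if_pos le1, if_pos le0, hsub1, add_tsub_cancel_left, one_mul, one_mul] at hc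
    have h1 : ¬ (Finsupp.single (0 : Fin 2) 1 + Finsupp.single 1 (n + 1) =
        Finsupp.single 0 ((Finsupp.single (0 : Fin 2) 1 + Finsupp.single 1 (n + 1) : Fin 2 →₀ ℕ) 0)) := by
      intro h
      have := DFunLike.congr_fun h 1
      simp at this
    rw [if_neg h1, if_pos (by simp)] at hc
    simpa using hc.symm

end Groth.Agent.S12056
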