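import Groth.Statements.S12058
import Mathlib

set_option autoImplicit false
universe w v u
open CategoryTheory CategoryTheory.Limits CategoryTheory.Abelian
open SGA3

namespace Groth.Agent.S12058

/-- In an abelian category, let 0 → A' → A → A'' → 0 be a short exact sequence, φ : A' ⟶ Q a morphism
and π : A'' ⟶ P an epimorphism with kernel C. Consider the quadruples (B, f, g, h) with 0 → Q → B →
P → 0 short exact (maps f, g) and h : A ⟶ B such that the squares commute: (A' → A → B) = (A' → Q →
B) and (A → B → P) = (A → A'' → P). Such a quadruple exists if and only if the image in Ext¹(C, Q)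
of the class of the given extension in Ext¹(A'', A') (push forward along φ, pull back along the
inclusion C → A'') is zero. -/
theorem result {C : Type u} [Category.{v} C] [Abelian C]
    [HasExt.{w} C] {S : ShortComplex C} (hS : S.ShortExact) {Q P : C} (φ : S.X₁ ⟶ Q) (π : S.X₃ ⟶ P) [Epi π] :
    (∃ (B : C) (f : Q ⟶ B) (g : B ⟶ P) (h : S.X₂ ⟶ B) (w : f ≫ g = 0),
        (ShortComplex.mk f g w).ShortExact ∧ S.f ≫ h = φ ≫ f ∧ h ≫ g = S.g ≫ π) ↔
      (Ext.mk₀ (kernel.ι π)).comp (hS.extClass.comp (Ext.mk₀ φ) (add_zero 1)) (zero_add 1) = 0 := by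
  haveI := hS.mono_f
  haveI := hS.epi_g
  let S' : ShortComplex C := ShortComplex.mk (pullback.lift (f := S.g) (g := kernel.ι π) S.f 0 (by simp))
    (pullback.snd S.g (kernel.ι π)) (pullback.lift_snd _ _ _)
  haveI : Mono S'.f := by
    have : S'.f ≫ pullback.fst S.g (kernel.ι π) = S.f := pullback.lift_fst _ _ _
    exact mono_of_mono_fac this
  haveI : Epi S'.g := Abelian.epi_pullback_of_epi_f S.g (kernel.ι π)
  have hS' : S'.ShortExact := by
    refine ShortComplex.ShortExact.mk ?_
    refine S'.exact_of_f_is_kernel (KernelFork.IsLimit.ofι' _ _ fun {Z} k hk => ?_)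
    have hk' : (k ≫ pullback.fst S.g (kernel.ι π)) ≫ S.g = 0 := by
      rw [Category.assoc, pullback.condition, ← Category.assoc, show k ≫ pullback.snd S.g (kernel.ι π) = 0 from hk,
        zero_comp]
    refine ⟨hS.exact.lift _ hk', ?_⟩
    apply pullback.hom_ext
    · rw [Category.assoc, pullback.lift_fst, hS.exact.lift_f]
    · rw [Category.assoc, pullback.lift_snd, comp_zero]; exact hk.symm
  have hnat : hS'.extClass = (Ext.mk₀ (kernel.ι π)).comp hS.extClass (zero_add 1) := by
    have := hS'.extClass_naturality hS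
      { τ₁ := 𝟙 _, τ₂ := pullback.fst S.g (kernel.ι π), τ₃ := kernel.ι π
        comm₁₂ := by simp only [S', Category.id_comp, pullback.lift_fst], comm₂₃ := pullback.condition }
    simpa using this
  rw [← Ext.comp_assoc (a₁₂ := 1) _ _ _ (zero_add 1) (add_zero 1) (by omega), ← hnat]
  constructor
  · rintro ⟨B, f, g, h, w, hB, h1, h2⟩
    haveI := hB.mono_f
    have hr : (pullback.fst S.g (kernel.ι π) ≫ h) ≫ g = 0 := by
      rw [Category.assoc, h2, pullback.condition_assoc, kernel.condition, comp_zero]
    have hrf : S'.f ≫ hB.exact.lift _ hr = φ := by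
      have e := hB.exact.lift_f _ hr
      rw [← cancel_mono f, Category.assoc]
      erw [e]
      rw [← Category.assoc, show S'.f ≫ pullback.fst S.g (kernel.ι π) = S.f from pullback.lift_fst _ _ _, h1]
    rw [← hrf, ← Ext.mk₀_comp_mk₀, ← Ext.comp_assoc (a₁₂ := 1) _ _ _ (add_zero 1) (zero_add 0) (by omega),
      hS'.extClass_comp, Ext.zero_comp]
  · intro h0
    obtain ⟨x, hx⟩ := Ext.contravariant_sequence_exact₁ hS' Q (Ext.mk₀ φ) (add_zero 1) h0
    obtain ⟨r, rfl⟩ := (Ext.mk₀_bijective _ _).2 x
    rw [Ext.mk₀_comp_mk₀] at hx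
    have hr : S'.f ≫ r = φ := (Ext.mk₀_bijective _ _).1 hx
    haveI : Mono (pullback.fst S.g (kernel.ι π)) := inferInstance
    let f := pushout.inl r (pullback.fst S.g (kernel.ι π))
    let h := pushout.inr r (pullback.fst S.g (kernel.ι π))
    let g : pushout r (pullback.fst S.g (kernel.ι π)) ⟶ P := pushout.desc 0 (S.g ≫ π)
      (by rw [comp_zero, pullback.condition_assoc, kernel.condition, comp_zero])
    have hhg : h ≫ g = S.g ≫ π := pushout.inr_desc _ _ _
    have hfg : f ≫ g = 0 := pushout.inl_desc _ _ _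
    haveI : Mono f := Abelian.mono_pushout_of_mono_g r (pullback.fst S.g (kernel.ι π))
    haveI : Epi g := epi_of_epi_fac hhg
    refine ⟨_, f, g, h, hfg, ShortComplex.ShortExact.mk ?_, ?_, hhg⟩
    · refine ShortComplex.exact_of_g_is_cokernel _ (CokernelCofork.IsColimit.ofπ' _ _ fun {Z} t ht => ?_)
      change f ≫ t = 0 at ht
      have hs0 : S.f ≫ h ≫ t = 0 := by
        have e1 : S.f ≫ h = φ ≫ f := by
          rw [← hr, Category.assoc, pushout.condition, ← Category.assoc,
            show S'.f ≫ pullback.fst S.g (kernel.ι π) = S.f from pullback.lift_fst _ _ _]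
        rw [reassoc_of% e1, ht, comp_zero]
      have hs : S.g ≫ hS.exact.desc _ hs0 = h ≫ t := hS.exact.g_desc _ hs0
      have hk : kernel.ι π ≫ hS.exact.desc _ hs0 = 0 := by
        rw [← cancel_epi S'.g]
        change pullback.snd S.g (kernel.ι π) ≫ _ = pullback.snd S.g (kernel.ι π) ≫ 0
        rw [← pullback.condition_assoc, hs, ← Category.assoc, ← pushout.condition, Category.assoc, ht, comp_zero,
          comp_zero]
      refine ⟨(ShortComplex.exact_kernel π).desc _ hk, ?_⟩
      have hd : π ≫ (ShortComplex.exact_kernel π).desc _ hk = hS.exact.desc _ hs0 :=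
        (ShortComplex.exact_kernel π).g_desc _ hk
      apply pushout.hom_ext
      · change f ≫ g ≫ _ = f ≫ t
        rw [reassoc_of% hfg, zero_comp, ht]
      · change h ≫ g ≫ _ = h ≫ t
        rw [reassoc_of% hhg, hd, hs]
    · rw [← hr, Category.assoc, pushout.condition, ← Category.assoc,
        show S'.f ≫ pullback.fst S.g (kernel.ι π) = S.f from pullback.lift_fst _ _ _]

end Groth.Agent.S12058
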