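import Groth.Statements.S12059
import Groth.Agent.Pi1Quot.Local

set_option autoImplicit false
universe u
open CategoryTheory CategoryTheory.Limits AlgebraicGeometry
open SGA1

namespace Groth.Agent.S12059

/-- Let a finite group G act on a commutative ring A by ring automorphisms σ_g, and let B → A be
injective, G-equivariant for the trivial action on B, with image containing all G-invariants (so B
is the ring of invariants A^G). Let ρ be an action of G on Spec A by scheme automorphisms whose
automorphisms are exactly the maps Spec(σ_g). Then Spec A ⟶ Spec B is a quotient of Spec A by G, and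
the structure sheaf of Spec B is the sheaf of G-invariants of the direct image of the structure
sheaf of Spec A: the map is affine and G-invariant, and for every open U of Spec B the sections of
the structure sheaf of Spec B over U map injectively onto the G-invariant sections of the structure
sheaf of Spec A over the inverse image of U. -/
theorem result (G : Type u) [Group G] [Finite G] (A B : Type u) [CommRing A] [CommRing B]
    [Algebra B A] [MulSemiringAction G A] [SMulCommClass G B A] [Algebra.IsInvariant B A G] [FaithfulSMul B A]
    (ρ : G →* Aut (Spec (CommRingCat.of A)))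
    (hρ : Set.range (fun g : G => (ρ g).hom) =
      Set.range (fun g : G => Spec.map (CommRingCat.ofHom (MulSemiringAction.toRingHom G A g)))) :
    SGA1.IsQuot ρ (Spec.map (CommRingCat.ofHom (algebraMap B A))) := by
  have hcomp : ∀ h : G, CommRingCat.ofHom (algebraMap B A) ≫ CommRingCat.ofHom (MulSemiringAction.toRingHom G A h) =
      CommRingCat.ofHom (algebraMap B A) := fun h =>
    CommRingCat.hom_ext (RingHom.ext fun b => smul_algebraMap h b)
  set p := Spec.map (CommRingCat.ofHom (algebraMap B A)) with hp
  have hinv : ∀ g : G, (ρ g).hom ≫ p = p := by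
    intro g
    obtain ⟨h, hh⟩ : (ρ g).hom ∈ Set.range (fun g : G => Spec.map (CommRingCat.ofHom (MulSemiringAction.toRingHom G A g))) :=
      hρ ▸ ⟨g, rfl⟩
    change Spec.map _ = _ at hh
    rw [← hh, hp, ← Spec.map_comp, hcomp]
  haveI : IsAffineHom p := inferInstance
  refine Groth.Pi1Quot.isQuot_of_local hinv fun y => ⟨⊤, isAffineOpen_top _, trivial, ?_, ?_⟩
  · have hinj : Function.Injective (algebraMap B A) := FaithfulSMul.algebraMap_injective B A
    intro b b' hbb
    have hnat := Scheme.ΓSpecIso_naturality (CommRingCat.ofHom (algebraMap B A))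
    have h1 := congrArg (fun z => (Scheme.ΓSpecIso (CommRingCat.of A)).hom.hom z) hbb
    have key : ∀ z, (Scheme.ΓSpecIso (CommRingCat.of A)).hom.hom (p.appTop.hom z) =
        algebraMap B A ((Scheme.ΓSpecIso (CommRingCat.of B)).hom.hom z) := fun z =>
      RingHom.congr_fun (congrArg CommRingCat.Hom.hom hnat) z
    exact (ConcreteCategory.bijective_of_isIso (Scheme.ΓSpecIso (CommRingCat.of B)).hom).1
      (hinj ((key b).symm.trans (h1.trans (key b'))))
  · intro s hs
    let a : A := (Scheme.ΓSpecIso (CommRingCat.of A)).hom.hom s
    have hfix : ∀ h : G, h • a = a := by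
      intro h
      obtain ⟨g, hg⟩ : Spec.map (CommRingCat.ofHom (MulSemiringAction.toRingHom G A h)) ∈
          Set.range (fun g : G => (ρ g).hom) := hρ.symm ▸ ⟨h, rfl⟩
      change (ρ g).hom = _ at hg
      have h1 : (ρ g).hom.appTop.hom s = s := by
        have := (Groth.Pi1Quot.forall_smul_iff hinv ⊤ s).1 hs g
        exact ((congrArg (fun f => f.hom s) (Scheme.Hom.appLE_eq_app (f := (ρ g).hom) (U := ⊤))).symm.trans this)
      have h2 := RingHom.congr_fun (congrArg CommRingCat.Hom.hom
        (Scheme.ΓSpecIso_naturality (CommRingCat.ofHom (MulSemiringAction.toRingHom G A h)))) s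
      rw [← hg] at h2
      change (Scheme.ΓSpecIso (CommRingCat.of A)).hom.hom ((ρ g).hom.appTop.hom s) = h • a at h2
      rw [h1] at h2
      exact h2.symm
    obtain ⟨b, hb⟩ := Algebra.IsInvariant.isInvariant (A := B) a hfix
    obtain ⟨t, ht⟩ := (ConcreteCategory.bijective_of_isIso (Scheme.ΓSpecIso (CommRingCat.of B)).hom).2 b
    refine ⟨t, (ConcreteCategory.bijective_of_isIso (Scheme.ΓSpecIso (CommRingCat.of A)).hom).1 ?_⟩
    refine (RingHom.congr_fun (congrArg CommRingCat.Hom.hom
      (Scheme.ΓSpecIso_naturality (CommRingCat.ofHom (algebraMap B A)))) t).trans ?_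
    exact (congrArg (algebraMap B A) ht).trans hb

end Groth.Agent.S12059
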