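import Groth.Statements.S1206
import Groth.Agent.FlatMorOne.IdealPowers
import Mathlib.RingTheory.Localization.AtPrime.Basic
import Mathlib.RingTheory.Ideal.MinimalPrime.Localization

set_option autoImplicit false
universe u
open FlatMor

namespace Groth.Agent.S1206

/-- Let A be a local domain which is not a field and 𝒮 a set of finitely generated ideals of A, closed
under products, such that the union of the closed sets V(I), I ∈ 𝒮, is exactly the set of nonzero
primes (every nonzero prime contains a member of 𝒮 and no member is zero). Then the intersection of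
all members of 𝒮 is zero. -/
theorem result (A : Type u) [CommRing A] [IsDomain A] [IsLocalRing A] (hA : ¬ IsField A)
    (𝒮 : Set (Ideal A)) (hfg : ∀ I ∈ 𝒮, I.FG) (hmul : ∀ I ∈ 𝒮, ∀ J ∈ 𝒮, I * J ∈ 𝒮)
    (hne : ∀ I ∈ 𝒮, I ≠ ⊥) (hcov : ∀ (p : Ideal A), p.IsPrime → p ≠ ⊥ → ∃ I ∈ 𝒮, I ≤ p) :
    sInf 𝒮 = ⊥ := by
  rw [eq_bot_iff]
  intro x hx
  rw [Ideal.mem_bot]
  by_contra hx0
  obtain ⟨m, hm⟩ := Ideal.exists_maximal A
  have hmne : m ≠ ⊥ := Ring.ne_bot_of_isMaximal_of_not_isField hm hA
  obtain ⟨I₀, hI₀, hI₀m⟩ := hcov m hm.isPrime hmne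
  have hxm : Ideal.span {x} ≤ m := by
    rw [Ideal.span_singleton_le_iff_mem]
    exact hI₀m ((Submodule.mem_sInf.mp hx) I₀ hI₀)
  have : m.IsPrime := hm.isPrime
  obtain ⟨p, hp, -⟩ := Ideal.exists_minimalPrimes_le hxm
  have hpp : p.IsPrime := hp.1.1
  have hxp : x ∈ p := hp.1.2 (Ideal.subset_span rfl)
  have hpne : p ≠ ⊥ := fun h => hx0 (by rw [h] at hxp; exact hxp)
  obtain ⟨I, hI, hIp⟩ := hcov p hpp hpne
  have hpow : ∀ n : ℕ, 1 ≤ n → I ^ n ∈ 𝒮 := by
    intro n hn
    induction n, hn using Nat.le_induction with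
    | base => simpa using hI
    | succ n hn ih => rw [pow_succ]; exact hmul _ ih _ hI
  let φ := algebraMap A (Localization.AtPrime p)
  have := Groth.FlatMorOne.eq_zero_or_isUnit_of_mem_all_pow (J := I.map φ) (x := φ x)
    ((hfg I hI).map φ) (fun n hn => by
      rw [← Ideal.map_pow]
      exact Ideal.mem_map_of_mem φ ((Submodule.mem_sInf.mp hx) _ (hpow n hn)))
    (fun P hP hxP => by
      rw [Ideal.map_le_iff_le_comap]
      have : P.IsPrime := hP
      have h1 : P.comap φ ≤ p := by
        intro a ha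
        by_contra h
        exact hP.ne_top (P.eq_top_of_isUnit_mem ha (IsLocalization.map_units _ (⟨a, h⟩ : p.primeCompl)))
      exact hIp.trans (hp.2 ⟨inferInstance, by
        rw [Ideal.span_singleton_le_iff_mem]; exact hxP⟩ h1))
  rcases this with h | h
  · exact hx0 (IsLocalization.injective (Localization.AtPrime p) p.primeCompl_le_nonZeroDivisors
      (by rwa [map_zero]))
  · exact (IsLocalization.AtPrime.isUnit_to_map_iff (Localization.AtPrime p) p x).mp h hxp

end Groth.Agent.S1206
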