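import Groth.Statements.S12067
import Groth.Agent.Hopf.Comod
import Groth.Prelude.Def_ComodSub

set_option autoImplicit false
universe u
open TensorProduct
open SGA3t2b

namespace Groth.Agent.S12067

open Groth.ComodLib in
theorem step {k : Type u} [Field k] {A : Type u} [CommRing A] [HopfAlgebra k A]
    (hU : HopfRep.IsUnipotent k A) {V : Type u} [AddCommGroup V] [Module k V]
    [HopfRep.Comod k A V] [Module.Finite k V] (W : Submodule k V)
    (hW : HopfRep.IsSubcomod (k := k) (A := A) W) (hlt : W ≠ ⊤) :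
    ∃ W' : Submodule k V, HopfRep.IsSubcomod (k := k) (A := A) W' ∧ W ≤ W' ∧
      Module.finrank k ↥W' = Module.finrank k ↥W + 1 ∧
      ∀ x ∈ W', HopfRep.Comod.coact (k := k) (A := A) x - x ⊗ₜ[k] (1 : A) ∈
          LinearMap.range (W.subtype.rTensor A) := by
  letI cq : HopfRep.Comod k A (V ⧸ W) := ComodSub.Comod.quot inferInstance W hW
  have hn : Nontrivial (V ⧸ W) := Submodule.Quotient.nontrivial_iff.2 hlt
  obtain ⟨q, hq, hq0⟩ := Submodule.exists_mem_ne_zero_of_ne_bot (hU (V ⧸ W) inferInstance hn)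
  obtain ⟨v, rfl⟩ := W.mkQ_surjective q
  have hv : v ∉ W := fun h => hq0 ((Submodule.Quotient.mk_eq_zero W).2 h)
  have key : ∀ x ∈ W ⊔ Submodule.span k {v}, HopfRep.Comod.coact (k := k) (A := A) x -
      x ⊗ₜ[k] (1 : A) ∈ LinearMap.range (W.subtype.rTensor A) := by
    intro x hx
    obtain ⟨w, hw, y, hy, rfl⟩ := Submodule.mem_sup.1 hx
    obtain ⟨c, rfl⟩ := Submodule.mem_span_singleton.1 hy
    refine ((_root_.rTensor_exact A (LinearMap.exact_subtype_mkQ W) W.mkQ_surjective) _).1 ?_
    have h1 : W.mkQ.rTensor A (HopfRep.Comod.coact (k := k) (A := A) v) = W.mkQ v ⊗ₜ[k] (1 : A) :=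
      hq
    have h2 := ComodSub.rTensor_mkQ_coact_eq_zero inferInstance W hW w hw
    simp only [map_add, map_sub, map_smul, TensorProduct.add_tmul, ← TensorProduct.smul_tmul',
      LinearMap.rTensor_tmul, h1, h2, Submodule.mkQ_apply, (Submodule.Quotient.mk_eq_zero W).2 hw,
      TensorProduct.zero_tmul]
    abel
  refine ⟨W ⊔ Submodule.span k {v}, fun x hx => ?_, le_sup_left, ?_, key⟩
  · have h1 : LinearMap.range (W.subtype.rTensor A) ≤
        LinearMap.range ((W ⊔ Submodule.span k {v}).subtype.rTensor A) := by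
      rintro _ ⟨z, rfl⟩
      exact ⟨(Submodule.inclusion le_sup_left).rTensor A z, by
        rw [← LinearMap.rTensor_comp_apply]; rfl⟩
    have := add_mem (h1 (key x hx)) (⟨(⟨x, hx⟩ : ↥(W ⊔ Submodule.span k {v})) ⊗ₜ[k] (1 : A), rfl⟩ :
      x ⊗ₜ[k] (1 : A) ∈ LinearMap.range ((W ⊔ Submodule.span k {v}).subtype.rTensor A))
    simpa using this
  · have hv0 : v ≠ 0 := fun h => hv (h ▸ W.zero_mem)
    have hd : Disjoint W (Submodule.span k {v}) :=
      (Submodule.disjoint_span_singleton' hv0).2 hv
    have := Submodule.finrank_sup_add_finrank_inf_eq W (Submodule.span k {v})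
    rw [hd.eq_bot, finrank_bot, finrank_span_singleton hv0] at this
    omega

/-- In Hopf-algebra form, let k be a field and A a finitely generated commutative Hopf algebra over k
(an affine algebraic group G) which is unipotent: every nonzero finite-dimensional comodule has a
nonzero fixed vector. Then every finite-dimensional comodule V (a finite-dimensional representation
of G), of dimension n, has a flag of subcomodules 0 = V_0 ⊂ V_1 ⊂ ⋯ ⊂ V_n = V with one-dimensional
successive quotients on which G acts trivially: for v ∈ V_(i+1) the coaction of v is congruent to v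
⊗ 1 modulo V_i ⊗ A. -/
theorem result (k : Type u) [Field k] (A : Type u) [CommRing A]
    [HopfAlgebra k A] [Algebra.FiniteType k A] (hU : HopfRep.IsUnipotent k A)
    (V : Type u) [AddCommGroup V] [Module k V] [HopfRep.Comod k A V] [Module.Finite k V] :
    ∃ F : Fin (Module.finrank k V + 1) → Submodule k V,
      F 0 = ⊥ ∧ F (Fin.last _) = ⊤ ∧
      (∀ i : Fin (Module.finrank k V + 1), HopfRep.IsSubcomod (k := k) (A := A) (F i)) ∧
      ∀ i : Fin (Module.finrank k V), F i.castSucc ≤ F i.succ ∧
        Module.finrank k ↥(F i.succ) = Module.finrank k ↥(F i.castSucc) + 1 ∧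
        ∀ v ∈ F i.succ, HopfRep.Comod.coact (k := k) (A := A) v - v ⊗ₜ[k] (1 : A) ∈
          LinearMap.range ((F i.castSucc).subtype.rTensor A) := by
  suffices h : ∀ n ≤ Module.finrank k V, ∃ F : Fin (n + 1) → Submodule k V,
      F 0 = ⊥ ∧ Module.finrank k ↥(F (Fin.last n)) = n ∧
      (∀ i, HopfRep.IsSubcomod (k := k) (A := A) (F i)) ∧
      ∀ i : Fin n, F i.castSucc ≤ F i.succ ∧
        Module.finrank k ↥(F i.succ) = Module.finrank k ↥(F i.castSucc) + 1 ∧
        ∀ v ∈ F i.succ, HopfRep.Comod.coact (k := k) (A := A) v - v ⊗ₜ[k] (1 : A) ∈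
          LinearMap.range ((F i.castSucc).subtype.rTensor A) by
    obtain ⟨F, h0, hl, hs, hst⟩ := h _ le_rfl
    exact ⟨F, h0, Submodule.eq_top_of_finrank_eq hl, hs, hst⟩
  intro n hn
  induction n with
  | zero => exact ⟨fun _ => ⊥, rfl, finrank_bot k V, fun _ => Groth.ComodLib.isSubcomod_bot, fun i => i.elim0⟩
  | succ n ih =>
    obtain ⟨F, h0, hl, hs, hst⟩ := ih (by omega)
    obtain ⟨W', hW', hle, hfr, hco⟩ := step hU (F (Fin.last n)) (hs _) (fun h => by
      rw [h, finrank_top] at hl; omega)
    refine ⟨Fin.snoc F W', ?_, ?_, ?_, ?_⟩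
    · rw [← Fin.castSucc_zero, Fin.snoc_castSucc, h0]
    · rw [Fin.snoc_last, hfr, hl]
    · intro i
      induction i using Fin.lastCases with
      | last => rw [Fin.snoc_last]; exact hW'
      | cast i => rw [Fin.snoc_castSucc]; exact hs i
    · intro i
      induction i using Fin.lastCases with
      | last =>
        have e1 : (Fin.snoc F W' : Fin (n + 1 + 1) → Submodule k V) (Fin.last n).castSucc = F (Fin.last n) := Fin.snoc_castSucc ..
        have e2 : (Fin.snoc F W' : Fin (n + 1 + 1) → Submodule k V) (Fin.last n).succ = W' := by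
          rw [Fin.succ_last, Fin.snoc_last]
        rw [e1, e2]; exact ⟨hle, hfr, hco⟩
      | cast i =>
        have e1 : (Fin.snoc F W' : Fin (n + 1 + 1) → Submodule k V) i.castSucc.castSucc = F i.castSucc := Fin.snoc_castSucc ..
        have e2 : (Fin.snoc F W' : Fin (n + 1 + 1) → Submodule k V) i.castSucc.succ = F i.succ := by
          rw [Fin.succ_castSucc, Fin.snoc_castSucc]
        rw [e1, e2]; exact hst i

end Groth.Agent.S12067
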