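import Groth.Statements.S4286
import Groth.Agent.Pic13Aux.BoundedRegular

set_option autoImplicit false
set_option linter.style.haveILetI false
universe u
open CategoryTheory CategoryTheory.Limits AlgebraicGeometry
open Pic13

namespace Groth.Agent.S4286

/-- (i) implies (iii), over the base S = Spec k with k algebraically closed: let X ⊆ P^n_k be a closed
subscheme and P a bounded family of coherent O_X-modules. Then there is an integer m such that every
member of P is m-regular, and the Hilbert polynomials d ↦ χ(F(d)) of the members of P form a finite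
set. -/
theorem result (k : Type u) [Field k] [IsAlgClosed k] (n : ℕ) (X : Scheme.{u}) [X.Over (Spec (CommRingCat.of k))]
    (i : X ⟶ CohB1.ProjSpace n k) [IsClosedImmersion i] (hi : i ≫ CohB1.ProjSpace.toSpec n k = X ↘ Spec (CommRingCat.of k))
    (P : X.Modules → Prop) (hP : ∀ F, P F → Coh.IsCoh F) (hb : Pic13.IsBounded k X P) :
    (∃ m : ℤ, ∀ F, P F → Pic13.IsMRegular k i F m) ∧
      ∃ s : Finset (Polynomial ℚ), ∀ F, P F → ∃ φ ∈ s, ∀ d : ℤ, (FGA.eulerCharLE k X (Pic13.twistOn k i F d) n : ℚ) = φ.eval (d : ℚ) := by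
  classical
  haveI : IsProper (X ↘ Spec (CommRingCat.of k)) := by
    rw [← hi]
    haveI := Groth.Variety2.isProper_projSpace_toSpec n k
    infer_instance
  obtain ⟨N, H, hH, hgood⟩ := Groth.Pic13Aux.exists_twistsGood i P hb
  refine ⟨⟨(N : ℤ) + n, fun L hL q hq => ?_⟩, ?_⟩
  · obtain ⟨L', ⟨e⟩, hg⟩ := hgood L hL
    have := (hP L hL).1
    by_cases hqn : n < q
    · haveI : (Groth.Variety2.Reg.pF i L).IsQuasicoherent :=
        (Groth.Variety2.Reg.isCoh_pF i L (hP L hL)).1
      exact (Groth.Variety2.Reg.subsingleton_twistOn_iff i L _ q).2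
        (Groth.Variety2.Reg.subsingleton_fT_of_lt _ _ hqn)
    · have h := hg.1 (N + (n - q)) (Nat.le_add_right _ _) q hq
      have he : ((N + (n - q) : ℕ) : ℤ) = (N : ℤ) + n - q := by push_cast [Nat.not_lt.1 hqn]; ring
      rw [he] at h
      exact Groth.Variety2.Reg.subsingleton_of_iso k (PicGrp.tensorModIso e (Iso.refl _)) h
  · let Good : (ℕ → ℕ) → Polynomial ℚ → Prop := fun h φ => ∀ d : ℕ, N ≤ d → φ.eval ((d : ℤ) : ℚ) = h d
    let g : (ℕ → ℕ) → Polynomial ℚ := fun h => if hh : ∃ φ, Good h φ then hh.choose else 0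
    refine ⟨hH.toFinset.image g, fun L hL => ?_⟩
    obtain ⟨φ, hφ⟩ := Groth.Agent.S2426.result k n X i hi L (hP L hL)
    obtain ⟨L', ⟨e⟩, hvan, h, hh, h0⟩ := hgood L hL
    let e' : ∀ d : ℤ, Pic13.twistOn k i L' d ≅ Pic13.twistOn k i L d := fun d =>
      PicGrp.tensorModIso e (Iso.refl _)
    have h3 : ∀ (W : Type u) [AddCommGroup W] [Module k W],
        (Module.length k W).toNat = Module.finrank k W := fun W _ _ => by
      by_cases hW : Module.Finite k W
      · rw [Module.length_eq_finrank]; rfl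
      · rw [Module.finrank_of_not_finite hW, Module.length_eq_rank, Cardinal.toENat_eq_top.2]
        · rfl
        · exact not_lt.1 fun hlt => hW (Module.rank_lt_aleph0_iff.1 hlt)
    have hχ : ∀ d : ℤ, (FGA.eulerCharLE k X (Pic13.twistOn k i L d) n : ℚ) = φ.eval (d : ℚ) := fun d => by
      rw [← hφ d]
      simp only [FGA.eulerCharLE, Int.cast_sum, Int.cast_mul, Int.cast_pow, Int.cast_neg, Int.cast_one,
        Int.cast_natCast, h3]
      rfl
    have hφg : Good h φ := fun d hd => by
      rw [← hχ]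
      rw [Groth.FlatStrata.eulerCharLE_eq_rank (r := h d) (fun p => ?_) n]
      · simp
      · rw [← (Groth.EulerDeg.hEquiv k (e' d) p).finrank_eq]
        split_ifs with hp
        · subst hp; exact h0 d hd
        · have := hvan d hd p (Nat.one_le_iff_ne_zero.2 hp)
          exact Module.finrank_zero_of_subsingleton
    have hex : ∃ ψ, Good h ψ := ⟨φ, hφg⟩
    have heq : g h = φ := by
      simp only [g, dif_pos hex]
      refine Polynomial.eq_of_infinite_eval_eq _ _ ((Set.infinite_range_of_injective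
        (f := fun d : ℕ => (((N + d : ℕ) : ℤ) : ℚ)) fun a b hab => by simpa using hab).mono ?_)
      rintro _ ⟨d, rfl⟩
      exact (hex.choose_spec _ (Nat.le_add_right N d)).trans (hφg _ (Nat.le_add_right N d)).symm
    exact ⟨φ, Finset.mem_image.2 ⟨h, hH.mem_toFinset.2 hh, heq⟩, hχ⟩

end Groth.Agent.S4286
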