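import Groth.Statements.S12069
import Groth.Agent.Quot.RegularQuot
import Groth.Agent.QCohMod.Killed
import Groth.Agent.S4286
import Groth.Agent.Quot.Bounded

set_option autoImplicit false
universe u
open CategoryTheory CategoryTheory.Limits AlgebraicGeometry
open FGA

namespace Groth.Agent.S12069

lemma chiT_pF {k : Type u} [Field k] {n : ℕ} {X : Scheme.{u}} [inst : X.Over (Spec (CommRingCat.of k))]
    (i : X ⟶ CohB1.ProjSpace n k) [IsClosedImmersion i]
    (hi : i ≫ CohB1.ProjSpace.toSpec n k = X ↘ Spec (CommRingCat.of k))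
    {F : X.Modules} (hF : Coh.IsCoh F) (d : ℤ) :
    Groth.Quot.chiT ((Scheme.Modules.pushforward i).obj F) d =
      FGA.eulerCharLE k X (Pic13.twistOn k i F d) n := by
  obtain ⟨s⟩ := inst
  subst hi
  have := hF.1
  rw [Groth.Quot.chiT_eq_eulerCharLE (Groth.Variety2.Reg.isCoh_pF i F hF).1, FGA.eulerCharLE,
    FGA.eulerCharLE]
  refine Finset.sum_congr rfl fun q _ => ?_
  obtain ⟨e⟩ := Groth.PnCoh.nonempty_linearEquiv_push_twist n k i F d q
  congr 2
  exact e.finrank_eq

/-- Over an algebraically closed field k, let X ⊆ P^n_k be a closed subscheme and P a bounded family of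
coherent O_X-modules. Then there are integers m, N and an O_X-module E which is a direct sum of N
copies of O_X(-m) such that every member of the family is a quotient of E. (The published statement
is relative, for families of classes of sheaves on the fibres of a projective scheme over a
Noetherian base, and gives two necessary conditions for boundedness, which are then shown to be
sufficient together; this row is the necessity of the first condition in the case of the base Spec
k. Finiteness of the set of Hilbert polynomials of the family, the other necessary condition, is a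
separate result.) -/
theorem result (k : Type u) [Field k] [IsAlgClosed k] (n : ℕ) (X : Scheme.{u})
    [X.Over (Spec (CommRingCat.of k))] (i : X ⟶ CohB1.ProjSpace n k) [IsClosedImmersion i]
    (hi : i ≫ CohB1.ProjSpace.toSpec n k = X ↘ Spec (CommRingCat.of k))
    (P : X.Modules → Prop) (hP : ∀ F, P F → Coh.IsCoh F) (hb : Pic13.IsBounded k X P) :
    ∃ (m : ℤ) (N : ℕ) (E : X.Modules) (c : Fin N → (Pic13.twistOn k i (Coh.structureModule X) (-m) ⟶ E)),
      Nonempty (IsColimit (Cofan.mk E c)) ∧ ∀ F, P F → ∃ p : E ⟶ F, Epi p := by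
  obtain ⟨⟨m, hreg⟩, s, hs⟩ := Groth.Agent.S4286.result k n X i hi P hP hb
  let N := s.sup fun φ => ⌈φ.eval (m : ℚ)⌉.toNat
  let O' := Twist.twistProjSpace n k (-m)
  let G := Scheme.Modules.pullback i
  have : G.IsLeftAdjoint := (Scheme.Modules.pullbackPushforwardAdjunction i).isLeftAdjoint
  obtain ⟨e⟩ : Nonempty (Pic13.twistOn k i (Coh.structureModule X) (-m) ≅ G.obj O') :=
    Groth.Inter.tensor_one _
  refine ⟨m, N, G.obj (∐ fun _ : Fin N => O'),
    fun l => e.hom ≫ G.map (Sigma.ι (fun _ : Fin N => O') l), ⟨?_⟩, fun F hF => ?_⟩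
  · refine IsColimit.ofIsoColimit
      ((IsColimit.precomposeHomEquiv (Discrete.natIso fun _ => e) _).symm
        (isColimitCofanMkObjOfIsColimit G _ _ (coproductIsCoproduct fun _ : Fin N => O')))
      (Cocone.ext (Iso.refl _) fun j => Category.comp_id _)
  · have hFc := hP F hF
    have := hFc.1
    have := Groth.QCohMod.isIso_counit_closedImmersion i F
    obtain ⟨φ, hφs, hφ⟩ := hs F hF
    have hN : Groth.Quot.chiT ((Scheme.Modules.pushforward i).obj F) m ≤ (N : ℤ) := by
      have h1 := hφ m
      rw [← chiT_pF i hi hFc m] at h1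
      have h2 : Groth.Quot.chiT ((Scheme.Modules.pushforward i).obj F) m = ⌈φ.eval (m : ℚ)⌉ := by
        rw [← h1, Int.ceil_intCast]
      rw [h2]
      exact (Int.self_le_toNat _).trans (Int.ofNat_le.2 (Finset.le_sup
        (f := fun φ : Polynomial ℚ => ⌈φ.eval (m : ℚ)⌉.toNat) hφs))
    obtain ⟨p, hp⟩ := Groth.Quot.exists_epi_of_mReg (Groth.Variety2.Reg.isCoh_pF i F hFc)
      (Groth.Variety2.Reg.mReg_pF i F (hreg F hF)) hN
    exact ⟨G.map p ≫ (Scheme.Modules.pullbackPushforwardAdjunction i).counit.app F,
      @epi_comp _ _ _ _ _ _ (G.map_epi p) _ inferInstance⟩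

end Groth.Agent.S12069
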