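import Groth.Statements.S1207
import Groth.Agent.FlatMorOne.IdealPowers
import Mathlib.RingTheory.Localization.AtPrime.Basic
import Mathlib.RingTheory.Ideal.MinimalPrime.Localization

set_option autoImplicit false
universe u
open FlatMor

namespace Groth.Agent.S1207

/-- Let A be a local ring and I, J ideals of A with J finitely generated, J ≠ A, and I ⊆ J^n for all n ≥
1. Then every prime p not containing J which is maximal among the primes not containing J (a closed
point of Spec A ∖ V(J)) contains I. (The published statement leaves the hypothesis J ≠ A implicit;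
for J = A the assertion fails.) -/
theorem result (A : Type u) [CommRing A] [IsLocalRing A] (I J : Ideal A) (hJ : J.FG) (hJ1 : J ≠ ⊤)
    (hI : ∀ n : ℕ, 1 ≤ n → I ≤ J ^ n) (p : Ideal A) [p.IsPrime] (hp : ¬ J ≤ p)
    (hmax : ∀ (p' : Ideal A), p'.IsPrime → p ≤ p' → ¬ J ≤ p' → p' = p) : I ≤ p := by
  intro x hx
  by_contra hxp
  let φ := Ideal.Quotient.mk p
  have := Groth.FlatMorOne.eq_zero_or_isUnit_of_mem_all_pow (J := J.map φ) (x := φ x)
    (hJ.map φ) (fun n hn => by
      rw [← Ideal.map_pow]
      exact Ideal.mem_map_of_mem φ (hI n hn hx))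
    (fun P hP hxP => by
      rw [Ideal.map_le_iff_le_comap]
      by_contra hJP
      have hle : p ≤ P.comap φ := by
        intro a ha
        rw [Ideal.mem_comap, Ideal.Quotient.eq_zero_iff_mem.mpr ha]
        exact P.zero_mem
      have := hmax _ (hP.comap φ) hle hJP
      exact hxp (this ▸ hxP))
  rcases this with h | h
  · exact hxp (Ideal.Quotient.eq_zero_iff_mem.mp h)
  · obtain ⟨m, hm, hpm⟩ := Ideal.exists_le_maximal p Ideal.IsPrime.ne_top'
    obtain ⟨y, hy⟩ := h.exists_left_inv
    obtain ⟨y, rfl⟩ := Ideal.Quotient.mk_surjective y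
    rw [← map_mul, ← map_one φ, Ideal.Quotient.mk_eq_mk_iff_sub_mem] at hy
    have hxJ : x ∈ J := by simpa using hI 1 le_rfl hx
    have hxm : x ∈ IsLocalRing.maximalIdeal A := IsLocalRing.le_maximalIdeal hJ1 hxJ
    refine hm.ne_top ((Ideal.eq_top_iff_one m).mpr ?_)
    rw [← IsLocalRing.eq_maximalIdeal hm] at hxm
    simpa using m.sub_mem (m.mul_mem_left y hxm) (hpm hy)

end Groth.Agent.S1207
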