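import Groth.Statements.S12070
import Groth.Agent.Pi1Lef.Lefschetz
import Groth.Agent.LefAlg.FieldLeff
import Groth.Agent.LefSections.Covers
-- import your own Groth.Agent.* helpers here

set_option autoImplicit false
set_option backward.isDefEq.respectTransparency false
set_option linter.style.haveILetI false
universe u
open Pi1

namespace Groth.Agent.S12070

open AlgebraicGeometry CategoryTheory CategoryTheory.Limits in
/-- Let X be a proper scheme over a field k, L an ample O_X-module, t a global section of L which is
regular (the map O_X → L it defines is a monomorphism) and X_0 = Z(t) its zero scheme. Assume that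
the local ring of X at every closed point has depth ≥ 2, that it has depth ≥ 3 at every closed point
of X_0, and that purity holds for the local ring of X at every closed point not in X_0 (for instance
a regular local ring or a complete intersection). Then restriction of finite étale covers from X to
X_0 is an equivalence of categories; in particular, for a geometric base point on X_0, π_1(X_0) →
π_1(X) is an isomorphism. (The published statement is phrased with π_0 and π_1; this row states the
equivalence of the categories of finite étale covers that underlies it.) -/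
theorem result (k : Type u) [Field k] (X : Scheme.{u})
    (f : X ⟶ Spec (CommRingCat.of k)) [IsProper f] (L : X.Modules) (hL : CohB1.IsAmple L)
    (s : Coh.structureModule X ⟶ L) [Mono s]
    (hd2 : ∀ x : X, IsClosed ({x} : Set X) → (2 : ℕ∞) ≤ LocCoh.depth (X.presheaf.stalk x) (X.presheaf.stalk x))
    (hd3 : ∀ x : X, IsClosed ({x} : Set X) → x ∈ (PicF2.zeroScheme L s).support →
      (3 : ℕ∞) ≤ LocCoh.depth (X.presheaf.stalk x) (X.presheaf.stalk x))
    (hp : ∀ x : X, IsClosed ({x} : Set X) → x ∉ (PicF2.zeroScheme L s).support →
      FEt.PurityHolds (X.presheaf.stalk x)) :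
    (FEt.restrict (PicF2.zeroScheme L s).subschemeι).IsEquivalence := by
  letI : X.Over (Spec (CommRingCat.of k)) := ⟨f⟩
  haveI : IsProper (X ↘ Spec (CommRingCat.of k)) := ‹IsProper f›
  haveI : IsNoetherian X := Groth.EulerDeg.isNoetherian_of_proper k X
  let I := PicF2.zeroScheme L s
  have hs := Groth.Pi1Lef.regularSection_of_mono s
  have hC : BlowUp.IsEffCartierIdeal I := Groth.PicAux.isEffCartierIdeal_zeroScheme hL.1 hs
  have hinv : ClSub.IsInverseOf L (ClSub.idealMod I) := Groth.PicAux.isInverseOf_zeroScheme hL.1 hs
  have hd0 : ∀ z : I.subscheme, IsClosed ({z} : Set I.subscheme) →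
      (2 : ℕ∞) ≤ LocCoh.depth (I.subscheme.presheaf.stalk z) (I.subscheme.presheaf.stalk z) := fun z hz => by
    refine Groth.Pi1Lef.le_depth_divisor I hC z (hd3 _ ?_ ?_)
    · rw [← Set.image_singleton]
      exact I.subschemeι.isClosedEmbedding.isClosedMap _ hz
    · rw [← SetLike.mem_coe, ← Scheme.IdealSheafData.range_subschemeι]
      exact ⟨z, rfl⟩
  have hLeff := Groth.LefAlg.leffCond_of_ample k I L hinv hL hd2 hd0
  have haff : IsAffineOpen (CohB1.genLocus L s) := by
    rw [Groth.PropsBasic.Ample.genLocus_eq_gloc]
    exact Groth.PropsBasic.Ample.isAffineOpen_gloc_of_universallyClosed f hL _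
  have hclosed : ∀ U : X.Opens, (I.support : Set X) ⊆ (U : Set X) → ∀ x : X, x ∉ U →
      IsClosed ({x} : Set X) := fun U hU x hx =>
    Groth.VarietyBC.NegTwist.isClosed_singleton_of_closure_le k haff x fun y hy => by
      rw [SetLike.mem_coe, Groth.PicAux.mem_genLocus_iff_not_mem_support hL.1]
      exact fun hy' => hx ((specializes_iff_mem_closure.2 hy).mem_open U.2 (hU hy'))
  haveI := Groth.Pi1Lef.essSurj_of_leff I hLeff fun U hU x hx =>
    hp x (hclosed U hU x hx) fun h => hx (hU h)
  obtain ⟨hfull, hfaith⟩ := Groth.LefSections.restrict_fullyFaithful I fun A =>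
    Groth.LefVanish.homToFormalBijective_ample k I L hinv hL hd2 _ (by
      have : IsFinite A.hom := A.prop.1
      have : Etale A.hom := A.prop.2
      exact Groth.LocFree.isFinLocFree_homSh (Groth.RefRank.push_isFinLocFree A.hom) (Groth.LocFree.isFinLocFree_unit _))
  exact { }

end Groth.Agent.S12070
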