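import Groth.Statements.S12071
import Mathlib.GroupTheory.SpecificGroups.Dihedral
import Mathlib.Tactic

set_option autoImplicit false
open RootD

namespace Groth.Agent.S12071

/-- Let G be the group generated by two elements x, y subject to x² = y² = 1 (the infinite dihedral
group; here Mathlib's DihedralGroup 0 with x = sr 0 and y = sr 1, so that x y = r 1). Then every
normal subgroup of G containing neither x nor y is generated by an element (x y)^n with n > 0; such
a subgroup is cyclic, generated by r n. (The published statement does not exclude the trivial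
subgroup, for which no n > 0 works; this row assumes the subgroup nontrivial.) -/
theorem result (N : Subgroup (DihedralGroup 0)) [N.Normal]
    (hN : N ≠ ⊥) (hx : DihedralGroup.sr (0 : ZMod 0) ∉ N) (hy : DihedralGroup.sr (1 : ZMod 0) ∉ N) :
    ∃ n : ℕ, 0 < n ∧ N = Subgroup.zpowers (DihedralGroup.r (n : ZMod 0)) := by
  have hno : ∀ k : ZMod 0, DihedralGroup.sr k ∉ N := by
    intro k hk
    have hc : ∀ a : ZMod 0, DihedralGroup.sr (k - a - a) ∈ N := fun a ↦ by
      have := Subgroup.Normal.conj_mem (H := N) inferInstance _ hk (DihedralGroup.r a)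
      rw [DihedralGroup.inv_r, DihedralGroup.r_mul_sr, DihedralGroup.sr_mul_r] at this
      convert this using 2
      ring
    obtain ⟨z, rfl⟩ := ZMod.intCast_surjective k
    obtain ⟨a, ha⟩ | ⟨a, ha⟩ := Int.even_or_odd z
    · exact hx (by have := hc (Int.cast a); rwa [show (Int.cast z : ZMod 0) - Int.cast a - Int.cast a = 0 from by rw [ha]; push_cast; ring] at this)
    · exact hy (by have := hc (Int.cast a); rwa [show (Int.cast z : ZMod 0) - Int.cast a - Int.cast a = 1 from by rw [ha]; push_cast; ring] at this)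
  let A : AddSubgroup ℤ :=
    { carrier := {k | DihedralGroup.r (Int.cast k : ZMod 0) ∈ N}
      zero_mem' := by simp
      add_mem' := fun {a b} ha hb ↦ by simpa [DihedralGroup.r_mul_r] using N.mul_mem ha hb
      neg_mem' := fun {a} ha ↦ by simpa [DihedralGroup.inv_r] using N.inv_mem ha }
  have hmem : ∀ k : ℤ, k ∈ A ↔ DihedralGroup.r (Int.cast k : ZMod 0) ∈ N := fun k ↦ Iff.rfl
  obtain ⟨d, hd⟩ := Int.subgroup_cyclic A
  have hA : ∀ k : ℤ, k ∈ A ↔ (d.natAbs : ℤ) ∣ k := fun k ↦ by
    rw [hd, AddSubgroup.mem_closure_singleton, Int.natAbs_dvd, dvd_def]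
    simp only [smul_eq_mul, mul_comm d, eq_comm]
  refine ⟨d.natAbs, Int.natAbs_pos.mpr ?_, ?_⟩
  · rintro rfl
    refine hN (Subgroup.eq_bot_iff_forall _ |>.mpr ?_)
    rintro (k | k) hk
    · obtain ⟨z, rfl⟩ := ZMod.intCast_surjective k
      obtain ⟨t, ht⟩ := (hA z).mp ((hmem z).mpr hk)
      simp only [Int.natAbs_zero, Nat.cast_zero, zero_mul] at ht
      subst ht
      simp
    · exact absurd hk (hno k)
  · refine le_antisymm ?_ (Subgroup.zpowers_le.mpr ?_)
    · rintro (k | k) hk
      · obtain ⟨z, rfl⟩ := ZMod.intCast_surjective k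
        obtain ⟨t, rfl⟩ := (hA z).mp ((hmem z).mpr hk)
        refine ⟨t, ?_⟩
        rw [Int.cast_mul, Int.cast_natCast]
        exact (DihedralGroup.r_zpow _ _)
      · exact absurd hk (hno k)
    · have := (hmem _).mp ((hA _).mpr (dvd_refl ((d.natAbs : ℤ))))
      rwa [Int.cast_natCast] at this

end Groth.Agent.S12071
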