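import Groth.Statements.S12076
import Groth.Agent.RootData.Partition

set_option autoImplicit false
open RootD

namespace Groth.Agent.S12076

/-- Let Δ be a system of simple roots (a base b of a root pairing P over ℤ) and Γ₀ the subgroup
generated by the roots. Then Γ₀ has a structure of totally ordered group for which the roots > 0 are
exactly the positive roots defined by Δ and for which the height (the additive function with value 1
on each simple root) is monotone. The order is given here by its positive cone C ⊆ Γ₀: 0 ∉ C, C + C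
⊆ C, and for every x ≠ 0 exactly one of x, −x lies in C (x < y meaning y − x ∈ C). -/
theorem result {ι M N : Type*} [AddCommGroup M] [AddCommGroup N]
    (P : RootPairing ι ℤ M N) [Finite ι] (b : P.Base) :
    ∃ C : Set ↥(Submodule.span ℤ (Set.range P.root)),
      0 ∉ C ∧ (∀ x ∈ C, ∀ y ∈ C, x + y ∈ C) ∧ (∀ x, x ≠ 0 → (x ∈ C ∨ -x ∈ C)) ∧ (∀ x ∈ C, -x ∉ C) ∧
      (∀ i : ι, (⟨P.root i, Submodule.subset_span (Set.mem_range_self i)⟩ : ↥(Submodule.span ℤ (Set.range P.root))) ∈ C ↔
        b.IsPos i) ∧
      ∀ φ : ↥(Submodule.span ℤ (Set.range P.root)) →+ ℤ,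
        (∀ j ∈ b.support, φ ⟨P.root j, Submodule.subset_span (Set.mem_range_self j)⟩ = 1) →
        ∀ x y : ↥(Submodule.span ℤ (Set.range P.root)), y - x ∈ C → φ x ≤ φ y := by
  classical
  have hb := Groth.RootData.Base.isSimpleSys b
  set L := Submodule.span ℤ (Set.range P.root) with hLdef
  let B : Module.Basis b.support ℤ L := b.toWeightBasisInt
  let e := Fintype.equivFin b.support
  let c : L →+ Lex (Fin (Fintype.card b.support) → ℤ) :=
    { toFun := fun x ↦ toLex fun k ↦ B.repr x (e.symm k)
      map_zero' := by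
        rw [show (fun k ↦ B.repr 0 (e.symm k)) = (0 : Fin (Fintype.card b.support) → ℤ) from funext fun k ↦ by simp]
        rfl
      map_add' := fun x y ↦ by
        rw [show (fun k ↦ B.repr (x + y) (e.symm k)) = (fun k ↦ B.repr x (e.symm k)) + fun k ↦ B.repr y (e.symm k) from funext fun k ↦ by simp]
        rfl }
  let h : L →+ ℤ :=
    { toFun := fun x ↦ ∑ j, B.repr x j
      map_zero' := by simp
      map_add' := fun x y ↦ by simp [Finset.sum_add_distrib] }
  have hc : Function.Injective c := fun x y hxy ↦ B.repr.injective (Finsupp.ext fun j ↦ by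
    simpa [c] using congrFun (toLex.injective hxy) (e j))
  let C : Set L := {x | 0 < h x ∨ (h x = 0 ∧ 0 < c x)}
  let r : ι → L := fun i ↦ ⟨P.root i, Submodule.subset_span (Set.mem_range_self i)⟩
  have hh : ∀ i, h (r i) = b.height i := fun i ↦ by
    obtain ⟨f, -, -, hf⟩ := b.exists_root_eq_sum_int i
    rw [RootPairing.Base.height_eq_sum hf]
    have hr : r i = ∑ j : b.support, f j • B j := by
      apply Subtype.ext
      simp only [r, AddSubmonoidClass.coe_finsetSum, Submodule.coe_smul]
      rw [hf, ← Finset.sum_coe_sort]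
      exact Finset.sum_congr rfl fun j _ ↦ congrArg (f j • ·) (b.coe_toWeightBasisInt_apply j).symm
    change ∑ j, B.repr (r i) j = _
    rw [hr]
    rw [Module.Basis.repr_sum_self]
    exact Finset.sum_coe_sort b.support f
  refine ⟨C, ?_, ?_, ?_, ?_, fun i ↦ ?_, ?_⟩
  · rintro (h' | ⟨-, h'⟩)
    · exact (map_zero h ▸ h').false
    · exact (map_zero c ▸ h').false
  · intro x hx y hy
    change 0 < h (x + y) ∨ (h (x + y) = 0 ∧ 0 < c (x + y))
    rw [map_add h x y, map_add c x y]
    rcases hx with hx | ⟨hx, hx'⟩ <;> rcases hy with hy | ⟨hy, hy'⟩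
    · exact .inl (add_pos hx hy)
    · exact .inl (by omega)
    · exact .inl (by omega)
    · exact .inr ⟨by omega, add_pos hx' hy'⟩
  · intro x hx
    change (0 < h x ∨ (h x = 0 ∧ 0 < c x)) ∨ (0 < h (-x) ∨ (h (-x) = 0 ∧ 0 < c (-x)))
    rw [map_neg h x, map_neg c x]
    have hcx : c x ≠ 0 := fun e ↦ hx (hc (e.trans (map_zero c).symm))
    rcases lt_trichotomy (h x) 0 with e | e | e
    · exact .inr (.inl (by omega))
    · rcases lt_or_gt_of_ne hcx with e' | e'
      · exact .inr (.inr ⟨by omega, neg_pos.mpr e'⟩)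
      · exact .inl (.inr ⟨e, e'⟩)
    · exact .inl (.inl e)
  · intro x hx hnx
    change 0 < h (-x) ∨ (h (-x) = 0 ∧ 0 < c (-x)) at hnx
    rw [map_neg h x, map_neg c x] at hnx
    rcases hx with hx | ⟨hx, hx'⟩ <;> rcases hnx with hy | ⟨hy, hy'⟩
    · omega
    · omega
    · omega
    · exact lt_asymm hx' (neg_pos.mp hy')
  · change r i ∈ C ↔ _
    simp only [C, Set.mem_setOf_eq, hh, b.isPos_iff]
    exact or_iff_left fun ⟨e, _⟩ ↦ b.height_ne_zero i e
  · intro φ hφ x y hxy
    have hφh : φ = h := by
      refine AddMonoidHom.toIntLinearMap_injective (B.ext fun j ↦ ?_)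
      have h1 : φ (B j) = 1 := by
        rw [show B j = r j from Subtype.ext (b.coe_toWeightBasisInt_apply j)]
        exact hφ j j.2
      have h2 : h (B j) = 1 := by
        change ∑ k, B.repr (B j) k = 1
        simp [Module.Basis.repr_self, Finsupp.single_apply]
      simpa using h1.trans h2.symm
    rw [hφh]
    change 0 < h (y - x) ∨ (h (y - x) = 0 ∧ 0 < c (y - x)) at hxy
    rw [map_sub h y x] at hxy
    rcases hxy with e | ⟨e, -⟩ <;> omega

end Groth.Agent.S12076
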