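import Groth.Statements.S12077
import Groth.Agent.Calg5.SplitCover

set_option autoImplicit false
universe u
open Polynomial
open CAlg

namespace Groth.Agent.S12077

section Construction

variable (A : Type u) [CommRing A]

/-- One variable for every root of every monic polynomial. -/
abbrev Vars : Type u := Σ f : {f : A[X] // f.Monic}, Fin f.1.natDegree

/-- The polynomial whose coefficients cut out a factorisation of `f`. -/
noncomputable def rel (f : {f : A[X] // f.Monic}) : (MvPolynomial (Vars A) A)[X] :=
  f.1.map MvPolynomial.C - ∏ i, (X - Polynomial.C (MvPolynomial.X (⟨f, i⟩ : Vars A)))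

/-- The ideal of all factorisation relations. -/
noncomputable def relIdeal : Ideal (MvPolynomial (Vars A) A) :=
  Ideal.span (Set.range fun p : {f : A[X] // f.Monic} × ℕ => (rel A p.1).coeff p.2)

/-- The ring obtained by factoring all monic polynomials. -/
abbrev Step : Type u := MvPolynomial (Vars A) A ⧸ relIdeal A

theorem step_split (f : A[X]) (hf : f.Monic) :
    ∃ s : Multiset (Step A), f.map (algebraMap A (Step A)) = (s.map fun b => X - Polynomial.C b).prod := by
  refine ⟨Finset.univ.val.map fun i => Ideal.Quotient.mk (relIdeal A)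
    (MvPolynomial.X (⟨⟨f, hf⟩, i⟩ : Vars A)), ?_⟩
  have h : (rel A ⟨f, hf⟩).map (Ideal.Quotient.mk (relIdeal A)) = 0 := by
    refine Polynomial.ext fun j => ?_
    rw [Polynomial.coeff_map, Polynomial.coeff_zero, Ideal.Quotient.eq_zero_iff_mem]
    exact Ideal.subset_span ⟨(⟨f, hf⟩, j), rfl⟩
  rw [rel, Polynomial.map_sub, sub_eq_zero, Polynomial.map_map, Polynomial.map_prod] at h
  rw [Multiset.map_map]
  refine h.trans ?_
  simp [Finset.prod_eq_multiset_prod, Function.comp_def]

theorem step_injective : Function.Injective (algebraMap A (Step A)) := by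
  classical
  rcases subsingleton_or_nontrivial A with hA | hA
  · exact fun a b _ => Subsingleton.elim a b
  rw [injective_iff_map_eq_zero]
  intro a ha
  have ha' : MvPolynomial.C a ∈ relIdeal A := Ideal.Quotient.eq_zero_iff_mem.mp ha
  obtain ⟨T, hT, haT⟩ := Submodule.mem_span_finite_of_mem_span ha'
  have hT' : ∀ x ∈ T, ∃ p : {f : A[X] // f.Monic} × ℕ, (rel A p.1).coeff p.2 = x := fun x hx => hT hx
  choose p hp using hT'
  let l := (T.attach.image fun x => (p x.1 x.2).1.1).toList
  obtain ⟨S, _, _, -, -, hinj, hsplit⟩ := Groth.Calg5.SplitCover.exists_split_list A l (by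
    intro f hf
    simp only [l, Finset.mem_toList, Finset.mem_image] at hf
    obtain ⟨x, -, rfl⟩ := hf
    exact (p x.1 x.2).1.2)
  haveI : Nontrivial S := hinj.nontrivial
  have hsplit' : ∀ f : {f : A[X] // f.Monic}, ∃ r : Fin f.1.natDegree → S,
      f.1 ∈ l → f.1.map (algebraMap A S) = ∏ i, (X - Polynomial.C (r i)) := by
    intro f
    by_cases hfl : f.1 ∈ l
    · obtain ⟨s, hs⟩ := hsplit f.1 hfl
      have hcard : s.toList.length = f.1.natDegree := by
        rw [Multiset.length_toList, ← f.2.natDegree_map (algebraMap A S), hs,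
          Polynomial.natDegree_multiset_prod_X_sub_C_eq_card]
      refine ⟨fun i => s.toList.get (Fin.cast hcard.symm i), fun _ => ?_⟩
      rw [hs]
      conv_lhs => rw [← Multiset.coe_toList s, Multiset.map_coe, Multiset.prod_coe]
      rw [← Fin.prod_univ_fun_getElem s.toList fun a => X - Polynomial.C a]
      refine Fintype.prod_equiv (finCongr hcard) _ _ fun i => ?_
      simp
    · exact ⟨fun _ => 0, fun h => absurd h hfl⟩
  choose r hr using hsplit'
  let ev : MvPolynomial (Vars A) A →+* S :=
    MvPolynomial.eval₂Hom (algebraMap A S) fun v => r v.1 v.2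
  have hker : ∀ x ∈ T, ev x = 0 := by
    intro x hx
    have hfl : (p x hx).1.1 ∈ l := by
      simp only [l, Finset.mem_toList, Finset.mem_image]
      exact ⟨⟨x, hx⟩, Finset.mem_attach _ _, rfl⟩
    have : (rel A (p x hx).1).map ev = 0 := by
      rw [rel, Polynomial.map_sub, Polynomial.map_map, Polynomial.map_prod, sub_eq_zero,
        show ev.comp MvPolynomial.C = algebraMap A S from RingHom.ext fun c => by simp [ev], hr _ hfl]
      refine Finset.prod_congr rfl fun i _ => ?_
      simp [ev]
    rw [← hp x hx, ← Polynomial.coeff_map, this, Polynomial.coeff_zero]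
  have : ev (MvPolynomial.C a) = 0 := by
    have hle : Submodule.span (MvPolynomial (Vars A) A) (T : Set _) ≤ RingHom.ker ev :=
      Submodule.span_le.mpr fun x hx => hker x hx
    exact hle haT
  refine hinj ?_
  simpa [ev] using this

/-- The iteration. -/
noncomputable def tower : ℕ → CommRingCat.{u}
  | 0 => CommRingCat.of A
  | i + 1 => CommRingCat.of (Step (tower i))

/-- The transition maps of the iteration. -/
noncomputable def towerMap (i : ℕ) : tower A i ⟶ tower A (i + 1) :=
  CommRingCat.ofHom (algebraMap (tower A i) (Step (tower A i)))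

theorem exists_aic : ∃ (B : Type u) (_ : CommRing B) (_ : Algebra A B),
    Function.Injective (algebraMap A B) ∧
      ∀ f : B[X], f.Monic → ∃ s : Multiset B, f = (s.map fun b => X - Polynomial.C b).prod := by
  haveI : CategoryTheory.Limits.PreservesFilteredColimitsOfSize.{0, 0}
      (CategoryTheory.forget CommRingCat.{u}) :=
    CategoryTheory.Limits.preservesSmallestFilteredColimits_of_preservesFilteredColimits.{u, u} _
  let F := CategoryTheory.Functor.ofSequence (towerMap A)
  let c := CategoryTheory.Limits.colimit.cocone F
  have hc := CategoryTheory.Limits.colimit.isColimit F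
  let B : Type u := c.pt
  have htrans : ∀ {i j : ℕ} (h : i ≤ j),
      Function.Injective (F.map (CategoryTheory.homOfLE h)).hom := by
    intro i j h
    induction h with
    | refl =>
      rw [show CategoryTheory.homOfLE (le_refl i) = CategoryTheory.CategoryStruct.id i from rfl,
        F.map_id]
      exact fun a b h => h
    | @step j h ih =>
      rw [← CategoryTheory.homOfLE_comp h (Nat.le_succ j), F.map_comp,
        CategoryTheory.Functor.ofSequence_map_homOfLE_succ]
      exact (step_injective (tower A j)).comp ih
  have hι : ∀ i, Function.Injective (c.ι.app i).hom := by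
    intro i a b hab
    obtain ⟨k, f, g, hfg⟩ := CategoryTheory.Limits.Concrete.isColimit_exists_of_rep_eq F hc a b hab
    rw [Subsingleton.elim g f] at hfg
    exact htrans (CategoryTheory.leOfHom f) hfg
  refine ⟨B, inferInstance, (c.ι.app 0).hom.toAlgebra, hι 0, fun f hf => ?_⟩
  have key : ∀ n : ℕ, ∃ i, ∀ j < n, f.coeff j ∈ Set.range (c.ι.app i).hom := by
    intro n
    induction n with
    | zero => exact ⟨0, fun j hj => absurd hj (Nat.not_lt_zero j)⟩
    | succ n ih =>
      obtain ⟨i, hi⟩ := ih
      obtain ⟨m, x, hx⟩ := CategoryTheory.Limits.Concrete.isColimit_exists_rep F hc (f.coeff n)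
      refine ⟨max i m, fun j hj => ?_⟩
      have hmap : ∀ {a : ℕ} (ha : a ≤ max i m) (y : F.obj a),
          (c.ι.app a).hom y ∈ Set.range (c.ι.app (max i m)).hom := fun ha y =>
        ⟨(F.map (CategoryTheory.homOfLE ha)).hom y, congr($(c.w (CategoryTheory.homOfLE ha)) y)⟩
      rcases Nat.lt_succ_iff_lt_or_eq.mp hj with hj' | rfl
      · obtain ⟨y, hy⟩ := hi j hj'
        exact hy ▸ hmap (le_max_left _ _) y
      · exact hx ▸ hmap (le_max_right _ _) x
  obtain ⟨i, hi⟩ := key (f.natDegree + 1)
  have hl : f ∈ Polynomial.lifts (c.ι.app i).hom := (Polynomial.lifts_iff_coeff_lifts _).mpr fun j => by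
    rcases Nat.lt_or_ge j (f.natDegree + 1) with hj | hj
    · exact hi j hj
    · exact ⟨0, by rw [map_zero, Polynomial.coeff_eq_zero_of_natDegree_lt hj]⟩
  obtain ⟨g, hg, -, hgm⟩ := Polynomial.lifts_and_natDegree_eq_and_monic hl hf
  obtain ⟨s, hs⟩ := step_split (tower A i) g hgm
  refine ⟨s.map (c.ι.app (i + 1)).hom, ?_⟩
  have hw : ((c.ι.app (i + 1)).hom).comp (algebraMap (tower A i) (Step (tower A i))) =
      (c.ι.app i).hom := by
    have := c.w (CategoryTheory.homOfLE (Nat.le_succ i))
    rw [CategoryTheory.Functor.ofSequence_map_homOfLE_succ] at this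
    exact congrArg CommRingCat.Hom.hom this
  have := congrArg (Polynomial.map (c.ι.app (i + 1)).hom) hs
  erw [Polynomial.map_map, hw, hg] at this
  erw [Polynomial.map_multiset_prod, Multiset.map_map] at this
  rw [this, Multiset.map_map]
  congr 1
  exact Multiset.map_congr rfl fun b _ =>
    (Polynomial.map_sub _).trans (congrArg₂ (· - ·) (Polynomial.map_X _) (Polynomial.map_C _))

end Construction

/-- Every commutative ring `A` admits an injective ring map into an absolutely integrally closed
commutative ring `B`, that is, one over which every monic polynomial is a product of linear factors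
`X - b`. (Only the existence of such an extension is stated, not the finer structure of the
construction.) -/
theorem result (A : Type u) [CommRing A] :
    ∃ (B : Type u) (_ : CommRing B) (_ : Algebra A B), Function.Injective (algebraMap A B) ∧
      ∀ f : B[X], f.Monic → ∃ s : Multiset B, f = (s.map fun b => X - C b).prod := by
  exact exists_aic A

end Groth.Agent.S12077
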