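import Groth.Statements.S12078
import Mathlib

set_option autoImplicit false
universe u
open CAlg

namespace Groth.Agent.S12078

/-- An elementary divisor domain is Bézout. Here `R` is a domain such that for all `n, m ≥ 1` and every
`n × m` matrix `A` there are invertible matrices `U` (`n × n`) and `V` (`m × m`) with `U * A * V`
zero off the diagonal and with diagonal entries `f 0 ∣ f 1 ∣ f 2 ∣ …`; the conclusion is that every
finitely generated ideal of `R` is principal. -/
theorem result (R : Type u) [CommRing R] [IsDomain R]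
    (hR : ∀ n m : ℕ, 1 ≤ n → 1 ≤ m → ∀ A : Matrix (Fin n) (Fin m) R,
      ∃ (U : (Matrix (Fin n) (Fin n) R)ˣ) (V : (Matrix (Fin m) (Fin m) R)ˣ) (f : ℕ → R),
        (∀ k : ℕ, f k ∣ f (k + 1)) ∧
        ∀ (i : Fin n) (j : Fin m), ((U : Matrix (Fin n) (Fin n) R) * A * (V : Matrix (Fin m) (Fin m) R)) i j =
          if (i : ℕ) = (j : ℕ) then f i else 0) :
    IsBezout R := by
  rw [IsBezout.iff_span_pair_isPrincipal]
  intro x y
  obtain ⟨U, V, f, -, h⟩ := hR 1 2 le_rfl (by norm_num) (!![x, y] : Matrix (Fin 1) (Fin 2) R)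
  set W : Matrix (Fin 1) (Fin 1) R := ↑(U⁻¹) with hW
  set V' : Matrix (Fin 2) (Fin 2) R := ↑(V⁻¹) with hV'
  set D := (U : Matrix (Fin 1) (Fin 1) R) * (!![x, y] : Matrix (Fin 1) (Fin 2) R) * (V : Matrix (Fin 2) (Fin 2) R) with hD
  have h00 : D 0 0 = f 0 := by simpa using h 0 0
  have h01 : D 0 1 = 0 := by simpa using h 0 1
  have hA : (!![x, y] : Matrix (Fin 1) (Fin 2) R) = W * D * V' := by
    rw [hW, hV', hD, Matrix.mul_assoc (U : Matrix (Fin 1) (Fin 1) R), ← Matrix.mul_assoc, Units.inv_mul,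
      Matrix.one_mul, Matrix.mul_assoc, Units.mul_inv, Matrix.mul_one]
  refine ⟨⟨f 0, le_antisymm ?_ ?_⟩⟩
  · rw [Ideal.span_le]
    rintro z (rfl | rfl)
    · have := congrFun (congrFun hA 0) 0
      simp [Matrix.mul_apply, Fin.sum_univ_two, h00, h01] at this
      exact Ideal.mem_span_singleton.2 ⟨W 0 0 * V' 0 0, by rw [this]; ring⟩
    · have := congrFun (congrFun hA 0) 1
      simp [Matrix.mul_apply, Fin.sum_univ_two, h00, h01] at this
      exact Ideal.mem_span_singleton.2 ⟨W 0 0 * V' 0 1, by rw [this]; ring⟩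
  · rw [Submodule.span_singleton_le_iff_mem, ← h00]
    simp only [hD, Matrix.mul_apply, Fin.sum_univ_two, Fin.sum_univ_one]
    exact Ideal.add_mem _ (Ideal.mul_mem_right _ _ (Ideal.mul_mem_left _ _ (Ideal.subset_span (by simp))))
      (Ideal.mul_mem_right _ _ (Ideal.mul_mem_left _ _ (Ideal.subset_span (by simp))))

end Groth.Agent.S12078
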