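import Groth.Statements.S12079
import Mathlib

set_option autoImplicit false
universe u
open TensorProduct
open CAlg

namespace Groth.Agent.S12079

/-- For a finitely presented `R`-module `M`, any `R`-module `N` and a flat `R`-module `L`, the canonical
map `Hom_R(M, N) ⊗_R L → Hom_R(M, N ⊗_R L)` sending `f ⊗ l` to `m ↦ f m ⊗ l` is bijective. -/
theorem result (R : Type u) [CommRing R]
    (M N L : Type u) [AddCommGroup M] [Module R M] [AddCommGroup N] [Module R N] [AddCommGroup L] [Module R L]
    [Module.FinitePresentation R M] [Module.Flat R L] :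
    Function.Bijective (TensorProduct.rTensorHomToHomRTensor (RingHom.id R) M N L) := by
  obtain ⟨n, m, f, g, hf, hfg⟩ := Module.FinitePresentation.exists_fin' (R := R) (M := M)
  let Φ : ∀ (X : Type u) [AddCommGroup X] [Module R X], (X →ₗ[R] N) ⊗[R] L →ₗ[R] (X →ₗ[R] N ⊗[R] L) :=
    fun X _ _ => TensorProduct.rTensorHomToHomRTensor (RingHom.id R) X N L
  have hfree : ∀ k, Function.Bijective (Φ (Fin k → R)) := fun k => by
    have := (rTensorHomEquivHomRTensor R (Fin k → R) N L).bijective
    rw [← LinearEquiv.coe_toLinearMap, rTensorHomEquivHomRTensor_toLinearMap] at this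
    exact this
  have nat : ∀ (X Y : Type u) [AddCommGroup X] [Module R X] [AddCommGroup Y] [Module R Y] (h : X →ₗ[R] Y)
      (t : (Y →ₗ[R] N) ⊗[R] L), Φ X ((LinearMap.lcomp R N h).rTensor L t) = (Φ Y t).comp h := by
    intro X Y _ _ _ _ h t
    induction t using TensorProduct.induction_on with
    | zero => simp
    | tmul a l => ext x; simp [Φ]
    | add a b ha hb => simp only [map_add, ha, hb, LinearMap.add_comp]
  have e1 : Function.Exact (LinearMap.lcomp R N f) (LinearMap.lcomp R N g) := by
    intro φ
    constructor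
    · intro h
      refine ⟨(LinearMap.range g).liftQ φ (LinearMap.range_le_ker_iff.2 h) ∘ₗ (hfg.linearEquivOfSurjective hf).symm.toLinearMap, ?_⟩
      refine LinearMap.ext fun x => ?_
      simp only [LinearMap.lcomp_apply, LinearMap.comp_apply, LinearEquiv.coe_coe]
      rw [show (hfg.linearEquivOfSurjective hf).symm (f x) = Submodule.Quotient.mk x from
        (LinearEquiv.symm_apply_eq _).2 rfl]
      rfl
    · rintro ⟨ψ, rfl⟩
      refine LinearMap.ext fun x => ?_
      simp [hfg.apply_apply_eq_zero]
  have e0 : Function.Injective (LinearMap.lcomp R N f) := fun a b h => LinearMap.ext fun x => by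
    obtain ⟨y, rfl⟩ := hf x; exact LinearMap.congr_fun h y
  refine ⟨(injective_iff_map_eq_zero _).2 fun t ht => ?_, fun ψ => ?_⟩
  · apply Module.Flat.rTensor_preserves_injective_linearMap (M := L) _ e0
    rw [map_zero]
    apply (hfree n).1
    rw [nat, map_zero]
    show (TensorProduct.rTensorHomToHomRTensor (RingHom.id R) M N L t).comp f = 0
    rw [ht, LinearMap.zero_comp]
  · obtain ⟨s, hs⟩ := (hfree n).2 (ψ.comp f)
    have h0 : (LinearMap.lcomp R N g).rTensor L s = 0 := by
      apply (hfree m).1
      rw [nat, hs, map_zero]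
      refine LinearMap.ext fun x => ?_
      simp [hfg.apply_apply_eq_zero]
    obtain ⟨t, rfl⟩ := (Module.Flat.rTensor_exact L e1 s).1 h0
    refine ⟨t, LinearMap.ext fun x => ?_⟩
    obtain ⟨y, rfl⟩ := hf x
    rw [nat] at hs
    exact LinearMap.congr_fun hs y

end Groth.Agent.S12079
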