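import Groth.Statements.S12081
import Groth.Agent.EtaleAlgebra.Milnor

set_option autoImplicit false
universe u
open TensorProduct
open EtAlg

namespace Groth.Agent.S12081

/-- Let `B' = B ×_A A'` be a fibre square of rings with `A' → A` surjective with kernel `I`, let `J =
Ker(B' → B)`, let `D'` be a `B'`-algebra and `C' = D' ⊗_{B'} A'`. Then the ideal `I C'` is, as a
subset of `C'`, the image of the ideal `J D'` under `D' → C'`; that is, the map `J D' → I C'` is
surjective. -/
theorem result (B' B A' A : Type u) [CommRing B'] [CommRing B] [CommRing A'] [CommRing A]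
    [Algebra B' B] [Algebra B' A'] [Algebra B A] [Algebra A' A] [Algebra B' A] [IsScalarTower B' B A] [IsScalarTower B' A' A]
    (hsq : EtMil.IsFibreSquare B' B A' A)
    (D' C' : Type u) [CommRing D'] [CommRing C'] [Algebra B' D'] [Algebra A' C']
    [Algebra D' C'] [Algebra B' C'] [IsScalarTower B' A' C'] [IsScalarTower B' D' C'] [Algebra.IsPushout B' A' D' C'] :
    (algebraMap D' C') '' ((RingHom.ker (algebraMap B' B)).map (algebraMap B' D') : Set D') =
      ((RingHom.ker (algebraMap A' A)).map (algebraMap A' C') : Set C') := by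
  have hmul : ∀ j, algebraMap B' B j = 0 → ∀ c : C', ∃ x ∈ (RingHom.ker (algebraMap B' B)).map (algebraMap B' D'),
      algebraMap D' C' x = algebraMap A' C' (algebraMap B' A' j) * c := by
    intro j hj c
    induction c using (Algebra.IsPushout.symm ‹Algebra.IsPushout B' A' D' C'›).out.inductionOn with
    | zero => exact ⟨0, Ideal.zero_mem _, by simp⟩
    | tmul a =>
      obtain ⟨k, hk1, hk2⟩ := Groth.EtaleAlgebra.Milnor.exists_ker_lift hsq
        (a' := algebraMap B' A' j * a) (by rw [map_mul, Groth.EtaleAlgebra.Milnor.map_ker hsq hj, zero_mul])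
      refine ⟨algebraMap B' D' k, Ideal.mem_map_of_mem _ hk1, ?_⟩
      rw [← IsScalarTower.algebraMap_apply, IsScalarTower.algebraMap_apply B' A' C', hk2, map_mul]
      rfl
    | smul s n ih =>
      obtain ⟨x, hx, hxn⟩ := ih
      exact ⟨s * x, Ideal.mul_mem_left _ _ hx, by rw [map_mul, hxn, Algebra.smul_def, mul_left_comm]⟩
    | add a b iha ihb =>
      obtain ⟨x, hx, hxa⟩ := iha
      obtain ⟨y, hy, hyb⟩ := ihb
      exact ⟨x + y, Ideal.add_mem _ hx hy, by rw [map_add, hxa, hyb, mul_add]⟩
  apply Set.Subset.antisymm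
  · rintro _ ⟨x, hx, rfl⟩
    have hle : (RingHom.ker (algebraMap B' B)).map (algebraMap B' D') ≤
        Ideal.comap (algebraMap D' C') ((RingHom.ker (algebraMap A' A)).map (algebraMap A' C')) := by
      rw [Ideal.map_le_iff_le_comap]
      intro j hj
      show algebraMap D' C' (algebraMap B' D' j) ∈ (RingHom.ker (algebraMap A' A)).map (algebraMap A' C')
      rw [← IsScalarTower.algebraMap_apply, IsScalarTower.algebraMap_apply B' A' C']
      exact Ideal.mem_map_of_mem _ (Groth.EtaleAlgebra.Milnor.map_ker hsq hj)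
    exact hle hx
  · intro c (hc : c ∈ (RingHom.ker (algebraMap A' A)).map (algebraMap A' C'))
    suffices ∀ r : C', r * c ∈ (algebraMap D' C') '' ((RingHom.ker (algebraMap B' B)).map (algebraMap B' D') : Set D') by
      simpa using this 1
    induction hc using Submodule.span_induction with
    | mem x hx =>
      obtain ⟨a, ha, rfl⟩ := hx
      obtain ⟨j, hj1, rfl⟩ := Groth.EtaleAlgebra.Milnor.exists_ker_lift hsq ha
      intro r
      obtain ⟨x, hx, hxe⟩ := hmul j hj1 r
      exact ⟨x, hx, by rw [hxe, mul_comm]⟩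
    | zero => exact fun r => ⟨0, Ideal.zero_mem _, by simp⟩
    | add a b _ _ iha ihb =>
      intro r
      obtain ⟨x, hx, hxa⟩ := iha r
      obtain ⟨y, hy, hyb⟩ := ihb r
      exact ⟨x + y, Ideal.add_mem _ hx hy, by rw [map_add, hxa, hyb, mul_add]⟩
    | smul s a _ iha =>
      intro r
      obtain ⟨x, hx, hxe⟩ := iha (r * s)
      exact ⟨x, hx, by rw [hxe, smul_eq_mul, mul_assoc]⟩

end Groth.Agent.S12081
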