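import Groth.Statements.S12082
import Groth.Agent.Calg6.CMSop
import Groth.Agent.LocCohBase.Depth
import Mathlib.RingTheory.RegularLocalRing.Polynomial

set_option autoImplicit false
set_option linter.style.haveILetI false
universe u
open Synt

namespace Groth.Agent.S12082

/-- Let `S = k[x_1, …, x_n]/I` over a field `k`, `q` a prime of `S` with preimage `q'` in the polynomial
ring, `c` the natural number with `c + ht(q) = ht(q')`, and `J` the extension of `I` to the local
ring `R = k[x_1, …, x_n]_{q'}`. Any `c` elements of `J` whose images generate `J / q' J` form a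
regular sequence in `R`. -/
theorem result (k : Type u) [Field k] (n : ℕ)
    (I : Ideal (MvPolynomial (Fin n) k)) (q : Ideal (MvPolynomial (Fin n) k ⧸ I)) [q.IsPrime] (c : ℕ)
    (hc : (c : ℕ∞) + q.height = (q.comap (Ideal.Quotient.mk I)).height)
    (f : Fin c → Localization.AtPrime (q.comap (Ideal.Quotient.mk I)))
    (hf : ∀ i, f i ∈ I.map (algebraMap _ (Localization.AtPrime (q.comap (Ideal.Quotient.mk I)))))
    (hgen : Ideal.span (Set.range f) ⊔
        IsLocalRing.maximalIdeal (Localization.AtPrime (q.comap (Ideal.Quotient.mk I))) *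
          I.map (algebraMap _ (Localization.AtPrime (q.comap (Ideal.Quotient.mk I)))) =
      I.map (algebraMap _ (Localization.AtPrime (q.comap (Ideal.Quotient.mk I))))) :
    RingTheory.Sequence.IsRegular (Localization.AtPrime (q.comap (Ideal.Quotient.mk I))) (List.ofFn f) := by
  haveI : IsRegularLocalRing (Localization.AtPrime (q.comap (Ideal.Quotient.mk I))) := inferInstance
  have hIq : I ≤ (q.comap (Ideal.Quotient.mk I)) := fun x hx => by
    rw [Ideal.mem_comap, Ideal.Quotient.eq_zero_iff_mem.2 hx]; exact q.zero_mem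
  have hJm : (I.map (algebraMap (MvPolynomial (Fin n) k) (Localization.AtPrime (q.comap (Ideal.Quotient.mk I))))) ≤ IsLocalRing.maximalIdeal (Localization.AtPrime (q.comap (Ideal.Quotient.mk I))) := by
    rw [← Localization.AtPrime.map_eq_maximalIdeal]
    exact Ideal.map_mono hIq
  -- Nakayama
  have hspan : Ideal.span (Set.range f) = (I.map (algebraMap (MvPolynomial (Fin n) k) (Localization.AtPrime (q.comap (Ideal.Quotient.mk I))))) := by
    refine le_antisymm (Ideal.span_le.2 (Set.range_subset_iff.2 hf)) ?_
    refine Submodule.le_of_le_smul_of_le_jacobson_bot (I := IsLocalRing.maximalIdeal (Localization.AtPrime (q.comap (Ideal.Quotient.mk I)))) (IsNoetherian.noetherian (I.map (algebraMap (MvPolynomial (Fin n) k) (Localization.AtPrime (q.comap (Ideal.Quotient.mk I))))))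
      (by rw [IsLocalRing.jacobson_eq_maximalIdeal ⊥ bot_ne_top]) ?_
    rw [smul_eq_mul]
    exact hgen.ge
  -- the local ring of S at q
  let φ : (Localization.AtPrime (q.comap (Ideal.Quotient.mk I))) →+* Localization.AtPrime q := Localization.localRingHom (q.comap (Ideal.Quotient.mk I)) q (Ideal.Quotient.mk I) rfl
  have hT : Submonoid.map (Ideal.Quotient.mk I) (q.comap (Ideal.Quotient.mk I)).primeCompl = q.primeCompl := by
    ext s
    obtain ⟨x, rfl⟩ := Ideal.Quotient.mk_surjective s
    constructor
    · rintro ⟨y, hy, hxy⟩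
      rw [← hxy]
      exact hy
    · intro hx
      exact ⟨x, hx, rfl⟩
  have hker : RingHom.ker φ = (I.map (algebraMap (MvPolynomial (Fin n) k) (Localization.AtPrime (q.comap (Ideal.Quotient.mk I))))) := by
    refine (IsLocalization.ker_map (S := (Localization.AtPrime (q.comap (Ideal.Quotient.mk I)))) (Localization.AtPrime q) (Ideal.Quotient.mk I) hT).trans ?_
    rw [Ideal.mk_ker]
  have hsurj : Function.Surjective φ := by
    intro z
    obtain ⟨a, ⟨b, hb⟩, rfl⟩ := IsLocalization.exists_mk'_eq q.primeCompl z
    obtain ⟨a, rfl⟩ := Ideal.Quotient.mk_surjective a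
    obtain ⟨b, rfl⟩ := Ideal.Quotient.mk_surjective b
    exact ⟨IsLocalization.mk' (Localization.AtPrime (q.comap (Ideal.Quotient.mk I))) a (⟨b, hb⟩ : (q.comap (Ideal.Quotient.mk I)).primeCompl), Localization.localRingHom_mk' _ _ _ rfl a _⟩
  have hdim : ringKrullDim ((Localization.AtPrime (q.comap (Ideal.Quotient.mk I))) ⧸ (I.map (algebraMap (MvPolynomial (Fin n) k) (Localization.AtPrime (q.comap (Ideal.Quotient.mk I)))))) = q.height := by
    rw [← hker, ringKrullDim_eq_of_ringEquiv (RingHom.quotientKerEquivOfSurjective hsurj)]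
    exact IsLocalization.AtPrime.ringKrullDim_eq_height q (Localization.AtPrime q)
  have hmem : ∀ x ∈ List.ofFn f, x ∈ IsLocalRing.maximalIdeal (Localization.AtPrime (q.comap (Ideal.Quotient.mk I))) := by
    intro x hx
    obtain ⟨i, rfl⟩ := List.mem_ofFn.1 hx
    exact hJm (hf i)
  have hofList : Ideal.ofList (List.ofFn f) = (I.map (algebraMap (MvPolynomial (Fin n) k) (Localization.AtPrime (q.comap (Ideal.Quotient.mk I))))) := by
    rw [← hspan, Ideal.ofList]
    congr 1
    ext x
    simp
  refine Groth.LocCohBase.isRegular_of_isWeaklyRegular_of_mem (I := IsLocalRing.maximalIdeal (Localization.AtPrime (q.comap (Ideal.Quotient.mk I)))) ?_ ?_ hmem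
  · rw [smul_eq_mul, Ideal.mul_top]
    exact (IsLocalRing.maximalIdeal.isMaximal (Localization.AtPrime (q.comap (Ideal.Quotient.mk I)))).ne_top
  refine Groth.Calg6.isWeaklyRegular_of_supportDim_add_length_le (List.ofFn f) (Localization.AtPrime (q.comap (Ideal.Quotient.mk I)))
    (Groth.Calg6.isCohenMacaulayModule_of_isRegularLocalRing (Localization.AtPrime (q.comap (Ideal.Quotient.mk I)))) hmem ?_
  rw [List.length_ofFn, hofList, smul_eq_mul, Ideal.mul_top, Module.supportDim_quotient_eq_ringKrullDim,
    Module.supportDim_self_eq_ringKrullDim, hdim, IsLocalization.AtPrime.ringKrullDim_eq_height (q.comap (Ideal.Quotient.mk I)) (Localization.AtPrime (q.comap (Ideal.Quotient.mk I)))]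
  refine le_of_eq ?_
  rw [← hc, add_comm]
  rfl

end Groth.Agent.S12082
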