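import Groth.Statements.S12085
import Mathlib
import Groth.Agent.Calg5.UnramPoly

set_option autoImplicit false
universe u
open TensorProduct
open CAlg

namespace Groth.Agent.S12085

open TensorProduct in
private theorem nonempty_equiv {R₀ R S T : Type u} [CommRing R₀] [CommRing R] [CommRing S] [CommRing T]
    [Algebra R₀ R] [Algebra R S] [Algebra R₀ T] {n : ℕ} {ι : Type*} (φ : MvPolynomial (Fin n) R →ₐ[R] S)
    (hφ : Function.Surjective φ) (π : MvPolynomial (Fin n) R₀ →ₐ[R₀] T) (hπ : Function.Surjective π)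
    (G : ι → MvPolynomial (Fin n) R₀) (hπG : RingHom.ker π = Ideal.span (Set.range G))
    (hφG : RingHom.ker φ = Ideal.span (Set.range fun j => MvPolynomial.map (algebraMap R₀ R) (G j))) :
    Nonempty (R ⊗[R₀] T ≃ₐ[R] S) := by
  let : Algebra R₀ S := ((algebraMap R S).comp (algebraMap R₀ R)).toAlgebra
  have : IsScalarTower R₀ R S := IsScalarTower.of_algebraMap_eq fun _ => rfl
  let ev : MvPolynomial (Fin n) R₀ →ₐ[R₀] S := MvPolynomial.aeval fun i => φ (MvPolynomial.X i)
  have hφx : MvPolynomial.aeval (fun i => φ (MvPolynomial.X i)) = φ :=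
    MvPolynomial.algHom_ext fun i => by simp
  have hev : ∀ q, ev q = φ (MvPolynomial.map (algebraMap R₀ R) q) := fun q => by
    show MvPolynomial.aeval _ q = _
    rw [← MvPolynomial.aeval_map_algebraMap R (fun i => φ (MvPolynomial.X i)) q, hφx]
  have hker : RingHom.ker π ≤ RingHom.ker ev := by
    rw [hπG, Ideal.span_le]
    rintro _ ⟨j, rfl⟩
    show ev (G j) = 0
    rw [hev]
    exact RingHom.mem_ker.1 (hφG.ge (Ideal.subset_span ⟨j, rfl⟩))
  let ψ₀ : T →ₐ[R₀] S := AlgHom.liftOfSurjective π hπ ev hker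
  have hψ₀ : ∀ q, ψ₀ (π q) = ev q := fun q => AlgHom.liftOfSurjective_apply π hπ ev hker q
  let ψ : R ⊗[R₀] T →ₐ[R] S := Algebra.TensorProduct.lift (Algebra.ofId R S) ψ₀ fun _ _ => Commute.all _ _
  let χ₀ : MvPolynomial (Fin n) R →ₐ[R] R ⊗[R₀] T :=
    MvPolynomial.aeval fun i => (1 : R) ⊗ₜ[R₀] π (MvPolynomial.X i)
  have hχ₀ : ∀ q, χ₀ (MvPolynomial.map (algebraMap R₀ R) q) = (1 : R) ⊗ₜ[R₀] π q := fun q => by
    have h : MvPolynomial.aeval (fun i => (1 : R) ⊗ₜ[R₀] π (MvPolynomial.X i)) =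
        (Algebra.TensorProduct.includeRight : T →ₐ[R₀] R ⊗[R₀] T).comp π :=
      MvPolynomial.algHom_ext fun i => by simp
    show MvPolynomial.aeval _ _ = _
    rw [MvPolynomial.aeval_map_algebraMap]
    exact AlgHom.congr_fun h q
  have hker' : RingHom.ker φ ≤ RingHom.ker χ₀ := by
    rw [hφG, Ideal.span_le]
    rintro _ ⟨j, rfl⟩
    show χ₀ _ = 0
    rw [hχ₀, RingHom.mem_ker.1 (hπG.ge (Ideal.subset_span ⟨j, rfl⟩)), TensorProduct.tmul_zero]
  let χ : S →ₐ[R] R ⊗[R₀] T := AlgHom.liftOfSurjective φ hφ χ₀ hker'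
  have hχ : ∀ q, χ (φ q) = χ₀ q := fun q => AlgHom.liftOfSurjective_apply φ hφ χ₀ hker' q
  refine ⟨AlgEquiv.ofAlgHom ψ χ ?_ ?_⟩
  · refine AlgHom.ext fun s => ?_
    obtain ⟨q, rfl⟩ := hφ s
    show ψ (χ (φ q)) = φ q
    rw [hχ]
    refine AlgHom.congr_fun (MvPolynomial.algHom_ext (f := ψ.comp χ₀) (g := φ) fun i => ?_) q
    simp [ψ, χ₀, hψ₀, ev]
  · refine Algebra.TensorProduct.ext (AlgHom.ext fun r => ?_) (AlgHom.ext fun t => ?_)
    · exact ((χ.comp ψ).comp Algebra.TensorProduct.includeLeft).commutes r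
    · obtain ⟨q, rfl⟩ := hπ t
      simp [ψ, hψ₀, hev, hχ, hχ₀]

private theorem formallyUnramified_of_system {R₀ R T : Type u} [CommRing R₀] [CommRing R] [CommRing T]
    [Algebra R₀ R] [Algebra R₀ T] (hinj : Function.Injective (algebraMap R₀ R)) {n : ℕ}
    (f : Fin n → MvPolynomial (Fin n) R) (Gf : Fin n → MvPolynomial (Fin n) R₀)
    (Gd : Fin n × Fin n → MvPolynomial (Fin n) R₀)
    (hGf : ∀ i, MvPolynomial.map (algebraMap R₀ R) (Gf i) = f i)
    (hGd : ∀ p, MvPolynomial.map (algebraMap R₀ R) (Gd p) =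
      MvPolynomial.pderiv p.2 (f p.1) - if p.1 = p.2 then 1 else 0)
    (π : MvPolynomial (Fin n) R₀ →ₐ[R₀] T) (hπ : Function.Surjective π)
    (h₁ : ∀ i, π (Gf i) = 0) (h₂ : ∀ p, π (Gd p) = 0) : Algebra.FormallyUnramified R₀ T := by
  refine Groth.Calg5.formallyUnramified_of_jacobian π hπ Gf h₁ fun i l => ?_
  have e : Gd (i, l) = MvPolynomial.pderiv l (Gf i) - if i = l then 1 else 0 := by
    refine MvPolynomial.map_injective (algebraMap R₀ R) hinj ?_
    rw [map_sub, hGd, ← MvPolynomial.pderiv_map, hGf]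
    split_ifs <;> simp
  have := h₂ (i, l)
  rw [e, map_sub, sub_eq_zero] at this
  rw [this]
  split_ifs <;> simp

/-- If `R → S` is G-unramified (of finite presentation and formally unramified), then there are a finite
type `ℤ`-algebra `R₀`, a ring map `R₀ → R` and a G-unramified ring map `R₀ → S₀` such that `S ≅ R
⊗_{R₀} S₀` as `R`-algebras (existence of an isomorphism). -/
theorem result (R : Type u) [CommRing R] (S : Type u) [CommRing S]
    [Algebra R S] [Algebra.FinitePresentation R S] [Algebra.FormallyUnramified R S] :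
    ∃ (R₀ : Type u) (_ : CommRing R₀) (_ : Algebra.FiniteType ℤ R₀) (S₀ : Type u) (_ : CommRing S₀)
      (_ : Algebra R₀ S₀) (_ : Algebra.FinitePresentation R₀ S₀) (_ : Algebra.FormallyUnramified R₀ S₀)
      (_ : Algebra R₀ R), Nonempty (R ⊗[R₀] S₀ ≃ₐ[R] S) := by
  classical
  have : Algebra.FiniteType R S := inferInstance
  have : Algebra.Unramified R S := ⟨inferInstance, inferInstance⟩
  obtain ⟨n, φ, hφ⟩ := Algebra.FiniteType.iff_quotient_mvPolynomial''.mp
    (inferInstance : Algebra.FiniteType R S)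
  let _ : Algebra (MvPolynomial (Fin n) R) S := φ.toRingHom.toAlgebra
  have : IsScalarTower R (MvPolynomial (Fin n) R) S := .of_algebraMap_eq fun x => (φ.commutes x).symm
  have hex := KaehlerDifferential.exact_kerCotangentToTensor_mapBaseChange R (MvPolynomial (Fin n) R) S hφ
  let b := (KaehlerDifferential.mvPolynomialBasis R (Fin n)).baseChange S
  have hf : ∀ i : Fin n, ∃ f : (MvPolynomial (Fin n) R), φ f = 0 ∧
      ∀ l, φ (MvPolynomial.pderiv l f) = if i = l then 1 else 0 := by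
    intro i
    obtain ⟨y, hy⟩ := (hex ((1 : S) ⊗ₜ[(MvPolynomial (Fin n) R)] KaehlerDifferential.D R (MvPolynomial (Fin n) R) (MvPolynomial.X i))).mp
      (Subsingleton.elim _ _)
    obtain ⟨f, rfl⟩ := Ideal.toCotangent_surjective _ y
    rw [KaehlerDifferential.kerCotangentToTensor_toCotangent] at hy
    refine ⟨f.1, f.2, fun l => ?_⟩
    have h := congrArg (fun z => b.repr z l) hy
    simp only [b, Module.Basis.baseChange_repr_tmul, Algebra.smul_def, mul_one] at h
    rw [KaehlerDifferential.mvPolynomialBasis_repr_apply,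
      KaehlerDifferential.mvPolynomialBasis_repr_apply, MvPolynomial.pderiv_X, Pi.single_apply] at h
    refine h.trans ?_
    rw [apply_ite (algebraMap (MvPolynomial (Fin n) R) S)]
    simp only [map_one, map_zero, eq_comm]
  choose f hf0 hfd using hf
  obtain ⟨m, gen, hgen⟩ := Submodule.fg_iff_exists_fin_generating_family.1
    (Algebra.FinitePresentation.ker_fg_of_mvPolynomial φ hφ)
  let F : (Fin n ⊕ (Fin n × Fin n)) ⊕ Fin m → (MvPolynomial (Fin n) R) := Sum.elim (Sum.elim f
    fun p => MvPolynomial.pderiv p.2 (f p.1) - if p.1 = p.2 then 1 else 0) gen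
  have hgen0 : ∀ r, φ (gen r) = 0 := fun r => RingHom.mem_ker.1 (hgen.le (Submodule.subset_span ⟨r, rfl⟩))
  have hF : ∀ j, φ (F j) = 0 := by
    rintro ((i | p) | r)
    · exact hf0 i
    · simp only [F, Sum.elim_inl, Sum.elim_inr, map_sub, hfd, apply_ite φ, map_one, map_zero, sub_self]
    · exact hgen0 r
  let coeffsF : Finset R := Finset.univ.biUnion fun j => MvPolynomial.coeffs (F j)
  let R₀ : Subalgebra ℤ R := Algebra.adjoin ℤ (coeffsF : Set R)
  have : Algebra.FiniteType ℤ R₀ := (Subalgebra.fg_iff_finiteType R₀).mp ⟨coeffsF, rfl⟩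
  have hmap : ∀ j, ∃ G : MvPolynomial (Fin n) R₀, MvPolynomial.map (algebraMap R₀ R) G = F j := by
    intro j
    refine MvPolynomial.mem_range_map_iff_coeffs_subset.mpr fun c hc => ?_
    exact ⟨⟨c, Algebra.subset_adjoin
      (Finset.mem_biUnion.mpr ⟨j, Finset.mem_univ j, hc⟩)⟩, rfl⟩
  choose G hG using hmap
  let S₀ := MvPolynomial (Fin n) R₀ ⧸ Ideal.span (Set.range G)
  let π : MvPolynomial (Fin n) R₀ →ₐ[R₀] S₀ := Ideal.Quotient.mkₐ R₀ _
  have hπ : Function.Surjective π := Ideal.Quotient.mk_surjective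
  have hπG : ∀ j, π (G j) = 0 := fun j =>
    Ideal.Quotient.eq_zero_iff_mem.mpr (Ideal.subset_span ⟨j, rfl⟩)
  have hfp : Algebra.FinitePresentation R₀ S₀ :=
    Algebra.FinitePresentation.quotient (Submodule.fg_span (Set.finite_range G))
  have hker : RingHom.ker φ = Ideal.span (Set.range fun j => MvPolynomial.map (algebraMap R₀ R) (G j)) := by
    simp only [hG]
    refine le_antisymm ?_ (Ideal.span_le.2 (by rintro _ ⟨j, rfl⟩; exact hF j))
    intro a ha
    refine Ideal.span_mono ?_ (hgen.ge ha)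
    rintro _ ⟨r, rfl⟩
    exact ⟨Sum.inr r, rfl⟩
  exact ⟨R₀, inferInstance, inferInstance, S₀, inferInstance, inferInstance, hfp,
    formallyUnramified_of_system Subtype.val_injective f (fun i => G (Sum.inl (Sum.inl i)))
      (fun p => G (Sum.inl (Sum.inr p))) (fun i => hG _) (fun p => hG _) π hπ (fun i => hπG _) (fun p => hπG _),
    inferInstance, nonempty_equiv φ hφ π hπ G (Ideal.Quotient.mkₐ_ker R₀ _) hker⟩

end Groth.Agent.S12085
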