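import Groth.Statements.S12087
import Groth.Agent.DerivedCoh.PerfFP.Main
import Groth.Agent.DerivedCoh.Fibre.Concentrated
import Groth.Agent.DerivedCoh.TildeD.Iff
import Groth.Agent.Misc4.QCohTildeD
import Groth.Agent.FunMorFP.LeftExact
import Groth.Agent.CohBase.FlatBC.AffineBase
import Groth.Agent.Calg1.DualSchLocal

set_option autoImplicit false
set_option linter.style.haveILetI false
universe u
open CategoryTheory CategoryTheory.Limits AlgebraicGeometry
open Perf

attribute [local instance] HasDerivedCategory.standard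

namespace Groth.Agent.S12087

/-- cohomology of a bounded complex of finite projective modules over a coherent ring -/
theorem fp_homology (R : Type u) [CommRing R]
    (hR : ∀ I : Ideal R, I.FG → Module.FinitePresentation R I)
    {M : Dual.D R} (hM : DRing.IsPerfect R M) (i : ℤ) :
    Module.FinitePresentation R ((DerivedCategory.homologyFunctor (ModuleCat.{u} R) i).obj M) := by
  obtain ⟨E, a, b, -, hP, ⟨e⟩⟩ := hM
  haveI hfp : ∀ n, Module.FinitePresentation R (E.X n) := fun n =>
    haveI := (hP n).1
    haveI := (hP n).2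
    Module.finitePresentation_of_projective R (E.X n)
  suffices h : Module.FinitePresentation R
      ↑((HomologicalComplex.homologyFunctor (ModuleCat.{u} R) (ComplexShape.up ℤ) i).obj E) from
    Module.FinitePresentation.of_equiv (R := R) (N := (DerivedCategory.homologyFunctor (ModuleCat.{u} R) i).obj M)
      (((DerivedCategory.homologyFunctorFactors (ModuleCat.{u} R) i).app E).symm ≪≫
        (DerivedCategory.homologyFunctor (ModuleCat.{u} R) i).mapIso e).toLinearEquiv
  let S := E.sc i
  haveI : Module.FinitePresentation R S.X₁ := hfp _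
  haveI : Module.FinitePresentation R S.X₂ := hfp _
  haveI : Module.FinitePresentation R S.X₃ := hfp _
  haveI := Groth.FunMorFP.finitePresentation_ker hR S.g.hom
  have hq : Module.FinitePresentation R (LinearMap.ker S.g.hom ⧸ LinearMap.range S.moduleCatToCycles) :=
    Module.finitePresentation_of_surjective _ (Submodule.mkQ_surjective _) (by
      rw [Submodule.ker_mkQ]
      exact Module.Finite.iff_fg.1 inferInstance)
  haveI : Module.FinitePresentation R S.moduleCatLeftHomologyData.H := hq
  exact Module.FinitePresentation.of_equiv (R := R) (N := S.homology) S.moduleCatHomologyIso.toLinearEquiv.symm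

/-- `O ⊗ᴸ G = G` -/
theorem nonempty_ltm_structure {X : Scheme.{u}} (G : X.Modules) [DCoh.HasLTensorMod G] :
    Nonempty ((DCoh.LTensorMod G).obj (DCoh.inD X (Coh.structureModule X)) ≅ DCoh.inD X G) := by
  let C := (HomologicalComplex.single X.Modules (ComplexShape.up ℤ) 0).obj (Coh.structureModule X)
  let s := DerivedCategory.singleFunctorIsoCompQ X.Modules 0
  exact ⟨(DCoh.LTensorMod G).mapIso (s.app _) ≪≫
    Groth.DerivedCoh.KFlat.ltmQIso G C (Groth.DerivedCoh.Fibre.isKFlat_single (Groth.LocFree.isFinLocFree_unit X) 0) ≪≫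
    DerivedCategory.Q.mapIso
      ((HomologicalComplex.singleMapHomologicalComplex ((Groth.DerivedCoh.KFlat.T X).flip.obj G) (ComplexShape.up ℤ) 0).app _ ≪≫
        (HomologicalComplex.single X.Modules (ComplexShape.up ℤ) 0).mapIso (Groth.CohTwo.LocFreeDual.lUnit.app G)) ≪≫
    (s.app _).symm⟩

/-- Let `R` be a coherent ring (every finitely generated ideal is finitely presented), `X` a scheme of
finite presentation over `R` (quasi-compact, quasi-separated, locally of finite presentation over
`Spec R`), and `G` an `O_X`-module of finite presentation that is flat over `R` and whose support is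
proper over `R`. Then each `H^i(X, G)` is a coherent `R`-module, that is (over a coherent ring) a
finitely presented `R`-module. -/
theorem result (R : Type u) [CommRing R]
    (hR : ∀ I : Ideal R, I.FG → Module.FinitePresentation R I)
    (X : Scheme.{u}) [X.Over (Spec (CommRingCat.of R))]
    [QuasiCompact (X ↘ Spec (CommRingCat.of R))] [QuasiSeparated (X ↘ Spec (CommRingCat.of R))]
    [LocallyOfFinitePresentation (X ↘ Spec (CommRingCat.of R))]
    (G : X.Modules) (hG : CohB1.IsFP G) (hflat : FlatMod.IsFlatOver (X ↘ Spec (CommRingCat.of R)) G)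
    (hsupp : ClSub.IsProperOver (X ↘ Spec (CommRingCat.of R)) (CohB1.support G)) (i : ℕ) :
    Module.FinitePresentation R (Coh.HH X G i) := by
  haveI : G.IsQuasicoherent := by
    have := hG
    infer_instance
  let f := X ↘ Spec (CommRingCat.of R)
  haveI : DCoh.HasRpush f := Groth.Misc4.PushRestrict.hasRightDerived _
  haveI := Groth.DerivedCoh.KFlat.hasLTensorMod G
  have hE : DCoh.IsPerfect (DCoh.inD X (Coh.structureModule X)) := by
    refine Groth.KTheory.Perf.isPerfect_of_iso
      ((DerivedCategory.singleFunctorIsoCompQ X.Modules 0).app _).symm (Groth.DerivedCoh.Fibre.isPerfect_toD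
      ⟨⟨0, 0, fun n hn => HomologicalComplex.isZero_single_obj_X _ 0 _ n (by omega)⟩, fun n => ?_⟩)
    by_cases hn : n = 0
    · subst hn
      exact Groth.KTheory.LocFree.isFinLocFree_of_iso
        (HomologicalComplex.singleObjXSelf (ComplexShape.up ℤ) 0 _).symm (Groth.LocFree.isFinLocFree_unit X)
    · exact Groth.KTheory.LocFree.isFinLocFree_zero (HomologicalComplex.isZero_single_obj_X _ 0 _ n hn)
  obtain ⟨eG⟩ := nonempty_ltm_structure G
  have hP : DCoh.IsPerfect ((DCoh.Rpush f).obj (DCoh.inD X G)) :=
    Groth.KTheory.Perf.isPerfect_of_iso ((DCoh.Rpush f).mapIso eG)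
      (Groth.DerivedCoh.PerfFP.isPerfect_Rpush_ltm_fp f _ hE G hG hflat hsupp)
  haveI := Groth.PropsBasic2.preservesFiniteLimits_tilde (CommRingCat.of R)
  obtain ⟨M, ⟨eM⟩⟩ := (Groth.Misc4.QCohTildeD.isQCohD_iff (R := CommRingCat.of R) _).1
    (Groth.Misc4.Thomason.isQCohD_of_isPerfect hP)
  have hM : DRing.IsPerfect R M := (Groth.DerivedCoh.TildeD.isPerfect_tildeD_iff M).1
    (Groth.KTheory.Perf.isPerfect_of_iso eM.symm hP)
  obtain ⟨e1⟩ := Groth.DerivedCoh.PerfPush.nonempty_hd_single f G 0 (i : ℤ) i (zero_add _)
  obtain ⟨e2⟩ := Groth.Calg1.DualSch.nonempty_homology_tildeD (CommRingCat.of R) M (i : ℤ)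
  let N := (DerivedCategory.homologyFunctor (ModuleCat.{u} R) (i : ℤ)).obj M
  haveI : Module.FinitePresentation R N := fp_homology R hR hM i
  let e3 : tilde (R := CommRingCat.of R) N ≅ (Coh.Rpush f i).obj G :=
    e2.symm ≪≫ (DerivedCategory.homologyFunctor _ (i : ℤ)).mapIso eM ≪≫ e1
  obtain ⟨e4, he4⟩ := Groth.CohBase.FlatBC.exists_Rpush_top_equiv R X G i
  let e5 := ((tilde.toTildeΓNatIso (R := CommRingCat.of R)).app N ≪≫
    moduleSpecΓFunctor.mapIso e3).toLinearEquiv
  haveI : Module.FinitePresentation R ↑((𝟭 (ModuleCat ↑(CommRingCat.of R))).obj N) := ‹Module.FinitePresentation R N›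
  refine Module.FinitePresentation.of_equiv (R := R) (N := Coh.HH X G i)
    (e5.trans
      { toFun := e4
        map_add' := map_add e4
        map_smul' := fun a s => ?_
        invFun := e4.symm
        left_inv := e4.symm_apply_apply
        right_inv := e4.apply_symm_apply })
  refine Eq.trans (congrArg e4 ?_) (he4 a s)
  first
  | rfl
  | (refine (Scheme.Modules.smul_Spec_def (M := (Coh.Rpush f i).obj G) (U := ⊤) a s).trans ?_
     refine congrArg (· • (show ↑Γ((Coh.Rpush f i).obj G, ⊤) from s)) ?_
     exact ConcreteCategory.congr_hom ((Spec (CommRingCat.of R)).presheaf.map_id (.op ⊤)) _)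

end Groth.Agent.S12087
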