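import Groth.Statements.S12090
import Groth.Agent.RelPC.FlatBC

set_option autoImplicit false
universe u
open CategoryTheory CategoryTheory.Limits AlgebraicGeometry
attribute [local instance] HasDerivedCategory.standard
open FlatMor

namespace Groth.Agent.S12090

/-- For a flat base change: let `f : X ⟶ S` be locally of finite type, `h : S' ⟶ S` flat, `X' = X ×_S
S'` with projections `g : X' ⟶ X` and `f' : X' ⟶ S'`, `m` an integer and `E` in `D(O_X)` that is
`m`-pseudo-coherent relative to `f` (cover-and-chart form). Then, `Lg^*` being assumed to exist,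
`Lg^* E` is `m`-pseudo-coherent relative to `f'`. (The published statement asks only that `X` and
`S'` be tor independent over `S`; flatness of `h` implies it. No boundedness of `E` is assumed.) -/
theorem result {X S S' : Scheme.{u}} (f : X ⟶ S) [LocallyOfFiniteType f]
    (h : S' ⟶ S) [Flat h] [DCoh.HasLpull (pullback.fst f h)] (m : ℤ) (E : DCoh.D X)
    (hE : DerSch.IsPseudoCoherentRel f m E) :
    DerSch.IsPseudoCoherentRel (pullback.snd f h) m ((DCoh.Lpull (pullback.fst f h)).obj E) := by
  haveI := hE.1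
  haveI : LocallyOfFiniteType (pullback.snd f h) := inferInstance
  refine Groth.RelPC.rel_of_local fun x => ?_
  obtain ⟨V, hV, hxV, -⟩ := exists_isAffineOpen_mem_and_subset
    (show f (pullback.fst f h x) ∈ (⊤ : S.Opens) from trivial)
  obtain ⟨U, hU, hxU, hUV⟩ := exists_isAffineOpen_mem_and_subset (show pullback.fst f h x ∈ f ⁻¹ᵁ V from hxV)
  obtain ⟨V', hV', hxV', hVV⟩ := exists_isAffineOpen_mem_and_subset
    (show pullback.snd f h x ∈ h ⁻¹ᵁ V from by
      show h (pullback.snd f h x) ∈ V
      rw [← Scheme.Hom.comp_apply, ← pullback.condition, Scheme.Hom.comp_apply]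
      exact hxV)
  have sq : IsPullback (pullback.fst f h) (pullback.snd f h) f h := IsPullback.of_hasPullback f h
  have hU' : IsAffineOpen (pullback.fst f h ⁻¹ᵁ U ⊓ pullback.snd f h ⁻¹ᵁ V') :=
    letI : IsAffine _ := hU
    letI : IsAffine _ := hV
    letI : IsAffine _ := hV'
    .of_isIso (Scheme.Hom.isPullback_resLE sq hVV hUV rfl).isoPullback.hom
  exact ⟨pullback.fst f h ⁻¹ᵁ U ⊓ pullback.snd f h ⁻¹ᵁ V', V', ⟨hxU, hxV'⟩, hU', hV', Groth.RelPC.chartOn_Lpull_flat sq hU hV hV' hUV hVV hU' rfl
    (Groth.RelPC.chartOn_of_rel hE hU hV hUV)⟩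

end Groth.Agent.S12090
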