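import Groth.Statements.S12091
-- import your own Groth.Agent.* helpers here

set_option autoImplicit false
universe u
open TensorProduct MvPolynomial
open FlatMor

namespace Groth.Agent.S12091

/-- Let `x_1, …, x_m` generate the `A`-module `M`, let `K ⊆ A^m` be the module of relations, `C =
Sym_A(M)` and `α : A[y_1, …, y_m] → C` the presentation with `y_j ↦ x_j`, with kernel `J`. Then the
`C`-linear map `C ⊗_A K → J/J²` sending `1 ⊗ k` to the class of `Σ_j k_j y_j` is surjective, and it
is bijective when `M` is a projective `A`-module (so that then `J/J² ≅ K ⊗_A C` and the naive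
cotangent complex of `α` is `K ⊗_A C → ⊕_j C dy_j`). (The published statement asserts `J/J² ≅ K ⊗_A
C` for every `M`. For `A = ℤ`, `M = (ℤ/2)²`, `m = 2` and the two unit vectors, `K = 2ℤ²` and the
element `y_2 ⊗ (2, 0) - y_1 ⊗ (0, 2)` of `C ⊗_A K` is non-zero but maps to the class of `y_2 · 2y_1
- y_1 · 2y_2 = 0`; in degree `2` the graded piece of `J/J²` has `8` elements and that of `K ⊗_A C`
has `16`. The published degree-by-degree computation does show that `J` is generated by the linear
forms coming from `K`, which is the surjectivity, and it is valid as written when `0 → K → A^m → M →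
0` splits, which is the projective case.) -/
theorem result (A : Type u) [CommRing A] (M : Type u)
    [AddCommGroup M] [Module A M] (m : ℕ) (x : Fin m → M)
    (hx : Function.Surjective (Fintype.linearCombination A x))
    (G : Algebra.Generators A (SymmetricAlgebra A M) (Fin m))
    (hG : ∀ j, G.val j = SymmetricAlgebra.ι A M (x j)) :
    ∃ e : SymmetricAlgebra A M ⊗[A] (LinearMap.ker (Fintype.linearCombination A x)) →ₗ[SymmetricAlgebra A M]
        G.toExtension.Cotangent,
      (∀ (k : LinearMap.ker (Fintype.linearCombination A x))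
        (hk : (∑ j, C ((k : Fin m → A) j) * X j : MvPolynomial (Fin m) A) ∈ G.toExtension.ker),
        e (1 ⊗ₜ k) = Algebra.Extension.Cotangent.mk ⟨_, hk⟩) ∧
      Function.Surjective e ∧ (Module.Projective A M → Function.Bijective e) := by
  classical
  let φ : MvPolynomial (Fin m) A →ₐ[A] SymmetricAlgebra A M := aeval G.val
  let L : (Fin m → A) →ₗ[A] MvPolynomial (Fin m) A := Fintype.linearCombination A X
  have hL : ∀ v, L v = ∑ j, C (v j) * X j := fun v => by
    simp [L, Fintype.linearCombination_apply, smul_eq_C_mul]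
  have hφL : ∀ v, φ (L v) = SymmetricAlgebra.ι A M (Fintype.linearCombination A x v) := fun v => by
    simp [L, φ, Fintype.linearCombination_apply, map_sum, hG]
  have halg : ∀ p : MvPolynomial (Fin m) A,
      algebraMap G.toExtension.Ring (SymmetricAlgebra A M) p = φ p := fun p => G.algebraMap_apply p
  have hker : ∀ p : MvPolynomial (Fin m) A, p ∈ G.toExtension.ker ↔ φ p = 0 := fun p => by
    rw [← halg p]; exact Iff.rfl
  let K := LinearMap.ker (Fintype.linearCombination A x)
  have hmem : ∀ k : K, L k.1 ∈ G.toExtension.ker := fun k => by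
    rw [hker, hφL, LinearMap.mem_ker.mp k.2, map_zero]
  let e0 : K →ₗ[A] G.toExtension.Cotangent :=
    { toFun := fun k => Algebra.Extension.Cotangent.mk ⟨L k.1, hmem k⟩
      map_add' := fun k k' => by
        rw [← map_add]; congr 1; exact Subtype.ext (map_add L k.1 k'.1)
      map_smul' := fun a k => by
        rw [RingHom.id_apply, ← algebraMap_smul G.toExtension.Ring a
          (Algebra.Extension.Cotangent.mk (P := G.toExtension) ⟨L k.1, hmem k⟩), ← map_smul]
        congr 1
        apply Subtype.ext
        show L (a • k.1) = algebraMap A (MvPolynomial (Fin m) A) a * L k.1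
        rw [map_smul, Algebra.smul_def] }
  let e : SymmetricAlgebra A M ⊗[A] K →ₗ[SymmetricAlgebra A M] G.toExtension.Cotangent :=
    e0.liftBaseChange (SymmetricAlgebra A M)
  have he : ∀ c k, e (c ⊗ₜ k) = c • Algebra.Extension.Cotangent.mk ⟨L k.1, hmem k⟩ :=
    fun c k => LinearMap.liftBaseChange_tmul _ e0 _ _
  have hsmul : ∀ (p : G.toExtension.Ring) (y : G.toExtension.Cotangent),
      φ p • y = p • y := fun p y => by
    rw [← algebraMap_smul (SymmetricAlgebra A M) p y]
    congr 1
    exact (halg p).symm
  refine ⟨e, fun k hk => ?_, ?_, fun hM => ⟨?_, ?_⟩⟩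
  · rw [he, one_smul]
    congr 1
    exact Subtype.ext (hL k.1)
  rotate_left
  · intro z z' hzz
    obtain ⟨s, hs⟩ := Module.projective_lifting_property
      (Fintype.linearCombination A x) (LinearMap.id : M →ₗ[A] M) hx
    let π : (Fin m → A) →ₗ[A] K := LinearMap.codRestrict _
      (LinearMap.id - s ∘ₗ Fintype.linearCombination A x) (fun v => by
        have := LinearMap.congr_fun hs (Fintype.linearCombination A x v)
        simp only [LinearMap.comp_apply, LinearMap.id_apply] at this
        simp [K, this])
    letI : Module (MvPolynomial (Fin m) A) (SymmetricAlgebra A M ⊗[A] K) :=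
      Module.compHom _ φ.toRingHom
    haveI : IsScalarTower A (MvPolynomial (Fin m) A) (SymmetricAlgebra A M ⊗[A] K) := ⟨fun a p t => by
      show φ (a • p) • t = a • (φ p • t)
      rw [map_smul, smul_assoc]⟩
    let D := MvPolynomial.mkDerivation A (σ := Fin m)
      (fun j => (1 : SymmetricAlgebra A M) ⊗ₜ[A] π (fun i => if j = i then 1 else 0))
    have hD : ∀ k : K, D (L k.1) = (1 : SymmetricAlgebra A M) ⊗ₜ[A] k := fun k => by
      have hπ : π k.1 = k := Subtype.ext (by simp [π, LinearMap.mem_ker.mp k.2])
      conv_rhs => rw [← hπ, pi_eq_sum_univ k.1, map_sum, TensorProduct.tmul_sum]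
      simp only [L, Fintype.linearCombination_apply, map_sum, Derivation.map_smul, map_smul,
        TensorProduct.tmul_smul, D, mkDerivation_X]
    have key : ∀ z : SymmetricAlgebra A M ⊗[A] K, ∃ w : G.toExtension.ker,
        Algebra.Extension.Cotangent.mk w = e z ∧ D (w.1 : MvPolynomial (Fin m) A) = z := by
      intro z
      induction z using TensorProduct.induction_on with
      | zero => exact ⟨0, by simp, D.map_zero⟩
      | add u v hu hv =>
        obtain ⟨wu, hu1, hu2⟩ := hu
        obtain ⟨wv, hv1, hv2⟩ := hv
        refine ⟨wu + wv, by rw [map_add, map_add, hu1, hv1], ?_⟩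
        show D ((wu.1 : MvPolynomial (Fin m) A) + wv.1) = _
        exact (D.map_add _ _).trans (congrArg₂ (· + ·) hu2 hv2)
      | tmul c k =>
        obtain ⟨p, rfl⟩ : ∃ p : MvPolynomial (Fin m) A, φ p = c := by
          obtain ⟨p, hp⟩ := G.toExtension.algebraMap_surjective c
          exact ⟨p, (halg p).symm.trans hp⟩
        let p' : G.toExtension.Ring := p
        refine ⟨p' • (⟨L k.1, hmem k⟩ : G.toExtension.ker), ?_, ?_⟩
        · rw [map_smul, he]
          exact (hsmul p' _).symm
        · show D (p * L k.1) = _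
          rw [D.leibniz, hD]
          show φ p • ((1 : SymmetricAlgebra A M) ⊗ₜ[A] k) + φ (L k.1) • D p = _
          rw [(hker _).mp (hmem k), zero_smul, add_zero, TensorProduct.smul_tmul', smul_eq_mul, mul_one]
    obtain ⟨w, hw, hwD⟩ := key (z - z')
    have hw2 : (w.1 : MvPolynomial (Fin m) A) ∈ G.toExtension.ker ^ 2 := by
      rw [← Algebra.Extension.Cotangent.mk_eq_zero_iff, hw, map_sub, hzz, sub_self]
    rw [← sub_eq_zero, ← hwD]
    rw [pow_two] at hw2
    refine Submodule.mul_induction_on hw2 (fun a ha b hb => ?_) (fun a b ha hb => ?_)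
    · refine (D.leibniz (a : MvPolynomial (Fin m) A) b).trans ?_
      show φ a • D b + φ b • D a = 0
      rw [(hker a).mp ha, (hker b).mp hb, zero_smul, zero_smul, add_zero]
    · show D ((a : MvPolynomial (Fin m) A) + b) = 0
      exact (D.map_add _ _).trans (by rw [ha, hb, add_zero])
  all_goals
    intro y
    obtain ⟨⟨p, hp⟩, rfl⟩ := Algebra.Extension.Cotangent.mk_surjective y
    let I : Ideal (MvPolynomial (Fin m) A) := Ideal.span (Set.range fun k : K => L k.1)
    have hIspan : ∀ q : MvPolynomial (Fin m) A, φ q = 0 → q ∈ I := by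
      intro q hq
      let ψ : (Fin m → A) →ₗ[A] MvPolynomial (Fin m) A ⧸ I :=
        (Ideal.Quotient.mkₐ A I).toLinearMap ∘ₗ L
      have hψ : K ≤ LinearMap.ker ψ := fun v hv => by
        show Ideal.Quotient.mk I (L v) = 0
        exact Ideal.Quotient.eq_zero_iff_mem.mpr (Ideal.subset_span ⟨⟨v, hv⟩, rfl⟩)
      let φ₁ : M →ₗ[A] MvPolynomial (Fin m) A ⧸ I := Submodule.liftQ K ψ hψ ∘ₗ
        ((Fintype.linearCombination A x).quotKerEquivOfSurjective hx).symm.toLinearMap
      have hcomp : (SymmetricAlgebra.lift φ₁).comp φ = Ideal.Quotient.mkₐ A I := by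
        apply MvPolynomial.algHom_ext
        intro j
        have hxj : x j = Fintype.linearCombination A x (Pi.single j 1) := by
          rw [Fintype.linearCombination_apply_single, one_smul]
        have : ((Fintype.linearCombination A x).quotKerEquivOfSurjective hx).symm (x j) =
            Submodule.Quotient.mk (Pi.single j 1) := by
          rw [LinearEquiv.symm_apply_eq]
          exact hxj
        show SymmetricAlgebra.lift φ₁ (φ (X j)) = _
        rw [show φ (X j) = SymmetricAlgebra.ι A M (x j) by simp [φ, hG],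
          SymmetricAlgebra.lift_ι_apply]
        show Submodule.liftQ K ψ hψ
          (((Fintype.linearCombination A x).quotKerEquivOfSurjective hx).symm (x j)) = _
        rw [this, Submodule.liftQ_apply]
        simp [ψ, L]
      rw [← Ideal.Quotient.eq_zero_iff_mem, ← Ideal.Quotient.mkₐ_eq_mk A, ← hcomp]
      show SymmetricAlgebra.lift φ₁ (φ q) = 0
      rw [hq, map_zero]
    have hpI := hIspan p ((hker p).mp hp)
    have hIJ : I ≤ (G.toExtension.ker : Ideal (MvPolynomial (Fin m) A)) :=
      Ideal.span_le.mpr (by rintro _ ⟨k, rfl⟩; exact hmem k)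
    suffices h : ∀ (q : MvPolynomial (Fin m) A), q ∈ I → ∀ hq : q ∈ G.toExtension.ker,
        ∃ z, e z = Algebra.Extension.Cotangent.mk ⟨q, hq⟩ from h p hpI hp
    intro q hq
    refine Submodule.span_induction ?_ ?_ ?_ ?_ hq
    · rintro _ ⟨k, rfl⟩ h
      exact ⟨1 ⊗ₜ k, by rw [he, one_smul]⟩
    · intro h
      exact ⟨0, by rw [map_zero]; exact (map_zero _).symm⟩
    · intro a b ha hb iha ihb h
      obtain ⟨za, hza⟩ := iha (hIJ ha)
      obtain ⟨zb, hzb⟩ := ihb (hIJ hb)
      exact ⟨za + zb, by rw [map_add, hza, hzb, ← map_add]; rfl⟩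
    · intro c a ha iha h
      obtain ⟨za, hza⟩ := iha (hIJ ha)
      exact ⟨φ c • za, by rw [map_smul, hza, hsmul, ← map_smul]; rfl⟩

end Groth.Agent.S12091
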