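import Groth.Statements.S12094
import Groth.Agent.DAlg.Rep
import Groth.Agent.DerComplete.Criterion


set_option autoImplicit false
universe u
open CategoryTheory
attribute [local instance] HasDerivedCategory.standard
open DRing

namespace Groth.Agent.S12094

/-- (1) ⇔ (2): let `I ⊆ R` be an ideal and `K ∈ D(R)` with `H^i(K) = 0` for `i ∉ {-1, 0}`. Then some
power `I^c` annihilates `Ext¹_R(K, N) = Hom_{D(R)}(K, N[1])` for every `R`-module `N` if and only
if, for some `c`, (a) `I^c` annihilates `H^{-1}(K)` and (b) `H^0(K)` is `I^c`-projective, i.e. `I^c`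
annihilates `Ext¹_R(H^0(K), N)` for every `R`-module `N`. -/
theorem result {R : Type u} [CommRing R] (I : Ideal R) (K : Dual.D R)
    (hK : ∀ i : ℤ, i ≠ -1 → i ≠ 0 → Subsingleton (Dual.HD R K i)) :
    (∃ c : ℕ, ∀ (N : Type u) [AddCommGroup N] [Module R N] (a : R), a ∈ I ^ c →
        ∀ ξ : K ⟶ (Dual.inD R N)⟦(1 : ℤ)⟧, a • ξ = 0) ↔
      ∃ c : ℕ, (∀ a : R, a ∈ I ^ c → ∀ x : Dual.HD R K (-1), a • x = 0) ∧
        ∀ (N : Type u) [AddCommGroup N] [Module R N] (a : R), a ∈ I ^ c →
          ∀ ξ : Dual.inD R (Dual.HD R K 0) ⟶ (Dual.inD R N)⟦(1 : ℤ)⟧, a • ξ = 0 := by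
  obtain ⟨E, hE, hP, ⟨e⟩⟩ := Groth.DAlg.exists_rep_projective K hK
  obtain ⟨e1⟩ := Groth.DAlg.nonempty_homology_neg_one_equiv hE
  let f1 := (Groth.DAlg.HDCongr e (-1)).symm.trans ((Groth.DAlg.HDEquiv E (-1)).trans e1)
  obtain ⟨E₁, α, e₀, eR, hE₁, hα, hα0, ⟨eH⟩⟩ := Groth.DAlg.exists_to_H0 hE
  let eH' : DRing.toD E₁ ≅ Dual.inD R (Dual.HD R K 0) :=
    eH ≪≫ (DerivedCategory.singleFunctor _ 0).mapIso (Groth.DAlg.HDCongr e 0).toModuleIso
  have hP₁ : Module.Projective R (E₁.X 0) := Module.Projective.of_equiv e₀.toLinearEquiv.symm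
  constructor
  · rintro ⟨c, H⟩
    refine ⟨c, fun a ha x => ?_, fun N _ _ a ha ξ => ?_⟩
    · have h1 := H (E.X (-1)) a ha (e.inv ≫ Groth.DAlg.extCl (𝟙 (E.X (-1))) (Groth.DAlg.d_comp_eq_zero hE _))
      rw [← Linear.comp_smul, CategoryTheory.Preadditive.IsIso.comp_left_eq_zero, Groth.DAlg.smul_extCl,
        Groth.DAlg.extCl_eq_zero_iff (Groth.DAlg.two_above hE) hP] at h1
      obtain ⟨h, hh⟩ := h1
      apply f1.injective
      rw [map_smul, map_zero]
      apply Subtype.ext
      have := CategoryTheory.ConcreteCategory.congr_hom hh (f1 x).1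
      rw [CategoryTheory.ConcreteCategory.comp_apply, show E.d (-1) 0 (f1 x).1 = 0 from (f1 x).2,
        map_zero] at this
      exact this.symm
    · rw [← cancel_epi eH'.hom, Limits.comp_zero]
      refine Groth.DAlg.eq_zero_of_comp_eq_zero (DerivedCategory.Q.map α) (fun i hi => ?_) (fun i hi => ?_) _ ?_
      · by_cases h : i = 0
        · subst h
          infer_instance
        · exact Groth.DAlg.epi_map_of_subsingleton _ i
            (@Equiv.subsingleton _ _ (Groth.DAlg.HDCongr eH i).toEquiv (Groth.DerComplete.subsingleton_HD_inD _ h))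
      · by_cases h : i = 0
        · subst h
          infer_instance
        · exact Groth.DAlg.mono_map_of_subsingleton _ i (Groth.DAlg.subsingleton_HD_of_two hE i (by omega) h)
      · rw [Linear.comp_smul, Linear.comp_smul, ← cancel_epi e.inv, Linear.comp_smul, Limits.comp_zero]
        exact H N a ha _
  · rintro ⟨c, hA, hB⟩
    refine ⟨c + c, fun N _ _ r hr ξ => ?_⟩
    rw [pow_add] at hr
    refine Submodule.mul_induction_on hr (fun a ha b hb => ?_) (fun x y hx hy => by rw [add_smul, hx, hy, add_zero])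
    obtain ⟨u, hu, hξ⟩ := Groth.DAlg.exists_extCl (Groth.DAlg.two_above hE) hP (e.hom ≫ ξ)
    have hker : LinearMap.ker (E.d (-1) 0).hom ≤ LinearMap.ker (a • u.hom) := fun x hx => by
      have := congrArg Subtype.val (congrArg f1 (hA a ha (f1.symm ⟨x, hx⟩)))
      rw [map_smul, f1.apply_symm_apply, map_zero] at this
      rw [LinearMap.mem_ker, LinearMap.smul_apply, ← map_smul, show a • x = 0 from this, map_zero]
    let w : E₁.X (-1) ⟶ ModuleCat.of R N := eR.hom ≫ ModuleCat.ofHom (((LinearMap.ker (E.d (-1) 0).hom).liftQ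
      (a • u.hom) hker).comp (E.d (-1) 0).hom.quotKerEquivRange.symm.toLinearMap)
    have hw : α.f (-1) ≫ w = a • u := ModuleCat.hom_ext (LinearMap.ext fun x => by
      show (LinearMap.ker (E.d (-1) 0).hom).liftQ (a • u.hom) hker
        ((E.d (-1) 0).hom.quotKerEquivRange.symm (eR.hom (α.f (-1) x))) = a • u x
      rw [hα x, show (E.d (-1) 0).hom.rangeRestrict x =
        (E.d (-1) 0).hom.quotKerEquivRange (Submodule.Quotient.mk x) from rfl, LinearEquiv.symm_apply_apply]
      rfl)
    have h0 : b • Groth.DAlg.extCl w (Groth.DAlg.d_comp_eq_zero hE₁ _) = 0 := by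
      rw [← cancel_epi eH'.inv, Linear.comp_smul, Limits.comp_zero]
      exact hB N b hb _
    rw [← cancel_epi e.hom, Linear.comp_smul, hξ, Limits.comp_zero, mul_comm a b, mul_smul, Groth.DAlg.smul_extCl]
    have h2 := congrArg (DerivedCategory.Q.map α ≫ ·) h0
    simp only [Linear.comp_smul, Limits.comp_zero, Groth.DAlg.comp_extCl, hw] at h2
    exact h2

end Groth.Agent.S12094
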