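import Groth.Statements.S12095
import Mathlib

set_option autoImplicit false
universe u
open CAlg

namespace Groth.Agent.S12095

/-- Let `R'` be an `R`-algebra of finite type, `M` a finite `R'`-module, and `S` an `ℕ`-graded
`R`-algebra with `f ∈ S_1` and a ring isomorphism `e : S_(f) ≅ R'` compatible with the maps from
`R`. Then there is a finite graded `S`-module `N` whose degree-zero localization `N_(f)` (the
elements `n / f^k` of `N_f` with `n` homogeneous of degree `k`) is identified with `M`: an
`R`-linear bijection `e' : N_(f) → M` with `e'(a · x) = e(a) · e'(x)` for all `a ∈ S_(f)`. (The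
published lemma produces `S`, `f` and `N` together from `R'` and `M`; here `N` is produced for any
such `S`, `f`, `e`, which the same construction gives.) -/
theorem result (R R' : Type u) [CommRing R] [CommRing R']
    [Algebra R R'] [Algebra.FiniteType R R']
    (M : Type u) [AddCommGroup M] [Module R' M] [Module R M] [IsScalarTower R R' M] [Module.Finite R' M]
    (S : Type u) [CommRing S] [Algebra R S] (𝒜 : ℕ → Submodule R S) [GradedAlgebra 𝒜] (f : S) (hf : f ∈ 𝒜 1)
    (e : HomogeneousLocalization.Away 𝒜 f ≃+* R')
    (he : ∀ r : R, (e.symm (algebraMap R R' r)).val = algebraMap S (Localization.Away f) (algebraMap R S r)) :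
    ∃ (N : Type u) (_ : AddCommGroup N) (_ : Module S N) (_ : Module R N) (_ : IsScalarTower R S N)
      (ℳ : ℕ → Submodule R N) (_ : DirectSum.Decomposition ℳ) (_ : SetLike.GradedSMul 𝒜 ℳ)
      (Nf : Submodule R (LocalizedModule (Submonoid.powers f) N)) (e' : ↥Nf ≃ₗ[R] M),
      Module.Finite S N ∧
      (∀ x, x ∈ Nf ↔ ∃ k : ℕ, ∃ n ∈ ℳ k, f ^ k • x = LocalizedModule.mk n 1) ∧
      (∀ (a : HomogeneousLocalization.Away 𝒜 f) (x y : ↥Nf),
        a.val • (x : LocalizedModule (Submonoid.powers f) N) = y → e' y = e a • e' x) := by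
  classical
  have hk1 : ∀ {k : ℕ} {a : S}, a ∈ 𝒜 k → a ∈ 𝒜 (k • 1) := fun {k a} h => by simpa using h
  let mkA : ∀ (k : ℕ) (a : S), a ∈ 𝒜 k → HomogeneousLocalization.Away 𝒜 f := fun k a h =>
    HomogeneousLocalization.Away.mk 𝒜 hf k a (hk1 h)
  have hval : ∀ (k : ℕ) (a : S) (h : a ∈ 𝒜 k),
      (mkA k a h).val = Localization.mk a (⟨f ^ k, k, rfl⟩ : Submonoid.powers f) := fun k a h => by
    simp [mkA]
  -- evaluation of a homogeneous element
  let ε : ∀ k : ℕ, 𝒜 k →+ R' := fun k => AddMonoidHom.mk' (fun a => e (mkA k a.1 a.2)) fun a b => by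
    rw [← map_add]
    refine congrArg e (HomogeneousLocalization.val_injective _ ?_)
    rw [hval k _ (a + b).2, HomogeneousLocalization.val_add, hval k _ a.2, hval k _ b.2, Submodule.coe_add, Localization.add_mk_self]
  have hε : ∀ (k : ℕ) (a : 𝒜 k), ε k a = e (mkA k a.1 a.2) := fun k a => rfl
  have hε1 : ε 0 ⟨1, SetLike.GradedOne.one_mem⟩ = 1 := by
    rw [hε]
    rw [← map_one e]
    refine congrArg e (HomogeneousLocalization.val_injective _ ?_)
    rw [hval 0 1 SetLike.GradedOne.one_mem, HomogeneousLocalization.val_one]
    simp [Localization.mk_eq_mk']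
  have hεmul : ∀ (i j : ℕ) (a : 𝒜 i) (b : 𝒜 j),
      ε (i + j) ⟨a.1 * b.1, SetLike.GradedMul.mul_mem a.2 b.2⟩ = ε i a * ε j b := fun i j a b => by
    rw [hε, hε, hε, ← map_mul]
    refine congrArg e (HomogeneousLocalization.val_injective _ ?_)
    rw [hval (i + j) _ (SetLike.GradedMul.mul_mem a.2 b.2), HomogeneousLocalization.val_mul, hval i _ a.2, hval j _ b.2, Localization.mk_mul]
    congr 2
    exact pow_add f i j
  have hεR : ∀ r : R, ε 0 ⟨algebraMap R S r, SetLike.algebraMap_mem_graded 𝒜 r⟩ = algebraMap R R' r := fun r => by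
    rw [hε, ← e.apply_symm_apply (algebraMap R R' r)]
    refine congrArg e (HomogeneousLocalization.val_injective _ ?_)
    rw [hval 0 _ (SetLike.algebraMap_mem_graded 𝒜 r), he]
    simp [← Localization.mk_one_eq_algebraMap]
    rfl
  have hεf : ε 1 ⟨f, hf⟩ = 1 := by
    rw [hε, ← map_one e]
    refine congrArg e (HomogeneousLocalization.val_injective _ ?_)
    rw [hval 1 f hf, HomogeneousLocalization.val_one]
    simp [Localization.mk_eq_mk']
  let φ : S →+* Polynomial R' :=
    (DirectSum.toSemiring (fun k => (Polynomial.monomial k).toAddMonoidHom.comp (ε k))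
      (by
        show Polynomial.monomial 0 (ε 0 ⟨1, SetLike.GradedOne.one_mem⟩) = 1
        rw [hε1, Polynomial.monomial_zero_one])
      (fun {i j} a b => by
        show Polynomial.monomial (i + j) (ε (i + j) ⟨a.1 * b.1, SetLike.GradedMul.mul_mem a.2 b.2⟩) =
          Polynomial.monomial i (ε i a) * Polynomial.monomial j (ε j b)
        rw [hεmul, Polynomial.monomial_mul_monomial])).comp
      (DirectSum.decomposeRingEquiv 𝒜).toRingHom
  have hφ : ∀ (k : ℕ) (a : 𝒜 k), φ a.1 = Polynomial.monomial k (ε k a) := fun k a => by
    simp only [φ, RingHom.coe_comp, Function.comp_apply, RingEquiv.toRingHom_eq_coe, RingHom.coe_coe]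
    rw [show DirectSum.decomposeRingEquiv 𝒜 (a : S) = DirectSum.decompose 𝒜 (a : S) from rfl,
      DirectSum.decompose_coe, DirectSum.toSemiring_of]
    rfl
  -- the ambient module
  letI : Module S (PolynomialModule R' M) := Module.compHom (PolynomialModule R' M) φ
  have hsmul : ∀ (s : S) (p : (PolynomialModule R' M)), s • p = φ s • p := fun s p => rfl
  have hsingle : ∀ (i : ℕ) (a : 𝒜 i) (j : ℕ) (m : M),
      a.1 • PolynomialModule.single R' j m = PolynomialModule.single R' (i + j) (ε i a • m) := fun i a j m => by
    rw [hsmul, hφ, PolynomialModule.monomial_smul_single]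
  haveI : IsScalarTower R S (PolynomialModule R' M) := by
    refine IsScalarTower.of_algebraMap_smul fun r p => ?_
    rw [hsmul, hφ 0 ⟨_, SetLike.algebraMap_mem_graded 𝒜 r⟩, hεR]
    induction p using PolynomialModule.induction_linear with
    | zero => simp
    | add a b ha hb => rw [smul_add, ha, hb, smul_add]
    | single n m =>
      rw [PolynomialModule.monomial_smul_single, zero_add]
      ext j
      simp only [PolynomialModule.coeff_single]
      show Finsupp.single n (algebraMap R R' r • m) j = r • Finsupp.single n m j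
      rw [Finsupp.single_apply, Finsupp.single_apply]
      split_ifs
      · exact IsScalarTower.algebraMap_smul R' r m
      · exact (smul_zero r).symm
  obtain ⟨G, hG⟩ := Module.Finite.fg_top (R := R') (M := M)
  let Gen : Set (PolynomialModule R' M) := (fun m => PolynomialModule.single R' 0 m) '' (G : Set M)
  let N : Submodule S (PolynomialModule R' M) := Submodule.span S Gen
  haveI hNfin : Module.Finite S N := Module.Finite.span_of_finite S ((G.finite_toSet).image _)
  let evL : (PolynomialModule R' M) →ₗ[R] M := (PolynomialModule.eval (1 : R')).restrictScalars R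
  have hev : ∀ (s : S) (p : (PolynomialModule R' M)), evL (s • p) = (φ s).eval 1 • evL p := fun s p =>
    PolynomialModule.eval_smul (φ s) p 1
  have hevs : ∀ (j : ℕ) (m : M), evL (PolynomialModule.single R' j m) = m := fun j m => by
    show PolynomialModule.eval (1 : R') (PolynomialModule.single R' j m) = m
    simp
  -- graded pieces
  let ℳ : ℕ → Submodule R N := fun k =>
    { carrier := {x | ∀ j, j ≠ k → (x : (PolynomialModule R' M)).coeff j = 0}
      zero_mem' := fun j _ => by simp
      add_mem' := fun {x y} hx hy j hj => by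
        show (x : (PolynomialModule R' M)).coeff j + (y : (PolynomialModule R' M)).coeff j = 0
        rw [hx j hj, hy j hj, add_zero]
      smul_mem' := fun r x hx j hj => by
        show ((r • (x : (PolynomialModule R' M))) : (PolynomialModule R' M)).coeff j = 0
        rw [← IsScalarTower.algebraMap_smul R' r (x : (PolynomialModule R' M))]
        show algebraMap R R' r • (x : (PolynomialModule R' M)).coeff j = 0
        rw [hx j hj, smul_zero] }
  have hℳsingle : ∀ {k : ℕ} (x : N), x ∈ ℳ k → (x : (PolynomialModule R' M)) = PolynomialModule.single R' k ((x : (PolynomialModule R' M)).coeff k) := by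
    intro k x hx
    ext j
    rcases eq_or_ne j k with rfl | hj
    · simp
    · simp [hx j hj, hj.symm]
  have hℳev : ∀ {k : ℕ} (x : N), x ∈ ℳ k → evL x = (x : (PolynomialModule R' M)).coeff k := fun {k} x hx => by
    conv_lhs => rw [hℳsingle x hx]
    rw [hevs]
  -- components of elements of `N` lie in `N`
  let comp : ℕ → (PolynomialModule R' M) → (PolynomialModule R' M) := fun k p => PolynomialModule.single R' k (p.coeff k)
  have hdecomp : ∀ p : (PolynomialModule R' M), p = ∑ j ∈ p.coeff.support, comp j p := fun p => by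
    ext j
    simp [comp, Finsupp.single_apply]
  let N' : Submodule S (PolynomialModule R' M) :=
    { carrier := {p | ∀ k, comp k p ∈ N}
      zero_mem' := fun k => by simp [comp]
      add_mem' := fun {p q} hp hq k => by
        have : comp k (p + q) = comp k p + comp k q := by simp [comp]
        rw [this]; exact add_mem (hp k) (hq k)
      smul_mem' := fun s p hp k => by
        induction s using DirectSum.Decomposition.inductionOn 𝒜 with
        | zero =>
          have : comp k ((0 : S) • p) = 0 := by simp [comp]
          rw [this]; exact zero_mem _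
        | add a b ha hb =>
          have : comp k ((a + b) • p) = comp k (a • p) + comp k (b • p) := by simp [comp, add_smul]
          rw [this]; exact add_mem ha hb
        | homogeneous a =>
          rename_i i
          by_cases hik : i ≤ k
          · have : comp k (a.1 • p) = a.1 • comp (k - i) p := by
              simp only [comp, hsingle, hsmul a.1 p, hφ, PolynomialModule.monomial_smul_apply, if_pos hik,
                Nat.add_sub_cancel' hik]
            rw [this]; exact N.smul_mem _ (hp _)
          · have : comp k (a.1 • p) = 0 := by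
              simp only [comp, hsmul a.1 p, hφ, PolynomialModule.monomial_smul_apply, if_neg hik,
                PolynomialModule.single_zero]
            rw [this]; exact zero_mem _ }
  have hcompN : ∀ (x : N) (k : ℕ), comp k x ∈ N := by
    intro x
    have : N ≤ N' := Submodule.span_le.2 (by
      rintro _ ⟨m, hm, rfl⟩ k
      rcases eq_or_ne k 0 with rfl | hk
      · have : comp 0 (PolynomialModule.single R' 0 m) = PolynomialModule.single R' 0 m := by simp [comp]
        rw [this]; exact Submodule.subset_span ⟨m, hm, rfl⟩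
      · have : comp k (PolynomialModule.single R' 0 m) = 0 := by simp [comp, hk.symm]
        rw [this]; exact zero_mem _)
    exact this x.2
  have hint : DirectSum.IsInternal ℳ := by
    rw [DirectSum.isInternal_submodule_iff_iSupIndep_and_iSup_eq_top]
    refine ⟨?_, eq_top_iff.2 fun x _ => ?_⟩
    · refine fun k => disjoint_iff_inf_le.2 ?_
      rintro x ⟨hx, hx'⟩
      have h0 : (x : (PolynomialModule R' M)).coeff k = 0 := by
        let Z : Submodule R N :=
          { carrier := {y | (y : (PolynomialModule R' M)).coeff k = 0}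
            zero_mem' := by simp
            add_mem' := fun {a b} ha hb => by simp [Set.mem_setOf_eq] at *; simp [ha, hb]
            smul_mem' := fun r a ha => by
              show ((r • (a : (PolynomialModule R' M))) : (PolynomialModule R' M)).coeff k = 0
              rw [← IsScalarTower.algebraMap_smul R' r (a : (PolynomialModule R' M))]
              show algebraMap R R' r • (a : (PolynomialModule R' M)).coeff k = 0
              rw [ha, smul_zero] }
        exact (show (⨆ (j : ℕ) (_ : j ≠ k), ℳ j) ≤ Z from iSup₂_le fun j hj y hy => hy k hj.symm) hx'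
      rw [Submodule.mem_bot]
      refine Subtype.ext ?_
      rw [hℳsingle x hx, h0]
      simp
    · have hx : x = ∑ j ∈ (x : (PolynomialModule R' M)).coeff.support, (⟨comp j x, hcompN x j⟩ : N) := by
        refine Subtype.ext ?_
        simp only [AddSubmonoidClass.coe_finsetSum]
        exact hdecomp x
      rw [hx]
      refine Submodule.sum_mem _ fun j _ => Submodule.mem_iSup_of_mem j ?_
      intro i hij
      simp [comp, hij.symm]
  haveI hgs : SetLike.GradedSMul 𝒜 ℳ := ⟨fun {i k a x} ha hx => by
    intro j hj
    show ((a • (x : (PolynomialModule R' M))) : (PolynomialModule R' M)).coeff j = 0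
    have h := hℳsingle x hx
    rw [h, hsingle i ⟨a, ha⟩]
    simp only [PolynomialModule.coeff_single]
    exact Finsupp.single_eq_of_ne (by simpa [vadd_eq_add] using hj)⟩
  -- `M` through evaluation at `1`
  let ψ : S →+* R' := (Polynomial.evalRingHom (1 : R')).comp φ
  have hψ : ∀ (k : ℕ) (a : 𝒜 k), ψ a.1 = ε k a := fun k a => by simp [ψ, hφ]
  have hψf : ψ f = 1 := by rw [hψ 1 ⟨f, hf⟩, hεf]
  letI : Module S M := Module.compHom M ψ
  let evS : N →ₗ[S] M :=
    { toFun := fun x => evL x
      map_add' := fun x y => map_add evL (x : (PolynomialModule R' M)) y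
      map_smul' := fun s x => hev s x }
  have hunit : ∀ x : Submonoid.powers f, IsUnit (algebraMap S (Module.End S M) x.1) := by
    rintro ⟨_, k, rfl⟩
    convert isUnit_one using 1
    ext m
    show ψ (f ^ k) • m = m
    rw [map_pow, hψf, one_pow, one_smul]
  let L : LocalizedModule (Submonoid.powers f) N →ₗ[S] M := LocalizedModule.lift (Submonoid.powers f) evS hunit
  have hL : ∀ x : N, L (LocalizedModule.mk x 1) = evL x := fun x => by
    have := LinearMap.congr_fun (LocalizedModule.lift_comp (Submonoid.powers f) evS hunit) x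
    simpa [L, evS] using this
  have hLf : ∀ (k : ℕ) (x : LocalizedModule (Submonoid.powers f) N), L (f ^ k • x) = L x := fun k x => by
    rw [map_smul]
    show ψ (f ^ k) • L x = L x
    rw [map_pow, hψf, one_pow, one_smul]
  have hfmem : ∀ (k : ℕ) {i : ℕ} {n : N}, n ∈ ℳ i → f ^ k • n ∈ ℳ (k + i) := fun k {i n} hn => by
    have : f ^ k ∈ 𝒜 k := by simpa using SetLike.pow_mem_graded k hf
    have h := SetLike.GradedSMul.smul_mem (A := 𝒜) (B := ℳ) this hn
    simpa [vadd_eq_add] using h
  let Nf : Submodule R (LocalizedModule (Submonoid.powers f) N) :=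
    { carrier := {x | ∃ k : ℕ, ∃ n ∈ ℳ k, f ^ k • x = LocalizedModule.mk n 1}
      zero_mem' := ⟨0, 0, zero_mem _, by simp [LocalizedModule.zero_mk]⟩
      add_mem' := by
        rintro x y ⟨i, n, hn, hx⟩ ⟨j, m, hm, hy⟩
        refine ⟨i + j, f ^ j • n + f ^ i • m, add_mem ?_ (hfmem i hm), ?_⟩
        · simpa [add_comm] using hfmem j hn
        · rw [smul_add]
          conv_lhs => rw [pow_add, mul_comm, mul_smul, hx, mul_comm, mul_smul, hy]
          rw [LocalizedModule.smul'_mk, LocalizedModule.smul'_mk, LocalizedModule.mk_add_mk]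
          simp
      smul_mem' := by
        rintro r x ⟨k, n, hn, hx⟩
        refine ⟨k, r • n, (ℳ k).smul_mem r hn, ?_⟩
        rw [smul_comm, hx]
        rw [← IsScalarTower.algebraMap_smul S r n,
          ← IsScalarTower.algebraMap_smul S r (LocalizedModule.mk n 1), LocalizedModule.smul'_mk] }
  let LR : Nf →ₗ[R] M :=
    { toFun := fun x => L x.1
      map_add' := fun x y => map_add L x.1 y.1
      map_smul' := fun r x => by
        show L (r • x.1) = r • L x.1
        rw [← IsScalarTower.algebraMap_smul S r x.1, map_smul]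
        show ψ (algebraMap R S r) • L x.1 = r • L x.1
        rw [hψ 0 ⟨_, SetLike.algebraMap_mem_graded 𝒜 r⟩, hεR, IsScalarTower.algebraMap_smul] }
  have hinj : Function.Injective LR := by
    suffices hz : ∀ z ∈ Nf, L z = 0 → z = 0 from fun a b hab => Subtype.ext
      (sub_eq_zero.1 (hz _ (Nf.sub_mem a.2 b.2) (by rw [map_sub]; exact sub_eq_zero.2 hab)))
    rintro x ⟨k, n, hn, hx⟩ hzero
    have h1 : evL n = 0 := by
      rw [← hL, ← hx, hLf]
      exact hzero
    have hn0 : n = 0 := by
      refine Subtype.ext ?_
      rw [hℳsingle n hn, ← hℳev n hn, h1]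
      simp
    rw [hn0, LocalizedModule.zero_mk] at hx
    have hu : IsUnit (algebraMap S (Module.End S (LocalizedModule (Submonoid.powers f) N)) (f ^ k)) :=
      IsLocalizedModule.map_units (LocalizedModule.mkLinearMap (Submonoid.powers f) N) (⟨f ^ k, k, rfl⟩ : Submonoid.powers f)
    exact ((Module.End.isUnit_iff _).1 hu).1 (hx.trans (map_zero _).symm)
  have hsurj : Function.Surjective LR := by
    intro m
    suffices h : ∃ k, ∃ n ∈ ℳ k, evL (n : N) = m by
      obtain ⟨k, n, hn, hnm⟩ := h
      let x : LocalizedModule (Submonoid.powers f) N := LocalizedModule.mk n (⟨f ^ k, k, rfl⟩ : Submonoid.powers f)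
      have hx : f ^ k • x = LocalizedModule.mk n 1 := by
        rw [LocalizedModule.smul'_mk]
        exact LocalizedModule.mk_cancel (⟨f ^ k, k, rfl⟩ : Submonoid.powers f) n
      refine ⟨⟨x, k, n, hn, hx⟩, ?_⟩
      show L x = m
      rw [← hLf k x, hx, hL, hnm]
    have hm : m ∈ Submodule.span R' (G : Set M) := hG ▸ Submodule.mem_top
    induction hm using Submodule.span_induction with
    | mem m hm =>
      exact ⟨0, ⟨PolynomialModule.single R' 0 m, Submodule.subset_span ⟨m, hm, rfl⟩⟩,
        fun j hj => by simp [hj.symm], hevs 0 m⟩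
    | zero => exact ⟨0, 0, zero_mem _, map_zero evL⟩
    | add a b _ _ ha hb =>
      obtain ⟨i, n, hn, rfl⟩ := ha
      obtain ⟨j, n', hn', rfl⟩ := hb
      refine ⟨i + j, f ^ j • n + f ^ i • n', add_mem (by simpa [add_comm] using hfmem j hn) (hfmem i hn'), ?_⟩
      show evL (f ^ j • (n : (PolynomialModule R' M)) + f ^ i • (n' : (PolynomialModule R' M))) = _
      rw [map_add, hev, hev]
      show ψ (f ^ j) • evL n + ψ (f ^ i) • evL n' = _
      rw [map_pow, map_pow, hψf, one_pow, one_pow, one_smul, one_smul]
    | smul r' a _ ha =>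
      obtain ⟨i, n, hn, rfl⟩ := ha
      obtain ⟨k, s, hs, hsr⟩ := HomogeneousLocalization.Away.mk_surjective 𝒜 hf (e.symm r')
      have hs' : s ∈ 𝒜 k := by simpa using hs
      refine ⟨k + i, s • n, by simpa [vadd_eq_add] using SetLike.GradedSMul.smul_mem (A := 𝒜) (B := ℳ) hs' hn, ?_⟩
      show evL (s • (n : (PolynomialModule R' M))) = r' • evL n
      rw [hev]
      show ψ s • evL n = r' • evL n
      rw [hψ k ⟨s, hs'⟩, hε, show mkA k s hs' = e.symm r' from hsr, e.apply_symm_apply]
  letI := hint.chooseDecomposition
  refine ⟨N, inferInstance, inferInstance, inferInstance, inferInstance, ℳ, inferInstance, hgs, Nf,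
    LinearEquiv.ofBijective LR ⟨hinj, hsurj⟩, hNfin, fun x => Iff.rfl, fun a x y hxy => ?_⟩
  obtain ⟨k, s, hs, rfl⟩ := HomogeneousLocalization.Away.mk_surjective 𝒜 hf a
  have hs' : s ∈ 𝒜 k := by simpa using hs
  show L y.1 = e (mkA k s hs') • L x.1
  have h1 : f ^ k • y.1 = s • x.1 := by
    rw [← hxy, ← smul_assoc, show f ^ k • (HomogeneousLocalization.Away.mk 𝒜 hf k s hs).val =
        algebraMap S (Localization.Away f) s from ?_, algebraMap_smul]
    rw [HomogeneousLocalization.Away.val_mk, Localization.smul_mk, ← Localization.mk_one_eq_algebraMap,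
      Localization.mk_eq_mk_iff, Localization.r_iff_exists]
    exact ⟨1, by simp [mul_comm]⟩
  rw [← hLf k y.1, h1, map_smul]
  show ψ s • L x.1 = _
  rw [hψ k ⟨s, hs'⟩, hε]

end Groth.Agent.S12095
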