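import Groth.Statements.S12096
import Groth.Agent.BlowUpBasics.AffineAlgebra
-- import your own Groth.Agent.* helpers here

set_option autoImplicit false
universe u
open BlowUp

namespace Groth.Agent.S12096

/-- Néron's blowup is compatible with localization. For a ring `A`, an ideal `I`, elements `π, a ∈ A`,
`A' = A[I/π] ⊆ A_π` the affine blowup algebra and `(A_a)' = A_a[I A_a/π]` that of the localization,
the canonical map `A' → (A_a)'` (the restriction of `A_π → (A_a)_π`, given here as a datum with that
compatibility) identifies `(A_a)'` with the localization `A'_a`. In Néron's situation (`I` the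
inverse image of the maximal ideal of `Λ`, `π` a uniformizer, `a ∉ I`) this reads: the Néron blowup
of `A_a` is `A'_a`; the identity holds for arbitrary `A, I, π, a`. -/
theorem result (A : Type u) [CommRing A] (I : Ideal A) (π a : A) (hπ : π ∈ I)
    (ψ : BlowUp.affineAlgebra A I π →+*
      BlowUp.affineAlgebra (Localization.Away a) (I.map (algebraMap A (Localization.Away a))) (algebraMap A (Localization.Away a) π))
    (hψ : ∀ x : BlowUp.affineAlgebra A I π,
      ((ψ x : BlowUp.affineAlgebra (Localization.Away a) (I.map (algebraMap A (Localization.Away a))) (algebraMap A (Localization.Away a) π)) :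
          Localization.Away (algebraMap A (Localization.Away a) π)) =
        Localization.awayMap (algebraMap A (Localization.Away a)) π (x : Localization.Away π)) :
    letI := ψ.toAlgebra
    IsLocalization.Away (algebraMap A (BlowUp.affineAlgebra A I π) a)
      (BlowUp.affineAlgebra (Localization.Away a) (I.map (algebraMap A (Localization.Away a))) (algebraMap A (Localization.Away a) π)) := by
  letI := ψ.toAlgebra
  have hw : ∀ r : A, Localization.awayMap (algebraMap A (Localization.Away a)) π
      (algebraMap A (Localization.Away π) r) =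
      algebraMap (Localization.Away a) (Localization.Away (algebraMap A (Localization.Away a) π))
        (algebraMap A (Localization.Away a) r) :=
    fun r ↦ IsLocalization.map_eq _ r
  have halg : ∀ r : A, ψ (algebraMap A _ r) =
      algebraMap (Localization.Away a) _ (algebraMap A (Localization.Away a) r) := fun r ↦
    Subtype.ext ((hψ _).trans (hw r))
  set a' := algebraMap A (BlowUp.affineAlgebra A I π) a
  have hu : IsUnit (ψ a') := by
    rw [halg]
    exact (IsLocalization.Away.algebraMap_isUnit a).map _
  have hker : ∀ x, ψ x = 0 → ∃ n : ℕ, a' ^ n * x = 0 := by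
    intro x hx
    obtain ⟨⟨r, _, m, rfl⟩, hr⟩ := IsLocalization.surj (Submonoid.powers π) (x : Localization.Away π)
    have he : algebraMap A (BlowUp.affineAlgebra A I π) π ^ m * x = algebraMap A _ r := by
      apply Subtype.ext
      simp [← hr, mul_comm]
    have h0 : algebraMap (Localization.Away a) (Localization.Away (algebraMap A (Localization.Away a) π))
        (algebraMap A (Localization.Away a) r) = 0 := by
      have := congrArg Subtype.val (congrArg ψ he)
      rw [map_mul, hx, mul_zero, halg] at this
      exact this.symm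
    obtain ⟨⟨_, k, rfl⟩, hk⟩ := (IsLocalization.map_eq_zero_iff
      (Submonoid.powers (algebraMap A (Localization.Away a) π)) _ _).mp h0
    dsimp only at hk
    rw [← map_pow, ← map_mul] at hk
    obtain ⟨⟨_, n, rfl⟩, hn⟩ := (IsLocalization.map_eq_zero_iff (Submonoid.powers a) _ _).mp hk
    refine ⟨n, (pow_mem (Groth.BlowUpBasics.algebraMap_self_mem_nonZeroDivisors (I := I) (a := π))
      (k + m)).2 _ ?_⟩
    rw [mul_assoc, mul_comm x, pow_add, mul_assoc, he, ← map_pow, ← map_pow, ← map_mul, ← map_mul, hn,
      map_zero]
  refine ⟨⟨fun y ↦ ?_, fun z ↦ ?_, fun {x y} h ↦ ?_⟩⟩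
  · obtain ⟨_, n, rfl⟩ := y
    rw [RingHom.algebraMap_toAlgebra, map_pow]
    exact hu.pow n
  · suffices H : ∃ x n, z * ψ (a' ^ n) = ψ x by
      obtain ⟨x, n, h⟩ := H
      exact ⟨(x, ⟨_, n, rfl⟩), h⟩
    obtain ⟨z, hz⟩ := z
    induction hz using Algebra.adjoin_induction with
    | mem z hz =>
      obtain ⟨y, hy, rfl⟩ := hz
      obtain ⟨⟨⟨i, hi⟩, _, n, rfl⟩, hin⟩ := (IsLocalization.mem_map_algebraMap_iff (Submonoid.powers a) _).mp hy
      refine ⟨Groth.BlowUpBasics.frac I π i hi, n, Subtype.ext ?_⟩
      rw [map_pow, halg, hψ, Groth.BlowUpBasics.coe_frac, Localization.awayMap, IsLocalization.Away.map,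
        IsLocalization.map_mk', ← map_pow, ← map_pow, MulMemClass.coe_mul]
      change IsLocalization.mk' _ y _ *
        algebraMap (Localization.Away a) (Localization.Away (algebraMap A (Localization.Away a) π))
          (algebraMap A (Localization.Away a) (a ^ n)) = _
      dsimp only at hin ⊢
      refine IsLocalization.eq_mk'_iff_mul_eq.mpr ?_
      rw [mul_right_comm]
      erw [IsLocalization.mk'_spec]
      rw [← map_mul]
      exact congrArg _ hin
    | algebraMap r =>
      obtain ⟨⟨c, _, n, rfl⟩, hc⟩ := IsLocalization.surj (Submonoid.powers a) r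
      refine ⟨algebraMap A _ c, n, ?_⟩
      rw [map_pow, halg, halg, ← map_pow, ← map_pow]
      exact ((map_mul _ _ _).symm.trans (congrArg _ hc))
    | add p p' hp hp' h h' =>
      obtain ⟨x, n, hx⟩ := h
      obtain ⟨x', n', hx'⟩ := h'
      refine ⟨x * a' ^ n' + x' * a' ^ n, n + n', ?_⟩
      rw [map_add, map_mul, map_mul, ← hx, ← hx', pow_add, map_mul]
      change ((⟨p, hp⟩ : BlowUp.affineAlgebra (Localization.Away a) _ _) + ⟨p', hp'⟩) * _ = _
      ring
    | mul p p' hp hp' h h' =>
      obtain ⟨x, n, hx⟩ := h
      obtain ⟨x', n', hx'⟩ := h'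
      refine ⟨x * x', n + n', ?_⟩
      rw [map_mul, ← hx, ← hx', pow_add, map_mul]
      change ((⟨p, hp⟩ : BlowUp.affineAlgebra (Localization.Away a) _ _) * ⟨p', hp'⟩) * _ = _
      ring
  · change ψ x = ψ y at h
    obtain ⟨n, hn⟩ := hker (x - y) (by rw [map_sub, h, sub_self])
    refine ⟨⟨_, n, rfl⟩, ?_⟩
    rwa [mul_sub, sub_eq_zero] at hn

end Groth.Agent.S12096
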