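import Groth.Statements.S12097
import Groth.Agent.BlowUpBasics.AffineAlgebra
-- import your own Groth.Agent.* helpers here

set_option autoImplicit false
universe u
open BlowUp

namespace Groth.Agent.S12097

/-- Néron's blowup is compatible with closed immersions. For a surjective ring map `B → A` with kernel
`J`, an ideal `I ⊆ B` containing `π`, and the affine blowup algebras `B' = B[I/π] ⊆ B_π`, `A' =
A[IA/π] ⊆ A_π`, the canonical map `B' → A'` (the restriction of `B_π → A_π`, given as a datum with
that compatibility) is surjective with kernel the elements `x` such that `π^n x ∈ J B'` for some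
`n`: `A'` is the quotient of `B'/JB'` by its `π`-power torsion. In Néron's situation (`I` the
inverse image of the maximal ideal of `Λ`, `π` a uniformizer) this is the printed functoriality; the
identity holds for any surjection. -/
theorem result (B A : Type u) [CommRing B] [CommRing A] [Algebra B A]
    (hq : Function.Surjective (algebraMap B A)) (I : Ideal B) (π : B) (hπ : π ∈ I)
    (ψ : BlowUp.affineAlgebra B I π →+* BlowUp.affineAlgebra A (I.map (algebraMap B A)) (algebraMap B A π))
    (hψ : ∀ x : BlowUp.affineAlgebra B I π,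
      ((ψ x : BlowUp.affineAlgebra A (I.map (algebraMap B A)) (algebraMap B A π)) : Localization.Away (algebraMap B A π)) =
        Localization.awayMap (algebraMap B A) π (x : Localization.Away π)) :
    Function.Surjective ψ ∧
      ∀ x : BlowUp.affineAlgebra B I π, x ∈ RingHom.ker ψ ↔
        ∃ n : ℕ, algebraMap B (BlowUp.affineAlgebra B I π) π ^ n * x ∈
          (RingHom.ker (algebraMap B A)).map (algebraMap B (BlowUp.affineAlgebra B I π)) := by
  have hw : ∀ r : B, Localization.awayMap (algebraMap B A) π (algebraMap B (Localization.Away π) r) =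
      algebraMap A (Localization.Away (algebraMap B A π)) (algebraMap B A r) :=
    fun r ↦ IsLocalization.map_eq _ r
  have halg : ∀ r : B, ψ (algebraMap B _ r) = algebraMap A _ (algebraMap B A r) := fun r ↦
    Subtype.ext ((hψ _).trans (hw r))
  refine ⟨?_, fun x ↦ ⟨fun hx ↦ ?_, ?_⟩⟩
  · rintro ⟨z, hz⟩
    induction hz using Algebra.adjoin_induction with
    | mem z hz =>
      obtain ⟨y, hy, rfl⟩ := hz
      obtain ⟨i, hi, rfl⟩ := (Ideal.mem_map_iff_of_surjective _ hq).mp hy
      refine ⟨Groth.BlowUpBasics.frac I π i hi, Subtype.ext ((hψ _).trans ?_)⟩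
      rw [Groth.BlowUpBasics.coe_frac, Localization.awayMap, IsLocalization.Away.map,
        IsLocalization.map_mk']
    | algebraMap r =>
      obtain ⟨r, rfl⟩ := hq r
      exact ⟨algebraMap B _ r, halg r⟩
    | add p p' _ _ h h' =>
      obtain ⟨x, hx⟩ := h
      obtain ⟨x', hx'⟩ := h'
      exact ⟨x + x', by rw [map_add, hx, hx']; rfl⟩
    | mul p p' _ _ h h' =>
      obtain ⟨x, hx⟩ := h
      obtain ⟨x', hx'⟩ := h'
      exact ⟨x * x', by rw [map_mul, hx, hx']; rfl⟩
  · obtain ⟨⟨r, _, n, rfl⟩, hr⟩ := IsLocalization.surj (Submonoid.powers π) (x : Localization.Away π)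
    have he : algebraMap B (BlowUp.affineAlgebra B I π) π ^ n * x = algebraMap B _ r := by
      apply Subtype.ext
      simp [← hr, mul_comm]
    have h0 : algebraMap A (Localization.Away (algebraMap B A π)) (algebraMap B A r) = 0 := by
      have := congrArg Subtype.val (congrArg ψ he)
      rw [map_mul, RingHom.mem_ker.mp hx, mul_zero, halg] at this
      exact this.symm
    obtain ⟨⟨_, k, rfl⟩, hk⟩ := (IsLocalization.map_eq_zero_iff
      (Submonoid.powers (algebraMap B A π)) _ _).mp h0
    refine ⟨k + n, ?_⟩
    rw [pow_add, mul_assoc, he, ← map_pow, ← map_mul]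
    refine Ideal.mem_map_of_mem _ (RingHom.mem_ker.mpr ?_)
    simpa using hk
  · rintro ⟨n, hn⟩
    have h0 : ψ (algebraMap B (BlowUp.affineAlgebra B I π) π ^ n * x) = 0 := by
      have hle : (RingHom.ker (algebraMap B A)).map (algebraMap B (BlowUp.affineAlgebra B I π)) ≤
          RingHom.ker ψ := by
        refine Ideal.map_le_iff_le_comap.mpr fun r hr ↦ RingHom.mem_ker.mpr ?_
        rw [halg, RingHom.mem_ker.mp hr, map_zero]
      exact RingHom.mem_ker.mp (hle hn)
    rw [map_mul, map_pow, halg, mul_comm] at h0
    exact RingHom.mem_ker.mpr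
      ((pow_mem Groth.BlowUpBasics.algebraMap_self_mem_nonZeroDivisors n).2 _ h0)

end Groth.Agent.S12097
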