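import Groth.Statements.S12109
import Groth.Agent.SitesTopoi.Presheaf.LanYoneda
import Mathlib.CategoryTheory.Limits.Types.Filtered

set_option autoImplicit false
open CategoryTheory CategoryTheory.Limits
universe u
open SGA4

namespace Groth.Agent.S12109

open CategoryTheory.Limits Opposite in
theorem isIndObject_restrict {C : Type u} [SmallCategory C] {C' : Type u} [SmallCategory C'] (u' : C ⥤ C')
    [u'.Full] [u'.Faithful] (hret : ∀ X' : C', ∃ (X : C) (i : X' ⟶ u'.obj X) (r : u'.obj X ⟶ X'), i ≫ r = 𝟙 X')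
    {G' : C'ᵒᵖ ⥤ Type u} (hG : IsIndObject G') : IsIndObject (u'.op ⋙ G') := by
  have := hG.isFiltered
  let Φ : CostructuredArrow yoneda (u'.op ⋙ G') ⥤ CostructuredArrow yoneda G' :=
    { obj := fun Z => CostructuredArrow.mk (CategoryTheory.yonedaEquiv.symm
        (CategoryTheory.yonedaEquiv (F := u'.op ⋙ G') Z.hom : G'.obj (op (u'.obj Z.left))))
      map := fun {Z Z'} f => CostructuredArrow.homMk (u'.map f.left) (CategoryTheory.yonedaEquiv.injective (by
        dsimp
        rw [← CategoryTheory.yonedaEquiv_naturality, Equiv.apply_symm_apply, Equiv.apply_symm_apply]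
        refine Eq.trans ?_ (congrArg CategoryTheory.yonedaEquiv (CostructuredArrow.w f))
        rw [← CategoryTheory.yonedaEquiv_naturality]
        rfl))
      map_id := fun Z => CostructuredArrow.hom_ext _ _ (u'.map_id _)
      map_comp := fun f g => CostructuredArrow.hom_ext _ _ (u'.map_comp _ _) }
  have : Φ.Faithful := ⟨fun {Z Z' f g} h => CostructuredArrow.hom_ext _ _
    (u'.map_injective (congrArg (fun q : Φ.obj Z ⟶ Φ.obj Z' => q.left) h))⟩
  have : Φ.Full := by
    refine ⟨fun {Z Z'} q => ?_⟩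
    obtain ⟨f, hf⟩ := u'.map_surjective q.left
    refine ⟨CostructuredArrow.homMk f (CategoryTheory.yonedaEquiv.injective ?_), CostructuredArrow.hom_ext _ _ hf⟩
    have hq := congrArg CategoryTheory.yonedaEquiv (CostructuredArrow.w q)
    simp only [Φ, CostructuredArrow.mk_hom_eq_self] at hq
    rw [← CategoryTheory.yonedaEquiv_naturality, Equiv.apply_symm_apply, Equiv.apply_symm_apply] at hq
    rw [← CategoryTheory.yonedaEquiv_naturality]
    change G'.map (u'.map f).op _ = _
    rw [hf]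
    exact hq
  have hΦ : ∀ d, ∃ c, Nonempty (d ⟶ Φ.obj c) := fun d => by
    obtain ⟨X, i, r, hir⟩ := hret d.left
    refine ⟨CostructuredArrow.mk (CategoryTheory.yonedaEquiv.symm
      (G'.map r.op (CategoryTheory.yonedaEquiv d.hom) : (u'.op ⋙ G').obj (op X))),
      ⟨CostructuredArrow.homMk i (CategoryTheory.yonedaEquiv.injective ?_)⟩⟩
    simp only [Φ, CostructuredArrow.mk_hom_eq_self]
    rw [← CategoryTheory.yonedaEquiv_naturality, Equiv.apply_symm_apply, Equiv.apply_symm_apply,
      ← Functor.map_comp_apply, ← op_comp, hir, op_id, Functor.map_id_apply]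
  exact (isIndObject_iff _).2 ⟨IsFiltered.of_exists_of_isFiltered_of_fullyFaithful Φ hΦ,
    FinallySmall.mk' (𝟭 (CostructuredArrow yoneda (u'.op ⋙ G')))⟩

open CategoryTheory.Limits Opposite in
theorem isIso_of_retract {C : Type u} [SmallCategory C] {C' : Type u} [SmallCategory C'] (u' : C ⥤ C')
    (hret : ∀ X' : C', ∃ (X : C) (i : X' ⟶ u'.obj X) (r : u'.obj X ⟶ X'), i ≫ r = 𝟙 X')
    {G H : C'ᵒᵖ ⥤ Type u} (φ : G ⟶ H) [IsIso (Functor.whiskerLeft u'.op φ)] : IsIso φ := by
  have : ∀ X' : C'ᵒᵖ, IsIso (φ.app X') := fun X' => by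
    obtain ⟨X, i, r, hir⟩ := hret X'.unop
    have hX : IsIso (φ.app (op (u'.obj X))) :=
      inferInstanceAs (IsIso ((Functor.whiskerLeft u'.op φ).app (op X)))
    refine ⟨H.map r.op ≫ inv (φ.app (op (u'.obj X))) ≫ G.map i.op, ?_, ?_⟩
    · rw [← φ.naturality_assoc, IsIso.hom_inv_id_assoc, ← G.map_comp, ← op_comp, hir, op_id, G.map_id]
    · rw [Category.assoc, Category.assoc, φ.naturality, IsIso.inv_hom_id_assoc, ← H.map_comp, ← op_comp, hir,
        op_id, H.map_id]
  exact NatIso.isIso_of_isIso_app φ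


/-- Let `u : C ⥤ C'` be a functor between small categories and `u_!` the left Kan extension functor on
presheaves of sets, whose restriction to ind-representable presheaves is the induced functor `Ind C
⥤ Ind C'`. Then `Ind(u)` is an equivalence — `u_!` is bijective on morphisms between
ind-representable presheaves on `C` and every ind-representable presheaf on `C'` is isomorphic to
`u_! F` for some ind-representable `F` — if and only if `u` is full and faithful and every object of
`C'` is a retract (direct factor) of an object `u X`. -/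
theorem result
    {C : Type u} [SmallCategory C] {C' : Type u} [SmallCategory C'] (u : C ⥤ C') :
    ((∀ (F G : Cᵒᵖ ⥤ Type u), IsIndObject F → IsIndObject G →
        Function.Bijective (fun φ : F ⟶ G => (u.op.lan : (Cᵒᵖ ⥤ Type u) ⥤ (C'ᵒᵖ ⥤ Type u)).map φ)) ∧
      (∀ G' : C'ᵒᵖ ⥤ Type u, IsIndObject G' →
        ∃ F : Cᵒᵖ ⥤ Type u, IsIndObject F ∧
          Nonempty ((u.op.lan : (Cᵒᵖ ⥤ Type u) ⥤ (C'ᵒᵖ ⥤ Type u)).obj F ≅ G'))) ↔
    ((u.Full ∧ u.Faithful) ∧
      ∀ X' : C', ∃ (X : C) (i : X' ⟶ u.obj X) (r : u.obj X ⟶ X'), i ≫ r = 𝟙 X') := by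
  constructor
  · rintro ⟨h₁, h₂⟩
    have hfull : u.Full := Groth.SitesTopoi.Presheaf.full_of_lan_map_surjective u fun X Y =>
      (h₁ _ _ (isIndObject_yoneda X) (isIndObject_yoneda Y)).2
    have hfaith : u.Faithful := ⟨fun {X Y f g} hfg =>
      yoneda.map_injective ((h₁ _ _ (isIndObject_yoneda X) (isIndObject_yoneda Y)).1
        (Groth.SitesTopoi.Presheaf.lan_map_yoneda_eq_of_map_eq u hfg))⟩
    refine ⟨⟨hfull, hfaith⟩, fun X' => ?_⟩
    obtain ⟨F, hF, ⟨e⟩⟩ := h₂ _ (isIndObject_yoneda X')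
    obtain ⟨P⟩ := hF.nonempty_presentation
    have : PreservesColimitsOfSize.{u, u} (Groth.SitesTopoi.Presheaf.lanF u) :=
      (u.op.lanAdjunction (Type u)).leftAdjoint_preservesColimits
    obtain ⟨j, y, hy⟩ := Types.jointly_surjective _
      (isColimitOfPreserves ((evaluation C'ᵒᵖ (Type u)).obj (Opposite.op X'))
        (isColimitOfPreserves (Groth.SitesTopoi.Presheaf.lanF u) P.isColimit))
      (e.inv.app (Opposite.op X') (𝟙 X'))
    let m : yoneda.obj (u.obj (P.F.obj j)) ⟶ yoneda.obj X' :=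
      (Groth.SitesTopoi.Presheaf.lanYonedaIso u (P.F.obj j)).inv ≫
        (Groth.SitesTopoi.Presheaf.lanF u).map (P.ι.app j) ≫ e.hom
    obtain ⟨r, hr⟩ := yoneda.map_surjective m
    let i : X' ⟶ u.obj (P.F.obj j) := (Groth.SitesTopoi.Presheaf.lanYonedaIso u (P.F.obj j)).hom.app (Opposite.op X') y
    refine ⟨P.F.obj j, i, r, ?_⟩
    have h₃ := congrArg (fun t => t.app (Opposite.op X') i) hr
    change i ≫ r = _ at h₃
    rw [h₃]
    change e.hom.app _ (((Groth.SitesTopoi.Presheaf.lanF u).map (P.ι.app j)).app _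
      (((Groth.SitesTopoi.Presheaf.lanYonedaIso u (P.F.obj j)).hom ≫
        (Groth.SitesTopoi.Presheaf.lanYonedaIso u (P.F.obj j)).inv).app _ y)) = _
    rw [Iso.hom_inv_id]
    refine (congrArg (fun t => e.hom.app _ t) hy).trans ?_
    exact congrArg (fun t => t.app (Opposite.op X') (𝟙 X')) e.inv_hom_id
  · rintro ⟨⟨_, _⟩, hret⟩
    refine ⟨fun F G _ _ => (u.op.lanAdjunction (Type u)).fullyFaithfulLOfIsIsoUnit.map_bijective F G,
      fun G' hG' => ⟨_, isIndObject_restrict u hret hG', ?_⟩⟩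
    have : IsIso (Functor.whiskerLeft u.op ((u.op.lanAdjunction (Type u)).counit.app G')) :=
      IsIso.of_isIso_fac_left ((u.op.lanAdjunction (Type u)).right_triangle_components G')
    have := isIso_of_retract u hret ((u.op.lanAdjunction (Type u)).counit.app G')
    exact ⟨asIso ((u.op.lanAdjunction (Type u)).counit.app G')⟩

end Groth.Agent.S12109
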