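import Groth.Statements.S12112
import Groth.Agent.Variety2.Reg.Closed
import Groth.Agent.KTheory.PushProps

set_option autoImplicit false
universe u
open CategoryTheory CategoryTheory.Limits AlgebraicGeometry
open Pic13

namespace Groth.Agent.S12112

/-- Let k be an algebraically closed field, i : X ⟶ P^n_k a closed k-immersion, O_X(1) = i^*O(1), and F,
G coherent O_X-modules with a short exact sequence 0 → F(-1) → F → G → 0 and G m-regular. Then (i)
H^q(X, F(n')) = 0 for q ≥ 2 and n' ≥ m - q; (ii) h^1(F(n' - 1)) ≥ h^1(F(n')) for n' ≥ m - 1, h^1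
being the dimension over k; (iii) H^1(X, F(n')) = 0 for n' ≥ (m - 1) + h^1(F(m - 1)); in particular
F is (m + h^1(F(m - 1)))-regular. (The published statement takes F(-1) → F given by a section of
O_X(1); the printed argument uses only the short exact sequence and its twists, so any short exact
sequence of this shape is allowed here.) -/
theorem result (k : Type u) [Field k] [IsAlgClosed k] (n : ℕ) (X : Scheme.{u})
    [X.Over (Spec (CommRingCat.of k))] (i : X ⟶ CohB1.ProjSpace n k) [IsClosedImmersion i]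
    (hi : i ≫ CohB1.ProjSpace.toSpec n k = X ↘ Spec (CommRingCat.of k))
    (F G : X.Modules) (hF : Coh.IsCoh F) (hG : Coh.IsCoh G)
    (f : Pic13.twistOn k i F (-1) ⟶ F) (g : F ⟶ G) (hfg : f ≫ g = 0) (hS : (ShortComplex.mk f g hfg).ShortExact)
    (m : ℤ) (hGm : Pic13.IsMRegular k i G m) :
    (∀ (q : ℕ) (n' : ℤ), 2 ≤ q → m - q ≤ n' → Subsingleton (Coh.HH X (Pic13.twistOn k i F n') q)) ∧
    (∀ n' : ℤ, m - 1 ≤ n' →
      Module.finrank k (Coh.HH X (Pic13.twistOn k i F n') 1) ≤ Module.finrank k (Coh.HH X (Pic13.twistOn k i F (n' - 1)) 1)) ∧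
    (∀ n' : ℤ, (m - 1) + (Module.finrank k (Coh.HH X (Pic13.twistOn k i F (m - 1)) 1) : ℤ) ≤ n' →
      Subsingleton (Coh.HH X (Pic13.twistOn k i F n') 1)) ∧
    Pic13.IsMRegular k i F (m + Module.finrank k (Coh.HH X (Pic13.twistOn k i F (m - 1)) 1)) := by
  haveI := hF.1
  haveI := hG.1
  let P := Scheme.Modules.pushforward i
  obtain ⟨θ, -⟩ := Groth.PnCoh.exists_projectionFormula i F
    (Groth.Variety2.Reg.isInvertible_tw (n := n) (k := k) (-1))
  haveI : (Twist.twistProjSpace n k (-1)).IsQuasicoherent := Groth.PnCoh.isQCoh_twist n k (-1)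
  haveI := Groth.QCohMod.isQCoh_pullback_obj i (Twist.twistProjSpace n k (-1))
  haveI : (Pic13.twistOn k i F (-1)).IsQuasicoherent := Groth.QCohMod.isQCoh_tensorMod
  haveI : (ShortComplex.mk f g hfg).X₁.IsQuasicoherent := ‹(Pic13.twistOn k i F (-1)).IsQuasicoherent›
  haveI : (ShortComplex.mk f g hfg).X₂.IsQuasicoherent := hF.1
  haveI : (ShortComplex.mk f g hfg).X₃.IsQuasicoherent := hG.1
  haveI : Mono (P.map f) := (Groth.KTheory.PushProps.shortExact_push i hS).mono_f
  let ι : CohB1.tensorMod (P.obj F) (Twist.twistProjSpace n k (-1)) ⟶ P.obj F := θ.hom ≫ P.map f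
  haveI := hS.mono_f
  haveI : Mono ι := @mono_comp _ _ _ _ _ θ.hom inferInstance (P.map f) ‹Mono (P.map f)›
  obtain ⟨eG⟩ : Nonempty (cokernel ι ≅ P.obj G) :=
    ⟨cokernelEpiComp θ.hom (P.map f) ≪≫ IsColimit.coconePointUniqueUpToIso (cokernelIsCokernel _)
      (Groth.KTheory.PushProps.shortExact_push i hS).gIsCokernel⟩
  have hreg : Curv2.IsMRegular k n (cokernel ι) m := fun q hq hqn =>
    Groth.Variety2.Reg.subsingleton_of_iso k (PicGrp.tensorModIso eG.symm (Iso.refl _))
      (Groth.Variety2.Reg.mReg_pF i G hGm q hq hqn)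
  obtain ⟨h1, h2, h3⟩ := Groth.Variety2.Reg.cokernel_twist_facts
    (Groth.Variety2.Reg.isCoh_pF i F hF) ι hreg
  have hfr : ∀ d : ℤ, Module.finrank k (Coh.HH X (Pic13.twistOn k i F d) 1) =
      Module.finrank k (Coh.HH _ (Groth.Variety2.Reg.fT (Groth.Variety2.Reg.pF i F) d) 1) := fun d => by
    obtain ⟨e⟩ := Groth.PnCoh.nonempty_linearEquiv_push_twist n k i F d 1
    rw [hi] at e
    exact e.finrank_eq.symm
  refine ⟨fun q n' hq hn' => (Groth.Variety2.Reg.subsingleton_twistOn_iff i F _ q).mpr (h1 q n' hq hn'),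
    fun n' hn' => by rw [hfr, hfr]; exact h2 n' hn',
    fun n' hn' => (Groth.Variety2.Reg.subsingleton_twistOn_iff i F _ 1).mpr (h3 n' (by rwa [hfr] at hn')),
    fun q hq => ?_⟩
  refine (Groth.Variety2.Reg.subsingleton_twistOn_iff i F _ q).mpr ?_
  rw [hfr]
  rcases Nat.lt_or_ge q 2 with hq' | hq'
  · obtain rfl : q = 1 := by omega
    exact h3 _ (by simp only [Nat.cast_one]; exact le_of_eq (by ring))
  · exact h1 q _ hq' (by omega)

end Groth.Agent.S12112
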