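import Groth.Statements.S12113
import Groth.Agent.SGA7.Ext

set_option autoImplicit false
universe u
open CategoryTheory CategoryTheory.Limits MonoidalCategory CartesianMonoidalCategory MonObj AlgebraicGeometry
open SGA7

namespace Groth.Agent.S12113
open Groth.SGA7


/-- Group schemes, fppf site: over a base scheme S, let P and G be S-group schemes with G commutative,
and let u : G → E, v : E → P and u' : G → E', v' : E' → P be homomorphisms forming sequences 1 → G →
E → P → 1 and 1 → G → E' → P → 1 exact for the fppf topology. Suppose every morphism of S-schemes P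
×_S P → G trivial on P × e_P and on e_P × P is trivial. Let f : E → E' be a morphism of S-schemes
over P (f ≫ v' = v) and under G (u ≫ f = u'), preserving the unit section, and compatible with left
and right translations by G: for all points g of G and x of E with values in any S-scheme, f(u(g) x)
= u'(g) f(x) and f(x u(g)) = f(x) u'(g). Then f is a homomorphism of S-group schemes: such
extensions have no non-multiplicative morphisms of their underlying rigidified bitorsors. (The
published statement is for sheaves of groups on an arbitrary topos and phrased as full faithfulness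
of the functor from extensions to rigidified bitorsors; this row is the case of representable
sheaves on the fppf site of S, with G commutative so that the defect of multiplicativity descends to
P ×_S P as in the printed argument. Morphisms to a group scheme form a group; trivial means equal to
its unit.) -/
theorem result (S : Scheme.{u})
    (P G E E' : Over S) [GrpObj P] [GrpObj G] [GrpObj E] [GrpObj E'] [IsCommMonObj G]
    (u : G ⟶ E) (v : E ⟶ P) (hex : NonAbH1.IsExactSeq Scheme.fppfPrecoverage u v)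
    (u' : G ⟶ E') (v' : E' ⟶ P) (hex' : NonAbH1.IsExactSeq Scheme.fppfPrecoverage u' v')
    (hPP : ∀ c : P ⊗ P ⟶ G, lift (𝟙 P) (toUnit P ≫ η[P]) ≫ c = 1 → lift (toUnit P ≫ η[P]) (𝟙 P) ≫ c = 1 → c = 1)
    (f : E ⟶ E') (hv : f ≫ v' = v) (hu : u ≫ f = u') (h1 : η[E] ≫ f = η[E'])
    (hl : ∀ (T : Over S) (g : T ⟶ G) (x : T ⟶ E), ((g ≫ u) * x) ≫ f = (g ≫ u') * (x ≫ f))
    (hr : ∀ (T : Over S) (g : T ⟶ G) (x : T ⟶ E), (x * (g ≫ u)) ≫ f = (x ≫ f) * (g ≫ u')) :
    IsMonHom f := by
  have := hex.1
  have := hex.2.1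
  have := hex'.1
  have := hex'.2.1
  have hone : ∀ T : Over S, (1 : T ⟶ E) ≫ f = 1 := fun T => by
    rw [Hom.one_def, Category.assoc, h1, ← Hom.one_def]
  set δ : E ⊗ E ⟶ E' := ((fst E E * snd E E) ≫ f) * ((fst E E ≫ f) * (snd E E ≫ f))⁻¹ with hδ
  have hδv : δ ≫ v' = 1 := by
    simp only [hδ, MonObj.mul_comp, GrpObj.inv_comp, Category.assoc, hv, mul_inv_cancel]
  obtain ⟨d, hd⟩ := Ext.exists_kernel hex' δ hδv
  have hpt : ∀ (T : Over S) (x y : T ⟶ E),
      (lift x y ≫ d) ≫ u' = ((x * y) ≫ f) * ((x ≫ f) * (y ≫ f))⁻¹ := by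
    intro T x y
    rw [Category.assoc, ← hd, hδ]
    simp only [MonObj.comp_mul, GrpObj.comp_inv, ← Category.assoc, lift_fst, lift_snd]
  obtain ⟨c, hc⟩ := ((Ext.locSurj hex).tensor (Ext.locSurj hex)).desc d (by
    intro T p p' hpp'
    have hp : p ≫ fst E E ≫ v = p' ≫ fst E E ≫ v := by
      simpa [Category.assoc] using congrArg (fun z => z ≫ fst P P) hpp'
    have hp' : p ≫ snd E E ≫ v = p' ≫ snd E E ≫ v := by
      simpa [Category.assoc] using congrArg (fun z => z ≫ snd P P) hpp'
    obtain ⟨g, hg⟩ := Ext.exists_translate hex (p ≫ fst E E) (p' ≫ fst E E) (by simpa [Category.assoc] using hp)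
    obtain ⟨h, hh⟩ := Ext.exists_translate hex (p ≫ snd E E) (p' ≫ snd E E) (by simpa [Category.assoc] using hp')
    rw [show p = lift (p ≫ fst E E) (p ≫ snd E E) by simp, show p' = lift (p' ≫ fst E E) (p' ≫ snd E E) by simp]
    apply Ext.u_injective hex'
    rw [hpt, hpt, hg, hh]
    generalize p ≫ fst E E = x
    generalize p ≫ snd E E = y
    obtain ⟨g', hg'⟩ := Ext.exists_conj hex g y
    have e1 : ∀ (x : T ⟶ E) (g : T ⟶ G), (x * (g ≫ u)) ≫ f = (x ≫ f) * (g ≫ u') := fun x g => hr T g x
    have e2 : (g ≫ u') * (y ≫ f) = (y ≫ f) * (g' ≫ u') := by rw [← hl T g y, hg', e1]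
    have e3 : x * (g ≫ u) * (y * (h ≫ u)) = x * y * ((g' * h) ≫ u) := by
      rw [MonObj.mul_comp]
      calc x * (g ≫ u) * (y * (h ≫ u)) = x * ((g ≫ u) * y) * (h ≫ u) := by group
        _ = _ := by rw [hg']; group
    have e4 : (x ≫ f) * (g ≫ u') * ((y ≫ f) * (h ≫ u')) = (x ≫ f) * (y ≫ f) * ((g' * h) ≫ u') := by
      rw [MonObj.mul_comp]
      calc (x ≫ f) * (g ≫ u') * ((y ≫ f) * (h ≫ u')) = (x ≫ f) * ((g ≫ u') * (y ≫ f)) * (h ≫ u') := by group
        _ = _ := by rw [e2]; group
    rw [e3, e1, e1, e1, e4]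
    group)
  have hc1 : c = 1 := by
    refine hPP c ?_ ?_
    · apply (Ext.locSurj hex).cancel
      have : v ≫ lift (𝟙 P) (toUnit P ≫ η[P]) = lift (𝟙 E) (1 : E ⟶ E) ≫ (v ⊗ₘ v) := by
        rw [← Hom.one_def, comp_lift, lift_map, Category.comp_id, Category.id_comp, MonObj.comp_one, MonObj.one_comp]
      rw [← Category.assoc, this, Category.assoc, hc, MonObj.comp_one]
      apply Ext.u_injective hex'
      rw [hpt, MonObj.one_comp (f := u'), _root_.mul_one, hone, _root_.mul_one, mul_inv_cancel]
    · apply (Ext.locSurj hex).cancel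
      have : v ≫ lift (toUnit P ≫ η[P]) (𝟙 P) = lift (1 : E ⟶ E) (𝟙 E) ≫ (v ⊗ₘ v) := by
        rw [← Hom.one_def, comp_lift, lift_map, Category.comp_id, Category.id_comp, MonObj.comp_one, MonObj.one_comp]
      rw [← Category.assoc, this, Category.assoc, hc, MonObj.comp_one]
      apply Ext.u_injective hex'
      rw [hpt, MonObj.one_comp (f := u'), _root_.one_mul, hone, _root_.one_mul, mul_inv_cancel]
  rw [hc1, MonObj.comp_one] at hc
  rw [← hc, MonObj.one_comp, hδ, mul_inv_eq_one] at hd
  refine ⟨h1, ?_⟩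
  rw [MonObj.mul_eq_mul (M := E), hd, MonObj.mul_eq_mul (M := E'), MonObj.comp_mul, tensorHom_fst, tensorHom_snd]

end Groth.Agent.S12113
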