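import Groth.Statements.S12118
-- import your own Groth.Agent.* helpers here

set_option autoImplicit false
universe u v
open EGA41

namespace Groth.Agent.S12118

/-- Let A be a commutative ring, M an A-module, (M_k)_{k ≥ 0} a decreasing filtration of M by submodules
with M_0 = M and ⋂_k M_k = 0, and f an element of A which is a non-zero-divisor on every graded
piece M_k/M_{k+1} (equivalently on the associated graded module). Then (i) f is a non-zero-divisor
on M, and (ii) M_k ∩ fM = fM_k for every k ≥ 0. -/
theorem result {A : Type u} [CommRing A] {M : Type v} [AddCommGroup M] [Module A M]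
    (F : ℕ → Submodule A M) (hanti : Antitone F) (h0 : F 0 = ⊤) (hsep : ⨅ k, F k = ⊥) (f : A)
    (hreg : ∀ k : ℕ, IsSMulRegular (↥(F k) ⧸ Submodule.comap (F k).subtype (F (k + 1))) f) :
    IsSMulRegular M f ∧ ∀ k : ℕ, F k ⊓ (Ideal.span {f} • (⊤ : Submodule A M)) = Ideal.span {f} • F k := by
  have hstep : ∀ (k : ℕ) (x : M), x ∈ F k → f • x ∈ F (k + 1) → x ∈ F (k + 1) := by
    intro k x hx hfx
    have h : (Submodule.Quotient.mk (⟨x, hx⟩ : F k) :
        ↥(F k) ⧸ Submodule.comap (F k).subtype (F (k + 1))) = 0 := by
      apply (hreg k)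
      simp only [smul_zero]
      rw [← Submodule.Quotient.mk_smul, Submodule.Quotient.mk_eq_zero]
      simpa using hfx
    rw [Submodule.Quotient.mk_eq_zero] at h
    simpa using h
  have hind : ∀ (k : ℕ) (x : M), f • x ∈ F k → ∀ j ≤ k, x ∈ F j := by
    intro k x hfx j hj
    induction j with
    | zero => simp [h0]
    | succ j ih => exact hstep j x (ih (by omega)) (hanti hj hfx)
  refine ⟨?_, fun k => ?_⟩
  · apply IsSMulRegular.of_right_eq_zero_of_smul
    intro x hx
    have hmem : x ∈ ⨅ k, F k := by
      rw [Submodule.mem_iInf]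
      intro k
      exact hind k x (by rw [hx]; exact zero_mem _) k le_rfl
    rw [hsep] at hmem
    simpa using hmem
  · apply le_antisymm
    · rintro x ⟨hx, hx'⟩
      rw [SetLike.mem_coe, Submodule.ideal_span_singleton_smul] at hx'
      obtain ⟨y, -, rfl⟩ := hx'
      simp only [DistribSMul.toLinearMap_apply] at hx ⊢
      exact Submodule.smul_mem_smul (Ideal.mem_span_singleton_self f) (hind k y hx k le_rfl)
    · exact le_inf Submodule.smul_le_right (Submodule.smul_mono le_rfl le_top)

end Groth.Agent.S12118
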