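import Groth.Statements.S12123
import Groth.Agent.EGA41Two.ConsTop
import Mathlib.Topology.Compactness.LocallyCompact

set_option autoImplicit false
universe u
open EGA41

namespace Groth.Agent.S12123

open AlgebraicGeometry Topology in
/-- Let X be a quasi-separated scheme and X^cons its underlying set with the constructible topology,
generated by the quasi-compact open subsets and their complements (for X quasi-separated this is the
topology whose open sets are the ind-constructible subsets). Then X^cons is a Hausdorff, locally
compact, totally disconnected space. (The published statement also asserts that X^cons is Hausdorff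
only if X is quasi-separated; for the topology used here that converse fails when X is not
quasi-separated, where the two constructible topologies differ, so it is not part of this row.) -/
theorem result (X : Scheme.{u}) [QuasiSeparatedSpace X] :
    T2Space (WithConstructibleTopology X) ∧ LocallyCompactSpace (WithConstructibleTopology X) ∧
      TotallyDisconnectedSpace (WithConstructibleTopology X) := by
  have h1 : @T2Space X (constructibleTopology X) := Groth.SpectralTopology.t2Space_ct
  have h2 : @TotallySeparatedSpace X (constructibleTopology X) := Groth.SpectralTopology.totallySeparatedSpace_ct
  have hts : TotallySeparatedSpace (WithConstructibleTopology X) := by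
    rw [totallySeparatedSpace_iff_exists_isClopen]
    intro a b hab
    obtain ⟨U, ⟨hUc, hUo⟩, ha, hb⟩ :=
      (@totallySeparatedSpace_iff_exists_isClopen X (constructibleTopology X)).1 h2
        ((WithTopology.ofTopology_injective _).ne hab)
    exact ⟨WithTopology.ofTopology ⁻¹' U,
      ⟨@IsClosed.preimage _ _ _ (constructibleTopology X) _ (WithTopology.continuous_ofTopology _) _ hUc,
        @IsOpen.preimage _ _ _ (constructibleTopology X) _ (WithTopology.continuous_ofTopology _) _ hUo⟩,
      ha, hb⟩
  have hw : WeaklyLocallyCompactSpace (WithConstructibleTopology X) := ⟨fun x => by
    obtain ⟨K, hK, hxK, hKc⟩ := Groth.EGA41Two.exists_isCompact_nhds_ct (X := X) x.ofTopology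
    refine ⟨WithTopology.toTopology _ '' K,
      @IsCompact.image X _ (constructibleTopology X) _ K _ hKc (WithTopology.continuous_toTopology _), ?_⟩
    refine mem_nhds_iff.mpr ⟨WithTopology.ofTopology ⁻¹' K, fun y hy => ⟨_, hy, rfl⟩,
      @IsOpen.preimage _ _ _ (constructibleTopology X) _ (WithTopology.continuous_ofTopology _) _ hK, hxK⟩⟩
  exact ⟨inferInstance, inferInstance, inferInstance⟩

end Groth.Agent.S12123
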