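import Groth.Statements.S12127
import Groth.Agent.EGA43Topo.QuasiHomeo

set_option autoImplicit false
universe u
open EGA43

open Set TopologicalSpace Topology Groth.EGA43Topo

namespace Groth.Agent.S12127

/-- Let f : X → Y be a quasi-homeomorphism, i.e. a continuous map such that U ↦ f⁻¹(U) is a bijection
from the open subsets of Y onto the open subsets of X. Call a subset quasi-constructible when it is
a finite union of locally closed subsets, and locally quasi-constructible when every point of the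
space has an open neighbourhood V whose intersection with it is quasi-constructible in V. Then Z ↦
f⁻¹(Z) induces a bijection from the quasi-constructible subsets of Y onto those of X, and from the
locally quasi-constructible subsets of Y onto those of X. -/
theorem result {X Y : Type u}
    [TopologicalSpace X] [TopologicalSpace Y] (f : X → Y) (hf : Continuous f)
    (hq : Function.Bijective (fun U : TopologicalSpace.Opens Y =>
      (⟨f ⁻¹' (U : Set Y), U.isOpen.preimage hf⟩ : TopologicalSpace.Opens X))) :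
    Set.BijOn (fun Z : Set Y => f ⁻¹' Z)
        {Z : Set Y | ∃ T : Set (Set Y), T.Finite ∧ (∀ t ∈ T, IsLocallyClosed t) ∧ Z = ⋃₀ T}
        {Z : Set X | ∃ T : Set (Set X), T.Finite ∧ (∀ t ∈ T, IsLocallyClosed t) ∧ Z = ⋃₀ T} ∧
      Set.BijOn (fun Z : Set Y => f ⁻¹' Z)
        {Z : Set Y | ∀ y : Y, ∃ V : Set Y, IsOpen V ∧ y ∈ V ∧
          ∃ T : Set (Set V), T.Finite ∧ (∀ t ∈ T, IsLocallyClosed t) ∧ (Subtype.val ⁻¹' Z : Set V) = ⋃₀ T}
        {Z : Set X | ∀ x : X, ∃ V : Set X, IsOpen V ∧ x ∈ V ∧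
          ∃ T : Set (Set V), T.Finite ∧ (∀ t ∈ T, IsLocallyClosed t) ∧ (Subtype.val ⁻¹' Z : Set V) = ⋃₀ T} := by
  have h := QH.of_bijective hf hq
  refine ⟨⟨fun Z hZ => IsQC.preimage hf hZ, fun Z hZ Z' hZ' he =>
      h.eq_of_preimage_eq (IsQC.isLQC hZ) (IsQC.isLQC hZ') he,
      fun Z hZ => h.exists_isQC hZ⟩, ?_⟩
  refine ⟨fun Z hZ => isLQC_iff_preimage_val.1 ((isLQC_iff_preimage_val.2 hZ).preimage hf),
    fun Z hZ Z' hZ' he => h.eq_of_preimage_eq (isLQC_iff_preimage_val.2 hZ)
      (isLQC_iff_preimage_val.2 hZ') he, fun Z hZ => ?_⟩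
  obtain ⟨Z', hZ', he⟩ := h.exists_isLQC (isLQC_iff_preimage_val.2 hZ)
  exact ⟨Z', isLQC_iff_preimage_val.1 hZ', he⟩

end Groth.Agent.S12127
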