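import Groth.Statements.S12129
import Groth.Agent.Ega2Proj.CurveCompletion

set_option autoImplicit false
universe u
open EGA2

namespace Groth.Agent.S12129

open AlgebraicGeometry CategoryTheory in
/-- Let X be a scheme of finite type over a field k. Then the local ring of X at every closed point has
dimension one if and only if the irreducible closed subsets of X other than its irreducible
components are exactly the (singletons of) closed points of X — that is, every irreducible closed
subset which is not an irreducible component is a closed point, and no closed point is by itself an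
irreducible component. -/
theorem result (k : Type u) [Field k] (X : Scheme.{u})
    [X.Over (Spec (CommRingCat.of k))] [LocallyOfFiniteType (X ↘ (Spec (CommRingCat.of k)))]
    [QuasiCompact (X ↘ (Spec (CommRingCat.of k)))] :
    (∀ x : X, IsClosed ({x} : Set X) → ringKrullDim (X.presheaf.stalk x) = 1) ↔
      ((∀ F : Set X, IsClosed F → IsIrreducible F → F ∉ irreducibleComponents (X : Type u) →
          ∃ x : X, IsClosed ({x} : Set X) ∧ F = {x}) ∧
        ∀ x : X, IsClosed ({x} : Set X) → ({x} : Set X) ∉ irreducibleComponents (X : Type u)) := by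
  haveI : JacobsonSpace X := LocallyOfFiniteType.jacobsonSpace (X ↘ (Spec (CommRingCat.of k)))
  have hdim : ∀ x : X, ringKrullDim (X.presheaf.stalk x) = 1 ↔ Order.coheight x = 1 := fun x => by
    rw [ringKrullDim_stalk_eq_coheight]
    exact WithBot.coe_inj
  constructor
  · intro H
    refine ⟨fun F hFc hFi hF => ?_, fun x hx hc => ?_⟩
    · obtain ⟨z, hz⟩ := QuasiSober.sober hFi hFc
      have hzc : IsClosed ({z} : Set X) := by
        by_contra hzn
        exact hF (hz.def ▸ Groth.Ega2Proj.CurveCompl.mem_components_of_isMax
          (Groth.Ega2Proj.CurveCompl.isMax_of_not_isClosed H hzn))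
      exact ⟨z, hzc, by rw [← hz.def, hzc.closure_eq]⟩
    · exact Groth.Ega2Proj.CurveCompl.not_isClosed_of_isMax H
        (Groth.Ega2Proj.CurveCompl.isMax_of_mem_components (by rwa [hx.closure_eq])) hx
  · rintro ⟨h1, h2⟩ x hx
    rw [hdim]
    refine le_antisymm ?_ ?_
    · by_contra hc
      obtain ⟨s, hs0, hs⟩ := Order.exists_series_of_le_coheight x (n := 2)
        (by simpa [one_add_one_eq_two] using Order.add_one_le_of_lt (not_le.1 hc))
      have l1 : s ⟨0, by omega⟩ < s ⟨1, by omega⟩ := s.strictMono (by simp [Fin.lt_def])
      have l2 : s ⟨1, by omega⟩ < s ⟨2, by omega⟩ := s.strictMono (by simp [Fin.lt_def])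
      obtain ⟨w, hw, hwe⟩ := h1 (closure {s ⟨1, by omega⟩}) isClosed_closure isIrreducible_singleton.closure
        (fun hF => not_lt_of_ge (Groth.Ega2Proj.CurveCompl.isMax_of_mem_components hF l2.le) l2)
      have hmem : s ⟨0, by omega⟩ ∈ closure ({s ⟨1, by omega⟩} : Set X) :=
        (specializes_iff_mem_closure.1 (l1.le : s ⟨1, by omega⟩ ⤳ s ⟨0, by omega⟩))
      have hself : s ⟨1, by omega⟩ ∈ closure ({s ⟨1, by omega⟩} : Set X) := subset_closure rfl
      rw [hwe, Set.mem_singleton_iff] at hmem hself
      exact l1.ne (hmem.trans hself.symm)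
    · by_contra hc
      refine h2 x hx ?_
      have := Groth.Ega2Proj.CurveCompl.mem_components_of_isMax
        (Order.coheight_eq_zero.1 (ENat.lt_one_iff_eq_zero.1 (not_le.1 hc)))
      rwa [hx.closure_eq] at this

end Groth.Agent.S12129
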