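import Groth.Statements.S12130
import Groth.Agent.EtaleAlgebra.CurveLevel
import Groth.Agent.VarietyBC.NormDimOne
import Groth.Agent.VarietyBC.BC
import Groth.Agent.HTopHyper.SchemeBasic
import Groth.Agent.FBaseGeom.PurelyInsep
import Mathlib.RingTheory.Spectrum.Prime.Homeomorph
-- import your own Groth.Agent.* helpers here

set_option autoImplicit false
set_option linter.style.haveILetI false
universe u
open Unram17

namespace Groth.Agent.S12130

section Helpers
open CategoryTheory AlgebraicGeometry TensorProduct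

/-- Smoothness of the normalization does not depend on the presentation of the domain. -/
theorem smooth_congr {E R R' L : Type u} [Field E] [CommRing R] [IsDomain R] [CommRing R'] [IsDomain R']
    [Field L] [Algebra R' L] [IsFractionRing R' L] (ε : R ≃+* R') (ι : E →+* R)
    (h : ∀ (L' : Type u) [Field L'] [Algebra R L'] [IsFractionRing R L'],
      ((algebraMap R (integralClosure R L')).comp ι).Smooth) :
    ((algebraMap R' (integralClosure R' L)).comp (ε.toRingHom.comp ι)).Smooth := by
  letI : Algebra R L := ((algebraMap R' L).comp ε.toRingHom).toAlgebra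
  haveI : IsFractionRing R L := by
    have h1 := IsLocalization.isLocalization_of_base_ringEquiv (nonZeroDivisors R') L ε.symm
    rw [MulEquivClass.map_nonZeroDivisors] at h1
    exact h1
  letI : Algebra R R' := ε.toRingHom.toAlgebra
  haveI : IsScalarTower R R' L := IsScalarTower.of_algebraMap_eq fun _ => rfl
  haveI : Algebra.IsIntegral R R' := ⟨fun x => ε.apply_symm_apply x ▸ isIntegral_algebraMap⟩
  let Φ : integralClosure R L ≃+* integralClosure R' L :=
    { toFun := fun x => ⟨x.1, x.2.tower_top⟩
      invFun := fun x => ⟨x.1, isIntegral_trans x.1 x.2⟩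
      left_inv := fun _ => rfl
      right_inv := fun _ => rfl
      map_mul' := fun _ _ => rfl
      map_add' := fun _ _ => rfl }
  have h2 := RingHom.Smooth.respectsIso.1 _ Φ (h L)
  exact h2

/-- The base change of an irreducible algebra along a purely inseparable extension is irreducible. -/
theorem nilradical_isPrime (k E A : Type u) [Field k] [Field E] [Algebra k E] [IsPurelyInseparable k E]
    [CommRing A] [IsDomain A] [Algebra k A] : (nilradical (E ⊗[k] A)).IsPrime := by
  rw [← PrimeSpectrum.irreducibleSpace_iff_isPrime_nilradical]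
  have h := (PrimeSpectrum.isHomeomorph_comap_of_isPurelyInseparable k E A).comp
    (PrimeSpectrum.isHomeomorph_comap_of_bijective (f := (Algebra.TensorProduct.comm k A E).toRingHom)
      (Algebra.TensorProduct.comm k A E).bijective)
  haveI := h.isOpenEmbedding.preirreducibleSpace
  exact ⟨⟨(h.surjective (Classical.arbitrary _)).choose⟩⟩

variable {k : Type u} [Field k] {X : Scheme.{u}} [X.Over (Spec (CommRingCat.of k))]
  (E : Type u) [Field E] [Algebra k E]

open Groth.VarietyBC in
/-- The sections of the reduced base change over the preimage of an affine open. -/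
theorem exists_chart {U : X.Opens} (hU : IsAffineOpen U) :
    letI := (openMap (k := k) hU).toAlgebra
    ∃ (V : (Curv2.bc k X E).nilradical.subscheme.Opens),
      IsAffineOpen V ∧ V = ((Curv2.bc k X E).nilradical.subschemeι ≫ Curv2.bcFst k X E) ⁻¹ᵁ U ∧
      ∃ ε : ((E ⊗[k] Γ(X, U)) ⧸ nilradical (E ⊗[k] Γ(X, U))) ≃+* Γ((Curv2.bc k X E).nilradical.subscheme, V),
        ε.toRingHom.comp (algebraMap E ((E ⊗[k] Γ(X, U)) ⧸ nilradical (E ⊗[k] Γ(X, U)))) =
          ((Scheme.ΓSpecIso (CommRingCat.of E)).inv ≫
            ((Curv2.bc k X E).nilradical.subschemeι ≫ Curv2.bcSnd k X E).appLE ⊤ V le_top).hom := by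
  letI := (openMap (k := k) hU).toAlgebra
  let A := Γ(X, U)
  have hm : OverSpec (k := k) A hU.fromSpec := ⟨fromSpec_str hU⟩
  let t := tensorTo E hm
  haveI : IsOpenImmersion hU.fromSpec := hU.isOpenImmersion_fromSpec
  haveI : IsOpenImmersion t := isOpenImmersion_tensorTo E hm
  let B := Curv2.bc k X E
  let V₀ : B.Opens := t ''ᵁ ⊤
  have hV₀ : IsAffineOpen V₀ := (isAffineOpen_top _).image_of_isOpenImmersion t
  let ι := B.nilradical.subschemeι
  refine ⟨ι ⁻¹ᵁ V₀, hV₀.preimage ι, ?_, ?_⟩
  · rw [Scheme.Hom.comp_preimage]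
    congr 1
    ext p
    show p ∈ (t ''ᵁ ⊤ : Set B) ↔ p ∈ (Curv2.bcFst k X E) ⁻¹' (U : Set X)
    rw [← hU.range_fromSpec, ← range_tensorTo E hm]
    simp [t]
  let ψ : Γ(B, V₀) ≃+* E ⊗[k] A :=
    ((t.appIso ⊤) ≪≫ Scheme.ΓSpecIso _).commRingCatIsoToRingEquiv.trans
      (Algebra.TensorProduct.comm k A E).toRingEquiv
  have hψ : ∀ x : E, ψ ((Curv2.bcSnd k X E).appLE ⊤ V₀ le_top
      ((Scheme.ΓSpecIso (CommRingCat.of E)).inv x)) = algebraMap E (E ⊗[k] A) x := by
    intro x
    have h1 : (Scheme.ΓSpecIso (CommRingCat.of E)).inv ≫ (Curv2.bcSnd k X E).appLE ⊤ V₀ le_top ≫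
        (t.appIso ⊤).hom ≫ (Scheme.ΓSpecIso _).hom =
        CommRingCat.ofHom (Algebra.TensorProduct.includeRight (R := k) (A := A) (B := E)).toRingHom := by
      rw [Scheme.Hom.appIso_hom', Scheme.Hom.appLE_comp_appLE_assoc]
      simp only [tensorTo_snd E hm, t]
      rw [Iso.inv_comp_eq]
      refine Eq.trans ?_ (Scheme.ΓSpecIso_naturality _)
      congr 1
    show (Algebra.TensorProduct.comm k A E) _ = _
    refine (congrArg (Algebra.TensorProduct.comm k A E) (congr($h1 x))).trans ?_
    simp
  let I := B.nilradical.ideal ⟨V₀, hV₀⟩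
  have hI : I.map (ψ : Γ(B, V₀) →+* E ⊗[k] A) = nilradical (E ⊗[k] A) := by
    have : I = nilradical Γ(B, V₀) := rfl
    rw [this]
    refine le_antisymm (Ideal.map_le_iff_le_comap.2 fun z hz =>
      mem_nilradical.2 ((mem_nilradical.1 hz).map ψ)) fun z hz => ?_
    rw [← ψ.apply_symm_apply z]
    exact Ideal.mem_map_of_mem _ (mem_nilradical.2 ((mem_nilradical.1 hz).map ψ.symm))
  let β : Γ(B.nilradical.subscheme, ι ⁻¹ᵁ V₀) ≃+* Γ(B, V₀) ⧸ I :=
    ((RingHom.quotientKerEquivOfSurjective (f := (ι.app V₀).hom)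
      (B.nilradical.subschemeι_app_surjective ⟨V₀, hV₀⟩)).symm).trans
      (Ideal.quotEquivOfEq (B.nilradical.ker_subschemeι_app ⟨V₀, hV₀⟩))
  refine ⟨((Ideal.quotientEquiv I (nilradical (E ⊗[k] A)) ψ hI.symm).symm).trans β.symm, RingHom.ext fun x => ?_⟩
  have h2 : algebraMap E ((E ⊗[k] A) ⧸ nilradical (E ⊗[k] A)) x =
      Ideal.quotientEquiv I (nilradical (E ⊗[k] A)) ψ hI.symm (Ideal.Quotient.mk I
        ((Curv2.bcSnd k X E).appLE ⊤ V₀ le_top ((Scheme.ΓSpecIso (CommRingCat.of E)).inv x))) := by
    rw [Ideal.quotientEquiv_mk, hψ]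
    rfl
  show β.symm ((Ideal.quotientEquiv I (nilradical (E ⊗[k] A)) ψ hI.symm).symm _) = _
  rw [h2, RingEquiv.symm_apply_apply, RingEquiv.symm_apply_eq]
  refine (β.apply_symm_apply _).symm.trans (congrArg β ?_)
  rw [RingEquiv.symm_apply_eq]
  refine (β.apply_symm_apply _).symm.trans (congrArg β ?_)
  show (ι.app V₀) _ = _
  rw [← Scheme.Hom.appLE_comp_appLE ι (Curv2.bcSnd k X E) ⊤ V₀ _ le_top le_rfl,
    Scheme.Hom.app_eq_appLE]
  rfl

end Helpers

open CategoryTheory AlgebraicGeometry in
/-- Let k be a field and X an integral k-scheme of finite type of dimension ≤ 1. Then there is a finite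
purely inseparable field extension k' of k such that the reduced closed subscheme Z = (X_{k'})_red
of the base change X_{k'} is integral and the normalization of Z is smooth over k'. (The published
statement is for an arbitrary k-scheme of finite type of dimension ≤ 1, with the normalization of a
reduced scheme with finitely many irreducible components; this row states the case X integral, where
Z is integral because X_{k'} → X is a homeomorphism. The instance hypotheses on the morphism from
the generic point inside the existential always hold and only serve to form the normalization.) -/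
theorem result (k : Type u) [Field k]
    (X : Scheme.{u}) [X.Over (Spec (CommRingCat.of k))] [IsIntegral X]
    [LocallyOfFiniteType (X ↘ Spec (CommRingCat.of k))] [QuasiCompact (X ↘ Spec (CommRingCat.of k))]
    (hdim : topologicalKrullDim X ≤ 1) :
    ∃ (k' : Type u) (_ : Field k') (_ : Algebra k k'), FiniteDimensional k k' ∧ IsPurelyInseparable k k' ∧
      ∃ (_ : IsIntegral (Curv2.bc k X k').nilradical.subscheme)
        (_ : QuasiCompact ((Curv2.bc k X k').nilradical.subscheme.fromSpecStalk
              (genericPoint (Curv2.bc k X k').nilradical.subscheme)))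
        (_ : QuasiSeparated ((Curv2.bc k X k').nilradical.subscheme.fromSpecStalk
              (genericPoint (Curv2.bc k X k').nilradical.subscheme))),
        Smooth (Curv2.normalizationι (Curv2.bc k X k').nilradical.subscheme ≫
          (Curv2.bc k X k').nilradical.subschemeι ≫ Curv2.bcSnd k X k') := by
  classical
  let P := perfectClosure k (AlgebraicClosure k)
  let str := X ↘ Spec (CommRingCat.of k)
  haveI : CompactSpace X := QuasiCompact.compactSpace_of_compactSpace str
  haveI : IsLocallyNoetherian X := LocallyOfFiniteType.isLocallyNoetherian str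
  -- a finite cover by nonempty affines
  let J := {U : X.Opens // IsAffineOpen U ∧ (U : Set X).Nonempty}
  obtain ⟨T, hT⟩ := CompactSpace.elim_nhds_subcover (fun x : X => ((exists_isAffineOpen_mem_and_subset
    (x := x) (U := (⊤ : X.Opens)) trivial).choose : Set X))
    fun x => (exists_isAffineOpen_mem_and_subset (x := x) (U := (⊤ : X.Opens)) trivial).choose.2.mem_nhds
      (exists_isAffineOpen_mem_and_subset (x := x) (U := (⊤ : X.Opens)) trivial).choose_spec.2.1
  have hlevel : ∀ U : J, ∃ S : Finset P, ∀ (E : Type u) [Field E] [Algebra k E] [Algebra E P]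
      [IsScalarTower k E P], (S : Set P) ⊆ Set.range (algebraMap E P) →
      letI := (Groth.VarietyBC.openMap (k := k) U.2.1).toAlgebra
      ∀ [(nilradical (TensorProduct k E Γ(X, U.1))).IsPrime] (L : Type u) [Field L]
        [Algebra ((TensorProduct k E Γ(X, U.1)) ⧸ nilradical (TensorProduct k E Γ(X, U.1))) L]
        [IsFractionRing ((TensorProduct k E Γ(X, U.1)) ⧸ nilradical (TensorProduct k E Γ(X, U.1))) L],
        ((algebraMap ((TensorProduct k E Γ(X, U.1)) ⧸ nilradical (TensorProduct k E Γ(X, U.1)))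
            (integralClosure ((TensorProduct k E Γ(X, U.1)) ⧸ nilradical (TensorProduct k E Γ(X, U.1))) L)).comp
          (algebraMap E ((TensorProduct k E Γ(X, U.1)) ⧸ nilradical (TensorProduct k E Γ(X, U.1))))).Smooth := by
    intro U
    letI := (Groth.VarietyBC.openMap (k := k) U.2.1).toAlgebra
    haveI : Nonempty U.1.toScheme := U.2.2.to_subtype
    haveI : Algebra.FiniteType k Γ(X, U.1) := by
      have h1 : LocallyOfFiniteType (U.2.1.fromSpec ≫ str) := by
        haveI := U.2.1.isOpenImmersion_fromSpec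
        infer_instance
      rw [Groth.VarietyBC.fromSpec_str U.2.1, HasRingHomProperty.Spec_iff (P := @LocallyOfFiniteType)] at h1
      exact h1
    haveI : Ring.KrullDimLE 1 Γ(X, U.1) := by
      rw [Ring.krullDimLE_iff, ← PrimeSpectrum.topologicalKrullDim_eq_ringKrullDim]
      exact ((U.2.1.isOpenImmersion_fromSpec.base_open.isInducing.topologicalKrullDim_le).trans hdim)
    haveI := nilradical_isPrime k P Γ(X, U.1)
    exact Groth.EtaleAlgebra.CurveLevel.exists_level
  choose S hS using hlevel
  let V : X → J := fun x => ⟨(exists_isAffineOpen_mem_and_subset (x := x) (U := (⊤ : X.Opens)) trivial).choose,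
    (exists_isAffineOpen_mem_and_subset (x := x) (U := (⊤ : X.Opens)) trivial).choose_spec.1,
    x, (exists_isAffineOpen_mem_and_subset (x := x) (U := (⊤ : X.Opens)) trivial).choose_spec.2.1⟩
  obtain ⟨F, _, _, _, _, hfd, hpi, hSF⟩ : ∃ (F : Type u) (_ : Field F) (_ : Algebra k F) (_ : Algebra F P)
      (_ : IsScalarTower k F P), FiniteDimensional k F ∧ IsPurelyInseparable k F ∧
      ∀ x ∈ T, (S (V x) : Set P) ⊆ Set.range (algebraMap F P) := by
    let G : IntermediateField k P := IntermediateField.adjoin k ((T.biUnion fun x => S (V x)) : Set P)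
    refine ⟨G, inferInstance, inferInstance, inferInstance, inferInstance,
      IntermediateField.finiteDimensional_adjoin fun z _ => Algebra.IsIntegral.isIntegral z,
      IsPurelyInseparable.tower_bot k G P, fun x hx z hz => ?_⟩
    exact ⟨⟨z, IntermediateField.subset_adjoin k _
      (by simp only [Finset.coe_biUnion, Set.mem_iUnion]; exact ⟨x, hx, hz⟩)⟩, rfl⟩
  let B := Curv2.bc k X F
  let Z := B.nilradical.subscheme
  let p : Z ⟶ X := B.nilradical.subschemeι ≫ Curv2.bcFst k X F
  let g : Z ⟶ Spec (CommRingCat.of F) := B.nilradical.subschemeι ≫ Curv2.bcSnd k X F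
  haveI : IsIntegral Z := by
    have hb : IsHomeomorph (Curv2.bcFst k X F) :=
      Groth.FBaseGeom.isUnivHomeo_specMap (k := k) (k' := F) _ _ _
        (IsPullback.of_hasPullback str (Spec.map (CommRingCat.ofHom (algebraMap k F))))
    have hi := Groth.HTopHyper.isHomeomorph_of_isUnivHomeo
      (Groth.HTopHyper.isUnivHomeo_of_surjective_closedImmersion B.nilradical.subschemeι)
    have hp : IsHomeomorph p := hb.comp hi
    haveI := hp.isOpenEmbedding.preirreducibleSpace
    haveI : IrreducibleSpace Z := ⟨⟨(hp.surjective (Classical.arbitrary _)).choose⟩⟩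
    exact isIntegral_of_irreducibleSpace_of_isReduced _
  haveI hqc : QuasiCompact (Z.fromSpecStalk (genericPoint Z)) := inferInstance
  haveI hqs : QuasiSeparated (Z.fromSpecStalk (genericPoint Z)) := inferInstance
  refine ⟨F, inferInstance, inferInstance, inferInstance, inferInstance, inferInstance, hqc, hqs, ?_⟩
  choose W hW hWeq ε hε using fun x : T => exists_chart (k := k) (X := X) F (U := (V x.1).1) (V x.1).2.1
  have hcov : ⨆ x : T, Curv2.normalizationι Z ⁻¹ᵁ W x = ⊤ := by
    refine top_le_iff.1 fun z _ => ?_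
    have hz : p (Curv2.normalizationι Z z) ∈ (⊤ : Set X) := trivial
    rw [← hT] at hz
    obtain ⟨x, hx, hxz⟩ := Set.mem_iUnion₂.1 hz
    refine TopologicalSpace.Opens.mem_iSup.2 ⟨⟨x, hx⟩, ?_⟩
    show Curv2.normalizationι Z z ∈ W ⟨x, hx⟩
    rw [hWeq]
    exact hxz
  haveI : IsAffineHom (Curv2.normalizationι Z) :=
    inferInstanceAs (IsAffineHom (Z.fromSpecStalk (genericPoint Z)).fromNormalization)
  rw [HasRingHomProperty.iff_of_iSup_eq_top (P := @Smooth) (fun x : T =>
    ⟨Curv2.normalizationι Z ⁻¹ᵁ W x, (hW x).preimage _⟩) hcov]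
  intro x
  letI := (Groth.VarietyBC.openMap (k := k) (V x.1).2.1).toAlgebra
  haveI : Nonempty (V x.1).1.toScheme := (V x.1).2.2.to_subtype
  haveI hpr := nilradical_isPrime k F Γ(X, (V x.1).1)
  haveI : IsDomain ((TensorProduct k F Γ(X, (V x.1).1)) ⧸ nilradical (TensorProduct k F Γ(X, (V x.1).1))) :=
    Ideal.Quotient.isDomain _
  haveI : Nonempty (W x).toScheme := by
    haveI : Surjective B.nilradical.subschemeι := inferInstance
    haveI : Surjective (Curv2.bcFst k X F) := MorphismProperty.pullback_fst _ _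
      (Groth.HTopHyper.surjective_of_isUnivHomeo (Groth.FBaseGeom.isUnivHomeo_specMap (k := k) (k' := F)))
    obtain ⟨q, hq⟩ := p.surjective (V x.1).2.2.choose
    refine ⟨⟨q, ?_⟩⟩
    rw [hWeq]
    show p q ∈ (V x.1).1
    rw [hq]
    exact (V x.1).2.2.choose_spec
  haveI := functionField_isFractionRing_of_isAffineOpen Z (W x) (hW x)
  obtain ⟨e, he⟩ := Groth.VarietyBC.exists_algEquiv_normalization Z (W x) (hW x)
  have h1 := smooth_congr (L := Z.functionField) (ε x) (algebraMap F
    ((TensorProduct k F Γ(X, (V x.1).1)) ⧸ nilradical (TensorProduct k F Γ(X, (V x.1).1))))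
    fun L' _ _ _ => hS (V x.1) F (hSF x.1 x.2) L'
  rw [hε] at h1
  have h2 := RingHom.Smooth.respectsIso.1 _ e.symm h1
  have h3 : (Scheme.ΓSpecIso (CommRingCat.of F)).inv.hom ∘ (Scheme.ΓSpecIso (CommRingCat.of F)).hom.hom = id := by
    ext z
    exact congr($((Scheme.ΓSpecIso (CommRingCat.of F)).hom_inv_id) z)
  have h4 := RingHom.Smooth.respectsIso.2 _ (Scheme.ΓSpecIso (CommRingCat.of F)).commRingCatIsoToRingEquiv h2
  refine (iff_of_eq (congrArg RingHom.Smooth (RingHom.ext fun z => ?_))).mp h4
  show e.symm (algebraMap Γ(Z, W x) _ (g.appLE ⊤ (W x) le_top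
    ((Scheme.ΓSpecIso (CommRingCat.of F)).inv ((Scheme.ΓSpecIso (CommRingCat.of F)).hom z)))) = _
  rw [show (Scheme.ΓSpecIso (CommRingCat.of F)).inv ((Scheme.ΓSpecIso (CommRingCat.of F)).hom z) = z from
    congrFun h3 z, RingEquiv.symm_apply_eq, ← he]
  refine congrArg e ?_
  rw [Scheme.Hom.app_eq_appLE]
  exact congr($(Scheme.Hom.appLE_comp_appLE (Curv2.normalizationι Z) g ⊤ (W x) _ le_top le_rfl) z)

end Groth.Agent.S12130
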