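import Groth.Statements.S12131
import Groth.Agent.Ega2Proj.AffineBC
import Groth.Agent.S14448

set_option autoImplicit false
universe u
open EGA2

namespace Groth.Agent.S12131

open AlgebraicGeometry CategoryTheory Scheme.Modules in
/-- Let f : X → S be an affine morphism, g : S' → S a morphism, X' = X ×_S S' with projections g' : X' →
X and f' : X' → S', and F a quasi-coherent O_X-module. Let ρ : F → g'_* g'^* F be the unit of
adjunction and v = f_*(ρ) : f_* F → f_* g'_* g'^* F = g_* f'_* g'^* F; then the map u : g^*(f_* F) →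
f'_*(g'^* F) adjoint to v is an isomorphism. -/
theorem result {X S X' S' : Scheme.{u}} (f : X ⟶ S) (g : S' ⟶ S)
    (g' : X' ⟶ X) (f' : X' ⟶ S') (h : IsPullback g' f' f g) [IsAffineHom f]
    (F : X.Modules) [Coh.IsQCoh F] :
    IsIso (((pullbackPushforwardAdjunction g).homEquiv ((pushforward f).obj F)
        ((pushforward f').obj ((pullback g').obj F))).symm
      ((pushforward f).map ((pullbackPushforwardAdjunction g').unit.app F) ≫
        (pushforwardComp g' f).hom.app ((pullback g').obj F) ≫
        (pushforwardCongr h.w).hom.app ((pullback g').obj F) ≫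
        (pushforwardComp f' g).inv.app ((pullback g').obj F))) := by
  set v := (pushforward f).map ((pullbackPushforwardAdjunction g').unit.app F) ≫
        (pushforwardComp g' f).hom.app ((pullback g').obj F) ≫
        (pushforwardCongr h.w).hom.app ((pullback g').obj F) ≫
        (pushforwardComp f' g).inv.app ((pullback g').obj F) with hv
  haveI : F.IsQuasicoherent := ‹Coh.IsQCoh F›
  refine Groth.LocFree.isIso_of_small_affine _ fun x W hx => ?_
  obtain ⟨U, hU, hgx, -⟩ := exists_isAffineOpen_mem_and_subset (U := (⊤ : S.Opens)) (x := g.base x) trivial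
  obtain ⟨V, hV, hxV, hVW⟩ := exists_isAffineOpen_mem_and_subset (U := W ⊓ g ⁻¹ᵁ U) (x := x) ⟨hx, hgx⟩
  refine ⟨V, hV, hxV, fun y hy => (hVW hy).1, ?_⟩
  refine Groth.Ega2Proj.AffBC.bijective_app f g g' f' h F _ ?_ hU hV (fun y hy => (hVW hy).2)
  intro U V e e' m
  have eq : g' ⁻¹ᵁ f ⁻¹ᵁ U = f' ⁻¹ᵁ g ⁻¹ᵁ U := by
    rw [← Scheme.Hom.comp_preimage, h.w, Scheme.Hom.comp_preimage]
  have e1 := Groth.Agent.S14448.symm_pullSec g (M := (pushforward f).obj F)
    (N := (pushforward f').obj ((pullback g').obj F)) v (U := U) m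
  rw [Groth.PicAux.app_res, e1]
  refine Eq.trans (congrArg (Groth.PicAux.res _ e) ?_) (?_ : Groth.PicAux.res _ e
    (Groth.PicAux.res ((pullback g').obj F) eq.ge (Groth.PicAux.pullSec g' F m) :) = _)
  · simp only [hv, Hom.comp_app, CategoryTheory.comp_apply, pushforwardComp_hom_app_app,
      pushforwardComp_inv_app_app, pushforwardCongr_hom_app_app]
    rfl
  · exact Groth.PicAux.res_res eq.ge (f'.preimage_mono e) _

end Groth.Agent.S12131
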