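import Groth.Statements.S12135
import Groth.Agent.EGA41Two.ConsTop
import Mathlib.Topology.Maps.Proper.CompactlyGenerated

set_option autoImplicit false
universe u
open EGA41

namespace Groth.Agent.S12135

open AlgebraicGeometry Topology in
/-- Let f : X → Y be a morphism of schemes with X and Y quasi-separated, and let X^cons, Y^cons denote
the underlying sets with the constructible topology (generated by the quasi-compact open subsets and
their complements; for quasi-separated schemes the open sets are exactly the ind-constructible
subsets). Then f is quasi-compact if and only if the map X^cons → Y^cons underlying f is proper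
(continuous and universally closed). (The published statement is for arbitrary schemes with the
ind-constructible topology; this row covers the quasi-separated case, where that topology is the one
used here.) -/
theorem result {X Y : Scheme.{u}} [QuasiSeparatedSpace X]
    [QuasiSeparatedSpace Y] (f : X ⟶ Y) :
    QuasiCompact f ↔ @IsProperMap X Y (constructibleTopology X) (constructibleTopology Y) f := by
  have hT2Y : @T2Space Y (constructibleTopology Y) := Groth.SpectralTopology.t2Space_ct
  have key : ∀ {Z : Scheme.{u}} [QuasiSeparatedSpace Z] (U : Z.Opens), IsCompact (U : Set Z) →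
      @IsCompact Z (constructibleTopology Z) (U : Set Z) := by
    intro Z _ U hU
    obtain ⟨t, ht⟩ := hU.elim_finite_subcover (fun W : {W : Z.Opens // IsAffineOpen W ∧ W ≤ U} => (W.1 : Set Z))
      (fun W => W.1.isOpen) fun x hx => by
        obtain ⟨W, hW, hxW, hWU⟩ := exists_isAffineOpen_mem_and_subset (U := U) hx
        exact Set.mem_iUnion.mpr ⟨⟨W, hW, hWU⟩, hxW⟩
    rw [Set.Subset.antisymm ht (Set.iUnion₂_subset fun W _ => W.2.2)]
    exact @Finset.isCompact_biUnion Z _ (constructibleTopology Z) t _ fun W _ => by
      simpa using Groth.EGA41Two.isCompact_ct_opens W.1 W.2.1 (C := Set.univ)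
        (@isClosed_univ _ (constructibleTopology (W.1 : Set Z)))
  constructor
  · intro hf
    have hcont := Groth.SpectralTopology.continuous_ct f.isSpectralMap
    have hlc : @WeaklyLocallyCompactSpace Y (constructibleTopology Y) := by
      refine @WeaklyLocallyCompactSpace.mk Y (constructibleTopology Y) fun y => ?_
      obtain ⟨K, hK, hyK, hKc⟩ := Groth.EGA41Two.exists_isCompact_nhds_ct (X := Y) y
      exact ⟨K, hKc, @IsOpen.mem_nhds Y (constructibleTopology Y) y K hK hyK⟩
    have hcg : @CompactlyCoherentSpace Y (constructibleTopology Y) := by
      let := constructibleTopology Y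
      exact inferInstance
    refine (@isProperMap_iff_isCompact_preimage X Y (constructibleTopology X) (constructibleTopology Y) hT2Y hcg f).mpr
      ⟨hcont, fun K hK => ?_⟩
    obtain ⟨t, ht⟩ := @IsCompact.elim_finite_subcover Y (constructibleTopology Y) K _ hK
      (fun W : Y.affineOpens => (W.1 : Set Y))
      (fun W => Groth.SpectralTopology.isOpen_ct W.1.2 W.2.isCompact) fun y _ => by
        obtain ⟨W, hW, hyW, -⟩ := exists_isAffineOpen_mem_and_subset (X := Y) (U := ⊤) (Set.mem_univ y)
        exact Set.mem_iUnion.mpr ⟨⟨W, hW⟩, hyW⟩
    refine @IsCompact.of_isClosed_subset X (constructibleTopology X) _ _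
      (@Finset.isCompact_biUnion X _ (constructibleTopology X) t (fun W => f ⁻¹' (W.1 : Set Y))
        fun W _ => key (f ⁻¹ᵁ W.1) (f.isCompact_preimage W.2.isCompact))
      (@IsClosed.preimage X Y (constructibleTopology X) (constructibleTopology Y) f hcont K
        (@IsCompact.isClosed Y (constructibleTopology Y) hT2Y K hK)) ?_
    intro x hx
    obtain ⟨W, hW, hxW⟩ := Set.mem_iUnion₂.mp (ht hx)
    exact Set.mem_iUnion₂.mpr ⟨W, hW, hxW⟩
  · intro h
    refine ⟨fun U hU hU' => ?_⟩
    exact Groth.SpectralTopology.isCompact_of_isCompact_ct
      (@IsProperMap.isCompact_preimage X Y (constructibleTopology X) (constructibleTopology Y) f h _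
        (key ⟨U, hU⟩ hU'))

end Groth.Agent.S12135
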