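import Groth.Statements.S12146
import Groth.Agent.RLpsi.Dominant
open Groth.RLpsi

set_option autoImplicit false
universe u
open CategoryTheory CategoryTheory.Limits AlgebraicGeometry TopologicalSpace Opposite
open scoped HomogeneousIdeal
noncomputable section
open EGA2

namespace Groth.Agent.S12146

/-- Let q : X → Y be a morphism with Y affine, L an invertible O_X-module, 𝒮L = ⊕_{n≥0} L^{⊗n} its
graded symmetric algebra (whose Proj, presented with its charts, is identified with X by its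
structure morphism pL), 𝒮 a quasi-coherent positively graded O_Y-algebra with S = Γ(Y, 𝒮), ψ : q^*𝒮
→ 𝒮L a graded homomorphism given as a graded q-morphism u = ψ♭ : 𝒮 → q_*𝒮L, P = Proj(𝒮), and r =
r_{L,ψ} : G(ψ) → P the associated morphism on its open of definition G(ψ) ⊆ Proj(𝒮L). Then r is
dominant if and only if for every n > 0, every s ∈ S_n such that ψ♭(s) ∈ Γ(X, L^{⊗n}) is locally
nilpotent (as a section of the algebra 𝒮L: each point of X has an affine neighbourhood V with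
ψ♭(s)|V nilpotent in 𝒮L(V)) is nilpotent. -/
theorem result {Y X P PL : Scheme.{u}} (q : X ⟶ Y)
    (L : X.Modules) (hL : PicF.IsInvertible L) (hLq : Coh.IsQCoh L)
    (𝒮 : RelProj.QCGrAlg Y) (𝒮L : RelProj.QCGrAlg X) (j : L ⟶ 𝒮L.toModule) (hj : RelProj.IsGrSymAlg L 𝒮L j)
    (u : RelProj.QGrHom q 𝒮 𝒮L)
    (p : P ⟶ Y) (chart : ∀ (U : Y.Opens) (hU : IsAffineOpen U), (((p ⁻¹ᵁ U : P.Opens) : Scheme.{u}) ≅ Proj (𝒮.deg U hU)))
    (hP : RelProj.IsRelProj 𝒮 p chart)
    (pL : PL ⟶ X) (chartL : ∀ (U : X.Opens) (hU : IsAffineOpen U), (((pL ⁻¹ᵁ U : PL.Opens) : Scheme.{u}) ≅ Proj (𝒮L.deg U hU)))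
    (hPL : RelProj.IsRelProj 𝒮L pL chartL)
    (r : ((RelProj.domQ u pL chartL : PL.Opens) : Scheme.{u}) ⟶ P)
    (hr : RelProj.IsProjQMapOn u p chart pL chartL (RelProj.domQ u pL chartL) r)
    (hY : IsAffineOpen (⊤ : Y.Opens)) :
    IsDominant r ↔
      ∀ (n : ℕ), 0 < n → ∀ s ∈ 𝒮.deg ⊤ hY n,
        (∀ x : X, ∃ (V : X.Opens) (_ : IsAffineOpen V), x ∈ V ∧ IsNilpotent ((u.appLE ⊤ V (le_top.trans (Scheme.Hom.preimage_top q).ge)).hom s)) →
          IsNilpotent s := by
  have : L.IsQuasicoherent := hLq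
  rw [isDominant_iff hj hL hPL hP u hr]
  constructor
  · intro h n hn s hs hloc
    by_contra hns
    obtain ⟨x, hx⟩ := h ⊤ hY n hn s hs hns
    obtain ⟨V, hV, hxV, hnil⟩ := hloc x
    exact notMem_nvU_of_nilpotent hj hL u hs (le_pre_top V) hxV hnil hx
  · intro h U hU d hd f hf hnf
    obtain ⟨x, hx⟩ := exists_mem_dp_of_not_nilpotent (chart := chart) hd hf hnf
    obtain ⟨n, s, hn, hs, hxs, hle⟩ := exists_dp_le hP hY (x := x) trivial (O := dp chart U hU f) hx
    by_contra hne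
    rw [Set.not_nonempty_iff_eq_empty] at hne
    refine not_nilpotent_of_mem_dp hn hxs (h n hn s hs fun y => ?_)
    have hbot : nvU u ⊤ n s = ⊥ := by
      refine eq_bot_iff.2 fun w hw => ?_
      obtain ⟨z, rfl⟩ := nvU_le_range hj hL hPL u hn hs hw
      exact hne.le ((mem_dp_iff hj hL hPL hP u hr hd hf z).1 (hle ((mem_dp_iff hj hL hPL hP u hr hn hs z).2 hw)))
    obtain ⟨V, hV, hVU, hyV, hnil⟩ := exists_nilpotent_of_nvU_eq_bot hj hL u hs hn hbot (x := y) trivial
    exact ⟨V, hV, hyV, hnil⟩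

end Groth.Agent.S12146
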