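import Groth.Statements.S1215
import Groth.Agent.RaynaudGruson.FreeEmbedding
import Groth.Agent.RaynaudGruson.FreeEmbeddingHensel
import Groth.Agent.S6338

set_option autoImplicit false
universe u
open FlatMor

namespace Groth.Agent.S1215

/-- Let A → B be a local homomorphism of local rings which is essentially of finite type, with A
henselian, and N a finite B-module flat over A. Then N is a Mittag-Leffler A-module. (The source
moreover writes N as a filtered colimit of free A-modules with transition maps injective modulo 𝔪_A;
only the Mittag-Leffler conclusion is stated here.) -/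
theorem result {A B : Type u} [CommRing A] [HenselianLocalRing A] [CommRing B] [IsLocalRing B] [Algebra A B]
    [IsLocalHom (algebraMap A B)] [Algebra.EssFiniteType A B]
    (N : Type u) [AddCommGroup N] [Module B N] [Module A N] [IsScalarTower A B N] [Module.Finite B N] [Module.Flat A N] :
    CAlg.IsMittagLeffler A N := by
  obtain ⟨R', _, _, p', _, hnhd, C, _, _, _, _, F, _, _, _, _, _, _, _, U, hfree, hreg, j, hj⟩ :=
    Groth.RaynaudGruson.FreeEmbedding.exists_embedding (A := A) (B := B) N
  let A' := Localization.AtPrime p'
  have hbij := Groth.RaynaudGruson.FreeEmbedding.bijective_of_isEtaleNhd p' hnhd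
  haveI : Module.Free A A' := Module.Free.of_equiv (LinearEquiv.ofBijective (Algebra.linearMap A A') hbij)
  haveI := hfree
  haveI : Module.Free A F := Module.Free.trans (R := A) (S := A') (M := F)
  have hm : (IsLocalRing.maximalIdeal A).map (algebraMap A A') = IsLocalRing.maximalIdeal A' :=
    IsLocalRing.map_maximalIdeal_of_surjective _ hbij.2
  have hC : (IsLocalRing.maximalIdeal A).map (algebraMap A C) = (IsLocalRing.maximalIdeal A').map (algebraMap A' C) := by
    rw [IsScalarTower.algebraMap_eq A A' C, ← Ideal.map_map, hm]
  refine Groth.Agent.S6338.result A j (fun Q _ _ => (LinearMap.lTensor_inj_iff_rTensor_inj Q j).mp (hj Q)) (Groth.RaynaudGruson.LocalizedFree.isMittagLeffler U fun v hv z hz => ?_)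
  rw [hC] at hz ⊢
  exact hreg v hv z hz

end Groth.Agent.S1215
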