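import Groth.Statements.S12151
import Groth.Agent.RLpsi.Affine
open Groth.RLpsi

set_option autoImplicit false
universe u
open CategoryTheory CategoryTheory.Limits AlgebraicGeometry TopologicalSpace Opposite
open scoped HomogeneousIdeal
noncomputable section
open EGA2

namespace Groth.Agent.S12151

/-- Let q : X → Y be a morphism with Y affine, L an invertible O_X-module with 𝒮L = ⊕ L^{⊗n} (whose Proj
is X), 𝒮 a quasi-coherent positively graded O_Y-algebra with S = Γ(Y, 𝒮), ψ♭ = u : 𝒮 → q_*𝒮L a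
graded q-morphism and r = r_{L,ψ} : G(ψ) → P = Proj(𝒮). For a family s_a ∈ S_{n_a} (n_a > 0) put f_a
= ψ♭(s_a) ∈ Γ(X, L^{⊗n_a}) and let X_{f_a} be the open where f_a does not vanish; conditions: (i)
the X_{f_a} cover X; (ii) the X_{f_a} are affine; (iii) every function t on X_{f_a} is of the form
ψ♭(s') f_a^{-m} with m > 0 and s' ∈ S_{m n_a} (that is, t f_a^m = ψ♭(s') in 𝒮L(X_{f_a})); (iv) for
every m > 0 and s' ∈ S_{m n_a} with ψ♭(s')|X_{f_a} = 0 there is k > 0 with s_a^k s' = 0. Then r is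
everywhere defined and an open immersion if and only if there is a family (s_a) satisfying (i),
(ii), (iii) and (iv). -/
theorem result {Y X P PL : Scheme.{u}} (q : X ⟶ Y)
    (L : X.Modules) (hL : PicF.IsInvertible L) (hLq : Coh.IsQCoh L)
    (𝒮 : RelProj.QCGrAlg Y) (𝒮L : RelProj.QCGrAlg X) (j : L ⟶ 𝒮L.toModule) (hj : RelProj.IsGrSymAlg L 𝒮L j)
    (u : RelProj.QGrHom q 𝒮 𝒮L)
    (p : P ⟶ Y) (chart : ∀ (U : Y.Opens) (hU : IsAffineOpen U), (((p ⁻¹ᵁ U : P.Opens) : Scheme.{u}) ≅ Proj (𝒮.deg U hU)))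
    (hP : RelProj.IsRelProj 𝒮 p chart)
    (pL : PL ⟶ X) (chartL : ∀ (U : X.Opens) (hU : IsAffineOpen U), (((pL ⁻¹ᵁ U : PL.Opens) : Scheme.{u}) ≅ Proj (𝒮L.deg U hU)))
    (hPL : RelProj.IsRelProj 𝒮L pL chartL)
    (r : ((RelProj.domQ u pL chartL : PL.Opens) : Scheme.{u}) ⟶ P)
    (hr : RelProj.IsProjQMapOn u p chart pL chartL (RelProj.domQ u pL chartL) r)
    (hY : IsAffineOpen (⊤ : Y.Opens)) :
    (RelProj.domQ u pL chartL = ⊤ ∧ IsOpenImmersion r) ↔
      ∃ (ι : Type u) (n : ι → ℕ) (s : ι → 𝒮.presheaf.obj (op ⊤)) (XT : ι → X.Opens),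
        (∀ a, 0 < n a ∧ s a ∈ 𝒮.deg ⊤ hY (n a)) ∧
        (∀ a, XT a = (⨆ V : {V : X.affineOpens //
          ((𝒮L.deg V.1 V.2 (n a) : AddSubgroup (𝒮L.presheaf.obj (op (V.1 : X.Opens)))) : Set (𝒮L.presheaf.obj (op (V.1 : X.Opens)))) ⊆
            (Ideal.span {(u.appLE ⊤ (V.1 : X.Opens) (le_top.trans (Scheme.Hom.preimage_top q).ge)).hom (s a)} : Set (𝒮L.presheaf.obj (op (V.1 : X.Opens))))},
          (V.1.1 : X.Opens))) ∧
        (⨆ a, XT a) = ⊤ ∧ (∀ a, IsAffineOpen (XT a)) ∧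
        (∀ (a : ι) (t : X.presheaf.obj (op (XT a))), ∃ (m : ℕ) (_ : 0 < m) (s' : 𝒮.presheaf.obj (op ⊤)) (_ : s' ∈ 𝒮.deg ⊤ hY (m * n a)),
            (𝒮L.str.app (op (XT a))).hom t * ((u.appLE ⊤ (XT a) (le_top.trans (Scheme.Hom.preimage_top q).ge)).hom (s a)) ^ m =
              (u.appLE ⊤ (XT a) (le_top.trans (Scheme.Hom.preimage_top q).ge)).hom s') ∧
        (∀ (a : ι) (m : ℕ), 0 < m → ∀ s' ∈ 𝒮.deg ⊤ hY (m * n a),
            (u.appLE ⊤ (XT a) (le_top.trans (Scheme.Hom.preimage_top q).ge)).hom s' = 0 → ∃ (k : ℕ), 0 < k ∧ (s a) ^ k * s' = 0) := by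
  have : L.IsQuasicoherent := hLq
  constructor
  · rintro ⟨htop, himm⟩
    have hex : ∀ z : ((RelProj.domQ u pL chartL : PL.Opens) : Scheme.{u}), ∃ (d : ℕ) (f : 𝒮.presheaf.obj (op ⊤)),
        0 < d ∧ f ∈ 𝒮.deg ⊤ hY d ∧ r.base z ∈ dp chart ⊤ hY f ∧ dp chart ⊤ hY f ≤ r.opensRange :=
      fun z => exists_dp_le hP hY (x := r.base z) trivial ⟨z, rfl⟩
    choose d f hd hf hz hle using hex
    have hiso := fun z => isIso_restrict_of_le r _ (hle z)
    refine ⟨_, d, f, fun z => nvU u ⊤ (d z) (f z), fun z => ⟨hd z, hf z⟩, fun z => (nvU_top_eq u (d z) (f z)).symm,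
      eq_top_iff.2 fun x _ => ?_, fun z => ?_, fun z t => ?_, fun z => ?_⟩
    · have := Groth.RelTw.isIso_p hj hPL hL
      let z : ((RelProj.domQ u pL chartL : PL.Opens) : Scheme.{u}) := ⟨(inv pL).base x, htop ▸ trivial⟩
      have hzx : (π u pL chartL).base z = x := by
        change (inv pL ≫ pL).base x = x
        rw [IsIso.inv_hom_id]; rfl
      exact Opens.mem_iSup.2 ⟨z, hzx ▸ (mem_dp_iff hj hL hPL hP u hr (hd z) (hf z) z).1 (hz z)⟩
    · have := hiso z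
      exact (of_isClosedImmersion_restrict hj hL hPL hP u hr (hd z) (hf z)).1
    · have := hiso z
      exact (surjective_phi_iff hj hL hPL hP u hr (hd z) (hf z)).1
        (of_isClosedImmersion_restrict hj hL hPL hP u hr (hd z) (hf z)).2 t
    · have := hiso z
      exact (injective_phi_iff hj hL hPL hP u hr (hd z) (hf z)).1
        (injective_phi_of_isIso hj hL hPL hP u hr (hd z) (hf z))
  · rintro ⟨ι, n, s, XT, hs, hXT, hcov, haff, hsurj, hinj⟩
    obtain rfl : XT = fun a => nvU u ⊤ (n a) (s a) := funext fun a => (hXT a).trans (nvU_top_eq u (n a) (s a))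
    have htop : RelProj.domQ u pL chartL = ⊤ := mem_domQ_of_forall hj hL hPL u fun x => by
      obtain ⟨a, ha⟩ := Opens.mem_iSup.1 (hcov.ge (trivial : x ∈ (⊤ : X.Opens)))
      exact ⟨⊤, hY, n a, s a, (hs a).1, (hs a).2, ha⟩
    have hmem : ∀ z, ∃ a, r.base z ∈ dp chart ⊤ hY (s a) := fun z => by
      obtain ⟨a, ha⟩ := Opens.mem_iSup.1 (hcov.ge (trivial : (π u pL chartL).base z ∈ (⊤ : X.Opens)))
      exact ⟨a, (mem_dp_iff hj hL hPL hP u hr (hs a).1 (hs a).2 z).2 ha⟩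
    have hsur := fun a => (surjective_phi_iff hj hL hPL hP u hr (hs a).1 (hs a).2).2 (hsurj a)
    refine ⟨htop, isOpenImmersion_of_cover_range r (fun a => dp chart ⊤ hY (s a)) hmem fun a => ?_⟩
    have := isIso_restrict hj hL hPL hP u hr (hs a).1 (hs a).2 (haff a)
      ⟨(injective_phi_iff hj hL hPL hP u hr (hs a).1 (hs a).2).2 (hinj a), hsur a⟩
    infer_instance

end Groth.Agent.S12151
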