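import Groth.Statements.S12153
import Groth.Agent.RLpsi.Comp
open Groth.RLpsi

set_option autoImplicit false
universe u
open CategoryTheory CategoryTheory.Limits AlgebraicGeometry TopologicalSpace Opposite
open scoped HomogeneousIdeal
noncomputable section
open EGA2

namespace Groth.Agent.S12153

/-- Let q : X → Y be a morphism, L an invertible O_X-module with 𝒮L = ⊕ L^{⊗n} (whose Proj, with its
charts, is X), v : 𝒯 → 𝒮 a graded homomorphism of quasi-coherent positively graded O_Y-algebras, ψ♭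
= u : 𝒮 → q_*𝒮L a graded q-morphism and ψ'♭ = u' its composite with v; let r = r_{L,ψ} : G(ψ) →
Proj(𝒮) and r' = r_{L,ψ'} : G(ψ') → Proj(𝒯). If r' is everywhere defined and an immersion, then r is
everywhere defined and an immersion. -/
theorem result {Y X P PL P' : Scheme.{u}} (q : X ⟶ Y)
    (L : X.Modules) (hL : PicF.IsInvertible L) (hLq : Coh.IsQCoh L)
    (𝒮 : RelProj.QCGrAlg Y) (𝒮L : RelProj.QCGrAlg X) (j : L ⟶ 𝒮L.toModule) (hj : RelProj.IsGrSymAlg L 𝒮L j)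
    (u : RelProj.QGrHom q 𝒮 𝒮L)
    (p : P ⟶ Y) (chart : ∀ (U : Y.Opens) (hU : IsAffineOpen U), (((p ⁻¹ᵁ U : P.Opens) : Scheme.{u}) ≅ Proj (𝒮.deg U hU)))
    (hP : RelProj.IsRelProj 𝒮 p chart)
    (pL : PL ⟶ X) (chartL : ∀ (U : X.Opens) (hU : IsAffineOpen U), (((pL ⁻¹ᵁ U : PL.Opens) : Scheme.{u}) ≅ Proj (𝒮L.deg U hU)))
    (hPL : RelProj.IsRelProj 𝒮L pL chartL)
    (r : ((RelProj.domQ u pL chartL : PL.Opens) : Scheme.{u}) ⟶ P)
    (hr : RelProj.IsProjQMapOn u p chart pL chartL (RelProj.domQ u pL chartL) r)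
    (𝒯 : RelProj.QCGrAlg Y) (v : 𝒯.toQCAlg ⟶ 𝒮.toQCAlg) (hv : RelProj.IsGradedHom v)
    (u' : RelProj.QGrHom q 𝒯 𝒮L) (hu' : ∀ U : Y.Opens, u'.app U = v.hom.app (op U) ≫ u.app U)
    (p' : P' ⟶ Y) (chart' : ∀ (U : Y.Opens) (hU : IsAffineOpen U), (((p' ⁻¹ᵁ U : P'.Opens) : Scheme.{u}) ≅ Proj (𝒯.deg U hU)))
    (hP' : RelProj.IsRelProj 𝒯 p' chart')
    (r' : ((RelProj.domQ u' pL chartL : PL.Opens) : Scheme.{u}) ⟶ P')
    (hr' : RelProj.IsProjQMapOn u' p' chart' pL chartL (RelProj.domQ u' pL chartL) r')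
    (hdef : RelProj.domQ u' pL chartL = ⊤) (himm : IsImmersion r') :
    RelProj.domQ u pL chartL = ⊤ ∧ IsImmersion r := by
  have : L.IsQuasicoherent := hLq
  have htop : RelProj.domQ u pL chartL = ⊤ := mem_domQ_of_forall hj hL hPL u fun x => by
    obtain ⟨U, hU, hxU, -⟩ := exists_isAffineOpen_mem_and_subset (x := q.base x) (U := (⊤ : Y.Opens)) trivial
    obtain ⟨d, g, hd, hg, hx⟩ := exists_nvU_of_top hj hL hPL hP' u' hr' hdef x hU hxU
    exact ⟨U, hU, d, _, hd, hv U hU d g hg, nvU_comp u hu' U d g ▸ hx⟩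
  have key : ∀ z : ((RelProj.domQ u pL chartL : PL.Opens) : Scheme.{u}), ∃ (U : Y.Opens) (hU : IsAffineOpen U) (d : ℕ)
      (g : 𝒯.presheaf.obj (op U)), 0 < d ∧ g ∈ 𝒯.deg U hU d ∧ r.base z ∈ dp chart U hU ((v.hom.app (op U)).hom g) ∧
        dp chart' U hU g ≤ (⟨coborder (Set.range r'.base), r'.isLocallyClosed_range.isOpen_coborder⟩ : P'.Opens) := by
    intro z
    let z' : ((RelProj.domQ u' pL chartL : PL.Opens) : Scheme.{u}) := ⟨z.1, hdef.ge trivial⟩
    obtain ⟨U, hU, hxU, -⟩ := exists_isAffineOpen_mem_and_subset (x := p'.base (r'.base z')) (U := (⊤ : Y.Opens)) trivial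
    obtain ⟨d, g, hd, hg, hzg, hle⟩ := exists_dp_le hP' hU hxU (x := r'.base z') (O := (⟨coborder (Set.range r'.base), r'.isLocallyClosed_range.isOpen_coborder⟩ : P'.Opens)) (subset_coborder ⟨z', rfl⟩)
    refine ⟨U, hU, d, g, hd, hg, (mem_dp_iff hj hL hPL hP u hr hd (hv U hU d g hg) z).2 ?_, hle⟩
    have h1 := (mem_dp_iff hj hL hPL hP' u' hr' hd hg z').1 hzg
    rw [nvU_comp u hu'] at h1
    exact h1
  choose U hU d g hd hg hz hle using key
  refine ⟨htop, isImmersion_of_cover_range r (fun z => dp chart (U z) (hU z) ((v.hom.app (op (U z))).hom (g z)))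
    (fun z => ⟨z, hz z⟩) fun z => ?_⟩
  have := isClosedImmersion_restrict_of_le r' _ (hle z)
  have := isClosedImmersion_piece_comp hj hL hPL hP u hr hP' hr' hv hu' (hd z) (hg z)
  infer_instance

end Groth.Agent.S12153
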