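import Groth.Statements.S12154
import Groth.Agent.RLpsi.Comp
open Groth.RLpsi

set_option autoImplicit false
universe u
open CategoryTheory CategoryTheory.Limits AlgebraicGeometry TopologicalSpace Opposite
open scoped HomogeneousIdeal
noncomputable section
open EGA2

namespace Groth.Agent.S12154

/-- Let q : X → Y be a morphism, L an invertible O_X-module with 𝒮L = ⊕ L^{⊗n} (whose Proj, with its
charts, is X), v : 𝒯 → 𝒮 a graded homomorphism of quasi-coherent positively graded O_Y-algebras, ψ♭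
= u : 𝒮 → q_*𝒮L a graded q-morphism and ψ'♭ = u' its composite with v; let r = r_{L,ψ} : G(ψ) →
Proj(𝒮) and r' = r_{L,ψ'} : G(ψ') → Proj(𝒯), with r' everywhere defined and v (TN)-surjective (v :
𝒯_k → 𝒮_k surjective for all large k, on sections over affine opens). If r' is an open immersion, so
is r; if r' is a closed immersion, so is r. -/
theorem result {Y X P PL P' : Scheme.{u}} (q : X ⟶ Y)
    (L : X.Modules) (hL : PicF.IsInvertible L) (hLq : Coh.IsQCoh L)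
    (𝒮 : RelProj.QCGrAlg Y) (𝒮L : RelProj.QCGrAlg X) (j : L ⟶ 𝒮L.toModule) (hj : RelProj.IsGrSymAlg L 𝒮L j)
    (u : RelProj.QGrHom q 𝒮 𝒮L)
    (p : P ⟶ Y) (chart : ∀ (U : Y.Opens) (hU : IsAffineOpen U), (((p ⁻¹ᵁ U : P.Opens) : Scheme.{u}) ≅ Proj (𝒮.deg U hU)))
    (hP : RelProj.IsRelProj 𝒮 p chart)
    (pL : PL ⟶ X) (chartL : ∀ (U : X.Opens) (hU : IsAffineOpen U), (((pL ⁻¹ᵁ U : PL.Opens) : Scheme.{u}) ≅ Proj (𝒮L.deg U hU)))
    (hPL : RelProj.IsRelProj 𝒮L pL chartL)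
    (r : ((RelProj.domQ u pL chartL : PL.Opens) : Scheme.{u}) ⟶ P)
    (hr : RelProj.IsProjQMapOn u p chart pL chartL (RelProj.domQ u pL chartL) r)
    (𝒯 : RelProj.QCGrAlg Y) (v : 𝒯.toQCAlg ⟶ 𝒮.toQCAlg) (hv : RelProj.IsGradedHom v)
    (u' : RelProj.QGrHom q 𝒯 𝒮L) (hu' : ∀ U : Y.Opens, u'.app U = v.hom.app (op U) ≫ u.app U)
    (p' : P' ⟶ Y) (chart' : ∀ (U : Y.Opens) (hU : IsAffineOpen U), (((p' ⁻¹ᵁ U : P'.Opens) : Scheme.{u}) ≅ Proj (𝒯.deg U hU)))
    (hP' : RelProj.IsRelProj 𝒯 p' chart')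
    (r' : ((RelProj.domQ u' pL chartL : PL.Opens) : Scheme.{u}) ⟶ P')
    (hr' : RelProj.IsProjQMapOn u' p' chart' pL chartL (RelProj.domQ u' pL chartL) r')
    (hTN : ∃ n : ℕ, ∀ k, n ≤ k → ∀ (U : Y.Opens) (hU : IsAffineOpen U), ∀ y ∈ 𝒮.deg U hU k,
      ∃ x ∈ 𝒯.deg U hU k, (v.hom.app (op U)).hom x = y)
    (hdef : RelProj.domQ u' pL chartL = ⊤) :
    (IsOpenImmersion r' → IsOpenImmersion r) ∧ (IsClosedImmersion r' → IsClosedImmersion r) := by
  have : L.IsQuasicoherent := hLq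
  obtain ⟨n, hn⟩ := hTN
  refine ⟨fun hopen => ?_, fun hclosed => ?_⟩
  · have key : ∀ z : ((RelProj.domQ u pL chartL : PL.Opens) : Scheme.{u}), ∃ (U : Y.Opens) (hU : IsAffineOpen U) (d : ℕ)
        (g : 𝒯.presheaf.obj (op U)), 0 < d ∧ g ∈ 𝒯.deg U hU d ∧ r.base z ∈ dp chart U hU ((v.hom.app (op U)).hom g) ∧
          dp chart' U hU g ≤ r'.opensRange := by
      intro z
      let z' : ((RelProj.domQ u' pL chartL : PL.Opens) : Scheme.{u}) := ⟨z.1, hdef.ge trivial⟩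
      obtain ⟨U, hU, hxU, -⟩ := exists_isAffineOpen_mem_and_subset (x := p'.base (r'.base z')) (U := (⊤ : Y.Opens)) trivial
      obtain ⟨d, g, hd, hg, hzg, hle⟩ := exists_dp_le hP' hU hxU (x := r'.base z') (O := r'.opensRange) ⟨z', rfl⟩
      refine ⟨U, hU, d, g, hd, hg, (mem_dp_iff hj hL hPL hP u hr hd (hv U hU d g hg) z).2 ?_, hle⟩
      have h1 := (mem_dp_iff hj hL hPL hP' u' hr' hd hg z').1 hzg
      rw [nvU_comp u hu'] at h1
      exact h1
    choose U hU d g hd hg hz hle using key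
    refine isOpenImmersion_of_cover_range r (fun z => dp chart (U z) (hU z) ((v.hom.app (op (U z))).hom (g z)))
      (fun z => ⟨z, hz z⟩) fun z => ?_
    have := isIso_restrict_of_le r' _ (hle z)
    have := isIso_piece_comp hj hL hPL hP u hr hP' hr' hv hu' (hd z) (hg z) ⟨n, fun k hk => hn k hk (U z) (hU z)⟩
    infer_instance
  · have key : ∀ w : P, ∃ (U : Y.Opens) (hU : IsAffineOpen U) (d : ℕ) (g : 𝒯.presheaf.obj (op U)),
        0 < d ∧ g ∈ 𝒯.deg U hU d ∧ w ∈ dp chart U hU ((v.hom.app (op U)).hom g) := by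
      intro w
      obtain ⟨U, hU, hwU, -⟩ := exists_isAffineOpen_mem_and_subset (x := p.base w) (U := (⊤ : Y.Opens)) trivial
      obtain ⟨d, f, hd, hf, hw⟩ := exists_dp_mem hP hU hwU
      have hfm : f ^ (n + 1) ∈ 𝒮.deg U hU (d * (n + 1)) := by
        have := SetLike.pow_mem_graded (n + 1) hf
        rwa [smul_eq_mul, mul_comm] at this
      obtain ⟨g, hg, hvg⟩ := hn _ (n.le_succ.trans (Nat.le_mul_of_pos_left _ hd)) U hU _ hfm
      exact ⟨U, hU, _, g, Nat.mul_pos hd n.succ_pos, hg, by rwa [hvg, dp_pow n.succ_pos]⟩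
    choose U hU d g hd hg hw using key
    refine IsZariskiLocalAtTarget.of_iSup_eq_top (P := @IsClosedImmersion)
      (fun w => dp chart (U w) (hU w) ((v.hom.app (op (U w))).hom (g w)))
      (eq_top_iff.2 fun w _ => Opens.mem_iSup.2 ⟨w, hw w⟩) fun w => ?_
    have : IsClosedImmersion (r' ∣_ dp chart' (U w) (hU w) (g w)) :=
      IsZariskiLocalAtTarget.restrict (P := @IsClosedImmersion) hclosed _
    exact isClosedImmersion_piece_comp hj hL hPL hP u hr hP' hr' hv hu' (hd w) (hg w)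

end Groth.Agent.S12154
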