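import Groth.Statements.S12159
import Groth.Agent.Ega2Proj2.QMap
import Groth.Agent.RelTwist.ProjInv

set_option autoImplicit false
universe u
open CategoryTheory CategoryTheory.Limits AlgebraicGeometry TopologicalSpace Opposite
open scoped HomogeneousIdeal
noncomputable section
open EGA2

namespace Groth.Agent.S12159

/-- Let Y be a quasi-compact scheme, q : X → Y a quasi-compact morphism, L an invertible O_X-module with
𝒮L = ⊕ L^{⊗n} (whose Proj is X), 𝒮 = colim 𝒮^i a filtered colimit of quasi-coherent positively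
graded O_Y-algebras along graded homomorphisms φ_i : 𝒮^i → 𝒮 (colimit taken on sections over affine
opens), ψ♭ = u : 𝒮 → q_*𝒮L a graded q-morphism and ψ_i♭ = u ∘ φ_i. Then r_{L,ψ} is everywhere
defined if and only if some r_{L,ψ_i} is everywhere defined, and in that case r_{L,ψ_j} is
everywhere defined for all j ≥ i. -/
theorem result {Y X P PL : Scheme.{u}} (q : X ⟶ Y)
    (L : X.Modules) (hL : PicF.IsInvertible L) (hLq : Coh.IsQCoh L)
    (𝒮 : RelProj.QCGrAlg Y) (𝒮L : RelProj.QCGrAlg X) (j : L ⟶ 𝒮L.toModule) (hj : RelProj.IsGrSymAlg L 𝒮L j)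
    (u : RelProj.QGrHom q 𝒮 𝒮L)
    (p : P ⟶ Y) (chart : ∀ (U : Y.Opens) (hU : IsAffineOpen U), (((p ⁻¹ᵁ U : P.Opens) : Scheme.{u}) ≅ Proj (𝒮.deg U hU)))
    (hP : RelProj.IsRelProj 𝒮 p chart)
    (pL : PL ⟶ X) (chartL : ∀ (U : X.Opens) (hU : IsAffineOpen U), (((pL ⁻¹ᵁ U : PL.Opens) : Scheme.{u}) ≅ Proj (𝒮L.deg U hU)))
    (hPL : RelProj.IsRelProj 𝒮L pL chartL)
    [CompactSpace Y] [QuasiCompact q]
    (Λ : Type u) [Preorder Λ] [IsDirected Λ (· ≤ ·)] [Nonempty Λ]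
    (𝒮i : Λ → RelProj.QCGrAlg Y) (φ : ∀ i, (𝒮i i).toQCAlg ⟶ 𝒮.toQCAlg) (hφ : ∀ i, RelProj.IsGradedHom (φ i))
    (t : ∀ i j, i ≤ j → ((𝒮i i).toQCAlg ⟶ (𝒮i j).toQCAlg)) (ht : ∀ i j (h : i ≤ j), RelProj.IsGradedHom (t i j h))
    (hφt : ∀ i j (h : i ≤ j), t i j h ≫ φ j = φ i)
    (hsurj : ∀ (U : Y.Opens), IsAffineOpen U → ∀ x : 𝒮.presheaf.obj (op U),
      ∃ (i : Λ) (y : (𝒮i i).presheaf.obj (op U)), ((φ i).hom.app (op U)).hom y = x)
    (hker : ∀ (U : Y.Opens), IsAffineOpen U → ∀ (i : Λ) (y : (𝒮i i).presheaf.obj (op U)),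
      ((φ i).hom.app (op U)).hom y = 0 → ∃ (j : Λ) (h : i ≤ j), ((t i j h).hom.app (op U)).hom y = 0)
    (ui : ∀ i, RelProj.QGrHom q (𝒮i i) 𝒮L) (hui : ∀ i (U : Y.Opens), (ui i).app U = (φ i).hom.app (op U) ≫ u.app U) :
    (RelProj.domQ u pL chartL = ⊤ ↔ ∃ i, RelProj.domQ (ui i) pL chartL = ⊤) ∧
      ∀ i, RelProj.domQ (ui i) pL chartL = ⊤ → ∀ j, i ≤ j → RelProj.domQ (ui j) pL chartL = ⊤ := by
  haveI : L.IsQuasicoherent := hLq
  haveI := Groth.RelTw.isIso_p hj hPL hL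
  haveI : CompactSpace X := QuasiCompact.compactSpace_of_compactSpace q
  haveI : CompactSpace PL := QuasiCompact.compactSpace_of_compactSpace pL
  have hmono : ∀ i k, i ≤ k → RelProj.domQ (ui i) pL chartL ≤ RelProj.domQ (ui k) pL chartL := by
    intro i k h z hz
    obtain ⟨⟨⟨⟨U, hU⟩, ⟨V, hV⟩⟩, hle⟩, y, hy, rfl⟩ := Opens.mem_iSup.mp hz
    obtain ⟨d, f, hd, hf, hfy⟩ := (Groth.Ega2P2.mem_domOpen_iff (ui i) hU hV hle y).mp hy
    refine Opens.mem_iSup.mpr ⟨⟨(⟨U, hU⟩, ⟨V, hV⟩), hle⟩, y, (Groth.Ega2P2.mem_domOpen_iff (ui k) hU hV hle y).mpr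
      ⟨d, ((t i k h).hom.app (op U)).hom f, hd, ht i k h U hU d f hf, ?_⟩, rfl⟩
    have e : (φ k).hom.app (op U) (((t i k h).hom.app (op U)).hom f) = (φ i).hom.app (op U) f :=
      congr(($(hφt i k h)).hom.app (op U) f)
    have e2 : (ui k).gradedAt U hU V hV hle (((t i k h).hom.app (op U)).hom f) =
        (ui i).gradedAt U hU V hV hle f := by
      change (𝒮L.presheaf.map _).hom (((ui k).app U).hom _) = (𝒮L.presheaf.map _).hom (((ui i).app U).hom f)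
      rw [hui k U, hui i U]
      exact congrArg (fun w => (𝒮L.presheaf.map _).hom ((u.app U).hom w)) e
    exact e2.symm ▸ hfy
  have hle_u : ∀ i, RelProj.domQ (ui i) pL chartL ≤ RelProj.domQ u pL chartL := by
    intro i z hz
    obtain ⟨⟨⟨⟨U, hU⟩, ⟨V, hV⟩⟩, hle⟩, y, hy, rfl⟩ := Opens.mem_iSup.mp hz
    obtain ⟨d, f, hd, hf, hfy⟩ := (Groth.Ega2P2.mem_domOpen_iff (ui i) hU hV hle y).mp hy
    refine Opens.mem_iSup.mpr ⟨⟨(⟨U, hU⟩, ⟨V, hV⟩), hle⟩, y, (Groth.Ega2P2.mem_domOpen_iff u hU hV hle y).mpr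
      ⟨d, ((φ i).hom.app (op U)).hom f, hd, hφ i U hU d f hf, ?_⟩, rfl⟩
    have e2 : u.gradedAt U hU V hV hle (((φ i).hom.app (op U)).hom f) = (ui i).gradedAt U hU V hV hle f := by
      change (𝒮L.presheaf.map _).hom ((u.app U).hom _) = (𝒮L.presheaf.map _).hom (((ui i).app U).hom f)
      rw [hui i U]
      rfl
    exact e2.symm ▸ hfy
  refine ⟨⟨fun htop => ?_, fun ⟨i, hi⟩ => top_le_iff.mp (hi ▸ hle_u i)⟩, fun i hi k hik => top_le_iff.mp (hi ▸ hmono i k hik)⟩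
  have hcov : (Set.univ : Set PL) ⊆ ⋃ i, (RelProj.domQ (ui i) pL chartL : Set PL) := by
    intro z _
    obtain ⟨⟨⟨⟨U, hU⟩, ⟨V, hV⟩⟩, hle⟩, y, hy, rfl⟩ := Opens.mem_iSup.mp (htop ▸ trivial : z ∈ RelProj.domQ u pL chartL)
    obtain ⟨d, f, hd, hf, hfy⟩ := (Groth.Ega2P2.mem_domOpen_iff u hU hV hle y).mp hy
    obtain ⟨i, g, hg⟩ := hsurj U hU f
    have hgd : ((φ i).hom.app (op U)).hom (DirectSum.decompose ((𝒮i i).deg U hU) g d : (𝒮i i).presheaf.obj (op U)) = f :=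
      (GradedRingHom.map_directSumDecompose (𝒜 := (𝒮i i).deg U hU) (ℬ := 𝒮.deg U hU) (RelProj.gradedHomAt (φ i) (hφ i) U hU) (x := g) (i := d)).trans
        (by rw [show RelProj.gradedHomAt (φ i) (hφ i) U hU g = f from hg, DirectSum.decompose_of_mem_same _ hf])
    refine Set.mem_iUnion.mpr ⟨i, Opens.mem_iSup.mpr ⟨⟨(⟨U, hU⟩, ⟨V, hV⟩), hle⟩, y,
      (Groth.Ega2P2.mem_domOpen_iff (ui i) hU hV hle y).mpr ⟨d, (DirectSum.decompose ((𝒮i i).deg U hU) g d : (𝒮i i).presheaf.obj (op U)), hd, SetLike.coe_mem _, ?_⟩, rfl⟩⟩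
    have e2 : (ui i).gradedAt U hU V hV hle (DirectSum.decompose ((𝒮i i).deg U hU) g d : (𝒮i i).presheaf.obj (op U)) =
        u.gradedAt U hU V hV hle f := by
      change (𝒮L.presheaf.map _).hom (((ui i).app U).hom _) = (𝒮L.presheaf.map _).hom ((u.app U).hom f)
      rw [hui i U]
      exact congrArg (fun w => (𝒮L.presheaf.map _).hom ((u.app U).hom w)) hgd
    exact e2.symm ▸ hfy
  obtain ⟨T, hT⟩ := isCompact_univ.elim_finite_subcover _ (fun i => (RelProj.domQ (ui i) pL chartL).isOpen) hcov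
  obtain ⟨m, hm⟩ := T.exists_le
  refine ⟨m, top_le_iff.mp fun z _ => ?_⟩
  obtain ⟨i, hi, hz⟩ := Set.mem_iUnion₂.mp (hT (Set.mem_univ z))
  exact hmono i m (hm i hi) hz

end Groth.Agent.S12159
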