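import Groth.Statements.S12161
import Groth.Agent.RLpsi.Colim
open Groth.RLpsi

set_option autoImplicit false
universe u
open CategoryTheory CategoryTheory.Limits AlgebraicGeometry TopologicalSpace Opposite
open scoped HomogeneousIdeal
noncomputable section
open EGA2

namespace Groth.Agent.S12161

/-- Let Y be a quasi-compact scheme, q : X → Y a quasi-compact morphism, L an invertible O_X-module with
𝒮L = ⊕ L^{⊗n} (whose Proj is X), 𝒮 = colim 𝒮^i a filtered colimit of quasi-coherent positively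
graded O_Y-algebras along graded homomorphisms φ_i : 𝒮^i → 𝒮 (colimit taken on sections over affine
opens), ψ♭ = u : 𝒮 → q_*𝒮L a graded q-morphism and ψ_i♭ = u ∘ φ_i, with q of finite type; let r =
r_{L,ψ} : G(ψ) → Proj(𝒮) and r_i = r_{L,ψ_i} : G(ψ_i) → Proj(𝒮^i). Then r is everywhere defined and
an immersion if and only if some r_i is, and then so is r_j for all j ≥ i. -/
theorem result {Y X P PL : Scheme.{u}} (q : X ⟶ Y)
    (L : X.Modules) (hL : PicF.IsInvertible L) (hLq : Coh.IsQCoh L)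
    (𝒮 : RelProj.QCGrAlg Y) (𝒮L : RelProj.QCGrAlg X) (j : L ⟶ 𝒮L.toModule) (hj : RelProj.IsGrSymAlg L 𝒮L j)
    (u : RelProj.QGrHom q 𝒮 𝒮L)
    (p : P ⟶ Y) (chart : ∀ (U : Y.Opens) (hU : IsAffineOpen U), (((p ⁻¹ᵁ U : P.Opens) : Scheme.{u}) ≅ Proj (𝒮.deg U hU)))
    (hP : RelProj.IsRelProj 𝒮 p chart)
    (pL : PL ⟶ X) (chartL : ∀ (U : X.Opens) (hU : IsAffineOpen U), (((pL ⁻¹ᵁ U : PL.Opens) : Scheme.{u}) ≅ Proj (𝒮L.deg U hU)))
    (hPL : RelProj.IsRelProj 𝒮L pL chartL)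
    [CompactSpace Y] [QuasiCompact q] [LocallyOfFiniteType q]
    (r : ((RelProj.domQ u pL chartL : PL.Opens) : Scheme.{u}) ⟶ P)
    (hr : RelProj.IsProjQMapOn u p chart pL chartL (RelProj.domQ u pL chartL) r)
    (Λ : Type u) [Preorder Λ] [IsDirected Λ (· ≤ ·)] [Nonempty Λ]
    (𝒮i : Λ → RelProj.QCGrAlg Y) (φ : ∀ i, (𝒮i i).toQCAlg ⟶ 𝒮.toQCAlg) (hφ : ∀ i, RelProj.IsGradedHom (φ i))
    (t : ∀ i j, i ≤ j → ((𝒮i i).toQCAlg ⟶ (𝒮i j).toQCAlg)) (ht : ∀ i j (h : i ≤ j), RelProj.IsGradedHom (t i j h))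
    (hφt : ∀ i j (h : i ≤ j), t i j h ≫ φ j = φ i)
    (hsurj : ∀ (U : Y.Opens), IsAffineOpen U → ∀ x : 𝒮.presheaf.obj (op U),
      ∃ (i : Λ) (y : (𝒮i i).presheaf.obj (op U)), ((φ i).hom.app (op U)).hom y = x)
    (hker : ∀ (U : Y.Opens), IsAffineOpen U → ∀ (i : Λ) (y : (𝒮i i).presheaf.obj (op U)),
      ((φ i).hom.app (op U)).hom y = 0 → ∃ (j : Λ) (h : i ≤ j), ((t i j h).hom.app (op U)).hom y = 0)
    (ui : ∀ i, RelProj.QGrHom q (𝒮i i) 𝒮L) (hui : ∀ i (U : Y.Opens), (ui i).app U = (φ i).hom.app (op U) ≫ u.app U)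
    (Pi : Λ → Scheme.{u}) (pi : ∀ i, Pi i ⟶ Y)
    (charti : ∀ i (U : Y.Opens) (hU : IsAffineOpen U), ((((pi i) ⁻¹ᵁ U : (Pi i).Opens) : Scheme.{u}) ≅ Proj ((𝒮i i).deg U hU)))
    (hPi : ∀ i, RelProj.IsRelProj (𝒮i i) (pi i) (charti i))
    (ri : ∀ i, ((RelProj.domQ (ui i) pL chartL : PL.Opens) : Scheme.{u}) ⟶ Pi i)
    (hri : ∀ i, RelProj.IsProjQMapOn (ui i) (pi i) (charti i) pL chartL (RelProj.domQ (ui i) pL chartL) (ri i)) :
    ((RelProj.domQ u pL chartL = ⊤ ∧ IsImmersion r) ↔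
        ∃ i, RelProj.domQ (ui i) pL chartL = ⊤ ∧ IsImmersion (ri i)) ∧
      ∀ i, (RelProj.domQ (ui i) pL chartL = ⊤ ∧ IsImmersion (ri i)) →
        ∀ j, i ≤ j → RelProj.domQ (ui j) pL chartL = ⊤ ∧ IsImmersion (ri j) := by
  classical
  have : L.IsQuasicoherent := hLq
  have hφt' : ∀ i j (h : i ≤ j) (U : Y.Opens) (y : (𝒮i i).presheaf.obj (op U)),
      ((φ j).hom.app (op U)).hom (((t i j h).hom.app (op U)).hom y) = ((φ i).hom.app (op U)).hom y :=
    fun i j h U y => congr(((($(hφt i j h)).hom.app (op U)).hom y))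
  have hti : ∀ i j (h : i ≤ j) (U : Y.Opens), (ui i).app U = (t i j h).hom.app (op U) ≫ (ui j).app U := fun i j h U => by
    refine CommRingCat.hom_ext (RingHom.ext fun y => ?_)
    rw [hui, hui, CommRingCat.comp_apply, CommRingCat.comp_apply, CommRingCat.comp_apply, hφt' i j h]
  constructor
  swap
  · rintro i ⟨htopi, himmi⟩ j hij
    exact top_and_isImmersion_comp hj hL hPL (hPi j) (ui j) (hri j) (hPi i) (hri i) (ht i j hij) (hti i j hij) htopi
  refine ⟨fun ⟨htop, himm⟩ => ?_, fun ⟨i, htopi, himmi⟩ =>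
    top_and_isImmersion_comp hj hL hPL hP u hr (hPi i) (hri i) (hφ i) (hui i) htopi⟩
  have : CompactSpace X := QuasiCompact.compactSpace_of_compactSpace q
  have hpiece : ∀ x : X, ∃ (U : Y.Opens) (hU : IsAffineOpen U) (d : ℕ) (f : 𝒮.presheaf.obj (op U)) (hd : 0 < d)
      (hf : f ∈ 𝒮.deg U hU d), x ∈ nvU u U d f ∧ IsAffineOpen (nvU u U d f) ∧
        Function.Surjective (phi hj hL hPL hP u hr hd hf) := by
    intro x
    have := Groth.RelTw.isIso_p hj hPL hL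
    let z : ((RelProj.domQ u pL chartL : PL.Opens) : Scheme.{u}) := ⟨(inv pL).base x, htop ▸ trivial⟩
    have hzx : (π u pL chartL).base z = x := by
      change (inv pL ≫ pL).base x = x
      rw [IsIso.inv_hom_id]; rfl
    obtain ⟨U, hU, hxU, -⟩ := exists_isAffineOpen_mem_and_subset (x := p.base (r.base z)) (U := (⊤ : Y.Opens)) trivial
    obtain ⟨d, f, hd, hf, hzf, hle⟩ := exists_dp_le hP hU hxU (x := r.base z)
      (O := ⟨coborder (Set.range r.base), r.isLocallyClosed_range.isOpen_coborder⟩) (subset_coborder ⟨z, rfl⟩)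
    have := isClosedImmersion_restrict_of_le r _ hle
    exact ⟨U, hU, d, f, hd, hf, hzx ▸ (mem_dp_iff hj hL hPL hP u hr hd hf z).1 hzf,
      of_isClosedImmersion_restrict hj hL hPL hP u hr hd hf⟩
  choose U hU d f hd hf hx hN hsur using hpiece
  obtain ⟨T, hT⟩ := isCompact_univ.elim_finite_subcover (fun x => ((nvU u (U x) (d x) (f x) : X.Opens) : Set X))
    (fun x => (nvU u (U x) (d x) (f x)).isOpen) (fun x _ => Set.mem_iUnion.2 ⟨x, hx x⟩)
  have hgen : ∀ x, ∃ S : Finset Γ(X, nvU u (U x) (d x) (f x)),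
      letI := (q.appLE (U x) (nvU u (U x) (d x) (f x)) (nv_le _ _)).hom.toAlgebra
      Algebra.adjoin Γ(Y, U x) (S : Set Γ(X, nvU u (U x) (d x) (f x))) = ⊤ := fun x => by
    letI := (q.appLE (U x) (nvU u (U x) (d x) (f x)) (nv_le _ _)).hom.toAlgebra
    have hft : Algebra.FiniteType Γ(Y, U x) Γ(X, nvU u (U x) (d x) (f x)) :=
      q.finiteType_appLE (hU x) (hN x) (nv_le _ _)
    exact hft.out
  choose S hS using hgen
  have hwit : ∀ x (a : S x), ∃ (m : ℕ) (s : 𝒮.presheaf.obj (op (U x))), s ∈ 𝒮.deg (U x) (hU x) (m * d x) ∧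
      sc 𝒮L (nvU u (U x) (d x) (f x)) a.1 * rs 𝒮L (nv_le _ _) ((u.app (U x)).hom (f x)) ^ m =
        rs 𝒮L (nv_le _ _) ((u.app (U x)).hom s) := fun x a => by
    obtain ⟨m, -, s, hs, he⟩ := (surjective_phi_iff hj hL hPL hP u hr (hd x) (hf x)).1 (hsur x) a.1
    exact ⟨m, s, hs, he⟩
  choose m s hs hse using hwit
  have hlift : ∀ (V : Y.Opens) (hV : IsAffineOpen V) (e : ℕ) (y : 𝒮.presheaf.obj (op V)), y ∈ 𝒮.deg V hV e →
      ∃ i, ∃ y' ∈ (𝒮i i).deg V hV e, ((φ i).hom.app (op V)).hom y' = y := by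
    intro V hV e y hy
    obtain ⟨i, y₀, hy₀⟩ := hsurj V hV y
    refine ⟨i, (DirectSum.decompose ((𝒮i i).deg V hV) y₀ e : (𝒮i i).presheaf.obj (op V)), SetLike.coe_mem _, ?_⟩
    exact (GradedRingHom.map_directSumDecompose (𝒜 := (𝒮i i).deg V hV) (ℬ := 𝒮.deg V hV)
      (RelProj.gradedHomAt (φ i) (hφ i) V hV) (x := y₀) (i := e)).trans
        (by rw [show RelProj.gradedHomAt (φ i) (hφ i) V hV y₀ = y from hy₀, DirectSum.decompose_of_mem_same _ hy])
  choose i0 y0 hy0 hy0e using fun x => hlift (U x) (hU x) (d x) (f x) (hf x)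
  choose i1 y1 hy1 hy1e using fun x a => hlift (U x) (hU x) (m x a * d x) (s x a) (hs x a)
  obtain ⟨i, hi⟩ := Finset.exists_le (T.image i0 ∪ T.biUnion fun x => Finset.univ.image (i1 x))
  have hi0 : ∀ x ∈ T, i0 x ≤ i := fun x hx => hi _ (Finset.mem_union_left _ (Finset.mem_image_of_mem _ hx))
  have hi1 : ∀ x ∈ T, ∀ a, i1 x a ≤ i := fun x hx a => hi _ (Finset.mem_union_right _
    (Finset.mem_biUnion.2 ⟨x, hx, Finset.mem_image_of_mem _ (Finset.mem_univ a)⟩))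
  refine ⟨i, ?_⟩
  have hmain : ∀ x ∈ T, ∃ (g : (𝒮i i).presheaf.obj (op (U x))) (hg : g ∈ (𝒮i i).deg (U x) (hU x) (d x)),
      nvU (ui i) (U x) (d x) g = nvU u (U x) (d x) (f x) ∧
        Function.Surjective (phi hj hL hPL (hPi i) (ui i) (hri i) (hd x) hg) := by
    intro x hxT
    have hg : ((t _ i (hi0 x hxT)).hom.app (op (U x))).hom (y0 x) ∈ (𝒮i i).deg (U x) (hU x) (d x) :=
      ht _ _ (hi0 x hxT) _ (hU x) _ _ (hy0 x)
    have hgf : ((φ i).hom.app (op (U x))).hom (((t _ i (hi0 x hxT)).hom.app (op (U x))).hom (y0 x)) = f x :=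
      (hφt' _ _ _ _ _).trans (hy0e x)
    refine ⟨_, hg, by rw [nvU_comp u (hui i), hgf], ?_⟩
    have key : ∀ (g : (𝒮i i).presheaf.obj (op (U x))) (hg : g ∈ (𝒮i i).deg (U x) (hU x) (d x)),
        ((φ i).hom.app (op (U x))).hom g = f x →
        Function.Surjective (phi hj hL hPL (hPi i) (ui i) (hri i) (hd x) hg) := by
      intro g hg hgf
      have hN' : nvU (ui i) (U x) (d x) g = nvU u (U x) (d x) (f x) := by rw [nvU_comp u (hui i), hgf]
      have hgen' : ∀ (N : X.Opens) (hN : N ≤ q ⁻¹ᵁ U x) (_ : N = nvU u (U x) (d x) (f x)),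
          ∃ S' : Finset Γ(X, N), (letI := (q.appLE (U x) N hN).hom.toAlgebra
            Algebra.adjoin Γ(Y, U x) (S' : Set Γ(X, N)) = ⊤) ∧ ∀ t ∈ S', ∃ (m : ℕ) (s : (𝒮i i).presheaf.obj (op (U x))),
              s ∈ (𝒮i i).deg (U x) (hU x) (m * d x) ∧
                sc 𝒮L N t * rs 𝒮L hN (((ui i).app (U x)).hom g) ^ m = rs 𝒮L hN (((ui i).app (U x)).hom s) := by
        rintro N hN rfl
        refine ⟨S x, hS x, fun a ha => ⟨m x ⟨a, ha⟩, _, ht _ _ (hi1 x hxT ⟨a, ha⟩) _ (hU x) _ _ (hy1 x ⟨a, ha⟩), ?_⟩⟩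
        rw [app_comp u (hui i), app_comp u (hui i), hgf, hφt', hy1e]
        exact hse x ⟨a, ha⟩
      obtain ⟨S', hS', hSt⟩ := hgen' _ (nv_le _ _) hN'
      refine surjective_phi_of_generators hj hL hPL (hPi i) (ui i) (hri i) (hd x) hg
        (hN'.symm ▸ hN x) S' hS' fun a ha => ?_
      obtain ⟨m', s', hs', he⟩ := hSt a ha
      exact mem_range_phi hj hL hPL (hPi i) (ui i) (hri i) (hd x) hg hs' he
    exact key _ hg hgf
  choose g hg hgN hgs using hmain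
  have hcov : ∀ x : X, ∃ (y : X) (hy : y ∈ T), x ∈ nvU (ui i) (U y) (d y) (g y hy) := fun x => by
    obtain ⟨y, hy, hxy⟩ := Set.mem_iUnion₂.1 (hT (Set.mem_univ x))
    exact ⟨y, hy, (hgN y hy).symm ▸ hxy⟩
  refine ⟨mem_domQ_of_forall hj hL hPL (ui i) fun x => ?_,
    isImmersion_of_cover_range (ri i) (fun y : T => dp (charti i) (U y.1) (hU y.1) (g y.1 y.2)) (fun z => ?_) fun y => ?_⟩
  · obtain ⟨y, hy, hxy⟩ := hcov x
    exact ⟨U y, hU y, d y, g y hy, hd y, hg y hy, hxy⟩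
  · obtain ⟨y, hy, hxy⟩ := hcov ((π (ui i) pL chartL).base z)
    exact ⟨⟨y, hy⟩, (mem_dp_iff hj hL hPL (hPi i) (ui i) (hri i) (hd y) (hg y hy) z).2 hxy⟩
  · have := isClosedImmersion_restrict hj hL hPL (hPi i) (ui i) (hri i) (hd y.1) (hg y.1 y.2)
      ((hgN y.1 y.2).symm ▸ hN y.1) (hgs y.1 y.2)
    infer_instance

end Groth.Agent.S12161
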