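import Groth.Statements.S12163
import Groth.Agent.Ega2Proj2.QMapOfHom
import Groth.Agent.Ega2Proj2.QMapLocal

set_option autoImplicit false
universe u
open CategoryTheory CategoryTheory.Limits AlgebraicGeometry TopologicalSpace Opposite
open scoped HomogeneousIdeal
noncomputable section
open EGA2

namespace Groth.Agent.S12163

/-- Let φ : 𝒜 → ℬ be a graded homomorphism of quasi-coherent positively graded O_Y-algebras and PB =
Proj(ℬ) with its charts. If every point of Y has an affine neighbourhood U over which the irrelevant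
ideal of ℬ(U) is contained in the ideal generated by φ(𝒜(U)_+), then the open of definition G(φ) of
Proj(φ) is all of PB. (The published condition asks 𝒮_+ to be generated by the image as a module
over the functions on U; generation as an ideal, used here, is implied by it.) -/
theorem result {Y PB : Scheme.{u}} (𝒜 ℬ : RelProj.QCGrAlg Y)
    (φ : 𝒜.toQCAlg ⟶ ℬ.toQCAlg) (hφ : RelProj.IsGradedHom φ)
    (pB : PB ⟶ Y) (chartB : ∀ (U : Y.Opens) (hU : IsAffineOpen U), (((pB ⁻¹ᵁ U : PB.Opens) : Scheme.{u}) ≅ Proj (ℬ.deg U hU)))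
    (hB : RelProj.IsRelProj ℬ pB chartB)
    (hcov : ∀ y : Y, ∃ (U : Y.Opens) (hU : IsAffineOpen U), y ∈ U ∧
      (ℬ.deg U hU)₊ ≤ ((𝒜.deg U hU)₊).map (RelProj.gradedHomAt φ hφ U hU)) :
    RelProj.domQ (RelProj.QGrHom.ofHom φ hφ) pB chartB = ⊤ := by
  refine top_le_iff.mp fun z _ ↦ ?_
  obtain ⟨U, hU, hyU, hirr⟩ := hcov (pB.base z)
  obtain ⟨w, rfl⟩ : ∃ w : Proj (ℬ.deg U hU), (RelProj.emb pB chartB U hU).base w = z :=
    (Groth.Ega2P2.projCharts hB).mem_range hU hyU
  refine (Groth.Ega2P2.emb_mem_domQ_iff _ hB hU hU le_rfl w).mpr ?_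
  rw [Groth.Ega2P2.ofHom_gradedAt_self φ hφ U hU le_rfl,
    Groth.Ega2P2.domOpen_eq_top_of_irrelevant_le _ hirr]
  trivial

end Groth.Agent.S12163
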