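import Groth.Statements.S12164
import Groth.Agent.Ega2Proj.SymBC

set_option autoImplicit false
universe u
open CategoryTheory CategoryTheory.Limits AlgebraicGeometry TopologicalSpace Opposite
open scoped HomogeneousIdeal
noncomputable section
open EGA2

namespace Groth.Agent.S12164

/-- Let g : S' → S be a morphism, E a quasi-coherent O_S-module, A = Sym(E) and B = Sym(g^*E) the
symmetric algebras (given by their universal properties among quasi-coherent algebras, with
structure maps j : E → A and j' : g^*E → B), u : A → g_*B the g-morphism of algebras extending the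
adjunction unit E → g_*g^*E followed by g_*(j'), and h = Spec(u) : V(g^*E) = Spec(B) → V(E) =
Spec(A). Then h identifies V(g^*E) with the base change V(E) ×_S S'. -/
theorem result {S S' : Scheme.{u}} (g : S' ⟶ S)
    (E : S.Modules) (hE : Coh.IsQCoh E) (A : RelSpec.QCAlg S) (j : E ⟶ A.toModule) (hA : RelSpec.IsSymAlg E A j)
    (B : RelSpec.QCAlg S') (j' : (Scheme.Modules.pullback g).obj E ⟶ B.toModule)
    (hB : RelSpec.IsSymAlg ((Scheme.Modules.pullback g).obj E) B j')
    (u : RelSpec.QHom g A B)
    (hu : ∀ (U : S.Opens) (x : Γ(E, U)),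
      (u.app U).hom ((j.app U) x) =
        (j'.app (g ⁻¹ᵁ U)) (((Scheme.Modules.pullbackPushforwardAdjunction g).unit.app E).app U x))
    (h : B.spec ⟶ A.spec) (hh : RelSpec.IsSpecQMap u h) :
    IsPullback h B.π A.π g := by
  haveI : E.IsQuasicoherent := hE
  haveI : ((Scheme.Modules.pullback g).obj E).IsQuasicoherent :=
    inferInstance
  refine Groth.Ega2P2.isPullback_specQMap u (fun U hU U' hU' hle => ?_) h hh
  letI := Groth.QCohMod.sectionsAlg g hle
  letI : Module Γ(S, U) Γ((Scheme.Modules.pullback g).obj E, U') :=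
    Module.compHom _ (g.appLE U U' hle).hom
  haveI : IsScalarTower Γ(S, U) Γ(S', U') Γ((Scheme.Modules.pullback g).obj E, U') :=
    IsScalarTower.of_algebraMap_smul fun _ _ => rfl
  exact Groth.Ega2Proj.SymBC.isPushout_of_liftHom (Groth.LocFree.pullSecₗ g E hle)
    (Groth.LocFree.isBaseChange_pullSecₗ g E hle hU hU') _ _ _ _ _ _
    (Groth.SymAlg.bijective_liftSec hA hU) (Groth.SymAlg.bijective_liftSec hB hU')
    (u.appLE U U' hle).hom (fun r => congr(($(u.str_appLE U U' hle)).hom r)) fun e => by
      show (B.presheaf.map _).hom ((u.app U).hom ((j.app U) e)) = _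
      rw [hu U e]
      exact Groth.QCohMod.res_app j' hle _

end Groth.Agent.S12164
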