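import Groth.Statements.S12165
import Groth.Agent.Ega2Proj2.QMapOfHom
import Groth.Agent.Ega2Proj2.QMapLocal

set_option autoImplicit false
universe u
open CategoryTheory CategoryTheory.Limits AlgebraicGeometry TopologicalSpace Opposite
open scoped HomogeneousIdeal
noncomputable section
open EGA2

namespace Groth.Agent.S12165

/-- Let φ : 𝒜 → ℬ be a (TN)-surjective graded homomorphism of quasi-coherent positively graded
O_Y-algebras (φ : 𝒜_k → ℬ_k surjective for all large k, on sections over affine opens), PA =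
Proj(𝒜), PB = Proj(ℬ) with their charts. Then Proj(φ) is defined on all of PB and is a closed
immersion PB → PA. -/
theorem result {Y PA PB : Scheme.{u}} (𝒜 ℬ : RelProj.QCGrAlg Y)
    (φ : 𝒜.toQCAlg ⟶ ℬ.toQCAlg) (hφ : RelProj.IsGradedHom φ)
    (hTN : ∃ n : ℕ, ∀ k, n ≤ k → ∀ (U : Y.Opens) (hU : IsAffineOpen U), ∀ y ∈ ℬ.deg U hU k,
      ∃ x ∈ 𝒜.deg U hU k, (φ.hom.app (op U)).hom x = y)
    (pA : PA ⟶ Y) (chartA : ∀ (U : Y.Opens) (hU : IsAffineOpen U), (((pA ⁻¹ᵁ U : PA.Opens) : Scheme.{u}) ≅ Proj (𝒜.deg U hU)))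
    (hA : RelProj.IsRelProj 𝒜 pA chartA)
    (pB : PB ⟶ Y) (chartB : ∀ (U : Y.Opens) (hU : IsAffineOpen U), (((pB ⁻¹ᵁ U : PB.Opens) : Scheme.{u}) ≅ Proj (ℬ.deg U hU)))
    (hB : RelProj.IsRelProj ℬ pB chartB) :
    RelProj.domQ (RelProj.QGrHom.ofHom φ hφ) pB chartB = ⊤ ∧
      ∀ h : PB ⟶ PA, RelProj.IsProjQMap (RelProj.QGrHom.ofHom φ hφ) pA chartA pB chartB h →
        IsClosedImmersion h := by
  obtain ⟨n, hn⟩ := hTN
  refine ⟨top_le_iff.mp fun z _ ↦ ?_, fun h hh ↦ ?_⟩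
  · obtain ⟨U, hU, w, rfl⟩ : ∃ (U : Y.Opens) (hU : IsAffineOpen U) (w : Proj (ℬ.deg U hU)),
        (RelProj.emb pB chartB U hU).base w = z := (Groth.Ega2P2.projCharts hB).exists_eq z
    refine (Groth.Ega2P2.emb_mem_domQ_iff _ hB hU hU le_rfl w).mpr ?_
    rw [Groth.Ega2P2.ofHom_gradedAt_self φ hφ U hU le_rfl,
      Groth.Ega2P2.domOpen_eq_top_of_eventually (RelProj.gradedHomAt φ hφ U hU)
        (fun k hk ↦ hn k hk U hU)]
    trivial
  · refine Groth.Ega2P2.projQMap_of_away _ hA hB hh @IsClosedImmersion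
      fun U hU hU' d hd f hf ↦ ?_
    have e : (RelProj.QGrHom.ofHom φ hφ).gradedAt U hU ((𝟙 Y : Y ⟶ Y) ⁻¹ᵁ U) hU' le_rfl =
        RelProj.gradedHomAt φ hφ U hU := Groth.Ega2P2.ofHom_gradedAt_self φ hφ U hU le_rfl
    rw [e]
    exact IsClosedImmersion.spec_of_surjective _
      (Groth.Ega2P2.awayMap_surjective_of_eventually _ (fun k hk ↦ hn k hk U hU) hf hd)

end Groth.Agent.S12165
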