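import Groth.Agent.S10766
import Groth.Agent.ModEtQCoh.Vanish.SquareExt
-- import your own Groth.Agent.* helpers here

set_option autoImplicit false
universe u
open CategoryTheory CategoryTheory.Limits AlgebraicGeometry Opposite
open AlgSp

namespace Groth.Agent.S12196

/-- Let X be a quasi-compact algebraic space, quasi-separated over a quasi-separated base scheme S. Then
there is an integer n, depending only on X, such that H^q(X, M) = 0 for every quasi-coherent
O_X-module M on the small etale site of X and every q ≥ n. (The published statement moreover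
produces the bound from an affine etale surjective chart U → X with fibre degree d and affine etale
surjective charts of the quotients U_p with fibre degrees d_p, as max(d_p + p); this row asserts
only that a bound exists. Quasi-separatedness is taken relative to S together with S
quasi-separated, which gives the absolute notion.) -/
theorem result {S : Scheme.{u}} [QuasiSeparatedSpace ↥S] (X : AlgSp.Space S)
    (hqc : AlgSp.IsQuasiCompactSp X.obj) (hqs : AlgSp.IsQuasiSeparatedSp X.obj) :
    ∃ n : ℕ, ∀ (M : AlgSp.ModEt X.obj), M.IsQuasicoherent → ∀ q : ℕ, n ≤ q →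
      Subsingleton (AlgSp.HModEt X.obj M q) := by
  obtain ⟨n, hn⟩ := Groth.Agent.S10766.result X hqc hqs
    (fun W => ∃ n : ℕ, ∀ F : AlgSp.AbEt X.obj, Groth.EtVan.CechAcyclic F.obj → ∀ q, n ≤ q →
      Subsingleton (Abelian.Ext (Groth.EtVan.freeH W) F q))
    (fun W T _ ⟨e⟩ => ⟨1, fun F hF q hq => by
      obtain ⟨m, rfl⟩ : ∃ m, q = m + 1 := ⟨q - 1, by omega⟩
      exact Groth.EtVan.subsingleton_ext_of_affine T e m F hF⟩)
    (fun W U V UV j f p q _ _ _ _ hsq hP ⟨a, ha⟩ ⟨b, hb⟩ ⟨c, hc⟩ => ⟨a + b + c + 1, fun F hF m hm => by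
      obtain ⟨k, rfl⟩ : ∃ k, m = k + 1 := ⟨m - 1, by omega⟩
      exact Groth.EtVan.subsingleton_ext_of_square hsq hP F k (hc F hF k (by omega)) (ha F hF _ (by omega))
        (hb F hF _ (by omega))⟩)
    (Groth.EtVan.selfObj X) hqc hqs
  refine ⟨n, fun M hM q hq => ?_⟩
  haveI := hM
  exact Groth.EtVan.subsingleton_HEt_of_ext _ q (hn _ (Groth.EtVan.cechAcyclic_toAbEt M) q hq)

end Groth.Agent.S12196
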