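import Groth.Statements.S12208
import Mathlib
import Groth.Agent.Variety2.DimAffine

set_option autoImplicit false
universe u
open CAlg

namespace Groth.Agent.S12208
open Polynomial in
theorem isUnit_leadingCoeff_sum {B : Type*} [CommRing B] [Nontrivial B] {ι : Type*} (s : Finset ι) (hs : s.Nonempty)
    (c : ι → B) (hc : ∀ v ∈ s, IsUnit (c v)) (M : ι → Polynomial B) (hM : ∀ v, (M v).Monic)
    (D : ι → ℕ) (hD : ∀ v, (M v).natDegree = D v) (hinj : Set.InjOn D s) :
    IsUnit (∑ v ∈ s, Polynomial.C (c v) * M v).leadingCoeff := by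
  classical
  obtain ⟨v, hv, hmax⟩ := s.exists_max_image D hs
  have hco : (∑ w ∈ s, Polynomial.C (c w) * M w).coeff (D v) = c v := by
    rw [Polynomial.finsetSum_coeff, Finset.sum_eq_single v]
    · rw [Polynomial.coeff_C_mul, ← hD v, (hM v).coeff_natDegree, mul_one]
    · intro w hw hne
      have : D w < D v := lt_of_le_of_ne (hmax w hw) (fun h => hne (hinj hw hv h))
      rw [Polynomial.coeff_C_mul, Polynomial.coeff_eq_zero_of_natDegree_lt (by rw [hD]; exact this), mul_zero]
    · exact fun h => absurd hv h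
  have hle : (∑ w ∈ s, Polynomial.C (c w) * M w).natDegree ≤ D v :=
    Polynomial.natDegree_sum_le_of_forall_le _ _ fun w hw =>
      (Polynomial.natDegree_C_mul_le _ _).trans ((hD w).trans_le (hmax w hw))
  have hne : (∑ w ∈ s, Polynomial.C (c w) * M w).coeff (D v) ≠ 0 := by
    rw [hco]; exact (hc v hv).ne_zero
  rw [Polynomial.leadingCoeff, Polynomial.natDegree_eq_of_le_of_coeff_ne_zero hle hne, hco]
  exact hc v hv

theorem dim_eq_of_finite {A B : Type u} [CommRing A] [CommRing B] (φ : A →+* B) (hinj : Function.Injective φ)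
    (hfin : φ.Finite) : ringKrullDim B = ringKrullDim A := by
  letI := φ.toAlgebra
  haveI : Algebra.IsIntegral A B := ⟨hfin.to_isIntegral⟩
  exact Groth.Variety2.Dim.ringKrullDim_eq_of_isIntegral A B hinj

open MvPolynomial in
theorem exists_integral_step {k : Type u} [Field k] {n : ℕ} (I : Ideal (MvPolynomial (Fin (n + 1)) k))
    (f : MvPolynomial (Fin (n + 1)) k) (hf : f ∈ I) (hf0 : f ≠ 0) :
    ∃ u : Fin n → MvPolynomial (Fin (n + 1)) ℤ,
      ((Ideal.Quotient.mkₐ k I).comp (aeval fun i => map (Int.castRingHom k) (u i))).toRingHom.IsIntegral := by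
  classical
  set N := f.totalDegree + 2 with hN
  refine ⟨fun i => X i.succ - X 0 ^ N ^ ((i : ℕ) + 1), ?_⟩
  set ψ : MvPolynomial (Fin n) k →ₐ[k] MvPolynomial (Fin (n + 1)) k ⧸ I :=
    (Ideal.Quotient.mkₐ k I).comp (aeval fun i => map (Int.castRingHom k) (X i.succ - X 0 ^ N ^ ((i : ℕ) + 1))) with hψ
  set B := MvPolynomial (Fin n) k
  let Φ : MvPolynomial (Fin (n + 1)) k →ₐ[k] Polynomial B :=
    aeval (Fin.cases Polynomial.X fun i => Polynomial.X ^ N ^ ((i : ℕ) + 1) + Polynomial.C (X i))
  let Mon : (Fin (n + 1) →₀ ℕ) → Polynomial B := fun v =>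
    ∏ i, (Fin.cases Polynomial.X (fun i => Polynomial.X ^ N ^ ((i : ℕ) + 1) + Polynomial.C (X i)) i : Polynomial B) ^ v i
  let D : (Fin (n + 1) →₀ ℕ) → ℕ := fun v => ∑ i : Fin (n + 1), v i * N ^ (i : ℕ)
  have hg : ∀ i : Fin (n + 1), (Fin.cases Polynomial.X (fun i => Polynomial.X ^ N ^ ((i : ℕ) + 1) + Polynomial.C (X i)) i : Polynomial B).Monic ∧
      (Fin.cases Polynomial.X (fun i => Polynomial.X ^ N ^ ((i : ℕ) + 1) + Polynomial.C (X i)) i : Polynomial B).natDegree = N ^ (i : ℕ) := by
    intro i
    refine Fin.cases ?_ (fun i => ?_) i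
    · simp [Polynomial.monic_X]
    · simp only [Fin.cases_succ, Fin.val_succ]
      exact ⟨Polynomial.monic_X_pow_add_C _ (by positivity), Polynomial.natDegree_X_pow_add_C⟩
  have hMon : ∀ v, (Mon v).Monic := fun v => Polynomial.monic_prod_of_monic _ _ fun i _ => (hg i).1.pow _
  have hdeg : ∀ v, (Mon v).natDegree = D v := fun v => by
    rw [Polynomial.natDegree_prod_of_monic _ _ fun i _ => (hg i).1.pow _]
    exact Finset.sum_congr rfl fun i _ => by rw [(hg i).1.natDegree_pow, (hg i).2]
  have hlt : ∀ v ∈ f.support, ∀ i, v i < N := fun v hv i => by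
    have := (monomial_le_degreeOf i hv).trans (degreeOf_le_totalDegree f i)
    omega
  have hinj : Set.InjOn D f.support := by
    intro v hv w hw h
    have : (fun i => (⟨v i, hlt v hv i⟩ : Fin N)) = fun i => ⟨w i, hlt w hw i⟩ := by
      apply finFunctionFinEquiv.injective
      apply Fin.ext
      rw [finFunctionFinEquiv_apply, finFunctionFinEquiv_apply]
      exact h
    ext i
    exact congrArg Fin.val (congr_fun this i)
  have hΦ : Φ f = ∑ v ∈ f.support, Polynomial.C (MvPolynomial.C (coeff v f)) * Mon v := by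
    conv_lhs => rw [f.as_sum]
    rw [map_sum]
    refine Finset.sum_congr rfl fun v _ => ?_
    simp only [Φ, aeval_monomial, Mon]
    rw [Finsupp.prod_fintype _ _ (fun i => pow_zero _)]
    rfl
  have hlead : IsUnit (Φ f).leadingCoeff := by
    rw [hΦ]
    exact isUnit_leadingCoeff_sum _ (support_nonempty.2 hf0) _ (fun v hv => ((mem_support_iff.1 hv).isUnit).map MvPolynomial.C) _ hMon _ hdeg hinj
  set x0 := Ideal.Quotient.mkₐ k I (X 0) with hx0
  let ev : Polynomial B →+* MvPolynomial (Fin (n + 1)) k ⧸ I := Polynomial.eval₂RingHom ψ.toRingHom x0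
  have hψX : ∀ j : Fin n, ψ (MvPolynomial.X (R := k) j) = Ideal.Quotient.mkₐ k I (X j.succ) - x0 ^ N ^ ((j : ℕ) + 1) := by
    intro j
    rw [hψ, AlgHom.comp_apply]
    rw [aeval_X, map_sub, map_pow, map_X, map_X, map_sub, map_pow]
  have hev : ∀ p, ev (Φ p) = Ideal.Quotient.mkₐ k I p := by
    intro p
    induction p using MvPolynomial.induction_on with
    | C a =>
      simp only [Φ, aeval_C, ev, Polynomial.coe_eval₂RingHom]
      rw [IsScalarTower.algebraMap_apply k B (Polynomial B), Polynomial.algebraMap_eq, Polynomial.eval₂_C]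
      exact (ψ.commutes a).trans ((Ideal.Quotient.mkₐ k I).commutes a).symm
    | add p q hp hq => rw [map_add, map_add, map_add, hp, hq]
    | mul_X p i hp =>
      rw [map_mul, map_mul, map_mul, hp]
      congr 1
      simp only [Φ, aeval_X, ev, Polynomial.coe_eval₂RingHom]
      refine Fin.cases ?_ (fun j => ?_) i
      · simp [hx0]
      · simp only [Fin.cases_succ, Polynomial.eval₂_add, Polynomial.eval₂_X_pow, Polynomial.eval₂_C]
        show x0 ^ N ^ ((j : ℕ) + 1) + ψ (MvPolynomial.X (R := k) j) = _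
        rw [hψX, add_sub_cancel]
  have hint0 : ψ.toRingHom.IsIntegralElem x0 := by
    refine ⟨Polynomial.C (↑hlead.unit⁻¹ : B) * Φ f, ?_, ?_⟩
    · rw [Polynomial.Monic, Polynomial.leadingCoeff_mul, Polynomial.leadingCoeff_C]
      exact hlead.val_inv_mul
    · rw [← Polynomial.coe_eval₂RingHom, map_mul, show Polynomial.eval₂RingHom ψ.toRingHom x0 (Φ f) = ev (Φ f) from rfl, hev,
        Ideal.Quotient.mkₐ_eq_mk, Ideal.Quotient.eq_zero_iff_mem.2 hf, mul_zero]
  intro z
  obtain ⟨p, rfl⟩ := Ideal.Quotient.mk_surjective z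
  show ψ.toRingHom.IsIntegralElem (Ideal.Quotient.mk I p)
  letI := ψ.toRingHom.toAlgebra
  rw [← Ideal.Quotient.mkₐ_eq_mk k, ← hev]
  show IsIntegral B (Polynomial.aeval x0 (Φ p))
  exact adjoin_le_integralClosure hint0 (Polynomial.aeval_mem_adjoin_singleton B x0)

open MvPolynomial in
theorem exists_int_normalization {k : Type u} [Field k] : ∀ (n : ℕ) (I : Ideal (MvPolynomial (Fin n) k)), I ≠ ⊤ →
    ∃ (r : ℕ) (y : Fin r → MvPolynomial (Fin n) ℤ),
      Function.Injective ((Ideal.Quotient.mkₐ k I).comp (aeval fun i => map (Int.castRingHom k) (y i))) ∧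
      ((Ideal.Quotient.mkₐ k I).comp (aeval fun i => map (Int.castRingHom k) (y i))).toRingHom.IsIntegral := by
  intro n
  induction n with
  | zero =>
    intro I hI
    refine ⟨0, Fin.elim0, ?_, ?_⟩
    · have hbot : I = ⊥ := by
        by_contra hne
        obtain ⟨p, hp, hp0⟩ := Submodule.exists_mem_ne_zero_of_ne_bot hne
        refine hI (Ideal.eq_top_of_isUnit_mem _ hp ?_)
        rw [eq_C_of_isEmpty p] at hp0 ⊢
        exact (isUnit_iff_ne_zero.2 fun h => hp0 (by rw [h, map_zero])).map MvPolynomial.C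
      intro a b h
      have h2 := (Ideal.Quotient.eq).1 h
      rw [hbot, Ideal.mem_bot, sub_eq_zero] at h2
      rw [eq_C_of_isEmpty a, eq_C_of_isEmpty b] at h2 ⊢
      simpa using h2
    · refine RingHom.isIntegral_of_surjective _ fun z => ?_
      obtain ⟨p, rfl⟩ := Ideal.Quotient.mk_surjective z
      refine ⟨p, ?_⟩
      rw [eq_C_of_isEmpty p]
      show Ideal.Quotient.mk I _ = _
      simp
  | succ n ih =>
    intro I hI
    by_cases hbot : I = ⊥
    · refine ⟨n + 1, X, ?_, ?_⟩
      · have : (aeval fun i => map (Int.castRingHom k) (X i) : MvPolynomial (Fin (n+1)) k →ₐ[k] _) = AlgHom.id k _ := by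
          ext i; simp
        rw [this, AlgHom.comp_id]
        intro a b h
        have h2 := (Ideal.Quotient.eq).1 h
        rwa [hbot, Ideal.mem_bot, sub_eq_zero] at h2
      · refine RingHom.isIntegral_of_surjective _ fun z => ?_
        obtain ⟨p, rfl⟩ := Ideal.Quotient.mk_surjective z
        exact ⟨p, by simp [map_X]⟩
    · obtain ⟨f, hf, hf0⟩ := Submodule.exists_mem_ne_zero_of_ne_bot hbot
      obtain ⟨u, hu⟩ := exists_integral_step I f hf hf0
      set ψ := (Ideal.Quotient.mkₐ k I).comp (aeval fun i => map (Int.castRingHom k) (u i)) with hψ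
      haveI := Ideal.Quotient.nontrivial_iff.2 hI
      obtain ⟨r, y, hy1, hy2⟩ := ih (RingHom.ker ψ) (RingHom.ker_ne_top _)
      refine ⟨r, fun j => aeval u (y j), ?_⟩
      have hcomp : (Ideal.Quotient.mkₐ k I).comp (aeval fun j => map (Int.castRingHom k) (aeval u (y j))) =
          (Ideal.kerLiftAlg ψ).comp ((Ideal.Quotient.mkₐ k (RingHom.ker ψ)).comp (aeval fun j => map (Int.castRingHom k) (y j))) := by
        refine algHom_ext fun j => ?_
        simp only [AlgHom.coe_comp, Function.comp_apply, aeval_X, Ideal.Quotient.mkₐ_eq_mk, Ideal.kerLiftAlg_mk]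
        simp only [hψ, AlgHom.coe_comp, Function.comp_apply, Ideal.Quotient.mkₐ_eq_mk]
        congr 1
        generalize y j = q
        induction q using MvPolynomial.induction_on with
        | C a => simp
        | add p q hp hq => simp only [map_add, hp, hq]
        | mul_X p i hp => simp only [map_mul, hp, aeval_X, map_X]
      rw [hcomp]
      refine ⟨(Ideal.kerLiftAlg_injective ψ).comp hy1, ?_⟩
      have h3 : (Ideal.kerLiftAlg ψ).toRingHom.IsIntegral := by
        refine RingHom.IsIntegral.tower_top (Ideal.Quotient.mk (RingHom.ker ψ)) _ ?_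
        exact hu
      exact RingHom.IsIntegral.trans _ _ hy2 h3


/-- Let k be a field and S = k[x_1, …, x_n]/I with I a proper ideal. Then there exist r ≥ 0 and elements
y_1, …, y_r of k[x_1, …, x_n] lying in the subring generated by x_1, …, x_n (polynomials with
integer coefficients) such that the k-algebra map from the polynomial ring k[t_1, …, t_r] to S
sending t_i to the class of y_i is injective and finite; and for any r ≥ 0 and any y_1, …, y_r in
k[x_1, …, x_n] (with or without the integer-coefficient condition) for which that map is injective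
and finite, r is the Krull dimension of S. -/
theorem result (k : Type u) [Field k] (n : ℕ) (I : Ideal (MvPolynomial (Fin n) k))
    (hI : I ≠ ⊤) :
    (∃ (r : ℕ) (y : Fin r → MvPolynomial (Fin n) k),
      (∀ i, y i ∈ Set.range (MvPolynomial.map (Int.castRingHom k) : MvPolynomial (Fin n) ℤ → MvPolynomial (Fin n) k)) ∧
      Function.Injective ((Ideal.Quotient.mkₐ k I).comp (MvPolynomial.aeval y)) ∧
      ((Ideal.Quotient.mkₐ k I).comp (MvPolynomial.aeval y)).toRingHom.Finite) ∧
    ∀ (r : ℕ) (y : Fin r → MvPolynomial (Fin n) k),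
      Function.Injective ((Ideal.Quotient.mkₐ k I).comp (MvPolynomial.aeval y)) →
      ((Ideal.Quotient.mkₐ k I).comp (MvPolynomial.aeval y)).toRingHom.Finite →
      ringKrullDim (MvPolynomial (Fin n) k ⧸ I) = r := by
  refine ⟨?_, fun r y hinj hfin => ?_⟩
  · obtain ⟨r, y, h1, h2⟩ := exists_int_normalization n I hI
    refine ⟨r, fun i => MvPolynomial.map (Int.castRingHom k) (y i), fun i => ⟨y i, rfl⟩, h1, ?_⟩
    refine h2.to_finite (RingHom.FiniteType.of_comp_finiteType (f := algebraMap k (MvPolynomial (Fin r) k)) ?_)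
    rw [AlgHom.toRingHom_eq_coe, AlgHom.comp_algebraMap]
    exact RingHom.finiteType_algebraMap.2 inferInstance
  · rw [dim_eq_of_finite _ hinj hfin, MvPolynomial.ringKrullDim_of_isNoetherianRing, ringKrullDim_eq_zero_of_field]
    simp

end Groth.Agent.S12208
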