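import Groth.Statements.S12209
import Mathlib

set_option autoImplicit false
universe u
open CAlg

namespace Groth.Agent.S12209

/-- Let (R_i) be a system of commutative rings over a nonempty directed preorder, with colimit R, and
let M be an R-module which is flat as an R_i-module for every i (the R_i-module structure being
restriction of scalars along R_i → R). Then M is flat as an R-module. -/
theorem result {ι : Type u} [Preorder ι] [Nonempty ι] [IsDirectedOrder ι]
    (G : ι → Type u) [∀ i, CommRing (G i)] (f : ∀ i j, i ≤ j → G i →+* G j)
    [DirectedSystem G fun i j h => f i j h]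
    (M : Type u) [AddCommGroup M] [Module (Ring.DirectLimit G fun i j h => f i j h) M]
    (hflat : ∀ i, letI : Module (G i) M := Module.compHom M (Ring.DirectLimit.of G (fun i j h => f i j h) i);
      Module.Flat (G i) M) :
    Module.Flat (Ring.DirectLimit G fun i j h => f i j h) M := by
  rw [Module.Flat.iff_forall_isTrivialRelation]
  intro l c x h
  classical
  have hc : ∀ i, ∃ j : ι, ∃ y : G j, Ring.DirectLimit.of G (fun i j h => f i j h) j y = c i := fun i => Ring.DirectLimit.exists_of (c i)
  choose j y hy using hc
  obtain ⟨k, hk⟩ := Finite.exists_le j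
  set of := Ring.DirectLimit.of G (fun i j h => f i j h) k
  let c' : Fin l → G k := fun i => f (j i) k (hk i) (y i)
  have hc' : ∀ i, of (c' i) = c i := fun i => by rw [← hy i]; exact Ring.DirectLimit.of_f _ _
  letI : Module (G k) M := Module.compHom M of
  haveI : Module.Flat (G k) M := hflat k
  have h' : ∑ i, c' i • x i = 0 := by
    rw [← h]; exact Finset.sum_congr rfl fun i _ => by show of (c' i) • x i = _; rw [hc']
  obtain ⟨n, a, z, hz, ha⟩ := (Module.Flat.iff_forall_isTrivialRelation (R := G k) (M := M)).1 inferInstance h'
  refine ⟨n, fun i m => of (a i m), z, fun i => ?_, fun m => ?_⟩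
  · rw [hz i]; rfl
  · simp_rw [← hc', ← map_mul, ← map_sum, ha m, map_zero]

end Groth.Agent.S12209
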