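import Groth.Statements.S12212
import Groth.Agent.FrobLCI.KEuler.Limit
import Groth.Agent.Ega41Dim.Degree
import Groth.Agent.PropsBasic.TopPrimeCount
import Mathlib.RingTheory.Ideal.AssociatedPrime.Finiteness
-- import your own Groth.Agent.* helpers here

set_option autoImplicit false
universe u
open IntMult

namespace Groth.Agent.S12212

open Filter Topology Polynomial
open Groth.Ega41Dim (hs IsHSPoly)
open Groth.MilnorKLambda.Per

section Assoc

variable {A : Type u} [CommRing A] [IsNoetherianRing A] (I : Ideal A) [IsArtinianRing (A ⧸ I)] (d : ℕ)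
  (e : PrimeSpectrum A → ℝ)

/-- `d! * length (M/I^t M) / t^d`. -/
noncomputable def g (M : Type u) [AddCommGroup M] [Module A M] (t : ℕ) : ℝ :=
  (d.factorial : ℝ) * (hs I M t : ℝ) / (t : ℝ) ^ d

open Classical in
/-- The summand at a prime. -/
noncomputable def F (M : Type u) [AddCommGroup M] [Module A M] (p : PrimeSpectrum A) : ℝ :=
  if ringKrullDim (A ⧸ p.asIdeal) = d then ((lq p.asIdeal M).toNat : ℝ) * e p else 0

omit [IsArtinianRing (A ⧸ I)] in
theorem minimal_of_top (M : Type u) [AddCommGroup M] [Module A M] [Module.Finite A M]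
    (hd : Module.supportDim A M ≤ d) (p : PrimeSpectrum A) (hp : p ∈ Module.support A M)
    (hdim : ringKrullDim (A ⧸ p.asIdeal) = d) : Minimal (fun q => q ∈ Module.support A M) p := by
  refine ⟨hp, fun q hq hqp => ?_⟩
  by_contra hne
  rw [← Module.supportDim_quotient_eq_ringKrullDim] at hdim
  have h1 := Groth.TopPrimeCount.supportDim_lt_of_lt (lt_of_le_not_ge hqp hne) hdim.ge
  have h2 : Module.supportDim A (A ⧸ q.asIdeal) ≤ Module.supportDim A M :=
    Groth.TopPrimeCount.supportDim_mono fun r hr =>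
      Module.mem_support_mono (Groth.TopPrimeCount.mem_support_quot.1 hr) hq
  have h3 := h1.trans (h2.trans hd)
  norm_cast at h3
  omega

omit [IsArtinianRing (A ⧸ I)] in
theorem finite_support (M : Type u) [AddCommGroup M] [Module A M] [Module.Finite A M]
    (hd : Module.supportDim A M ≤ d) : (Function.support (F d e M)).Finite := by
  refine ((Ideal.finite_minimalPrimes_of_isNoetherianRing A (Module.annihilator A M)).preimage
    (f := fun p : PrimeSpectrum A => p.asIdeal) (fun _ _ _ _ h => PrimeSpectrum.ext h)).subset fun p hp => ?_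
  simp only [Function.mem_support, F, ne_eq, ite_eq_right_iff, mul_eq_zero, not_forall, not_or] at hp
  obtain ⟨hdim, h1, -⟩ := hp
  have hmem : p ∈ Module.support A M := mem_support_of_lq_ne_zero p.asIdeal fun h => h1 (by rw [h]; simp)
  have hmin := minimal_of_top d M hd p hmem hdim
  refine ⟨⟨p.isPrime, Module.mem_support_iff_of_finite.1 hmem⟩, fun J hJ hle => ?_⟩
  have := hmin.2 (y := ⟨J, hJ.1⟩) (Module.mem_support_iff_of_finite.2 hJ.2) hle
  exact this

omit [IsArtinianRing (A ⧸ I)] in
theorem F_add {M N P : Type u} [AddCommGroup M] [Module A M] [AddCommGroup N] [Module A N] [AddCommGroup P]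
    [Module A P] [Module.Finite A N] (hd : Module.supportDim A N ≤ d) {f : M →ₗ[A] N} {k : N →ₗ[A] P}
    (hf : Function.Injective f) (hk : Function.Surjective k) (h : Function.Exact f k) (p : PrimeSpectrum A) :
    F d e N p = F d e M p + F d e P p := by
  by_cases hdim : ringKrullDim (A ⧸ p.asIdeal) = d
  · have hadd := lq_add p.asIdeal hf hk h
    simp only [F, if_pos hdim]
    by_cases hp : p ∈ Module.support A N
    · have hne := lq_ne_top (M := N) p.asIdeal (minimal_of_top d N hd p hp hdim)
      rw [hadd] at hne ⊢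
      obtain ⟨ha, hb⟩ : lq p.asIdeal M ≠ ⊤ ∧ lq p.asIdeal P ≠ ⊤ :=
        ⟨fun h' => hne (by rw [h', top_add]), fun h' => hne (by rw [h', add_top])⟩
      rw [ENat.toNat_add ha hb]
      push_cast
      ring
    · have h0 := lq_eq_zero_of_notMem (M := N) p.asIdeal hp
      rw [h0, eq_comm, add_eq_zero] at hadd
      simp [h0, hadd.1, hadd.2]
  · simp [F, hdim]

theorem tendsto_shift {u : ℕ → ℝ} {s : ℝ} (h : Tendsto (fun t => u t / (t : ℝ) ^ d) atTop (𝓝 s)) (c : ℕ) :
    Tendsto (fun t => u (t - c) / (t : ℝ) ^ d) atTop (𝓝 s) := by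
  have h1 : Tendsto (fun t : ℕ => (1 - (c : ℝ) / t) ^ d) atTop (𝓝 1) := by
    simpa using (((tendsto_const_div_atTop_nhds_zero_nat (c : ℝ)).const_sub 1).pow d)
  have h2 := (h.comp (tendsto_sub_atTop_nat c)).mul h1
  rw [mul_one] at h2
  refine h2.congr' (eventually_atTop.2 ⟨c + 1, fun t ht => ?_⟩)
  have ht0 : (t : ℝ) ≠ 0 := Nat.cast_ne_zero.2 (by omega)
  have htc : ((t - c : ℕ) : ℝ) ≠ 0 := Nat.cast_ne_zero.2 (by omega)
  simp only [Function.comp_apply]
  rw [show (1 - (c : ℝ) / t) = ((t - c : ℕ) : ℝ) / t by rw [Nat.cast_sub (by omega)]; field_simp, div_pow]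
  field_simp

theorem tendsto_exact {M N P : Type u} [AddCommGroup M] [Module A M] [Module.Finite A M] [AddCommGroup N]
    [Module A N] [Module.Finite A N] [AddCommGroup P] [Module A P] [Module.Finite A P] {f : M →ₗ[A] N}
    {k : N →ₗ[A] P} (hf : Function.Injective f) (hk : Function.Surjective k) (h : Function.Exact f k)
    {a b : ℝ} (ha : Tendsto (g I d M) atTop (𝓝 a)) (hb : Tendsto (g I d P) atTop (𝓝 b)) :
    Tendsto (g I d N) atTop (𝓝 (a + b)) := by
  let L : ℕ → ℕ∞ := fun t => Module.length A (M ⧸ (I ^ t • (⊤ : Submodule A N)).comap f)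
  have hadd : ∀ t, Module.length A (N ⧸ I ^ t • (⊤ : Submodule A N)) =
      L t + Module.length A (P ⧸ I ^ t • (⊤ : Submodule A P)) := fun t => by
    have hle : I ^ t • (⊤ : Submodule A N) ≤ (I ^ t • (⊤ : Submodule A P)).comap k := by
      rw [← Submodule.map_le_iff_le_comap, Submodule.map_smul'']
      exact Submodule.smul_mono le_rfl le_top
    refine Module.length_eq_add_of_exact (Submodule.mapQ _ _ f le_rfl) (Submodule.mapQ _ _ k hle) ?_ ?_ ?_
    · rw [← LinearMap.ker_eq_bot, Submodule.mapQ, Submodule.ker_liftQ_eq_bot']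
      rw [LinearMap.ker_comp, Submodule.ker_mkQ]
    · intro y
      obtain ⟨y, rfl⟩ := Submodule.mkQ_surjective _ y
      obtain ⟨x, rfl⟩ := hk y
      exact ⟨Submodule.mkQ _ x, rfl⟩
    · intro y
      obtain ⟨y, rfl⟩ := Submodule.mkQ_surjective _ y
      constructor
      · intro hy
        have hy' : k y ∈ I ^ t • (⊤ : Submodule A P) := (Submodule.Quotient.mk_eq_zero _).1 hy
        rw [← LinearMap.range_eq_top.2 hk, ← Submodule.map_top, ← Submodule.map_smul''] at hy'
        obtain ⟨z, hz, hzy⟩ := hy'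
        obtain ⟨m, hm⟩ := (h (y - z)).1 (by rw [map_sub, hzy, sub_self])
        refine ⟨Submodule.mkQ _ m, ?_⟩
        rw [Submodule.mkQ_apply, Submodule.mapQ_apply, Submodule.mkQ_apply, Submodule.Quotient.eq, hm]
        simpa using Submodule.neg_mem _ hz
      · rintro ⟨m, hm⟩
        obtain ⟨m, rfl⟩ := Submodule.mkQ_surjective _ m
        rw [← hm, Submodule.mkQ_apply, Submodule.mapQ_apply, Submodule.mapQ_apply, (h (f m)).2 ⟨m, rfl⟩,
          Submodule.Quotient.mk_zero]
  obtain ⟨c, hc⟩ := Groth.Ega41Dim.exists_comap_pow_le I f hf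
  have hLM : ∀ t, L t ≤ (hs I M t : ℕ∞) := fun t => by
    rw [hs, ENat.coe_toNat (Groth.Ega41Dim.length_quot_ne_top I M t)]
    refine Module.length_le_of_surjective (Submodule.mapQ _ _ LinearMap.id ?_) fun y => ?_
    · rw [Submodule.comap_id, ← Submodule.map_le_iff_le_comap, Submodule.map_smul'']
      exact Submodule.smul_mono le_rfl le_top
    · obtain ⟨y, rfl⟩ := Submodule.mkQ_surjective _ y
      exact ⟨Submodule.mkQ _ y, rfl⟩
  have hLtop : ∀ t, L t ≠ ⊤ := fun t => ne_top_of_le_ne_top (ENat.coe_ne_top _) (hLM t)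
  have hN : ∀ t, (hs I N t : ℝ) = ((L t).toNat : ℝ) + (hs I P t : ℝ) := fun t => by
    rw [hs, hadd t, ENat.toNat_add (hLtop t) (Groth.Ega41Dim.length_quot_ne_top I P t), Nat.cast_add]
    rfl
  have hL : Tendsto (fun t => (d.factorial : ℝ) * ((L t).toNat : ℝ) / (t : ℝ) ^ d) atTop (𝓝 a) := by
    refine tendsto_of_tendsto_of_tendsto_of_le_of_le
      (tendsto_shift d (u := fun t => (d.factorial : ℝ) * (hs I M t : ℝ)) ha c) ha (fun t => ?_) fun t => ?_
    · dsimp only
      gcongr
      have : (hs I M (t - c) : ℕ∞) ≤ L t := Groth.Ega41Dim.hs_le_length_comap I f t c (hc t)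
      rw [← ENat.coe_toNat (hLtop t)] at this
      exact_mod_cast this
    · dsimp only [g]
      gcongr
      have := hLM t
      rw [← ENat.coe_toNat (hLtop t)] at this
      exact_mod_cast this
  refine (hL.add hb).congr fun t => ?_
  simp only [g]
  rw [hN t]
  ring

theorem g_congr {M N : Type u} [AddCommGroup M] [Module A M] [Module.Finite A M] [AddCommGroup N]
    [Module A N] [Module.Finite A N] (q : M ≃ₗ[A] N) : g I d M = g I d N := funext fun t => by
  rw [g, g, le_antisymm (Groth.Ega41Dim.hs_le_of_surjective I q.symm.toLinearMap q.symm.surjective t)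
    (Groth.Ega41Dim.hs_le_of_surjective I q.toLinearMap q.surjective t)]

theorem main [IsLocalRing A] (hI : I ≤ IsLocalRing.maximalIdeal A)
    (hmax : ∀ p : Ideal A, p.IsPrime → I ≤ p → p.IsMaximal)
    (he : ∀ p : PrimeSpectrum A, ringKrullDim (A ⧸ p.asIdeal) = d → Tendsto (g I d (A ⧸ p.asIdeal)) atTop (𝓝 (e p)))
    (M : Type u) [AddCommGroup M] [Module A M] [Module.Finite A M] (hd : Module.supportDim A M ≤ d) :
    Tendsto (g I d M) atTop (𝓝 (∑ᶠ p, F d e M p)) := by
  refine IsNoetherianRing.induction_on_isQuotientEquivQuotientPrime (A := A) (M := M) inferInstance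
    (motive := fun N _ _ _ => Module.supportDim A N ≤ d → Tendsto (g I d N) atTop (𝓝 (∑ᶠ p, F d e N p)))
    ?_ ?_ ?_ hd
  · intro N _ _ _ _ _
    have h0 : ∀ p, F d e N p = 0 := fun p => by
      have : lq p.asIdeal N = 0 := lq_eq_zero_of_notMem _ (by simp [Module.support_eq_empty])
      simp [F, this]
    have h1 : ∀ t, g I d N t = 0 := fun t => by simp [g, hs, Module.length_eq_zero]
    simp only [h0, finsum_zero]
    exact tendsto_const_nhds.congr fun t => (h1 t).symm
  · intro N _ _ _ p q hdN
    rw [g_congr I d q]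
    have hlq : ∀ r : PrimeSpectrum A, F d e N r = F d e (A ⧸ p.asIdeal) r := fun r => by
      simp only [F, lq_congr r.asIdeal q]
    simp only [hlq]
    rw [Module.supportDim_eq_of_equiv q] at hdN
    have hzero : ∀ r : PrimeSpectrum A, r ≠ p → F d e (A ⧸ p.asIdeal) r = 0 := fun r hr => by
      by_cases hdim : ringKrullDim (A ⧸ r.asIdeal) = d
      · have : r ∉ Module.support A (A ⧸ p.asIdeal) := fun hmem => by
          have hle := Groth.TopPrimeCount.mem_support_quot.1 hmem
          have := (minimal_of_top d (A ⧸ p.asIdeal) hdN r hmem hdim).2 (y := p)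
            (Groth.TopPrimeCount.mem_support_quot.2 le_rfl) hle
          exact hr (le_antisymm this hle)
        simp [F, lq_eq_zero_of_notMem r.asIdeal this]
      · simp [F, hdim]
    rw [finsum_eq_single _ p hzero]
    by_cases hdim : ringKrullDim (A ⧸ p.asIdeal) = d
    · simp only [F, if_pos hdim, lq_quot_self, ENat.toNat_one, Nat.cast_one, one_mul]
      exact he p hdim
    · simp only [F, if_neg hdim]
      obtain ⟨P, hP⟩ := Groth.Ega41Dim.exists_isHSPoly I (A ⧸ p.asIdeal)
      have : Nontrivial (A ⧸ p.asIdeal) := Ideal.Quotient.nontrivial_iff.2 p.isPrime.ne_top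
      have hdeg := Groth.Ega41Dim.natDegree_eq_supportDim (r := I) hmax
        (hI.trans (IsLocalRing.maximalIdeal_le_jacobson _)) hP
      rw [Module.supportDim_quotient_eq_ringKrullDim] at hdeg hdN
      rw [← hdeg] at hdN hdim
      have hle : P.natDegree ≤ d := by exact_mod_cast hdN
      have hne : P.natDegree ≠ d := fun h => hdim (by rw [h])
      have hcoeff : P.coeff d = 0 := Polynomial.coeff_eq_zero_of_natDegree_lt (lt_of_le_of_ne hle hne)
      have h1 := ((Groth.KEuler.tendsto_eval_div (d := d) hle).const_mul (d.factorial : ℝ))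
      rw [hcoeff, Rat.cast_zero, mul_zero] at h1
      refine h1.congr' ?_
      filter_upwards [hP] with t ht
      rw [g, ← ht, Rat.cast_natCast, mul_div_assoc]
  · intro N₁ _ _ _ N₂ _ _ _ N₃ _ _ _ f k hf hk hfk h₁ h₃ hd₂
    have hs1 : Module.supportDim A N₁ ≤ d := (Groth.TopPrimeCount.supportDim_mono
      (Module.support_subset_of_injective f hf)).trans hd₂
    have hs3 : Module.supportDim A N₃ ≤ d := (Groth.TopPrimeCount.supportDim_mono
      (Module.support_subset_of_surjective k hk)).trans hd₂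
    simp only [F_add d e hd₂ hf hk hfk]
    rw [finsum_add_distrib (finite_support d e N₁ hs1) (finite_support d e N₃ hs3)]
    exact tendsto_exact I d hf hk hfk (h₁ hs1) (h₃ hs3)

end Assoc

/-- Suppose A is a local Noetherian ring with an ideal of definition I, take M to be a finite A-module,
and fix d with dim Supp(M) ≤ d. Then e_I(M, d) equals Σ_p length_{A_p}(M_p) · e_I(A/p, d), where p
ranges over the primes satisfying dim(A/p) = d (all but finitely many summands vanish); here e_I(N,
d) denotes the limit of d! · length_A(N/I^t N)/t^d, and the formal version says: assuming these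
limits e_p exist for the A-modules A/p, the limit attached to M is the sum shown. -/
theorem result (A : Type u) [CommRing A] [IsNoetherianRing A] [IsLocalRing A]
    (I : Ideal A) (hI : I ≤ IsLocalRing.maximalIdeal A ∧ ∃ n : ℕ, IsLocalRing.maximalIdeal A ^ n ≤ I)
    (M : Type u) [AddCommGroup M] [Module A M] [Module.Finite A M]
    (d : ℕ) (hd : Module.supportDim A M ≤ d) (e : PrimeSpectrum A → ℝ)
    (he : ∀ p : PrimeSpectrum A, ringKrullDim (A ⧸ p.asIdeal) = d →
      Filter.Tendsto (fun t : ℕ => (d.factorial : ℝ) *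
        ((Module.length A ((A ⧸ p.asIdeal) ⧸ (I ^ t • (⊤ : Submodule A (A ⧸ p.asIdeal))))).toNat : ℝ) / (t : ℝ) ^ d)
        Filter.atTop (nhds (e p))) :
    Filter.Tendsto (fun t : ℕ => (d.factorial : ℝ) * ((Module.length A (M ⧸ (I ^ t • (⊤ : Submodule A M)))).toNat : ℝ) / (t : ℝ) ^ d) Filter.atTop
      (nhds (∑ᶠ (p : PrimeSpectrum A) (_ : ringKrullDim (A ⧸ p.asIdeal) = d),
        ((Module.length (Localization.AtPrime p.asIdeal) (LocalizedModule p.asIdeal.primeCompl M)).toNat : ℝ) * e p)) := by
  obtain ⟨hle, n, hn⟩ := hI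
  have hmax : ∀ p : Ideal A, p.IsPrime → I ≤ p → p.IsMaximal := fun p hp hIp => by
    have h1 : IsLocalRing.maximalIdeal A ≤ p := hp.le_of_pow_le (hn.trans hIp)
    rw [← (IsLocalRing.maximalIdeal.isMaximal A).eq_of_le hp.ne_top h1]
    exact IsLocalRing.maximalIdeal.isMaximal A
  haveI : IsArtinianRing (A ⧸ I) := Groth.Ega41Dim.isArtinianRing_quotient_of_forall_isMaximal I hmax
  classical
  simp only [finsum_eq_if]
  exact main I d e hle hmax he M hd

end Groth.Agent.S12212
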