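import Groth.Statements.S12214
import Groth.Agent.RaynaudGruson.WeakAssFP

set_option autoImplicit false
universe u
open FlatMor

namespace Groth.Agent.S12214

/-- Let R → S be a ring map of finite presentation, M a finite S-module, and assume R has finitely many
weakly associated primes. Then for every g ∈ S whose basic open D(g) is contained in the flat locus
U = {q : M_q is flat over R}, the localization M_g is a finitely presented S_g-module which is flat
over R. (Openness of U is the companion statement.) -/
theorem result {R S : Type u} [CommRing R] [CommRing S] [Algebra R S]
    [Algebra.FinitePresentation R S] (hR : (FlatCA.weakAss R R).Finite)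
    (M : Type u) [AddCommGroup M] [Module S M] [Module R M] [IsScalarTower R S M] [Module.Finite S M]
    (g : S) (hg : ∀ (q : Ideal S) [q.IsPrime], g ∉ q → FlatCA.FlatAt R q M) :
    Module.FinitePresentation (Localization.Away g) (LocalizedModule (Submonoid.powers g) M) ∧
      Module.Flat R (LocalizedModule (Submonoid.powers g) M) := by
  have hflat : Module.Flat R (LocalizedModule (Submonoid.powers g) M) :=
    Groth.RaynaudGruson.WeakAssFP.flat_localized_powers g fun q _ hgq => hg q hgq
  refine ⟨?_, hflat⟩
  haveI : Algebra.FinitePresentation S (Localization.Away g) := IsLocalization.Away.finitePresentation g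
  haveI : Algebra.FinitePresentation R (Localization.Away g) := Algebra.FinitePresentation.trans R S _
  haveI := hflat
  haveI : IsScalarTower R (Localization.Away g) (LocalizedModule (Submonoid.powers g) M) :=
    IsScalarTower.of_algebraMap_smul fun r x => by
      rw [IsScalarTower.algebraMap_apply R S (Localization.Away g), algebraMap_smul, algebraMap_smul]
  refine Module.FinitePresentation.of_localizationSpan {h : Localization.Away g |
    Module.FinitePresentation (Localization.Away h) (LocalizedModule (Submonoid.powers h) (LocalizedModule (Submonoid.powers g) M))} ?_ fun h => h.2
  by_contra hne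
  obtain ⟨m, hm, hle⟩ := Ideal.exists_le_maximal _ hne
  obtain ⟨h, hhm, -, hfp, -⟩ := Groth.RaynaudGruson.WeakAssFP.exists_nbhd (M := LocalizedModule (Submonoid.powers g) M)
    hR (⟨m, hm.isPrime⟩ : PrimeSpectrum (Localization.Away g)) (Groth.FlatMorOne.flat_localized_of_flat _)
  exact hhm (hle (Ideal.subset_span hfp))

end Groth.Agent.S12214
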