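import Groth.Statements.S12217
import Groth.Agent.Misc15.Socle
import Groth.Agent.Gorenstein.Regular
import Mathlib.RingTheory.PowerSeries.Inverse
import Mathlib.RingTheory.AdicCompletion.LocalRing

set_option autoImplicit false
universe u
open Curves

namespace Groth.Agent.S12217

/-- In this form A is the local ring of the curve at the point, and a Gorenstein scheme has Gorenstein
local rings. Let k be an algebraically closed field and A a Gorenstein local ring whose completion
with respect to its maximal ideal is isomorphic to the multicross ring with n ≥ 2 branches, the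
subring of (k[[t]])^n consisting of the n-tuples of power series having a common constant term. Then
n = 2: a Gorenstein multicross singularity is a node. The isomorphism is given as an injective ring
map from the completion to (k[[t]])^n with that subring as its range. -/
theorem result (k : Type u) [Field k] [IsAlgClosed k]
    (A : Type u) [CommRing A] [LocCoh.IsGorensteinLocalRing A] (n : ℕ) (hn : 2 ≤ n)
    (φ : AdicCompletion (IsLocalRing.maximalIdeal A) A →+* (Fin n → PowerSeries k))
    (hinj : Function.Injective φ)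
    (hrange : Set.range φ = {f : Fin n → PowerSeries k | ∀ i j : Fin n, PowerSeries.constantCoeff (f i) = PowerSeries.constantCoeff (f j)}) :
    n = 2 := by
  classical
  by_contra hne
  have h3 : 3 ≤ n := by omega
  let i₀ : Fin n := ⟨0, by omega⟩
  let i₁ : Fin n := ⟨1, by omega⟩
  let i₂ : Fin n := ⟨2, by omega⟩
  have h01 : i₀ ≠ i₁ := by simp [i₀, i₁, Fin.ext_iff]
  have h02 : i₂ ≠ i₀ := by simp [i₀, i₂, Fin.ext_iff]
  have h12 : i₂ ≠ i₁ := by simp [i₁, i₂, Fin.ext_iff]
  let m := IsLocalRing.maximalIdeal A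
  let ι : A →+* AdicCompletion m A := algebraMap A (AdicCompletion m A)
  have hι : Function.Injective ι := AdicCompletion.of_injective m A
  let ψ : A →+* (Fin n → PowerSeries k) := φ.comp ι
  have hψ : Function.Injective ψ := hinj.comp hι
  have hmem : ∀ f : Fin n → PowerSeries k,
      (∀ i j, PowerSeries.constantCoeff (f i) = PowerSeries.constantCoeff (f j)) → ∃ y, φ y = f :=
    fun f hf => (hrange.symm ▸ hf : f ∈ Set.range φ)
  have hconst : ∀ (a : A) (i j : Fin n),
      PowerSeries.constantCoeff (ψ a i) = PowerSeries.constantCoeff (ψ a j) := fun a => by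
    have h : φ (ι a) ∈ Set.range φ := ⟨_, rfl⟩
    rw [hrange] at h
    exact h
  have hunit : ∀ a : A, PowerSeries.constantCoeff (ψ a i₀) ≠ 0 → IsUnit a := fun a ha => by
    obtain ⟨y, hy⟩ := hmem (fun i => (ψ a i)⁻¹) fun i j => by
      rw [PowerSeries.constantCoeff_inv, PowerSeries.constantCoeff_inv, hconst a i j]
    have h1 : ι a * y = 1 := hinj (by
      rw [map_mul, map_one, hy]
      funext i
      exact PowerSeries.mul_inv_cancel _ (show PowerSeries.constantCoeff (ψ a i) ≠ 0 by rw [hconst a i i₀]; exact ha))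
    exact (isUnit_map_iff ι a).mp (IsUnit.of_mul_eq_one _ h1)
  have hm0 : ∀ a ∈ m, ∀ i, PowerSeries.constantCoeff (ψ a i) = 0 := fun a ha i => by
    rw [hconst a i i₀]
    by_contra h
    exact ha (hunit a h)
  have hcoeff : ∀ (r z : A), z ∈ m → ∀ i, PowerSeries.coeff 1 (ψ (r * z) i) =
      PowerSeries.constantCoeff (ψ r i₀) * PowerSeries.coeff 1 (ψ z i) := fun r z hz i => by
    rw [map_mul, Pi.mul_apply, PowerSeries.coeff_mul, Finset.Nat.sum_antidiagonal_eq_sum_range_succ_mk,
      Finset.sum_range_succ, Finset.sum_range_one, hconst r i₀ i]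
    simp [hm0 z hz i]
  have hsq : ∀ c ∈ m ^ 2, ∀ i, PowerSeries.constantCoeff (ψ c i) = 0 ∧ PowerSeries.coeff 1 (ψ c i) = 0 := by
    intro c hc i
    refine ⟨hm0 c (Ideal.pow_le_self two_ne_zero hc) i, ?_⟩
    rw [pow_two] at hc
    induction hc using Submodule.mul_induction_on' with
    | mem_mul_mem a ha b hb => rw [hcoeff a b hb i, hm0 a ha i₀, zero_mul]
    | add x _ y _ hx hy => rw [map_add, Pi.add_apply, map_add, hx, hy, add_zero]
  have hlift : ∀ v : Fin n → k, ∃ a ∈ m, ∀ i, PowerSeries.coeff 1 (ψ a i) = v i := fun v => by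
    obtain ⟨y, hy⟩ := hmem (fun i => PowerSeries.C (v i) * PowerSeries.X) fun i j => by simp
    obtain ⟨a, ha⟩ := Submodule.mkQ_surjective _ (AdicCompletion.eval m A 2 y)
    have hd : y - ι a ∈ (m ^ 2 • ⊤ : Submodule A (AdicCompletion m A)) := by
      rw [AdicCompletion.pow_smul_top_eq_ker_eval m.fg_of_isNoetherianRing, LinearMap.mem_ker, map_sub,
        sub_eq_zero]
      exact ha.symm
    have hz : ∀ d ∈ (m ^ 2 • ⊤ : Submodule A (AdicCompletion m A)), ∀ i,
        PowerSeries.constantCoeff (φ d i) = 0 ∧ PowerSeries.coeff 1 (φ d i) = 0 := by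
      intro d hd i
      refine Submodule.smul_induction_on hd (fun c hc w _ => ?_) (fun x y hx hy => ?_)
      · obtain ⟨h1, h2⟩ := hsq c hc i
        rw [Algebra.smul_def, map_mul, Pi.mul_apply]
        refine ⟨by rw [map_mul]; exact mul_eq_zero_of_left h1 _, ?_⟩
        rw [PowerSeries.coeff_mul, Finset.Nat.sum_antidiagonal_eq_sum_range_succ_mk,
          Finset.sum_range_succ, Finset.sum_range_one]
        change PowerSeries.coeff 0 (ψ c i) * _ + PowerSeries.coeff 1 (ψ c i) * _ = 0
        rw [h2, PowerSeries.coeff_zero_eq_constantCoeff_apply, h1, zero_mul, zero_mul, add_zero]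
      · exact ⟨by rw [map_add, Pi.add_apply, map_add, hx.1, hy.1, add_zero],
          by rw [map_add, Pi.add_apply, map_add, hx.2, hy.2, add_zero]⟩
    have hψa : ∀ i, ψ a i = PowerSeries.C (v i) * PowerSeries.X - φ (y - ι a) i := fun i => by
      rw [map_sub, hy]
      exact (sub_sub_cancel _ _).symm
    refine ⟨a, fun hu => ?_, fun i => ?_⟩
    · have h1 := ((hu.map ψ).map (Pi.evalRingHom (fun _ : Fin n => PowerSeries k) i₀)).map PowerSeries.constantCoeff
      have h0 : PowerSeries.constantCoeff (ψ a i₀) = 0 := by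
        rw [hψa, map_sub PowerSeries.constantCoeff, (hz _ hd i₀).1]; simp
      exact h1.ne_zero h0
    · rw [hψa, map_sub, (hz _ hd i).2]
      simp
  obtain ⟨x, hx, hLx⟩ := hlift fun _ => 1
  obtain ⟨a, ha, hLa⟩ := hlift (Pi.single i₀ 1)
  obtain ⟨b, hb, hLb⟩ := hlift (Pi.single i₁ 1)
  have hspan : ∀ z ∈ m, ∀ c : k, (∀ i, PowerSeries.coeff 1 (ψ z i) = c) → z ∈ Ideal.span {x} := by
    intro z hz c hc
    have hd : ∀ w ∈ m, ∀ i, ∃ u, ψ w i = PowerSeries.X * u ∧
        PowerSeries.constantCoeff u = PowerSeries.coeff 1 (ψ w i) := fun w hw i => by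
      obtain ⟨u, hu⟩ := PowerSeries.X_dvd_iff.2 (hm0 w hw i)
      refine ⟨u, hu, ?_⟩
      rw [hu, PowerSeries.coeff_succ_X_mul, PowerSeries.coeff_zero_eq_constantCoeff_apply]
    choose u hu hu0 using hd x hx
    choose w hw hw0 using hd z hz
    obtain ⟨y, hy⟩ := hmem (fun i => w i * (u i)⁻¹) fun i j => by simp [hu0, hw0, hc, hLx]
    have h1 : ι z = y * ι x := hinj (by
      rw [map_mul, hy]
      funext i
      show ψ z i = w i * (u i)⁻¹ * ψ x i
      rw [hu, hw, show w i * (u i)⁻¹ * (PowerSeries.X * u i) = PowerSeries.X * w i * ((u i)⁻¹ * u i) by ring,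
        PowerSeries.inv_mul_cancel _ (by simp [hu0, hLx]), mul_one])
    have := AdicCompletion.flat_of_isNoetherian (R := A) m
    have : Module.FaithfullyFlat A (AdicCompletion m A) := Module.FaithfullyFlat.of_flat_of_isLocalHom
    rw [← Ideal.comap_map_eq_self_of_faithfullyFlat (B := AdicCompletion m A) (Ideal.span {x}), Ideal.mem_comap]
    show ι z ∈ _
    rw [h1]
    exact Ideal.mul_mem_left _ _ (Ideal.mem_map_of_mem _ (Ideal.mem_span_singleton_self x))
  have hreg : x ∈ nonZeroDivisors A := mem_nonZeroDivisors_iff_right.2 fun c hc => hψ (by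
    rw [map_zero]
    funext i
    have h1 := congr_fun (congrArg ψ hc) i
    rw [map_mul, map_zero] at h1
    refine (mul_eq_zero.1 h1).resolve_right fun h0 => ?_
    have := congrArg (PowerSeries.coeff (R := k) 1) h0
    rw [hLx, map_zero] at this
    exact one_ne_zero this)
  obtain ⟨d, hd⟩ := (GrothGoren.isGorenstein_iff A).1 ‹_›
  have := (GrothGoren.isGorensteinRing_and_dim hd).1
  obtain ⟨s, r, hs, hsr⟩ := Groth.Misc15.Socle.exists_smul_of_socle m (t := x) (a := a) (b := b) hx hreg
    (fun z hz => hspan _ (m.mul_mem_right _ hz) 0 fun i => by rw [hcoeff z a ha i, hm0 z hz i₀, zero_mul])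
    (fun s hs => by
      by_contra hsm
      obtain ⟨c, hc⟩ := Ideal.mem_span_singleton'.1 hs
      have hL := fun i => (congrArg (fun z => PowerSeries.coeff 1 (ψ z i)) hc.symm).trans (hcoeff c x hx i)
      have h0 := hL i₀
      have h1 := hL i₁
      rw [hcoeff s a ha, hLa, hLx] at h0 h1
      rw [Pi.single_eq_of_ne h01.symm, mul_zero, mul_one] at h1
      rw [Pi.single_eq_same, mul_one, mul_one, ← h1] at h0
      exact hsm fun hu => ((hu.map ψ).map (Pi.evalRingHom (fun _ : Fin n => PowerSeries k) i₀)).map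
        PowerSeries.constantCoeff |>.ne_zero h0)
    (fun z hz => hspan _ (m.mul_mem_right _ hz) 0 fun i => by rw [hcoeff z b hb i, hm0 z hz i₀, zero_mul])
  obtain ⟨c, hc⟩ := Ideal.mem_span_singleton'.1 hsr
  have hL : ∀ i, PowerSeries.constantCoeff (ψ c i₀) =
      PowerSeries.constantCoeff (ψ s i₀) * (Pi.single i₁ 1 : Fin n → k) i -
        PowerSeries.constantCoeff (ψ r i₀) * (Pi.single i₀ 1 : Fin n → k) i := fun i => by
    have := congrArg (fun z => PowerSeries.coeff 1 (ψ z i)) hc
    simp only [hcoeff c x hx, hLx, mul_one] at this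
    rw [this, map_sub ψ, Pi.sub_apply, map_sub, hcoeff s b hb, hcoeff r a ha, hLa, hLb]
  have h2 := hL i₂
  have h1 := hL i₁
  rw [h2, Pi.single_eq_same, Pi.single_eq_of_ne h01.symm, Pi.single_eq_of_ne h02, Pi.single_eq_of_ne h12] at h1
  have : PowerSeries.constantCoeff (ψ s i₀) = 0 := by linear_combination -h1
  have hsu : IsUnit s := by_contra fun h => hs h
  exact ((hsu.map ψ).map (Pi.evalRingHom (fun _ : Fin n => PowerSeries k) i₀)).map
    PowerSeries.constantCoeff |>.ne_zero this

end Groth.Agent.S12217
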