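import Groth.Statements.S12463
import Groth.Agent.S7652
import Groth.Agent.Calg8.IntegralDimEq

set_option autoImplicit false
universe u
open Variety

namespace Groth.Agent.S12463

set_option maxHeartbeats 1600000 in
-- one long proof
set_option synthInstance.maxHeartbeats 100000 in
/-- Let (A, m) be a strictly henselian reduced Nagata local ring of dimension one with δ-invariant equal
to the number of geometric branches minus one, and A' the integral closure of A in its total ring of
fractions. Then A is a wedge of discrete valuation rings: for every maximal ideal m' of A' the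
localization A'_{m'} is a discrete valuation ring whose residue field is the image of A, and A
consists exactly of the elements of A' congruent to an element of A modulo every maximal ideal of A'
(the displayed inclusion; the reverse inclusion is trivial). (The inequality δ ≥ branches − 1 of the
published statement holds for every reduced Nagata local ring of dimension one and is not restated.) -/
theorem result (A : Type u) [CommRing A] [HenselianLocalRing A]
    [IsSepClosed (IsLocalRing.ResidueField A)] [IsReduced A] (hN : CAlg.IsNagata A) (hdim : ringKrullDim A = 1)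
    (heq : Curv2.deltaInv A + 1 = Brnch.numGeomBranches A) :
    (∀ m' : MaximalSpectrum ↥(integralClosure A (FractionRing A)),
        (∃ _ : IsDomain (Localization.AtPrime m'.asIdeal), IsDiscreteValuationRing (Localization.AtPrime m'.asIdeal)) ∧
        Function.Surjective (⇑(IsLocalRing.residue (Localization.AtPrime m'.asIdeal)) ∘
          ⇑(algebraMap ↥(integralClosure A (FractionRing A)) (Localization.AtPrime m'.asIdeal)) ∘
          ⇑(algebraMap A ↥(integralClosure A (FractionRing A))))) ∧
    ∀ a' : ↥(integralClosure A (FractionRing A)),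
      (∃ a : A, ∀ m' : MaximalSpectrum ↥(integralClosure A (FractionRing A)),
          a' - algebraMap A _ a ∈ m'.asIdeal) →
      a' ∈ (algebraMap A ↥(integralClosure A (FractionRing A))).range := by
  classical
  haveI : IsNoetherianRing A := hN.1
  obtain ⟨hfin, hnorm, hlt⟩ := Groth.Agent.S7652.result A hN hdim
  let A' := ↥(integralClosure A (FractionRing A))
  have : Algebra.IsIntegral A A' := Algebra.IsIntegral.of_finite A A'
  have : IsNoetherianRing A' := isNoetherianRing_iff.2 (isNoetherian_of_tower A inferInstance)
  have hinj : Function.Injective (algebraMap A A') := fun x y h =>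
    IsFractionRing.injective A (FractionRing A) (congrArg Subtype.val h)
  have hover : ∀ m' : MaximalSpectrum A', m'.asIdeal.comap (algebraMap A A') = IsLocalRing.maximalIdeal A :=
    fun m' => IsLocalRing.eq_maximalIdeal
      (Ideal.isMaximal_comap_of_isIntegral_of_isMaximal (R := A) m'.asIdeal)
  have hfinM : Finite (MaximalSpectrum A') := by
    have : IsArtinianRing (A' ⧸ (IsLocalRing.maximalIdeal A).map (algebraMap A A')) := by
      let _ : Field (A ⧸ IsLocalRing.maximalIdeal A) := Ideal.Quotient.field _
      have : Module.Finite (A ⧸ IsLocalRing.maximalIdeal A)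
          (A' ⧸ (IsLocalRing.maximalIdeal A).map (algebraMap A A')) :=
        Module.Finite.of_restrictScalars_finite A _ _
      exact IsArtinianRing.of_finite (A ⧸ IsLocalRing.maximalIdeal A) _
    have := (IsArtinianRing.setOfPred_isPrime_finite
      (A' ⧸ (IsLocalRing.maximalIdeal A).map (algebraMap A A'))).to_subtype
    refine Finite.of_injective (fun m' : MaximalSpectrum A' =>
      (⟨m'.asIdeal.map (Ideal.Quotient.mk _), Ideal.map_isPrime_of_surjective Ideal.Quotient.mk_surjective
        (by rw [Ideal.mk_ker]; exact Ideal.map_le_iff_le_comap.2 (hover m').ge)⟩ : {I : Ideal (A' ⧸ (IsLocalRing.maximalIdeal A).map (algebraMap A A')) | I.IsPrime})) ?_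
    intro m₁ m₂ h
    have h' := congrArg (fun I => Ideal.comap (Ideal.Quotient.mk _) I.1) h
    simp only [Ideal.comap_map_of_surjective _ Ideal.Quotient.mk_surjective, ← RingHom.ker_eq_comap_bot,
      Ideal.mk_ker] at h'
    rw [sup_eq_left.2 (Ideal.map_le_iff_le_comap.2 (hover m₁).ge),
      sup_eq_left.2 (Ideal.map_le_iff_le_comap.2 (hover m₂).ge)] at h'
    exact MaximalSpectrum.ext h'
  have := Fintype.ofFinite (MaximalSpectrum A')
  -- `A'` and the normalization of the reduction
  let q : A ≃+* CAlg2.red A := RingEquiv.ofBijective (Ideal.Quotient.mk (nilradical A))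
    ⟨RingHom.injective_iff_ker_eq_bot _ |>.2 (by rw [Ideal.mk_ker, nilradical_eq_zero]; rfl),
      Ideal.Quotient.mk_surjective⟩
  let e : FractionRing A ≃+* FractionRing (CAlg2.red A) := IsFractionRing.ringEquivOfRingEquiv q
  have he : ∀ a, e (algebraMap A (FractionRing A) a) = algebraMap (CAlg2.red A) _ (q a) := fun a =>
    IsFractionRing.ringEquivOfRingEquiv_algebraMap q a
  have h1 : (e.toRingHom).comp (algebraMap A (FractionRing A)) =
      (algebraMap (CAlg2.red A) (FractionRing (CAlg2.red A))).comp q.toRingHom := RingHom.ext he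
  let ψ : A' →+* CAlg2.normRed A :=
    (e.toRingHom.comp (integralClosure A (FractionRing A)).val.toRingHom).codRestrict
      (integralClosure (CAlg2.red A) (FractionRing (CAlg2.red A))).toSubring
      fun z => IsIntegral.map_of_comp_eq q.toRingHom e.toRingHom h1.symm z.2
  have h2 : (e.symm.toRingHom).comp (algebraMap (CAlg2.red A) (FractionRing (CAlg2.red A))) =
      (algebraMap A (FractionRing A)).comp q.symm.toRingHom := RingHom.ext fun r => by
    apply e.injective
    simp [he]
  have hψs : Function.Surjective ψ := fun z =>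
    ⟨⟨e.symm z.1, IsIntegral.map_of_comp_eq q.symm.toRingHom e.symm.toRingHom h2.symm z.2⟩,
      Subtype.ext (e.apply_symm_apply _)⟩
  -- one geometric branch per closed point, as the residue field is separably closed
  have hcount : Brnch.numGeomBranches A ≤ Fintype.card (MaximalSpectrum A') := by
    rw [Brnch.numGeomBranches, if_pos (minimalPrimes.finite_of_isNoetherianRing A)]
    let T := Σ m' : MaximalSpectrum (CAlg2.normRed A), Brnch.Emb A m'
    let F : T → MaximalSpectrum A' := fun t =>
      ⟨t.1.asIdeal.comap ψ, Ideal.comap_isMaximal_of_surjective ψ hψs⟩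
    have hF : Function.Injective F := by
      rintro ⟨n, σ⟩ ⟨n', σ'⟩ h
      obtain rfl : n = n' := MaximalSpectrum.ext (Ideal.comap_injective_of_surjective ψ hψs
        (congrArg MaximalSpectrum.asIdeal h))
      let _ : Field (CAlg2.normRed A ⧸ n.asIdeal) := Ideal.Quotient.field _
      suffices σ.1 = σ'.1 by rw [Subtype.ext this]
      -- the residue extension is purely inseparable
      let L := AlgebraicClosure (IsLocalRing.ResidueField A)
      refine RingHom.ext fun z => ?_
      let ζ := A ⧸ IsLocalRing.maximalIdeal A
      obtain ⟨p, hp⟩ := ExpChar.exists (IsLocalRing.ResidueField A)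
      have : ExpChar L p := expChar_of_injective_ringHom (algebraMap (IsLocalRing.ResidueField A) L).injective p
      have hker : ∀ a, a ∈ IsLocalRing.maximalIdeal A → Brnch.toResidue A n a = 0 := fun a ha => by
        refine σ.1.injective ?_
        rw [map_zero, ← RingHom.comp_apply, σ.2]
        show algebraMap (IsLocalRing.ResidueField A) L (IsLocalRing.residue A a) = 0
        rw [(IsLocalRing.residue_eq_zero_iff a).2 ha, map_zero]
      let ι : IsLocalRing.ResidueField A →+* CAlg2.normRed A ⧸ n.asIdeal :=
        Ideal.Quotient.lift (IsLocalRing.maximalIdeal A) (Brnch.toResidue A n) hker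
      let _ : Algebra (IsLocalRing.ResidueField A) (CAlg2.normRed A ⧸ n.asIdeal) := ι.toAlgebra
      have hz : IsIntegral A (σ.1 z) ∧ True := ⟨?_, trivial⟩
      swap
      · obtain ⟨w, rfl⟩ := Ideal.Quotient.mk_surjective z
        obtain ⟨w, rfl⟩ := hψs w
        let g : A' →+* L := σ.1.comp ((Ideal.Quotient.mk n.asIdeal).comp ψ)
        have hg : g.comp (algebraMap A A') = (algebraMap (IsLocalRing.ResidueField A) L).comp (IsLocalRing.residue A) := by
          refine Eq.trans ?_ σ.2
          exact RingHom.ext fun a => congrArg (fun x => σ.1 (Ideal.Quotient.mk n.asIdeal x)) (Subtype.ext (he a))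
        exact (Algebra.IsIntegral.isIntegral (R := A) w).map
          ({ g with commutes' := fun a => RingHom.congr_fun hg a } : A' →ₐ[A] L)
      have hpi : IsPurelyInseparable (IsLocalRing.ResidueField A) L := inferInstance
      obtain ⟨j, c, hc⟩ := IsPurelyInseparable.pow_mem (IsLocalRing.ResidueField A) p (σ.1 z)
      obtain ⟨a, rfl⟩ := IsLocalRing.residue_surjective c
      refine iterateFrobenius_inj L p j ?_
      show σ.1 z ^ p ^ j = σ'.1 z ^ p ^ j
      have ha : algebraMap (IsLocalRing.ResidueField A) L (IsLocalRing.residue A a) = σ.1 (Brnch.toResidue A n a) :=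
        (RingHom.congr_fun σ.2 a).symm
      have ha' : algebraMap (IsLocalRing.ResidueField A) L (IsLocalRing.residue A a) = σ'.1 (Brnch.toResidue A n a) :=
        (RingHom.congr_fun σ'.2 a).symm
      have : z ^ p ^ j = Brnch.toResidue A n a := σ.1.injective (by rw [map_pow, ← hc, ha])
      rw [← map_pow, ← map_pow, this, ← ha, ha']
    have := Finite.of_injective F hF
    rw [ENat.card_eq_coe_natCard, ← Nat.card_eq_fintype_card]
    exact_mod_cast Nat.card_le_card_of_injective F hF
  -- lengths
  let J : Submodule A A' := Submodule.restrictScalars A (⨅ m' : MaximalSpectrum A', m'.asIdeal)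
  let N : Submodule A A' := LinearMap.range (Algebra.linearMap A A') ⊔ J
  let K : MaximalSpectrum A' → Type u := fun m' => A' ⧸ m'.asIdeal
  let Φ : A' →ₗ[A] (Π m', K m') := LinearMap.pi fun m' => (Ideal.Quotient.mkₐ A m'.asIdeal).toLinearMap
  have hΦ : Function.Surjective Φ := fun y => by
    choose w hw using fun m' => Ideal.Quotient.mk_surjective (y m')
    obtain ⟨z, hz⟩ := Ideal.pi_quotient_surjective (I := fun m' : MaximalSpectrum A' => m'.asIdeal)
      (fun i j hij => Ideal.isCoprime_of_isMaximal fun h => hij (MaximalSpectrum.ext h)) y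
    exact ⟨z, funext hz⟩
  have hΦker : LinearMap.ker Φ = J := by
    ext z
    simp only [Φ, J, LinearMap.mem_ker, funext_iff, Submodule.restrictScalars_mem, Submodule.mem_iInf]
    exact forall_congr' fun m' => Ideal.Quotient.eq_zero_iff_mem
  have hlen : Module.length A (A' ⧸ J) = ∑ m', Module.length A (K m') := by
    rw [← Module.length_pi_of_fintype, ← hΦker]
    exact (LinearMap.quotKerEquivOfSurjective Φ hΦ).length_eq
  let rA := LinearMap.range (Algebra.linearMap A A')
  have hsplit1 : Module.length A (A' ⧸ rA) = Module.length A (N.map rA.mkQ) + Module.length A (A' ⧸ N) := by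
    rw [← (Submodule.quotientQuotientEquivQuotient rA N le_sup_left).length_eq]
    exact Module.length_eq_add_of_exact (N.map rA.mkQ).subtype (N.map rA.mkQ).mkQ
      (Submodule.subtype_injective _) (Submodule.mkQ_surjective _) (LinearMap.exact_subtype_mkQ _)
  have hsplit2 : Module.length A (A' ⧸ J) ≤ Module.length A (A' ⧸ N) + 1 := by
    rw [← (Submodule.quotientQuotientEquivQuotient J N le_sup_right).length_eq]
    rw [Module.length_eq_add_of_exact (N.map J.mkQ).subtype (N.map J.mkQ).mkQ
      (Submodule.subtype_injective _) (Submodule.mkQ_surjective _) (LinearMap.exact_subtype_mkQ _), add_comm]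
    refine add_le_add le_rfl ?_
    let g : A →ₗ[A] N.map J.mkQ := (J.mkQ.comp (Algebra.linearMap A A')).codRestrict _ fun a =>
      ⟨_, Submodule.mem_sup_left ⟨a, rfl⟩, rfl⟩
    have hgs : Function.Surjective g := by
      rintro ⟨_, w, hw, rfl⟩
      obtain ⟨_, ⟨a, rfl⟩, j, hj, rfl⟩ := Submodule.mem_sup.1 hw
      refine ⟨a, Subtype.ext ?_⟩
      show J.mkQ _ = J.mkQ _
      rw [map_add, show J.mkQ j = 0 from (Submodule.Quotient.mk_eq_zero J).2 hj, add_zero]
    have hgk : IsLocalRing.maximalIdeal A ≤ LinearMap.ker g := fun a ha => by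
      refine Subtype.ext ((Submodule.Quotient.mk_eq_zero J).2 ?_)
      rw [Submodule.restrictScalars_mem, Submodule.mem_iInf]
      exact fun m' => (hover m').ge ha
    let g' := Submodule.liftQ _ g hgk
    refine (Module.length_le_of_surjective g' fun y => (hgs y).elim fun a h => ⟨Submodule.Quotient.mk a, h⟩).trans ?_
    have : IsSimpleModule A (A ⧸ IsLocalRing.maximalIdeal A) :=
      isSimpleModule_iff_isCoatom.2 (IsLocalRing.maximalIdeal.isMaximal A).out
    rw [Module.length_eq_one A (A ⧸ IsLocalRing.maximalIdeal A)]
  have hK1 : ∀ m' : MaximalSpectrum A', (1 : ℕ∞) ≤ Module.length A (K m') := fun m' => by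
    have : Nontrivial (K m') := Ideal.Quotient.nontrivial_iff.2 m'.isMaximal.ne_top
    exact Order.one_le_iff_pos.2 Module.length_pos
  have htot : ∑ m', Module.length A (K m') + Module.length A (N.map rA.mkQ) ≤ (Fintype.card (MaximalSpectrum A') : ℕ∞) := by
    rw [← hlen]
    calc _ ≤ Module.length A (A' ⧸ N) + 1 + Module.length A (N.map rA.mkQ) := add_le_add hsplit2 le_rfl
      _ = Curv2.deltaInv A + 1 := by
        rw [show Curv2.deltaInv A = Module.length A (A' ⧸ rA) from rfl, hsplit1]; ring
      _ ≤ _ := heq ▸ hcount
  have hcard : (Fintype.card (MaximalSpectrum A') : ℕ∞) = ∑ _m' : MaximalSpectrum A', 1 := by simp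
  have hsum : ∑ m', Module.length A (K m') ≤ ∑ _m' : MaximalSpectrum A', (1 : ℕ∞) :=
    hcard ▸ le_trans le_self_add htot
  have hKeq : ∀ m', Module.length A (K m') = 1 := by
    intro m'
    refine le_antisymm ?_ (hK1 m')
    by_contra hgt
    rw [not_le] at hgt
    have : ∑ _m' : MaximalSpectrum A', (1 : ℕ∞) < ∑ m', Module.length A (K m') := by
      refine ENat.add_one_le_iff (by simp) |>.1 ?_
      rw [← Finset.add_sum_erase _ _ (Finset.mem_univ m'), ← Finset.add_sum_erase _ _ (Finset.mem_univ m'),
        add_right_comm]
      exact add_le_add (Order.add_one_le_of_lt hgt) (Finset.sum_le_sum fun i _ => hK1 i)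
    exact absurd hsum (not_le.2 this)
  have hN0 : Module.length A (N.map rA.mkQ) = 0 := by
    rw [show ∑ m', Module.length A (K m') = (Fintype.card (MaximalSpectrum A') : ℕ∞) by simp [hKeq]] at htot
    refine le_antisymm ?_ zero_le
    exact (ENat.add_le_add_iff_left (ENat.coe_ne_top _)).1 (htot.trans (add_zero _).ge)
  refine ⟨fun m' => ⟨⟨(hnorm ⟨m'.asIdeal, m'.isMaximal.isPrime⟩).1, ?_⟩, ?_⟩, fun a' ⟨a, ha⟩ => ?_⟩
  · -- discrete valuation ring
    haveI := (hnorm ⟨m'.asIdeal, m'.isMaximal.isPrime⟩).1
    haveI := (hnorm ⟨m'.asIdeal, m'.isMaximal.isPrime⟩).2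
    let L := Localization.AtPrime m'.asIdeal
    have hdim' : ringKrullDim L ≤ 1 := by
      rw [IsLocalization.AtPrime.ringKrullDim_eq_height m'.asIdeal L]
      exact (Ideal.height_le_ringKrullDim_of_ne_top m'.isMaximal.ne_top).trans
        ((Groth.Calg8.ringKrullDim_eq_of_integral A A' hinj).trans hdim).le
    haveI : Ring.KrullDimLE 1 L := (Ring.krullDimLE_iff).2 hdim'
    haveI : Ring.DimensionLEOne L :=
      ⟨fun {P} hP0 hP => Ring.krullDimLE_one_iff_of_noZeroDivisors.1 inferInstance P hP0 hP⟩
    have hnf : ¬ IsField L := by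
      intro hF
      obtain ⟨t, htm, ht⟩ : ∃ t ∈ IsLocalRing.maximalIdeal A, t ∈ nonZeroDivisors A := by
        by_contra hcon
        push Not at hcon
        have hsub : (IsLocalRing.maximalIdeal A : Set A) ⊆ {t | ∃ p ∈ minimalPrimes A, t ∈ p} := fun t ht => by
          by_contra h
          exact hcon t ht (mem_nonZeroDivisors_iff_right.2 fun y hy => by
            have : y ∈ sInf (minimalPrimes A) := Submodule.mem_sInf.2 fun p hp =>
              (hp.1.1.mem_or_mem (hy ▸ p.zero_mem : y * t ∈ p)).resolve_right fun htp => h ⟨p, hp, htp⟩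
            rw [minimalPrimes, Ideal.sInf_minimalPrimes] at this
            exact (IsReduced.eq_zero y (nilpotent_iff_mem_prime.2 fun P hP => hP.radical_le_iff.2 bot_le this)))
        have hfinP := minimalPrimes.finite_of_isNoetherianRing A
        obtain ⟨p, hp, hle⟩ := (Ideal.subset_union_prime (f := id) ⊥ ⊥
          (fun p hp _ _ => (hfinP.mem_toFinset.1 hp).1.1)).1 (fun t ht => by
            obtain ⟨p, hp, htp⟩ := hsub ht
            exact Set.mem_biUnion (hfinP.mem_toFinset.2 hp) htp : (IsLocalRing.maximalIdeal A : Set A) ⊆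
              ⋃ p ∈ (hfinP.toFinset : Set (Ideal A)), ((id p : Ideal A) : Set A))
        have hp' := hfinP.mem_toFinset.1 hp
        have heq' : p = IsLocalRing.maximalIdeal A := le_antisymm (IsLocalRing.le_maximalIdeal hp'.1.1.ne_top) hle
        have h0 : (IsLocalRing.maximalIdeal A).height = 0 := by
          rw [Ideal.height_eq_zero_iff]; exact heq' ▸ hp'
        have := (IsLocalRing.maximalIdeal_height_eq_ringKrullDim (R := A))
        rw [h0, hdim] at this
        exact zero_ne_one (WithBot.coe_inj.1 this)
      have ht' : algebraMap A' L (algebraMap A A' t) ≠ 0 := by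
        intro h0
        obtain ⟨⟨s, hs⟩, hs'⟩ := (IsLocalization.map_eq_zero_iff m'.asIdeal.primeCompl L _).1 h0
        refine hs (?_ : s ∈ m'.asIdeal)
        have hu : IsUnit (algebraMap A (FractionRing A) t) := IsLocalization.map_units _ ⟨t, ht⟩
        have : (s : FractionRing A) * algebraMap A (FractionRing A) t = 0 := congrArg Subtype.val hs'
        have hs0 : s = 0 := Subtype.ext (hu.mul_left_eq_zero.1 this)
        exact hs0 ▸ Ideal.zero_mem _
      obtain ⟨b, hb⟩ := hF.mul_inv_cancel ht'
      exact (IsLocalization.AtPrime.isUnit_to_map_iff L m'.asIdeal (algebraMap A A' t)).1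
        (IsUnit.of_mul_eq_one b hb) ((hover m').ge htm)
    haveI : IsDedekindDomain L := { }
    exact ((IsDiscreteValuationRing.TFAE L hnf).out 0 2 rfl rfl).2 inferInstance
  · intro z
    obtain ⟨z, rfl⟩ := IsLocalRing.residue_surjective z
    obtain ⟨z, s, rfl⟩ := IsLocalization.exists_mk'_eq m'.asIdeal.primeCompl z
    let g : A →ₗ[A] K m' := Algebra.linearMap A (K m')
    have : IsSimpleModule A (K m') := Module.length_eq_one_iff.1 (hKeq m')
    have hgs : Function.Surjective g := by
      rcases LinearMap.surjective_or_eq_zero g with h | h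
      · exact h
      · exact absurd ((map_one (algebraMap A (K m'))).symm.trans (LinearMap.congr_fun h 1))
          (by have : Nontrivial (K m') := Ideal.Quotient.nontrivial_iff.2 m'.isMaximal.ne_top
              exact one_ne_zero)
    obtain ⟨u, i, hi, hui⟩ := m'.isMaximal.exists_inv s.2
    obtain ⟨a, ha⟩ := hgs (Ideal.Quotient.mk m'.asIdeal (z * u))
    refine ⟨a, ?_⟩
    let L := Localization.AtPrime m'.asIdeal
    let ρ : A' →+* IsLocalRing.ResidueField L := (IsLocalRing.residue L).comp (algebraMap A' L)
    show ρ (algebraMap A A' a) = IsLocalRing.residue L (IsLocalization.mk' L z s)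
    have hρ : ∀ x y : A', x - y ∈ m'.asIdeal → ρ x = ρ y := fun x y hxy => by
      rw [← sub_eq_zero, ← map_sub, RingHom.comp_apply, IsLocalRing.residue_eq_zero_iff,
        IsLocalization.AtPrime.to_map_mem_maximal_iff L m'.asIdeal]
      exact hxy
    have hs0 : ρ s ≠ 0 := ((IsLocalization.map_units L s).map (IsLocalRing.residue L)).ne_zero
    refine mul_right_cancel₀ hs0 ?_
    rw [show IsLocalRing.residue L (IsLocalization.mk' L z s) * ρ s = ρ z by
      rw [RingHom.comp_apply, ← map_mul, IsLocalization.mk'_spec]; rfl, ← map_mul]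
    refine hρ _ _ ?_
    have h1 : algebraMap A A' a - z * u ∈ m'.asIdeal := Ideal.Quotient.eq.1 ha
    rw [show algebraMap A A' a * (s : A') - z = (algebraMap A A' a - z * u) * (s : A') - z * i by
      linear_combination z * hui]
    exact sub_mem (Ideal.mul_mem_right _ _ h1) (Ideal.mul_mem_left _ _ hi)
  · have hj : a' - algebraMap A A' a ∈ J := by
      rw [Submodule.restrictScalars_mem, Submodule.mem_iInf]
      exact ha
    have hmem : a' ∈ N := by
      rw [show a' = algebraMap A A' a + (a' - algebraMap A A' a) by ring]
      exact Submodule.add_mem_sup ⟨a, rfl⟩ hj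
    have hmem' : rA.mkQ a' ∈ N.map rA.mkQ := Submodule.mem_map_of_mem hmem
    haveI := Module.length_eq_zero_iff.1 hN0
    have h0 : (⟨_, hmem'⟩ : N.map rA.mkQ) = 0 := Subsingleton.elim _ _
    obtain ⟨b, hb⟩ := (Submodule.Quotient.mk_eq_zero rA).1 (congrArg Subtype.val h0)
    exact ⟨b, hb⟩

end Groth.Agent.S12463
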