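import Groth.Statements.S7654
import Groth.Agent.VarietyBC.DeltaFlat
import Groth.Agent.S7652
import Groth.Agent.Hensel1.Transfer
import Groth.Agent.Calg1.GRingHens.Basic
import Groth.Agent.Calg1.Completion
-- import your own Groth.Agent.* helpers here

set_option autoImplicit false
set_option linter.style.haveILetI false
universe u
open CategoryTheory CategoryTheory.Limits AlgebraicGeometry
open Variety

namespace Groth.Agent.S7654

/-- For a reduced local Nagata ring A of Krull dimension one, the δ-invariant does not change on passing
to a henselization of A, to a strict henselization of A, or to the completion of A. -/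
theorem result (A : Type u) [CommRing A] [IsLocalRing A]
    [IsReduced A] (hN : CAlg.IsNagata A) (hdim : ringKrullDim A = 1) :
    (∀ (B : Type u) [CommRing B] [IsLocalRing B] [Algebra A B] [IsLocalHom (algebraMap A B)],
        Hensel.IsHenselization A B → Curv2.deltaInv B = Curv2.deltaInv A) ∧
      (∀ (B : Type u) [CommRing B] [IsLocalRing B] [Algebra A B] [IsLocalHom (algebraMap A B)],
        Hensel.IsStrictHenselization A B → Curv2.deltaInv B = Curv2.deltaInv A) ∧
      Curv2.deltaInv (Curv2.cpl A) = Curv2.deltaInv A := by
  haveI : IsNoetherianRing A := hN.1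
  haveI := (Groth.Agent.S7652.result A hN hdim).1
  refine ⟨fun B _ _ _ _ hB => ?_, fun B _ _ _ _ hB => ?_, ?_⟩
  · haveI := hB
    obtain ⟨M⟩ := Groth.Hensel1.hensModel_of_isHenselization (R := A) (S := B)
    haveI := M.flat
    haveI : IsNoetherianRing B := M.isNoetherianRing_iff.1 inferInstance
    haveI := Groth.Calg1.GRingHens.isSeparable_residueField M
    exact Groth.VarietyBC.DeltaFlat.deltaInv_eq A B hdim M.map_maximalIdeal
  · haveI := hB
    obtain ⟨M⟩ := Groth.Hensel1.hensModel_of_isStrictHenselization (R := A) (S := B)
    haveI := M.flat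
    haveI : IsNoetherianRing B := M.isNoetherianRing_iff.1 inferInstance
    haveI := Groth.Calg1.GRingHens.isSeparable_residueField M
    exact Groth.VarietyBC.DeltaFlat.deltaInv_eq A B hdim M.map_maximalIdeal
  · haveI : IsNoetherianRing (Curv2.cpl A) :=
      Groth.Calg1.isNoetherianRing_adicCompletion _ (IsNoetherian.noetherian _)
    haveI : Algebra.IsSeparable (IsLocalRing.ResidueField A) (IsLocalRing.ResidueField (Curv2.cpl A)) := by
      refine ⟨fun z => ?_⟩
      obtain ⟨x, rfl⟩ := IsLocalRing.residue_surjective z
      obtain ⟨r, hr⟩ := Submodule.Quotient.mk_surjective _ (x.1 1)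
      have : IsLocalRing.residue (Curv2.cpl A) x =
          algebraMap (IsLocalRing.ResidueField A) (IsLocalRing.ResidueField (Curv2.cpl A))
            (IsLocalRing.residue A r) := by
        rw [IsLocalRing.ResidueField.algebraMap_residue]
        refine (Ideal.Quotient.eq (I := IsLocalRing.maximalIdeal (Curv2.cpl A))).2 ?_
        rw [AdicCompletion.mem_maximalIdeal_iff_eval_one_eq_zero]
        show x.1 1 - (algebraMap A (Curv2.cpl A) r).1 1 = 0
        rw [← hr]
        exact sub_self _
      rw [this]
      exact isSeparable_algebraMap _
    exact Groth.VarietyBC.DeltaFlat.deltaInv_eq A (Curv2.cpl A) hdim AdicCompletion.maximalIdeal_eq_map.symm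

end Groth.Agent.S7654
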