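import Groth.Statements.S7655
import Groth.Agent.BranchCount.Basic

set_option autoImplicit false
universe u
open CategoryTheory CategoryTheory.Limits AlgebraicGeometry
open Variety

namespace Groth.Agent.S7655

/-- Let (A, m) be a reduced Nagata local ring of dimension one. Then the δ-invariant of A is at least
the number of geometric branches of A minus one. -/
theorem result (A : Type u) [CommRing A] [IsLocalRing A]
    [IsReduced A] (hN : CAlg.IsNagata A) (hdim : ringKrullDim A = 1) :
    Brnch.numGeomBranches A ≤ Curv2.deltaInv A + 1 := by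
  classical
  haveI : IsNoetherianRing A := hN.1
  rw [Brnch.numGeomBranches, if_pos (minimalPrimes.finite_of_isNoetherianRing A)]
  let q : A ≃+* CAlg2.red A := RingEquiv.ofBijective (Ideal.Quotient.mk (nilradical A))
    ⟨RingHom.injective_iff_ker_eq_bot _ |>.2 (by rw [Ideal.mk_ker, nilradical_eq_zero]; rfl),
      Ideal.Quotient.mk_surjective⟩
  let e : FractionRing A ≃+* FractionRing (CAlg2.red A) := IsFractionRing.ringEquivOfRingEquiv q
  have he : ∀ a, e (algebraMap A (FractionRing A) a) = algebraMap (CAlg2.red A) _ (q a) := fun a =>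
    IsFractionRing.ringEquivOfRingEquiv_algebraMap q a
  have h1 : (e.toRingHom).comp (algebraMap A (FractionRing A)) =
      (algebraMap (CAlg2.red A) (FractionRing (CAlg2.red A))).comp q.toRingHom := RingHom.ext he
  have h2 : (e.symm.toRingHom).comp (algebraMap (CAlg2.red A) (FractionRing (CAlg2.red A))) =
      (algebraMap A (FractionRing A)).comp q.symm.toRingHom := RingHom.ext fun r => by
    apply e.injective
    simp [he]
  let ψ : integralClosure A (FractionRing A) →+* CAlg2.normRed A :=
    (e.toRingHom.comp (integralClosure A (FractionRing A)).val.toRingHom).codRestrict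
      (integralClosure (CAlg2.red A) (FractionRing (CAlg2.red A))).toSubring
      fun z => IsIntegral.map_of_comp_eq q.toRingHom e.toRingHom h1.symm z.2
  have hψs : Function.Surjective ψ := fun z =>
    ⟨⟨e.symm z.1, IsIntegral.map_of_comp_eq q.symm.toRingHom e.symm.toRingHom h2.symm z.2⟩,
      Subtype.ext (e.apply_symm_apply _)⟩
  refine ENat.forall_natCast_le_iff_le.1 fun n hn => ?_
  obtain ⟨⟨pt, hpt⟩⟩ : Nonempty (Fin n ↪ Σ m' : MaximalSpectrum (CAlg2.normRed A), Brnch.Emb A m') := by
    rw [← Cardinal.lift_mk_le']
    simp only [ENat.card, Cardinal.natCast_le_toENat_iff] at hn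
    simpa using hn
  refine Groth.BranchCount.natCast_le_length_add_one
    (Ω := AlgebraicClosure (IsLocalRing.ResidueField A))
    (fun i => ((pt i).2.1.comp (Ideal.Quotient.mk (pt i).1.asIdeal)).comp ψ) (fun i j hij => ?_)
    fun i a => ?_
  · apply hpt
    have h' : (pt i).2.1.comp (Ideal.Quotient.mk (pt i).1.asIdeal) =
        (pt j).2.1.comp (Ideal.Quotient.mk (pt j).1.asIdeal) := RingHom.ext fun z => by
      obtain ⟨z, rfl⟩ := hψs z
      exact DFunLike.congr_fun hij z
    generalize pt i = x at h'
    generalize pt j = y at h'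
    obtain ⟨m₁, σ₁, hσ₁⟩ := x
    obtain ⟨m₂, σ₂, hσ₂⟩ := y
    letI := Ideal.Quotient.field m₁.asIdeal
    letI := Ideal.Quotient.field m₂.asIdeal
    obtain rfl : m₁ = m₂ := MaximalSpectrum.ext (by
      have h1 := congrArg RingHom.ker h'
      rwa [RingHom.ker_comp_of_injective _ σ₁.injective, RingHom.ker_comp_of_injective _ σ₂.injective,
        Ideal.mk_ker, Ideal.mk_ker] at h1)
    obtain rfl : σ₁ = σ₂ := RingHom.ext fun z => by
      obtain ⟨z, rfl⟩ := Ideal.Quotient.mk_surjective z
      exact DFunLike.congr_fun h' z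
    rfl
  · have hψa : ψ (algebraMap A _ a) =
        algebraMap (CAlg2.red A) (CAlg2.normRed A) (Ideal.Quotient.mk (nilradical A) a) :=
      Subtype.ext (he a)
    simp only [RingHom.comp_apply, hψa]
    exact DFunLike.congr_fun (pt i).2.2 a

end Groth.Agent.S7655
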