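import Groth.Statements.S12218
import Groth.Agent.S12463
import Groth.Agent.S7654
import Groth.Agent.S7655
import Groth.Agent.S9241
import Groth.Agent.EtaleAlgebra.WedgeCompletion
import Groth.Agent.Ega4Algebra1.NagataReduced
import Groth.Agent.Calg2.CompleteNagata
import Groth.Agent.Calg1.CompletionLocal
import Groth.Agent.Calg6.BranchCount

set_option autoImplicit false
universe u
open Curves

namespace Groth.Agent.S12218

/-- Let k be a separably closed field and A a one-dimensional reduced Nagata local k-algebra with
residue field k, having n branches (n a natural number). If the δ-invariant of A equals n − 1, then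
the completion of A with respect to its maximal ideal is the multicross ring with n branches: there
is an injective ring map from the completion to (k[[t]])^n, compatible with the structure maps from
k, whose range is the subring of n-tuples of power series with a common constant term. (The
inequality δ ≥ n − 1 itself is the companion statement on geometric branches.) -/
theorem result (k : Type u) [Field k] [IsSepClosed k]
    (A : Type u) [CommRing A] [IsLocalRing A] [Algebra k A] [IsReduced A]
    (hdim : ringKrullDim A = 1) (hN : CAlg.IsNagata A)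
    (hres : Function.Bijective (algebraMap k (IsLocalRing.ResidueField A)))
    (n : ℕ) (hn : Brnch.numBranches A = n) (hδ : Curv2.deltaInv A + 1 = n) :
    ∃ φ : AdicCompletion (IsLocalRing.maximalIdeal A) A →+* (Fin n → PowerSeries k),
      Function.Injective φ ∧
      (∀ c : k, φ (algebraMap A (AdicCompletion (IsLocalRing.maximalIdeal A) A) (algebraMap k A c)) =
        fun _ => algebraMap k (PowerSeries k) c) ∧
      Set.range φ = {f : Fin n → PowerSeries k | ∀ i j : Fin n, PowerSeries.constantCoeff (f i) = PowerSeries.constantCoeff (f j)} := by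
  classical
  haveI : IsNoetherianRing A := hN.1
  let m := IsLocalRing.maximalIdeal A
  let C := AdicCompletion m A
  haveI : IsNoetherianRing C := Calg1.isNoetherianRing_adicCompletion m m.fg_of_isNoetherianRing
  haveI : IsAdicComplete (IsLocalRing.maximalIdeal C) C := by
    rw [AdicCompletion.maximalIdeal_eq_map]
    exact AdicCompletion.isAdicComplete_self _ m.fg_of_isNoetherianRing
  haveI : HenselianLocalRing C := Groth.Calg6.Branch.henselianLocalRing_of_isAdicComplete C
  -- `C` is reduced, Nagata, one-dimensional
  haveI : IsReduced C := by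
    have h := Groth.Ega4Algebra1.isReduced_completion_jacobson_of_isNagata A hN A
    rwa [IsLocalRing.jacobson_eq_maximalIdeal ⊥ bot_ne_top] at h
  have hNC : CAlg.IsNagata C := Groth.Calg2.CompleteNagata.isNagata_of_isAdicComplete C
  have hdC : ringKrullDim C = 1 := (Groth.Calg1.ringKrullDim_adicCompletion A).trans hdim
  -- residue field
  have hloc : IsLocalHom (algebraMap A C) :=
    ((IsLocalRing.local_hom_TFAE (algebraMap A C)).out 0 2).mpr AdicCompletion.maximalIdeal_eq_map.ge
  have hκ : Function.Bijective (algebraMap (IsLocalRing.ResidueField A) (IsLocalRing.ResidueField C)) := by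
    refine ⟨RingHom.injective _, fun z => ?_⟩
    obtain ⟨x, rfl⟩ := IsLocalRing.residue_surjective z
    obtain ⟨r, hr⟩ := Submodule.Quotient.mk_surjective _ (x.1 1)
    refine ⟨IsLocalRing.residue A r, ?_⟩
    rw [IsLocalRing.ResidueField.algebraMap_residue]
    refine ((Ideal.Quotient.eq (I := IsLocalRing.maximalIdeal C)).2 ?_).symm
    rw [AdicCompletion.mem_maximalIdeal_iff_eval_one_eq_zero]
    show x.1 1 - (algebraMap A C r).1 1 = 0
    rw [← hr]
    exact sub_self _
  let θ : k →+* IsLocalRing.ResidueField C := (algebraMap (IsLocalRing.ResidueField A) _).comp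
    (algebraMap k (IsLocalRing.ResidueField A))
  have hθ : Function.Bijective θ := hκ.comp hres
  haveI : IsSepClosed (IsLocalRing.ResidueField A) :=
    Groth.EtaleAlgebra.Wedge.isSepClosed_of_ringEquiv (RingEquiv.ofBijective _ hres)
  haveI : IsSepClosed (IsLocalRing.ResidueField C) :=
    Groth.EtaleAlgebra.Wedge.isSepClosed_of_ringEquiv (RingEquiv.ofBijective θ hθ)
  -- branches
  have hfinA := minimalPrimes.finite_of_isNoetherianRing A
  have hle : Brnch.numBranches A ≤ Brnch.numGeomBranches A := by
    rw [Brnch.numBranches, Brnch.numGeomBranches, if_pos hfinA, if_pos hfinA]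
    refine ENat.card_le_card_of_injective (f := fun m' : MaximalSpectrum (CAlg2.normRed A) =>
      (⟨m', Classical.choice (Groth.EtaleAlgebra.Wedge.nonempty_emb A m')⟩ : Σ m', Brnch.Emb A m'))
      fun a b h => congrArg Sigma.fst h
  have heq : Curv2.deltaInv C + 1 = Brnch.numGeomBranches C := by
    rw [(Groth.Agent.S9241.result A hdim).2, show Curv2.deltaInv C = Curv2.deltaInv A from
      (Groth.Agent.S7654.result A hN hdim).2.2]
    exact le_antisymm (hδ.trans hn.symm |>.le.trans hle) (Groth.Agent.S7655.result A hN hdim)
  obtain ⟨hD, hwedge⟩ := Groth.Agent.S12463.result C hNC hdC heq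
  obtain ⟨hfin, hnorm, -⟩ := Groth.Agent.S7652.result C hNC hdC
  let C' := ↥(integralClosure C (FractionRing C))
  -- the number of closed points of the normalization is `n`
  let q : C ≃+* CAlg2.red C := RingEquiv.ofBijective (Ideal.Quotient.mk (nilradical C))
    ⟨RingHom.injective_iff_ker_eq_bot _ |>.2 (by rw [Ideal.mk_ker, nilradical_eq_zero]; rfl),
      Ideal.Quotient.mk_surjective⟩
  let e : FractionRing C ≃+* FractionRing (CAlg2.red C) := IsFractionRing.ringEquivOfRingEquiv q
  have he : ∀ a, e (algebraMap C (FractionRing C) a) = algebraMap (CAlg2.red C) _ (q a) := fun a =>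
    IsFractionRing.ringEquivOfRingEquiv_algebraMap q a
  have h1 : (e.toRingHom).comp (algebraMap C (FractionRing C)) =
      (algebraMap (CAlg2.red C) (FractionRing (CAlg2.red C))).comp q.toRingHom := RingHom.ext he
  have h2 : (e.symm.toRingHom).comp (algebraMap (CAlg2.red C) (FractionRing (CAlg2.red C))) =
      (algebraMap C (FractionRing C)).comp q.symm.toRingHom := RingHom.ext fun r => by
    apply e.injective
    simp [he]
  let ψ₀ : C' →+* CAlg2.normRed C :=
    (e.toRingHom.comp (integralClosure C (FractionRing C)).val.toRingHom).codRestrict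
      (integralClosure (CAlg2.red C) (FractionRing (CAlg2.red C))).toSubring
      fun z => IsIntegral.map_of_comp_eq q.toRingHom e.toRingHom h1.symm z.2
  let ψ : C' ≃+* CAlg2.normRed C := RingEquiv.ofBijective ψ₀
    ⟨fun x y h => Subtype.ext (e.injective (congrArg Subtype.val h)),
     fun z => ⟨⟨e.symm z.1, IsIntegral.map_of_comp_eq q.symm.toRingHom e.symm.toRingHom h2.symm z.2⟩,
      Subtype.ext (e.apply_symm_apply _)⟩⟩
  let ε : MaximalSpectrum C' ≃ MaximalSpectrum (CAlg2.normRed C) :=
    { toFun := fun x => ⟨x.asIdeal.comap ψ.symm.toRingHom,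
        Ideal.comap_isMaximal_of_surjective ψ.symm.toRingHom ψ.symm.surjective⟩
      invFun := fun x => ⟨x.asIdeal.comap ψ.toRingHom,
        Ideal.comap_isMaximal_of_surjective ψ.toRingHom ψ.surjective⟩
      left_inv := fun x => MaximalSpectrum.ext (Ideal.ext fun z => by
        show ψ.symm (ψ z) ∈ x.asIdeal ↔ _
        rw [RingEquiv.symm_apply_apply])
      right_inv := fun x => MaximalSpectrum.ext (Ideal.ext fun z => by
        show ψ (ψ.symm z) ∈ x.asIdeal ↔ _
        rw [RingEquiv.apply_symm_apply]) }
  have hcard : ENat.card (MaximalSpectrum C') = (n : ℕ∞) := by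
    rw [ENat.card_congr ε, ← hn, ← (Groth.Agent.S9241.result A hdim).1, Brnch.numBranches,
      if_pos (minimalPrimes.finite_of_isNoetherianRing C)]
  haveI : Finite (MaximalSpectrum C') := ENat.card_lt_top.1 (hcard ▸ ENat.coe_lt_top n)
  have hcard' : Nat.card (MaximalSpectrum C') = n := by
    have := hcard
    rw [ENat.card_eq_coe_natCard] at this
    exact_mod_cast this
  let ε' : Fin n ≃ MaximalSpectrum C' := (hcard' ▸ Finite.equivFin (MaximalSpectrum C') :
    MaximalSpectrum C' ≃ Fin n).symm
  let _ : Algebra k C := ((algebraMap A C).comp (algebraMap k A)).toAlgebra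
  have hkC : Function.Bijective (algebraMap k (IsLocalRing.ResidueField C)) := hθ
  haveI : IsReduced (FractionRing C) :=
    isReduced_localizationPreserves (nonZeroDivisors C) (FractionRing C) inferInstance
  haveI : IsReduced C' := isReduced_of_injective
    ((integralClosure C (FractionRing C)).val.toRingHom : C' →+* FractionRing C) Subtype.val_injective
  obtain ⟨φ, hφi, hφc, hφr⟩ := Groth.EtaleAlgebra.Wedge.exists_embedding k C C' hkC
    (fun x y h => IsFractionRing.injective C (FractionRing C) (congrArg Subtype.val h)) hD hwedge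
  refine ⟨(Pi.ringHom fun i => (Pi.evalRingHom _ (ε' i))).comp φ, fun x y h => hφi (funext fun m' => ?_),
    fun c => funext fun i => congrFun (hφc c) (ε' i), Set.ext fun f => ⟨?_, fun hf => ?_⟩⟩
  · have : φ x (ε' (ε'.symm m')) = φ y (ε' (ε'.symm m')) := congrFun h (ε'.symm m')
    rwa [Equiv.apply_symm_apply] at this
  · rintro ⟨c, rfl⟩ i j
    exact (Set.ext_iff.1 hφr (φ c)).1 ⟨c, rfl⟩ (ε' i) (ε' j)
  · obtain ⟨c, hc⟩ := (Set.ext_iff.1 hφr (fun m' => f (ε'.symm m'))).2 fun i j => hf _ _
    exact ⟨c, funext fun i => by
      show φ c (ε' i) = f i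
      have := congrFun hc (ε' i)
      simpa using this⟩

end Groth.Agent.S12218
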