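import Groth.Statements.S1224
import Mathlib

set_option autoImplicit false
universe u
open FlatMor

namespace Groth.Agent.S1224

/-- Ring form, X = Spec B affine, where proper support means finite support: let B be a finite type
A-algebra and N a finite B-module such that B modulo the annihilator of N is finite over A. Then N
is universally pure relative to Spec A. -/
theorem result {A B : Type u} [CommRing A] [CommRing B] [Algebra A B] [Algebra.FiniteType A B]
    (N : Type u) [AddCommGroup N] [Module B N] [Module A N] [IsScalarTower A B N] [Module.Finite B N]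
    [Module.Finite A (B ⧸ Module.annihilator B N)] : FlatCA.IsUnivPure A B N := by
  intro p _ A' B' N' _ _ _ _ _ _ _ _ _ _ _ _ _ _ f t' t _ _ P _
  rintro ⟨hpush, hbc, htt, -, hPt', hass, hclosed⟩
  have := hPt'
  -- `ann N` maps into `P`
  have hI : ∀ b ∈ Module.annihilator B N, algebraMap B B' b ∈ P := by
    intro b hb
    have hkill : ∀ x : N', algebraMap B B' b • x = 0 := by
      intro x
      induction x using hbc.inductionOn with
      | zero => simp
      | tmul n => rw [algebraMap_smul, ← map_smul, Module.mem_annihilator.mp hb n, map_zero]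
      | smul s x hx => rw [smul_comm, hx, smul_zero]
      | add x y hx hy => rw [smul_add, hx, hy, add_zero]
    have hF : (Algebra.TensorProduct.includeRight (R := A') (A := t'.ResidueField) (B := B')).toRingHom
        (algebraMap B B' b) ∈ Module.annihilator (t'.Fiber B') (FlatCA.fiberMod t' B' N') := by
      rw [Module.mem_annihilator]
      intro m
      letI : Algebra B' (t'.Fiber B') := Algebra.TensorProduct.rightAlgebra
      change (algebraMap B' (t'.Fiber B') (algebraMap B B' b)) • (show TensorProduct B' (t'.Fiber B') N' from m) = 0
      generalize (show TensorProduct B' (t'.Fiber B') N' from m) = m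
      induction m with
      | zero => simp
      | tmul x y => rw [algebraMap_smul, TensorProduct.smul_tmul', TensorProduct.smul_tmul, hkill, TensorProduct.tmul_zero]
      | add x y hx hy => rw [smul_add, hx, hy, add_zero]
    rw [← Submodule.annihilator_top] at hF
    have hmem := IsAssociatedPrime.annihilator_le hass hF
    let φ : t'.Fiber B' →ₐ[A'] P.ResidueField :=
      Algebra.TensorProduct.lift (Ideal.ResidueField.mapₐ t' P (Algebra.ofId A' B') hPt'.over)
        (IsScalarTower.toAlgHom A' B' P.ResidueField) (fun _ _ => Commute.all _ _)
    have hle : FlatCA.fiberIdeal t' P ≤ RingHom.ker φ.toRingHom := by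
      rw [FlatCA.fiberIdeal, Ideal.map_le_iff_le_comap]
      intro x hx
      simp [φ, Ideal.algebraMap_residueField_eq_zero, hx]
    have := hle hmem
    simpa [φ, Ideal.algebraMap_residueField_eq_zero] using this
  -- `B'/P` is integral over `A'`
  have hint : Algebra.IsIntegral A' (B' ⧸ P) := by
    refine ⟨fun y => ?_⟩
    obtain ⟨x, rfl⟩ := Ideal.Quotient.mk_surjective y
    induction x using hpush.1.inductionOn with
    | zero => simpa using isIntegral_zero
    | tmul a => exact isIntegral_algebraMap (R := A') (x := a)
    | smul s x hx =>
      rw [Algebra.smul_def, map_mul]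
      refine IsIntegral.mul ?_ hx
      let g : B ⧸ Module.annihilator B N →ₐ[A] B' ⧸ P :=
        Ideal.Quotient.liftₐ _ ((Ideal.Quotient.mkₐ A P).comp (IsScalarTower.toAlgHom A B B'))
          (fun b hb => Ideal.Quotient.eq_zero_iff_mem.mpr (hI b hb))
      have h0 : IsIntegral A (Ideal.Quotient.mk (Module.annihilator B N) s) := IsIntegral.of_finite A _
      exact (h0.map g).tower_top
    | add x y hx hy => rw [map_add]; exact hx.add hy
  obtain ⟨Q, -, hQ, hQt⟩ := Ideal.exists_ideal_over_prime_of_isIntegral t (⊥ : Ideal (B' ⧸ P)) (by
    intro a ha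
    refine htt ?_
    rw [hPt'.over]
    show algebraMap A' B' a ∈ P
    exact Ideal.Quotient.eq_zero_iff_mem.mp (Ideal.mem_bot.mp ha))
  refine hclosed (Q.comap (Ideal.Quotient.mk P)) ?_ ⟨?_⟩
  · intro x hx
    simp [Ideal.Quotient.eq_zero_iff_mem.mpr hx]
  · rw [← hQt]; rfl

end Groth.Agent.S1224
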