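import Groth.Statements.S1222
import Groth.Agent.RaynaudGruson.QuasiFiniteFinite
import Groth.Agent.RaynaudGruson.FiberAssBridge
import Groth.Agent.RaynaudGruson.FibreGenericPoint
import Groth.Agent.S1224
import Mathlib

set_option autoImplicit false
universe u
open FlatMor

namespace Groth.Agent.S1222

open TensorProduct Groth.RaynaudGruson

attribute [local instance] Algebra.TensorProduct.rightAlgebra

/-- The support algebra is quasi-finite. -/
theorem quasiFinite {A B : Type u} [CommRing A] [CommRing B] [Algebra A B] [Algebra.FiniteType A B]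
    (N : Type u) [AddCommGroup N] [Module B N] [Module A N] [IsScalarTower A B N] [Module.Finite B N]
    (hfin : ∀ (p : Ideal A) [p.IsPrime], (Module.support (p.Fiber B) (FlatCA.fiberMod p B N)).Finite) :
    Algebra.QuasiFinite A (B ⧸ Module.annihilator B N) := by
  rw [Algebra.QuasiFinite.iff_finite_primesOver]
  intro p hp
  let I := Module.annihilator B N
  refine Set.Finite.of_finite_image (f := fun J => J.comap (Ideal.Quotient.mk I)) ?_
    ((Ideal.comap_injective_of_surjective _ Ideal.Quotient.mk_surjective).injOn)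
  refine Set.Finite.subset ((hfin p).image fun ξ => ξ.asIdeal.comap (algebraMap B (p.Fiber B))) ?_
  rintro _ ⟨J, ⟨hJ, hJp⟩, rfl⟩
  haveI := hJ
  haveI : (J.comap (Ideal.Quotient.mk I)).LiesOver p := ⟨by
    rw [Ideal.under_def, Ideal.comap_comap]; exact hJp.over⟩
  obtain ⟨ξ, hξ⟩ := Flatmor4.exists_fiber_prime p (J.comap (Ideal.Quotient.mk I))
  refine ⟨ξ, (FibreGenericPoint.mem_support_fiberMod p N ξ).2 ?_, hξ⟩
  rw [Module.support_eq_zeroLocus]
  show (I : Set B) ⊆ ξ.asIdeal.comap (algebraMap B (p.Fiber B))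
  rw [hξ]
  intro x hx
  show Ideal.Quotient.mk I x ∈ J
  rw [Ideal.Quotient.eq_zero_iff_mem.mpr hx]
  exact zero_mem _

/-- A point of the support minimal in its fibre is an associated point of the fibre module. -/
theorem mem_ass_of_minimal {A' B' : Type u} [CommRing A'] [CommRing B'] [Algebra A' B'] [Algebra.FiniteType A' B']
    (N' : Type u) [AddCommGroup N'] [Module B' N'] [Module A' N'] [IsScalarTower A' B' N'] [Module.Finite B' N']
    (t' : Ideal A') [t'.IsPrime] (P₀ : Ideal B') [hP : P₀.IsPrime] [hPt' : P₀.LiesOver t']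
    (hmem : (⟨P₀, hP⟩ : PrimeSpectrum B') ∈ Module.support B' N')
    (hmin : ∀ J : PrimeSpectrum B', J ∈ Module.support B' N' → J.asIdeal ≤ P₀ →
      J.asIdeal.comap (algebraMap A' B') = t' → J.asIdeal = P₀) :
    FlatCA.fiberIdeal t' P₀ ∈ associatedPrimes (t'.Fiber B') (FlatCA.fiberMod t' B' N') := by
  haveI : IsNoetherianRing (t'.Fiber B') := Algebra.FiniteType.isNoetherianRing t'.ResidueField (t'.Fiber B')
  haveI : Module.Finite (t'.Fiber B') (FlatCA.fiberMod t' B' N') :=
    inferInstanceAs (Module.Finite (t'.Fiber B') ((t'.Fiber B') ⊗[B'] N'))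
  obtain ⟨ξ, hξ⟩ := Flatmor4.exists_fiber_prime t' P₀
  have hann : ∀ η : PrimeSpectrum (t'.Fiber B'), η ∈ Module.support (t'.Fiber B') (FlatCA.fiberMod t' B' N') ↔
      Module.annihilator (t'.Fiber B') (FlatCA.fiberMod t' B' N') ≤ η.asIdeal := fun η => by
    rw [Module.support_eq_zeroLocus]; rfl
  have h1 : ξ.asIdeal ∈ (Module.annihilator (t'.Fiber B') (FlatCA.fiberMod t' B' N')).minimalPrimes := by
    refine ⟨⟨ξ.2, (hann ξ).1 ((FibreGenericPoint.mem_support_fiberMod t' N' ξ).2 ?_)⟩, fun J ⟨hJ, hJa⟩ hJξ => ?_⟩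
    · rw [show PrimeSpectrum.comap (algebraMap B' (t'.Fiber B')) ξ = ⟨P₀, hP⟩ from PrimeSpectrum.ext hξ]
      exact hmem
    let η : PrimeSpectrum (t'.Fiber B') := ⟨J, hJ⟩
    have h2 := (FibreGenericPoint.mem_support_fiberMod t' N' η).1 ((hann η).2 hJa)
    have hle : (PrimeSpectrum.comap (algebraMap B' (t'.Fiber B')) η).asIdeal ≤ P₀ := by
      rw [← hξ]; exact Ideal.comap_mono hJξ
    have h3 := hmin _ h2 hle (by
      refine le_antisymm ?_ fun r hr => ?_
      · exact le_trans (Ideal.comap_mono hle) (le_of_eq hPt'.over.symm)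
      · show algebraMap B' (t'.Fiber B') (algebraMap A' B' r) ∈ J
        rw [← IsScalarTower.algebraMap_apply A' B' (t'.Fiber B'),
          IsScalarTower.algebraMap_apply A' t'.ResidueField (t'.Fiber B'),
          Ideal.algebraMap_residueField_eq_zero.2 hr, map_zero]
        exact zero_mem _)
    intro x hx
    rw [← map_comap_fiber t' ξ.asIdeal] at hx
    rw [← map_comap_fiber t' J]
    rw [hξ] at hx
    have h4 : J.comap (algebraMap B' (t'.Fiber B')) = P₀ := h3
    rw [h4]; exact hx
  have h5 := Module.associatedPrimes.minimalPrimes_annihilator_subset_associatedPrimes (t'.Fiber B') _ h1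
  rw [← fiberIdeal_comap t' ξ.asIdeal, hξ] at h5
  exact h5

/-- A point of a quasi-finite quotient carrying the support is an associated point of its fibre. -/
theorem mem_ass_of_quasiFinite {A' B' C' : Type u} [CommRing A'] [CommRing B'] [CommRing C'] [Algebra A' B']
    [Algebra.FiniteType A' B'] [Algebra A' C'] [Algebra.QuasiFinite A' C'] (ψ : B' →ₐ[A'] C')
    (hψ : Function.Surjective ψ) (N' : Type u) [AddCommGroup N'] [Module B' N'] [Module A' N']
    [IsScalarTower A' B' N'] [Module.Finite B' N']
    (hsupp : ∀ J : PrimeSpectrum B', J ∈ Module.support B' N' ↔ RingHom.ker ψ.toRingHom ≤ J.asIdeal)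
    (t' : Ideal A') [t'.IsPrime] (P : Ideal C') [P.IsPrime] [(P.comap ψ.toRingHom).LiesOver t'] :
    FlatCA.fiberIdeal t' (P.comap ψ.toRingHom) ∈
      associatedPrimes (t'.Fiber B') (FlatCA.fiberMod t' B' N') := by
  refine mem_ass_of_minimal N' t' _ ((hsupp _).2 (Ideal.comap_mono bot_le)) fun J hJ hle hJt => ?_
  have hker := (hsupp J).1 hJ
  haveI := J.2
  haveI : (J.asIdeal.map ψ.toRingHom).IsPrime := Ideal.map_isPrime_of_surjective hψ hker
  have hback : (J.asIdeal.map ψ.toRingHom).comap ψ.toRingHom = J.asIdeal := by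
    rw [Ideal.comap_map_of_surjective ψ.toRingHom hψ]
    exact sup_eq_left.mpr hker
  have heq : J.asIdeal.map ψ.toRingHom = P := by
    refine Algebra.QuasiFinite.eq_of_le_of_under_eq (R := A') _ _ ?_ ?_
    · rw [← Ideal.map_comap_of_surjective ψ.toRingHom hψ P]
      exact Ideal.map_mono hle
    · have h1 := (‹(P.comap ψ.toRingHom).LiesOver t'›).over
      rw [Ideal.under_def, Ideal.comap_comap] at h1
      rw [Ideal.under_def, Ideal.under_def, ← ψ.comp_algebraMap]
      exact (Ideal.comap_comap (algebraMap A' B') ψ.toRingHom).symm.trans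
        (((congrArg (Ideal.comap (algebraMap A' B')) hback).trans hJt).trans h1)
  rw [← hback, heq]

/-- The base change of a quotient as a quotient of any model of the base change. -/
theorem exists_quotient_map {A B A' : Type u} [CommRing A] [CommRing B] [CommRing A'] [Algebra A B] [Algebra A A']
    (I : Ideal B) (B' : Type u) [CommRing B'] [Algebra A' B'] [Algebra B B'] [Algebra A B'] [IsScalarTower A A' B']
    [IsScalarTower A B B'] [Algebra.IsPushout A A' B B'] :
    ∃ ψ : B' →ₐ[A'] A' ⊗[A] (B ⧸ I), Function.Surjective ψ ∧ RingHom.ker ψ.toRingHom = I.map (algebraMap B B') := by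
  let e : A' ⊗[A] B ≃ₐ[A'] B' := Algebra.IsPushout.equiv A A' B B'
  let g : A' ⊗[A] B →ₐ[A'] A' ⊗[A] (B ⧸ I) := Algebra.TensorProduct.map (AlgHom.id A' A') (Ideal.Quotient.mkₐ A I)
  have hg : Function.Surjective g := by
    intro y
    induction y with
    | zero => exact ⟨0, map_zero _⟩
    | tmul a c => obtain ⟨b, rfl⟩ := Ideal.Quotient.mk_surjective c; exact ⟨a ⊗ₜ b, Algebra.TensorProduct.map_tmul _ _ _ _⟩
    | add y z hy hz => obtain ⟨x, rfl⟩ := hy; obtain ⟨x', rfl⟩ := hz; exact ⟨x + x', map_add _ _ _⟩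
  refine ⟨g.comp e.symm.toAlgHom, hg.comp e.symm.surjective, ?_⟩
  have hk : RingHom.ker g.toRingHom =
      I.map (Algebra.TensorProduct.includeRight : B →ₐ[A] A' ⊗[A] B).toRingHom := by
    refine (Algebra.TensorProduct.lTensor_ker (A := A') (Ideal.Quotient.mkₐ A I) Ideal.Quotient.mk_surjective).trans ?_
    congr 1
    exact Ideal.mk_ker
  have he : (e.toAlgHom.toRingHom).comp (Algebra.TensorProduct.includeRight : B →ₐ[A] A' ⊗[A] B).toRingHom =
      algebraMap B B' := RingHom.ext fun b => by
    show e (1 ⊗ₜ b) = _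
    simp [e, Algebra.IsPushout.equiv_tmul]
  rw [← he, ← Ideal.map_map, ← hk]
  ext x
  show g (e.symm x) = 0 ↔ _
  constructor
  · intro h
    rw [← e.apply_symm_apply x]
    exact Ideal.mem_map_of_mem _ (show e.symm x ∈ RingHom.ker g.toRingHom from h)
  · intro h
    obtain ⟨y, hy, rfl⟩ := (Ideal.mem_map_iff_of_surjective e.toAlgHom.toRingHom e.surjective).1 h
    show g (e.symm (e y)) = 0
    rw [e.symm_apply_apply]
    exact hy

/-- Purity gives specialisations of the points of the support. -/
theorem spec_of_pure {A B : Type u} [CommRing A] [CommRing B] [Algebra A B] [Algebra.FiniteType A B]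
    (N : Type u) [AddCommGroup N] [Module B N] [Module A N] [IsScalarTower A B N] [Module.Finite B N]
    [Algebra.QuasiFinite A (B ⧸ Module.annihilator B N)]
    (p : Ideal A) [p.IsPrime] (hpure : FlatCA.IsPureAlong A B N p) :
    QuasiFiniteFinite.Spec' A (B ⧸ Module.annihilator B N) p := by
  intro A' _ _ t _ hnhd P hP hPt
  haveI := hP
  obtain ⟨B', _, _, _, _, _, _, hpush⟩ := EtalePushout.exists_pushout A B A'
  haveI := hpush
  haveI hpush' : Algebra.IsPushout A B A' B' := Algebra.IsPushout.symm hpush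
  obtain ⟨N', _, _, _, _, f, hf⟩ := EtalePushout.exists_baseChange B B' N
  letI : Module A' N' := Module.compHom N' (algebraMap A' B')
  haveI : IsScalarTower A' B' N' := IsScalarTower.of_algebraMap_smul fun _ _ => rfl
  obtain ⟨ψ, hψ, hker⟩ := exists_quotient_map (A := A) (A' := A') (Module.annihilator B N) B'
  haveI : Algebra.FiniteType A' B' :=
    Algebra.FiniteType.equiv (inferInstance : Algebra.FiniteType A' (A' ⊗[A] B)) (Algebra.IsPushout.equiv A A' B B')
  haveI : Module.Finite B' N' := Module.Finite.equiv hf.equiv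
  have hsupp : ∀ J : PrimeSpectrum B', J ∈ Module.support B' N' ↔ RingHom.ker ψ.toRingHom ≤ J.asIdeal := fun J => by
    rw [Flatmor4.mem_support_isBaseChange hf, Module.support_eq_zeroLocus, hker, Ideal.map_le_iff_le_comap]
    rfl
  let t' := P.comap (algebraMap A' (A' ⊗[A] (B ⧸ Module.annihilator B N)))
  haveI hPt' : (P.comap ψ.toRingHom).LiesOver t' := ⟨by
    rw [Ideal.under_def, Ideal.comap_comap]
    exact congrArg (P.comap ·) ψ.comp_algebraMap.symm⟩
  have hass := mem_ass_of_quasiFinite ψ hψ N' hsupp t' P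
  haveI hto : t.LiesOver p := hnhd.2.1
  obtain ⟨P', hP', hPP', hP't⟩ : ∃ P' : Ideal B', P'.IsPrime ∧ P.comap ψ.toRingHom ≤ P' ∧ P'.LiesOver t := by
    by_contra! hcon
    exact hpure A' B' N' f t' t _ hnhd ⟨hpush', hf, hPt, hto, hPt', hass, fun P' hP' hle => hcon P' hP' hle⟩
  haveI := hP'
  have hkP : RingHom.ker ψ.toRingHom ≤ P' := le_trans (Ideal.comap_mono bot_le) hPP'
  refine ⟨P'.map ψ.toRingHom, Ideal.map_isPrime_of_surjective hψ hkP, ?_, ?_⟩
  · rw [← Ideal.map_comap_of_surjective ψ.toRingHom hψ P]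
    exact Ideal.map_mono hPP'
  · have hback : (P'.map ψ.toRingHom).comap ψ.toRingHom = P' := by
      rw [Ideal.comap_map_of_surjective ψ.toRingHom hψ]
      exact sup_eq_left.mpr hkP
    rw [← ψ.comp_algebraMap]
    exact ((Ideal.comap_comap (algebraMap A' B') ψ.toRingHom).symm.trans
      (congrArg (Ideal.comap (algebraMap A' B')) hback)).trans hP't.over.symm

/-- Ring form, X = Spec B affine hence separated over Spec A: let B be a finite type A-algebra and N a
finite B-module such that for every prime p of A the fibre module of N over p has finite support.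
Then the following are equivalent: N is pure relative to Spec A; the scheme-theoretic support of N,
namely B modulo the annihilator of N, is finite over A; N is universally pure relative to Spec A. -/
theorem result {A B : Type u} [CommRing A] [CommRing B] [Algebra A B] [Algebra.FiniteType A B]
    (N : Type u) [AddCommGroup N] [Module B N] [Module A N] [IsScalarTower A B N] [Module.Finite B N]
    (hfin : ∀ (p : Ideal A) [p.IsPrime], (Module.support (p.Fiber B) (FlatCA.fiberMod p B N)).Finite) :
    [FlatCA.IsPure A B N, Module.Finite A (B ⧸ Module.annihilator B N), FlatCA.IsUnivPure A B N].TFAE := by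
  tfae_have 2 → 3 := fun h => @Groth.Agent.S1224.result A B _ _ _ _ N _ _ _ _ _ h
  tfae_have 3 → 1 := fun h p _ A' B' N' _ _ _ _ _ _ _ _ _ _ _ _ _ _ f t' t _ _ P _ _ => h p A' B' N' f t' t P
  tfae_have 1 → 2 := fun h => by
    haveI := quasiFinite N hfin
    haveI : Algebra.FiniteType A (B ⧸ Module.annihilator B N) :=
      Algebra.FiniteType.of_surjective (Ideal.Quotient.mkₐ A _) Ideal.Quotient.mk_surjective
    exact QuasiFiniteFinite.finite_of_spec fun p _ => spec_of_pure N p (h p)
  tfae_finish

end Groth.Agent.S1222
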