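import Groth.Statements.S12221
import Groth.Agent.MiscGeom.AlgzStalk

set_option autoImplicit false
universe u
open CategoryTheory AlgebraicGeometry Opposite
open Algz
open Groth.MiscGeom Groth.CohC3

namespace Groth.Agent.S12221

/-- A minimal generating family of an ideal of a Noetherian local ring is independent modulo the maximal ideal. -/
theorem exists_minimal {R : Type u} [CommRing R] [IsNoetherianRing R] [IsLocalRing R] (N : Ideal R) :
    ∃ (e : ℕ) (r : Fin e → R), Ideal.span (Set.range r) = N ∧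
      ∀ c : Fin e → R, ∑ i, r i * c i ∈ IsLocalRing.maximalIdeal R * N → ∀ i, c i ∈ IsLocalRing.maximalIdeal R := by
  classical
  have hex : ∃ e, ∃ r : Fin e → R, Ideal.span (Set.range r) = N :=
    Submodule.fg_iff_exists_fin_generating_family.1 (IsNoetherian.noetherian N)
  obtain ⟨r, hr⟩ := Nat.find_spec hex
  refine ⟨_, r, hr, fun c hc i => ?_⟩
  by_contra hci
  obtain ⟨e, he⟩ : ∃ e, Nat.find hex = e + 1 :=
    ⟨Nat.find hex - 1, (Nat.sub_add_cancel (Nat.one_le_iff_ne_zero.2 (Fin.pos i).ne')).symm⟩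
  generalize hf : Nat.find hex = e' at r hr c hc i hci he
  subst he
  let r' := r ∘ i.succAbove
  have hle : N ≤ Ideal.span (Set.range r') ⊔ IsLocalRing.maximalIdeal R • N := by
    conv_lhs => rw [← hr]
    refine Ideal.span_le.2 ?_
    rintro _ ⟨j, rfl⟩
    rcases Fin.eq_self_or_eq_succAbove i j with rfl | ⟨k, rfl⟩
    · obtain ⟨v, hv⟩ := (IsLocalRing.notMem_maximalIdeal.1 hci).exists_left_inv
      have h1 : r j * c j ∈ Ideal.span (Set.range r') ⊔ IsLocalRing.maximalIdeal R • N := by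
        have hsum := Fin.sum_univ_succAbove (fun i => r i * c i) j
        rw [show r j * c j = ∑ i, r i * c i - ∑ k, r (j.succAbove k) * c (j.succAbove k) by rw [hsum]; ring]
        refine sub_mem (Submodule.mem_sup_right hc) (Submodule.mem_sup_left (Submodule.sum_mem _ fun k _ => ?_))
        exact Ideal.mul_mem_right _ _ (Ideal.subset_span ⟨k, rfl⟩)
      have h2 := Ideal.mul_mem_left _ v h1
      rwa [mul_left_comm, hv, mul_one] at h2
    · exact Submodule.mem_sup_left (Ideal.subset_span ⟨k, rfl⟩)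
  have hN : Ideal.span (Set.range r') = N := by
    refine le_antisymm (Ideal.span_le.2 ?_) (Submodule.le_of_le_smul_of_le_jacobson_bot
      (IsNoetherian.noetherian N) (IsLocalRing.maximalIdeal_le_jacobson _) hle)
    rintro _ ⟨k, rfl⟩
    rw [← hr]
    exact Ideal.subset_span ⟨_, rfl⟩
  exact absurd (Nat.find_min' hex ⟨r', hN⟩) (by omega)

/-- Let A be a Noetherian ring, I ⊆ 𝔞 ideals, U the complement of V(𝔞) in Spec A and (F_n) an object of
Coh(U, IO_U), indexed here from 0. Assume that for some Noetherian local ring R with maximal ideal 𝔪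
and some ring map φ : R → A we have (1) I = 𝔪A, (2) for every point y of U lying in V(I) the
completed stalk F_y^∧ is flat as an R-module (through R → A → O_{U,y} → O_{U,y}^∧), and (3) the
cohomology groups H^0(U, F_0), H^1(U, F_0) are finitely generated over A. Then (F_n) has a canonical
extension to Spec A. -/
theorem result (A : Type u) [CommRing A] [IsNoetherianRing A] (I 𝔞 : Ideal A) (hI𝔞 : I ≤ 𝔞)
    (G : ℕᵒᵖ ⥤ (↑(LocCoh.puncturedOpen A 𝔞) : Scheme.{u}).Modules) (hG : Formal.IsCohFormal I G)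
    (R : Type u) [CommRing R] [IsNoetherianRing R] [IsLocalRing R] (φ : R →+* A)
    (h1 : I = Ideal.map φ (IsLocalRing.maximalIdeal R))
    (h2 : ∀ (y : (↑(LocCoh.puncturedOpen A 𝔞) : Scheme.{u})), (LocCoh.puncturedOpen A 𝔞).ι.base y ∈ PrimeSpectrum.zeroLocus (R := A) I →
      letI : Module R ↥(Algz.hatStalk I G y) := Module.compHom ↥(Algz.hatStalk I G y)
        ((algebraMap ((↑(LocCoh.puncturedOpen A 𝔞) : Scheme.{u}).presheaf.stalk y) (Algz.hatRing I y)).comp ((Algz.toStalk A (↑(LocCoh.puncturedOpen A 𝔞) : Scheme.{u}) y).comp φ));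
      Module.Flat R ↥(Algz.hatStalk I G y))
    (h3 : Module.Finite A (Coh.HH (↑(LocCoh.puncturedOpen A 𝔞) : Scheme.{u}) (G.obj (op 0)) 0) ∧ Module.Finite A (Coh.HH (↑(LocCoh.puncturedOpen A 𝔞) : Scheme.{u}) (G.obj (op 0)) 1)) :
    Algz.CanonicallyExtends A I (LocCoh.puncturedOpen A 𝔞) G := by
  have hq : ∀ n, (G.obj (op n)).IsQuasicoherent := fun n => (hG.1 n).1
  refine AlgzGr.canonicallyExtends hI𝔞 hG
    (AlgzStalk.isFree_of_stalk_open (isSys_of_isCohFormal hG) hq fun n => ?_) h3.1 h3.2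
  obtain ⟨e, r, hr, hmin⟩ := exists_minimal (IsLocalRing.maximalIdeal R ^ (n + 1))
  refine ⟨Fin e, inferInstance, φ ∘ r, fun j => ?_, fun y hy => ?_⟩
  · rw [h1, ← Ideal.map_pow, ← hr]
    exact Ideal.mem_map_of_mem _ (Ideal.subset_span ⟨j, rfl⟩)
  let g := Algz.toStalk A (↑(LocCoh.puncturedOpen A 𝔞) : Scheme.{u}) y
  have hJ : ∀ m, Algz.stalkIdeal I y ^ m = Ideal.map (g.comp φ) (IsLocalRing.maximalIdeal R ^ m) := fun m => by
    rw [Algz.stalkIdeal, h1, Ideal.map_map, Ideal.map_pow]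
  refine ⟨?_, fun Z hZ a => ?_⟩
  · refine le_trans ?_ le_sup_left
    rw [hJ, ← hr, Ideal.map_span, ← Set.range_comp]
    exact le_rfl
  obtain ⟨π, _, hπ2, hπ⟩ := AlgzStalk.exists_proj' (isSys_of_isCohFormal hG) hq y (IsNoetherian.noetherian I)
  choose X hX using fun b => (hπ (n + 1)).1 (Z b)
  have hu : (∑ b, g (φ (r b)) • X b) ∈ LinearMap.ker (π (n + 1)) := by
    rw [LinearMap.mem_ker, map_sum]
    simp only [map_smul, hX]
    exact hZ
  obtain ⟨e', s, hs⟩ := Submodule.fg_iff_exists_fin_generating_family.1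
    (IsNoetherian.noetherian (IsLocalRing.maximalIdeal R ^ (n + 1 + 1)))
  rw [(hπ (n + 1)).2, hJ, ← hs, Ideal.submodule_span_eq, Ideal.map_span, ← Set.range_comp] at hu
  obtain ⟨Y, hY⟩ : ∃ Y : Fin e' → Algz.hatStalk I G y, (∑ b, g (φ (r b)) • X b) = ∑ i, g (φ (s i)) • Y i := by
    refine Submodule.smul_induction_on hu (fun k hk w _ => ?_) ?_
    · obtain ⟨q, rfl⟩ := (Submodule.mem_span_range_iff_exists_fun _).1 hk
      refine ⟨fun i => q i • w, ?_⟩
      rw [Finset.sum_smul]
      exact Finset.sum_congr rfl fun i _ => by rw [smul_eq_mul, mul_comm, mul_smul]; rfl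
    · rintro p q ⟨Y, rfl⟩ ⟨Y', rfl⟩
      exact ⟨Y + Y', by simp [smul_add, Finset.sum_add_distrib]⟩
  let iR : Module R ↥(Algz.hatStalk I G y) := Module.compHom ↥(Algz.hatStalk I G y)
    ((algebraMap ((↑(LocCoh.puncturedOpen A 𝔞) : Scheme.{u}).presheaf.stalk y) (Algz.hatRing I y)).comp (g.comp φ))
  have : Module.Flat R ↥(Algz.hatStalk I G y) := h2 y hy
  have hsm : ∀ (t : R) (w : Algz.hatStalk I G y), t • w = g (φ t) • w := fun t w =>
    algebraMap_smul (Algz.hatRing I y) (g (φ t)) w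
  obtain ⟨k, q, z, hz, hrel⟩ := Module.Flat.isTrivialRelation_of_sum_smul_eq_zero (R := R)
    (f := Sum.elim r s) (x := Sum.elim X (fun i => -Y i)) (by
      rw [Fintype.sum_sum_type]
      simp only [Sum.elim_inl, Sum.elim_inr, hsm, smul_neg, Finset.sum_neg_distrib, hY, add_neg_cancel])
  rw [← hX a, AlgzStalk.str_proj y (fun m => π m) hπ2, show X a = _ from hz (Sum.inl a), map_sum]
  refine Finset.sum_eq_zero fun j _ => ?_
  rw [hsm, map_smul]
  refine AlgzStalk.smul_eq_zero (isSys_of_isCohFormal hG) y ?_ _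
  rw [hJ, zero_add, pow_one]
  refine Ideal.mem_map_of_mem (g.comp φ) (hmin (fun i => q (Sum.inl i) j) ?_ a)
  have hj := hrel j
  rw [Fintype.sum_sum_type] at hj
  simp only [Sum.elim_inl, Sum.elim_inr] at hj
  rw [eq_neg_of_add_eq_zero_left hj, ← pow_succ', ← hs]
  exact neg_mem (Submodule.sum_mem _ fun i _ => Ideal.mul_mem_right _ _ (Ideal.subset_span ⟨i, rfl⟩))

end Groth.Agent.S12221
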