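import Groth.Statements.S12222
import Groth.Agent.Hensel1.Local
import Mathlib.RingTheory.LocalRing.Module
import Mathlib.RingTheory.QuasiFinite.Basic

set_option autoImplicit false
universe u
open Hensel

namespace Groth.Agent.S12222

/-- (11) ⇒ (1): let R be a local ring such that every finite-type R-algebra S can be written as a
product A × B with A finite over R and R → B quasi-finite at no prime lying over the maximal ideal —
concretely, S has an idempotent e with S/(1 − e) finite over R and R → S/(e) quasi-finite at no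
prime over the maximal ideal. Then R is henselian. -/
theorem result (R : Type u) [CommRing R] [IsLocalRing R]
    (h : ∀ (S : Type u) [CommRing S] [Algebra R S] [Algebra.FiniteType R S],
      ∃ e : S, IsIdempotentElem e ∧ Module.Finite R (S ⧸ Ideal.span ({1 - e} : Set S)) ∧
        ∀ (q : Ideal (S ⧸ Ideal.span ({e} : Set S))) [q.IsPrime],
          q.LiesOver (IsLocalRing.maximalIdeal R) → ¬ Algebra.QuasiFiniteAt R q) :
    HenselianLocalRing R := by
  classical
  set m := IsLocalRing.maximalIdeal R
  suffices HenselianRing R m from Groth.Hensel1.henselianLocalRing_of_henselianRing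
  refine Groth.Hensel1.henselianRing_iff_gabber.2 ⟨IsLocalRing.maximalIdeal_le_jacobson ⊥, ?_⟩
  intro n hn p hpd hpm
  set f : Polynomial R := Polynomial.X ^ n * (Polynomial.X - 1) + p with hf
  have hm : f.Monic := by
    refine Polynomial.Monic.add_of_left ((Polynomial.monic_X_pow n).mul (by simpa using Polynomial.monic_X_sub_C (1 : R))) ?_
    refine Polynomial.degree_le_natDegree.trans_lt ?_
    rw [Polynomial.degree_mul' (by simp [show (Polynomial.X - 1 : Polynomial R).leadingCoeff = 1 by simpa using (Polynomial.monic_X_sub_C (1 : R)).leadingCoeff]),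
      Polynomial.degree_X_pow, show (Polynomial.X - 1 : Polynomial R).degree = 1 by simpa using Polynomial.degree_X_sub_C (1 : R)]
    exact_mod_cast Nat.lt_succ_of_le hpd
  have : Module.Finite R (AdjoinRoot f) := hm.finite_adjoinRoot
  have : Module.Free R (AdjoinRoot f) := hm.free_adjoinRoot
  let S := Localization.Away (AdjoinRoot.root f)
  have : Algebra.FinitePresentation (AdjoinRoot f) S := IsLocalization.Away.finitePresentation (AdjoinRoot.root f)
  have : Algebra.FiniteType R S := Algebra.FiniteType.trans (S := AdjoinRoot f) inferInstance inferInstance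
  have : Algebra.QuasiFinite R S := inferInstance
  have : Module.Flat (AdjoinRoot f) S := IsLocalization.flat S (Submonoid.powers (AdjoinRoot.root f))
  have : Module.Flat R S := Module.Flat.trans R (AdjoinRoot f) S
  obtain ⟨e, he, hfin, hno⟩ := h S
  set T : S := algebraMap (AdjoinRoot f) S (AdjoinRoot.root f)
  have hTu : IsUnit T := IsLocalization.Away.algebraMap_isUnit (S := S) (AdjoinRoot.root f)
  set mS := m.map (algebraMap R S)
  have hpT : ∀ a : S, Polynomial.aeval a p ∈ mS := fun a => by
    rw [Polynomial.aeval_eq_sum_range]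
    exact sum_mem fun i _ => by
      rw [Algebra.smul_def]; exact mS.mul_mem_right _ (Ideal.mem_map_of_mem _ (hpm i))
  have hfT : Polynomial.aeval T f = 0 := by
    simp only [T]
    rw [Polynomial.aeval_algebraMap_apply, AdjoinRoot.aeval_eq, AdjoinRoot.mk_self, map_zero]
  have hT1 : T - 1 ∈ mS := by
    have h0 : Polynomial.aeval T (Polynomial.X ^ n * (Polynomial.X - 1) + p) = 0 := hfT
    rw [map_add, map_mul, map_pow, map_sub, Polynomial.aeval_X, map_one] at h0
    have h1 : T ^ n * (T - 1) ∈ mS := by
      rw [eq_neg_of_add_eq_zero_left h0]; exact neg_mem (hpT T)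
    exact (Ideal.unit_mul_mem_iff_mem _ (hTu.pow n)).1 h1
  have hS : ∀ x : S, ∃ c : R, x - algebraMap R S c ∈ mS := by
    intro x
    obtain ⟨z, ⟨_, j, rfl⟩, rfl⟩ := IsLocalization.exists_mk'_eq (Submonoid.powers (AdjoinRoot.root f)) x
    obtain ⟨g, rfl⟩ := AdjoinRoot.mk_surjective z
    refine ⟨g.eval 1, ?_⟩
    rw [← Ideal.Quotient.eq]
    have e1 := congrArg (Ideal.Quotient.mk mS) (IsLocalization.mk'_spec S (AdjoinRoot.mk f g)
      (⟨_, j, rfl⟩ : Submonoid.powers (AdjoinRoot.root f)))
    have hT' : Ideal.Quotient.mk mS T = 1 := by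
      rw [← map_one (Ideal.Quotient.mk mS), Ideal.Quotient.eq]; exact hT1
    simp only [map_mul, map_pow] at e1
    change _ * Ideal.Quotient.mk mS T ^ j = _ at e1
    rw [hT', one_pow, mul_one] at e1
    rw [e1, ← AdjoinRoot.aeval_eq, ← Polynomial.aeval_algebraMap_apply,
      ← Ideal.Quotient.mkₐ_eq_mk R, ← Polynomial.aeval_algHom_apply, Ideal.Quotient.mkₐ_eq_mk,
      show Ideal.Quotient.mk mS T = algebraMap R (S ⧸ mS) 1 by rw [hT', map_one],
      Polynomial.aeval_algebraMap_apply]
    rfl
  -- the part not meeting the closed fibre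
  have h1e : 1 - e ∈ mS := by
    have htop : m.map (algebraMap R (S ⧸ Ideal.span {e})) = ⊤ := by
      by_contra hne
      obtain ⟨M, hM, hle⟩ := Ideal.exists_le_maximal _ hne
      refine hno M ⟨?_⟩ inferInstance
      exact (IsLocalRing.eq_maximalIdeal inferInstance).symm.trans
        ((IsLocalRing.maximalIdeal.isMaximal R).eq_of_le (Ideal.comap_ne_top _ hM.ne_top)
          (Ideal.map_le_iff_le_comap.1 hle))
    rw [IsScalarTower.algebraMap_eq R S (S ⧸ Ideal.span {e}), ← Ideal.map_map, Ideal.Quotient.algebraMap_eq] at htop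
    have : (1 : S) ∈ mS ⊔ Ideal.span {e} := by
      rw [← Ideal.mk_ker (I := Ideal.span {e}), RingHom.ker_eq_comap_bot,
        ← Ideal.comap_map_of_surjective _ Ideal.Quotient.mk_surjective, htop, Ideal.comap_top]
      trivial
    obtain ⟨a, ha, b, hb, hab⟩ := Submodule.mem_sup.1 this
    obtain ⟨c, rfl⟩ := Ideal.mem_span_singleton'.1 hb
    have h2 : 1 - e = (1 - e) * a := by linear_combination -(1 - e) * hab - c * he.eq
    rw [h2]; exact mS.mul_mem_left _ ha
  set E := S ⧸ Ideal.span ({1 - e} : Set S)
  have : IsLocalization.Away e E := IsLocalization.away_of_isIdempotentElem he Ideal.mk_ker Ideal.Quotient.mk_surjective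
  have : Module.Flat S E := IsLocalization.flat E (Submonoid.powers e)
  have : Module.Flat R E := Module.Flat.trans R S E
  have : Module.Free R E := Module.free_of_flat_of_isLocalRing
  let φ : AdjoinRoot f →ₐ[R] R ⧸ m := AdjoinRoot.liftAlgHom f (Algebra.ofId R (R ⧸ m)) 1 (by
    have hp0 : p.map (Ideal.Quotient.mk m) = 0 := Polynomial.ext fun i => by
      rw [Polynomial.coeff_map, Polynomial.coeff_zero, Ideal.Quotient.eq_zero_iff_mem]; exact hpm i
    change Polynomial.eval₂ (Ideal.Quotient.mk m) 1 f = 0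
    rw [← Polynomial.eval_map, hf]
    simp [hp0])
  let ε₀ : S →ₐ[R] R ⧸ m := IsLocalization.liftAlgHom (M := Submonoid.powers (AdjoinRoot.root f)) (f := φ)
    (fun y => by
      obtain ⟨_, j, rfl⟩ := y
      show IsUnit (φ (AdjoinRoot.root f ^ j))
      rw [map_pow, show φ (AdjoinRoot.root f) = 1 from AdjoinRoot.liftAlgHom_root _ _ _ _, one_pow]
      exact isUnit_one)
  have hεm : ∀ x ∈ mS, ε₀ x = 0 := fun x hx => by
    refine RingHom.mem_ker.1 ((?_ : mS ≤ RingHom.ker ε₀) hx)
    refine Ideal.map_le_iff_le_comap.2 fun r hr => RingHom.mem_ker.2 ?_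
    rw [AlgHom.commutes]; exact Ideal.Quotient.eq_zero_iff_mem.2 hr
  let ε : E →ₐ[R] R ⧸ m := Ideal.Quotient.liftₐ _ ε₀ fun x hx => by
    obtain ⟨y, rfl⟩ := Ideal.mem_span_singleton'.1 hx
    rw [map_mul, hεm _ h1e, mul_zero]
  have : Nontrivial E := ε.toRingHom.domain_nontrivial
  have hinj : Function.Injective (algebraMap R E) := FaithfulSMul.algebraMap_injective R E
  have hsurj : Function.Surjective (algebraMap R E) := fun x => by
    refine (?_ : (⊤ : Submodule R E) ≤ LinearMap.range (Algebra.linearMap R E)) trivial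
    refine Submodule.le_of_le_smul_of_le_jacobson_bot (Module.Finite.fg_top)
      (IsLocalRing.maximalIdeal_le_jacobson (R := R) ⊥) fun y _ => ?_
    obtain ⟨y, rfl⟩ := Ideal.Quotient.mk_surjective y
    obtain ⟨c, hc⟩ := hS y
    refine Submodule.mem_sup.2 ⟨algebraMap R E c, ⟨c, rfl⟩, Ideal.Quotient.mk _ (y - algebraMap R S c), ?_, ?_⟩
    · rw [Ideal.smul_top_eq_map, Submodule.restrictScalars_mem, IsScalarTower.algebraMap_eq R S E,
        ← Ideal.map_map]
      exact Ideal.mem_map_of_mem _ hc
    · rw [map_sub]; exact add_sub_cancel _ _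
  obtain ⟨α, hα⟩ := hsurj (Ideal.Quotient.mk _ T)
  refine ⟨α, ?_, hinj ?_⟩
  · rw [← Ideal.Quotient.eq, map_one]
    change algebraMap R (R ⧸ m) α = 1
    rw [← ε.commutes, hα]
    change ε₀ T = 1
    exact (IsLocalization.lift_eq _ _).trans (AdjoinRoot.liftAlgHom_root _ _ _ _)
  · rw [map_zero, ← Polynomial.aeval_algebraMap_apply_eq_algebraMap_eval, hα,
      ← Ideal.Quotient.mkₐ_eq_mk R, Polynomial.aeval_algHom_apply, hfT, map_zero]

end Groth.Agent.S12222
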