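import Groth.Statements.S12225
import Groth.Agent.SiteCohomology.BigCartPush
import Groth.Agent.SiteCohomology.BigRpush

set_option autoImplicit false
open CategoryTheory CategoryTheory.Limits AlgebraicGeometry Opposite
universe u
open BigSite

namespace Groth.Agent.S12225

section Helpers

open Groth.SiteCohomology.BigCartSet

set_option backward.isDefEq.respectTransparency.types false

/-- Restriction to the small étale site commutes with direct image. -/
noncomputable def resPushIso {T S : Scheme.{u}} (f : T ⟶ S) :
    push f ⋙ res S ≅ res T ⋙ EtDesc.pushSh f :=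
  NatIso.ofComponents
    (fun F => (fullyFaithfulSheafToPresheaf _ _).preimageIso
      (Functor.isoWhiskerRight (NatIso.op (Groth.SiteCohomology.bcIso f)).symm F.obj))
    (fun {F G} φ => Sheaf.hom_ext (NatTrans.ext (funext fun U => (φ.hom.naturality _).symm)))

theorem nonempty_iso {T S : Scheme.{u}} (f : T ⟶ S) [IsProper f] :
    Nonempty (EtDesc.pushSh f ⋙ piPull S ≅ piPull T ⋙ push f) := by
  have hu : ∀ F, IsIso ((piAdj T).unit.app F) := isIso_unit
  have : IsIso (piAdj T).unit := NatIso.isIso_of_isIso_app _
  let η : 𝟭 (EtDesc.Sh T) ≅ piPull T ⋙ res T := asIso (piAdj T).unit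
  let a : EtDesc.pushSh f ≅ (piPull T ⋙ push f) ⋙ res S :=
    (Functor.leftUnitor _).symm ≪≫ Functor.isoWhiskerRight η (EtDesc.pushSh f) ≪≫
      Functor.associator _ _ _ ≪≫ Functor.isoWhiskerLeft (piPull T) (resPushIso f).symm ≪≫
      (Functor.associator _ _ _).symm
  let ε : ((piPull T ⋙ push f) ⋙ res S) ⋙ piPull S ≅ piPull T ⋙ push f :=
    NatIso.ofComponents
      (fun F => @asIso _ _ _ _ ((piAdj S).counit.app ((push f).obj ((piPull T).obj F)))
        (isIso_counit (IsCart.push f (isCart_piPull F))))
      (fun φ => (piAdj S).counit.naturality ((push f).map ((piPull T).map φ)))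
  exact ⟨Functor.isoWhiskerRight a (piPull S) ≪≫ ε⟩

end Helpers

/-- Let f : T → S be a proper morphism of schemes. For sheaves of sets, pulling back from the small
étale site of T to the big étale site and then pushing forward along f_big agrees with pushing
forward along f_small and then pulling back to the big étale site of S: the functors π_S⁻¹ ∘
f_small,* and f_big,* ∘ π_T⁻¹ from Sh(T_et) to Sh((Sch/S)_et) are isomorphic. Existence of an
isomorphism of functors only (the canonical base-change transformation is not named here). Here π⁻¹
is Mathlib's sheaf pullback along the inclusion of the small into the big étale site, f_small,* is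
pushforward along base change of small étale sites, and f_big,* is the big-site pushforward. -/
theorem result {T S : Scheme.{u}} (f : T ⟶ S) [IsProper f] :
    Nonempty
      (((EtCoh.bc f).sheafPushforwardContinuous (Type (u + 1)) S.smallEtaleTopology T.smallEtaleTopology) ⋙
          (EtFppf.a S).sheafPullback (Type (u + 1)) S.smallEtaleTopology (QuotSh.J Scheme.etalePrecoverage S) ≅
        (EtFppf.a T).sheafPullback (Type (u + 1)) T.smallEtaleTopology (QuotSh.J Scheme.etalePrecoverage T) ⋙
          BigSite.pushBig Scheme.etalePrecoverage f (Type (u + 1))) :=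
  nonempty_iso f

end Groth.Agent.S12225
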