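import Groth.Statements.S12226
import Groth.Agent.RefRank.DepthTwo

set_option autoImplicit false
universe u
open CategoryTheory CategoryTheory.Limits AlgebraicGeometry TopologicalSpace
open LocCoh

namespace Groth.Agent.S12226

/-- Let j : U → X be the inclusion of an open subscheme of a Noetherian scheme X and F a coherent
O_X-module such that F' = j_*(F|_U) is coherent. Then (a) for every point x of X outside U the stalk
F'_x has depth at least 2 over O_{X,x}, and (b) F → F' is the unique map with these properties: for
every coherent O_X-module G and every map φ : F → G whose restriction to U is an isomorphism and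
such that depth(G_x) ≥ 2 for all x outside U, there is exactly one map ψ : G → F' whose composite
with φ is the canonical map F → j_*(F|_U), and this ψ is an isomorphism. (The compatibility of this
construction with flat base change is not part of this statement.) -/
theorem result (X : Scheme.{u}) [IsNoetherian X] (U : X.Opens)
    (F : X.Modules) (hF : Coh.IsCoh F) (hF' : Coh.IsCoh ((Coh.push U.ι).obj (F.restrict U.ι))) :
    (∀ x : ↥X, x ∉ U → (2 : ℕ∞) ≤ LocCoh.depth (X.presheaf.stalk x)
        (((Coh.push U.ι).obj (F.restrict U.ι)).presheaf.stalk x)) ∧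
    ∀ (G : X.Modules) (hG : Coh.IsCoh G) (φ : F ⟶ G),
      IsIso ((Scheme.Modules.restrictFunctor U.ι).map φ) →
      (∀ x : ↥X, x ∉ U → (2 : ℕ∞) ≤ LocCoh.depth (X.presheaf.stalk x) (G.presheaf.stalk x)) →
        (∃! ψ : G ⟶ (Coh.push U.ι).obj (F.restrict U.ι),
            φ ≫ ψ = (Scheme.Modules.restrictAdjunction U.ι).unit.app F) ∧
          ∀ ψ : G ⟶ (Coh.push U.ι).obj (F.restrict U.ι),
            φ ≫ ψ = (Scheme.Modules.restrictAdjunction U.ι).unit.app F → IsIso ψ := by
    refine ⟨fun x hx => Groth.RefRank.two_le_depth_of_resBij hF' (Groth.RefRank.resBijAll_pushforward _) hx,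
      fun G hG φ hφ hd => ?_⟩
    have := Groth.RefRank.isIso_unit_of_depth hG hd
    have heq : ∀ ψ : G ⟶ (Coh.push U.ι).obj (F.restrict U.ι),
        φ ≫ ψ = (Scheme.Modules.restrictAdjunction U.ι).unit.app F →
          ψ = (Scheme.Modules.restrictAdjunction U.ι).homEquiv G (F.restrict U.ι)
            (inv ((Scheme.Modules.restrictFunctor U.ι).map φ)) := by
      intro ψ hψ
      apply ((Scheme.Modules.restrictAdjunction U.ι).homEquiv G (F.restrict U.ι)).symm.injective
      rw [Equiv.symm_apply_apply]
      refine (IsIso.inv_eq_of_hom_inv_id ?_).symm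
      have h := (Scheme.Modules.restrictAdjunction U.ι).homEquiv_naturality_left_symm φ ψ
      rw [hψ] at h
      exact h.symm.trans ((Scheme.Modules.restrictAdjunction U.ι).left_triangle_components F |> fun t => by
        rw [Adjunction.homEquiv_symm_apply]; exact t)
    have hiso : IsIso ((Scheme.Modules.restrictAdjunction U.ι).homEquiv G (F.restrict U.ι)
        (inv ((Scheme.Modules.restrictFunctor U.ι).map φ))) := by
      rw [Adjunction.homEquiv_unit]
      infer_instance
    refine ⟨⟨_, ?_, fun ψ hψ => heq ψ hψ⟩, fun ψ hψ => heq ψ hψ ▸ hiso⟩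
    change φ ≫ (Scheme.Modules.restrictAdjunction U.ι).homEquiv G (F.restrict U.ι) _ = _
    rw [← Adjunction.homEquiv_naturality_left, IsIso.hom_inv_id, Adjunction.homEquiv_unit]
    exact (congrArg (_ ≫ ·) ((Scheme.Modules.pushforward U.ι).map_id _)).trans (Category.comp_id _)

end Groth.Agent.S12226
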