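import Groth.Statements.S12229
import Groth.Agent.DerivedCoh.KInj.Products
import Mathlib.Algebra.Homology.DerivedCategory.RightDerivedFunctorPlus
import Mathlib.Algebra.Homology.DerivedCategory.ShortExact
import Mathlib.Algebra.Homology.DerivedCategory.HomologySequence
import Mathlib.CategoryTheory.Abelian.Exact

set_option autoImplicit false
universe w w' v v' u u'
open CategoryTheory CategoryTheory.Limits
open CohDer

namespace Groth.Agent.S12229
open CategoryTheory.Limits CategoryTheory.Pretriangulated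

section
variable {C : Type u} [Category.{v} C] [Abelian C] [HasDerivedCategory.{w} C]

/-- lift an isomorphism in the derived category to the bounded below one -/
noncomputable def liftIso {K K' : CochainComplex.Plus C}
    (ε : DerivedCategory.Q.obj K.obj ≅ DerivedCategory.Q.obj K'.obj) :
    DerivedCategory.Plus.Qh.obj ((HomotopyCategory.Plus.quotient C).obj K) ≅
      DerivedCategory.Plus.Qh.obj ((HomotopyCategory.Plus.quotient C).obj K') :=
  DerivedCategory.Plus.ι.preimageIso ((DerivedCategory.quotientCompQhIso C).app K.obj ≪≫ ε ≪≫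
    ((DerivedCategory.quotientCompQhIso C).app K'.obj).symm)

lemma ι_map_Qh_quotient {K L : CochainComplex.Plus C} (u : K ⟶ L) :
    DerivedCategory.Plus.ι.map (DerivedCategory.Plus.Qh.map ((HomotopyCategory.Plus.quotient C).map u)) =
      (DerivedCategory.quotientCompQhIso C).hom.app K.obj ≫ DerivedCategory.Q.map u.hom ≫
        (DerivedCategory.quotientCompQhIso C).inv.app L.obj := by
  rw [← Category.assoc, ← (DerivedCategory.quotientCompQhIso C).hom.naturality, Category.assoc]
  erw [Iso.hom_inv_id_app, Category.comp_id]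
  rfl

lemma liftIso_square {K L K' L' : CochainComplex.Plus C} (u : K ⟶ L) (v : K' ⟶ L')
    (ε : DerivedCategory.Q.obj K.obj ≅ DerivedCategory.Q.obj K'.obj)
    (ε' : DerivedCategory.Q.obj L.obj ≅ DerivedCategory.Q.obj L'.obj)
    (h : DerivedCategory.Q.map u.hom ≫ ε'.hom = ε.hom ≫ DerivedCategory.Q.map v.hom) :
    DerivedCategory.Plus.Qh.map ((HomotopyCategory.Plus.quotient C).map u) ≫ (liftIso ε').hom =
      (liftIso ε).hom ≫ DerivedCategory.Plus.Qh.map ((HomotopyCategory.Plus.quotient C).map v) := by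
  apply DerivedCategory.Plus.ι.map_injective
  rw [Functor.map_comp, Functor.map_comp, ι_map_Qh_quotient, ι_map_Qh_quotient, liftIso, liftIso,
    Functor.preimageIso_hom, Functor.preimageIso_hom, Functor.map_preimage, Functor.map_preimage]
  simp only [Iso.trans_hom, Iso.app_hom, Iso.symm_hom, Iso.app_inv, Category.assoc]
  erw [Category.assoc, Category.assoc, Iso.inv_hom_id_app_assoc, reassoc_of% h, Iso.inv_hom_id_app_assoc]
  rfl

end

lemma kerim {A : Type u} [Category.{v} A] [Abelian A] {a b c a' b' c' : A} {p : a ⟶ b} {q : b ⟶ c}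
    {p' : a' ⟶ b'} {q' : b' ⟶ c'} {w : p ≫ q = 0} (hS : (ShortComplex.mk p q w).Exact)
    (ea : a ≅ a') (eb : b ≅ b') (ec : c ≅ c') (h₁ : p ≫ eb.hom = ea.hom ≫ p')
    (h₂ : q ≫ ec.hom = eb.hom ≫ q') : kernelSubobject q' = imageSubobject p' := by
  have w' : p' ≫ q' = 0 := by
    rw [← cancel_epi ea.hom, ← reassoc_of% h₁, ← h₂, reassoc_of% w, zero_comp, comp_zero]
  let S' := ShortComplex.mk p' q' w'
  have : S'.Exact :=
    ShortComplex.exact_of_iso (ShortComplex.isoMk ea eb ec h₁.symm h₂.symm) hS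
  exact ((ShortComplex.exact_iff_image_eq_kernel S').1 this).symm

lemma long_exact {C : Type u} [Category.{v} C] [Abelian C] [HasDerivedCategory.{w} C]
    [EnoughInjectives C] {D : Type u'} [Category.{v'} D] [Abelian D] [HasDerivedCategory.{w'} D]
    (F : C ⥤ D) [F.Additive]
    {X₁ X₂ X₃ : CochainComplex.Plus C} (f : X₁ ⟶ X₂) (g : X₂ ⟶ X₃)
    (hf : Mono ((CochainComplex.Plus.ι C).map f)) (hg : Epi ((CochainComplex.Plus.ι C).map g))
    (hex : kernelSubobject ((CochainComplex.Plus.ι C).map g) = imageSubobject ((CochainComplex.Plus.ι C).map f))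
    (i : ℤ) :
    let Φ := HomotopyCategory.Plus.quotient C ⋙ DerivedCategory.Plus.Qh ⋙ F.rightDerivedFunctorPlus ⋙
      DerivedCategory.Plus.ι ⋙ DerivedCategory.homologyFunctor D i
    let Ψ := HomotopyCategory.Plus.quotient C ⋙ DerivedCategory.Plus.Qh ⋙ F.rightDerivedFunctorPlus ⋙
      DerivedCategory.Plus.ι ⋙ DerivedCategory.homologyFunctor D (i + 1)
    kernelSubobject (Φ.map g) = imageSubobject (Φ.map f) ∧
      ∃ δ : Φ.obj X₃ ⟶ Ψ.obj X₁,
        kernelSubobject δ = imageSubobject (Φ.map g) ∧ kernelSubobject (Ψ.map f) = imageSubobject δ := by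
  intro Φ Ψ
  -- the short exact sequence and its triangle
  have w : f.hom ≫ g.hom = 0 := by
    have hle : imageSubobject f.hom ≤ kernelSubobject g.hom := hex.ge
    calc f.hom ≫ g.hom = (factorThruImageSubobject f.hom ≫ (imageSubobject f.hom).arrow) ≫ g.hom := by
          rw [imageSubobject_arrow_comp]
      _ = 0 := by
        rw [← Subobject.ofLE_arrow hle, Category.assoc, Category.assoc, kernelSubobject_arrow_comp, comp_zero, comp_zero]
  let S := ShortComplex.mk f.hom g.hom w
  have hS : S.ShortExact :=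
    { exact := (ShortComplex.exact_iff_image_eq_kernel S).2 hex.symm
      mono_f := hf
      epi_g := hg }
  -- injective replacements
  obtain ⟨n₁, hn₁⟩ := X₁.property
  obtain ⟨n₂, hn₂⟩ := X₂.property
  obtain ⟨L₁, hL₁, i₁, hi₁⟩ := CochainComplex.Plus.exists_quasiIso_injective X₁ n₁
  obtain ⟨L₂, hL₂, i₂, hi₂⟩ := CochainComplex.Plus.exists_quasiIso_injective X₂ n₂
  let I₁ := (InjectiveObject.ι C).mapCochainComplexPlus.obj L₁
  let I₂ := (InjectiveObject.ι C).mapCochainComplexPlus.obj L₂
  have hge₁ : I₁.obj.IsStrictlyGE n₁ :=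
    (CochainComplex.isStrictlyGE_mapHomologicalComplex_obj_iff _ _ _).2 hL₁
  have hge₂ : I₂.obj.IsStrictlyGE n₂ :=
    (CochainComplex.isStrictlyGE_mapHomologicalComplex_obj_iff _ _ _).2 hL₂
  have hI₁ : ∀ n, Injective (I₁.obj.X n) := fun n => (L₁.obj.X n).property
  have hI₂ : ∀ n, Injective (I₂.obj.X n) := fun n => (L₂.obj.X n).property
  have : I₂.obj.IsKInjective := CochainComplex.isKInjective_of_injective _ n₂
  have : QuasiIso i₁.hom := hi₁
  have : QuasiIso i₂.hom := hi₂
  let ε₁ : DerivedCategory.Q.obj I₁.obj ≅ DerivedCategory.Q.obj X₁.obj :=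
    (asIso (DerivedCategory.Q.map i₁.hom)).symm
  let ε₂ : DerivedCategory.Q.obj I₂.obj ≅ DerivedCategory.Q.obj X₂.obj :=
    (asIso (DerivedCategory.Q.map i₂.hom)).symm
  obtain ⟨φ, hφ⟩ := Groth.DerivedCoh.KInjRes.Q_map_surjective I₁.obj I₂.obj
    (ε₁.hom ≫ DerivedCategory.Q.map f.hom ≫ ε₂.inv)
  have hsq : DerivedCategory.Q.map φ ≫ ε₂.hom = ε₁.hom ≫ DerivedCategory.Q.map f.hom := by
    simp [hφ]
  -- the cone
  let M := CochainComplex.mappingCone φ
  have hM : M.IsStrictlyGE (min n₁ n₂ - 1) := by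
    rw [CochainComplex.isStrictlyGE_iff]
    intro k hk
    refine IsZero.of_iso ?_ (HomologicalComplex.homotopyCofiber.XIsoBiprod φ k (k + 1) (by simp))
    rw [biprod_isZero_iff]
    exact ⟨I₁.obj.isZero_of_isStrictlyGE n₁ _ (by lia), I₂.obj.isZero_of_isStrictlyGE n₂ _ (by lia)⟩
  let I₃ : CochainComplex.Plus C := ⟨M, min n₁ n₂ - 1, hM⟩
  have hI₃ : ∀ n, Injective (I₃.obj.X n) := fun n => by
    have := hI₁ (n + 1)
    have := hI₂ n
    exact Injective.of_iso (HomologicalComplex.homotopyCofiber.XIsoBiprod φ n (n + 1) (by simp)).symm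
      inferInstance
  let φ' : I₁ ⟶ I₂ := ObjectProperty.homMk φ
  let ρ : I₂ ⟶ I₃ := ObjectProperty.homMk (CochainComplex.mappingCone.inr φ)
  -- isomorphism of triangles
  have hT₁ : DerivedCategory.Q.mapTriangle.obj (CochainComplex.mappingCone.triangle φ) ∈
      distTriang (DerivedCategory C) :=
    (DerivedCategory.mem_distTriang_iff _).2 ⟨_, _, φ, ⟨Iso.refl _⟩⟩
  let E := isoTriangleOfIso₁₂ _ _ hT₁ (DerivedCategory.triangleOfSES_distinguished hS) ε₁ ε₂ hsq
  let ε₃ : DerivedCategory.Q.obj I₃.obj ≅ DerivedCategory.Q.obj X₃.obj := Triangle.π₃.mapIso E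
  have hsq' : DerivedCategory.Q.map ρ.hom ≫ ε₃.hom = ε₂.hom ≫ DerivedCategory.Q.map g.hom := by
    have h2 : E.hom.hom₂ = ε₂.hom := isoTriangleOfIso₁₂_hom_hom₂ _ _ hT₁
      (DerivedCategory.triangleOfSES_distinguished hS) ε₁ ε₂ hsq
    rw [← h2]
    exact E.hom.comm₂
  -- transport of functors
  let q := HomotopyCategory.Plus.quotient C
  let Γ := DerivedCategory.Plus.Qh ⋙ F.rightDerivedFunctorPlus ⋙ DerivedCategory.Plus.ι
  let Θ := F.mapHomotopyCategoryPlus ⋙ DerivedCategory.Plus.Qh ⋙ DerivedCategory.Plus.ι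
  let β : Θ ⟶ Γ := Functor.whiskerRight F.rightDerivedFunctorPlusUnit DerivedCategory.Plus.ι
  have hβ : ∀ (K : CochainComplex.Plus C), (∀ n, Injective (K.obj.X n)) → IsIso (β.app (q.obj K)) := by
    intro K hK
    have : IsIso (F.rightDerivedFunctorPlusUnit.app (q.obj K)) := by
      have : ∀ n, Injective ((q.obj K).obj.as.X n) := hK
      infer_instance
    exact (DerivedCategory.Plus.ι.mapIso (@asIso _ _ _ _ _ this)).isIso_hom
  let ψ : ∀ {K X : CochainComplex.Plus C}, (∀ n, Injective (K.obj.X n)) →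
      (DerivedCategory.Q.obj K.obj ≅ DerivedCategory.Q.obj X.obj) →
      (Θ.obj (q.obj K) ≅ Γ.obj (q.obj X)) := fun {K X} hK ε =>
    (have := hβ K hK; asIso (β.app (q.obj K))) ≪≫
      (F.rightDerivedFunctorPlus ⋙ DerivedCategory.Plus.ι).mapIso (liftIso ε)
  have hψ : ∀ {K L X Y : CochainComplex.Plus C} (hK : ∀ n, Injective (K.obj.X n))
      (hL : ∀ n, Injective (L.obj.X n)) (ε : DerivedCategory.Q.obj K.obj ≅ DerivedCategory.Q.obj X.obj)
      (ε' : DerivedCategory.Q.obj L.obj ≅ DerivedCategory.Q.obj Y.obj) (u : K ⟶ L) (v : X ⟶ Y),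
      DerivedCategory.Q.map u.hom ≫ ε'.hom = ε.hom ≫ DerivedCategory.Q.map v.hom →
      Θ.map (q.map u) ≫ (ψ hL ε').hom = (ψ hK ε).hom ≫ Γ.map (q.map v) := by
    intro K L X Y hK hL ε ε' u v h
    simp only [ψ, Iso.trans_hom, asIso_hom, Functor.mapIso_hom, Category.assoc]
    rw [← Category.assoc, β.naturality, Category.assoc]
    refine congrArg (β.app _ ≫ ·) ?_
    have := congrArg (F.rightDerivedFunctorPlus ⋙ DerivedCategory.Plus.ι).map (liftIso_square u v ε ε' h)
    simp only [Functor.map_comp] at this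
    exact this
  let T := DerivedCategory.Qh.mapTriangle.obj ((F.mapHomotopyCategory (ComplexShape.up ℤ)).mapTriangle.obj
    (CochainComplex.mappingCone.triangleh φ))
  have hT : T ∈ distTriang (DerivedCategory D) :=
    DerivedCategory.Qh.map_distinguished _ ((F.mapHomotopyCategory (ComplexShape.up ℤ)).map_distinguished _
      (HomotopyCategory.mappingCone_triangleh_distinguished φ))
  let H := DerivedCategory.homologyFunctor D
  let a := fun j => (H j).mapIso (ψ hI₁ ε₁)
  let b := fun j => (H j).mapIso (ψ hI₂ ε₂)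
  let c := fun j => (H j).mapIso (ψ hI₃ ε₃)
  have h₁ : ∀ j, (H j).map T.mor₁ ≫ (b j).hom = (a j).hom ≫ (H j).map (Γ.map (q.map f)) := fun j => by
    refine (((H j).map_comp _ _).symm.trans (Eq.trans ?_ ((H j).map_comp _ _)))
    exact congrArg (H j).map (hψ hI₁ hI₂ ε₁ ε₂ φ' f hsq)
  have h₂ : ∀ j, (H j).map T.mor₂ ≫ (c j).hom = (b j).hom ≫ (H j).map (Γ.map (q.map g)) := fun j => by
    refine (((H j).map_comp _ _).symm.trans (Eq.trans ?_ ((H j).map_comp _ _)))
    exact congrArg (H j).map (hψ hI₂ hI₃ ε₂ ε₃ ρ g hsq')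
  refine ⟨kerim (DerivedCategory.HomologySequence.exact₂ T hT i) (a i) (b i) (c i) (h₁ i) (h₂ i),
    (c i).inv ≫ DerivedCategory.HomologySequence.δ T i (i + 1) rfl ≫ (a (i + 1)).hom, ?_, ?_⟩
  · exact kerim (DerivedCategory.HomologySequence.exact₃ T hT i (i + 1) rfl) (b i) (c i) (a (i + 1))
      (h₂ i) ((c i).hom_inv_id_assoc _).symm
  · exact kerim (DerivedCategory.HomologySequence.exact₁ T hT i (i + 1) rfl) (c i) (a (i + 1))
      (b (i + 1)) ((c i).hom_inv_id_assoc _).symm (h₁ (i + 1))


/-- Let F : C → D be a left exact functor between abelian categories with C having enough injectives,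
and let 0 → X₁ → X₂ → X₃ → 0 be a short exact sequence of bounded below complexes of C (maps f, g
with f a monomorphism, g an epimorphism and ker g = im f, degreewise). Then there is a long exact
cohomology sequence … → H^i(RF X₁) → H^i(RF X₂) → H^i(RF X₃) → H^{i+1}(RF X₁) → …: for every i the
induced sequence is exact at H^i(RF X₂), and there is a connecting morphism H^i(RF X₃) → H^{i+1}(RF
X₁) with exactness at H^i(RF X₃) and at H^{i+1}(RF X₁). Here RF is the right derived functor on the
bounded below derived category and H^i is computed in D(D); exactness is expressed as equality of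
kernel and image subobjects. Existence of such a connecting morphism only; the canonical one coming
from the distinguished triangle of the short exact sequence is not named. -/
theorem result {C : Type u} [Category.{v} C] [Abelian C] [HasDerivedCategory.{w} C]
    [EnoughInjectives C] {D : Type u'} [Category.{v'} D] [Abelian D] [HasDerivedCategory.{w'} D]
    (F : C ⥤ D) [F.Additive] [PreservesFiniteLimits F]
    {X₁ X₂ X₃ : CochainComplex.Plus C} (f : X₁ ⟶ X₂) (g : X₂ ⟶ X₃)
    (hf : Mono ((CochainComplex.Plus.ι C).map f)) (hg : Epi ((CochainComplex.Plus.ι C).map g))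
    (hex : kernelSubobject ((CochainComplex.Plus.ι C).map g) = imageSubobject ((CochainComplex.Plus.ι C).map f))
    (i : ℤ) :
    let Φ := HomotopyCategory.Plus.quotient C ⋙ DerivedCategory.Plus.Qh ⋙ F.rightDerivedFunctorPlus ⋙
      DerivedCategory.Plus.ι ⋙ DerivedCategory.homologyFunctor D i
    let Ψ := HomotopyCategory.Plus.quotient C ⋙ DerivedCategory.Plus.Qh ⋙ F.rightDerivedFunctorPlus ⋙
      DerivedCategory.Plus.ι ⋙ DerivedCategory.homologyFunctor D (i + 1)
    kernelSubobject (Φ.map g) = imageSubobject (Φ.map f) ∧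
      ∃ δ : Φ.obj X₃ ⟶ Ψ.obj X₁,
        kernelSubobject δ = imageSubobject (Φ.map g) ∧ kernelSubobject (Ψ.map f) = imageSubobject δ := by
  intro Φ Ψ
  exact long_exact F f g hf hg hex i

end Groth.Agent.S12229
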