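import Groth.Statements.S12231
import Groth.Agent.Flatmor4.DevissageBaseChange

set_option autoImplicit false
universe u
open TensorProduct
open FlatMor

namespace Groth.Agent.S12231

/-- All schemes are affine here, as in the ambient rendering of a one-step dévissage. Let R → S be a
ring map of finite type, N a finite S-module, p a prime of R and (C, D, G, n) a one-step dévissage
of N/S/R over p — C a finitely presented quotient of S with a finite C-module G identified with N
over S, D an R-algebra smooth of relative dimension n with geometrically irreducible fibres and a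
finite map D → C over R, n the dimension of the support of the fibre module of N over p. Let R → R'
be a ring map, p' a prime of R' over p, and let S', C', D' be the base changes of S, C, D to R'
(pushout squares, with the R'-algebra maps S' → C' ← D' induced from S → C ← D) and N' = N ⊗_S S',
G' = G ⊗_C C' (base-change maps f, g). Then (C', D', G', n) is a one-step dévissage of N'/S'/R' over
p'. -/
theorem result
    (R S : Type u) [CommRing R] [CommRing S] [Algebra R S] [Algebra.FiniteType R S]
    (N : Type u) [AddCommGroup N] [Module S N] [Module R N] [IsScalarTower R S N] [Module.Finite S N]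
    (p : Ideal R) [p.IsPrime]
    (C D G : Type u) [CommRing C] [CommRing D] [Algebra S C] [Algebra R C] [IsScalarTower R S C]
    [Algebra R D] [Algebra D C] [IsScalarTower R D C] [AddCommGroup G] [Module C G] [Module S G]
    [IsScalarTower S C G] (n : ℕ)
    (h : FlatCA.IsOneStepDevissage R S N p C D G n)
    (R' : Type u) [CommRing R'] [Algebra R R'] (p' : Ideal R') [p'.IsPrime] [p'.LiesOver p]
    (S' C' D' : Type u) [CommRing S'] [CommRing C'] [CommRing D']
    [Algebra R' S'] [Algebra R S'] [Algebra S S'] [IsScalarTower R R' S'] [IsScalarTower R S S']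
    [Algebra.IsPushout R R' S S']
    [Algebra R' C'] [Algebra R C'] [Algebra C C'] [IsScalarTower R R' C'] [IsScalarTower R C C']
    [Algebra.IsPushout R R' C C']
    [Algebra R' D'] [Algebra R D'] [Algebra D D'] [IsScalarTower R R' D'] [IsScalarTower R D D']
    [Algebra.IsPushout R R' D D']
    [Algebra S' C'] [IsScalarTower R' S' C'] [Algebra S C'] [IsScalarTower S S' C'] [IsScalarTower S C C']
    [Algebra D' C'] [IsScalarTower R' D' C'] [Algebra D C'] [IsScalarTower D D' C'] [IsScalarTower D C C']
    (N' : Type u) [AddCommGroup N'] [Module S' N'] [Module R' N'] [IsScalarTower R' S' N']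
    [Module S N'] [IsScalarTower S S' N'] (f : N →ₗ[S] N') (hf : IsBaseChange S' f)
    (G' : Type u) [AddCommGroup G'] [Module C' G'] [Module S' G'] [IsScalarTower S' C' G']
    [Module C G'] [IsScalarTower C C' G'] (g : G →ₗ[C] G') (hg : IsBaseChange C' g) :
    FlatCA.IsOneStepDevissage R' S' N' p' C' D' G' n := by
  obtain ⟨⟨e⟩, hsurj, hfp, hDC, hCG, hsm, hgi, hdim⟩ := h
  haveI := hfp
  haveI := hDC
  haveI := hCG
  haveI : Algebra.IsPushout S S' C C' := Groth.Flatmor4.isPushout_cancel (R := R) (R' := R')
  haveI : Algebra.IsPushout D D' C C' := Groth.Flatmor4.isPushout_cancel (R := R) (R' := R')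
  letI : Module S G' := Module.compHom G' (algebraMap S C)
  haveI : IsScalarTower S C G' := .of_algebraMap_smul fun _ _ => rfl
  haveI : IsScalarTower S S' G' := .of_algebraMap_smul fun r x => by
    rw [← algebraMap_smul C' (algebraMap S S' r) x, ← IsScalarTower.algebraMap_apply S S' C',
      IsScalarTower.algebraMap_apply S C C', algebraMap_smul]
    rfl
  have hg' : IsBaseChange S' (g.restrictScalars S) :=
    Groth.Flatmor4.isBaseChange_restrict_of_isPushout hg
  refine ⟨⟨(hf.equiv.symm ≪≫ₗ e.baseChange S S' ≪≫ₗ hg'.equiv)⟩,
    Groth.Flatmor4.surjective_of_isPushout (A := S) (B := C) hsurj,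
    Groth.Flatmor4.finitePresentation_of_isPushout (A := S) (B := C),
    Groth.Flatmor4.finite_of_isPushout (A := D) (B := C), Module.Finite.equiv hg.equiv,
    Groth.Flatmor4.smoothRelDim_baseChange R R' D D' hsm,
    Groth.Flatmor4.geomIrredFibres_baseChange R R' D D' hgi, ?_⟩
  rw [Groth.Flatmor4.supportDim_fiberMod_baseChange p p' hf, hdim]

end Groth.Agent.S12231
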