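import Groth.Statements.S12233
import Mathlib
import Groth.Agent.Calg6.FlatBaseChange

set_option autoImplicit false
universe u
open scoped TensorProduct
open CAlg

namespace Groth.Agent.S12233
open scoped TensorProduct
open Groth.Calg6.FlatBC

theorem flat_mod_baseChange {R R' M : Type u} [CommRing R] [CommRing R'] [Algebra R R'] [AddCommGroup M]
    [Module R M] (I : Ideal R) [Module.Flat (R ⧸ I) ((R ⧸ I) ⊗[R] M)] :
    Module.Flat (R' ⧸ I.map (algebraMap R R')) ((R' ⧸ I.map (algebraMap R R')) ⊗[R] M) := by
  letI : Algebra (R ⧸ I) (R' ⧸ I.map (algebraMap R R')) :=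
    (Ideal.quotientMap _ (algebraMap R R') Ideal.le_comap_map).toAlgebra
  haveI : IsScalarTower R (R ⧸ I) (R' ⧸ I.map (algebraMap R R')) :=
    IsScalarTower.of_algebraMap_eq fun r => rfl
  exact Module.Flat.of_linearEquiv
    (TensorProduct.AlgebraTensorModule.cancelBaseChange R (R ⧸ I) (R' ⧸ I.map (algebraMap R R'))
      (R' ⧸ I.map (algebraMap R R')) M).symm

/-- Let R → S, R → R', S → S' and R' → S' be local homomorphisms of Noetherian local rings forming a
commutative square, I ⊊ R an ideal, M a finite S-module, I' = IR' and M' = M ⊗_S S' (given through a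
base-change map f : M → M'). Assume (1) S' is a localization of S ⊗_R R' via the induced map, (2)
M/IM is flat over R/I, and (3) the map Tor_1^R(M, R/I) → Tor_1^{R'}(M', R'/I') is zero — with
Tor_1(−, R/I) computed as the kernel of I ⊗_R M → M, this says that every element of that kernel
goes to zero under the natural map I ⊗_R M → I' ⊗_{R'} M'. Then M' is flat over R'. -/
theorem result
    (R S R' S' : Type u) [CommRing R] [CommRing S] [CommRing R'] [CommRing S']
    [IsLocalRing R] [IsLocalRing S] [IsLocalRing R'] [IsLocalRing S']
    [IsNoetherianRing R] [IsNoetherianRing S] [IsNoetherianRing R'] [IsNoetherianRing S']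
    [Algebra R S] [Algebra R R'] [Algebra S S'] [Algebra R' S'] [Algebra R S']
    [IsScalarTower R S S'] [IsScalarTower R R' S']
    [IsLocalHom (algebraMap R S)] [IsLocalHom (algebraMap R R')] [IsLocalHom (algebraMap S S')]
    [IsLocalHom (algebraMap R' S')]
    (I : Ideal R) (hI : I ≠ ⊤) (M : Type u) [AddCommGroup M] [Module S M] [Module R M] [IsScalarTower R S M]
    [Module.Finite S M]
    (M' : Type u) [AddCommGroup M'] [Module S' M'] [Module R' M'] [IsScalarTower R' S' M']
    [Module S M'] [IsScalarTower S S' M'] [Module R M'] [IsScalarTower R R' M'] [IsScalarTower R S M']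
    (f : M →ₗ[S] M') (hf : IsBaseChange S' f)
    (h1 : ∃ W : Submonoid (S ⊗[R] R'),
      letI : Algebra (S ⊗[R] R') S' :=
        (Algebra.TensorProduct.lift (IsScalarTower.toAlgHom R S S') (IsScalarTower.toAlgHom R R' S')
          (fun s r => Commute.all _ _)).toRingHom.toAlgebra;
      IsLocalization W S')
    (h2 : Module.Flat (R ⧸ I) ((R ⧸ I) ⊗[R] M))
    (h3 : ∀ x : ↥I ⊗[R] M, (Submodule.subtype I).rTensor M x = 0 →
      (TensorProduct.mapOfCompatibleSMul R' R R ↥(I.map (algebraMap R R')) M')
        ((TensorProduct.map (Algebra.idealMap R' I) (f.restrictScalars R)) x) = 0) :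
    Module.Flat R' M' := by
  obtain ⟨W, hW⟩ := h1
  let I' := I.map (algebraMap R R')
  haveI : Module.Finite S' M' := Module.Finite.equiv hf.equiv
  have hI' : I' ≠ ⊤ := fun htop => by
    have hle : I' ≤ IsLocalRing.maximalIdeal R' :=
      (Groth.FlatMorOne.map_le_jacobson_of_isLocalHom (S := R') hI).trans
        (IsLocalRing.jacobson_eq_maximalIdeal _ bot_ne_top).le
    exact (IsLocalRing.maximalIdeal.isMaximal R').ne_top (top_le_iff.mp (htop ▸ hle))
  have hinj : Function.Injective (I'.subtype.rTensor M') := by
    refine rTensor_injective R S R' S' ↥I' f hf W hW I'.subtype ?_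
      (eq_zero_of_psi_eq_zero R S R' S' f hf W hW)
    intro y hy
    have hmem := ker_le_torImage I R' M y hy
    clear hy
    induction hmem using Submodule.span_induction with
    | zero => exact map_zero _
    | add a b _ _ ha hb => rw [map_add, ha, hb, add_zero]
    | smul r a _ ha =>
      have key : ∀ z : ↥I' ⊗[R] M, r • z = act R S R' M ↥I' (1 ⊗ₜ r) z := by
        intro z
        induction z with
        | zero => simp
        | add a b ha hb => simp only [smul_add, map_add, ha, hb]
        | tmul x m => rw [act_tmul, one_smul, TensorProduct.smul_tmul']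
      rw [key, psi_act R S R' S', ha, map_zero]
    | mem a ha =>
      obtain ⟨x, hx, rfl⟩ := ha
      have h3' := h3 x hx
      refine Eq.trans ?_ h3'
      clear h3' hx
      induction x with
      | zero => simp
      | add a b ha hb => simp only [map_add, ha, hb]
      | tmul a m => rfl
  have hflat : Module.Flat (R' ⧸ I') ((R' ⧸ I') ⊗[R'] M') := by
    haveI := flat_mod_baseChange (R' := R') (M := M) I
    rw [Module.Flat.iff_rTensor_injective']
    intro J
    rw [Groth.FlatMorOne.rTensor_baseChange_injective_iff]
    refine rTensor_injective R S R' S' ↥J f hf W hW (J.subtype.restrictScalars R') ?_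
      (eq_zero_of_psi_eq_zero_quotient R S R' S' f hf W hW I')
    intro y hy
    have hJ : Function.Injective ((J.subtype.restrictScalars R).rTensor M) :=
      (Groth.FlatMorOne.rTensor_baseChange_injective_iff (R := R) (M := M) J.subtype).mp
        (Module.Flat.rTensor_preserves_injective_linearMap _ Subtype.val_injective)
    have : y = 0 := hJ (hy.trans (map_zero _).symm)
    rw [this, map_zero]
  exact Groth.FlatMorOne.flat_of_rTensor_injective (S := S') I'
    (Groth.FlatMorOne.map_le_jacobson_of_isLocalHom hI') hinj

end Groth.Agent.S12233
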