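import Groth.Statements.S12239
import Groth.Agent.Flatmor4.DevissageAt
import Groth.Agent.S12231

set_option autoImplicit false
universe u
open FlatMor

namespace Groth.Agent.S12239

open TensorProduct in
/-- All schemes are affine, as in the ambient rendering of a one-step dévissage. Let R → S be of finite
type, N a finite S-module, p a prime of R and q a prime of S over p (the points s and x). Let (C, D,
G, n) be a one-step dévissage of N/S/R over p — C a finitely presented quotient of S carrying a
finite module G identified with N, D smooth over R of relative dimension n with geometrically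
irreducible fibres, D → C finite over R, n the dimension of the support of the fibre module N ⊗ κ(p)
— which is moreover a one-step dévissage at q for primes z of C and y of D: the local dimension of
that support at the point given by q equals n; z lies over q and over y; z is the only prime of C
over y; and κ(y) is purely transcendental over κ(p). Let R → R' be a ring map and p' a prime of R'
over p such that κ(p) → κ(p') is bijective, and let S', C', D', N', G' be the base changes along R →
R' (pushout squares compatible with S → C ← D, and N' = N ⊗_S S', G' = G ⊗_C C'). Let q', z', y' be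
primes of S', C', D' lying over q, z, y respectively and over p'. Then q' is the only prime of S'
over both q and p', and the base-changed data is again a one-step dévissage at q': (C', D', G', n)
is a one-step dévissage of N'/S'/R' over p'; the local dimension at q' of the support of N' ⊗ κ(p')
equals n; z' lies over q' and over y'; z' is the only prime of C' over y'; and κ(y') is purely
transcendental over κ(p'). -/
theorem result
    (R S : Type u) [CommRing R] [CommRing S] [Algebra R S] [Algebra.FiniteType R S]
    (N : Type u) [AddCommGroup N] [Module S N] [Module R N] [IsScalarTower R S N] [Module.Finite S N]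
    (p : Ideal R) [p.IsPrime] (q : Ideal S) [q.IsPrime] [q.LiesOver p]
    (C D G : Type u) [CommRing C] [CommRing D] [Algebra S C] [Algebra R C] [IsScalarTower R S C]
    [Algebra R D] [Algebra D C] [IsScalarTower R D C] [AddCommGroup G] [Module C G] [Module S G]
    [IsScalarTower S C G] (n : ℕ)
    (h : FlatCA.IsOneStepDevissage R S N p C D G n)
    (z : Ideal C) [z.IsPrime] (y : Ideal D) [y.IsPrime] [z.LiesOver q] [z.LiesOver y] [y.LiesOver p]
    (h1 : ∃ (ξ : PrimeSpectrum (p.Fiber S)) (hξ : ξ ∈ Module.support (p.Fiber S) (FlatCA.fiberMod p S N)),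
      ξ.asIdeal = FlatCA.fiberIdeal p q ∧
      FlatMor.localDim (Module.support (p.Fiber S) (FlatCA.fiberMod p S N)) ⟨ξ, hξ⟩ = n)
    (h3 : ∀ (z₁ : Ideal C) [z₁.IsPrime], z₁.LiesOver y → z₁ = z)
    (h4 : FlatCA.PurelyTranscendental p y)
    (R' : Type u) [CommRing R'] [Algebra R R'] (p' : Ideal R') [p'.IsPrime] [hp' : p'.LiesOver p]
    (hκ : Function.Bijective (Ideal.ResidueField.mapₐ p p' (Algebra.ofId R R') hp'.over))
    (S' C' D' : Type u) [CommRing S'] [CommRing C'] [CommRing D']
    [Algebra R' S'] [Algebra R S'] [Algebra S S'] [IsScalarTower R R' S'] [IsScalarTower R S S']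
    [Algebra.IsPushout R R' S S']
    [Algebra R' C'] [Algebra R C'] [Algebra C C'] [IsScalarTower R R' C'] [IsScalarTower R C C']
    [Algebra.IsPushout R R' C C']
    [Algebra R' D'] [Algebra R D'] [Algebra D D'] [IsScalarTower R R' D'] [IsScalarTower R D D']
    [Algebra.IsPushout R R' D D']
    [Algebra S' C'] [IsScalarTower R' S' C'] [Algebra S C'] [IsScalarTower S S' C'] [IsScalarTower S C C']
    [Algebra D' C'] [IsScalarTower R' D' C'] [Algebra D C'] [IsScalarTower D D' C'] [IsScalarTower D C C']
    (N' : Type u) [AddCommGroup N'] [Module S' N'] [Module R' N'] [IsScalarTower R' S' N']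
    [Module S N'] [IsScalarTower S S' N'] (f : N →ₗ[S] N') (hf : IsBaseChange S' f)
    (G' : Type u) [AddCommGroup G'] [Module C' G'] [Module S' G'] [IsScalarTower S' C' G']
    [Module C G'] [IsScalarTower C C' G'] (g : G →ₗ[C] G') (hg : IsBaseChange C' g)
    (q' : Ideal S') [q'.IsPrime] [q'.LiesOver q] [q'.LiesOver p']
    (z' : Ideal C') [z'.IsPrime] [z'.LiesOver z] [z'.LiesOver p']
    (y' : Ideal D') [y'.IsPrime] [y'.LiesOver y] [y'.LiesOver p'] :
    (∀ (q₁ : Ideal S') [q₁.IsPrime], q₁.LiesOver q → q₁.LiesOver p' → q₁ = q') ∧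
    FlatCA.IsOneStepDevissage R' S' N' p' C' D' G' n ∧
    (∃ (ξ' : PrimeSpectrum (p'.Fiber S')) (hξ' : ξ' ∈ Module.support (p'.Fiber S') (FlatCA.fiberMod p' S' N')),
      ξ'.asIdeal = FlatCA.fiberIdeal p' q' ∧
      FlatMor.localDim (Module.support (p'.Fiber S') (FlatCA.fiberMod p' S' N')) ⟨ξ', hξ'⟩ = n) ∧
    z'.LiesOver q' ∧ z'.LiesOver y' ∧
    (∀ (z₁ : Ideal C') [z₁.IsPrime], z₁.LiesOver y' → z₁ = z') ∧
    FlatCA.PurelyTranscendental p' y' := by
  have hS := fun (q₁ : Ideal S') (_ : q₁.IsPrime) (_ : q₁.LiesOver q) (_ : q₁.LiesOver p') =>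
    Groth.Flatmor4.eq_of_liesOver_of_bijective p p' hκ q q₁ q'
  obtain ⟨⟨e⟩, hsurj, hfp, hDC, hCG, hsm, hgi, hdim⟩ := h
  have hzq : z'.LiesOver q' := by
    haveI : (z'.under S').LiesOver q := ⟨by
      rw [Ideal.LiesOver.over (P := z) (p := q), Ideal.LiesOver.over (P := z') (p := z),
        Ideal.under_under, Ideal.under_under]⟩
    haveI : (z'.under S').LiesOver p' := ⟨by
      rw [Ideal.under_under]; exact Ideal.LiesOver.over⟩
    exact ⟨(hS _ inferInstance inferInstance inferInstance).symm⟩
  have hzy : z'.LiesOver y' := by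
    haveI : (z'.under D').LiesOver y := ⟨by
      rw [Ideal.LiesOver.over (P := z) (p := y), Ideal.LiesOver.over (P := z') (p := z),
        Ideal.under_under, Ideal.under_under]⟩
    haveI : (z'.under D').LiesOver p' := ⟨by
      rw [Ideal.under_under]; exact Ideal.LiesOver.over⟩
    exact ⟨(Groth.Flatmor4.eq_of_liesOver_of_bijective p p' hκ y (z'.under D') y').symm⟩
  refine ⟨fun q₁ h₁ h₂ h₃ => hS q₁ h₁ h₂ h₃,
    Groth.Agent.S12231.result R S N p C D G n ⟨⟨e⟩, hsurj, hfp, hDC, hCG, hsm, hgi, hdim⟩
      R' p' S' C' D' N' f hf G' g hg,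
    Groth.Flatmor4.exists_point_localDim_baseChange p p' hκ hf q q' h1, hzq, hzy, ?_,
    Groth.Flatmor4.purelyTranscendental_baseChange p p' hκ y y' h4⟩
  intro z₁ hz₁p hz₁y
  haveI : (z₁.under C).LiesOver y := ⟨by
    rw [Ideal.LiesOver.over (P := y') (p := y), Ideal.LiesOver.over (P := z₁) (p := y'),
      Ideal.under_under, Ideal.under_under]⟩
  haveI : z₁.LiesOver z := ⟨(h3 (z₁.under C) inferInstance).symm⟩
  haveI : z₁.LiesOver p' := ⟨by
    rw [Ideal.LiesOver.over (P := y') (p := p'), Ideal.LiesOver.over (P := z₁) (p := y'),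
      Ideal.under_under]⟩
  exact Groth.Flatmor4.eq_of_liesOver_of_bijective p p' hκ z z₁ z'

end Groth.Agent.S12239
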