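import Groth.Statements.S12243
import Groth.Agent.Flatmor4.CompleteDevissageBC

set_option autoImplicit false
universe u
open FlatMor

namespace Groth.Agent.S12243

open TensorProduct in
/-- All schemes are affine; the base-changed complete dévissage is asserted to exist with its pieces
pinned as base changes. Let R → S be of finite type, N a finite S-module, p a prime of R and 𝒟 a
complete dévissage of N/S/R over p in the prelude's algebraic form (rings A_i, smooth R-algebras B_i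
with pB_i prime and geometrically irreducible fibres, finite A_i-modules M_i with N ≅ M_0, maps α_i
from finite free B_i-modules, bijective on the fibre at pB_i, whose cokernels are the next modules,
the last one surjective; steps indexed by i below the length). Let R → R' be a ring map, p' a prime
of R' over p, S' the base change of S and N' = N ⊗_S S'. Then N'/S'/R' has a complete dévissage 𝒟'
over p' of the same length and the same ranks whose pieces are base changes of those of 𝒟: for the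
steps i below the length there are algebra structures making A'_i and B'_i the base changes of A_i
and B_i along R → R', compatibly with B_i → A_i, with B_i → A_{i+1}, with S → A_0 and with S' →
A'_0, and A_i-linear base-change maps M_i → M'_i (M'_i ≅ M_i ⊗_{A_i} A'_i) carrying N ≅ M_0 to N' ≅
M'_0 and the image of α_i onto a generating set of the image of α'_i. (The published statement
base-changes all the data functorially; here the identifications of cokernels inside 𝒟' are not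
required to be the base-changed ones.) -/
theorem result
    (R S : Type u) [CommRing R] [CommRing S] [Algebra R S] [Algebra.FiniteType R S]
    (N : Type u) [AddCommGroup N] [Module S N] [Module.Finite S N]
    (p : Ideal R) [p.IsPrime] (𝒟 : FlatCA.CompleteDevissage R S N p)
    (R' : Type u) [CommRing R'] [Algebra R R'] (p' : Ideal R') [p'.IsPrime] [p'.LiesOver p]
    (S' : Type u) [CommRing S'] [Algebra R' S'] [Algebra R S'] [Algebra S S'] [IsScalarTower R R' S']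
    [IsScalarTower R S S'] [Algebra.IsPushout R R' S S']
    (N' : Type u) [AddCommGroup N'] [Module S' N'] [Module S N'] [IsScalarTower S S' N']
    (f : N →ₗ[S] N') (hf : IsBaseChange S' f) :
    ∃ (𝒟' : FlatCA.CompleteDevissage R' S' N' p')
      (aA : ∀ i : Fin 𝒟.n, Algebra (𝒟.A i) (𝒟'.A i)) (rA : ∀ i : Fin 𝒟.n, Algebra R (𝒟'.A i))
      (_t1 : ∀ i : Fin 𝒟.n, IsScalarTower R (R') (𝒟'.A i)) (_t2 : ∀ i : Fin 𝒟.n, IsScalarTower R (𝒟.A i) (𝒟'.A i))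
      (aB : ∀ i : Fin 𝒟.n, Algebra (𝒟.B i) (𝒟'.B i)) (rB : ∀ i : Fin 𝒟.n, Algebra R (𝒟'.B i))
      (_t3 : ∀ i : Fin 𝒟.n, IsScalarTower R (R') (𝒟'.B i)) (_t4 : ∀ i : Fin 𝒟.n, IsScalarTower R (𝒟.B i) (𝒟'.B i))
      (bA : ∀ i : Fin 𝒟.n, Algebra (𝒟.B i) (𝒟'.A i)) (_t5 : ∀ i : Fin 𝒟.n, IsScalarTower (𝒟.B i) (𝒟.A i) (𝒟'.A i))
      (_t6 : ∀ i : Fin 𝒟.n, IsScalarTower (𝒟.B i) (𝒟'.B i) (𝒟'.A i))
      (bA' : ∀ i : Fin 𝒟.n, Algebra (𝒟.B i) (𝒟'.A (i + 1)))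
      (_t7 : ∀ i : Fin 𝒟.n, IsScalarTower (𝒟.B i) (𝒟'.B i) (𝒟'.A (i + 1)))
      (sA : Algebra S (𝒟'.A 0)) (_t8 : IsScalarTower S (S') (𝒟'.A 0))
      (mA : ∀ i : Fin 𝒟.n, Module (𝒟.A i) (𝒟'.M i)) (_t9 : ∀ i : Fin 𝒟.n, IsScalarTower (𝒟.A i) (𝒟'.A i) (𝒟'.M i))
      (gM : ∀ i : Fin 𝒟.n, 𝒟.M i →ₗ[𝒟.A i] 𝒟'.M i),
      𝒟'.n = 𝒟.n ∧ 𝒟'.r = 𝒟.r ∧
      (letI := aA ⟨0, 𝒟.pos⟩; IsScalarTower S (𝒟.A 0) (𝒟'.A 0)) ∧
      (∀ x : N, 𝒟'.isoN (f x) = gM ⟨0, 𝒟.pos⟩ (𝒟.isoN x)) ∧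
      (∀ (i : Fin 𝒟.n) (h : (i : ℕ) + 1 < 𝒟.n),
        letI := aA ⟨i + 1, h⟩; IsScalarTower (𝒟.B i) (𝒟.A (i + 1)) (𝒟'.A (i + 1))) ∧
      ∀ i : Fin 𝒟.n,
        Algebra.IsPushout R R' (𝒟.A i) (𝒟'.A i) ∧ Algebra.IsPushout R R' (𝒟.B i) (𝒟'.B i) ∧
        IsBaseChange (𝒟'.A i) (gM i) ∧
        LinearMap.range (𝒟'.α i) =
          Submodule.span (𝒟'.B i) ((gM i) '' (LinearMap.range (𝒟.α i) : Set (𝒟.M i))) := by
  classical
  let P : ∀ i, Groth.Flatmor4.StepPiece 𝒟 i := Groth.Flatmor4.stepPiece 𝒟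
  let φ : ∀ i, (Groth.Flatmor4.DevB 𝒟 R') i →ₐ[R'] (Groth.Flatmor4.DevA 𝒟 R') i := fun i => Algebra.TensorProduct.map (AlgHom.id R' R') (P i).fA
  let φ' : ∀ i, (Groth.Flatmor4.DevB 𝒟 R') i →ₐ[R'] (Groth.Flatmor4.DevA 𝒟 R') (i + 1) := fun i =>
    Algebra.TensorProduct.map (AlgHom.id R' R') (P i).fA'
  let ψ : S' →ₐ[R'] (Groth.Flatmor4.DevA 𝒟 R') 0 := (Algebra.TensorProduct.map (AlgHom.id R' R')
    (IsScalarTower.toAlgHom R S (𝒟.A 0))).comp (Algebra.IsPushout.equiv R R' S S').symm.toAlgHom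
  have hψ : ∀ s : S, ψ (algebraMap S S' s) = algebraMap (𝒟.A 0) ((Groth.Flatmor4.DevA 𝒟 R') 0) (algebraMap S (𝒟.A 0) s) := by
    intro s
    show Algebra.TensorProduct.map _ _ ((Algebra.IsPushout.equiv R R' S S').symm (algebraMap S S' s)) = _
    rw [Algebra.IsPushout.equiv_symm_algebraMap_right]
    rfl
  haveI := fun i => Groth.Flatmor4.isScalarTower_devA 𝒟 R' i
  let gA : ∀ i, 𝒟.M i →ₗ[𝒟.A i] (Groth.Flatmor4.DevM 𝒟 R') i := fun i => TensorProduct.mk (𝒟.A i) ((Groth.Flatmor4.DevA 𝒟 R') i) (𝒟.M i) 1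
  have hgA : ∀ i, IsBaseChange ((Groth.Flatmor4.DevA 𝒟 R') i) (gA i) := fun i =>
    TensorProduct.isBaseChange (𝒟.A i) (𝒟.M i) ((Groth.Flatmor4.DevA 𝒟 R') i)
  letI aBA : ∀ i, Algebra ((Groth.Flatmor4.DevB 𝒟 R') i) ((Groth.Flatmor4.DevA 𝒟 R') i) := fun i => (φ i).toRingHom.toAlgebra
  haveI tRBA : ∀ i, IsScalarTower R' ((Groth.Flatmor4.DevB 𝒟 R') i) ((Groth.Flatmor4.DevA 𝒟 R') i) := fun i =>
    .of_algebraMap_eq fun x => ((φ i).commutes x).symm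
  letI aBA' : ∀ i, Algebra ((Groth.Flatmor4.DevB 𝒟 R') i) ((Groth.Flatmor4.DevA 𝒟 R') (i + 1)) := fun i => (φ' i).toRingHom.toAlgebra
  haveI tRBA' : ∀ i, IsScalarTower R' ((Groth.Flatmor4.DevB 𝒟 R') i) ((Groth.Flatmor4.DevA 𝒟 R') (i + 1)) := fun i =>
    .of_algebraMap_eq fun x => ((φ' i).commutes x).symm
  haveI tBAM : ∀ i, IsScalarTower ((Groth.Flatmor4.DevB 𝒟 R') i) ((Groth.Flatmor4.DevA 𝒟 R') i) ((Groth.Flatmor4.DevM 𝒟 R') i) := fun i => inferInstance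
  haveI tB'AM : ∀ i, IsScalarTower ((Groth.Flatmor4.DevB 𝒟 R') i) ((Groth.Flatmor4.DevA 𝒟 R') (i + 1)) ((Groth.Flatmor4.DevM 𝒟 R') (i + 1)) := fun i => inferInstance
  haveI tRBM : ∀ i, IsScalarTower R' ((Groth.Flatmor4.DevB 𝒟 R') i) ((Groth.Flatmor4.DevM 𝒟 R') i) := fun i => inferInstance
  letI aSA : Algebra S' ((Groth.Flatmor4.DevA 𝒟 R') 0) := ψ.toRingHom.toAlgebra
  haveI tRSA : IsScalarTower R' S' ((Groth.Flatmor4.DevA 𝒟 R') 0) := .of_algebraMap_eq fun x => (ψ.commutes x).symm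
  letI sA : Algebra S ((Groth.Flatmor4.DevA 𝒟 R') 0) := ((algebraMap (𝒟.A 0) ((Groth.Flatmor4.DevA 𝒟 R') 0)).comp (algebraMap S (𝒟.A 0))).toAlgebra
  haveI : IsScalarTower S (𝒟.A 0) ((Groth.Flatmor4.DevA 𝒟 R') 0) := .of_algebraMap_eq' rfl
  haveI t8 : IsScalarTower S S' ((Groth.Flatmor4.DevA 𝒟 R') 0) := .of_algebraMap_eq fun s => (hψ s).symm
  haveI : IsScalarTower R S ((Groth.Flatmor4.DevA 𝒟 R') 0) := .of_algebraMap_eq fun x => by
    rw [IsScalarTower.algebraMap_apply S (𝒟.A 0) ((Groth.Flatmor4.DevA 𝒟 R') 0), ← IsScalarTower.algebraMap_apply R S (𝒟.A 0),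
      ← IsScalarTower.algebraMap_apply R (𝒟.A 0) ((Groth.Flatmor4.DevA 𝒟 R') 0)]
  haveI tSAM : IsScalarTower S' ((Groth.Flatmor4.DevA 𝒟 R') 0) ((Groth.Flatmor4.DevM 𝒟 R') 0) := inferInstance
  have hA : ∀ i, Algebra.IsPushout R R' (𝒟.A i) ((Groth.Flatmor4.DevA 𝒟 R') i) := fun i => Groth.Flatmor4.isPushout_devA 𝒟 R' i
  let eB : ∀ i : Fin 𝒟.n, (R' ⊗[R] 𝒟.B i) ≃ₐ[R'] (Groth.Flatmor4.DevB 𝒟 R') i := fun i =>
    Algebra.TensorProduct.congr AlgEquiv.refl ((P i).e i.2)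
  letI aB : ∀ i : Fin 𝒟.n, Algebra (𝒟.B i) ((Groth.Flatmor4.DevB 𝒟 R') i) := fun i =>
    ((eB i).toRingHom.comp Algebra.TensorProduct.includeRight.toRingHom).toAlgebra
  have haB : ∀ (i : Fin 𝒟.n) (x : 𝒟.B i),
      algebraMap (𝒟.B i) ((Groth.Flatmor4.DevB 𝒟 R') i) x = (1 : R') ⊗ₜ (P i).e i.2 x := fun i x => rfl
  haveI t4 : ∀ i : Fin 𝒟.n, IsScalarTower R (𝒟.B i) ((Groth.Flatmor4.DevB 𝒟 R') i) := fun i => .of_algebraMap_eq fun x => by
    rw [haB, AlgEquiv.commutes, Algebra.TensorProduct.algebraMap_apply,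
      Algebra.algebraMap_eq_smul_one, Algebra.algebraMap_eq_smul_one, TensorProduct.smul_tmul]
  have hB : ∀ i : Fin 𝒟.n, Algebra.IsPushout R R' (𝒟.B i) ((Groth.Flatmor4.DevB 𝒟 R') i) := fun i => by
    letI : Algebra (𝒟.B i) (R' ⊗[R] 𝒟.B i) := Algebra.TensorProduct.rightAlgebra
    exact Algebra.IsPushout.of_equiv (eB i) rfl
  letI bA : ∀ i : Fin 𝒟.n, Algebra (𝒟.B i) ((Groth.Flatmor4.DevA 𝒟 R') i) := fun i =>
    ((φ i).toRingHom.comp (algebraMap (𝒟.B i) ((Groth.Flatmor4.DevB 𝒟 R') i))).toAlgebra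
  haveI t6 : ∀ i : Fin 𝒟.n, IsScalarTower (𝒟.B i) ((Groth.Flatmor4.DevB 𝒟 R') i) ((Groth.Flatmor4.DevA 𝒟 R') i) := fun i => .of_algebraMap_eq' rfl
  haveI t5 : ∀ i : Fin 𝒟.n, IsScalarTower (𝒟.B i) (𝒟.A i) ((Groth.Flatmor4.DevA 𝒟 R') i) := fun i => .of_algebraMap_eq fun x => by
    show (φ i) ((1 : R') ⊗ₜ (P i).e i.2 x) = (1 : R') ⊗ₜ algebraMap (𝒟.B i) (𝒟.A i) x
    show (1 : R') ⊗ₜ[R] (P i).fA ((P i).e i.2 x) = _
    rw [(P i).comm i.2]
  letI bA' : ∀ i : Fin 𝒟.n, Algebra (𝒟.B i) ((Groth.Flatmor4.DevA 𝒟 R') (i + 1)) := fun i =>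
    ((φ' i).toRingHom.comp (algebraMap (𝒟.B i) ((Groth.Flatmor4.DevB 𝒟 R') i))).toAlgebra
  haveI t7 : ∀ i : Fin 𝒟.n, IsScalarTower (𝒟.B i) ((Groth.Flatmor4.DevB 𝒟 R') i) ((Groth.Flatmor4.DevA 𝒟 R') (i + 1)) := fun i => .of_algebraMap_eq' rfl
  haveI t7' : ∀ i : Fin 𝒟.n, IsScalarTower (𝒟.B i) (𝒟.A (i + 1)) ((Groth.Flatmor4.DevA 𝒟 R') (i + 1)) := fun i =>
    .of_algebraMap_eq fun x => by
      show (φ' i) ((1 : R') ⊗ₜ (P i).e i.2 x) = (1 : R') ⊗ₜ algebraMap (𝒟.B i) (𝒟.A (i + 1)) x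
      show (1 : R') ⊗ₜ[R] (P i).fA' ((P i).e i.2 x) = _
      rw [(P i).comm' i.2]
  haveI : ∀ i : Fin 𝒟.n, IsScalarTower (𝒟.B i) ((Groth.Flatmor4.DevA 𝒟 R') i) ((Groth.Flatmor4.DevM 𝒟 R') i) := fun i => inferInstance
  haveI : ∀ i : Fin 𝒟.n, IsScalarTower (𝒟.B i) ((Groth.Flatmor4.DevB 𝒟 R') i) ((Groth.Flatmor4.DevM 𝒟 R') i) := fun i => inferInstance
  haveI : ∀ i : Fin 𝒟.n, IsScalarTower (𝒟.B i) (𝒟.A i) ((Groth.Flatmor4.DevM 𝒟 R') i) := fun i => inferInstance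
  haveI : ∀ i : Fin 𝒟.n, IsScalarTower (𝒟.B i) ((Groth.Flatmor4.DevB 𝒟 R') i) ((Groth.Flatmor4.DevM 𝒟 R') (i + 1)) := fun i => inferInstance
  haveI : ∀ i : Fin 𝒟.n, IsScalarTower (𝒟.B i) (𝒟.A (i + 1)) ((Groth.Flatmor4.DevM 𝒟 R') (i + 1)) := fun i => inferInstance
  haveI : IsScalarTower S ((Groth.Flatmor4.DevA 𝒟 R') 0) ((Groth.Flatmor4.DevM 𝒟 R') 0) := inferInstance
  haveI : IsScalarTower S (𝒟.A 0) ((Groth.Flatmor4.DevM 𝒟 R') 0) := inferInstance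
  haveI : IsScalarTower S S' ((Groth.Flatmor4.DevM 𝒟 R') 0) := inferInstance
  haveI hSA : Algebra.IsPushout S S' (𝒟.A 0) ((Groth.Flatmor4.DevA 𝒟 R') 0) := by
    haveI := hA 0
    exact Groth.Flatmor4.isPushout_cancel (R := R) (R' := R')
  haveI hBA : ∀ i : Fin 𝒟.n, Algebra.IsPushout (𝒟.B i) ((Groth.Flatmor4.DevB 𝒟 R') i) (𝒟.A i) ((Groth.Flatmor4.DevA 𝒟 R') i) := fun i => by
    haveI := hA i; haveI := hB i
    exact Groth.Flatmor4.isPushout_cancel (R := R) (R' := R')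
  haveI hBA' : ∀ i : Fin 𝒟.n, Algebra.IsPushout (𝒟.B i) ((Groth.Flatmor4.DevB 𝒟 R') i) (𝒟.A (i + 1)) ((Groth.Flatmor4.DevA 𝒟 R') (i + 1)) := fun i => by
    haveI := hA (i + 1); haveI := hB i
    exact Groth.Flatmor4.isPushout_cancel (R := R) (R' := R')
  have hgS : IsBaseChange S' ((gA 0).restrictScalars S) :=
    Groth.Flatmor4.isBaseChange_restrict_of_isPushout (hgA 0)
  have hgB : ∀ i : Fin 𝒟.n, IsBaseChange ((Groth.Flatmor4.DevB 𝒟 R') i) ((gA i).restrictScalars (𝒟.B i)) := fun i =>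
    Groth.Flatmor4.isBaseChange_restrict_of_isPushout (hgA i)
  have hgB' : ∀ i : Fin 𝒟.n, IsBaseChange ((Groth.Flatmor4.DevB 𝒟 R') i) ((gA (i + 1)).restrictScalars (𝒟.B i)) := fun i =>
    Groth.Flatmor4.isBaseChange_restrict_of_isPushout (hgA (i + 1))
  let α' : ∀ i, (Fin (𝒟.r i) → (Groth.Flatmor4.DevB 𝒟 R') i) →ₗ[(Groth.Flatmor4.DevB 𝒟 R') i] (Groth.Flatmor4.DevM 𝒟 R') i := fun i =>
    Fintype.linearCombination ((Groth.Flatmor4.DevB 𝒟 R') i) fun j => gA i (𝒟.α i (Pi.single j 1))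
  have hrange : ∀ i : Fin 𝒟.n, LinearMap.range (α' i) =
      Submodule.span ((Groth.Flatmor4.DevB 𝒟 R') i) ((gA i) '' (LinearMap.range (𝒟.α i) : Set (𝒟.M i))) := fun i =>
    Groth.Flatmor4.range_linearCombination_eq_span ((gA i).restrictScalars (𝒟.B i)) (𝒟.α i)
  haveI hp' : ∀ i, (p'.map (algebraMap R' ((Groth.Flatmor4.DevB 𝒟 R') i))).IsPrime := fun i => (P i).prime R' p'
  have hfib : ∀ i, i < 𝒟.n →
      Function.Bijective ((α' i).baseChange (p'.map (algebraMap R' ((Groth.Flatmor4.DevB 𝒟 R') i))).ResidueField) := by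
    intro i hi
    let j : Fin 𝒟.n := ⟨i, hi⟩
    haveI := hB j
    haveI := 𝒟.smooth i hi
    let P₀ : Ideal (𝒟.B j) := p.map (algebraMap R (𝒟.B j))
    let P₁ : Ideal ((Groth.Flatmor4.DevB 𝒟 R') j) := p'.map (algebraMap R' ((Groth.Flatmor4.DevB 𝒟 R') j))
    haveI : P₀.IsPrime := 𝒟.hp i
    haveI : P₁.IsPrime := hp' i
    have hover : P₀ = P₁.under (𝒟.B j) := by
      letI := fun (T : Type u) [CommRing T] [Algebra R T] (q : Ideal R) [q.IsPrime] =>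
        (Algebra.TensorProduct.rightAlgebra : Algebra T (q.Fiber T))
      exact Groth.Flatmor4.map_eq_under_map_baseChange p p'
    letI : Algebra P₀.ResidueField P₁.ResidueField :=
      (Ideal.ResidueField.mapₐ P₀ P₁ (Algebra.ofId (𝒟.B j) ((Groth.Flatmor4.DevB 𝒟 R') j)) hover).toRingHom.toAlgebra
    haveI : IsScalarTower (𝒟.B j) P₀.ResidueField P₁.ResidueField := .of_algebraMap_eq fun x =>
      ((Ideal.ResidueField.mapₐ P₀ P₁ (Algebra.ofId (𝒟.B j) ((Groth.Flatmor4.DevB 𝒟 R') j)) hover).commutes x).symm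
    refine Groth.Flatmor4.bijective_baseChange_of_bijective (K := P₀.ResidueField) (L := P₁.ResidueField)
      (Groth.Flatmor4.isBaseChange_pi (𝒟.B j) ((Groth.Flatmor4.DevB 𝒟 R') j) (𝒟.r j)) (hgB j) (𝒟.α j) (α' j) (fun x => ?_)
      (𝒟.fibreIso i hi)
    rw [pi_eq_sum_univ' x, map_sum, map_sum, map_sum, map_sum]
    refine Finset.sum_congr rfl fun k _ => ?_
    rw [map_smul, LinearMap.map_smul_of_tower, map_smul, map_smul]
    congr 1
    rw [show ((Algebra.linearMap (𝒟.B j) ((Groth.Flatmor4.DevB 𝒟 R') j)).compLeft (Fin (𝒟.r j))) (Pi.single k 1) =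
      Pi.single k 1 from funext fun l => by
        rcases eq_or_ne l k with h | h <;> simp [h]]
    simp [α', Fintype.linearCombination_apply_single, j]
  have hlast : Function.Surjective (α' (𝒟.n - 1)) := by
    let j : Fin 𝒟.n := ⟨𝒟.n - 1, Nat.sub_lt 𝒟.pos one_pos⟩
    rw [← LinearMap.range_eq_top]
    show LinearMap.range (α' j) = ⊤
    rw [hrange j, LinearMap.range_eq_top.2 (show Function.Surjective (𝒟.α j) from 𝒟.cokerLast),
      Submodule.top_coe, Set.image_univ, eq_top_iff]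
    rintro z -
    obtain ⟨w, rfl⟩ := (hgB j).equiv.surjective z
    induction w with
    | zero => simp
    | tmul b x =>
      rw [IsBaseChange.equiv_tmul]
      exact Submodule.smul_mem _ _ (Submodule.subset_span ⟨x, rfl⟩)
    | add u v hu hv => rw [map_add]; exact add_mem hu hv
  let isoC : ∀ i, i + 1 < 𝒟.n → ((Groth.Flatmor4.DevM 𝒟 R') i ⧸ LinearMap.range (α' i)) ≃ₗ[(Groth.Flatmor4.DevB 𝒟 R') i] (Groth.Flatmor4.DevM 𝒟 R') (i + 1) := fun i h =>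
    Groth.Flatmor4.cokerEquiv (hgB ⟨i, Nat.lt_of_succ_lt h⟩) (hgB' ⟨i, Nat.lt_of_succ_lt h⟩) _ (𝒟.isoCoker i h) _
      (hrange ⟨i, Nat.lt_of_succ_lt h⟩)
  let isoN : N' ≃ₗ[S'] (Groth.Flatmor4.DevM 𝒟 R') 0 := hf.equiv.symm ≪≫ₗ 𝒟.isoN.baseChange S S' ≪≫ₗ hgS.equiv
  let 𝒟' : FlatCA.CompleteDevissage R' S' N' p' :=
    { n := 𝒟.n
      pos := 𝒟.pos
      A := (Groth.Flatmor4.DevA 𝒟 R')
      B := (Groth.Flatmor4.DevB 𝒟 R')
      M := (Groth.Flatmor4.DevM 𝒟 R')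
      r := 𝒟.r
      hp := hp'
      α := α'
      surjSA := Groth.Flatmor4.surjective_of_isPushout (A := S) (B := 𝒟.A 0) 𝒟.surjSA
      fpSA := by
        haveI := 𝒟.fpSA
        exact Groth.Flatmor4.finitePresentation_of_isPushout (A := S) (B := 𝒟.A 0)
      surjBA' := fun i h =>
        haveI := hBA' ⟨i, Nat.lt_of_succ_lt h⟩
        Groth.Flatmor4.surjective_of_isPushout (A := 𝒟.B (⟨i, Nat.lt_of_succ_lt h⟩ : Fin 𝒟.n))
          (A' := (Groth.Flatmor4.DevB 𝒟 R') (⟨i, Nat.lt_of_succ_lt h⟩ : Fin 𝒟.n)) (B := 𝒟.A (i + 1)) (B' := (Groth.Flatmor4.DevA 𝒟 R') (i + 1)) (𝒟.surjBA' i h)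
      fpBA' := fun i h => by
        haveI := 𝒟.fpBA' i h
        haveI := hBA' ⟨i, Nat.lt_of_succ_lt h⟩
        exact Groth.Flatmor4.finitePresentation_of_isPushout (A := 𝒟.B (⟨i, Nat.lt_of_succ_lt h⟩ : Fin 𝒟.n))
          (A' := (Groth.Flatmor4.DevB 𝒟 R') (⟨i, Nat.lt_of_succ_lt h⟩ : Fin 𝒟.n)) (B := 𝒟.A (i + 1)) (B' := (Groth.Flatmor4.DevA 𝒟 R') (i + 1))
      finiteBA := fun i h => by
        haveI := 𝒟.finiteBA i h
        haveI := hBA ⟨i, h⟩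
        exact Groth.Flatmor4.finite_of_isPushout (A := 𝒟.B (⟨i, h⟩ : Fin 𝒟.n))
          (A' := (Groth.Flatmor4.DevB 𝒟 R') (⟨i, h⟩ : Fin 𝒟.n)) (B := 𝒟.A i) (B' := (Groth.Flatmor4.DevA 𝒟 R') i)
      smooth := fun i h => by
        haveI := 𝒟.smooth i h
        haveI := hB ⟨i, h⟩
        exact Algebra.Smooth.of_equiv (eB ⟨i, h⟩)
      geomIrred := fun i h =>
        haveI := hB ⟨i, h⟩
        Groth.Flatmor4.geomIrredFibres_baseChange R R' (𝒟.B (⟨i, h⟩ : Fin 𝒟.n))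
          ((Groth.Flatmor4.DevB 𝒟 R') (⟨i, h⟩ : Fin 𝒟.n)) (𝒟.geomIrred i h)
      finiteM := fun i h => by
        haveI := 𝒟.finiteM i h
        exact Module.Finite.equiv (hgA i).equiv
      isoN := isoN
      isoCoker := isoC
      fibreIso := hfib
      cokerLast := hlast }
  refine ⟨𝒟', fun i => Groth.Flatmor4.devAlgA 𝒟 R' i, fun i => inferInstanceAs (Algebra R ((Groth.Flatmor4.DevA 𝒟 R') i)),
    fun i => inferInstanceAs (IsScalarTower R R' ((Groth.Flatmor4.DevA 𝒟 R') i)),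
    fun i => inferInstanceAs (IsScalarTower R (𝒟.A i) ((Groth.Flatmor4.DevA 𝒟 R') i)),
    aB, fun i => inferInstanceAs (Algebra R ((Groth.Flatmor4.DevB 𝒟 R') i)), fun i => inferInstanceAs (IsScalarTower R R' ((Groth.Flatmor4.DevB 𝒟 R') i)),
    t4, bA, t5, t6, bA', t7, sA, t8, fun i => inferInstanceAs (Module (𝒟.A i) ((Groth.Flatmor4.DevM 𝒟 R') i)), fun i => inferInstanceAs (IsScalarTower (𝒟.A i) ((Groth.Flatmor4.DevA 𝒟 R') i) ((Groth.Flatmor4.DevM 𝒟 R') i)), fun i => gA i,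
    rfl, rfl, inferInstanceAs (IsScalarTower S (𝒟.A 0) ((Groth.Flatmor4.DevA 𝒟 R') 0)), fun x => ?_, fun i h => t7' i,
    fun i => ⟨hA i, hB i, hgA i, hrange i⟩⟩
  show isoN (f x) = gA 0 (𝒟.isoN x)
  simp [isoN, IsBaseChange.equiv_symm_apply, IsBaseChange.equiv_tmul]

end Groth.Agent.S12243
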