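import Groth.Statements.S12245
import Groth.Agent.RaynaudGruson.EtalePushout
import Groth.Agent.AlgStBasic.SmoothDescent


set_option autoImplicit false
universe u
open FlatMor Groth.RaynaudGruson.EtalePushout

namespace Groth.Agent.S12245

open TensorProduct AlgebraicGeometry in
/-- All schemes are affine. Let R → S be of finite type, N a finite S-module, p ⊆ R and q ⊆ S primes
with q over p, and (C, D, G, n; z, y) a one-step dévissage of N/S/R at q (one-step dévissage over p;
z a prime of C over q and over the prime y of D, unique over y; κ(y)/κ(p) purely transcendental;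
local dimension of the fibre support at q equal to n). Let (R, p) → (R', p') and (D, y) → (D', y')
be elementary étale ring maps at those primes (étale, prime over prime, trivial residue field
extension) with D' an R'-algebra compatibly with D and R, and y' over p'. Then there are: an
elementary étale ring map (R', p') → (R'', p''); an R''-algebra D'' which is an affine open of the
base change of D' to R'' (an open immersion on spectra out of a pushout T of D' along R' → R''),
compatibly with D' and R'', with a prime y'' over y' and over p''; the base change C'' of C along D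
→ D'' with a prime z'' over z and y'' and the base change G'' of G to C''; an elementary étale ring
map (S, q) → (S'', q'') with S'' an R''-algebra compatibly with R → S and a surjection S'' → C''
compatible with S → C and with D'' → C'' over R'', z'' lying over q''; and the base change N'' of N
to S'' — such that (C'', D'', G'', n; z'', y'') is a one-step dévissage of N''/S''/R'' at q''
(including the four pointed conditions). -/
theorem result
    (R S : Type u) [CommRing R] [CommRing S] [Algebra R S] [Algebra.FiniteType R S]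
    (N : Type u) [AddCommGroup N] [Module S N] [Module R N] [IsScalarTower R S N] [Module.Finite S N]
    (p : Ideal R) [p.IsPrime] (q : Ideal S) [q.IsPrime] [q.LiesOver p]
    (C D G : Type u) [CommRing C] [CommRing D] [Algebra S C] [Algebra R C] [IsScalarTower R S C]
    [Algebra R D] [Algebra D C] [IsScalarTower R D C] [AddCommGroup G] [Module C G] [Module S G]
    [IsScalarTower S C G] (n : ℕ)
    (h : FlatCA.IsOneStepDevissage R S N p C D G n)
    (z : Ideal C) [z.IsPrime] (y : Ideal D) [y.IsPrime] [z.LiesOver q] [z.LiesOver y] [y.LiesOver p]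
    (h1 : ∃ (ξ : PrimeSpectrum (p.Fiber S)) (hξ : ξ ∈ Module.support (p.Fiber S) (FlatCA.fiberMod p S N)),
      ξ.asIdeal = FlatCA.fiberIdeal p q ∧
      FlatMor.localDim (Module.support (p.Fiber S) (FlatCA.fiberMod p S N)) ⟨ξ, hξ⟩ = n)
    (h3 : ∀ (z₁ : Ideal C) [z₁.IsPrime], z₁.LiesOver y → z₁ = z)
    (h4 : FlatCA.PurelyTranscendental p y)
    (R' : Type u) [CommRing R'] [Algebra R R'] (p' : Ideal R') [p'.IsPrime] (hR' : FlatCA.IsEtaleNhd R R' p p')
    (D' : Type u) [CommRing D'] [Algebra D D'] [Algebra R' D'] [Algebra R D'] [IsScalarTower R R' D']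
    [IsScalarTower R D D'] (y' : Ideal D') [y'.IsPrime] (hD' : FlatCA.IsEtaleNhd D D' y y') [y'.LiesOver p'] :
    ∃ (R'' : Type u) (_ : CommRing R'') (_ : Algebra R' R'') (_ : Algebra R R'') (_ : IsScalarTower R R' R'')
      (p'' : Ideal R'') (_ : p''.IsPrime),
      FlatCA.IsEtaleNhd R' R'' p' p'' ∧
    ∃ (T : Type u) (_ : CommRing T) (_ : Algebra R' T) (_ : Algebra R'' T) (_ : Algebra D' T)
      (_ : IsScalarTower R' R'' T) (_ : IsScalarTower R' D' T),
      Algebra.IsPushout R' R'' D' T ∧
    ∃ (D'' : Type u) (_ : CommRing D'') (_ : Algebra T D'') (_ : Algebra D' D'') (_ : Algebra R'' D'')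
      (_ : Algebra D D'') (_ : Algebra R D'') (_ : IsScalarTower D' T D'') (_ : IsScalarTower R'' T D'')
      (_ : IsScalarTower D D' D'') (_ : IsScalarTower R R'' D'') (_ : IsScalarTower R D D'')
      (y'' : Ideal D'') (_ : y''.IsPrime) (_ : y''.LiesOver y') (_ : y''.LiesOver p''),
      IsOpenImmersion (Spec.map (CommRingCat.ofHom (algebraMap T D''))) ∧
    ∃ (C'' : Type u) (_ : CommRing C'') (_ : Algebra C C'') (_ : Algebra D'' C'') (_ : Algebra D C'')
      (_ : Algebra R'' C'') (_ : IsScalarTower D D'' C'') (_ : IsScalarTower D C C'') (_ : IsScalarTower R'' D'' C'')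
      (z'' : Ideal C'') (_ : z''.IsPrime) (_ : z''.LiesOver z) (_ : z''.LiesOver y''),
      Algebra.IsPushout D D'' C C'' ∧
    ∃ (G'' : Type u) (_ : AddCommGroup G'') (_ : Module C'' G'') (_ : Module C G'') (_ : IsScalarTower C C'' G'')
      (gG : G →ₗ[C] G''), IsBaseChange C'' gG ∧
    ∃ (S'' : Type u) (_ : CommRing S'') (_ : Algebra S S'') (_ : Algebra R'' S'') (_ : Algebra R S'')
      (_ : IsScalarTower R S S'') (_ : IsScalarTower R R'' S'') (q'' : Ideal S'') (_ : q''.IsPrime)
      (_ : Algebra S'' C'') (_ : Algebra S C'') (_ : IsScalarTower S S'' C'') (_ : IsScalarTower S C C'')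
      (_ : IsScalarTower R'' S'' C'') (_ : Module S'' G'') (_ : IsScalarTower S'' C'' G''),
      FlatCA.IsEtaleNhd S S'' q q'' ∧ z''.LiesOver q'' ∧
    ∃ (N'' : Type u) (_ : AddCommGroup N'') (_ : Module S'' N'') (_ : Module S N'') (_ : IsScalarTower S S'' N'')
      (_ : Module R'' N'') (_ : IsScalarTower R'' S'' N'') (gN : N →ₗ[S] N''), IsBaseChange S'' gN ∧
      FlatCA.IsOneStepDevissage R'' S'' N'' p'' C'' D'' G'' n ∧
      (∃ (ξ : PrimeSpectrum (p''.Fiber S'')) (hξ : ξ ∈ Module.support (p''.Fiber S'') (FlatCA.fiberMod p'' S'' N'')),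
        ξ.asIdeal = FlatCA.fiberIdeal p'' q'' ∧
        FlatMor.localDim (Module.support (p''.Fiber S'') (FlatCA.fiberMod p'' S'' N'')) ⟨ξ, hξ⟩ = n) ∧
      (∀ (z₂ : Ideal C'') [z₂.IsPrime], z₂.LiesOver y'' → z₂ = z'') ∧
      FlatCA.PurelyTranscendental p'' y'' := by

  classical
  obtain ⟨⟨e⟩, hsurjC, hfp, hDC, hCG, hsm, hgi, hdim⟩ := h
  haveI := hfp
  haveI := hDC
  haveI := hCG
  obtain ⟨hR'et, hp'o, hκ'⟩ := hR'
  haveI := hR'et
  haveI := hp'o
  obtain ⟨hD'et, hy'o, hb'⟩ := hD'
  haveI := hD'et
  haveI := hy'o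
  have hsm' : FlatCA.SmoothRelDim n R' D' := smoothRelDim_cancel (R := R) (R' := R') (D := D')
    (Groth.RaynaudGruson.ElemDev.smoothRelDim_etale_comp (R := R) (P := D) (D := D') hsm)
  have h4' : FlatCA.PurelyTranscendental p' y' :=
    Groth.Flatmor4.purelyTranscendental_of_bijective (R := R) (R' := R') (S := D) (S' := D') p p' y y' hκ' hb' h4
  obtain ⟨R'', _, _, p'', _, hR'', D'', _, _, _, _, _, _, hopen, y'', _, _, _, hD'', hGI, hsm''⟩ :=
    Groth.RaynaudGruson.GeomIntegralNbhd.exists_nbhd_geomIntegralFibres n hsm' p' y'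
      (Groth.RaynaudGruson.ElemDev.sepClosedAlong_of_purelyTranscendental p' y' h4')
  letI : Algebra D' (R'' ⊗[R'] D') := Algebra.TensorProduct.rightAlgebra
  let L : R'' ⊗[R'] D' →ₐ[R''] D'' := Algebra.TensorProduct.lift (Algebra.ofId R'' D'')
    (IsScalarTower.toAlgHom R' D' D'') fun _ _ => .all _ _
  letI : Algebra (R'' ⊗[R'] D') D'' := L.toRingHom.toAlgebra
  haveI : IsScalarTower R'' (R'' ⊗[R'] D') D'' := .of_algebraMap_eq fun r => (L.commutes r).symm
  haveI : IsScalarTower D' (R'' ⊗[R'] D') D'' := .of_algebraMap_eq fun d => by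
    show _ = L ((1 : R'') ⊗ₜ[R'] d)
    simp [L]
  letI : Algebra R R'' := ((algebraMap R' R'').comp (algebraMap R R')).toAlgebra
  haveI : IsScalarTower R R' R'' := .of_algebraMap_eq' rfl
  letI : Algebra D D'' := ((algebraMap D' D'').comp (algebraMap D D')).toAlgebra
  haveI : IsScalarTower D D' D'' := .of_algebraMap_eq' rfl
  letI : Algebra R D'' := ((algebraMap D D'').comp (algebraMap R D)).toAlgebra
  haveI : IsScalarTower R D D'' := .of_algebraMap_eq' rfl
  haveI : IsScalarTower R R'' D'' := .of_algebraMap_eq fun x => by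
    rw [IsScalarTower.algebraMap_apply R D D'', IsScalarTower.algebraMap_apply D D' D'',
      ← IsScalarTower.algebraMap_apply R D D', IsScalarTower.algebraMap_apply R R' D',
      ← IsScalarTower.algebraMap_apply R' D' D'', IsScalarTower.algebraMap_apply R' R'' D'',
      ← IsScalarTower.algebraMap_apply R R' R'']
  have hR0 : FlatCA.IsEtaleNhd R R'' p p'' := isEtaleNhd_trans ⟨hR'et, hp'o, hκ'⟩ hR''
  have hD0 : FlatCA.IsEtaleNhd D D'' y y'' := isEtaleNhd_trans ⟨hD'et, hy'o, hb'⟩ hD''
  obtain ⟨hR0et, hp''o, hκ⟩ := hR0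
  obtain ⟨hD0et, hy''o, hb⟩ := hD0
  haveI := hR0et
  haveI := hp''o
  haveI := hD0et
  haveI := hy''o
  have hPT : FlatCA.PurelyTranscendental p'' y'' :=
    Groth.Flatmor4.purelyTranscendental_of_bijective (R := R) (R' := R'') (S := D) (S' := D'') p p'' y y'' hκ hb h4
  obtain ⟨C'', _, _, _, _, _, _, hPC⟩ := exists_pushout D C D''
  haveI := hPC
  haveI : Algebra.Etale C C'' := etale_of_isPushout' (A := D) (A' := D'') (B := C) (B' := C'')
  obtain ⟨z'', _, _, _⟩ := Groth.Flatmor4.exists_liesOver_of_bijective (R := D) (R' := D'') (S := C) (S' := C'')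
    y y'' hb z
  have huniq : ∀ (z₂ : Ideal C'') [z₂.IsPrime], z₂.LiesOver y'' → z₂ = z'' := by
    intro z₂ _ hz₂
    have hy₂ : (z₂.comap (algebraMap C C'')).LiesOver y := ⟨by
      show y = (z₂.comap _).comap _
      rw [Ideal.comap_comap, ← IsScalarTower.algebraMap_eq, IsScalarTower.algebraMap_eq D D'' C'',
        ← Ideal.comap_comap]
      exact hy''o.over.trans (congrArg (Ideal.comap _) hz₂.over)⟩
    haveI : z₂.LiesOver z := ⟨(h3 _ hy₂).symm⟩
    exact Groth.Flatmor4.eq_of_liesOver_of_bijective (R := D) (R' := D'') (S := C) (S' := C'') y y'' hb z z₂ z''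
  letI : Algebra R'' C'' := ((algebraMap D'' C'').comp (algebraMap R'' D'')).toAlgebra
  haveI : IsScalarTower R'' D'' C'' := .of_algebraMap_eq' rfl
  letI : Algebra R C'' := ((algebraMap C C'').comp (algebraMap R C)).toAlgebra
  haveI : IsScalarTower R C C'' := .of_algebraMap_eq' rfl
  haveI : IsScalarTower R R'' C'' := .of_algebraMap_eq fun x => by
    rw [IsScalarTower.algebraMap_apply R C C'', IsScalarTower.algebraMap_apply R D C,
      ← IsScalarTower.algebraMap_apply D C C'', IsScalarTower.algebraMap_apply D D'' C'',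
      ← IsScalarTower.algebraMap_apply R D D'', IsScalarTower.algebraMap_apply R R'' D'',
      ← IsScalarTower.algebraMap_apply R'' D'' C'']
  letI : Algebra S C'' := ((algebraMap C C'').comp (algebraMap S C)).toAlgebra
  haveI : IsScalarTower S C C'' := .of_algebraMap_eq' rfl
  haveI : IsScalarTower R S C'' := .of_algebraMap_eq fun x => by
    rw [IsScalarTower.algebraMap_apply S C C'', ← IsScalarTower.algebraMap_apply R S C,
      ← IsScalarTower.algebraMap_apply R C C'']
  obtain ⟨S₀, _, _, _, _, _, _, hPS⟩ := exists_pushout R S R''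
  haveI := hPS
  haveI : Algebra.Etale S S₀ := etale_of_isPushout' (A := R) (A' := R'') (B := S) (B' := S₀)
  let e₀ : R'' ⊗[R] S ≃ₐ[R''] S₀ := Algebra.IsPushout.equiv R R'' S S₀
  let φ : S₀ →ₐ[R''] C'' := (Algebra.TensorProduct.lift (Algebra.ofId R'' C'') (IsScalarTower.toAlgHom R S C'')
    fun _ _ => .all _ _).comp e₀.symm.toAlgHom
  letI : Algebra S₀ C'' := φ.toRingHom.toAlgebra
  haveI : IsScalarTower R'' S₀ C'' := .of_algebraMap_eq fun r => (φ.commutes r).symm
  haveI : IsScalarTower S S₀ C'' := .of_algebraMap_eq fun s => by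
    have h1 : e₀ (1 ⊗ₜ[R] s) = algebraMap S S₀ s := by simp [e₀, Algebra.IsPushout.equiv_tmul]
    show _ = φ (algebraMap S S₀ s)
    rw [← h1]
    simp [φ]
  obtain ⟨C₀, _, _, _, _, _, _, hPC₀⟩ := exists_pushout S C S₀
  haveI := hPC₀
  haveI : Algebra.Etale C C₀ := etale_of_isPushout' (A := S) (A' := S₀) (B := C) (B' := C₀)
  let e₁ : S₀ ⊗[S] C ≃ₐ[S₀] C₀ := Algebra.IsPushout.equiv S S₀ C C₀
  let ψ : C₀ →ₐ[S₀] C'' := (Algebra.TensorProduct.lift (Algebra.ofId S₀ C'') (IsScalarTower.toAlgHom S C C'')
    fun _ _ => .all _ _).comp e₁.symm.toAlgHom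
  letI : Algebra C₀ C'' := ψ.toRingHom.toAlgebra
  haveI : IsScalarTower S₀ C₀ C'' := .of_algebraMap_eq fun r => (ψ.commutes r).symm
  haveI : IsScalarTower C C₀ C'' := .of_algebraMap_eq fun c => by
    have h1 : e₁ (1 ⊗ₜ[S] c) = algebraMap C C₀ c := by simp [e₁, Algebra.IsPushout.equiv_tmul]
    show _ = ψ (algebraMap C C₀ c)
    rw [← h1]
    simp [ψ]
  haveI : IsScalarTower S C₀ C'' := .of_algebraMap_eq fun x => by
    rw [IsScalarTower.algebraMap_apply S C C₀, ← IsScalarTower.algebraMap_apply C C₀ C'', ← IsScalarTower.algebraMap_apply S C C'']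
  haveI : Algebra.Etale C₀ C'' := Algebra.Etale.of_restrictScalars C C₀ C''
  have hC₀ : Function.Surjective (algebraMap S₀ C₀) :=
    Groth.Flatmor4.surjective_of_isPushout (A := S) (A' := S₀) (B := C) (B' := C₀) hsurjC
  obtain ⟨S'', _, _, π, hS''et, hπ, hker⟩ :=
    Groth.AlgStBasic.SmoothDescent.exists_etale_lift (P := S₀) (B := C₀) (C := C'') hC₀
  haveI := hS''et
  letI : Algebra S'' C'' := π.toRingHom.toAlgebra
  haveI : IsScalarTower S₀ S'' C'' := .of_algebraMap_eq fun r => (π.commutes r).symm
  letI : Algebra R'' S'' := ((algebraMap S₀ S'').comp (algebraMap R'' S₀)).toAlgebra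
  haveI : IsScalarTower R'' S₀ S'' := .of_algebraMap_eq' rfl
  letI : Algebra S S'' := ((algebraMap S₀ S'').comp (algebraMap S S₀)).toAlgebra
  haveI : IsScalarTower S S₀ S'' := .of_algebraMap_eq' rfl
  letI : Algebra R S'' := ((algebraMap S₀ S'').comp (algebraMap R S₀)).toAlgebra
  haveI : IsScalarTower R S₀ S'' := .of_algebraMap_eq' rfl
  haveI : IsScalarTower R S S'' := .of_algebraMap_eq fun x => by
    rw [IsScalarTower.algebraMap_apply S S₀ S'', ← IsScalarTower.algebraMap_apply R S S₀,
      ← IsScalarTower.algebraMap_apply R S₀ S'']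
  haveI : IsScalarTower R R'' S'' := .of_algebraMap_eq fun x => by
    rw [IsScalarTower.algebraMap_apply R'' S₀ S'', ← IsScalarTower.algebraMap_apply R R'' S₀,
      ← IsScalarTower.algebraMap_apply R S₀ S'']
  haveI : IsScalarTower R'' S'' C'' := .of_algebraMap_eq fun x => by
    rw [IsScalarTower.algebraMap_apply R'' S₀ S'', ← IsScalarTower.algebraMap_apply S₀ S'' C'',
      ← IsScalarTower.algebraMap_apply R'' S₀ C'']
  haveI : IsScalarTower S S'' C'' := .of_algebraMap_eq fun x => by
    rw [IsScalarTower.algebraMap_apply S S₀ S'', ← IsScalarTower.algebraMap_apply S₀ S'' C'',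
      ← IsScalarTower.algebraMap_apply S S₀ C'']
  haveI : Algebra.IsPushout S₀ S'' C₀ C'' :=
    isPushout_of_surjective_ker (A := S₀) (A' := S'') (B := C₀) (B' := C'') hC₀ hπ hker.le
  haveI hPSC : Algebra.IsPushout S S'' C C'' :=
    (Algebra.IsPushout.comp_iff S S₀ C (T' := C'') (S' := C₀)).2 inferInstance
  haveI : Algebra.Etale S S'' := Algebra.Etale.comp S S₀ S''
  let q'' : Ideal S'' := z''.comap (algebraMap S'' C'')
  haveI hzq'' : z''.LiesOver q'' := ⟨rfl⟩
  haveI hq''q : q''.LiesOver q := ⟨by
    show q = (z''.comap _).comap _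
    rw [Ideal.comap_comap, ← IsScalarTower.algebraMap_eq, IsScalarTower.algebraMap_eq S C C'', ← Ideal.comap_comap]
    exact (Ideal.LiesOver.over (P := z) (p := q)).trans
      (congrArg (Ideal.comap _) (Ideal.LiesOver.over (P := z'') (p := z)))⟩
  haveI hq''p : q''.LiesOver p'' := ⟨by
    show p'' = (z''.comap _).comap _
    rw [Ideal.comap_comap, ← IsScalarTower.algebraMap_eq, IsScalarTower.algebraMap_eq R'' D'' C'', ← Ideal.comap_comap]
    exact (Ideal.LiesOver.over (P := y'') (p := p'')).trans
      (congrArg (Ideal.comap _) (Ideal.LiesOver.over (P := z'') (p := y'')))⟩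
  haveI : z''.LiesOver q := Ideal.LiesOver.trans z'' z q
  have hqq : Function.Bijective (Ideal.ResidueField.mapₐ q q'' (Algebra.ofId S S'') hq''q.over) :=
    bijective_mapₐ_left q q'' z'' (bijective_mapₐ_of_surjective q'' z'' hπ)
      (bijective_mapₐ_trans q z z'' (bijective_mapₐ_of_surjective q z hsurjC)
        (bijective_residue_of_isPushout (R := D) (R' := D'') (S := C) (S' := C'') y y'' hb z z''))
  obtain ⟨G'', _, _, _, _, g, hg⟩ := exists_baseChange C C'' G
  letI : Module S'' G'' := Module.compHom G'' (algebraMap S'' C'')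
  haveI : IsScalarTower S'' C'' G'' := .of_algebraMap_smul fun _ _ => rfl
  letI : Module S G'' := Module.compHom G'' (algebraMap S C'')
  haveI : IsScalarTower S C'' G'' := .of_algebraMap_smul fun _ _ => rfl
  haveI : IsScalarTower S C G'' := .of_algebraMap_smul fun r x => by
    rw [← algebraMap_smul C'' (algebraMap S C r) x, ← IsScalarTower.algebraMap_apply S C C'', algebraMap_smul]
  haveI : IsScalarTower S S'' G'' := .of_algebraMap_smul fun r x => by
    rw [← algebraMap_smul C'' (algebraMap S S'' r) x, ← IsScalarTower.algebraMap_apply S S'' C'', algebraMap_smul]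
  letI : Module R'' G'' := Module.compHom G'' (algebraMap R'' S'')
  haveI : IsScalarTower R'' S'' G'' := .of_algebraMap_smul fun _ _ => rfl
  haveI : Module.Finite C'' G'' := Module.Finite.equiv hg.equiv
  have hgS : IsBaseChange S'' (g.restrictScalars S) :=
    Groth.Flatmor4.isBaseChange_restrict_of_isPushout (A := S) (A' := S'') (B := C) (B' := C'') hg
  let gN : N →ₗ[S] G'' := g.restrictScalars S ∘ₗ e.toLinearMap
  have hgN : IsBaseChange S'' gN := by
    refine IsBaseChange.of_equiv (LinearEquiv.baseChange S S'' N G e ≪≫ₗ hgS.equiv) fun x => ?_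
    simp [gN, IsBaseChange.equiv_tmul]
  -- the dimension of the fibre support
  obtain ⟨N₀, _, _, _, _, f₀, hf₀⟩ := exists_baseChange S S₀ N
  letI : Module R'' N₀ := Module.compHom N₀ (algebraMap R'' S₀)
  haveI : IsScalarTower R'' S₀ N₀ := .of_algebraMap_smul fun _ _ => rfl
  haveI : Module.Finite S₀ N₀ := Module.Finite.equiv hf₀.equiv
  let q₀ : Ideal S₀ := q''.comap (algebraMap S₀ S'')
  haveI : q''.LiesOver q₀ := ⟨rfl⟩
  haveI : q₀.LiesOver q := ⟨by
    show q = (q''.comap _).comap _
    rw [Ideal.comap_comap, ← IsScalarTower.algebraMap_eq]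
    exact hq''q.over⟩
  haveI : q₀.LiesOver p'' := ⟨by
    show p'' = (q''.comap _).comap _
    rw [Ideal.comap_comap, ← IsScalarTower.algebraMap_eq]
    exact hq''p.over⟩
  have hpt₀ := Groth.Flatmor4.exists_point_localDim_baseChange (R := R) (R' := R'') (S := S) (S' := S₀)
    p p'' hκ hf₀ q q₀ h1
  have hdim₀ := Groth.Flatmor4.supportDim_fiberMod_baseChange (R := R) (R' := R'') (S := S) (S' := S₀) p p'' hf₀
  letI : Module S₀ G'' := Module.compHom G'' (algebraMap S₀ S'')
  haveI : IsScalarTower S₀ S'' G'' := .of_algebraMap_smul fun _ _ => rfl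
  haveI : IsScalarTower S S₀ G'' := .of_algebraMap_smul fun r x => by
    rw [← algebraMap_smul S'' (algebraMap S S₀ r) x, ← IsScalarTower.algebraMap_apply S S₀ S'', algebraMap_smul]
  have hf₁ : IsBaseChange S'' (hf₀.lift gN) := by
    refine IsBaseChange.of_comp hf₀ ?_
    rw [IsBaseChange.lift_comp]
    exact hgN
  obtain ⟨hd, hpt⟩ := fibreSupport_etale (R := R'') (A := S₀) (B := S'') p'' hf₁ q₀ q'' hpt₀
    (le_of_eq (hdim₀.trans hdim))
  haveI : GeometricallyIntegral (Spec.map (CommRingCat.ofHom (algebraMap R'' D''))) := hGI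
  refine ⟨R'', inferInstance, inferInstance, inferInstance, inferInstance, p'', inferInstance, hR'',
    R'' ⊗[R'] D', inferInstance, inferInstance, inferInstance, inferInstance, inferInstance, inferInstance,
    inferInstance,
    D'', inferInstance, inferInstance, inferInstance, inferInstance, inferInstance, inferInstance, inferInstance,
    inferInstance, inferInstance, inferInstance, inferInstance, y'', inferInstance, inferInstance, inferInstance,
    hopen,
    C'', inferInstance, inferInstance, inferInstance, inferInstance, inferInstance, inferInstance, inferInstance,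
    inferInstance, z'', inferInstance, inferInstance, inferInstance, hPC,
    G'', inferInstance, inferInstance, inferInstance, inferInstance, g, hg,
    S'', inferInstance, inferInstance, inferInstance, inferInstance, inferInstance, inferInstance, q'', inferInstance,
    inferInstance, inferInstance, inferInstance, inferInstance, inferInstance, inferInstance, inferInstance,
    ⟨inferInstance, hq''q, hqq⟩, hzq'',
    G'', inferInstance, inferInstance, inferInstance, inferInstance, inferInstance, inferInstance, gN, hgN,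
    ⟨⟨LinearEquiv.refl S'' G''⟩, hπ,
      Groth.Flatmor4.finitePresentation_of_isPushout (A := S) (A' := S'') (B := C) (B' := C''),
      Groth.Flatmor4.finite_of_isPushout (A := D) (A' := D'') (B := C) (B' := C''), inferInstance, hsm'',
      show GeometricallyIrreducible _ from inferInstance, hd⟩,
    hpt, fun z₂ _ => huniq z₂, hPT⟩


end Groth.Agent.S12245
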