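import Groth.Statements.S12249
import Groth.Agent.ArtfunDeform.Prorep

set_option autoImplicit false
universe u v
open CategoryTheory
open Deform

namespace Groth.Agent.S12249

open CategoryTheory

/-- Let k be an algebraically closed field and F a set-valued functor on local Artinian k-algebras with
residue field k such that F(k) is a single point. If F has a semiuniversal formal element and its
tangent space F(k[ε]) is reduced to one element, then F(A) consists of exactly one element for every
A: F is the constant one-point functor h_k. -/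
theorem result
    {k : Type u} [Field k] [IsAlgClosed k]
    (F : ArtFun.Art k k ⥤ Type v) (h0 : ArtFun.H0 F) (hF : ArtFun.HasHull F)
    (ht : Subsingleton (ArtFun.TangentSpace F)) (A : ArtFun.Art k k) :
    Nonempty (F.obj A) ∧ Subsingleton (F.obj A) := by
  haveI : Module.Finite k k := inferInstance
  obtain ⟨⟨R, ξ, hm⟩⟩ := hF
  refine ⟨⟨F.map (⟨Algebra.ofId k A, Algebra.ext_id k _ _⟩ : ArtFun.Art.base k k ⟶ A) h0.1.some⟩, ?_⟩
  have hs := ArtfunDeform.versal_app_surjective ξ hm.1 h0.2 A
  haveI : Subsingleton (ArtFun.HomSet R.carrier R.res (ArtFun.Art.dual k k)) :=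
    ⟨fun a b => hm.2.1 (ht.elim _ _)⟩
  let one : ArtFun.Family R.carrier R.res ((Functor.const _).obj (PUnit.{1})) :=
    ⟨fun _ _ => PUnit.unit, fun _ _ => rfl⟩
  have hinj := ArtfunDeform.family_injective one
    (fun _ _ _ _ _ _ h _ => (ArtfunDeform.cmp_injective_iff h).2 fun _ _ _ _ => rfl)
    (Function.injective_of_subsingleton _) A
  haveI : Subsingleton (ArtFun.HomSet R.carrier R.res A) := ⟨fun a b => hinj rfl⟩
  exact hs.subsingleton

end Groth.Agent.S12249
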