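import Groth.Statements.S1225
import Groth.Agent.RaynaudGruson.AssassinTorsion

set_option autoImplicit false
universe u
open FlatMor

namespace Groth.Agent.S1225

open IsLocalRing in
/-- Ring form, X = Spec B affine: let A be a local ring, B a finite type A-algebra and N a finite
B-module which is flat over A and pure along the closed fibre. Then a B-linear map φ from N to any
B-module is injective if and only if its localization at q is injective for every prime q of B over
𝔪_A whose extension to the closed fibre ring is an associated prime of the closed fibre module. -/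
theorem result {A B : Type u} [CommRing A] [IsLocalRing A] [CommRing B] [Algebra A B] [Algebra.FiniteType A B]
    (N : Type u) [AddCommGroup N] [Module B N] [Module A N] [IsScalarTower A B N] [Module.Finite B N] [Module.Flat A N]
    (hpure : FlatCA.IsPureAlong A B N (maximalIdeal A))
    (N' : Type u) [AddCommGroup N'] [Module B N'] (φ : N →ₗ[B] N') :
    Function.Injective φ ↔ ∀ (q : Ideal B) [q.IsPrime], q.LiesOver (maximalIdeal A) →
      FlatCA.fiberIdeal (maximalIdeal A) q ∈ associatedPrimes ((maximalIdeal A).Fiber B) (FlatCA.fiberMod (maximalIdeal A) B N) →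
      Function.Injective (LocalizedModule.map q.primeCompl φ) := by
  classical
  constructor
  · intro hinj q _ _ _
    exact LocalizedModule.map_injective q.primeCompl φ hinj
  intro h
  rw [injective_iff_map_eq_zero]
  intro x hx
  by_contra hne
  let I : Ideal B := LinearMap.ker (LinearMap.toSpanSingleton B N x)
  have hI : I ≠ ⊤ := fun h0 => hne (by
    have h1 : (1 : B) ∈ I := h0 ▸ Submodule.mem_top
    have h2 : (1 : B) • x = 0 := h1
    rwa [one_smul] at h2)
  obtain ⟨q, hq, hIq⟩ := Ideal.exists_le_maximal I hI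
  haveI := hq.isPrime
  have hflat : ∀ (q : Ideal B) [q.IsPrime], FlatCA.FlatAt A q N := fun q _ =>
    (Groth.RaynaudGruson.FlatPred.flatAt_iff q).mpr (Groth.RaynaudGruson.FlatPred.pred_of_flat _)
  have hz : ∀ s : B, s • (x ⊗ₜ[A] (1 : A)) = 0 → s • x = 0 := fun s hs => by
    have := congrArg (TensorProduct.rid A N) hs
    rwa [TensorProduct.smul_tmul', TensorProduct.rid_tmul, one_smul, map_zero] at this
  have hz' : ∀ s : B, s • x = 0 → s • (x ⊗ₜ[A] (1 : A)) = 0 := fun s hs => by
    rw [TensorProduct.smul_tmul', hs, TensorProduct.zero_tmul]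
  let p := q.comap (algebraMap A B)
  haveI : q.LiesOver p := ⟨rfl⟩
  obtain ⟨P, _, hPp, -, hann, hass⟩ := Groth.RaynaudGruson.AssassinTorsion.exists_assoc_le N p q (hflat q) A
    (x ⊗ₜ (1 : A)) fun s hs => hIq (hz s hs)
  haveI := hPp
  -- purity: the point specialises into the closed fibre
  obtain ⟨q₀, hq₀, hPq₀, hq₀m⟩ : ∃ q₀ : Ideal B, q₀.IsPrime ∧ P ≤ q₀ ∧ q₀.LiesOver (maximalIdeal A) := by
    by_contra hcon
    exact hpure A B N (LinearMap.id : N →ₗ[B] N) p (maximalIdeal A) P
      (Groth.RaynaudGruson.LocalStructure.isEtaleNhd_refl A (maximalIdeal A))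
      ⟨inferInstance, IsBaseChange.ofEquiv (LinearEquiv.refl B N), le_maximalIdeal (Ideal.IsPrime.ne_top inferInstance),
        ⟨rfl⟩, hPp, hass, fun P' hP' hle hover => hcon ⟨P', hP', hle, hover⟩⟩
  haveI := hq₀; haveI := hq₀m
  obtain ⟨P', _, hP'm, -, hann', hass'⟩ := Groth.RaynaudGruson.AssassinTorsion.exists_assoc_le N (maximalIdeal A) q₀
    (hflat q₀) A (x ⊗ₜ (1 : A)) fun s hs => hPq₀ (hann s hs)
  have hloc := h P' hP'm hass'
  have h0 : LocalizedModule.mkLinearMap P'.primeCompl N x = 0 := by
    apply hloc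
    rw [map_zero]
    show LocalizedModule.map P'.primeCompl φ (LocalizedModule.mk x 1) = 0
    rw [LocalizedModule.map_mk, hx, LocalizedModule.zero_mk]
  obtain ⟨⟨u, hu⟩, hu0⟩ := (IsLocalizedModule.eq_zero_iff P'.primeCompl (LocalizedModule.mkLinearMap _ N)).mp h0
  exact hu (hann' u (hz' u hu0))

end Groth.Agent.S1225
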