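import Groth.Statements.S12252
import Groth.Agent.ArtfunDeform.Formal

set_option autoImplicit false
universe u v
open CategoryTheory
open Deform

namespace Groth.Agent.S12252

open Groth.ArtfunDeform


/-- Let k be an algebraically closed field, Λ a complete local Noetherian k-algebra with residue field k
and F a set-valued functor on local Artinian Λ-algebras with residue field k. If (R, u) and (S, v)
both prorepresent F (complete local Noetherian Λ-algebras with residue field k carrying universal
families), then there is a unique isomorphism of Λ-algebras R ≅ S, compatible with the augmentations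
to k, along which the universal family of R is transported to that of S. -/
theorem result
    {k Λ : Type u} [Field k] [IsAlgClosed k] [CommRing Λ] [IsLocalRing Λ] [IsNoetherianRing Λ]
    [IsAdicComplete (IsLocalRing.maximalIdeal Λ) Λ] [Algebra k Λ] [Algebra Λ k] [IsScalarTower k Λ k]
    {F : ArtFun.Art Λ k ⥤ Type v} (P Q : ArtFun.ProRep F) :
    ∃! e : P.ring.carrier ≃ₐ[Λ] Q.ring.carrier,
      ∃ he : Q.ring.res.comp e.toAlgHom = P.ring.res, P.family.along e.toAlgHom he = Q.family := by
  haveI : Subsingleton (F.obj (ArtFun.Art.base Λ k)) := (P.universal _).2.subsingleton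
  have hv : ∀ {R : ArtFun.ProRep F}, ArtFun.IsVersal R.family := fun {R} B A μ _ φ y hy => by
    obtain ⟨ψ, rfl⟩ := (R.universal B).2 y
    exact ⟨ψ, (R.universal A).1 ((app_natural R.family μ ψ).symm.trans hy), rfl⟩
  have uniq : ∀ {X Y : ArtFun.ProRep F} (g₁ g₂ : X.ring.carrier →ₐ[Λ] Y.ring.carrier)
      (h₁ : Y.ring.res.comp g₁ = X.ring.res) (h₂ : Y.ring.res.comp g₂ = X.ring.res),
      (X.family.along g₁ h₁).toFormalElt = (X.family.along g₂ h₂).toFormalElt → g₁ = g₂ :=
    fun {X Y} g₁ g₂ h₁ h₂ h => hom_ext_trunc fun n =>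
      congrArg (fun t : ArtFun.HomSet X.ring.carrier X.ring.res (Y.ring.trunc n) => t.1)
        ((X.universal _).1 (congrArg (fun t : ArtFun.FormalElt F Y.ring => t.elt n) h))
  obtain ⟨g, hg, hgF⟩ := exists_along_of_versal (S := Q.ring) P.family hv inferInstance Q.family.toFormalElt
  obtain ⟨g', hg', hgF'⟩ := exists_along_of_versal (S := P.ring) Q.family hv inferInstance P.family.toFormalElt
  have hgF := toFormalElt_injective hgF
  have hgF' := toFormalElt_injective hgF'
  have e1 : g.comp g' = AlgHom.id Λ _ := by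
    refine uniq (X := Q) (Y := Q) _ _ (by rw [← AlgHom.comp_assoc, hg, hg']) (AlgHom.comp_id _) ?_
    refine ArtFun.FormalElt.ext' fun n => ?_
    change Q.family.app _ _ = Q.family.app _ _
    have := congrArg (fun ζ : ArtFun.Family Q.ring.carrier Q.ring.res F => ζ.app _ (Q.ring.truncHom n)) hgF
    refine Eq.trans ?_ this
    exact congrArg (fun ζ : ArtFun.Family P.ring.carrier P.ring.res F =>
      ζ.app (Q.ring.trunc n) (truncOfHom (S := Q.ring) g hg n)) hgF'
  have e2 : g'.comp g = AlgHom.id Λ _ := by
    refine uniq (X := P) (Y := P) _ _ (by rw [← AlgHom.comp_assoc, hg', hg]) (AlgHom.comp_id _) ?_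
    refine ArtFun.FormalElt.ext' fun n => ?_
    change P.family.app _ _ = P.family.app _ _
    have := congrArg (fun ζ : ArtFun.Family P.ring.carrier P.ring.res F => ζ.app _ (P.ring.truncHom n)) hgF'
    refine Eq.trans ?_ this
    exact congrArg (fun ζ : ArtFun.Family Q.ring.carrier Q.ring.res F =>
      ζ.app (P.ring.trunc n) (truncOfHom (S := P.ring) g' hg' n)) hgF
  refine ⟨AlgEquiv.ofAlgHom g g' e1 e2, ⟨hg, hgF⟩, fun e ⟨he, heF⟩ => ?_⟩
  refine AlgEquiv.coe_algHom_injective ?_
  exact uniq (X := P) (Y := Q) _ _ he hg ((congrArg ArtFun.Family.toFormalElt heF).trans (congrArg ArtFun.Family.toFormalElt hgF).symm)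

end Groth.Agent.S12252
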