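import Groth.Statements.S12255
import Groth.Agent.SGA7.TangentFinite
import Groth.Agent.SGA7.RigidAutMain
import Groth.Agent.SGA7.DefSchCond
import Groth.Agent.Variety2.ProjBasics
import Groth.Agent.ArtfunDeform.Prorep
import Groth.Agent.S12726
-- import your own Groth.Agent.* helpers here

set_option autoImplicit false
universe u
open CategoryTheory CategoryTheory.Limits AlgebraicGeometry
open Deform

namespace Groth.Agent.S12255

/-- Let k be an algebraically closed field and X a projective k-scheme, given with a closed immersion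
into some P^n_k over k, such that H^0(X, T_X) = Hom_{O_X}(Ω_{X/k}, O_X) = 0 (no infinitesimal
automorphisms). Then the local moduli functor Def_X, of isomorphism classes of deformations of X
over local Artinian k-algebras with residue field k, is prorepresentable by a complete local
Noetherian k-algebra with residue field k. -/
theorem result
    {k : Type u} [Field k] [IsAlgClosed k] (X : Scheme.{u}) (x : X ⟶ Spec (CommRingCat.of k))
    [LocallyOfFiniteType x] [IsSeparated x] [QuasiCompact x]
    (hproj : ∃ (n : ℕ) (c : X ⟶ CohB1.ProjSpaceOver n (Spec (CommRingCat.of k))),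
      IsClosedImmersion c ∧ c ≫ CohB1.ProjSpaceOver.toBase n (Spec (CommRingCat.of k)) = x)
    (h0 : Subsingleton (Omega.sheaf x ⟶ Coh.structureModule X)) :
    ArtFun.IsProrepresentable (ArtFun.defFunctor (Λ := k) X x) := by
  
  haveI : IsProper x := by
    obtain ⟨n, c, hc, hx⟩ := hproj
    haveI := hc
    haveI := Groth.Variety2.isProper_projSpaceOver_toBase n (Spec (CommRingCat.of k))
    rw [← hx]
    infer_instance
  have hk : Function.Surjective (algebraMap k k) := fun a => ⟨a, rfl⟩
  have hrig := Groth.SGA7Def.subsingleton_hom_omega_iff.1 h0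
  let F := ArtFun.defFunctor (Λ := k) X x
  have c0 : ArtFun.H0 F := Groth.SGA7Def.h0_sch X x
  have c1 : ArtFun.S1 F := Groth.SGA7Def.s1_sch X x
  have c2 : ArtFun.Heps F := Groth.SGA7Def.heps_sch X x
  obtain ⟨T⟩ := Groth.Agent.S12726.result F c0 c2
  letI := T
  haveI := Groth.ArtfunDeform.subsingleton_base_dual_of_surjective hk
  refine Groth.ArtfunDeform.isProrepresentable_of c0
    (fun _ _ _ _ p' p'' f' f'' h hf => c1 p' p'' f' f'' h hf.1) c2 (Groth.SGA7Def.hfin_of_isProper X x)
    (fun B A A' p₁ p₂ f h hf => ⟨Groth.SGA7Def.cmp_injective_of_autLift h hf.1 (fun ξ e => ?_),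
      c1 p₁ p₂ f f h hf.1⟩)
    fun _ => Function.injective_of_subsingleton _
  refine ⟨ArtFun.DefSch.Iso.refl ξ, Groth.SGA7Def.iso_ext ?_⟩
  exact (hrig A _ ((ArtFun.DefSch.Iso.refl ξ).baseChange f)).trans (hrig A _ e).symm

end Groth.Agent.S12255
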