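import Groth.Statements.S12259
import Groth.Agent.S12255
import Groth.Agent.CurveBridge.Omega
import Groth.Agent.CurveBridge.SmoothCurve
import Groth.Agent.EulerDeg.LineBundle
-- import your own Groth.Agent.* helpers here

set_option autoImplicit false
universe u
open CategoryTheory CategoryTheory.Limits AlgebraicGeometry
open Deform

namespace Groth.Agent.S12259

/-- Let k be an algebraically closed field and X a nonsingular connected projective curve over k, i.e. X
is smooth over k, connected, of dimension one and a closed subscheme of some projective space P^n_k,
and assume its genus g = dim_k H^1(X, O_X) is at least 2. Then the local moduli functor Def_X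
(isomorphism classes of deformations of X over local Artinian k-algebras with residue field k) is
prorepresentable by a complete local Noetherian k-algebra with residue field k. (The published
statement treats every genus and identifies the prorepresenting ring with a power series ring in 0,
1 or 3g − 3 variables; this row is the prorepresentability for g ≥ 2 only.) -/
theorem result
    {k : Type u} [Field k] [IsAlgClosed k] (X : Scheme.{u}) [X.Over (Spec (CommRingCat.of k))]
    [Smooth (X ↘ Spec (CommRingCat.of k))] [IsSeparated (X ↘ Spec (CommRingCat.of k))]
    [QuasiCompact (X ↘ Spec (CommRingCat.of k))] [ConnectedSpace X]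
    (hdim : topologicalKrullDim X = 1)
    (hproj : ∃ (n : ℕ) (c : X ⟶ CohB1.ProjSpaceOver n (Spec (CommRingCat.of k))),
      IsClosedImmersion c ∧ c ≫ CohB1.ProjSpaceOver.toBase n (Spec (CommRingCat.of k)) = X ↘ Spec (CommRingCat.of k))
    (hg : 2 ≤ Curv2.genus k X) :
    ArtFun.IsProrepresentable (ArtFun.defFunctor (Λ := k) X (X ↘ Spec (CommRingCat.of k))) := by
  let x := X ↘ Spec (CommRingCat.of k)
  haveI : IsProper x := by
    obtain ⟨n, c, hc, hx⟩ := hproj
    haveI := hc
    haveI := Groth.Variety2.isProper_projSpaceOver_toBase n (Spec (CommRingCat.of k))
    change IsProper (X ↘ Spec (CommRingCat.of k))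
    rw [← hx]
    infer_instance
  haveI := Groth.CurveBridge.isIntegral_of_smooth k X
  have hR := Groth.CurveBridge.isRegCurve_of_smooth k X hdim
  refine Groth.Agent.S12255.result X x hproj (subsingleton_of_forall_eq 0 fun φ => ?_)
  by_contra hφ
  have hΩ := Groth.CurveBridge.isInvertible_omega (X := X) (Groth.CurveBridge.isFunctionField (k := k) hdim)
  have h1 := (Groth.EulerDeg.deg_le_and_isIso hΩ (Groth.EulerDeg.isInvertible_structureModule X) hφ k hdim.le).1
  rw [(Groth.CurveBridge.omega_numerics hR).2.2] at h1
  have h0 : Curv2.deg k X (Coh.structureModule X) 1 = 0 := by simp [Curv2.deg]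
  omega

end Groth.Agent.S12259
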