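import Groth.Statements.S1226
import Groth.Agent.RaynaudGruson.ImpurityEtale


set_option autoImplicit false
universe u
open FlatMor

namespace Groth.Agent.S1226

/-- Ring form, X = Spec B affine: let B be a finite type A-algebra, N a finite B-module and p a prime of
A; let A' be an A-algebra with a prime p' over p such that A' is of finite type over A and
quasi-finite at p', and let B', N' be the base changes of B, N. If N is pure along the fibre over p
then N' is pure along the fibre over p'. -/
theorem result {A B : Type u} [CommRing A] [CommRing B] [Algebra A B] [Algebra.FiniteType A B]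
    (N : Type u) [AddCommGroup N] [Module B N] [Module.Finite B N] (p : Ideal A) [p.IsPrime]
    (A' B' N' : Type u) [CommRing A'] [CommRing B'] [Algebra A A'] [Algebra B B'] [Algebra A' B'] [Algebra A B']
    [IsScalarTower A B B'] [IsScalarTower A A' B'] [Algebra.IsPushout A B A' B']
    [AddCommGroup N'] [Module B' N'] [Module B N'] [IsScalarTower B B' N'] (f : N →ₗ[B] N') (hf : IsBaseChange B' f)
    (p' : Ideal A') [p'.IsPrime] [p'.LiesOver p] [Algebra.FiniteType A A'] [Algebra.QuasiFiniteAt A p']
    (h : FlatCA.IsPureAlong A B N p) : FlatCA.IsPureAlong A' B' N' p' := by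
  classical
  letI : Module A N := Module.compHom N (algebraMap A B)
  haveI : IsScalarTower A B N := IsScalarTower.of_algebraMap_smul fun _ _ => rfl
  intro A'' B'' N'' _ _ _ _ _ _ _ _ _ _ _ _ _ _ f' t' t _ _ P _ hnhd himp
  letI : Algebra A A'' := Algebra.compHom A'' (algebraMap A A')
  letI : Algebra B B'' := Algebra.compHom B'' (algebraMap B B')
  letI : Algebra A B'' := Algebra.compHom B'' (algebraMap A A')
  haveI : IsScalarTower A A' A'' := IsScalarTower.of_algebraMap_eq fun _ => rfl
  haveI : IsScalarTower A A' B'' := IsScalarTower.of_algebraMap_eq fun _ => rfl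
  haveI : IsScalarTower B B' B'' := IsScalarTower.of_algebraMap_eq fun _ => rfl
  haveI : IsScalarTower A A'' B'' := IsScalarTower.of_algebraMap_eq fun x =>
    IsScalarTower.algebraMap_apply A' A'' B'' (algebraMap A A' x)
  haveI : IsScalarTower A B' B'' := IsScalarTower.of_algebraMap_eq fun x => by
    rw [IsScalarTower.algebraMap_apply A A' B', ← IsScalarTower.algebraMap_apply A' B' B'']
    rfl
  haveI : IsScalarTower A B B'' := IsScalarTower.of_algebraMap_eq fun x => by
    rw [IsScalarTower.algebraMap_apply A B' B'', IsScalarTower.algebraMap_apply A B B']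
    rfl
  letI : Module B N'' := Module.compHom N'' (algebraMap B B')
  haveI : IsScalarTower B B' N'' := IsScalarTower.of_algebraMap_smul fun _ _ => rfl
  haveI : IsScalarTower B B'' N'' := IsScalarTower.of_algebraMap_smul fun x y =>
    algebraMap_smul B'' (algebraMap B B' x) y
  obtain ⟨hpush, hbc, htt, htp, hPt, hass, hclosure⟩ := himp
  haveI := htp
  haveI : t.LiesOver p := Ideal.LiesOver.trans t p' p
  haveI : Algebra.IsPushout A A' B B' := Algebra.IsPushout.symm inferInstance
  haveI : Algebra.IsPushout A' A'' B' B'' := Algebra.IsPushout.symm hpush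
  have hpush' : Algebra.IsPushout A B A'' B'' :=
    Algebra.IsPushout.symm ((Algebra.IsPushout.comp_iff A A' B B' (T := A'') (T' := B'')).mpr inferInstance)
  haveI := hpush'
  have himp' : FlatCA.IsImpurity A B N p A'' B'' N'' ((f'.restrictScalars B).comp f) t' t P :=
    ⟨hpush', hf.comp hbc, htt, inferInstance, hPt, hass, hclosure⟩
  haveI : Algebra.Etale A' A'' := hnhd.1
  haveI : Algebra.FiniteType A A'' := Algebra.FiniteType.trans (S := A') inferInstance inferInstance
  haveI : Algebra.QuasiFiniteAt A t := Groth.RaynaudGruson.quasiFiniteAt_trans p' t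
  have hw := Groth.RaynaudGruson.wit_of_isImpurity (A := A) (B := B) (N := N) A'' B'' N''
    ((f'.restrictScalars B).comp f) p t' t P himp'
  obtain ⟨D, _, _, s', s, _, _, het, hws⟩ := Groth.RaynaudGruson.Wit.exists_etaleNhd_of_quasiFinite p hw
  obtain ⟨D', E', M', _, _, _, _, _, _, _, _, _, _, _, _, _, _, g, r', r, _, _, Q, _, hQ, hnh⟩ :=
    Groth.RaynaudGruson.hasImpurity_of_wit p (Q := fun A' _ _ t => ∃ _ : t.IsPrime, FlatCA.IsEtaleNhd A A' p t)
      s' s het.2.choose hws ⟨inferInstance, het⟩
  exact h D' E' M' g r' r Q hnh.2 hQ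

end Groth.Agent.S1226
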