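import Groth.Statements.S12261
import Groth.Agent.ArtfunDeform.HilbTangentLinear
import Groth.Agent.ArtfunDeform.Prorep
import Groth.Agent.CohTwo.HomDepth
import Groth.Agent.EulerDeg.Coherent
import Groth.Agent.RefRank.DivSheaf
import Groth.Agent.Variety2.ProjBasics
import Groth.Agent.QCohMod.Coherent
import Groth.Agent.QCohMod.PullbackQCoh

set_option autoImplicit false
universe u
open CategoryTheory CategoryTheory.Limits AlgebraicGeometry
open Deform

namespace Groth.Agent.S12261

/-- Let k be an algebraically closed field, Y a separated k-scheme of finite type and X ⊆ Y the closed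
subscheme of a quasi-coherent ideal sheaf I₀; assume X is projective over k, i.e. X admits a closed
immersion over k into some projective space P^n_k. Then the local Hilbert functor of X in Y (closed
subschemes of Y ×_k Spec A flat over Spec A restricting to X on the closed fibre, for A local
Artinian with residue field k) is prorepresentable by a complete local Noetherian k-algebra with
residue field k. (The published statement assumes only that the space of global sections of the
normal sheaf of X in Y is finite-dimensional, X projective being the named instance; this row states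
the projective case.) -/
theorem result
    {k : Type u} [Field k] [IsAlgClosed k] (Y : Scheme.{u}) (y : Y ⟶ Spec (CommRingCat.of k))
    [LocallyOfFiniteType y] [IsSeparated y] [QuasiCompact y] (I₀ : Y.IdealSheafData)
    (hproj : ∃ (n : ℕ) (c : I₀.subscheme ⟶ CohB1.ProjSpaceOver n (Spec (CommRingCat.of k))),
      IsClosedImmersion c ∧ c ≫ CohB1.ProjSpaceOver.toBase n (Spec (CommRingCat.of k)) = I₀.subschemeι ≫ y) :
    ArtFun.IsProrepresentable (ArtFun.localHilb Y y I₀) := by
  obtain ⟨n, c, hc, hcy⟩ := hproj
  let _ : I₀.subscheme.Over (Spec (CommRingCat.of k)) := ⟨I₀.subschemeι ≫ y⟩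
  have hP : IsProper (I₀.subscheme ↘ Spec (CommRingCat.of k)) := by
    have : IsProper (c ≫ CohB1.ProjSpaceOver.toBase n (Spec (CommRingCat.of k))) := inferInstance
    rw [hcy] at this
    exact this
  have : IsLocallyNoetherian Y := LocallyOfFiniteType.isLocallyNoetherian y
  have : IsLocallyNoetherian I₀.subscheme :=
    LocallyOfFiniteType.isLocallyNoetherian (I₀.subscheme ↘ Spec (CommRingCat.of k))
  let F := ArtFun.localHilb Y y I₀
  have h0 : ArtFun.H0 F := Groth.ArtfunDeform.HilbGlue.h0 y I₀
  have h2 : ArtFun.Heps F := fun _ _ _ _ h =>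
    Groth.ArtfunDeform.HilbGlue.cmp_bijective y h Groth.SGA7.Deform.isSmallExt_dual I₀
  let _ : ArtFun.TangentStr F := Groth.ArtfunDeform.tangentStr h0 h2
  have := Groth.Duality.SheafHom.hasSheafHom (Omega.conormal I₀.subschemeι)
  obtain ⟨e⟩ := Groth.ArtfunDeform.HilbTangent.exists_tangent_equiv (x := y) (I₀ := I₀) rfl
  have hI := Groth.RefRank.isCoh_idealMod I₀.subschemeι.ker
  have hN : Coh.IsCoh (Omega.conormal I₀.subschemeι) := by
    have := hI.1
    exact ⟨Groth.QCohMod.isQCoh_pullback_obj I₀.subschemeι _, Groth.QCohMod.isFT_pullback I₀.subschemeι _ hI.2⟩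
  have := Groth.EulerDeg.finite_HH k I₀.subscheme
    (Groth.CohTwo.HomDepth.isCoh_sheafHom hN Groth.QCohMod.isCoh_unit) 0
  have h3 : ArtFun.Hfin F := Module.Finite.equiv e.symm
  refine Groth.ArtfunDeform.isProrepresentable_of h0
    (fun _ _ _ _ _ _ _ _ h hf => (Groth.ArtfunDeform.HilbGlue.cmp_bijective y h hf I₀).2) h2 h3
    (fun _ _ _ _ _ _ h hf => Groth.ArtfunDeform.HilbGlue.cmp_bijective y h hf I₀) fun x₀ σ τ _ => ?_
  exact ArtFun.Art.hom_ext (AlgHom.ext fun c => (σ.toAlgHom.commutes c).trans (τ.toAlgHom.commutes c).symm)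

end Groth.Agent.S12261
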