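import Groth.Statements.S12268
import Groth.Agent.ArtfunDeform.AlgDef.HullDim
import Mathlib.RingTheory.MvPowerSeries.NoZeroDivisors

set_option autoImplicit false
universe u
open CategoryTheory CategoryTheory.Limits AlgebraicGeometry
open Deform

namespace Groth.Agent.S12268

/-- Let k be an algebraically closed field and B₀ a k-algebra with a finite presentation P =
k[X_i]/(f_s); let T¹ = T¹(B₀/k, B₀) and T² = T²(B₀/k, B₀) be the first and second cotangent modules
computed from P, and assume T¹ is finite-dimensional over k. Then for every semiuniversal formal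
deformation of Spec B₀ — a complete local Noetherian k-algebra R̄ with residue field k carrying a
miniversal family for the functor Def_{B₀} of isomorphism classes of deformations — one has dim R̄ ≤
dim_k T¹; if T² is finite-dimensional as well, dim_k T¹ ≤ dim R̄ + dim_k T²; and dim R̄ = dim_k T¹
holds exactly when Spec B₀ is unobstructed, i.e. Def_{B₀}(B) → Def_{B₀}(A) is surjective for every
surjection B → A of local Artinian k-algebras with residue field k. (The published statement writes
the lower bound as dim_k T¹ − dim_k T² ≤ dim R̄, empty when T² is infinite-dimensional, and allows a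
localisation of the polynomial ring as ambient algebra.) -/
theorem result
    {k : Type u} [Field k] [IsAlgClosed k] (B₀ : Type u) [CommRing B₀] [Algebra k B₀] {ι σ : Type u} [Finite ι] [Finite σ]
    (P : Algebra.Presentation k B₀ ι σ)
    [Module.Finite k (CotT.T1 P B₀)] (H : ArtFun.Hull (ArtFun.defFunctor (Λ := k) (Spec (CommRingCat.of B₀)) (Spec.map (CommRingCat.ofHom (algebraMap k B₀))))) :
    ringKrullDim H.ring.carrier ≤ ((Module.finrank k (CotT.T1 P B₀) : ℕ∞) : WithBot ℕ∞) ∧
      (Module.Finite k (CotT.T2 P B₀) →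
        ((Module.finrank k (CotT.T1 P B₀) : ℕ∞) : WithBot ℕ∞) ≤
          ringKrullDim H.ring.carrier + ((Module.finrank k (CotT.T2 P B₀) : ℕ∞) : WithBot ℕ∞)) ∧
      (ringKrullDim H.ring.carrier = ((Module.finrank k (CotT.T1 P B₀) : ℕ∞) : WithBot ℕ∞) ↔
        ArtFun.IsSmoothFunctor (ArtFun.defFunctor (Λ := k) (Spec (CommRingCat.of B₀)) (Spec.map (CommRingCat.ofHom (algebraMap k B₀))))) := by
  classical
  let F := ArtFun.defFunctor (Λ := k) (Spec (CommRingCat.of B₀)) (Spec.map (CommRingCat.ofHom (algebraMap k B₀)))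
  let ξ := H.family
  have hv : ArtFun.IsVersal ξ := H.miniversal.1
  have h0 : Subsingleton (F.obj (ArtFun.Art.base k k)) := Groth.ArtfunDeform.DefAlg.subsingleton_base
  have hsurj := Groth.ArtfunDeform.versal_app_surjective ξ hv h0
  obtain ⟨τ, hτ, hτc, hτp⟩ := Groth.ArtfunDeform.exists_tangent_t1 P
  obtain ⟨n, hn⟩ : ∃ n, n = (IsLocalRing.maximalIdeal H.ring.carrier).spanFinrank := ⟨_, rfl⟩
  obtain ⟨S, e, θ, C, hθ, hθres, hmin, hC, hCc, hCp⟩ := Groth.ArtfunDeform.exists_minPres H.ring hn
  let Cinv := Equiv.ofBijective C hC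
  have hCi : ∀ φ, Cinv.symm (C φ) = φ := Cinv.symm_apply_apply
  let L : (Fin n → k) →ₗ[k] CotT.T1 P B₀ :=
    { toFun := fun v => τ (ξ.app _ (Cinv.symm v))
      map_add' := fun v w => by
        obtain ⟨φ, rfl⟩ := hC.2 v
        obtain ⟨ψ, rfl⟩ := hC.2 w
        obtain ⟨χ, h1, h2⟩ := Groth.ArtfunDeform.homSet_lift ArtFun.Art.isFibreProd_dual2 φ ψ
          (Subsingleton.elim (α := (ArtFun.hR H.ring.carrier H.ring.res).obj (ArtFun.Art.base k k))
            (h := Groth.ArtfunDeform.subsingleton_hR_base _ _) _ _)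
        rw [← h1, ← h2, ← hCp, hCi, hCi, hCi,
          ξ.natural, ξ.natural, ξ.natural]
        exact hτp _
      map_smul' := fun c v => by
        obtain ⟨φ, rfl⟩ := hC.2 v
        rw [RingHom.id_apply, ← hCc, hCi, hCi, ξ.natural]
        exact hτc c _ }
  have hL : Function.Bijective L := hτ.comp (H.miniversal.2.comp Cinv.symm.bijective)
  have hfin : Module.finrank k (CotT.T1 P B₀) = n := by
    rw [← (LinearEquiv.ofBijective L hL).finrank_eq, Module.finrank_fin_fun]
  rw [hfin]
  have hk : Function.Surjective (algebraMap k k) := Function.surjective_id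
  haveI : IsDomain (MvPowerSeries (Fin n) k) := NoZeroDivisors.to_isDomain _
  haveI : IsDomain S.carrier := e.toRingEquiv.toMulEquiv.isDomain
  have hdimS : ringKrullDim S.carrier = ((n : ℕ∞) : WithBot ℕ∞) := by
    rw [ringKrullDim_eq_of_ringEquiv e.toRingEquiv, Groth.Calg6.ringKrullDim_mvPowerSeries]
    rfl
  refine ⟨hn ▸ ringKrullDim_le_spanFinrank_maximalIdeal _, fun hT2 => ?_, fun hdim => ?_, fun hsm => ?_⟩
  · obtain ⟨r, g, hg, hr⟩ : ∃ (r : ℕ) (g : Fin r → S.carrier), Ideal.span (Set.range g) = RingHom.ker θ ∧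
        r = Submodule.spanFinrank (RingHom.ker θ) := by
      obtain ⟨s, hs, hsm⟩ := Submodule.FG.exists_span_finset_card_eq_spanFinrank
        (IsNoetherian.noetherian (RingHom.ker θ))
      refine ⟨s.card, fun i => (s.equivFin.symm i : S.carrier), ?_, hs⟩
      refine Eq.trans ?_ hsm
      congr 1
      exact (Set.range_comp Subtype.val _).trans (by simp)
    have hrle : r ≤ Module.finrank k (CotT.T2 P B₀) := by
      letI : Fintype σ := Fintype.ofFinite σ
      let J := RingHom.ker θ
      let m := IsLocalRing.maximalIdeal S.carrier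
      obtain ⟨N₀, hN₀⟩ := Ideal.exists_pow_inf_eq_pow_smul m (M := S.carrier) J
      let K' : Ideal S.carrier := m * J ⊔ m ^ (N₀ + 2)
      have hAR : ∀ x ∈ J, x ∈ m ^ (N₀ + 2) → x ∈ m * J := by
        intro x hxJ hx
        have h1 : x ∈ (m ^ (N₀ + 2) • ⊤ ⊓ J : Submodule S.carrier S.carrier) :=
          ⟨by rw [smul_eq_mul, Ideal.mul_top]; exact hx, hxJ⟩
        rw [hN₀ _ (by omega), show N₀ + 2 - N₀ = 2 by omega, smul_eq_mul] at h1
        exact Ideal.mul_mono (Ideal.pow_le_self two_ne_zero) inf_le_right h1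
      let K : Ideal S.carrier := J ⊔ m ^ (N₀ + 2)
      have hJm : J ≤ m ^ 2 := hmin
      have hKm : K ≤ m := sup_le (hJm.trans (Ideal.pow_le_self two_ne_zero)) (Ideal.pow_le_self (by omega))
      obtain ⟨A, π, hπ, hπ0⟩ := Groth.ArtfunDeform.exists_quotArt S hKm (N := N₀ + 1) le_sup_right
      obtain ⟨φA, hφA⟩ := Groth.ArtfunDeform.exists_factor_homSet (resR := H.ring.res) θ hθ hθres π
        fun x hx => (hπ0 x).2 (Submodule.mem_sup_left hx)
      obtain ⟨D, hD⟩ := Groth.ArtfunDeform.DefAlg.exists_cl (ξ.app A φA)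
      have hgJ : ∀ i, g i ∈ J := fun i => hg.le (Ideal.subset_span ⟨i, rfl⟩)
      have hK'K : K' ≤ K := sup_le_sup_right Ideal.mul_le_right _
      refine Groth.ArtfunDeform.le_finrank_T2 P S π hπ g K' (N := N₀ + 1) le_sup_right
        (fun x hx => (hπ0 x).2 (hK'K hx)) (fun i => (hπ0 _).2 (Submodule.mem_sup_left (hgJ i))) (fun x hx => ?_)
        (fun a ha i => Submodule.mem_sup_left (Ideal.mul_mem_mul ha (hgJ i))) (fun a ha => ?_) D ?_
      · obtain ⟨j, hj, y, hy, rfl⟩ := Submodule.mem_sup.1 ((hπ0 x).1 hx)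
        obtain ⟨b, rfl⟩ := Ideal.mem_span_range_iff_exists_fun.1 (hg.ge hj)
        refine ⟨fun i => S.res (b i), ?_⟩
        rw [add_sub_right_comm, ← Finset.sum_sub_distrib]
        refine add_mem (Ideal.sum_mem _ fun i _ => ?_) (Submodule.mem_sup_right hy)
        rw [Algebra.smul_def, ← sub_mul]
        refine Submodule.mem_sup_left (Ideal.mul_mem_mul ?_ (hgJ i))
        rw [ArtFun.CRing.mem_maximalIdeal_iff, map_sub, AlgHom.commutes, sub_eq_zero]
        rfl
      · obtain ⟨y, hy, z, hz, hyz⟩ := Submodule.mem_sup.1 ha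
        have hz' : z ∈ J := by
          have : z = ∑ i, a i • g i - y := eq_sub_of_add_eq' hyz
          rw [this]
          refine sub_mem (Ideal.sum_mem _ fun i _ => ?_) (Ideal.mul_le_right hy)
          rw [Algebra.smul_def]
          exact Ideal.mul_mem_left _ _ (hgJ i)
        have hmJ : ∑ i, a i • g i ∈ m * J := hyz ▸ add_mem hy (hAR z hz' hz)
        rw [show m * J = m • Ideal.span (Set.range g) by rw [hg, smul_eq_mul],
          Submodule.mem_ideal_smul_span_iff_exists_sum] at hmJ
        obtain ⟨b, hb, hbe⟩ := hmJ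
        rw [Finsupp.sum_fintype b (fun i c => c • g i) (fun i => zero_smul _ (g i))] at hbe
        funext i
        have h1 := Groth.ArtfunDeform.coeff_mem_maximalIdeal_of_minimal g hr.le hg
          (Finsupp.equivFunOnFinite.symm fun i => algebraMap k S.carrier (a i) - b i) (by
            rw [Finsupp.linearCombination_apply,
              Finsupp.sum_fintype _ (fun i c => c • g i) (fun i => zero_smul _ (g i))]
            refine (Finset.sum_congr rfl fun i _ => ?_).trans ((Finset.sum_sub_distrib _ _).trans (sub_eq_zero.2 hbe.symm))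
            rw [Finsupp.coe_equivFunOnFinite_symm, sub_smul, algebraMap_smul]) i
        have h2 := add_mem h1 (hb i)
        rw [Finsupp.coe_equivFunOnFinite_symm, sub_add_cancel, ArtFun.CRing.mem_maximalIdeal_iff,
          AlgHom.commutes] at h2
        exact h2
      · rintro A' p π' hp hpπ hπ'K ⟨i, hi⟩ D' ⟨ψ⟩
        obtain ⟨φ', hφ', -⟩ := hv p hp.1 φA D'.cl ((Groth.ArtfunDeform.DefAlg.map_cl ψ).trans hD)
        obtain ⟨t, ht⟩ := hp.2.2.1.principal
        have hsub : ∀ x, φ'.1 (θ x) - π'.1 x ∈ RingHom.ker p.toAlgHom := fun x => by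
          rw [RingHom.mem_ker, map_sub, sub_eq_zero]
          refine (congrArg (fun f : ArtFun.HomSet H.ring.carrier H.ring.res A => f.1 (θ x)) hφ').trans ?_
          refine (congrArg (fun f : S.carrier →ₐ[k] A => f x) hφA).trans ?_
          exact (congrArg (fun f : ArtFun.HomSet S.carrier S.res A => f.1 x) hpπ).symm
        have hkill : ∀ a ∈ IsLocalRing.maximalIdeal A', ∀ b ∈ RingHom.ker p.toAlgHom, a * b = 0 := fun a ha b hb => by
          have := Ideal.mul_mem_mul ha hb
          rwa [hp.2.2.2, Ideal.mem_bot] at this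
        have hagree : ∀ x ∈ IsLocalRing.maximalIdeal S.carrier ^ 2, φ'.1 (θ x) = π'.1 x := by
          intro x hx
          rw [pow_two] at hx
          induction hx using Submodule.mul_induction_on' with
          | mem_mul_mem a ha b hb =>
            have hma : ∀ c ∈ IsLocalRing.maximalIdeal S.carrier,
                π'.1 c ∈ IsLocalRing.maximalIdeal A' ∧ φ'.1 (θ c) ∈ IsLocalRing.maximalIdeal A' := fun c hc => by
              rw [ArtFun.CRing.mem_maximalIdeal_iff] at hc
              constructor <;> rw [ArtFun.Art.mem_maximalIdeal_iff, Groth.ArtfunDeform.homSet_res]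
              · exact hc
              · exact (congrArg (fun f : S.carrier →ₐ[k] k => f c) hθres).trans hc
            rw [map_mul, map_mul, map_mul, ← sub_eq_zero, show φ'.1 (θ a) * φ'.1 (θ b) - π'.1 a * π'.1 b =
              φ'.1 (θ b) * (φ'.1 (θ a) - π'.1 a) + π'.1 a * (φ'.1 (θ b) - π'.1 b) by ring,
              hkill _ (hma b hb).2 _ (hsub a), hkill _ (hma a ha).1 _ (hsub b), add_zero]
          | add a _ b _ ha hb => rw [map_add, map_add, map_add, ha, hb]
        refine hi ?_
        rw [← hagree _ (hJm (hgJ i)), show θ (g i) = 0 from hgJ i, map_zero]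
    have h1 := ringKrullDim_le_ringKrullDim_quotient_add_spanFinrank (RingHom.ker θ)
      (by rw [IsLocalRing.ringJacobson_eq_maximalIdeal]; exact IsLocalRing.le_maximalIdeal (RingHom.ker_ne_top θ))
    rw [hdimS, show ringKrullDim (S.carrier ⧸ RingHom.ker θ) = ringKrullDim H.ring.carrier from
      ringKrullDim_eq_of_ringEquiv (RingHom.quotientKerEquivOfSurjective (f := θ.toRingHom) hθ)] at h1
    refine h1.trans (add_le_add_right ?_ _)
    rw [← hr]
    exact_mod_cast hrle
  · have hinj : Function.Injective θ := by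
      rw [injective_iff_map_eq_zero]
      intro x hx
      by_contra hx0
      have h1 := ringKrullDim_succ_le_of_surjective θ.toRingHom hθ
        (mem_nonZeroDivisors_of_ne_zero hx0) hx
      rw [hdimS, hdim] at h1
      have h2 : ((n + 1 : ℕ) : WithBot ℕ∞) ≤ ((n : ℕ) : WithBot ℕ∞) := by exact_mod_cast h1
      have : n + 1 ≤ n := by exact_mod_cast h2
      omega
    have hsmR : ArtFun.IsSmoothFunctor (ArtFun.hR H.ring.carrier H.ring.res) :=
      (Groth.ArtfunDeform.isSmoothFunctor_iff_ps hk H.ring).2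
        ⟨n, ⟨(AlgEquiv.ofBijective θ ⟨hinj, hθ⟩).symm.trans e⟩⟩
    intro B A μ hμ y
    obtain ⟨φ, rfl⟩ := hsurj A y
    obtain ⟨ψ, rfl⟩ := hsmR μ hμ φ
    exact ⟨ξ.app B ψ, (ξ.natural μ ψ).symm⟩
  · have hsmR : ArtFun.IsSmoothFunctor (ArtFun.hR H.ring.carrier H.ring.res) := by
      intro B A μ hμ φ
      obtain ⟨y, hy⟩ := hsm μ hμ (ξ.app A φ)
      obtain ⟨ψ, hψ, -⟩ := hv μ hμ φ y hy
      exact ⟨ψ, hψ⟩
    obtain ⟨m, ⟨e'⟩⟩ := (Groth.ArtfunDeform.isSmoothFunctor_iff_ps hk H.ring).1 hsmR
    haveI := Groth.Calg6.isRegularLocalRing_mvPowerSeries k m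
    haveI : IsRegularLocalRing H.ring.carrier := IsRegularLocalRing.of_ringEquiv e'.toRingEquiv.symm
    rw [hn]
    exact ((isRegularLocalRing_iff H.ring.carrier).1 inferInstance).symm

end Groth.Agent.S12268
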