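import Groth.Statements.S12271
import Groth.Agent.ArtfunDeform.HilbObs.TheoryImm
import Groth.Agent.ArtfunDeform.ObsBounds
import Groth.Agent.ArtfunDeform.HilbTangentImm

set_option autoImplicit false
universe u
open CategoryTheory CategoryTheory.Limits AlgebraicGeometry
attribute [local instance] HasDerivedCategory.standard
open Deform

namespace Groth.Agent.S12271

/-- Let k be an algebraically closed field, Y a separated k-scheme of finite type and i : X → Y a
regular closed immersion over k (its ideal is locally generated by a regular sequence) with X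
projective over k; let N = Hom_{O_X}(I/I², O_X) be the normal sheaf (sheaf Hom of the conormal sheaf
of i, as a right adjoint, assumed to exist). Let R̄ be a complete local Noetherian k-algebra with
residue field k prorepresenting the local Hilbert functor of X in Y (closed subschemes of Y ×_k Spec
A flat over A restricting to X, X ⊆ Y given by the kernel ideal of i), i.e. carrying a universal
family — the formal universal deformation of X in Y. Then dim R̄ ≤ h⁰(X, N); h⁰(X, N) ≤ dim R̄ +
h¹(X, N); and dim R̄ = h⁰(X, N) if and only if X is unobstructed in Y, i.e. the local Hilbert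
functor takes every surjection B → A of local Artinian k-algebras with residue field k to a
surjective map. (The published statement writes the second bound as h⁰(N) − h¹(N) ≤ dim R̄.) -/
theorem result
    {k : Type u} [Field k] [IsAlgClosed k] (Y : Scheme.{u}) (y : Y ⟶ Spec (CommRingCat.of k))
    [LocallyOfFiniteType y] [IsSeparated y] [QuasiCompact y]
    (X : Scheme.{u}) [X.Over (Spec (CommRingCat.of k))] (i : X ⟶ Y) [IsClosedImmersion i] (hi : i ≫ y = X ↘ (Spec (CommRingCat.of k)))
    (hreg : Mor2.IsRegularClosedImmersion i)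
    (hproj : ∃ (n : ℕ) (c : X ⟶ CohB1.ProjSpaceOver n (Spec (CommRingCat.of k))),
      IsClosedImmersion c ∧ c ≫ CohB1.ProjSpaceOver.toBase n (Spec (CommRingCat.of k)) = X ↘ (Spec (CommRingCat.of k)))
    [DCoh.HasSheafHom (Omega.conormal i)]
    (R : ArtFun.ProRep (ArtFun.localHilb Y y i.ker)) :
    ringKrullDim R.ring.carrier ≤ ((Module.finrank k (Coh.HH X ((DCoh.sheafHom (Omega.conormal i)).obj (Coh.structureModule X)) 0) : ℕ∞) : WithBot ℕ∞) ∧
      ((Module.finrank k (Coh.HH X ((DCoh.sheafHom (Omega.conormal i)).obj (Coh.structureModule X)) 0) : ℕ∞) : WithBot ℕ∞) ≤ ringKrullDim R.ring.carrier + ((Module.finrank k (Coh.HH X ((DCoh.sheafHom (Omega.conormal i)).obj (Coh.structureModule X)) 1) : ℕ∞) : WithBot ℕ∞) ∧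
      (ringKrullDim R.ring.carrier = ((Module.finrank k (Coh.HH X ((DCoh.sheafHom (Omega.conormal i)).obj (Coh.structureModule X)) 0) : ℕ∞) : WithBot ℕ∞) ↔ ArtFun.IsSmoothFunctor (ArtFun.localHilb Y y i.ker)) := by
  let x := y
  let P := Y
  let Z := X
  obtain ⟨n, c, hc, hcy⟩ := hproj
  have hP : IsProper (X ↘ Spec (CommRingCat.of k)) := hcy ▸ inferInstance
  have h0 : ArtFun.H0 (ArtFun.localHilb _ x i.ker) := Groth.ArtfunDeform.HilbGlue.h0 x i.ker
  have h2 : ArtFun.Heps (ArtFun.localHilb _ x i.ker) := fun _ _ _ _ e =>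
    Groth.ArtfunDeform.HilbGlue.cmp_bijective x e Groth.SGA7.Deform.isSmallExt_dual i.ker
  let _ : ArtFun.TangentStr (ArtFun.localHilb _ x i.ker) := Groth.ArtfunDeform.tangentStr h0 h2
  obtain ⟨e⟩ := Groth.ArtfunDeform.HilbTangentImm.exists_equiv (y := x) i hi
  have : IsLocallyNoetherian P := LocallyOfFiniteType.isLocallyNoetherian x
  have hlft : LocallyOfFiniteType (Z ↘ Spec (CommRingCat.of k)) := hi ▸ inferInstance
  have : IsLocallyNoetherian Z := LocallyOfFiniteType.isLocallyNoetherian (Z ↘ Spec (CommRingCat.of k))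
  have := Groth.EulerDeg.finite_HH k Z (Groth.ArtfunDeform.HilbObs.isCoh_normal i) 1
  have hT := Groth.ArtfunDeform.HilbObs.hasObsTheory_immersion (x := x) i hi hreg
  obtain ⟨h1, h2, h3, -⟩ := Groth.ArtfunDeform.ObsBounds.bounds (res := R.ring.res) R.ring.res_surjective R.family
    R.universal _ hT
  rw [← e.finrank_eq]
  exact ⟨h1, h2, h3⟩

end Groth.Agent.S12271
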