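import Groth.Statements.S12272
import Groth.Agent.ArtfunDeform.HilbTangentLinear
import Groth.Agent.S12329

set_option autoImplicit false
universe u
open CategoryTheory CategoryTheory.Limits AlgebraicGeometry
attribute [local instance] HasDerivedCategory.standard
open Deform

namespace Groth.Agent.S12272

/-- The quotient module of the kernel ideal of a closed immersion. -/
theorem nonempty_quotMod_ker_iso {X Y : Scheme.{u}} (i : X ⟶ Y) [IsClosedImmersion i] :
    Nonempty ((Scheme.Modules.pushforward i).obj (Coh.structureModule X) ≅ ClSub.quotMod i.ker) := by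
  obtain ⟨e, he, heι⟩ : ∃ e : X ⟶ i.ker.subscheme, IsIso e ∧ e ≫ i.ker.subschemeι = i :=
    ⟨i.toImage, inferInstance, i.toImage_imageι⟩
  have := he
  have hu : IsIso (ClSub.unitToPush e) := Scheme.Modules.Hom.isIso_iff_isIso_app.mpr fun U =>
    (ConcreteCategory.isIso_iff_bijective _).2 (ConcreteCategory.bijective_of_isIso (e.app U))
  exact ⟨eqToIso (congrArg (fun q => (Scheme.Modules.pushforward q).obj (Coh.structureModule X)) heι.symm) ≪≫
    ((Scheme.Modules.pushforwardComp e i.ker.subschemeι).app (Coh.structureModule X)).symm ≪≫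
      (Scheme.Modules.pushforward i.ker.subschemeι).mapIso (asIso (ClSub.unitToPush e)).symm⟩

/-- Let k be an algebraically closed field, Y a separated k-scheme of finite type and i : X → Y a
regular closed immersion over k with X projective over k; let N = Hom_{O_X}(I/I², O_X) be the normal
sheaf (sheaf Hom of the conormal sheaf of i, as a right adjoint, assumed to exist). Then X is rigid
in Y, meaning that for every local Artinian k-algebra A with residue field k there is at most one
closed subscheme of Y ×_k Spec A flat over Spec A restricting to X on the closed fibre (necessarily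
X ×_k Spec A), if and only if H⁰(X, N) = 0. -/
theorem result
    {k : Type u} [Field k] [IsAlgClosed k] (Y : Scheme.{u}) (y : Y ⟶ Spec (CommRingCat.of k))
    [LocallyOfFiniteType y] [IsSeparated y] [QuasiCompact y]
    (X : Scheme.{u}) [X.Over (Spec (CommRingCat.of k))] (i : X ⟶ Y) [IsClosedImmersion i] (hi : i ≫ y = X ↘ (Spec (CommRingCat.of k)))
    (hreg : Mor2.IsRegularClosedImmersion i)
    (hproj : ∃ (n : ℕ) (c : X ⟶ CohB1.ProjSpaceOver n (Spec (CommRingCat.of k))),
      IsClosedImmersion c ∧ c ≫ CohB1.ProjSpaceOver.toBase n (Spec (CommRingCat.of k)) = X ↘ (Spec (CommRingCat.of k)))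
    [DCoh.HasSheafHom (Omega.conormal i)] :
    (∀ A : ArtFun.Art k k, Subsingleton ((ArtFun.localHilb Y y i.ker).obj A)) ↔
      Subsingleton (Coh.HH X ((DCoh.sheafHom (Omega.conormal i)).obj (Coh.structureModule X)) 0) := by
  let N := ClSub.idealMod i.ker
  let O := Coh.structureModule X
  obtain ⟨ψ⟩ := nonempty_quotMod_ker_iso i
  let E : Coh.HH X ((DCoh.sheafHom (Omega.conormal i)).obj O) 0 ≃ (N ⟶ ClSub.quotMod i.ker) :=
    (Groth.Duality.SheafHom.homH0 (Omega.conormal i) k O).toEquiv.symm.trans
      (((Scheme.Modules.pullbackPushforwardAdjunction i).homEquiv N O).trans ψ.homToEquiv)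
  constructor
  · intro h
    have := h (ArtFun.Art.dual k k)
    have hs := (Groth.ArtfunDeform.HilbTangent.toHom_surjective (x := y) (I₀ := i.ker)).subsingleton
    exact E.subsingleton
  · intro h A
    have hs : Subsingleton (N ⟶ ClSub.quotMod i.ker) := E.symm.subsingleton
    have hinj := Groth.Agent.S12329.result Y y i.ker hs (ArtFun.Art.toBase A) A.res_surjective
    have := (Groth.ArtfunDeform.HilbGlue.h0 y i.ker).2
    exact hinj.subsingleton

end Groth.Agent.S12272
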