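import Groth.Statements.S12276
import Groth.Agent.ArtfunDeform.HilbTangentLinear
import Groth.Agent.ArtfunDeform.FibreTorsor
import Groth.Agent.ArtfunDeform.HilbGlue

set_option autoImplicit false
universe u
open CategoryTheory CategoryTheory.Limits AlgebraicGeometry
open scoped TensorProduct
attribute [local instance] HasDerivedCategory.standard
open DefT

namespace Groth.Agent.S12276

/-- Let k be a field, X₀ a k-scheme and Y₀ ⊆ X₀ the closed subscheme cut out by a quasi-coherent ideal
sheaf I, regarded as a k-scheme through X₀, with normal sheaf N₀ = Hom_{O_{Y₀}}(I/I², O_{Y₀}) (the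
sheaf Hom, assumed to exist as the right adjoint of tensoring with I/I²). Let C' → C be a surjection
of local Artinian k-algebras with residue field k whose kernel J is annihilated by the maximal ideal
of C', and let Y ⊆ X₀ ×_k Spec C be a closed subscheme, flat over Spec C, whose pull-back to the
closed fibre X₀ is Y₀. If Y has at least one extension over C' inside X₀ ×_k Spec C' (a closed
subscheme flat over Spec C' whose pull-back to X₀ ×_k Spec C is Y), then the set of all such
extensions is in bijection with H^0(Y₀, N₀) ⊗_k J. (The published statement allows the ambient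
deformation of X₀ over C' to be arbitrary, allows local Artin rings that are not k-algebras, and
says that the set of extensions is a pseudotorsor under H^0(Y₀, N₀ ⊗ J); this row is the case of the
trivial ambient deformation X₀ ×_k Spec C' over local Artinian k-algebras and asserts only the
existence of a bijection.) -/
theorem result
    {k : Type u} [Field k] (X₀ : Scheme.{u}) [X₀.Over (Spec (CommRingCat.of k))]
    (I₀ : X₀.IdealSheafData) [I₀.subscheme.Over (Spec (CommRingCat.of k))]
    (hY : I₀.subscheme ↘ Spec (CommRingCat.of k) = I₀.subschemeι ≫ (X₀ ↘ Spec (CommRingCat.of k)))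
    [DCoh.HasSheafHom (Omega.conormal I₀.subschemeι)]
    {C' C : ArtFun.Art k k} (p : C' ⟶ C) (hp : ArtFun.Art.IsSemismallExt p)
    (I : (ArtFun.localHilb X₀ (X₀ ↘ Spec (CommRingCat.of k)) I₀).obj C)
    (hne : ∃ I' : (ArtFun.localHilb X₀ (X₀ ↘ Spec (CommRingCat.of k)) I₀).obj C',
      (ArtFun.localHilb X₀ (X₀ ↘ Spec (CommRingCat.of k)) I₀).map p I' = I) :
    Nonempty ({I' : (ArtFun.localHilb X₀ (X₀ ↘ Spec (CommRingCat.of k)) I₀).obj C' //
        (ArtFun.localHilb X₀ (X₀ ↘ Spec (CommRingCat.of k)) I₀).map p I' = I} ≃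
      (Coh.HH I₀.subscheme ((DCoh.sheafHom (Omega.conormal I₀.subschemeι)).obj (Coh.structureModule I₀.subscheme)) 0 ⊗[k]
        ↥(RingHom.ker p.toAlgHom))) := by
  let F := ArtFun.localHilb X₀ (X₀ ↘ Spec (CommRingCat.of k)) I₀
  have h0 : ArtFun.H0 F := Groth.ArtfunDeform.HilbGlue.h0 _ I₀
  have h2 : ArtFun.Heps F := fun _ _ _ _ h =>
    Groth.ArtfunDeform.HilbGlue.cmp_bijective _ h Groth.SGA7.Deform.isSmallExt_dual I₀
  let _ : ArtFun.TangentStr F := Groth.ArtfunDeform.tangentStr h0 h2
  obtain ⟨e⟩ := Groth.ArtfunDeform.HilbTangent.exists_tangent_equiv (x := X₀ ↘ Spec (CommRingCat.of k)) (I₀ := I₀) hY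
  obtain ⟨g⟩ := Groth.ArtfunDeform.FibreTorsor.nonempty_fibre_equiv h0
    (fun _ _ _ _ _ _ _ _ h hf => (Groth.ArtfunDeform.HilbGlue.cmp_bijective _ h hf I₀).2) h2
    (fun _ _ _ _ _ _ h hf => Groth.ArtfunDeform.HilbGlue.cmp_bijective _ h hf I₀) p hp I hne
  exact ⟨g.trans (TensorProduct.congr e (LinearEquiv.refl k _)).toEquiv⟩

end Groth.Agent.S12276
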