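import Groth.Statements.S1228
import Groth.Agent.RaynaudGruson.Purity

set_option autoImplicit false
universe u
open FlatMor

namespace Groth.Agent.S1228

open TensorProduct in
/-- Ring form, S = Spec A and X = Spec B affine, test schemes affine: let B be a finitely presented
A-algebra, N a finitely presented B-module which is flat over A and pure relative to Spec A, and u a
surjective B-linear map from N to a B-module N'. Then the functor 'u becomes an isomorphism after
base change' is represented by a closed subscheme of Spec A: there is an ideal I of A such that for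
every A-algebra A' the base change A' ⊗_A N → A' ⊗_A N' is bijective if and only if IA' = 0. If N'
is finitely presented then I is finitely generated. -/
theorem result {A B : Type u} [CommRing A] [CommRing B] [Algebra A B] [Algebra.FinitePresentation A B]
    (N : Type u) [AddCommGroup N] [Module B N] [Module A N] [IsScalarTower A B N] [Module.FinitePresentation B N] [Module.Flat A N]
    (hpure : FlatCA.IsPure A B N)
    (N' : Type u) [AddCommGroup N'] [Module B N'] [Module A N'] [IsScalarTower A B N'] (u : N →ₗ[B] N') (hu : Function.Surjective u) :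
    ∃ I : Ideal A, (∀ (A' : Type u) [CommRing A'] [Algebra A A'],
        Function.Bijective ((u.restrictScalars A).baseChange A') ↔ I.map (algebraMap A A') = ⊥) ∧
      (Module.FinitePresentation B N' → I.FG) := by
  classical
  haveI : Module.Projective A N := Groth.RaynaudGruson.Purity.projective_of_isPure N hpure
  obtain ⟨I, hI⟩ := Groth.Agent.S1227.result (u.restrictScalars A) hu
  refine ⟨I, hI, fun hN' => ?_⟩
  obtain ⟨G, hG⟩ := Module.FinitePresentation.fg_ker u hu
  obtain ⟨s, hs⟩ := Module.projective_def'.mp ‹Module.Projective A N›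
  let J : Ideal A := Ideal.span ↑(G.biUnion fun x => (s x).support.image (s x))
  have hcoord : ∀ x ∈ G, ∀ m, s x m ∈ J := fun x hx m => by
    by_cases hm : m ∈ (s x).support
    · exact Ideal.subset_span (Finset.mem_biUnion.mpr ⟨x, hx, Finset.mem_image.mpr ⟨m, hm, rfl⟩⟩)
    · rw [Finsupp.notMem_support_iff.mp hm]; exact zero_mem _
  have hkey : ∀ (K : Ideal A) (x : N), (∀ m, s x m ∈ K) → (1 : A ⧸ K) ⊗ₜ[A] x = 0 := fun K x hx => by
    rw [← show Finsupp.linearCombination A id (s x) = x from LinearMap.congr_fun hs x,
      Finsupp.linearCombination_apply, Finsupp.sum, TensorProduct.tmul_sum]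
    refine Finset.sum_eq_zero fun m _ => ?_
    rw [TensorProduct.tmul_smul, TensorProduct.smul_tmul', Algebra.smul_def, Ideal.Quotient.algebraMap_eq,
      Ideal.Quotient.eq_zero_iff_mem.mpr (hx m), zero_mul, TensorProduct.zero_tmul]
  have h1 : I ≤ J := by
    have hb : Function.Bijective ((u.restrictScalars A).baseChange (A ⧸ J)) := by
      refine ⟨?_, LinearMap.lTensor_surjective _ hu⟩
      rw [injective_iff_map_eq_zero]
      intro z hz
      obtain ⟨w, rfl⟩ := (lTensor_exact (A ⧸ J) (LinearMap.exact_subtype_ker_map (u.restrictScalars A)) hu z).mp hz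
      induction w with
      | zero => rw [map_zero]
      | add a b ha hb => rw [map_add, ha ((lTensor_exact (A ⧸ J) (LinearMap.exact_subtype_ker_map (u.restrictScalars A)) hu _).mpr ⟨a, rfl⟩),
          hb ((lTensor_exact (A ⧸ J) (LinearMap.exact_subtype_ker_map (u.restrictScalars A)) hu _).mpr ⟨b, rfl⟩), add_zero]
      | tmul c k =>
        rw [LinearMap.lTensor_tmul, Submodule.subtype_apply]
        suffices h0 : (1 : A ⧸ J) ⊗ₜ[A] (k : N) = 0 by
          rw [show c ⊗ₜ[A] (k : N) = c • ((1 : A ⧸ J) ⊗ₜ[A] (k : N)) by
            rw [TensorProduct.smul_tmul', smul_eq_mul, mul_one], h0, smul_zero]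
        have hk : (k : N) ∈ Submodule.span B (G : Set N) := hG ▸ k.2
        generalize (k : N) = y at hk ⊢
        induction hk using Submodule.span_induction with
        | mem x hx => exact hkey J x (hcoord x hx)
        | zero => rw [TensorProduct.tmul_zero]
        | add x y _ _ hx hy => rw [TensorProduct.tmul_add, hx, hy, add_zero]
        | smul b x _ hx =>
          have h := congrArg ((Algebra.lsmul A A N b).lTensor (A ⧸ J)) hx
          rw [map_zero, LinearMap.lTensor_tmul] at h
          exact h
    have h := (hI (A ⧸ J)).mp hb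
    rw [Ideal.map_eq_bot_iff_le_ker, Ideal.Quotient.algebraMap_eq, Ideal.mk_ker] at h
    exact h
  have h2 : J ≤ I := by
    refine Ideal.span_le.mpr fun a ha => ?_
    obtain ⟨x, hx, hxa⟩ := Finset.mem_biUnion.mp ha
    obtain ⟨m, -, rfl⟩ := Finset.mem_image.mp hxa
    have hinj := ((hI (A ⧸ I)).mpr (by
      rw [Ideal.map_eq_bot_iff_le_ker, Ideal.Quotient.algebraMap_eq, Ideal.mk_ker])).1
    have hux : u x = 0 := LinearMap.mem_ker.mp (hG ▸ Submodule.subset_span hx)
    have h0 : (1 : A ⧸ I) ⊗ₜ[A] x = 0 := hinj (by simp [hux])
    have h := congrArg (fun z => TensorProduct.rid A (A ⧸ I) (((Finsupp.lapply m).comp s).lTensor (A ⧸ I) z)) h0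
    simp only [LinearMap.lTensor_tmul, map_zero, TensorProduct.rid_tmul, LinearMap.comp_apply, Finsupp.lapply_apply] at h
    rw [Algebra.smul_def, mul_one, Ideal.Quotient.algebraMap_eq] at h
    exact Ideal.Quotient.eq_zero_iff_mem.mp h
  rw [le_antisymm h1 h2]
  exact Submodule.fg_span (Finset.finite_toSet _)

end Groth.Agent.S1228
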