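import Groth.Statements.S12280
import Groth.Agent.ArtfunDeform.HilbPoint
import Groth.Agent.ArtfunDeform.HilbTangentImm
import Groth.Agent.ArtfunDeform.HilbObs.Immersion
import Groth.Agent.Variety2.ProjBasics

set_option autoImplicit false
universe u
open CategoryTheory CategoryTheory.Limits AlgebraicGeometry
open scoped TensorProduct
attribute [local instance] HasDerivedCategory.standard
open DefT

namespace Groth.Agent.S12280

/-- Let k be an algebraically closed field, X = P^n_k, and (H, Z) a Hilbert scheme of X over k: H is a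
locally Noetherian k-scheme and Z ⊆ X ×_k H a closed subscheme, proper and flat over H, such that
every closed subscheme of X ×_k T proper and flat over a locally Noetherian k-scheme T is the
pull-back of Z along a unique k-morphism T → H. Let Y ⊆ X be a closed subscheme, regarded as a
k-scheme through X, with ideal sheaf I and normal sheaf N = Hom_{O_Y}(I/I², O_Y) (the sheaf Hom,
assumed to exist as the right adjoint of tensoring with I/I²), and let y ∈ H be the k-point
classifying Y (the pull-back of Z along Spec k → H is Y). If Y → X is a regular closed immersion (Y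
is a local complete intersection in X) and H^1(Y, N) = 0, then H is nonsingular at y: the local ring
O_{H,y} is regular, and its dimension equals dim_k H^0(Y, N). -/
theorem result
    {k : Type u} [Field k] [IsAlgClosed k] (n : ℕ)
    (H : Over (Spec (CommRingCat.of k))) (Z : FGA.HilbSet (CohB1.ProjSpaceOver.toBase n (Spec (CommRingCat.of k))) H) (hH : FGA.HilbRepresentedBy (CohB1.ProjSpaceOver.toBase n (Spec (CommRingCat.of k))) H Z)
    (Y : Scheme.{u}) [Y.Over (Spec (CommRingCat.of k))] (i : Y ⟶ CohB1.ProjSpaceOver n (Spec (CommRingCat.of k))) [IsClosedImmersion i]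
    (hi : i ≫ CohB1.ProjSpaceOver.toBase n (Spec (CommRingCat.of k)) = Y ↘ Spec (CommRingCat.of k))
    (hreg : Mor2.IsRegularClosedImmersion i)
    [DCoh.HasSheafHom (Omega.conormal i)]
    (y : Over.mk (𝟙 (Spec (CommRingCat.of k))) ⟶ H)
    (hy : FGA.hilbPull (CohB1.ProjSpaceOver.toBase n (Spec (CommRingCat.of k))) y Z.1 = i.ker.comap (pullback.fst (CohB1.ProjSpaceOver.toBase n (Spec (CommRingCat.of k))) (Over.mk (𝟙 (Spec (CommRingCat.of k)))).hom))
    (h1 : Subsingleton (Coh.HH Y ((DCoh.sheafHom (Omega.conormal i)).obj (Coh.structureModule Y)) 1)) :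
    IsRegularLocalRing (H.left.presheaf.stalk (y.left.base (IsLocalRing.closedPoint k))) ∧
      ringKrullDim (H.left.presheaf.stalk (y.left.base (IsLocalRing.closedPoint k))) = (Module.finrank k (Coh.HH Y ((DCoh.sheafHom (Omega.conormal i)).obj (Coh.structureModule Y)) 0) : WithBot ℕ∞) := by
  let x := CohB1.ProjSpaceOver.toBase n (Spec (CommRingCat.of k))
  have : IsProper x := inferInstance
  have := hH.1
  let _ : Algebra k (H.left.presheaf.stalk (Groth.ArtfunDeform.HilbPoint.pt y)) :=
    Groth.ArtfunDeform.HilbPoint.stalkAlg y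
  obtain ⟨res, ξ, hres, hξ⟩ := Groth.ArtfunDeform.HilbPoint.exists_universal x i.ker hH y hy
  have : HasExt.{u} Y.Modules := inferInstance
  have hsm := Groth.ArtfunDeform.HilbObs.isSmoothFunctor_of_ext_immersion (x := x) i hreg
    (Groth.ArtfunDeform.HilbObs.subsingleton_ext_immersion (k := k) i hreg h1)
  have hR : IsRegularLocalRing (H.left.presheaf.stalk (Groth.ArtfunDeform.HilbPoint.pt y)) :=
    Groth.ArtfunDeform.UniversalLocal.isRegularLocalRing_of_smooth hres ξ hξ hsm
  have h0 : ArtFun.H0 (ArtFun.localHilb _ x i.ker) := Groth.ArtfunDeform.HilbGlue.h0 x i.ker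
  have h2 : ArtFun.Heps (ArtFun.localHilb _ x i.ker) := fun _ _ _ _ e =>
    Groth.ArtfunDeform.HilbGlue.cmp_bijective x e Groth.SGA7.Deform.isSmallExt_dual i.ker
  let _ : ArtFun.TangentStr (ArtFun.localHilb _ x i.ker) := Groth.ArtfunDeform.tangentStr h0 h2
  obtain ⟨e⟩ := Groth.ArtfunDeform.HilbTangentImm.exists_equiv (y := x) i hi
  refine ⟨hR, ?_⟩
  rw [← e.finrank_eq, ← Groth.ArtfunDeform.UniversalLocal.finrank_cotangentSpace hres ξ hξ,
    ← IsLocalRing.spanFinrank_maximalIdeal_eq_finrank_cotangentSpace]
  exact ((isRegularLocalRing_iff _).1 hR).symm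

end Groth.Agent.S12280
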