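import Groth.Statements.S12282
import Groth.Agent.ArtfunDeform.HilbObs.TheoryImm
import Groth.Agent.ArtfunDeform.ObsBounds
import Groth.Agent.ArtfunDeform.HilbTangentImm
import Groth.Agent.ArtfunDeform.HilbPoint
import Groth.Agent.Variety2.ProjBasics

set_option autoImplicit false
universe u
open CategoryTheory CategoryTheory.Limits AlgebraicGeometry
open scoped TensorProduct
attribute [local instance] HasDerivedCategory.standard
open DefT

namespace Groth.Agent.S12282

/-- Let k be an algebraically closed field, X = P^n_k, and (H, Z) a Hilbert scheme of X over k: H is a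
locally Noetherian k-scheme and Z ⊆ X ×_k H a closed subscheme, proper and flat over H, such that
every closed subscheme of X ×_k T proper and flat over a locally Noetherian k-scheme T is the
pull-back of Z along a unique k-morphism T → H. Let Y ⊆ X be a closed subscheme, regarded as a
k-scheme through X, with ideal sheaf I and normal sheaf N = Hom_{O_Y}(I/I², O_Y) (the sheaf Hom,
assumed to exist as the right adjoint of tensoring with I/I²), and let y ∈ H be the k-point
classifying Y (the pull-back of Z along Spec k → H is Y). If Y → X is a regular closed immersion (Y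
is a local complete intersection in X), then the dimension of H at y is at least h^0(Y, N) − h^1(Y,
N), written dim_k H^0(Y, N) ≤ dim O_{H,y} + dim_k H^1(Y, N); and when equality holds, O_{H,y} is a
complete intersection ring (its completion is the quotient of a regular local ring modulo a regular
sequence). -/
theorem result
    {k : Type u} [Field k] [IsAlgClosed k] (n : ℕ)
    (H : Over (Spec (CommRingCat.of k))) (Z : FGA.HilbSet (CohB1.ProjSpaceOver.toBase n (Spec (CommRingCat.of k))) H) (hH : FGA.HilbRepresentedBy (CohB1.ProjSpaceOver.toBase n (Spec (CommRingCat.of k))) H Z)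
    (Y : Scheme.{u}) [Y.Over (Spec (CommRingCat.of k))] (i : Y ⟶ CohB1.ProjSpaceOver n (Spec (CommRingCat.of k))) [IsClosedImmersion i]
    (hi : i ≫ CohB1.ProjSpaceOver.toBase n (Spec (CommRingCat.of k)) = Y ↘ Spec (CommRingCat.of k))
    (hreg : Mor2.IsRegularClosedImmersion i)
    [DCoh.HasSheafHom (Omega.conormal i)]
    (y : Over.mk (𝟙 (Spec (CommRingCat.of k))) ⟶ H)
    (hy : FGA.hilbPull (CohB1.ProjSpaceOver.toBase n (Spec (CommRingCat.of k))) y Z.1 = i.ker.comap (pullback.fst (CohB1.ProjSpaceOver.toBase n (Spec (CommRingCat.of k))) (Over.mk (𝟙 (Spec (CommRingCat.of k)))).hom)) :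
    (Module.finrank k (Coh.HH Y ((DCoh.sheafHom (Omega.conormal i)).obj (Coh.structureModule Y)) 0) : WithBot ℕ∞) ≤
        ringKrullDim (H.left.presheaf.stalk (y.left.base (IsLocalRing.closedPoint k))) + (Module.finrank k (Coh.HH Y ((DCoh.sheafHom (Omega.conormal i)).obj (Coh.structureModule Y)) 1) : WithBot ℕ∞) ∧
      (ringKrullDim (H.left.presheaf.stalk (y.left.base (IsLocalRing.closedPoint k))) + (Module.finrank k (Coh.HH Y ((DCoh.sheafHom (Omega.conormal i)).obj (Coh.structureModule Y)) 1) : WithBot ℕ∞) =
          (Module.finrank k (Coh.HH Y ((DCoh.sheafHom (Omega.conormal i)).obj (Coh.structureModule Y)) 0) : WithBot ℕ∞) →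
        Pi1.IsCompleteIntersection (H.left.presheaf.stalk (y.left.base (IsLocalRing.closedPoint k)))) := by
  let x := CohB1.ProjSpaceOver.toBase n (Spec (CommRingCat.of k))
  let P := CohB1.ProjSpaceOver n (Spec (CommRingCat.of k))
  have : IsProper x := inferInstance
  have hP : IsProper (Y ↘ Spec (CommRingCat.of k)) := hi ▸ inferInstance
  have := hH.1
  let _ : Algebra k (H.left.presheaf.stalk (Groth.ArtfunDeform.HilbPoint.pt y)) :=
    Groth.ArtfunDeform.HilbPoint.stalkAlg y
  obtain ⟨res, ξ, hres, hξ⟩ := Groth.ArtfunDeform.HilbPoint.exists_universal x i.ker hH y hy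
  have h0 : ArtFun.H0 (ArtFun.localHilb _ x i.ker) := Groth.ArtfunDeform.HilbGlue.h0 x i.ker
  have h2 : ArtFun.Heps (ArtFun.localHilb _ x i.ker) := fun _ _ _ _ e =>
    Groth.ArtfunDeform.HilbGlue.cmp_bijective x e Groth.SGA7.Deform.isSmallExt_dual i.ker
  let _ : ArtFun.TangentStr (ArtFun.localHilb _ x i.ker) := Groth.ArtfunDeform.tangentStr h0 h2
  obtain ⟨e⟩ := Groth.ArtfunDeform.HilbTangentImm.exists_equiv (y := x) i hi
  have : IsLocallyNoetherian P := LocallyOfFiniteType.isLocallyNoetherian x
  have hlft : LocallyOfFiniteType (Y ↘ Spec (CommRingCat.of k)) := hi ▸ inferInstance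
  have : IsLocallyNoetherian Y := LocallyOfFiniteType.isLocallyNoetherian (Y ↘ Spec (CommRingCat.of k))
  have := Groth.EulerDeg.finite_HH k Y (Groth.ArtfunDeform.HilbObs.isCoh_normal i) 1
  have hT := Groth.ArtfunDeform.HilbObs.hasObsTheory_immersion (x := x) i hi hreg
  obtain ⟨-, h2, -, h4⟩ := Groth.ArtfunDeform.ObsBounds.bounds hres ξ hξ _ hT
  rw [← e.finrank_eq]
  exact ⟨h2, h4⟩

end Groth.Agent.S12282
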