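import Groth.Statements.S12299
import Groth.Agent.ArtfunDeform.Formal

set_option autoImplicit false
universe u v
open CategoryTheory
open ArtFun

namespace Groth.Agent.S12299

open Groth.ArtfunDeform


/-- Let k be an algebraically closed field, F a set-valued functor on local Artinian k-algebras with
residue field k, and (R, ξ) a miniversal family for F, with R a complete local Noetherian k-algebra
with residue field k: the morphism h_R → F has the lifting property along surjections and is
bijective on the dual numbers. Let S be a complete local Noetherian k-algebra with residue field k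
and g₁, g₂ : R → S two k-algebra maps compatible with the augmentations along which ξ induces the
same formal family over S (the same compatible sequence in the F(S/m^(n+1))). Then g₁ and g₂ induce
the same map R → S/m_S², so the map R/m_R² → S/m_S² attached to a formal family over S is well
defined. (Coefficient rings are taken Noetherian here.) -/
theorem result
    {k : Type u} [Field k] [IsAlgClosed k] {F : ArtFun.Art k k ⥤ Type v}
    (R : ArtFun.CRing k k) (ξ : ArtFun.Family R.carrier R.res F) (hξ : ArtFun.IsMiniversal ξ)
    (S : ArtFun.CRing k k) (g₁ g₂ : R.carrier →ₐ[k] S.carrier)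
    (hg₁ : S.res.comp g₁ = R.res) (hg₂ : S.res.comp g₂ = R.res)
    (h : (ξ.along g₁ hg₁).toFormalElt = (ξ.along g₂ hg₂).toFormalElt) :
    (S.truncHom 1).1.comp g₁ = (S.truncHom 1).1.comp g₂ := by
  have hroot : ∀ (u v : ArtFun.HomSet R.carrier R.res (S.trunc 1)),
      ξ.app _ u = ξ.app _ v → u = v := by
    intro u v huv
    obtain ⟨P, p', p'', hP⟩ := exists_isFibreProd (ArtFun.Art.toBase (ArtFun.Art.base k k))
      (ArtFun.Art.toBase (S.trunc 1)) (S.trunc 1).res_surjective
    refine homSet_ext fun r => ?_
    by_contra hne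
    have hsq : IsLocalRing.maximalIdeal (S.trunc 1) ^ 2 = ⊥ := by
      rw [eq_bot_iff, sq, Ideal.mul_le]
      intro a ha b hb
      obtain ⟨a', rfl⟩ := truncHom_surjective S 1 a
      obtain ⟨b', rfl⟩ := truncHom_surjective S 1 b
      rw [ArtFun.Art.mem_maximalIdeal_iff, homSet_res, ← ArtFun.CRing.mem_maximalIdeal_iff] at ha hb
      rw [Ideal.mem_bot, ← map_mul, truncHom_eq_zero_iff, ArtFun.CRing.mpow, sq]
      exact Ideal.mul_mem_mul ha hb
    set d : S.trunc 1 := u.1 r - v.1 r with hd
    have hd0 : (S.trunc 1).res d = 0 := by rw [map_sub, homSet_res, homSet_res, sub_self]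
    have hdm : d ∈ IsLocalRing.maximalIdeal (S.trunc 1) := (ArtFun.Art.mem_maximalIdeal_iff _ _).2 hd0
    obtain ⟨ℓ, hℓ⟩ : ∃ ℓ : (S.trunc 1) ⟶ ArtFun.Art.dual k k, TrivSqZeroExt.snd (ℓ d) ≠ 0 := by
      obtain ⟨l, hl⟩ := (LinearMap.toSpanSingleton k (S.trunc 1) d).exists_leftInverse_of_injective
        (LinearMap.ker_eq_bot_of_injective (smul_left_injective k (sub_ne_zero.2 hne)))
      have hld : l d = 1 := by simpa using LinearMap.congr_fun hl 1
      let ℓ : (S.trunc 1) → k := fun x => l (x - algebraMap k (S.trunc 1) ((S.trunc 1).res x))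
      refine ⟨dualHom ℓ (fun x y => ?_) (fun x y => ?_) (fun c => ?_), ?_⟩
      · simp only [ℓ, ← map_add]
        congr 1
        rw [map_add, map_add]; ring
      · simp only [ℓ]
        rw [← smul_eq_mul ((S.trunc 1).res x), ← smul_eq_mul ((S.trunc 1).res y), ← map_smul, ← map_smul,
          ← map_add]
        congr 1
        have hm : ∀ z : S.trunc 1, z - algebraMap k _ ((S.trunc 1).res z) ∈ IsLocalRing.maximalIdeal (S.trunc 1) :=
          fun z => by rw [ArtFun.Art.mem_maximalIdeal_iff, map_sub, AlgHom.commutes]; exact sub_self _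
        have h2 : (x - algebraMap k _ ((S.trunc 1).res x)) * (y - algebraMap k _ ((S.trunc 1).res y)) = 0 := by
          have := Ideal.mul_mem_mul (hm x) (hm y)
          rwa [← sq, hsq, Ideal.mem_bot] at this
        rw [Algebra.smul_def, Algebra.smul_def, map_mul, map_mul]
        linear_combination h2
      · simp only [ℓ]
        rw [AlgHom.commutes]
        change l (algebraMap k _ c - algebraMap k _ c) = 0
        rw [sub_self, map_zero]
      · rw [snd_dualHom]
        simp only [ℓ]
        rw [hd0, map_zero, sub_zero, hld]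
        exact one_ne_zero
    apply hℓ
    have huv' : ArtFun.HomSet.map ℓ u = ArtFun.HomSet.map ℓ v :=
      hξ.2.1 (by rw [← app_natural, ← app_natural, huv])
    have h' : ℓ (u.1 r) = ℓ (v.1 r) :=
      congrArg (fun t : ArtFun.HomSet R.carrier R.res (ArtFun.Art.dual k k) => t.1 r) huv'
    rw [hd, map_sub, h', sub_self]
    rfl
  exact congrArg (fun t : ArtFun.HomSet R.carrier R.res (S.trunc 1) => t.1)
    (hroot (truncOfHom g₁ hg₁ 1) (truncOfHom g₂ hg₂ 1)
      (congrArg (fun t : ArtFun.FormalElt F S => t.elt 1) h))

end Groth.Agent.S12299
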