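import Groth.Statements.S1230
import Groth.Agent.RaynaudGruson.AssassinTorsion

set_option autoImplicit false
universe u
open FlatMor

namespace Groth.Agent.S1230

open TensorProduct in
/-- Ring form, X = Spec B, X' = Spec B' affine: let B be a finite type A-algebra, N a finite B-module
flat over A, and B' a flat B-algebra such that every prime q of B, over p in A, whose extension to
the fibre ring over p is an associated prime of the fibre module of N is the contraction of a prime
of B'. Then the canonical map N → B' ⊗_B N is injective and remains injective after tensoring over A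
with any A-algebra. -/
theorem result {A B B' : Type u} [CommRing A] [CommRing B] [CommRing B'] [Algebra A B] [Algebra B B'] [Algebra A B'] [IsScalarTower A B B']
    [Algebra.FiniteType A B] [Module.Flat B B']
    (N : Type u) [AddCommGroup N] [Module B N] [Module A N] [IsScalarTower A B N] [Module.Finite B N] [Module.Flat A N]
    (h : ∀ (p : Ideal A) (q : Ideal B) [p.IsPrime] [q.IsPrime] [q.LiesOver p],
      FlatCA.fiberIdeal p q ∈ associatedPrimes (p.Fiber B) (FlatCA.fiberMod p B N) →
      ∃ q' : Ideal B', q'.IsPrime ∧ q'.comap (algebraMap B B') = q) :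
    ∀ (A' : Type u) [CommRing A'] [Algebra A A'],
      Function.Injective (((TensorProduct.mk B B' N 1).restrictScalars A).baseChange A') := by
  intro A' _ _
  rw [injective_iff_map_eq_zero]
  intro z hz
  by_contra hne
  let z' : N ⊗[A] A' := TensorProduct.comm A A' N z
  have hz' : (1 : B') ⊗ₜ[B] z' = 0 := by
    have key : ∀ w : A' ⊗[A] N, (1 : B') ⊗ₜ[B] (TensorProduct.comm A A' N w) =
        AlgebraTensorModule.assoc A B B' B' N A' (TensorProduct.comm A A' (B' ⊗[B] N)
          (((TensorProduct.mk B B' N 1).restrictScalars A).baseChange A' w)) := fun w => by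
      induction w with
      | zero => simp
      | add a b ha hb => simp only [map_add, TensorProduct.tmul_add, ha, hb]
      | tmul a n => simp
    rw [key z, hz, map_zero, map_zero]
  have hz'0 : z' ≠ 0 := fun h0 => hne ((TensorProduct.comm A A' N).injective (h0.trans (map_zero _).symm))
  let I : Ideal B := LinearMap.ker (LinearMap.toSpanSingleton B (N ⊗[A] A') z')
  have hI : I ≠ ⊤ := fun h0 => hz'0 (by
    have h1 : (1 : B) ∈ I := h0 ▸ Submodule.mem_top
    have h2 : (1 : B) • z' = 0 := h1
    rwa [one_smul] at h2)
  obtain ⟨q, hq, hIq⟩ := Ideal.exists_le_maximal I hI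
  haveI := hq.isPrime
  let p := q.comap (algebraMap A B)
  haveI : q.LiesOver p := ⟨rfl⟩
  obtain ⟨P, _, hPp, -, hann, hass⟩ := Groth.RaynaudGruson.AssassinTorsion.exists_assoc_le N p q
    ((Groth.RaynaudGruson.FlatPred.flatAt_iff q).mpr (Groth.RaynaudGruson.FlatPred.pred_of_flat _)) A' z'
    fun s hs => hIq hs
  haveI := hPp
  obtain ⟨q', hq', hqP⟩ := h p P hass
  obtain ⟨v, hv, hv0⟩ := Groth.RaynaudGruson.AssassinTorsion.exists_notMem_of_tmul_eq_zero hz' q'
    fun h1 => hq'.ne_top ((Ideal.eq_top_iff_one q').mpr h1)
  exact hv (hqP ▸ hann v hv0)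

end Groth.Agent.S1230
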