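import Groth.Statements.S12304
import Groth.Agent.ArtfunDeform.Completion
import Mathlib.AlgebraicGeometry.Morphisms.Preimmersion

set_option autoImplicit false
universe u
open CategoryTheory CategoryTheory.Limits AlgebraicGeometry
open ArtFun

namespace Groth.Agent.S12304

/-- Let k be an algebraically closed field, M a locally Noetherian k-scheme and x₀ : Spec k → M a
k-rational point. For a local Artinian k-algebra A with residue field k consider the k-morphisms
Spec A → M whose restriction along the closed point Spec k → Spec A is x₀ (the local functor of M at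
x₀, a morphism A → B acting by composition with Spec B → Spec A). This functor is pro-representable:
there are a complete local Noetherian k-algebra R with residue field k and bijections, natural in A,
between the augmentation-compatible k-algebra maps R → A and these morphisms. (The published
statement is phrased for the fine moduli scheme M of a moduli problem, whose local functor at the
point of a given object is this one; M is taken locally Noetherian here so that the coefficient ring
is Noetherian.) -/
theorem result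
    {k : Type u} [Field k] [IsAlgClosed k] (M : Scheme.{u}) (m : M ⟶ Spec (CommRingCat.of k))
    [IsLocallyNoetherian M] (x₀ : Spec (CommRingCat.of k) ⟶ M) (hx₀ : x₀ ≫ m = 𝟙 _) :
    ∃ (R : ArtFun.CRing k k)
      (e : ∀ A : ArtFun.Art k k, ArtFun.HomSet R.carrier R.res A ≃
        {g : ArtFun.Art.spec A ⟶ M // g ≫ m = ArtFun.Art.specMap (ArtFun.Art.ofBase A) ∧ ArtFun.Art.specRes A ≫ g = x₀}),
      ∀ (A B : ArtFun.Art k k) (h : A ⟶ B) (φ : ArtFun.HomSet R.carrier R.res A),
        ((e B) (ArtFun.HomSet.map h φ)).1 = ArtFun.Art.specMap h ≫ ((e A) φ).1 := by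
  classical
  -- factor local families through the stalk at the point
  have hfac : ∀ {Y : Scheme.{u}} (g : Y ⟶ M) (y z : M), y = z →
      (∃ u, g = u ≫ M.fromSpecStalk y) → ∃ u, g = u ≫ M.fromSpecStalk z := by
    rintro Y g y z rfl h; exact h
  let x : M := x₀ (IsLocalRing.closedPoint k)
  let σ : CommRingCat.of k ⟶ M.presheaf.stalk x := Spec.preimage (M.fromSpecStalk x ≫ m)
  have hσ : Spec.map σ = M.fromSpecStalk x ≫ m := Spec.map_preimage _
  let : Algebra k (M.presheaf.stalk x) := σ.hom.toAlgebra
  obtain ⟨u₀, hu₀⟩ : ∃ u, x₀ = u ≫ M.fromSpecStalk x :=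
    ⟨Spec.map (Scheme.stalkClosedPointTo x₀), (Scheme.Spec_stalkClosedPointTo_fromSpecStalk x₀).symm⟩
  obtain ⟨π₀, rfl⟩ := Spec.map_surjective u₀
  have hπσ : σ ≫ π₀ = 𝟙 _ := by
    apply Spec.map_injective
    rw [Spec.map_comp, hσ, ← Category.assoc, ← hu₀, hx₀, Spec.map_id]
  let π : M.presheaf.stalk x →ₐ[k] k := { π₀.hom with commutes' := fun c => ConcreteCategory.congr_hom hπσ c }
  have hπ : Function.Surjective π := fun c => ⟨algebraMap k _ c, π.commutes c⟩
  obtain ⟨C, ι, hι, hC⟩ := Groth.ArtfunDeform.exists_cring_completion π hπ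
  -- homomorphisms from the stalk as morphisms to `M`
  have hcond : ∀ (A : ArtFun.Art k k) (f : ArtFun.HomSet (M.presheaf.stalk x) π A),
      (Spec.map (CommRingCat.ofHom f.1.toRingHom) ≫ M.fromSpecStalk x) ≫ m = ArtFun.Art.specMap (ArtFun.Art.ofBase A) ∧
        ArtFun.Art.specRes A ≫ Spec.map (CommRingCat.ofHom f.1.toRingHom) ≫ M.fromSpecStalk x = x₀ := by
    intro A f
    refine ⟨?_, ?_⟩
    · rw [Category.assoc, ← hσ, ← Spec.map_comp]
      refine congrArg Spec.map (CommRingCat.hom_ext (RingHom.ext fun c => ?_))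
      exact f.1.commutes c
    · rw [hu₀, ← Category.assoc, ← Spec.map_comp]
      congr 2
      exact CommRingCat.hom_ext (RingHom.ext fun s => AlgHom.congr_fun f.2 s)
  let F : ∀ A : ArtFun.Art k k, ArtFun.HomSet (M.presheaf.stalk x) π A →
      {g : ArtFun.Art.spec A ⟶ M // g ≫ m = ArtFun.Art.specMap (ArtFun.Art.ofBase A) ∧ ArtFun.Art.specRes A ≫ g = x₀} :=
    fun A f => ⟨_, hcond A f⟩
  have hF : ∀ A, Function.Bijective (F A) := by
    intro A
    constructor
    · intro f f' h
      have h1 := congrArg Subtype.val h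
      have h2 := congrArg CommRingCat.Hom.hom (Spec.map_injective ((cancel_mono (M.fromSpecStalk x)).1 h1))
      exact Subtype.ext (AlgHom.ext fun s => RingHom.congr_fun h2 s)
    · rintro ⟨g, hgm, hgx⟩
      have hpt : g (IsLocalRing.closedPoint A) = x := by
        have e : (ArtFun.Art.specRes A) (IsLocalRing.closedPoint k) = IsLocalRing.closedPoint A :=
          PrimeSpectrum.ext (IsLocalRing.eq_maximalIdeal (by
            show (Ideal.comap A.res.toRingHom (IsLocalRing.maximalIdeal k)).IsMaximal
            exact Ideal.comap_isMaximal_of_surjective _ A.res_surjective))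
        show g _ = x₀ _
        rw [← hgx]
        exact (congrArg (fun q => g q) e).symm.trans (Scheme.Hom.comp_apply (ArtFun.Art.specRes A) g _).symm
      obtain ⟨u, hu⟩ := hfac g _ x hpt ⟨_, (Scheme.Spec_stalkClosedPointTo_fromSpecStalk g).symm⟩
      obtain ⟨f₀, rfl⟩ := Spec.map_surjective u
      have hfσ : σ ≫ f₀ = CommRingCat.ofHom (ArtFun.Art.ofBase A).toAlgHom.toRingHom := by
        apply Spec.map_injective
        rw [Spec.map_comp, hσ, ← Category.assoc, ← hu]
        exact hgm
      have hres : f₀ ≫ CommRingCat.ofHom A.res.toRingHom = π₀ := by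
        apply Spec.map_injective
        rw [← cancel_mono (M.fromSpecStalk x), Spec.map_comp, Category.assoc, ← hu, ← hu₀]
        exact hgx
      refine ⟨⟨{ f₀.hom with commutes' := fun c => ConcreteCategory.congr_hom hfσ c },
        AlgHom.ext fun s => ConcreteCategory.congr_hom hres s⟩, Subtype.ext ?_⟩
      exact hu.symm
  have hcomp : ∀ (A : ArtFun.Art k k) (φ : ArtFun.HomSet C.carrier C.res A), A.res.comp (φ.1.comp ι) = π := fun A φ => by
    rw [← AlgHom.comp_assoc, φ.2, hι]
  let G : ∀ A : ArtFun.Art k k, ArtFun.HomSet C.carrier C.res A → ArtFun.HomSet (M.presheaf.stalk x) π A :=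
    fun A φ => ⟨φ.1.comp ι, hcomp A φ⟩
  have hG : ∀ A, Function.Bijective (G A) := fun A =>
    ⟨fun φ φ' h => (hC A (G A φ)).unique rfl (congrArg Subtype.val h).symm,
      fun ψ => (hC A ψ).exists.imp fun φ hφ => Subtype.ext hφ⟩
  refine ⟨C, fun A => (Equiv.ofBijective _ (hG A)).trans (Equiv.ofBijective _ (hF A)), fun A B h φ => ?_⟩
  show Spec.map (CommRingCat.ofHom ((h.toAlgHom.comp φ.1).comp ι).toRingHom) ≫ M.fromSpecStalk x =
    ArtFun.Art.specMap h ≫ Spec.map (CommRingCat.ofHom (φ.1.comp ι).toRingHom) ≫ M.fromSpecStalk x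
  rw [← Category.assoc, ← Spec.map_comp]
  rfl

end Groth.Agent.S12304
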