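import Groth.Statements.S12306
import Groth.Agent.ArtfunDeform.CotT.Exalcom
import Mathlib
-- import your own Groth.Agent.* helpers here

set_option autoImplicit false
universe u
open CotT

namespace Groth.Agent.S12306

section Helpers

open TensorProduct

variable {k A B B₀ : Type u} [Field k] [CommRing A] [Algebra k A] [CommRing B] [Algebra k B] [Algebra A B]
  [IsScalarTower k A B] [CommRing B₀] [Algebra k B₀]

theorem compDer_apply' {R S M N : Type u} [CommRing R] [CommRing S] [Algebra R S] [AddCommGroup M] [Module S M]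
    [Module R M] [AddCommGroup N] [Module S N] [Module R N] [IsScalarTower R S M] [IsScalarTower R S N]
    (f : M →ₗ[S] N) (D : Derivation R S M) (a : S) : f.compDer D a = f (D a) := rfl

theorem map_sq_zero {R S : Type u} [CommRing R] [CommRing S] (f : R →+* S) (I : Ideal R)
    (h : ∀ a ∈ I, ∀ b ∈ I, a * b = 0) {u v : S} (hu : u ∈ I.map f) (hv : v ∈ I.map f) : u * v = 0 := by
  have h1 : I * I = ⊥ := eq_bot_iff.mpr (Ideal.mul_le.mpr fun a ha b hb => h a ha b hb)
  have h2 := Ideal.mul_mem_mul hu hv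
  rw [← Ideal.map_mul, h1, Ideal.map_bot] at h2
  exact h2

theorem tensor_sq_zero {K R S C : Type u} [Field K] [CommRing R] [Algebra K R] [CommRing S] [Algebra K S]
    [CommRing C] [Algebra K C] (p : R →ₐ[K] S) (hp : Function.Surjective p)
    (hpp : ∀ u v : R, p u = 0 → p v = 0 → u * v = 0) (u v : R ⊗[K] C)
    (hu : Algebra.TensorProduct.map p (AlgHom.id K C) u = 0)
    (hv : Algebra.TensorProduct.map p (AlgHom.id K C) v = 0) : u * v = 0 := by
  have hk := Algebra.TensorProduct.rTensor_ker (R := K) (S := K) (C := C) p hp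
  have hu' := (SetLike.ext_iff.mp hk u).mp hu
  have hv' := (SetLike.ext_iff.mp hk v).mp hv
  have h0 : ∀ a ∈ RingHom.ker p, ∀ b ∈ RingHom.ker p, a * b = 0 := fun a ha b hb => hpp a b ha hb
  refine Submodule.span_induction (p := fun x _ => x * v = 0) ?_ (zero_mul v)
    (fun x y _ _ h1 h2 => by rw [add_mul, h1, h2, add_zero])
    (fun c x _ h1 => by rw [smul_eq_mul, mul_assoc, h1, mul_zero]) hu'
  rintro _ ⟨a, ha, rfl⟩
  refine Submodule.span_induction (p := fun y _ => Algebra.TensorProduct.includeLeft (S := K) a * y = 0) ?_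
    (mul_zero _) (fun x y _ _ h1 h2 => by rw [mul_add, h1, h2, add_zero])
    (fun c x _ h1 => by rw [smul_eq_mul, mul_left_comm, h1, mul_zero]) hv'
  rintro _ ⟨b, hb, rfl⟩
  rw [← map_mul, h0 a ha b hb, map_zero]

/-- The transition maps. -/
noncomputable def red (τ : B) {m n : ℕ} (h : m ≤ n) :
    (B ⧸ Ideal.span {τ ^ n}) →ₐ[k] B ⧸ Ideal.span {τ ^ m} :=
  Ideal.Quotient.factorₐ k (Ideal.span_singleton_le_span_singleton.mpr (pow_dvd_pow τ h))

theorem exists_sections (τ : B) (hτ : IsSMulRegular B τ) (e : (B ⧸ Ideal.span {τ}) ≃ₐ[k] B₀)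
    (hrig : Subsingleton (CotT.T1 (CotT.canon k B₀) B₀)) :
    ∀ n : ℕ, ∃ ι : B₀ →ₐ[k] B ⧸ Ideal.span {τ ^ (n + 1)},
      ∀ b y, Ideal.Quotient.mk _ y = ι b → e (Ideal.Quotient.mk _ y) = b := by
  intro n
  induction n with
  | zero =>
    have he : Ideal.span {τ} = Ideal.span {τ ^ (0 + 1)} := by rw [zero_add, pow_one]
    refine ⟨(Ideal.quotientEquivAlgOfEq k he).toAlgHom.comp e.symm.toAlgHom, fun b y hy => ?_⟩
    obtain ⟨z, hz⟩ := Ideal.Quotient.mk_surjective (e.symm b)
    have hy' : Ideal.Quotient.mk (Ideal.span {τ ^ (0 + 1)}) y = Ideal.Quotient.mk _ z := by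
      rw [hy]
      show Ideal.quotientEquivAlgOfEq k he (e.symm b) = _
      rw [← hz]
      rfl
    have hmem : y - z ∈ Ideal.span {τ} := by
      have := Ideal.Quotient.eq.mp hy'
      rwa [zero_add, pow_one] at this
    rw [Ideal.Quotient.eq.mpr hmem, hz, e.apply_symm_apply]
  | succ n ih =>
    obtain ⟨ι, hι⟩ := ih
    let T := B ⧸ Ideal.span {τ ^ (n + 1 + 1)}
    let r : T →ₐ[k] B ⧸ Ideal.span {τ ^ (n + 1)} := red τ (Nat.le_succ _)
    let E : Subalgebra k (T × B₀) :=
      AlgHom.equalizer (r.comp (AlgHom.fst k T B₀)) (ι.comp (AlgHom.snd k T B₀))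
    let m : (B ⧸ Ideal.span {τ}) →ₗ[B] T :=
      Submodule.mapQ _ _ (LinearMap.mulLeft B (τ ^ (n + 1))) (by
        intro z hz
        obtain ⟨c, rfl⟩ := Ideal.mem_span_singleton'.mp hz
        exact Ideal.mem_span_singleton'.mpr ⟨c, show c * τ ^ (n + 1 + 1) = τ ^ (n + 1) * (c * τ) by ring⟩)
    have hm : ∀ z, m (Ideal.Quotient.mk _ z) = Ideal.Quotient.mk _ (τ ^ (n + 1) * z) := fun z => rfl
    have hrm : ∀ z, r (m z) = 0 := fun z => by
      obtain ⟨z, rfl⟩ := Ideal.Quotient.mk_surjective z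
      rw [hm]
      exact Ideal.Quotient.eq_zero_iff_mem.mpr (Ideal.mul_mem_right _ _ (Ideal.mem_span_singleton_self _))
    let incl : B₀ →+ E :=
      { toFun := fun b => ⟨(m (e.symm b), 0), by
          show r (m (e.symm b)) = ι 0
          rw [hrm, map_zero]⟩
        map_zero' := Subtype.ext (by simp)
        map_add' := fun b b' => Subtype.ext (by simp) }
    have hreg : ∀ z, τ ^ (n + 1) * z ∈ Ideal.span {τ ^ (n + 1 + 1)} → z ∈ Ideal.span {τ} := by
      intro z hz
      obtain ⟨c, hc⟩ := Ideal.mem_span_singleton'.mp hz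
      refine Ideal.mem_span_singleton'.mpr ⟨c, (hτ.pow (n + 1)) ?_⟩
      show τ ^ (n + 1) * (c * τ) = τ ^ (n + 1) * z
      rw [← hc]; ring
    have hext : Exal.IsExtension ((AlgHom.snd k T B₀).comp E.val) incl := by
      refine ⟨fun b => ?_, fun b b' h => ?_, fun x => ?_, fun x z => ?_⟩
      · obtain ⟨y, hy⟩ := Ideal.Quotient.mk_surjective (ι b)
        exact ⟨⟨(Ideal.Quotient.mk _ y, b), hy⟩, rfl⟩
      · have h1 : m (e.symm b) = m (e.symm b') := congrArg (fun x : E => (x : T × B₀).1) h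
        obtain ⟨z, hz⟩ := Ideal.Quotient.mk_surjective (e.symm b)
        obtain ⟨z', hz'⟩ := Ideal.Quotient.mk_surjective (e.symm b')
        rw [← hz, ← hz', hm, hm, Ideal.Quotient.eq, ← mul_sub] at h1
        apply e.symm.injective
        rw [← hz, ← hz', Ideal.Quotient.eq]
        exact hreg _ h1
      · obtain ⟨⟨x, b⟩, hx⟩ := x
        constructor
        · intro h0
          change b = 0 at h0
          subst h0
          obtain ⟨y, rfl⟩ := Ideal.Quotient.mk_surjective x
          have hy : r (Ideal.Quotient.mk _ y) = 0 := hx.trans (map_zero ι)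
          obtain ⟨c, hc⟩ := Ideal.mem_span_singleton'.mp (Ideal.Quotient.eq_zero_iff_mem.mp hy)
          refine ⟨e (Ideal.Quotient.mk _ c), Subtype.ext (Prod.ext ?_ rfl)⟩
          show m (e.symm _) = _
          rw [e.symm_apply_apply, hm]
          exact congrArg (Ideal.Quotient.mk _) ((mul_comm _ _).trans hc)
        · rintro ⟨z, hz⟩
          rw [← hz]
          rfl
      · obtain ⟨⟨x, b⟩, hx⟩ := x
        refine Subtype.ext (Prod.ext ?_ (by simp [incl]))
        obtain ⟨y, rfl⟩ := Ideal.Quotient.mk_surjective x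
        obtain ⟨c, hc⟩ := Ideal.Quotient.mk_surjective (e.symm z)
        show Ideal.Quotient.mk _ y * m (e.symm z) = m (e.symm (b • z))
        have hb : e.symm (b • z) = Ideal.Quotient.mk _ (y * c) := by
          rw [smul_eq_mul, map_mul, ← hc, map_mul]
          congr 1
          rw [← hι b y hx, e.symm_apply_apply]
        rw [hb, ← hc, hm, hm, ← map_mul]
        congr 1
        ring
    let X : Exal.Ext k B₀ B₀ := { E := E, proj := _, incl := incl, isExtension := hext }
    obtain ⟨ψ, hψ⟩ := Groth.ArtfunDeform.exists_repBy (CotT.canon k B₀) X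
    obtain ⟨f, hf, hf0⟩ := hψ.of_homToT1_eq (ψ' := 0) (Subsingleton.elim _ _)
    let P := (CotT.canon k B₀).toExtension
    have hker : ∀ a b, algebraMap P.Ring B₀ a = algebraMap P.Ring B₀ b → f a = f b := fun a b h => by
      have := hf0 ⟨a - b, show algebraMap P.Ring B₀ (a - b) = 0 by rw [map_sub, h, sub_self]⟩
      rw [LinearMap.zero_apply, map_zero] at this
      exact sub_eq_zero.mp ((map_sub f a b).symm.trans this)
    have hσ : ∀ b, algebraMap P.Ring B₀ (P.σ b) = b := P.algebraMap_σ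
    let s : B₀ →ₐ[k] E :=
      { toFun := fun b => f (P.σ b)
        map_one' := (hker _ 1 (by rw [hσ, map_one])).trans (map_one f)
        map_mul' := fun a b => (hker _ (P.σ a * P.σ b) (by rw [hσ, map_mul, hσ, hσ])).trans (map_mul f _ _)
        map_zero' := (hker _ 0 (by rw [hσ, map_zero])).trans (map_zero f)
        map_add' := fun a b => (hker _ (P.σ a + P.σ b) (by rw [hσ, map_add, hσ, hσ])).trans (map_add f _ _)
        commutes' := fun c => (hker _ (algebraMap k P.Ring c)
          (by rw [hσ, ← IsScalarTower.algebraMap_apply])).trans (f.commutes c) }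
    refine ⟨((AlgHom.fst k T B₀).comp E.val).comp s, fun b y hy => ?_⟩
    have hs : ((s b : E) : T × B₀).2 = b := (hf (P.σ b)).trans (hσ b)
    have hE : r ((s b : E) : T × B₀).1 = ι ((s b : E) : T × B₀).2 := (s b).2
    rw [hs] at hE
    refine hι b y (Eq.trans ?_ hE)
    rw [show ((s b : E) : T × B₀).1 = Ideal.Quotient.mk _ y from hy.symm]
    rfl

/-- A smoothing of order `N`. -/
theorem exists_derivation [IsNoetherianRing A] {m : ℕ} (π : MvPolynomial (Fin m) A →ₐ[A] B)
    (hπ : Function.Surjective π) (t : A) [Algebra.FormallySmooth A (Localization.Away (algebraMap A B t))] :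
    ∃ (N : ℕ) (D : Derivation A (MvPolynomial (Fin m) A) (RingHom.ker π.toRingHom).Cotangent),
      ∀ i : RingHom.ker π.toRingHom, D (i : MvPolynomial (Fin m) A) =
        algebraMap A (MvPolynomial (Fin m) A) t ^ N • (RingHom.ker π.toRingHom).toCotangent i := by
  classical
  let P := MvPolynomial (Fin m) A
  let I : Ideal P := RingHom.ker π.toRingHom
  let P2 := P ⧸ I ^ 2
  let τ : P := algebraMap A P t
  let T : P2 := Ideal.Quotient.mk (I ^ 2) τ
  let Q := Localization.Away T
  let Bt := Localization.Away (algebraMap A B t)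
  let π2 : P2 →ₐ[A] B := Ideal.Quotient.liftₐ (I ^ 2) π fun a ha => Ideal.pow_le_self two_ne_zero ha
  have hπT : π2 T = algebraMap A B t := π.commutes t
  have hFu : IsUnit ((algebraMap B Bt).comp π2.toRingHom T) := by
    rw [RingHom.comp_apply, show π2.toRingHom T = algebraMap A B t from hπT]
    exact IsLocalization.Away.algebraMap_isUnit _
  let F : Q →ₐ[A] Bt :=
    { IsLocalization.Away.lift T (g := (algebraMap B Bt).comp π2.toRingHom) hFu with
      commutes' := fun a => by
        rw [IsScalarTower.algebraMap_apply A P2 Q]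
        show IsLocalization.Away.lift T hFu (algebraMap P2 Q _) = _
        rw [IsLocalization.Away.lift_eq, RingHom.comp_apply, IsScalarTower.algebraMap_apply A B Bt]
        exact congrArg _ (π2.commutes a) }
  have hF : ∀ z, F (algebraMap P2 Q z) = algebraMap B Bt (π2 z) := fun z => IsLocalization.Away.lift_eq _ hFu z
  have hFs : Function.Surjective F := by
    intro z
    obtain ⟨j, b, hb⟩ := IsLocalization.Away.surj (algebraMap A B t) z
    obtain ⟨p, rfl⟩ := hπ b
    have hu : IsUnit (algebraMap P2 Q T) := IsLocalization.Away.algebraMap_isUnit T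
    refine ⟨algebraMap P2 Q (Ideal.Quotient.mk _ p) * ↑(hu.unit⁻¹) ^ j, ?_⟩
    refine ((IsLocalization.Away.algebraMap_isUnit (S := Bt) (algebraMap A B t)).pow j).mul_left_injective ?_
    have hu2 : F (algebraMap P2 Q T) = algebraMap B Bt (algebraMap A B t) := (hF T).trans (congrArg _ hπT)
    show F _ * algebraMap B Bt (algebraMap A B t) ^ j = z * algebraMap B Bt (algebraMap A B t) ^ j
    rw [hb, ← hu2, ← map_pow, ← map_mul, mul_assoc, ← mul_pow, IsUnit.val_inv_mul, one_pow, mul_one, hF]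
    rfl
  -- kernel
  have hker : ∀ z : Q, F z = 0 → ∃ (j : ℕ) (w : P), w ∈ I ∧
      z * algebraMap P2 Q T ^ j = algebraMap P2 Q (Ideal.Quotient.mk _ w) := by
    intro z hz
    obtain ⟨j, y, hy⟩ := IsLocalization.Away.surj T z
    obtain ⟨p, rfl⟩ := Ideal.Quotient.mk_surjective y
    have h0 : algebraMap B Bt (π p) = 0 := by
      have := congrArg F hy
      rw [map_mul, hz, zero_mul, hF] at this
      exact this.symm
    obtain ⟨⟨_, i, rfl⟩, hi⟩ := (IsLocalization.map_eq_zero_iff (Submonoid.powers (algebraMap A B t)) Bt _).mp h0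
    refine ⟨j + i, τ ^ i * p, ?_, ?_⟩
    · show π (τ ^ i * p) = 0
      rw [map_mul, map_pow, show π τ = algebraMap A B t from π.commutes t]
      exact hi
    · rw [pow_add, ← mul_assoc, hy, map_mul, map_mul, map_pow, map_pow, mul_comm]
  have hsq : ∀ z w : Q, F z = 0 → F w = 0 → z * w = 0 := by
    intro z w hz hw
    obtain ⟨j, a, ha, hza⟩ := hker z hz
    obtain ⟨j', b, hb, hwb⟩ := hker w hw
    refine ((IsLocalization.Away.algebraMap_isUnit (S := Q) T).pow (j + j')).mul_left_injective ?_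
    show z * w * algebraMap P2 Q T ^ (j + j') = 0 * algebraMap P2 Q T ^ (j + j')
    rw [pow_add, mul_mul_mul_comm, hza, hwb, ← map_mul, ← map_mul, zero_mul,
      Ideal.Quotient.eq_zero_iff_mem.mpr (pow_two I ▸ Ideal.mul_mem_mul ha hb), map_zero]
  have hnil : IsNilpotent (RingHom.ker (F : Q →+* Bt)) := by
    refine ⟨2, eq_bot_iff.mpr ?_⟩
    rw [pow_two (RingHom.ker (F : Q →+* Bt)), Ideal.mul_le]
    exact fun a ha b hb => (hsq a b ha hb)
  let s : Bt →ₐ[A] Q := Algebra.FormallySmooth.liftOfSurjective (AlgHom.id A Bt) F hFs hnil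
  have hs : ∀ z, F (s z) = z := fun z =>
    Algebra.FormallySmooth.liftOfSurjective_apply (AlgHom.id A Bt) F hFs hnil z
  let ρ : P →ₐ[A] Q := (IsScalarTower.toAlgHom A P2 Q).comp (Ideal.Quotient.mkₐ A (I ^ 2))
  let σ' : P →ₐ[A] Q := (s.comp (IsScalarTower.toAlgHom A B Bt)).comp π
  have hρ : ∀ p, algebraMap P Q p = ρ p := fun p => rfl
  have hFρ : ∀ p, F (ρ p) = algebraMap B Bt (π p) := fun p => hF _
  have hFσ : ∀ p, F (σ' p) = algebraMap B Bt (π p) := fun p => hs _
  let D₁ : Derivation A P Q := Derivation.mk' (ρ.toLinearMap - σ'.toLinearMap) (fun a b => by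
    show ρ (a * b) - σ' (a * b) = a • (ρ b - σ' b) + b • (ρ a - σ' a)
    rw [Algebra.smul_def a, Algebra.smul_def b, hρ, hρ]
    have h2 : (ρ a - σ' a) * (ρ b - σ' b) = 0 :=
      hsq _ _ (by rw [map_sub, hFρ, hFσ, sub_self]) (by rw [map_sub, hFρ, hFσ, sub_self])
    rw [map_mul, map_mul]
    linear_combination (-1 : Q) * h2)
  -- clear denominators
  have hgen : ∀ j : Fin m, ∃ (a : ℕ) (c : I), algebraMap P2 Q T ^ a * D₁ (MvPolynomial.X j) =
      algebraMap P2 Q (Ideal.Quotient.mk _ (c : P)) := by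
    intro j
    obtain ⟨a, w, hw, haw⟩ := hker (D₁ (MvPolynomial.X j)) (by
      show F (ρ _ - σ' _) = 0
      rw [map_sub, hFρ, hFσ, sub_self])
    exact ⟨a, ⟨w, hw⟩, by rw [mul_comm]; exact haw⟩
  choose a c hc using hgen
  let N₀ := Finset.univ.sup a
  let D₀ : Derivation A P I.Cotangent :=
    MvPolynomial.mkDerivation A fun j => I.toCotangent (τ ^ (N₀ - a j) • c j)
  let θ : I.Cotangent →ₗ[P] Q :=
    (Algebra.linearMap P2 Q).restrictScalars P ∘ₗ I.cotangentToQuotientSquare
  have hθ : ∀ i : I, θ (I.toCotangent i) = ρ (i : P) := fun i => rfl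
  have hcomp : θ.compDer D₀ = (τ ^ N₀ : P) • D₁ := by
    refine MvPolynomial.derivation_ext fun j => ?_
    rw [compDer_apply', MvPolynomial.mkDerivation_X, hθ, Derivation.smul_apply, Algebra.smul_def]
    show ρ (τ ^ (N₀ - a j) * (c j : P)) = ρ (τ ^ N₀) * D₁ (MvPolynomial.X j)
    rw [map_mul, map_pow, map_pow]
    show algebraMap P2 Q T ^ (N₀ - a j) * algebraMap P2 Q (Ideal.Quotient.mk _ (c j : P)) = _
    rw [← hc, ← mul_assoc, ← pow_add, Nat.sub_add_cancel (Finset.le_sup (Finset.mem_univ j))]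
    rfl
  have hI : ∀ i : I, θ (D₀ (i : P)) = θ (τ ^ N₀ • I.toCotangent i) := by
    intro i
    have hi : θ (D₀ (i : P)) = (τ ^ N₀ : P) • D₁ (i : P) := DFunLike.congr_fun hcomp (i : P)
    rw [hi, map_smul, hθ, Algebra.smul_def, Algebra.smul_def]
    show ρ (τ ^ N₀) * (ρ i - σ' i) = ρ (τ ^ N₀) * ρ i
    rw [show σ' (i : P) = s (algebraMap B Bt (π i)) from rfl, show π (i : P) = 0 from i.2, map_zero, map_zero, sub_zero]
  have hθker : ∀ z : I.Cotangent, θ z = 0 → ∃ b : ℕ, τ ^ b • z = 0 := by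
    intro z hz
    obtain ⟨⟨_, b, rfl⟩, hb⟩ := (IsLocalization.map_eq_zero_iff (Submonoid.powers T) Q _).mp hz
    refine ⟨b, I.cotangentToQuotientSquare_injective ?_⟩
    rw [map_smul, map_zero, Algebra.smul_def, map_pow]
    exact hb
  obtain ⟨G, hG⟩ : I.FG := IsNoetherian.noetherian I
  have hGmem : ∀ g ∈ G, g ∈ I := fun g hg => hG ▸ Submodule.subset_span hg
  choose b hb using fun g : {g // g ∈ G} =>
    hθker (D₀ g.1 - τ ^ N₀ • I.toCotangent ⟨g.1, hGmem _ g.2⟩) (by
      rw [map_sub, hI ⟨g.1, hGmem _ g.2⟩, sub_self])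
  let N₁ := Finset.univ.sup b
  refine ⟨N₁ + N₀, (τ ^ N₁ : P) • D₀, fun i => ?_⟩
  show τ ^ N₁ • D₀ (i : P) = τ ^ (N₁ + N₀) • I.toCotangent i
  obtain ⟨i, hi⟩ := i
  have hspan : i ∈ Ideal.span (G : Set P) := hG.symm ▸ hi
  suffices h : ∀ hi : i ∈ I, τ ^ N₁ • D₀ i = τ ^ (N₁ + N₀) • I.toCotangent ⟨i, hi⟩ from h hi
  clear hi
  induction hspan using Submodule.span_induction with
  | mem g hg =>
    intro hi
    have hle : b ⟨g, hg⟩ ≤ N₁ := Finset.le_sup (f := b) (Finset.mem_univ _)
    have h := congrArg (τ ^ (N₁ - b ⟨g, hg⟩) • ·) (hb ⟨g, hg⟩)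
    simp only [smul_zero, smul_sub, smul_smul, ← pow_add, ← add_assoc, sub_eq_zero,
      Nat.sub_add_cancel hle] at h
    exact h
  | zero => intro hi; simp [show (⟨0, hi⟩ : I) = 0 from rfl]
  | add x y hx hy ihx ihy =>
    intro hi
    have hxI : x ∈ I := hG ▸ hx
    have hyI : y ∈ I := hG ▸ hy
    rw [show (⟨x + y, hi⟩ : I) = ⟨x, hxI⟩ + ⟨y, hyI⟩ from rfl, map_add, map_add, smul_add, smul_add, ihx hxI, ihy hyI]
  | smul q x hx ihx =>
    intro hi
    have hxI : x ∈ I := hG ▸ hx
    have hxz : ∀ z : I.Cotangent, x • z = 0 := fun z => Ideal.Cotangent.smul_eq_zero_of_mem hxI z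
    rw [show (⟨q • x, hi⟩ : I) = q • ⟨x, hxI⟩ from rfl, smul_eq_mul, Derivation.leibniz, hxz, add_zero, map_smul,
      smul_comm, ihx hxI, smul_comm]

theorem formallySmooth_fibre [IsDomain A] [IsNoetherianRing A] [Module.Flat A B] [Algebra.FiniteType A B]
    (t : A) (ht : ∀ a : A, ∃ c : k, a - algebraMap k A c ∈ Ideal.span {t}) (ht' : ¬ IsUnit t) (ht0 : t ≠ 0)
    (e : (B ⧸ Ideal.span {algebraMap A B t}) ≃ₐ[k] B₀) [Algebra.FormallySmooth A (Localization.Away (algebraMap A B t))]
    (hrig : Subsingleton (CotT.T1 (CotT.canon k B₀) B₀)) : Algebra.FormallySmooth k B₀ := by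
  classical
  obtain ⟨m, π, hπ⟩ := Algebra.FiniteType.iff_quotient_mvPolynomial''.mp (inferInstance : Algebra.FiniteType A B)
  obtain ⟨N, D, hD⟩ := exists_derivation π hπ t
  set τ := algebraMap A B t with hτdef
  have hτ : IsSMulRegular B τ := by
    intro x y h
    have hreg : IsSMulRegular A t := fun a b h => mul_left_cancel₀ ht0 h
    exact (hreg.of_flat (S := B)) (by simpa [τ] using h)
  obtain ⟨ι, hι⟩ := exists_sections τ hτ e hrig N
  let Bn := B ⧸ Ideal.span {τ ^ (N + 1)}
  let An := A ⧸ Ideal.span {t ^ (N + 1)}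
  let tb : An := Ideal.Quotient.mk _ t
  let jA : An →ₐ[k] Bn :=
    Ideal.quotientMapₐ _ (IsScalarTower.toAlgHom k A B) (by
      rw [Ideal.span_le, Set.singleton_subset_iff]
      show algebraMap A B (t ^ (N + 1)) ∈ Ideal.span {τ ^ (N + 1)}
      rw [map_pow]
      exact Ideal.mem_span_singleton_self _)
  let Ξ : B₀ ⊗[k] An →ₐ[k] Bn := Algebra.TensorProduct.lift ι jA fun _ _ => Commute.all _ _
  -- spanned by powers
  have hdig : ∀ (n : ℕ) (z : B₀ ⊗[k] An), ∃ (b : ℕ → B₀) (w : B₀ ⊗[k] An),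
      z = (∑ j ∈ Finset.range n, b j ⊗ₜ[k] (tb ^ j)) + (1 ⊗ₜ[k] (tb ^ n)) * w := by
    intro n
    induction n with
    | zero => exact fun z => ⟨0, z, by simp [← Algebra.TensorProduct.one_def]⟩
    | succ n ih =>
      intro z
      obtain ⟨b, w, rfl⟩ := ih z
      have hw : ∃ (b₁ : B₀) (w' : B₀ ⊗[k] An), w = b₁ ⊗ₜ[k] (1 : An) + (1 ⊗ₜ[k] tb) * w' := by
        clear * - ht
        induction w using TensorProduct.induction_on with
        | zero => exact ⟨0, 0, by simp⟩
        | add u v hu hv =>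
          obtain ⟨b₁, u', rfl⟩ := hu
          obtain ⟨b₂, v', rfl⟩ := hv
          exact ⟨b₁ + b₂, u' + v', by rw [add_tmul, mul_add]; abel⟩
        | tmul b a =>
          obtain ⟨a, rfl⟩ := Ideal.Quotient.mk_surjective a
          obtain ⟨c, hc⟩ := ht a
          obtain ⟨d, hd⟩ := Ideal.mem_span_singleton'.mp hc
          refine ⟨c • b, b ⊗ₜ Ideal.Quotient.mk _ d, ?_⟩
          rw [Algebra.TensorProduct.tmul_mul_tmul, one_mul, smul_tmul, ← tmul_add]
          congr 1
          show _ = c • (1 : An) + Ideal.Quotient.mk _ t * Ideal.Quotient.mk _ d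
          rw [Algebra.smul_def, mul_one, ← map_mul, mul_comm t, hd, IsScalarTower.algebraMap_apply k A An,
            ← Ideal.Quotient.mk_algebraMap, ← map_add]
          simp
      obtain ⟨b₁, w', rfl⟩ := hw
      refine ⟨Function.update b n b₁, w', ?_⟩
      have hup : ∀ j ∈ Finset.range n, Function.update b n b₁ j ⊗ₜ[k] (tb ^ j) = b j ⊗ₜ[k] (tb ^ j) :=
        fun j hj => congrArg (fun x => x ⊗ₜ[k] (tb ^ j)) (Function.update_of_ne (Finset.mem_range.mp hj).ne _ _)
      rw [Finset.sum_range_succ, Function.update_self, Finset.sum_congr rfl hup, mul_add,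
        ← mul_assoc, Algebra.TensorProduct.tmul_mul_tmul, Algebra.TensorProduct.tmul_mul_tmul, one_mul, one_mul,
        mul_one, ← pow_succ, add_assoc]
  have htbN : tb ^ (N + 1) = 0 := by
    rw [← map_pow]
    exact Ideal.Quotient.eq_zero_iff_mem.mpr (Ideal.mem_span_singleton_self _)
  have hΞinj : Function.Injective Ξ := by
    rw [injective_iff_map_eq_zero]
    intro z hz
    obtain ⟨b, w, rfl⟩ := hdig (N + 1) z
    rw [htbN, tmul_zero, zero_mul, add_zero] at hz ⊢
    choose y hy using fun j => Ideal.Quotient.mk_surjective (ι (b j))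
    have hsum : ∑ j ∈ Finset.range (N + 1), y j * τ ^ j ∈ Ideal.span {τ ^ (N + 1)} := by
      rw [← Ideal.Quotient.eq_zero_iff_mem, map_sum, ← hz, map_sum]
      refine Finset.sum_congr rfl fun j _ => ?_
      rw [Algebra.TensorProduct.lift_tmul, map_mul, hy, map_pow, map_pow]
      rfl
    suffices h : ∀ j ∈ Finset.range (N + 1), b j = 0 from
      Finset.sum_eq_zero fun j hj => by rw [h j hj, zero_tmul]
    intro j
    induction j using Nat.strong_induction_on with
    | _ j ih =>
      intro hj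
      have hlow : ∀ l ∈ Finset.range j, y l * τ ^ l ∈ Ideal.span {τ ^ (N + 1)} := fun l hl => by
        refine Ideal.mul_mem_right _ _ ?_
        rw [← Ideal.Quotient.eq_zero_iff_mem, hy,
          ih l (Finset.mem_range.mp hl) (Finset.mem_range.mpr ((Finset.mem_range.mp hl).trans (Finset.mem_range.mp hj))),
          map_zero]
      have hhigh : ∀ l ∈ Finset.Ico (j + 1) (N + 1), y l * τ ^ l ∈ Ideal.span {τ ^ (j + 1)} := fun l hl =>
        Ideal.mul_mem_left _ _ (Ideal.mem_span_singleton.mpr (pow_dvd_pow τ (Finset.mem_Ico.mp hl).1))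
      have hle : Ideal.span {τ ^ (N + 1)} ≤ Ideal.span {τ ^ (j + 1)} :=
        Ideal.span_singleton_le_span_singleton.mpr (pow_dvd_pow τ (Finset.mem_range.mp hj))
      have hjmem : y j * τ ^ j ∈ Ideal.span {τ ^ (j + 1)} := by
        have h1 := hle hsum
        rw [← Finset.sum_range_add_sum_Ico _ (Finset.mem_range.mp hj).le,
          Finset.sum_eq_sum_Ico_succ_bot (Finset.mem_range.mp hj)] at h1
        have h2 := (Ideal.add_mem_iff_right _ (sum_mem fun l hl => hle (hlow l hl))).mp h1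
        exact (Ideal.add_mem_iff_left _ (sum_mem hhigh)).mp h2
      obtain ⟨c, hc⟩ := Ideal.mem_span_singleton'.mp hjmem
      have hyj : y j = c * τ := (hτ.pow j) (show τ ^ j * y j = τ ^ j * (c * τ) by
        rw [mul_comm, ← hc]; ring)
      rw [← hι (b j) (y j) (hy j), hyj, Ideal.Quotient.eq_zero_iff_mem.mpr
        (Ideal.mul_mem_left _ c (Ideal.mem_span_singleton_self τ)), map_zero]
  have hB : ∀ (n : ℕ) (z : B), ∃ w, Ξ w - Ideal.Quotient.mk _ z ∈ Ideal.span {(Ideal.Quotient.mk (Ideal.span {τ ^ (N + 1)}) τ) ^ n} := by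
    intro n
    induction n with
    | zero => exact fun z => ⟨0, by simp⟩
    | succ n ih =>
      intro z
      obtain ⟨y, hy⟩ := Ideal.Quotient.mk_surjective (ι (e (Ideal.Quotient.mk _ z)))
      have h0 : y - z ∈ Ideal.span {τ} := Ideal.Quotient.eq.mp (e.injective (hι _ y hy))
      obtain ⟨d, hd⟩ := Ideal.mem_span_singleton'.mp h0
      obtain ⟨w, hw⟩ := ih d
      obtain ⟨c, hc⟩ := Ideal.mem_span_singleton'.mp hw
      refine ⟨e (Ideal.Quotient.mk _ z) ⊗ₜ[k] 1 - (1 ⊗ₜ[k] tb) * w, Ideal.mem_span_singleton'.mpr ⟨-c, ?_⟩⟩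
      have h1 : Ξ (1 ⊗ₜ[k] tb) = Ideal.Quotient.mk _ τ := by
        rw [Algebra.TensorProduct.lift_tmul, map_one, one_mul]; rfl
      have hc' : Ξ w = c * Ideal.Quotient.mk _ τ ^ n + Ideal.Quotient.mk _ d := by rw [hc, sub_add_cancel]
      rw [map_sub, map_mul, h1, Algebra.TensorProduct.lift_tmul, map_one, mul_one, ← hy, hc']
      have h2 : Ideal.Quotient.mk (Ideal.span {τ ^ (N + 1)}) y = Ideal.Quotient.mk _ z + Ideal.Quotient.mk _ d * Ideal.Quotient.mk _ τ := by
        rw [← map_mul, hd, ← map_add, add_sub_cancel]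
      rw [h2, pow_succ (Ideal.Quotient.mk (Ideal.span {τ ^ (N + 1)}) τ) n]
      ring
  have hΞsurj : Function.Surjective Ξ := by
    intro z
    obtain ⟨z, rfl⟩ := Ideal.Quotient.mk_surjective z
    obtain ⟨w, hw⟩ := hB (N + 1) z
    have h0 : (Ideal.Quotient.mk (Ideal.span {τ ^ (N + 1)}) τ) ^ (N + 1) = 0 :=
      (map_pow (Ideal.Quotient.mk (Ideal.span {τ ^ (N + 1)})) τ (N + 1)).symm.trans
        (Ideal.Quotient.eq_zero_iff_mem.mpr (Ideal.mem_span_singleton_self _))
    rw [h0, Ideal.span_singleton_eq_bot.mpr rfl, Ideal.mem_bot, sub_eq_zero] at hw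
    exact ⟨w, hw⟩
  let Θ := (AlgEquiv.ofBijective Ξ ⟨hΞinj, hΞsurj⟩).symm
  have hΘι : ∀ b, Θ (ι b) = b ⊗ₜ[k] 1 := fun b => by
    rw [AlgEquiv.symm_apply_eq]
    show ι b = Ξ (b ⊗ₜ 1)
    rw [Algebra.TensorProduct.lift_tmul, map_one, mul_one]
  -- the test extension
  let P₀ := MvPolynomial B₀ k
  let q : P₀ →ₐ[k] B₀ := MvPolynomial.aeval id
  have hq : Function.Surjective q := fun b => ⟨MvPolynomial.X b, MvPolynomial.aeval_X _ _⟩
  let J₀ : Ideal P₀ := RingHom.ker q.toRingHom
  let R₀ := P₀ ⧸ J₀ ^ 2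
  let p : R₀ →ₐ[k] B₀ := q.kerSquareLift
  have hp : Function.Surjective p := fun b => ⟨Ideal.Quotient.mk _ (MvPolynomial.X b), MvPolynomial.aeval_X _ _⟩
  have hpp : ∀ u v : R₀, p u = 0 → p v = 0 → u * v = 0 := by
    intro u v hu hv
    obtain ⟨u, rfl⟩ := Ideal.Quotient.mk_surjective u
    obtain ⟨v, rfl⟩ := Ideal.Quotient.mk_surjective v
    rw [← map_mul, Ideal.Quotient.eq_zero_iff_mem, pow_two]
    exact Ideal.mul_mem_mul hu hv
  let R := R₀ ⊗[k] An
  let pr : R →ₐ[k] B₀ ⊗[k] An := Algebra.TensorProduct.map p (AlgHom.id k An)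
  have hpr : Function.Surjective pr :=
    Algebra.TensorProduct.map_surjective p (AlgHom.id k An) hp Function.surjective_id
  have hprp : ∀ u v : R, pr u = 0 → pr v = 0 → u * v = 0 := by
    exact tensor_sq_zero p hp hpp
  let _ : Algebra A R := RingHom.toAlgebra (R := A) (S := R)
    ((Algebra.TensorProduct.includeRight : An →ₐ[k] R).toRingHom.comp (Ideal.Quotient.mk (Ideal.span {t ^ (N + 1)})))
  choose l hl using fun j : Fin m => hpr (Θ (Ideal.Quotient.mk _ (π (MvPolynomial.X j))))
  let g : MvPolynomial (Fin m) A →ₐ[A] R := MvPolynomial.aeval l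
  have hg : ∀ x, pr (g x) = Θ (Ideal.Quotient.mk _ (π x)) := by
    intro x
    induction x using MvPolynomial.induction_on with
    | C a =>
      rw [show g (MvPolynomial.C a) = algebraMap A R a from MvPolynomial.aeval_C _ a,
        show π (MvPolynomial.C a) = algebraMap A B a from π.commutes a]
      show pr (1 ⊗ₜ[k] Ideal.Quotient.mk _ a) = _
      rw [Algebra.TensorProduct.map_tmul, map_one, AlgEquiv.eq_symm_apply]
      show Ξ (1 ⊗ₜ[k] Ideal.Quotient.mk _ a) = _
      rw [Algebra.TensorProduct.lift_tmul, map_one, one_mul]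
      rfl
    | add u v hu hv => simp only [map_add, hu, hv]
    | mul_X u j hu => simp only [map_mul, hu, g, MvPolynomial.aeval_X, hl]
  let _ : Algebra (MvPolynomial (Fin m) A) R := RingHom.toAlgebra (R := MvPolynomial (Fin m) A) (S := R) g.toRingHom
  have : IsScalarTower A (MvPolynomial (Fin m) A) R := IsScalarTower.of_algebraMap_eq fun a => (g.commutes a).symm
  let I : Ideal (MvPolynomial (Fin m) A) := RingHom.ker π.toRingHom
  have hgI : ∀ i ∈ I, pr (g i) = 0 := fun i hi => by
    rw [hg, show π i = 0 from hi, map_zero, map_zero]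
  let γ₀ : I →ₗ[MvPolynomial (Fin m) A] R := (Algebra.linearMap _ R) ∘ₗ I.subtype
  let γ : I.Cotangent →ₗ[MvPolynomial (Fin m) A] R := Submodule.liftQ _ γ₀ (by
    rw [Submodule.smul_le]
    intro a ha z _
    rw [LinearMap.mem_ker, map_smul, Algebra.smul_def]
    exact hprp _ _ (hgI a ha) (hgI z.1 z.2))
  let d := γ.compDer D
  have hγ : ∀ i : I, γ (I.toCotangent i) = g i := fun i => rfl
  have hγK : ∀ z, pr (γ z) = 0 := fun z => by
    obtain ⟨i, rfl⟩ := I.toCotangent_surjective z
    rw [hγ]; exact hgI _ i.2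
  -- functionals
  let M₁ : Ideal A := Ideal.span {t}
  have hsurjk : Function.Surjective (Algebra.ofId k (A ⧸ M₁)) := fun z => by
    obtain ⟨a, rfl⟩ := Ideal.Quotient.mk_surjective z
    obtain ⟨c, hc⟩ := ht a
    exact ⟨c, (Ideal.Quotient.eq.mpr hc).symm⟩
  have : Nontrivial (A ⧸ M₁) :=
    Ideal.Quotient.nontrivial_iff.mpr fun h => ht' (Ideal.span_singleton_eq_top.mp h)
  let ek : k ≃ₐ[k] A ⧸ M₁ := AlgEquiv.ofBijective (Algebra.ofId k (A ⧸ M₁))
    ⟨(Algebra.ofId k (A ⧸ M₁)).toRingHom.injective, hsurjk⟩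
  let ε : An →ₐ[k] k := ek.symm.toAlgHom.comp
      (Ideal.Quotient.factorₐ k (Ideal.span_singleton_le_span_singleton.mpr (dvd_pow_self t (Nat.succ_ne_zero N))))
  have hεt : ε tb = 0 := by
    show ek.symm (Ideal.Quotient.mk M₁ t) = (0 : k)
    rw [Ideal.Quotient.eq_zero_iff_mem.mpr (Ideal.mem_span_singleton_self t), map_zero]
  have hne : tb ^ N ≠ 0 := by
    rw [← map_pow, Ne, Ideal.Quotient.eq_zero_iff_mem, Ideal.mem_span_singleton']
    rintro ⟨c, hc⟩
    refine ht' (IsUnit.of_mul_eq_one c (mul_left_cancel₀ (pow_ne_zero N ht0) ?_))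
    rw [mul_one]
    linear_combination hc
  obtain ⟨ψ', hψ'⟩ := LinearMap.exists_extend
    ((LinearEquiv.toSpanNonzeroSingleton k An (tb ^ N) hne).symm.toLinearMap)
  have hc1 : ψ' (tb ^ N) = 1 := by
    have := LinearMap.congr_fun hψ' ⟨tb ^ N, Submodule.mem_span_singleton_self _⟩
    rw [LinearMap.comp_apply] at this
    refine this.trans ?_
    rw [LinearEquiv.coe_coe, LinearEquiv.symm_apply_eq]
    exact Subtype.ext (one_smul k _).symm
  let L : (An →ₗ[k] k) → R →ₗ[k] R₀ := fun f => (TensorProduct.rid k R₀).toLinearMap ∘ₗ LinearMap.lTensor R₀ f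
  have hL : ∀ f r a, L f (r ⊗ₜ[k] a) = f a • r := fun f r a => by
    show TensorProduct.rid k R₀ (LinearMap.lTensor R₀ f (r ⊗ₜ[k] a)) = _
    rw [LinearMap.lTensor_tmul, TensorProduct.rid_tmul]
  have hLl : ∀ f r z, L f ((r ⊗ₜ[k] 1) * z) = r * L f z := by
    intro f r z
    induction z using TensorProduct.induction_on with
    | zero => simp
    | add u v hu hv => simp [mul_add, hu, hv]
    | tmul r' a => rw [Algebra.TensorProduct.tmul_mul_tmul, one_mul, hL, hL, mul_smul_comm]
  have hpL : ∀ f (z : R), p (L f z) = TensorProduct.rid k B₀ (LinearMap.lTensor B₀ f (pr z)) := by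
    intro f z
    induction z using TensorProduct.induction_on with
    | zero => simp
    | add u v hu hv => simp [hu, hv]
    | tmul r' a => rw [hL, map_smul, Algebra.TensorProduct.map_tmul, LinearMap.lTensor_tmul, TensorProduct.rid_tmul]; rfl
  let εe : R →ₐ[k] R₀ := (Algebra.TensorProduct.rid k k R₀).toAlgHom.comp (Algebra.TensorProduct.map (AlgHom.id k R₀) ε)
  have hεL : ∀ z, εe z = L ε.toLinearMap z := fun z => by
    induction z using TensorProduct.induction_on with
    | zero => simp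
    | add u v hu hv => rw [map_add, map_add, hu, hv]
    | tmul r' a =>
      rw [hL]
      show Algebra.TensorProduct.rid k k R₀ (r' ⊗ₜ[k] ε a) = ε a • r'
      rw [Algebra.TensorProduct.rid_tmul]
  have hεψ : ∀ z : R, L ψ' ((1 ⊗ₜ[k] (tb ^ N)) * z) = εe z := by
    intro z
    induction z using TensorProduct.induction_on with
    | zero => simp
    | add u v hu hv => simp only [mul_add, map_add, hu, hv]
    | tmul r' a =>
      rw [Algebra.TensorProduct.tmul_mul_tmul, one_mul, hL, hεL, hL]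
      congr 1
      obtain ⟨a, rfl⟩ := Ideal.Quotient.mk_surjective a
      obtain ⟨c, hc⟩ := ht a
      obtain ⟨w, hw⟩ := Ideal.mem_span_singleton'.mp hc
      have ha : (Ideal.Quotient.mk (Ideal.span {t ^ (N + 1)}) a) = c • (1 : An) + tb * Ideal.Quotient.mk _ w := by
        rw [Algebra.smul_def, mul_one, IsScalarTower.algebraMap_apply k A An, ← Ideal.Quotient.mk_algebraMap, ← map_mul,
          ← map_add, mul_comm t, hw]
        simp
      show ψ' _ = ε _
      rw [ha, mul_add, mul_smul_comm, mul_one, ← mul_assoc, ← pow_succ, htbN, zero_mul, add_zero, map_smul, hc1,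
        map_add, map_smul, map_one, map_mul, hεt, zero_mul, add_zero]
  let Φ : MvPolynomial (Fin m) A → R₀ := fun x => εe (g x) - L ψ' (d x)
  have hΦadd : ∀ x y, Φ (x + y) = Φ x + Φ y := fun x y => by simp only [Φ, map_add]; abel
  have hΦsub : ∀ x y, Φ (x - y) = Φ x - Φ y := fun x y => by simp only [Φ, map_sub]; abel
  have hzero : ∀ x, Ideal.Quotient.mk (Ideal.span {τ ^ (N + 1)}) (π x) = 0 → Φ x = 0 := by
    intro x hx
    obtain ⟨c, hc⟩ := Ideal.mem_span_singleton'.mp (Ideal.Quotient.eq_zero_iff_mem.mp hx)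
    obtain ⟨c, rfl⟩ := hπ c
    have hi : x - t ^ (N + 1) • c ∈ I := by
      show π (x - t ^ (N + 1) • c) = 0
      rw [map_sub, map_smul, ← hc, Algebra.smul_def, map_pow, mul_comm, sub_self]
    have hsm : ∀ z : R, (t ^ (N + 1)) • z = 0 := fun z => by
      rw [Algebra.smul_def]
      show ((1 : R₀) ⊗ₜ[k] Ideal.Quotient.mk _ (t ^ (N + 1))) * z = 0
      rw [map_pow, show (Ideal.Quotient.mk (Ideal.span {t ^ (N + 1)})) t ^ (N + 1) = 0 from htbN, tmul_zero, zero_mul]
    have h1 : Φ (t ^ (N + 1) • c) = 0 := by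
      simp only [Φ, map_smul, Derivation.map_smul, hsm, map_zero, sub_zero]
    have h2 : Φ (x - t ^ (N + 1) • c) = 0 := by
      simp only [Φ, d, compDer_apply']
      rw [hD ⟨_, hi⟩, map_smul, hγ, Algebra.smul_def (algebraMap A (MvPolynomial (Fin m) A) t ^ N)]
      show εe _ - L ψ' (g (algebraMap A _ t ^ N) * _) = 0
      rw [map_pow, AlgHom.commutes]
      show εe _ - L ψ' (((1 : R₀) ⊗ₜ[k] tb) ^ N * _) = 0
      rw [Algebra.TensorProduct.tmul_pow, one_pow, hεψ, sub_self]
    rw [← sub_add_cancel x (t ^ (N + 1) • c), hΦadd, h1, h2, add_zero]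
  have hmk : Function.Surjective fun x => Ideal.Quotient.mk (Ideal.span {τ ^ (N + 1)}) (π x) :=
    Ideal.Quotient.mk_surjective.comp hπ
  choose σ hσ' using fun b => hmk (ι b)
  have hσ : ∀ b, Ideal.Quotient.mk (Ideal.span {τ ^ (N + 1)}) (π (σ b)) = ι b := hσ'
  have hwd : ∀ b x, Ideal.Quotient.mk _ (π x) = ι b → Φ x = Φ (σ b) := fun b x hx => by
    rw [← sub_eq_zero, ← hΦsub]
    exact hzero _ (by rw [map_sub, map_sub, hx]; exact sub_eq_zero.mpr (hσ b).symm)
  have hLK : ∀ f z, pr z = 0 → p (L f z) = 0 := fun f z hz => by simp [hpL, hz]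
  have hconst : ∀ b, pr (g (σ b)) = b ⊗ₜ[k] 1 := fun b => by rw [hg, hσ, hΘι]
  have hpΦ : ∀ b, p (Φ (σ b)) = b := fun b => by
    simp only [Φ, map_sub, hεL, hLK _ _ (hγK _), sub_zero, d, compDer_apply']
    rw [hpL, hconst, LinearMap.lTensor_tmul, TensorProduct.rid_tmul]
    show ε (1 : An) • b = b
    rw [map_one, one_smul]
  have hmul : ∀ b b', Φ (σ (b * b')) = Φ (σ b) * Φ (σ b') := by
    intro b b'
    rw [← hwd (b * b') (σ b * σ b') (by rw [map_mul, map_mul, map_mul, hσ b, hσ b'])]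
    have key : ∀ (c : B₀) (z : R), pr z = 0 → L ψ' (g (σ c) * z) = εe (g (σ c)) * L ψ' z := by
      intro c z hz
      obtain ⟨r, hr⟩ := hp c
      have h0 : pr (g (σ c) - r ⊗ₜ[k] 1) = 0 := by
        rw [map_sub, hconst, Algebra.TensorProduct.map_tmul, hr, map_one, sub_self]
      have h1 : (g (σ c) - r ⊗ₜ[k] 1) * z = 0 := hprp _ _ h0 hz
      rw [sub_mul, sub_eq_zero] at h1
      rw [h1, hLl]
      have h2 : p (εe (g (σ c)) - r) = 0 := by
        rw [map_sub, hεL, hpL, hconst, LinearMap.lTensor_tmul, TensorProduct.rid_tmul, hr]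
        show ε (1 : An) • c - c = 0
        rw [map_one, one_smul, sub_self]
      have h3 := hpp _ _ h2 (hLK ψ' z hz)
      rw [sub_mul, sub_eq_zero] at h3
      exact h3.symm
    have hdd : L ψ' (d (σ b)) * L ψ' (d (σ b')) = 0 := hpp _ _ (hLK _ _ (hγK _)) (hLK _ _ (hγK _))
    simp only [Φ, map_mul, Derivation.leibniz, map_add]
    rw [show (σ b) • d (σ b') = g (σ b) * d (σ b') from Algebra.smul_def _ _,
      show (σ b') • d (σ b) = g (σ b') * d (σ b) from Algebra.smul_def _ _,
      key b (d (σ b')) (hγK _), key b' (d (σ b)) (hγK _)]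
    linear_combination (-1 : R₀) * hdd
  have hAlg : ∀ c : k, Φ (σ (algebraMap k B₀ c)) = algebraMap k R₀ c := by
    intro c
    rw [← hwd _ (algebraMap A _ (algebraMap k A c)) (by
      rw [AlgHom.commutes, AlgHom.commutes, ← IsScalarTower.algebraMap_apply]; rfl)]
    simp only [Φ, Derivation.map_algebraMap, map_zero, sub_zero, AlgHom.commutes]
    show εe ((1 : R₀) ⊗ₜ[k] Ideal.Quotient.mk _ (algebraMap k A c)) = _
    rw [show Ideal.Quotient.mk (Ideal.span {t ^ (N + 1)}) (algebraMap k A c) = algebraMap k An c from rfl,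
      ← Algebra.TensorProduct.includeRight_apply, AlgHom.commutes, AlgHom.commutes]
  let sec : B₀ →ₐ[k] R₀ :=
    { toFun := fun b => Φ (σ b)
      map_one' := by rw [← map_one (algebraMap k B₀), hAlg, map_one]
      map_mul' := hmul
      map_zero' := by rw [← map_zero (algebraMap k B₀), hAlg, map_zero]
      map_add' := fun b b' => by
        rw [← hΦadd, hwd (b + b') (σ b + σ b') (by rw [map_add, map_add, map_add, hσ b, hσ b'])]
      commutes' := hAlg }
  exact Algebra.FormallySmooth.of_split q sec (AlgHom.ext hpΦ)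

end Helpers

/-- Let k be an algebraically closed field and B₀ a finitely generated k-algebra which is not smooth
over k and is rigid, in the sense that the cotangent module T¹(B₀/k, B₀) (from the choice-free
presentation) vanishes. Let A be a finitely generated k-algebra which is a domain, smooth over k of
Krull dimension one, t ∈ A an element generating a maximal ideal, and B a finitely generated flat
A-algebra, a k-algebra compatibly with A, whose fibre B/tB is k-isomorphic to B₀. Then this family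
does not smooth Spec B₀: there is a prime of B not containing t at which B is not smooth over A.
(The published statement asserts that a singular rigid scheme admits no smoothing by any flat
family; this row states it for flat families with affine total space over an affine nonsingular
curve whose point is cut out by one equation.) -/
theorem result
    {k : Type u} [Field k] [IsAlgClosed k] (B₀ : Type u) [CommRing B₀] [Algebra k B₀] [Algebra.FiniteType k B₀]
    (hsing : ¬ Algebra.Smooth k B₀) (hrigid : Subsingleton (CotT.T1 (CotT.canon k B₀) B₀))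
    (A B : Type u) [CommRing A] [CommRing B] [IsDomain A] [Algebra k A] [Algebra.FiniteType k A]
    [Algebra.Smooth k A] (hdim : ringKrullDim A = 1) (t : A) (ht : (Ideal.span {t}).IsMaximal)
    [Algebra A B] [Algebra.FiniteType A B] [Module.Flat A B] [Algebra k B] [IsScalarTower k A B]
    (e : (B ⧸ Ideal.span {algebraMap A B t}) ≃ₐ[k] B₀) :
    ∃ q : PrimeSpectrum B, algebraMap A B t ∉ q.asIdeal ∧ q ∉ Algebra.smoothLocus A B := by
  by_contra hcon
  push Not at hcon
  have : IsNoetherianRing A := Algebra.FiniteType.isNoetherianRing k A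
  have : Algebra.FinitePresentation A B := Algebra.FinitePresentation.of_finiteType.mp inferInstance
  have hfs : Algebra.FormallySmooth A (Localization.Away (algebraMap A B t)) :=
    Algebra.basicOpen_subset_smoothLocus_iff.mp fun q hq => hcon q hq
  have : (Ideal.span {t}).IsMaximal := ht
  let _ : Field (A ⧸ Ideal.span {t}) := Ideal.Quotient.field _
  have : Module.Finite k (A ⧸ Ideal.span {t}) := finite_of_finite_type_of_isJacobsonRing k _
  have hsur : ∀ a : A, ∃ c : k, a - algebraMap k A c ∈ Ideal.span {t} := by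
    intro a
    obtain ⟨c, hc⟩ := (IsAlgClosed.algebraMap_bijective_of_isIntegral (k := k)
      (K := A ⧸ Ideal.span {t})).2 (Ideal.Quotient.mk _ a)
    exact ⟨c, Ideal.Quotient.eq.mp hc.symm⟩
  have hu : ¬ IsUnit t := fun h => ht.ne_top (Ideal.span_singleton_eq_top.mpr h)
  have ht0 : t ≠ 0 := by
    rintro rfl
    rw [Ideal.span_singleton_eq_bot.mpr rfl] at ht
    have := ringKrullDim_eq_zero_of_isField ((Ring.isField_iff_maximal_bot).mpr ht)
    rw [this] at hdim
    exact zero_ne_one hdim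
  have h0 : Algebra.FormallySmooth k B₀ := formallySmooth_fibre t hsur hu ht0 e hrigid
  exact hsing ⟨h0, Algebra.FinitePresentation.of_finiteType.mp inferInstance⟩

end Groth.Agent.S12306
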