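import Groth.Statements.S12307
import Groth.Agent.SGA7.TangentFinite
import Groth.Agent.SGA7.DefSchCond
import Groth.Agent.ArtfunDeform.Prorep
import Groth.Agent.S12726
-- import your own Groth.Agent.* helpers here

set_option autoImplicit false
universe u
open CategoryTheory AlgebraicGeometry
open SGA7

namespace Groth.Agent.S12307

/-- Suppose Λ is a Noetherian local ring, complete for its maximal ideal, and k is its residue field
(the structure map Λ → k being surjective). Work with functors defined on local Artinian Λ-algebras
whose residue field is k. Given a k-scheme X₀ that is proper over k, its deformation functor, which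
sends A to the isomorphism classes of Spec A-flat schemes whose closed fibre is X₀, has a hull. In
other words, there is a miniversal family, a formal versal deformation, over some complete local
Noetherian Λ-algebra whose residue field is k. -/
theorem result (Λ k : Type u) [CommRing Λ] [IsLocalRing Λ] [IsNoetherianRing Λ]
    [IsAdicComplete (IsLocalRing.maximalIdeal Λ) Λ] [Field k] [Algebra Λ k]
    (hk : Function.Surjective (algebraMap Λ k))
    (X : Scheme.{u}) (x : X ⟶ Spec (CommRingCat.of k)) [IsProper x] :
    ArtFun.HasHull (ArtFun.defFunctor (Λ := Λ) X x) := by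
  
  haveI : Module.Finite Λ k := Module.Finite.of_surjective (Algebra.linearMap Λ k) hk
  let F := ArtFun.defFunctor (Λ := Λ) X x
  have h0 : ArtFun.H0 F := Groth.SGA7Def.h0_sch X x
  have h1 : ArtFun.S1 F := Groth.SGA7Def.s1_sch X x
  have h2 : ArtFun.Heps F := Groth.SGA7Def.heps_sch X x
  obtain ⟨T⟩ := Groth.Agent.S12726.result F h0 h2
  letI := T
  have h3 : ArtFun.Hfin F := Groth.SGA7Def.hfin_of_isProper X x
  obtain ⟨R, ξ, -, hm⟩ := Groth.ArtfunDeform.exists_versal h0
    (fun _ _ _ _ p' p'' f' f'' h hf => h1 p' p'' f' f'' h hf.1) h2 h3
  haveI := Groth.ArtfunDeform.subsingleton_base_dual_of_surjective hk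
  exact ⟨⟨R, ξ, hm fun _ => Function.injective_of_subsingleton _⟩⟩

end Groth.Agent.S12307
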