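import Groth.Statements.S12308
import Groth.Agent.SGA7.DefTangentFin
import Groth.Agent.SGA7.DefTransport
import Groth.Agent.ArtfunDeform.Schlessinger
import Groth.Agent.ArtfunDeform.Prorep
import Groth.Agent.S12726

set_option autoImplicit false
universe u
open CategoryTheory AlgebraicGeometry
open SGA7

namespace Groth.Agent.S12308

/-- Suppose Λ is a Noetherian local ring, complete for its maximal ideal, whose residue field is k (so
the map Λ → k is surjective), and work with functors on local Artinian Λ-algebras having residue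
field k. Take X₀ to be an affine scheme of finite type over k, together with an open subscheme U ⊆
X₀ that is smooth over k and has finite complement (thus X₀ fails to be smooth at only finitely many
points). Under these assumptions the deformation functor of X₀, which sends A to isomorphism classes
of schemes flat over Spec A whose closed fibre is X₀, has a hull; equivalently, there is a
miniversal family defined over a complete local Noetherian Λ-algebra with residue field k. -/
theorem result (Λ k : Type u) [CommRing Λ] [IsLocalRing Λ] [IsNoetherianRing Λ]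
    [IsAdicComplete (IsLocalRing.maximalIdeal Λ) Λ] [Field k] [Algebra Λ k]
    (hk : Function.Surjective (algebraMap Λ k))
    (X : Scheme.{u}) [IsAffine X] (x : X ⟶ Spec (CommRingCat.of k)) [LocallyOfFiniteType x]
    (U : X.Opens) (hU : Smooth (U.ι ≫ x)) (hfin : ((U : Set X)ᶜ).Finite) :
    ArtFun.HasHull (ArtFun.defFunctor (Λ := Λ) X x) := by
  let B₀ := Γ(X, ⊤)
  letI : Algebra k B₀ := ((Scheme.ΓSpecIso (CommRingCat.of k)).inv ≫ x.appTop).hom.toAlgebra
  have he : X.isoSpec.hom ≫ Groth.ArtfunDeform.strMap k B₀ = x := by
    change X.toSpecΓ ≫ Spec.map ((Scheme.ΓSpecIso (CommRingCat.of k)).inv ≫ x.appTop) = x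
    rw [Spec.map_comp, ← Category.assoc, ← Scheme.toSpecΓ_naturality, Category.assoc, toSpecΓ_SpecMap_ΓSpecIso_inv,
      Category.comp_id]
  refine Groth.SGA7Def.hasHull_of_natIso (Groth.SGA7Def.defFunctorIso X.isoSpec he) ?_
  haveI : LocallyOfFiniteType (Groth.ArtfunDeform.strMap k B₀) := by
    have h : LocallyOfFiniteType (X.isoSpec.inv ≫ x) := inferInstance
    rw [← he] at h
    simpa using h
  haveI : Algebra.FiniteType k B₀ :=
    RingHom.finiteType_algebraMap.1 ((HasRingHomProperty.Spec_iff (P := @LocallyOfFiniteType)).1 inferInstance)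
  haveI : Algebra.FinitePresentation k B₀ := Algebra.FinitePresentation.of_finiteType.1 inferInstance
  obtain ⟨n, q, hq⟩ := Algebra.FiniteType.iff_quotient_mvPolynomial''.1 (inferInstance : Algebra.FiniteType k B₀)
  let F := ArtFun.defFunctor (Λ := Λ) (Spec (CommRingCat.of B₀)) (Groth.ArtfunDeform.strMap k B₀)
  have h0 : ArtFun.H0 F := Groth.SGA7Def.h0_spec
  have h2 : ArtFun.Heps F := Groth.SGA7Def.heps_spec
  have h1 : ArtFun.S1 F := Groth.SGA7Def.s1_spec
  haveI : Module.Finite Λ k := Module.Finite.of_surjective (Algebra.linearMap Λ k) hk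
  obtain ⟨T⟩ := Groth.Agent.S12726.result F h0 h2
  letI := T
  let Z : Set (PrimeSpectrum B₀) := X.isoSpec.hom.base '' ((U : Set X)ᶜ)
  let V : (Spec (CommRingCat.of B₀)).Opens := X.isoSpec.inv ⁻¹ᵁ U
  have h3 : ArtFun.Hfin F := by
    refine Groth.SGA7Def.hfin_spec hq Z (hfin.image _) fun p hp => ?_
    have hpV : p ∈ V := by
      by_contra hn
      refine hp ⟨_, hn, ?_⟩
      exact congr($(X.isoSpec.inv_hom_id).base p)
    obtain ⟨_, ⟨f, rfl⟩, hpf, hfV⟩ :=
      PrimeSpectrum.isTopologicalBasis_basic_opens.exists_subset_of_mem_open hpV V.2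
    let j : Spec (CommRingCat.of (Localization.Away f)) ⟶ X :=
      Spec.map (CommRingCat.ofHom (algebraMap B₀ (Localization.Away f))) ≫ X.isoSpec.inv
    haveI : IsOpenImmersion (Spec.map (CommRingCat.ofHom (algebraMap B₀ (Localization.Away f)))) :=
      IsOpenImmersion.of_isLocalization f
    have hj : Set.range j.base ⊆ Set.range U.ι.base := by
      rw [Scheme.Opens.range_ι]
      rintro _ ⟨z, rfl⟩
      refine hfV ?_
      have := Set.mem_range_self (f := PrimeSpectrum.comap (algebraMap B₀ (Localization.Away f))) z
      rw [PrimeSpectrum.localization_away_comap_range (Localization.Away f) f] at this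
      exact this
    haveI : IsOpenImmersion (IsOpenImmersion.lift U.ι j hj) := by
      haveI : IsOpenImmersion (IsOpenImmersion.lift U.ι j hj ≫ U.ι) := by
        rw [IsOpenImmersion.lift_fac]; infer_instance
      exact IsOpenImmersion.of_comp _ U.ι
    haveI : Smooth (IsOpenImmersion.lift U.ι j hj ≫ U.ι ≫ x) := inferInstance
    have hs : Smooth (Spec.map (CommRingCat.ofHom (algebraMap k (Localization.Away f)))) := by
      have e : Spec.map (CommRingCat.ofHom (algebraMap k (Localization.Away f))) = j ≫ x := by
        rw [IsScalarTower.algebraMap_eq k B₀ (Localization.Away f), CommRingCat.ofHom_comp, Spec.map_comp,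
          Category.assoc, ← he, Iso.inv_hom_id_assoc]
      rw [e, ← IsOpenImmersion.lift_fac U.ι j hj, Category.assoc]
      infer_instance
    haveI : Algebra.Smooth k (Localization.Away f) :=
      RingHom.smooth_algebraMap.1 ((HasRingHomProperty.Spec_iff (P := @Smooth)).1 hs)
    exact (Algebra.basicOpen_subset_smoothLocus_iff_smooth (R := k) (f := f)).2 inferInstance hpf
  obtain ⟨R, ξ, -, hm⟩ := Groth.ArtfunDeform.exists_versal h0
    (fun _ _ _ _ p' p'' f' f'' h hf => h1 p' p'' f' f'' h hf.1) h2 h3
  haveI := Groth.ArtfunDeform.subsingleton_base_dual_of_surjective hk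
  exact ⟨⟨R, ξ, hm fun _ => Function.injective_of_subsingleton _⟩⟩

end Groth.Agent.S12308
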