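import Groth.Statements.S12309
import Groth.Agent.SGA7.DefSchCond
import Groth.Agent.ArtfunDeform.Prorep
import Groth.Agent.S12726

set_option autoImplicit false
universe u
open CategoryTheory AlgebraicGeometry
open SGA7

namespace Groth.Agent.S12309

/-- Suppose Λ is a Noetherian local ring, complete for its maximal ideal, whose residue field is k (so
that Λ → k is surjective), and work with functors defined on local Artinian Λ-algebras having
residue field k. Take a k-scheme X₀ and assume its deformation functor (sending A to isomorphism
classes of schemes flat over Spec A whose closed fibre is X₀) admits a hull. The deformation functor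
is then pro-representable exactly when the following holds: given any surjective morphism p : A' → A
and any deformation X' of X₀ over A', every automorphism of the base change of X' along p arises by
restricting some automorphism of X' (automorphisms being taken over Spec A' and inducing the
identity on X₀), i.e. the restriction map is surjective. (In the published version the assertion is
stated for X₀ proper over k, or affine of finite type with only finitely many non-smooth points,
cases in which a hull exists; here the existence of a hull is assumed outright, as that is all the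
printed proof relies on.) -/
theorem result (Λ k : Type u) [CommRing Λ] [IsLocalRing Λ] [IsNoetherianRing Λ]
    [IsAdicComplete (IsLocalRing.maximalIdeal Λ) Λ] [Field k] [Algebra Λ k]
    (hk : Function.Surjective (algebraMap Λ k))
    (X : Scheme.{u}) (x : X ⟶ Spec (CommRingCat.of k))
    (hX : ArtFun.HasHull (ArtFun.defFunctor (Λ := Λ) X x)) :
    ArtFun.IsProrepresentable (ArtFun.defFunctor (Λ := Λ) X x) ↔
      ∀ (A' A : ArtFun.Art Λ k) (p : A' ⟶ A), Function.Surjective p →
        ∀ ξ' : ArtFun.DefSch (Λ := Λ) X x A',
          Function.Surjective (fun e : ξ'.Iso ξ' => e.baseChange p) := by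
  haveI : Module.Finite Λ k := Module.Finite.of_surjective (Algebra.linearMap Λ k) hk
  let F := ArtFun.defFunctor (Λ := Λ) X x
  have h0 : ArtFun.H0 F := Groth.SGA7Def.h0_sch X x
  have h1 : ArtFun.S1 F := Groth.SGA7Def.s1_sch X x
  have h2 : ArtFun.Heps F := Groth.SGA7Def.heps_sch X x
  obtain ⟨T⟩ := Groth.Agent.S12726.result F h0 h2
  letI := T
  refine ⟨fun hp A' A p hsurj => ?_, fun hl => ?_⟩
  · obtain ⟨B, q₁, q₂, h⟩ := Groth.ArtfunDeform.exists_isFibreProd p p hsurj
    exact Groth.SGA7Def.autLift_of_injective h hsurj
      ((Groth.ArtfunDeform.conditions_of_prorepresentable hp).2.1 q₁ q₂ p p h).1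
  · obtain ⟨⟨R, ξ, hm⟩⟩ := hX
    haveI := Groth.ArtfunDeform.subsingleton_base_dual_of_surjective hk
    exact Groth.ArtfunDeform.isProrepresentable_of h0
      (fun _ _ _ _ p' p'' f' f'' h hf => h1 p' p'' f' f'' h hf.1) h2 (Groth.ArtfunDeform.hfin_of_miniversal R ξ hm)
      (fun B A A' p₁ p₂ f h hf => ⟨Groth.SGA7Def.cmp_injective_of_autLift h hf.1 (hl A' A f hf.1),
        h1 p₁ p₂ f f h hf.1⟩)
      fun _ => Function.injective_of_subsingleton _

end Groth.Agent.S12309
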