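import Groth.Statements.S12314
-- import your own Groth.Agent.* helpers here

set_option autoImplicit false
universe u
open CategoryTheory CategoryTheory.Limits AlgebraicGeometry MonObj
open SGA7

namespace Groth.Agent.S12314

/-- Let R be a henselian discrete valuation ring with fraction field K and residue field k, Ω a
separable closure of K, W a valuation subring of Ω lying over R, A and C abelian varieties over K
(proper, geometrically integral commutative group schemes), and u : C → A an isogeny, in the form: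
there are a homomorphism v : A → C and an integer n > 0 with v ∘ u = n and u ∘ v = n. Let ℓ be a
prime invertible in k and consider the ℓ-adic Tate modules of the Ω-points of C and A; call an
element fixed when all its components are fixed by the inertia group at W (for such ℓ the fixed part
is the inertia invariants). Then T_ℓ(u) maps the fixed part of T_ℓ(C) into the fixed part of T_ℓ(A)
and induces an isogeny between them: T_ℓ(u) is injective, and n times every fixed element of T_ℓ(A)
is the image of a fixed element of T_ℓ(C). (The case of a prime equal to the residue characteristic,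
where the fixed part is defined through the Néron model, is not stated.) -/
theorem result (R K Ω : Type u) [CommRing R] [IsDomain R] [IsDiscreteValuationRing R] [HenselianLocalRing R]
    [Field K] [Algebra R K] [IsFractionRing R K] [Field Ω] [Algebra K Ω] [IsSepClosure K Ω]
    (W : ValuationSubring Ω) (hW : SGA7.LiesOver K R W)
    (A C : Over (Spec (CommRingCat.of K))) [GrpObj A] [IsCommMonObj A] [IsProper A.hom] [GeometricallyIntegral A.hom]
    [GrpObj C] [IsCommMonObj C] [IsProper C.hom] [GeometricallyIntegral C.hom]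
    (u : C ⟶ A) [IsMonHom u] (v : A ⟶ C) [IsMonHom v] (n : ℕ) (hn : 0 < n)
    (huv : u ≫ v = (𝟙 C) ^ n) (hvu : v ≫ u = (𝟙 A) ^ n)
    (l : ℕ) (hl : l.Prime) (hlp : (l : IsLocalRing.ResidueField R) ≠ 0) :
    (∀ z : AbDual.TateMod C l (SGA7.pt Ω),
      (∀ (τ : Ω ≃ₐ[K] Ω) (m : ℕ), SGA7.IsInertia W τ →
        SGA7.galAct τ (AbDual.TateMod.component C l (SGA7.pt Ω) m z).toMul =
          (AbDual.TateMod.component C l (SGA7.pt Ω) m z).toMul) →
      (∀ (τ : Ω ≃ₐ[K] Ω) (m : ℕ), SGA7.IsInertia W τ →
        SGA7.galAct τ (AbDual.TateMod.component A l (SGA7.pt Ω) m (AbDual.tateMap u z)).toMul =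
          (AbDual.TateMod.component A l (SGA7.pt Ω) m (AbDual.tateMap u z)).toMul)) ∧
    (∀ z : AbDual.TateMod C l (SGA7.pt Ω), AbDual.tateMap (l := l) (T := SGA7.pt Ω) u z = 0 → z = 0) ∧
    (∀ y : AbDual.TateMod A l (SGA7.pt Ω),
      (∀ (τ : Ω ≃ₐ[K] Ω) (m : ℕ), SGA7.IsInertia W τ →
        SGA7.galAct τ (AbDual.TateMod.component A l (SGA7.pt Ω) m y).toMul =
          (AbDual.TateMod.component A l (SGA7.pt Ω) m y).toMul) →
      ∃ z : AbDual.TateMod C l (SGA7.pt Ω),
        (∀ (τ : Ω ≃ₐ[K] Ω) (m : ℕ), SGA7.IsInertia W τ →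
        SGA7.galAct τ (AbDual.TateMod.component C l (SGA7.pt Ω) m z).toMul =
          (AbDual.TateMod.component C l (SGA7.pt Ω) m z).toMul) ∧
        AbDual.tateMap (l := l) (T := SGA7.pt Ω) u z = n • y) := by
  -- multiplication by n on the Tate module
  have key : ∀ (B : Over (Spec (CommRingCat.of K))) [GrpObj B] [IsCommMonObj B] (z : AbDual.TateMod B l (SGA7.pt Ω))
      (k : ℕ), 0 < k → k • z = 0 → z = 0 := by
    intro B _ _ z k hk hz
    obtain ⟨a, k', hk', rfl⟩ := Nat.exists_eq_pow_mul_and_not_dvd hk.ne' l hl.ne_one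
    refine AbDual.TateMod.ext fun m => ?_
    have h1 : (l ^ a * k') • (z : ℕ → Additive (SGA7.pt Ω ⟶ B)) (m + a) = 0 := congrFun (congrArg Subtype.val hz) (m + a)
    have h2 := AbDual.TateMod.torsion z (m + a)
    have h3 : ((l ^ a * k').gcd (l ^ (m + a))) • (z : ℕ → Additive (SGA7.pt Ω ⟶ B)) (m + a) = 0 :=
      addOrderOf_dvd_iff_nsmul_eq_zero.mp (Nat.dvd_gcd
        (addOrderOf_dvd_iff_nsmul_eq_zero.mpr h1) (addOrderOf_dvd_iff_nsmul_eq_zero.mpr h2))
    have hg : (l ^ a * k').gcd (l ^ (m + a)) = l ^ a := by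
      rw [pow_add, mul_comm (l ^ m) (l ^ a), Nat.gcd_mul_left]
      have : Nat.Coprime k' (l ^ m) := Nat.Coprime.pow_right _ (Nat.Coprime.symm (hl.coprime_iff_not_dvd.mpr hk'))
      rw [this.gcd_eq_one, Nat.mul_one]
    rw [hg] at h3
    have hdiv : ∀ i j : ℕ, (l ^ j) • (z : ℕ → Additive (SGA7.pt Ω ⟶ B)) (i + j) = (z : ℕ → Additive (SGA7.pt Ω ⟶ B)) i := by
      intro i j
      induction j generalizing i with
      | zero => simp
      | succ j ih => rw [pow_succ, mul_nsmul', show i + (j + 1) = (i + j) + 1 from rfl, AbDual.TateMod.compat, ih]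
    rw [hdiv m a] at h3
    exact h3
  refine ⟨?_, ?_, ?_⟩
  · intro z hz τ m hτ
    simp only [AbDual.tateMap_component]
    conv_rhs => rw [← hz τ m hτ]
    simp [SGA7.galAct, Category.assoc]
  · intro z hz
    apply key C z n hn
    refine AbDual.TateMod.ext fun m => ?_
    have h := congrFun (congrArg Subtype.val hz) m
    change Additive.ofMul (((z : ℕ → Additive (SGA7.pt Ω ⟶ C)) m).toMul ≫ u) = 0 at h
    have h' : ((z : ℕ → Additive (SGA7.pt Ω ⟶ C)) m).toMul ≫ u = 1 := h
    change Additive.ofMul (((z : ℕ → Additive (SGA7.pt Ω ⟶ C)) m).toMul ^ n) = 0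
    have : ((z : ℕ → Additive (SGA7.pt Ω ⟶ C)) m).toMul ^ n = 1 := by
      rw [← Category.comp_id ((z : ℕ → Additive (SGA7.pt Ω ⟶ C)) m).toMul, ← MonObj.comp_pow, ← huv,
        ← Category.assoc, h', MonObj.one_comp]
    rw [this]; rfl
  · intro y hy
    refine ⟨AbDual.tateMap v y, ?_, ?_⟩
    · intro τ m hτ
      simp only [AbDual.tateMap_component]
      conv_rhs => rw [← hy τ m hτ]
      simp [SGA7.galAct, Category.assoc]
    · refine AbDual.TateMod.ext fun m => ?_
      change Additive.ofMul ((((y : ℕ → Additive (SGA7.pt Ω ⟶ A)) m).toMul ≫ v) ≫ u) =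
        Additive.ofMul (((y : ℕ → Additive (SGA7.pt Ω ⟶ A)) m).toMul ^ n)
      rw [Category.assoc, hvu, MonObj.comp_pow, Category.comp_id]


end Groth.Agent.S12314
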