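import Groth.Statements.S12315
import Mathlib.Tactic.LinearCombination
import Mathlib.RingTheory.Noetherian.Basic

set_option autoImplicit false
universe u v
open CategoryTheory
open SGA7

namespace Groth.Agent.S12315

private theorem injective_of_surj {R : Type*} [CommRing R] [IsNoetherianRing R] (f : R →+* R)
    (hf : Function.Surjective f) : Function.Injective f := by
  let J : ℕ →o Ideal R := ⟨fun n => ⟨⟨⟨{x | f^[n] x = 0}, fun {a b} ha hb => by simp_all [iterate_map_add]⟩,
    by simp [iterate_map_zero]⟩, fun c x hx => by simp_all [iterate_map_mul]⟩,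
    monotone_nat_of_le_succ fun n x hx => by
      show f^[n + 1] x = 0
      rw [Function.iterate_succ_apply', show f^[n] x = 0 from hx, map_zero]⟩
  obtain ⟨n, hn⟩ := monotone_stabilizes_iff_noetherian.mpr (inferInstanceAs (IsNoetherian R R)) J
  rw [injective_iff_map_eq_zero]
  intro x hx
  obtain ⟨z, rfl⟩ := hf.iterate n x
  have : z ∈ J (n + 1) := show f^[n + 1] z = 0 by rw [Function.iterate_succ_apply', hx]
  rwa [← hn (n + 1) (by omega)] at this

/-- Let Λ be a complete Noetherian local ring with residue field k (the map Λ → k surjective), and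
consider functors on the category of local Artinian Λ-algebras with residue field k. Let F be such a
functor, R a complete local Noetherian Λ-algebra with residue field k, and ξ a family of F over R (a
morphism h_R → F) which is injective on k[ε]: distinct augmented Λ-algebra maps R → k[ε] give
distinct elements of F(k[ε]). Then every endomorphism of the pair (R, ξ), that is every Λ-algebra
map α : R → R compatible with the augmentation such that transporting ξ along α gives back ξ, is an
automorphism of R. (The published statement is for formal objects of a cofibred groupoid; this row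
is the case of a set-valued functor.) -/
theorem result (Λ k : Type u) [CommRing Λ] [IsLocalRing Λ] [IsNoetherianRing Λ]
    [IsAdicComplete (IsLocalRing.maximalIdeal Λ) Λ] [Field k] [Algebra Λ k]
    (hk : Function.Surjective (algebraMap Λ k))
    (F : ArtFun.Art Λ k ⥤ Type v) (R : ArtFun.CRing Λ k) (ξ : ArtFun.Family R.carrier R.res F)
    (hinj : Function.Injective (ξ.app (ArtFun.Art.dual Λ k)))
    (α : R.carrier →ₐ[Λ] R.carrier) (hα : R.res.comp α = R.res) (hξ : ξ.along α hα = ξ) :
    Function.Bijective α := by
  classical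
  set m := IsLocalRing.maximalIdeal R.carrier with hm
  have hker : ∀ x, x ∈ m ↔ R.res x = 0 := by
    intro x
    have hmax : (RingHom.ker (R.res : R.carrier →+* k)).IsMaximal :=
      RingHom.ker_isMaximal_of_surjective (R.res : R.carrier →+* k) R.res_surjective
    rw [hm, ← IsLocalRing.eq_maximalIdeal hmax, RingHom.mem_ker]
    rfl
  have hkΛ : ∀ c : Λ, c ∈ IsLocalRing.maximalIdeal Λ ↔ algebraMap Λ k c = 0 := by
    intro c
    have hmax : (RingHom.ker (algebraMap Λ k)).IsMaximal :=
      RingHom.ker_isMaximal_of_surjective (algebraMap Λ k) hk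
    rw [← IsLocalRing.eq_maximalIdeal hmax, RingHom.mem_ker]
  let I : Ideal R.carrier := m ^ 2 ⊔ (IsLocalRing.maximalIdeal Λ).map (algebraMap Λ R.carrier)
  have hIm : I ≤ m := by
    refine sup_le (Ideal.pow_le_self two_ne_zero) (Ideal.map_le_iff_le_comap.mpr fun c hc => ?_)
    rw [Ideal.mem_comap, hker, AlgHom.commutes]
    exact (hkΛ c).mp hc
  have hdiff : ∀ x, α x - x ∈ I := by
    intro x
    by_contra hy
    set y := α x - x with hy'
    have hym : y ∈ m := by
      rw [hker, hy', map_sub, sub_eq_zero]
      exact DFunLike.congr_fun hα x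
    obtain ⟨J, ⟨hIJ, hyJ⟩, hmaxJ⟩ := set_has_maximal_iff_noetherian.mpr (inferInstanceAs (IsNoetherian R.carrier R.carrier))
      {J : Ideal R.carrier | I ≤ J ∧ y ∉ J} ⟨I, le_rfl, hy⟩
    have hJm : J ≤ m := IsLocalRing.le_maximalIdeal (fun h => hyJ (h ▸ Submodule.mem_top))
    have hdec : ∀ z ∈ m, ∃ c : Λ, z - algebraMap Λ R.carrier c * y ∈ J := by
      intro z hz
      by_cases hzJ : z ∈ J
      · exact ⟨0, by simpa using hzJ⟩
      have : y ∈ J ⊔ Ideal.span {z} := by
        by_contra hh
        exact hmaxJ (J ⊔ Ideal.span {z}) ⟨le_sup_of_le_left hIJ, hh⟩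
          (lt_of_le_of_ne le_sup_left fun e => hzJ (e ▸ Ideal.mem_sup_right (Ideal.subset_span rfl)))
      obtain ⟨j, hj, w, hw, hjw⟩ := Submodule.mem_sup.mp this
      obtain ⟨r, rfl⟩ := Ideal.mem_span_singleton'.mp hw
      have hru : IsUnit r := by
        by_contra hr
        refine hyJ (hjw ▸ J.add_mem hj (hIJ (Ideal.mem_sup_left ?_)))
        rw [pow_two]
        exact Ideal.mul_mem_mul ((IsLocalRing.mem_maximalIdeal r).mpr hr) hz
      obtain ⟨s, hs⟩ := hru.exists_left_inv
      obtain ⟨c, hc⟩ := hk (R.res s)
      refine ⟨c, ?_⟩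
      have hzs : z - s * y ∈ J := by
        have : z - s * y = - s * j := by linear_combination s * hjw - z * hs
        rw [this]; exact Ideal.mul_mem_left J _ hj
      have hsc : (s - algebraMap Λ R.carrier c) * y ∈ J := hIJ (Ideal.mem_sup_left (by
        rw [pow_two]
        exact Ideal.mul_mem_mul ((hker _).mpr (by rw [map_sub, AlgHom.commutes, hc, sub_self])) hym))
      have := J.add_mem hzs hsc
      convert this using 1
      ring
    have hex : ∀ z, ∃ a c : Λ, z - algebraMap Λ R.carrier a - algebraMap Λ R.carrier c * y ∈ J := by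
      intro z
      obtain ⟨a, ha⟩ := hk (R.res z)
      obtain ⟨c, hc⟩ := hdec (z - algebraMap Λ R.carrier a) ((hker _).mpr (by rw [map_sub, AlgHom.commutes, ha, sub_self]))
      exact ⟨a, c, hc⟩
    choose a c hac using hex
    have huniq : ∀ z (a' c' : Λ), z - algebraMap Λ R.carrier a' - algebraMap Λ R.carrier c' * y ∈ J →
        algebraMap Λ k (c z) = algebraMap Λ k c' ∧ R.res z = algebraMap Λ k a' := by
      intro z a' c' h
      have h1 := (hker _).mp (hJm h)
      simp only [map_sub, map_mul, AlgHom.commutes, (hker y).mp hym, mul_zero, sub_zero, sub_eq_zero] at h1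
      refine ⟨?_, h1⟩
      have h2 := (hker _).mp (hJm (hac z))
      simp only [map_sub, map_mul, AlgHom.commutes, (hker y).mp hym, mul_zero, sub_zero, sub_eq_zero] at h2
      have ha : a z - a' ∈ IsLocalRing.maximalIdeal Λ := (hkΛ _).mpr (by rw [map_sub, ← h1, ← h2, sub_self])
      have h3 : algebraMap Λ R.carrier (c z - c') * y ∈ J := by
        have := J.add_mem (J.sub_mem h (hac z)) (J.neg_mem (hIJ (Ideal.mem_sup_right
          (Ideal.mem_map_of_mem (algebraMap Λ R.carrier) ha))))
        convert this using 1
        simp only [map_sub]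
        ring
      rw [← sub_eq_zero, ← map_sub, ← hkΛ, IsLocalRing.mem_maximalIdeal]
      intro hu
      exact hyJ ((Ideal.unit_mul_mem_iff_mem J (hu.map _)).mp h3)
    let φ : R.carrier →ₐ[Λ] DualNumber k :=
      { toFun := fun z => (TrivSqZeroExt.inl (R.res z) + TrivSqZeroExt.inr (algebraMap Λ k (c z)) : DualNumber k)
        map_one' := by
          obtain ⟨h1, -⟩ := huniq 1 1 0 (by simp)
          ext <;> simp [h1, Algebra.smul_def]
        map_zero' := by
          obtain ⟨h1, -⟩ := huniq 0 0 0 (by simp)
          ext <;> simp [h1, Algebra.smul_def]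
        map_add' := fun z w => by
          obtain ⟨h1, -⟩ := huniq (z + w) (a z + a w) (c z + c w) (by
            convert J.add_mem (hac z) (hac w) using 1
            simp only [map_add]; ring)
          ext <;> simp [h1, Algebra.smul_def]
        map_mul' := fun z w => by
          obtain ⟨h1, -⟩ := huniq (z * w) (a z * a w) (a z * c w + c z * a w) (by
            have hy2 : algebraMap Λ R.carrier (c z * c w) * (y * y) ∈ J := Ideal.mul_mem_left J _ (hIJ
              (Ideal.mem_sup_left (by rw [pow_two]; exact Ideal.mul_mem_mul hym hym)))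
            convert J.add_mem (J.add_mem (Ideal.mul_mem_right (I := J) w (hac z))
              (Ideal.mul_mem_left J (algebraMap Λ R.carrier (a z) + algebraMap Λ R.carrier (c z) * y) (hac w))) hy2 using 1
            simp only [map_add, map_mul]; ring)
          have h2 := (huniq z (a z) (c z) (hac z)).2
          have h3 := (huniq w (a w) (c w) (hac w)).2
          ext <;> simp [h1, h2, h3, TrivSqZeroExt.fst_mul, TrivSqZeroExt.snd_mul, -TrivSqZeroExt.algebraMap_eq_inl] <;> simp [Algebra.smul_def, mul_comm]
        commutes' := fun l => by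
          obtain ⟨h1, -⟩ := huniq (algebraMap Λ R.carrier l) l 0 (by simp)
          ext <;> simp [h1, TrivSqZeroExt.algebraMap_eq_inl'] }
    let ψ : ArtFun.HomSet R.carrier R.res (ArtFun.Art.dual Λ k) :=
      ⟨φ, AlgHom.ext fun z => by
        show TrivSqZeroExt.fst (TrivSqZeroExt.inl (R.res z) + TrivSqZeroExt.inr (algebraMap Λ k (c z)) : DualNumber k) = R.res z
        simp⟩
    have h1 := congrArg (fun f => ArtFun.Family.app f (ArtFun.Art.dual Λ k) ψ) hξ
    have h2 : φ (α x) = φ x := congrArg (fun q => (Subtype.val q) x) (hinj h1)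
    have h3 : φ y = 0 := by rw [hy', map_sub, h2, sub_self]
    obtain ⟨h4, -⟩ := huniq y 0 1 (by simp)
    have h5 := congrArg TrivSqZeroExt.snd h3
    simp [φ] at h5
    rw [Algebra.smul_def, mul_one, h4, map_one] at h5
    exact one_ne_zero h5
  have hαm : ∀ z ∈ m, α z ∈ m := fun z hz => (hker _).mpr ((DFunLike.congr_fun hα z).trans ((hker z).mp hz))
  have hstep1 : ∀ x ∈ m, ∃ z ∈ m, x - α z ∈ m ^ 2 := by
    intro x hx
    obtain ⟨i, hi, j, hj, hij⟩ := Submodule.mem_sup.mp (hdiff x)
    have : ∀ j ∈ (IsLocalRing.maximalIdeal Λ).map (algebraMap Λ R.carrier), ∃ z ∈ m, j - α z ∈ m ^ 2 := by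
      intro j hj
      induction hj using Submodule.span_induction with
      | mem z hz =>
        obtain ⟨l, hl, rfl⟩ := hz
        exact ⟨_, hIm (Ideal.mem_sup_right (Ideal.mem_map_of_mem _ hl)), by simp⟩
      | zero => exact ⟨0, by simp, by simp⟩
      | add z w _ _ hz hw =>
        obtain ⟨z', hz', hz''⟩ := hz
        obtain ⟨w', hw', hw''⟩ := hw
        exact ⟨z' + w', m.add_mem hz' hw', by convert (m ^ 2).add_mem hz'' hw'' using 1; rw [map_add]; ring⟩
      | smul r z hz' hz =>
        obtain ⟨z', hz'm, hz''⟩ := hz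
        obtain ⟨l, hl⟩ := hk (R.res r)
        refine ⟨algebraMap Λ R.carrier l * z', m.mul_mem_left _ hz'm, ?_⟩
        have h1 : (r - algebraMap Λ R.carrier l) * z ∈ m ^ 2 := by
          rw [pow_two]
          exact Ideal.mul_mem_mul ((hker _).mpr (by rw [map_sub, AlgHom.commutes, hl, sub_self]))
            (hIm (Ideal.mem_sup_right hz'))
        convert (m ^ 2).add_mem h1 ((m ^ 2).mul_mem_left (algebraMap Λ R.carrier l) hz'') using 1
        rw [map_mul, AlgHom.commutes, smul_eq_mul]; ring
    obtain ⟨z, hz, hz'⟩ := this j hj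
    refine ⟨x - z, m.sub_mem hx hz, ?_⟩
    have hh : x - α (x - z) = -i - (j - α z) := by rw [map_sub]; linear_combination hij
    rw [hh]
    exact (m ^ 2).sub_mem ((m ^ 2).neg_mem hi) hz'
  have hαpow : ∀ (n : ℕ), ∀ z ∈ m ^ n, α z ∈ m ^ n := fun n z hz => by
    have h1 : Ideal.map (α : R.carrier →+* R.carrier) m ≤ m := Ideal.map_le_iff_le_comap.mpr fun z hz => hαm z hz
    have h2 := Ideal.mem_map_of_mem (α : R.carrier →+* R.carrier) hz
    rw [Ideal.map_pow] at h2
    exact Ideal.pow_right_mono h1 n h2
  have hstep : ∀ n, ∀ x ∈ m ^ n, ∃ z ∈ m ^ n, x - α z ∈ m ^ (n + 1) := by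
    intro n
    induction n with
    | zero =>
      intro x _
      obtain ⟨l, hl⟩ := hk (R.res x)
      refine ⟨algebraMap Λ R.carrier l, by simp, ?_⟩
      rw [AlgHom.commutes, zero_add, pow_one, hker, map_sub, AlgHom.commutes, hl, sub_self]
    | succ n ih =>
      intro x hx
      rw [pow_succ] at hx
      induction hx using Submodule.mul_induction_on' with
      | mem_mul_mem a ha b hb =>
        obtain ⟨a', ha', ha''⟩ := ih a ha
        obtain ⟨b', hb', hb''⟩ := hstep1 b hb
        refine ⟨a' * b', by rw [pow_succ]; exact Ideal.mul_mem_mul ha' hb', ?_⟩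
        have h1 : (a - α a') * b ∈ m ^ (n + 1 + 1) := by
          rw [pow_succ _ (n + 1)]; exact Ideal.mul_mem_mul ha'' hb
        have h2 : α a' * (b - α b') ∈ m ^ (n + 1 + 1) := by
          rw [show n + 1 + 1 = n + 2 from rfl, pow_add]
          exact Ideal.mul_mem_mul (hαpow n a' ha') hb''
        convert (m ^ (n + 1 + 1)).add_mem h1 h2 using 1
        rw [map_mul]; ring
      | add z _ w _ hz hw =>
        obtain ⟨z', hz', hz''⟩ := hz
        obtain ⟨w', hw', hw''⟩ := hw
        exact ⟨z' + w', (m ^ (n + 1)).add_mem hz' hw', by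
          convert (m ^ (n + 1 + 1)).add_mem hz'' hw'' using 1; rw [map_add]; ring⟩
  have hsurj : Function.Surjective α := by
    intro x
    choose g hg hg' using hstep
    let f : ℕ → R.carrier := fun n => Nat.rec 0 (fun n z => if h : x - α z ∈ m ^ n then z + g n _ h else z) n
    have hf : ∀ n, x - α (f n) ∈ m ^ n := by
      intro n
      induction n with
      | zero => simp
      | succ n ih =>
        show x - α (if h : x - α (f n) ∈ m ^ n then f n + g n _ h else f n) ∈ _
        rw [dif_pos ih]
        convert hg' n _ ih using 1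
        rw [map_add]; ring
    have hf' : ∀ n, f (n + 1) - f n ∈ m ^ n := by
      intro n
      show (if h : x - α (f n) ∈ m ^ n then f n + g n _ h else f n) - f n ∈ _
      rw [dif_pos (hf n), add_sub_cancel_left]
      exact hg n _ _
    have := R.isAdicComplete
    obtain ⟨L, hL⟩ := IsPrecomplete.prec' (I := m) f (fun {i j} hij => by
      rw [SModEq.sub_mem, smul_eq_mul, Ideal.mul_top]
      induction hij with
      | refl => simp
      | step h ih =>
        have := (m ^ i).sub_mem ih (Ideal.pow_le_pow_right h (hf' _))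
        convert this using 1
        ring)
    refine ⟨L, (sub_eq_zero.mp (IsHausdorff.haus' (I := m) _ fun n => ?_)).symm⟩
    rw [SModEq.sub_mem, smul_eq_mul, Ideal.mul_top, sub_zero]
    have h1 := hL n
    rw [SModEq.sub_mem, smul_eq_mul, Ideal.mul_top] at h1
    convert (m ^ n).add_mem (hf n) (hαpow n _ h1) using 1
    rw [map_sub]; ring
  exact ⟨injective_of_surj (α : R.carrier →+* R.carrier) hsurj, hsurj⟩

end Groth.Agent.S12315
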