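import Groth.Statements.S12316
import Groth.Agent.SGA7.Deform

set_option autoImplicit false
universe u v
open CategoryTheory
open SGA7

namespace Groth.Agent.S12316

/-- Suppose Λ is a Noetherian local ring, complete for its maximal ideal, whose residue field is k (so Λ
→ k is surjective), and work with functors defined on the category of local Artinian Λ-algebras
having residue field k. Take morphisms φ : F → G and ψ : G → H of such functors. Assume that each of
F(k), G(k), H(k) consists of a single point; that for G the comparison map on fibre products A₁ ×_A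
A₂ is surjective as soon as A₂ → A is surjective, and is bijective for products of the form A' ×_k
k[ε]; that for H the comparison map is bijective on every fibre product A₁ ×_A A₂ with A₂ → A
surjective; and that the induced map on tangent spaces G(k[ε]) → H(k[ε]) coming from ψ is injective.
Under these assumptions, φ ≫ ψ is smooth if and only if both φ and ψ are smooth. (The published
statement is for functors of cofibred groupoids with G semi-homogeneous and H homogeneous; this row
is the case of set-valued functors.) -/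
theorem result (Λ k : Type u) [CommRing Λ] [IsLocalRing Λ] [IsNoetherianRing Λ]
    [IsAdicComplete (IsLocalRing.maximalIdeal Λ) Λ] [Field k] [Algebra Λ k]
    (hk : Function.Surjective (algebraMap Λ k))
    {F G H : ArtFun.Art Λ k ⥤ Type v} (φ : F ⟶ G) (ψ : G ⟶ H)
    (hF : ArtFun.H0 F) (hG : ArtFun.H0 G ∧ ArtFun.S1 G ∧ ArtFun.Heps G) (hH0 : ArtFun.H0 H)
    (hH : ∀ ⦃B A A' A'' : ArtFun.Art Λ k⦄ (p' : B ⟶ A') (p'' : B ⟶ A'') (f' : A' ⟶ A) (f'' : A'' ⟶ A)
      (h : ArtFun.Art.IsFibreProd p' p'' f' f''), Function.Surjective f'' → Function.Bijective (ArtFun.cmp H h))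
    (hψ : Function.Injective (ArtFun.TangentSpace.map ψ)) :
    ArtFun.IsSmooth (φ ≫ ψ) ↔ (ArtFun.IsSmooth φ ∧ ArtFun.IsSmooth ψ) := by
  have : Module.Finite Λ k := Module.Finite.of_surjective (Algebra.linearMap Λ k) hk
  constructor
  · intro h
    have hφ : ArtFun.IsSmooth φ := by
      intro B A μ hμ
      refine Groth.ArtfunDeform.surj_induction
        (P := fun A B μ => Function.Surjective (ArtFun.relCmp φ μ)) ?_ ?_ ?_ μ hμ
      · intro A B e he x
        refine ⟨F.map (inv e) x.1.1, Subtype.ext (Prod.ext ?_ ?_)⟩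
        · show F.map e (F.map (inv e) x.1.1) = x.1.1
          rw [← Functor.map_comp_apply, IsIso.inv_hom_id]; simp
        · show φ.app B (F.map (inv e) x.1.1) = x.1.2
          rw [NatTrans.naturality_apply φ, x.2, ← Functor.map_comp_apply, IsIso.hom_inv_id]; simp
      · intro A B p hp x
        obtain ⟨z, hz⟩ := h p hp.1 ⟨(x.1.1, ψ.app B x.1.2), by
          show ψ.app A (φ.app A x.1.1) = H.map p (ψ.app B x.1.2)
          rw [x.2, ← NatTrans.naturality_apply ψ p]⟩
        have hz1 : F.map p z = x.1.1 := congrArg (fun w => w.1.1) hz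
        have hz2 : ψ.app B (φ.app B z) = ψ.app B x.1.2 := congrArg (fun w => w.1.2) hz
        refine ⟨z, Subtype.ext (Prod.ext hz1 ?_)⟩
        refine Groth.SGA7.Deform.relCmp_injective_of_small ψ hG.2 hH hψ p hp
          (Subtype.ext (Prod.ext ?_ hz2))
        show G.map p (φ.app B z) = G.map p x.1.2
        rw [← NatTrans.naturality_apply φ p, hz1, x.2]
      · intro A B C p q hp hq x
        obtain ⟨w, hw⟩ := hq ⟨(x.1.1, G.map p x.1.2), by
          rw [x.2, Functor.map_comp_apply]⟩
        obtain ⟨z, hz⟩ := hp ⟨(w, x.1.2), congrArg (fun w => w.1.2) hw⟩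
        refine ⟨z, Subtype.ext (Prod.ext ?_ (congrArg (fun w => w.1.2) hz :))⟩
        show F.map (p ≫ q) z = x.1.1
        rw [Functor.map_comp_apply, show F.map p z = w from congrArg (fun w => w.1.1) hz]
        exact congrArg (fun w => w.1.1) hw
    refine ⟨hφ, ?_⟩
    intro B A μ hμ x
    obtain ⟨e⟩ := hF.1
    obtain ⟨w, hw⟩ := hφ (ArtFun.Art.toBase A) A.res_surjective ⟨(e, x.1.1), @Subsingleton.elim _ hG.1.2 _ _⟩
    have hw2 : φ.app A w = x.1.1 := congrArg (fun w => w.1.2) hw
    obtain ⟨z, hz⟩ := h μ hμ ⟨(w, x.1.2), by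
      show ψ.app A (φ.app A w) = H.map μ x.1.2
      rw [hw2]; exact x.2⟩
    refine ⟨φ.app B z, Subtype.ext (Prod.ext ?_ (congrArg (fun w => w.1.2) hz :))⟩
    show G.map μ (φ.app B z) = x.1.1
    rw [← NatTrans.naturality_apply φ μ, show F.map μ z = w from congrArg (fun w => w.1.1) hz, hw2]
  · rintro ⟨h1, h2⟩ B A μ hμ x
    obtain ⟨y, hy⟩ := h2 μ hμ ⟨(φ.app A x.1.1, x.1.2), x.2⟩
    obtain ⟨z, hz⟩ := h1 μ hμ ⟨(x.1.1, y), (congrArg (fun w => w.1.1) hy).symm⟩
    refine ⟨z, Subtype.ext (Prod.ext (congrArg (fun w => w.1.1) hz :) ?_)⟩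
    show ψ.app B (φ.app B z) = x.1.2
    rw [show φ.app B z = y from congrArg (fun w => w.1.2) hz]
    exact congrArg (fun w => w.1.2) hy

end Groth.Agent.S12316
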