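import Groth.Statements.S1233
import Groth.Agent.PropsBasic.WeakAssFinite
import Mathlib.RingTheory.Etale.StandardEtale
import Mathlib.RingTheory.AdjoinRoot

set_option autoImplicit false
set_option linter.style.haveILetI false
universe u
open FlatMor

namespace Groth.Agent.S1233

open TensorProduct in
/-- Let A → B be an étale ring map, M an A-module and u a prime of B lying over the prime p of A. Then u
is a weakly associated prime of the B-module B ⊗_A M if and only if p is a weakly associated prime
of M. -/
theorem result {A B : Type u} [CommRing A] [CommRing B] [Algebra A B] [Algebra.Etale A B]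
    (M : Type u) [AddCommGroup M] [Module A M] (p : Ideal A) [p.IsPrime] (u : Ideal B) [u.IsPrime] [u.LiesOver p] :
    u ∈ FlatCA.weakAss B (B ⊗[A] M) ↔ p ∈ FlatCA.weakAss A M := by
  refine ⟨fun hu => ?_, Groth.WeakAssFinite.mem_weakAss_tensor_of⟩
  obtain ⟨h, hh, hst⟩ := Algebra.IsEtaleAt.exists_isStandardEtale (R := A) u
  obtain ⟨P⟩ := hst.nonempty_standardEtalePresentation
  let S := Localization.Away h
  have hd : Disjoint (Submonoid.powers h : Set B) (u : Set B) :=
    (Ideal.disjoint_powers_iff_notMem _ (Ideal.IsPrime.isRadical inferInstance)).2 hh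
  let u₁ : Ideal S := u.map (algebraMap B S)
  haveI : u₁.IsPrime := IsLocalization.isPrime_of_isPrime_disjoint (Submonoid.powers h) S u inferInstance hd
  have hu₁ : u₁.comap (algebraMap B S) = u :=
    IsLocalization.under_map_of_isPrime_disjoint (Submonoid.powers h) S inferInstance hd
  haveI : IsScalarTower A B S := inferInstance
  have h₁ : u₁ ∈ FlatCA.weakAss S (S ⊗[A] M) :=
    (Groth.WeakAssFinite.mem_weakAss_tensor_iff_of_isLocalization S (Submonoid.powers h) u₁).2
      (hu₁.symm ▸ hu)
  -- `S` as a localisation of the finite free algebra `A[X]/(f)`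
  let C := AdjoinRoot P.f
  let E : Localization.Away (AdjoinRoot.mk P.f P.g) ≃ₐ[A] S :=
    (P.equivRing.trans P.P.equivAwayAdjoinRoot).symm
  letI : Algebra C S :=
    (E.toRingEquiv.toRingHom.comp (algebraMap C (Localization.Away (AdjoinRoot.mk P.f P.g)))).toAlgebra
  haveI : IsScalarTower A C S := IsScalarTower.of_algebraMap_eq fun a => by
    show algebraMap A S a = E (algebraMap C _ (algebraMap A C a))
    rw [← IsScalarTower.algebraMap_apply, E.commutes]
  let E' : Localization.Away (AdjoinRoot.mk P.f P.g) ≃ₐ[C] S :=
    { E.toRingEquiv with commutes' := fun c => rfl }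
  haveI : IsLocalization (Submonoid.powers (AdjoinRoot.mk P.f P.g)) S :=
    IsLocalization.isLocalization_of_algEquiv (Submonoid.powers (AdjoinRoot.mk P.f P.g)) E'
  have h₂ := (Groth.WeakAssFinite.mem_weakAss_tensor_iff_of_isLocalization S
    (Submonoid.powers (AdjoinRoot.mk P.f P.g)) u₁).1 h₁
  haveI : Module.Free A C := Module.Free.of_basis (AdjoinRoot.powerBasis' P.monic_f).basis
  haveI : Module.Finite A C := (AdjoinRoot.powerBasis' P.monic_f).finite
  haveI : (u₁.comap (algebraMap C S)).LiesOver p := ⟨by
    rw [Ideal.under_def, Ideal.comap_comap, ← IsScalarTower.algebraMap_eq, IsScalarTower.algebraMap_eq A B S,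
      ← Ideal.comap_comap, hu₁, ← Ideal.under_def, ← Ideal.over_def u p]⟩
  exact Groth.WeakAssFinite.mem_weakAss_of_tensor h₂

end Groth.Agent.S1233
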