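import Groth.Statements.S1237
import Groth.Agent.RaynaudGruson.WeakAssFP

set_option autoImplicit false
universe u
open FlatMor

namespace Groth.Agent.S1237

/-- Ring form, X = Spec S and S = Spec R affine, where local finiteness of the weakly associated points
means finiteness: let R be a ring with finitely many weakly associated primes, S a finitely
presented R-algebra and N a finite S-module. Then the set U of primes q of S with N_q flat over R is
open in Spec S, and every q in U has a basic open neighbourhood D(g) on which N becomes finitely
presented over S_g and flat over R. -/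
theorem result {R S : Type u} [CommRing R] [CommRing S] [Algebra R S] [Algebra.FinitePresentation R S]
    (hR : (FlatCA.weakAss R R).Finite)
    (N : Type u) [AddCommGroup N] [Module S N] [Module R N] [IsScalarTower R S N] [Module.Finite S N] :
    IsOpen {q : PrimeSpectrum S | FlatCA.FlatAt R q.asIdeal N} ∧
    ∀ (q : Ideal S) [q.IsPrime], FlatCA.FlatAt R q N → ∃ g : S, g ∉ q ∧
      Module.FinitePresentation (Localization.Away g) (LocalizedModule (Submonoid.powers g) N) ∧
      Module.Flat R (LocalizedModule (Submonoid.powers g) N) := by
  refine ⟨?_, fun q hqp hq => ?_⟩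
  · rw [isOpen_iff_forall_mem_open]
    intro q hq
    obtain ⟨g, hgq, -, -, hflat⟩ := Groth.RaynaudGruson.WeakAssFP.exists_nbhd hR q hq
    exact ⟨(PrimeSpectrum.basicOpen g : Set (PrimeSpectrum S)), fun q' hq' => hflat q' hq',
      (PrimeSpectrum.basicOpen g).2, hgq⟩
  · obtain ⟨g, hgq, hflat, hfp, -⟩ := Groth.RaynaudGruson.WeakAssFP.exists_nbhd hR (⟨q, hqp⟩ : PrimeSpectrum S) hq
    exact ⟨g, hgq, hfp, hflat⟩

end Groth.Agent.S1237
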