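import Groth.Statements.S1290
import Groth.Agent.RaynaudGruson.WeakAssFP
import Groth.Agent.RaynaudGruson.DevissageFree

set_option autoImplicit false
universe u
open FlatMor

namespace Groth.Agent.S1290

/-- Ring form, X = Spec S, S = Spec R affine: let R be a ring with finitely many weakly associated
primes, S a finite type R-algebra and N a finite S-module. Then the set U of primes q of S with N_q
flat over R is open in Spec S, and every q in U has a basic open neighbourhood D(g) on which N is
flat over R and finitely presented relative to R (finitely presented over a polynomial ring over R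
surjecting onto S_g). -/
theorem result {R S : Type u} [CommRing R] [CommRing S] [Algebra R S] [Algebra.FiniteType R S]
    (hR : (FlatCA.weakAss R R).Finite)
    (N : Type u) [AddCommGroup N] [Module S N] [Module R N] [IsScalarTower R S N] [Module.Finite S N] :
    IsOpen {q : PrimeSpectrum S | FlatCA.FlatAt R q.asIdeal N} ∧
    ∀ (q : Ideal S) [q.IsPrime], FlatCA.FlatAt R q N → ∃ g : S, g ∉ q ∧
      Module.Flat R (LocalizedModule (Submonoid.powers g) N) ∧
      FlatCA.RelFinitePresentation R (Localization.Away g) (LocalizedModule (Submonoid.powers g) N) := by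
  obtain ⟨n, φ, hφ⟩ := Algebra.FiniteType.iff_quotient_mvPolynomial''.mp ‹Algebra.FiniteType R S›
  let P := MvPolynomial (Fin n) R
  letI : Algebra P S := φ.toRingHom.toAlgebra
  haveI : IsScalarTower R P S := IsScalarTower.of_algebraMap_eq fun r => (φ.commutes r).symm
  letI : Module P N := Module.compHom N φ.toRingHom
  haveI : IsScalarTower P S N := IsScalarTower.of_algebraMap_smul fun p m => rfl
  haveI : IsScalarTower R P N := IsScalarTower.of_algebraMap_smul fun r m => by
    show φ (algebraMap R P r) • m = r • m
    rw [φ.commutes, algebraMap_smul]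
  haveI : Module.Finite P S := Module.Finite.of_surjective (Algebra.linearMap P S) hφ
  haveI : Module.Finite P N := Module.Finite.trans S N
  let c : PrimeSpectrum S → PrimeSpectrum P := PrimeSpectrum.comap φ.toRingHom
  have hiff : ∀ q : PrimeSpectrum S, FlatCA.FlatAt R q.asIdeal N ↔
      Module.Flat R (LocalizedModule (c q).asIdeal.primeCompl N) := by
    intro q
    unfold FlatCA.FlatAt
    rw [Groth.RaynaudGruson.FlatPred.flat_iff, Groth.RaynaudGruson.FlatPred.flat_iff]
    constructor
    · exact Groth.RaynaudGruson.FlatPred.Pred.of_dvd fun u hu => by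
        obtain ⟨p, rfl⟩ := hφ u
        exact ⟨p, 1, hu, fun m => one_smul _ _⟩
    · exact Groth.RaynaudGruson.FlatPred.Pred.of_dvd fun p hp => ⟨φ p, 1, hp, fun m => one_smul _ _⟩
  refine ⟨?_, fun q hqp hq => ?_⟩
  · rw [isOpen_iff_forall_mem_open]
    intro q hq
    obtain ⟨g, hgq, -, -, hflat⟩ := Groth.RaynaudGruson.WeakAssFP.exists_nbhd hR (c q) ((hiff q).mp hq)
    exact ⟨c ⁻¹' (PrimeSpectrum.basicOpen g : Set (PrimeSpectrum P)), fun q' hq' => (hiff q').mpr (hflat _ hq'),
      (PrimeSpectrum.basicOpen g).2.preimage (PrimeSpectrum.continuous_comap _), hgq⟩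
  · obtain ⟨g, hgq, hflat, hfp, -⟩ := Groth.RaynaudGruson.WeakAssFP.exists_nbhd hR (c ⟨q, hqp⟩) ((hiff ⟨q, hqp⟩).mp hq)
    refine ⟨φ g, hgq, ?_, ?_⟩
    · rw [Groth.RaynaudGruson.FlatPred.flat_iff] at hflat ⊢
      exact hflat.of_dvd fun p hp => by
        obtain ⟨k, rfl⟩ := hp
        exact ⟨φ (g ^ k), 1, ⟨k, (map_pow φ g k).symm⟩, fun m => one_smul _ _⟩
    · let Pg := Localization.Away g
      let Sg := Localization.Away (φ g)
      let N' := LocalizedModule (Submonoid.powers (φ g)) N
      let mg : Pg →ₐ[R] Sg := IsLocalization.liftAlgHom (M := Submonoid.powers g)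
        (f := (IsScalarTower.toAlgHom R S Sg).comp φ) (fun ⟨_, k, hk⟩ => by
          subst hk
          simp only [AlgHom.comp_apply, IsScalarTower.coe_toAlgHom', map_pow]
          exact (IsLocalization.map_units Sg ⟨φ g, Submonoid.mem_powers _⟩).pow k)
      have hmg : ∀ p : P, mg (algebraMap P Pg p) = algebraMap S Sg (φ p) := fun p => by
        simp [mg]
      letI : Module Pg N' := Module.compHom N' mg.toRingHom
      haveI : IsScalarTower P Pg N' := IsScalarTower.of_algebraMap_smul fun p x => by
        show mg (algebraMap P Pg p) • x = p • x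
        rw [hmg, algebraMap_smul]
        exact algebraMap_smul S p x
      let f : N →ₗ[P] N' :=
        { toFun := LocalizedModule.mkLinearMap (Submonoid.powers (φ g)) N
          map_add' := map_add _
          map_smul' := fun p x => (map_smul (LocalizedModule.mkLinearMap (Submonoid.powers (φ g)) N) (φ p) x).trans (algebraMap_smul S p (LocalizedModule.mkLinearMap (Submonoid.powers (φ g)) N x)) }
      haveI : IsLocalizedModule (Submonoid.powers g) f := by
        refine ⟨fun x => ?_, fun y => ?_, fun {x y} h => ?_⟩
        · obtain ⟨_, k, rfl⟩ := x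
          rw [Module.End.isUnit_iff]
          have := (Module.End.isUnit_iff _).mp (IsLocalizedModule.map_units
            (LocalizedModule.mkLinearMap (Submonoid.powers (φ g)) N) (⟨φ g ^ k, k, rfl⟩ : Submonoid.powers (φ g)))
          convert this using 1
          ext z
          show (g ^ k) • z = (φ g ^ k) • z
          rw [← map_pow]
          exact (algebraMap_smul S (g ^ k) z).symm
        · obtain ⟨⟨x, ⟨_, k, rfl⟩⟩, hx⟩ := IsLocalizedModule.surj (Submonoid.powers (φ g))
            (LocalizedModule.mkLinearMap (Submonoid.powers (φ g)) N) y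
          refine ⟨⟨x, ⟨g ^ k, k, rfl⟩⟩, ?_⟩
          show (g ^ k) • y = _
          refine (algebraMap_smul S (g ^ k) y).symm.trans ?_
          show φ (g ^ k) • y = _
          rw [map_pow]
          exact hx
        · obtain ⟨⟨_, k, rfl⟩, hk⟩ := IsLocalizedModule.exists_of_eq (S := Submonoid.powers (φ g))
            (f := LocalizedModule.mkLinearMap (Submonoid.powers (φ g)) N) h
          refine ⟨⟨g ^ k, k, rfl⟩, ?_⟩
          show φ (g ^ k) • x = φ (g ^ k) • y
          rw [map_pow]
          exact hk
      haveI : Module.FinitePresentation Pg N' := Module.FinitePresentation.of_equiv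
        (LinearEquiv.extendScalarsOfIsLocalization (Submonoid.powers g) Pg (IsLocalizedModule.iso (Submonoid.powers g) f))
      haveI : Algebra.FinitePresentation P Pg := IsLocalization.Away.finitePresentation g
      haveI : Algebra.FinitePresentation R Pg := Algebra.FinitePresentation.trans R P Pg
      obtain ⟨m, ψ, hψ, hker⟩ := Algebra.FinitePresentation.iff.mp ‹Algebra.FinitePresentation R Pg›
      obtain ⟨m, ψ, hψ⟩ : ∃ (m : ℕ) (ψ : MvPolynomial (Fin m) R →ₐ[R] Pg), Function.Surjective ψ :=
        Algebra.FiniteType.iff_quotient_mvPolynomial''.mp inferInstance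
      have hmgs : Function.Surjective mg := by
        intro y
        obtain ⟨⟨x, ⟨_, k, rfl⟩⟩, hy⟩ := IsLocalization.surj (Submonoid.powers (φ g)) y
        obtain ⟨p, rfl⟩ := hφ x
        refine ⟨IsLocalization.mk' Pg p (⟨g ^ k, k, rfl⟩ : Submonoid.powers g), ?_⟩
        have h1 : mg (IsLocalization.mk' Pg p (⟨g ^ k, k, rfl⟩ : Submonoid.powers g)) * algebraMap S Sg (φ g ^ k) = algebraMap S Sg (φ p) := by
          rw [← map_pow, ← hmg, ← map_mul, IsLocalization.mk'_spec, hmg]
        exact (IsLocalization.map_units Sg (⟨φ g ^ k, k, rfl⟩ : Submonoid.powers (φ g))).mul_left_injective (h1.trans hy.symm)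
      refine ⟨m, mg.comp ψ, hmgs.comp hψ, ?_⟩
      letI : Algebra (MvPolynomial (Fin m) R) Pg := ψ.toRingHom.toAlgebra
      haveI : IsScalarTower R (MvPolynomial (Fin m) R) Pg := IsScalarTower.of_algebraMap_eq fun r => (ψ.commutes r).symm
      haveI : Algebra.FinitePresentation (MvPolynomial (Fin m) R) Pg :=
        Algebra.FinitePresentation.of_restrict_scalars_finitePresentation R (MvPolynomial (Fin m) R) Pg
      letI : Module (MvPolynomial (Fin m) R) N' := Module.compHom N' (mg.comp ψ).toRingHom
      haveI : IsScalarTower (MvPolynomial (Fin m) R) Pg N' := IsScalarTower.of_algebraMap_smul fun r x => rfl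
      exact Groth.RaynaudGruson.DevissageFree.finitePresentation_of_surjective_algebraMap (B := MvPolynomial (Fin m) R) (A := Pg) hψ

end Groth.Agent.S1290
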