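import Groth.Statements.S1238
import Groth.Agent.S1290

set_option autoImplicit false
universe u
open FlatMor

namespace Groth.Agent.S1238

/-- Ring form, X = Spec S, S = Spec R affine: let R be a ring with finitely many weakly associated
primes and S a finite type R-algebra. Then the set of primes q of S with S_q flat over R is open in
Spec S, and every such q has a basic open neighbourhood D(g) with S_g flat and of finite
presentation over R. -/
theorem result {R S : Type u} [CommRing R] [CommRing S] [Algebra R S] [Algebra.FiniteType R S]
    (hR : (FlatCA.weakAss R R).Finite) :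
    IsOpen {q : PrimeSpectrum S | Module.Flat R (Localization.AtPrime q.asIdeal)} ∧
    ∀ (q : Ideal S) [q.IsPrime], Module.Flat R (Localization.AtPrime q) → ∃ g : S, g ∉ q ∧
      Algebra.FinitePresentation R (Localization.Away g) ∧ Module.Flat R (Localization.Away g) := by
  obtain ⟨ho, hn⟩ := Groth.Agent.S1290.result (R := R) (S := S) hR S
  have e : ∀ (T : Submonoid S) (L : Type u) [CommRing L] [Algebra S L] [Algebra R L] [IsScalarTower R S L]
      [IsLocalization T L], Nonempty (LocalizedModule T S ≃ₗ[R] L) := fun T L _ _ _ _ _ =>
    haveI : IsLocalizedModule T (Algebra.linearMap S L) := inferInstance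
    ⟨(IsLocalizedModule.iso T (Algebra.linearMap S L)).restrictScalars R⟩
  have hiff : ∀ (q : Ideal S) [q.IsPrime], FlatCA.FlatAt R q S ↔ Module.Flat R (Localization.AtPrime q) := by
    intro q _
    obtain ⟨e₁⟩ := e q.primeCompl (Localization.AtPrime q)
    exact ⟨fun h => haveI : Module.Flat R (LocalizedModule q.primeCompl S) := h; Module.Flat.of_linearEquiv e₁.symm,
      fun h => haveI := h; (Module.Flat.of_linearEquiv e₁ : Module.Flat R (LocalizedModule q.primeCompl S))⟩
  refine ⟨?_, fun q hqp hq => ?_⟩
  · convert ho using 1
    ext q
    exact (hiff q.asIdeal).symm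
  · obtain ⟨g, hg, hflat, n, ψ, hψ, hfp⟩ := hn q ((hiff q).mpr hq)
    refine ⟨g, hg, ?_, ?_⟩
    · letI : Algebra (MvPolynomial (Fin n) R) (Localization.Away g) := ψ.toRingHom.toAlgebra
      haveI : IsScalarTower R (MvPolynomial (Fin n) R) (Localization.Away g) :=
        IsScalarTower.of_algebraMap_eq fun r => (ψ.commutes r).symm
      letI : Module (MvPolynomial (Fin n) R) (LocalizedModule (Submonoid.powers g) S) :=
        Module.compHom _ ψ.toRingHom
      haveI := hfp
      haveI : IsLocalizedModule (Submonoid.powers g) (Algebra.linearMap S (Localization.Away g)) := inferInstance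
      let e₂ : LocalizedModule (Submonoid.powers g) S ≃ₗ[Localization.Away g] Localization.Away g :=
        LinearEquiv.extendScalarsOfIsLocalization (Submonoid.powers g) (Localization.Away g)
          (IsLocalizedModule.iso (Submonoid.powers g) (Algebra.linearMap S (Localization.Away g)))
      let e₃ : LocalizedModule (Submonoid.powers g) S ≃ₗ[MvPolynomial (Fin n) R] Localization.Away g :=
        { e₂.toAddEquiv with map_smul' := fun p x => e₂.map_smul (ψ p) x }
      haveI : Module.FinitePresentation (MvPolynomial (Fin n) R) (Localization.Away g) :=
        Module.FinitePresentation.of_equiv e₃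
      haveI : Algebra.FinitePresentation (MvPolynomial (Fin n) R) (Localization.Away g) :=
        Algebra.FinitePresentation.of_finitePresentation _ _
      exact Algebra.FinitePresentation.trans R (MvPolynomial (Fin n) R) (Localization.Away g)
    · obtain ⟨e₁⟩ := e (Submonoid.powers g) (Localization.Away g)
      haveI := hflat
      exact Module.Flat.of_linearEquiv e₁.symm

end Groth.Agent.S1238
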