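import Mathlib
import Groth.Statements.S12417


set_option autoImplicit false
universe u
open CategoryTheory AlgebraicGeometry
open Props

namespace Groth.Agent.S12417

/-- Let X be a quasi-compact quasi-separated scheme and P a property of opens of X such that (a) P holds
for every affine open, and (b) whenever a quasi-compact open U has a finite affine open covering U =
V_1 ∪ … ∪ V_n with P holding for every intersection V_i ∩ V_j, P holds for U. Then P holds for every
quasi-compact open of X. -/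
theorem result (X : Scheme.{u}) [CompactSpace X] [QuasiSeparatedSpace X]
    (P : X.Opens → Prop) (ha : ∀ U : X.Opens, IsAffineOpen U → P U)
    (hb : ∀ (U : X.Opens) (n : ℕ) (V : Fin n → X.Opens), IsCompact (U : Set X) →
      (∀ i, IsAffineOpen (V i)) → ⨆ i, V i = U → (∀ i j, P (V i ⊓ V j)) → P U)
    (U : X.Opens) (hU : IsCompact (U : Set X)) : P U := by
  have hqs : ∀ {U V : X.Opens}, IsCompact (U : Set X) → IsCompact (V : Set X) →
      IsCompact ((U ⊓ V : X.Opens) : Set X) := fun {U V} hU hV =>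
    QuasiSeparatedSpace.inter_isCompact _ _ U.isOpen hU V.isOpen hV
  have fam : ∀ (W : X.Opens), IsCompact (W : Set X) → ∀ (B : Set X.Opens),
      TopologicalSpace.Opens.IsBasis B → ∃ (n : ℕ) (V : Fin n → X.Opens),
        (∀ i, V i ∈ B) ∧ ⨆ i, V i = W := by
    intro W hW B hB
    obtain ⟨s, hsB, hW'⟩ := TopologicalSpace.Opens.isBasis_iff_cover.mp hB W
    rw [hW'] at hW ⊢
    obtain ⟨t, ht⟩ := hW.elim_finite_subcover (fun V : s => ((V : X.Opens) : Set X))
      (fun V => V.1.isOpen) (by simp [Set.subset_def])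
    refine ⟨t.card, fun i => (t.equivFin.symm i).1.1, fun i => hsB (t.equivFin.symm i).1.2,
      le_antisymm (iSup_le fun i => le_sSup (t.equivFin.symm i).1.2) ?_⟩
    intro x hx
    obtain ⟨V, hV, hxV⟩ := Set.mem_iUnion₂.mp (ht hx)
    exact TopologicalSpace.Opens.mem_iSup.mpr ⟨t.equivFin ⟨V, hV⟩, by simpa using hxV⟩
  have hsub : ∀ (A : X.Opens), IsAffineOpen A → ∀ W ≤ A, IsCompact (W : Set X) → P W := by
    intro A hA W hWA hW
    have hB : TopologicalSpace.Opens.IsBasis
        {U : X.Opens | (∃ f : Γ(X, A), U = X.basicOpen f) ∨ (IsAffineOpen U ∧ ¬ U ≤ A)} := by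
      refine TopologicalSpace.Opens.isBasis_iff_nbhd.mpr fun {U x} hx => ?_
      by_cases hxA : x ∈ A
      · obtain ⟨f, hf, hxf⟩ := hA.exists_basicOpen_le ⟨x, hx⟩ hxA
        exact ⟨_, Or.inl ⟨f, rfl⟩, hxf, hf⟩
      · obtain ⟨U', hU', hxU', hle⟩ :=
          TopologicalSpace.Opens.isBasis_iff_nbhd.mp X.isBasis_affineOpens hx
        exact ⟨U', Or.inr ⟨hU', fun h => hxA (h hxU')⟩, hxU', hle⟩
    obtain ⟨n, V, hV, hVW⟩ := fam W hW _ hB
    have hV' : ∀ i, ∃ f : Γ(X, A), V i = X.basicOpen f := fun i =>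
      (hV i).resolve_right fun h => h.2 ((le_iSup V i).trans (hVW.le.trans hWA))
    choose f hf using hV'
    refine hb W n V hW (fun i => hf i ▸ hA.basicOpen (f i)) hVW fun i j => ha _ ?_
    rw [hf i, hf j, ← Scheme.basicOpen_mul]
    exact hA.basicOpen _
  obtain ⟨n, V, hV, hVU⟩ := fam U hU _ X.isBasis_affineOpens
  refine hb U n V hU hV hVU fun i j => hsub (V i) (hV i) _ inf_le_left ?_
  exact hqs (IsAffineOpen.isCompact (hV i)) (IsAffineOpen.isCompact (hV j))

end Groth.Agent.S12417
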