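import Groth.Statements.S12418

set_option autoImplicit false
universe u
open CAlg

namespace Groth.Agent.S12418

/-- Let R be a Noetherian ring and b ∈ R; for x outside the ideal (b) put I_x = ((b) : x), the ideal of
r with r x ∈ (b). If s ∉ (b) and I_s is maximal among the I_x (x ∉ (b)), then I_s is prime. -/
theorem result {R : Type u} [CommRing R] [IsNoetherianRing R]
    (b s : R) (hs : s ∉ Ideal.span {b})
    (hmax : ∀ x : R, x ∉ Ideal.span {b} →
      Submodule.colon (Ideal.span {b}) (Ideal.span {s}) ≤ Submodule.colon (Ideal.span {b}) (Ideal.span {x}) →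
      Submodule.colon (Ideal.span {b}) (Ideal.span {x}) = Submodule.colon (Ideal.span {b}) (Ideal.span {s})) :
    (Submodule.colon (Ideal.span {b}) (Ideal.span ({s} : Set R))).IsPrime := by
  simp only [Ideal.isPrime_iff]
  have key : ∀ x r : R, r ∈ Submodule.colon (Ideal.span {b}) (Ideal.span ({x} : Set R)) ↔ r * x ∈ Ideal.span {b} := by
    intro x r
    rw [Submodule.mem_colon]
    constructor
    · intro h; exact h x (Ideal.subset_span rfl)
    · intro h y hy
      obtain ⟨c, rfl⟩ := Ideal.mem_span_singleton.1 hy
      rw [smul_eq_mul, ← mul_assoc]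
      exact Ideal.mul_mem_right _ _ h
  refine ⟨fun h => hs ?_, fun {x y} hxy => ?_⟩
  · simpa using (key s 1).1 (h ▸ Submodule.mem_top)
  · by_cases hy : y * s ∈ Ideal.span {b}
    · exact Or.inr ((key s y).2 hy)
    · left
      rw [key, mul_assoc] at hxy
      rw [← hmax (y * s) hy (fun r hr => (key _ r).2 (by
        rw [key] at hr; rw [mul_left_comm]; exact Ideal.mul_mem_left _ _ hr))]
      exact (key _ x).2 hxy

end Groth.Agent.S12418
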