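import Groth.Statements.S12419
import Mathlib
import Groth.Agent.Calg6.FlatAdic

set_option autoImplicit false
universe u
open TensorProduct
open CAlg

namespace Groth.Agent.S12419
theorem eq_top_of_sup_smul {R : Type*} [CommRing R] {M : Type*} [AddCommGroup M] [Module R M] (I : Ideal R) (hI : IsNilpotent I)
    (P : Submodule R M) (h : ⊤ ≤ P ⊔ I • (⊤ : Submodule R M)) : P = ⊤ := by
  obtain ⟨n, hn⟩ := hI
  have key : ∀ j : ℕ, (⊤ : Submodule R M) ≤ P ⊔ I ^ j • ⊤ := by
    intro j
    induction j with
    | zero => rw [pow_zero, Ideal.one_eq_top, Submodule.top_smul]; exact le_sup_right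
    | succ j ih =>
      refine ih.trans (sup_le le_sup_left ((Submodule.smul_mono le_rfl h).trans ?_))
      rw [Submodule.smul_sup, pow_succ, Submodule.mul_smul]
      exact sup_le (Submodule.smul_le_right.trans le_sup_left) le_sup_right
  refine top_unique ?_
  simpa [hn] using key n

theorem mem_smul_of_exact {R : Type u} [CommRing R] {K F M : Type u} [AddCommGroup K] [Module R K] [AddCommGroup F] [Module R F]
    [AddCommGroup M] [Module R M] [Module.Flat R M] (r : Ideal R) (f : F →ₗ[R] M) (hf : Function.Surjective f)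
    (g : K →ₗ[R] F) (hg : Function.Injective g) (he : Function.Exact g f) (x : K) (hx : g x ∈ r • (⊤ : Submodule R F)) :
    x ∈ r • (⊤ : Submodule R K) := by
  have h0 : (1 : R ⧸ r) ⊗ₜ[R] g x = 0 := by
    refine Submodule.smul_induction_on hx (fun a ha y _ => ?_) (fun y z hy hz => by rw [TensorProduct.tmul_add, hy, hz, add_zero])
    rw [← TensorProduct.smul_tmul, show a • (1 : R ⧸ r) = 0 by
      rw [Algebra.smul_def, mul_one, Ideal.Quotient.algebraMap_eq, Ideal.Quotient.eq_zero_iff_mem]; exact ha, TensorProduct.zero_tmul]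
  have h1 : (1 : R ⧸ r) ⊗ₜ[R] x = 0 :=
    LinearMap.lTensor_injective_of_exact_of_flat f hf g hg he (R ⧸ r) (by rw [LinearMap.lTensor_tmul, map_zero]; exact h0)
  have h2 := congrArg (TensorProduct.quotTensorEquivQuotSMul K r) h1
  rw [map_zero, ← map_one (Ideal.Quotient.mk r), TensorProduct.quotTensorEquivQuotSMul_mk_tmul, one_smul, Submodule.Quotient.mk_eq_zero] at h2
  exact h2

theorem injective_of_flat_of_ker_le {R : Type u} [CommRing R] {F M : Type u} [AddCommGroup F] [Module R F]
    [AddCommGroup M] [Module R M] [Module.Flat R M] (r : Ideal R) (hr : IsNilpotent r) (f : F →ₗ[R] M) (hf : Function.Surjective f)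
    (h : ∀ x, f x = 0 → x ∈ r • (⊤ : Submodule R F)) : Function.Injective f := by
  have hK : (⊤ : Submodule R (LinearMap.ker f)) ≤ ⊥ ⊔ r • ⊤ := fun x _ => by
    rw [bot_sup_eq]
    exact mem_smul_of_exact r f hf (LinearMap.ker f).subtype Subtype.val_injective (LinearMap.exact_subtype_ker_map f) x (h x x.2)
  have h0 := eq_top_of_sup_smul r hr _ hK
  rw [injective_iff_map_eq_zero]
  intro x hx
  have h2 : (⟨x, hx⟩ : LinearMap.ker f) ∈ (⊥ : Submodule R (LinearMap.ker f)) := h0 ▸ Submodule.mem_top
  exact congrArg Subtype.val ((Submodule.mem_bot R).1 h2)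

/-- Flatness descends from an injective map out of a ring with nilpotent maximal ideal. -/
theorem flat_descent {R0 R2 : Type u} [CommRing R0] [CommRing R2] [Algebra R0 R2] (m : Ideal R0) [m.IsMaximal]
    (hm : IsNilpotent m) (r : Ideal R2) (hr : IsNilpotent r) (hmr : m.map (algebraMap R0 R2) ≤ r)
    (hinj : Function.Injective (algebraMap R0 R2)) (M : Type u) [AddCommGroup M] [Module R0 M]
    [Module.Flat R2 (R2 ⊗[R0] M)] : Module.Flat R0 M := by
  classical
  letI := Ideal.Quotient.field m
  let Mb := M ⧸ m • (⊤ : Submodule R0 M)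
  let ι := Module.Free.ChooseBasisIndex (R0 ⧸ m) Mb
  let bas := Module.Free.chooseBasis (R0 ⧸ m) Mb
  choose v hv using fun i : ι => Submodule.mkQ_surjective (m • (⊤ : Submodule R0 M)) (bas i)
  let π : (ι →₀ R0) →ₗ[R0] M := Finsupp.linearCombination R0 v
  have hπ : Function.Surjective π := by
    rw [← LinearMap.range_eq_top]
    refine eq_top_of_sup_smul m hm _ (fun z _ => ?_)
    have hz : (m • (⊤ : Submodule R0 M)).mkQ z ∈ Submodule.span R0 (Set.range bas) := by
      rw [← Submodule.restrictScalars_mem R0, Submodule.restrictScalars_self]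
      have h := bas.span_eq
      have h2 : (Submodule.span (R0 ⧸ m) (Set.range bas)).restrictScalars R0 = Submodule.span R0 (Set.range bas) :=
        Submodule.restrictScalars_span R0 (R0 ⧸ m) Ideal.Quotient.mk_surjective _
      rw [← h2, h]; trivial
    rw [show (Set.range bas : Set Mb) = (m • (⊤ : Submodule R0 M)).mkQ '' Set.range v by rw [← Set.range_comp]; congr 1; funext i; exact (hv i).symm,
      ← Submodule.map_span] at hz
    obtain ⟨y, hy, hyz⟩ := hz
    refine Submodule.mem_sup.2 ⟨y, ?_, z - y, ?_, add_sub_cancel _ _⟩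
    · rw [Finsupp.range_linearCombination]; exact hy
    · rw [← Submodule.Quotient.mk_eq_zero, Submodule.Quotient.mk_sub]
      exact sub_eq_zero.2 hyz.symm
  let π2 := π.baseChange R2
  have hπ2 : Function.Surjective π2 := LinearMap.lTensor_surjective R2 hπ
  let e := TensorProduct.finsuppScalarRight R0 R2 R2 ι
  let q : R2 →+* R2 ⧸ r := Ideal.Quotient.mk r
  have hcoord : ∀ x ∈ LinearMap.ker π2, ∀ j, e x j ∈ r := by
    intro x hx j
    let c : (R0 ⧸ m) →ₗ[R0] (R2 ⧸ r) := m.liftQ (Algebra.linearMap R0 (R2 ⧸ r)) (fun a ha => by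
      rw [LinearMap.mem_ker, Algebra.linearMap_apply, IsScalarTower.algebraMap_apply R0 R2 (R2 ⧸ r), Ideal.Quotient.algebraMap_eq,
        Ideal.Quotient.eq_zero_iff_mem]
      exact hmr (Ideal.mem_map_of_mem _ ha))
    let φ : M →ₗ[R0] (R2 ⧸ r) := c.comp (((bas.coord j).restrictScalars R0).comp (m • (⊤ : Submodule R0 M)).mkQ)
    let Λ : R2 ⊗[R0] M →ₗ[R2] (R2 ⧸ r) := φ.liftBaseChange R2
    have key : ∀ x, Λ (π2 x) = q (e x j) := by
      intro x
      induction x using TensorProduct.induction_on with
      | zero => simp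
      | tmul a f =>
        show Λ (a ⊗ₜ π f) = _
        rw [LinearMap.liftBaseChange_tmul]
        induction f using Finsupp.induction_linear with
        | zero => simp [e]
        | add f g hf hg =>
          rw [map_add, map_add, smul_add, hf, hg, TensorProduct.tmul_add, map_add, Finsupp.add_apply, map_add]
        | single i t =>
          simp only [π, Finsupp.linearCombination_single, map_smul, φ, LinearMap.comp_apply, hv, LinearMap.restrictScalars_apply,
            Module.Basis.coord_apply, Module.Basis.repr_self, e, TensorProduct.finsuppScalarRight_apply_tmul_apply]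
          rw [Finsupp.single_apply, Finsupp.single_apply]
          split_ifs
          · rw [show c 1 = 1 by show c (Ideal.Quotient.mk m 1) = 1; exact (map_one (algebraMap R0 (R2 ⧸ r)))]
            rw [Algebra.smul_def, Algebra.smul_def, mul_one, IsScalarTower.algebraMap_apply R0 R2 (R2 ⧸ r), ← map_mul, Algebra.smul_def, mul_comm]
            rfl
          · simp
      | add x y hx hy => rw [map_add, map_add, map_add, Finsupp.add_apply, map_add, hx, hy]
    have h := key x
    rw [LinearMap.mem_ker.1 hx, map_zero] at h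
    exact Ideal.Quotient.eq_zero_iff_mem.1 h.symm
  -- the kernel is zero
  have hx : ∀ x, π2 x = 0 → x ∈ r • (⊤ : Submodule R2 (R2 ⊗[R0] (ι →₀ R0))) := by
    intro x hx
    rw [← e.symm_apply_apply x, ← (e x).sum_single, Finsupp.sum, map_sum]
    refine sum_mem fun j _ => ?_
    rw [← mul_one (e x j), ← smul_eq_mul, ← Finsupp.smul_single, map_smul]
    exact Submodule.smul_mem_smul (hcoord x (LinearMap.mem_ker.2 hx) j) trivial
  have hinj2 : Function.Injective π2 := injective_of_flat_of_ker_le r hr π2 hπ2 hx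
  have hinjπ : Function.Injective π := by
    rw [injective_iff_map_eq_zero]
    intro f hf
    have h : π2 ((1 : R2) ⊗ₜ[R0] f) = π2 0 := by
      show π.baseChange R2 (1 ⊗ₜ f) = _
      rw [LinearMap.baseChange_tmul, hf, TensorProduct.tmul_zero, map_zero]
    have h3 := congrArg e (hinj2 h)
    ext j
    have h4 := DFunLike.congr_fun h3 j
    simp [e, TensorProduct.finsuppScalarRight_apply_tmul_apply, Algebra.smul_def] at h4
    exact hinj (by rw [h4, Finsupp.zero_apply, map_zero])
  exact Module.Flat.of_linearEquiv (LinearEquiv.ofBijective π ⟨hinjπ, hπ⟩).symm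


/-- Let A → B be a local homomorphism of Noetherian local rings, m the maximal ideal of A, and φ : A →
A' a ring homomorphism to a semi-local Noetherian ring A' with Jacobson radical r', such that
φ⁻¹(r') = m and such that every power m^n contains φ⁻¹(r'^N) for some N. Then B is flat over A if
and only if A' ⊗_A B is flat over A'. (Given φ⁻¹(r') = m, the condition on powers says that the
m-adic topology of A is induced by the r'-adic topology of A', equivalently that the induced
homomorphism of adic completions is injective, which is how the published statement phrases this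
hypothesis.) -/
theorem result (A B A' : Type u) [CommRing A] [CommRing B]
    [CommRing A'] [IsNoetherianRing A] [IsLocalRing A] [IsNoetherianRing B] [IsLocalRing B]
    [Algebra A B] [IsLocalHom (algebraMap A B)] [IsNoetherianRing A'] [Finite (MaximalSpectrum A')]
    [Algebra A A']
    (hrad : (Ideal.jacobson (⊥ : Ideal A')).comap (algebraMap A A') = IsLocalRing.maximalIdeal A)
    (htop : ∀ n : ℕ, ∃ N : ℕ,
      ((Ideal.jacobson (⊥ : Ideal A')) ^ N).comap (algebraMap A A') ≤ (IsLocalRing.maximalIdeal A) ^ n) :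
    Module.Flat A B ↔ Module.Flat A' (A' ⊗[A] B) := by
  constructor
  · intro _; infer_instance
  intro hflat
  refine Groth.Calg6.flat_of_flat_quotient_base (IsLocalRing.maximalIdeal A) ?_ fun n hn => ?_
  · rw [IsLocalRing.jacobson_eq_maximalIdeal ⊥ bot_ne_top]
    exact ((IsLocalRing.local_hom_TFAE (algebraMap A B)).out 0 2 rfl rfl).mp inferInstance
  obtain ⟨N, hN⟩ := htop n
  set r' := Ideal.jacobson (⊥ : Ideal A')
  set c := (r' ^ N).comap (algebraMap A A') with hc
  letI : Algebra (A ⧸ c) (A' ⧸ r' ^ N) := (Ideal.quotientMap (r' ^ N) (algebraMap A A') le_rfl).toAlgebra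
  haveI : IsScalarTower A (A ⧸ c) (A' ⧸ r' ^ N) := IsScalarTower.of_algebraMap_eq fun a => rfl
  let m0 := (IsLocalRing.maximalIdeal A).map (Ideal.Quotient.mk c)
  have hcm : c ≤ IsLocalRing.maximalIdeal A := hN.trans (Ideal.pow_le_self hn.ne')
  haveI : m0.IsMaximal := (Ideal.map_eq_top_or_isMaximal_of_surjective _ Ideal.Quotient.mk_surjective (IsLocalRing.maximalIdeal.isMaximal A)).resolve_left (fun h => by
    have h2 := congrArg (Ideal.comap (Ideal.Quotient.mk c)) h
    rw [Ideal.comap_map_of_surjective _ Ideal.Quotient.mk_surjective, Ideal.comap_top, ← RingHom.ker_eq_comap_bot, Ideal.mk_ker, sup_eq_left.2 hcm] at h2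
    exact (IsLocalRing.maximalIdeal.isMaximal A).ne_top h2)
  let r2 := r'.map (Ideal.Quotient.mk (r' ^ N))
  have hmle : (IsLocalRing.maximalIdeal A).map (algebraMap A A') ≤ r' := Ideal.map_le_iff_le_comap.2 hrad.ge
  have hm0 : IsNilpotent m0 := ⟨N, by
    rw [Ideal.zero_eq_bot, ← Ideal.map_pow, Ideal.map_eq_bot_iff_le_ker, Ideal.mk_ker, hc, ← Ideal.map_le_iff_le_comap, Ideal.map_pow]
    exact Ideal.pow_right_mono hmle N⟩
  have hr2 : IsNilpotent r2 := ⟨N, by rw [Ideal.zero_eq_bot, ← Ideal.map_pow, Ideal.map_quotient_self]⟩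
  haveI : Module.Flat (A' ⧸ r' ^ N) ((A' ⧸ r' ^ N) ⊗[A] B) :=
    Module.Flat.of_linearEquiv (TensorProduct.AlgebraTensorModule.cancelBaseChange A A' (A' ⧸ r' ^ N) (A' ⧸ r' ^ N) B).symm
  haveI : Module.Flat (A' ⧸ r' ^ N) ((A' ⧸ r' ^ N) ⊗[A ⧸ c] ((A ⧸ c) ⊗[A] B)) :=
    Module.Flat.of_linearEquiv (TensorProduct.AlgebraTensorModule.cancelBaseChange A (A ⧸ c) (A' ⧸ r' ^ N) (A' ⧸ r' ^ N) B)
  have h1 : Module.Flat (A ⧸ c) ((A ⧸ c) ⊗[A] B) := flat_descent m0 hm0 r2 hr2
    (by
      rw [Ideal.map_map]
      rw [show (algebraMap (A ⧸ c) (A' ⧸ r' ^ N)).comp (Ideal.Quotient.mk c) = (Ideal.Quotient.mk (r' ^ N)).comp (algebraMap A A') from RingHom.ext fun a => rfl,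
        ← Ideal.map_map]
      exact Ideal.map_mono hmle)
    (Ideal.quotientMap_injective' le_rfl) _
  letI : Algebra (A ⧸ c) (A ⧸ IsLocalRing.maximalIdeal A ^ n) := (Ideal.Quotient.factor hN).toAlgebra
  haveI : IsScalarTower A (A ⧸ c) (A ⧸ IsLocalRing.maximalIdeal A ^ n) := IsScalarTower.of_algebraMap_eq fun a => rfl
  exact Module.Flat.of_linearEquiv
    (TensorProduct.AlgebraTensorModule.cancelBaseChange A (A ⧸ c) (A ⧸ IsLocalRing.maximalIdeal A ^ n) (A ⧸ IsLocalRing.maximalIdeal A ^ n) B).symm

end Groth.Agent.S12419
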