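import Groth.Statements.S12420
import Mathlib
import Groth.Agent.Calg6.SectionCompletion

set_option autoImplicit false
universe u
open CAlg

namespace Groth.Agent.S12420
open IsLocalRing
open scoped TensorProduct

/-- Chevalley's lemma. -/
theorem chevalley {R : Type u} [CommRing R] [IsLocalRing R] [IsNoetherianRing R]
    [IsAdicComplete (maximalIdeal R) R] (J : ℕ → Ideal R) (hJ : Antitone J)
    (hinf : ∀ x, (∀ n, x ∈ J n) → x = 0) (j : ℕ) : ∃ n, J n ≤ maximalIdeal R ^ j := by
  classical
  have hstab : ∀ i, ∃ n, ∀ n', n ≤ n' → J n ⊔ maximalIdeal R ^ i = J n' ⊔ maximalIdeal R ^ i := by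
    intro i
    haveI : IsArtinianRing (R ⧸ maximalIdeal R ^ i) := by
      rcases Nat.eq_zero_or_pos i with rfl | hi
      · haveI : Subsingleton (R ⧸ maximalIdeal R ^ 0) :=
          Ideal.Quotient.subsingleton_iff.mpr (by simp [Ideal.one_eq_top])
        infer_instance
      · haveI : Ring.KrullDimLE 0 (R ⧸ maximalIdeal R ^ i) := by
          rw [Ring.krullDimLE_zero_iff]
          intro P hP
          have h1 : maximalIdeal R ≤ P.comap (Ideal.Quotient.mk _) :=
            (hP.comap (Ideal.Quotient.mk _)).le_of_pow_le (n := i)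
              (fun x hx => by rw [Ideal.mem_comap, Ideal.Quotient.eq_zero_iff_mem.mpr hx]; exact zero_mem _)
          haveI : (P.comap (Ideal.Quotient.mk (maximalIdeal R ^ i))).IsMaximal := by
            rw [← le_antisymm h1 (le_maximalIdeal (hP.comap _).ne_top)]; infer_instance
          rcases Ideal.map_eq_top_or_isMaximal_of_surjective (Ideal.Quotient.mk (maximalIdeal R ^ i))
            Ideal.Quotient.mk_surjective (I := P.comap (Ideal.Quotient.mk (maximalIdeal R ^ i)))
            inferInstance with h | h
          · rw [Ideal.map_comap_of_surjective _ Ideal.Quotient.mk_surjective] at h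
            exact absurd h hP.ne_top
          · rwa [Ideal.map_comap_of_surjective _ Ideal.Quotient.mk_surjective] at h
        exact isArtinianRing_iff_isNoetherianRing_krullDimLE_zero.mpr ⟨inferInstance, inferInstance⟩
    obtain ⟨n, hn⟩ := IsArtinian.monotone_stabilizes
      (R := R ⧸ maximalIdeal R ^ i) (M := R ⧸ maximalIdeal R ^ i)
      ⟨fun n => OrderDual.toDual ((J n).map (Ideal.Quotient.mk (maximalIdeal R ^ i))),
        fun a b hab => Ideal.map_mono (hJ hab)⟩
    refine ⟨n, fun n' hn' => ?_⟩
    have h := congrArg (Ideal.comap (Ideal.Quotient.mk (maximalIdeal R ^ i)))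
      (congrArg OrderDual.ofDual (hn n' hn'))
    simpa [Ideal.comap_map_of_surjective _ Ideal.Quotient.mk_surjective,
      ← RingHom.ker_eq_comap_bot, Ideal.mk_ker] using h
  choose N hN using hstab
  let L : ℕ → Ideal R := fun i => J (N i) ⊔ maximalIdeal R ^ i
  have hL : ∀ i n, L i ≤ J n ⊔ maximalIdeal R ^ i := by
    intro i n
    rcases le_total (N i) n with h | h
    · exact (hN i n h).le
    · exact sup_le_sup_right (hJ h) _
  refine ⟨N j, fun x hx => ?_⟩
  have step : ∀ i (y : L i), ∃ z : L (i + 1), (z : R) - y ∈ maximalIdeal R ^ i := by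
    rintro i ⟨y, hy⟩
    obtain ⟨a, ha, b, hb, rfl⟩ := Submodule.mem_sup.mp (hL i (N (i + 1)) hy)
    exact ⟨⟨a, Submodule.mem_sup_left ha⟩, by simpa using neg_mem hb⟩
  let Y : (i : ℕ) → L (j + i) := fun i =>
    Nat.rec ⟨x, Submodule.mem_sup_left hx⟩ (fun i y => (step (j + i) y).choose) i
  have hY : ∀ i, ((Y (i + 1)).1 : R) - (Y i).1 ∈ maximalIdeal R ^ (j + i) := fun i => by
    exact (step (j + i) (Y i)).choose_spec
  have hY' : ∀ i, ((Y i).1 : R) - x ∈ maximalIdeal R ^ j := by
    intro i
    induction i with
    | zero => simp [Y]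
    | succ i ih =>
      have := add_mem (Ideal.pow_le_pow_right (Nat.le_add_right j i) (hY i)) ih
      rwa [sub_add_sub_cancel] at this
  obtain ⟨z, hz⟩ := IsPrecomplete.prec (inferInstance : IsPrecomplete (maximalIdeal R) R)
    (f := fun i => ((Y i).1 : R)) (fun {a b} hab => by
      induction b, hab using Nat.le_induction with
      | base => rfl
      | succ b hab ih =>
        refine ih.trans ?_
        rw [SModEq.sub_mem, smul_eq_mul, Ideal.mul_top, ← neg_mem_iff, neg_sub]
        exact Ideal.pow_le_pow_right (by omega) (hY b))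
  simp only [SModEq.sub_mem, smul_eq_mul, Ideal.mul_top] at hz
  have hz0 : z = 0 := by
    refine hinf z fun n => ?_
    have h : ∀ i, z ∈ J n ⊔ maximalIdeal R ^ i := fun i => by
      have h1 : ((Y i).1 : R) ∈ J n ⊔ maximalIdeal R ^ i :=
        (sup_le_sup_left (Ideal.pow_le_pow_right (Nat.le_add_left i j)) (J n)) (hL (j + i) n (Y i).2)
      have := sub_mem h1 (Submodule.mem_sup_right (hz i) : ((Y i).1 : R) - z ∈ J n ⊔ maximalIdeal R ^ i)
      simpa using this
    rw [← Ideal.Quotient.eq_zero_iff_mem]
    by_cases htop : J n = ⊤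
    · rw [Ideal.Quotient.eq_zero_iff_mem, htop]; trivial
    refine IsHausdorff.haus' (I := maximalIdeal R) (M := R ⧸ J n) _ fun i => ?_
    rw [SModEq.zero]
    obtain ⟨a, ha, b, hb, hab⟩ := Submodule.mem_sup.mp (h i)
    have : Ideal.Quotient.mk (J n) z = b • (1 : R ⧸ J n) := by
      rw [← hab, map_add, Ideal.Quotient.eq_zero_iff_mem.mpr ha, zero_add, Algebra.smul_def, mul_one]
      rfl
    rw [this]
    exact Submodule.smul_mem_smul hb trivial
  have h1 := hz j
  rw [hz0, sub_zero] at h1
  have := sub_mem h1 (hY' j)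
  simpa using this

theorem flat_residueField_of_under_bot {A A' : Type u} [CommRing A] [IsDomain A] [CommRing A'] [Algebra A A']
    (P : Ideal A') [P.IsPrime] (hP : ∀ a : A, algebraMap A A' a ∈ P → a = 0) :
    Module.Flat A P.ResidueField := by
  have hinj : Function.Injective (algebraMap A P.ResidueField) := by
    rw [injective_iff_map_eq_zero]
    intro a ha
    rw [IsScalarTower.algebraMap_apply A A' P.ResidueField, Ideal.algebraMap_residueField_eq_zero] at ha
    exact hP a ha
  letI : Algebra (FractionRing A) P.ResidueField := (IsFractionRing.lift hinj).toAlgebra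
  haveI : IsScalarTower A (FractionRing A) P.ResidueField :=
    IsScalarTower.of_algebraMap_eq fun a => (IsFractionRing.lift_algebraMap hinj a).symm
  haveI : Module.Flat A (FractionRing A) := IsLocalization.flat (FractionRing A) (nonZeroDivisors A)
  exact Module.Flat.trans A (FractionRing A) P.ResidueField

theorem main (A A' C : Type u) [CommRing A] [CommRing A'] [IsLocalRing A] [IsNoetherianRing A]
    [IsLocalRing A'] [Algebra A A'] [CommRing C] [IsDomain C] [IsLocalRing C] [IsNoetherianRing C]
    [Algebra A C] [Module.Flat A C] (hAC : Function.Injective (algebraMap A C))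
    (hinj : Function.Injective (algebraMap A A')) [IsLocalHom (algebraMap A A')]
    [Algebra.EssFiniteType A A'] (ρ : C →ₐ[A] A ⧸ maximalIdeal A)
    [IsAdicComplete (maximalIdeal C) C]
    (hC : ∀ j, (maximalIdeal C ^ j).comap (algebraMap A C) ≤ maximalIdeal A ^ j) (j : ℕ) :
    ∃ n : ℕ, ((maximalIdeal A') ^ n).comap (algebraMap A A') ≤ (maximalIdeal A) ^ j := by
  classical
  haveI : IsDomain A := hAC.isDomain
  -- a prime of `A'` over `0`
  obtain ⟨P', hP', -, hP'0⟩ : ∃ P' : Ideal A', P'.IsPrime ∧ P' ≤ maximalIdeal A' ∧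
      ∀ a : A, algebraMap A A' a ∈ P' → a = 0 := by
    obtain ⟨P', hP', hd⟩ := Ideal.exists_le_prime_disjoint (⊥ : Ideal A')
      (Algebra.algebraMapSubmonoid A' (nonZeroDivisors A))
      (Set.disjoint_left.mpr fun x hx ⟨a, ha, hax⟩ => by
        have : algebraMap A A' a = 0 := hax.trans (Ideal.mem_bot.mp hx)
        exact nonZeroDivisors.ne_zero ha (hinj (this.trans (map_zero _).symm)))
    refine ⟨P', hP', le_maximalIdeal hP'.ne_top, fun a ha => ?_⟩
    by_contra h0
    exact Set.disjoint_left.mp hd.2 ha ⟨a, mem_nonZeroDivisors_of_ne_zero h0, rfl⟩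
  haveI := hP'
  let T := C ⊗[A] A'
  haveI : IsNoetherianRing T := Algebra.EssFiniteType.isNoetherianRing C T
  let σ : A ⧸ maximalIdeal A →ₐ[A] ResidueField A' :=
    Ideal.Quotient.liftₐ _ (Algebra.ofId A (ResidueField A')) fun a ha => by
      show algebraMap A (ResidueField A') a = 0
      rw [IsScalarTower.algebraMap_apply A A' (ResidueField A'), IsLocalRing.ResidueField.algebraMap_eq]
      rw [residue_eq_zero_iff]
      exact map_nonunit (algebraMap A A') a ha
  let θ : T →ₐ[A] ResidueField A' := Algebra.TensorProduct.lift (σ.comp ρ)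
    (IsScalarTower.toAlgHom A A' (ResidueField A')) fun _ _ => Commute.all _ _
  let Q : Ideal T := RingHom.ker θ
  haveI : Q.IsPrime := RingHom.ker_isPrime θ
  let inc : A' →ₐ[A] T := Algebra.TensorProduct.includeRight
  have hQ : ∀ x ∈ maximalIdeal A', inc x ∈ Q := fun x hx => by
    show θ (inc x) = 0
    rw [show θ (inc x) = residue A' x by
      show Algebra.TensorProduct.lift _ _ _ ((1 : C) ⊗ₜ[A] x) = _
      rw [Algebra.TensorProduct.lift_tmul, map_one, one_mul]
      rfl]
    exact (residue_eq_zero_iff x).mpr hx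
  let π : T →ₐ[A] C ⊗[A] (A' ⧸ P') :=
    Algebra.TensorProduct.map (AlgHom.id A C) (Ideal.Quotient.mkₐ A P')
  have hker : ∀ y, π y = 0 → y ∈ P'.map inc := by
    intro y hy
    have hex : Function.Exact ((P'.restrictScalars A).subtype) (Ideal.Quotient.mkₐ A P').toLinearMap :=
      fun a => ⟨fun h => ⟨⟨a, Ideal.Quotient.eq_zero_iff_mem.mp h⟩, rfl⟩,
        fun ⟨b, hb⟩ => hb ▸ Ideal.Quotient.eq_zero_iff_mem.mpr b.2⟩
    obtain ⟨w, rfl⟩ := (lTensor_exact C hex Ideal.Quotient.mk_surjective y).mp hy
    induction w with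
    | zero => rw [map_zero]; exact zero_mem _
    | add a b ha hb =>
      rw [map_add]
      exact add_mem (ha (by
        exact (lTensor_exact C hex Ideal.Quotient.mk_surjective).apply_apply_eq_zero a)) (hb (by
        exact (lTensor_exact C hex Ideal.Quotient.mk_surjective).apply_apply_eq_zero b))
    | tmul c p =>
      rw [LinearMap.lTensor_tmul, show c ⊗ₜ[A] ((P'.restrictScalars A).subtype p) =
        (c ⊗ₜ[A] (1 : A')) * inc (p : A') by
          show c ⊗ₜ[A] (p : A') = (c ⊗ₜ[A] (1 : A')) * ((1 : C) ⊗ₜ[A] (p : A'))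
          simp]
      exact Ideal.mul_mem_left _ _ (Ideal.mem_map_of_mem _ p.2)
  have hπ0 : ∀ y ∈ P'.map inc, π y = 0 := by
    intro y hy
    have : P'.map inc ≤ RingHom.ker π := by
      rw [Ideal.map_le_iff_le_comap]
      intro p hp
      show π (inc p) = 0
      show (1 : C) ⊗ₜ[A] Ideal.Quotient.mk P' p = 0
      rw [Ideal.Quotient.eq_zero_iff_mem.mpr hp, TensorProduct.tmul_zero]
    exact this hy
  have hle : P'.map inc ≤ Q := by
    rw [Ideal.map_le_iff_le_comap]
    exact fun p hp => hQ p (le_maximalIdeal hP'.ne_top hp)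
  obtain ⟨P, hP, hPQ⟩ := Ideal.exists_minimalPrimes_le hle
  haveI : P.IsPrime := hP.1.1
  haveI := flat_residueField_of_under_bot P' hP'0
  have hreg : ∀ c : C, c ≠ 0 → algebraMap C T c ∉ P := by
    intro c hc hcP
    obtain ⟨y, hy, hcy⟩ := Ideal.exists_mul_mem_of_mem_minimalPrimes hP hcP
    refine hy (hker y ?_)
    have h1 : π (algebraMap C T c) * π y = 0 := by rw [← map_mul]; exact hπ0 _ hcy
    let ι : A' ⧸ P' →ₐ[A] P'.ResidueField := IsScalarTower.toAlgHom A (A' ⧸ P') P'.ResidueField
    let ε : C ⊗[A] (A' ⧸ P') →ₐ[A] C ⊗[A] P'.ResidueField := Algebra.TensorProduct.map (AlgHom.id A C) ι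
    have hε : Function.Injective ε :=
      Module.Flat.lTensor_preserves_injective_linearMap (M := C) ι.toLinearMap
        (Ideal.injective_algebraMap_quotient_residueField P')
    have h2 : (LinearMap.mulLeft A c).rTensor P'.ResidueField (ε (π y)) = 0 := by
      have hmul : ∀ z : C ⊗[A] P'.ResidueField,
          (LinearMap.mulLeft A c).rTensor P'.ResidueField z = (c ⊗ₜ 1) * z := by
        intro z
        induction z with
        | zero => simp
        | add a b ha hb => simp only [map_add, mul_add, ha, hb]
        | tmul a b => simp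
      rw [hmul, ← map_zero ε, ← h1, map_mul]
      congr 1
      show c ⊗ₜ[A] (1 : P'.ResidueField) = c ⊗ₜ[A] ι (Ideal.Quotient.mk P' 1)
      rw [map_one, map_one]
    have h3 := Module.Flat.rTensor_preserves_injective_linearMap (M := P'.ResidueField)
      (LinearMap.mulLeft A c) (fun a b h => mul_left_cancel₀ hc h)
    exact hε ((h3 (h2.trans (map_zero _).symm)).trans (map_zero ε).symm)
  let TQ := Localization.AtPrime Q
  let α : C →+* TQ := (algebraMap T TQ).comp (algebraMap C T)
  have hα : Function.Injective α := by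
    rw [injective_iff_map_eq_zero]
    intro c hc
    by_contra h0
    obtain ⟨s, hs⟩ := (IsLocalization.map_eq_zero_iff Q.primeCompl TQ _).mp hc
    have : (s : T) * algebraMap C T c ∈ P := hs ▸ P.zero_mem
    rcases (inferInstance : P.IsPrime).mem_or_mem this with h | h
    · exact s.2 (hPQ h)
    · exact hreg c h0 h
  obtain ⟨n, hn⟩ := chevalley (fun n => (maximalIdeal TQ ^ n).comap α)
    (fun a b hab => Ideal.comap_mono (Ideal.pow_le_pow_right hab)) (fun x hx => hα (by
      rw [map_zero]
      exact IsHausdorff.haus' (I := maximalIdeal TQ) _ fun n => by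
        rw [SModEq.zero, smul_eq_mul, Ideal.mul_top]; exact hx n)) j
  refine ⟨n, fun a ha => hC j (hn ?_)⟩
  show α (algebraMap A C a) ∈ maximalIdeal TQ ^ n
  have h1 : α (algebraMap A C a) = algebraMap T TQ (inc (algebraMap A A' a)) := by
    show algebraMap T TQ _ = _
    congr 1
    rw [AlgHom.commutes]
    exact (IsScalarTower.algebraMap_apply A C T a).symm
  rw [h1]
  have h2 : (maximalIdeal A').map ((algebraMap T TQ).comp inc.toRingHom) ≤ maximalIdeal TQ := by
    rw [Ideal.map_le_iff_le_comap]
    intro x hx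
    exact (IsLocalization.AtPrime.to_map_mem_maximal_iff TQ Q (inc x)).mpr (hQ x hx)
  have h3 := Ideal.mem_map_of_mem ((algebraMap T TQ).comp inc.toRingHom) ha
  rw [Ideal.map_pow] at h3
  exact Ideal.pow_right_mono h2 n h3

/-- Let φ : A → A' be an injective local homomorphism of Noetherian local rings, essentially of finite
type, such that the adic completion of A at its maximal ideal m is an integral domain. Then every
power m^j contains φ⁻¹(m'^n) for some n, m' the maximal ideal of A': the m-adic topology of A is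
induced from the m'-adic topology of A'. (Equivalently, the induced homomorphism of completions Â →
Â' is injective, which is how the published statement phrases the conclusion; the inclusion of
ideals is what its proof establishes.) -/
theorem result (A A' : Type u) [CommRing A]
    [CommRing A'] [IsNoetherianRing A] [IsNoetherianRing A'] [IsLocalRing A] [IsLocalRing A'] [Algebra A A']
    (hinj : Function.Injective (algebraMap A A')) [IsLocalHom (algebraMap A A')] [Algebra.EssFiniteType A A']
    [IsDomain (AdicCompletion (IsLocalRing.maximalIdeal A) A)] (j : ℕ) :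
    ∃ n : ℕ, ((IsLocalRing.maximalIdeal A') ^ n).comap (algebraMap A A') ≤ (IsLocalRing.maximalIdeal A) ^ j := by
  haveI : IsNoetherianRing (AdicCompletion (IsLocalRing.maximalIdeal A) A) :=
    Groth.Calg1.isNoetherianRing_adicCompletion _ (IsNoetherian.noetherian (IsLocalRing.maximalIdeal A))
  refine main A A' (AdicCompletion (IsLocalRing.maximalIdeal A) A) ?_ hinj
    (AdicCompletion.evalOneₐ (IsLocalRing.maximalIdeal A)) (fun i => ?_) j
  · exact AdicCompletion.of_injective (IsLocalRing.maximalIdeal A) A
  · rw [AdicCompletion.maximalIdeal_eq_map]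
    exact Groth.Calg6.SecCompl.comap_map_pow _ i

end Groth.Agent.S12420
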