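import Groth.Statements.S12421
import Mathlib

set_option autoImplicit false
universe u
open TensorProduct
open Desc

namespace Groth.Agent.S12421

/-- Let R → R' be faithfully flat and M an R-module. With δ¹ : M ⊗ R' → M ⊗ (R' ⊗ R'), m ⊗ r ↦ m ⊗ (1 ⊗
r) − m ⊗ (r ⊗ 1), and δ² : M ⊗ (R' ⊗ R') → M ⊗ (R' ⊗ (R' ⊗ R')), m ⊗ x ↦ m ⊗ (1 ⊗ x) − m ⊗ (ins₁ x)
+ m ⊗ (ins₂ x), where ins₁ (r₁ ⊗ r₂) = r₁ ⊗ (1 ⊗ r₂) and ins₂ (r₁ ⊗ r₂) = r₁ ⊗ (r₂ ⊗ 1), the
sequence M ⊗ R' → M ⊗ R'^{⊗2} → M ⊗ R'^{⊗3} is exact: the kernel of δ² is the image of δ¹. (The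
published statement asserts exactness of the whole complex; this row states exactness at M ⊗ R′ ⊗ R′
only.) -/
theorem result (R R' : Type u) [CommRing R] [CommRing R'] [Algebra R R']
    [Module.FaithfullyFlat R R'] (M : Type u) [AddCommGroup M] [Module R M] :
    Function.Exact
      (LinearMap.lTensor M (Algebra.TensorProduct.includeRight : R' →ₐ[R] R' ⊗[R] R').toLinearMap -
        LinearMap.lTensor M
          (Algebra.TensorProduct.includeLeft : R' →ₐ[R] R' ⊗[R] R').toLinearMap)
      (LinearMap.lTensor M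
          (Algebra.TensorProduct.includeRight : R' ⊗[R] R' →ₐ[R] R' ⊗[R] (R' ⊗[R] R')).toLinearMap -
        LinearMap.lTensor M
          (Algebra.TensorProduct.map (AlgHom.id R R')
            (Algebra.TensorProduct.includeRight : R' →ₐ[R] R' ⊗[R] R')).toLinearMap +
        LinearMap.lTensor M
          (Algebra.TensorProduct.map (AlgHom.id R R')
            (Algebra.TensorProduct.includeLeft : R' →ₐ[R] R' ⊗[R] R')).toLinearMap) := by
  rw [LinearMap.exact_iff]
  set d₁ := (LinearMap.lTensor M (Algebra.TensorProduct.includeRight : R' →ₐ[R] R' ⊗[R] R').toLinearMap -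
    LinearMap.lTensor M (Algebra.TensorProduct.includeLeft : R' →ₐ[R] R' ⊗[R] R').toLinearMap) with hd₁
  apply le_antisymm
  · intro x hx
    rw [LinearMap.mem_ker] at hx
    let q := (LinearMap.range d₁).mkQ
    -- evaluate on the last tensor slot
    let e : M ⊗[R] (R' ⊗[R] (R' ⊗[R] R')) →ₗ[R] (M ⊗[R] (R' ⊗[R] R')) ⊗[R] R' :=
      (TensorProduct.assoc R M (R' ⊗[R] R') R').symm.toLinearMap ∘ₗ
        (TensorProduct.assoc R R' R' R').symm.toLinearMap.lTensor M
    have hq : ∀ m a, q (m ⊗ₜ[R] ((1 : R') ⊗ₜ[R] a)) = q (m ⊗ₜ[R] (a ⊗ₜ[R] (1 : R'))) := by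
      intro m a
      refine (Submodule.Quotient.eq _).mpr ⟨m ⊗ₜ a, ?_⟩
      simp [d₁]
    have h1 : (q.rTensor R') (e (((LinearMap.lTensor M
          (Algebra.TensorProduct.includeRight : R' ⊗[R] R' →ₐ[R] R' ⊗[R] (R' ⊗[R] R')).toLinearMap -
        LinearMap.lTensor M
          (Algebra.TensorProduct.map (AlgHom.id R R')
            (Algebra.TensorProduct.includeRight : R' →ₐ[R] R' ⊗[R] R')).toLinearMap +
        LinearMap.lTensor M
          (Algebra.TensorProduct.map (AlgHom.id R R')
            (Algebra.TensorProduct.includeLeft : R' →ₐ[R] R' ⊗[R] R')).toLinearMap)) x)) =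
        q x ⊗ₜ[R] (1 : R') := by
      clear hx
      induction x with
      | zero => simp
      | tmul m y =>
        induction y with
        | zero => simp
        | tmul a b =>
          simp [e, hq]
        | add y z hy hz => simp only [tmul_add, map_add, hy, hz, add_tmul]
      | add y z hy hz => simp only [map_add, hy, hz, add_tmul]
    rw [hx, map_zero, map_zero] at h1
    have h2 := Module.FaithfullyFlat.tensorProduct_mk_injective (A := R) (B := R')
      ((M ⊗[R] (R' ⊗[R] R')) ⧸ LinearMap.range d₁)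
      (a₁ := q x) (a₂ := 0) (by
        have := congrArg (TensorProduct.comm R _ R') h1.symm
        simpa using this)
    exact (Submodule.Quotient.mk_eq_zero _).mp h2
  · rintro _ ⟨x, rfl⟩
    rw [LinearMap.mem_ker]
    induction x with
    | zero => simp
    | tmul m a => simp [d₁, tmul_sub, Algebra.TensorProduct.one_def]
    | add y z hy hz => simp only [map_add, hy, hz, add_zero]

end Groth.Agent.S12421
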