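import Groth.Statements.S12422
import Groth.Agent.OmegaSheaf.SmoothRank
import Groth.Agent.VarietyBC.SmoothChart
import Groth.Agent.FibreDim.Composition
import Groth.Agent.S1618

set_option autoImplicit false
universe u
open CategoryTheory CategoryTheory.Limits AlgebraicGeometry
open NonsingVar

namespace Groth.Agent.S12422

/-- Let k be an algebraically closed field, X an irreducible scheme which is separated and of finite
type over k, n = dim X, and (Ω, d) a sheaf of relative differentials of X over k, i.e. d : O_X → Ω a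
universal k-derivation. Then Ω is locally free of rank n if and only if every local ring of X is
regular (X is a nonsingular variety over k). -/
theorem result (k : Type u) [Field k] [IsAlgClosed k] (n : ℕ)
    (X : Scheme.{u}) [X.Over (Spec (CommRingCat.of k))] [IrreducibleSpace ↥X]
    [IsSeparated (X ↘ (Spec (CommRingCat.of k)))] [LocallyOfFiniteType (X ↘ (Spec (CommRingCat.of k)))]
    [QuasiCompact (X ↘ (Spec (CommRingCat.of k)))]
    (hn : topologicalKrullDim ↥X = (n : WithBot ℕ∞))
    (Ω : X.Modules) (d : OmegaSh.Der (X ↘ (Spec (CommRingCat.of k))) Ω) (hd : OmegaSh.IsUniversal d) :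
    FlatMod.IsFinLocFreeOfRank n Ω ↔ ∀ x : ↥X, IsRegularLocalRing ↑(X.presheaf.stalk x) := by
  let f := X ↘ (Spec (CommRingCat.of k))
  haveI : IsLocallyNoetherian X := LocallyOfFiniteType.isLocallyNoetherian f
  haveI : LocallyOfFinitePresentation f := inferInstance
  have hdim : ∀ x : X, FlatMor.fibreDimAt f x = (n : WithBot ℕ∞) := by
    intro x
    have h1 := Groth.FibreDim.fibreDimAt_eq_of_range f (f.base x) (e := (id : X → X))
      Topology.IsEmbedding.id (by
        rw [Set.range_id]
        exact (Set.eq_univ_of_forall fun a => Subsingleton.elim (f.base a) (f.base x)).symm) x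
    rw [show FlatMor.fibreDimAt f x = FlatMor.fibreDimAt f (id x) from rfl, h1, ← hn]
    refine le_antisymm (le_trans (iInf_le _ ⟨⊤, trivial⟩) ?_) (le_iInf fun U => ?_)
    · exact le_of_eq (Groth.Agent.S1618.result k X ⊤ ⟨x, trivial⟩)
    · exact le_of_eq (Groth.Agent.S1618.result k X U.1 ⟨x, U.2⟩).symm
  refine ⟨fun h x => ?_, fun h x => ?_⟩
  · obtain ⟨U, hxU, hiso⟩ := h x
    obtain ⟨c, hxc, hc⟩ := Groth.OmegaSheaf.exists_finrank_kaehler_eq hd hiso hxU
    have hflat : (f.stalkMap x).hom.Flat := by
      haveI : Flat f := inferInstance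
      exact Flat.stalkMap f x
    exact Groth.VarietyBC.isRegularLocalRing_of_mem_smoothLocus
      (Groth.OmegaSheaf.mem_smoothLocus_of_finrank_le c hxc hflat (by rw [hdim x, hc]))
  · have hsm : x ∈ f.smoothLocus := by
      obtain ⟨_, ⟨U, hU, rfl⟩, hxU, -⟩ := X.isBasis_affineOpens.exists_subset_of_mem_open
        (Set.mem_univ x) isOpen_univ
      letI := (Groth.VarietyBC.openMap (k := k) hU).toAlgebra
      haveI := Groth.VarietyBC.finiteType_openMap (k := k) hU
      haveI := (Groth.VarietyBC.isRegularLocalRing_stalk_iff hU hxU).2 (h x)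
      haveI : Algebra.EssFiniteType k (hU.primeIdealOf ⟨x, hxU⟩).asIdeal.ResidueField :=
        Algebra.EssFiniteType.comp k Γ(X, U) _
      exact (Groth.VarietyBC.mem_smoothLocus_iff hU hxU).2 (Groth.Calg4.isSmoothAt_of_isRegularLocalRing _)
    obtain ⟨U, m, hxU, hiso, hm⟩ := Groth.OmegaSheaf.exists_free_of_mem_smoothLocus hd hsm
    obtain rfl : n = m := by
      rw [hdim x] at hm
      exact_mod_cast hm
    exact ⟨U, hxU, hiso⟩

end Groth.Agent.S12422
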