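import Groth.Statements.S12427
import Groth.Agent.CohTwo.LocFreeExt

set_option autoImplicit false
universe u
open CategoryTheory AlgebraicGeometry
open Coherent

namespace Groth.Agent.S12427

/-- Let X be a scheme, L a finite locally free O_X-module with dual L^∨ = Hom_{O_X}(L, O_X), and F, G
arbitrary O_X-modules. Then for every i ≥ 0 the Ext sheaf Ext^i(F ⊗ L, G) is isomorphic to Ext^i(F,
G) ⊗ L^∨. Here Ext^i(M, -) is the i-th right derived functor of the internal Hom functor Hom(M, -),
whose existence, like that of injective resolutions, is an instance hypothesis (always true);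
existence of an isomorphism only, the published statement naming no map. (The published statement is
for ringed spaces and also gives the global Ext isomorphism; this row is for schemes and states the
sheaf isomorphism only.) -/
theorem result (X : Scheme.{u}) (F G L : X.Modules)
    (hL : FlatMod.IsFinLocFree L) (i : ℕ)
    [ModSite.HasSheafHom (O := X.sheaf) F] [ModSite.HasSheafHom (O := X.sheaf) L]
    [ModSite.HasSheafHom (O := X.sheaf) (CohB1.tensorMod F L)]
    [HasInjectiveResolutions (ModSite.Mod X.sheaf)] :
    Nonempty ((ModSite.extSh (O := X.sheaf) (CohB1.tensorMod F L) i).obj G ≅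
      CohB1.tensorMod ((ModSite.extSh (O := X.sheaf) F i).obj G)
        ((ModSite.sheafHom (O := X.sheaf) L).obj (Coh.structureModule X))) := by
  haveI : ModSite.HasSheafHom (O := X.sheaf) (CohB1.tensorMod L F) :=
    Groth.SitesTopoi.ModH.hasSheafHom (O := X.sheaf) (CohB1.tensorMod L F)
  obtain ⟨e⟩ := Groth.CohTwo.LocFreeExt.nonempty_extSh_tensor F G L hL i
  obtain ⟨h⟩ : Nonempty ((ModSite.sheafHom (O := X.sheaf) (CohB1.tensorMod F L)) ≅
      ModSite.sheafHom (O := X.sheaf) (CohB1.tensorMod L F)) :=
    ⟨Adjunction.rightAdjointUniq (ModSite.sheafHomAdj (O := X.sheaf) (CohB1.tensorMod F L))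
      ((ModSite.sheafHomAdj (O := X.sheaf) (CohB1.tensorMod L F)).ofNatIsoLeft
        ((ModSite.tensorBi X.sheaf).flip.mapIso (Groth.PicAux.exists_braiding L F).choose))⟩
  haveI : ((ModSite.tensorBi X.sheaf).flip.obj (CohB1.tensorMod F L)).Additive :=
    Groth.CohTwo.LocFreeExt.additive_tR _
  haveI : ((ModSite.tensorBi X.sheaf).flip.obj (CohB1.tensorMod L F)).Additive :=
    Groth.CohTwo.LocFreeExt.additive_tR _
  haveI := (ModSite.sheafHomAdj (O := X.sheaf) (CohB1.tensorMod F L)).right_adjoint_additive
  haveI := (ModSite.sheafHomAdj (O := X.sheaf) (CohB1.tensorMod L F)).right_adjoint_additive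
  exact ⟨({ hom := NatTrans.rightDerived h.hom i
            inv := NatTrans.rightDerived h.inv i
            hom_inv_id := by rw [← NatTrans.rightDerived_comp, Iso.hom_inv_id, NatTrans.rightDerived_id]
            inv_hom_id := by rw [← NatTrans.rightDerived_comp, Iso.inv_hom_id, NatTrans.rightDerived_id] } :
      _ ≅ _).app G ≪≫ e⟩

end Groth.Agent.S12427
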