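import Groth.Statements.S12428
import Groth.Agent.Agf.ObsIdentity

set_option autoImplicit false
universe u
open CategoryTheory MonoidalCategory CartesianMonoidalCategory MonObj GrpObj AlgebraicGeometry
open scoped TensorProduct
open AGF

namespace Groth.Agent.S12428

/-- Let k be an algebraically closed field, G a linear algebraic group over k (an affine smooth group
scheme over k), i : H → G a closed subgroup (smooth closed subgroup scheme), j : G° → G the identity
component (a connected open subgroup scheme), and K = H ∩ G° the intersection subgroup scheme, with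
homomorphisms a : K → H and b : K → G° whose underlying square of schemes is a pullback of i and j.
Then H is observable in G if and only if K is observable in G°. -/
theorem result (k : Type u) [Field k] [IsAlgClosed k]
    (G : Over (Spec (CommRingCat.of k))) [GrpObj G] [IsAffine G.left] [Smooth G.hom]
    (H : Over (Spec (CommRingCat.of k))) [GrpObj H] [Smooth H.hom] (i : H ⟶ G) [IsMonHom i]
    [IsClosedImmersion i.left]
    (G₀ : Over (Spec (CommRingCat.of k))) [GrpObj G₀] [ConnectedSpace G₀.left] (j : G₀ ⟶ G) [IsMonHom j]
    [IsOpenImmersion j.left]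
    (K : Over (Spec (CommRingCat.of k))) [GrpObj K] (a : K ⟶ H) [IsMonHom a] (b : K ⟶ G₀) [IsMonHom b]
    (hK : IsPullback a.left b.left i.left j.left) :
    AGF.IsObservableIn k i ↔ AGF.IsObservableIn k b := by
  open Groth.Agf in
  have : IsAffine H.left := isAffine_of_closedImm i
  have : IsClosedImmersion j.left :=
    IsClosedImmersion.of_isPreimmersion j.left (Groth.Agf.isClosed_range_openSubgroup j)
  have : IsAffine G₀.left := Groth.Agf.isAffine_of_closedImm j
  have : IsOpenImmersion a.left := MorphismProperty.of_isPullback hK.flip ‹IsOpenImmersion j.left›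
  have : IsClosedImmersion a.left := MorphismProperty.of_isPullback hK.flip ‹IsClosedImmersion j.left›
  have : IsAffine K.left := Groth.Agf.isAffine_of_closedImm a
  have : Smooth K.hom := by rw [← Over.w a]; infer_instance
  have : Smooth G₀.hom := by rw [← Over.w j]; infer_instance
  have hc : a ≫ i = b ≫ j := Over.OverMorphism.ext hK.w
  have hlift : ∀ (h : VecGrp.pt k k ⟶ H) (y : VecGrp.pt k k ⟶ G₀), h ≫ i = y ≫ j →
      ∃ l : VecGrp.pt k k ⟶ K, l ≫ a = h ∧ l ≫ b = y := by
    intro h y e
    refine ⟨Over.homMk (hK.lift h.left y.left (congrArg Over.Hom.left e)) ?_, ?_, ?_⟩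
    · show _ ≫ K.hom = _
      rw [← Over.w a, ← Category.assoc, hK.lift_fst, Over.w]
    · exact Over.OverMorphism.ext (hK.lift_fst _ _ _)
    · exact Over.OverMorphism.ext (hK.lift_snd _ _ _)
  constructor
  · intro hobs g hg
    obtain ⟨h, hh⟩ := Groth.Agf.exists_of_obs i j a b hc hobs g hg
    obtain ⟨l, -, hl⟩ := hlift h g hh
    exact ⟨l, hl⟩
  · intro hobs
    have := Groth.Agf.finite_quotient_range j
    have hpre : (Groth.Agf.ratHom a).range = (Groth.Agf.ratHom j).range.comap (Groth.Agf.ratHom i) := by
      ext h
      constructor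
      · rintro ⟨l, rfl⟩
        exact ⟨l ≫ b, by simp [hc]⟩
      · rintro ⟨y, hy⟩
        obtain ⟨l, hl, -⟩ := hlift h y hy.symm
        exact ⟨l, hl⟩
    have : Finite ((VecGrp.pt k k ⟶ H) ⧸ (Groth.Agf.ratHom a).range) := by
      rw [hpre]
      refine Finite.of_injective (β := (VecGrp.pt k k ⟶ G) ⧸ (Groth.Agf.ratHom j).range)
        (Quotient.map' (Groth.Agf.ratHom i) fun x y h => ?_) ?_
      · rw [QuotientGroup.leftRel_apply] at h ⊢
        simpa only [map_mul, map_inv] using Subgroup.mem_comap.1 h
      · intro p q
        induction p using QuotientGroup.induction_on with | _ x =>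
        induction q using QuotientGroup.induction_on with | _ y =>
        intro h
        refine QuotientGroup.eq.2 (Subgroup.mem_comap.2 ?_)
        rw [map_mul, map_inv]
        exact QuotientGroup.eq.1 h
    exact Groth.Agf.obs_of_finite i j a b hc hobs

end Groth.Agent.S12428
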