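import Groth.Statements.S12432
import Groth.Agent.CliffIndex.Castelnuovo
import Groth.Agent.CliffIndex.MapSeries
import Groth.Agent.CurveBridge.CliffordApps
import Groth.Agent.CurveBridge.RegularSmooth
import Groth.Agent.CurveBridge.Omega
-- import your own Groth.Agent.* helpers here

set_option autoImplicit false
set_option backward.isDefEq.respectTransparency.types false
universe u
open CategoryTheory CategoryTheory.Limits AlgebraicGeometry
open Curves

namespace Groth.Agent.S12432

open Groth.CliffIndex Groth.CurveBridge Groth.Chow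
open scoped Groth.CurveBridge

/-- In degree d = 6 the curve is canonical. Take k algebraically closed and suppose X is a curve over k
(integral, proper over k, one-dimensional, with every local ring regular), equipped with a closed
immersion i : X → P^3_k over k whose image lies in no plane — that is, any nonzero global section of
O(1) on P^3_k pulls back to a nonzero global section of i^*O(1). Assume the hyperplane section is
special, meaning H^1(X, i^*O(1)) ≠ 0, and that deg i^*O(1) = 6. Then i^*O(1) is isomorphic to the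
canonical sheaf Ω_{X/k}, and X has genus 4 (so X is a canonical curve of genus 4; the isomorphism is
asserted to exist as O_X-modules). -/
theorem result (k : Type u) [Field k] [IsAlgClosed k] (X : Scheme.{u}) [X.Over (Spec (CommRingCat.of k))]
    [IsIntegral X] [IsProper (X ↘ (Spec (CommRingCat.of k)))] (hdim : topologicalKrullDim X = 1)
    (hreg : ∀ x : X, IsRegularLocalRing (X.presheaf.stalk x))
    (i : X ⟶ CohB1.ProjSpace 3 k) [IsClosedImmersion i] (hi : i ≫ CohB1.ProjSpace.toSpec 3 k = (X ↘ (Spec (CommRingCat.of k))))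
    (hplane : ∀ s : LinSer.Sect (CohB1.ProjSpace 3 k) (Twist.twistProjSpace 3 k 1), s ≠ 0 →
      OmegaSh.pullSect i (Twist.twistProjSpace 3 k 1) ⊤ s ≠ 0)
    (hspecial : Nontrivial (Coh.HH X ((Scheme.Modules.pullback i).obj (Twist.twistProjSpace 3 k 1)) 1))
    (hdeg : Curv2.deg k X ((Scheme.Modules.pullback i).obj (Twist.twistProjSpace 3 k 1)) 1 = 6) :
    Nonempty (((Scheme.Modules.pullback i).obj (Twist.twistProjSpace 3 k 1)) ≅ Omega.sheaf (X ↘ (Spec (CommRingCat.of k)))) ∧ Curv2.genus k X = 4 := by
  have h : IsRegCurve X := ⟨hdim, hreg⟩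
  have hK := Groth.CurveBridge.isFunctionField (k := k) (X := X) h.dim
  have hI := Groth.PicAux.isInvertible_pullback i (ToPn.twist_isInvertible (R := k) (n := 3))
  obtain ⟨φ, D, hφ, d0, dd, d1⟩ := exists_divEmb h hK hI
  have h4 : 4 ≤ FunFld.ell D := by
    rcases SpaceCurve.choose_le_h0_or_exists i hi (fun M hM => finite_h h hK hM 0) 1 hI with h1 | ⟨Q, hQ, hQ0⟩
    · rw [← d0]
      exact (Nat.choose_one_right _).symm.trans_le h1
    · exact absurd hQ0 (hplane Q hQ)
  haveI := hspecial
  haveI := finite_h h hK hI 1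
  have hpos := Module.finrank_pos (R := k)
    (M := Coh.HH X ((Scheme.Modules.pullback i).obj (Twist.twistProjSpace 3 k 1)) 1)
  rw [genus_eq h hK] at d1
  have hd6 : D.deg = 6 := dd.symm.trans hdeg
  obtain ⟨hcl, hd2, hlg⟩ := GenPos.special_facts hK (D := D) (by omega) (by omega)
  have hsep := (exists_closedImmersion_iff h hK hφ hI).mp ⟨3, i, inferInstance, hi, ⟨Iso.refl _⟩⟩
  have hg4 : FunFld.genus k X.functionField = 4 := by
    by_contra hne
    obtain ⟨C, hC⟩ := Groth.FunFld1.exists_isCanonical hK
    obtain ⟨N, hNd, hNl, μ, hμ, he⟩ := CliffordEquality.clifford_eq hK hC (D := D) (by omega)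
      (by omega) (by omega)
    have hF := Groth.FunFld1.IsFF.of_isFunctionField hK
    obtain ⟨x, hx, hxN⟩ := hF.exists_effective_of_ne_bot (D := N) (fun hb => by
      unfold FunFld.ell at hNl; rw [hb, finrank_bot] at hNl; omega)
    obtain ⟨P, hP⟩ : ∃ P, 0 < (N + FunFld.div k x) P := by
      by_contra! hno
      have h0 : N + FunFld.div k x = 0 := Finsupp.ext fun P => le_antisymm (hno P) (hxN P)
      have := congrArg FunFld.Divisor.deg h0
      rw [Groth.FunFld1.deg_add, hF.deg_div, Groth.FunFld1.deg_zero, hNd] at this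
      omega
    have he1 : 0 ≤ N + FunFld.div k x - Finsupp.single P 1 := fun Q => by
      rw [Finsupp.sub_apply, Finsupp.coe_zero, Pi.zero_apply]
      by_cases hQ : P = Q
      · subst hQ; rw [Finsupp.single_eq_same]; omega
      · rw [Finsupp.single_eq_of_ne (Ne.symm hQ), sub_zero]; exact hxN Q
    obtain ⟨Q, -, hQ⟩ := Groth.FunFld1.effective_deg_one hF he1 (by
      rw [CliffIndex.deg_sub_single hK, Groth.FunFld1.deg_add, hF.deg_div, hNd]; norm_num)
    have h2 := hsep P Q
    rw [show D - Finsupp.single P 1 - Finsupp.single Q 1 = 2 • N + (FunFld.div k μ + -FunFld.div k x) by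
      rw [← hQ, he, show FunFld.ell D - 1 = 2 + 1 by omega, succ_nsmul]; abel,
      ← hF.div_inv, ← hF.div_mul hμ (inv_ne_zero hx), hF.ell_add_div _ (mul_ne_zero hμ (inv_ne_zero hx))] at h2
    have h3 := ell_add_ell_le hK hxN hxN
    rw [hF.ell_add_div N hx, show N + FunFld.div k x + (N + FunFld.div k x) =
      2 • N + FunFld.div k (x * x) by rw [hF.div_mul hx hx, two_nsmul]; abel,
      hF.ell_add_div _ (mul_ne_zero hx hx)] at h3
    omega
  rw [genus_eq h hK]
  refine ⟨?_, hg4⟩
  haveI := smooth_of_regular k X hreg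
  obtain ⟨o0, -, od⟩ := omega_numerics (k := k) (X := X) h
  exact nonempty_iso_of_canonical_numerics h hK hI (isInvertible_omega hK)
    (by rw [genus_eq h hK, hg4, d0]; omega) (by rw [dd, hd6, genus_eq h hK, hg4]; rfl) o0.ge od

end Groth.Agent.S12432
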