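import Groth.Statements.S12434
import Groth.Agent.CohTwo.PointDecomposition

set_option autoImplicit false
universe u
open CategoryTheory CategoryTheory.Limits AlgebraicGeometry
open Coherent

namespace Groth.Agent.S12434

/-- On a locally Noetherian scheme X every injective O_X-module (injective object of the category of all
O_X-modules) is isomorphic to a direct sum of indecomposable injective O_X-modules — a coproduct of
a family of injective modules J_i, each nonzero and such that in any decomposition J_i ≅ A ⊞ B one
of A, B is zero. (The published statement also asserts uniqueness of the decomposition, not restated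
here.) -/
theorem result {X : Scheme.{u}} [IsLocallyNoetherian X]
    (I : X.Modules) (hI : Injective I) :
    ∃ (ι : Type u) (J : ι → X.Modules), (∀ i, Injective (J i)) ∧ (∀ i, ¬ IsZero (J i)) ∧
      (∀ i (A B : X.Modules), Nonempty (J i ≅ A ⊞ B) → IsZero A ∨ IsZero B) ∧ Nonempty (I ≅ ∐ J) := by
  obtain ⟨ι, p, hp, hiso⟩ := Groth.CohTwo.PtDecomp.exists_decomposition I
  exact ⟨ι, fun i => Groth.CohTwo.SkyMod.sky (p i).pt (p i).A,
    fun i => Groth.CohTwo.PtDecomp.injective_pt (p i) (hp i),
    fun i => Groth.CohTwo.PtDecomp.not_isZero (hp i).indec,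
    fun i A B ⟨e⟩ => Groth.CohTwo.PtDecomp.isZero_or_isZero (hp i).indec A B e,
    ⟨(asIso (Sigma.desc fun i => (p i).f)).symm⟩⟩

end Groth.Agent.S12434
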