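import Groth.Statements.S12437
import Mathlib.RingTheory.MvPolynomial.Symmetric.Defs
import Mathlib.Algebra.MvPolynomial.Equiv
import Mathlib.RingTheory.Ideal.KrullsHeightTheorem
import Mathlib.RingTheory.Polynomial.UniqueFactorization
import Mathlib.RingTheory.Polynomial.Basic
import Mathlib.Algebra.Polynomial.SpecificDegree
import Mathlib.RingTheory.Localization.FractionRing
import Mathlib.Tactic.FieldSimp
import Mathlib.Algebra.MvPolynomial.Division
import Mathlib.RingTheory.Prime

set_option autoImplicit false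
universe u
open Cubic

namespace Groth.Agent.S12437

section Ring

variable {R : Type u} [CommRing R] [IsDomain R] [IsNoetherianRing R]

open Polynomial in
private theorem radical_isPrime (a b c d : R) (hG : Prime (a * d - b * c))
    (haG : a ∉ Ideal.span {a * d - b * c}) (ha0 : a ≠ 0)
    (hA : (Ideal.span {a}).IsPrime) (hB : (Ideal.span {a, b}).IsPrime)
    (hb : b ∉ Ideal.span {a}) (hc : c ∉ Ideal.span {a, b}) :
    (Ideal.span ({C b + X * C a, C d + X * C c} : Set (Polynomial R))).radical.IsPrime := by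
  classical
  set I := Ideal.span ({C b + X * C a, C d + X * C c} : Set (Polynomial R)) with hI
  haveI : (Ideal.span {a * d - b * c}).IsPrime :=
    (Ideal.span_singleton_prime hG.ne_zero).2 hG
  let K := FractionRing (R ⧸ Ideal.span {a * d - b * c})
  let ι : R →+* K := (algebraMap (R ⧸ Ideal.span {a * d - b * c}) K).comp (Ideal.Quotient.mk (Ideal.span {a * d - b * c}))
  have hker : ∀ r, ι r = 0 → r ∈ Ideal.span {a * d - b * c} := fun r hr =>
    Ideal.Quotient.eq_zero_iff_mem.1 (IsFractionRing.injective _ K (hr.trans (map_zero _).symm))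
  have hιG : ι a * ι d - ι b * ι c = 0 := by
    rw [← map_mul, ← map_mul, ← map_sub]
    show algebraMap (R ⧸ Ideal.span {a * d - b * c}) K
      (Ideal.Quotient.mk (Ideal.span {a * d - b * c}) (a * d - b * c)) = 0
    rw [Ideal.Quotient.eq_zero_iff_mem.2 (Ideal.mem_span_singleton_self _), map_zero]
  have hιa : ι a ≠ 0 := fun h => haG (hker a h)
  let φ : Polynomial R →+* K := eval₂RingHom ι (-ι b / ι a)
  have hφI : I ≤ RingHom.ker φ := by
    rw [hI, Ideal.span_le]
    rintro g (rfl | rfl) <;>
      simp only [SetLike.mem_coe, RingHom.mem_ker, φ, coe_eval₂RingHom, eval₂_add, eval₂_mul,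
        eval₂_C, eval₂_X]
    · rw [div_mul_cancel₀ _ hιa]
      ring
    · rw [div_mul_eq_mul_div, neg_mul, neg_div, ← sub_eq_add_neg, sub_eq_zero, eq_div_iff hιa]
      linear_combination hιG
  have hgen1 : C b + X * C a ∈ I := Ideal.subset_span (Or.inl rfl)
  have hgen2 : C d + X * C c ∈ I := Ideal.subset_span (Or.inr rfl)
  have hGI : C (a * d - b * c) ∈ I := by
    have e : (C (a * d - b * c) : Polynomial R) =
        C a * (C d + X * C c) - C c * (C b + X * C a) := by
      simp only [map_sub, map_mul]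
      ring
    rw [e]
    exact I.sub_mem (I.mul_mem_left _ hgen2) (I.mul_mem_left _ hgen1)
  have hred : ∀ h : Polynomial R, ∃ N r, C a ^ N * h - C r ∈ I := by
    intro h
    induction h using Polynomial.induction_on with
    | C r => exact ⟨0, r, by simp⟩
    | add p q hp hq =>
      obtain ⟨N, r, hr⟩ := hp
      obtain ⟨M, s, hs⟩ := hq
      refine ⟨N + M, a ^ M * r + a ^ N * s, ?_⟩
      have e : C a ^ (N + M) * (p + q) - C (a ^ M * r + a ^ N * s) =
          C a ^ M * (C a ^ N * p - C r) + C a ^ N * (C a ^ M * q - C s) := by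
        simp only [map_add, map_mul, map_pow, pow_add]
        ring
      rw [e]
      exact I.add_mem (I.mul_mem_left _ hr) (I.mul_mem_left _ hs)
    | monomial n r ih =>
      obtain ⟨N, s, hs⟩ := ih
      refine ⟨N + 1, -(s * b), ?_⟩
      have e : C a ^ (N + 1) * (C r * X ^ (n + 1)) - C (-(s * b)) =
          C a * X * (C a ^ N * (C r * X ^ n) - C s) + C s * (C b + X * C a) := by
        simp only [map_neg, map_mul, pow_succ]
        ring
      rw [e]
      exact I.add_mem (I.mul_mem_left _ hs) (I.mul_mem_left _ hgen1)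
  have hPQ : ∀ Q : Ideal (Polynomial R), Q ∈ I.minimalPrimes → RingHom.ker φ ≤ Q := by
    intro Q hQ
    haveI : Q.IsPrime := hQ.1.1
    have haQ : C a ∉ Q := by
      intro haQ
      have hbQ : C b ∈ Q := by
        simpa using Q.sub_mem (hQ.1.2 hgen1) (Q.mul_mem_left X haQ)
      let P1 : Ideal (Polynomial R) := (Ideal.span {a}).map C
      let P2 : Ideal (Polynomial R) := (Ideal.span {a, b}).map C
      haveI : P1.IsPrime := (Ideal.isPrime_map_C_iff_isPrime _).2 hA
      haveI : P2.IsPrime := (Ideal.isPrime_map_C_iff_isPrime _).2 hB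
      have h01 : (⊥ : Ideal (Polynomial R)) < P1 := by
        refine bot_lt_iff_ne_bot.2 fun h => ha0 ?_
        have : C a ∈ P1 := Ideal.mem_map_of_mem _ (Ideal.mem_span_singleton_self a)
        rw [h, Ideal.mem_bot, C_eq_zero] at this
        exact this
      have h12 : P1 < P2 := by
        refine lt_of_le_of_ne (Ideal.map_mono (Ideal.span_mono (by simp))) fun h => hb ?_
        have : C b ∈ P1 := h ▸ Ideal.mem_map_of_mem _ (Ideal.subset_span (by simp))
        simpa using (Ideal.mem_map_C_iff.1 this 0)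
      have h2Q : P2 < Q := by
        refine lt_of_le_of_ne ?_ fun h => hc ?_
        · rw [Ideal.map_le_iff_le_comap, Ideal.span_le]
          rintro g (rfl | rfl)
          · exact haQ
          · exact hbQ
        · have : C d + X * C c ∈ P2 := h ▸ hQ.1.2 hgen2
          simpa [coeff_C] using (Ideal.mem_map_C_iff.1 this 1)
      have e1 : (⊥ : Ideal (Polynomial R)).height + 1 ≤ P1.height :=
        Ideal.height_add_one_le_of_lt_of_isPrime h01
      have e2 : P1.height + 1 ≤ P2.height := Ideal.height_add_one_le_of_lt_of_isPrime h12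
      have e3 : P2.height + 1 ≤ Q.height := Ideal.height_add_one_le_of_lt_of_isPrime h2Q
      have e4 := Ideal.height_le_card_of_mem_minimalPrimes_span (Set.toFinite _) hQ
      have e5 : ({C b + X * C a, C d + X * C c} : Set (Polynomial R)).ncard ≤ 2 :=
        (Set.ncard_insert_le _ _).trans (by simp)
      have h3 : (3 : ℕ∞) ≤ Q.height := by
        calc (3 : ℕ∞) = 0 + 1 + 1 + 1 := by norm_num
          _ ≤ (⊥ : Ideal (Polynomial R)).height + 1 + 1 + 1 := by gcongr; exact zero_le
          _ ≤ P1.height + 1 + 1 := by gcongr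
          _ ≤ P2.height + 1 := by gcongr
          _ ≤ Q.height := e3
      have := h3.trans (e4.trans (Nat.cast_le.2 e5))
      norm_num at this
    intro h hh
    obtain ⟨N, r, hr⟩ := hred h
    have hr0 : ι r = 0 := by
      have h1 : φ (C a ^ N * h - C r) = 0 := hφI hr
      rw [map_sub, map_mul, RingHom.mem_ker.1 hh, mul_zero, zero_sub, neg_eq_zero] at h1
      simpa [φ] using h1
    have hmem : C a ^ N * h ∈ I := by
      obtain ⟨s, hs⟩ := Ideal.mem_span_singleton.1 (hker r hr0)
      have : C r ∈ I := by rw [hs, map_mul]; exact I.mul_mem_right _ hGI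
      simpa using I.add_mem hr this
    rcases ‹Q.IsPrime›.mem_or_mem (hQ.1.2 hmem) with h1 | h1
    · exact absurd (‹Q.IsPrime›.mem_of_pow_mem N h1) haQ
    · exact h1
  haveI : (RingHom.ker φ).IsPrime := RingHom.ker_isPrime _
  suffices I.radical = RingHom.ker φ by rw [this]; infer_instance
  refine le_antisymm ((Ideal.IsPrime.radical_le_iff ‹_›).2 hφI) ?_
  rw [← Ideal.sInf_minimalPrimes]
  exact le_sInf fun Q hQ => hPQ Q hQ

omit [IsNoetherianRing R] in
open Polynomial in
private theorem irreducible_quadratic [UniqueFactorizationMonoid R] (A B C0 : R) (hA : A ≠ 0)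
    (hprim : ∀ r, r ∣ A → r ∣ B → r ∣ C0 → IsUnit r)
    (hsq : ∀ s : R, s * s ≠ B * B - 4 * A * C0) :
    Irreducible (C A * X ^ 2 + C B * X + C C0) := by
  classical
  set G := C A * X ^ 2 + C B * X + C C0 with hG
  have hdeg : G.natDegree = 2 := natDegree_quadratic hA
  have c2 : G.coeff 2 = A := by simp [hG, coeff_X]
  have c1 : G.coeff 1 = B := by simp [hG, coeff_X]
  have c0 : G.coeff 0 = C0 := by simp [hG]
  have hG0 : G ≠ 0 := fun h => by simp [h] at hdeg
  constructor
  · intro hu
    have := natDegree_eq_zero_of_isUnit hu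
    omega
  · intro g h hgh
    have hg0 : g ≠ 0 := fun h0 => hG0 (by rw [hgh, h0, zero_mul])
    have hh0 : h ≠ 0 := fun h0 => hG0 (by rw [hgh, h0, mul_zero])
    have hd : g.natDegree + h.natDegree = 2 := by rw [← natDegree_mul hg0 hh0, ← hgh, hdeg]
    have hconst : ∀ p q : Polynomial R, G = p * q → p.natDegree = 0 → IsUnit p := by
      intro p q hpq hp
      obtain ⟨r, rfl⟩ := natDegree_eq_zero.1 hp
      refine isUnit_C.2 (hprim r ?_ ?_ ?_)
      · exact ⟨q.coeff 2, by rw [← c2, hpq, coeff_C_mul]⟩
      · exact ⟨q.coeff 1, by rw [← c1, hpq, coeff_C_mul]⟩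
      · exact ⟨q.coeff 0, by rw [← c0, hpq, coeff_C_mul]⟩
    by_cases hg1 : g.natDegree = 0
    · exact Or.inl (hconst g h hgh hg1)
    by_cases hh1 : h.natDegree = 0
    · exact Or.inr (hconst h g (by rw [hgh, mul_comm]) hh1)
    exfalso
    have eg := eq_X_add_C_of_natDegree_le_one (show g.natDegree ≤ 1 by omega)
    have eh := eq_X_add_C_of_natDegree_le_one (show h.natDegree ≤ 1 by omega)
    have e : G = C (g.coeff 1 * h.coeff 1) * X ^ 2 +
        C (g.coeff 1 * h.coeff 0 + g.coeff 0 * h.coeff 1) * X + C (g.coeff 0 * h.coeff 0) := by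
      rw [hgh]
      conv_lhs => rw [eg, eh]
      simp only [map_mul, map_add]
      ring
    have hcoeff : ∀ x y z : R, (C x * X ^ 2 + C y * X + C z).coeff 2 = x ∧
        (C x * X ^ 2 + C y * X + C z).coeff 1 = y ∧ (C x * X ^ 2 + C y * X + C z).coeff 0 = z :=
      fun x y z => ⟨by simp [coeff_X], by simp, by simp⟩
    obtain ⟨h2', h1', h0'⟩ := hcoeff (g.coeff 1 * h.coeff 1)
      (g.coeff 1 * h.coeff 0 + g.coeff 0 * h.coeff 1) (g.coeff 0 * h.coeff 0)
    have e2 := congrArg (fun p : Polynomial R => p.coeff 2) e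
    have e1 := congrArg (fun p : Polynomial R => p.coeff 1) e
    have e0 := congrArg (fun p : Polynomial R => p.coeff 0) e
    simp only [c2, c1, c0, h2', h1', h0'] at e2 e1 e0
    refine hsq (g.coeff 1 * h.coeff 0 - g.coeff 0 * h.coeff 1) ?_
    rw [e2, e1, e0]
    ring

end Ring

open MvPolynomial

variable (k : Type u) [Field k]

private theorem finSuccEquiv_esymm (n j : ℕ) :
    finSuccEquiv k n (esymm (Fin (n + 1)) k (j + 1)) =
      Polynomial.C (esymm (Fin n) k (j + 1)) + Polynomial.X * Polynomial.C (esymm (Fin n) k j) := by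
  classical
  rw [esymm_eq_multiset_esymm, Fin.univ_succ, Finset.cons_val, Finset.map_val,
    Multiset.map_cons, Multiset.esymm, Multiset.powersetCard_cons, Multiset.map_add,
    Multiset.sum_add, map_add, Multiset.map_map, esymm_eq_multiset_esymm, Multiset.esymm,
    Multiset.esymm]
  simp only [map_multiset_sum, Multiset.map_map, Multiset.powersetCard_map, Function.comp_def,
    Multiset.prod_cons, map_mul, map_multiset_prod, ← Multiset.sum_map_mul_left]
  simp [finSuccEquiv_X_zero, finSuccEquiv_X_succ, Multiset.map_map, Function.comp_def]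

/-- Over an algebraically closed field k of characteristic zero, the closed subscheme V(σ₂, σ₄) of A^5_k
cut out by the elementary symmetric polynomials of degrees 2 and 4 in five variables — the affine
cone over the surface H = V_+(σ₂, σ₄) ⊂ P^4_k — is irreducible: the radical of the ideal (σ₂, σ₄) of
k[X_0, …, X_4] is a prime ideal. -/
theorem result (k : Type u) [Field k] [IsAlgClosed k] [CharZero k] :
    (Ideal.span ({MvPolynomial.esymm (Fin 5) k 2, MvPolynomial.esymm (Fin 5) k 4} :
      Set (MvPolynomial (Fin 5) k))).radical.IsPrime := by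
  classical
  have t1 : esymm (Fin 3) k 1 = X 0 + X 1 + X 2 := by rw [esymm_one, Fin.sum_univ_three]
  have t2 : esymm (Fin 3) k 2 = X 0 * X 1 + X 0 * X 2 + X 1 * X 2 := by
    rw [esymm, show Finset.powersetCard 2 (Finset.univ : Finset (Fin 3)) =
      {{0, 1}, {0, 2}, {1, 2}} by decide]
    rw [Finset.sum_insert (by decide), Finset.sum_insert (by decide), Finset.sum_singleton]
    simp [Finset.prod_pair]
    ring
  have t3 : esymm (Fin 3) k 3 = X 0 * X 1 * X 2 := by
    rw [esymm, show Finset.powersetCard 3 (Finset.univ : Finset (Fin 3)) = {Finset.univ} by decide,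
      Finset.sum_singleton, Fin.prod_univ_three]
  have t4 : esymm (Fin 3) k 4 = 0 := by
    rw [esymm, show Finset.powersetCard 4 (Finset.univ : Finset (Fin 3)) = ∅ by decide,
      Finset.sum_empty]
  set p1 := esymm (Fin 3) k 1 with hp1
  set p2 := esymm (Fin 3) k 2 with hp2
  set p3 := esymm (Fin 3) k 3 with hp3
  let E := finSuccEquiv k 3
  have E1 : E (esymm (Fin 4) k 1) = Polynomial.C p1 + Polynomial.X := by
    simp only [E, finSuccEquiv_esymm k 3 0, esymm_zero, map_one, mul_one, hp1]
  have E2 : E (esymm (Fin 4) k 2) = Polynomial.C p2 + Polynomial.X * Polynomial.C p1 :=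
    finSuccEquiv_esymm k 3 1
  have E3 : E (esymm (Fin 4) k 3) = Polynomial.C p3 + Polynomial.X * Polynomial.C p2 :=
    finSuccEquiv_esymm k 3 2
  have E4 : E (esymm (Fin 4) k 4) = Polynomial.X * Polynomial.C p3 := by
    simp only [E, finSuccEquiv_esymm k 3 3, t4, map_zero, zero_add, hp3]
  -- the quadrics `p2` and `p2 - p1 ^ 2` in three variables
  let F := finSuccEquiv k 2
  have hq1 : Prime p2 := by
    rw [← MulEquiv.prime_iff F.toMulEquiv]
    refine Irreducible.prime ?_
    have e : F.toMulEquiv p2 =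
        Polynomial.C (X 0 + X 1) * Polynomial.X + Polynomial.C (X 0 * X 1) := by
      show F p2 = _
      rw [t2]
      simp only [map_add, map_mul, F, finSuccEquiv_X_zero,
        show (1 : Fin 3) = Fin.succ (0 : Fin 2) from rfl,
        show (2 : Fin 3) = Fin.succ (1 : Fin 2) from rfl, finSuccEquiv_X_succ]
      ring
    rw [e]
    refine Polynomial.irreducible_C_mul_X_add_C (fun h => ?_) (fun g h1 h2 => ?_)
    · simpa using congrArg (eval ![1, 0]) h
    · have hy : g ∣ X 0 * X 0 := by
        have := (h1.mul_left (X 0)).sub h2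
        simpa [mul_add] using this
      have hz : g ∣ X 1 * X 1 := by
        have := (h1.mul_left (X 1)).sub h2
        convert this using 1
        ring
      have hrel : IsRelPrime (X 0 : MvPolynomial (Fin 2) k) (X 1) :=
        (MvPolynomial.X_prime (i := (0 : Fin 2))).irreducible.isRelPrime_iff_not_dvd.2 fun h => by
          simpa using X_dvd_X.1 h
      exact (hrel.mul_left hrel).mul_right (hrel.mul_left hrel) hy hz
  have hq2 : Prime (p2 - p1 ^ 2) := by
    rw [← MulEquiv.prime_iff F.toMulEquiv]
    have e : F.toMulEquiv (p2 - p1 ^ 2) = -(Polynomial.X ^ 2 +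
        Polynomial.C (X 0 + X 1) * Polynomial.X + Polynomial.C (X 0 ^ 2 + X 0 * X 1 + X 1 ^ 2)) := by
      show F (p2 - p1 ^ 2) = _
      rw [t2, t1]
      simp only [map_add, map_mul, map_sub, map_pow, F, finSuccEquiv_X_zero,
        show (1 : Fin 3) = Fin.succ (0 : Fin 2) from rfl,
        show (2 : Fin 3) = Fin.succ (1 : Fin 2) from rfl, finSuccEquiv_X_succ]
      ring
    rw [e]
    refine (Prime.neg (Irreducible.prime ?_))
    have e' : (Polynomial.X ^ 2 + Polynomial.C (X 0 + X 1) * Polynomial.X +
        Polynomial.C (X 0 ^ 2 + X 0 * X 1 + X 1 ^ 2) : Polynomial (MvPolynomial (Fin 2) k)) =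
        Polynomial.C 1 * Polynomial.X ^ 2 + Polynomial.C (X 0 + X 1) * Polynomial.X +
          Polynomial.C (X 0 ^ 2 + X 0 * X 1 + X 1 ^ 2) := by rw [map_one, one_mul]
    rw [e']
    refine irreducible_quadratic _ _ _ one_ne_zero (fun r h _ _ => isUnit_of_dvd_one h) ?_
    intro s hs
    let w : MvPolynomial (Fin 2) k →ₐ[k] Polynomial k := aeval ![Polynomial.X, 1]
    have hw := congrArg w hs
    simp only [map_mul, map_sub, map_add, map_pow, map_ofNat, map_one, w, aeval_X,
      Matrix.cons_val_zero, Matrix.cons_val_one] at hw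
    set W := aeval ![(Polynomial.X : Polynomial k), 1] s
    obtain ⟨r, hr⟩ := IsAlgClosed.exists_root (Polynomial.C 3 * Polynomial.X ^ 2 +
      Polynomial.C 2 * Polynomial.X + Polynomial.C (3 : k)) (by
        rw [Polynomial.degree_quadratic (by norm_num)]; decide)
    have h0 : 3 * r ^ 2 + 2 * r + 3 = 0 := by simpa using hr
    have e0 := congrArg (Polynomial.eval r) hw
    have e1 := congrArg (fun p => Polynomial.eval r (Polynomial.derivative p)) hw
    simp [Polynomial.derivative_pow, Polynomial.derivative_mul] at e0 e1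
    have hW : Polynomial.eval r W = 0 := mul_self_eq_zero.1 (by linear_combination e0 - h0)
    rw [hW] at e1
    have h1 : 6 * r + 2 = 0 := by linear_combination e1
    have : (8 : k) = 0 := by linear_combination 3 * h0 - (r / 2 + 1 / 6) * 3 * h1
    norm_num at this
  have hhalf : (2 : k) * 2⁻¹ = 1 := mul_inv_cancel₀ two_ne_zero
  have hnot : ¬ p2 ∣ p3 ∧ ¬ p2 ∣ p3 - p1 * p2 := by
    have h0 : eval ![1, 1, -(2 : k)⁻¹] p2 = 0 := by
      simp [t2]
      linear_combination -hhalf
    constructor <;> intro h <;> obtain ⟨c, hc⟩ := h <;>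
      have := congrArg (eval ![1, 1, -(2 : k)⁻¹]) hc <;>
      rw [map_mul, h0, zero_mul] at this
    · simp [t3] at this
    · rw [map_sub, map_mul, h0, mul_zero, sub_zero] at this
      simp [t3] at this
  let A := p3 - p1 * p2
  have hA : A ≠ 0 := fun h => hnot.2 (show p2 ∣ A by rw [h]; exact dvd_zero _)
  have hGirr : Irreducible (Polynomial.C A * Polynomial.X ^ 2 +
      Polynomial.C (-(p2 * p2)) * Polynomial.X + Polynomial.C (-(p2 * p3))) := by
    refine irreducible_quadratic A _ _ hA (fun r h1 h2 _ => ?_) fun s hs => ?_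
    · by_contra hr
      have hr0 : r ≠ 0 := fun h => hA (zero_dvd_iff.1 (h ▸ h1))
      obtain ⟨π, hπ, hπr⟩ := WfDvdMonoid.exists_irreducible_factor hr hr0
      have hd : π ∣ p2 * p2 := hπr.trans (dvd_neg.1 h2)
      have hπp2 : π ∣ p2 := (hπ.prime.dvd_or_dvd hd).elim id id
      exact hnot.2 (((hπ.associated_of_dvd hq1.irreducible hπp2).symm.dvd).trans (hπr.trans h1))
    · have e : s * s = p2 * (p2 * (p2 * p2) + 4 * (A * p3)) := by rw [hs]; ring
      obtain ⟨c, rfl⟩ : p2 ∣ s := (hq1.dvd_or_dvd ⟨_, e⟩).elim id id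
      have e2 : p2 * (c * c) = p2 * (p2 * p2) + 4 * (A * p3) :=
        mul_left_cancel₀ hq1.ne_zero (by linear_combination e)
      have h4 : p2 ∣ 4 * (A * p3) := ⟨c * c - p2 * p2, by linear_combination -e2⟩
      have hu : IsUnit (4 : MvPolynomial (Fin 3) k) := by
        rw [← map_ofNat (C (σ := Fin 3) (R := k)) 4]
        exact (isUnit_iff_ne_zero.2 (by norm_num)).map _
      rcases hq1.dvd_or_dvd ((hu.dvd_mul_left).1 h4) with h | h
      · exact hnot.2 h
      · exact hnot.1 h
  let a := esymm (Fin 4) k 1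
  let b := esymm (Fin 4) k 2
  let c := esymm (Fin 4) k 3
  let d := esymm (Fin 4) k 4
  have eG : E (a * d - b * c) = Polynomial.C A * Polynomial.X ^ 2 +
      Polynomial.C (-(p2 * p2)) * Polynomial.X + Polynomial.C (-(p2 * p3)) := by
    simp only [map_sub, map_mul, a, b, c, d, E1, E2, E3, E4, A, map_neg]
    ring
  have hG : Prime (a * d - b * c) := by
    rw [← MulEquiv.prime_iff E.toMulEquiv]
    show Prime (E _)
    rw [eG]
    exact hGirr.prime
  have haG : a ∉ Ideal.span {a * d - b * c} := by
    intro h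
    have := map_dvd E (Ideal.mem_span_singleton.1 h)
    rw [eG, E1] at this
    have h2 := Polynomial.natDegree_le_of_dvd this (by
      rw [add_comm]; exact Polynomial.X_add_C_ne_zero _)
    rw [Polynomial.natDegree_quadratic hA, add_comm, Polynomial.natDegree_X_add_C] at h2
    omega
  let ψ : MvPolynomial (Fin 4) k →+* MvPolynomial (Fin 3) k :=
    (Polynomial.evalRingHom (-p1)).comp E.toRingHom
  have hψsurj : Function.Surjective ψ := fun q =>
    ⟨E.symm (Polynomial.C q), by simp [ψ]⟩
  have hψker : RingHom.ker ψ = Ideal.span {a} := by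
    ext q
    rw [RingHom.mem_ker, Ideal.mem_span_singleton]
    show Polynomial.eval (-p1) (E q) = 0 ↔ _
    rw [← Polynomial.IsRoot.def, ← Polynomial.dvd_iff_isRoot, ← map_dvd_iff E, E1, map_neg,
      sub_neg_eq_add, add_comm]
  have hψb : ψ b = p2 - p1 ^ 2 := by
    show Polynomial.eval (-p1) (E b) = _
    rw [E2]
    simp
    ring
  have hAB : Ideal.span {a, b} = (Ideal.span {p2 - p1 ^ 2}).comap ψ := by
    rw [← hψb, show ({ψ b} : Set (MvPolynomial (Fin 3) k)) = ψ '' {b} from Set.image_singleton.symm,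
      ← Ideal.map_span, Ideal.comap_map_of_surjective ψ hψsurj,
      ← RingHom.ker_eq_comap_bot, hψker, sup_comm, ← Ideal.span_union, Set.singleton_union]
  have hbA : b ∉ Ideal.span {a} := by
    rw [← hψker, RingHom.mem_ker, hψb]
    exact hq2.ne_zero
  have hcB : c ∉ Ideal.span {a, b} := by
    rw [hAB, Ideal.mem_comap, Ideal.mem_span_singleton]
    rintro ⟨g, hg⟩
    rw [show ψ c = Polynomial.eval (-p1) (E c) from rfl, E3] at hg
    obtain ⟨z, hz⟩ := IsAlgClosed.exists_root (Polynomial.X ^ 2 + Polynomial.C 2 * Polynomial.X +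
      Polynomial.C (3 : k)) (by
        rw [show (Polynomial.X ^ 2 + Polynomial.C 2 * Polynomial.X + Polynomial.C 3 : Polynomial k) =
          Polynomial.C 1 * Polynomial.X ^ 2 + Polynomial.C 2 * Polynomial.X + Polynomial.C 3 by simp,
          Polynomial.degree_quadratic one_ne_zero]
        decide)
    have hz0 : z ^ 2 + 2 * z + 3 = 0 := by simpa using hz
    have := congrArg (eval ![1, 1, z]) hg
    simp [t1, t2, t3] at this
    have h2 : (1 + z) ^ 2 = 0 := by linear_combination (-1 / 2 : k) * this +
      ((1 / 2 : k) * eval ![1, 1, z] g) * hz0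
    have : (2 : k) = 0 := by linear_combination hz0 - h2
    norm_num at this
  have key := radical_isPrime a b c d hG haG
    (fun h => haG (by rw [h]; exact Ideal.zero_mem _))
    (by rw [← hψker]; exact RingHom.ker_isPrime _)
    (by
      haveI : (Ideal.span {p2 - p1 ^ 2}).IsPrime :=
        (Ideal.span_singleton_prime hq2.ne_zero).2 hq2
      rw [hAB]; infer_instance) hbA hcB
  have hmap : Ideal.span ({esymm (Fin 5) k 2, esymm (Fin 5) k 4} :
      Set (MvPolynomial (Fin 5) k)) = (Ideal.span ({Polynomial.C b + Polynomial.X * Polynomial.C a,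
      Polynomial.C d + Polynomial.X * Polynomial.C c} : Set (Polynomial (MvPolynomial (Fin 4) k)))).comap
        (finSuccEquiv k 4).toRingEquiv := by
    rw [← Ideal.map_symm, Ideal.map_span]
    congr 1
    rw [Set.image_pair]
    simp only [a, b, c, d, ← finSuccEquiv_esymm k 4 1, ← finSuccEquiv_esymm k 4 3]
    simp
  rw [hmap, ← Ideal.comap_radical]
  exact Ideal.IsPrime.comap _

end Groth.Agent.S12437
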