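import Groth.Statements.S1244
import Groth.Agent.FlatMor2.IndQuasiAffine
import Mathlib.AlgebraicGeometry.ZariskisMainTheorem

set_option autoImplicit false
universe u
open FlatMor

namespace Groth.Agent.S1244

open AlgebraicGeometry CategoryTheory TopologicalSpace

section ringLimit

variable {A : Type u} [CommRing A] {A' : ℕ → Type u} [∀ n, CommRing (A' n)]
  {φ : ∀ n, A' (n + 1) →+* A' n} {π : ∀ n, A →+* A' n} (hlim : FlatCA.IsRingLimit A A' φ π)

include hlim in
/-- A compatible family of maps to the terms lifts to the limit. -/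
theorem exists_lift {B : Type u} [CommRing B] (ψ : ∀ n, B →+* A' n)
    (hψ : ∀ n, (φ n).comp (ψ (n + 1)) = ψ n) : ∃ Ψ : B →+* A, ∀ n, (π n).comp Ψ = ψ n := by
  choose e he using fun b : B => hlim.2.2 (fun n => ψ n b) fun n => RingHom.congr_fun (hψ n) b
  refine ⟨{ toFun := e, map_one' := ?_, map_mul' := fun a b => ?_, map_zero' := ?_,
            map_add' := fun a b => ?_ }, fun n => RingHom.ext fun b => he b n⟩
  all_goals exact hlim.2.1 _ _ fun n => by simp [he]

include hlim in
/-- The first projection of a limit with surjective transition maps is surjective. -/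
theorem surjective_proj (hsurj : ∀ n, Function.Surjective (φ n)) : Function.Surjective (π 0) := by
  intro a
  let x : ∀ n, A' n := fun n => Nat.rec (motive := fun n => A' n) a (fun n y => (hsurj n y).choose) n
  obtain ⟨b, hb⟩ := hlim.2.2 x fun n => (hsurj n (x n)).choose_spec
  exact ⟨b, hb 0⟩

include hlim in
/-- The kernel of the first projection lies in every maximal ideal. -/
theorem ker_le_maximal (hnil : ∀ n, ∀ x ∈ RingHom.ker (φ n), IsNilpotent x) (m : Ideal A) [m.IsMaximal] :
    RingHom.ker (π 0) ≤ m := by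
  intro a ha
  by_contra ham
  obtain ⟨b, z, hz, hbz⟩ := (‹m.IsMaximal›).exists_inv ham
  have hnilp : ∀ n, IsNilpotent (π n a) := by
    intro n
    induction n with
    | zero => rw [RingHom.mem_ker] at ha; rw [ha]; exact IsNilpotent.zero
    | succ n ih =>
      obtain ⟨k, hk⟩ := ih
      have h1 : π (n + 1) a ^ k ∈ RingHom.ker (φ n) := by
        rw [RingHom.mem_ker, map_pow, show φ n (π (n + 1) a) = π n a from RingHom.congr_fun (hlim.1 n) a, hk]
      exact IsNilpotent.of_pow (hnil n _ h1)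
  have hu : ∀ n, IsUnit (π n z) := fun n => by
    rw [eq_sub_of_add_eq' hbz, map_sub, map_one, map_mul]
    exact ((Commute.all _ _).isNilpotent_mul_left (hnilp n)).isUnit_one_sub
  choose w hw using fun n => (hu n).exists_right_inv
  obtain ⟨v, hv⟩ := hlim.2.2 w fun n => by
    refine (hu n).mul_left_cancel ?_
    rw [hw n, ← show φ n (π (n + 1) z) = π n z from RingHom.congr_fun (hlim.1 n) z, ← map_mul, hw, map_one]
  have hzv : z * v = 1 := hlim.2.1 _ _ fun n => by rw [map_mul, hv, hw, map_one]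
  exact (‹m.IsMaximal›).ne_top ((Ideal.eq_top_iff_one m).2 (hzv ▸ m.mul_mem_right v hz))

end ringLimit

open AlgebraicGeometry CategoryTheory in
/-- Let A be the limit of an inverse system of rings (A_n) indexed by the natural numbers whose
transition maps are surjective with locally nilpotent kernels. Let T → Spec A be a monomorphism of
schemes which is locally of finite type. If each Spec A_n → Spec A factors through T, then T → Spec
A is an isomorphism. -/
theorem result {A : Type u} [CommRing A] (A' : ℕ → Type u) [∀ n, CommRing (A' n)]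
    (φ : ∀ n, A' (n + 1) →+* A' n) (π : ∀ n, A →+* A' n) (hlim : FlatCA.IsRingLimit A A' φ π)
    (hsurj : ∀ n, Function.Surjective (φ n)) (hnil : ∀ n, ∀ x ∈ RingHom.ker (φ n), IsNilpotent x)
    {T : Scheme.{u}} (h : T ⟶ Spec (CommRingCat.of A)) [Mono h] [LocallyOfFiniteType h]
    (hsec : ∀ n, ∃ g : Spec (CommRingCat.of (A' n)) ⟶ T, g ≫ h = Spec.map (CommRingCat.ofHom (π n))) :
    IsIso h := by
  choose g hg using hsec
  have hcompat : ∀ n, Spec.map (CommRingCat.ofHom (φ n)) ≫ g (n + 1) = g n := fun n => by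
    rw [← cancel_mono h, Category.assoc, hg, hg, ← Spec.map_comp, ← CommRingCat.ofHom_comp, hlim.1 n]
  have hsurjφ : ∀ n, Function.Surjective (Spec.map (CommRingCat.ofHom (φ n))).base := fun n q => by
    have hq : q ∈ Set.range (PrimeSpectrum.comap (φ n)) := by
      rw [range_comap_of_surjective _ _ (hsurj n)]
      exact fun y hy => q.isPrime.radical.le (by
        obtain ⟨k, hk⟩ := hnil n y hy
        exact ⟨k, by rw [hk]; exact zero_mem _⟩)
    exact hq
  obtain ⟨U, -, hU, hUc⟩ := Groth.FlatMor2.exists_isCompact_open_between (W := (⊤ : T.Opens))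
    (isCompact_range (g 0).continuous) (Set.subset_univ _)
  have hgU : ∀ n, Set.range (g n).base ⊆ U := by
    intro n
    induction n with
    | zero => exact hU
    | succ n ih =>
      rintro _ ⟨q, rfl⟩
      obtain ⟨q', rfl⟩ := hsurjφ n q
      exact ih ⟨q', by rw [← hcompat n]; rfl⟩
  have : (U : Scheme.{u}).IsQuasiAffine :=
    Groth.FlatMor2.isIndQuasiAffineHom_def.1
      (Groth.FlatMor2.isIndQuasiAffineHom_of_separated_locallyQuasiFinite (f := h)) ⊤
      (isAffineOpen_top _) U (fun _ _ => trivial) hUc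
  let gU := fun n => IsOpenImmersion.lift U.ι (g n) (by rw [Scheme.Opens.range_ι]; exact hgU n)
  have hgUι : ∀ n, gU n ≫ U.ι = g n := fun n => IsOpenImmersion.lift_fac _ _ _
  let j := (U : Scheme.{u}).toSpecΓ
  let ψ : ∀ n, Γ(↑U, ⊤) →+* A' n := fun n => (Spec.preimage (gU n ≫ j)).hom
  have hψm : ∀ n, Spec.map (CommRingCat.ofHom (ψ n)) = gU n ≫ j := fun n => Spec.map_preimage _
  obtain ⟨Ψ, hΨ⟩ := exists_lift hlim ψ fun n => by
    have h1 : CommRingCat.ofHom ((φ n).comp (ψ (n + 1))) = CommRingCat.ofHom (ψ n) := by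
      refine Spec.map_injective ?_
      rw [CommRingCat.ofHom_comp, Spec.map_comp, hψm, hψm, ← Category.assoc]
      congr 1
      rw [← cancel_mono U.ι, Category.assoc, hgUι, hgUι, hcompat]
    exact CommRingCat.hom_ext_iff.1 h1
  let σ₀ : Spec (CommRingCat.of A) ⟶ Spec Γ(↑U, ⊤) := Spec.map (CommRingCat.ofHom Ψ)
  have hσ₀ : ∀ n, Spec.map (CommRingCat.ofHom (π n)) ≫ σ₀ = gU n ≫ j := fun n =>
    (Spec.map_comp (CommRingCat.ofHom Ψ) (CommRingCat.ofHom (π n))).symm.trans
      ((congrArg Spec.map (CommRingCat.hom_ext (hΨ n))).trans (hψm n))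
  have hrange : Set.range σ₀.base ⊆ Set.range j.base := by
    rintro _ ⟨x, rfl⟩
    obtain ⟨m, hm, hxm⟩ := Ideal.exists_le_maximal x.asIdeal x.isPrime.ne_top
    have hm0 : (⟨m, hm.isPrime⟩ : PrimeSpectrum A) ∈ Set.range (PrimeSpectrum.comap (π 0)) := by
      rw [range_comap_of_surjective _ _ (surjective_proj hlim hsurj)]
      exact ker_le_maximal hlim hnil m
    obtain ⟨q, hq⟩ := hm0
    have hmj : σ₀.base ⟨m, hm.isPrime⟩ ∈ Set.range j.base :=
      ⟨(gU 0).base q, by rw [← hq]; exact (congr(($(hσ₀ 0)).base q)).symm⟩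
    have hsp : x ⤳ ⟨m, hm.isPrime⟩ := (PrimeSpectrum.le_iff_specializes x ⟨m, hm.isPrime⟩).1 hxm
    exact (hsp.map σ₀.continuous).mem_open j.isOpenEmbedding.isOpen_range hmj
  let σ : Spec (CommRingCat.of A) ⟶ (U : Scheme.{u}) := IsOpenImmersion.lift j σ₀ hrange
  have hσ : ∀ n, Spec.map (CommRingCat.ofHom (π n)) ≫ σ = gU n := fun n => by
    rw [← cancel_mono j, Category.assoc, IsOpenImmersion.lift_fac, hσ₀]
  have hid : (σ ≫ U.ι) ≫ h = 𝟙 _ := by
    obtain ⟨e, he⟩ : ∃ e, Spec.map e = (σ ≫ U.ι) ≫ h := ⟨_, Spec.map_preimage _⟩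
    have : e = 𝟙 _ := CommRingCat.hom_ext (RingHom.ext fun a => hlim.2.1 _ _ fun n => by
      have h1 : e ≫ CommRingCat.ofHom (π n) = CommRingCat.ofHom (π n) := by
        refine Spec.map_injective ?_
        rw [Spec.map_comp, he, ← Category.assoc, ← Category.assoc, hσ, hgUι, hg]
      exact RingHom.congr_fun (CommRingCat.hom_ext_iff.1 h1) a)
    rw [← he, this, Spec.map_id]
  exact ⟨σ ≫ U.ι, by rw [← cancel_mono h, Category.assoc, hid]; simp, hid⟩

end Groth.Agent.S1244
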