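import Groth.Statements.S12446
import Groth.Agent.PropsBasic.Catenary

set_option autoImplicit false
universe u
open CategoryTheory AlgebraicGeometry
open Props

namespace Groth.Agent.S12446

open Groth.PropsBasic.Cat

/-- For a scheme X, the underlying topological space of X is catenary if and only if for every point x
the local ring O_{X,x} is a catenary ring. -/
theorem result (X : Scheme.{u}) :
    PtTop.IsCatenarySpace X ↔ ∀ x : X, CAlg.IsCatenary (X.presheaf.stalk x) := by
  refine ⟨fun h x => ?_, fun h => isCatenarySpace_of_cover fun x => ?_⟩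
  · obtain ⟨U, hU, hxU, -⟩ := TopologicalSpace.Opens.isBasis_iff_nbhd.mp X.isBasis_affineOpens
      (TopologicalSpace.Opens.mem_top x)
    letI := X.presheaf.algebra_section_stalk (U := U) ⟨x, hxU⟩
    haveI := hU.isLocalization_stalk ⟨x, hxU⟩
    exact Groth.Calg1.catOrd_localization (hU.primeIdealOf ⟨x, hxU⟩).asIdeal.primeCompl _
      (isCatenary_affineOpen hU h)
  · obtain ⟨U, hU, hxU, -⟩ := TopologicalSpace.Opens.isBasis_iff_nbhd.mp X.isBasis_affineOpens
      (TopologicalSpace.Opens.mem_top x)
    refine ⟨⟨U, hU⟩, hxU, (Groth.Calg1.isCatenary_iff_localization _).mpr fun m hm => ?_⟩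
    let y := hU.fromSpec ⟨m, hm.isPrime⟩
    have hyU : y ∈ U := by
      have : y ∈ Set.range hU.fromSpec := ⟨_, rfl⟩
      rwa [hU.range_fromSpec] at this
    letI := X.presheaf.algebra_section_stalk (U := U) ⟨y, hyU⟩
    haveI : IsLocalization m.primeCompl (X.presheaf.stalk y) :=
      hU.isLocalization_stalk' ⟨m, hm.isPrime⟩ hyU
    exact (isCatenary_congr (IsLocalization.algEquiv m.primeCompl
      (Localization.AtPrime m) (X.presheaf.stalk y)).toRingEquiv).mpr (h y)

end Groth.Agent.S12446
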