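import Groth.Statements.S1245
import Groth.Agent.RaynaudGruson.ImpurityEtale


set_option autoImplicit false
universe u
open FlatMor

namespace Groth.Agent.S1245

/-- Ring form, X = Spec B affine, base change rings affine: let B be a finite type A-algebra, N a finite
B-module and p a prime of A. If there is an impurity of N above p, then there is one whose base
change A → A' is of finite presentation and whose point t is a closed point of the fibre of Spec A'
over p (the extension of t to the fibre ring is maximal). -/
theorem result {A B : Type u} [CommRing A] [CommRing B] [Algebra A B] [Algebra.FiniteType A B]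
    (N : Type u) [AddCommGroup N] [Module B N] [Module.Finite B N] (p : Ideal A) [p.IsPrime]
    (h : FlatCA.HasImpurity A B N p (fun _ _ _ _ => True)) :
    FlatCA.HasImpurity A B N p (fun A' _ _ t => Algebra.FinitePresentation A A' ∧ (FlatCA.fiberIdeal p t).IsMaximal) := by
  classical
  letI : Module A N := Module.compHom N (algebraMap A B)
  haveI : IsScalarTower A B N := IsScalarTower.of_algebraMap_smul fun _ _ => rfl
  obtain ⟨A', _, _, t', t, _, _, ht, -, hw⟩ := Groth.RaynaudGruson.exists_wit_of_hasImpurity p h
  obtain ⟨n, s', s, _, _, hsp, hws, hmax⟩ := Groth.RaynaudGruson.Wit.exists_fp_closed p hw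
  exact Groth.RaynaudGruson.hasImpurity_of_wit p s' s hsp hws ⟨inferInstance, hmax⟩

end Groth.Agent.S1245
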