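import Groth.Statements.S12456
import Groth.Agent.OmegaSheaf.UnivThick.Basic
open AlgebraicGeometry CategoryTheory Groth.OmegaSheaf.UnivThick

set_option autoImplicit false
universe u
open CategoryTheory AlgebraicGeometry
open OmegaSh

namespace Groth.Agent.S12456

/-- Let i : Z → X be an immersion, written as the closed subscheme of an open U ⊆ X cut out by an ideal
sheaf I followed by the inclusion of U. Then the first order infinitesimal neighbourhood of Z in X —
the closed subscheme of U cut out by I² — together with Z ⊂ V(I²) and V(I²) → U → X is a universal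
first order thickening of Z over X. (The inequality I² ≤ I is carried as an argument h; it always
holds.) -/
theorem result {X : Scheme.{u}} (U : X.Opens) (I : (U : Scheme.{u}).IdealSheafData)
    (h : I ^ 2 ≤ I) :
    OmegaSh.IsUnivThickening (I.subschemeι ≫ U.ι) (Scheme.IdealSheafData.inclusion h)
      ((I ^ 2).subschemeι ≫ U.ι) := by
  let J := I ^ 2
  let ι' := J.subschemeι
  let inc := Scheme.IdealSheafData.inclusion h
  have hinc : inc ≫ ι' = I.subschemeι := Scheme.IdealSheafData.inclusion_subschemeι h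
  have hcl : IsClosedImmersion (inc ≫ ι') := by rw [hinc]; infer_instance
  have : IsClosedImmersion inc := IsClosedImmersion.of_comp inc ι'
  have : Surjective inc := ⟨fun x ↦ by
    have hx : ι' x ∈ Set.range J.subschemeι := ⟨x, rfl⟩
    rw [Scheme.IdealSheafData.range_subschemeι,
      Scheme.IdealSheafData.support_pow _ 2 two_ne_zero,
      ← Scheme.IdealSheafData.range_subschemeι] at hx
    obtain ⟨y, hy⟩ := hx
    refine ⟨y, (Scheme.Hom.isEmbedding ι').injective ?_⟩
    rw [← Scheme.Hom.comp_apply, hinc]; exact hy⟩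
  have hfot : MoreMor.IsFirstOrderThickening inc := by
    refine fot_of_forall inc fun W _ x y hx hy ↦ J.subscheme.IsSheaf.section_ext fun p hp ↦ ?_
    obtain ⟨O, hO, hOW⟩ := (Scheme.Hom.isEmbedding ι').isInducing.isOpen_iff.mp W.2
    obtain ⟨_, ⟨A, hA, rfl⟩, hpA, hAle⟩ := (U : Scheme.{u}).isBasis_affineOpens.exists_subset_of_mem_open
      (show ι' p ∈ O from (Set.ext_iff.mp hOW p).mpr hp) hO
    have hle : ι' ⁻¹ᵁ A ≤ W := fun q hq ↦ (Set.ext_iff.mp hOW q).mp (hAle hq)
    refine ⟨ι' ⁻¹ᵁ A, hle, hpA, ?_⟩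
    obtain ⟨x₀, hx₀⟩ := ι'.app_surjective A hA (J.subscheme.presheaf.map (homOfLE hle).op x)
    obtain ⟨y₀, hy₀⟩ := ι'.app_surjective A hA (J.subscheme.presheaf.map (homOfLE hle).op y)
    have key : ∀ (z : Γ(J.subscheme, W)) (z₀ : Γ(↑U, A)), inc.app W z = 0 →
        ι'.app A z₀ = J.subscheme.presheaf.map (homOfLE hle).op z → z₀ ∈ I.ideal ⟨A, hA⟩ := by
      intro z z₀ hz hz₀
      rw [← Scheme.IdealSheafData.ker_subschemeι_app, RingHom.mem_ker]
      have h0 : inc.app (ι' ⁻¹ᵁ A) (ι'.app A z₀) = 0 := by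
        rw [hz₀]
        exact (congr($(inc.naturality (homOfLE hle).op) z)).trans
          ((congrArg (I.subscheme.presheaf.map _).hom hz).trans (map_zero _))
      have e1 : ∀ q : I.subscheme ⟶ (U : Scheme.{u}), q = inc ≫ ι' → q.app A z₀ = 0 := by
        rintro q rfl; exact h0
      exact e1 _ hinc.symm
    rw [map_zero, map_mul, ← hx₀, ← hy₀, ← map_mul, ← RingHom.mem_ker,
      Scheme.IdealSheafData.ker_subschemeι_app J ⟨A, hA⟩, Scheme.IdealSheafData.ideal_pow,
      Pi.pow_apply, pow_two]
    exact Ideal.mul_mem_mul (key x x₀ hx hx₀) (key y y₀ hy hy₀)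
  refine ⟨hfot, by rw [← Category.assoc, hinc], fun T T' k b a hk hw ↦ ?_⟩
  have hr : Set.range b ⊆ Set.range U.ι := by
    rintro _ ⟨p, rfl⟩
    obtain ⟨t, rfl⟩ := exists_point hk p
    exact ⟨(a ≫ I.subschemeι) t, by
      rw [← Scheme.Hom.comp_apply, ← Scheme.Hom.comp_apply, hw, Category.assoc]⟩
  let b₀ := IsOpenImmersion.lift U.ι b hr
  have hw₀ : k ≫ b₀ = a ≫ I.subschemeι := by
    rw [← cancel_mono U.ι, Category.assoc, IsOpenImmersion.lift_fac, hw, Category.assoc]
  have hker : ι'.ker ≤ b₀.ker := by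
    rw [Scheme.IdealSheafData.ker_subschemeι]
    refine Scheme.IdealSheafData.le_ofIdeals_iff.mpr fun A x hx ↦ ?_
    rw [Scheme.IdealSheafData.ideal_pow, Pi.pow_apply, pow_two] at hx
    induction hx using Submodule.mul_induction_on' with
    | mem_mul_mem r hr s hs =>
      have key : ∀ z ∈ I.ideal A, k.app _ (b₀.app A z) = 0 := fun z hz ↦ by
        have e1 : ∀ q : T ⟶ (U : Scheme.{u}), q = k ≫ b₀ → q.app A z = 0 → k.app _ (b₀.app A z) = 0 := by
          rintro q rfl hq; exact hq
        refine e1 _ hw₀.symm ?_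
        change a.app _ (I.subschemeι.app A z) = 0
        rw [show I.subschemeι.app A z = 0 from
            RingHom.mem_ker.mp ((Scheme.IdealSheafData.ker_subschemeι_app I A).ge hz), map_zero]
      rw [RingHom.mem_ker, map_mul]
      exact mul_eq_zero_of_app hk (key r hr) (key s hs)
    | add p _ q _ hp hq => exact add_mem hp hq
  refine ⟨IsClosedImmersion.lift ι' b₀ hker, ⟨?_, ?_⟩, fun c hc ↦ ?_⟩
  · rw [← cancel_mono ι', Category.assoc, IsClosedImmersion.lift_fac, hw₀, Category.assoc, hinc]
  · rw [IsClosedImmersion.lift_fac_assoc, IsOpenImmersion.lift_fac]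
  · rw [← cancel_mono ι', IsClosedImmersion.lift_fac, ← cancel_mono U.ι, IsOpenImmersion.lift_fac,
      Category.assoc]
    exact hc.2

end Groth.Agent.S12456
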