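import Groth.Statements.S12458
import Groth.Agent.Limits.FibreVanishingGeneral
import Groth.Agent.CohBase.GlobalSections

set_option autoImplicit false
universe u
open CategoryTheory AlgebraicGeometry
open Lim

namespace Groth.Agent.S12458

/-- Let f : X → Y be proper and y ∈ Y a point whose fibre X_y has dimension at most d. Then there is an
affine open neighbourhood V of y such that for the restriction f⁻¹(V) → V the higher direct images
R^i of every quasi-coherent module on f⁻¹(V) vanish for all i > d. (f⁻¹(V) and V are then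
quasi-compact and quasi-separated, so the pair satisfies the hypotheses of the top-degree base
change statement; its conclusions (a)–(c) are that statement applied to this pair. The published
statement assumes dim X_y = d; at most d is what its proof uses.) -/
theorem result {X Y : Scheme.{u}} (f : X ⟶ Y) [IsProper f]
    (y : Y) (d : ℕ) (hd : topologicalKrullDim ↥(f.fiber y) ≤ d) :
    ∃ V : Y.Opens, y ∈ V ∧ IsAffineOpen V ∧
      ∀ (M : (↑(f ⁻¹ᵁ V) : Scheme.{u}).Modules) (i : ℕ), Coh.IsQCoh M → d < i →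
        Limits.IsZero ((Coh.RpushAb (f ∣_ V) i).obj (Coh.toAb M)) := by
  obtain ⟨V, hV, hy, hVU⟩ := exists_isAffineOpen_mem_and_subset
    (U := (⟨_, Groth.FibreDim.isOpen_dim_fiber_le f f.isClosedMap ((d : ℕ) : WithBot ℕ∞)⟩ : Y.Opens))
    (x := y) hd
  refine ⟨V, hy, hV, fun M i hM hi => ?_⟩
  haveI : M.IsQuasicoherent := hM
  haveI : IsProper (f ∣_ V) := IsZariskiLocalAtTarget.restrict ‹IsProper f› V
  haveI : IsAffine V.toScheme := hV
  obtain ⟨a⟩ := Groth.CohBase.nonempty_RpushAb_iso_homology (f ∣_ V) (injectiveResolution M) i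
  refine Limits.IsZero.of_iso ((Groth.CohBase.toAbF _).map_isZero ?_) a
  refine Groth.CohBase.isZero_homology_pushCx (f ∣_ V) _ i fun x =>
    ⟨⊤, isAffineOpen_top _, trivial, ?_⟩
  let q : (↑(f ⁻¹ᵁ V) : Scheme.{u}) ⟶ Spec (CommRingCat.of Γ(V.toScheme, ⊤)) :=
    (f ∣_ V) ≫ V.toScheme.isoSpec.hom
  letI : (↑(f ⁻¹ᵁ V) : Scheme.{u}).Over (Spec (CommRingCat.of Γ(V.toScheme, ⊤))) := ⟨q⟩
  haveI : IsProper ((↑(f ⁻¹ᵁ V) : Scheme.{u}) ↘ Spec (CommRingCat.of Γ(V.toScheme, ⊤))) :=
    inferInstanceAs (IsProper q)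
  haveI : LocallyOfFiniteType f := inferInstance
  have := Groth.Limits.FibreVanishing.subsingleton_HH_of_dim_fiber_le
    (A := Γ(V.toScheme, ⊤)) (X := (↑(f ⁻¹ᵁ V) : Scheme.{u})) d (fun P => ?_) M i hi
  · exact (Groth.CohBase.subsingleton_H_iff (X := (↑(f ⁻¹ᵁ V) : Scheme.{u}).toTopCat) _ i).1 this
  · refine (Groth.FibreDim.dim_fiber_baseChange f (V.toScheme.isoSpec.inv ≫ V.ι) q (f ⁻¹ᵁ V).ι
      ?_ P).le.trans (hVU (V.toScheme.isoSpec.inv P).2)
    exact (isPullback_morphismRestrict f V).flip.of_iso (Iso.refl _) (Iso.refl _)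
      V.toScheme.isoSpec (Iso.refl _) (by simp) (by simp [q]) (by simp) (by simp)

end Groth.Agent.S12458
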