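import Groth.Statements.S1246
import Groth.Agent.RaynaudGruson.ImpurityEtale


set_option autoImplicit false
universe u
open FlatMor

namespace Groth.Agent.S1246

/-- Ring form, X = Spec B affine: let B be a finite type A-algebra, N a finite B-module and p a prime of
A. If there is an impurity of N above p whose base change A → A' is of finite type and quasi-finite
at the point t, then there is an impurity of N above p for which (A', t) is an elementary étale ring
map at p. -/
theorem result {A B : Type u} [CommRing A] [CommRing B] [Algebra A B] [Algebra.FiniteType A B]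
    (N : Type u) [AddCommGroup N] [Module B N] [Module.Finite B N] (p : Ideal A) [p.IsPrime]
    (h : FlatCA.HasImpurity A B N p (fun A' _ _ t => ∃ _ : t.IsPrime, Algebra.FiniteType A A' ∧ Algebra.QuasiFiniteAt A t)) :
    FlatCA.HasImpurity A B N p (fun A' _ _ t => ∃ _ : t.IsPrime, FlatCA.IsEtaleNhd A A' p t) := by
  classical
  letI : Module A N := Module.compHom N (algebraMap A B)
  haveI : IsScalarTower A B N := IsScalarTower.of_algebraMap_smul fun _ _ => rfl
  obtain ⟨A', _, _, t', t, _, _, ht, ⟨_, hfin, hqf⟩, hw⟩ := Groth.RaynaudGruson.exists_wit_of_hasImpurity p h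
  obtain ⟨D, _, _, s', s, _, _, het, hws⟩ := Groth.RaynaudGruson.Wit.exists_etaleNhd_of_quasiFinite p hw
  exact Groth.RaynaudGruson.hasImpurity_of_wit p s' s het.2.choose hws ⟨inferInstance, het⟩

end Groth.Agent.S1246
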