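import Groth.Statements.S12460
import Mathlib

set_option autoImplicit false
universe u
open CategoryTheory AlgebraicGeometry
open Props

namespace Groth.Agent.S12460

theorem reg_iff {Y : Scheme.{u}} {V : Y.Opens} (hV : IsAffineOpen V) (p : PrimeSpectrum Γ(Y, V)) :
    IsRegularLocalRing (Y.presheaf.stalk (hV.fromSpec p)) ↔ p ∈ EGA4.regLocus Γ(Y, V) := by
  have hp : hV.fromSpec p ∈ V := by
    have : hV.fromSpec p ∈ Set.range hV.fromSpec := ⟨p, rfl⟩
    rwa [hV.range_fromSpec] at this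
  letI : Algebra Γ(Y, V) (Y.presheaf.stalk (hV.fromSpec p)) :=
    TopCat.Presheaf.algebra_section_stalk Y.presheaf ⟨hV.fromSpec p, hp⟩
  haveI : IsLocalization p.asIdeal.primeCompl (Y.presheaf.stalk (hV.fromSpec p)) :=
    IsAffineOpen.isLocalization_stalk' hV p hp
  let e : Y.presheaf.stalk (hV.fromSpec p) ≃+* Localization.AtPrime p.asIdeal :=
    (IsLocalization.algEquiv p.asIdeal.primeCompl _ _).toRingEquiv
  exact ⟨fun h => IsRegularLocalRing.of_ringEquiv e,
    fun (h : IsRegularLocalRing _) => IsRegularLocalRing.of_ringEquiv e.symm⟩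

/-- (1) ⇔ (3) ⇔ (4): let X be a locally Noetherian scheme. Then X is J-2 — for every morphism Y → X
locally of finite type the set of points y with O_{Y,y} a regular local ring is open in Y — if and
only if for every affine open U of X the ring Γ(X, U) is J-2 (every finite type algebra over it has
open regular locus), if and only if every point of X lies in such an affine open. (Schemes Y over X
are taken in the universe of X.) -/
theorem result (X : Scheme.{u}) [IsLocallyNoetherian X] :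
    ((∀ (Y : Scheme.{u}) (g : Y ⟶ X), LocallyOfFiniteType g →
        IsOpen {y : Y | IsRegularLocalRing (Y.presheaf.stalk y)}) ↔
      ∀ U : X.affineOpens, EGA4.IsJ2 Γ(X, U)) ∧
    ((∀ (Y : Scheme.{u}) (g : Y ⟶ X), LocallyOfFiniteType g →
        IsOpen {y : Y | IsRegularLocalRing (Y.presheaf.stalk y)}) ↔
      ∀ x : X, ∃ U : X.affineOpens, x ∈ (U : X.Opens) ∧ EGA4.IsJ2 Γ(X, U)) := by
  have bwd : (∀ x : X, ∃ U : X.affineOpens, x ∈ (U : X.Opens) ∧ EGA4.IsJ2 Γ(X, U)) →
      ∀ (Y : Scheme.{u}) (g : Y ⟶ X), LocallyOfFiniteType g →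
        IsOpen {y : Y | IsRegularLocalRing (Y.presheaf.stalk y)} := by
    intro h Y g hg
    refine isOpen_iff_forall_mem_open.mpr fun y hy => ?_
    obtain ⟨U, hxU, hJ⟩ := h (g y)
    obtain ⟨V, hV, hyV, hVU⟩ := TopologicalSpace.Opens.isBasis_iff_nbhd.mp Y.isBasis_affineOpens
      (show y ∈ g ⁻¹ᵁ U.1 from hxU)
    letI := (g.appLE U.1 V hVU).hom.toAlgebra
    have hft : Algebra.FiniteType Γ(X, U.1) Γ(Y, V) :=
      LocallyOfFiniteType.finiteType_appLE (f := g) U.2 hV hVU
    haveI := IsAffineOpen.isOpenImmersion_fromSpec hV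
    refine ⟨hV.fromSpec '' EGA4.regLocus Γ(Y, V), ?_,
      hV.fromSpec.isOpenEmbedding.isOpenMap _ (hJ _ hft), ?_⟩
    · rintro _ ⟨p, hp, rfl⟩
      exact (reg_iff hV p).mpr hp
    · obtain ⟨p, rfl⟩ : y ∈ Set.range hV.fromSpec := hV.range_fromSpec ▸ hyV
      exact ⟨p, (reg_iff hV p).mp hy, rfl⟩
  have fwd : (∀ (Y : Scheme.{u}) (g : Y ⟶ X), LocallyOfFiniteType g →
      IsOpen {y : Y | IsRegularLocalRing (Y.presheaf.stalk y)}) →
      ∀ U : X.affineOpens, EGA4.IsJ2 Γ(X, U) := by
    intro h U S _ _ hS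
    haveI : LocallyOfFiniteType (Spec.map (CommRingCat.ofHom (algebraMap Γ(X, U.1) S))) :=
      (HasRingHomProperty.Spec_iff (P := @LocallyOfFiniteType)).mpr
        (RingHom.finiteType_algebraMap.mpr hS)
    haveI := IsAffineOpen.isOpenImmersion_fromSpec U.2
    have hopen := h (Spec (CommRingCat.of S))
      (Spec.map (CommRingCat.ofHom (algebraMap Γ(X, U.1) S)) ≫ U.2.fromSpec) inferInstance
    have key : EGA4.regLocus S =
        {y : Spec (CommRingCat.of S) | IsRegularLocalRing ((Spec (CommRingCat.of S)).presheaf.stalk y)} :=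
      Set.ext fun p => ⟨fun (h : IsRegularLocalRing _) => IsRegularLocalRing.of_ringEquiv
          (Spec.stalkIso (CommRingCat.of S) p).commRingCatIsoToRingEquiv.symm,
        fun (h : IsRegularLocalRing _) => IsRegularLocalRing.of_ringEquiv
          (Spec.stalkIso (CommRingCat.of S) p).commRingCatIsoToRingEquiv⟩
    rw [key]
    exact hopen
  have cov : (∀ U : X.affineOpens, EGA4.IsJ2 Γ(X, U)) →
      ∀ x : X, ∃ U : X.affineOpens, x ∈ (U : X.Opens) ∧ EGA4.IsJ2 Γ(X, U) := fun h x => by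
    obtain ⟨U, hU, hxU, -⟩ := TopologicalSpace.Opens.isBasis_iff_nbhd.mp X.isBasis_affineOpens
      (TopologicalSpace.Opens.mem_top x)
    exact ⟨⟨U, hU⟩, hxU, h _⟩
  exact ⟨⟨fwd, fun h => bwd (cov h)⟩, ⟨fun h => cov (fwd h), bwd⟩⟩

end Groth.Agent.S12460
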