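import Groth.Statements.S12461
import Groth.Agent.QCohMod.Killed
import Groth.Agent.QCohMod.QCohCatBasic
import Mathlib.CategoryTheory.Adjunction.Comma

set_option autoImplicit false
universe u
open CategoryTheory AlgebraicGeometry
open QCohSub

namespace Groth.Agent.S12461

open Groth.QCohMod Limits

variable {Z X : Scheme.{u}} (i : Z ⟶ X) [IsClosedImmersion i]

/-- The direct image on quasi-coherent modules. -/
noncomputable def pushQCoh : QCohCat.QCoh Z ⥤ QCohCat.QCoh X :=
  ObjectProperty.lift _ ((QCohCat.isQCoh Z).ι ⋙ Coh.push i)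
    fun G => isQCoh_pushforward G.obj i

theorem pushQCoh_isLeftAdjoint : (pushQCoh i).IsLeftAdjoint := by
  have key : ∀ F : QCohCat.QCoh X, ∃ (R : QCohCat.QCoh Z)
      (r : (Scheme.Modules.pushforward i).obj R.obj ⟶ F.obj),
      ∀ (G : QCohCat.QCoh Z) (φ : (Scheme.Modules.pushforward i).obj G.obj ⟶ F.obj),
        ∃! g : G.obj ⟶ R.obj, (Scheme.Modules.pushforward i).map g ≫ r = φ := by
    intro F
    obtain ⟨K, k, hk, hKq, hKI, hK⟩ := exists_killed_sub i.ker F.obj
    haveI := (isIso_unit_closedImmersion_iff i K).mpr hKI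
    haveI : ((Scheme.Modules.pullback i).obj K).IsQuasicoherent := isQCoh_pullback_obj i K
    let η := (Scheme.Modules.pullbackPushforwardAdjunction i).unit.app K
    refine ⟨toQCoh ((Scheme.Modules.pullback i).obj K), inv η ≫ k, fun G φ => ?_⟩
    obtain ⟨ψ, hψ⟩ := hK _ φ (killed_pushforward i G.obj)
    obtain ⟨g, hg⟩ := exists_map_pushforward_eq i (ψ ≫ η)
    refine ⟨g, ?_, fun g' hg' => (Scheme.Modules.pushforward i).map_injective ?_⟩
    · change (Scheme.Modules.pushforward i).map g ≫ inv η ≫ k = φ
      rw [hg]; simpa [η] using hψ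
    · change (Scheme.Modules.pushforward i).map g' ≫ inv η ≫ k = φ at hg'
      rw [hg, ← hψ, ← Category.assoc, cancel_mono] at *
      rw [← hg']
      simp [η]
  choose R r huniv using key
  haveI : ∀ F, HasTerminal (CostructuredArrow (pushQCoh i) F) := fun F =>
    (IsTerminal.ofUniqueHom (Y := CostructuredArrow.mk (S := pushQCoh i) (Y := R F)
      (ObjectProperty.homMk (r F)))
      (fun A => CostructuredArrow.homMk
        (ObjectProperty.homMk (huniv F A.left A.hom.hom).exists.choose)
        (ObjectProperty.hom_ext _ (huniv F A.left A.hom.hom).exists.choose_spec))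
      (fun A m => CostructuredArrow.hom_ext _ _ (ObjectProperty.hom_ext _
        ((huniv F A.left A.hom.hom).unique congr(($(CostructuredArrow.w m)).hom)
          (huniv F A.left A.hom.hom).exists.choose_spec)))).hasTerminal
  exact isLeftAdjoint_of_costructuredArrowTerminals _


/-- Let i : Z → X be a closed immersion of schemes. The functor i_* : QCoh(O_Z) → QCoh(O_X) has a right
adjoint i^! : QCoh(O_X) → QCoh(O_Z). Stated as: there is a functor L between the full subcategories
of quasi-coherent modules which agrees with i_* after the inclusion into all O_X-modules (this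
determines L up to isomorphism, the inclusion being fully faithful) and which is a left adjoint. -/
theorem result {Z X : Scheme.{u}} (i : Z ⟶ X) [IsClosedImmersion i] :
    ∃ L : QCohCat.QCoh Z ⥤ QCohCat.QCoh X,
      Nonempty (L ⋙ (QCohCat.isQCoh X).ι ≅ (QCohCat.isQCoh Z).ι ⋙ Coh.push i) ∧ L.IsLeftAdjoint := by
  exact ⟨pushQCoh i, ⟨Iso.refl _⟩, pushQCoh_isLeftAdjoint i⟩

end Groth.Agent.S12461
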