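import Groth.Statements.S12462
import Groth.Agent.SpectralTopology.SpectralProd
import Mathlib.Topology.Category.TopCat.Limits.Basic

set_option autoImplicit false
universe u
open CategoryTheory CategoryTheory.Limits
open SpecSp

namespace Groth.Agent.S12462
open Groth.SpectralTopology Topology TopologicalSpace

/-- A spectral space is a directed inverse limit of finite sober topological spaces. Precisely: for X
spectral there exist a nonempty directed preordered index set J, a functor from the opposite of J to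
topological spaces whose values are finite sober (T0, every irreducible closed subset has a generic
point) spaces, and a limit cone of it whose vertex is isomorphic to X. -/
theorem result (X : Type u) [TopologicalSpace X] [SpectralSpace X] :
    ∃ (J : Type u) (_ : Preorder J) (_ : Nonempty J) (_ : IsDirected J (· ≤ ·)) (F : Jᵒᵖ ⥤ TopCat.{u})
      (c : Cone F), Nonempty (IsLimit c) ∧
        (∀ j : Jᵒᵖ, Finite (F.obj j) ∧ T0Space (F.obj j) ∧ QuasiSober (F.obj j)) ∧
        Nonempty (c.pt ≅ TopCat.of X) := by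
  classical
  let I := {U : Set X // IsOpen U ∧ IsCompact U}
  let g : ∀ S : Finset I, X → (↥S → Prop) := fun S x i ↦ x ∈ i.1.1
  have hg : ∀ S, Continuous (g S) := fun S ↦
    continuous_pi fun i ↦ isOpen_iff_continuous_mem.1 i.1.2.1
  let F : (Finset I)ᵒᵖ ⥤ TopCat.{u} :=
    { obj := fun j ↦ TopCat.of (Set.range (g j.unop))
      map := fun {j k} a ↦ TopCat.ofHom
        ⟨fun y ↦ ⟨fun i ↦ y.1 ⟨i.1, leOfHom a.unop i.2⟩, by
            obtain ⟨x, hx⟩ := y.2
            exact ⟨x, funext fun i ↦ congrFun hx ⟨i.1, leOfHom a.unop i.2⟩⟩⟩, by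
          refine Continuous.subtype_mk (continuous_pi fun i ↦ ?_) _
          exact (continuous_apply _).comp continuous_subtype_val⟩
      map_id := fun j ↦ rfl
      map_comp := fun a b ↦ rfl }
  let c : Cone F :=
    { pt := TopCat.of X
      π :=
        { app := fun j ↦ TopCat.ofHom ⟨fun x ↦ ⟨g j.unop x, x, rfl⟩, (hg _).subtype_mk _⟩
          naturality := fun j k a ↦ rfl } }
  refine ⟨Finset I, inferInstance, inferInstance, inferInstance, F, c, ?_, fun j ↦ ?_, ⟨Iso.refl _⟩⟩
  · have hlim : Nonempty (IsLimit ((forget TopCat).mapCone c)) := by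
      refine (Types.isLimit_iff _).2 fun s hs ↦ ?_
      have hcompat : ∀ (S : Finset I) (i : I) (hi : i ∈ S),
          (s (Opposite.op S)).1 ⟨i, hi⟩ = (s (Opposite.op {i})).1 ⟨i, Finset.mem_singleton_self i⟩ :=
        fun S i hi ↦ (congrFun (congrArg Subtype.val
          (hs (homOfLE (Finset.singleton_subset_iff.2 hi) : ({i} : Finset I) ⟶ S).op))
            ⟨i, Finset.mem_singleton_self i⟩)
      let C : I → Set X := fun i ↦
        {x | x ∈ i.1 ↔ (s (Opposite.op {i})).1 ⟨i, Finset.mem_singleton_self i⟩}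
      obtain ⟨x, hx⟩ := nonempty_iInter_ct C (fun i ↦ by
        by_cases h : (s (Opposite.op {i})).1 ⟨i, Finset.mem_singleton_self i⟩
        · have : C i = i.1 := by ext y; simp [C, h]
          rw [this]
          exact isClosed_ct i.2.1 i.2.2
        · have : C i = i.1ᶜ := by ext y; simp [C, h]
          rw [this]
          exact (@isClosed_compl_iff X (constructibleTopology X) _).2 (isOpen_ct i.2.1 i.2.2))
        (fun S ↦ by
          obtain ⟨x, hx⟩ := (s (Opposite.op S)).2
          refine ⟨x, Set.mem_iInter₂.2 fun i hi ↦ ?_⟩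
          exact iff_of_eq ((congrFun hx ⟨i, hi⟩).trans (hcompat S i hi)))
      simp only [Set.mem_iInter] at hx
      refine ⟨x, fun j ↦ Subtype.ext (funext fun i ↦
        (propext (hx i.1)).trans (hcompat j.unop i.1 i.2).symm), fun y hy ↦ ?_⟩
      show @Eq X y x
      refine ((inseparable_iff_forall_isOpen (X := X)).2 fun W hW ↦ ?_).eq
      have hyx : ∀ i : I, y ∈ i.1 ↔ x ∈ i.1 := fun i ↦
        ((iff_of_eq (congrFun (congrArg Subtype.val (hy (Opposite.op {i})))
          ⟨i, Finset.mem_singleton_self i⟩))).trans (hx i).symm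
      constructor <;> intro h <;> obtain ⟨U, hU, hmem, hUW⟩ :=
        PrespectralSpace.isTopologicalBasis.exists_subset_of_mem_open h hW
      · exact hUW ((hyx ⟨U, hU⟩).1 hmem)
      · exact hUW ((hyx ⟨U, hU⟩).2 hmem)
    obtain ⟨hlim⟩ := hlim
    refine (TopCat.nonempty_isLimit_iff_eq_induced c hlim).2 (le_antisymm ?_ ?_)
    · exact le_iInf fun j ↦ continuous_iff_le_induced.1 (c.π.app j).hom.continuous
    · refine le_of_le_of_eq ?_ (PrespectralSpace.isTopologicalBasis (X := X)).eq_generateFrom.symm
      refine le_generateFrom fun U hU ↦ ?_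
      refine TopologicalSpace.le_def.1 (iInf_le _ (Opposite.op ({⟨U, hU⟩} : Finset I))) U ?_
      refine ⟨{y | y.1 ⟨⟨U, hU⟩, Finset.mem_singleton_self _⟩}, ?_, rfl⟩
      exact isOpen_iff_continuous_mem.2 ((continuous_apply _).comp continuous_subtype_val)
  · have : Finite (F.obj j) := Subtype.finite
    refine ⟨this, Subtype.t0Space, ⟨fun {Z} hZ hZc ↦ ?_⟩⟩
    have h1 : Z ⊆ ⋃₀ ((Set.toFinite ((fun z ↦ closure {z}) '' Z)).toFinset : Set (Set (F.obj j))) := by
      intro z hz
      exact ⟨closure {z}, by simpa using ⟨z, hz, rfl⟩, subset_closure rfl⟩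
    obtain ⟨W, hW, hZW⟩ := isIrreducible_iff_sUnion_isClosed.1 hZ _ (fun W hW ↦ by
      simp only [Set.Finite.mem_toFinset, Set.mem_image] at hW
      obtain ⟨z, -, rfl⟩ := hW
      exact isClosed_closure) h1
    simp only [Set.Finite.mem_toFinset, Set.mem_image] at hW
    obtain ⟨z, hz, rfl⟩ := hW
    exact ⟨z, Set.Subset.antisymm (closure_minimal (Set.singleton_subset_iff.2 hz) hZc) hZW⟩

end Groth.Agent.S12462
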