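import Groth.Statements.S7314
import Groth.Agent.ArSurfBasics.Factorization

set_option autoImplicit false
universe u
open CategoryTheory CategoryTheory.Limits AlgebraicGeometry
open Resolve

namespace Groth.Agent.S7314

/-- Let f : X → Y be a proper birational morphism (an isomorphism over some nonempty open of Y) between
integral Noetherian schemes which are regular of dimension two. Then f is a sequence of blowings up
in closed points: a finite composite of morphisms each of which contracts an exceptional curve of
the first kind, i.e. is the blowing up of a Noetherian scheme at a closed point whose local ring is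
regular of dimension two. -/
theorem result {X Y : Scheme.{u}} [IsIntegral X] [IsNoetherian X]
    [IsIntegral Y] [IsNoetherian Y] (f : X ⟶ Y) [IsProper f]
    (hbir : ∃ V : Y.Opens, (V : Set Y).Nonempty ∧ IsIso (f ∣_ V))
    (hX : ∀ x : X, IsRegularLocalRing (X.presheaf.stalk x)) (hdX : topologicalKrullDim X = 2)
    (hY : ∀ y : Y, IsRegularLocalRing (Y.presheaf.stalk y)) (hdY : topologicalKrullDim Y = 2) :
    Models.IsContractionSeq f := by
  obtain ⟨V, hVne, hV⟩ := hbir
  exact Groth.ArSurfBasics.Factorization.isContractionSeq f hX hdX hdY hV hVne hY

end Groth.Agent.S7314
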