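import Groth.Statements.S7321
import Groth.Agent.VarietyBC.NormCokernel
import Groth.Agent.VarietyBC.NormDimOne
import Groth.Agent.Calg4.NormalizationChar
import Groth.Agent.CIntNormal.ConeNormal
import Groth.Agent.Ega4Algebra1.RegularNormal
import Groth.Agent.HensPair.SteinNormalization
import Groth.Agent.CohFin.ProjFinite
-- import your own Groth.Agent.* helpers here

set_option autoImplicit false
universe u
open CategoryTheory CategoryTheory.Limits AlgebraicGeometry
open Resolve

namespace Groth.Agent.S7321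

/-- Let Y be an integral Noetherian scheme of dimension one. Then (1) there is an alteration X → Y with
X regular, if and only if (2) Y has a resolution of singularities, i.e. a proper morphism X → Y from
an integral regular scheme which is an isomorphism over a nonempty open of Y; and (2) holds if and
only if (4) the normalization morphism of Y is finite. (A further equivalent condition, a finite
sequence of blowings up in closed points ending in a regular scheme, is stated separately. The
quasi-compactness and quasi-separatedness binders on Spec K(Y) → Y always hold; they are needed only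
to form the normalization.) -/
theorem result (Y : Scheme.{u}) [IsIntegral Y] [IsNoetherian Y]
    (hdim : topologicalKrullDim Y = 1)
    [QuasiCompact (Y.fromSpecStalk (genericPoint Y))] [QuasiSeparated (Y.fromSpecStalk (genericPoint Y))] :
    ((∃ (X : Scheme.{u}) (g : X ⟶ Y), Curv2.IsAlteration g ∧ ∀ x : X, IsRegularLocalRing (X.presheaf.stalk x)) ↔
      (∃ (X : Scheme.{u}) (g : X ⟶ Y), IsProper g ∧ IsIntegral X ∧
        (∃ V : Y.Opens, (V : Set Y).Nonempty ∧ IsIso (g ∣_ V)) ∧ ∀ x : X, IsRegularLocalRing (X.presheaf.stalk x))) ∧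
    ((∃ (X : Scheme.{u}) (g : X ⟶ Y), IsProper g ∧ IsIntegral X ∧
        (∃ V : Y.Opens, (V : Set Y).Nonempty ∧ IsIso (g ∣_ V)) ∧ ∀ x : X, IsRegularLocalRing (X.presheaf.stalk x)) ↔
      IsFinite (Curv2.normalizationι Y)) := by
  open Groth in
  let ν := Curv2.normalizationι Y
  obtain ⟨hNi, hNn, -, hgen, -⟩ := Groth.Agent.S2351.result Y
  haveI := hNi
  have h42 : IsFinite ν → (∃ (X : Scheme.{u}) (g : X ⟶ Y), IsProper g ∧ IsIntegral X ∧
      (∃ V : Y.Opens, (V : Set Y).Nonempty ∧ IsIso (g ∣_ V)) ∧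
      ∀ x : X, IsRegularLocalRing (X.presheaf.stalk x)) := by
    intro hfin
    haveI := hfin
    haveI : IsLocallyNoetherian (Curv2.normalization Y) := LocallyOfFiniteType.isLocallyNoetherian ν
    obtain ⟨V, hV, hVi⟩ := VarietyBC.NormCokernel.exists_isIso_restrict Y fun U hU _ => by
      haveI : Nonempty U.toScheme := ‹_›
      obtain ⟨e, he⟩ := VarietyBC.exists_algEquiv_normalization Y U hU
      have h : algebraMap Γ(Y, U) (integralClosure Γ(Y, U) Y.functionField) =
          e.toRingHom.comp (ν.app U).hom := RingHom.ext fun a => (he a).symm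
      rw [← RingHom.finite_algebraMap, h]
      exact e.finite.comp (IsFinite.finite_app (f := ν) U hU)
    haveI := hVi
    refine ⟨_, ν, inferInstance, hNi, ⟨V, hV.nonempty, hVi⟩, fun x => ?_⟩
    haveI := (hNn x).1
    haveI := (hNn x).2
    refine CIntNormal.isRegularLocalRing_of_normal_dim_le_one ?_
    obtain ⟨_, ⟨(U : Y.Opens), hU, rfl⟩, hxU, -⟩ :=
      Y.isBasis_affineOpens.exists_subset_of_mem_open (Set.mem_univ (ν x)) isOpen_univ
    haveI : Nonempty U.toScheme := ⟨⟨ν x, hxU⟩⟩
    haveI := (VarietyBC.normalization_dimOne_affine Y hdim.le U hU).1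
    have hW : IsAffineOpen (ν ⁻¹ᵁ U) := hU.preimage ν
    letI := TopCat.Presheaf.algebra_section_stalk (Curv2.normalization Y).presheaf (⟨x, hxU⟩ : ν ⁻¹ᵁ U)
    haveI := hW.isLocalization_stalk ⟨x, hxU⟩
    rw [IsLocalization.AtPrime.ringKrullDim_eq_height (hW.primeIdealOf ⟨x, hxU⟩).asIdeal]
    haveI : Ring.KrullDimLE 1 Γ(Curv2.normalization Y, ν ⁻¹ᵁ U) := inferInstance
    exact (Ideal.height_le_ringKrullDim_of_ne_top Ideal.IsPrime.ne_top').trans
      (Ring.krullDimLE_iff.1 inferInstance)
  have h21 : (∃ (X : Scheme.{u}) (g : X ⟶ Y), IsProper g ∧ IsIntegral X ∧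
        (∃ V : Y.Opens, (V : Set Y).Nonempty ∧ IsIso (g ∣_ V)) ∧
        ∀ x : X, IsRegularLocalRing (X.presheaf.stalk x)) →
      ∃ (X : Scheme.{u}) (g : X ⟶ Y), Curv2.IsAlteration g ∧
        ∀ x : X, IsRegularLocalRing (X.presheaf.stalk x) := by
    rintro ⟨X, g, hg, hX, ⟨V, hV, hVi⟩, hreg⟩
    haveI := hVi
    refine ⟨X, g, ⟨hg, hX, inferInstance, ⟨(V.isOpen.dense hV).mono fun y hy => ?_⟩,
      V, hV, inferInstance⟩, hreg⟩
    obtain ⟨w, hw⟩ := (g ∣_ V).surjective ⟨y, hy⟩
    refine ⟨(g ⁻¹ᵁ V).ι w, ?_⟩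
    have h := congr($(morphismRestrict_ι g V) w)
    rw [Scheme.Hom.comp_apply, Scheme.Hom.comp_apply, hw] at h
    exact h.symm
  have h14 : (∃ (X : Scheme.{u}) (g : X ⟶ Y), Curv2.IsAlteration g ∧
      ∀ x : X, IsRegularLocalRing (X.presheaf.stalk x)) → IsFinite ν := by
    rintro ⟨X, g, ⟨hgp, hX, -, hgd, -⟩, hreg⟩
    haveI := hgp
    haveI := hX
    haveI := hgd
    have hN : Pi1.IsNormalScheme X := fun x => by
      haveI := hreg x
      exact ⟨inferInstance, Ega4Algebra1.isIntegrallyClosed_of_isRegularLocalRing _⟩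
    have hξ : g (genericPoint X) = genericPoint Y := by
      refine IsGenericPoint.eq ?_ (genericPoint_spec Y)
      rw [IsGenericPoint, ← Set.image_singleton, ← closure_image_closure g.continuous,
        genericPoint_spec X, Set.image_univ, g.denseRange.closure_range]
    obtain ⟨h, hh, -⟩ := PropsBasic.NormalizationFac.existsUnique_fac (g := g) hN fun z hz => by
      rw [irreducibleComponents_eq_singleton] at hz
      rw [IsGenericPoint.eq (show IsGenericPoint z Set.univ from hz) (genericPoint_spec X), hξ]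
    obtain ⟨_, _, _, hfib, _⟩ := Calg4.NormChar.of_iso (X := Y) ν (Iso.refl _) (Category.id_comp _)
    have hη : h (genericPoint X) = genericPoint (Curv2.normalization Y) := by
      have hmem : h (genericPoint X) ∈ ν.base ⁻¹' {genericPoint Y} := by
        show ν (h (genericPoint X)) = genericPoint Y
        rw [← Scheme.Hom.comp_apply, hh, hξ]
      rwa [hfib] at hmem
    haveI : IsDominant h := ⟨by
      rw [denseRange_iff_closure_range, Set.eq_univ_iff_forall]
      intro z
      refine ((genericPoint_spec (Curv2.normalization Y)).specializes (Set.mem_univ z)).mem_closed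
        isClosed_closure (subset_closure ⟨_, hη⟩)⟩
    refine ⟨fun U hU => ?_⟩
    haveI : IsNoetherianRing Γ(Y, U) := IsLocallyNoetherian.component_noetherian ⟨U, hU⟩
    letI := (ν.app U).hom.toAlgebra
    letI := (g.app U).hom.toAlgebra
    haveI : Module.Finite Γ(Y, U) Γ(X, g ⁻¹ᵁ U) := HensPair.finite_app_of_proper g CohFin.projFinite hU
    have e : g ⁻¹ᵁ U ≤ h ⁻¹ᵁ (ν ⁻¹ᵁ U) := by rw [← Scheme.Hom.comp_preimage, hh]
    let j : Γ(Curv2.normalization Y, ν ⁻¹ᵁ U) ⟶ Γ(X, g ⁻¹ᵁ U) := h.appLE _ _ e
    have hcomp : ν.app U ≫ j = g.app U := by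
      simp only [j, Scheme.Hom.app_eq_appLE, Scheme.Hom.appLE_comp_appLE]
      congr
    let jl : Γ(Curv2.normalization Y, ν ⁻¹ᵁ U) →ₐ[Γ(Y, U)] Γ(X, g ⁻¹ᵁ U) :=
      { j.hom with commutes' := fun a => congr($hcomp a) }
    refine RingHom.finite_algebraMap.2 (Module.Finite.of_injective jl.toLinearMap ?_)
    have hj : j = h.app (ν ⁻¹ᵁ U) ≫ X.presheaf.map (homOfLE e).op :=
      (Scheme.Hom.app_eq_appLE h).symm ▸ (Scheme.Hom.appLE_map _ _ _).symm
    change Function.Injective j
    have he : g ⁻¹ᵁ U = h ⁻¹ᵁ (ν ⁻¹ᵁ U) := by rw [← Scheme.Hom.comp_preimage, hh]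
    haveI : IsIso (X.presheaf.map (homOfLE e).op) := by
      rw [show (homOfLE e) = eqToHom he from Subsingleton.elim _ _]; infer_instance
    haveI := IsSchemeTheoreticallyDominant.of_isDominant h
    haveI : QuasiCompact h := by
      have : QuasiCompact (h ≫ ν) := by rw [hh]; infer_instance
      exact QuasiCompact.of_comp h ν
    rw [hj]
    exact ((ConcreteCategory.bijective_of_isIso (X.presheaf.map (homOfLE e).op)).1).comp
      (h.app_injective (ν ⁻¹ᵁ U))
  exact ⟨⟨fun h => h42 (h14 h), h21⟩, ⟨fun h => h14 (h21 h), h42⟩⟩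

end Groth.Agent.S7321
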