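import Groth.Statements.S7374
import Groth.Agent.S7321
import Groth.Agent.ArSurfBasics.Chains
import Groth.Agent.ResolveSurf.CurvesTransform

set_option backward.isDefEq.respectTransparency.types false
set_option linter.style.haveILetI false

set_option autoImplicit false
universe u
open CategoryTheory CategoryTheory.Limits AlgebraicGeometry
open Resolve

namespace Groth.Agent.S7374

/-- Let X be a Noetherian scheme and Y_1, …, Y_n ⊂ X integral closed subschemes of dimension one (ideal
sheaves I_i), pairwise distinct, each with finite normalization morphism. Then there is a finite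
sequence of blowings up in closed points g : X' → X such that the strict transforms Y'_i ⊂ X' —
integral closed subschemes (ideals I'_i) mapped by g into Y_i, isomorphically over a nonempty open
of Y_i — are pairwise disjoint and have regular local rings. (The quasi-compactness and
quasi-separatedness binders always hold. The published statement does not say the Y_i are distinct;
for Y_1 = Y_2 the strict transforms coincide and cannot be disjoint, so distinctness is assumed
here, as the proof's use of the intersection multiplicities m_p(Y_i ∩ Y_j) requires.) -/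
theorem result (X : Scheme.{u}) [IsNoetherian X] {n : ℕ}
    (I : Fin n → X.IdealSheafData) [∀ i, IsIntegral (I i).subscheme] (hdim : ∀ i, topologicalKrullDim ↥(I i).subscheme = 1)
    [∀ i, QuasiCompact ((I i).subscheme.fromSpecStalk (genericPoint ↥(I i).subscheme))]
    [∀ i, QuasiSeparated ((I i).subscheme.fromSpecStalk (genericPoint ↥(I i).subscheme))]
    (hfin : ∀ i, IsFinite (Curv2.normalizationι (I i).subscheme)) (hdist : Function.Injective I) :
    ∃ (X' : Scheme.{u}) (g : X' ⟶ X), Resolve.IsPtBlowupSeq g ∧
      ∃ (I' : Fin n → X'.IdealSheafData) (g' : ∀ i, (I' i).subscheme ⟶ (I i).subscheme),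
        (∀ i, IsIntegral (I' i).subscheme ∧ g' i ≫ (I i).subschemeι = (I' i).subschemeι ≫ g ∧
          (∃ V : (I i).subscheme.Opens, (V : Set ↥(I i).subscheme).Nonempty ∧ IsIso (g' i ∣_ V)) ∧
          ∀ y : ↥(I' i).subscheme, IsRegularLocalRing ((I' i).subscheme.presheaf.stalk y)) ∧
        ∀ i j, i ≠ j → Disjoint ((I' i).support : Set X') ((I' j).support : Set X') := by
  classical
  haveI : ∀ k, AlgebraicGeometry.IsNoetherian (I k).subscheme := fun k => by
    haveI : IsLocallyNoetherian (I k).subscheme :=
      LocallyOfFiniteType.isLocallyNoetherian (I k).subschemeι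
    haveI : CompactSpace (I k).subscheme := QuasiCompact.compactSpace_of_compactSpace (I k).subschemeι
    exact {}
  have hY : ∀ k, ¬ IsClosed ({genericPoint (I k).subscheme} : Set (I k).subscheme) := fun k h => by
    have hall : ∀ y : (I k).subscheme, y = genericPoint (I k).subscheme := fun y =>
      ((genericPoint_spec (I k).subscheme).specializes (y := y) trivial).mem_closed h rfl
    haveI : Subsingleton (I k).subscheme := ⟨fun a b => (hall a).trans (hall b).symm⟩
    haveI : Subsingleton (TopologicalSpace.IrreducibleCloseds (I k).subscheme) :=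
      (irreducibleSetEquivPoints (α := (I k).subscheme)).toEquiv.subsingleton
    have h2 : topologicalKrullDim (I k).subscheme ≤ 0 := Order.krullDim_nonpos_of_subsingleton
    rw [hdim k] at h2
    exact absurd h2 (by decide)
  have hco := fun k => Groth.ResolveSurf.CurveBU.coheight_le_of_dim (hdim k).le
  have hres : ∀ k, ∃ (R : Scheme.{u}) (π : R ⟶ (I k).subscheme) (_ : IsIntegral R), IsFinite π ∧
      π (genericPoint R) = genericPoint (I k).subscheme ∧
      (∃ V : (I k).subscheme.Opens, (V : Set (I k).subscheme).Nonempty ∧ IsIso (π ∣_ V)) ∧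
      ∀ x : R, IsRegularLocalRing (R.presheaf.stalk x) := fun k => by
    obtain ⟨R, π, hp, hR, ⟨V, hV, hVi⟩, hreg⟩ := (S7321.result (I k).subscheme (hdim k)).2.2 (hfin k)
    haveI := hp; haveI := hR; haveI := hVi
    have hη : genericPoint (I k).subscheme ∈ V :=
      ((genericPoint_spec (I k).subscheme).mem_open_set_iff V.2).2 (by simpa using hV)
    obtain ⟨q, hq⟩ := (π ∣_ V).homeomorph.surjective ⟨_, hη⟩
    have hq' : π q.1 = genericPoint (I k).subscheme :=
      (morphismRestrict_base_coe π V q).symm.trans (congrArg Subtype.val hq)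
    have h5 := (genericPoint_specializes q.1).map π.continuous
    rw [hq'] at h5
    haveI : LocallyQuasiFinite π := .of_finite_preimage_singleton π fun y => by
      haveI := Groth.ResPropLib.finite_fiber π V ((π ⁻¹ᵁ V).2.dense ⟨q.1, q.2⟩)
        (fun z hz => Groth.ResPropLib.finite_fiber_of_isIso π V hVi z hz) y (hco k y)
      exact Set.finite_coe_iff.1 (Finite.of_equiv _ (π.fiberHomeo y).toEquiv)
    exact ⟨R, π, hR, IsFinite.of_isProper_of_locallyQuasiFinite π,
      (h5.antisymm (genericPoint_specializes _)).eq, ⟨V, hV, hVi⟩, hreg⟩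
  choose R π hR hπf hπ hbir hreg using hres
  haveI := hR; haveI := hπf
  obtain ⟨W, g, hg, C, i, φ, hC, hall⟩ := Groth.ResolveSurf.CurvesTransform.exists_all_regular
    (fun k => (I k).subscheme) R (fun k => (I k).subschemeι) π hco hY hreg hπ hbir
  haveI := hC
  haveI hi : ∀ k, IsClosedImmersion (i k) := fun k => (hall k).1
  haveI : IsProper g := Groth.ResolveSurf.CurvesTransform.seq_isProper hg
  haveI : IsLocallyNoetherian W := LocallyOfFiniteType.isLocallyNoetherian g
  haveI : ∀ k, IsFinite (φ k) := fun k => (hall k).2.1
  haveI : ∀ k, AlgebraicGeometry.IsNoetherian (C k) := fun k => by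
    haveI : IsLocallyNoetherian (C k) := LocallyOfFiniteType.isLocallyNoetherian (i k)
    haveI : CompactSpace (C k) := QuasiCompact.compactSpace_of_compactSpace (φ k)
    exact {}
  have hψη : ∀ k, (φ k ≫ (I k).subschemeι) (genericPoint (C k)) =
      (I k).subschemeι (genericPoint (I k).subscheme) := fun k => by
    rw [Scheme.Hom.comp_apply, (hall k).2.2.2.1]
  have hgen : ∀ k, IsGenericPoint ((I k).subschemeι (genericPoint (I k).subscheme))
      (Set.range (I k).subschemeι) := fun k => by
    have h := (genericPoint_spec (I k).subscheme).image (I k).subschemeι.continuous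
    rwa [Set.image_univ, (I k).subschemeι.isClosedEmbedding.isClosed_range.closure_eq] at h
  have hnsp : ∀ j k, j ≠ k → ¬ (φ j ≫ (I j).subschemeι) (genericPoint (C j)) ⤳
      (φ k ≫ (I k).subschemeι) (genericPoint (C k)) := by
    intro j k hjk hsp
    rw [hψη, hψη] at hsp
    obtain ⟨a, ha⟩ := (hgen j).specializes_iff_mem.1 hsp
    by_cases hae : a = genericPoint (I j).subscheme
    · refine hjk (hdist ?_)
      have hr : Set.range (I j).subschemeι = Set.range (I k).subschemeι := by
        rw [← (hgen j).def, ← (hgen k).def, ← ha, hae]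
      rw [← (I j).ker_subschemeι, ← (I k).ker_subschemeι,
        Groth.AlgSp3.ker_eq_vanishingIdeal_of_isReduced, Groth.AlgSp3.ker_eq_vanishingIdeal_of_isReduced]
      exact congrArg _ (TopologicalSpace.Closeds.ext (congrArg closure hr))
    · obtain ⟨c, hc⟩ : ∃ c : (I k).subscheme, c ≠ genericPoint (I k).subscheme := by
        by_contra! hall'
        refine hY k ?_
        rw [show ({genericPoint (I k).subscheme} : Set (I k).subscheme) = Set.univ from
          Set.eq_univ_of_forall fun c => hall' c]
        exact isClosed_univ
      obtain ⟨d, hd⟩ := (hgen j).specializes_iff_mem.1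
        (hsp.trans ((genericPoint_specializes c).map (I k).subschemeι.continuous))
      have had : a ⤳ d := (I j).subschemeι.isClosedEmbedding.isInducing.specializes_iff.1 (by
        rw [ha, hd]; exact (genericPoint_specializes c).map (I k).subschemeι.continuous)
      have h2 := Groth.ArSurfBasics.two_le_topologicalKrullDim (genericPoint_specializes a) (Ne.symm hae)
        had (fun e => hc ((I k).subschemeι.isClosedEmbedding.injective (by rw [← ha, ← hd, e])))
      rw [hdim j] at h2
      exact absurd h2 (by decide)
  obtain ⟨W', g', hg', i', hall'⟩ := Groth.ResolveSurf.CurvesTransform.exists_disjoint C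
    (fun k => (hall k).2.2.2.2.1)
    (fun k c => (Groth.ResolveSurf.CurveBU.coheight_le_of_isFinite (φ k) c).trans (hco k _))
    (fun k hcl => hY k (by
      have := (φ k).isClosedMap _ hcl
      rwa [Set.image_singleton, (hall k).2.2.2.1] at this))
    (fun k => φ k ≫ (I k).subschemeι) hnsp W g hg i (fun k => (hall k).2.2.1.symm)
  haveI hi' : ∀ k, IsClosedImmersion (i' k) := fun k => (hall' k).1
  refine ⟨W', g', hg', fun k => (i' k).ker, fun k => inv (i' k).toImage ≫ φ k, fun k => ⟨?_, ?_, ?_, ?_⟩,
    fun a b hab => ?_⟩
  · haveI : Nonempty (i' k).ker.subscheme := ⟨(i' k).toImage (genericPoint (C k))⟩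
    exact isIntegral_of_isOpenImmersion (inv (i' k).toImage)
  · rw [Category.assoc, ← (hall' k).2.1, IsIso.inv_comp_eq]
    exact ((i' k).toImage_imageι_assoc g').symm
  · obtain ⟨V, hV, hVi⟩ := (hall k).2.2.2.2.2
    refine ⟨V, hV, ?_⟩
    rw [morphismRestrict_comp]
    exact IsIso.comp_isIso' (IsZariskiLocalAtTarget.restrict (P := MorphismProperty.isomorphisms Scheme.{u})
      (f := inv (i' k).toImage) (inferInstanceAs (IsIso (inv (i' k).toImage))) (φ k ⁻¹ᵁ V)) hVi
  · intro y
    haveI := (hall k).2.2.2.2.1 (inv (i' k).toImage y)
    exact IsRegularLocalRing.of_ringEquiv (asIso ((inv (i' k).toImage).stalkMap y)).commRingCatIsoToRingEquiv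
  · rw [Scheme.Hom.support_ker, Scheme.Hom.support_ker,
      (i' a).isClosedEmbedding.isClosed_range.closure_eq, (i' b).isClosedEmbedding.isClosed_range.closure_eq]
    exact (hall' b).2.2 a hab

end Groth.Agent.S7374
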