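import Groth.Statements.S12466
import Groth.Agent.ResolveSurf.SncSeq
import Groth.Agent.CohTwo.PushClosed
import Groth.Agent.S7374
import Groth.Agent.S7314

set_option backward.isDefEq.respectTransparency.types false
set_option linter.style.haveILetI false

set_option autoImplicit false
universe u
open CategoryTheory CategoryTheory.Limits AlgebraicGeometry
open Resolve

namespace Groth.Agent.S12466

open TopologicalSpace Groth.ResolveSurf.SurfModels

theorem good_of_dim {X : Scheme.{u}} [IsIntegral X] [IsNoetherian X]
    (hreg : ∀ x : X, IsRegularLocalRing (X.presheaf.stalk x)) (hdim : topologicalKrullDim X = 2) : Good X := by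
  refine ⟨inferInstance, inferInstance, hreg, hdim.le, ?_⟩
  by_contra h
  haveI : Subsingleton X := not_nontrivial_iff_subsingleton.1 h
  haveI : Subsingleton (IrreducibleCloseds X) := (irreducibleSetEquivPoints (α := X)).toEquiv.subsingleton
  have h2 : topologicalKrullDim X ≤ 0 := Order.krullDim_nonpos_of_subsingleton
  rw [hdim] at h2
  exact absurd h2 (by decide)

/-- A closed curve. -/
theorem dim_subscheme {X : Scheme.{u}} [IsIntegral X] (hdim : topologicalKrullDim X ≤ 2) {η : X}
    (h1 : η ≠ genericPoint X) (h2 : ¬ IsClosed ({η} : Set X)) :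
    ∃ (_ : IsIntegral (Scheme.IdealSheafData.vanishingIdeal (⟨closure {η}, isClosed_closure⟩ : Closeds X)).subscheme),
      topologicalKrullDim (Scheme.IdealSheafData.vanishingIdeal (⟨closure {η}, isClosed_closure⟩ : Closeds X)).subscheme = 1 ∧
      (Scheme.IdealSheafData.vanishingIdeal (⟨closure {η}, isClosed_closure⟩ : Closeds X)).subschemeι
        (genericPoint _) = η := by
  set J := Scheme.IdealSheafData.vanishingIdeal (⟨closure {η}, isClosed_closure⟩ : Closeds X)
  haveI hJ : IsIntegral J.subscheme := Groth.CohTwo.isIntegral_closure_subscheme (ξ := η) rfl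
  have hr : Set.range J.subschemeι = closure {η} := Groth.PropsBasic2.range_vanishingIdeal_subschemeι _
  have hgen : J.subschemeι (genericPoint J.subscheme) = η := by
    have h := (genericPoint_spec J.subscheme).image J.subschemeι.continuous
    rw [Set.image_univ, J.subschemeι.isClosedEmbedding.isClosed_range.closure_eq, hr] at h
    exact h.eq isGenericPoint_closure
  refine ⟨hJ, le_antisymm ?_ ?_, hgen⟩
  · rw [topologicalKrullDim, Order.krullDim_eq_of_orderIso (irreducibleSetEquivPoints (α := J.subscheme)),
      Order.krullDim_eq_iSup_coheight]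
    refine iSup_le fun c => WithBot.coe_le_coe.2 (coheight_le_one hdim J.subschemeι ?_ c)
    rw [hr]
    intro hg
    exact h1 ((specializes_iff_mem_closure.2 hg).antisymm (genericPoint_specializes η)).eq
  · rw [topologicalKrullDim, Order.krullDim_eq_of_orderIso (irreducibleSetEquivPoints (α := J.subscheme)),
      Order.one_le_krullDim_iff]
    obtain ⟨c, hc⟩ : ∃ c, c ≠ genericPoint J.subscheme := by
      by_contra! hall
      refine h2 ?_
      rw [← hgen, show ({J.subschemeι (genericPoint J.subscheme)} : Set X) = Set.range J.subschemeι from ?_]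
      · exact J.subschemeι.isClosedEmbedding.isClosed_range
      · ext x
        exact ⟨fun h => ⟨_, (Set.mem_singleton_iff.1 h).symm⟩,
          fun ⟨c, hx⟩ => hx.symm.trans (congrArg J.subschemeι (hall c))⟩
    exact ⟨c, genericPoint _, lt_iff_le_not_ge.2 ⟨Scheme.le_iff_specializes.2 (genericPoint_specializes c),
      fun h => hc ((genericPoint_specializes c).antisymm (Scheme.le_iff_specializes.1 h)).eq.symm⟩⟩

theorem dim_model {W X : Scheme.{u}} [IsIntegral X] {g : W ⟶ X} (hg : Model g)
    (hdim : topologicalKrullDim X = 2) : topologicalKrullDim W = 2 := by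
  haveI := hg.good.integral; haveI := hg.proper
  obtain ⟨V, hV, hVi⟩ := hg.bir
  refine le_antisymm hg.good.dim_le ?_
  have h2 : ((2 : ℕ) : WithBot ℕ∞) ≤ Order.krullDim X :=
    le_of_le_of_eq hdim.ge (Order.krullDim_eq_of_orderIso (irreducibleSetEquivPoints (α := X)))
  obtain ⟨l, hl⟩ := Order.le_krullDim_iff.1 h2
  have h01 : l ⟨0, by omega⟩ < l ⟨1, by omega⟩ := l.strictMono (by simp [Fin.lt_def])
  have h12 : l ⟨1, by omega⟩ < l ⟨2, by omega⟩ := l.strictMono (by simp [Fin.lt_def])
  obtain ⟨w₁, hw₁⟩ := surjective_of_bir g hV hVi (l ⟨1, by omega⟩)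
  obtain ⟨w₀, hw₀, hw₀'⟩ : l ⟨0, by omega⟩ ∈ g '' closure {w₁} :=
    (Scheme.le_iff_specializes.1 h01.le).mem_closed (g.isClosedMap _ isClosed_closure) ⟨w₁, subset_closure rfl, hw₁⟩
  refine Groth.ArSurfBasics.two_le_topologicalKrullDim (genericPoint_specializes w₁) (fun e => ?_)
    (specializes_iff_mem_closure.2 hw₀) fun e => h01.ne (by rw [← hw₀', ← hw₁, e])
  rw [← e, (generic_of_bir g hV hVi).1] at hw₁
  exact h12.not_ge (hw₁ ▸ Scheme.le_iff_specializes.2 (genericPoint_specializes _))

/-- Let X be an integral Noetherian scheme which is regular of dimension two and Z ⊂ X a closed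
subscheme with ideal I ≠ 0 such that every integral closed subscheme of dimension one contained in Z
has finite normalization. Then there is a finite sequence of blowings up in closed points g : X' → X
such that the inverse image ideal I·O_{X'} is the ideal of an effective Cartier divisor supported on
a strict normal crossings divisor, i.e. for every point p of its support there are an affine open U
∋ p, a regular system of parameters x_1, …, x_d of O_{X',p} (d = dim O_{X',p}, the x_i generating
the maximal ideal) and 1 ≤ r ≤ d such that the radical of the inverse image ideal, taken in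
O_{X',p}, is generated by x_1⋯x_r. (The published statement takes X any regular scheme of dimension
two, hence only locally Noetherian, and Z any proper closed subscheme whose one-dimensional
irreducible components have finite normalization; this row takes X integral and Noetherian. For the
disjoint union of a regular surface and a regular curve, with Z the curve, no sequence of blowings
up in closed points makes the inverse image of Z an effective Cartier divisor (the
largest-Cartier-divisor step of the proof needs every piece of X of dimension exactly two), and a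
finite sequence of blowings up in single closed points can resolve Z only when X is quasi-compact,
since a non-quasi-compact regular surface may carry a curve with infinitely many singular points.
The quasi-compactness and quasi-separatedness binders in the hypothesis on the components of Z
always hold.) -/
theorem result (X : Scheme.{u}) [IsIntegral X] [IsNoetherian X]
    (hreg : ∀ x : X, IsRegularLocalRing (X.presheaf.stalk x)) (hdim : topologicalKrullDim X = 2)
    (I : X.IdealSheafData) (hI : I ≠ ⊥)
    (hZ : ∀ (J : X.IdealSheafData) [IsIntegral J.subscheme]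
      [QuasiCompact (J.subscheme.fromSpecStalk (genericPoint ↥J.subscheme))]
      [QuasiSeparated (J.subscheme.fromSpecStalk (genericPoint ↥J.subscheme))],
      (J.support : Set X) ⊆ I.support → topologicalKrullDim ↥J.subscheme = 1 →
        IsFinite (Curv2.normalizationι J.subscheme)) :
    ∃ (X' : Scheme.{u}) (g : X' ⟶ X), Models.IsContractionSeq g ∧ BlowUp.IsEffCartierIdeal (I.comap g) ∧
      ∀ p : X', p ∈ ((I.comap g).support : Set X') →
        ∃ (U : X'.affineOpens) (hp : p ∈ (U : X'.Opens)) (d r : ℕ) (x : Fin d → X'.presheaf.stalk p),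
          1 ≤ r ∧ r ≤ d ∧ ringKrullDim (X'.presheaf.stalk p) = (d : WithBot ℕ∞) ∧
          Ideal.span (Set.range x) = IsLocalRing.maximalIdeal (X'.presheaf.stalk p) ∧
          ((I.comap g).radical.ideal U).map (X'.presheaf.germ (U : X'.Opens) p hp).hom =
            Ideal.span {∏ i : Fin d, if (i : ℕ) < r then x i else 1} := by
  classical
  have hX := good_of_dim hreg hdim
  -- the curves in the support
  let S := {η : X | η ∈ I.support ∧ ringKrullDim (X.presheaf.stalk η) = 1 ∧ ¬ IsClosed ({η} : Set X)}
  have hSfin : S.Finite := (Groth.ArSurfBasics.CartierPart.finite_bad hI).subset fun η hη =>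
    ⟨hη.1, by rw [hη.2.1]; norm_num⟩
  obtain ⟨n, e, he, hinj⟩ : ∃ (n : ℕ) (e : Fin n → X), Set.range e = S ∧ Function.Injective e := by
    obtain ⟨n, e, he⟩ := hSfin.fin_embedding
    exact ⟨n, e, he, e.injective⟩
  have heS : ∀ k, e k ∈ S := fun k => he ▸ ⟨k, rfl⟩
  let J : Fin n → X.IdealSheafData := fun k =>
    Scheme.IdealSheafData.vanishingIdeal (⟨closure {e k}, isClosed_closure⟩ : Closeds X)
  choose hJint hJdim hJgen using fun k => dim_subscheme hX.dim_le (ne_generic_of_dim_one (heS k).2.1) (heS k).2.2
  haveI : ∀ k, IsIntegral (J k).subscheme := hJint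
  haveI : ∀ k, QuasiCompact ((J k).subscheme.fromSpecStalk (genericPoint ↥(J k).subscheme)) := fun k => by
    haveI : IsLocallyNoetherian (J k).subscheme := LocallyOfFiniteType.isLocallyNoetherian (J k).subschemeι
    haveI : CompactSpace (J k).subscheme := QuasiCompact.compactSpace_of_compactSpace (J k).subschemeι
    infer_instance
  have hJinj : Function.Injective J := fun a b hab => hinj (by
    have h1 : (J a).support = (J b).support := congrArg _ hab
    have h2 : closure ({e a} : Set X) = closure {e b} := by
      exact ((Scheme.IdealSheafData.coe_support_vanishingIdeal (⟨closure {e a}, isClosed_closure⟩ : Closeds X)).symm.trans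
        ((congrArg (fun Z : Closeds X => (Z : Set X)) h1).trans
          (Scheme.IdealSheafData.coe_support_vanishingIdeal (⟨closure {e b}, isClosed_closure⟩ : Closeds X))))
    exact (show IsGenericPoint (e a) (closure {e a}) from isGenericPoint_closure).eq (h2 ▸ isGenericPoint_closure))
  obtain ⟨W₁, g₁, hg₁, I', g', hI', -⟩ := Groth.Agent.S7374.result X J hJdim (fun k => hZ (J k) (fun x hx => by
    have hx' : x ∈ closure ({e k} : Set X) :=
      (Scheme.IdealSheafData.coe_support_vanishingIdeal ⟨closure {e k}, isClosed_closure⟩).subset hx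
    exact (specializes_iff_mem_closure.2 hx').mem_closed I.support.isClosed (heS k).1) (hJdim k)) hJinj
  have hM₁ := model_of_seq hg₁ hX
  haveI := hM₁.good.integral; haveI := hM₁.good.noeth; haveI := hM₁.proper
  have hsupp : ∀ {W : Scheme.{u}} (f : W ⟶ X) (w : W), w ∈ (I.comap f).support ↔ f w ∈ I.support :=
    fun f w => by rw [Scheme.IdealSheafData.support_comap]; rfl
  have hne : ∀ {W : Scheme.{u}} [IsIntegral W] (f : W ⟶ X), Model f → I.comap f ≠ ⊥ := fun {W} _ f hf h0 => by
    obtain ⟨V, hV, hVi⟩ := hf.bir
    have h1 : genericPoint W ∈ (I.comap f).support := by rw [h0, Scheme.IdealSheafData.support_bot]; trivial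
    rw [hsupp, (generic_of_bir f hV hVi).1] at h1
    exact Groth.ArSurfBasics.CartierPart.genericPoint_notMem hI h1
  -- every curve over the support is regular
  have hc₁ : ∀ η : W₁, g₁ η ∈ I.support → ringKrullDim (W₁.presheaf.stalk η) = 1 → ¬ IsClosed ({η} : Set W₁) →
      HasCurve η := fun η hηI h1 h2 => by
    rcases hM₁.cover η h1 h2 with h | ⟨d1, d2, d3, -⟩
    · exact h
    obtain ⟨k, hk⟩ := he.ge (show g₁ η ∈ S from ⟨hηI, d1, d2⟩)
    obtain ⟨hint, hcomm, ⟨V, hV, hVi⟩, hregk⟩ := hI' k
    haveI := hint
    refine ⟨_, hint, (I' k).subschemeι, inferInstance, hregk, d3 _ ?_⟩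
    rw [← Scheme.Hom.comp_apply, ← hcomm, Scheme.Hom.comp_apply, (generic_of_bir (g' k) hV hVi).1, hJgen, hk]
  -- principalization
  obtain ⟨W₂, g₂, hg₂, hcar⟩ : ∃ (W₂ : Scheme.{u}) (g₂ : W₂ ⟶ W₁), Models.IsContractionSeq g₂ ∧
      BlowUp.IsEffCartierIdeal ((I.comap g₁).comap g₂) := by
    obtain ⟨D, K, hD, hK, hG⟩ :=
      Groth.ArSurfBasics.CartierPart.exists_cartierPart hM₁.good.regular hM₁.good.dim_le (hne g₁ hM₁)
    obtain ⟨N, hN⟩ := (hG.finite.image (Groth.ArSurfBasics.Principalization.col K)).bddAbove
    obtain ⟨W₂, g₂, hg₂, -, hC, hpres⟩ := Groth.ArSurfBasics.Principalization.exists_principalization N K hG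
      (fun x hx => hN ⟨x, hx, rfl⟩) (𝟙 W₁) (Models.IsContractionSeq.iso (Iso.refl W₁))
    rw [Category.comp_id] at hg₂
    refine ⟨W₂, g₂, hg₂, ?_⟩
    rw [hK, Groth.Divisors.comap_mul]
    exact Groth.Divisors.isEffCartierIdeal_mul hC (hpres D hD)
  rw [← Scheme.IdealSheafData.comap_comp] at hcar
  have hM₂ := model_of_seq (ptSeq_of_contractionSeq hg₂) hM₁.good
  have hM₂₁ := hM₂.comp hM₁
  haveI := hM₂₁.good.integral; haveI := hM₂₁.good.noeth; haveI := hM₂₁.proper
  obtain ⟨W₃, h, hh, hcar₃, hloc⟩ := Groth.ResolveSurf.Snc.exists_snc hM₂₁.good (I.comap (g₂ ≫ g₁)) hcar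
    (hne _ hM₂₁) fun η hη h1 h2 => by
      rcases hM₂.cover η h1 h2 with hc | ⟨d1, d2, -, d4⟩
      · exact hc
      · exact d4 (hc₁ _ ((hsupp _ η).1 hη) d1 d2)
  have hM := hh.comp hM₂₁
  haveI := hM.good.integral; haveI := hM.good.noeth; haveI := hM.proper
  rw [← Scheme.IdealSheafData.comap_comp] at hcar₃ hloc
  refine ⟨W₃, h ≫ g₂ ≫ g₁, Groth.Agent.S7314.result _ hM.bir hM.good.regular (dim_model hM hdim) hreg hdim,
    hcar₃, fun p hp => ?_⟩
  obtain ⟨U, hpU, -⟩ := Groth.Divisors.exists_affine_le p ⊤ trivial
  refine ⟨U, hpU, ?_⟩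
  rw [← Groth.ParaFormal.stalkIdeal_eq _ U hpU, Groth.ResolveSurf.Snc.stalkIdeal_radical]
  rcases hloc p hp with ⟨hd, x, hm, hrad⟩ | ⟨hd, x, y, hm, hrad | hrad⟩
  · refine ⟨1, 1, ![x], le_rfl, le_rfl, by rw [hd]; rfl, ?_, ?_⟩
    · rw [hm]; simp
    · rw [hrad]; simp
  · refine ⟨2, 1, ![x, y], le_rfl, by norm_num, by rw [hd]; rfl, ?_, ?_⟩
    · rw [hm, Matrix.range_cons_cons_empty]
    · rw [hrad]; simp [Fin.prod_univ_two]
  · refine ⟨2, 2, ![x, y], by norm_num, le_rfl, by rw [hd]; rfl, ?_, ?_⟩
    · rw [hm, Matrix.range_cons_cons_empty]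
    · rw [hrad]; simp [Fin.prod_univ_two]

end Groth.Agent.S12466
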