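import Groth.Statements.S12469
import Groth.Agent.RelVA.Ops
import Groth.Agent.PicAux.QCoh

set_option autoImplicit false
universe u
open CategoryTheory CategoryTheory.Limits AlgebraicGeometry TopologicalSpace Opposite
open scoped HomogeneousIdeal
open EGA2

namespace Groth.Agent.S12469

/-- Let q : X → Y be a morphism of schemes, L an invertible O_X-module and K an invertible O_Y-module.
Then L is very ample relative to q (isomorphic to the inverse image of O(1) along a Y-immersion of X
into the projective bundle P(E) of a quasi-coherent O_Y-module E) if and only if L ⊗ q^*K is. -/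
theorem result {X Y : Scheme.{u}} (q : X ⟶ Y) (L : X.Modules)
    (hL : PicF.IsInvertible L) (K : Y.Modules) (hK : PicF.IsInvertible K) :
    RelProj.IsRelVeryAmple q L ↔
      RelProj.IsRelVeryAmple q (CohB1.tensorMod L ((Scheme.Modules.pullback q).obj K)) := by
    have key : ∀ (L : X.Modules) (K : Y.Modules), PicF.IsInvertible K → RelProj.IsRelVeryAmple q L →
        RelProj.IsRelVeryAmple q (CohB1.tensorMod L ((Scheme.Modules.pullback q).obj K)) := by
      intro L K hK hva
      obtain ⟨E, hE, σ, hσ⟩ := Groth.RelVA.exists_isEmb hva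
      have hq : K.IsQuasicoherent := Groth.PicAux.isQCoh_of_isInvertible hK
      exact Groth.RelVA.isRelVeryAmple_tensor (σ₂ := Groth.RelTw.linData (𝟙 ((Scheme.Modules.pullback q).obj K))) hσ hq
        (Groth.RelTw.exists_mem_genLoc (Groth.PicAux.isInvertible_pullback q hK) _)
    refine ⟨key L K hK, fun h => ?_⟩
    obtain ⟨M, hM, hKM⟩ := Groth.PicAux.exists_isInverseOf hK
    refine Groth.RelVA.isRelVeryAmple_of_iso ?_ (key _ M hM h)
    exact (Groth.PicAux.exists_associator _ _ _).choose ≪≫
      PicGrp.tensorModIso (Iso.refl L) (Groth.PicAux.isInverseOf_pullback q hKM).some ≪≫ SecTwist.unitorR L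

end Groth.Agent.S12469
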