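import Groth.Statements.S1247
import Groth.Agent.RaynaudGruson.ImpurityQuasiFinite


set_option autoImplicit false
universe u
open FlatMor

namespace Groth.Agent.S1247

/-- Ring form, X = Spec B and S = Spec A affine with A Noetherian: let B be a finite type A-algebra, N a
finite B-module and p a prime of A. If there is an impurity of N above p then there is one whose
base change A → A' is of finite type and quasi-finite at the point t. -/
theorem result {A B : Type u} [CommRing A] [IsNoetherianRing A] [CommRing B] [Algebra A B] [Algebra.FiniteType A B]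
    (N : Type u) [AddCommGroup N] [Module B N] [Module.Finite B N] (p : Ideal A) [p.IsPrime]
    (h : FlatCA.HasImpurity A B N p (fun _ _ _ _ => True)) :
    FlatCA.HasImpurity A B N p (fun A' _ _ t => ∃ _ : t.IsPrime, Algebra.FiniteType A A' ∧ Algebra.QuasiFiniteAt A t) := by
  classical
  obtain ⟨A', B', N', _, _, _, _, _, _, _, _, _, _, _, _, _, _, f, t', t, _, _, P, _, himp, -⟩ := h
  letI : Module A N := Module.compHom N (algebraMap A B)
  haveI : IsScalarTower A B N := IsScalarTower.of_algebraMap_smul fun _ _ => rfl
  haveI : Algebra.IsPushout A B A' B' := himp.1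
  have ht : t.LiesOver p := himp.2.2.2.1
  have hw := Groth.RaynaudGruson.wit_of_isImpurity (A := A) (B := B) (N := N) A' B' N' f p t' t P himp
  obtain ⟨C, hC, hwC⟩ := hw.exists_finiteType
  haveI : Algebra.FiniteType A C := (Subalgebra.fg_iff_finiteType C).mp hC
  haveI : (t.comap C.val.toRingHom).LiesOver p := ⟨ht.over.trans (by rw [Ideal.under, Ideal.under, Ideal.comap_comap]; rfl)⟩
  obtain ⟨A'', _, _, hA'', s', s, _, _, hsp, hqf, hws⟩ := Groth.RaynaudGruson.Wit.exists_quasiFinite p hwC
  letI : Algebra B (TensorProduct A A'' B) := Algebra.TensorProduct.rightAlgebra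
  haveI : Algebra.IsPushout A B A'' (TensorProduct A A'' B) :=
    Algebra.IsPushout.symm (inferInstance : Algebra.IsPushout A A'' B (TensorProduct A A'' B))
  obtain ⟨Q, _, hQ⟩ := Groth.RaynaudGruson.exists_isImpurity_of_wit (A := A) (B := B) (N := N) A''
    (TensorProduct A A'' B) (TensorProduct B (TensorProduct A A'' B) N)
    ((TensorProduct.mk B (TensorProduct A A'' B) N) 1) (TensorProduct.isBaseChange B N _) p s' s hsp hws
  exact ⟨A'', _, _, inferInstance, inferInstance, inferInstance, inferInstance, inferInstance, inferInstance,
    inferInstance, inferInstance, inferInstance, inferInstance, inferInstance, inferInstance, inferInstance,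
    inferInstance, _, s', s, inferInstance, inferInstance, Q, inferInstance, hQ, inferInstance, hA'', hqf⟩

end Groth.Agent.S1247
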