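import Groth.Statements.S12470
import Groth.Agent.RelVA.Ops

set_option autoImplicit false
universe u
open CategoryTheory CategoryTheory.Limits AlgebraicGeometry TopologicalSpace Opposite
open scoped HomogeneousIdeal
open EGA2

namespace Groth.Agent.S12470

/-- Let q : X → Y be a morphism of schemes and L, L' invertible O_X-modules which are both very ample
relative to q (isomorphic to the inverse image of O(1) along a Y-immersion of X into the projective
bundle P(E) of a quasi-coherent O_Y-module E). Then L ⊗ L' is very ample relative to q. -/
theorem result {X Y : Scheme.{u}} (q : X ⟶ Y) (L L' : X.Modules)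
    (hL : PicF.IsInvertible L) (hL' : PicF.IsInvertible L')
    (hva : RelProj.IsRelVeryAmple q L) (hva' : RelProj.IsRelVeryAmple q L') :
    RelProj.IsRelVeryAmple q (CohB1.tensorMod L L') := by
    obtain ⟨E, hE, σ, hσ⟩ := Groth.RelVA.exists_isEmb hva
    obtain ⟨E', hE', σ', hσ'⟩ := Groth.RelVA.exists_isEmb hva'
    exact Groth.RelVA.isRelVeryAmple_tensor hσ hE' (Groth.RelVA.IsEmb.hepi σ' hσ')

end Groth.Agent.S12470
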