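import Groth.Statements.S12472
import Groth.Agent.RelTwist.ProjInv
import Groth.Agent.RelTwist.Exist
import Groth.Agent.Ega2Proj2.RelProjBasic
import Groth.Agent.PicAux.QCoh

set_option autoImplicit false
universe u
open CategoryTheory CategoryTheory.Limits AlgebraicGeometry TopologicalSpace Opposite
open scoped HomogeneousIdeal
open EGA2

namespace Groth.Agent.S12472

/-- Let Y be a scheme and L an invertible O_Y-module. Then L is very ample relative to the identity
morphism of Y: there are a quasi-coherent O_Y-module E and a Y-immersion i of Y into the projective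
bundle P(E) with L isomorphic to i^*O_{P(E)}(1). -/
theorem result (Y : Scheme.{u}) (L : Y.Modules) (hL : PicF.IsInvertible L) :
    RelProj.IsRelVeryAmple (𝟙 Y) L := by
  have hq : L.IsQuasicoherent := Groth.PicAux.isQCoh_of_isInvertible hL
  obtain ⟨P, p, chart, hP⟩ := Groth.Ega2P2.exists_isRelProj (Groth.SymAlg.symGr L)
  have hj := Groth.SymAlg.isGrSymAlg_symGr L
  have hO1 := Groth.RelTw.isRelTwist_relTwist hP 1
  have := Groth.RelTw.isIso_p hj hP hL
  obtain ⟨τ⟩ := Groth.RelTw.nonempty_pullback_iso hj hP hO1 hL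
  refine ⟨L, hq, _, _, hj, P, p, chart, hP, _, _, hO1, inv p, inferInstance, IsIso.inv_hom_id p, ⟨?_⟩⟩
  exact ((Scheme.Modules.pullback (inv p)).mapIso τ.symm ≪≫ (Scheme.Modules.pullbackComp (inv p) p).app L ≪≫
    (Scheme.Modules.pullbackCongr (IsIso.inv_hom_id p)).app L ≪≫ (Scheme.Modules.pullbackId Y).app L).symm

end Groth.Agent.S12472
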