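import Groth.Statements.S12475
import Groth.Agent.RelVA.Ops

set_option autoImplicit false
universe u
open CategoryTheory CategoryTheory.Limits AlgebraicGeometry TopologicalSpace Opposite
open scoped HomogeneousIdeal
open EGA2

namespace Groth.Agent.S12475

/-- Let Y₁ → S and Y₂ → S be schemes over S, f₁ : X₁ → Y₁ and f₂ : X₂ → Y₂ morphisms (so that X₁, X₂ are
S-schemes through them), P with projections p₁, p₂ a fibre product X₁ ×_S X₂, Q with projections q₁,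
q₂ a fibre product Y₁ ×_S Y₂, and h : P → Q the morphism f₁ ×_S f₂, that is, the one with h ≫ q₁ =
p₁ ≫ f₁ and h ≫ q₂ = p₂ ≫ f₂. If L₁ is an invertible O_{X₁}-module very ample relative to f₁ and L₂
an invertible O_{X₂}-module very ample relative to f₂ (each isomorphic to the inverse image of O(1)
along an immersion over the base into the projective bundle of a quasi-coherent module on the base),
then the external tensor product p₁^*L₁ ⊗ p₂^*L₂ is very ample relative to h. -/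
theorem result {S X₁ X₂ Y₁ Y₂ P Q : Scheme.{u}} (y₁ : Y₁ ⟶ S) (y₂ : Y₂ ⟶ S)
    (f₁ : X₁ ⟶ Y₁) (f₂ : X₂ ⟶ Y₂) (p₁ : P ⟶ X₁) (p₂ : P ⟶ X₂) (hP : IsPullback p₁ p₂ (f₁ ≫ y₁) (f₂ ≫ y₂))
    (q₁ : Q ⟶ Y₁) (q₂ : Q ⟶ Y₂) (hQ : IsPullback q₁ q₂ y₁ y₂) (h : P ⟶ Q)
    (hh₁ : h ≫ q₁ = p₁ ≫ f₁) (hh₂ : h ≫ q₂ = p₂ ≫ f₂)
    (L₁ : X₁.Modules) (hL₁ : PicF.IsInvertible L₁) (hva₁ : RelProj.IsRelVeryAmple f₁ L₁)
    (L₂ : X₂.Modules) (hL₂ : PicF.IsInvertible L₂) (hva₂ : RelProj.IsRelVeryAmple f₂ L₂) :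
    RelProj.IsRelVeryAmple h
      (CohB1.tensorMod ((Scheme.Modules.pullback p₁).obj L₁) ((Scheme.Modules.pullback p₂).obj L₂)) := by
    obtain ⟨E₁, hE₁, σ₁, hσ₁⟩ := Groth.RelVA.exists_isEmb hva₁
    obtain ⟨E₂, hE₂, σ₂, hσ₂⟩ := Groth.RelVA.exists_isEmb hva₂
    obtain ⟨τ₁, hτ₁⟩ := Groth.RelVA.exists_pullData σ₁ hh₁.symm
    obtain ⟨τ₂, hτ₂⟩ := Groth.RelVA.exists_pullData σ₂ hh₂.symm
    have e₁ := Groth.RelVA.hepi_pull hh₁.symm hτ₁ (Groth.RelVA.IsEmb.hepi σ₁ hσ₁)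
    have e₂ := Groth.RelVA.hepi_pull hh₂.symm hτ₂ (Groth.RelVA.IsEmb.hepi σ₂ hσ₂)
    obtain ⟨τ, hτ⟩ := Groth.RelVA.exists_tensorData τ₁ τ₂
    have : (CohB1.tensorMod ((Scheme.Modules.pullback q₁).obj E₁) ((Scheme.Modules.pullback q₂).obj E₂)).IsQuasicoherent :=
      Groth.QCohMod.isQCoh_tensorMod
    refine Groth.RelVA.isRelVeryAmple_of_isEmb (σ := τ) fun z => ?_
    obtain ⟨U₁, hU₁, hzU₁, -⟩ :=
      exists_isAffineOpen_mem_and_subset (x := q₁ (h z)) (U := (⊤ : Y₁.Opens)) trivial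
    obtain ⟨U₂, hU₂, hzU₂, -⟩ :=
      exists_isAffineOpen_mem_and_subset (x := q₂ (h z)) (U := (⊤ : Y₂.Opens)) trivial
    obtain ⟨W, hW, hzW, hWU⟩ := exists_isAffineOpen_mem_and_subset (x := h z) (U := q₁ ⁻¹ᵁ U₁ ⊓ q₂ ⁻¹ᵁ U₂) ⟨hzU₁, hzU₂⟩
    have hW₁ : W ≤ q₁ ⁻¹ᵁ U₁ := le_trans hWU inf_le_left
    have hW₂ : W ≤ q₂ ⁻¹ᵁ U₂ := le_trans hWU inf_le_right
    obtain ⟨a, ha⟩ := Groth.RelVA.exists_genLoc_of_hepi (Groth.RelVA.IsEmb.hepi σ₁ hσ₁) U₁ hU₁ (z := p₁ z)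
      ((Groth.RelVA.preimage_sq hh₁.symm U₁).le hzU₁)
    obtain ⟨b, hb⟩ := Groth.RelVA.exists_genLoc_of_hepi (Groth.RelVA.IsEmb.hepi σ₂ hσ₂) U₂ hU₂ (z := p₂ z)
      ((Groth.RelVA.preimage_sq hh₂.symm U₂).le hzU₂)
    have g₁ := Groth.RelVA.genLoc_pull hh₁.symm hτ₁ (Groth.RelVA.IsEmb.hepi σ₁ hσ₁) hU₁ hW₁ a
    have g₂ := Groth.RelVA.genLoc_pull hh₂.symm hτ₂ (Groth.RelVA.IsEmb.hepi σ₂ hσ₂) hU₂ hW₂ b
    have g₃ := Groth.RelVA.genLoc_tensor hτ e₁ e₂ hW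
      (Groth.PicAux.res _ hW₁ (Groth.PicAux.pullSec q₁ E₁ a)) (Groth.PicAux.res _ hW₂ (Groth.PicAux.pullSec q₂ E₂ b))
    have := Groth.RelVA.isImmersion_pair_of_isPullback hP
    refine ⟨W, hW, _, g₃.ge ⟨g₁.ge ⟨ha, hzW⟩, g₂.ge ⟨hb, hzW⟩⟩, ?_⟩
    refine Groth.RelVA.imm_pair p₁ p₂ (hσ₁.imm U₁ hU₁ a) (hσ₂.imm U₂ hU₂ b)
      ((g₃.le.trans inf_le_left).trans (g₁.le.trans inf_le_left))
      ((g₃.le.trans inf_le_right).trans (g₂.le.trans inf_le_left)) (fun x hx => ?_) fun x hx => ?_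
    · rw [← Scheme.Hom.appLE_map p₁ (g₁.le.trans inf_le_left) (homOfLE (g₃.le.trans inf_le_left)).op]
      exact Groth.RelVA.rGen_tensor_left hτ _ _ (g₃.le.trans inf_le_left) _
        (Groth.RelVA.rGen_pull hh₁.symm hτ₁ hW₁ a (g₁.le.trans inf_le_left) x hx)
    · rw [← Scheme.Hom.appLE_map p₂ (g₂.le.trans inf_le_left) (homOfLE (g₃.le.trans inf_le_right)).op]
      exact Groth.RelVA.rGen_tensor_right hτ _ _ (g₃.le.trans inf_le_right) _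
        (Groth.RelVA.rGen_pull hh₂.symm hτ₂ hW₂ b (g₂.le.trans inf_le_left) x hx)

end Groth.Agent.S12475
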