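import Groth.Statements.S12476
import Groth.Agent.RelVA.Ops

set_option autoImplicit false
universe u
open CategoryTheory CategoryTheory.Limits AlgebraicGeometry TopologicalSpace Opposite
open scoped HomogeneousIdeal
open EGA2

namespace Groth.Agent.S12476

/-- Let f : X → Y and g : Y → Z be morphisms of schemes and L an invertible O_X-module which is very
ample relative to the composite X → Y → Z (isomorphic to the inverse image of O(1) along a
Z-immersion of X into the projective bundle of a quasi-coherent O_Z-module). Then L is very ample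
relative to f. -/
theorem result {X Y Z : Scheme.{u}} (f : X ⟶ Y) (g : Y ⟶ Z) (L : X.Modules)
    (hL : PicF.IsInvertible L) (hva : RelProj.IsRelVeryAmple (f ≫ g) L) : RelProj.IsRelVeryAmple f L := by
    obtain ⟨E, hE, σ, hσ⟩ := Groth.RelVA.exists_isEmb hva
    have sq : 𝟙 X ≫ (f ≫ g) = f ≫ g := Category.id_comp _
    obtain ⟨σ', hσ'⟩ := Groth.RelVA.exists_pullData σ sq
    have := Groth.RelVA.isImmersion_pair_of_left (𝟙 X) f
    exact Groth.RelVA.isRelVeryAmple_of_iso ((Scheme.Modules.pullbackId X).app L)
      (Groth.RelVA.isRelVeryAmple_of_isEmb (Groth.RelVA.isEmb_pull sq hσ' hσ))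

end Groth.Agent.S12476
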