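import Groth.Statements.S1248
import Groth.Agent.RaynaudGruson.ImpurityHensel


set_option autoImplicit false
universe u
open FlatMor

namespace Groth.Agent.S1248

open IsLocalRing in
/-- Ring form, X = Spec B affine: let B be a finite type A-algebra, N a finite B-module and p a prime of
A. If there is an impurity of N above p whose base change ring A' is a henselization of the local
ring A_p (compatibly with A → A_p) and whose point t is the maximal ideal, then there is an impurity
of N above p for which (A', t) is an elementary étale ring map at p. -/
theorem result {A B : Type u} [CommRing A] [CommRing B] [Algebra A B] [Algebra.FiniteType A B]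
    (N : Type u) [AddCommGroup N] [Module B N] [Module.Finite B N] (p : Ideal A) [p.IsPrime]
    (h : FlatCA.HasImpurity A B N p (fun A' _ _ t => ∃ (_ : IsLocalRing A') (_ : Algebra (Localization.AtPrime p) A')
        (_ : IsScalarTower A (Localization.AtPrime p) A') (_ : IsLocalHom (algebraMap (Localization.AtPrime p) A')),
        Hensel.IsHenselization (Localization.AtPrime p) A' ∧ t = maximalIdeal A')) :
    FlatCA.HasImpurity A B N p (fun A' _ _ t => ∃ _ : t.IsPrime, FlatCA.IsEtaleNhd A A' p t) := by
  classical
  obtain ⟨A', B', N', _, _, _, _, _, _, _, _, _, _, _, _, _, _, f, t', t, _, _, P, _, himp,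
    _, _, _, _, hH, ht⟩ := h
  letI : Module A N := Module.compHom N (algebraMap A B)
  haveI : IsScalarTower A B N := IsScalarTower.of_algebraMap_smul fun _ _ => rfl
  haveI : Algebra.IsPushout A B A' B' := himp.1
  have hw := Groth.RaynaudGruson.wit_of_isImpurity (A := A) (B := B) (N := N) A' B' N' f p t' t P himp
  subst ht
  obtain ⟨D, _, _, s', s, _, _, het, hws⟩ := Groth.RaynaudGruson.exists_wit_etaleNhd p hH t' hw
  letI : Algebra B (TensorProduct A D B) := Algebra.TensorProduct.rightAlgebra
  haveI : Algebra.IsPushout A B D (TensorProduct A D B) :=
    Algebra.IsPushout.symm (inferInstance : Algebra.IsPushout A D B (TensorProduct A D B))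
  obtain ⟨Q, _, hQ⟩ := Groth.RaynaudGruson.exists_isImpurity_of_wit (A := A) (B := B) (N := N) D
    (TensorProduct A D B) (TensorProduct B (TensorProduct A D B) N)
    ((TensorProduct.mk B (TensorProduct A D B) N) 1) (TensorProduct.isBaseChange B N _) p s' s het.2.choose hws
  exact ⟨D, _, _, inferInstance, inferInstance, inferInstance, inferInstance, inferInstance, inferInstance,
    inferInstance, inferInstance, inferInstance, inferInstance, inferInstance, inferInstance, inferInstance,
    inferInstance, _, s', s, inferInstance, inferInstance, Q, inferInstance, hQ, inferInstance, het⟩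

end Groth.Agent.S1248
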