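import Groth.Statements.S12482
import Mathlib
import Groth.Agent.EGA41Two.QuasiRegular

set_option autoImplicit false
universe u
open Dual

namespace Groth.Agent.S12482

/-- Let `A` be a commutative ring, `x_1, …, x_p` a sequence of elements of `A` such that each `x_i` is a
non-zero-divisor on `A/(x_1, …, x_{i-1})`, and `J` the ideal generated by the `x_i`. Then `J/J²` is
a free `(A/J)`-module with basis the classes of the `x_i`: there is a basis of `J/J²` over `A/J`,
indexed by `1, …, p`, whose `i`-th vector is the class of `x_i`. (The other assertions of the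
published statement, on the Koszul complex and on Ext and Tor against `A/J`, are stated separately.) -/
theorem result (A : Type u) [CommRing A] (p : ℕ) (x : Fin p → A)
    (hreg : RingTheory.Sequence.IsWeaklyRegular A (List.ofFn x)) :
    ∃ b : Module.Basis (Fin p) (A ⧸ Ideal.span (Set.range x)) (Ideal.span (Set.range x)).Cotangent,
      ∀ i, b i = (Ideal.span (Set.range x)).toCotangent ⟨x i, Ideal.subset_span (Set.mem_range_self i)⟩ := by
  classical
  set J := Ideal.span (Set.range x) with hJ
  have hq := Groth.EGA41Two.isQuasiRegular_of_isWeaklyRegular x hreg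
  let v : Fin p → J.Cotangent := fun i => J.toCotangent ⟨x i, Ideal.subset_span (Set.mem_range_self i)⟩
  have hspan : ⊤ ≤ Submodule.span (A ⧸ J) (Set.range v) := by
    intro z _
    obtain ⟨⟨a, ha⟩, rfl⟩ := J.toCotangent_surjective z
    obtain ⟨c, hc⟩ := (Ideal.mem_span_range_iff_exists_fun (R := A)).1 ha
    have : (⟨a, ha⟩ : J) = ∑ i, c i • (⟨x i, Ideal.subset_span (Set.mem_range_self i)⟩ : J) := by
      refine Subtype.ext ?_
      rw [AddSubmonoidClass.coe_finsetSum]
      simp [hc]
    rw [this, map_sum]
    refine Submodule.sum_mem _ fun i _ => ?_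
    rw [map_smul, ← algebraMap_smul (A ⧸ J) (c i)]
    exact Submodule.smul_mem _ _ (Submodule.subset_span ⟨i, rfl⟩)
  have hli : LinearIndependent (A ⧸ J) v := by
    rw [Fintype.linearIndependent_iff]
    intro g hg
    choose c hc using fun i => Ideal.Quotient.mk_surjective (g i)
    intro i
    let P : MvPolynomial (Fin p) A := ∑ j, MvPolynomial.C (c j) * MvPolynomial.X j
    have hP : P.IsHomogeneous 1 := MvPolynomial.IsHomogeneous.sum _ _ _ fun j _ => MvPolynomial.isHomogeneous_C_mul_X _ j
    have he : MvPolynomial.eval x P ∈ J ^ (1 + 1) := by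
      have h0 : J.toCotangent (∑ j, c j • (⟨x j, Ideal.subset_span (Set.mem_range_self j)⟩ : J)) = 0 := by
        rw [map_sum, ← hg]
        refine Finset.sum_congr rfl fun j _ => ?_
        rw [map_smul, ← hc j, ← algebraMap_smul (A ⧸ J) (c j)]
        rfl
      rw [Ideal.toCotangent_eq_zero, AddSubmonoidClass.coe_finsetSum] at h0
      simpa [P] using h0
    have := hq 1 P hP he (Finsupp.single i 1)
    simp only [P, MvPolynomial.coeff_sum, MvPolynomial.coeff_C_mul, MvPolynomial.coeff_X, mul_boole, Finset.sum_ite_eq', Finset.mem_univ, if_true,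
      Finsupp.single_left_inj one_ne_zero] at this
    rw [← hc i]
    exact Ideal.Quotient.eq_zero_iff_mem.2 this
  exact ⟨Module.Basis.mk hli hspan, fun i => by rw [Module.Basis.mk_apply]⟩

end Groth.Agent.S12482
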