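import Groth.Statements.S12491
import Groth.Agent.Ega4Algebra1.RegularLocal
import Mathlib.RingTheory.LocalProperties.ProjectiveDimension
import Mathlib.RingTheory.LocalRing.Module

set_option autoImplicit false
universe u
open VBPn

namespace Groth.Agent.S12491

open CategoryTheory

section

variable {A : Type u} [CommRing A] (S : Submonoid A)

/-- Projective dimension bound of a localized module. -/
def LocPdLT (M : Type u) [AddCommGroup M] [Module A M] (n : ℕ) : Prop :=
  HasProjectiveDimensionLT ((ModuleCat.of A M).localizedModule S) n

theorem locPdLT_of_equiv {M N : Type u} [AddCommGroup M] [Module A M] [AddCommGroup N]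
    [Module A N] (e : M ≃ₗ[A] N) {n : ℕ} (h : LocPdLT S M n) : LocPdLT S N n := by
  unfold LocPdLT at h ⊢
  have : HasProjectiveDimensionLT ((ModuleCat.localizedModuleFunctor S).obj (ModuleCat.of A M)) n := h
  exact hasProjectiveDimensionLT_of_iso ((ModuleCat.localizedModuleFunctor S).mapIso e.toModuleIso) n

theorem locPdLT_ker {M N : Type u} [AddCommGroup M] [Module A M] [AddCommGroup N] [Module A N]
    [Module.Free A M] (f : M →ₗ[A] N) (hf : Function.Surjective f) {n : ℕ}
    (h : LocPdLT S N (n + 2)) : LocPdLT S (LinearMap.ker f) (n + 1) := by
  have hS := (LinearMap.shortExact_shortComplexKer hf).map_of_exact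
    (ModuleCat.localizedModuleFunctor S)
  have hP : Projective f.shortComplexKer.X₂ :=
    ModuleCat.projective_of_free (Module.Free.chooseBasis A M)
  have hP' := (ModuleCat.localizedModuleFunctor.{u} S).projective_obj_of_projective hP
  exact (hS.hasProjectiveDimensionLT_X₃_iff n hP').1 h

end

/-- Let A be a regular local ring, k ≥ 0, and N_0, N_1, … A-modules with N_0 finitely generated and N_1,
…, N_k finitely generated and free, with linear maps d_i : N_i → N_{i+1} such that d_0 is injective
and the sequence 0 → N_0 → N_1 → ⋯ → N_k is exact. Then for every prime ideal p of A of height at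
most k the localization of N_0 at p is a free module over A_p. The published statement is for a
coherent analytic sheaf on a complex manifold that is locally a k-th syzygy sheaf and says its set
of non-free stalks has codimension greater than k; this row is the statement at one stalk, over any
regular local ring. -/
theorem result (A : Type u) [CommRing A] [IsRegularLocalRing A]
    (k : ℕ) (N : ℕ → Type u) [∀ i, AddCommGroup (N i)] [∀ i, Module A (N i)] [Module.Finite A (N 0)]
    (hfree : ∀ i, 1 ≤ i → i ≤ k → Module.Free A (N i) ∧ Module.Finite A (N i))
    (d : ∀ i, N i →ₗ[A] N (i + 1)) (hinj : Function.Injective (d 0))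
    (hex : ∀ i, i + 1 < k → LinearMap.range (d i) = LinearMap.ker (d (i + 1)))
    (p : Ideal A) [p.IsPrime] (hp : p.height ≤ k) :
    Module.Free (Localization.AtPrime p) (LocalizedModule p.primeCompl (N 0)) := by
  have := Groth.Ega4Algebra1.isDomain_of_isRegularLocalRing A
  have hAp : IsRegularLocalRing (Localization.AtPrime p) :=
    Groth.Ega4Algebra1.isRegularLocalRing_localization_atPrime A p
  have hdim : (IsLocalRing.maximalIdeal (Localization.AtPrime p)).spanFinrank ≤ k := by
    have h1 := hAp.spanFinrank_maximalIdeal
    rw [IsLocalization.AtPrime.ringKrullDim_eq_height p (Localization.AtPrime p)] at h1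
    have h2 : ((IsLocalRing.maximalIdeal (Localization.AtPrime p)).spanFinrank : ℕ∞) = p.height :=
      by exact_mod_cast h1
    exact_mod_cast h2.trans_le hp
  have hglobal : ∀ (M : Type u) [AddCommGroup M] [Module A M] [Module.Finite A M],
      LocPdLT p.primeCompl M (k + 1) := by
    intro M _ _ _
    have := ModuleCat.localizedModule_isLocalizedModule (ModuleCat.of A M) p.primeCompl
    have : Module.Finite (Localization.AtPrime p) ((ModuleCat.of A M).localizedModule p.primeCompl) :=
      Module.Finite.of_isLocalizedModule p.primeCompl
        ((ModuleCat.of A M).localizedModuleMkLinearMap p.primeCompl)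
    have h1 : HasProjectiveDimensionLT ((ModuleCat.of A M).localizedModule p.primeCompl) _ :=
      Groth.Ega4Algebra1.pdLT_of_isRegularLocalRing (Localization.AtPrime p) _ rfl
        ((ModuleCat.of A M).localizedModule p.primeCompl)
    exact @hasProjectiveDimensionLT_of_ge _ _ _ _ _ (k + 1) (by omega) h1
  have hP : LocPdLT p.primeCompl (N 0) 1 := by
    rcases Nat.eq_zero_or_pos k with rfl | hk
    · exact hglobal (N 0)
    · have key : ∀ j i, i + j + 1 = k → LocPdLT p.primeCompl (LinearMap.range (d i)) (i + 1) := by
        intro j
        induction j with
        | zero =>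
          intro i hi
          obtain ⟨h1, h2⟩ := hfree (i + 1) (by omega) (by omega)
          have := locPdLT_ker p.primeCompl (LinearMap.range (d i)).mkQ (Submodule.mkQ_surjective _)
            (n := i) (by rw [show i + 2 = k + 1 by omega]; exact hglobal _)
          exact locPdLT_of_equiv _ (LinearEquiv.ofEq _ _ (Submodule.ker_mkQ _)) this
        | succ j ih =>
          intro i hi
          obtain ⟨h1, h2⟩ := hfree (i + 1) (by omega) (by omega)
          have := locPdLT_ker p.primeCompl (d (i + 1)).rangeRestrict
            (LinearMap.surjective_rangeRestrict _) (n := i) (ih (i + 1) (by omega))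
          exact locPdLT_of_equiv _ (LinearEquiv.ofEq _ _ (by
            rw [LinearMap.ker_rangeRestrict, hex i (by omega)])) this
      exact locPdLT_of_equiv _ (LinearEquiv.ofInjective (d 0) hinj).symm (key (k - 1) 0 (by omega))
  have : Projective ((ModuleCat.of A (N 0)).localizedModule p.primeCompl) :=
    projective_iff_hasProjectiveDimensionLT_one.2 hP
  have : Module.Projective (Localization.AtPrime p)
      ((ModuleCat.of A (N 0)).localizedModule p.primeCompl) :=
    (IsProjective.iff_projective (R := Localization.AtPrime p) _).2 this
  let e : ((ModuleCat.of A (N 0)).localizedModule p.primeCompl) ≃ₗ[Localization.AtPrime p]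
      LocalizedModule p.primeCompl (N 0) :=
    Shrink.linearEquiv.{u} (Localization.AtPrime p) (LocalizedModule p.primeCompl (N 0))
  have : Module.Projective (Localization.AtPrime p) (LocalizedModule p.primeCompl (N 0)) :=
    Module.Projective.of_equiv e
  exact Module.free_of_flat_of_isLocalRing

end Groth.Agent.S12491
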