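import Groth.Statements.S12498
import Mathlib.RingTheory.Derivation.Basic
import Mathlib.RingTheory.Flat.Basic
import Groth.Agent.ArtfunDeform.AlgDef.Basic

set_option autoImplicit false
universe u
open Deform

namespace Groth.Agent.S12498

/-- Let k be an algebraically closed field, A a local Artinian k-algebra with residue field k, and t a
nonzero element of the maximal ideal m_A annihilated by m_A, so that A → A/tA is a small extension.
Let B be a flat A-algebra (a deformation over A of its closed fibre B_0 = B/m_A B), and σ an
A-algebra automorphism of B/tB inducing the identity on B_0. Fix an A-algebra automorphism τ of B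
inducing σ (so τ induces the identity on B_0). Then the A-algebra automorphisms η of B inducing σ
correspond bijectively to the k-derivations d of B_0 through the rule η = τ + t·d, meaning η(b) =
τ(b) + t b′ for all b ∈ B and all b′ ∈ B lifting d applied to the image of b in B_0: every such η
determines a unique d, and every d comes from some such η. (The published statement phrases the
conclusion as a free and transitive action of Der_k(B_0, B_0) on the nonempty set of lifts of σ; the
condition that σ induces the identity on B_0 is expressed here through the chosen lift τ.) -/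
theorem result
    {k : Type u} [Field k] [IsAlgClosed k]
    {A : Type u} [CommRing A] [Algebra k A] [IsLocalRing A] [IsArtinianRing A]
    (hres : ∀ a : A, ∃ c : k, a - algebraMap k A c ∈ IsLocalRing.maximalIdeal A)
    (t : A) (ht : t ∈ IsLocalRing.maximalIdeal A) (ht0 : t ≠ 0)
    (htm : ∀ a ∈ IsLocalRing.maximalIdeal A, a * t = 0)
    {B : Type u} [CommRing B] [Algebra A B] [Module.Flat A B] [Algebra k B] [IsScalarTower k A B]
    (σ : (B ⧸ Ideal.span {algebraMap A B t}) ≃ₐ[A] (B ⧸ Ideal.span {algebraMap A B t}))
    (τ : B ≃ₐ[A] B)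
    (hτ : ∀ b : B, Ideal.Quotient.mk (Ideal.span {algebraMap A B t}) (τ b) =
      σ (Ideal.Quotient.mk (Ideal.span {algebraMap A B t}) b))
    (hτ0 : ∀ b : B, τ b - b ∈ (IsLocalRing.maximalIdeal A).map (algebraMap A B)) :
    (∀ η : B ≃ₐ[A] B, (∀ b : B, Ideal.Quotient.mk (Ideal.span {algebraMap A B t}) (η b) =
        σ (Ideal.Quotient.mk (Ideal.span {algebraMap A B t}) b)) →
      ∃! d : Derivation k (B ⧸ (IsLocalRing.maximalIdeal A).map (algebraMap A B))
          (B ⧸ (IsLocalRing.maximalIdeal A).map (algebraMap A B)),
        ∀ b b' : B, Ideal.Quotient.mk ((IsLocalRing.maximalIdeal A).map (algebraMap A B)) b' =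
            d (Ideal.Quotient.mk ((IsLocalRing.maximalIdeal A).map (algebraMap A B)) b) →
          η b = τ b + algebraMap A B t * b') ∧
    (∀ d : Derivation k (B ⧸ (IsLocalRing.maximalIdeal A).map (algebraMap A B))
        (B ⧸ (IsLocalRing.maximalIdeal A).map (algebraMap A B)),
      ∃ η : B ≃ₐ[A] B, (∀ b : B, Ideal.Quotient.mk (Ideal.span {algebraMap A B t}) (η b) =
          σ (Ideal.Quotient.mk (Ideal.span {algebraMap A B t}) b)) ∧
        ∀ b b' : B, Ideal.Quotient.mk ((IsLocalRing.maximalIdeal A).map (algebraMap A B)) b' =
            d (Ideal.Quotient.mk ((IsLocalRing.maximalIdeal A).map (algebraMap A B)) b) →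
          η b = τ b + algebraMap A B t * b') := by
  classical
  let M := (IsLocalRing.maximalIdeal A).map (algebraMap A B)
  let T : B := algebraMap A B t
  have hTM : ∀ x ∈ M, T * x = 0 := fun x hx => by
    induction hx using Submodule.span_induction with
    | mem y hy =>
      obtain ⟨a, ha, rfl⟩ := hy
      rw [← map_mul, mul_comm t a, htm a ha, map_zero]
    | zero => rw [mul_zero]
    | add a b _ _ ha hb => rw [mul_add, ha, hb, add_zero]
    | smul c a _ ha => rw [smul_eq_mul, mul_left_comm, ha, mul_zero]
  have hTT : T * T = 0 := hTM _ (Ideal.mem_map_of_mem _ ht)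
  have hreg : ∀ x, T * x = 0 → x ∈ M := fun x hx => by
    let f : (A ⧸ IsLocalRing.maximalIdeal A) →ₗ[A] A := Submodule.liftQ _ (LinearMap.toSpanSingleton A A t) fun m hm => by
      rw [LinearMap.mem_ker, LinearMap.toSpanSingleton_apply]
      exact htm m hm
    have hf : Function.Injective f := by
      rw [injective_iff_map_eq_zero]
      intro y hy
      obtain ⟨a, rfl⟩ := Submodule.Quotient.mk_surjective _ y
      refine (Submodule.Quotient.mk_eq_zero _).2 ((IsLocalRing.mem_maximalIdeal _).2 fun hu => ht0 ?_)
      exact (hu.mul_right_eq_zero).1 hy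
    have hinj := Module.Flat.rTensor_preserves_injective_linearMap (M := B) f hf
    have h0 : (Ideal.Quotient.mk (IsLocalRing.maximalIdeal A) 1 : A ⧸ IsLocalRing.maximalIdeal A) ⊗ₜ[A] x = 0 := by
      refine hinj ?_
      rw [map_zero, LinearMap.rTensor_tmul]
      refine (TensorProduct.lid A B).injective ?_
      rw [TensorProduct.lid_tmul, map_zero, show f (Ideal.Quotient.mk (IsLocalRing.maximalIdeal A) 1) = (1 : A) • t from rfl,
        one_smul, Algebra.smul_def]
      exact hx
    have := Groth.ArtfunDeform.mem_smul_of_one_tmul_eq_zero (A' := A ⧸ IsLocalRing.maximalIdeal A) Ideal.Quotient.mk_surjective h0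
    rw [Ideal.Quotient.algebraMap_eq, Ideal.mk_ker, Ideal.smul_top_eq_map] at this
    exact this
  have hcan : ∀ x y, T * x = T * y → Ideal.Quotient.mk M x = Ideal.Quotient.mk M y := fun x y h =>
    Ideal.Quotient.eq.2 (hreg _ (by rw [mul_sub, h, sub_self]))
  have hcan' : ∀ x y, Ideal.Quotient.mk M x = Ideal.Quotient.mk M y → T * x = T * y := fun x y h => by
    rw [← sub_eq_zero, ← mul_sub]
    exact hTM _ (Ideal.Quotient.eq.1 h)
  have hτ' : ∀ b, Ideal.Quotient.mk M (τ b) = Ideal.Quotient.mk M b := fun b => Ideal.Quotient.eq.2 (hτ0 b)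
  refine ⟨fun η hη => ?_, fun d => ?_⟩
  · have hdiff : ∀ b, ∃ w, η b = τ b + T * w := fun b => by
      obtain ⟨c, hc⟩ := Ideal.mem_span_singleton'.1 (Ideal.Quotient.eq.1 ((hη b).trans (hτ b).symm))
      exact ⟨c, by rw [mul_comm, hc, add_sub_cancel]⟩
    choose w hw using hdiff
    have hwM : ∀ b ∈ M, w b ∈ M := fun b hb => by
      refine hreg _ ?_
      have h1 : η b = τ b := by
        induction hb using Submodule.span_induction with
        | mem y hy =>
          obtain ⟨a, -, rfl⟩ := hy
          rw [η.commutes, τ.commutes]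
        | zero => rw [map_zero, map_zero]
        | add x y _ _ hx hy => rw [map_add, map_add, hx, hy]
        | smul c y hy hx =>
          rw [smul_eq_mul, map_mul, map_mul, hx, hw c, add_mul, mul_comm T (w c), mul_assoc, hTM (τ y) ?_, mul_zero, add_zero]
          have := add_mem (hτ0 y) hy
          rwa [sub_add_cancel] at this
      have := hw b
      rw [h1] at this
      exact left_eq_add.1 this
    have hwadd : ∀ a b, T * w (a + b) = T * (w a + w b) := fun a b => by
      have h := hw (a + b)
      rw [map_add, map_add, hw a, hw b] at h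
      rw [mul_add]
      linear_combination h.symm
    let d₀ : B ⧸ M → B ⧸ M := Quotient.lift (fun b => Ideal.Quotient.mk M (w b)) fun a b hab => by
      have hab' : a - b ∈ M := (Submodule.quotientRel_def _).1 hab
      have h := hcan _ _ (hwadd (a - b) b)
      rw [sub_add_cancel, map_add, Ideal.Quotient.eq_zero_iff_mem.2 (hwM _ hab'), zero_add] at h
      exact h
    have hd₀ : ∀ b, d₀ (Ideal.Quotient.mk M b) = Ideal.Quotient.mk M (w b) := fun b => rfl
    have hk : ∀ c : k, T * w (algebraMap k B c) = 0 := fun c => by
      have h := hw (algebraMap k B c)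
      rw [IsScalarTower.algebraMap_apply k A B, η.commutes, τ.commutes, ← IsScalarTower.algebraMap_apply k A B] at h
      exact left_eq_add.1 h
    have hmul : ∀ a b, T * w (a * b) = T * (a * w b + b * w a) := fun a b => by
      have h := hw (a * b)
      rw [map_mul, map_mul, hw a, hw b] at h
      have h1 : T * (τ a * w b) = T * (a * w b) := hcan' _ _ (by rw [map_mul, map_mul, hτ'])
      have h2 : T * (τ b * w a) = T * (b * w a) := hcan' _ _ (by rw [map_mul, map_mul, hτ'])
      linear_combination h.symm + h1 + h2 + (w a * w b) * hTT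
    let d : Derivation k (B ⧸ M) (B ⧸ M) := Derivation.mk'
      { toFun := d₀
        map_add' := fun x y => by
          obtain ⟨a, rfl⟩ := Ideal.Quotient.mk_surjective x
          obtain ⟨b, rfl⟩ := Ideal.Quotient.mk_surjective y
          rw [← map_add, hd₀, hd₀, hd₀, ← map_add]
          exact hcan _ _ (hwadd a b)
        map_smul' := fun c x => by
          obtain ⟨a, rfl⟩ := Ideal.Quotient.mk_surjective x
          rw [RingHom.id_apply, Algebra.smul_def, Algebra.smul_def, ← Ideal.Quotient.mk_algebraMap, ← map_mul, hd₀, hd₀,
            ← map_mul]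
          refine hcan _ _ ?_
          rw [hmul, mul_add, mul_left_comm T a, hk, mul_zero, add_zero] }
      fun x y => by
        obtain ⟨a, rfl⟩ := Ideal.Quotient.mk_surjective x
        obtain ⟨b, rfl⟩ := Ideal.Quotient.mk_surjective y
        simp only [LinearMap.coe_mk, AddHom.coe_mk, smul_eq_mul]
        rw [← map_mul, hd₀, hd₀, hd₀, ← map_mul, ← map_mul, ← map_add]
        exact hcan _ _ (hmul a b)
    refine ⟨d, fun b b' hb' => ?_, fun d' hd' => Derivation.ext fun x => ?_⟩
    · rw [hw b]
      exact congrArg (τ b + ·) (hcan' _ _ (hd₀ b ▸ hb').symm)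
    · obtain ⟨b, rfl⟩ := Ideal.Quotient.mk_surjective x
      obtain ⟨b', hb'⟩ := Ideal.Quotient.mk_surjective (d' (Ideal.Quotient.mk M b))
      have := hd' b b' hb'
      rw [hw b] at this
      rw [← hb']
      exact (hcan _ _ (add_left_cancel this)).symm
  · choose L hL using fun x : B ⧸ M => Ideal.Quotient.mk_surjective x
    let e : B → B := fun b => τ b + T * L (d (Ideal.Quotient.mk M b))
    have hvm : ∀ a : A, d (Ideal.Quotient.mk M (algebraMap A B a)) = 0 := fun a => by
      obtain ⟨c, hc⟩ := hres a
      have : Ideal.Quotient.mk M (algebraMap A B a) = algebraMap k (B ⧸ M) c := by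
        rw [← Ideal.Quotient.mk_algebraMap, IsScalarTower.algebraMap_apply k A B, Ideal.Quotient.eq, ← map_sub]
        exact Ideal.mem_map_of_mem _ hc
      rw [this, d.map_algebraMap]
    have hv0 : ∀ x, d (Ideal.Quotient.mk M x) = 0 → e x = τ x := fun x hx => by
      change τ x + T * L (d _) = τ x
      rw [hx, hTM _ (Ideal.Quotient.eq_zero_iff_mem.1 (hL 0)), add_zero]
    let η₀ : B →ₐ[A] B :=
      { toFun := e
        map_one' := by rw [hv0 1 (by rw [map_one, d.map_one_eq_zero]), map_one]
        map_zero' := by rw [hv0 0 (by rw [map_zero, map_zero]), map_zero]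
        map_add' := fun a b => by
          change τ (a + b) + _ = (τ a + _) + (τ b + _)
          have h1 : T * L (d (Ideal.Quotient.mk M (a + b))) = T * (L (d (Ideal.Quotient.mk M a)) + L (d (Ideal.Quotient.mk M b))) :=
            hcan' _ _ (by rw [map_add (Ideal.Quotient.mk M) (L _) (L _), hL, hL, hL, map_add, map_add])
          rw [map_add, h1]
          ring
        map_mul' := fun a b => by
          change τ (a * b) + _ = (τ a + _) * (τ b + _)
          have h1 : T * L (d (Ideal.Quotient.mk M (a * b))) =
              T * (τ a * L (d (Ideal.Quotient.mk M b)) + τ b * L (d (Ideal.Quotient.mk M a))) :=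
            hcan' _ _ (by rw [map_add (Ideal.Quotient.mk M) _ _, map_mul (Ideal.Quotient.mk M) (τ a),
              map_mul (Ideal.Quotient.mk M) (τ b), hL, hL, hL, hτ', hτ', map_mul, d.leibniz, smul_eq_mul, smul_eq_mul])
          rw [map_mul, h1]
          linear_combination -(L (d (Ideal.Quotient.mk M a)) * L (d (Ideal.Quotient.mk M b))) * hTT
        commutes' := fun a => by rw [hv0 _ (hvm a), τ.commutes] }
    have hbij : Function.Bijective η₀ := by
      constructor
      · rw [injective_iff_map_eq_zero]
        intro x hx
        have hτM : τ x ∈ M := by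
          have : τ x = -(T * L (d (Ideal.Quotient.mk M x))) := eq_neg_of_add_eq_zero_left hx
          rw [this]
          exact neg_mem (Ideal.mul_mem_right _ _ (Ideal.mem_map_of_mem _ ht))
        have hxM : x ∈ M := by
          have := sub_mem hτM (hτ0 x)
          rwa [sub_sub_cancel] at this
        have := hv0 x (by rw [Ideal.Quotient.eq_zero_iff_mem.2 hxM, map_zero])
        rw [show e x = η₀ x from rfl, hx] at this
        exact τ.injective (this.symm.trans (map_zero τ).symm)
      · intro y
        let w := L (d (Ideal.Quotient.mk M (τ.symm y)))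
        refine ⟨τ.symm y - algebraMap A B t * τ.symm w, ?_⟩
        rw [map_sub, map_mul, η₀.commutes]
        change (τ (τ.symm y) + T * w) - T * (τ (τ.symm w) + T * _) = y
        rw [τ.apply_symm_apply, τ.apply_symm_apply]
        linear_combination -(L (d (Ideal.Quotient.mk M (τ.symm w)))) * hTT
    refine ⟨AlgEquiv.ofBijective η₀ hbij, fun b => ?_, fun b b' hb' => ?_⟩
    · change Ideal.Quotient.mk _ (τ b + T * _) = _
      rw [map_add, hτ b, Ideal.Quotient.eq_zero_iff_mem.2 (Ideal.mul_mem_right _ _ (Ideal.mem_span_singleton_self T)), add_zero]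
    · exact congrArg (τ b + ·) (hcan' _ _ (by rw [hL]; exact hb'.symm))

end Groth.Agent.S12498
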