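import Groth.Statements.S12513
import Mathlib.AlgebraicGeometry.AffineScheme

set_option autoImplicit false
universe u
open Mero

namespace Groth.Agent.S12513

open AlgebraicGeometry in
/-- For a scheme X and an affine open U of X, the sections of O_X over U with nonzerodivisor germ at
every point of U are exactly the nonzerodivisors of the ring O_X(U). No Noetherian hypothesis is
needed. -/
theorem result (X : Scheme.{u}) (U : X.Opens)
    (hU : IsAffineOpen U) : Mero.regSub X U = nonZeroDivisors Γ(X, U) := by
  ext r
  refine ⟨fun h => mem_nonZeroDivisors_iff_right.mpr fun g hg => ?_, fun h x => ?_⟩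
  · refine TopCat.Presheaf.section_ext X.sheaf U g 0 fun x hx => ?_
    have := congr(X.presheaf.germ U x hx $hg)
    rw [map_mul, map_zero] at this
    exact (mem_nonZeroDivisors_iff_right.mp (h ⟨x, hx⟩) _ this).trans (map_zero _).symm
  · let _ : Algebra Γ(X, U) (X.presheaf.stalk x.1) :=
      TopCat.Presheaf.algebra_section_stalk X.presheaf ⟨x.1, x.2⟩
    have := hU.isLocalization_stalk x
    exact IsLocalization.map_nonZeroDivisors_le (hU.primeIdealOf x).asIdeal.primeCompl
      (X.presheaf.stalk x.1) ⟨r, h, rfl⟩

end Groth.Agent.S12513
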