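import Groth.Statements.S12514
import Groth.Agent.FunFld1.Extension

set_option autoImplicit false
open FunFld Groth.FunFld1

namespace Groth.Agent.S12514

/-- For a geometric function field of one variable `K/k` and finite extensions `K ⊆ K' ⊆ K''`, the
conorm maps on divisors compose: `N*_{K''/K'} ∘ N*_{K'/K} = N*_{K''/K}`. The companion identity for
norms is not stated. -/
theorem result (k K K' K'' : Type*) [Field k] [Field K] [Field K'] [Field K'']
    [Algebra k K] [Algebra k K'] [Algebra k K''] [Algebra K K'] [Algebra K' K''] [Algebra K K'']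
    [IsScalarTower k K K'] [IsScalarTower k K' K''] [IsScalarTower k K K''] [IsScalarTower K K' K'']
    [FiniteDimensional K K'] [FiniteDimensional K' K'']
    (hK : FunFld.IsFunctionField k K) (hg : FunFld.IsGeometric k K) (D : FunFld.Divisor k K) :
    FunFld.conorm K'' (FunFld.conorm K' D) = FunFld.conorm K'' D := by
  classical
  have hF := Groth.FunFld1.IsFF.of_isFunctionField hK
  have hF' : Groth.FunFld1.IsFF k K' := hF.ext
  have : FiniteDimensional K K'' := Module.Finite.trans K' K''
  ext R
  obtain ⟨Q, e', he'⟩ := hF'.exists_isOver R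
  obtain ⟨P, e, he⟩ := hF.exists_isOver Q
  have hcomp : FunFld.IsOverWith R P (e * e') := fun x => by
    rw [IsScalarTower.algebraMap_apply K K' K'', he', he, ← pow_mul]
  rw [hF'.conorm_apply _ he', hF.conorm_apply _ he, hF.conorm_apply _ hcomp]
  push_cast
  ring
end Groth.Agent.S12514
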