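import Groth.Statements.S12515
import Groth.Agent.Funfld2.Quad.Field
import Groth.Agent.Funfld2.Rat.Places

set_option autoImplicit false
open FunFld Groth.FunFld1

namespace Groth.Agent.S12515

/-- If `char k ≠ 2` and `K` has degree `2` over the rational function field `k(x)`, then `K = k(x)(y)`
for some `y` with `y² = f(x)`, `f` a squarefree polynomial over `k`. -/
theorem result (k K : Type*) [Field k] [Field K] (h2 : ringChar k ≠ 2)
    [Algebra (RatFunc k) K] (hdeg : Module.finrank (RatFunc k) K = 2) :
    ∃ (y : K) (f : Polynomial k), Squarefree f ∧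
      y ^ 2 = algebraMap (RatFunc k) K (algebraMap (Polynomial k) (RatFunc k) f) ∧
      IntermediateField.adjoin (RatFunc k) ({y} : Set K) = ⊤ := by
  have h2k : (2 : k) ≠ 0 := Ring.two_ne_zero h2
  have h2F : (2 : RatFunc k) ≠ 0 := by
    rw [← map_ofNat (algebraMap k (RatFunc k)) 2]; simpa using h2k
  obtain ⟨y, d, hd0, hy, hyr⟩ := Groth.Funfld2.Quad.exists_sqrt_gen hdeg h2F
  have hinj : Function.Injective (algebraMap (Polynomial k) (RatFunc k)) :=
    RatFunc.algebraMap_injective k
  have hden : algebraMap (Polynomial k) (RatFunc k) d.denom ≠ 0 :=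
    RatFunc.algebraMap_ne_zero d.denom_ne_zero
  have hd : algebraMap (Polynomial k) (RatFunc k) (d.num * d.denom) =
      d * algebraMap (Polynomial k) (RatFunc k) d.denom ^ 2 := by
    conv_rhs => rw [← RatFunc.num_div_denom d]
    rw [RatFunc.num_div_denom, map_mul]
    have := RatFunc.num_div_denom d
    rw [div_eq_iff hden] at this
    rw [this]; ring
  suffices key : ∀ n (g : Polynomial k), g ≠ 0 → g.natDegree = n → ∀ y : K,
      y ^ 2 = algebraMap (RatFunc k) K (algebraMap (Polynomial k) (RatFunc k) g) →
      y ∉ Set.range (algebraMap (RatFunc k) K) →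
      ∃ (y : K) (f : Polynomial k), Squarefree f ∧
      y ^ 2 = algebraMap (RatFunc k) K (algebraMap (Polynomial k) (RatFunc k) f) ∧
      IntermediateField.adjoin (RatFunc k) ({y} : Set K) = ⊤ by
    refine key _ (d.num * d.denom) (mul_ne_zero (RatFunc.num_ne_zero hd0) d.denom_ne_zero) rfl
      (y * algebraMap (RatFunc k) K (algebraMap (Polynomial k) (RatFunc k) d.denom)) ?_ ?_
    · rw [hd, map_mul, map_pow, mul_pow, hy]
    · rintro ⟨c, hc⟩
      exact hyr ⟨c / algebraMap (Polynomial k) (RatFunc k) d.denom, by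
        rw [map_div₀, hc, mul_div_cancel_right₀ _ (by simpa using hden)]⟩
  intro n
  induction n using Nat.strong_induction_on with
  | _ n ih =>
    intro g hg hn y hy hyr
    by_cases hsf : Squarefree g
    · exact ⟨y, g, hsf, hy, Groth.Funfld2.Quad.adjoin_eq_top hdeg hyr⟩
    · simp only [Squarefree, not_forall] at hsf
      obtain ⟨u, ⟨r, hr⟩, hu⟩ := hsf
      have hu0 : u ≠ 0 := by rintro rfl; simp at hr; exact hg hr
      have hr0 : r ≠ 0 := by rintro rfl; simp at hr; exact hg hr
      have hud : 0 < u.natDegree := by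
        by_contra h
        exact hu (Polynomial.isUnit_iff.2 ⟨u.coeff 0, isUnit_iff_ne_zero.2 (fun h0 => hu0 (by
          rw [Polynomial.eq_C_of_natDegree_le_zero (le_of_not_gt h), h0, map_zero])),
          (Polynomial.eq_C_of_natDegree_le_zero (le_of_not_gt h)).symm⟩)
      have hlt : r.natDegree < n := by
        rw [← hn, hr, Polynomial.natDegree_mul (mul_ne_zero hu0 hu0) hr0,
          Polynomial.natDegree_mul hu0 hu0]
        omega
      have huK : algebraMap (RatFunc k) K (algebraMap (Polynomial k) (RatFunc k) u) ≠ 0 := by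
        rw [map_ne_zero]; exact RatFunc.algebraMap_ne_zero hu0
      refine ih _ hlt r hr0 rfl
        (y / algebraMap (RatFunc k) K (algebraMap (Polynomial k) (RatFunc k) u)) ?_ ?_
      · rw [div_pow, hy, hr, map_mul, map_mul, map_mul, map_mul]
        field_simp
      · rintro ⟨c, hc⟩
        exact hyr ⟨c * algebraMap (Polynomial k) (RatFunc k) u, by
          rw [map_mul, hc, div_mul_cancel₀ _ huK]⟩
end Groth.Agent.S12515
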