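import Groth.Statements.S12516
import Groth.Agent.Funfld2.Quad.Rat

set_option autoImplicit false
open FunFld Groth.FunFld1

namespace Groth.Agent.S12516

/-- Let `char k ≠ 2`, `K` of degree `2` over `k(x)`, `y ∈ K` with `y² = f(x)` for a squarefree
polynomial `f` of degree `≥ 1`, and `P∞` the place of `k(x)` at which `x` has a pole. If `deg f` is
odd there is a unique place of `K` above `P∞`; it has ramification index `2` and degree `1`. If `deg
f` is even, every place of `K` above `P∞` is unramified and the conorm of `P∞` has degree `2` (so it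
is one place of degree `2` or the sum of two places of degree `1`). -/
theorem result (k K : Type*) [Field k] [Field K] (h2 : ringChar k ≠ 2) [Algebra k K]
    [Algebra (RatFunc k) K] [IsScalarTower k (RatFunc k) K]
    (hdeg : Module.finrank (RatFunc k) K = 2) (y : K) (f : Polynomial k) (hf : Squarefree f)
    (hd : 1 ≤ f.natDegree)
    (heq : y ^ 2 = algebraMap (RatFunc k) K (algebraMap (Polynomial k) (RatFunc k) f))
    (Pinf : FunFld.Place k (RatFunc k)) (hinf : Pinf.ord (RatFunc.X : RatFunc k) < 0) :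
    (Odd f.natDegree → (∃! P : FunFld.Place k K, FunFld.IsOver P Pinf) ∧
      ∀ P : FunFld.Place k K, FunFld.IsOver P Pinf → FunFld.IsOverWith P Pinf 2 ∧ P.deg = 1) ∧
    (Even f.natDegree → (FunFld.conorm K (Finsupp.single Pinf 1)).deg = 2 ∧
      ∀ P : FunFld.Place k K, FunFld.IsOver P Pinf → FunFld.IsOverWith P Pinf 1) := by
  have hF := Groth.Funfld2.Rat.isFF (k := k)
  have := Groth.Funfld2.Quad.finite hdeg
  have hyr := Groth.Funfld2.Quad.not_mem_range_of_squarefree hf hd heq
  obtain ⟨-, hord⟩ := Groth.Funfld2.Rat.ord_poly_inf hinf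
  have hordf := hord f hf.ne_zero
  have hy0 : y ≠ 0 := fun e => hyr ⟨0, by rw [e, map_zero]⟩
  refine ⟨fun hodd => ?_, fun hev => ⟨?_, fun P hP => ?_⟩⟩
  · rw [← Groth.Funfld2.Rat.deg_inf hinf]
    refine Groth.Funfld2.Quad.unique_above hF hdeg fun P hP =>
      Groth.Funfld2.Quad.two_of_odd hF hdeg hP (n := P.ord y)
        (g := algebraMap (Polynomial k) (RatFunc k) f) ?_ ?_
    · rw [← heq, sq, Groth.FunFld1.ord_mul P hy0 hy0]; ring
    · rw [hordf]
      exact ((Int.odd_coe_nat _).2 hodd).neg
  · rw [hF.deg_conorm, Groth.FunFld1.deg_single, hdeg, Groth.Funfld2.Rat.deg_inf hinf]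
    norm_num
  · refine Groth.Funfld2.Quad.kummer_unram hF hdeg (Groth.Funfld2.Quad.two_ne_zero_ratFunc h2)
      hyr heq ?_ hP
    rw [hordf]
    exact ((Int.even_coe_nat _).2 hev).neg
end Groth.Agent.S12516
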