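import Groth.Statements.S12517
import Groth.Agent.Funfld2.Quad.Field
import Groth.Agent.Funfld2.Rat.Places

set_option autoImplicit false
open FunFld Groth.FunFld1

namespace Groth.Agent.S12517

/-- If `k` is perfect of characteristic `2` and `K` is a separable extension of degree `2` of the
rational function field `k(x)`, then `K = k(x)(y)` for some `y` with `y² + y = f(x)`, `f ∈ k(x)`.
The correspondence between such extensions and cosets of `{a² + a}` in `k(x)` is not stated. -/
theorem result (k K : Type*) [Field k] [Field K] [PerfectField k]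
    (h2 : ringChar k = 2) [Algebra (RatFunc k) K] (hdeg : Module.finrank (RatFunc k) K = 2)
    [Algebra.IsSeparable (RatFunc k) K] :
    ∃ (y : K) (f : RatFunc k), y ^ 2 + y = algebraMap (RatFunc k) K f ∧
      IntermediateField.adjoin (RatFunc k) ({y} : Set K) = ⊤ := by
  have h2k : (2 : k) = 0 := by
    have := ringChar.charP k
    rw [h2] at this
    exact CharTwo.two_eq_zero
  have h2F : (2 : RatFunc k) = 0 := by
    rw [← map_ofNat (algebraMap k (RatFunc k)) 2, h2k, map_zero]
  obtain ⟨y, d, hy, hyr⟩ := Groth.Funfld2.Quad.exists_artinSchreier_gen hdeg h2F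
  exact ⟨y, d, hy, Groth.Funfld2.Quad.adjoin_eq_top hdeg hyr⟩
end Groth.Agent.S12517
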