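import Groth.Statements.S12518
import Groth.Agent.Funfld2.Quad.Reduce

set_option autoImplicit false
open FunFld Groth.FunFld1

namespace Groth.Agent.S12518

/-- If `k` is perfect of characteristic `2` and `K` is a separable extension of degree `2` of `k(x)`,
then `K = k(x)(y)` for some `y` with `y² + y = f(x)` such that every pole of `f`, at any place of
`k(x)/k` including the infinite one, has odd order. -/
theorem result (k K : Type*) [Field k] [Field K] [PerfectField k] (h2 : ringChar k = 2)
    [Algebra k K] [Algebra (RatFunc k) K] [IsScalarTower k (RatFunc k) K]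
    (hdeg : Module.finrank (RatFunc k) K = 2) [Algebra.IsSeparable (RatFunc k) K] :
    ∃ (y : K) (f : RatFunc k), y ^ 2 + y = algebraMap (RatFunc k) K f ∧
      IntermediateField.adjoin (RatFunc k) ({y} : Set K) = ⊤ ∧
      ∀ P : FunFld.Place k (RatFunc k), P.ord f < 0 → Odd (P.ord f) := by
  classical
  have hF := Groth.Funfld2.Rat.isFF (k := k)
  have h2F := Groth.Funfld2.Quad.two_eq_zero_ratFunc (k := k) h2
  have h2k : (2 : k) = 0 := by
    have := ringChar.charP k
    rw [h2] at this
    exact CharTwo.two_eq_zero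
  have h2K : (2 : K) = 0 := by rw [← map_ofNat (algebraMap (RatFunc k) K) 2, h2F, map_zero]
  suffices key : ∀ (n : ℕ) (y : K) (f : RatFunc k),
      (Groth.FunFld1.zeroDiv k f⁻¹).deg = (n : ℤ) → y ^ 2 + y = algebraMap (RatFunc k) K f →
      y ∉ Set.range (algebraMap (RatFunc k) K) →
      ∃ (y : K) (f : RatFunc k), y ^ 2 + y = algebraMap (RatFunc k) K f ∧
      IntermediateField.adjoin (RatFunc k) ({y} : Set K) = ⊤ ∧
      ∀ P : FunFld.Place k (RatFunc k), P.ord f < 0 → Odd (P.ord f) by
    obtain ⟨y, f, hy, hyr⟩ := Groth.Funfld2.Quad.exists_artinSchreier_gen hdeg h2F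
    obtain ⟨n, hn⟩ := Int.eq_ofNat_of_zero_le
      (Groth.FunFld1.deg_nonneg (Groth.FunFld1.IsFF.zeroDiv_nonneg (k := k) f⁻¹))
    exact key n y f hn hy hyr
  intro n
  induction n using Nat.strong_induction_on with
  | _ n ih =>
    intro y f hn hy hyr
    by_cases hgood : ∀ P : FunFld.Place k (RatFunc k), P.ord f < 0 → Odd (P.ord f)
    · exact ⟨y, f, hy, Groth.Funfld2.Quad.adjoin_eq_top hdeg hyr, hgood⟩
    push Not at hgood
    obtain ⟨P, hneg, hev⟩ := hgood
    obtain ⟨m, hm⟩ := Int.not_odd_iff_even.1 hev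
    obtain ⟨a, haP, haQ⟩ := Groth.Funfld2.Quad.exists_reduce_step
      Groth.Funfld2.Rat.isFunctionField Groth.Funfld2.Rat.genus_eq_zero h2k
      (f := f) (P := P) (m := (-m).toNat) (by omega) (by omega)
    set f' := f + (a ^ 2 + a) with hf'
    have hy' : (y + algebraMap (RatFunc k) K a) ^ 2 + (y + algebraMap (RatFunc k) K a) =
        algebraMap (RatFunc k) K f' := by
      rw [hf', map_add, map_add, map_pow, ← hy]
      linear_combination (y * algebraMap (RatFunc k) K a) * h2K
    have hyr' : y + algebraMap (RatFunc k) K a ∉ Set.range (algebraMap (RatFunc k) K) := by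
      rintro ⟨c, hc⟩
      exact hyr ⟨c - a, by rw [map_sub, hc, add_sub_cancel_right]⟩
    have hle : Groth.FunFld1.zeroDiv k f'⁻¹ + Finsupp.single P 1 ≤ Groth.FunFld1.zeroDiv k f⁻¹ := by
      intro Q
      rw [Finsupp.add_apply, hF.zeroDiv_apply, hF.zeroDiv_apply, Groth.FunFld1.ord_inv,
        Groth.FunFld1.ord_inv]
      by_cases hQ : Q = P
      · subst hQ
        rw [Finsupp.single_eq_same]
        rcases eq_or_ne f' 0 with h0 | h0
        · rw [h0, Groth.FunFld1.ord_zero]; omega
        have hf0 : f ≠ 0 := fun e => by rw [e, Groth.FunFld1.ord_zero] at hneg; omega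
        rw [ Groth.FunFld1.val_eq_exp_neg_ord Q h0, Groth.FunFld1.val_eq_exp_neg_ord Q hf0,
          WithZero.exp_lt_exp] at haP
        omega
      · rw [Finsupp.single_eq_of_ne hQ, add_zero]
        refine max_le ?_ (le_max_right _ _)
        rcases lt_or_ge (Q.ord f') 0 with h0 | h0
        swap
        · exact le_trans (by omega) (le_max_right _ _)
        refine le_trans ?_ (le_max_left _ _)
        have h1 : 1 < Q.1 f' := (Groth.FunFld1.one_lt_val_iff Q f').2 h0
        have h2 : Q.1 (a ^ 2 + a) ≤ 1 := Valuation.map_add_le _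
          (by rw [map_pow]; exact pow_le_one₀ zero_le (haQ Q hQ)) (haQ Q hQ)
        have h3 : Q.1 f' ≤ Q.1 f := by
          refine (Valuation.map_add _ _ _).trans (max_le le_rfl ?_)
          by_contra hlt
          rw [not_le] at hlt
          exact not_le.2 h1 (Valuation.map_add_le _ (hlt.le.trans h2) h2)
        have hf0 : f ≠ 0 := fun e => by
          rw [e, map_zero] at h3; exact not_le.2 (zero_lt_one.trans h1) h3
        have hf0' : f' ≠ 0 := fun e => by rw [e, map_zero] at h1; exact not_lt_zero h1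
        rw [Groth.FunFld1.val_eq_exp_neg_ord Q hf0', Groth.FunFld1.val_eq_exp_neg_ord Q hf0,
          WithZero.exp_le_exp] at h3
        exact h3
    have hd := Groth.FunFld1.deg_mono hle
    rw [Groth.FunFld1.deg_add, Groth.FunFld1.deg_single, one_mul, hn] at hd
    obtain ⟨n', hn'⟩ := Int.eq_ofNat_of_zero_le
      (Groth.FunFld1.deg_nonneg (Groth.FunFld1.IsFF.zeroDiv_nonneg (k := k) f'⁻¹))
    have := hF.deg_pos P
    exact ih n' (by omega) _ f' hn' hy' hyr'
end Groth.Agent.S12518
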