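import Groth.Statements.S12519
import Groth.Agent.Funfld2.Quad.Rat

set_option autoImplicit false
open FunFld Groth.FunFld1

namespace Groth.Agent.S12519

/-- Let `k` be perfect of characteristic `2`, `K` separable of degree `2` over `k(x)`, and `y ∈ K \
k(x)` with `y² + y = f(x)`. At a place `p` of `k(x)/k` where `f` has a pole of odd order there is a
unique place `P` of `K` above `p`, with `e(P|p) = 2` and `deg P = deg p` (residue degree `1`); at a
place where `f` has no pole, every place of `K` above it is unramified. The different is not stated. -/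
theorem result (k K : Type*) [Field k] [Field K] [PerfectField k] (h2 : ringChar k = 2)
    [Algebra k K] [Algebra (RatFunc k) K] [IsScalarTower k (RatFunc k) K]
    (hdeg : Module.finrank (RatFunc k) K = 2) [Algebra.IsSeparable (RatFunc k) K]
    (y : K) (hy : y ∉ Set.range (algebraMap (RatFunc k) K))
    (f : RatFunc k) (heq : y ^ 2 + y = algebraMap (RatFunc k) K f)
    (P₀ : FunFld.Place k (RatFunc k)) :
    ((P₀.ord f < 0 ∧ Odd (P₀.ord f)) → (∃! P : FunFld.Place k K, FunFld.IsOver P P₀) ∧
      ∀ P : FunFld.Place k K, FunFld.IsOver P P₀ → FunFld.IsOverWith P P₀ 2 ∧ P.deg = P₀.deg) ∧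
    (0 ≤ P₀.ord f → ∀ P : FunFld.Place k K, FunFld.IsOver P P₀ → FunFld.IsOverWith P P₀ 1) := by
  have hF := Groth.Funfld2.Rat.isFF (k := k)
  have := Groth.Funfld2.Quad.finite hdeg
  refine ⟨fun ⟨hneg, hodd⟩ => ?_, fun hnn P hP =>
    Groth.Funfld2.Quad.artinSchreier_unram hF hdeg (Groth.Funfld2.Quad.two_eq_zero_ratFunc h2)
      hy heq hnn hP⟩
  refine Groth.Funfld2.Quad.unique_above hF hdeg fun P hP =>
    Groth.Funfld2.Quad.two_of_odd hF hdeg hP (n := P.ord y) (g := f) ?_ hodd
  have hgt : 1 < P.1 (algebraMap (RatFunc k) K f) :=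
    not_le.1 fun h => not_le.2 ((Groth.FunFld1.one_lt_val_iff P₀ f).2 hneg)
      ((Groth.FunFld1.over_le_one_iff hP f).1 h)
  have hyv : 1 < P.1 y := by
    by_contra hle
    rw [not_lt] at hle
    rw [← heq] at hgt
    refine absurd hgt (not_lt.2 ?_)
    exact Valuation.map_add_le _ (by rw [map_pow]; exact pow_le_one₀ zero_le hle) hle
  have hy0 : y ≠ 0 := fun e => hy ⟨0, by rw [e, map_zero]⟩
  have hv : P.1 (y ^ 2 + y) = P.1 y ^ 2 := by
    rw [Valuation.map_add_eq_of_lt_left, map_pow]
    rw [map_pow]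
    exact lt_self_pow₀ hyv one_lt_two
  rw [← heq, Groth.FunFld1.ord_eq_of_val_eq P (n := -(2 * P.ord y)) (by
    rw [hv, Groth.FunFld1.val_eq_exp_neg_ord P hy0, ← WithZero.exp_nsmul, nsmul_eq_mul]
    congr 1; ring)]
  ring
end Groth.Agent.S12519
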