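import Groth.Statements.S12520
import Groth.Agent.S11002
import Groth.Agent.Funfld2.Residue.Geometric

set_option autoImplicit false
universe u v
open FunFld

namespace Groth.Agent.S12520

/-- For a geometric function field of one variable `K/k` of characteristic `p > 0` and a geometric
function field `K₀/k₀` with `K₀ ⊆ K` of finite index (and `k₀ ⊆ k` compatibly), the map `Ω_{K₀/k₀} →
Ω_{K/k}` induced by the inclusion vanishes when `K₀ ⊆ kK^p` and is injective otherwise. -/
theorem result (k₀ k : Type u) (K₀ K : Type v) [Field k₀] [Field k] [Field K₀] [Field K]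
    [Algebra k₀ k] [Algebra k₀ K₀] [Algebra k₀ K] [Algebra k K] [Algebra K₀ K]
    [IsScalarTower k₀ k K] [IsScalarTower k₀ K₀ K] [FiniteDimensional K₀ K]
    (p : ℕ) [Fact p.Prime] [CharP K p]
    (hK : FunFld.IsFunctionField k K) (hg : FunFld.IsGeometric k K)
    (hK₀ : FunFld.IsFunctionField k₀ K₀) (hg₀ : FunFld.IsGeometric k₀ K₀) :
    (Set.range (algebraMap K₀ K) ⊆ ↑(IntermediateField.adjoin k (Set.range fun y : K => y ^ p)) →
      KaehlerDifferential.map k₀ k K₀ K = 0) ∧
    (¬ Set.range (algebraMap K₀ K) ⊆ ↑(IntermediateField.adjoin k (Set.range fun y : K => y ^ p)) →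
      Function.Injective (KaehlerDifferential.map k₀ k K₀ K)) := by
  haveI : CharP K p := inferInstance
  constructor
  · intro hsub
    refine LinearMap.ext fun w => ?_
    rw [LinearMap.zero_apply]
    have hw : w ∈ Submodule.span K₀ (Set.range (KaehlerDifferential.D k₀ K₀)) :=
      KaehlerDifferential.span_range_derivation k₀ K₀ ▸ Submodule.mem_top
    induction hw using Submodule.span_induction with
    | mem w hw =>
      obtain ⟨a, rfl⟩ := hw
      rw [KaehlerDifferential.map_D]
      exact ((Groth.Agent.S11002.result k K p hK hg _).1).1 (hsub ⟨a, rfl⟩)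
    | zero => exact map_zero _
    | add a b _ _ ha hb => rw [map_add, ha, hb, add_zero]
    | smul c a _ ha => rw [map_smul, ha, smul_zero]
  · intro hnot
    obtain ⟨_, ⟨x₀, rfl⟩, hx₀⟩ := Set.not_subset.1 hnot
    have hD : KaehlerDifferential.D k K (algebraMap K₀ K x₀) ≠ 0 :=
      fun h => hx₀ (((Groth.Agent.S11002.result k K p hK hg _).1).2 h)
    have hne : KaehlerDifferential.map k₀ k K₀ K (KaehlerDifferential.D k₀ K₀ x₀) ≠ 0 := by
      rwa [KaehlerDifferential.map_D]
    obtain ⟨x₁, hx₁⟩ := Groth.Funfld2.Residue.exists_smul_D_eq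
      (Groth.FunFld1.IsFF.of_isFunctionField hK₀) hg₀
    obtain ⟨c₀, hc₀⟩ := hx₁ (KaehlerDifferential.D k₀ K₀ x₀)
    rw [injective_iff_map_eq_zero]
    intro w hw
    obtain ⟨c, rfl⟩ := hx₁ w
    rw [← hc₀, map_smul, algebra_compatible_smul K c₀] at hne
    rw [map_smul, algebra_compatible_smul K c, smul_eq_zero] at hw
    rcases hw with h | h
    · rw [(map_eq_zero _).1 h, zero_smul]
    · rw [h, smul_zero] at hne
      exact absurd rfl hne
end Groth.Agent.S12520
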