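import Groth.Statements.S12527
import Groth.Agent.Funfld2.Small.Good

set_option autoImplicit false
universe u v
open scoped TensorProduct
open FunFld Groth.FunFld1

namespace Groth.Agent.S12527

/-- A geometric function field of one variable `K/k` has at most finitely many singular places, i.e.
places `P` for which, for some finite extension `k'/k`, the integral closure of `O_P` in `k' ⊗_k K`
is strictly larger than `k' ⊗_k O_P`. The existence of a purely inseparable finite `k'` making `k'
⊗_k K` nonsingular is not stated. -/
theorem result (k : Type u) (K : Type v) [Field k] [Field K] [Algebra k K]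
    (hK : FunFld.IsFunctionField k K) (hg : FunFld.IsGeometric k K) :
    {P : FunFld.Place k K | ∃ (k' : Type u) (_ : Field k') (_ : Algebra k k'), FiniteDimensional k k' ∧
      integralClosure (P.O.toSubring.map (Algebra.TensorProduct.includeRight : K →ₐ[k] k' ⊗[k] K).toRingHom) (k' ⊗[k] K) ≠
        Algebra.adjoin (P.O.toSubring.map (Algebra.TensorProduct.includeRight : K →ₐ[k] k' ⊗[k] K).toRingHom)
          (Set.range (Algebra.TensorProduct.includeLeftRingHom : k' →+* k' ⊗[k] K))}.Finite := by
  classical
  obtain ⟨x, y, f, hx, hgen, hf, hfy, hd, hfin⟩ := Groth.Funfld2.Small.Good.exists_model hK hg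
  refine hfin.subset ?_
  rintro P ⟨k', iF, iA, hfd, hne⟩
  rintro ⟨hPx, hPd⟩
  letI : Field (k' ⊗[k] K) := (hg k' hfd).toField
  letI : Algebra K (k' ⊗[k] K) :=
    (Algebra.TensorProduct.includeRight : K →ₐ[k] k' ⊗[k] K).toRingHom.toAlgebra
  haveI : IsScalarTower k K (k' ⊗[k] K) :=
    IsScalarTower.of_algebraMap_eq fun c => ((Algebra.TensorProduct.includeRight :
      K →ₐ[k] k' ⊗[k] K).commutes c).symm
  have hbij : Function.Bijective (Algebra.TensorProduct.productMap
      (IsScalarTower.toAlgHom k k' (k' ⊗[k] K)) (IsScalarTower.toAlgHom k K (k' ⊗[k] K))) := by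
    have e : ∀ t, Algebra.TensorProduct.productMap
        (IsScalarTower.toAlgHom k k' (k' ⊗[k] K)) (IsScalarTower.toAlgHom k K (k' ⊗[k] K)) t = t := by
      intro t
      induction t using TensorProduct.induction_on with
      | zero => simp
      | tmul c a =>
        rw [Algebra.TensorProduct.productMap_apply_tmul]
        change (c ⊗ₜ[k] (1 : K)) * ((1 : k') ⊗ₜ[k] a) = _
        simp
      | add a b ha hb => rw [map_add, ha, hb]
    exact ⟨fun a b h => by rwa [e, e] at h, fun t => ⟨t, e t⟩⟩
  exact hne (Groth.Funfld2.Small.Good.nonsingular_of_unit hbij hK hx hgen hf hfy P hPx hPd)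

end Groth.Agent.S12527
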