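import Groth.Statements.S12532
import Groth.Agent.Funfld2.Fibre.Basic

set_option autoImplicit false
open FunFld Groth.FunFld1

namespace Groth.Agent.S12532

/-- Over an algebraically closed field `k`, let `φ = (φ₀, …, φₙ)`, `n ≥ 1`, be a birational projective
map of the function field `K/k` and `P` a place with image point `a = φ(P)`. Then for some `N`,
every `z ∈ K` with `ord_Q z ≥ N` at all places `Q` over `a` belongs to the local ring `O_a` of `φ`
at `P` (quotients of polynomials in the ratios `φᵢ/φⱼ` with denominator a unit at `P`). (The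
published statement asserts that each nonzero ideal of `O_a` includes some nonzero ideal of the
integral closure `R_a`, with `R_a/I` finite-dimensional; this row states the inclusion the printed
proof establishes, from which those follow.) -/
theorem result (k K : Type*) [Field k] [IsAlgClosed k] [Field K] [Algebra k K]
    (hK : FunFld.IsFunctionField k K) {n : ℕ} (hn : 1 ≤ n)
    (φ : Fin (n + 1) → K) (hφ : LinearIndependent k φ)
    (hbir : IntermediateField.adjoin k (Set.range fun i => φ i / φ 0) = ⊤) (P : FunFld.Place k K) :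
    ∃ N : ℕ, ∀ z : K, (∀ Q : FunFld.Place k K, FunFld.SameImage φ P Q → Q.1 z ≤ WithZero.exp (-(N : ℤ))) →
      FunFld.InLocRing φ P z := by
  classical
  have hF := IsFF.of_isFunctionField hK
  obtain ⟨j, hj⟩ := exists_isMin (φ := φ) ⟨0, hφ.ne_zero 0⟩ P
  set y := ratios φ j with hy
  obtain ⟨a, haA, ha0, ha⟩ := exists_conductor hK (y := y)
    (Groth.Funfld2.Fibre.adjoin_ratios_eq_top (hφ.ne_zero 0) hj.1 hbir)
  set S := (FunFld.div k a).support with hS
  refine ⟨S.sup fun Q => (Q.ord a).toNat, fun z hz => ?_⟩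
  rcases eq_or_ne z 0 with rfl | hz0
  · exact inLocRing_of_mem_adjoin hj (zero_mem _)
  set T := ((FunFld.div k a).support ∪ (FunFld.div k z).support).filter
    (fun Q => IsAffine y Q ∧ ¬ FunFld.SameImage φ P Q) with hT
  have hb : ∀ Q ∈ T, ∃ b ∈ Algebra.adjoin k (Set.range y), P.1 (b - 1) < 1 ∧ Q.1 b < 1 := fun Q hQ =>
    Groth.Funfld2.Fibre.exists_separating hK hj (Finset.mem_filter.1 hQ).2.1 (Finset.mem_filter.1 hQ).2.2
  choose! b hbA hbP hbQ using hb
  set M : FunFld.Place k K → ℕ := fun Q => (Q.ord a - Q.ord z).toNat with hM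
  set s := ∏ Q ∈ T, b Q ^ M Q with hs
  have hsA : s ∈ Algebra.adjoin k (Set.range y) := prod_mem fun Q hQ => pow_mem (hbA Q hQ) _
  have hsP : P.1 s = 1 := by
    rw [hs, map_prod]
    refine Finset.prod_eq_one fun Q hQ => ?_
    rw [map_pow, show b Q = 1 + (b Q - 1) by ring, val_one_add_of_lt_one P (hbP Q hQ), one_pow]
  refine inLocRing_of_frac hj (u := a * (z * s / a)) ?_ hsA hsP (by rw [mul_div_cancel₀ _ ha0])
  refine ha _ fun Q hQ => ?_
  have hs1 : Q.1 s ≤ 1 := hQ.le_one hsA
  rw [map_div₀, map_mul, div_le_one₀ (zero_lt_iff.2 ((Valuation.ne_zero_iff _).2 ha0))]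
  by_cases hsame : FunFld.SameImage φ P Q
  · refine (mul_le_of_le_one_right' hs1).trans ((hz Q hsame).trans ?_)
    rw [val_eq_exp_neg_ord Q ha0, WithZero.exp_le_exp]
    by_cases hQS : Q ∈ S
    · have := Finset.le_sup (f := fun Q : FunFld.Place k K => (Q.ord a).toNat) hQS
      omega
    · rw [hS, Finsupp.notMem_support_iff, hF.div_apply] at hQS
      omega
  · by_cases hQT : Q ∈ T
    · have h1 : Q.1 s ≤ Q.1 (b Q) ^ M Q := by
        rw [hs, map_prod, ← Finset.mul_prod_erase _ _ hQT, map_pow]
        refine mul_le_of_le_one_right' (Finset.prod_le_one' fun R hR => ?_)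
        rw [map_pow]
        exact pow_le_one₀ zero_le (hQ.le_one (hbA R (Finset.mem_of_mem_erase hR)))
      refine (mul_le_mul' le_rfl (h1.trans (pow_le_exp_neg (hbQ Q hQT) _))).trans ?_
      rw [val_eq_exp_neg_ord Q ha0, val_eq_exp_neg_ord Q hz0, ← WithZero.exp_add, WithZero.exp_le_exp]
      simp only [hM]
      omega
    · have h0 : Q.ord a = 0 ∧ Q.ord z = 0 := by
        constructor <;> by_contra hne <;> refine hQT (Finset.mem_filter.2 ⟨?_, hQ, hsame⟩)
        · exact Finset.mem_union_left _ (by rw [Finsupp.mem_support_iff, hF.div_apply]; exact hne)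
        · exact Finset.mem_union_right _ (by rw [Finsupp.mem_support_iff, hF.div_apply]; exact hne)
      refine (mul_le_of_le_one_right' hs1).trans ?_
      rw [val_eq_exp_neg_ord Q ha0, val_eq_exp_neg_ord Q hz0, h0.1, h0.2]

end Groth.Agent.S12532
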