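import Groth.Statements.S12535
import Groth.Agent.Funfld2.Quad.Rat

set_option autoImplicit false
open FunFld Groth.FunFld1

namespace Groth.Agent.S12535

/-- Let `char k ≠ 2`, `K` of degree `2` over `k(x)`, and `y ∈ K` with `y² = f(x)`, `f` a squarefree
polynomial of degree `≥ 1`. Then a place `P` of `K` is a zero of `y` exactly when it lies over a
finite place of `k(x)` where `f` has a zero, and in that case `ord_P(y) = 1`: the divisor of zeros
of `y` is `Σ P_i`, one place over each irreducible factor of `f`, with multiplicity one. -/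
theorem result (k K : Type*) [Field k] [Field K] (h2 : ringChar k ≠ 2) [Algebra k K]
    [Algebra (RatFunc k) K] [IsScalarTower k (RatFunc k) K]
    (hdeg : Module.finrank (RatFunc k) K = 2) (y : K) (f : Polynomial k) (hf : Squarefree f)
    (hd : 1 ≤ f.natDegree)
    (heq : y ^ 2 = algebraMap (RatFunc k) K (algebraMap (Polynomial k) (RatFunc k) f)) (P : FunFld.Place k K) :
    (0 < P.ord y → P.ord y = 1) ∧
    (0 < P.ord y ↔ ∃ P₀ : FunFld.Place k (RatFunc k), FunFld.IsOver P P₀ ∧ 0 ≤ P₀.ord (RatFunc.X : RatFunc k) ∧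
      0 < P₀.ord (algebraMap (Polynomial k) (RatFunc k) f)) := by
  have hF := Groth.Funfld2.Rat.isFF (k := k)
  have := Groth.Funfld2.Quad.finite hdeg
  have hyr := Groth.Funfld2.Quad.not_mem_range_of_squarefree hf hd heq
  have hy0 : y ≠ 0 := fun e => hyr ⟨0, by rw [e, map_zero]⟩
  obtain ⟨P₀, hP₀⟩ := hF.exists_isOver P
  have he := Groth.FunFld1.isOverWith_ramIdx hP₀
  have hepos : (0 : ℤ) < FunFld.ramIdx P P₀ := by exact_mod_cast Groth.FunFld1.overWith_pos he
  have hord : 2 * P.ord y =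
      FunFld.ramIdx P P₀ * P₀.ord (algebraMap (Polynomial k) (RatFunc k) f) := by
    rw [← Groth.FunFld1.overWith_ord he, ← heq, sq, Groth.FunFld1.ord_mul P hy0 hy0]; ring
  have fin : 0 < P.ord y → 0 ≤ P₀.ord (RatFunc.X : RatFunc k) ∧
      0 < P₀.ord (algebraMap (Polynomial k) (RatFunc k) f) := by
    intro h
    have hpos : 0 < P₀.ord (algebraMap (Polynomial k) (RatFunc k) f) :=
      (mul_pos_iff_of_pos_left hepos).1 (by omega)
    refine ⟨not_lt.1 fun hinf => ?_, hpos⟩
    rw [(Groth.Funfld2.Rat.ord_poly_inf hinf).2 f hf.ne_zero] at hpos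
    omega
  refine ⟨fun h => ?_, fun h => ⟨P₀, hP₀, fin h⟩, ?_⟩
  · obtain ⟨hX, hpos⟩ := fin h
    have h1 : P₀.ord (algebraMap (Polynomial k) (RatFunc k) f) = 1 :=
      le_antisymm (Groth.Funfld2.Rat.ord_squarefree_le_one hX hf) hpos
    have hle : (FunFld.ramIdx P P₀ : ℤ) ≤ 2 := by
      rcases Groth.Funfld2.Quad.ram_cases hF hdeg hP₀ with e | e <;>
        rw [Groth.FunFld1.ramIdx_eq e] <;> norm_num
    rw [h1] at hord
    omega
  · rintro ⟨P₁, hP₁, -, hpos⟩
    rw [Groth.FunFld1.over_unique hP₁ hP₀] at hpos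
    have := mul_pos hepos hpos
    omega
end Groth.Agent.S12535
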