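import Groth.Statements.S12536
import Groth.Agent.Duality.ShriekBridge.Main
import Groth.Agent.Duality.TorsionFree
import Groth.Agent.DualMod.Finite
import Groth.Agent.DualMod.RepRel
import Groth.Agent.RefRank.HomSec
-- import your own Groth.Agent.* helpers here

set_option autoImplicit false
universe u
open CategoryTheory CategoryTheory.Limits AlgebraicGeometry Opposite
attribute [local instance] HasDerivedCategory.standard
open Dual3

namespace Groth.Agent.S12536

/-- Let `X` be proper and reduced over a field `k`, of pure dimension `1`, with dualizing module `ω =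
H^{-1}(a(O))` (`a` right adjoint to `Rf_*` on `D_QCoh`, `O` the structure sheaf of `Spec k` in
degree `0`), and let `U ⊆ X` be an open subscheme containing every non-closed point. Then `ω →
j_*(ω|_U)` is injective: for every open `V`, restriction of sections `ω(V) → ω(V ∩ U)` is injective.
(The published statement takes `U` to be the dense open smooth locus of a generically smooth `X`;
this row allows any open `U` containing the generic points, which is what the printed proof uses:
the kernel is supported at finitely many closed points.) -/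
theorem result (k : Type u) [Field k] (X : Scheme.{u}) (f : X ⟶ Spec (CommRingCat.of k))
    [IsProper f] [IsReduced X]
    (hdim : ∀ Z ∈ irreducibleComponents X, topologicalKrullDim ↥Z = (1 : WithBot ℕ∞))
    [DCoh.HasRpush f] (hf : DCoh.RpushPreservesQCoh f)
    (a : DCoh.DQCoh (Spec (CommRingCat.of k)) ⥤ DCoh.DQCoh X) (adj : DCoh.RpushQ f hf ⊣ a)
    (O : DCoh.DQCoh (Spec (CommRingCat.of k)))
    (hO : Nonempty (O.obj ≅ DCoh.inD (Spec (CommRingCat.of k)) (Coh.structureModule (Spec (CommRingCat.of k)))))
    (U : X.Opens) (hU : ∀ x : X, ¬ IsClosed ({x} : Set X) → x ∈ U) (V : X.Opens) :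
    Function.Injective ((DCoh.HD (a.obj O).obj (-(1 : ℤ))).presheaf.map (homOfLE (inf_le_left : V ⊓ U ≤ V)).op) := by
  letI : X.Over (Spec (CommRingCat.of k)) := ⟨f⟩
  haveI : IsProper (X ↘ Spec (CommRingCat.of k)) := inferInstanceAs (IsProper f)
  haveI : DCoh.HasRpush (X ↘ Spec (CommRingCat.of k)) := inferInstanceAs (DCoh.HasRpush f)
  haveI := Groth.DerivedCoh.KFlat.hasLpull (X ↘ Spec (CommRingCat.of k))
  haveI : HasExt.{u} X.Modules := hasExt_of_enoughInjectives _
  haveI : IsLocallyNoetherian X := LocallyOfFiniteType.isLocallyNoetherian f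
  haveI : CompactSpace X := QuasiCompact.compactSpace_of_compactSpace f
  haveI : AlgebraicGeometry.IsNoetherian X := {}
  haveI : X.IsSeparated := ⟨by rw [← terminal.comp_from f]; infer_instance⟩
  obtain ⟨e⟩ := hO
  have hd : topologicalKrullDim ↥X ≤ ((1 : ℕ) : WithBot ℕ∞) :=
    Groth.DualMod.topologicalKrullDim_le_of_components fun Z hZ => (hdim Z hZ).le
  have hfib : ∀ P, topologicalKrullDim ↥((X ↘ Spec (CommRingCat.of k)).fiber P) ≤
      ((1 : ℕ) : WithBot ℕ∞) := fun P => by
    refine le_trans ?_ hd
    exact ((X ↘ Spec (CommRingCat.of k)).fiberι P).isEmbedding.isInducing.topologicalKrullDim_le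
  have hex := Groth.Duality.ShriekBridge.exists_isRDualOver hfib hf a adj O e
  rw [Nat.cast_one] at hex
  obtain ⟨tr, htr⟩ := hex
  have hpair : Groth.DualMod.IsDualPair k (DCoh.HD (a.obj O).obj (-(1 : ℤ))) tr :=
    ⟨htr.1, fun F hF ψ => by
      obtain ⟨φ, hφ, hu⟩ := (htr.2 F hF).existsUnique ψ
      exact ⟨φ, fun x => (LinearMap.congr_fun hφ x).symm,
        fun φ' h' => hu φ' (LinearMap.ext fun x => (h' x).symm)⟩⟩
  have hcoh := Groth.DualMod.isCoh_dualPair hd hpair
  have hdual : Groth.Duality.DualPair.IsDualizing tr := fun F hF ψ => hpair.existsUnique F hF.1 ψ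
  intro s t hst
  refine sub_eq_zero.1 (Groth.RefRank.mod_section_ext _ fun x hx => ?_)
  rw [map_zero]
  refine Groth.Duality.TorsionFree.germ_eq_zero_of_generic _ tr hdual hcoh hdim (s - t) ?_ x hx
  intro η hη hηV
  have hηU : η ∈ U := hU η fun hc => by
    have h1 := hdim _ hη
    rw [hc.closure_eq] at h1
    have h0 := topologicalKrullDim_zero_of_discreteTopology (↥({η} : Set ↥X))
    rw [h1] at h0
    exact absurd h0 (by norm_num)
  rw [← Groth.QCohMod.germ_res _ (inf_le_left : V ⊓ U ≤ V) η ⟨hηV, hηU⟩ (s - t), map_sub,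
    map_sub, sub_eq_zero]
  exact congrArg _ hst

end Groth.Agent.S12536
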