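import Groth.Statements.S12540
import Groth.Agent.AlgGrp1.KPoints
import Groth.Agent.AlgGrp1.Act
import Groth.Agent.Agf.ClosedSubgroup
import Groth.Agent.EtaleBase.FpqcDescent
import Groth.Agent.FlatMor2.Chevalley.Noetherian

set_option autoImplicit false
universe u
open CategoryTheory MonoidalCategory CartesianMonoidalCategory MonObj GrpObj AlgebraicGeometry
open AlgGrp

namespace Groth.Agent.S12540

/-- Over an algebraically closed field k, let G be an algebraic group (a smooth k-group scheme of finite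
type), h : H → G a closed subgroup scheme, and h' : H' → H a closed subgroup scheme of H which is
reduced with the same underlying space as H (the reduced subgroup scheme H_red; it is a subgroup of
G through h' ≫ h). Let X, with its G-action and base point, be the quotient G/H, and X' the quotient
G/H' (each locally of finite type over k, with flat surjective orbit map identifying G × H with G
×_X G, respectively G × H' with G ×_{X'} G). Then X is affine if and only if X' is affine. (The
published statement adds the same equivalence with the identity component of H_red; that clause is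
not stated here.) -/
theorem result (k : Type u) [Field k] [IsAlgClosed k]
    (G : Over (Spec (CommRingCat.of k))) [GrpObj G] [Smooth G.hom] [QuasiCompact G.hom]
    (H : Over (Spec (CommRingCat.of k))) [GrpObj H] (h : H ⟶ G) [IsMonHom h] [IsClosedImmersion h.left]
    (H' : Over (Spec (CommRingCat.of k))) [GrpObj H'] (h' : H' ⟶ H) [IsMonHom h'] [IsClosedImmersion h'.left]
    [Surjective h'.left] [IsReduced H'.left]
    (X : Over (Spec (CommRingCat.of k))) (a : AlgGrp.Action G X) (o : 𝟙_ (Over (Spec (CommRingCat.of k))) ⟶ X)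
    (hX : AGF.IsQuotient h X a o)
    (X' : Over (Spec (CommRingCat.of k))) (a' : AlgGrp.Action G X') (o' : 𝟙_ (Over (Spec (CommRingCat.of k))) ⟶ X')
    (hX' : AGF.IsQuotient (h' ≫ h) X' a' o') :
    IsAffine X.left ↔ IsAffine X'.left := by
  obtain ⟨hl, hf, hs, hp⟩ := hX
  obtain ⟨hl', hf', hs', hp'⟩ := hX'
  let q := a.orbitMap o
  let q' := a'.orbitMap o'
  have hc : Groth.AlgGrp1.IsCover q' := Groth.AlgGrp1.isCover q'
  have hm : ∀ {T : Over (Spec (CommRingCat.of k))} {X₀ : Over (Spec (CommRingCat.of k))} (b : AlgGrp.Action G X₀)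
      (x₀ : 𝟙_ _ ⟶ X₀) (g y : T ⟶ G), lift g (y ≫ b.orbitMap x₀) ≫ b.act = (g * y) ≫ b.orbitMap x₀ := fun b x₀ g y => by
    rw [Groth.AlgGrp1.comp_orbit, Groth.AlgGrp1.comp_orbit, b.lift_mul_act]
  have h1q : ∀ {T : Over (Spec (CommRingCat.of k))} {X₀ : Over (Spec (CommRingCat.of k))} (b : AlgGrp.Action G X₀)
      (x₀ : 𝟙_ _ ⟶ X₀), (1 : T ⟶ G) ≫ b.orbitMap x₀ = toUnit T ≫ x₀ := fun b x₀ => by
    rw [Groth.AlgGrp1.comp_orbit, b.lift_one_act]
  -- kernel pairs
  have hk : ∀ {T : Over (Spec (CommRingCat.of k))} {K₀ X₀ : Over (Spec (CommRingCat.of k))} (j : K₀ ⟶ G) (r : G ⟶ X₀),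
      IsPullback (fst G K₀) ((G ◁ j) ≫ μ[G]) r r → ∀ (u v : T ⟶ G), u ≫ r = v ≫ r ↔ ∃ n, v = u * (n ≫ j) := by
    intro T K₀ X₀ j r hr u v
    have hw : ∀ (x : T ⟶ G) (n : T ⟶ K₀), lift x n ≫ (G ◁ j) ≫ μ[G] = x * (n ≫ j) := fun x n => by
      rw [lift_whiskerLeft_assoc, ← Hom.mul_def]
    constructor
    · intro h
      refine ⟨hr.lift u v h ≫ snd _ _, ?_⟩
      have e : hr.lift u v h = lift u (hr.lift u v h ≫ snd _ _) := by
        apply CartesianMonoidalCategory.hom_ext <;> simp
      rw [← hw, ← e, hr.lift_snd]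
    · rintro ⟨n, rfl⟩
      have := congrArg (lift u n ≫ ·) hr.w
      rw [← Category.assoc, lift_fst, ← Category.assoc, hw] at this
      exact this
  obtain ⟨p, hqp⟩ := hc.exists_desc q fun T u v huv => by
    obtain ⟨n, hn⟩ := (hk (h' ≫ h) q' hp' u v).1 huv
    exact (hk h q hp u v).2 ⟨n ≫ h', by rw [hn, Category.assoc]⟩
  have hop : o' ≫ p = o := by
    have e := h1q (T := 𝟙_ _) a' o'
    have e' := h1q (T := 𝟙_ _) a o
    rw [toUnit_unique (toUnit _) (𝟙 _), Category.id_comp] at e e'
    rw [← e, Category.assoc, hqp, e']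
  have heq : ∀ {T : Over (Spec (CommRingCat.of k))} (g : T ⟶ G) (x : T ⟶ X'),
      lift g x ≫ a'.act ≫ p = lift g (x ≫ p) ≫ a.act := by
    intro T g x
    obtain ⟨T', c, y, hc', hy⟩ := hc.exists_lift x
    apply hc'.cancel
    rw [← Category.assoc, ← Category.assoc, ← Category.assoc, comp_lift, comp_lift, ← Category.assoc c x p, ← hy,
      hm, Category.assoc, Category.assoc y q' p, hqp, hm]
  -- the fibre over `o`
  have : LocallyOfFiniteType G.hom := inferInstance
  have : Subsingleton (Spec (CommRingCat.of k)) := inferInstance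
  have : IsClosedImmersion o.left :=
    AlgebraicGeometry.isClosedImmersion_of_comp_eq_id X.hom o.left (Over.w o)
  obtain ⟨F, i, _, hF⟩ := Groth.Agf.exists_preimage p o
  have : Mono i := Over.mono_of_mono_left i
  have hF' : ∀ {T : Over (Spec (CommRingCat.of k))} (x : T ⟶ X'), (∃ e, e ≫ i = x) ↔ x ≫ p = toUnit T ≫ o :=
    fun x => (hF _ x).trans ⟨fun ⟨y, hy⟩ => by rw [hy, toUnit_unique y (toUnit _)], fun e => ⟨toUnit _, e⟩⟩
  have : LocallyOfFiniteType H.hom := by rw [← Over.w h]; infer_instance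
  have : LocallyOfFiniteType H'.hom := by rw [← Over.w h']; infer_instance
  have hFpt : ∀ x : Groth.AlgGrp1.specAlg k k ⟶ F, x ≫ i = toUnit _ ≫ o' := by
    intro x
    obtain ⟨g, hg, -⟩ := Groth.AlgGrp1.exists_point_lift q' (x ≫ i) ⊤ (by
      obtain ⟨y, hy⟩ := hs'.surj (Groth.AlgGrp1.ptOf (x ≫ i))
      exact ⟨y, trivial, hy⟩)
    have hgq : (1 : Groth.AlgGrp1.specAlg k k ⟶ G) ≫ q = g ≫ q := by
      rw [h1q, ← hqp, ← Category.assoc, hg]
      exact ((hF' _).1 ⟨x, rfl⟩).symm
    obtain ⟨n, hn⟩ := (hk h q hp 1 g).1 hgq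
    obtain ⟨m, hm', -⟩ := Groth.AlgGrp1.exists_point_lift h' n ⊤ (by
      obtain ⟨y, hy⟩ := h'.left.surjective (Groth.AlgGrp1.ptOf n)
      exact ⟨y, trivial, hy⟩)
    rw [← hg, ← h1q]
    exact ((hk (h' ≫ h) q' hp' 1 g).2 ⟨m, by rw [hn, ← hm', Category.assoc]⟩).symm
  have : LocallyOfFiniteType F.hom := by rw [← Over.w i]; infer_instance
  have hsub : Subsingleton F.left := by
    have := LocallyOfFiniteType.jacobsonSpace F.hom
    constructor
    intro z z'
    have key : ∀ z₁ z₂ : F.left, IsClosed ({z₁} : Set F.left) → IsClosed ({z₂} : Set F.left) → z₁ = z₂ := by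
      intro z₁ z₂ h₁ h₂
      obtain ⟨x₁, hx₁⟩ := Groth.AlgGrp1.exists_point_over_closed k F z₁ h₁
      obtain ⟨x₂, hx₂⟩ := Groth.AlgGrp1.exists_point_over_closed k F z₂ h₂
      obtain rfl : x₁ = x₂ := (cancel_mono i).1 ((hFpt x₁).trans (hFpt x₂).symm)
      exact hx₁.symm.trans hx₂
    obtain ⟨c₀, -, hc₀⟩ := nonempty_inter_closedPoints (Z := (Set.univ : Set F.left)) ⟨z, trivial⟩
      isOpen_univ.isLocallyClosed
    have hall : ∀ y : F.left, y = c₀ := by
      intro y
      by_contra hy
      obtain ⟨d, hd, hdc⟩ := nonempty_inter_closedPoints (Z := ({c₀} : Set F.left)ᶜ) ⟨y, hy⟩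
        hc₀.isOpen_compl.isLocallyClosed
      exact hd (key d c₀ hdc hc₀)
    rw [hall z, hall z']
  have : CompactSpace F.left := inferInstance
  have : QuasiCompact F.hom := (quasiCompact_iff_compactSpace F.hom).2 inferInstance
  have : LocallyQuasiFinite F.hom := LocallyQuasiFinite.of_injective fun _ _ _ => Subsingleton.elim _ _
  have : IsLocallyArtinian (Spec (CommRingCat.of k)) := inferInstance
  have : IsFinite F.hom := IsFinite.of_locallyQuasiFinite F.hom
  -- the base change of `p` along the orbit map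
  let φ : F ⊗ G ⟶ X' := lift (snd F G) (fst F G ≫ i) ≫ a'.act
  have hip : i ≫ p = toUnit F ≫ o := (hF' i).1 ⟨𝟙 _, Category.id_comp _⟩
  have hw : φ ≫ p = snd F G ≫ q := by
    simp only [φ, Category.assoc]
    rw [heq, Category.assoc, hip, ← Category.assoc, toUnit_unique (fst F G ≫ toUnit F) (toUnit _),
      ← Groth.AlgGrp1.comp_orbit]
  have hl0 : ∀ s : Limits.PullbackCone p q, ∃ e : s.pt ⟶ F, e ≫ i = lift s.snd⁻¹ s.fst ≫ a'.act := fun s => by
    refine (hF' _).2 ?_
    rw [Category.assoc, heq, s.condition, hm, inv_mul_cancel, h1q]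
  choose e he using hl0
  have sq : IsPullback φ (snd F G) p q := ⟨⟨hw⟩, ⟨Limits.PullbackCone.IsLimit.mk hw (fun s => lift (e s) s.snd)
    (fun s => by
      simp only [φ, comp_lift_assoc, lift_snd, lift_fst_assoc, he]
      rw [Groth.AlgGrp1.act_inv_cancel])
    (fun s => lift_snd _ _)
    (fun s m hm1 hm2 => by
      apply CartesianMonoidalCategory.hom_ext
      · rw [lift_fst, ← cancel_mono i, he, ← hm1]
        simp only [φ, comp_lift_assoc, hm2, Category.assoc]
        rw [Groth.AlgGrp1.inv_act_cancel]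
      · rw [lift_snd, hm2])⟩⟩
  have sq' := sq.map (Over.forget _)
  have hsnd : IsFinite (snd F G).left := inferInstanceAs (IsFinite (Limits.pullback.snd F.hom G.hom))
  have : QuasiCompact (q.left ≫ X.hom) := by rw [Over.w]; infer_instance
  have : QuasiSeparated X.hom := by
    have := Groth.AlgGrp1.isLocallyNoetherian_left X
    infer_instance
  have hqc : QuasiCompact q.left := QuasiCompact.of_comp q.left X.hom
  have : IsFinite p.left := MorphismProperty.of_isPullback_of_descendsAlong (P := @IsFinite)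
    (Q := Groth.EtaleBase.Fpqc) sq'.flip ⟨⟨hs, hf⟩, hqc⟩ hsnd
  have hps : Surjective p.left := ⟨fun x => by
    obtain ⟨g, hg⟩ := hs.surj x
    exact ⟨q'.left g, by rw [← Scheme.Hom.comp_apply, ← Over.comp_left, hqp]; exact hg⟩⟩
  constructor
  · intro hA
    exact isAffine_of_isAffineHom p.left
  · intro hA
    have := Groth.AlgGrp1.isLocallyNoetherian_left X
    have : CompactSpace X.left := p.left.surjective.compactSpace p.left.continuous
    have : AlgebraicGeometry.IsNoetherian X.left := ⟨⟩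
    exact Groth.FlatMor2.Chevalley.isAffine_of_finite_surjective p.left

end Groth.Agent.S12540
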