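import Groth.Statements.S12542
import Groth.Agent.Hopf.HM.Criterion

set_option autoImplicit false
universe u
open TensorProduct LaurentPolynomial
open GIT

namespace Groth.Agent.S12542

/-- Let k be an algebraically closed field of characteristic zero and G = Spec A a linearly reductive
affine algebraic group (A a finitely generated commutative Hopf algebra whose finite-dimensional
comodules are all semisimple) acting linearly on affine ι-space, and let v ≠ 0 be a vector. Then v
is semistable (some invariant homogeneous polynomial of positive degree is non-zero at v) if and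
only if μ(v, λ) ≥ 0 for every one-parameter subgroup λ of G, where μ(v, λ) = m means that t^m · (v
moved by λ(t)) tends to a non-zero vector as t → 0. (The published result concerns a reductive group
acting on any proper scheme with an ample linearised invertible sheaf; this row is the case of
projective space with the hyperplane bundle, to which the published proof reduces, stated on the
affine cone.) -/
theorem result (k : Type u) [Field k] [IsAlgClosed k] [CharZero k]
    (A : Type u) [CommRing A] [HopfAlgebra k A] [Algebra.FiniteType k A] (hG : HopfRep.IsLinearlyReductive k A)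
    (ι : Type u) [Fintype ι] [HopfRep.Comod k A (MvPolynomial ι k)] [GLin.IsCoactAlg k A (MvPolynomial ι k)]
    (hlin : GLin.IsLinear k A ι) (v : ι → k) (hv : v ≠ 0) :
    GLin.IsSemistableVec k A v ↔
      ∀ (lam : A →ₐc[k] k[T;T⁻¹]) (m : ℤ), GLin.IsMu k A lam v m → 0 ≤ m := by
  constructor
  · intro hss lam m hm
    by_contra hneg
    have h0 := (Groth.GitQuot.limit_trichotomy lam hv).2.2.2 ⟨m, hm, not_le.1 hneg⟩
    obtain ⟨h, h1, h2⟩ := h0
    refine (Groth.GitQuot.isSemistableVec_iff hG hlin v).1 hss fun f hf => ?_
    have e := AlgHom.congr_fun h1 f
    rw [GLin.lamOrbit, AlgHom.comp_apply, AlgHom.comp_apply, RingHom.mem_ker.1 hf, map_zero,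
      Polynomial.toLaurentAlg_apply] at e
    have e0 : h f = 0 := Polynomial.toLaurent_injective (e.trans (map_zero _).symm)
    have e2 := AlgHom.congr_fun h2 f
    rw [AlgHom.comp_apply, e0, map_zero] at e2
    exact RingHom.mem_ker.2 e2.symm
  · intro hall
    rw [Groth.GitQuot.isSemistableVec_iff hG hlin v]
    intro hcl
    obtain ⟨lam, hlam⟩ := Groth.ComodLib.HM.exists_lam_of_closure hG hlin v hv hcl
    obtain ⟨m, hm, -⟩ := Groth.GitQuot.existsUnique_isMu lam hv
    have hm0 := hall lam m hm
    obtain ⟨i, hi⟩ := ((Groth.GitQuot.isMu_iff lam v m).1 hm).2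
    exact hi (hlam i _ (by omega))

end Groth.Agent.S12542
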