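import Groth.Statements.S12546
import Groth.Agent.Misc6.BinaryForms
import Groth.Agent.Misc6.FormLimit
import Groth.Agent.Misc6.Packing
-- import your own Groth.Agent.* helpers here

set_option autoImplicit false
universe u
open TensorProduct LaurentPolynomial
open GIT

namespace Groth.Agent.S12546

/-- Let k be an algebraically closed field of characteristic zero and let SL_2 act by substitution on
binary forms of degree d, a form being the point a = (a_0, …, a_d) with F = Σ_i (d choose i) a_i
x^(d−i) y^i. For a ≠ 0: a is stable (closed orbit, finite stabiliser) if and only if every non-zero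
linear form ℓ and every m with ℓ^m dividing F satisfy 2m < d, i.e. F has no root on the projective
line of multiplicity d/2 or more. -/
theorem result (k : Type u) [Field k] [IsAlgClosed k] [CharZero k]
    (d : ℕ) (a : Fin (d + 1) → k) (ha : a ≠ 0) :
    @GLin.IsStableVec k _ (CoordGrp.SLn 2 k) _ _ (CoordGrp.FormIdx 2 d) (GLin.comodAlong ((CoordGrp.SLn.mkHom 2 k).comp (CoordGrp.Mat.toGLn 2 k)) (CoordGrp.formsCoact k 2 d))
      (GLin.isCoactAlg_comodAlong ((CoordGrp.SLn.mkHom 2 k).comp (CoordGrp.Mat.toGLn 2 k)) (CoordGrp.formsCoact k 2 d)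
        (CoordGrp.formsCoact_isCoactAlg k 2 d))
      (CoordGrp.binVec d a) ↔
      ∀ ℓ : MvPolynomial (Fin 2) k, ℓ.IsHomogeneous 1 → ℓ ≠ 0 →
        ∀ m : ℕ, ℓ ^ m ∣ CoordGrp.formPoly (CoordGrp.binVec d a) → 2 * m < d := by
  have hfac : (Nat.factorial d : k) ≠ 0 := Nat.cast_ne_zero.2 (Nat.factorial_ne_zero d)
  obtain ⟨c, p, hc, hp, hF⟩ := Groth.Misc6.BinaryForms.exists_points d a ha
  constructor
  · intro hst ℓ hℓ hℓ0 m hdvd
    obtain ⟨q, rfl⟩ := Groth.Misc6.BinaryForms.exists_linF_eq hℓ
    have hq : q ≠ 0 := by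
      rintro rfl
      exact hℓ0 (by simp [Groth.Misc6.PointSets.linF])
    rw [hF] at hdvd
    have hle := Groth.Misc6.BinaryForms.le_card_of_pow_dvd q hq c hc p hp hdvd
    by_contra hge
    have hdim : Module.finrank k (Submodule.span k ({q} : Set (Fin 2 → k))) = 1 := finrank_span_singleton hq
    refine Groth.Misc6.FormLimit.not_isStableVec hfac c p _ hF (Submodule.span k {q})
      (fun h => hq (Submodule.span_singleton_eq_bot.1 h)) (fun h => ?_) ?_ hst
    · rw [h, finrank_top, Module.finrank_fin_fun] at hdim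
      omega
    · rw [hdim]
      omega
  · intro hR
    have hd : 0 < d := by
      have h := hR (MvPolynomial.X 0) (MvPolynomial.isHomogeneous_X k 0) (MvPolynomial.X_ne_zero 0) 0
        (by simp)
      simpa using h
    let p' : Fin d → Fin 2 → k := fun i => if i = (⟨0, hd⟩ : Fin d) then c • p i else p i
    have hp' : ∀ i, p' i ≠ 0 := fun i => by
      simp only [p']
      split_ifs
      · exact smul_ne_zero hc (hp i)
      · exact hp i
    have hF' : CoordGrp.formPoly (CoordGrp.binVec d a) =
        ∏ i, ∑ j, MvPolynomial.C (p' i j) * MvPolynomial.X j := by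
      rw [hF, ← Finset.mul_prod_erase Finset.univ _ (Finset.mem_univ (⟨0, hd⟩ : Fin d)),
        ← Finset.mul_prod_erase Finset.univ (fun i => ∑ j, MvPolynomial.C (p' i j) * MvPolynomial.X j)
          (Finset.mem_univ (⟨0, hd⟩ : Fin d)), ← mul_assoc]
      congr 1
      · simp only [p', if_pos, Pi.smul_apply, smul_eq_mul, map_mul, Finset.mul_sum, mul_assoc]
      · exact Finset.prod_congr rfl fun i hi => by simp only [p', if_neg (Finset.ne_of_mem_erase hi)]
    have hmem : ∀ (i : Fin d) (L : Submodule k (Fin 2 → k)), p' i ∈ L ↔ p i ∈ L := fun i L => by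
      simp only [p']
      split_ifs
      · exact L.smul_mem_iff hc
      · rfl
    have hcnt : ∀ q : Fin 2 → k, q ≠ 0 →
        2 * Set.ncard {i | p' i ∈ Submodule.span k ({q} : Set (Fin 2 → k))} < d := fun q hq => by
      have h := Groth.Misc6.BinaryForms.pow_card_dvd q c p
      have e : Nat.card {i : Fin d // p i ∈ Submodule.span k ({q} : Set (Fin 2 → k))} =
          Set.ncard {i | p' i ∈ Submodule.span k ({q} : Set (Fin 2 → k))} := by
        rw [← Nat.card_coe_set_eq]
        exact Nat.card_congr (Equiv.subtypeEquivRight fun i => (hmem i _).symm)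
      rw [← e]
      refine hR _ (Groth.Misc6.PointSets.linF_isHomogeneous q) (fun h0 => hq ?_) _ (hF ▸ h)
      funext j
      have h1 := congrArg (MvPolynomial.coeff (Finsupp.single j 1)) h0
      rwa [Groth.Misc6.PointSets.coeff_linF, MvPolynomial.coeff_zero] at h1
    obtain ⟨N, N₀, hN₀, hNN, hP⟩ := Groth.Misc6.Packing.exists_lowered (K := k) p' hp' hd (fun L h1 h2 => by
      obtain ⟨q, hq, rfl, h3⟩ := Groth.Misc6.BinaryForms.finrank_eq_one h1 h2
      have := hcnt q hq
      rw [Module.finrank_fin_fun, h3]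
      omega)
    simp only [Module.finrank_fin_fun] at hP
    exact Groth.Misc6.PointSets.isStableVec_of_lowered p' hd hp' hF' N N₀ hN₀ hNN hP

end Groth.Agent.S12546
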