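import Groth.Statements.S12547
import Groth.Agent.Misc6.BinaryForms
import Groth.Agent.Misc6.FormLimit
import Groth.Agent.Misc6.Packing
import Groth.Agent.Misc6.SemistableSmall
import Groth.Agent.S12559
-- import your own Groth.Agent.* helpers here

set_option autoImplicit false
universe u
open TensorProduct LaurentPolynomial
open GIT

namespace Groth.Agent.S12547

/-- Let k be an algebraically closed field of characteristic zero and let SL_2 act by substitution on
binary forms of degree d, a form being the point a = (a_0, …, a_d) with F = Σ_i (d choose i) a_i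
x^(d−i) y^i. For a ≠ 0: a is semistable (some invariant homogeneous polynomial of positive degree in
the coefficients is non-zero at a) if and only if every non-zero linear form ℓ and every m with ℓ^m
dividing F satisfy 2m ≤ d, i.e. F has no root on the projective line of multiplicity more than d/2. -/
theorem result (k : Type u) [Field k] [IsAlgClosed k] [CharZero k]
    (d : ℕ) (a : Fin (d + 1) → k) (ha : a ≠ 0) :
    @GLin.IsSemistableVec k _ (CoordGrp.SLn 2 k) _ _ (CoordGrp.FormIdx 2 d) (GLin.comodAlong ((CoordGrp.SLn.mkHom 2 k).comp (CoordGrp.Mat.toGLn 2 k)) (CoordGrp.formsCoact k 2 d))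
      (GLin.isCoactAlg_comodAlong ((CoordGrp.SLn.mkHom 2 k).comp (CoordGrp.Mat.toGLn 2 k)) (CoordGrp.formsCoact k 2 d)
        (CoordGrp.formsCoact_isCoactAlg k 2 d))
      (CoordGrp.binVec d a) ↔
      ∀ ℓ : MvPolynomial (Fin 2) k, ℓ.IsHomogeneous 1 → ℓ ≠ 0 →
        ∀ m : ℕ, ℓ ^ m ∣ CoordGrp.formPoly (CoordGrp.binVec d a) → 2 * m ≤ d := by
  have hfac : (Nat.factorial d : k) ≠ 0 := Nat.cast_ne_zero.2 (Nat.factorial_ne_zero d)
  obtain ⟨c, p, hc, hp, hF⟩ := Groth.Misc6.BinaryForms.exists_points d a ha
  have hG : HopfRep.IsLinearlyReductive k (CoordGrp.SLn 2 k) := Groth.Agent.S12559.result k 2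
  letI := GLin.comodAlong ((CoordGrp.SLn.mkHom 2 k).comp (CoordGrp.Mat.toGLn 2 k)) (CoordGrp.formsCoact k 2 d)
  haveI := GLin.isCoactAlg_comodAlong ((CoordGrp.SLn.mkHom 2 k).comp (CoordGrp.Mat.toGLn 2 k))
    (CoordGrp.formsCoact k 2 d) (CoordGrp.formsCoact_isCoactAlg k 2 d)
  haveI : Algebra.FiniteType k (CoordGrp.SLn 2 k) :=
    ⟨(Set.finite_range fun ij : Fin 2 × Fin 2 => CoordGrp.SLn.X (k := k) ij.1 ij.2).toFinset,
      Groth.Misc6.PointSets.eq_top_of_X_mem _ fun i j => Algebra.subset_adjoin (by fin_cases i <;> fin_cases j <;> simp)⟩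
  constructor
  · intro hss ℓ hℓ hℓ0 m hdvd
    obtain ⟨q, rfl⟩ := Groth.Misc6.BinaryForms.exists_linF_eq hℓ
    have hq : q ≠ 0 := by
      rintro rfl
      exact hℓ0 (by simp [Groth.Misc6.PointSets.linF])
    rw [hF] at hdvd
    have hle := Groth.Misc6.BinaryForms.le_card_of_pow_dvd q hq c hc p hp hdvd
    by_contra hgt
    refine Groth.Misc6.FormLimit.not_isSemistableVec hfac c p _ hF (Submodule.span k {q}) ?_ hss
    rw [finrank_span_singleton hq]
    omega
  · intro hR
    rw [Groth.Misc6.SemistableSmall.isSemistableVec_iff hG (GLin.isLinear_comodAlong _ _ (CoordGrp.formsCoact_isLinear k 2 d))]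
    rcases Nat.eq_zero_or_pos d with rfl | hd
    · intro hcl
      obtain ⟨i, hi⟩ := Function.ne_iff.1 ha
      let e : CoordGrp.FormIdx 2 0 := CoordGrp.binIdx 0 i
      have h1 := Groth.Misc6.PointSets.sum_monomial_orb (AlgHom.id k (CoordGrp.SLn 2 k)) (CoordGrp.binVec 0 a)
      have he : ∀ m : CoordGrp.FormIdx 2 0, m.1 = 0 := fun m => (Finsupp.degree_eq_zero_iff m.1).1 m.2
      have hsub : ∀ m, m = e := fun m => Subtype.ext ((he m).trans (he e).symm)
      rw [Finset.sum_eq_single e (fun m _ hne => absurd (hsub m) hne) (fun h => absurd (Finset.mem_univ e) h),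
        CoordGrp.formPoly, Finset.sum_eq_single e (fun m _ hne => absurd (hsub m) hne)
          (fun h => absurd (Finset.mem_univ e) h), he e, MvPolynomial.map_monomial] at h1
      simp only [show (0 : Fin 2 →₀ ℕ).multinomial = 1 by simp [Finsupp.multinomial_eq], Nat.cast_one, one_mul, AlgHom.id_apply, MvPolynomial.monomial_zero',
        MvPolynomial.aeval_C, MvPolynomial.algebraMap_eq] at h1
      have h2 := MvPolynomial.C_injective _ _ h1
      have hker : MvPolynomial.X e - MvPolynomial.C (CoordGrp.binVec 0 a e) ∈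
          RingHom.ker (Groth.Misc6.PointSets.orb k 2 0 (CoordGrp.binVec 0 a)) := by
        rw [RingHom.mem_ker, map_sub, h2, ← MvPolynomial.algebraMap_eq, AlgHom.commutes, sub_self]
      have h3 := hcl hker
      rw [RingHom.mem_ker] at h3
      simp [GLin.vecPt, e] at h3
      exact hi h3
    let p' : Fin d → Fin 2 → k := fun i => if i = (⟨0, hd⟩ : Fin d) then c • p i else p i
    have hp' : ∀ i, p' i ≠ 0 := fun i => by
      simp only [p']
      split_ifs
      · exact smul_ne_zero hc (hp i)
      · exact hp i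
    have hF' : CoordGrp.formPoly (CoordGrp.binVec d a) =
        ∏ i, ∑ j, MvPolynomial.C (p' i j) * MvPolynomial.X j := by
      rw [hF, ← Finset.mul_prod_erase Finset.univ _ (Finset.mem_univ (⟨0, hd⟩ : Fin d)),
        ← Finset.mul_prod_erase Finset.univ (fun i => ∑ j, MvPolynomial.C (p' i j) * MvPolynomial.X j)
          (Finset.mem_univ (⟨0, hd⟩ : Fin d)), ← mul_assoc]
      congr 1
      · simp only [p', if_pos, Pi.smul_apply, smul_eq_mul, map_mul, Finset.mul_sum, mul_assoc]
      · exact Finset.prod_congr rfl fun i hi => by simp only [p', if_neg (Finset.ne_of_mem_erase hi)]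
    have hmem : ∀ (i : Fin d) (L : Submodule k (Fin 2 → k)), p' i ∈ L ↔ p i ∈ L := fun i L => by
      simp only [p']
      split_ifs
      · exact L.smul_mem_iff hc
      · rfl
    have hcnt : ∀ q : Fin 2 → k, q ≠ 0 →
        2 * Set.ncard {i | p' i ∈ Submodule.span k ({q} : Set (Fin 2 → k))} ≤ d := fun q hq => by
      have h := Groth.Misc6.BinaryForms.pow_card_dvd q c p
      have e : Nat.card {i : Fin d // p i ∈ Submodule.span k ({q} : Set (Fin 2 → k))} =
          Set.ncard {i | p' i ∈ Submodule.span k ({q} : Set (Fin 2 → k))} := by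
        rw [← Nat.card_coe_set_eq]
        exact Nat.card_congr (Equiv.subtypeEquivRight fun i => (hmem i _).symm)
      rw [← e]
      refine hR _ (Groth.Misc6.PointSets.linF_isHomogeneous q) (fun h0 => hq ?_) _ (hF ▸ h)
      funext j
      have h1 := congrArg (MvPolynomial.coeff (Finsupp.single j 1)) h0
      rwa [Groth.Misc6.PointSets.coeff_linF, MvPolynomial.coeff_zero] at h1
    obtain ⟨N, hN, P, hP1, hP2⟩ := Groth.Misc6.Packing.exists_balanced (K := k) p' (by simp) hd (fun L => by
      rw [Module.finrank_fin_fun]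
      by_cases h1 : L = ⊥
      · subst h1
        have : {i : Fin d | p' i ∈ (⊥ : Submodule k (Fin 2 → k))} = ∅ := by
          ext i; simp [hp' i]
        rw [this]
        simp
      by_cases h2 : L = ⊤
      · subst h2
        simp [mul_comm]
      obtain ⟨q, hq, rfl, h3⟩ := Groth.Misc6.BinaryForms.finrank_eq_one h1 h2
      have := hcnt q hq
      rw [h3]
      omega)
    simp only [Module.finrank_fin_fun] at hP1
    exact Groth.Misc6.PointSets.not_inOrbitClosure_origin p' hp' hF' N hN P hP1 hP2

end Groth.Agent.S12547
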