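import Groth.Statements.S1255
import Groth.Agent.RaynaudGruson.AssassinEtaleNhd
import Groth.Agent.RaynaudGruson.UnivPure
import Groth.Agent.RaynaudGruson.LocalProjective
import Groth.Agent.FlatmorThree.FlatAtBaseChange
import Groth.Agent.S1221

set_option autoImplicit false
universe u
open FlatMor

namespace Groth.Agent.S1255

attribute [local instance] Algebra.TensorProduct.rightAlgebra

/-- Ring form, all schemes affine: let B be an A-algebra of finite type, N a finite B-module and p a
prime of A such that N is flat over A at every prime of B over p. Let (A, p) → (A', p') be an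
elementary étale ring map and B' an étale B-algebra which is compatibly an A'-algebra of finite
type, with base change N' of N to B', such that N' is pure along the fibre over p' and every prime q
of B over p whose extension to the fibre ring over p is an associated prime of the fibre module of N
is the contraction of a prime of B' lying over p'. Let B_{A'} and N_{A'} be the base changes of B
and N to A' (any models), with the induced map B_{A'} → B'. Then N is pure along the fibre over p if
and only if: for every prime t' ⊆ p' of A' and every prime Q of B_{A'} over t' whose extension to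
the fibre ring over t' is an associated prime of the fibre module of N_{A'}, Q is the contraction of
a prime of B'. (The published statement asks in its covering hypothesis only that the image of Spec
B' in Spec B contain the associated primes of the fibre module of N over p, without requiring the
covering primes of B' to lie over p'. That is not enough when Spec A' has a second point over p —
with Spec A' = Spec A ⊔ Spec A and Spec B' over the other copy the "only if" fails — so the
hypothesis is stated here in the stronger form: the covering primes of B' lie over p'.) -/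
theorem result {A B : Type u} [CommRing A] [CommRing B] [Algebra A B] [Algebra.FiniteType A B]
    (N : Type u) [AddCommGroup N] [Module B N] [Module A N] [IsScalarTower A B N] [Module.Finite B N] (p : Ideal A) [p.IsPrime]
    (hflat : ∀ (q : Ideal B) [q.IsPrime], q.LiesOver p → FlatCA.FlatAt A q N)
    (A' : Type u) [CommRing A'] [Algebra A A'] (p' : Ideal A') [p'.IsPrime] (het : FlatCA.IsEtaleNhd A A' p p')
    (B' : Type u) [CommRing B'] [Algebra B B'] [Algebra A' B'] [Algebra A B'] [IsScalarTower A B B'] [IsScalarTower A A' B']
    [Algebra.Etale B B'] [Algebra.FiniteType A' B']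
    (N' : Type u) [AddCommGroup N'] [Module B' N'] [Module B N'] [IsScalarTower B B' N'] [Module A' N'] [IsScalarTower A' B' N']
    (f : N →ₗ[B] N') (hf : IsBaseChange B' f)
    (hpure : FlatCA.IsPureAlong A' B' N' p')
    (hcov : ∀ (q : Ideal B) [q.IsPrime], q.LiesOver p →
      FlatCA.fiberIdeal p q ∈ associatedPrimes (p.Fiber B) (FlatCA.fiberMod p B N) →
      ∃ q' : Ideal B', q'.IsPrime ∧ q'.comap (algebraMap B B') = q ∧ q'.comap (algebraMap A' B') = p')
    (BA NA : Type u) [CommRing BA] [Algebra B BA] [Algebra A' BA] [Algebra A BA] [IsScalarTower A B BA] [IsScalarTower A A' BA]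
    [Algebra.IsPushout A B A' BA] [Algebra BA B'] [IsScalarTower B BA B'] [IsScalarTower A' BA B']
    [AddCommGroup NA] [Module BA NA] [Module B NA] [IsScalarTower B BA NA] [Module A' NA] [IsScalarTower A' BA NA]
    (fA : N →ₗ[B] NA) (hfA : IsBaseChange BA fA) :
    FlatCA.IsPureAlong A B N p ↔
      ∀ (t' : Ideal A') [t'.IsPrime], t' ≤ p' → ∀ (Q : Ideal BA) [Q.IsPrime], Q.LiesOver t' →
        FlatCA.fiberIdeal t' Q ∈ associatedPrimes (t'.Fiber BA) (FlatCA.fiberMod t' BA NA) →
        ∃ Q' : Ideal B', Q'.IsPrime ∧ Q'.comap (algebraMap BA B') = Q := by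
  classical
  obtain ⟨hetA, hpo, hκ⟩ := id het
  haveI := hetA; haveI := hpo
  haveI : Algebra.IsPushout A A' B BA := Algebra.IsPushout.symm inferInstance
  haveI : Algebra.FiniteType A' BA := Algebra.FiniteType.equiv
    (inferInstance : Algebra.FiniteType A' (TensorProduct A A' B)) (Algebra.IsPushout.equiv A A' B BA)
  haveI : Algebra.Etale B BA := Groth.RaynaudGruson.EtalePushout.etale_of_isPushout' (A := A) (A' := A')
  haveI : Algebra.Etale BA B' := Algebra.Etale.of_restrictScalars B _ _
  haveI : Module.Finite BA NA := Module.Finite.equiv hfA.equiv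
  constructor
  · intro hp t' _ ht' Q _ hQ hass
    haveI := hQ
    obtain ⟨Q₀, hQ₀, hle, hQ₀p⟩ : ∃ Q₀ : Ideal BA, Q₀.IsPrime ∧ Q ≤ Q₀ ∧ Q₀.LiesOver p' := by
      by_contra hcon
      exact hp A' BA NA fA t' p' Q het
        ⟨inferInstance, hfA, ht', hpo, hQ, hass, fun P' hP' hle hover => hcon ⟨P', hP', hle, hover⟩⟩
    haveI := hQ₀; haveI := hQ₀p
    have hflat' : ∀ (P : Ideal BA) [P.IsPrime], P.LiesOver p' → FlatCA.FlatAt A' P NA := by
      intro P _ hP
      haveI := hP
      haveI : (P.comap (algebraMap B BA)).LiesOver p := ⟨by
        show p = (P.comap (algebraMap B BA)).comap (algebraMap A B)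
        rw [Ideal.comap_comap, ← IsScalarTower.algebraMap_eq]
        exact (Ideal.LiesOver.trans P p' p).over⟩
      exact Groth.FlatmorThree.flatAt_baseChange fA hfA (P.comap (algebraMap B BA)) P rfl (hflat _ inferInstance)
    obtain ⟨P, hP, hQP, hPp, hassP⟩ := Groth.Agent.S1221.result NA p' hflat' t' ht' Q hass ⟨Q₀, hQ₀, hle, hQ₀p⟩
    haveI := hP; haveI := hPp
    obtain ⟨hqp, hassq⟩ := Groth.RaynaudGruson.comap_assoc_of_bijective_residue fA hfA p p' hκ P hPp hassP
    haveI := hqp
    obtain ⟨q', hq', hq'B, hq'A⟩ := hcov (P.comap (algebraMap B BA)) hqp hassq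
    haveI := hq'
    haveI : (q'.comap (algebraMap BA B')).LiesOver (P.comap (algebraMap B BA)) := ⟨by
      show P.comap (algebraMap B BA) = (q'.comap (algebraMap BA B')).comap (algebraMap B BA)
      rw [Ideal.comap_comap, ← IsScalarTower.algebraMap_eq, hq'B]⟩
    haveI : (q'.comap (algebraMap BA B')).LiesOver p' := ⟨by
      show p' = (q'.comap (algebraMap BA B')).comap (algebraMap A' BA)
      rw [Ideal.comap_comap, ← IsScalarTower.algebraMap_eq, hq'A]⟩
    haveI : P.LiesOver (P.comap (algebraMap B BA)) := ⟨rfl⟩
    have heq := Groth.RaynaudGruson.LocalStructureFT.eq_of_liesOver p p' hκ (P.comap (algebraMap B BA))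
      (q'.comap (algebraMap BA B')) P
    haveI : q'.LiesOver P := ⟨heq.symm⟩
    obtain ⟨Q', -, hQ', hQ'Q⟩ := Ideal.exists_ideal_le_liesOver_of_le q' hQP
    exact ⟨Q', hQ', hQ'Q.over.symm⟩
  · intro h
    haveI : Module.Flat A (Localization.AtPrime p') :=
      haveI : Module.Flat A' (Localization.AtPrime p') := IsLocalization.flat _ p'.primeCompl
      Module.Flat.trans A A' _
    refine (Groth.RaynaudGruson.pure_of_flatAt p fA hfA p').1 ?_
    intro A'' B'' N'' _ _ _ _ _ _ _ _ _ _ _ _ _ _ f'' t'' t _ _ P _ hnhd himp
    haveI := himp.1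
    have hw := Groth.RaynaudGruson.wit_of_isImpurity (A := A') (B := BA) (N := NA) A'' B'' N'' f'' p' t'' t P himp
    letI : Module BA N' := Module.compHom N' (algebraMap BA B')
    haveI : IsScalarTower BA B' N' := IsScalarTower.of_algebraMap_smul fun _ _ => rfl
    haveI : IsScalarTower B BA N' := IsScalarTower.of_algebraMap_smul fun b x => by
      show algebraMap BA B' (algebraMap B BA b) • x = b • x
      rw [← IsScalarTower.algebraMap_apply, algebraMap_smul]
    haveI : IsScalarTower A' BA N' := IsScalarTower.of_algebraMap_smul fun a x => by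
      show algebraMap BA B' (algebraMap A' BA a) • x = a • x
      rw [← IsScalarTower.algebraMap_apply, algebraMap_smul]
    let ι : NA →ₗ[BA] N' := hfA.lift f
    have hι : IsBaseChange B' ι := by
      refine IsBaseChange.of_comp hfA ?_
      rw [hfA.lift_comp]
      exact hf
    let s₀ := t''.comap (algebraMap A' A'')
    have hs₀ : s₀ ≤ p' := (Ideal.comap_mono hw.1).trans hnhd.2.1.over.ge
    letI : Algebra s₀.ResidueField t''.ResidueField :=
      (Ideal.ResidueField.mapₐ s₀ t'' (Algebra.ofId A' A'') rfl).toRingHom.toAlgebra
    haveI : IsScalarTower A' s₀.ResidueField t''.ResidueField := .of_algebraMap_eq fun a =>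
      ((Ideal.ResidueField.mapₐ s₀ t'' (Algebra.ofId A' A'') rfl).commutes a).symm
    have hinj : Function.Injective ((ι.restrictScalars A').lTensor t''.ResidueField) := by
      refine Groth.RaynaudGruson.injective_lTensor_field (K := s₀.ResidueField) _ ?_
      have e : ι.restrictScalars A' = (hι.equiv.toLinearMap.restrictScalars A').comp
          ((TensorProduct.mk BA B' NA 1).restrictScalars A') := LinearMap.ext fun n => by simp [hι.equiv_tmul]
      rw [e, LinearMap.lTensor_comp]
      exact (LinearEquiv.lTensor s₀.ResidueField (hι.equiv.restrictScalars A')).injective.comp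
        (Groth.RaynaudGruson.injective_lTensor_residueField s₀ fun P _ hP hass => h s₀ hs₀ P hP hass)
    have hwC := hw.map_module (C := B') ι hinj
    haveI : Algebra.IsPushout A' B' A'' (TensorProduct A' A'' B') :=
      Algebra.IsPushout.symm (inferInstance : Algebra.IsPushout A' A'' B' (TensorProduct A' A'' B'))
    obtain ⟨Q', _, hQ'⟩ := Groth.RaynaudGruson.exists_isImpurity_of_wit (A := A') (B := B') (N := N') A''
      (TensorProduct A' A'' B') (TensorProduct B' (TensorProduct A' A'' B') N')
      ((TensorProduct.mk B' (TensorProduct A' A'' B') N') 1) (TensorProduct.isBaseChange B' N' _) p' t'' t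
      hnhd.2.1 hwC
    exact hpure _ _ _ _ t'' t Q' hnhd hQ' 

end Groth.Agent.S1255
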