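import Groth.Statements.S12550
import Mathlib.LinearAlgebra.FiniteDimensional.Lemmas
import Mathlib.Tactic.Linarith
-- import your own Groth.Agent.* helpers here

set_option autoImplicit false
universe u
open GIT

namespace Groth.Agent.S12550

/-- Let V be a finite-dimensional vector space over a field K and x_0, …, x_m non-zero vectors, a
configuration of m + 1 points of the projective space P(V). If for every subspace L with 0 ≠ L ≠ V
the number of indices i with x_i ∈ L, multiplied by dim V, is less than dim L · (m + 1) (the
configuration is stable), then no two proper subspaces L', L'' with L' ∩ L'' = 0 contain between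
them all the x_i. -/
theorem result (K : Type u) [Field K]
    (V : Type u) [AddCommGroup V] [Module K V] [FiniteDimensional K V]
    (m : ℕ) (x : Fin (m + 1) → V) (hx : ∀ i, x i ≠ 0)
    (hst : ∀ L : Submodule K V, L ≠ ⊥ → L ≠ ⊤ →
      Set.ncard {i : Fin (m + 1) | x i ∈ L} * Module.finrank K V < Module.finrank K L * (m + 1)) :
    ¬ ∃ L' L'' : Submodule K V, L' ≠ ⊤ ∧ L'' ≠ ⊤ ∧ Disjoint L' L'' ∧ ∀ i, x i ∈ L' ∨ x i ∈ L'' := by
  classical
  rintro ⟨L', L'', h', h'', hd, hcov⟩
  set A := {i : Fin (m + 1) | x i ∈ L'}
  set B := {i : Fin (m + 1) | x i ∈ L''}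
  have hu : A ∪ B = Set.univ := Set.eq_univ_of_forall hcov
  have hc : m + 1 ≤ A.ncard + B.ncard := by
    have := Set.ncard_union_le A B
    rw [hu, Set.ncard_univ, Nat.card_fin] at this
    exact this
  have hdim : Module.finrank K L' + Module.finrank K L'' ≤ Module.finrank K V := by
    have := Submodule.finrank_sup_add_finrank_inf_eq L' L''
    rw [hd.eq_bot, finrank_bot, add_zero] at this
    rw [← this]
    exact Submodule.finrank_le _
  have hz : ∀ L : Submodule K V, L = ⊥ → {i : Fin (m + 1) | x i ∈ L}.ncard = 0 := by
    intro L hL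
    subst hL
    have : {i : Fin (m + 1) | x i ∈ (⊥ : Submodule K V)} = ∅ := by
      ext i; simp [hx i]
    rw [this, Set.ncard_empty]
  by_cases b' : L' = ⊥
  · have ha := hz L' b'
    by_cases b'' : L'' = ⊥
    · have hb := hz L'' b''
      simp only [A, B] at hc
      omega
    · have h2 := hst L'' b'' h''
      simp only [A, B] at hc
      nlinarith [Nat.mul_le_mul_right (Module.finrank K V) (show m + 1 ≤ _ by omega : m + 1 ≤ {i : Fin (m + 1) | x i ∈ L''}.ncard), Nat.mul_le_mul_right (m + 1) (show Module.finrank K L'' ≤ Module.finrank K V by omega)]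
  · have h1 := hst L' b' h'
    by_cases b'' : L'' = ⊥
    · have hb := hz L'' b''
      simp only [A, B] at hc
      nlinarith [Nat.mul_le_mul_right (Module.finrank K V) (show m + 1 ≤ _ by omega : m + 1 ≤ {i : Fin (m + 1) | x i ∈ L'}.ncard), Nat.mul_le_mul_right (m + 1) (show Module.finrank K L' ≤ Module.finrank K V by omega)]
    · have h2 := hst L'' b'' h''
      simp only [A, B] at hc
      nlinarith [Nat.mul_le_mul_right (Module.finrank K V) hc, Nat.mul_le_mul_right (m + 1) hdim]

end Groth.Agent.S12550
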