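import Groth.Statements.S12551
import Groth.Agent.Misc6.FormCoords
import Groth.Agent.Misc6.BinaryForms

set_option autoImplicit false
universe u
open TensorProduct LaurentPolynomial
open GIT

namespace Groth.Agent.S12551

open Groth.Misc6.FormCriterion Groth.Misc6.FormCoords Matrix

/-- Let k be an algebraically closed field of characteristic zero and let SL_3 act by substitution on
ternary quartic forms, the point a having the form F = Σ_e (4; e) a_e x^e. Then a fails to be stable
(closed orbit and finite stabiliser) if and only if there is a matrix M of determinant 1 such that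
the form F'(x) = F(Mx) = Σ b_ij x_0^(4−i−j) x_1^i x_2^j has b_00 = b_10 = b_01 = b_20 = b_11 = 0 and
in addition b_02 = 0 or b_30 = 0: in suitable coordinates the quartic curve has a triple point at
(1:0:0), or a tacnode there with tangent line x_2 = 0. -/
theorem result (k : Type u) [Field k] [IsAlgClosed k] [CharZero k]
    (a : CoordGrp.FormIdx 3 4 → k) :
    ¬ @GLin.IsStableVec k _ (CoordGrp.SLn 3 k) _ _ (CoordGrp.FormIdx 3 4) (GLin.comodAlong ((CoordGrp.SLn.mkHom 3 k).comp (CoordGrp.Mat.toGLn 3 k)) (CoordGrp.formsCoact k 3 4))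
      (GLin.isCoactAlg_comodAlong ((CoordGrp.SLn.mkHom 3 k).comp (CoordGrp.Mat.toGLn 3 k)) (CoordGrp.formsCoact k 3 4)
        (CoordGrp.formsCoact_isCoactAlg k 3 4))
      a ↔
      ∃ M : Matrix (Fin 3) (Fin 3) k, M.det = 1 ∧
        ∃ F' : MvPolynomial (Fin 3) k,
          F' = MvPolynomial.aeval (fun i : Fin 3 => ∑ j : Fin 3, MvPolynomial.C (M i j) * MvPolynomial.X j)
              (CoordGrp.formPoly a) ∧
          (∀ ij : ℕ × ℕ, ij ∈ ({(0, 0), (1, 0), (0, 1), (2, 0), (1, 1)} : Finset (ℕ × ℕ)) →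
            F'.coeff (Finsupp.single 0 (4 - ij.1 - ij.2) + Finsupp.single 1 ij.1 + Finsupp.single 2 ij.2) = 0) ∧
          (F'.coeff (Finsupp.single 0 2 + Finsupp.single 2 2) = 0 ∨
            F'.coeff (Finsupp.single 0 1 + Finsupp.single 1 3) = 0) := by
  have hdecomp : ∀ e : Fin 3 →₀ ℕ, e =
      Finsupp.single 0 (e 0) + Finsupp.single 1 (e 1) + Finsupp.single 2 (e 2) := fun e =>
    Finsupp.ext fun i => by fin_cases i <;> simp
  have hdeg : ∀ (M : Matrix (Fin 3) (Fin 3) k) (e : Fin 3 →₀ ℕ),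
      (sub M (CoordGrp.formPoly a)).coeff e ≠ 0 → e 0 + e 1 + e 2 = 4 := by
    intro M e he
    have hd : e.degree = 4 := by
      rw [Finsupp.degree_eq_weight_one]; exact sub_isHomogeneous (isHomogeneous_formPoly a) M he
    rwa [Finsupp.degree_eq_sum, Fin.sum_univ_three] at hd
  constructor
  · intro hns
    obtain ⟨M₀, hM₀, w₀, hw₀, hs₀, hP₀⟩ := (not_isStableVec_iff a).1 hns
    obtain ⟨M, w, hM, hmono, hsum, hne, hP⟩ := exists_sorted hM₀ (fun x => 0 ≤ x) hP₀
    rw [hs₀, Fin.sum_univ_three] at hsum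
    have h01 : w 0 ≤ w 1 := hmono (by decide)
    have h12 : w 1 ≤ w 2 := hmono (by decide)
    have h0 : w 0 < 0 := by
      by_contra h
      refine hne hw₀ (funext fun i => ?_)
      fin_cases i <;> simp <;> omega
    have hz : ∀ e : Fin 3 →₀ ℕ, (e 0 : ℤ) * w 0 + (e 1 : ℤ) * w 1 + (e 2 : ℤ) * w 2 < 0 →
        (sub M (CoordGrp.formPoly a)).coeff e = 0 := fun e hlt => by_contra fun hne => by
      have := hP e hne
      simp [wt, Fin.sum_univ_three] at this
      omega
    refine ⟨M, hM, _, rfl, fun ij hij => hz _ ?_, ?_⟩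
    · simp only [Finset.mem_insert, Finset.mem_singleton] at hij
      rcases hij with rfl | rfl | rfl | rfl | rfl <;> simp <;> omega
    · rcases le_or_gt (w 1) 0 with h1 | h1
      · exact Or.inr (hz _ (by simp; omega))
      · exact Or.inl (hz _ (by simp; omega))
  · rintro ⟨M, hM, F', rfl, hb, hor⟩
    refine (not_isStableVec_iff a).2 ?_
    have hb' : ∀ e : Fin 3 →₀ ℕ, (sub M (CoordGrp.formPoly a)).coeff e ≠ 0 →
        ¬ ((e 0 = 4 ∧ e 1 = 0 ∧ e 2 = 0) ∨ (e 0 = 3 ∧ e 1 = 1 ∧ e 2 = 0) ∨ (e 0 = 3 ∧ e 1 = 0 ∧ e 2 = 1) ∨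
          (e 0 = 2 ∧ e 1 = 2 ∧ e 2 = 0) ∨ (e 0 = 2 ∧ e 1 = 1 ∧ e 2 = 1)) := by
      intro e he hcases
      refine he ?_
      rw [hdecomp e]
      rcases hcases with ⟨a0, a1, a2⟩ | ⟨a0, a1, a2⟩ | ⟨a0, a1, a2⟩ | ⟨a0, a1, a2⟩ | ⟨a0, a1, a2⟩ <;>
        rw [a0, a1, a2]
      · exact hb (0, 0) (by simp)
      · exact hb (1, 0) (by simp)
      · exact hb (0, 1) (by simp)
      · exact hb (2, 0) (by simp)
      · exact hb (1, 1) (by simp)
    rcases hor with h | h
    · refine ⟨M, hM, ![-2, 1, 1], fun h => by simpa using congrFun h 1, by simp [Fin.sum_univ_three],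
        fun e he => ?_⟩
      have := hdeg M e he
      have := hb' e he
      have h' : ¬ (e 0 = 2 ∧ e 1 = 0 ∧ e 2 = 2) := fun ⟨a0, a1, a2⟩ => he (by
        change (sub M (CoordGrp.formPoly a)).coeff e = 0
        rw [hdecomp e, a0, a1, a2, Finsupp.single_zero, add_zero]; exact h)
      simp [wt, Fin.sum_univ_three]
      omega
    · refine ⟨M, hM, ![-1, 0, 1], fun h => by simpa using congrFun h 0, by simp [Fin.sum_univ_three],
        fun e he => ?_⟩
      have := hdeg M e he
      have := hb' e he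
      have h' : ¬ (e 0 = 1 ∧ e 1 = 3 ∧ e 2 = 0) := fun ⟨a0, a1, a2⟩ => he (by
        change (sub M (CoordGrp.formPoly a)).coeff e = 0
        rw [hdecomp e, a0, a1, a2, Finsupp.single_zero, add_zero]; exact h)
      simp [wt, Fin.sum_univ_three]
      omega

end Groth.Agent.S12551
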