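import Groth.Statements.S12552
import Mathlib.LinearAlgebra.FiniteDimensional.Lemmas
import Mathlib.LinearAlgebra.Dimension.Constructions
import Mathlib.LinearAlgebra.FiniteDimensional.Basic
-- import your own Groth.Agent.* helpers here

set_option autoImplicit false
universe u
open GIT

namespace Groth.Agent.S12552

section Helpers

open Finset

/-- Farkas' lemma, after Bartl. -/
theorem farkas {F : Type*} [Field F] [LinearOrder F] [IsStrictOrderedRing F] {W : Type*}
    [AddCommGroup W] [Module F W] : ∀ (n : ℕ) (A : Fin n → W →ₗ[F] F) (b : W →ₗ[F] F),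
      (∀ x, (∀ i, A i x ≤ 0) → b x ≤ 0) → ∃ q : Fin n → F, (∀ i, 0 ≤ q i) ∧ b = ∑ i, q i • A i
  | 0, A, b, h => ⟨0, fun i => le_rfl, LinearMap.ext fun x => by
      have h1 := h x (fun i => i.elim0)
      have h2 := h (-x) (fun i => i.elim0)
      rw [map_neg] at h2
      simp only [Finset.univ_eq_empty, Finset.sum_empty, LinearMap.zero_apply]
      linarith⟩
  | n + 1, A, b, h => by
    by_cases hb : ∀ x, (∀ i : Fin n, A i.castSucc x ≤ 0) → b x ≤ 0
    · obtain ⟨q, hq, hqb⟩ := farkas n (fun i => A i.castSucc) b hb
      refine ⟨Fin.snoc q 0, fun i => ?_, ?_⟩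
      · refine Fin.lastCases ?_ ?_ i
        · simp
        · intro k
          simpa using hq k
      · simp [Fin.sum_univ_castSucc, hqb]
    · push Not at hb
      obtain ⟨x₀, hx₀, hbx₀⟩ := hb
      have ha : 0 < A (Fin.last n) x₀ := by
        by_contra! hc
        exact absurd (h x₀ (fun i => Fin.lastCases hc hx₀ i)) (not_le.2 hbx₀)
      obtain ⟨y, hy, hby, hay⟩ : ∃ y, (∀ i : Fin n, A i.castSucc y ≤ 0) ∧ 0 < b y ∧
          A (Fin.last n) y = 1 := by
        refine ⟨(A (Fin.last n) x₀)⁻¹ • x₀, fun i => ?_, ?_, ?_⟩
        · rw [map_smul, smul_eq_mul]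
          exact mul_nonpos_of_nonneg_of_nonpos (inv_nonneg.2 ha.le) (hx₀ i)
        · rw [map_smul, smul_eq_mul]
          exact mul_pos (inv_pos.2 ha) hbx₀
        · rw [map_smul, smul_eq_mul, inv_mul_cancel₀ ha.ne']
      obtain ⟨q, hq, hqb⟩ := farkas n (fun i => A i.castSucc - A i.castSucc y • A (Fin.last n))
        (b - b y • A (Fin.last n)) (fun x hx => by
          have := h (x - A (Fin.last n) x • y) (fun i => by
            refine Fin.lastCases ?_ ?_ i
            · simp [hay]
            · intro k
              have := hx k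
              simp at this ⊢
              linarith)
          simp at this ⊢
          linarith)
      refine ⟨Fin.snoc q (b y - ∑ i, q i * A i.castSucc y), fun i => ?_, LinearMap.ext fun x => ?_⟩
      · refine Fin.lastCases ?_ ?_ i
        · rw [Fin.snoc_last, sub_nonneg]
          exact le_trans (Finset.sum_nonpos fun k _ =>
            mul_nonpos_of_nonneg_of_nonpos (hq k) (hy k)) hby.le
        · intro k
          simpa using hq k
      · have := congrArg (fun f : W →ₗ[F] F => f x) hqb
        simp only [LinearMap.sub_apply, LinearMap.smul_apply, LinearMap.coe_sum, Finset.sum_apply,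
          smul_eq_mul, mul_sub, Finset.sum_sub_distrib, ← mul_assoc, ← Finset.sum_mul] at this
        simp only [Fin.sum_univ_castSucc, Fin.snoc_castSucc, Fin.snoc_last, LinearMap.add_apply,
          LinearMap.smul_apply, LinearMap.coe_sum, Finset.sum_apply, smul_eq_mul, sub_mul]
        linarith

theorem abel_nonneg {ι : Type*} (d : ι → ℚ) : ∀ (s : Finset ι) (w : ι → ℚ),
    (∀ j ∈ s, 0 ≤ w j) → (∀ θ, 0 ≤ ∑ j ∈ s.filter (fun j => θ ≤ w j), d j) →
      0 ≤ ∑ j ∈ s, w j * d j := by
  classical
  intro s
  induction s using Finset.strongInduction with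
  | _ s ih =>
    intro w hw hθ
    rcases s.eq_empty_or_nonempty with rfl | hs
    · simp
    obtain ⟨j₀, hj₀, hmin⟩ := s.exists_min_image w hs
    let U := s.filter (fun j => w j₀ < w j)
    have hU : U ⊂ s := by
      rw [Finset.ssubset_iff_of_subset (Finset.filter_subset _ _)]
      exact ⟨j₀, hj₀, by simp [U]⟩
    have h1 := ih U hU (fun j => w j - w j₀)
      (fun j hj => by simp only [U, Finset.mem_filter] at hj; linarith [hj.2])
      (fun θ => by
        rcases le_or_gt θ 0 with hθ0 | hθ0
        · have : U.filter (fun j => θ ≤ w j - w j₀) = U := by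
            refine Finset.filter_true_of_mem fun j hj => ?_
            simp only [U, Finset.mem_filter] at hj
            linarith [hj.2]
          rw [this]
          rcases U.eq_empty_or_nonempty with hUe | hUne
          · simp [hUe]
          obtain ⟨j₁, hj₁, hmin₁⟩ := U.exists_min_image w hUne
          convert hθ (w j₁) using 2
          ext j
          simp only [U, Finset.mem_filter] at hj₁ ⊢
          refine and_congr_right fun hjs => ⟨fun hj => hmin₁ j (by simp [U, hjs, hj]),
            fun hj => lt_of_lt_of_le hj₁.2 hj⟩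
        · convert hθ (θ + w j₀) using 2
          ext j
          simp only [U, Finset.mem_filter]
          constructor
          · rintro ⟨⟨hjs, -⟩, hj⟩
            exact ⟨hjs, by linarith⟩
          · rintro ⟨hjs, hj⟩
            exact ⟨⟨hjs, by linarith⟩, by linarith⟩)
    have h2 : 0 ≤ w j₀ * ∑ j ∈ s, d j := by
      refine mul_nonneg (hw _ hj₀) ?_
      have := hθ (w j₀)
      rwa [Finset.filter_true_of_mem hmin] at this
    have h3 : ∑ j ∈ U, (w j - w j₀) * d j = ∑ j ∈ s, (w j - w j₀) * d j := by
      refine Finset.sum_subset (Finset.filter_subset _ _) fun j hj hj' => ?_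
      simp only [U, Finset.mem_filter, not_and, not_lt] at hj'
      rw [le_antisymm (hj' hj) (hmin j hj), sub_self, zero_mul]
    rw [h3] at h1
    simp only [sub_mul, Finset.sum_sub_distrib, ← Finset.mul_sum] at h1
    linarith

variable {K : Type u} [Field K] {V : Type u} [AddCommGroup V] [Module K V] [FiniteDimensional K V]
  {ι : Type*} (x : ι → V)

theorem card_inter_le (L : Submodule K V) {S A : Finset ι} [DecidableEq ι]
    (hA : ∀ j ∈ A, x j ∈ L) (hS : LinearIndependent K (fun j : S => x j)) :
    (S ∩ A).card ≤ Module.finrank K L := by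
  have h : LinearIndependent K (fun j : (S ∩ A : Finset ι) => (⟨x j, hA _ (Finset.mem_inter.1 j.2).2⟩ : L)) := by
    refine LinearIndependent.of_comp L.subtype ?_
    exact hS.comp (fun j : (S ∩ A : Finset ι) => (⟨j, (Finset.mem_inter.1 j.2).1⟩ : S))
      (fun a b hab => by ext; exact congrArg (fun z : S => (z : ι)) hab)
  simpa using h.fintype_card_le_finrank

theorem exists_basis_finset [Fintype ι] (hspan : Submodule.span K (Set.range x) = ⊤) :
    ∃ S : Finset ι, S.card = Module.finrank K V ∧ LinearIndependent K (fun j : S => x j) := by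
  classical
  obtain ⟨b, -, -, hb, hli⟩ := exists_linearIndepOn_extension (linearIndepOn_empty K x)
    (Set.empty_subset Set.univ)
  refine ⟨b.toFinset, ?_, ?_⟩
  · have : Submodule.span K (Set.range fun j : b => x j) = ⊤ := by
      rw [eq_top_iff, ← hspan, Submodule.span_le, ← Set.image_eq_range]
      rw [Set.image_univ] at hb
      exact hb
    rw [← finrank_top K V, ← this, finrank_span_eq_card hli, Set.toFinset_card]
  · exact hli.comp (fun j : b.toFinset => (⟨j, Set.mem_toFinset.1 j.2⟩ : b))
      (fun u v huv => by ext; exact congrArg (fun z : b => (z : ι)) huv)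

theorem max_basis_upper [DecidableEq ι] (w : ι → ℚ) (B : Finset ι)
    (hBc : B.card = Module.finrank K V) (hB : LinearIndependent K (fun j : B => x j))
    (hmax : ∀ S : Finset ι, S.card = Module.finrank K V →
      LinearIndependent K (fun j : S => x j) → ∑ j ∈ S, w j ≤ ∑ j ∈ B, w j)
    (θ : ℚ) (j : ι) (hj : θ ≤ w j) :
    x j ∈ Submodule.span K (x '' (B.filter fun c => θ ≤ w c : Finset ι)) := by
  by_contra hnot
  have hjB : j ∉ B := fun hjB => hnot (Submodule.subset_span ⟨j, by simp [hjB, hj], rfl⟩)
  have htop : ⊤ ≤ Submodule.span K (Set.range fun c : B => x c) := by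
    rw [top_le_iff]
    exact Submodule.eq_top_of_finrank_eq (by rw [finrank_span_eq_card hB, Fintype.card_coe, hBc])
  let bB := Module.Basis.mk hB htop
  obtain ⟨c, hc, hcw⟩ : ∃ c : B, bB.repr (x j) c ≠ 0 ∧ w c < θ := by
    by_contra! hall
    apply hnot
    rw [← bB.linearCombination_repr (x j), Finsupp.linearCombination_apply]
    refine Submodule.sum_mem _ fun c hc => ?_
    rw [Finsupp.mem_support_iff] at hc
    refine Submodule.smul_mem _ _ (Submodule.subset_span ⟨c, ?_, by simp [bB]⟩)
    simp [c.2, hall c hc]
  have hli : LinearIndepOn K x (insert j (B.erase c.1 : Finset ι) : Set ι) := by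
    refine LinearIndepOn.insert ((show LinearIndepOn K x (B : Set ι) from hB).mono
      (by intro z hz; exact Finset.mem_of_mem_erase hz)) fun hmem => hc ?_
    have hsub : x '' (B.erase c.1 : Finset ι) ⊆ bB '' {d : B | d ≠ c} := by
      rintro _ ⟨z, hz, rfl⟩
      rw [Finset.mem_coe, Finset.mem_erase] at hz
      exact ⟨⟨z, hz.2⟩, fun he => hz.1 (congrArg Subtype.val he), by simp [bB]⟩
    have hm := Submodule.span_mono hsub hmem
    rw [bB.mem_span_image] at hm
    by_contra hne
    exact hm (Finsupp.mem_support_iff.2 hne) rfl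
  have hjn : j ∉ B.erase c.1 := fun h => hjB (Finset.mem_of_mem_erase h)
  have hle := hmax (insert j (B.erase c.1))
    (by rw [Finset.card_insert_of_notMem hjn, Finset.card_erase_add_one c.2, hBc])
    (by
      have : LinearIndepOn K x ((insert j (B.erase c.1) : Finset ι) : Set ι) := by
        rwa [Finset.coe_insert]
      exact this)
  rw [Finset.sum_insert hjn, Finset.sum_erase_eq_sub c.2] at hle
  linarith

/-- A vector obeying the rank inequalities lies in the cone spanned by the indicators of bases. -/
theorem mem_cone {m : ℕ} (x : Fin (m + 1) → V) (hspan : Submodule.span K (Set.range x) = ⊤)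
    (c : Fin (m + 1) → ℚ) (k : ℚ) (hk : 0 ≤ k)
    (hc : ∀ U : Finset (Fin (m + 1)),
      ∑ j ∈ U, c j ≤ k * Module.finrank K (Submodule.span K (x '' (U : Set (Fin (m + 1))))))
    (htot : ∑ j, c j = k * Module.finrank K V) :
    ∃ q : Finset (Fin (m + 1)) → ℚ, (∀ S, 0 ≤ q S) ∧
      (∀ S, q S ≠ 0 → S.card = Module.finrank K V ∧ LinearIndependent K (fun j : S => x j)) ∧
      ∀ j, c j = ∑ S, if j ∈ S then q S else 0 := by
  classical
  let Bs : Finset (Finset (Fin (m + 1))) := Finset.univ.filter fun S =>
    S.card = Module.finrank K V ∧ LinearIndependent K (fun j : S => x j)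
  have hne : Bs.Nonempty := by
    obtain ⟨S, hS⟩ := exists_basis_finset x hspan
    exact ⟨S, Finset.mem_filter.2 ⟨Finset.mem_univ _, hS⟩⟩
  let e := Bs.equivFin
  let A : Fin Bs.card → (Fin (m + 1) → ℚ) →ₗ[ℚ] ℚ := fun i => ∑ j ∈ (e.symm i).1, LinearMap.proj j
  let b : (Fin (m + 1) → ℚ) →ₗ[ℚ] ℚ := ∑ j, c j • LinearMap.proj j
  obtain ⟨q, hq, hqb⟩ := farkas Bs.card A b (fun w hw => by
    obtain ⟨B, hB, hmax⟩ := Bs.exists_max_image (fun S => ∑ j ∈ S, w j) hne
    have hBp := (Finset.mem_filter.1 hB).2
    have hB0 : ∑ j ∈ B, w j ≤ 0 := by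
      have := hw (e ⟨B, hB⟩)
      simpa [A] using this
    let d : Fin (m + 1) → ℚ := fun j => k * (if j ∈ B then 1 else 0) - c j
    obtain ⟨j₀, -, hmin⟩ := Finset.univ.exists_min_image w Finset.univ_nonempty
    have hpos : 0 ≤ ∑ j, (w j - w j₀) * d j := by
      refine abel_nonneg d _ _ (fun j _ => sub_nonneg.2 (hmin j (Finset.mem_univ _))) fun θ => ?_
      set U := Finset.univ.filter fun j => θ ≤ w j - w j₀
      have hspanU : Submodule.span K (x '' (U : Set (Fin (m + 1)))) ≤
          Submodule.span K (Set.range fun j : (B.filter fun j => θ + w j₀ ≤ w j : Finset _) => x j) := by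
        rw [Submodule.span_le]
        rintro _ ⟨j, hj, rfl⟩
        have hjθ : θ + w j₀ ≤ w j := by
          have := (Finset.mem_filter.1 (Finset.mem_coe.1 hj)).2
          linarith
        have := max_basis_upper x w B hBp.1 hBp.2 (fun S h1 h2 =>
          hmax S (Finset.mem_filter.2 ⟨Finset.mem_univ _, h1, h2⟩)) (θ + w j₀) j hjθ
        rwa [Set.image_eq_range] at this
      have hfr : Module.finrank K (Submodule.span K (x '' (U : Set (Fin (m + 1))))) ≤ (U ∩ B).card := by
        refine (Submodule.finrank_mono hspanU).trans ((finrank_range_le_card _).trans ?_)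
        rw [Fintype.card_coe]
        refine le_of_eq (congrArg Finset.card ?_)
        ext j
        simp [U, and_comm, le_sub_iff_add_le]
      have h1 := (hc U).trans (mul_le_mul_of_nonneg_left (Nat.cast_le.2 hfr) hk)
      simp only [d, Finset.sum_sub_distrib, ← Finset.mul_sum, Finset.sum_boole]
      rw [Finset.filter_mem_eq_inter]
      linarith
    have hd0 : ∑ j, d j = 0 := by
      simp only [d, Finset.sum_sub_distrib, ← Finset.mul_sum, Finset.sum_boole, htot]
      rw [Finset.filter_mem_eq_inter, Finset.univ_inter, hBp.1, sub_self]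
    have hsum : ∑ j, w j * d j = k * ∑ j ∈ B, w j - ∑ j, c j * w j := by
      simp only [d, mul_sub, Finset.sum_sub_distrib]
      congr 1
      · rw [Finset.mul_sum]
        simp [mul_ite, mul_comm]
      · simp [mul_comm]
    simp only [sub_mul, Finset.sum_sub_distrib, ← Finset.mul_sum, hd0, mul_zero, sub_zero] at hpos
    rw [hsum] at hpos
    have hle := mul_nonpos_of_nonneg_of_nonpos hk hB0
    simp only [b, LinearMap.coe_sum, Finset.sum_apply, LinearMap.smul_apply, LinearMap.proj_apply,
      smul_eq_mul]
    linarith)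
  refine ⟨fun S => if h : S ∈ Bs then q (e ⟨S, h⟩) else 0, fun S => ?_, fun S hS => ?_, fun j => ?_⟩
  · by_cases h : S ∈ Bs <;> simp [h, hq]
  · by_cases h : S ∈ Bs
    · exact (Finset.mem_filter.1 h).2
    · simp [h] at hS
  · have := congrArg (fun f : (Fin (m + 1) → ℚ) →ₗ[ℚ] ℚ => f (Pi.single j 1)) hqb
    simp only [b, A, LinearMap.coe_sum, Finset.sum_apply, LinearMap.smul_apply,
      LinearMap.proj_apply, smul_eq_mul, Pi.single_apply, mul_ite, mul_one, mul_zero,
      Finset.sum_ite_eq', Finset.mem_univ, if_true] at this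
    rw [this, ← Finset.sum_subset (Finset.subset_univ Bs) (fun S _ hS => by simp [hS]),
      ← Finset.sum_coe_sort Bs, ← e.symm.sum_comp]
    refine Finset.sum_congr rfl fun i _ => ?_
    dsimp only
    rw [dif_pos (e.symm i).2]
    simp

theorem sum_card_filter {m : ℕ} (P : Multiset (Finset (Fin (m + 1)))) (A : Finset (Fin (m + 1))) :
    ∑ j ∈ A, Multiset.card (P.filter (fun S => j ∈ S)) = (P.map fun S => (S ∩ A).card).sum := by
  induction P using Multiset.induction_on with
  | empty => simp
  | cons S P ih =>
    rw [Multiset.map_cons, Multiset.sum_cons, ← ih]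
    simp only [Multiset.filter_cons, Multiset.card_add, Finset.sum_add_distrib,
      apply_ite Multiset.card, Multiset.card_singleton, Multiset.card_zero]
    rw [← Finset.card_filter, Finset.filter_mem_eq_inter, Finset.inter_comm]

theorem card_filter_replicate {α : Type*} [DecidableEq α] (s : Finset α) (f : α → ℕ)
    (p : α → Prop) [DecidablePred p] :
    Multiset.card ((∑ a ∈ s, Multiset.replicate (f a) a).filter p) =
      ∑ a ∈ s, if p a then f a else 0 := by
  induction s using Finset.induction_on with
  | empty => simp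
  | insert a s ha ih =>
    rw [Finset.sum_insert ha, Finset.sum_insert ha, Multiset.filter_add, Multiset.card_add, ih]
    congr 1
    by_cases h : p a
    · rw [if_pos h, Multiset.filter_eq_self.2 (fun b hb => (Multiset.eq_of_mem_replicate hb) ▸ h),
        Multiset.card_replicate]
    · rw [if_neg h, Multiset.filter_eq_nil.2 (fun b hb => (Multiset.eq_of_mem_replicate hb) ▸ h),
        Multiset.card_zero]

end Helpers

/-- Let V be a finite-dimensional vector space over a field K and x_0, …, x_m non-zero vectors, a
configuration of m + 1 points of P(V); a set S of dim V indices with (x_j)_(j ∈ S) linearly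
independent is a determinant section non-zero at the configuration. Then the configuration is stable
(for every subspace L with 0 ≠ L ≠ V, the number of i with x_i ∈ L times dim V is less than dim L ·
(m + 1)) if and only if there are integers N ≥ N_0 > 0 such that for each index i some non-empty
finite multiset of such sets S contains every index j ≠ i exactly N times and the index i exactly N
− N_0 times (a monomial in the determinant sections, non-zero at the configuration, of multidegree
(N, …, N − N_0, …, N) with the N − N_0 in place i). -/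
theorem result (K : Type u) [Field K]
    (V : Type u) [AddCommGroup V] [Module K V] [FiniteDimensional K V]
    (m : ℕ) (x : Fin (m + 1) → V) (hx : ∀ i, x i ≠ 0) :
    (∀ L : Submodule K V, L ≠ ⊥ → L ≠ ⊤ →
        Set.ncard {i : Fin (m + 1) | x i ∈ L} * Module.finrank K V < Module.finrank K L * (m + 1)) ↔
      ∃ N N₀ : ℕ, 0 < N₀ ∧ N₀ ≤ N ∧
        ∀ i : Fin (m + 1), ∃ P : Multiset (Finset (Fin (m + 1))), P ≠ 0 ∧
          (∀ S ∈ P, S.card = Module.finrank K V ∧ LinearIndependent K (fun j : S => x j)) ∧
          ∀ j : Fin (m + 1),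
            Multiset.card (P.filter (fun S => j ∈ S)) = if j = i then N - N₀ else N := by
  classical
  have hn : 0 < Module.finrank K V :=
    Module.finrank_pos_iff_exists_ne_zero.2 ⟨x 0, hx 0⟩
  set n := Module.finrank K V with hn'
  constructor
  · intro hst
    have hspan : Submodule.span K (Set.range x) = ⊤ := by
      by_contra hne
      have hbot : Submodule.span K (Set.range x) ≠ ⊥ := fun h => hx 0 (by
        simpa [h] using Submodule.subset_span (R := K) (Set.mem_range_self (f := x) 0))
      have h1 := hst _ hbot hne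
      have h2 : {i : Fin (m + 1) | x i ∈ Submodule.span K (Set.range x)} = Set.univ :=
        Set.eq_univ_of_forall fun i => Submodule.subset_span ⟨i, rfl⟩
      rw [h2, Set.ncard_univ, Nat.card_fin, mul_comm] at h1
      have h3 := Submodule.finrank_le (Submodule.span K (Set.range x))
      nlinarith
    let cN : Fin (m + 1) → Fin (m + 1) → ℕ := fun i j => if j = i then n * n else n * (n + 1)
    let k : ℕ := (m + 1) * (n + 1) - 1
    have hk : k + 1 = (m + 1) * (n + 1) :=
      Nat.sub_add_cancel (Nat.one_le_iff_ne_zero.2 (by positivity))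
    have hctot : ∀ i, ∑ j, cN i j = k * n := fun i => by
      have h1 : ∑ j, cN i j + n = ∑ j : Fin (m + 1), n * (n + 1) := by
        rw [← Finset.add_sum_erase _ _ (Finset.mem_univ i),
          ← Finset.add_sum_erase _ (fun _ => n * (n + 1)) (Finset.mem_univ i)]
        rw [Finset.sum_congr rfl (g := fun _ => n * (n + 1)) (s₁ := Finset.univ.erase i)
          (fun j hj => if_neg (Finset.ne_of_mem_erase hj))]
        simp only [cN, if_true]
        ring
      rw [Finset.sum_const, Finset.card_univ, Fintype.card_fin, smul_eq_mul] at h1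
      nlinarith
    have hcle : ∀ i (U : Finset (Fin (m + 1))),
        ∑ j ∈ U, cN i j ≤ k * Module.finrank K (Submodule.span K (x '' (U : Set (Fin (m + 1))))) := by
      intro i U
      set L := Submodule.span K (x '' (U : Set (Fin (m + 1))))
      rcases U.eq_empty_or_nonempty with rfl | ⟨j₁, hj₁⟩
      · simp
      by_cases htop : L = ⊤
      · rw [htop, finrank_top, ← hn', ← hctot i]
        exact Finset.sum_le_sum_of_subset (Finset.subset_univ _)
      have hbot : L ≠ ⊥ := fun h => hx j₁ (by
        have : x j₁ ∈ L := Submodule.subset_span ⟨j₁, hj₁, rfl⟩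
        rwa [h, Submodule.mem_bot] at this)
      have h1 := hst L hbot htop
      have h2 : U.card ≤ Set.ncard {i : Fin (m + 1) | x i ∈ L} := by
        rw [← Set.ncard_coe_finset]
        exact Set.ncard_le_ncard (fun j hj => Submodule.subset_span ⟨j, hj, rfl⟩)
      have h3 : ∑ j ∈ U, cN i j ≤ U.card * (n * (n + 1)) := by
        refine le_trans (Finset.sum_le_card_nsmul _ _ (n * (n + 1)) fun j _ => ?_) (by simp)
        simp only [cN]
        split <;> nlinarith
      have h4 : Module.finrank K L ≤ n := Submodule.finrank_le L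
      have h5 : U.card * n + 1 ≤ Module.finrank K L * (m + 1) := by
        have := Nat.mul_le_mul_right n h2
        omega
      have h6 : (U.card * n + 1) * (n + 1) ≤ Module.finrank K L * (m + 1) * (n + 1) :=
        Nat.mul_le_mul_right _ h5
      nlinarith
    have hrat : ∀ i, ∃ D : ℕ, 0 < D ∧ ∃ μ : Finset (Fin (m + 1)) → ℕ,
        (∀ S, μ S ≠ 0 → S.card = n ∧ LinearIndependent K (fun j : S => x j)) ∧
        ∀ j, D * cN i j = ∑ S, if j ∈ S then μ S else 0 := by
      intro i
      obtain ⟨q, hq0, hqs, hqc⟩ := mem_cone x hspan (fun j => (cN i j : ℚ)) k (Nat.cast_nonneg _)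
        (fun U => by exact_mod_cast hcle i U) (by exact_mod_cast hctot i)
      let D : ℕ := ∏ S, (q S).den
      have hD : 0 < D := Finset.prod_pos fun S _ => (q S).den_pos
      have hμ : ∀ S, ∃ u : ℕ, (u : ℚ) = D * q S := by
        intro S
        refine ⟨(∏ T ∈ Finset.univ.erase S, (q T).den) * (q S).num.toNat, ?_⟩
        have hnum : (((q S).num.toNat : ℕ) : ℚ) = (q S).num := by
          exact_mod_cast Int.toNat_of_nonneg (Rat.num_nonneg.2 (hq0 S))
        simp only [D]
        rw [← Finset.mul_prod_erase _ _ (Finset.mem_univ S)]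
        push_cast
        rw [hnum]
        conv_rhs => arg 2; rw [← Rat.num_div_den (q S)]
        field_simp
      choose μ hμ using hμ
      refine ⟨D, hD, μ, fun S hS => hqs S fun h => hS ?_, fun j => ?_⟩
      · exact_mod_cast (show (μ S : ℚ) = 0 by rw [hμ, h, mul_zero])
      · have : (D : ℚ) * cN i j = ∑ S, if j ∈ S then (μ S : ℚ) else 0 := by
          rw [hqc j, Finset.mul_sum]
          simp [hμ, mul_ite]
        exact_mod_cast this
    choose D hD μ hμs hμc using hrat
    let Q : ℕ := ∏ i, D i
    have hQ : 0 < Q := Finset.prod_pos fun i _ => hD i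
    refine ⟨Q * (n * (n + 1)), Q * n, Nat.mul_pos hQ hn, Nat.mul_le_mul_left _ (by nlinarith),
      fun i => ?_⟩
    let Q' : ℕ := ∏ T ∈ Finset.univ.erase i, D T
    have hQQ : Q' * D i = Q := Finset.prod_erase_mul _ _ (Finset.mem_univ i)
    have hcnt : ∀ j, Multiset.card ((∑ S, Multiset.replicate (Q' * μ i S) S).filter (fun S => j ∈ S)) =
        if j = i then Q * (n * (n + 1)) - Q * n else Q * (n * (n + 1)) := by
      intro j
      rw [card_filter_replicate]
      have h1 : ∑ S, (if j ∈ S then Q' * μ i S else 0) = Q * cN i j := by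
        rw [← hQQ, mul_assoc, hμc, Finset.mul_sum]
        simp [mul_ite]
      rw [h1]
      simp only [cN]
      split
      · rw [← Nat.mul_sub]
        congr 1
        rw [mul_add, mul_one, Nat.add_sub_cancel]
      · rfl
    refine ⟨∑ S, Multiset.replicate (Q' * μ i S) S, fun h => ?_, fun S hS => ?_, hcnt⟩
    · have := hcnt i
      rw [h, if_pos rfl, ← Nat.mul_sub, mul_add, mul_one, Nat.add_sub_cancel] at this
      simp at this
      omega
    · rw [Multiset.mem_sum] at hS
      obtain ⟨T, -, hT⟩ := hS
      obtain ⟨hne, rfl⟩ := Multiset.mem_replicate.1 hT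
      exact hμs i S fun h0 => hne (by rw [h0, mul_zero])
  · rintro ⟨N, N₀, hN₀, hle, hP⟩ L hbot htop
    let A : Finset (Fin (m + 1)) := Finset.univ.filter fun j => x j ∈ L
    have hA : Set.ncard {i : Fin (m + 1) | x i ∈ L} = A.card := by
      rw [← Set.ncard_coe_finset]
      simp [A]
    have hd : 0 < Module.finrank K L := Nat.pos_of_ne_zero fun h =>
      hbot (Submodule.finrank_eq_zero.1 h)
    have hdn : Module.finrank K L < n := Submodule.finrank_lt htop
    have hbound : ∀ P : Multiset (Finset (Fin (m + 1))),
        (∀ S ∈ P, S.card = n ∧ LinearIndependent K (fun j : S => x j)) →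
        ∑ j ∈ A, Multiset.card (P.filter (fun S => j ∈ S)) ≤ Module.finrank K L * Multiset.card P ∧
        ∑ j, Multiset.card (P.filter (fun S => j ∈ S)) = n * Multiset.card P := by
      intro P hP'
      constructor
      · rw [sum_card_filter]
        refine (Multiset.sum_le_card_nsmul _ (Module.finrank K L) fun a ha => ?_).trans
          (by simp [mul_comm])
        obtain ⟨S, hS, rfl⟩ := Multiset.mem_map.1 ha
        exact card_inter_le x L (fun j hj => (Finset.mem_filter.1 hj).2) (hP' S hS).2
      · rw [sum_card_filter, Multiset.map_congr rfl (g := fun _ => n) fun S hS => by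
          rw [Finset.inter_univ]; exact (hP' S hS).1]
        simp [mul_comm]
    rw [hA]
    obtain ⟨i, hi⟩ : ∃ i, i ∉ A := by
      by_contra! hall
      obtain ⟨P, hP0, hPs, -⟩ := hP 0
      obtain ⟨S, hS⟩ := Multiset.exists_mem_of_ne_zero hP0
      have h1 := card_inter_le x L (A := A) (fun j hj => (Finset.mem_filter.1 hj).2) (hPs S hS).2
      rw [Finset.inter_eq_left.2 (fun j _ => hall j), (hPs S hS).1] at h1
      omega
    obtain ⟨P, -, hPs, hPc⟩ := hP i
    obtain ⟨h1, h2⟩ := hbound P hPs
    rw [Finset.sum_congr rfl (g := fun _ => N) fun j hj => by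
      rw [hPc, if_neg (fun h : j = i => hi (h ▸ hj))], Finset.sum_const, smul_eq_mul] at h1
    rw [← Finset.add_sum_erase _ _ (Finset.mem_univ i), hPc, if_pos rfl,
      Finset.sum_congr rfl (g := fun _ => N) fun j hj => by
        rw [hPc, if_neg (Finset.ne_of_mem_erase hj)],
      Finset.sum_const, smul_eq_mul, Finset.card_erase_of_mem (Finset.mem_univ i),
      Finset.card_univ, Fintype.card_fin, Nat.add_sub_cancel] at h2
    obtain ⟨M, hM⟩ := Nat.exists_eq_add_of_le hle
    rw [hM, Nat.add_sub_cancel_left] at h2
    by_contra hcon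
    push Not at hcon
    have h3 : Module.finrank K L * (m + 1) * N ≤ A.card * n * N := Nat.mul_le_mul_right N hcon
    have h4 : A.card * N * n ≤ Module.finrank K L * Multiset.card P * n := Nat.mul_le_mul_right n h1
    have h5 : Module.finrank K L * (M + m * (N₀ + M)) = Module.finrank K L * (n * Multiset.card P) := by
      rw [h2]
    rw [hM] at h3 h4
    nlinarith [Nat.mul_pos hd hN₀]

end Groth.Agent.S12552
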