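import Groth.Statements.S12553
import Groth.Agent.GitQuot.Linear

set_option autoImplicit false
universe u
open TensorProduct LaurentPolynomial
open GIT

namespace Groth.Agent.S12553

/-- Let k be a field and T = Spec A a diagonalizable affine group (A a commutative Hopf algebra spanned
by its group-like elements, e.g. a torus) acting linearly on affine ι-space. Then there are finitely
many characters χ_1, …, χ_N of T (group-like elements of A) such that every vector v ≠ 0 has a
non-empty set I of indices for which, for every one-parameter subgroup λ of T with λ(χ_j) = t^(e_j),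
the numerical function μ(v, λ) (the m for which t^m · (v moved by λ(t)) tends to a non-zero vector)
equals the maximum of −e_j over j ∈ I: μ is the maximum of finitely many linear functionals on
one-parameter subgroups. (The published proposition concerns a maximal torus of a reductive group
acting on a proper scheme with an ample linearised invertible sheaf; this row is the case of
projective space with the hyperplane bundle, for any diagonalizable group acting linearly, stated on
the affine cone.) -/
theorem result (k : Type u) [Field k]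
    (A : Type u) [CommRing A] [HopfAlgebra k A] (hdiag : HopfRep.IsDiagonalizable k A)
    (ι : Type u) [Fintype ι] [HopfRep.Comod k A (MvPolynomial ι k)] [GLin.IsCoactAlg k A (MvPolynomial ι k)]
    (hlin : GLin.IsLinear k A ι) :
    ∃ (N : ℕ) (χ : Fin N → A), (∀ j, IsGroupLikeElem k (χ j)) ∧
      ∀ v : ι → k, v ≠ 0 → ∃ I : Finset (Fin N), I.Nonempty ∧
        ∀ (lam : A →ₐc[k] k[T;T⁻¹]) (e : Fin N → ℤ), (∀ j, lam (χ j) = LaurentPolynomial.T (e j)) →
          ∀ m : ℤ, GLin.IsMu k A lam v m ↔ ((∀ j ∈ I, -e j ≤ m) ∧ ∃ j ∈ I, m = -e j) := by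
  classical
  let G := {a : A | IsGroupLikeElem k a}
  let b : Module.Basis G k A :=
    Module.Basis.mk (v := ((↑) : G → A)) linearIndepOn_isGroupLikeElem
      (by rw [Subtype.range_coe]; exact hdiag.ge)
  have hb : ∀ g : G, b g = (g : A) := fun g => Module.Basis.mk_apply _ _ g
  choose m hm using hlin
  let P : G → Matrix ι ι k := fun g => Matrix.of fun i j => b.repr (m i j) g
  let S : Finset G := Finset.univ.biUnion fun z : ι × ι => (b.repr (m z.1 z.2)).support
  have hS : ∀ g, g ∉ S → P g = 0 := fun g hg => by
    ext i j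
    by_contra h
    exact hg (Finset.mem_biUnion.2 ⟨(i, j), Finset.mem_univ _, Finsupp.mem_support_iff.2 h⟩)
  have hexp : ∀ i j, m i j = ∑ g ∈ S, P g i j • (g : A) := fun i j => by
    conv_lhs => rw [← b.linearCombination_repr (m i j)]
    rw [Finsupp.linearCombination_apply, Finsupp.sum]
    rw [Finset.sum_subset (show (b.repr (m i j)).support ⊆ S from
      fun g hg => Finset.mem_biUnion.2 ⟨(i, j), Finset.mem_univ _, hg⟩)
      (fun g _ hg => by rw [Finsupp.notMem_support_iff.1 hg, zero_smul])]
    refine Finset.sum_congr rfl fun g _ => ?_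
    rw [hb]
    rfl
  let sl : ι → MvPolynomial ι k →ₗ[k] k := fun l => MvPolynomial.lcoeff k (Finsupp.single l 1)
  have hsl : ∀ l j, sl l (MvPolynomial.X j) = if j = l then 1 else 0 := fun l j => by
    simp only [sl, MvPolynomial.lcoeff_apply, MvPolynomial.coeff_X,
      Finsupp.single_left_inj one_ne_zero]
  have hcounit : ∀ i l, Coalgebra.counit (R := k) (m i l) = if i = l then 1 else 0 := by
    intro i l
    have h := LinearMap.congr_fun (HopfRep.Comod.counit_comp (k := k) (A := A) (V := MvPolynomial ι k))
      (MvPolynomial.X i)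
    simp only [LinearMap.comp_apply, hm, map_sum, LinearMap.lTensor_tmul] at h
    have h2 := congrArg ((TensorProduct.lid k k).toLinearMap ∘ₗ (sl l).rTensor k) h
    simpa [hsl, LinearMap.rTensor_tmul] using h2
  have hcomul : ∀ i l, Coalgebra.comul (R := k) (m i l) = ∑ j, m j l ⊗ₜ[k] m i j := by
    intro i l
    have h := LinearMap.congr_fun (HopfRep.Comod.coassoc (k := k) (A := A) (V := MvPolynomial ι k))
      (MvPolynomial.X i)
    simp only [LinearMap.comp_apply, hm, map_sum, LinearMap.lTensor_tmul, LinearMap.rTensor_tmul,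
      TensorProduct.sum_tmul, LinearEquiv.coe_coe, TensorProduct.assoc_tmul] at h
    have h2 := congrArg ((TensorProduct.lid k (A ⊗[k] A)).toLinearMap ∘ₗ (sl l).rTensor (A ⊗[k] A)) h
    simpa [hsl, LinearMap.rTensor_tmul] using h2.symm
  have hmulP : ∀ g g' : G, P g' * P g = if g = g' then P g else 0 := by
    intro g g'
    ext i l
    have h2 := congrArg ((TensorProduct.lid k k).toLinearMap ∘ₗ
      TensorProduct.map (b.coord g) (b.coord g')) (hcomul i l)
    simp only [LinearMap.comp_apply, LinearEquiv.coe_coe, map_sum, TensorProduct.map_tmul,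
      TensorProduct.lid_tmul, smul_eq_mul, Module.Basis.coord_apply] at h2
    rw [Matrix.mul_apply]
    have h3 : ∑ j, P g' i j * P g j l = ∑ j, b.repr (m j l) g * b.repr (m i j) g' :=
      Finset.sum_congr rfl fun j _ => mul_comm _ _
    rw [h3, ← h2, hexp i l, map_sum]
    have hterm : ∀ g₀ : G, TensorProduct.lid k k (TensorProduct.map (b.coord g) (b.coord g')
        (Coalgebra.comul (R := k) (g₀ : A))) = if g₀ = g ∧ g₀ = g' then 1 else 0 := fun g₀ => by
      rw [g₀.2.comul_eq_tmul_self, ← hb, TensorProduct.map_tmul, TensorProduct.lid_tmul,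
        Module.Basis.coord_apply, Module.Basis.coord_apply, b.repr_self, Finsupp.single_apply,
        Finsupp.single_apply]
      by_cases h1 : g₀ = g <;> by_cases h4 : g₀ = g' <;> simp [h1, h4] <;> simp_all
    simp only [map_sum, map_smul, hterm, smul_eq_mul]
    by_cases hgg : g = g'
    · subst hgg
      rw [if_pos rfl]
      by_cases hgS : g ∈ S
      · rw [Finset.sum_eq_single g (fun x _ hx => by simp [hx]) (fun h => absurd hgS h)]
        simp
      · rw [hS g hgS]
        refine Finset.sum_eq_zero fun x hx => ?_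
        simp [show x ≠ g from fun h => hgS (h ▸ hx)]
    · rw [if_neg hgg, Matrix.zero_apply]
      refine Finset.sum_eq_zero fun x _ => ?_
      rw [if_neg (fun h => hgg (h.1.symm.trans h.2)), mul_zero]
  let χ : Fin S.card → A := fun j => ((S.equivFin.symm j : G) : A)
  refine ⟨S.card, χ, fun j => (S.equivFin.symm j : G).2, fun v hv => ?_⟩
  let w : G → ι → k := fun g => (P g).mulVec v
  have hsum : ∑ g ∈ S, w g = v := by
    funext i
    simp only [w, Finset.sum_apply, Matrix.mulVec, dotProduct]
    rw [Finset.sum_comm, Finset.sum_eq_single i]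
    · rw [← Finset.sum_mul]
      have h := hcounit i i
      rw [hexp, map_sum, if_pos rfl] at h
      rw [Finset.sum_congr rfl fun g _ => ?_, h, one_mul]
      rw [map_smul, (g.2).counit_eq_one, smul_eq_mul, mul_one]
    · intro j _ hj
      rw [← Finset.sum_mul]
      have h := hcounit i j
      rw [hexp, map_sum, if_neg (Ne.symm hj)] at h
      rw [Finset.sum_congr rfl fun g _ => ?_, h, zero_mul]
      rw [map_smul, (g.2).counit_eq_one, smul_eq_mul, mul_one]
    · exact fun h => absurd (Finset.mem_univ i) h
  let I : Finset (Fin S.card) := Finset.univ.filter fun j => w (S.equivFin.symm j : G) ≠ 0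
  have hI : I.Nonempty := by
    by_contra hno
    refine hv ?_
    rw [← hsum]
    refine Finset.sum_eq_zero fun g hg => ?_
    by_contra hg0
    exact hno ⟨S.equivFin ⟨g, hg⟩, Finset.mem_filter.2 ⟨Finset.mem_univ _, by simpa using hg0⟩⟩
  refine ⟨I, hI, fun lam e he μ => ?_⟩
  let e' : G → ℤ := fun g => if hg : g ∈ S then e (S.equivFin ⟨g, hg⟩) else 0
  have he' : ∀ g ∈ S, lam (g : A) = T (e' g) := fun g hg => by
    simp only [e', dif_pos hg, ← he, χ]
    simp
  have hcoord : ∀ i, Groth.GitQuot.lamCoord lam v i = ∑ g ∈ S, w g i • (T (e' g) : k[T;T⁻¹]) := by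
    intro i
    simp only [Groth.GitQuot.lamCoord, GLin.lamOrbit, GLin.orbitHom, AlgHom.comp_apply,
      GLin.coactAlgHom_apply, hm, map_sum, Algebra.TensorProduct.map_tmul, AlgHom.id_apply]
    simp only [GLin.vecPt, MvPolynomial.aeval_X, w, Matrix.mulVec, dotProduct, Finset.sum_smul]
    rw [Finset.sum_comm (s := S)]
    refine Finset.sum_congr rfl fun j _ => ?_
    rw [hexp i j, TensorProduct.tmul_sum, map_sum, map_sum]
    refine Finset.sum_congr rfl fun g hg => ?_
    erw [Algebra.TensorProduct.lid_tmul]
    rw [smul_smul, map_smul, mul_comm]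
    exact congrArg _ (he' g hg)
  have hcoeff : ∀ i n, (Groth.GitQuot.lamCoord lam v i).coeff n =
      ∑ g ∈ S.filter (fun g => e' g = n), w g i := by
    intro i n
    rw [hcoord, Finset.sum_filter]
    simp only [AddMonoidAlgebra.coeff_sum, AddMonoidAlgebra.coeff_smul, Finsupp.finsetSum_apply,
      Finsupp.smul_apply, smul_eq_mul, T_apply]
    refine Finset.sum_congr rfl fun g _ => ?_
    by_cases h : e' g = n <;> simp [h]
  have hnz : ∀ n : ℤ, (∃ i, (Groth.GitQuot.lamCoord lam v i).coeff n ≠ 0) ↔ ∃ j ∈ I, e j = n := by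
    intro n
    constructor
    · rintro ⟨i, hi⟩
      rw [hcoeff] at hi
      obtain ⟨g, hg, hgi⟩ := Finset.exists_ne_zero_of_sum_ne_zero hi
      obtain ⟨hgS, hgn⟩ := Finset.mem_filter.1 hg
      refine ⟨S.equivFin ⟨g, hgS⟩, Finset.mem_filter.2 ⟨Finset.mem_univ _, ?_⟩, ?_⟩
      · simp only [Equiv.symm_apply_apply]
        exact fun h => hgi (congrFun h i)
      · simpa [e', hgS] using hgn
    · rintro ⟨j, hj, hjn⟩
      by_contra hno
      push Not at hno
      obtain ⟨g0, hg0S⟩ : ∃ g0 : S, g0 = S.equivFin.symm j := ⟨_, rfl⟩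
      refine (Finset.mem_filter.1 hj).2 ?_
      rw [← hg0S]
      have hzero : ∑ g ∈ S.filter (fun g => e' g = n), w g = 0 := by
        funext i
        rw [Finset.sum_apply]
        exact (hcoeff i n).symm.trans (hno i)
      have h := congrArg (P g0).mulVec hzero
      rw [Matrix.mulVec_sum, Matrix.mulVec_zero, Finset.sum_eq_single (g0 : G)] at h
      · rwa [show (P g0).mulVec (w g0) = w g0 by
          simp only [w, Matrix.mulVec_mulVec]; rw [hmulP, if_pos rfl]] at h
      · intro g _ hg
        simp only [w, Matrix.mulVec_mulVec]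
        rw [hmulP, if_neg hg, Matrix.zero_mulVec]
      · intro h'
        refine absurd (Finset.mem_filter.2 ⟨g0.2, ?_⟩) h'
        simp only [e', Subtype.coe_eta, hg0S, Equiv.apply_symm_apply, hjn]
        rw [dif_pos (S.equivFin.symm j).2]
  rw [Groth.GitQuot.isMu_iff, hnz]
  constructor
  · rintro ⟨h1, j, hj, hje⟩
    refine ⟨fun l hl => ?_, j, hj, by omega⟩
    by_contra hlt
    obtain ⟨i, hi⟩ := (hnz (e l)).2 ⟨l, hl, rfl⟩
    exact hi (h1 i (e l) (by omega))
  · rintro ⟨h1, j, hj, hje⟩
    refine ⟨fun i n hn => ?_, j, hj, by omega⟩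
    by_contra hne
    obtain ⟨l, hl, hle⟩ := (hnz n).1 ⟨i, hne⟩
    have := h1 l hl
    omega

end Groth.Agent.S12553
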