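import Groth.Statements.S12580
import Groth.Agent.Funfld2.Residue.Theorem

set_option autoImplicit false
universe u v w
open FunFld

namespace Groth.Agent.S12580

/-- In a function field of one variable `K/k`, `Res_P(u dv) = 0` when `u, v ∈ O_P` (already before the
trace), and for a repartition `α` and `v ∈ K`, `Res_P(α_P dv) = 0` for almost all `P`; residues read
through Laurent expansions over `k` at every place. -/
theorem result (k : Type u) (K : Type v) [Field k] [Field K] [Algebra k K] (hK : FunFld.IsFunctionField k K)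
    (F : FunFld.Place k K → Type w) [∀ P, Field (F P)] [∀ P, Algebra k (F P)] [∀ P, FiniteDimensional k (F P)]
    (φ : ∀ P, K →ₐ[k] LaurentSeries (F P)) (hφ : ∀ P, LocRes.IsExpansionAt P.1 (φ P)) :
    (∀ (P : FunFld.Place k K) (u v : K), P.1 u ≤ 1 → P.1 v ≤ 1 → LocRes.resExp (φ P) u v = 0) ∧
    ∀ (a : FunFld.Place k K → K), a ∈ FunFld.adele k K → ∀ v : K,
      {P : FunFld.Place k K | LocRes.resExp (φ P) (a P) v ≠ 0}.Finite := by
  have hint : ∀ (P : FunFld.Place k K) (u v : K), P.1 u ≤ 1 → P.1 v ≤ 1 →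
      LocRes.resExp (φ P) u v = 0 := by
    intro P u v hu hv
    have hz : ∀ z : K, P.1 z ≤ 1 → ∀ i < (0 : ℤ), (φ P z).coeff i = 0 := fun z hz i hi =>
      Groth.Funfld2.Residue.coeff_eq_zero_of_val (N := 0)
        (by rw [(hφ P).1, WithZero.exp_zero]; exact hz) (by omega)
    have hD : ∀ i < (0 : ℤ), (LocRes.D (F P) (φ P v)).coeff i = 0 := fun i hi => by
      rw [LocRes.D_coeff]
      rcases (Int.add_one_le_iff.2 hi).lt_or_eq with h | h
      · rw [hz v hv _ h, smul_zero]
      · rw [h, zero_smul]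
    rw [LocRes.resExp, LocRes.res_apply, Groth.Funfld2.Residue.coeff_mul_eq_sum (hz u hu) hD,
      Finset.Icc_eq_empty (by omega), Finset.sum_empty]
  refine ⟨hint, fun a ha v => ?_⟩
  have hv : ∀ᶠ P : FunFld.Place k K in Filter.cofinite, P.1 v ≤ 1 :=
    (Groth.Funfld2.Residue.eventually_integral φ hK hφ v).mono fun P hP => by
      rwa [(hφ P).1] at hP
  have ha' : ∀ᶠ P : FunFld.Place k K in Filter.cofinite, P.1 (a P) ≤ 1 := ha
  refine (Filter.eventually_cofinite.1 (ha'.and hv)).subset fun P hP hgood => hP ?_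
  exact hint P (a P) v hgood.1 hgood.2

end Groth.Agent.S12580
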