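import Groth.Statements.S12584
import Groth.Agent.Funfld2.Quad.Hyperelliptic

set_option autoImplicit false
universe u v w
open FunFld Groth.FunFld1

namespace Groth.Agent.S12584

/-- For `char k ≠ 2` and `K` of degree `2` over `k(x)` with `y² = f(x)`, `f` squarefree of degree `≥ 1`,
the forms `x^i dx/y`, `0 ≤ i < g`, are a `k`-basis of the regular differential forms: each is
regular, and every regular `z dx` has `z = a(x)/y` with `deg a < g`; regularity read through Laurent
expansions over `k` at every place (all places separable). -/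
theorem result (k : Type u) (K : Type v) [Field k] [Field K] [Algebra k K] [Algebra (RatFunc k) K] [IsScalarTower k (RatFunc k) K]
    (hK : FunFld.IsFunctionField k K) (hdeg : Module.finrank (RatFunc k) K = 2) (h2 : ringChar k ≠ 2)
    (y : K) (f : Polynomial k) (hf : Squarefree f) (hd : 1 ≤ f.natDegree)
    (heq : y ^ 2 = algebraMap (RatFunc k) K (algebraMap (Polynomial k) (RatFunc k) f))
    (F : FunFld.Place k K → Type w) [∀ P, Field (F P)] [∀ P, Algebra k (F P)] [∀ P, FiniteDimensional k (F P)]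
    (φ : ∀ P, K →ₐ[k] LaurentSeries (F P)) (hφ : ∀ P, LocRes.IsExpansionAt P.1 (φ P)) :
    (∀ i : ℕ, i < FunFld.genus k K → ∀ P,
      LocRes.vDiff (φ P) (algebraMap (RatFunc k) K RatFunc.X ^ i / y) (algebraMap (RatFunc k) K RatFunc.X) ≤ 1) ∧
    ∀ z : K, (∀ P, LocRes.vDiff (φ P) z (algebraMap (RatFunc k) K RatFunc.X) ≤ 1) →
      ∃ a : Polynomial k, a.degree < (FunFld.genus k K : WithBot ℕ) ∧
        z = algebraMap (RatFunc k) K (algebraMap (Polynomial k) (RatFunc k) a) / y := by
  classical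
  have := Groth.Funfld2.Quad.isSeparable_of_two_ne_zero hdeg
    (Groth.Funfld2.Quad.two_ne_zero_ratFunc h2)
  have hF := Groth.FunFld1.IsFF.of_isFunctionField hK
  have hgeo := Groth.Funfld2.Quad.isGeometric (k := k) (K := K) hK
  have hDx := Groth.Funfld2.Quad.D_x_ne_zero (k := k) (K := K)
  obtain ⟨hgen, C, hcan, hCP⟩ :=
    Groth.Funfld2.Quad.genus_and_canonical hK hdeg h2 hf hd heq F φ hφ
  set g := FunFld.genus k K with hg_def
  set xK := algebraMap (RatFunc k) K RatFunc.X with hxK
  have hy0 : y ≠ 0 := fun e => Groth.Funfld2.Quad.not_mem_range_of_squarefree (K := K) hf hd heq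
    ⟨0, by rw [e, map_zero]⟩
  have hx0 : xK ≠ 0 := by rw [hxK, map_ne_zero]; exact RatFunc.X_ne_zero
  have hiff : ∀ z : K, (∀ P, LocRes.vDiff (φ P) z xK ≤ 1) ↔ z ∈ FunFld.L C := by
    intro z
    have := Groth.Funfld2.Residue.forall_vDiff_le_iff hK φ hφ hgeo hDx hCP 0 z
    simpa using this
  have hmem : ∀ i < g, xK ^ i / y ∈ FunFld.L C := by
    intro i hi P
    have h0 : xK ^ i / y ≠ 0 := div_ne_zero (pow_ne_zero _ hx0) hy0
    rw [Groth.FunFld1.val_eq_exp_neg_ord P h0, WithZero.exp_le_exp, hCP P,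
      Groth.Funfld2.Quad.ordDiff_kummer hK hdeg h2 hf hd heq F φ hφ P, ← hgen,
      hF.zeroDiv_apply, Groth.FunFld1.ord_inv, ← hxK, div_eq_mul_inv,
      Groth.FunFld1.ord_mul P (pow_ne_zero _ hx0) (inv_ne_zero hy0), Groth.FunFld1.ord_inv,
      Groth.FunFld1.ord_eq_of_val_eq P (x := xK ^ i) (n := -((i : ℤ) * P.ord xK)) (by
        rw [map_pow, Groth.FunFld1.val_eq_exp_neg_ord P hx0, ← WithZero.exp_nsmul, nsmul_eq_mul]
        congr 1; ring)]
    rcases le_or_gt 0 (P.ord xK) with h | h
    · rw [max_eq_right (by omega)]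
      have := mul_nonneg (Int.natCast_nonneg i) h
      omega
    · rw [max_eq_left (by omega)]
      have : ((g : ℤ) - 1 - i) * P.ord xK ≤ 0 :=
        mul_nonpos_of_nonneg_of_nonpos (by omega) h.le
      rw [sub_mul, sub_mul, one_mul] at this
      rw [sub_mul, one_mul, mul_neg]
      omega
  refine ⟨fun i hi => (hiff _).2 (hmem i hi), fun z hz => ?_⟩
  let ι : Polynomial k →ₗ[k] K := ((LinearMap.mulRight k y⁻¹).comp
    (Polynomial.aeval (R := k) xK).toLinearMap)
  let W := (Polynomial.degreeLT k g).map ι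
  have hinj : Function.Injective ι := by
    intro a b hab
    refine transcendental_iff_injective.1 (Groth.Funfld2.Quad.transcendental_x (k := k) (K := K)) ?_
    exact mul_right_cancel₀ (inv_ne_zero hy0) hab
  have hW : W ≤ FunFld.L C := by
    refine Submodule.map_le_iff_le_comap.2 fun a ha => ?_
    rw [Polynomial.degreeLT_eq_span_X_pow] at ha
    refine (Submodule.span_le.2 ?_) ha
    intro q hq
    simp only [Finset.coe_image, Finset.coe_range, Set.mem_image, Set.mem_Iio] at hq
    obtain ⟨i, hi, rfl⟩ := hq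
    show ι (Polynomial.X ^ i) ∈ FunFld.L C
    simpa [ι, div_eq_mul_inv] using hmem i hi
  have := hF.finiteDimensional_L C
  have heqW : W = FunFld.L C := Submodule.eq_of_le_of_finrank_eq hW (by
    rw [(Submodule.equivMapOfInjective ι hinj _).finrank_eq.symm,
      (Polynomial.degreeLTEquiv k g).finrank_eq, Module.finrank_fin_fun]
    exact (Groth.FunFld1.ell_canonical hK hcan).symm)
  have hzW : z ∈ W := heqW.symm ▸ (hiff z).1 hz
  obtain ⟨a, ha, rfl⟩ := hzW
  refine ⟨a, Polynomial.mem_degreeLT.1 ha, ?_⟩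
  rw [Groth.Funfld2.Quad.map_poly, div_eq_mul_inv]
  rfl
end Groth.Agent.S12584
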