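import Groth.Statements.S12587
import Groth.Agent.Funfld2.Quad.ASDiff

set_option autoImplicit false
universe u v w
open FunFld Groth.FunFld1

namespace Groth.Agent.S12587

/-- For `k` perfect of characteristic `2` and `K = k(x, y)` with `y² + y = f(x)`, all poles of `f` of
odd order `2d_i - 1` at `p_i`, and `q = ∏ p_i^{d_i}` over the finite poles, the forms `x^i dx/q(x)`,
`0 ≤ i < g`, are a `k`-basis of the regular differential forms; regularity read through Laurent
expansions over `k` at every place; `q` is pinned up to a constant by its orders at the finite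
places. -/
theorem result (k : Type u) (K : Type v) [Field k] [Field K] [Algebra k K] [Algebra (RatFunc k) K] [IsScalarTower k (RatFunc k) K]
    (hK : FunFld.IsFunctionField k K) (hdeg : Module.finrank (RatFunc k) K = 2) [PerfectField k] (h2 : ringChar k = 2)
    [Algebra.IsSeparable (RatFunc k) K]
    (y : K) (hy : y ∉ Set.range (algebraMap (RatFunc k) K)) (f : RatFunc k)
    (heq : y ^ 2 + y = algebraMap (RatFunc k) K f)
    (hodd : ∀ p : FunFld.Place k (RatFunc k), 1 < p.1 f → Odd (p.ord f))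
    (q : Polynomial k) (hq0 : q ≠ 0)
    (hq : ∀ p : FunFld.Place k (RatFunc k), p.1 RatFunc.X ≤ 1 →
      p.ord (algebraMap (Polynomial k) (RatFunc k) q) = if 1 < p.1 f then (1 - p.ord f) / 2 else 0)
    (F : FunFld.Place k K → Type w) [∀ P, Field (F P)] [∀ P, Algebra k (F P)] [∀ P, FiniteDimensional k (F P)]
    (φ : ∀ P, K →ₐ[k] LaurentSeries (F P)) (hφ : ∀ P, LocRes.IsExpansionAt P.1 (φ P)) :
    (∀ i : ℕ, i < FunFld.genus k K → ∀ P,
      LocRes.vDiff (φ P) (algebraMap (RatFunc k) K (RatFunc.X ^ i / algebraMap (Polynomial k) (RatFunc k) q))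
        (algebraMap (RatFunc k) K RatFunc.X) ≤ 1) ∧
    ∀ z : K, (∀ P, LocRes.vDiff (φ P) z (algebraMap (RatFunc k) K RatFunc.X) ≤ 1) →
      ∃ a : Polynomial k, a.degree < (FunFld.genus k K : WithBot ℕ) ∧
        z = algebraMap (RatFunc k) K (algebraMap (Polynomial k) (RatFunc k) a / algebraMap (Polynomial k) (RatFunc k) q) := by
  have hgeo := Groth.Funfld2.Quad.isGeometric (k := k) (K := K) hK
  have hDx := Groth.Funfld2.Quad.D_x_ne_zero (k := k) (K := K)
  obtain ⟨-, C, hcan, hCP, hC⟩ :=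
    Groth.Funfld2.Quad.canonical_as hK hdeg h2 hy heq hodd hq0 hq F φ hφ
  have hw : algebraMap (RatFunc k) K (algebraMap (Polynomial k) (RatFunc k) q) ≠ 0 := by
    rw [map_ne_zero]; exact RatFunc.algebraMap_ne_zero hq0
  obtain ⟨hmem, -, hspan⟩ := Groth.Funfld2.Quad.L_canonical_eq hK hcan hw hC
  have hiff : ∀ z : K, (∀ P, LocRes.vDiff (φ P) z (algebraMap (RatFunc k) K RatFunc.X) ≤ 1) ↔
      z ∈ FunFld.L C := by
    intro z
    have := Groth.Funfld2.Residue.forall_vDiff_le_iff hK φ hφ hgeo hDx hCP 0 z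
    simpa using this
  refine ⟨fun i hi => (hiff _).2 ?_, fun z hz => ?_⟩
  · rw [map_div₀, map_pow]; exact hmem i hi
  · obtain ⟨a, ha, rfl⟩ := hspan z ((hiff z).1 hz)
    exact ⟨a, ha, by rw [map_div₀]⟩
end Groth.Agent.S12587
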