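import Groth.Statements.S12588
import Groth.Agent.Funfld2.Different.Total
import Groth.Agent.Funfld2.Quad.Rat
import Groth.Agent.FunFld1.Geometric

set_option autoImplicit false
universe u v w
open FunFld Groth.FunFld1

namespace Groth.Agent.S12588

/-- For `k` perfect of characteristic `2`, `K` separable of degree `2` over `k(x)` with `y² + y = f(x)`,
and a place `p` of `k(x)` where `f` has a pole whose order `2d - 1` is odd: a place `P` of `K` above
`p` with ramification index `e` (necessarily `e = 2`, `P` unique) has different exponent `d(P|p) =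
2d = 1 - ord_p(f)`; the exponent is computed on `dz` through Laurent expansions over `k` at `p` and
`P`. -/
theorem result (k : Type u) (K : Type v) [Field k] [Field K] [Algebra k K] [Algebra (RatFunc k) K] [IsScalarTower k (RatFunc k) K]
    (hK : FunFld.IsFunctionField k K) (hdeg : Module.finrank (RatFunc k) K = 2) [PerfectField k] (h2 : ringChar k = 2)
    [Algebra.IsSeparable (RatFunc k) K]
    (y : K) (hy : y ∉ Set.range (algebraMap (RatFunc k) K)) (f : RatFunc k)
    (heq : y ^ 2 + y = algebraMap (RatFunc k) K f)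
    (p : FunFld.Place k (RatFunc k)) (hp : 1 < p.1 f) (hodd : Odd (p.ord f))
    (P : FunFld.Place k K) (e : ℕ) (he : FunFld.IsOverWith P p e)
    (F F' : Type w) [Field F] [Algebra k F] [Field F'] [Algebra k F']
    (φ : RatFunc k →ₐ[k] LaurentSeries F) (hφ : LocRes.IsExpansionAt p.1 φ)
    (ψ : K →ₐ[k] LaurentSeries F') (hψ : LocRes.IsExpansionAt P.1 ψ)
    (z : RatFunc k) (hz : LocRes.vDiff φ 1 z ≠ 0) (hz' : LocRes.vDiff ψ 1 (algebraMap (RatFunc k) K z) ≠ 0) :
    LocRes.diffExp φ ψ e z = 1 - p.ord f := by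
  have hF := Groth.Funfld2.Rat.isFF (k := k)
  have := Groth.Funfld2.Quad.finite hdeg
  have hgg : FunFld.IsGeometric k (RatFunc k) :=
    Groth.FunFld1.isGeometric_of_perfectField Groth.Funfld2.Rat.isFunctionField
  have h2F := Groth.Funfld2.Quad.two_eq_zero_ratFunc (k := k) h2
  have h2K : (2 : K) = 0 := by rw [← map_ofNat (algebraMap (RatFunc k) K) 2, h2F, map_zero]
  have hy0 : y ≠ 0 := fun h => hy ⟨0, by rw [h, map_zero]⟩
  have hgt : 1 < P.1 (algebraMap (RatFunc k) K f) :=
    not_le.1 fun h => not_le.2 hp ((Groth.FunFld1.overWith_le_one_iff he f).1 h)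
  have hyv : 1 < P.1 y := by
    by_contra hle
    rw [not_lt] at hle
    rw [← heq] at hgt
    exact absurd hgt (not_lt.2
      (Valuation.map_add_le _ (by rw [map_pow]; exact pow_le_one₀ zero_le hle) hle))
  have hord : P.ord (algebraMap (RatFunc k) K f) = 2 * P.ord y := by
    rw [← heq, Groth.FunFld1.ord_eq_of_val_eq P (n := -(2 * P.ord y)) (by
      rw [Valuation.map_add_eq_of_lt_left _ (by rw [map_pow]; exact lt_self_pow₀ hyv one_lt_two),
        map_pow, Groth.FunFld1.val_eq_exp_neg_ord P hy0, ← WithZero.exp_nsmul, nsmul_eq_mul]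
      congr 1; ring), neg_neg]
  have he2' := Groth.Funfld2.Quad.two_of_odd hF hdeg (Groth.FunFld1.overWith_isOver he) hord hodd
  have he2 : e = 2 := Groth.FunFld1.isOverWith_unique he he2'
  subst he2
  rw [Groth.FunFld1.overWith_ord he] at hord
  push_cast at hord
  obtain ⟨t, ht0, ht⟩ := Groth.FunFld1.exists_uniformizer p
  obtain ⟨j, hj⟩ := hodd
  have hneg : p.ord f < 0 := (Groth.FunFld1.one_lt_val_iff p f).1 hp
  obtain ⟨m, hm⟩ := Int.eq_ofNat_of_zero_le (show 0 ≤ -j by omega)
  set s := algebraMap (RatFunc k) K (t ^ m) * y with hs_def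
  have htm : P.1 (algebraMap (RatFunc k) K (t ^ m)) = WithZero.exp (-(2 * m : ℤ)) := by
    rw [he, map_pow, ht, ← WithZero.exp_nsmul, ← WithZero.exp_nsmul]
    congr 1; simp only [nsmul_eq_mul]; push_cast; ring
  have hs : P.1 s = WithZero.exp (-1 : ℤ) := by
    rw [hs_def, map_mul, htm, Groth.FunFld1.val_eq_exp_neg_ord P hy0, ← WithZero.exp_add]
    congr 1; omega
  have hd := Groth.Funfld2.Different.diffExp_totally hF hgg he hφ hψ hz hz' hdeg.symm hs
  rw [← hd]
  have hint := IsIntegral.of_finite (RatFunc k) s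
  have hpoly : minpoly (RatFunc k) s = Polynomial.X ^ 2 +
      (Polynomial.C (t ^ m) * Polynomial.X + Polynomial.C (-((t ^ m) ^ 2 * f))) := by
    refine (Polynomial.eq_of_monic_of_dvd_of_natDegree_le (minpoly.monic hint)
      (Polynomial.monic_X_pow_add (Polynomial.degree_linear_le.trans_lt (by norm_num)))
      (minpoly.dvd _ _ ?_) ?_).symm
    · simp only [map_add, map_mul, map_neg, map_pow, Polynomial.aeval_X, Polynomial.aeval_C,
        hs_def, ← heq]
      ring
    · rw [(Groth.Funfld2.Different.eisenstein he hdeg.symm hs).1]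
      compute_degree!
  rw [hpoly]
  simp only [map_add, Polynomial.derivative_X_pow, Polynomial.derivative_C_mul_X,
    Polynomial.derivative_C, map_mul, map_zero, add_zero, Polynomial.aeval_C, map_natCast,
    Nat.cast_ofNat, map_ofNat, h2K, zero_mul, zero_add]
  rw [Groth.FunFld1.ord_eq_of_val_eq P htm]
  omega
end Groth.Agent.S12588
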