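import Groth.Statements.S12591
import Groth.Agent.Funfld2.Small.Splitting

set_option autoImplicit false
universe u v
open FunFld

namespace Groth.Agent.S12591

/-- Every place `P` of a geometric function field of one variable `K/k` has a splitting field of finite
degree over `k`: a finite extension `k'` such that every place of `k' ⊗_k K` above `P` has degree
one over `k'`. (The finiteness of the set of singular places and the existence of a purely
inseparable `k'` making `k' ⊗_k K` nonsingular are not stated here.) -/
theorem result (k : Type u) (K : Type v) [Field k] [Field K] [Algebra k K]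
    (hK : FunFld.IsFunctionField k K) (hg : FunFld.IsGeometric k K) (P : FunFld.Place k K) :
    ∃ (k' : Type u) (_ : Field k') (_ : Algebra k k'), FiniteDimensional k k' ∧
      ∀ (K' : Type v) [Field K'] [Algebra K K'] [Algebra k' K'] [Algebra k K']
        [IsScalarTower k k' K'] [IsScalarTower k K K'],
        Function.Bijective (Algebra.TensorProduct.productMap
          (IsScalarTower.toAlgHom k k' K') (IsScalarTower.toAlgHom k K K')) →
        ∀ Q : FunFld.Place k' K', P.1.HasExtension Q.1 → Q.deg = 1 := by
  obtain ⟨k', hfin, H⟩ := Groth.Funfld2.Small.Splitting.exists_splitting hK hg P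
  refine ⟨k', inferInstance, inferInstance, hfin, ?_⟩
  intro K' _ _ _ _ _ _ hK' Q hQP
  refine H K' hK' Q fun z hz => ?_
  rw [← not_le] at hz ⊢
  exact fun h => hz ((Valuation.HasExtension.val_isEquiv_comap (vR := P.1) (vA := Q.1)).le_one_iff_le_one.2 h)

end Groth.Agent.S12591
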