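import Groth.Statements.S12599
import Groth.Agent.Funfld2.Hasse.AtPlace

set_option autoImplicit false
open FunFld

namespace Groth.Agent.S12599

/-- Over an algebraically closed constant field, for a place `P` with local parameter `t`, and a
linearly independent tuple `φ = (φ₀, …, φₙ)` of functions integral at `P`, the matrix of values at
`P` of the Hasse derivatives `D_t^(j)(φᵢ)`, `j = 0, 1, …`, has rank `n + 1`: its rows are linearly
independent over the residue field. -/
theorem result
    (k K : Type*) [Field k] [IsAlgClosed k] [Field K] [Algebra k K]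
    (hK : FunFld.IsFunctionField k K) {n : ℕ} (φ : Fin (n + 1) → K) (hφ : LinearIndependent k φ)
    (P : FunFld.Place k K) (hint : ∀ i, P.1 (φ i) ≤ 1) (t : K) (ht : P.1 t = WithZero.exp (-1))
    (Ht : K →ₐ[k] PowerSeries K) (hHt : LocRes.IsHasseFamily t Ht) :
    LinearIndependent (IsLocalRing.ResidueField P.O)
      (fun i : Fin (n + 1) => fun j : ℕ => FunFld.evalP P (LocRes.hasseD Ht j (φ i))) := by
  have hdeg : P.deg = 1 := (Groth.Funfld2.good_of_algClosed hK).deg_one P
  have := Groth.Funfld2.Hasse.isSeparable_of_hasse hK hHt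
  rw [Fintype.linearIndependent_iff]
  intro a ha
  obtain ⟨hinj, hsurj⟩ := Groth.Funfld2.Hasse.residue_bijective (P := P) hdeg
  choose b hb using fun i => hsurj (a i)
  have hz : ∑ i, b i • φ i = 0 := by
    refine (map_eq_zero (Groth.Funfld2.Hasse.expansion hdeg ht)).1 ?_
    ext i
    rw [Groth.Funfld2.Hasse.coeff_sum_smul, HahnSeries.coeff_zero]
    rcases lt_or_ge i 0 with h | h
    · exact Finset.sum_eq_zero fun l _ => by
        rw [(Groth.Funfld2.Hasse.val_le_one_iff_coeff hdeg ht _).1 (hint l) i h, mul_zero]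
    · obtain ⟨m, rfl⟩ := Int.eq_ofNat_of_zero_le h
      refine hinj ?_
      have h1 := congrFun ha m
      simp only [Finset.sum_apply, Pi.smul_apply, Pi.zero_apply, smul_eq_mul] at h1
      rw [map_zero, map_sum, ← h1]
      refine Finset.sum_congr rfl fun l _ => ?_
      rw [map_mul, hb, Groth.Funfld2.Hasse.evalP_eq_coeff hdeg ht
        (Groth.Funfld2.Hasse.val_hasseD_le_one hdeg ht hHt m (hint l)),
        Groth.Funfld2.Hasse.coeff_zero_hasseD hdeg ht hHt]
  intro i
  rw [← hb i, Fintype.linearIndependent_iff.1 hφ b hz i, map_zero]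

end Groth.Agent.S12599
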