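import Groth.Statements.S12608
import Groth.Agent.Funfld2.Hasse.Weierstrass

set_option autoImplicit false
open FunFld

namespace Groth.Agent.S12608

/-- Over an algebraically closed constant field, let `φ = (φ₀, …, φₙ)` be an effective projective map
normalized at the place `P`, `t` a local parameter at `P`, `j₁, …, jₙ` the orders of `φ` and `j'₁,
…, j'ₙ` the orders of `φ` at `P`. Then `jₗ ≤ j'ₗ` for all `l`, and the following are equivalent: all
`j'ₗ = jₗ`; the Wronskian `w_t(φ)` does not vanish at `P`; the Weierstrass divisor `W(φ)` has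
coefficient `0` at `P` (the divisor of `dt` in it read through a family of Laurent expansions). -/
theorem result
    (k K : Type*) [Field k] [IsAlgClosed k] [Field K] [Algebra k K]
    (hK : FunFld.IsFunctionField k K) (P : FunFld.Place k K) {n : ℕ} (φ : Fin (n + 1) → K) (hφ : LinearIndependent k φ)
    (heff : (1 : K) ∈ Submodule.span k (Set.range φ)) (hnorm : ∀ i, P.1 (φ i) ≤ 1)
    (t : K) (ht : P.1 t = WithZero.exp (-1))
    (Ht : K →ₐ[k] PowerSeries K) (hHt : LocRes.IsHasseFamily t Ht)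
    (J : Fin n → ℕ) (hJ : FunFld.IsOrders K (FunFld.hcol (AlgHom.id k K) Ht φ) J)
    (J' : Fin n → ℕ) (hJ' : FunFld.IsOrders (IsLocalRing.ResidueField P.O) (FunFld.hcolAt P Ht φ) J')
    (Φ : FunFld.Place k K → (K →ₐ[k] LaurentSeries k))
    (hΦ : ∀ P : FunFld.Place k K, LocRes.IsExpansionAt P.1 (Φ P)) :
    (∀ l, J l ≤ J' l) ∧
    ((∀ l, J' l = J l) ↔ FunFld.evalP P (FunFld.wrMat (AlgHom.id k K) Ht φ J).det ≠ 0) ∧
    ((∀ l, J' l = J l) ↔ FunFld.wDiv (AlgHom.id k K) Ht Φ t φ J P = 0) := by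
  have hG := Groth.Funfld2.good_of_algClosed hK
  have hw := Groth.Funfld2.Hasse.orders_eq_iff hK ht hHt hφ heff hnorm hJ' hJ
  refine ⟨Groth.Funfld2.Hasse.orders_le_orders_at hK ht hHt hφ heff hnorm hJ' hJ, ?_, ?_⟩
  · rw [hw]
    obtain ⟨h1, -⟩ := Groth.Funfld2.Hasse.det_bounds hK ht hHt hφ heff hnorm hJ'
      Groth.Funfld2.Hasse.isFixedPt_id hJ.1
    have hsum : (0 : ℤ) ≤ ∑ l, ((J' l : ℤ) - J l) := Finset.sum_nonneg fun i _ => by
      have := Groth.Funfld2.Hasse.orders_le_orders_at hK ht hHt hφ heff hnorm hJ' hJ i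
      omega
    have hle : P.1 (FunFld.wrMat (AlgHom.id k K) Ht φ J).det ≤ 1 :=
      h1.trans (by rw [← WithZero.exp_zero, WithZero.exp_le_exp]; omega)
    have hne : (FunFld.wrMat (AlgHom.id k K) Ht φ J).det ≠ 0 := by
      rw [Groth.Funfld2.Hasse.wrMat_eq]
      exact Groth.Funfld2.Hasse.selDet_ne_zero hJ (Groth.Funfld2.Hasse.hcol_zero_ne hφ _ Ht)
    rw [← Groth.FunFld1.val_eq_one_iff P hne, FunFld.evalP, dif_pos hle, ne_eq,
      IsLocalRing.residue_eq_zero_iff, Valuation.mem_maximalIdeal_iff, not_lt]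
    exact ⟨fun h => h.ge, fun h => le_antisymm hle h⟩
  · rw [Groth.Funfld2.Hasse.wDiv_apply_normalized hG Groth.Funfld2.Hasse.isFixedPt_id hφ heff hnorm
      ht Ht J hΦ]
    exact hw

end Groth.Agent.S12608
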