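import Groth.Statements.S12610
import Groth.Agent.Funfld2.Hasse.AtExists

set_option autoImplicit false
open FunFld

namespace Groth.Agent.S12610

/-- Over an algebraically closed constant field, for a birational projective map `φ`, a `k`-endomorphism
`τ ≠ 1` and a place `P` fixed by `τ`, the place `P` is a Weierstrass point of `φ` with respect to
`τ`: the Weierstrass divisor `W(φ, τ) = [w_s(φ, τ)] + [τ(φ)] + n[φ] + j(φ, τ)[ds]` has positive
coefficient at `P` (the divisor of `ds` read through a family of Laurent expansions). -/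
theorem result
    (k K : Type*) [Field k] [IsAlgClosed k] [Field K] [Algebra k K]
    (hK : FunFld.IsFunctionField k K) {n : ℕ} (φ : Fin (n + 1) → K) (hφ : LinearIndependent k φ)
    (h0 : φ 0 ≠ 0) (hbir : IntermediateField.adjoin k (Set.range fun i => φ i / φ 0) = ⊤)
    (τ : K →ₐ[k] K) (hτ : τ ≠ AlgHom.id k K) (P : FunFld.Place k K) (hP : FunFld.IsFixedPt τ P)
    (s : K) (H : K →ₐ[k] PowerSeries K) (hH : LocRes.IsHasseFamily s H)
    (J : Fin n → ℕ) (hJ : FunFld.IsOrders K (FunFld.hcol τ H φ) J)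
    (Φ : FunFld.Place k K → (K →ₐ[k] LaurentSeries k))
    (hΦ : ∀ P : FunFld.Place k K, LocRes.IsExpansionAt P.1 (Φ P)) :
    0 < FunFld.wDiv τ H Φ s φ J P := by
  obtain ⟨y, t, Ht, hy, ht, hHt, heff, hnorm, hψ, hJt, hW⟩ :=
    Groth.Funfld2.Hasse.exists_normalized hK hφ hH hJ hΦ P
  set ψ := y • φ with hψdef
  have hn : 0 < n := by
    by_contra hn
    obtain rfl : n = 0 := by omega
    have hbot : IntermediateField.adjoin k (Set.range fun i => φ i / φ 0) = ⊥ := by
      rw [IntermediateField.adjoin_eq_bot_iff]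
      rintro _ ⟨i, rfl⟩
      rw [Fin.eq_zero i]
      simp [h0, IntermediateField.one_mem]
    rw [hbir] at hbot
    have hx := (hbot ▸ IntermediateField.mem_top : t ∈ (⊥ : IntermediateField k K))
    obtain ⟨c, hc⟩ := IntermediateField.mem_bot.1 hx
    exact Groth.Funfld2.Hasse.transcendental_uniformizer hK ht (hc ▸ isAlgebraic_algebraMap c)
  have hψ0 : ψ 0 ≠ 0 := hψ.ne_zero 0
  have hbir' : IntermediateField.adjoin k (Set.range fun i => ψ i / ψ 0) = ⊤ := by
    rw [← hbir]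
    congr 2
    funext i
    simp only [hψdef, Pi.smul_apply, smul_eq_mul]
    rw [mul_div_mul_left _ _ hy]
  obtain ⟨J₁, hJ₁, -⟩ := Groth.Funfld2.Hasse.exists_orders hK hHt hψ (AlgHom.id k K)
  obtain ⟨m, hm⟩ := Groth.Funfld2.Hasse.drop_one_order hHt ψ hψ0 hbir'
    (Groth.Funfld2.Hasse.span_hcol_eq_top hK hHt hψ _) hτ hJ₁
  obtain ⟨J', hJ'⟩ := Groth.Funfld2.Hasse.exists_orders_at hK ht hHt hψ heff hnorm
  have hle1 : ∀ l, J l ≤ J₁ l := Groth.Funfld2.Hasse.apply_le_of_range_subset hJt.1 hJ₁.1 fun i => by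
    rcases (hm (J i)).1 ((hJt.2 (J i)).1 ⟨i, rfl⟩) with h | ⟨l, -, hl⟩
    · exact Or.inl h
    · exact Or.inr ⟨l, hl⟩
  have hle2 := Groth.Funfld2.Hasse.orders_le_orders_at hK ht hHt hψ heff hnorm hJ' hJ₁
  have hpos := Groth.Funfld2.Hasse.orders_at_pos hK ht hHt hnorm hJ'
  have hfirst : J ⟨0, hn⟩ = 0 := by
    obtain ⟨l, hl⟩ := (hJt.2 0).2 ((hm 0).2 (Or.inl rfl))
    have := hJt.1.monotone (Fin.le_def.2 (Nat.zero_le l.val) : (⟨0, hn⟩ : Fin n) ≤ l)
    omega
  rw [hW, Groth.Funfld2.Hasse.wDiv_apply_normalized (Groth.Funfld2.good_of_algClosed hK) hP hψ heff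
    hnorm ht Ht J hΦ]
  refine lt_of_lt_of_le ?_ (Groth.Funfld2.Hasse.sum_le_ord_det hK ht hHt hψ heff hnorm hJ' hP hJt).1
  refine Finset.sum_pos' (fun l _ => ?_) ⟨⟨0, hn⟩, Finset.mem_univ _, ?_⟩
  · have := hle1 l
    have := hle2 l
    omega
  · have := hpos ⟨0, hn⟩
    omega

end Groth.Agent.S12610
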