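import Groth.Statements.S12613
import Groth.Agent.Funfld2.Plane.Chart

set_option autoImplicit false
open FunFld Groth.FunFld1 Groth.Funfld2.Plane

namespace Groth.Agent.S12613

/-- Over an algebraically closed constant field, for a birational plane map `φ = (1 : x : y)` of degree
`e` with irreducible relation `f̂(x, y) = 0`, the adjoint divisor `Δ(φ) = (e - 3)[φ] - [dx/f̂_y]`
has nonnegative coefficient at every place `Q`, and the coefficient is `0` exactly when `φ` is
nonsingular at `Q`. The order of `dx/f̂_y` at `Q` is read through a Laurent expansion at `Q`,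
through which that differential is assumed nonzero. -/
theorem result
    (k K : Type*) [Field k] [IsAlgClosed k] [Field K] [Algebra k K]
    (hK : FunFld.IsFunctionField k K) (x y : K) (hxy : IntermediateField.adjoin k ({x, y} : Set K) = ⊤)
    (f : MvPolynomial (Fin 2) k) (hf : Irreducible f) (hfxy : MvPolynomial.aeval ![x, y] f = 0)
    (Q : FunFld.Place k K) (ΦQ : K →ₐ[k] LaurentSeries k) (hΦQ : LocRes.IsExpansionAt Q.1 ΦQ)
    (hne : LocRes.vDiff ΦQ (MvPolynomial.aeval ![x, y] (MvPolynomial.pderiv 1 f))⁻¹ x ≠ 0) :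
    0 ≤ ((FunFld.mapDiv k ![(1 : K), x, y]).deg - 3) * FunFld.mapDiv k ![(1 : K), x, y] Q -
        LocRes.ordDiff ΦQ (MvPolynomial.aeval ![x, y] (MvPolynomial.pderiv 1 f))⁻¹ x ∧
    (((FunFld.mapDiv k ![(1 : K), x, y]).deg - 3) * FunFld.mapDiv k ![(1 : K), x, y] Q -
        LocRes.ordDiff ΦQ (MvPolynomial.aeval ![x, y] (MvPolynomial.pderiv 1 f))⁻¹ x = 0 ↔
      FunFld.IsNonsingularAt ![(1 : K), x, y] Q) := by
  classical
  have hF := IsFF.of_isFunctionField hK
  obtain ⟨F, hFhom, hFev⟩ := exists_homogenize f (e := f.totalDegree) rfl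
  set e := f.totalDegree with he
  have hdeg : (mapDiv k ![(1 : K), x, y]).deg = (e : ℤ) :=
    deg_mapDiv_plane hK hxy hf hfxy
  set v : Fin 3 → K := ![(1 : K), x, y] with hv
  obtain ⟨hFxy, hF2⟩ := hFev (R := K) x y
  rw [hfxy] at hFxy
  have hfy : MvPolynomial.aeval ![x, y] (MvPolynomial.pderiv 1 f) ≠ 0 := fun h => hne (by
    rw [LocRes.vDiff, h, inv_zero, map_zero, zero_mul, map_zero])
  set G : Fin 3 → K := fun i => MvPolynomial.aeval v (MvPolynomial.pderiv i F) with hG
  have hG2 : G 2 ≠ 0 := by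
    rw [hG]; simp only [hv]; rw [hF2]; exact hfy
  -- the chart
  obtain ⟨j, hj⟩ := exists_isMin (φ := v) ⟨0, by simp [hv]⟩ Q
  obtain ⟨q, hqj, hGq⟩ : ∃ q, q ≠ j ∧ G q ≠ 0 := by
    by_contra! hall
    have heul : ∑ i, v i * G i = 0 := by
      have h := congrArg (MvPolynomial.aeval v) hFhom.sum_X_mul_pderiv
      rw [map_sum, map_nsmul, hv, hFxy, smul_zero] at h
      simpa [hG, hv] using h
    rw [Finset.sum_eq_single j (fun i _ hi => by rw [hall i hi, mul_zero]) (by simp)] at heul
    have hj0 : G j = 0 := (mul_eq_zero.1 heul).resolve_left hj.1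
    refine hG2 ?_
    by_cases h2 : (2 : Fin 3) = j
    · rw [h2]; exact hj0
    · exact hall 2 h2
  obtain ⟨σ, hσ0, hσ2⟩ : ∃ σ : Equiv.Perm (Fin 3), σ 0 = j ∧ σ 2 = q := by
    have key : ∀ j q : Fin 3, q ≠ j → ∃ σ : Equiv.Perm (Fin 3), σ 0 = j ∧ σ 2 = q := by decide
    exact key j q hqj
  set A : Matrix (Fin 3) (Fin 3) k := fun i l => if i = σ l then 1 else 0 with hA
  have hdetA : A.det ≠ 0 := by
    refine Matrix.det_ne_zero_of_left_inverse (B := A.transpose) ?_
    ext i l
    rw [Matrix.mul_apply]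
    have hAt : ∀ i l, A.transpose i l = if l = σ i then 1 else 0 := fun i l => rfl
    have hAe : ∀ i l, A i l = if i = σ l then 1 else 0 := fun i l => rfl
    simp only [hAt, hAe]
    simp [Matrix.one_apply, eq_comm]
  set u : Fin 3 → K := fun l => v (σ l) with hu
  have huv : ∀ i, ∑ l, algebraMap k K (A i l) * u l = v i := fun i => by
    rw [Finset.sum_eq_single (σ.symm i) (fun l _ hl => by
      rw [hA]
      simp [show ¬ i = σ l from fun e => hl (by rw [e, Equiv.symm_apply_apply])]) (by simp)]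
    simp [hA, hu]
  have hu0 : u 0 ≠ 0 := by rw [hu]; simp only [hσ0]; exact hj.1
  set a := u 1 / u 0 with ha
  set b := u 2 / u 0 with hb
  set w : Fin 3 → K := ![(1 : K), a, b] with hw
  have huw : ∀ l, u l = u 0 * w l := fun l => by
    fin_cases l <;> simp [hw, ha, hb, mul_div_cancel₀ _ hu0]
  set L : Fin 3 → MvPolynomial (Fin 3) k :=
    fun i => ∑ l, MvPolynomial.C (A i l) * MvPolynomial.X l with hL
  set F' := MvPolynomial.aeval L F with hF'
  have hev : ∀ p, MvPolynomial.aeval u (MvPolynomial.aeval L p) = MvPolynomial.aeval v p := fun p => by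
    rw [← AlgHom.comp_apply, MvPolynomial.comp_aeval]
    congr 2
    funext i
    simp only [hL, map_sum, map_mul, MvPolynomial.aeval_C, MvPolynomial.aeval_X]
    exact huv i
  have hhom : F'.IsHomogeneous e := by
    have := hFhom.aeval L (n := 1) fun i => MvPolynomial.IsHomogeneous.sum _ _ _ fun l _ =>
      MvPolynomial.isHomogeneous_C_mul_X (A i l) l
    rwa [one_mul] at this
  have hscale : ∀ (p : MvPolynomial (Fin 3) k) (d : ℕ), p.IsHomogeneous d →
      MvPolynomial.aeval u p = u 0 ^ d * MvPolynomial.aeval w p := fun p d hp => by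
    rw [← aeval_mul_of_isHomogeneous hp]
    congr 2
    exact funext huw
  have hwF : MvPolynomial.aeval w F' = 0 := by
    have h := hscale F' e hhom
    rw [hev, hv, hFxy] at h
    exact (mul_eq_zero.1 h.symm).resolve_left (pow_ne_zero _ hu0)
  have hwF2 : MvPolynomial.aeval w (MvPolynomial.pderiv 2 F') ≠ 0 := by
    intro h
    have h1 := hscale _ _ (hhom.pderiv (i := 2))
    rw [h, mul_zero] at h1
    have hLd : ∀ i, MvPolynomial.pderiv (2 : Fin 3) (L i) = MvPolynomial.C (A i 2) := fun i => by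
      simp [hL, MvPolynomial.pderiv_mul, MvPolynomial.pderiv_X, Pi.single_apply]
    rw [hF', derivation_aeval (MvPolynomial.pderiv (2 : Fin 3)) L F, map_sum,
      Finset.sum_eq_single q (fun i _ hi => by
        rw [smul_eq_mul, map_mul, hLd, MvPolynomial.aeval_C, hA]
        simp [hσ2, hi]) (by simp), smul_eq_mul, map_mul, hLd, MvPolynomial.aeval_C, hev, hA] at h1
    simp only [hσ2, if_true, map_one, mul_one] at h1
    exact hGq h1
  -- the affine relation in the chart
  set N : Fin 3 → MvPolynomial (Fin 2) k := ![1, MvPolynomial.X 0, MvPolynomial.X 1] with hN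
  set g := MvPolynomial.aeval N F' with hgdef
  have hgev : ∀ p, MvPolynomial.aeval ![a, b] (MvPolynomial.aeval N p) = MvPolynomial.aeval w p :=
    fun p => by
      rw [← AlgHom.comp_apply, MvPolynomial.comp_aeval]
      congr 2
      funext i
      fin_cases i <;> simp [hN, hw]
  have hgd : MvPolynomial.aeval ![a, b] (MvPolynomial.pderiv 1 g) =
      MvPolynomial.aeval w (MvPolynomial.pderiv 2 F') := by
    rw [hgdef, derivation_aeval (MvPolynomial.pderiv (1 : Fin 2)) N F', Fin.sum_univ_three,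
      ← hgev]
    simp [hN, MvPolynomial.pderiv_X]
  have hgen : IntermediateField.adjoin k ({a, b} : Set K) = ⊤ := by
    set E := IntermediateField.adjoin k ({a, b} : Set K)
    have hwE : ∀ l, w l ∈ E := fun l => by
      fin_cases l
      · exact one_mem E
      · exact IntermediateField.subset_adjoin k _ (by simp [hw])
      · exact IntermediateField.subset_adjoin k _ (by simp [hw])
    have hu0E : u 0 ∈ E := by
      have h := huw (σ.symm 0)
      rw [show u (σ.symm 0) = 1 by simp [hu, hv]] at h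
      rw [eq_inv_of_mul_eq_one_left h.symm]
      exact inv_mem (hwE _)
    have hvE : ∀ i, v i ∈ E := fun i => by
      have h := huw (σ.symm i)
      rw [show u (σ.symm i) = v i by simp [hu]] at h
      rw [h]
      exact mul_mem hu0E (hwE _)
    rw [eq_top_iff, ← hxy]
    refine IntermediateField.adjoin_le_iff.2 ?_
    rintro z (rfl | rfl)
    · simpa [hv] using hvE 1
    · simpa [hv] using hvE 2
  have hmap : ∀ P, mapDiv k v P = mapDiv k w P - P.ord (u 0) :=
    mapDiv_change hF hdetA (v := v) (w := w) rfl rfl hu0 huw huv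
  have hdegw : (mapDiv k w).deg = (e : ℤ) := by
    have h1 : mapDiv k w = mapDiv k v + FunFld.div k (u 0) := by
      ext P
      rw [Finsupp.add_apply, hmap P,
        Groth.Funfld2.div_apply (Groth.Funfld2.good_of_algClosed hK)]
      ring
    rw [h1, Groth.Funfld2.deg_add, hdeg, hF.deg_div, add_zero]
  obtain ⟨G₀, hG₀, hG₀deg, hker₀⟩ := exists_ker_aeval_plane hK hgen
  have hga : MvPolynomial.aeval ![a, b] g = 0 := by rw [hgdef, hgev, hwF]
  have hker : RingHom.ker (MvPolynomial.aeval ![a, b] : MvPolynomial (Fin 2) k →ₐ[k] K) =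
      Ideal.span {g} := by
    have hg0 : g ≠ 0 := fun h => hwF2 (by rw [← hgd, h, map_zero, map_zero])
    have hmem : g ∈ RingHom.ker (MvPolynomial.aeval ![a, b] : MvPolynomial (Fin 2) k →ₐ[k] K) := hga
    rw [hker₀, Ideal.mem_span_singleton'] at hmem
    obtain ⟨r, hr⟩ := hmem
    have hr0 : r ≠ 0 := fun h => hg0 (by rw [← hr, h, zero_mul])
    have hle : g.totalDegree ≤ e :=
      (totalDegree_aeval_le N (fun i => by fin_cases i <;> simp [hN]) F').trans hhom.totalDegree_le
    rw [← hr, MvPolynomial.totalDegree_mul_of_isDomain hr0 hG₀.ne_zero] at hle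
    have hd0 : G₀.totalDegree = e := by
      rw [hdegw] at hG₀deg
      exact_mod_cast hG₀deg
    have hrd : r.totalDegree = 0 := by omega
    rw [MvPolynomial.totalDegree_eq_zero_iff_eq_C] at hrd
    rw [hker₀, Ideal.span_singleton_eq_span_singleton]
    refine ⟨(IsUnit.unit (a := r) ?_), ?_⟩
    · rw [hrd]
      exact (isUnit_iff_ne_zero.2 fun h => hr0 (by rw [hrd, h, map_zero])).map MvPolynomial.C
    · rw [IsUnit.unit_spec, mul_comm, hr]
  -- residues of the coordinates
  have hwle : ∀ l, Q.1 (w l) ≤ 1 := fun l => by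
    have h : w l = u l / u 0 := by rw [huw l, mul_div_cancel_left₀ _ hu0]
    rw [h, map_div₀]
    exact div_le_one_of_le₀ (by rw [hu]; simp only [hσ0]; exact hj.2 _) zero_le
  have hd1 := deg_eq_one_of_isAlgClosed hF Q
  obtain ⟨c0, hc0⟩ := exists_const_sub_lt_one hd1 (by simpa [hw] using hwle 1 : Q.1 a ≤ 1)
  obtain ⟨c1, hc1⟩ := exists_const_sub_lt_one hd1 (by simpa [hw] using hwle 2 : Q.1 b ≤ 1)
  -- the differential
  have hfy' : MvPolynomial.aeval v (MvPolynomial.pderiv 2 F) ≠ 0 := hG2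
  have hid := differential_change F e hFhom x y hFxy A u huv hu0 hfy' hwF2
  rw [hF2, ← ha, ← hb, ← hw, ← hL, ← hF', ← hgd] at hid
  have hcne : algebraMap k K A.det * (u 0)⁻¹ ^ ((e : ℤ) - 3) ≠ 0 :=
    mul_ne_zero ((map_ne_zero _).2 hdetA) (zpow_ne_zero _ (inv_ne_zero hu0))
  have hne' : LocRes.vDiff ΦQ (MvPolynomial.aeval ![a, b] (MvPolynomial.pderiv 1 g))⁻¹ a ≠ 0 := by
    intro h
    apply hne
    rw [vDiff_congr ΦQ hid]
    rw [LocRes.vDiff] at h
    rw [LocRes.vDiff, map_mul ΦQ, mul_assoc, map_mul, h, mul_zero]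
  obtain ⟨hle0, hiff⟩ := chart_ordDiff hK hgen hker hΦQ (c := ![c0, c1]) (by simpa using hc0)
    (by simpa using hc1) hne'
  obtain ⟨-, h3⟩ := ordDiff_mul hΦQ hcne hne'
  have h4 : LocRes.ordDiff ΦQ (MvPolynomial.aeval ![x, y] (MvPolynomial.pderiv 1 f))⁻¹ x =
      LocRes.ordDiff ΦQ (algebraMap k K A.det * (u 0)⁻¹ ^ ((e : ℤ) - 3) *
        (MvPolynomial.aeval ![a, b] (MvPolynomial.pderiv 1 g))⁻¹) a := by
    rw [LocRes.ordDiff, LocRes.ordDiff, vDiff_congr ΦQ hid]
  have hmQ : mapDiv k v Q = -Q.ord (u 0) := by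
    have hw0 : mapDiv k w Q = 0 := by
      obtain ⟨i, hi⟩ := exists_val_eq_exp_mapDiv hF w (by simp [hw]) Q
      have h1 := hwle i
      rw [hi, ← WithZero.exp_zero, WithZero.exp_le_exp] at h1
      have h2 := val_le_exp_mapDiv hF w Q 0
      rw [show w 0 = 1 by simp [hw], map_one, ← WithZero.exp_zero, WithZero.exp_le_exp] at h2
      omega
    rw [hmap Q, hw0, zero_sub]
  have hoc : Q.ord (algebraMap k K A.det * (u 0)⁻¹ ^ ((e : ℤ) - 3)) =
      ((e : ℤ) - 3) * -Q.ord (u 0) := by
    have hz : Q.ord ((u 0)⁻¹ ^ ((e : ℤ) - 3)) = ((e : ℤ) - 3) * Q.ord (u 0)⁻¹ := by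
      rw [ord_eq_of_val_eq Q (n := ((e : ℤ) - 3) * -Q.ord (u 0)⁻¹) (by
        rw [map_zpow₀, Groth.Funfld2.val_eq_exp_ord Q (inv_ne_zero hu0), ← WithZero.exp_zsmul,
          smul_eq_mul])]
      ring
    rw [ord_mul Q ((map_ne_zero _).2 hdetA) (zpow_ne_zero _ (inv_ne_zero hu0)), ord_algebraMap,
      zero_add, hz, ord_inv]
  rw [hdeg, hmQ, h4, h3, hoc]
  have hns : IsNonsingularAt v Q ↔ IsNonsingularAt w Q := by
    have hjw : IsMin w Q 0 := ⟨by simp [hw], fun i => by simpa [hw] using hwle i⟩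
    have hrange : Set.range (ratios v j) = Set.range (ratios w 0) := by
      have : ratios w 0 = ratios v j ∘ σ := by
        funext l
        have h1 : v (σ l) = u 0 * w l := huw l
        have h2 : v j = u 0 := by rw [hu]; simp only [hσ0]
        simp only [Function.comp, ratios, h1, h2]
        rw [mul_div_cancel_left₀ _ hu0]
        simp [hw]
      rw [this, σ.surjective.range_comp]
    constructor <;> intro h z hz
    · obtain ⟨r, hr, s, hs, hs1, hzs⟩ := inLocRing_at (h z hz) hj
      exact inLocRing_of_frac hjw (hrange ▸ hr) (hrange ▸ hs) hs1 hzs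
    · obtain ⟨r, hr, s, hs, hs1, hzs⟩ := inLocRing_at (h z hz) hjw
      exact inLocRing_of_frac hj (hrange.symm ▸ hr) (hrange.symm ▸ hs) hs1 hzs
  rw [hns, ← hiff]
  constructor
  · linarith
  · constructor <;> intro h <;> linarith

end Groth.Agent.S12613
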