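import Groth.Statements.S12616
import Groth.Agent.Funfld2.Plane.Adjoint

set_option autoImplicit false
open FunFld Groth.FunFld1 Groth.Funfld2.Plane

namespace Groth.Agent.S12616

/-- Over an algebraically closed constant field, the adjoint divisor `Δ(φ) = (e - 3)[φ] - [dx/f̂_y]` of
an effective plane map `φ = (1 : x : y)` of degree `e`, with a homogeneous relation `f` of the same
degree `e` satisfying `f(1, x, y) = 0`, depends only on the equivalence class of `φ`: it is
unchanged under a change of projective coordinates `X = AX'`, with `x' = u₁/u₀`, `y' = u₂/u₀`, `u =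
A⁻¹(1, x, y)ᵗ`, `f'(X') = f(AX')`. Here `dx ≠ 0`, both `f̂_y` and `f̂'_{y'}` are nonzero, and
divisors of differentials are read through a family of Laurent expansions. (The published statement
takes `f` to be the minimal relation of `x` and `y` for a plane model `K = k(x, y)`, where the
degree of the map equals the degree of `f`; this row assumes only that `f` is homogeneous of degree
equal to the degree of the map, which is all the change-of-coordinates computation uses — when the
two degrees differ the two sides differ by a multiple of the divisor of `u₀`.) -/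
theorem result
    (k K : Type*) [Field k] [IsAlgClosed k] [Field K] [Algebra k K]
    (hK : FunFld.IsFunctionField k K) (f : MvPolynomial (Fin 3) k) (e : ℕ) (hf : f.IsHomogeneous e)
    (x y : K) (hfxy : MvPolynomial.aeval ![(1 : K), x, y] f = 0)
    (hdx : KaehlerDifferential.D k K x ≠ 0)
    (he : (FunFld.mapDiv k ![(1 : K), x, y]).deg = e)
    (A : Matrix (Fin 3) (Fin 3) k) (hA : A.det ≠ 0)
    (u : Fin 3 → K) (hu : ∀ i, ∑ j, algebraMap k K (A i j) * u j = ![(1 : K), x, y] i)
    (hu0 : u 0 ≠ 0)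
    (hfy : (MvPolynomial.aeval ![(1 : K), x, y] (MvPolynomial.pderiv 2 f)) ≠ 0)
    (hfy' : (MvPolynomial.aeval ![(1 : K), u 1 / u 0, u 2 / u 0] (MvPolynomial.pderiv 2 (MvPolynomial.aeval (fun i : Fin 3 => ∑ j, MvPolynomial.C (A i j) * MvPolynomial.X j) f))) ≠ 0)
    (Φ : FunFld.Place k K → (K →ₐ[k] LaurentSeries k))
    (hΦ : ∀ P : FunFld.Place k K, LocRes.IsExpansionAt P.1 (Φ P)) :
    ((FunFld.mapDiv k ![(1 : K), x, y]).deg - 3) • FunFld.mapDiv k ![(1 : K), x, y] -
        FunFld.divDiff Φ (MvPolynomial.aeval ![(1 : K), x, y] (MvPolynomial.pderiv 2 f))⁻¹ x =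
      ((FunFld.mapDiv k ![(1 : K), u 1 / u 0, u 2 / u 0]).deg - 3) •
          FunFld.mapDiv k ![(1 : K), u 1 / u 0, u 2 / u 0] -
        FunFld.divDiff Φ (MvPolynomial.aeval ![(1 : K), u 1 / u 0, u 2 / u 0] (MvPolynomial.pderiv 2 (MvPolynomial.aeval (fun i : Fin 3 => ∑ j, MvPolynomial.C (A i j) * MvPolynomial.X j) f)))⁻¹ (u 1 / u 0) := by
  classical
  have hF := IsFF.of_isFunctionField hK
  set v : Fin 3 → K := ![(1 : K), x, y] with hv
  set w : Fin 3 → K := ![(1 : K), u 1 / u 0, u 2 / u 0] with hw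
  set a := (MvPolynomial.aeval v (MvPolynomial.pderiv 2 f))⁻¹ with ha
  set a' := (MvPolynomial.aeval w (MvPolynomial.pderiv 2
    (MvPolynomial.aeval (fun i : Fin 3 => ∑ j, MvPolynomial.C (A i j) * MvPolynomial.X j) f)))⁻¹
    with ha'
  have hid := differential_change f e hf x y hfxy A u hu hu0 hfy hfy'
  rw [← hv, ← hw, ← ha, ← ha'] at hid
  have hx' : KaehlerDifferential.D k K (u 1 / u 0) ≠ 0 := fun h => by
    rw [h, smul_zero, smul_eq_zero] at hid
    exact hid.elim (fun e => inv_ne_zero hfy e) hdx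
  have hmap : ∀ P, mapDiv k v P = mapDiv k w P - P.ord (u 0) :=
    mapDiv_change hF hA (v := v) (w := w) rfl rfl hu0
      (fun i => by fin_cases i <;> simp [hw, mul_div_cancel₀ _ hu0]) hu
  have hdeg : (mapDiv k w).deg = e := by
    have h1 : mapDiv k w = mapDiv k v + FunFld.div k (u 0) := by
      ext P
      rw [Finsupp.add_apply, hmap P,
        Groth.Funfld2.div_apply (Groth.Funfld2.good_of_algClosed hK)]
      ring
    rw [h1, Groth.Funfld2.deg_add, he, hF.deg_div, add_zero]
  ext P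
  simp only [Finsupp.sub_apply, Finsupp.smul_apply, he, hdeg, hmap P, smul_eq_mul]
  obtain ⟨hne, h2⟩ := divDiff_eq hK hΦ (a := a') (inv_ne_zero hfy') hx' P
  obtain ⟨-, h1⟩ := divDiff_eq hK hΦ (a := a) (inv_ne_zero hfy) hdx P
  have hd0 : algebraMap k K A.det ≠ 0 := (map_ne_zero _).2 hA
  have hc : algebraMap k K A.det * (u 0)⁻¹ ^ ((e : ℤ) - 3) ≠ 0 :=
    mul_ne_zero hd0 (zpow_ne_zero _ (inv_ne_zero hu0))
  obtain ⟨-, h3⟩ := ordDiff_mul (hΦ P) hc hne
  have h4 : LocRes.ordDiff (Φ P) a x =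
      LocRes.ordDiff (Φ P) (algebraMap k K A.det * (u 0)⁻¹ ^ ((e : ℤ) - 3) * a') (u 1 / u 0) := by
    rw [LocRes.ordDiff, LocRes.ordDiff, vDiff_congr (Φ P) hid]
  have hoc : P.ord (algebraMap k K A.det * (u 0)⁻¹ ^ ((e : ℤ) - 3)) =
      -(((e : ℤ) - 3) * P.ord (u 0)) := by
    have hz : P.ord ((u 0)⁻¹ ^ ((e : ℤ) - 3)) = ((e : ℤ) - 3) * P.ord (u 0)⁻¹ := by
      rw [ord_eq_of_val_eq P (n := ((e : ℤ) - 3) * -P.ord (u 0)⁻¹) (by
        rw [map_zpow₀, Groth.Funfld2.val_eq_exp_ord P (inv_ne_zero hu0), ← WithZero.exp_zsmul,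
          smul_eq_mul])]
      ring
    rw [ord_mul P hd0 (zpow_ne_zero _ (inv_ne_zero hu0)), ord_algebraMap, zero_add, hz, ord_inv]
    ring
  rw [h1, h2, h4, h3, hoc]
  ring

end Groth.Agent.S12616
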