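import Groth.Statements.S12618
import Groth.Agent.Funfld2.Hasse.WeierstrassPts

set_option autoImplicit false
open FunFld Groth.Funfld2.Hasse Groth.FunFld1

namespace Groth.Agent.S12618

/-- Over an algebraically closed constant field of characteristic `0` or greater than `2g - 2`, let `K`
have genus `g > 1` and let the Weierstrass points of `K` be the support of the Weierstrass divisor
`W(φ)` of the canonical map `φ` (a basis of `L(C)`, `C` canonical; the divisor of `ds` in `W` read
through a family of Laurent expansions). Then either the number of Weierstrass points exceeds `2g +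
2` and the automorphism group of `K/k` acts faithfully on them, or that number is exactly `2g + 2`
and the automorphisms fixing all of them are exactly those fixing some `x` with `[K : k(x)] = 2`. -/
theorem result
    (k K : Type*) [Field k] [IsAlgClosed k] [Field K] [Algebra k K]
    (hK : FunFld.IsFunctionField k K) (hg : 1 < FunFld.genus k K)
    (hchar : ringChar k = 0 ∨ 2 * FunFld.genus k K - 2 < ringChar k)
    (C : FunFld.Divisor k K) (hC : FunFld.IsCanonical k K C)
    {n : ℕ} (φ : Fin (n + 1) → K) (hφ : LinearIndependent k φ)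
    (hspan : Submodule.span k (Set.range φ) = FunFld.L C)
    (s : K) (H : K →ₐ[k] PowerSeries K) (hH : LocRes.IsHasseFamily s H)
    (J : Fin n → ℕ) (hJ : FunFld.IsOrders K (FunFld.hcol (AlgHom.id k K) H φ) J)
    (Φ : FunFld.Place k K → (K →ₐ[k] LaurentSeries k))
    (hΦ : ∀ P : FunFld.Place k K, LocRes.IsExpansionAt P.1 (Φ P)) :
    (2 * FunFld.genus k K + 2 < Set.ncard {P : FunFld.Place k K | FunFld.wDiv (AlgHom.id k K) H Φ s φ J P ≠ 0} ∧
      ∀ σ : K ≃ₐ[k] K, (∀ P : FunFld.Place k K, FunFld.wDiv (AlgHom.id k K) H Φ s φ J P ≠ 0 →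
        FunFld.IsFixedPt (σ : K →ₐ[k] K) P) → σ = AlgEquiv.refl) ∨
    (Set.ncard {P : FunFld.Place k K | FunFld.wDiv (AlgHom.id k K) H Φ s φ J P ≠ 0} = 2 * FunFld.genus k K + 2 ∧
      ∃ x : K, Module.finrank (IntermediateField.adjoin k ({x} : Set K)) K = 2 ∧
        ∀ σ : K ≃ₐ[k] K, (∀ P : FunFld.Place k K, FunFld.wDiv (AlgHom.id k K) H Φ s φ J P ≠ 0 →
          FunFld.IsFixedPt (σ : K →ₐ[k] K) P) ↔ σ x = x) := by
  classical
  have hF := Groth.FunFld1.IsFF.of_isFunctionField hK
  have hgn : genus k K = n + 1 := genus_pos_of_basis hK hC hφ hspan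
  have hspec := fun P => weight_spec hK hC hφ hspan hchar hH hJ hΦ P
  have hsum := sum_weights hK hC hφ hspan hchar hH hJ hΦ
  have hnn := wDiv_nonneg hK hφ hH hJ hΦ
  set W := wDiv (AlgHom.id k K) H Φ s φ J with hW
  have hn : 0 < n := by omega
  have hset : {P : Place k K | W P ≠ 0} = ↑W.support := by
    ext P; simp
  have hdegW : ∑ P ∈ W.support, W P = (n : ℤ) * (n + 1) * (n + 2) := by
    rw [← hsum, Divisor.deg, Finsupp.sum]
    exact Finset.sum_congr rfl fun P _ => by rw [(Groth.Funfld2.good_of_algClosed hK).deg_one P]; simp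
  rw [hset, Set.ncard_coe_finset]
  by_cases hex : ∃ P0 : Place k K, Hyp P0
  · obtain ⟨P0, hP0⟩ := hex
    obtain ⟨x, hxv, hint, hx2, hLx⟩ := exists_double_pole hK (by omega) hP0
    have h2 : (2 : k) ≠ 0 := by
      intro h
      have hd : ringChar k ∣ 2 := (ringChar.spec k 2).1 (by exact_mod_cast h)
      rcases hchar with hc | hc
      · rw [hc, zero_dvd_iff] at hd; omega
      · have := Nat.le_of_dvd two_pos hd
        omega
    obtain ⟨R, hR0, hRcard, hR⟩ := ramification hK hΦ (by omega) h2 hxv hint
    set S := insert P0 R with hS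
    have hScard : S.card = 2 * genus k K + 2 := by
      rw [hS, Finset.card_insert_of_notMem hR0, hRcard]
    have hSw : ∀ P ∈ S, 2 * W P = (n : ℤ) * (n + 1) := fun P hP => by
      rw [hS, Finset.mem_insert] at hP
      exact (hspec P).2.1 (hP.elim (fun e => e ▸ hP0) fun h => (hR P h).1)
    have hpos : (0 : ℤ) < (n : ℤ) * (n + 1) := by positivity
    have hSsub : S ⊆ W.support := fun P hP => by
      rw [Finsupp.mem_support_iff]
      have := hSw P hP
      omega
    have hsupp : W.support = S := by
      refine (Finset.Subset.antisymm hSsub fun P hP => ?_).symm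
      by_contra hPS
      have h1 := Finset.sum_sdiff (f := fun Q => W Q) hSsub
      rw [hdegW] at h1
      have h2 : 2 * ∑ Q ∈ S, W Q = 2 * ((n : ℤ) * (n + 1) * (n + 2)) := by
        rw [Finset.mul_sum, Finset.sum_congr rfl hSw, Finset.sum_const, hScard, hgn]
        simp only [nsmul_eq_mul]
        push_cast
        ring
      have h3 : W P ≤ ∑ Q ∈ W.support \ S, W Q :=
        Finset.single_le_sum (fun Q _ => by simpa using hnn Q) (Finset.mem_sdiff.2 ⟨hP, hPS⟩)
      have h4 := hnn P
      rw [Finsupp.mem_support_iff] at hP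
      rw [Finsupp.zero_apply] at h4
      omega
    refine Or.inr ⟨by rw [hsupp, hScard], x, hx2, fun σ => ⟨fun hfix => ?_, fun hσ P hP => ?_⟩⟩
    · have hfx : ∀ P ∈ S, comapPlace σ P = P := fun P hP =>
        comapPlace_eq_of_isFixedPt hK (hfix P (by
          have := hSsub hP
          rwa [Finsupp.mem_support_iff] at this))
      have hP0' := hfx P0 (Finset.mem_insert_self _ _)
      have hmem : σ x ∈ L (Finsupp.single P0 (2 : ℤ)) := fun Q => by
        rw [← comapPlace_apply σ Q x]
        rcases eq_or_ne Q P0 with e | hQ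
        · rw [e, hP0', Finsupp.single_eq_same, hxv]
        · rw [Finsupp.single_eq_of_ne hQ, WithZero.exp_zero]
          refine hint _ fun e => hQ (Subtype.ext (Valuation.ext fun z => ?_))
          have := congrArg (fun T : Place k K => T.1 (σ.symm z)) (e.trans hP0'.symm)
          simpa [comapPlace_apply] using this
      obtain ⟨a, b, hab⟩ := hLx _ hmem
      have hrel : ∀ P ∈ R, ∃ c : k, P.1 (x - algebraMap k K c) < 1 ∧
          (∀ Q : Place k K, Q.1 (x - algebraMap k K c) < 1 → Q = P) ∧ a * c + b = c := by
        intro P hP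
        obtain ⟨-, c, hc, huniq⟩ := hR P hP
        refine ⟨c, hc, huniq, ?_⟩
        have hσc : P.1 (σ (x - algebraMap k K c)) < 1 := by
          rw [← comapPlace_apply σ P, hfx P (Finset.mem_insert_of_mem hP)]
          exact hc
        by_contra hne
        have h1 : P.1 (algebraMap k K (a * c + b - c)) < 1 := by
          rw [show algebraMap k K (a * c + b - c) =
              σ (x - algebraMap k K c) - algebraMap k K a * (x - algebraMap k K c) by
            rw [map_sub σ, AlgEquiv.commutes, hab, map_sub, map_add, map_mul]; ring]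
          refine (P.1.map_sub _ _).trans_lt (max_lt hσc ?_)
          rw [map_mul]
          exact mul_lt_one_of_nonneg_of_lt_one_right (P.2.1 a) zero_le hc
        rw [Groth.Funfld2.val_algebraMap P (sub_ne_zero.2 hne)] at h1
        exact lt_irrefl _ h1
      obtain ⟨P1, hP1, P2, hP2, h12⟩ := Finset.one_lt_card.1 (show 1 < R.card by omega)
      obtain ⟨c1, hc1, hu1, hr1⟩ := hrel P1 hP1
      obtain ⟨c2, hc2, hu2, hr2⟩ := hrel P2 hP2
      have hcc : c1 ≠ c2 := fun e => h12 (hu1 P2 (e ▸ hc2)).symm
      have ha : a = 1 := by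
        have h : (a - 1) * (c1 - c2) = 0 := by linear_combination hr1 - hr2
        rcases mul_eq_zero.1 h with h | h
        · exact sub_eq_zero.1 h
        · exact absurd (sub_eq_zero.1 h) hcc
      have hb : b = 0 := by rw [ha] at hr1; linear_combination hr1
      rw [hab, ha, hb, map_one, map_zero, one_mul, add_zero]
    · refine isFixedPt_of_comapPlace_eq ?_
      have hP' : P ∈ S := hsupp ▸ Finsupp.mem_support_iff.2 hP
      rw [hS, Finset.mem_insert] at hP'
      rcases hP' with e | hP'
      · subst e
        by_contra hne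
        have h1 := hint _ hne
        rw [comapPlace_apply, hσ, hxv, ← WithZero.exp_zero, WithZero.exp_le_exp] at h1
        omega
      · obtain ⟨-, c, hc, huniq⟩ := hR P hP'
        refine huniq _ ?_
        rwa [comapPlace_apply, map_sub, AlgEquiv.commutes, hσ]
  · push_neg at hex
    have hlt : ∀ P ∈ W.support, 2 * W P ≤ (n : ℤ) * (n + 1) - 1 := fun P _ => by
      have := (hspec P).2.2 hn (hex P)
      omega
    have hbig : 2 * genus k K + 2 < W.support.card := by
      by_contra hle
      rw [not_lt, hgn] at hle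
      have h1 := Finset.sum_le_sum hlt
      rw [← Finset.mul_sum, hdegW, Finset.sum_const, nsmul_eq_mul] at h1
      have h2 : (W.support.card : ℤ) ≤ 2 * (n : ℤ) + 4 := by omega
      have h3 : (0 : ℤ) ≤ (n : ℤ) * (n + 1) - 1 := by nlinarith
      nlinarith [mul_le_mul_of_nonneg_right h2 h3]
    refine Or.inl ⟨hbig, fun σ hfix => ?_⟩
    by_contra hσ
    obtain ⟨hfin, hcard⟩ := ncard_fixed_le hK hσ
    have h1 : W.support.card ≤ {P : Place k K | IsFixedPt (σ : K →ₐ[k] K) P}.ncard := by
      rw [← Set.ncard_coe_finset]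
      exact Set.ncard_le_ncard (fun P hP => hfix P (Finsupp.mem_support_iff.1 hP)) hfin
    omega

end Groth.Agent.S12618
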