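import Groth.Statements.S12627
import Groth.Agent.AbVarMul.TangentCurve
import Groth.Agent.GrpschAbsch.AbVarEtale
import Groth.Agent.EtaleBase.Rigidity
import Groth.Agent.Abvar.Hom
import Groth.Agent.AlgGrp1.Geom

set_option autoImplicit false
universe u
open CategoryTheory CategoryTheory.Limits MonoidalCategory CartesianMonoidalCategory MonObj GrpObj AlgebraicGeometry
open AbVar

namespace Groth.Agent.S12627

/-- Let `k` be an algebraically closed field and `E₁`, `E₂` elliptic curves over `k`, i.e. group schemes
over `Spec k` whose underlying schemes are proper, smooth, integral and one-dimensional. If `φ, φ' :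
E₁ → E₂` are homomorphisms with `φ` finite, surjective and étale (a separable isogeny) and `φ'` not
étale (the zero homomorphism or an inseparable isogeny), then their sum under the group law of `E₂`
— the composite of `(φ, φ')` with the multiplication of `E₂` — is finite, surjective and étale, i.e.
again a separable isogeny. (The published statement is for arbitrary morphisms `φ, φ'` and takes
`φ'` inseparable; this row takes homomorphisms, the case its proof treats — a morphism of elliptic
curves is a homomorphism followed by a translation, which changes neither the hypotheses nor the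
conclusion — and allows `φ'` to be the zero map, that case being immediate.) -/
theorem result (k : Type u) [Field k] [IsAlgClosed k]
    (E₁ E₂ : Over (Spec (CommRingCat.of k)))
    [GrpObj E₁] [IsProper E₁.hom] [Smooth E₁.hom] [IsIntegral E₁.left] (hE₁ : topologicalKrullDim E₁.left = 1)
    [GrpObj E₂] [IsProper E₂.hom] [Smooth E₂.hom] [IsIntegral E₂.left] (hE₂ : topologicalKrullDim E₂.left = 1)
    (φ φ' : E₁ ⟶ E₂) [IsMonHom φ] [IsMonHom φ'] [IsFinite φ.left] [Surjective φ.left] [Etale φ.left]
    (hφ' : ¬ Etale φ'.left) :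
    IsFinite (φ * φ').left ∧ Surjective (φ * φ').left ∧ Etale (φ * φ').left := by
  have : LocallyOfFiniteType E₁.hom := inferInstance
  have : ConnectedSpace E₁.left := inferInstance
  have : ConnectedSpace E₂.left := inferInstance
  have := Groth.AlgGrp1.geometricallyIntegral_of_smooth E₁
  have := Groth.AlgGrp1.geometricallyIntegral_of_smooth E₂
  have := Groth.GrpschAbsch.isCommMonObj_of_isProper E₂
  have hmain : ∀ (ψ : E₁ ⟶ E₂) [IsMonHom ψ], FormallyUnramified ψ.left →
      IsFinite ψ.left ∧ Surjective ψ.left ∧ Etale ψ.left := by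
    intro ψ _ _
    have : IsProper (ψ.left ≫ E₂.hom) := by rw [Over.w]; infer_instance
    have : IsProper ψ.left := IsProper.of_comp ψ.left E₂.hom
    have := (inferInstance : LocallyQuasiFinite ψ.left)
    have : IsFinite ψ.left := IsFinite.of_isProper_of_locallyQuasiFinite ψ.left
    have hs : Surjective ψ.left := Groth.Abvar.Hom.surjective_of_isFinite ψ (hE₁.trans hE₂.symm)
    have := Groth.Abvar.Hom.flat_of_surjective ψ
    have := Groth.AlgGrp1.lfp_left ψ
    exact ⟨inferInstance, hs, Etale.of_formallyUnramified_of_flat ψ.left⟩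
  obtain ⟨z₀, hz₀, hz₀φ, hne⟩ : ∃ z₀ : Groth.GrpschAbsch.specOver k (TrivSqZeroExt k k) ⟶ E₁,
      Groth.GrpschAbsch.base ≫ z₀ = 1 ∧ z₀ ≫ φ' = 1 ∧ z₀ ≠ 1 := by
    by_contra hcon
    push Not at hcon
    exact hφ' (hmain φ' (Groth.GrpschAbsch.formallyUnramified_of_tangent φ' hcon)).2.2
  have : IsMonHom (φ * φ') := Groth.AlgGrp1.isMonHom_of_points _ fun T a b => by
    simp only [MonObj.comp_mul, MonObj.mul_comp]
    exact mul_mul_mul_comm _ _ _ _
  refine hmain (φ * φ') (Groth.GrpschAbsch.formallyUnramified_of_tangent _ fun z hz hzψ => ?_)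
  have hne' : z₀ ≠ Groth.GrpschAbsch.specOverMap (Algebra.ofId k (TrivSqZeroExt k k)) ≫
      (1 : Groth.GrpschAbsch.specOver k k ⟶ E₁) := by
    rwa [MonObj.comp_one]
  obtain ⟨c, hc⟩ := Groth.AbVarMul.exists_scale_eq hE₁.le 1 z₀ z hz₀ hz hne'
  have hzφ' : z ≫ φ' = 1 := by rw [← hc, Category.assoc, hz₀φ, MonObj.comp_one]
  rw [MonObj.comp_mul, hzφ', _root_.mul_one] at hzψ
  have hz1 : Groth.GrpschAbsch.base ≫ z = Groth.GrpschAbsch.base ≫
      (1 : Groth.GrpschAbsch.specOver k (TrivSqZeroExt k k) ⟶ E₁) := by rw [hz, MonObj.comp_one]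
  exact Groth.GrpschAbsch.eq_of_formallyUnramified φ hz1 (by rw [hzψ, MonObj.one_comp])


end Groth.Agent.S12627
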