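import Groth.Statements.S12629
import Groth.Agent.Funfld2.Residue.Canonical

set_option autoImplicit false
universe u v w
open FunFld

namespace Groth.Agent.S12629

/-- Let `K/k` be a geometric function field of one variable all of whose places carry a Laurent
expansion over `k` in a local parameter (so every place is separable), `v ∈ K` with `dv ≠ 0` and `D`
a divisor. The `k`-vector space of differentials `y dv` whose divisor is `≥ D` — the order of
`φ_P(y) · (φ_P v)′` is at least `D(P)` at every place `P`, written with the `X`-adic valuation so
that `y = 0` qualifies — has the same dimension as the space of Weil differentials vanishing on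
`A(D) + K`, the number `δ(D)` in Riemann's form of the Riemann–Roch equation. (The published
statement is over an algebraically closed field; this row is the form for any constant field under
the stated separability of all places.) -/
theorem result (k : Type u) (K : Type v) [Field k] [Field K] [Algebra k K]
    (hK : FunFld.IsFunctionField k K) (hg : FunFld.IsGeometric k K)
    (F : FunFld.Place k K → Type w) [∀ P, Field (F P)] [∀ P, Algebra k (F P)] [∀ P, FiniteDimensional k (F P)]
    (φ : ∀ P, K →ₐ[k] LaurentSeries (F P)) (hφ : ∀ P, LocRes.IsExpansionAt P.1 (φ P))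
    (v : K) (hv : KaehlerDifferential.D k K v ≠ 0) (D : FunFld.Divisor k K) :
    Module.finrank k (Submodule.span k {y : K | ∀ P, LocRes.vDiff (φ P) y v ≤ WithZero.exp (-(D P))}) =
      Module.finrank k (FunFld.WD D) := by
  obtain ⟨-, C, hC, hCeq⟩ := Groth.Funfld2.Residue.exists_canonical hK φ hφ hg one_ne_zero hv
  have hiff := Groth.Funfld2.Residue.forall_vDiff_le_iff hK φ hφ hg hv hCeq
  have hset : {y : K | ∀ P, LocRes.vDiff (φ P) y v ≤ WithZero.exp (-(D P))} = (FunFld.L (C - D) : Set K) := by
    ext y
    exact hiff D y
  rw [hset, Submodule.span_eq]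
  have hcan : FunFld.IsCanonical k K C :=
    ⟨_, Groth.Funfld2.Residue.resForm_ne_zero hK φ hφ hg one_ne_zero hv, hC⟩
  have h1 := Groth.FunFld1.riemann_roch hK hcan D
  obtain ⟨-, h2⟩ := Groth.FunFld1.WD_finrank hK D
  have h3 : (Module.finrank k (FunFld.L (C - D)) : ℤ) = (FunFld.ell (C - D) : ℤ) := rfl
  simp only [Groth.FunFld1.delta] at h2
  omega

end Groth.Agent.S12629
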