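import Groth.Statements.S12631
import Groth.Agent.Funfld2.Residue.Canonical

set_option autoImplicit false
universe u v w
open FunFld

namespace Groth.Agent.S12631

/-- Let `K/k` be a geometric function field of one variable of genus one all of whose places carry a
Laurent expansion over `k` in a local parameter (so every place is separable), and `v ∈ K` with `dv
≠ 0`. Then there is a nonzero `u ∈ K` whose differential `u dv` has divisor zero — the order of
`φ_P(u) · (φ_P v)′` is `0` at every place `P` — and such a `u` is unique up to a factor from `k`.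
(The published statement concerns elliptic curves over algebraically closed fields; this row is the
form for any constant field under the stated separability of all places.) -/
theorem result (k : Type u) (K : Type v) [Field k] [Field K] [Algebra k K]
    (hK : FunFld.IsFunctionField k K) (hg : FunFld.IsGeometric k K) (h1 : FunFld.genus k K = 1)
    (F : FunFld.Place k K → Type w) [∀ P, Field (F P)] [∀ P, Algebra k (F P)] [∀ P, FiniteDimensional k (F P)]
    (φ : ∀ P, K →ₐ[k] LaurentSeries (F P)) (hφ : ∀ P, LocRes.IsExpansionAt P.1 (φ P))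
    (v : K) (hv : KaehlerDifferential.D k K v ≠ 0) :
    (∃ u : K, u ≠ 0 ∧ ∀ P, LocRes.vDiff (φ P) u v = 1) ∧
      ∀ u u' : K, u ≠ 0 → (∀ P, LocRes.vDiff (φ P) u v = 1) → (∀ P, LocRes.vDiff (φ P) u' v = 1) →
        ∃ c : k, u' = c • u := by
  obtain ⟨-, C, hC, hCeq⟩ := Groth.Funfld2.Residue.exists_canonical hK φ hφ hg one_ne_zero hv
  have hiff := Groth.Funfld2.Residue.forall_vDiff_le_iff hK φ hφ hg hv hCeq
  have hF := Groth.FunFld1.IsFF.of_isFunctionField hK
  have hcan : FunFld.IsCanonical k K C :=
    ⟨_, Groth.Funfld2.Residue.resForm_ne_zero hK φ hφ hg one_ne_zero hv, hC⟩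
  have hdeg : C.deg = 0 := by
    rw [Groth.FunFld1.deg_canonical hK hcan, h1]; norm_num
  have hell : FunFld.ell C = 1 := by rw [Groth.FunFld1.ell_canonical hK hcan, h1]
  have hmem : ∀ u : K, (∀ P, LocRes.vDiff (φ P) u v = 1) → u ∈ FunFld.L C := fun u hu => by
    have := (hiff 0 u).1 fun P => by rw [hu P]; simp
    rwa [sub_zero] at this
  have hne : FunFld.L C ≠ ⊥ := fun h => by
    have h0 : FunFld.ell C = 0 := by rw [FunFld.ell, h]; exact finrank_bot k K
    omega
  refine ⟨?_, fun u u' hu0 hu hu' => ?_⟩
  · obtain ⟨u, hu, hCu⟩ := Groth.FunFld1.exists_eq_neg_div hK hne hdeg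
    refine ⟨u, hu, fun P => ?_⟩
    have := DFunLike.congr_fun hCu P
    rw [Finsupp.add_apply, hF.div_apply, Finsupp.zero_apply] at this
    rw [LocRes.vDiff, map_mul, (hφ P).1, Groth.FunFld1.val_eq_exp_neg_ord P hu]
    have h2 := Groth.Funfld2.Residue.vDiff_eq_exp hK φ hφ hg one_ne_zero hv P
    rw [LocRes.vDiff, map_one, one_mul, ← hCeq P] at h2
    rw [h2, ← WithZero.exp_add, ← WithZero.exp_zero]
    congr 1
    omega
  · obtain ⟨c, hc⟩ := exists_smul_eq_of_finrank_eq_one (K := k) (V := FunFld.L C) hell
      (x := ⟨u, hmem u hu⟩) (fun h => hu0 (congrArg Subtype.val h)) ⟨u', hmem u' hu'⟩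
    exact ⟨c, (congrArg Subtype.val hc).symm⟩

end Groth.Agent.S12631
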