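import Groth.Statements.S12659
import Groth.Agent.CycInter.PbBase

set_option autoImplicit false
universe u
open CategoryTheory CategoryTheory.Limits AlgebraicGeometry
open Cyc

namespace Groth.Agent.S12659

/-- Chern class caps commute with proper pushforward: for f : X → Y proper, E finite locally free of
rank r on Y and α a k-cycle on X, f_*(c_j(f^*E) ∩ α) = c_j(E) ∩ f_*α in CH_{k-j}(Y). The caps of
f^*E are taken through the base-changed bundle P' = X ×_Y P (a cartesian square) with O_{P'}(1) the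
pullback of O_P(1) and the induced dimension function on P'; f_* is the proper pushforward of
cycles. Setting: (X, δ) with Cyc.IsSetup stands for a scheme locally of finite type over the base
(S, δ) (X locally Noetherian with universally catenary local rings, δ a dimension function); (p : P
→ X, O_P(1), q) is the projective bundle of E given by its universal property (KRR.IsProjBundle), p
is proper and δP is the induced dimension function (Cyc.DeltaCompat); a tuple γ with Cyc.IsChernCap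
represents (c_0(E) ∩ α, …, c_r(E) ∩ α) through the defining relation Σ_i (-1)^i c_1(O_P(1))^i ∩
p^*(γ_{r-i}) ∼_rat 0 on P, and classes are compared up to rational equivalence of representing
cycles. -/
theorem result (X Y : Scheme.{u}) (δX : X → ℤ) (δY : Y → ℤ) (hX : Cyc.IsSetup X δX) (hY : Cyc.IsSetup Y δY) (f : X ⟶ Y) [IsProper f] (hf : Cyc.DeltaCompat f δX δY) (r : ℕ) (E : Y.Modules) (hPE : FlatMod.IsFinLocFreeOfRank r E) (P : Scheme.{u}) (π : P ⟶ Y) (O1 : P.Modules) (q : (Scheme.Modules.pullback π).obj E ⟶ O1) (hP : KRR.IsProjBundle π E O1 q) [IsProper π] (δP : P → ℤ) (hPs : Cyc.IsSetup P δP) (hπ : Cyc.DeltaCompat π δP δY) (P' : Scheme.{u}) (π' : P' ⟶ X) (f' : P' ⟶ P) (hsq : IsPullback f' π' π f) (δP' : P' → ℤ) (hPs' : Cyc.IsSetup P' δP') (hπ' : Cyc.DeltaCompat π' δP' δX) (k : ℤ) (α : AlgebraicCycle X ℤ) (hα : α ∈ Cyc.Zk X δX k) (γ : Fin (r + 1) → AlgebraicCycle X ℤ) (hγ : Cyc.IsChernCap π' δX δP' ((Scheme.Modules.pullback f').obj O1) r k α γ) (γ' : Fin (r + 1)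 → AlgebraicCycle Y ℤ) (hγ' : Cyc.IsChernCap π δY δP O1 r k (AlgebraicCycle.map f δX δY α) γ') (j : Fin (r + 1)) : Cyc.RatEquiv δY (k - ((j : ℕ) : ℤ)) (AlgebraicCycle.map f δX δY (γ j)) (γ' j) := by
  have hfα := Bivar.cycMap_mem_Zk f δX δY k hα
  rcases Nat.eq_zero_or_pos r with rfl | hr
  · obtain rfl : j = 0 := Fin.ext (by have := j.2; show (j : ℕ) = 0; omega)
    rw [hγ.1, hγ'.1]
    simp only [Fin.val_zero, Nat.cast_zero, sub_zero]
    exact Groth.CycInter.PB.ratEquiv_of_tcl_eq hY (hα := hfα) (hβ := hfα) rfl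
  let B : Groth.CycInter.PB.Bun Y δY := ⟨P, π, E, O1, q, hP, r, hr, hPE, δP, hY, hPs, hπ, inferInstance⟩
  let B' := B.bc f hX hsq hPs' hπ'
  haveI : IsProper f' := MorphismProperty.of_isPullback hsq.flip ‹IsProper f›
  have hf' : Cyc.DeltaCompat f' δP' δP := Groth.CycInter.Dvr.deltaCompat_of_comp f' (g := π)
    (by rw [hsq.w]; exact Bivar.deltaCompat_comp π' f δP' δX δY hπ' hf) hπ
  have hm := Bivar.cycMap_mem_Zk f δX δY _ (hγ.2.1 j)
  refine Groth.CycInter.PB.ratEquiv_of_tcl_eq hY (hα := hm) (hβ := hγ'.2.1 j) ?_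
  rw [← B.chern_tcl hfα hγ' j, ← Groth.CycInter.PB.pushT_tcl hY hX f hf (γ j) (hγ.2.1 j) hm rfl,
    ← Groth.CycInter.PB.pushT_tcl hY hX f hf α hα hfα rfl, ← B'.chern_tcl hα hγ j]
  exact B.chern_pushT f hX hsq hPs' hπ' hf hf' j _

end Groth.Agent.S12659
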