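import Groth.Statements.S1266
import Groth.Agent.RaynaudGruson.SpreadoutUnivInj

set_option autoImplicit false
universe u
open FlatMor

namespace Groth.Agent.S1266

open TensorProduct in
/-- Let B be a finitely presented A-algebra, T a multiplicative subset of B, and N a finitely presented
module over the localization T⁻¹B which is flat as an A-module. Let M be a flat A-module and u an
A-linear map from N to M such that u ⊗ κ(p) is injective for every prime p of A. Then u is
universally injective over A. -/
theorem result {A B : Type u} [CommRing A] [CommRing B] [Algebra A B] [Algebra.FinitePresentation A B]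
    (T : Submonoid B) (N : Type u) [AddCommGroup N] [Module (Localization T) N] [Module A N] [IsScalarTower A (Localization T) N]
    [Module.FinitePresentation (Localization T) N] [Module.Flat A N]
    (M : Type u) [AddCommGroup M] [Module A M] [Module.Flat A M] (u : N →ₗ[A] M)
    (h : ∀ (p : Ideal A) [p.IsPrime], Function.Injective (u.lTensor p.ResidueField)) :
    FlatCA.UnivInj A u := by
  classical
  letI : Module B N := Module.compHom N (algebraMap B (Localization T))
  haveI : IsScalarTower B (Localization T) N := IsScalarTower.of_algebraMap_smul fun _ _ => rfl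
  haveI : IsScalarTower A B N := IsScalarTower.of_algebraMap_smul fun (a : A) (x : N) => by
    rw [← algebraMap_smul (Localization T) (algebraMap A B a) x, ← IsScalarTower.algebraMap_apply, algebraMap_smul]
  intro Q _ _
  rw [injective_iff_map_eq_zero]
  intro z hz
  let J : Ideal A := LinearMap.ker (LinearMap.toSpanSingleton A (Q ⊗[A] N) z)
  suffices hJ : J = ⊤ by
    have h1 : (1 : A) • z = 0 := (hJ ▸ Submodule.mem_top : (1 : A) ∈ J)
    rwa [one_smul] at h1
  by_contra hJ
  obtain ⟨q, hq, hJq⟩ := Ideal.exists_le_maximal J hJ
  haveI := hq.isPrime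
  obtain ⟨p, hp, -⟩ := Ideal.exists_minimalPrimes_le hJq
  haveI := hp.1.1
  obtain ⟨I, hIfg, hIle, B₁, N₁, _, _, _, T₁, _, _, _, _, _, e, hspread⟩ :=
    Groth.RaynaudGruson.PureSpreadout.exists_hasPureSpreadout_model T N p
  let Ap := Localization.AtPrime p
  let A₁ := Ap ⧸ I
  haveI : Nontrivial A₁ := Ideal.Quotient.nontrivial_iff.mpr
    fun h0 => (IsLocalRing.maximalIdeal.isMaximal Ap).ne_top (top_le_iff.mp (h0 ▸ hIle))
  haveI : IsLocalRing A₁ := IsLocalRing.of_surjective' (Ideal.Quotient.mk I) Ideal.Quotient.mk_surjective
  -- injectivity on the closed point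
  have hres : ∀ (m : Ideal A₁) [m.IsMaximal],
      Function.Injective (((u.baseChange A₁).comp e.toLinearMap).lTensor (A₁ ⧸ m)) := by
    intro m _
    letI : Field (A₁ ⧸ m) := Ideal.Quotient.field m
    have hker : ∀ r ∈ p, algebraMap A (A₁ ⧸ m) r = 0 := by
      intro r hr
      rw [IsScalarTower.algebraMap_apply A A₁ (A₁ ⧸ m), Ideal.Quotient.algebraMap_eq, Ideal.Quotient.eq_zero_iff_mem]
      have h1 : algebraMap A Ap r ∈ m.comap (Ideal.Quotient.mk I) := by
        haveI : (m.comap (Ideal.Quotient.mk I)).IsMaximal :=
          Ideal.comap_isMaximal_of_surjective _ Ideal.Quotient.mk_surjective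
        rw [IsLocalRing.eq_maximalIdeal ‹(m.comap (Ideal.Quotient.mk I)).IsMaximal›]
        exact (IsLocalization.AtPrime.to_map_mem_maximal_iff Ap p r).mpr hr
      exact h1
    letI : Algebra p.ResidueField (A₁ ⧸ m) := (Ideal.ResidueField.lift p (algebraMap A (A₁ ⧸ m))
      (fun r hr => hker r hr) (fun r hr => show IsUnit (algebraMap A (A₁ ⧸ m) r) by
        rw [IsScalarTower.algebraMap_apply A Ap (A₁ ⧸ m)]
        exact (IsLocalization.map_units Ap (⟨r, hr⟩ : p.primeCompl)).map _)).toAlgebra
    haveI : IsScalarTower A p.ResidueField (A₁ ⧸ m) := .of_algebraMap_eq fun r =>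
      (Ideal.ResidueField.lift_algebraMap ..).symm
    have hA : Function.Injective (u.lTensor (A₁ ⧸ m)) :=
      Groth.RaynaudGruson.injective_lTensor_field (K := p.ResidueField) u (h p)
    rw [LinearMap.lTensor_comp]
    exact ((Groth.RaynaudGruson.SpreadoutUnivInj.injective_lTensor_baseChange_iff u).mpr hA).comp
      (LinearEquiv.lTensor (A₁ ⧸ m) e).injective
  have hui := Groth.RaynaudGruson.SpreadoutUnivInj.univInj T₁ N₁ hspread (TensorProduct A A₁ M)
    ((u.baseChange A₁).comp e.toLinearMap) hres
  -- modules over the quotient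
  have h₁ : ∀ (P : Type u) [AddCommGroup P] [Module A₁ P] [Module A P] [IsScalarTower A A₁ P],
      Function.Injective (u.lTensor P) := by
    intro P _ _ _ _
    refine (Groth.RaynaudGruson.SpreadoutUnivInj.injective_lTensor_baseChange_iff (A₁ := A₁) (P := P) u).mp
      fun x y hxy => ?_
    obtain ⟨x, rfl⟩ := (LinearEquiv.lTensor P e).surjective x
    obtain ⟨y, rfl⟩ := (LinearEquiv.lTensor P e).surjective y
    have h2 : ((u.baseChange A₁).comp e.toLinearMap).lTensor P x = ((u.baseChange A₁).comp e.toLinearMap).lTensor P y := by
      rw [LinearMap.lTensor_comp_apply, LinearMap.lTensor_comp_apply]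
      exact hxy
    rw [hui P h2]
  -- nilpotent thickenings
  obtain ⟨G, hG⟩ := hIfg
  have hn : ∀ (n : ℕ) (P : Type u) [AddCommGroup P] [Module Ap P] [Module A P] [IsScalarTower A Ap P]
      (w : P ⊗[A] N), (∀ r ∈ I ^ n, r • w = 0) → u.lTensor P w = 0 → w = 0 := by
    intro n
    induction n with
    | zero =>
      intro P _ _ _ _ w hw _
      simpa using hw 1 (by simp)
    | succ n ih =>
      intro P _ _ _ _ w hw huw
      have hu' : ∀ (r : Ap) (w : P ⊗[A] N), u.lTensor P (r • w) = r • u.lTensor P w := fun r w => by
        induction w with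
        | zero => simp
        | add a b ha hb => rw [smul_add, map_add, ha, hb, map_add, smul_add]
        | tmul x y => simp [smul_tmul']
      have hrw : ∀ r ∈ I, r • w = 0 := fun r hr => ih P (r • w)
        (fun s hs => by rw [smul_smul]; exact hw _ (by rw [pow_succ]; exact Ideal.mul_mem_mul hs hr))
        (by rw [hu', huw, smul_zero])
      let Φ : P →ₗ[A] ({r // r ∈ G} → P) := LinearMap.pi fun r => (LinearMap.lsmul Ap P (r.1)).restrictScalars A
      have hΦ : Φ.rTensor N w = 0 := by
        apply (TensorProduct.piLeft A N fun _ : {r // r ∈ G} => P).injective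
        rw [map_zero]
        funext r
        have key : ∀ v : P ⊗[A] N, TensorProduct.piLeft A N (fun _ : {r // r ∈ G} => P) (Φ.rTensor N v) r = r.1 • v := by
          intro v
          induction v with
          | zero => simp
          | add a b ha hb => rw [map_add, map_add, Pi.add_apply, ha, hb, smul_add]
          | tmul x y => simp [Φ, smul_tmul']
        rw [key]
        exact hrw _ (hG ▸ Submodule.subset_span r.2)
      obtain ⟨v, rfl⟩ := (Module.Flat.rTensor_exact N (LinearMap.exact_subtype_ker_map Φ) w).mp hΦ
      have htors : Module.IsTorsionBySet Ap (Submodule.torsionBySet Ap P (I : Set Ap)) (I : Set Ap) :=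
        Submodule.torsionBySet_isTorsionBySet _
      let K := Submodule.torsionBySet Ap P (I : Set Ap)
      letI : Module A₁ K := htors.module
      haveI : IsScalarTower A A₁ K := IsScalarTower.of_algebraMap_smul (R := A) (A := A₁) fun (a : A) (x : K) => by
        show Ideal.Quotient.mk I (algebraMap A Ap a) • x = a • x
        exact Subtype.ext (algebraMap_smul Ap a (x : P))
      let ι : LinearMap.ker Φ →ₗ[A] K :=
        { toFun := fun x => ⟨x.1, (Submodule.mem_torsionBySet_iff _ _).mpr fun ⟨a, haI⟩ => by
            have hx : ∀ r ∈ G, r • (x : P) = 0 := fun r hr => congrFun (LinearMap.mem_ker.mp x.2) ⟨r, hr⟩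
            show a • (x : P) = 0
            have ha : a ∈ Ideal.span (G : Set Ap) := hG.symm ▸ haI
            clear haI
            induction ha using Submodule.span_induction with
            | mem r hr => exact hx r hr
            | zero => simp
            | add r s _ _ hr hs => rw [add_smul, hr, hs, add_zero]
            | smul c r _ hr => rw [smul_eq_mul, mul_smul, hr, smul_zero]⟩
          map_add' := fun _ _ => rfl
          map_smul' := fun _ _ => rfl }
      let j : K →ₗ[A] P := (K.subtype).restrictScalars A
      have hcomp : (LinearMap.ker Φ).subtype = j.comp ι := LinearMap.ext fun _ => rfl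
      rw [hcomp, LinearMap.rTensor_comp_apply] at huw ⊢
      have h2 : j.rTensor M (u.lTensor K (ι.rTensor N v)) = 0 := by
        rw [← huw]
        generalize ι.rTensor N v = y
        induction y with
        | zero => simp
        | add a b ha hb => simp only [map_add, ha, hb]
        | tmul x n => simp
      have h3 := (Module.Flat.rTensor_preserves_injective_linearMap (M := M) j Subtype.val_injective)
        (h2.trans (map_zero _).symm)
      rw [h₁ K (h3.trans (map_zero _).symm), map_zero]
  -- at the minimal prime
  let ℓ := LocalizedModule.mkLinearMap p.primeCompl Q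
  let w := AlgebraTensorModule.rTensor A N ℓ z
  have hJI : ∃ n : ℕ, I ^ n ≤ J.map (algebraMap A Ap) := by
    refine Ideal.exists_pow_le_of_le_radical_of_fg ?_ ⟨G, hG⟩
    refine hIle.trans ?_
    rw [← Ideal.sInf_minimalPrimes]
    refine le_sInf fun P hP => ?_
    haveI := hP.1.1
    have h1 : P.comap (algebraMap A Ap) ≤ p :=
      fun a ha => (IsLocalization.AtPrime.to_map_mem_maximal_iff Ap p a).mp (IsLocalRing.le_maximalIdeal hP.1.1.ne_top ha)
    have h2 : p ≤ P.comap (algebraMap A Ap) :=
      hp.2 ⟨inferInstance, fun a ha => hP.1.2 (Ideal.mem_map_of_mem _ ha)⟩ h1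
    rw [← Localization.AtPrime.map_eq_maximalIdeal]
    exact Ideal.map_le_iff_le_comap.mpr h2
  obtain ⟨n, hn'⟩ := hJI
  have hw0 : w = 0 := by
    refine hn n (LocalizedModule p.primeCompl Q) w (fun r hr => ?_) ?_
    · have hr' := hn' hr
      clear hr
      induction hr' using Submodule.span_induction with
      | mem x hx =>
        obtain ⟨a, ha, rfl⟩ := hx
        rw [algebraMap_smul, ← LinearMap.map_smul_of_tower, show a • z = 0 from ha, map_zero]
      | zero => simp
      | add a b _ _ ha hb => rw [add_smul, ha, hb, add_zero]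
      | smul c a _ ha => rw [smul_eq_mul, mul_smul, ha, smul_zero]
    · have key : ∀ y : Q ⊗[A] N, u.lTensor (LocalizedModule p.primeCompl Q) (AlgebraTensorModule.rTensor A N ℓ y) =
          ℓ.rTensor M (u.lTensor Q y) := fun y => by
        induction y with
        | zero => simp
        | add a b ha hb => simp only [map_add, ha, hb]
        | tmul a b => simp
      show u.lTensor _ (AlgebraTensorModule.rTensor A N ℓ z) = 0
      rw [key, hz, map_zero]
  obtain ⟨⟨s, hs⟩, hsz⟩ := (IsLocalizedModule.eq_zero_iff p.primeCompl (AlgebraTensorModule.rTensor A N ℓ)).mp hw0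
  exact hs (hp.1.2 hsz)

end Groth.Agent.S1266
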