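import Groth.Statements.S12662
import Groth.Agent.CycInter.PbBase

set_option autoImplicit false
universe u
open CategoryTheory CategoryTheory.Limits AlgebraicGeometry
open Cyc

namespace Groth.Agent.S12662

/-- For E, F finite locally free of ranks r, s on X and α ∈ CH_k(X), c_i(E) ∩ c_j(F) ∩ α = c_j(F) ∩
c_i(E) ∩ α in CH_{k-i-j}(X). Both bundles enter through their projective bundles (P, O_P(1)), (Q,
O_Q(1)); the iterated caps are represented by nested tuples (a tuple for F over the i-th component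
of a tuple for E over α, and symmetrically). (The published statement also asserts that c_j(E) is
central in the bivariant ring A^*(X) and commutes with every bivariant class of a morphism X' → X;
only the displayed consequence for two Chern classes is stated here.) Setting: (X, δ) with
Cyc.IsSetup stands for a scheme locally of finite type over the base (S, δ) (X locally Noetherian
with universally catenary local rings, δ a dimension function); (p : P → X, O_P(1), q) is the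
projective bundle of E given by its universal property (KRR.IsProjBundle), p is proper and δP is the
induced dimension function (Cyc.DeltaCompat); a tuple γ with Cyc.IsChernCap represents (c_0(E) ∩ α,
…, c_r(E) ∩ α) through the defining relation Σ_i (-1)^i c_1(O_P(1))^i ∩ p^*(γ_{r-i}) ∼_rat 0 on P,
and classes are compared up to rational equivalence of representing cycles. -/
theorem result (X : Scheme.{u}) (δ : X → ℤ) (hX : Cyc.IsSetup X δ) (r s : ℕ) (E : X.Modules) (hPE : FlatMod.IsFinLocFreeOfRank r E) (P : Scheme.{u}) (p : P ⟶ X) (O1 : P.Modules) (q : (Scheme.Modules.pullback p).obj E ⟶ O1) (hP : KRR.IsProjBundle p E O1 q) [IsProper p] (δP : P → ℤ) (hPs : Cyc.IsSetup P δP) (hδ : Cyc.DeltaCompat p δP δ) (F : X.Modules) (hQE : FlatMod.IsFinLocFreeOfRank s F) (Q : Scheme.{u}) (p' : Q ⟶ X) (O1' : Q.Modules) (q' : (Scheme.Modules.pullback p').obj F ⟶ O1') (hQ : KRR.IsProjBundle p' F O1' q') [IsProper p'] (δQ : Q → ℤ) (hQs : Cyc.IsSetup Q δQ) (hδ'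 : Cyc.DeltaCompat p' δQ δ) (k : ℤ) (α : AlgebraicCycle X ℤ) (hα : α ∈ Cyc.Zk X δ k) (i : Fin (r + 1)) (j : Fin (s + 1)) (γ : Fin (r + 1) → AlgebraicCycle X ℤ) (hγ : Cyc.IsChernCap p δ δP O1 r k α γ) (ε : Fin (s + 1) → AlgebraicCycle X ℤ) (hε : Cyc.IsChernCap p' δ δQ O1' s (k - ((i : ℕ) : ℤ)) (γ i) ε) (φ : Fin (s + 1) → AlgebraicCycle X ℤ) (hφ : Cyc.IsChernCap p' δ δQ O1' s k α φ) (ψ : Fin (r + 1) → AlgebraicCycle X ℤ) (hψ : Cyc.IsChernCap p δ δP O1 r (k - ((j : ℕ) : ℤ)) (φ j) ψ) : Cyc.RatEquiv δ (k - ((i : ℕ) : ℤ) - ((j : ℕ) : ℤ)) (ε j) (ψ i) := by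
  have hεm := hε.2.1 j
  have hψm : ψ i ∈ Cyc.Zk X δ (k - ((i : ℕ) : ℤ) - ((j : ℕ) : ℤ)) := by
    rw [sub_right_comm]; exact hψ.2.1 i
  refine Groth.CycInter.PB.ratEquiv_of_tcl_eq hX (hα := hεm) (hβ := hψm) ?_
  rcases Nat.eq_zero_or_pos r with rfl | hr
  · obtain rfl : i = 0 := Fin.ext (by have := i.2; show (i : ℕ) = 0; omega)
    rcases Nat.eq_zero_or_pos s with rfl | hs
    · obtain rfl : j = 0 := Fin.ext (by have := j.2; show (j : ℕ) = 0; omega)
      exact Groth.CycInter.PB.tcl_congr rfl (by rw [hε.1, hψ.1, hφ.1, hγ.1]) _ _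
    let C : Groth.CycInter.PB.Bun X δ := ⟨Q, p', F, O1', q', hQ, s, hs, hQE, δQ, hX, hQs, hδ', inferInstance⟩
    rw [← C.chern_tcl (hγ.2.1 0) hε j]
    rw [Groth.CycInter.PB.tcl_congr (by simp) hγ.1 (hγ.2.1 0) hα, C.chern_tcl hα hφ j]
    exact Groth.CycInter.PB.tcl_congr (by simp) hψ.1.symm _ _
  rcases Nat.eq_zero_or_pos s with rfl | hs
  · obtain rfl : j = 0 := Fin.ext (by have := j.2; show (j : ℕ) = 0; omega)
    let B : Groth.CycInter.PB.Bun X δ := ⟨P, p, E, O1, q, hP, r, hr, hPE, δP, hX, hPs, hδ, inferInstance⟩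
    rw [Groth.CycInter.PB.tcl_congr (by ring) rfl hψm (hψ.2.1 i), ← B.chern_tcl (hφ.2.1 0) hψ i,
      Groth.CycInter.PB.tcl_congr (by simp) hφ.1 (hφ.2.1 0) hα, B.chern_tcl hα hγ i]
    exact Groth.CycInter.PB.tcl_congr (by simp) hε.1 _ _
  let B : Groth.CycInter.PB.Bun X δ := ⟨P, p, E, O1, q, hP, r, hr, hPE, δP, hX, hPs, hδ, inferInstance⟩
  let C : Groth.CycInter.PB.Bun X δ := ⟨Q, p', F, O1', q', hQ, s, hs, hQE, δQ, hX, hQs, hδ', inferInstance⟩
  obtain ⟨δR, hδR⟩ := Groth.CycInter.Biv.exists_delta (pullback.snd p' p) δP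
  have hR := Groth.CycInter.P1C.isSetup_of_lft hPs (pullback.snd p' p) hδR
  have hδR' : Cyc.DeltaCompat (pullback.fst p' p) δR δQ :=
    Groth.CycInter.Dvr.deltaCompat_of_comp (pullback.fst p' p) (g := p')
      (by rw [pullback.condition]; exact Bivar.deltaCompat_comp (pullback.snd p' p) p δR δP δ hδR hδ) hδ'
  rw [Groth.CycInter.PB.tcl_congr (by ring) rfl hψm (hψ.2.1 i), ← B.chern_tcl (hφ.2.1 j) hψ i,
    ← C.chern_tcl (hγ.2.1 i) hε j, ← B.chern_tcl hα hγ i, ← C.chern_tcl hα hφ j]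
  exact B.chern_comm C (IsPullback.of_hasPullback p' p) hR hδR hδR' i j _

end Groth.Agent.S12662
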