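import Groth.Statements.S12663
import Groth.Agent.CycInter.PbOps

set_option autoImplicit false
universe u
open CategoryTheory CategoryTheory.Limits AlgebraicGeometry
open Cyc

namespace Groth.Agent.S12663

/-- If E, F are finite locally free of ranks m + 1, m on X sitting in a short exact sequence 0 → O_X → E
→ F → 0, then c_{m+1}(E) = 0 and c_j(E) = c_j(F) for j = 0, …, m, as cap operations: for every
k-cycle α, c_{m+1}(E) ∩ α ∼_rat 0 and c_j(E) ∩ α ∼_rat c_j(F) ∩ α. Setting: (X, δ) with Cyc.IsSetup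
stands for a scheme locally of finite type over the base (S, δ) (X locally Noetherian with
universally catenary local rings, δ a dimension function); (p : P → X, O_P(1), q) is the projective
bundle of E given by its universal property (KRR.IsProjBundle), p is proper and δP is the induced
dimension function (Cyc.DeltaCompat); a tuple γ with Cyc.IsChernCap represents (c_0(E) ∩ α, …,
c_r(E) ∩ α) through the defining relation Σ_i (-1)^i c_1(O_P(1))^i ∩ p^*(γ_{r-i}) ∼_rat 0 on P, and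
classes are compared up to rational equivalence of representing cycles. -/
theorem result (X : Scheme.{u}) (δ : X → ℤ) (hX : Cyc.IsSetup X δ) (m : ℕ) (E : X.Modules) (hPE : FlatMod.IsFinLocFreeOfRank (m + 1) E) (P : Scheme.{u}) (p : P ⟶ X) (O1 : P.Modules) (q : (Scheme.Modules.pullback p).obj E ⟶ O1) (hP : KRR.IsProjBundle p E O1 q) [IsProper p] (δP : P → ℤ) (hPs : Cyc.IsSetup P δP) (hδ : Cyc.DeltaCompat p δP δ) (F : X.Modules) (hQE : FlatMod.IsFinLocFreeOfRank m F) (Q : Scheme.{u}) (p' : Q ⟶ X) (O1' : Q.Modules) (q' : (Scheme.Modules.pullback p').obj F ⟶ O1') (hQ : KRR.IsProjBundle p' F O1' q') [IsProper p'] (δQ : Q → ℤ) (hQs : Cyc.IsSetup Q δQ) (hδ' : Cyc.DeltaCompat p' δQ δ) (a : Coh.structureModule X ⟶ E) (b : E ⟶ F) (hab : a ≫ b = 0) (hex : (ShortComplex.mk a b hab).ShortExact) (k : ℤ) (α : AlgebraicCycle X ℤ) (hα : α ∈ Cyc.Zk X δ k) (γ : Fin (m + 2) → AlgebraicCycle X ℤ) (hγ : Cyc.IsChernCap p δ δP O1 (m + 1) k α γ) (γ' : Fin (m + 1)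 → AlgebraicCycle X ℤ) (hγ' : Cyc.IsChernCap p' δ δQ O1' m k α γ') : Cyc.RatEquivZero δ (k - ((m : ℤ) + 1)) (γ (Fin.last (m + 1))) ∧ ∀ j : Fin (m + 1), Cyc.RatEquiv δ (k - ((j : ℕ) : ℤ)) (γ (Fin.castSucc j)) (γ' j) := by
  haveI := hex.epi_g
  have hO := Groth.LocFree.isInvertible_iff_ofRank_one.mpr (Groth.LocFree.isFinLocFreeOfRank_unit X)
  have key : ∀ n : ℕ, Groth.CycInter.PB.chernE hX hPE n (Groth.CycInter.PB.tcl α hα) =
      Groth.CycInter.PB.chernE hX hQE n (Groth.CycInter.PB.tcl α hα) := by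
    rintro (_ | n)
    · rw [Groth.CycInter.PB.chernE_zero, Groth.CycInter.PB.chernE_zero]
    · rw [Groth.CycInter.PB.chernE_line_sub hX hO hPE hQE a b hab hex.exact n,
        Groth.CycInter.PB.c1T_structureModule hX hO, AddMonoidHom.zero_apply, add_zero]
  refine ⟨?_, fun j => ?_⟩
  · have hm : γ (Fin.last (m + 1)) ∈ Cyc.Zk X δ (k - ((m : ℤ) + 1)) := by
      rw [show k - ((m : ℤ) + 1) = k - ((Fin.last (m + 1) : ℕ) : ℤ) by simp]
      exact hγ.2.1 _
    refine Groth.CycInter.PB.ratEquivZero_of_tcl_eq_zero hX (hα := hm) ?_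
    refine ((Groth.CycInter.PB.chernE_tcl hX hPE hP hPs hδ hα hγ (Fin.last (m + 1))).trans
      (Groth.CycInter.PB.tcl_congr (by simp) rfl _ _)).symm.trans ((key _).trans ?_)
    rw [Groth.CycInter.PB.chernE_of_lt hX hQE (show m < (Fin.last (m + 1) : ℕ) from Nat.lt_succ_self m)]
    rfl
  · have hm : γ (Fin.castSucc j) ∈ Cyc.Zk X δ (k - ((j : ℕ) : ℤ)) := hγ.2.1 (Fin.castSucc j)
    refine Groth.CycInter.PB.ratEquiv_of_tcl_eq hX (hα := hm) (hβ := hγ'.2.1 j) ?_
    exact (Groth.CycInter.PB.chernE_tcl hX hPE hP hPs hδ hα hγ (Fin.castSucc j)).symm.trans ((key _).trans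
      (Groth.CycInter.PB.chernE_tcl hX hQE hQ hQs hδ' hα hγ' j))

end Groth.Agent.S12663
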