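import Groth.Statements.S12664
import Groth.Agent.CycInter.PbOps

set_option autoImplicit false
universe u
open CategoryTheory CategoryTheory.Limits AlgebraicGeometry
open Cyc

namespace Groth.Agent.S12664

/-- If 0 → L → E → F → 0 is a short exact sequence on X with L invertible and E, F finite locally free
of ranks m + 1, m, then c(E) = c(L) c(F), that is c_i(E) = c_i(F) + c_1(L) c_{i-1}(F) for i = 1, …,
m and c_{m+1}(E) = c_1(L) c_m(F), as cap operations on every k-cycle α, with c_1(L) ∩ - computed on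
coefficient functions from any nonzero rational sections (Cyc.c1CapFun) applied to the
representatives of c_{i-1}(F) ∩ α. Setting: (X, δ) with Cyc.IsSetup stands for a scheme locally of
finite type over the base (S, δ) (X locally Noetherian with universally catenary local rings, δ a
dimension function); (p : P → X, O_P(1), q) is the projective bundle of E given by its universal
property (KRR.IsProjBundle), p is proper and δP is the induced dimension function (Cyc.DeltaCompat);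
a tuple γ with Cyc.IsChernCap represents (c_0(E) ∩ α, …, c_r(E) ∩ α) through the defining relation
Σ_i (-1)^i c_1(O_P(1))^i ∩ p^*(γ_{r-i}) ∼_rat 0 on P, and classes are compared up to rational
equivalence of representing cycles. -/
theorem result (X : Scheme.{u}) (δ : X → ℤ) (hX : Cyc.IsSetup X δ) (m : ℕ) (E : X.Modules) (hPE : FlatMod.IsFinLocFreeOfRank (m + 1) E) (P : Scheme.{u}) (p : P ⟶ X) (O1 : P.Modules) (q : (Scheme.Modules.pullback p).obj E ⟶ O1) (hP : KRR.IsProjBundle p E O1 q) [IsProper p] (δP : P → ℤ) (hPs : Cyc.IsSetup P δP) (hδ : Cyc.DeltaCompat p δP δ) (F : X.Modules) (hQE : FlatMod.IsFinLocFreeOfRank m F) (Q : Scheme.{u}) (p' : Q ⟶ X) (O1' : Q.Modules) (q' : (Scheme.Modules.pullback p').obj F ⟶ O1') (hQ : KRR.IsProjBundle p' F O1' q') [IsProper p'] (δQ : Q → ℤ) (hQs : Cyc.IsSetup Q δQ) (hδ' : Cyc.DeltaCompat p' δQ δ) (L : X.Modules) (hL : PicF.IsInvertible L) (a : L ⟶ E) (b : E ⟶ F) (hab : a ≫ b = 0) (hex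 : (ShortComplex.mk a b hab).ShortExact) (k : ℤ) (α : AlgebraicCycle X ℤ) (hα : α ∈ Cyc.Zk X δ k) (γ : Fin (m + 2) → AlgebraicCycle X ℤ) (hγ : Cyc.IsChernCap p δ δP O1 (m + 1) k α γ) (γ' : Fin (m + 1) → AlgebraicCycle X ℤ) (hγ' : Cyc.IsChernCap p' δ δQ O1' m k α γ') (t : (ξ : X) → Cyc.secFibre L ξ) (ht : ∀ ξ, t ξ ≠ 0) (ζ : Fin (m + 1) → AlgebraicCycle X ℤ) (hζ : ∀ j, ⇑(ζ j) = Cyc.c1CapFun δ L ⇑(γ' j) t) : (∀ j : Fin m, Cyc.RatEquiv δ (k - ((j : ℕ) : ℤ) - 1) (γ (Fin.succ (Fin.castSucc j))) (γ' (Fin.succ j) + ζ (Fin.castSucc j))) ∧ Cyc.RatEquiv δ (k - (m : ℤ) - 1) (γ (Fin.last (m + 1))) (ζ (Fin.last m)) := by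
  haveI := hex.epi_g
  have key : ∀ (n : ℕ) (hn : n ≤ m) (z : Groth.CycInter.PB.Tot X δ),
      Groth.CycInter.PB.chernE hX hPE (n + 1) z = Groth.CycInter.PB.chernE hX hQE (n + 1) z +
        Groth.CycInter.PB.c1T hX hL (Groth.CycInter.PB.chernE hX hQE n z) := fun n _ z =>
    Groth.CycInter.PB.chernE_line_sub hX hL hPE hQE a b hab hex.exact n z
  have hζm : ∀ j : Fin (m + 1), ζ j ∈ Cyc.Zk X δ (k - ((j : ℕ) : ℤ) - 1) := fun j =>
    Groth.CycInter.Biv.c1Cap_mem _ (hγ'.2.1 j) _ (hζ j)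
  have hc : ∀ j : Fin (m + 1), Groth.CycInter.PB.c1T hX hL (Groth.CycInter.PB.chernE hX hQE j
      (Groth.CycInter.PB.tcl α hα)) = Groth.CycInter.PB.tcl (ζ j) (hζm j) := fun j => by
    rw [Groth.CycInter.PB.chernE_tcl hX hQE hQ hQs hδ' hα hγ' j]
    exact Groth.CycInter.PB.c1T_tcl hX hL _ _ hL (Iso.refl _) ht _ (hζ j) _ rfl
  refine ⟨fun j => ?_, ?_⟩
  · have hm : γ (Fin.succ (Fin.castSucc j)) ∈ Cyc.Zk X δ (k - ((j : ℕ) : ℤ) - 1) := by
      rw [show k - ((j : ℕ) : ℤ) - 1 = k - ((Fin.succ (Fin.castSucc j) : ℕ) : ℤ) by simp; ring]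
      exact hγ.2.1 _
    have hm' : γ' (Fin.succ j) ∈ Cyc.Zk X δ (k - ((j : ℕ) : ℤ) - 1) := by
      rw [show k - ((j : ℕ) : ℤ) - 1 = k - ((Fin.succ j : ℕ) : ℤ) by simp; ring]
      exact hγ'.2.1 _
    refine Groth.CycInter.PB.ratEquiv_of_tcl_eq hX (hα := hm)
      (hβ := (ChowOps.zk X δ _).add_mem hm' (hζm (Fin.castSucc j))) ?_
    refine Eq.trans ?_ (Groth.CycInter.PB.tcl_add hm' (hζm (Fin.castSucc j)) _).symm
    have h := key (Fin.castSucc j : ℕ) (by simp) (Groth.CycInter.PB.tcl α hα)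
    rw [hc (Fin.castSucc j)] at h
    refine Eq.trans ?_ (h.trans ?_)
    · exact ((Groth.CycInter.PB.chernE_tcl hX hPE hP hPs hδ hα hγ (Fin.succ (Fin.castSucc j))).trans
        (Groth.CycInter.PB.tcl_congr (by simp; ring) rfl _ _)).symm
    · refine congrArg (· + _) ?_
      exact (Groth.CycInter.PB.chernE_tcl hX hQE hQ hQs hδ' hα hγ' (Fin.succ j)).trans
        (Groth.CycInter.PB.tcl_congr (by simp; ring) rfl _ _)
  · have hm : γ (Fin.last (m + 1)) ∈ Cyc.Zk X δ (k - (m : ℤ) - 1) := by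
      rw [show k - (m : ℤ) - 1 = k - ((Fin.last (m + 1) : ℕ) : ℤ) by simp; ring]
      exact hγ.2.1 _
    have hm2 : ζ (Fin.last m) ∈ Cyc.Zk X δ (k - (m : ℤ) - 1) := hζm (Fin.last m)
    refine Groth.CycInter.PB.ratEquiv_of_tcl_eq hX (hα := hm) (hβ := hm2) ?_
    have h := key m le_rfl (Groth.CycInter.PB.tcl α hα)
    rw [Groth.CycInter.PB.chernE_of_lt hX hQE (Nat.lt_succ_self m)] at h
    refine Eq.trans ?_ ((h.trans (zero_add _)).trans (hc (Fin.last m)))
    exact ((Groth.CycInter.PB.chernE_tcl hX hPE hP hPs hδ hα hγ (Fin.last (m + 1))).trans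
      (Groth.CycInter.PB.tcl_congr (by simp; ring) rfl _ _)).symm

end Groth.Agent.S12664
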