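import Groth.Statements.S12665
import Groth.Agent.CycInter.PbSplit

set_option autoImplicit false
universe u
open CategoryTheory CategoryTheory.Limits AlgebraicGeometry
open Cyc

namespace Groth.Agent.S12665

/-- For a short exact sequence 0 → E₁ → E → E₂ → 0 of finite locally free modules of ranks r₁, r₁ + r₂,
r₂ on X, c(E) = c(E₁) c(E₂), that is c_j(E) ∩ α ∼_rat Σ_{a+b=j} c_a(E₁) ∩ (c_b(E₂) ∩ α) for every
k-cycle α and every j; the inner caps are represented by a tuple for E₂ over α and, for each of its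
components, a tuple for E₁ over it. Setting: (X, δ) with Cyc.IsSetup stands for a scheme locally of
finite type over the base (S, δ) (X locally Noetherian with universally catenary local rings, δ a
dimension function); (p : P → X, O_P(1), q) is the projective bundle of E given by its universal
property (KRR.IsProjBundle), p is proper and δP is the induced dimension function (Cyc.DeltaCompat);
a tuple γ with Cyc.IsChernCap represents (c_0(E) ∩ α, …, c_r(E) ∩ α) through the defining relation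
Σ_i (-1)^i c_1(O_P(1))^i ∩ p^*(γ_{r-i}) ∼_rat 0 on P, and classes are compared up to rational
equivalence of representing cycles. -/
theorem result (X : Scheme.{u}) (δ : X → ℤ) (hX : Cyc.IsSetup X δ) (r₁ r₂ : ℕ) (E₁ : X.Modules) (hP₁E : FlatMod.IsFinLocFreeOfRank r₁ E₁) (P₁ : Scheme.{u}) (p₁ : P₁ ⟶ X) (O₁ : P₁.Modules) (q₁ : (Scheme.Modules.pullback p₁).obj E₁ ⟶ O₁) (hP₁ : KRR.IsProjBundle p₁ E₁ O₁ q₁) [IsProper p₁] (δ₁ : P₁ → ℤ) (hP₁s : Cyc.IsSetup P₁ δ₁) (hδ₁ : Cyc.DeltaCompat p₁ δ₁ δ) (E : X.Modules) (hPE : FlatMod.IsFinLocFreeOfRank (r₁ + r₂) E) (P : Scheme.{u}) (p : P ⟶ X) (O1 : P.Modules) (q : (Scheme.Modules.pullback p).obj E ⟶ O1) (hP : KRR.IsProjBundle p E O1 q) [IsProper p] (δP : P → ℤ) (hPs : Cyc.IsSetup P δP) (hδ : Cyc.DeltaCompat p δP δ) (E₂ : X.Modules) (hP₂E : FlatMod.IsFinLocFreeOfRank r₂ E₂) (P₂ : Scheme.{u}) (p₂ : P₂ ⟶ X) (O₂ : P₂.Modules) (q₂ : (Scheme.Modules.pullback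 p₂).obj E₂ ⟶ O₂) (hP₂ : KRR.IsProjBundle p₂ E₂ O₂ q₂) [IsProper p₂] (δ₂ : P₂ → ℤ) (hP₂s : Cyc.IsSetup P₂ δ₂) (hδ₂ : Cyc.DeltaCompat p₂ δ₂ δ) (a : E₁ ⟶ E) (b : E ⟶ E₂) (hab : a ≫ b = 0) (hex : (ShortComplex.mk a b hab).ShortExact) (k : ℤ) (α : AlgebraicCycle X ℤ) (hα : α ∈ Cyc.Zk X δ k) (γ₂ : Fin (r₂ + 1) → AlgebraicCycle X ℤ) (hγ₂ : Cyc.IsChernCap p₂ δ δ₂ O₂ r₂ k α γ₂) (ε : Fin (r₂ + 1) → Fin (r₁ + 1) → AlgebraicCycle X ℤ) (hε : ∀ b : Fin (r₂ + 1), Cyc.IsChernCap p₁ δ δ₁ O₁ r₁ (k - ((b : ℕ) : ℤ)) (γ₂ b) (ε b)) (γ : Fin (r₁ + r₂ + 1) → AlgebraicCycle X ℤ) (hγ : Cyc.IsChernCap p δ δP O1 (r₁ + r₂) k α γ) (j : Fin (r₁ + r₂ + 1)) : Cyc.RatEquiv δ (k - ((j : ℕ) : ℤ)) (γ j) (∑ a : Fin (r₁ + 1), ∑ b : Fin (r₂ + 1), if (a : ℕ) + (b : ℕ) = (j : ℕ) then ε b a else 0) := by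
  haveI := hex.epi_g
  have hm : ∀ (a' : Fin (r₁ + 1)) (b' : Fin (r₂ + 1)),
      (if (a' : ℕ) + (b' : ℕ) = (j : ℕ) then ε b' a' else 0) ∈ Cyc.Zk X δ (k - ((j : ℕ) : ℤ)) := fun a' b' => by
    split_ifs with h
    · rw [show k - ((j : ℕ) : ℤ) = k - ((b' : ℕ) : ℤ) - ((a' : ℕ) : ℤ) by rw [← h]; push_cast; ring]
      exact (hε b').2.1 a'
    · exact fun _ _ => rfl
  refine Groth.CycInter.PB.ratEquiv_of_tcl_eq hX (hα := hγ.2.1 j)
    (hβ := Groth.CycInter.PB.sum_mem_Zk _ _ fun a' => Groth.CycInter.PB.sum_mem_Zk _ _ (hm a')) ?_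
  rw [Groth.CycInter.PB.tcl_sum _ _ (fun a' => Groth.CycInter.PB.sum_mem_Zk _ _ (hm a')),
    ← Groth.CycInter.PB.chernE_tcl hX hPE hP hPs hδ hα hγ j,
    Groth.CycInter.PB.chernE_whitney hX hP₁E hPE hP₂E a b hab hex.exact]
  let T : ℕ → ℕ → Groth.CycInter.PB.Tot X δ := fun a' b' =>
    Groth.CycInter.PB.chernE hX hP₁E a' (Groth.CycInter.PB.chernE hX hP₂E b' (Groth.CycInter.PB.tcl α hα))
  have hT1 : ∀ a' b', r₁ < a' → T a' b' = 0 := fun a' b' h => by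
    show Groth.CycInter.PB.chernE hX hP₁E a' _ = 0
    rw [Groth.CycInter.PB.chernE_of_lt hX hP₁E h]; rfl
  have hT2 : ∀ a' b', r₂ < b' → T a' b' = 0 := fun a' b' h => by
    show Groth.CycInter.PB.chernE hX hP₁E a' (Groth.CycInter.PB.chernE hX hP₂E b' _) = 0
    rw [Groth.CycInter.PB.chernE_of_lt hX hP₂E h]; exact map_zero _
  have hterm : ∀ (a' : Fin (r₁ + 1)) (b' : Fin (r₂ + 1)),
      Groth.CycInter.PB.tcl (if (a' : ℕ) + (b' : ℕ) = (j : ℕ) then ε b' a' else 0) (hm a' b') =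
        if (a' : ℕ) + (b' : ℕ) = (j : ℕ) then T a' b' else 0 := fun a' b' => by
    by_cases h : (a' : ℕ) + (b' : ℕ) = (j : ℕ)
    · refine Eq.trans ?_ (if_pos h).symm
      show _ = Groth.CycInter.PB.chernE hX hP₁E a' (Groth.CycInter.PB.chernE hX hP₂E b' (Groth.CycInter.PB.tcl α hα))
      rw [Groth.CycInter.PB.chernE_tcl hX hP₂E hP₂ hP₂s hδ₂ hα hγ₂ b',
        Groth.CycInter.PB.chernE_tcl hX hP₁E hP₁ hP₁s hδ₁ (hγ₂.2.1 b') (hε b') a']
      exact Groth.CycInter.PB.tcl_congr (by rw [← h]; push_cast; ring) (if_pos h) _ _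
    · refine Eq.trans ?_ (if_neg h).symm
      exact (Groth.CycInter.PB.tcl_congr rfl (if_neg h) _ (fun _ _ => rfl)).trans (Groth.CycInter.PB.tcl_zero _)
  rw [Finset.sum_congr rfl fun a' _ => (Groth.CycInter.PB.tcl_sum _ _ (hm a') _).trans
    (Finset.sum_congr rfl fun b' _ => hterm a' b')]
  have hsum : ∀ a' : Fin (r₁ + 1), (∑ b' : Fin (r₂ + 1), if (a' : ℕ) + (b' : ℕ) = (j : ℕ) then T a' b' else 0) =
      (fun i : ℕ => if i ≤ (j : ℕ) then T i (j - i) else 0) a' := fun a' => by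
    dsimp only
    split_ifs with h
    · by_cases h2 : (j : ℕ) - a' ≤ r₂
      · rw [Finset.sum_eq_single (⟨(j : ℕ) - a', by omega⟩ : Fin (r₂ + 1))]
        · rw [if_pos (show (a' : ℕ) + ((j : ℕ) - a') = j by omega)]
        · exact fun b' _ hb' => if_neg fun e => hb' (Fin.ext (show (b' : ℕ) = (j : ℕ) - a' by omega))
        · exact fun hh => absurd (Finset.mem_univ _) hh
      · rw [hT2 _ _ (by omega)]
        exact Finset.sum_eq_zero fun b' _ => if_neg (by have := b'.2; omega)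
    · exact Finset.sum_eq_zero fun b' _ => if_neg (by omega)
  rw [Finset.sum_congr rfl fun a' _ => hsum a',
    Fin.sum_univ_eq_sum_range (fun i : ℕ => if i ≤ (j : ℕ) then T i (j - i) else 0) (r₁ + 1),
    ← Finset.sum_filter,
    Finset.sum_congr rfl fun i _ => (Groth.CycInter.PB.chernE_comm hX hP₁E hP₂E i ((j : ℕ) - i) _).symm]
  refine (Finset.sum_subset (fun i hi => ?_) fun i hi hni => hT1 _ _ ?_).symm
  · simp only [Finset.mem_filter, Finset.mem_range] at hi ⊢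
    omega
  · simp only [Finset.mem_filter, Finset.mem_range] at hi hni ⊢
    omega

end Groth.Agent.S12665
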