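import Groth.Statements.S12666
import Groth.Agent.CycInter.PbTensorCl

set_option autoImplicit false
universe u
open CategoryTheory CategoryTheory.Limits AlgebraicGeometry
open Cyc

namespace Groth.Agent.S12666

/-- For E finite locally free of rank r and L invertible on X, c_i(E ⊗ L) = Σ_{j=0}^{i} C(r-i+j, j)
c_{i-j}(E) c_1(L)^j for i ≤ r, as cap operations on every k-cycle α: c_i(E ⊗ L) ∩ α ∼_rat Σ_j
C(r-i+j, j) c_1(L)^j ∩ (c_{i-j}(E) ∩ α), where c_1(L)^j ∩ - is the j-fold iterated cap on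
coefficient functions with any nonzero rational sections (Cyc.c1PowFun) and E ⊗ L is the tensor
product of O_X-modules (CohB1.tensorMod). Setting: (X, δ) with Cyc.IsSetup stands for a scheme
locally of finite type over the base (S, δ) (X locally Noetherian with universally catenary local
rings, δ a dimension function); (p : P → X, O_P(1), q) is the projective bundle of E given by its
universal property (KRR.IsProjBundle), p is proper and δP is the induced dimension function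
(Cyc.DeltaCompat); a tuple γ with Cyc.IsChernCap represents (c_0(E) ∩ α, …, c_r(E) ∩ α) through the
defining relation Σ_i (-1)^i c_1(O_P(1))^i ∩ p^*(γ_{r-i}) ∼_rat 0 on P, and classes are compared up
to rational equivalence of representing cycles. -/
theorem result (X : Scheme.{u}) (δ : X → ℤ) (hX : Cyc.IsSetup X δ) (r : ℕ) (E : X.Modules) (hPE : FlatMod.IsFinLocFreeOfRank r E) (P : Scheme.{u}) (p : P ⟶ X) (O1 : P.Modules) (q : (Scheme.Modules.pullback p).obj E ⟶ O1) (hP : KRR.IsProjBundle p E O1 q) [IsProper p] (δP : P → ℤ) (hPs : Cyc.IsSetup P δP) (hδ : Cyc.DeltaCompat p δP δ) (L : X.Modules) (hL : PicF.IsInvertible L) (hP'E : FlatMod.IsFinLocFreeOfRank r (CohB1.tensorMod E L)) (P' : Scheme.{u}) (p' : P' ⟶ X) (O1' : P'.Modules) (q' : (Scheme.Modules.pullback p').obj (CohB1.tensorMod E L) ⟶ O1') (hP' : KRR.IsProjBundle p' (CohB1.tensorMod E L) O1' q') [IsProper p'] (δP' : P' → ℤ) (hPs' : Cyc.IsSetup P' δP')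 (hδ' : Cyc.DeltaCompat p' δP' δ) (k : ℤ) (α : AlgebraicCycle X ℤ) (hα : α ∈ Cyc.Zk X δ k) (γ : Fin (r + 1) → AlgebraicCycle X ℤ) (hγ : Cyc.IsChernCap p δ δP O1 r k α γ) (γ' : Fin (r + 1) → AlgebraicCycle X ℤ) (hγ' : Cyc.IsChernCap p' δ δP' O1' r k α γ') (t : ℕ → (ξ : X) → Cyc.secFibre L ξ) (ht : ∀ m ξ, t m ξ ≠ 0) (i : Fin (r + 1)) (ζ : Fin (r + 1) → AlgebraicCycle X ℤ) (hζ : ∀ j : Fin (r + 1), (j : ℕ) ≤ (i : ℕ) → ⇑(ζ j) = Cyc.c1PowFun δ L t j ⇑(γ ⟨(i : ℕ) - (j : ℕ), Nat.lt_of_le_of_lt (Nat.sub_le _ _) i.isLt⟩)) : Cyc.RatEquiv δ (k - ((i : ℕ) : ℤ)) (γ' i) (∑ j : Fin (r + 1), if (j : ℕ) ≤ (i : ℕ) then ((Nat.choose (r - i + j) j : ℕ) : ℤ) • ζ j else 0) := by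
  classical
  have hm : ∀ j : Fin (r + 1), (if (j : ℕ) ≤ (i : ℕ) then ((Nat.choose (r - i + j) j : ℕ) : ℤ) • ζ j else 0) ∈
      Cyc.Zk X δ (k - ((i : ℕ) : ℤ)) ∧ ((j : ℕ) ≤ (i : ℕ) → ∃ h : ζ j ∈ Cyc.Zk X δ (k - ((i : ℕ) : ℤ)),
        Groth.CycInter.PB.tcl (ζ j) h = Groth.CycInter.PB.iterOp (Groth.CycInter.PB.c1T hX hL) j
          (Groth.CycInter.PB.chernE hX hPE ((i : ℕ) - j) (Groth.CycInter.PB.tcl α hα))) := fun j => by
    by_cases h : (j : ℕ) ≤ (i : ℕ)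
    · let l : Fin (r + 1) := ⟨(i : ℕ) - (j : ℕ), Nat.lt_of_le_of_lt (Nat.sub_le _ _) i.isLt⟩
      obtain ⟨c, hc, e, e'⟩ := Groth.CycInter.PB.exists_c1PowFun hX hL ht (γ l) (hγ.2.1 l) j
      have hce : ζ j = c := DFunLike.coe_injective ((hζ j h).trans e.symm)
      have hk : k - ((i : ℕ) : ℤ) = k - ((l : ℕ) : ℤ) - ((j : ℕ) : ℤ) := by
        simp only [l, Nat.cast_sub h]; ring
      have hz : ζ j ∈ Cyc.Zk X δ (k - ((i : ℕ) : ℤ)) := by rw [hce, hk]; exact hc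
      refine ⟨by rw [if_pos h]; exact (ChowOps.zk X δ _).zsmul_mem hz _, fun _ => ⟨hz, ?_⟩⟩
      show _ = Groth.CycInter.PB.iterOp _ _ (Groth.CycInter.PB.chernE hX hPE (l : ℕ) _)
      rw [Groth.CycInter.PB.chernE_tcl hX hPE hP hPs hδ hα hγ l]
      exact (Groth.CycInter.PB.tcl_congr hk hce hz hc).trans e'
    · exact ⟨by rw [if_neg h]; exact fun _ _ => rfl, fun h' => absurd h' h⟩
  refine Groth.CycInter.PB.ratEquiv_of_tcl_eq hX (hα := hγ'.2.1 i)
    (hβ := Groth.CycInter.PB.sum_mem_Zk _ _ fun j => (hm j).1) ?_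
  rw [Groth.CycInter.PB.tcl_sum _ _ (fun j => (hm j).1),
    ← Groth.CycInter.PB.chernE_tcl hX hP'E hP' hPs' hδ' hα hγ' i,
    Groth.CycInter.PB.chernE_twist hX hPE hL hP'E]
  let f : ℕ → Groth.CycInter.PB.Tot X δ := fun j => if j ≤ (i : ℕ) then ((r - ((i : ℕ) - j)).choose j : ℤ) •
    Groth.CycInter.PB.iterOp (Groth.CycInter.PB.c1T hX hL) j
      (Groth.CycInter.PB.chernE hX hPE ((i : ℕ) - j) (Groth.CycInter.PB.tcl α hα)) else 0
  have hf : ∀ j : Fin (r + 1), Groth.CycInter.PB.tcl _ (hm j).1 = f j := fun j => by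
    by_cases h : (j : ℕ) ≤ (i : ℕ)
    · obtain ⟨hz, he⟩ := (hm j).2 h
      rw [Groth.CycInter.PB.tcl_congr rfl (if_pos h) (hm j).1 ((ChowOps.zk X δ _).zsmul_mem hz _),
        Groth.CycInter.PB.tcl_zsmul _ hz, he]
      simp only [f, if_pos h]
      rw [show r - ((i : ℕ) - j) = r - i + j by have := i.2; omega]
    · simp only [f, if_neg h]
      exact Groth.CycInter.PB.tcl_zero _
  rw [Finset.sum_congr rfl fun j _ => hf j, Fin.sum_univ_eq_sum_range f (r + 1)]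
  refine Eq.trans (Finset.sum_congr rfl fun j hj => (if_pos (Nat.lt_succ_iff.mp (Finset.mem_range.mp hj))).symm)
    (Finset.sum_subset (Finset.range_mono i.2) fun j _ hj => if_neg ?_)
  simp only [Finset.mem_range] at hj
  omega

end Groth.Agent.S12666
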