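import Groth.Statements.S12669
import Groth.Agent.CycInter.PbTensorCl

set_option autoImplicit false
universe u
open CategoryTheory CategoryTheory.Limits AlgebraicGeometry
open Cyc

namespace Groth.Agent.S12669

/-- For E, F finite locally free of ranks r, s on X, c_2(E ⊗ F) = r c_2(F) + s c_2(E) + C(r,2) c_1(F)^2
+ (rs - 1) c_1(F) c_1(E) + C(s,2) c_1(E)^2, as cap operations on every k-cycle α; products of
classes are iterated caps represented by nested tuples (a tuple for F, resp. E, over the first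
component of a tuple for F; a tuple for E over the first component of a tuple for E), c_2 of a
module of rank < 2 is 0, and E ⊗ F (CohB1.tensorMod, rank rs) enters through its own projective
bundle. Stated for r, s ≥ 1. Setting: (X, δ) with Cyc.IsSetup stands for a scheme locally of finite
type over the base (S, δ) (X locally Noetherian with universally catenary local rings, δ a dimension
function); (p : P → X, O_P(1), q) is the projective bundle of E given by its universal property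
(KRR.IsProjBundle), p is proper and δP is the induced dimension function (Cyc.DeltaCompat); a tuple
γ with Cyc.IsChernCap represents (c_0(E) ∩ α, …, c_r(E) ∩ α) through the defining relation Σ_i
(-1)^i c_1(O_P(1))^i ∩ p^*(γ_{r-i}) ∼_rat 0 on P, and classes are compared up to rational
equivalence of representing cycles. -/
theorem result (X : Scheme.{u}) (δ : X → ℤ) (hX : Cyc.IsSetup X δ) (r s : ℕ) (hr : 1 ≤ r) (hs : 1 ≤ s) (E : X.Modules) (hPE : FlatMod.IsFinLocFreeOfRank r E) (P : Scheme.{u}) (p : P ⟶ X) (O1 : P.Modules) (q : (Scheme.Modules.pullback p).obj E ⟶ O1) (hP : KRR.IsProjBundle p E O1 q) [IsProper p] (δP : P → ℤ) (hPs : Cyc.IsSetup P δP) (hδ : Cyc.DeltaCompat p δP δ) (F : X.Modules) (hQE : FlatMod.IsFinLocFreeOfRank s F) (Q : Scheme.{u}) (p' : Q ⟶ X) (O1' : Q.Modules) (q' : (Scheme.Modules.pullback p').obj F ⟶ O1') (hQ : KRR.IsProjBundle p'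 F O1' q') [IsProper p'] (δQ : Q → ℤ) (hQs : Cyc.IsSetup Q δQ) (hδ' : Cyc.DeltaCompat p' δQ δ) (hTE : FlatMod.IsFinLocFreeOfRank (r * s) (CohB1.tensorMod E F)) (T : Scheme.{u}) (p'' : T ⟶ X) (O1'' : T.Modules) (q'' : (Scheme.Modules.pullback p'').obj (CohB1.tensorMod E F) ⟶ O1'') (hT : KRR.IsProjBundle p'' (CohB1.tensorMod E F) O1'' q'') [IsProper p''] (δT : T → ℤ) (hTs : Cyc.IsSetup T δT) (hδ'' : Cyc.DeltaCompat p'' δT δ) (k : ℤ) (α : AlgebraicCycle X ℤ) (hα : α ∈ Cyc.Zk X δ k) (ε : Fin (r + 1) → AlgebraicCycle X ℤ) (hε : Cyc.IsChernCap p δ δP O1 r k α ε) (φ : Fin (s + 1) → AlgebraicCycle X ℤ) (hφ : Cyc.IsChernCap p' δ δQ O1' s k α φ) (τ : Fin (r * s + 1) → AlgebraicCycle X ℤ) (hτ : Cyc.IsChernCap p'' δ δT O1'' (r * s) k α τ) (φφ : Fin (s + 1) → AlgebraicCycle X ℤ) (hφφ : Cyc.IsChernCap p' δ δQ O1' s (k - 1) (φ ⟨1, Nat.lt_succ_of_le hs⟩) φφ) (εφ : Fin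 (r + 1) → AlgebraicCycle X ℤ) (hεφ : Cyc.IsChernCap p δ δP O1 r (k - 1) (φ ⟨1, Nat.lt_succ_of_le hs⟩) εφ) (εε : Fin (r + 1) → AlgebraicCycle X ℤ) (hεε : Cyc.IsChernCap p δ δP O1 r (k - 1) (ε ⟨1, Nat.lt_succ_of_le hr⟩) εε) : Cyc.RatEquiv δ (k - 2) (if h2 : 2 ≤ r * s then τ ⟨2, Nat.lt_succ_of_le h2⟩ else 0) (((r : ℕ) : ℤ) • (if h2 : 2 ≤ s then φ ⟨2, Nat.lt_succ_of_le h2⟩ else 0) + ((s : ℕ) : ℤ) • (if h2 : 2 ≤ r then ε ⟨2, Nat.lt_succ_of_le h2⟩ else 0) + ((Nat.choose r 2 : ℕ) : ℤ) • φφ ⟨1, Nat.lt_succ_of_le hs⟩ + (((r * s : ℕ) : ℤ) - 1) • εφ ⟨1, Nat.lt_succ_of_le hr⟩ + ((Nat.choose s 2 : ℕ) : ℤ) • εε ⟨1, Nat.lt_succ_of_le hr⟩) := by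
  have key : ∀ {t : ℕ} {G : X.Modules} (hG : FlatMod.IsFinLocFreeOfRank t G) {R : Scheme.{u}} {g : R ⟶ X}
      {O : R.Modules} {q₀ : (Scheme.Modules.pullback g).obj G ⟶ O} (hR : KRR.IsProjBundle g G O q₀) [IsProper g]
      {δR : R → ℤ} (hRs : Cyc.IsSetup R δR) (hδR : Cyc.DeltaCompat g δR δ) {l : ℤ} {β : AlgebraicCycle X ℤ}
      (hβ : β ∈ Cyc.Zk X δ l) {c : Fin (t + 1) → AlgebraicCycle X ℤ} (hc : Cyc.IsChernCap g δ δR O t l β c),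
      ∃ h : (if h2 : 2 ≤ t then c ⟨2, Nat.lt_succ_of_le h2⟩ else 0) ∈ Cyc.Zk X δ (l - 2),
        Groth.CycInter.PB.tcl _ h = Groth.CycInter.PB.chernE hX hG 2 (Groth.CycInter.PB.tcl β hβ) := by
    intro t G hG R g O q₀ hR _ δR hRs hδR l β hβ c hc
    by_cases h2 : 2 ≤ t
    · refine ⟨by rw [dif_pos h2]; exact hc.2.1 ⟨2, Nat.lt_succ_of_le h2⟩, ?_⟩
      exact (Groth.CycInter.PB.tcl_congr rfl (dif_pos h2) _ (hc.2.1 ⟨2, Nat.lt_succ_of_le h2⟩)).trans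
        (Groth.CycInter.PB.chernE_tcl hX hG hR hRs hδR hβ hc ⟨2, Nat.lt_succ_of_le h2⟩).symm
    · refine ⟨by rw [dif_neg h2]; exact fun _ _ => rfl, ?_⟩
      rw [Groth.CycInter.PB.chernE_of_lt hX hG (not_le.mp h2)]
      exact (Groth.CycInter.PB.tcl_congr rfl (dif_neg h2) _ (fun _ _ => rfl)).trans (Groth.CycInter.PB.tcl_zero _)
  obtain ⟨hmt, et⟩ := key hTE hT hTs hδ'' hα hτ
  obtain ⟨hmf, ef⟩ := key hQE hQ hQs hδ' hα hφ
  obtain ⟨hme, ee⟩ := key hPE hP hPs hδ hα hε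
  have hφ1 : φ ⟨1, Nat.lt_succ_of_le hs⟩ ∈ Cyc.Zk X δ (k - 1) := hφ.2.1 ⟨1, Nat.lt_succ_of_le hs⟩
  have hε1 : ε ⟨1, Nat.lt_succ_of_le hr⟩ ∈ Cyc.Zk X δ (k - 1) := hε.2.1 ⟨1, Nat.lt_succ_of_le hr⟩
  have hk : k - 2 = k - 1 - ((1 : ℕ) : ℤ) := by push_cast; ring
  have hff : φφ ⟨1, Nat.lt_succ_of_le hs⟩ ∈ Cyc.Zk X δ (k - 2) := by rw [hk]; exact hφφ.2.1 ⟨1, Nat.lt_succ_of_le hs⟩
  have hef : εφ ⟨1, Nat.lt_succ_of_le hr⟩ ∈ Cyc.Zk X δ (k - 2) := by rw [hk]; exact hεφ.2.1 ⟨1, Nat.lt_succ_of_le hr⟩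
  have hee : εε ⟨1, Nat.lt_succ_of_le hr⟩ ∈ Cyc.Zk X δ (k - 2) := by rw [hk]; exact hεε.2.1 ⟨1, Nat.lt_succ_of_le hr⟩
  let Z2 := ChowOps.zk X δ (k - 2)
  have m1 := Z2.zsmul_mem hmf ((r : ℕ) : ℤ)
  have m2 := Z2.zsmul_mem hme ((s : ℕ) : ℤ)
  have m3 := Z2.zsmul_mem hff ((Nat.choose r 2 : ℕ) : ℤ)
  have m4 := Z2.zsmul_mem hef (((r * s : ℕ) : ℤ) - 1)
  have m5 := Z2.zsmul_mem hee ((Nat.choose s 2 : ℕ) : ℤ)
  refine Groth.CycInter.PB.ratEquiv_of_tcl_eq hX (hα := hmt)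
    (hβ := Z2.add_mem (Z2.add_mem (Z2.add_mem (Z2.add_mem m1 m2) m3) m4) m5) ?_
  rw [Groth.CycInter.PB.tcl_add (Z2.add_mem (Z2.add_mem (Z2.add_mem m1 m2) m3) m4) m5,
    Groth.CycInter.PB.tcl_add (Z2.add_mem (Z2.add_mem m1 m2) m3) m4,
    Groth.CycInter.PB.tcl_add (Z2.add_mem m1 m2) m3, Groth.CycInter.PB.tcl_add m1 m2,
    Groth.CycInter.PB.tcl_zsmul _ hmf, Groth.CycInter.PB.tcl_zsmul _ hme, Groth.CycInter.PB.tcl_zsmul _ hff,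
    Groth.CycInter.PB.tcl_zsmul _ hef, Groth.CycInter.PB.tcl_zsmul _ hee, et, ef, ee,
    Groth.CycInter.PB.chernE_tensor_two hX hPE hQE hTE]
  have ef1 : Groth.CycInter.PB.chernE hX hQE 1 (Groth.CycInter.PB.tcl α hα) =
      Groth.CycInter.PB.tcl (φ ⟨1, Nat.lt_succ_of_le hs⟩) hφ1 :=
    Groth.CycInter.PB.chernE_tcl hX hQE hQ hQs hδ' hα hφ ⟨1, Nat.lt_succ_of_le hs⟩
  have ee1 : Groth.CycInter.PB.chernE hX hPE 1 (Groth.CycInter.PB.tcl α hα) =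
      Groth.CycInter.PB.tcl (ε ⟨1, Nat.lt_succ_of_le hr⟩) hε1 :=
    Groth.CycInter.PB.chernE_tcl hX hPE hP hPs hδ hα hε ⟨1, Nat.lt_succ_of_le hr⟩
  have eff : Groth.CycInter.PB.chernE hX hQE 1 (Groth.CycInter.PB.tcl _ hφ1) = Groth.CycInter.PB.tcl _ hff :=
    (Groth.CycInter.PB.chernE_tcl hX hQE hQ hQs hδ' hφ1 hφφ ⟨1, Nat.lt_succ_of_le hs⟩).trans
      (Groth.CycInter.PB.tcl_congr hk.symm rfl _ _)
  have eef : Groth.CycInter.PB.chernE hX hPE 1 (Groth.CycInter.PB.tcl _ hφ1) = Groth.CycInter.PB.tcl _ hef :=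
    (Groth.CycInter.PB.chernE_tcl hX hPE hP hPs hδ hφ1 hεφ ⟨1, Nat.lt_succ_of_le hr⟩).trans
      (Groth.CycInter.PB.tcl_congr hk.symm rfl _ _)
  have eee : Groth.CycInter.PB.chernE hX hPE 1 (Groth.CycInter.PB.tcl _ hε1) = Groth.CycInter.PB.tcl _ hee :=
    (Groth.CycInter.PB.chernE_tcl hX hPE hP hPs hδ hε1 hεε ⟨1, Nat.lt_succ_of_le hr⟩).trans
      (Groth.CycInter.PB.tcl_congr hk.symm rfl _ _)
  rw [ef1, ee1, eff, eef, eee]

end Groth.Agent.S12669
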