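import Groth.Statements.S1267
import Groth.Agent.EGA43Flat.Nilpotent
import Groth.Agent.FlatMorOne.FlatLocusBaseChange

set_option autoImplicit false
universe u
open TensorProduct
open FlatMor

namespace Groth.Agent.S1267

/-- Let A be a local ring, I an ideal, U a quasi-compact open subset of Spec A and M an A-module such
that M/IM is flat over A/I and M_p is flat over A for all p in U. Let I₂ be the kernel of I → Γ(U,
I/I²), that is the set of x ∈ I such that for every p ∈ U some s outside p has s·x ∈ I². Then M/I₂M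
is flat over A/I₂. -/
theorem result {A : Type u} [CommRing A] [IsLocalRing A] (I : Ideal A)
    (U : Set (PrimeSpectrum A)) (hU : IsOpen U) (hUc : IsCompact U)
    (M : Type u) [AddCommGroup M] [Module A M]
    [Module.Flat (A ⧸ I) (M ⧸ (I • ⊤ : Submodule A M))]
    (hflat : ∀ p ∈ U, Module.Flat A (LocalizedModule p.asIdeal.primeCompl M))
    (I₂ : Ideal A) (hI₂ : ∀ x : A, x ∈ I₂ ↔ x ∈ I ∧ ∀ p ∈ U, ∃ s : A, s ∉ p.asIdeal ∧ s * x ∈ I ^ 2) :
    Module.Flat (A ⧸ I₂) (M ⧸ (I₂ • ⊤ : Submodule A M)) := by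
  classical
  obtain ⟨T, hT⟩ := PrimeSpectrum.isCompact_isOpen_iff.mp ⟨hUc, hU⟩
  have hmemU : ∀ p : PrimeSpectrum A, p ∈ U ↔ ∃ a ∈ T, a ∉ p.asIdeal := fun p => by
    rw [← hT, Set.mem_compl_iff, PrimeSpectrum.mem_zeroLocus, Set.not_subset]
    rfl
  let A' := A ⧸ I₂
  let I' : Ideal A' := I.map (Ideal.Quotient.mk I₂)
  have hnil : IsNilpotent I' := ⟨2, by
    rw [Ideal.zero_eq_bot, ← le_bot_iff, ← Ideal.map_pow, Ideal.map_le_iff_le_comap,
      ← RingHom.ker_eq_comap_bot, Ideal.mk_ker]
    exact fun x hx => (hI₂ x).mpr ⟨Ideal.pow_le_self two_ne_zero hx, fun p _ =>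
      ⟨1, fun h1 => p.isPrime.ne_top ((Ideal.eq_top_iff_one _).mpr h1), by rwa [one_mul]⟩⟩⟩
  have hflatI : Module.Flat (A' ⧸ I') ((A' ⧸ I') ⊗[A'] (A' ⊗[A] M)) :=
    Groth.EGA43Flat.flat_quotient_quotient I I₂
      (Module.Flat.of_linearEquiv ((TensorProduct.quotTensorEquivQuotSMul M I).extendScalarsOfSurjective
        Ideal.Quotient.mk_surjective))
  let B : Option T → Type u := fun o => o.elim (A' ⧸ I')
    fun a => Localization.Away (Ideal.Quotient.mk I₂ a.1)
  let cr : ∀ o, CommRing (B o) := fun o => match o with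
    | none => (inferInstance : CommRing (A' ⧸ I'))
    | some a => (inferInstance : CommRing (Localization.Away (Ideal.Quotient.mk I₂ a.1)))
  let alg : ∀ o, Algebra A' (B o) := fun o => match o with
    | none => (inferInstance : Algebra A' (A' ⧸ I'))
    | some a => (inferInstance : Algebra A' (Localization.Away (Ideal.Quotient.mk I₂ a.1)))
  have hfB : ∀ o, Module.Flat (B o) (B o ⊗[A'] (A' ⊗[A] M)) := by
    rintro (_ | a)
    · exact hflatI
    · let L := Localization.Away a.1
      let L' := Localization.Away (Ideal.Quotient.mk I₂ a.1)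
      have hL : Module.Flat L (L ⊗[A] M) := by
        refine Groth.FlatMorOne.flat_of_forall_flat_localized (S := L) fun P => ?_
        have hmem : PrimeSpectrum.comap (algebraMap A L) P ∈ U :=
          (hmemU _).mpr ⟨a.1, a.2, fun h => P.isPrime.ne_top
            (Ideal.eq_top_of_isUnit_mem _ h (IsLocalization.Away.algebraMap_isUnit a.1))⟩
        have : Module.Flat A (LocalizedModule (P.asIdeal.comap (algebraMap A L)).primeCompl M) :=
          hflat _ hmem
        exact Groth.FlatMorOne.flat_localized_baseChange (B := A) (R := L) (algebraMap A L)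
          (TensorProduct.isBaseChange A M L)
          (fun x m => by rw [map_smul, algebraMap_smul]) P.asIdeal
      have hu : IsUnit (algebraMap A L' a.1) := by
        rw [IsScalarTower.algebraMap_apply A A' L']
        exact IsLocalization.Away.algebraMap_isUnit _
      let _ : Algebra L L' := (IsLocalization.Away.lift a.1 hu).toAlgebra
      have : IsScalarTower A L L' := .of_algebraMap_eq fun x => (IsLocalization.Away.lift_eq a.1 hu x).symm
      exact Groth.EGA43Flat.flat_baseChange_square L L' A' hL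
  have : Module.Flat A' (A' ⊗[A] M) := by
    refine Groth.EGA43Flat.flat_of_flat_quotient_of_finite_family hnil (ι := Option T) B ?_
    intro x hx
    obtain ⟨x, rfl⟩ := Ideal.Quotient.mk_surjective x
    have hxI : x ∈ I := by
      have h0 : Ideal.Quotient.mk I' (Ideal.Quotient.mk I₂ x) = 0 := hx none
      rw [Ideal.Quotient.eq_zero_iff_mem, ← Ideal.mem_comap, Ideal.comap_map_of_surjective _
        Ideal.Quotient.mk_surjective, ← RingHom.ker_eq_comap_bot, Ideal.mk_ker] at h0
      exact (sup_le le_rfl fun y hy => ((hI₂ y).mp hy).1 : I ⊔ I₂ ≤ I) h0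
    refine Ideal.Quotient.eq_zero_iff_mem.mpr ((hI₂ x).mpr ⟨hxI, fun p hp => ?_⟩)
    obtain ⟨a, haT, hap⟩ := (hmemU p).mp hp
    have h0 : algebraMap A' (Localization.Away (Ideal.Quotient.mk I₂ a)) (Ideal.Quotient.mk I₂ x) = 0 :=
      hx (some ⟨a, haT⟩)
    obtain ⟨⟨_, n, rfl⟩, hn⟩ := (IsLocalization.map_eq_zero_iff (Submonoid.powers (Ideal.Quotient.mk I₂ a))
      _ _).mp h0
    simp only at hn
    rw [← map_pow, ← map_mul, Ideal.Quotient.eq_zero_iff_mem] at hn
    obtain ⟨s, hs, hsx⟩ := ((hI₂ _).mp hn).2 p hp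
    exact ⟨s * a ^ n, fun h => (p.isPrime.mem_or_mem h).elim hs fun h' => hap (p.isPrime.mem_of_pow_mem n h'),
      by rwa [mul_assoc]⟩
  exact Module.Flat.of_linearEquiv
    ((TensorProduct.quotTensorEquivQuotSMul M I₂).extendScalarsOfSurjective Ideal.Quotient.mk_surjective).symm

end Groth.Agent.S1267
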