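import Groth.Statements.S12671
import Groth.Agent.CycInter.PbOps

set_option autoImplicit false
universe u
open CategoryTheory CategoryTheory.Limits AlgebraicGeometry
open Cyc

namespace Groth.Agent.S12671

/-- Let E be a locally free O_X-module of rank r with a filtration 0 = E_0 ⊂ E_1 ⊂ … ⊂ E_r = E such that
E_i/E_{i-1} ≅ L_i is invertible for i = 1, …, r. Then c(E) = Π_i (1 + c_1(L_i)), that is c_p(E) ∩ α
∼_rat Σ_{I ⊆ {1,…,r}, |I| = p} (Π_{i ∈ I} c_1(L_i)) ∩ α for every k-cycle α, where the product over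
I is the iterated cap applied in increasing order of i on coefficient functions with any nonzero
rational sections (Cyc.c1CapFun); the filtration is given by short exact sequences 0 → E_{i-1} → E_i
→ L_i → 0 with E_0 = 0 and E_r ≅ E. Setting: (X, δ) with Cyc.IsSetup stands for a scheme locally of
finite type over the base (S, δ) (X locally Noetherian with universally catenary local rings, δ a
dimension function); (p : P → X, O_P(1), q) is the projective bundle of E given by its universal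
property (KRR.IsProjBundle), p is proper and δP is the induced dimension function (Cyc.DeltaCompat);
a tuple γ with Cyc.IsChernCap represents (c_0(E) ∩ α, …, c_r(E) ∩ α) through the defining relation
Σ_i (-1)^i c_1(O_P(1))^i ∩ p^*(γ_{r-i}) ∼_rat 0 on P, and classes are compared up to rational
equivalence of representing cycles. -/
theorem result (X : Scheme.{u}) (δ : X → ℤ) (hX : Cyc.IsSetup X δ) (r : ℕ) (E : X.Modules) (hPE : FlatMod.IsFinLocFreeOfRank r E) (P : Scheme.{u}) (p : P ⟶ X) (O1 : P.Modules) (q : (Scheme.Modules.pullback p).obj E ⟶ O1) (hP : KRR.IsProjBundle p E O1 q) [IsProper p] (δP : P → ℤ) (hPs : Cyc.IsSetup P δP) (hδ : Cyc.DeltaCompat p δP δ) (M : Fin (r + 1) → X.Modules) (h0 : IsZero (M 0)) (e : M (Fin.last r) ≅ E) (L : Fin r → X.Modules) (hL : ∀ i, PicF.IsInvertible (L i)) (a : ∀ i : Fin r, M (Fin.castSucc i) ⟶ M (Fin.succ i)) (b : ∀ i : Fin r, M (Fin.succ i) ⟶ L i) (hab : ∀ i, a i ≫ b i = 0) (hex : ∀ i, (ShortComplex.mk (a i)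 (b i) (hab i)).ShortExact) (k : ℤ) (α : AlgebraicCycle X ℤ) (hα : α ∈ Cyc.Zk X δ k) (γ : Fin (r + 1) → AlgebraicCycle X ℤ) (hγ : Cyc.IsChernCap p δ δP O1 r k α γ) (t : (i : Fin r) → (ξ : X) → Cyc.secFibre (L i) ξ) (ht : ∀ i ξ, t i ξ ≠ 0) (κ : Finset (Fin r) → AlgebraicCycle X ℤ) (hκ0 : κ ∅ = α) (hκ : ∀ (I : Finset (Fin r)) (i : Fin r), (∀ i' ∈ I, i' < i) → ⇑(κ (insert i I)) = Cyc.c1CapFun δ (L i) ⇑(κ I) (t i)) (n : Fin (r + 1)) : Cyc.RatEquiv δ (k - ((n : ℕ) : ℤ)) (γ n) (∑ I ∈ Finset.powersetCard n Finset.univ, κ I) := by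
  have hF : ∀ (n : ℕ) (hn : n ≤ r), ∃ F : Groth.CycInter.PB.Filt (M ⟨n, by omega⟩) n,
      ∀ (i : ℕ) (hi : i < n), F.ops hX i = Groth.CycInter.PB.c1T hX (hL ⟨i, by omega⟩) := by
    intro n
    induction n with
    | zero => exact fun _ => ⟨.zero h0, fun i hi => absurd hi (Nat.not_lt_zero i)⟩
    | succ n ih =>
        intro hn
        obtain ⟨F, hF⟩ := ih (by omega)
        haveI := (hex ⟨n, by omega⟩).epi_g
        refine ⟨.step F (a ⟨n, by omega⟩) (b ⟨n, by omega⟩) (hL ⟨n, by omega⟩) (hab _) this (hex _).exact,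
          fun i hi => ?_⟩
        rw [Groth.CycInter.PB.Filt.ops]
        split_ifs with h
        · subst h; rfl
        · exact hF i (by omega)
  obtain ⟨F, hF⟩ := hF r le_rfl
  have hκm : ∀ I : Finset (Fin r), κ I ∈ Cyc.Zk X δ (k - (I.card : ℤ)) := by
    intro I
    induction I using Finset.induction_on_max with
    | empty => rw [hκ0, Finset.card_empty, Nat.cast_zero, sub_zero]; exact hα
    | insert i I hI ih =>
        rw [Finset.card_insert_of_notMem (fun h => lt_irrefl i (hI i h)), Nat.cast_succ, ← sub_sub]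
        exact Groth.CycInter.Biv.c1Cap_mem _ ih _ (hκ I i hI)
  have hsum := Groth.CycInter.PB.esymOp_eq_sum_powerset ((F.mapIso e).ops hX)
    (fun I => Groth.CycInter.PB.tcl (κ I) (hκm I)) (fun I i hI => by
      rw [Groth.CycInter.PB.Filt.ops_mapIso, hF i i.2]
      refine (Groth.CycInter.PB.c1T_tcl hX (hL i) _ _ (hL i) (Iso.refl _) (ht i) _ (hκ I i hI) _ ?_).symm
      rw [Finset.card_insert_of_notMem (fun h => lt_irrefl i (hI i h))]
      push_cast; ring) r le_rfl n
  rw [Groth.CycInter.PB.tcl_congr (by simp) hκ0 (hκm ∅) hα,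
    ← Groth.CycInter.PB.chernE_filt hX hPE (F.mapIso e) n,
    Groth.CycInter.PB.chernE_tcl hX hPE hP hPs hδ hα hγ n,
    Finset.filter_true_of_mem (fun i _ => i.2)] at hsum
  have hm : ∀ I : Finset (Fin r), I ∈ Finset.powersetCard (n : ℕ) Finset.univ → κ I ∈ Cyc.Zk X δ (k - ((n : ℕ) : ℤ)) :=
    fun I hI => (Finset.mem_powersetCard.mp hI).2 ▸ hκm I
  have hmem : ∑ I ∈ Finset.powersetCard (n : ℕ) Finset.univ, κ I ∈ Cyc.Zk X δ (k - ((n : ℕ) : ℤ)) :=
    (ChowOps.zk X δ _).sum_mem hm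
  refine Groth.CycInter.PB.ratEquiv_of_tcl_eq hX (hα := hγ.2.1 n) (hβ := hmem) (hsum.trans ?_)
  rw [← Finset.sum_attach]
  refine Eq.trans (Finset.sum_congr rfl fun I _ => Groth.CycInter.PB.tcl_congr ?_ rfl (hκm I.1) (hm I.1 I.2)) ?_
  · rw [(Finset.mem_powersetCard.mp I.2).2]
  rw [← Groth.CycInter.PB.tcl_sum _ (fun I : ↥(Finset.powersetCard (n : ℕ) Finset.univ) => κ I.1) (fun I => hm I.1 I.2)
    ((ChowOps.zk X δ _).sum_mem fun I _ => hm I.1 I.2)]
  exact Groth.CycInter.PB.tcl_congr rfl (Finset.sum_attach _ (fun I => κ I)) _ _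

end Groth.Agent.S12671
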