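import Groth.Statements.S12675
import Groth.Agent.CycInter.PbRankOne

set_option autoImplicit false
universe u
open CategoryTheory CategoryTheory.Limits AlgebraicGeometry
open Cyc

namespace Groth.Agent.S12675

/-- Suppose X is integral of δ-dimension n and L is an O_X-module that is invertible; then L's first
Chern class on X, taken in the sense of the projective-bundle characterisation (rank r = 1), agrees
with the Weil divisor class c_1(L) ∩ [X] of L (the divisor of a nonzero rational section,
Cyc.c1CapFun on the cycle [X]_n). The projective bundle of L is given abstractly by its universal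
property, so the identification P(L) = X, O(1) = L is part of what is asserted. Setting: (X, δ) with
Cyc.IsSetup stands for a scheme locally of finite type over the base (S, δ) (X locally Noetherian
with universally catenary local rings, δ a dimension function); (p : P → X, O_P(1), q) is the
projective bundle of E given by its universal property (KRR.IsProjBundle), p is proper and δP is the
induced dimension function (Cyc.DeltaCompat); a tuple γ with Cyc.IsChernCap represents (c_0(E) ∩ α,
…, c_r(E) ∩ α) through the defining relation Σ_i (-1)^i c_1(O_P(1))^i ∩ p^*(γ_{r-i}) ∼_rat 0 on P,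
and classes are compared up to rational equivalence of representing cycles. -/
theorem result (X : Scheme.{u}) (δ : X → ℤ) (hX : Cyc.IsSetup X δ) [IsIntegral X] (n : ℤ) (hn : δ (genericPoint X) = n) (L : X.Modules) (hL : PicF.IsInvertible L) (hPE : FlatMod.IsFinLocFreeOfRank 1 L) (P : Scheme.{u}) (p : P ⟶ X) (O1 : P.Modules) (q : (Scheme.Modules.pullback p).obj L ⟶ O1) (hP : KRR.IsProjBundle p L O1 q) [IsProper p] (δP : P → ℤ) (hPs : Cyc.IsSetup P δP) (hδ : Cyc.DeltaCompat p δP δ) (α : AlgebraicCycle X ℤ) (hα : ⇑α = Cyc.subschemeFun δ n (𝟙 X)) (γ : Fin 2 → AlgebraicCycle X ℤ) (hγ : Cyc.IsChernCap p δ δP O1 1 n α γ) (s : (ξ : X) → Cyc.secFibre L ξ) (hs : ∀ ξ, s ξ ≠ 0) (β : AlgebraicCycle X ℤ) (hβ : ⇑β = Cyc.c1CapFun δ L ⇑α s) : Cyc.RatEquiv δ (n - 1) (γ 1) β := by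
  have hαk : α ∈ Cyc.Zk X δ n := fun x hx => by rw [hα]; exact if_neg hx
  have hβk : β ∈ Cyc.Zk X δ (n - 1) := Groth.CycInter.Biv.c1Cap_mem _ hαk _ hβ
  refine Groth.CycInter.PB.ratEquiv_of_tcl_eq hX (hα := by simpa using hγ.2.1 1) (hβ := hβk) ?_
  let B : Groth.CycInter.PB.Bun X δ := ⟨P, p, L, O1, q, hP, 1, le_rfl, hPE, δP, hX, hPs, hδ, inferInstance⟩
  refine ((Groth.CycInter.PB.tcl_congr (by simp) rfl _ (hγ.2.1 1)).trans (B.chern_tcl hαk hγ 1).symm).trans ?_
  have h1 := DFunLike.congr_fun (B.chern_one_eq_c1T rfl hL) (Groth.CycInter.PB.tcl α hαk)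
  exact h1.trans (Groth.CycInter.PB.c1T_tcl hX hL α hαk hL (Iso.refl _) hs β hβ hβk rfl)

end Groth.Agent.S12675
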