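import Groth.Statements.S12676
import Groth.Agent.CycInter.ProdGen
import Groth.Agent.Calg4.RegularFlat
import Groth.Agent.Variety2.ProjBasics

set_option autoImplicit false
universe u
open CategoryTheory CategoryTheory.Limits AlgebraicGeometry
attribute [local instance] HasDerivedCategory.standard
open IntMult
open Groth.CycleLimits Groth.Calg6.DiagStalk

namespace Groth.Agent.S12676

/-- The shift of dimensions at generic points of fibres of a flat morphism of varieties. -/
theorem delta_flat {K : Type u} [Field K] {X Y : Scheme.{u}} (fX : X ⟶ Spec (CommRingCat.of K))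
    (fY : Y ⟶ Spec (CommRingCat.of K)) [LocallyOfFiniteType fX] [LocallyOfFiniteType fY] [IsIntegral X] [IsIntegral Y]
    (f : X ⟶ Y) [Flat f] {δX : X → ℤ} {δY : Y → ℤ} (hX : Cyc.DeltaCompat fX δX fun _ => 0)
    (hY : Cyc.DeltaCompat fY δY fun _ => 0) {dX dY : ℕ} (hdX : δX (genericPoint X) = dX)
    (hdY : δY (genericPoint Y) = dY) (x : X) (hx : IsFibreGeneric f x) :
    δX x = δY (f x) + ((dX : ℤ) - dY) := by
  have : IsLocallyNoetherian X := LocallyOfFiniteType.isLocallyNoetherian fX
  have : IsLocallyNoetherian Y := LocallyOfFiniteType.isLocallyNoetherian fY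
  obtain ⟨hx', hhx, hδx⟩ := Groth.Agent.S6470.delta_eq_height fX δX hX x
  obtain ⟨hy', hhy, hδy⟩ := Groth.Agent.S6470.delta_eq_height fY δY hY (f x)
  obtain ⟨nX, hnX, hδnX⟩ := Groth.Agent.S6470.delta_eq_height fX δX hX (genericPoint X)
  obtain ⟨nY, hnY, hδnY⟩ := Groth.Agent.S6470.delta_eq_height fY δY hY (genericPoint Y)
  have ex := Groth.Variety2.Dim.ringKrullDim_stalk_add_height fX x
  have ey := Groth.Variety2.Dim.ringKrullDim_stalk_add_height fY (f x)
  rw [Groth.Variety2.Dim.dim_eq_height_genericPoint] at ex ey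
  rw [hhx, hnX] at ex
  rw [hhy, hnY] at ey
  -- the fibre ring is zero-dimensional
  obtain ⟨y, hy⟩ : ∃ y, f x = y := ⟨_, rfl⟩
  obtain ⟨t, rfl⟩ : x ∈ Set.range (f.fiberι y) := by rw [Scheme.Hom.range_fiberι]; exact hy
  have hmin : ∀ u, u ⤳ t → u = t := fun u hu => (f.fiberι _).isEmbedding.injective
    (hx _ ((Groth.FibreDim.apply_fiberι f _ u).trans (Groth.FibreDim.apply_fiberι f _ t).symm)
      (hu.map (f.fiberι _).continuous))
  have h0 : ringKrullDim ((f.fiber _).presheaf.stalk t) = 0 := by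
    rw [ringKrullDim_stalk_eq_coheight, Order.coheight_eq_zero.2 (fun u hu => (specializes_of_eq (hmin u hu).symm))]
    rfl
  letI := (f.stalkMap (f.fiberι _ t)).hom.toAlgebra
  have : Module.Flat (Y.presheaf.stalk (f (f.fiberι _ t))) (X.presheaf.stalk (f.fiberι _ t)) := Flat.stalkMap f _
  obtain ⟨hsurj, hker⟩ := Groth.Agent.S9501.result f _ t
  let e := (Ideal.quotEquivOfEq hker).symm.trans (RingHom.quotientKerEquivOfSurjective hsurj)
  have := e.symm.isLocalRing
  have : IsLocalHom (algebraMap (Y.presheaf.stalk (f (f.fiberι _ t))) (X.presheaf.stalk (f.fiberι _ t))) :=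
    inferInstanceAs (IsLocalHom (f.stalkMap (f.fiberι _ t)).hom)
  have hadd := Groth.Calg4.ringKrullDim_eq_add_of_flat (Y.presheaf.stalk (f (f.fiberι _ t)))
    (X.presheaf.stalk (f.fiberι _ t))
  rw [RingHom.algebraMap_toAlgebra, ringKrullDim_eq_of_ringEquiv e, h0, add_zero] at hadd
  rw [hadd] at ex
  have key : ∀ (D : WithBot ℕ∞) (a m : ℕ), D + ((a : ℕ∞) : WithBot ℕ∞) = ((m : ℕ∞) : WithBot ℕ∞) →
      ∃ d : ℕ, D = d := by
    intro D a m hD
    cases D with
    | bot => rw [WithBot.bot_add] at hD; exact absurd hD (by simp)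
    | coe e =>
      cases e with
      | top => rw [← WithBot.coe_add, top_add] at hD; exact absurd (WithBot.coe_inj.1 hD) (by simp)
      | coe e => exact ⟨e, rfl⟩
  obtain ⟨d, hd⟩ := key _ _ _ ey
  rw [hd] at ex ey
  have a1 : d + hx' = nX := by exact_mod_cast ex
  have a2 : d + hy' = nY := by exact_mod_cast ey
  omega

/-- The subgroup generated by cycles rationally equivalent to zero consists of such cycles. -/
theorem ratEquivZero_of_cl_eq {W : Scheme.{u}} {δ : W → ℤ} (hW : Cyc.IsSetup W δ) {k : ℤ}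
    (a b : AlgebraicCycle W ℤ) (ha : a ∈ Cyc.Zk W δ k) (hb : b ∈ Cyc.Zk W δ k)
    (h : ChowOps.cl a ha = ChowOps.cl b hb) : Cyc.RatEquivZero δ k (a - b) := by
  have hmem : (⟨a, ha⟩ : ↥(ChowOps.zk W δ k)) - ⟨b, hb⟩ ∈ ChowOps.ratTriv W δ k :=
    (QuotientAddGroup.eq_iff_sub_mem).1 h
  suffices H : ∀ c ∈ ChowOps.ratTriv W δ k,
      Groth.CycInter.RatZeroOn δ k Set.univ ⇑(c : AlgebraicCycle W ℤ) from
    Groth.CycInter.ratEquivZero_of_ratZeroOn hW (H _ hmem)
  intro c hc
  induction hc using AddSubgroup.closure_induction with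
  | mem c hc =>
    obtain ⟨ι, ξ, F, hξ, hF, hlf, hsum⟩ := hc
    exact ⟨ι, ξ, F, hF, fun i _ => ⟨hξ i, trivial⟩,
      fun V hV => (Groth.Cycles.finite_of_isCompact ξ hlf hV.isCompact).subset
        fun i hi => ⟨ξ i, subset_closure rfl, hi.2⟩, hsum⟩
  | zero =>
    exact ⟨PEmpty, fun a => a.elim, fun a => a.elim, fun a => a.elim, fun a => a.elim,
      fun _ _ => Set.toFinite _, fun _ => (finsum_of_isEmpty _).symm⟩
  | add c d _ _ hc hd => exact (Groth.CycInter.ratZeroOn_add hW hc hd).congr fun z => rfl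
  | neg c _ hc => exact (Groth.CycInter.ratZeroOn_neg hW hc).congr fun z => rfl

/-- Let f : X → Y be a morphism of nonsingular projective varieties over an algebraically closed field
and define f^*α = pr_{X,*}(Γ_f · pr_Y^*α) on Chow groups, with Γ_f ⊂ X × Y the graph and · the
intersection product of the nonsingular projective variety X × Y. If f is flat, f^*α agrees with the
flat pullback of α (relative dimension dim X - dim Y). Here X, Y and X × Y are nonsingular varieties
over the algebraically closed field K (smooth, separated, quasi-compact, integral) embedded as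
closed subschemes of projective spaces over K, with dimension functions the transcendence degree
(Cyc.IsSetup, Cyc.DeltaCompat to Spec K with value 0) and dimensions pinned at the generic points;
the product on CH_*(X × Y) is any mul with ChowOps.IsChowMul (it agrees with the Tor-formula product
IntMult.interProd on properly meeting cycles, which determines it); [Γ_f] is the prime cycle of the
image of the generic point of X under the graph morphism, pr_Y^* and f^* are coefficientwise flat
pullbacks (Cyc.pullFun), pr_{X,*} is the proper pushforward of a representing cycle, and the two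
sides are compared up to rational equivalence on X. (Parts (1)–(3) of the published statement — f^*
is a ring map, functoriality, projection formula — are not stated here.) -/
theorem result (K : Type u) [Field K] [IsAlgClosed K] (X : Scheme.{u}) (fX : X ⟶ Spec (CommRingCat.of K)) [Smooth fX] [IsSeparated fX] [QuasiCompact fX] [IsIntegral X] (δX : X → ℤ) (hX : Cyc.IsSetup X δX) (hδX : Cyc.DeltaCompat fX δX (fun _ => 0)) (dX : ℕ) (hdX : δX (genericPoint X) = dX) (NX : ℕ) (ιX : X ⟶ CohB1.ProjSpace NX K) [IsClosedImmersion ιX] (hιX : ιX ≫ CohB1.ProjSpace.toSpec NX K = fX) (Y : Scheme.{u}) (fY : Y ⟶ Spec (CommRingCat.of K)) [Smooth fY] [IsSeparated fY] [QuasiCompact fY] [IsIntegral Y] (δY : Y → ℤ) (hY : Cyc.IsSetup Y δY) (hδY : Cyc.DeltaCompat fY δY (fun _ => 0)) (dY : ℕ) (hdY : δY (genericPoint Y) = dY) (NY : ℕ) (ιY : Y ⟶ CohB1.ProjSpace NY K) [IsClosedImmersion ιY] (hιY : ιY ≫ CohB1.ProjSpace.toSpec NY K = fY) (f : X ⟶ Y) (hf : f ≫ fY = fX) [Flat f] [IsIntegral (pullback fX fY)] (δW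 : ↥(pullback fX fY) → ℤ) (hW : Cyc.IsSetup (pullback fX fY) δW) (hδW : Cyc.DeltaCompat (pullback.fst fX fY ≫ fX) δW (fun _ => 0)) (hdW : δW (genericPoint ↥(pullback fX fY)) = (dX : ℤ) + (dY : ℤ)) (NW : ℕ) (ιW : (pullback fX fY) ⟶ CohB1.ProjSpace NW K) [IsClosedImmersion ιW] (hιW : ιW ≫ CohB1.ProjSpace.toSpec NW K = pullback.fst fX fY ≫ fX) (mul : (r s : ℤ) → ChowOps.CH (pullback fX fY) δW r → ChowOps.CH (pullback fX fY) δW s → ChowOps.CH (pullback fX fY) δW (r + s - ((dX : ℤ) + (dY : ℤ)))) (hmul : ChowOps.IsChowMul (pullback fX fY) δW ((dX : ℤ) + (dY : ℤ)) mul) (γ : AlgebraicCycle (pullback fX fY) ℤ) (hγ : ⇑γ = Set.indicator {(pullback.lift (𝟙 X) f (Eq.trans (Category.id_comp fX) hf.symm)) (genericPoint X)} 1) (hγk : γ ∈ Cyc.Zk (pullback fX fY) δW (dX : ℤ)) (k : ℤ) (α : AlgebraicCycle Y ℤ) (hα : α ∈ Cyc.Zk Y δY k) (αW : AlgebraicCycle (pullback fX fY) ℤ) (hαW : ⇑αW = Cyc.pullFun (pullback.snd fX fY) δW δY (dX : ℤ) ⇑α) (hαWk : αW ∈ Cyc.Zk (pullback fX fY) δW (k + dX)) (ζ : AlgebraicCycle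 (pullback fX fY) ℤ) (hζk : ζ ∈ Cyc.Zk (pullback fX fY) δW ((dX : ℤ) + (k + dX) - ((dX : ℤ) + (dY : ℤ)))) (hζ : ChowOps.cl ζ hζk = mul (dX : ℤ) (k + dX) (ChowOps.cl γ hγk) (ChowOps.cl αW hαWk)) (αX : AlgebraicCycle X ℤ) (hαX : ⇑αX = Cyc.pullFun f δX δY ((dX : ℤ) - (dY : ℤ)) ⇑α) : Cyc.RatEquiv δX (k + dX - dY) (AlgebraicCycle.map (pullback.fst fX fY) δW δX ζ) αX := by
  classical
  have := Groth.CycInter.Ext.geometricallyIntegral_of_isAlgClosed fX
  set px := pullback.fst fX fY with hpxdef
  set py := pullback.snd fX fY with hpydef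
  let Γ : X ⟶ pullback fX fY := pullback.lift (𝟙 X) f (Eq.trans (Category.id_comp fX) hf.symm)
  have hΓ₁ : Γ ≫ px = 𝟙 X := pullback.lift_fst _ _ _
  have hΓ₂ : Γ ≫ py = f := pullback.lift_snd _ _ _
  have : IsClosedImmersion Γ := by
    have : IsClosedImmersion (Γ ≫ px) := by rw [hΓ₁]; infer_instance
    exact IsClosedImmersion.of_comp Γ px
  have hΓ₁' : ∀ x, px (Γ x) = x := fun x => by rw [← Scheme.Hom.comp_apply, hΓ₁]; rfl
  have hΓ₂' : ∀ x, py (Γ x) = f x := fun x => by rw [← Scheme.Hom.comp_apply, hΓ₂]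
  have : IsLocallyNoetherian (pullback fX fY) := hW.1
  have sq : IsPullback px py fX fY := IsPullback.of_hasPullback fX fY
  have hP' : Cyc.DeltaCompat (py ≫ fY) δW fun _ => 0 := by
    rw [← pullback.condition]; exact hδW
  have hpxc := Groth.CycInter.Ext.deltaCompat_of_comp px fX hδW hδX
  have hcoef : ∀ x, δW (Γ x) = δX x := by
    intro x
    obtain ⟨b, hb, hb'⟩ := Groth.CycInter.Ext.deltaCompat_comp Γ px
      (Groth.Cycles.deltaCompat_preimmersion Γ δW) hpxc x
    have h0 : Groth.Variety2.Dim.relTrdeg (Γ ≫ px) x = 0 := by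
      have : ∀ φ : X ⟶ X, φ = 𝟙 X → Groth.Variety2.Dim.relTrdeg φ x = 0 := by
        rintro _ rfl
        exact Groth.Variety2.Dim.relTrdeg_eq_zero_of_surjective (𝟙 X) x
          (Groth.Variety2.Dim.residueFieldMap_surjective (𝟙 X) x)
      exact this _ hΓ₁
    have hb0 : b = 0 := by
      have e := (show Groth.Variety2.Dim.relTrdeg (Γ ≫ px) x = b from hb).symm.trans h0
      exact_mod_cast e
    rw [hb0, Scheme.Hom.comp_apply, hΓ₁'] at hb'
    simpa using hb'
  have hc := delta_flat fX fY f hδX hδY hdX hdY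
  have hlef : ∀ x, δX x ≤ δY (f x) + ((dX : ℤ) - dY) := Groth.Cycles.delta_le_add f hX hc
  set g₀ := Γ (genericPoint X) with hg₀
  have hΓ0 : δW g₀ = dX := (hcoef _).trans hdX
  have hind : ∀ a, γ a ≠ 0 → a = g₀ := fun a h => by
    rw [hγ] at h
    exact by_contra fun hh => h (Set.indicator_of_notMem
      (show a ∉ ({g₀} : Set ↥(pullback fX fY)) from fun hm => hh hm) _)
  have hγ1 : γ g₀ = 1 := by rw [hγ]; exact Set.indicator_of_mem (Set.mem_singleton _) _
  have hrange : ∀ z, g₀ ⤳ z → ∃ x, Γ x = z := fun z h =>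
    h.mem_closed Γ.isClosedEmbedding.isClosed_range ⟨_, rfl⟩
  have hne : ∀ v, αW v ≠ 0 → IsFibreGeneric py v ∧ α (py v) ≠ 0 ∧ δY (py v) = k ∧ δW v = k + dX := by
    intro v h
    rw [hαW] at h
    simp only [Cyc.pullFun] at h
    split_ifs at h with hd
    · have h1 := left_ne_zero_of_mul h
      have h2 : δY (py v) = k := by_contra fun hh => h1 (hα _ hh)
      exact ⟨by_contra fun hg => right_ne_zero_of_mul h (Nat.cast_eq_zero.mpr (length_toNat_eq_zero_of_not py v hg)),
        h1, h2, by rw [hd, h2]⟩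
    · exact absurd rfl h
  -- proper intersection
  have hproper : IntMult.IntersectProperly δW ((dX : ℤ) + dY) ⇑γ ⇑αW := by
    intro a v z ha hv h1 h2
    rw [hind a ha] at h1 ⊢
    obtain ⟨-, -, hk, hdv⟩ := hne v hv
    obtain ⟨x, rfl⟩ := hrange z h1
    have h3 := h2.map py.continuous
    rw [hΓ₂'] at h3
    have := Groth.Cycles.delta_le_of_specializes hY.2.2 h3
    have := hlef x
    rw [hcoef, hΓ0, hdv]
    omega
  -- the product cycle
  let ζ' : AlgebraicCycle (pullback fX fY) ℤ := AlgebraicCycle.map Γ (δW ∘ Γ) δW αX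
  have hζ'eq : ⇑ζ' = IntMult.interProd δW ((dX : ℤ) + dY) ⇑γ ⇑αW := by
    funext z
    by_cases hz : z ∈ Set.range Γ
    · obtain ⟨x, rfl⟩ := hz
      show AlgebraicCycle.map Γ (δW ∘ Γ) δW αX (Γ x) = _
      rw [Groth.Cycles.map_apply_eq_sum Γ (δW ∘ Γ) δW αX (Γ x) {x}
        (fun w hw _ => Finset.mem_singleton.mpr (Γ.isEmbedding.injective hw)), Finset.sum_singleton, if_pos rfl,
        Groth.Cycles.mapCoeff_preimmersion, Nat.cast_one, mul_one, hαX]
      obtain ⟨η₀, hη₀, hpη, hgη, hδη, hlη, huη⟩ :=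
        Groth.CycInter.Ext.exists_gen fY fX py px sq.flip hδY hδX hP' (Γ x)
      rw [hdX, hΓ₂'] at hδη
      rw [hΓ₂'] at hpη
      have hgen : g₀ ⤳ Γ x := (genericPoint_specializes x).map Γ.continuous
      have hpair : ∀ p : {p : ↥(pullback fX fY) × ↥(pullback fX fY) // p.1 ⤳ Γ x ∧ p.2 ⤳ Γ x ∧
          δW p.1 + δW p.2 - ((dX : ℤ) + dY) = δW (Γ x)},
          γ p.1.1 * αW p.1.2 * IntMult.mult (IntMult.ptIdeal p.1.1) (IntMult.ptIdeal p.1.2) (Γ x) ≠ 0 →
          p.1.1 = g₀ ∧ p.1.2 = η₀ ∧ δX x = δY (f x) + ((dX : ℤ) - dY) := by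
        rintro ⟨⟨a, v⟩, h1, h2, h3⟩ h
        have e := hind a (left_ne_zero_of_mul (left_ne_zero_of_mul h))
        obtain ⟨hvg, -, hk, hdv⟩ := hne v (right_ne_zero_of_mul (left_ne_zero_of_mul h))
        dsimp only at h1 h2 h3
        rw [e, hΓ0, hdv, hcoef] at h3
        have h4 := h2.map py.continuous
        rw [hΓ₂'] at h4
        have := Groth.Cycles.delta_le_of_specializes hY.2.2 h4
        have := hlef x
        have e2 : f x = py v := Groth.Cycles.eq_of_specializes_of_delta_le hY.2.2 h4 (by omega) |>.symm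
        exact ⟨e, huη v h2 (by rw [hΓ₂', e2]) hvg, by omega⟩
      simp only [Cyc.pullFun]
      by_cases hd : δX x = δY (f x) + ((dX : ℤ) - dY)
      · rw [if_pos hd, IntMult.interProd, finsum_eq_single _ (⟨(g₀, η₀), hgen, hη₀, by
          dsimp only; rw [hΓ0, hδη, hcoef]; omega⟩ : {p : ↥(pullback fX fY) × ↥(pullback fX fY) //
            p.1 ⤳ Γ x ∧ p.2 ⤳ Γ x ∧ δW p.1 + δW p.2 - ((dX : ℤ) + dY) = δW (Γ x)})]
        · dsimp only
          rw [hγ1, one_mul]
          have hv : αW η₀ = α (f x) := by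
            rw [hαW]
            unfold Cyc.pullFun
            rw [if_pos (show δW η₀ = δY (py η₀) + dX by rw [hpη]; exact hδη)]
            rw [show Module.length _ _ = 1 from hlη, hpη]
            simp
          rw [hv]
          congr 1
          rw [IntMult.mult, Groth.Agent.S6470.stalkIdeal_ptIdeal hgen, Groth.Agent.S6470.stalkIdeal_ptIdeal hη₀,
            hgη]
          set z := Γ x with hzdef
          letI := (py.stalkMap z).hom.toAlgebra
          have : Module.Flat (Y.presheaf.stalk (py z)) ((pullback fX fY).presheaf.stalk z) := Flat.stalkMap py z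
          set J := (Groth.Cycles.genPrime hgen).asIdeal with hJ
          have hJker : RingHom.ker (Γ.stalkMap x).hom = J := by
            rw [hJ, ← Groth.CycInter.Ext.ker_stalkMapAt_integral Γ x z rfl hgen, stalkMapAt_rfl]
          let φ := (Γ.stalkMap x).hom
          have hφ : Function.Surjective φ := Γ.stalkMap_surjective x
          have hflat : Module.Flat (Y.presheaf.stalk (py z)) ((pullback fX fY).presheaf.stalk z ⧸ J) := by
            letI : Algebra (Y.presheaf.stalk (py z)) (X.presheaf.stalk x) :=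
              (py.stalkMap z ≫ Γ.stalkMap x).hom.toAlgebra
            have : Flat (Γ ≫ py) := by rw [hΓ₂]; infer_instance
            have hfl : (py.stalkMap z ≫ Γ.stalkMap x).hom.Flat := by
              rw [← Scheme.Hom.stalkMap_comp]; exact Flat.stalkMap _ _
            have : Module.Flat (Y.presheaf.stalk (py z)) (X.presheaf.stalk x) := hfl
            let ψ : (pullback fX fY).presheaf.stalk z →ₐ[Y.presheaf.stalk (py z)] X.presheaf.stalk x :=
              { φ with commutes' := fun r => rfl }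
            have hψ : RingHom.ker ψ.toRingHom = J := hJker
            exact Module.Flat.of_linearEquiv ((Ideal.quotientEquivAlgOfEq _ hψ.symm).trans
              (Ideal.quotientKerAlgEquivOfSurjective (f := ψ) hφ)).toLinearEquiv
          refine Eq.trans ?_ (Groth.CycInter.ExtTor.chi_eq (Y.presheaf.stalk (py z))
            (IsLocalRing.maximalIdeal (Y.presheaf.stalk (py z))) J).symm
          rw [RingHom.algebraMap_toAlgebra]
          change ((Module.length (X.presheaf.stalk x) (X.presheaf.stalk x ⧸ fibreIdeal f x)).toNat : ℤ) =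
            ((Module.length ((pullback fX fY).presheaf.stalk z)
              ((pullback fX fY).presheaf.stalk z ⧸ (fibreIdeal py z ⊔ J))).toNat : ℤ)
          rw [← Groth.Cycles.fibreIdeal_congr hΓ₂ x, Groth.Cycles.fibreIdeal_comp Γ py x]
          congr 2
          letI : Algebra ((pullback fX fY).presheaf.stalk z) (X.presheaf.stalk x) := φ.toAlgebra
          let π : (pullback fX fY).presheaf.stalk z →ₗ[(pullback fX fY).presheaf.stalk z] X.presheaf.stalk x ⧸
              (fibreIdeal py z).map (algebraMap _ (X.presheaf.stalk x)) :=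
            (Ideal.Quotient.mkₐ ((pullback fX fY).presheaf.stalk z) _).toLinearMap.comp (Algebra.linearMap _ _)
          have hπ : Function.Surjective π := Ideal.Quotient.mk_surjective.comp hφ
          have hπk : LinearMap.ker π = fibreIdeal py z ⊔ J := by
            ext a
            rw [LinearMap.mem_ker]
            show Ideal.Quotient.mk _ (algebraMap _ _ a) = 0 ↔ _
            rw [Ideal.Quotient.eq_zero_iff_mem, ← Ideal.mem_comap, RingHom.algebraMap_toAlgebra,
              Ideal.comap_map_of_surjective φ hφ, ← RingHom.ker_eq_comap_bot, hJker]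
          exact (Module.length_eq_of_surjective (R := X.presheaf.stalk x) hφ).symm.trans
            (((Submodule.quotEquivOfEq _ _ hπk).symm.trans (π.quotKerEquivOfSurjective hπ)).length_eq).symm
        · intro p hp
          by_contra h
          obtain ⟨e1, e2, -⟩ := hpair p h
          exact hp (Subtype.ext (Prod.ext e1 e2))
      · rw [if_neg hd, IntMult.interProd]
        exact (finsum_eq_zero_of_forall_eq_zero fun p => by_contra fun h => hd (hpair p h).2.2).symm
    · show AlgebraicCycle.map Γ (δW ∘ Γ) δW αX z = _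
      rw [Groth.Cycles.map_apply_eq_sum Γ (δW ∘ Γ) δW αX z ∅ (fun w hw _ => (hz ⟨w, hw⟩).elim), Finset.sum_empty,
        IntMult.interProd]
      refine (finsum_eq_zero_of_forall_eq_zero fun p => by_contra fun h => hz ?_).symm
      exact hrange z (hind _ (left_ne_zero_of_mul (left_ne_zero_of_mul h)) ▸ p.2.1)
  have hζ'k : ζ' ∈ Cyc.Zk (pullback fX fY) δW ((dX : ℤ) + (k + dX) - ((dX : ℤ) + (dY : ℤ))) := by
    intro z hz
    rw [hζ'eq]
    refine finsum_eq_zero_of_forall_eq_zero fun p => by_contra fun h => hz ?_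
    obtain ⟨-, -, -, hdv⟩ := hne p.1.2 (right_ne_zero_of_mul (left_ne_zero_of_mul h))
    rw [← p.2.2.2, hind _ (left_ne_zero_of_mul (left_ne_zero_of_mul h)), hΓ0, hdv]
  have hcl : ChowOps.cl ζ hζk = ChowOps.cl ζ' hζ'k :=
    hζ.trans (hmul _ _ γ αW hγk hαWk hproper ζ' hζ'k hζ'eq)
  have h0 := ratEquivZero_of_cl_eq hW ζ ζ' hζk hζ'k hcl
  have : IsProper (CohB1.ProjSpace.toSpec NY K) := Groth.Variety2.isProper_projSpace_toSpec NY K
  have : IsProper fY := by rw [← hιY]; infer_instance
  have : IsProper px := MorphismProperty.pullback_fst _ _ ‹IsProper fY›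
  have h1 := Groth.Cycles.ratEquivZero_map δW δX hW hX px hpxc _ (ζ - ζ') h0
  have hmap : AlgebraicCycle.map px δW δX ζ' = αX := by
    rw [Groth.Cycles.map_map_eq Γ px (Groth.Cycles.deltaCompat_preimmersion Γ δW) hpxc]
    have : ∀ φ : X ⟶ X, φ = 𝟙 X → ∀ [QuasiCompact φ], AlgebraicCycle.map φ (δW ∘ Γ) δX αX = αX := by
      rintro _ rfl _
      rw [show δW ∘ Γ = δX from funext hcoef]
      exact AlgebraicCycle.map_id δX αX
    exact this _ hΓ₁
  rw [Groth.Cycles.map_sub', hmap] at h1
  rw [show k + (dX : ℤ) - dY = (dX : ℤ) + (k + dX) - ((dX : ℤ) + (dY : ℤ)) by ring]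
  exact h1

end Groth.Agent.S12676
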