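import Groth.Statements.S1268
import Groth.Agent.RaynaudGruson.ProjectiveOpen

set_option autoImplicit false
universe u
open FlatMor

namespace Groth.Agent.S1268

open AlgebraicGeometry CategoryTheory TensorProduct in
/-- Ring form, X = Spec S and S = Spec R affine: let S be a finitely presented R-algebra, N a finitely
presented S-module and q a prime of S over p with N_q flat over R. Then there is an étale R-algebra
R' with a prime p' over p having the same residue field such that, for the base changes S', N' of S,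
N to R' (any models), there is an S'-algebra C with Spec C → Spec S' an open immersion (an affine
open U' of X ×_S S'), containing a point lying over both q and p' (there is exactly one such point
of X ×_S S'), such that C ⊗_{S'} N' (the sections of the pulled-back module over U') is a projective
R'-module. -/
theorem result {R S : Type u} [CommRing R] [CommRing S] [Algebra R S] [Algebra.FinitePresentation R S]
    (N : Type u) [AddCommGroup N] [Module S N] [Module R N] [IsScalarTower R S N] [Module.FinitePresentation S N]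
    (p : Ideal R) [p.IsPrime] (q : Ideal S) [q.IsPrime] [q.LiesOver p] (hflat : FlatCA.FlatAt R q N) :
    ∃ (R' : Type u) (_ : CommRing R') (_ : Algebra R R') (p' : Ideal R') (_ : p'.IsPrime), FlatCA.IsEtaleNhd R R' p p' ∧
      ∀ (S' N' : Type u) [CommRing S'] [Algebra R S'] [Algebra S S'] [Algebra R' S'] [IsScalarTower R S S'] [IsScalarTower R R' S']
        [Algebra.IsPushout R S R' S']
        [AddCommGroup N'] [Module S' N'] [Module S N'] [IsScalarTower S S' N']
        (f : N →ₗ[S] N'), IsBaseChange S' f →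
        ∃ (C : Type u) (_ : CommRing C) (_ : Algebra S' C) (_ : Algebra R' C) (_ : IsScalarTower R' S' C)
          (x' : Ideal C) (_ : x'.IsPrime),
          IsOpenImmersion (Spec.map (CommRingCat.ofHom (algebraMap S' C))) ∧
          (x'.comap (algebraMap S' C)).LiesOver q ∧ (x'.comap (algebraMap S' C)).LiesOver p' ∧
          Module.Projective R' (RestrictScalars R' C (C ⊗[S'] N')) := by
  classical
  obtain ⟨R₁, S₁, _, _, _, _, _, _, _, _, p₁, q₁, _, _, hR, hS, hq, hproj⟩ :=
    Groth.RaynaudGruson.LocalProjective.exists_nbhd_projective N p q hflat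
  haveI := hproj; haveI := hR.1; haveI := hR.2.1; haveI := hS.1; haveI := hS.2.1; haveI := hq
  obtain ⟨S₀, _, _, _, _, _, _, hpo⟩ := Groth.RaynaudGruson.EtalePushout.exists_pushout R S R₁
  haveI := hpo
  let σ : S₀ →ₐ[R] S₁ := Algebra.pushoutDesc S₀ (IsScalarTower.toAlgHom R R₁ S₁) (IsScalarTower.toAlgHom R S S₁)
    fun _ _ => Commute.all _ _
  letI : Algebra S₀ S₁ := σ.toRingHom.toAlgebra
  haveI : IsScalarTower R₁ S₀ S₁ := .of_algebraMap_eq fun b =>
    (Algebra.pushoutDesc_left S₀ (IsScalarTower.toAlgHom R R₁ S₁) (IsScalarTower.toAlgHom R S S₁)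
      (fun _ _ => Commute.all _ _) b).symm
  haveI : IsScalarTower S S₀ S₁ := .of_algebraMap_eq fun b =>
    (Algebra.pushoutDesc_right S₀ (IsScalarTower.toAlgHom R R₁ S₁) (IsScalarTower.toAlgHom R S S₁)
      (fun _ _ => Commute.all _ _) b).symm
  haveI : Algebra.Etale S S₀ := Groth.RaynaudGruson.EtalePushout.etale_of_isPushout' (A := R) (A' := R₁) (B := S) (B' := S₀)
  haveI : Algebra.Etale S₀ S₁ := Algebra.Etale.of_restrictScalars S _ _
  haveI : Algebra.FinitePresentation R₁ S₀ := Algebra.FinitePresentation.equiv (Algebra.IsPushout.equiv R R₁ S S₀)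
  haveI : SMulCommClass S R₁ S₀ := ⟨fun s r x => by simp only [Algebra.smul_def]; ring⟩
  let N₀ := S₀ ⊗[S] N
  let mk₀ : N →ₗ[S] N₀ := TensorProduct.mk S S₀ N 1
  have hmk₀ : IsBaseChange S₀ mk₀ := TensorProduct.isBaseChange S N S₀
  haveI : Module.FinitePresentation S₀ N₀ := Module.FinitePresentation.of_equiv hmk₀.equiv
  haveI : Module.Projective R₁ (RestrictScalars R₁ S₁ (S₁ ⊗[S₀] N₀)) := by
    let e : S₁ ⊗[S₀] N₀ ≃ₗ[S₁] S₁ ⊗[S] N := AlgebraTensorModule.cancelBaseChange S S₀ S₁ S₁ N
    exact Module.Projective.of_equiv (M := RestrictScalars R₁ S₁ (S₁ ⊗[S] N))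
      (AddEquiv.toLinearEquiv ((RestrictScalars.addEquiv R₁ S₁ _).trans
        (e.symm.toAddEquiv.trans (RestrictScalars.addEquiv R₁ S₁ _).symm)) fun a z => by
        refine (RestrictScalars.addEquiv R₁ S₁ (S₁ ⊗[S₀] N₀)).injective ?_
        rw [RestrictScalars.addEquiv_map_smul, AddEquiv.trans_apply, AddEquiv.trans_apply, AddEquiv.apply_symm_apply,
          AddEquiv.trans_apply, AddEquiv.trans_apply, AddEquiv.apply_symm_apply, RestrictScalars.addEquiv_map_smul]
        exact map_smul e.symm _ _)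
  obtain ⟨g, hg, R₂, _, _, r, _, hnhd, hP⟩ := Groth.RaynaudGruson.ProjectiveOpen.exists_projective_open (R := R₁) (S := S₀) (S₁ := S₁) N₀ p₁ q₁
  haveI := hnhd.1; haveI := hnhd.2.1
  letI : Algebra R R₂ := ((algebraMap R₁ R₂).comp (algebraMap R R₁)).toAlgebra
  haveI : IsScalarTower R R₁ R₂ := .of_algebraMap_eq' rfl
  refine ⟨R₂, inferInstance, inferInstance, r, inferInstance,
    Groth.RaynaudGruson.EtalePushout.isEtaleNhd_trans hR hnhd, ?_⟩
  intro S' N' _ _ _ _ _ _ hpush _ _ _ _ f hf
  let ρ : S₀ →ₐ[R] S' := Algebra.pushoutDesc S₀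
    ((IsScalarTower.toAlgHom R R₂ S').comp (IsScalarTower.toAlgHom R R₁ R₂)) (IsScalarTower.toAlgHom R S S')
    fun _ _ => Commute.all _ _
  letI : Algebra S₀ S' := ρ.toRingHom.toAlgebra
  letI : Algebra R₁ S' := ((algebraMap R₂ S').comp (algebraMap R₁ R₂)).toAlgebra
  haveI : IsScalarTower R₁ R₂ S' := .of_algebraMap_eq' rfl
  haveI : IsScalarTower R₁ S₀ S' := .of_algebraMap_eq fun b =>
    (Algebra.pushoutDesc_left S₀ ((IsScalarTower.toAlgHom R R₂ S').comp (IsScalarTower.toAlgHom R R₁ R₂))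
      (IsScalarTower.toAlgHom R S S') (fun _ _ => Commute.all _ _) b).symm
  haveI : IsScalarTower S S₀ S' := .of_algebraMap_eq fun b =>
    (Algebra.pushoutDesc_right S₀ ((IsScalarTower.toAlgHom R R₂ S').comp (IsScalarTower.toAlgHom R R₁ R₂))
      (IsScalarTower.toAlgHom R S S') (fun _ _ => Commute.all _ _) b).symm
  haveI : IsScalarTower R R₁ S' := .of_algebraMap_eq fun b => by
    rw [IsScalarTower.algebraMap_apply R R₂ S', IsScalarTower.algebraMap_apply R R₁ R₂]; rfl
  haveI : Algebra.IsPushout R R₂ S S' := Algebra.IsPushout.symm hpush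
  haveI : Algebra.IsPushout R₁ R₂ S₀ S' :=
    (Algebra.IsPushout.comp_iff (R := R) (S := R₁) (R' := S) (S' := S₀) (T := R₂) (T' := S')).mp inferInstance
  haveI : Algebra.IsPushout R₁ S₀ R₂ S' := Algebra.IsPushout.symm inferInstance
  let C := Localization (Submonoid.powers g)
  obtain ⟨C₂, _, _, _, _, _, _, hC₂⟩ := Groth.RaynaudGruson.EtalePushout.exists_pushout S₀ C S'
  haveI := hC₂
  haveI : Algebra.IsPushout S₀ C S' C₂ := Algebra.IsPushout.symm hC₂
  letI : Algebra R₂ C₂ := ((algebraMap S' C₂).comp (algebraMap R₂ S')).toAlgebra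
  haveI : IsScalarTower R₂ S' C₂ := .of_algebraMap_eq' rfl
  letI : Algebra R₁ C₂ := ((algebraMap S' C₂).comp (algebraMap R₁ S')).toAlgebra
  haveI : IsScalarTower R₁ S' C₂ := .of_algebraMap_eq' rfl
  haveI : IsScalarTower R₁ R₂ C₂ := .of_algebraMap_eq fun b => by
    show algebraMap S' C₂ (algebraMap R₁ S' b) = algebraMap S' C₂ (algebraMap R₂ S' (algebraMap R₁ R₂ b))
    rw [← IsScalarTower.algebraMap_apply R₁ R₂ S']
  haveI : IsScalarTower R₁ S₀ C₂ := .of_algebraMap_eq fun b => by
    show algebraMap S' C₂ (algebraMap R₁ S' b) = algebraMap S₀ C₂ (algebraMap R₁ S₀ b)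
    rw [IsScalarTower.algebraMap_apply R₁ S₀ S', ← IsScalarTower.algebraMap_apply S₀ S' C₂]
  haveI : IsScalarTower R₁ C C₂ := .of_algebraMap_eq fun b => by
    rw [IsScalarTower.algebraMap_apply R₁ S₀ C, ← IsScalarTower.algebraMap_apply S₀ C C₂,
      ← IsScalarTower.algebraMap_apply R₁ S₀ C₂]
  haveI hCC : Algebra.IsPushout R₁ C R₂ C₂ :=
    (Algebra.IsPushout.comp_iff (R := R₁) (S := S₀) (R' := R₂) (S' := S') (T := C) (T' := C₂)).mpr inferInstance
  haveI : Algebra.IsPushout R₁ R₂ C C₂ := Algebra.IsPushout.symm hCC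
  haveI : IsLocalization (Algebra.algebraMapSubmonoid S' (Submonoid.powers g)) C₂ :=
    (Algebra.isLocalization_iff_isPushout (R := S₀) (A := C) (Submonoid.powers g)).mpr inferInstance
  haveI : IsLocalization.Away (algebraMap S₀ S' g) C₂ :=
    show IsLocalization (Submonoid.powers (algebraMap S₀ S' g)) C₂ by
      rw [← Algebra.algebraMapSubmonoid_powers (S := S') g]
      infer_instance
  -- the point
  let x₀ := q₁.comap (algebraMap S₀ S₁)
  have hd : Disjoint (Submonoid.powers g : Set S₀) (x₀ : Set S₀) := by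
    refine Set.disjoint_left.mpr ?_
    rintro _ ⟨k, rfl⟩ h
    exact hg ((inferInstance : x₀.IsPrime).mem_of_pow_mem k h)
  haveI : (x₀.map (algebraMap S₀ C)).IsPrime :=
    IsLocalization.isPrime_of_isPrime_disjoint (Submonoid.powers g) C x₀ inferInstance hd
  have hx₀c : (x₀.map (algebraMap S₀ C)).comap (algebraMap S₀ C) = x₀ :=
    IsLocalization.comap_map_of_isPrime_disjoint (Submonoid.powers g) C inferInstance hd
  obtain ⟨x', _, hx'C, hx'R⟩ := Groth.FlatmorThree.exists_prime_over_both (R := R₁) (S := C) (R' := R₂) (S' := C₂)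
    (x₀.map (algebraMap S₀ C)) r (by
      rw [IsScalarTower.algebraMap_eq R₁ S₀ C, ← Ideal.comap_comap, hx₀c, Ideal.comap_comap,
        ← IsScalarTower.algebraMap_eq]
      exact hnhd.2.1.over.symm.trans hq.over)
  refine ⟨C₂, inferInstance, inferInstance, inferInstance, inferInstance, x', inferInstance,
    IsOpenImmersion.of_isLocalization (algebraMap S₀ S' g), ⟨?_⟩, ⟨?_⟩, ?_⟩
  · show q = (x'.comap (algebraMap S' C₂)).comap (algebraMap S S')
    rw [IsScalarTower.algebraMap_eq S S₀ S', ← Ideal.comap_comap, Ideal.comap_comap (algebraMap S₀ S'),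
      ← IsScalarTower.algebraMap_eq, IsScalarTower.algebraMap_eq S₀ C C₂, ← Ideal.comap_comap, hx'C, hx₀c,
      Ideal.comap_comap, ← IsScalarTower.algebraMap_eq]
    exact hS.2.1.over
  · show r = (x'.comap (algebraMap S' C₂)).comap (algebraMap R₂ S')
    rw [Ideal.comap_comap, ← IsScalarTower.algebraMap_eq]
    exact hx'R.symm
  · let NC := LocalizedModule (Submonoid.powers g) N₀
    haveI : IsScalarTower R₁ C NC := IsScalarTower.of_algebraMap_smul fun r x => by
      rw [IsScalarTower.algebraMap_apply R₁ S₀ C, algebraMap_smul, algebraMap_smul]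
    let loc : N₀ →ₗ[S₀] NC := LocalizedModule.mkLinearMap (Submonoid.powers g) N₀
    have hloc : IsBaseChange C loc := IsLocalizedModule.isBaseChange (Submonoid.powers g) C loc
    let E₁ : C₂ ⊗[C] NC ≃ₗ[C₂] C₂ ⊗[S₀] N₀ :=
      (LinearEquiv.baseChange C C₂ _ _ hloc.equiv.symm).trans (AlgebraTensorModule.cancelBaseChange S₀ C C₂ C₂ N₀)
    letI : Algebra S C₂ := ((algebraMap S' C₂).comp (algebraMap S S')).toAlgebra
    haveI : IsScalarTower S S' C₂ := .of_algebraMap_eq' rfl
    haveI : IsScalarTower S S₀ C₂ := .of_algebraMap_eq fun b => by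
      show algebraMap S' C₂ (algebraMap S S' b) = _
      rw [IsScalarTower.algebraMap_apply S S₀ S', ← IsScalarTower.algebraMap_apply S₀ S' C₂]
    let E₂ : C₂ ⊗[S₀] N₀ ≃ₗ[C₂] C₂ ⊗[S] N := AlgebraTensorModule.cancelBaseChange S S₀ C₂ C₂ N
    let E₃ : C₂ ⊗[S'] N' ≃ₗ[C₂] C₂ ⊗[S] N :=
      (LinearEquiv.baseChange S' C₂ _ _ hf.equiv.symm).trans (AlgebraTensorModule.cancelBaseChange S S' C₂ C₂ N)
    let E : C₂ ⊗[S'] N' ≃ₗ[C₂] C₂ ⊗[C] NC := E₃.trans (E₁.trans E₂).symm
    let F : C₂ ⊗[C] NC ≃ₗ[R₂] R₂ ⊗[R₁] NC := Algebra.IsPushout.cancelBaseChange R₁ R₂ C C₂ NC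
    haveI := hP
    haveI : Module.Projective R₂ (C₂ ⊗[C] NC) := Module.Projective.of_equiv F.symm
    exact Module.Projective.of_equiv (M := C₂ ⊗[C] NC) (N := RestrictScalars R₂ C₂ (C₂ ⊗[S'] N'))
      (AddEquiv.toLinearEquiv (E.symm.toAddEquiv.trans (RestrictScalars.addEquiv R₂ C₂ _).symm) fun a z => by
        refine (RestrictScalars.addEquiv R₂ C₂ (C₂ ⊗[S'] N')).injective ?_
        rw [RestrictScalars.addEquiv_map_smul, AddEquiv.trans_apply, AddEquiv.apply_symm_apply, AddEquiv.trans_apply,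
          AddEquiv.apply_symm_apply]
        show E.symm (a • z) = algebraMap R₂ C₂ a • E.symm z
        rw [← map_smul]
        exact congrArg E.symm (algebraMap_smul C₂ a z).symm)

end Groth.Agent.S1268
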