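import Groth.Statements.S12688
import Groth.Agent.RelVA.QBridge
import Groth.Agent.RelVA.FTSub
import Groth.Agent.RelVA.PushQHom

set_option autoImplicit false
universe u
open CategoryTheory CategoryTheory.Limits AlgebraicGeometry TopologicalSpace Opposite
open scoped HomogeneousIdeal
noncomputable section
open EGA2

namespace Groth.Agent.S12688

/-- Let Y be a scheme which is either quasi-compact and separated or has Noetherian underlying space, q
: X → Y a morphism of finite type, L an invertible O_X-module with graded symmetric algebra 𝒮L =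
⊕_{n≥0} L^{⊗n} (whose relative Proj PL, given with its charts, is identified with X by its structure
morphism). If L is very ample relative to q, then there are a quasi-coherent O_Y-module E of finite
type with an injective map ι : E → q_*L, its graded symmetric algebra 𝒯 = Sym(E) (structure map jE),
and the graded q-morphism u : 𝒯 → q_*𝒮L extending ι (adjoint to Sym(φ) for φ : q^*E → L the
restriction of the canonical map q^*q_*L → L), such that φ is surjective — every point of X has an
affine neighbourhood V over which the image of a single section of E generates L — and, for the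
projective bundle P(E) = Proj(𝒯) → Y (with its charts) and the induced r = r_{L,φ} : G(φ) → P(E), r
is everywhere defined (G(φ) is all of PL) and an immersion. (The published statement reads 'coherent
of finite type' for E; over an affine base whose ring is not coherent, with q the identity and L
trivial, the only possible E is O_Y itself, which is not coherent, while the published proof,
through the finite-type criterion for immersions, yields E quasi-coherent of finite type, which is
what this row asserts.) -/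
theorem result {X Y PL : Scheme.{u}}
    (hYs : (CompactSpace Y ∧ Y.IsSeparated) ∨ NoetherianSpace Y) (q : X ⟶ Y) [QuasiCompact q] [LocallyOfFiniteType q]
    (L : X.Modules) (hL : PicF.IsInvertible L) (hLq : Coh.IsQCoh L)
    (𝒮L : RelProj.QCGrAlg X) (jL : L ⟶ 𝒮L.toModule) (hjL : RelProj.IsGrSymAlg L 𝒮L jL)
    (pL : PL ⟶ X) (chartL : ∀ (U : X.Opens) (hU : IsAffineOpen U), (((pL ⁻¹ᵁ U : PL.Opens) : Scheme.{u}) ≅ Proj (𝒮L.deg U hU)))
    (hPL : RelProj.IsRelProj 𝒮L pL chartL)
    (h : RelProj.IsRelVeryAmple q L) :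
    ∃ (E : Y.Modules) (_ : Coh.IsQCoh E) (_ : CohB1.IsFT E) (ι : E ⟶ (Scheme.Modules.pushforward q).obj L)
      (_ : ∀ U : Y.Opens, Function.Injective (ι.app U))
      (𝒯 : RelProj.QCGrAlg Y) (jE : E ⟶ 𝒯.toModule) (_ : RelProj.IsGrSymAlg E 𝒯 jE)
      (u : RelProj.QGrHom q 𝒯 𝒮L)
      (_ : ∀ (U : Y.Opens) (x : Γ(E, U)), (u.app U).hom ((jE.app U) x) = (jL.app (q ⁻¹ᵁ U)) ((ι.app U) x)),
      (∀ x : X, ∃ (U : Y.Opens) (hU : IsAffineOpen U) (e : Γ(E, U)) (V : X.Opens) (hV : IsAffineOpen V)
          (hVU : V ≤ q ⁻¹ᵁ U), x ∈ V ∧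
            ((𝒮L.deg V hV 1 : AddSubgroup (𝒮L.presheaf.obj (op V))) : Set (𝒮L.presheaf.obj (op V))) ⊆
              (Ideal.span {(u.appLE U V hVU).hom ((jE.app U) e)} : Set (𝒮L.presheaf.obj (op V)))) ∧
      ∀ (P : Scheme.{u}) (p : P ⟶ Y)
          (chart : ∀ (U : Y.Opens) (hU : IsAffineOpen U), (((p ⁻¹ᵁ U : P.Opens) : Scheme.{u}) ≅ Proj (𝒯.deg U hU)))
          (_ : RelProj.IsRelProj 𝒯 p chart)
          (r : ((RelProj.domQ u pL chartL : PL.Opens) : Scheme.{u}) ⟶ P)
          (_ : RelProj.IsProjQMapOn u p chart pL chartL (RelProj.domQ u pL chartL) r),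
        RelProj.domQ u pL chartL = ⊤ ∧ IsImmersion r := by
  obtain ⟨_, _⟩ := Groth.RelVA.qcqs_of_hyp hYs
  have : L.IsQuasicoherent := hLq
  have : IsSeparated q := Groth.RelVA.isSeparated_of_isRelVeryAmple h
  obtain ⟨G, ι, hmono, hq, hft, hσ⟩ := Groth.RelVA.exists_ft_sub_canon q hL h
  have := hq
  have hj := Groth.SymAlg.isGrSymAlg_symGr G
  obtain ⟨w, hw⟩ := Groth.RelVA.exists_qGrHom jL hjL.2 hj ι
  have hepi := Groth.RelVA.IsEmb.hepi _ hσ
  refine ⟨G, hq, hft, ι, fun U => (TopCat.Presheaf.app_injective_iff_stalkFunctor_map_injective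
      (F := (⟨G.presheaf, G.isSheaf⟩ : TopCat.Sheaf Ab.{u} Y)) (G := ((Scheme.Modules.pushforward q).obj L).presheaf)
      ((Scheme.Modules.toPresheaf Y).map ι)).mp ((Groth.QCohMod.mono_iff_stalk ι).mp hmono) U, _, _, hj, w, hw, fun x => ?_,
    fun P p chart hP r hr => Groth.RelVA.domQ_top_and_isImmersion hjL hPL hj hP _ w hw hepi hL hσ hr⟩
  obtain ⟨U, hU, e, V, hV, hle, hxV, -, hg⟩ :=
    Groth.RelVA.exists_affine_genLoc (Groth.RelVA.compData (Groth.RelVA.canonData q L) ι) hepi x
  refine ⟨U, hU, e, V, hV, hle, hxV, fun a ha => ?_⟩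
  obtain ⟨r, hr⟩ := Groth.RelTw.exists_eq_mul_pow hjL (hU := hV) hg ha
  rw [SetLike.mem_coe, Ideal.mem_span_singleton']
  refine ⟨(𝒮L.str.app (op V)).hom r, ?_⟩
  rw [hr, pow_one]
  exact congrArg ((𝒮L.str.app (op V)).hom r * ·)
    (Groth.RelVA.appLE_jel (Groth.RelVA.compData (Groth.RelVA.canonData q L) ι) w hw U V hle e)

end Groth.Agent.S12688
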