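import Groth.Statements.S12689
import Groth.Agent.RLpsi.SymSub
import Groth.Agent.Ega2Proj2.Glue
import Groth.Agent.Ega2Proj2.QMapLocal
open Groth.RLpsi

set_option autoImplicit false
universe u
open CategoryTheory CategoryTheory.Limits AlgebraicGeometry TopologicalSpace Opposite
open scoped HomogeneousIdeal
noncomputable section
open EGA2

namespace Groth.Agent.S12689

/-- Let Y be a scheme which is either quasi-compact and separated or has Noetherian underlying space, q
: X → Y a morphism of finite type, L an invertible O_X-module with graded symmetric algebra 𝒮L =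
⊕_{n≥0} L^{⊗n} (whose relative Proj PL, given with its charts, is identified with X by its structure
morphism), F a quasi-coherent O_Y-module with graded symmetric algebra 𝒯 = Sym(F) (structure map jF)
and projective bundle P = P(F) = Proj(𝒯) → Y given with its charts, u : 𝒯 → q_*𝒮L a graded
q-morphism — adjoint to Sym(φ) for the homomorphism φ : q^*F → L it determines in degree one — with
φ surjective (every point of X has an affine neighbourhood V over which the image of a single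
section of F generates L), and r = r_{L,φ} : G(φ) → P the induced morphism on its open of definition
G(φ) ⊆ PL (which is all of PL, φ being surjective). Then r is an immersion if and only if there are
a quasi-coherent O_Y-module E of finite type with an injective map ι : E → F, its graded symmetric
algebra 𝒯' = Sym(E) (structure map jE) and the graded q-morphism u' : 𝒯' → q_*𝒮L obtained from u
through Sym(ι), such that the corresponding φ' : q^*E → L is surjective (in the same stalkwise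
sense) and, for the projective bundle P(E) = Proj(𝒯') → Y (with its charts) and the induced r' =
r_{L,φ'} : G(φ') → P(E), r' is everywhere defined and an immersion. -/
theorem result {X Y P PL : Scheme.{u}}
    (hYs : (CompactSpace Y ∧ Y.IsSeparated) ∨ NoetherianSpace Y) (q : X ⟶ Y) [QuasiCompact q] [LocallyOfFiniteType q]
    (L : X.Modules) (hL : PicF.IsInvertible L) (hLq : Coh.IsQCoh L)
    (𝒮L : RelProj.QCGrAlg X) (jL : L ⟶ 𝒮L.toModule) (hjL : RelProj.IsGrSymAlg L 𝒮L jL)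
    (pL : PL ⟶ X) (chartL : ∀ (U : X.Opens) (hU : IsAffineOpen U), (((pL ⁻¹ᵁ U : PL.Opens) : Scheme.{u}) ≅ Proj (𝒮L.deg U hU)))
    (hPL : RelProj.IsRelProj 𝒮L pL chartL)
    (F : Y.Modules) (hFq : Coh.IsQCoh F) (𝒯 : RelProj.QCGrAlg Y) (jF : F ⟶ 𝒯.toModule) (h𝒯 : RelProj.IsGrSymAlg F 𝒯 jF)
    (u : RelProj.QGrHom q 𝒯 𝒮L)
    (hsurj : ∀ x : X, ∃ (U : Y.Opens) (hU : IsAffineOpen U) (e : Γ(F, U)) (V : X.Opens) (hV : IsAffineOpen V)
        (hVU : V ≤ q ⁻¹ᵁ U), x ∈ V ∧
          ((𝒮L.deg V hV 1 : AddSubgroup (𝒮L.presheaf.obj (op V))) : Set (𝒮L.presheaf.obj (op V))) ⊆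
              (Ideal.span {(u.appLE U V hVU).hom ((jF.app U) e)} : Set (𝒮L.presheaf.obj (op V))))
    (p : P ⟶ Y) (chart : ∀ (U : Y.Opens) (hU : IsAffineOpen U), (((p ⁻¹ᵁ U : P.Opens) : Scheme.{u}) ≅ Proj (𝒯.deg U hU)))
    (hP : RelProj.IsRelProj 𝒯 p chart)
    (r : ((RelProj.domQ u pL chartL : PL.Opens) : Scheme.{u}) ⟶ P)
    (hr : RelProj.IsProjQMapOn u p chart pL chartL (RelProj.domQ u pL chartL) r) :
    IsImmersion r ↔
      ∃ (E : Y.Modules) (_ : Coh.IsQCoh E) (_ : CohB1.IsFT E) (ι : E ⟶ F) (_ : ∀ U : Y.Opens, Function.Injective (ι.app U))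
        (𝒯' : RelProj.QCGrAlg Y) (jE : E ⟶ 𝒯'.toModule) (_ : RelProj.IsGrSymAlg E 𝒯' jE)
        (u' : RelProj.QGrHom q 𝒯' 𝒮L)
        (_ : ∀ (U : Y.Opens) (x : Γ(E, U)), (u'.app U).hom ((jE.app U) x) = (u.app U).hom ((jF.app U) ((ι.app U) x))),
        (∀ x : X, ∃ (U : Y.Opens) (hU : IsAffineOpen U) (e : Γ(E, U)) (V : X.Opens) (hV : IsAffineOpen V)
            (hVU : V ≤ q ⁻¹ᵁ U), x ∈ V ∧
              ((𝒮L.deg V hV 1 : AddSubgroup (𝒮L.presheaf.obj (op V))) : Set (𝒮L.presheaf.obj (op V))) ⊆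
              (Ideal.span {(u'.appLE U V hVU).hom ((jE.app U) e)} : Set (𝒮L.presheaf.obj (op V)))) ∧
        ∀ (P' : Scheme.{u}) (p' : P' ⟶ Y)
            (chart' : ∀ (U : Y.Opens) (hU : IsAffineOpen U), (((p' ⁻¹ᵁ U : P'.Opens) : Scheme.{u}) ≅ Proj (𝒯'.deg U hU)))
            (_ : RelProj.IsRelProj 𝒯' p' chart')
            (r' : ((RelProj.domQ u' pL chartL : PL.Opens) : Scheme.{u}) ⟶ P')
            (_ : RelProj.IsProjQMapOn u' p' chart' pL chartL (RelProj.domQ u' pL chartL) r'),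
          RelProj.domQ u' pL chartL = ⊤ ∧ IsImmersion r' := by
  have : L.IsQuasicoherent := hLq
  have : F.IsQuasicoherent := hFq
  obtain ⟨hYc, hYq⟩ := Groth.RelVA.qcqs_of_hyp hYs
  obtain ⟨φ, hφ⟩ := exists_symLinData hjL hL h𝒯 u
  have hsm : ∀ {V : X.Opens} (a : Γ(X, V)) (g : Γ(L, V)),
      Groth.RelTw.jel 𝒮L jL V (a • g) = sc 𝒮L V a * Groth.RelTw.jel 𝒮L jL V g := fun a g => jL.app_smul a g
  have hepi : ∀ z : X, ∃ (U : Y.Opens) (_ : IsAffineOpen U) (e : Γ(F, U)), z ∈ (homData φ).genLoc U e := by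
    intro z
    obtain ⟨U, hU, e, V, hV, hVU, hzV, hsub⟩ := hsurj z
    obtain ⟨W, hW, g, hzW, hWV, hg⟩ := exists_triv (L := L) hL hzV
    have hN : W ≤ nvU u U 1 (Groth.RelTw.jel 𝒯 jF U e) := fun w hw => Opens.mem_iSup.2 ⟨⟨⟨V, hV⟩, hVU, hsub⟩, hWV hw⟩
    obtain ⟨a, hau, ha⟩ := exists_unit_coeff hjL hW hg hN (rs_mem_deg u (h𝒯.2 U hU e) W hW _)
    refine ⟨U, hU, e, (homData φ).le_genLoc (hWV.trans hVU) ?_ hzW⟩
    rw [show Groth.PicAux.res L (hWV.trans hVU) ((homData φ).app U e) = a • g from jel_inj hjL hL (by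
      refine (rs_jel _ _).symm.trans ((congrArg (rs 𝒮L (hWV.trans hVU)) (hφ U e).symm).trans ?_)
      rw [hsm, ha, pow_one])]
    exact hg.smul_unit hau
  constructor
  · intro himm
    have htop := Groth.RelVA.domQ_eq_top hjL hPL h𝒯 (homData φ) u hφ hepi
    have := Groth.RelTw.isIso_p hjL hPL hL
    have : IsIso (RelProj.domQ u pL chartL).ι := Groth.Ega2P2.isIso_opens_ι htop
    have : IsSeparated q := by
      have := Groth.RelVA.isSeparated_relProj (p := p) chart
      have e : q = inv ((RelProj.domQ u pL chartL).ι ≫ pL) ≫ r ≫ p := by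
        rw [Groth.Ega2P2.projQMapOn_comp u hP hPL r hr, IsIso.eq_inv_comp, Category.assoc]
      rw [e]
      infer_instance
    have : CompactSpace X := QuasiCompact.compactSpace_of_compactSpace q
    have hO1 := Groth.RelTw.isRelTwist_relTwist hP 1
    obtain ⟨φ₁, hφ₁⟩ := Groth.RelTw.exists_phi h𝒯 hP hO1
    let B : Groth.RelVA.Bdl F := ⟨𝒯, jF, h𝒯, P, p, chart, hP, _, _, hO1, φ₁, hφ₁⟩
    obtain ⟨r₀, h₀⟩ := Groth.RelTw.exists_fits (hj := h𝒯) (hP := hP) (hO1 := hO1) (hφ := hφ₁) (homData φ) hepi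
    have hr₀ : r = (RelProj.domQ u pL chartL).ι ≫ pL ≫ r₀ :=
      Groth.RelVA.projQMapOn_eq_fits hjL hPL h𝒯 hP (homData φ) u hφ hepi hL h₀ hr
    have : IsImmersion r₀ := by
      have e : r₀ = inv pL ≫ inv (RelProj.domQ u pL chartL).ι ≫ r := by
        rw [IsIso.eq_inv_comp, IsIso.eq_inv_comp, hr₀]
      rw [e]
      infer_instance
    have hσ : Groth.RelVA.IsEmb (homData φ) := fun z => by
      obtain ⟨U, hU, hzU, -⟩ := exists_isAffineOpen_mem_and_subset (x := q z) (U := (⊤ : Y.Opens)) trivial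
      obtain ⟨e, he⟩ := Groth.RelVA.exists_genLoc_of_fits (B := B) h₀ U hU hzU
      exact ⟨U, hU, e, he, Groth.RelVA.imm_of_immersion (B := B) h₀ U hU e⟩
    obtain ⟨G, ι, hmono, hq, hft, hσ'⟩ := Groth.RelVA.exists_ft_isEmb hL (homData φ) hσ
    have := hq
    have hjG := Groth.SymAlg.isGrSymAlg_symGr G
    obtain ⟨w, hw⟩ := Groth.RelVA.exists_qGrHom jL hjL.2 hjG (ι ≫ φ)
    have hinj : ∀ U : Y.Opens, Function.Injective (ι.app U) := fun U =>
      (TopCat.Presheaf.app_injective_iff_stalkFunctor_map_injective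
        (F := (⟨G.presheaf, G.isSheaf⟩ : TopCat.Sheaf Ab.{u} Y)) (G := F.presheaf)
        ((Scheme.Modules.toPresheaf Y).map ι)).mp ((Groth.QCohMod.mono_iff_stalk ι).mp hmono) U
    have hw' : ∀ (U : Y.Opens) (x : Γ(G, U)), (w.app U).hom (Groth.RelTw.jel _ _ U x) =
        Groth.RelTw.jel 𝒮L jL (q ⁻¹ᵁ U) ((Groth.RelVA.compData (homData φ) ι).app U x) := hw
    have hepi' := Groth.RelVA.IsEmb.hepi _ hσ'
    refine ⟨G, hq, hft, ι, hinj, _, _, hjG, w, fun U x => ?_, fun x => ?_, fun P' p' chart' hP' r' hr' =>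
      Groth.RelVA.domQ_top_and_isImmersion hjL hPL hjG hP' _ w hw' hepi' hL hσ' hr'⟩
    · exact (hw U x).trans (hφ U (ι.app U x)).symm
    · obtain ⟨U, hU, e, V, hV, hle, hxV, -, hg⟩ :=
        Groth.RelVA.exists_affine_genLoc (Groth.RelVA.compData (homData φ) ι) hepi' x
      refine ⟨U, hU, e, V, hV, hle, hxV, genDeg_of_isUnit hjL hV hg (c := 1) isUnit_one ?_⟩
      rw [map_one, one_mul, pow_one]
      exact Groth.RelVA.appLE_jel (Groth.RelVA.compData (homData φ) ι) w hw' U V hle e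
  · rintro ⟨E, hEq, -, ι, -, 𝒯', jE, hjE, u', hu', -, hall⟩
    have : E.IsQuasicoherent := hEq
    obtain ⟨P', p', chart', hP'⟩ : ∃ (P' : Scheme.{u}) (p' : P' ⟶ Y)
        (chart' : ∀ (U : Y.Opens) (hU : IsAffineOpen U), (((p' ⁻¹ᵁ U : P'.Opens) : Scheme.{u}) ≅ Proj (𝒯'.deg U hU))),
        RelProj.IsRelProj 𝒯' p' chart' := Groth.Ega2P2.exists_isRelProj 𝒯'
    obtain ⟨r', hr', -⟩ := Groth.Ega2P2.existsUnique_projQMapOn u' hP' hPL
    obtain ⟨htop', himm'⟩ := hall P' p' chart' hP' r' hr'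
    obtain ⟨v, hv, -⟩ := hjE.1 𝒯.toQCAlg (ι ≫ jF)
    have hv' : ∀ (U : Y.Opens) (x : Γ(E, U)), (v.hom.app (op U)).hom ((jE.app U) x) = jF.app U (ι.app U x) :=
      fun U x => congr(Scheme.Modules.Hom.app $hv U x)
    have hvg := isGradedHom_of_deg_one hjE v fun U hU x => (hv' U x).symm ▸ h𝒯.2 U hU (ι.app U x)
    let w : RelSpec.QHom q 𝒯'.toQCAlg 𝒮L.toQCAlg :=
      { app := fun U => v.hom.app (op U) ≫ u.app U
        naturality := fun {U V} i => by
          rw [Category.assoc, u.toQHom.naturality i, ← Category.assoc, ← v.hom.naturality, Category.assoc]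
        str_app := fun U => by
          rw [← Category.assoc, ← NatTrans.comp_app, v.comm]
          exact u.toQHom.str_app U }
    have hcomp : ∀ U : Y.Opens, u'.app U = v.hom.app (op U) ≫ u.app U := fun U =>
      qHom_ext hjE u'.toQHom w (fun U x => (hu' U x).trans (congrArg (u.app U).hom (hv' U x).symm)) U
    exact (top_and_isImmersion_comp hjL hL hPL hP u hr hP' hr' hvg hcomp htop').2

end Groth.Agent.S12689
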