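import Groth.Statements.S1269
import Groth.Agent.RaynaudGruson.ProjectiveOpen
import Groth.Agent.RaynaudGruson.LocalStructureFT
import Groth.Agent.S0585
import Groth.Agent.S0582

set_option autoImplicit false
universe u
open FlatMor

namespace Groth.Agent.S1269

open AlgebraicGeometry CategoryTheory TensorProduct in
/-- Ring form, X = Spec S and S = Spec R affine: let S be a finite type R-algebra, N a finite S-module
and q a prime of S over p with N_q flat over R. Then there is an étale R-algebra R' with a prime p'
over p having the same residue field such that, writing A for the local ring of R' at p' and S_A,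
N_A for the base changes (any models), there is an S_A-algebra C with Spec C → Spec S_A an open
immersion (an affine open U'), containing a point lying over q and over the maximal ideal of A, such
that C ⊗_{S_A} N_A is a free A-module. -/
theorem result {R S : Type u} [CommRing R] [CommRing S] [Algebra R S] [Algebra.FiniteType R S]
    (N : Type u) [AddCommGroup N] [Module S N] [Module R N] [IsScalarTower R S N] [Module.Finite S N]
    (p : Ideal R) [p.IsPrime] (q : Ideal S) [q.IsPrime] [q.LiesOver p] (hflat : FlatCA.FlatAt R q N) :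
    ∃ (R' : Type u) (_ : CommRing R') (_ : Algebra R R') (p' : Ideal R') (_ : p'.IsPrime), FlatCA.IsEtaleNhd R R' p p' ∧
      ∀ (SA NA : Type u) [CommRing SA] [Algebra R SA] [Algebra S SA] [Algebra (Localization.AtPrime p') SA]
        [IsScalarTower R S SA] [IsScalarTower R (Localization.AtPrime p') SA]
        [Algebra.IsPushout R S (Localization.AtPrime p') SA]
        [AddCommGroup NA] [Module SA NA] [Module S NA] [IsScalarTower S SA NA]
        (f : N →ₗ[S] NA), IsBaseChange SA f →
        ∃ (C : Type u) (_ : CommRing C) (_ : Algebra SA C) (_ : Algebra (Localization.AtPrime p') C)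
          (_ : IsScalarTower (Localization.AtPrime p') SA C) (x' : Ideal C) (_ : x'.IsPrime),
          IsOpenImmersion (Spec.map (CommRingCat.ofHom (algebraMap SA C))) ∧
          (x'.comap (algebraMap SA C)).LiesOver q ∧
          (x'.comap (algebraMap SA C)).LiesOver (IsLocalRing.maximalIdeal (Localization.AtPrime p')) ∧
          Module.Free (Localization.AtPrime p') (RestrictScalars (Localization.AtPrime p') C (C ⊗[SA] NA)) := by
  classical
  obtain ⟨n, π, hπ⟩ := Algebra.FiniteType.iff_quotient_mvPolynomial''.1 (inferInstance : Algebra.FiniteType R S)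
  obtain ⟨P, _, _, _, _, _, hPS⟩ : ∃ (P : Type u) (_ : CommRing P) (_ : Algebra R P) (_ : Algebra.FinitePresentation R P)
      (_ : Algebra P S) (_ : IsScalarTower R P S), Function.Surjective (algebraMap P S) :=
    letI : Algebra (MvPolynomial (Fin n) R) S := π.toRingHom.toAlgebra
    ⟨MvPolynomial (Fin n) R, inferInstance, inferInstance, inferInstance, π.toRingHom.toAlgebra,
      .of_algebraMap_eq fun r => (π.commutes r).symm, hπ⟩
  letI : Module P N := Module.compHom N (algebraMap P S)
  haveI : IsScalarTower P S N := IsScalarTower.of_algebraMap_smul fun _ _ => rfl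
  haveI : IsScalarTower R P N := IsScalarTower.of_algebraMap_smul fun r m => by
    show algebraMap P S (algebraMap R P r) • m = r • m
    rw [← IsScalarTower.algebraMap_apply, algebraMap_smul]
  haveI : Module.Finite P S := Module.Finite.of_surjective (Algebra.linearMap P S) hPS
  haveI : Module.Finite P N := Module.Finite.trans S N
  let qP := q.comap (algebraMap P S)
  haveI hqqP : q.LiesOver qP := ⟨rfl⟩
  haveI : qP.LiesOver p := ⟨by
    show p = (q.comap (algebraMap P S)).comap (algebraMap R P)
    rw [Ideal.comap_comap, ← IsScalarTower.algebraMap_eq]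
    exact Ideal.LiesOver.over (P := q) (p := p)⟩
  have hflatP : FlatCA.FlatAt R qP N :=
    (Groth.RaynaudGruson.FlatPred.flatAt_iff qP).mpr
      (((Groth.RaynaudGruson.FlatPred.flatAt_iff q).mp hflat).of_dvd fun u hu => by
        obtain ⟨w, rfl⟩ := hPS u
        exact ⟨w, 1, hu, fun m => by rw [one_smul, algebraMap_smul]⟩)
  obtain ⟨R', _, _, p', _, hR, hmod⟩ := Groth.RaynaudGruson.LocalStructure.exists_nbhd_free N p qP hflatP
  refine ⟨R', inferInstance, inferInstance, p', inferInstance, hR, ?_⟩
  intro SA NA _ _ _ _ _ _ _ _ _ _ _ f hf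
  let A := Localization.AtPrime p'
  obtain ⟨SP, _, _, _, _, _, _, hpush⟩ := Groth.RaynaudGruson.EtalePushout.exists_pushout R P A
  haveI := hpush
  haveI hpush' : Algebra.IsPushout R P A SP := Algebra.IsPushout.symm hpush
  letI : Algebra P SA := ((algebraMap S SA).comp (algebraMap P S)).toAlgebra
  haveI : IsScalarTower P S SA := .of_algebraMap_eq' rfl
  haveI : IsScalarTower R P SA := .of_algebraMap_eq fun r => by
    show algebraMap R SA r = algebraMap S SA (algebraMap P S (algebraMap R P r))
    rw [← IsScalarTower.algebraMap_apply R P S, ← IsScalarTower.algebraMap_apply]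
  let σ : SP →ₐ[R] SA := Algebra.pushoutDesc SP (IsScalarTower.toAlgHom R P SA) (IsScalarTower.toAlgHom R A SA)
    fun _ _ => Commute.all _ _
  letI : Algebra SP SA := σ.toRingHom.toAlgebra
  haveI : IsScalarTower P SP SA := .of_algebraMap_eq fun x =>
    (Algebra.pushoutDesc_left SP (IsScalarTower.toAlgHom R P SA) (IsScalarTower.toAlgHom R A SA) _ x).symm
  haveI : IsScalarTower A SP SA := .of_algebraMap_eq fun a =>
    (Algebra.pushoutDesc_right SP (IsScalarTower.toAlgHom R P SA) (IsScalarTower.toAlgHom R A SA) _ a).symm
  haveI : IsScalarTower R SP SA := .of_algebraMap_eq fun r => (σ.commutes r).symm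
  haveI hpushS : Algebra.IsPushout P SP S SA := by
    have h2 : Algebra.IsPushout R S A SA := inferInstance
    exact Algebra.IsPushout.symm ((Algebra.IsPushout.comp_iff (R := R) (S := P) (R' := A) (S' := SP) (T := S)
      (T' := SA)).mp h2)
  letI : Module SP NA := Module.compHom NA (algebraMap SP SA)
  haveI : IsScalarTower SP SA NA := IsScalarTower.of_algebraMap_smul fun _ _ => rfl
  letI : Module P NA := Module.compHom NA (algebraMap P SA)
  haveI : IsScalarTower P SA NA := IsScalarTower.of_algebraMap_smul fun _ _ => rfl
  haveI : IsScalarTower P SP NA := IsScalarTower.of_algebraMap_smul fun r m => by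
    rw [← algebraMap_smul SA (algebraMap P SP r) m, ← IsScalarTower.algebraMap_apply, algebraMap_smul]
  haveI : IsScalarTower P S NA := IsScalarTower.of_algebraMap_smul fun r m => by
    rw [← algebraMap_smul SA (algebraMap P S r) m, ← IsScalarTower.algebraMap_apply, algebraMap_smul]
  have hfP : IsBaseChange SP (f.restrictScalars P) := by
    refine IsBaseChange.of_equiv ((Algebra.IsPushout.cancelBaseChange P SP S SA N).symm.trans
      (hf.equiv.restrictScalars SP)) fun m => ?_
    show hf.equiv ((Algebra.IsPushout.cancelBaseChange P SP S SA N).symm ((1 : SP) ⊗ₜ[P] m)) = f m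
    rw [Algebra.IsPushout.cancelBaseChange_symm_tmul, map_one, hf.equiv_tmul, one_smul]
  obtain ⟨CP, _, _, _, _, _, _, xP, _, hxP, hetP, -, hxPm, -, hfp, hfree⟩ := hmod SP NA (f.restrictScalars P) hfP
  haveI := hxP; haveI := hetP; haveI := hxPm; haveI := hfp; haveI := hfree
  haveI : Algebra.FinitePresentation A SP := Algebra.FinitePresentation.equiv (Algebra.IsPushout.equiv R A P SP)
  haveI : Module.Finite SP NA := Module.Finite.equiv hfP.equiv
  letI : Module A NA := Module.compHom NA (algebraMap A SP)
  haveI : IsScalarTower A SP NA := IsScalarTower.of_algebraMap_smul fun _ _ => rfl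
  haveI : Module.Projective A (RestrictScalars A CP (CP ⊗[SP] NA)) := Module.Projective.of_free
  let m := IsLocalRing.maximalIdeal A
  obtain ⟨g, hg, R₂, _, _, r, _, hnhd, hP⟩ :=
    Groth.RaynaudGruson.ProjectiveOpen.exists_projective_open (R := A) (S := SP) (S₁ := CP) NA m xP
  haveI := hnhd.1; haveI := hnhd.2.1; haveI := hP
  let M := LocalizedModule (Submonoid.powers g) NA
  -- projectivity descends to the local ring
  let L := Localization.AtPrime r
  haveI : IsScalarTower A R₂ L := .of_algebraMap_eq' rfl
  haveI : Module.Flat R₂ L := IsLocalization.flat _ r.primeCompl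
  haveI : Module.Flat A L := Module.Flat.trans A R₂ L
  haveI : IsLocalHom (algebraMap A L) := ⟨fun a ha => by
    by_contra hna
    have h1 : algebraMap A R₂ a ∈ r := (Ideal.mem_of_liesOver r m a).mp ((IsLocalRing.mem_maximalIdeal a).mpr hna)
    rw [IsScalarTower.algebraMap_apply A R₂ L] at ha
    exact (IsLocalization.AtPrime.isUnit_to_map_iff L r _).mp ha h1⟩
  haveI : Module.FaithfullyFlat A L := Module.FaithfullyFlat.of_flat_of_isLocalHom
  haveI : Module.Projective L (L ⊗[A] M) :=
    Module.Projective.of_equiv (AlgebraTensorModule.cancelBaseChange A R₂ L L M)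
  haveI : Module.Projective A M := Groth.Agent.S0585.result A L M
  haveI : Module.Free A M := Groth.Agent.S0582.result A M
  -- the open of `SA`
  let C := Localization (Submonoid.powers g)
  obtain ⟨C₂, _, _, _, _, _, _, hC₂⟩ := Groth.RaynaudGruson.EtalePushout.exists_pushout SP C SA
  haveI := hC₂
  haveI hC₂' : Algebra.IsPushout SP C SA C₂ := Algebra.IsPushout.symm hC₂
  letI : Algebra A C₂ := ((algebraMap SA C₂).comp (algebraMap A SA)).toAlgebra
  haveI : IsScalarTower A SA C₂ := .of_algebraMap_eq' rfl
  haveI : IsLocalization (Algebra.algebraMapSubmonoid SA (Submonoid.powers g)) C₂ :=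
    (Algebra.isLocalization_iff_isPushout (R := SP) (A := C) (Submonoid.powers g)).mpr inferInstance
  haveI : IsLocalization.Away (algebraMap SP SA g) C₂ :=
    show IsLocalization (Submonoid.powers (algebraMap SP SA g)) C₂ by
      rw [← Algebra.algebraMapSubmonoid_powers (S := SA) g]
      infer_instance
  -- the point
  let x₀ := xP.comap (algebraMap SP CP)
  have hx₀P : x₀.comap (algebraMap P SP) = qP := by
    rw [Ideal.comap_comap, ← IsScalarTower.algebraMap_eq]
    exact hxP.over.symm
  haveI : Algebra.IsPushout P S SP SA := Algebra.IsPushout.symm hpushS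
  obtain ⟨Q, _, hQS, hQx⟩ := Groth.FlatmorThree.exists_prime_over_both (R := P) (S := S) (R' := SP) (S' := SA) q x₀ hx₀P
  have hgQ : algebraMap SP SA g ∉ Q := fun h => hg (hQx.le (show g ∈ Q.comap (algebraMap SP SA) from h))
  have hd : Disjoint (Submonoid.powers (algebraMap SP SA g) : Set SA) (Q : Set SA) :=
    (Ideal.disjoint_powers_iff_notMem _ (Ideal.IsPrime.isRadical inferInstance)).2 hgQ
  let x' := Q.map (algebraMap SA C₂)
  haveI : x'.IsPrime := IsLocalization.isPrime_of_isPrime_disjoint (Submonoid.powers (algebraMap SP SA g)) C₂ Q inferInstance hd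
  have hx' : x'.comap (algebraMap SA C₂) = Q :=
    IsLocalization.comap_map_of_isPrime_disjoint (Submonoid.powers (algebraMap SP SA g)) C₂ inferInstance hd
  refine ⟨C₂, inferInstance, inferInstance, inferInstance, inferInstance, x', inferInstance,
    IsOpenImmersion.of_isLocalization (algebraMap SP SA g), ⟨?_⟩, ⟨?_⟩, ?_⟩
  · show q = (x'.comap (algebraMap SA C₂)).comap (algebraMap S SA)
    rw [hx', hQS]
  · show m = (x'.comap (algebraMap SA C₂)).comap (algebraMap A SA)
    rw [hx', IsScalarTower.algebraMap_eq A SP SA, ← Ideal.comap_comap, hQx, Ideal.comap_comap,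
      ← IsScalarTower.algebraMap_eq]
    exact hxPm.over
  · haveI : IsScalarTower A C C₂ := .of_algebraMap_eq fun a => by
      show algebraMap SA C₂ (algebraMap A SA a) = _
      rw [IsScalarTower.algebraMap_apply A SP SA, ← IsScalarTower.algebraMap_apply SP SA C₂,
        IsScalarTower.algebraMap_apply A SP C, ← IsScalarTower.algebraMap_apply SP C C₂]
    haveI : IsScalarTower A C M := IsScalarTower.of_algebraMap_smul fun a x => by
      rw [IsScalarTower.algebraMap_apply A SP C, algebraMap_smul, algebraMap_smul]
    let E : C₂ ⊗[SA] NA ≃ₗ[C] M :=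
      (Algebra.IsPushout.cancelBaseChange SP C SA C₂ NA).trans (IsLocalizedModule.isBaseChange (Submonoid.powers g) C
        (LocalizedModule.mkLinearMap (Submonoid.powers g) NA)).equiv
    exact Module.Free.of_equiv
      (AddEquiv.toLinearEquiv (E.symm.toAddEquiv.trans (RestrictScalars.addEquiv A C₂ _).symm) fun a z => by
        refine (RestrictScalars.addEquiv A C₂ (C₂ ⊗[SA] NA)).injective ?_
        rw [RestrictScalars.addEquiv_map_smul, AddEquiv.trans_apply, AddEquiv.apply_symm_apply, AddEquiv.trans_apply,
          AddEquiv.apply_symm_apply]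
        show E.symm (a • z) = algebraMap A C₂ a • E.symm z
        rw [← algebraMap_smul C a z, map_smul, IsScalarTower.algebraMap_apply A C C₂]
        exact (algebraMap_smul C₂ (algebraMap A C a) _).symm :
        M ≃ₗ[A] RestrictScalars A C₂ (C₂ ⊗[SA] NA))

end Groth.Agent.S1269
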