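import Groth.Statements.S12691
import Groth.Agent.RLpsi.GenOne
open Groth.RLpsi

set_option autoImplicit false
universe u
open CategoryTheory CategoryTheory.Limits AlgebraicGeometry TopologicalSpace Opposite
open scoped HomogeneousIdeal
noncomputable section
open Mor

namespace Groth.Agent.S12691

/-- Let f : X → Y be a quasi-compact morphism, L an invertible O_X-module with graded symmetric algebra
𝒮L = ⊕_{n≥0} L^{⊗n} (whose relative Proj PL, given with its charts, is identified with X by its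
structure morphism), 𝒜 a quasi-coherent graded O_Y-algebra generated in degree one over O_Y (its
degree-zero part is the image of O_Y and degrees zero and one generate it), u : 𝒜 → f_*𝒮L a graded
f-morphism (adjoint to a homomorphism of graded algebras ψ : f^*𝒜 → ⊕ L^{⊗n}) whose degree-one part
f^*𝒜_1 → L is surjective — every point of X has an affine neighbourhood V over which the image of a
single degree-one section of 𝒜 generates L — P = Proj(𝒜) → Y with its charts, and r = r_{L,ψ} : U(ψ)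
→ P the induced morphism on its open of definition U(ψ) ⊆ PL. If r is an immersion, then L is very
ample relative to f (isomorphic to the inverse image of O(1) along a Y-immersion into the projective
bundle of a quasi-coherent O_Y-module). -/
theorem result {X Y P PL : Scheme.{u}} (f : X ⟶ Y) [QuasiCompact f]
    (L : X.Modules) (hL : PicF.IsInvertible L) (hLq : Coh.IsQCoh L)
    (𝒮L : RelProj.QCGrAlg X) (jL : L ⟶ 𝒮L.toModule) (hjL : RelProj.IsGrSymAlg L 𝒮L jL)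
    (pL : PL ⟶ X) (chartL : ∀ (U : X.Opens) (hU : IsAffineOpen U), (((pL ⁻¹ᵁ U : PL.Opens) : Scheme.{u}) ≅ Proj (𝒮L.deg U hU)))
    (hPL : RelProj.IsRelProj 𝒮L pL chartL)
    (𝒜 : RelProj.QCGrAlg Y) (h1 : 𝒜.IsGenDegOne)
    (h0 : ∀ (U : Y.Opens) (hU : IsAffineOpen U),
      ((𝒜.deg U hU 0 : AddSubgroup (𝒜.presheaf.obj (op U))) : Set (𝒜.presheaf.obj (op U))) = Set.range (𝒜.str.app (op U)).hom)
    (u : RelProj.QGrHom f 𝒜 𝒮L)
    (hsurj : ∀ x : X, ∃ (U : Y.Opens) (hU : IsAffineOpen U) (e : 𝒜.presheaf.obj (op U)) (_ : e ∈ 𝒜.deg U hU 1)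
        (V : X.Opens) (hV : IsAffineOpen V) (hVU : V ≤ f ⁻¹ᵁ U), x ∈ V ∧
          ((𝒮L.deg V hV 1 : AddSubgroup (𝒮L.presheaf.obj (op V))) : Set (𝒮L.presheaf.obj (op V))) ⊆
            (Ideal.span {(u.appLE U V hVU).hom e} : Set (𝒮L.presheaf.obj (op V))))
    (p : P ⟶ Y) (chart : ∀ (U : Y.Opens) (hU : IsAffineOpen U), (((p ⁻¹ᵁ U : P.Opens) : Scheme.{u}) ≅ Proj (𝒜.deg U hU)))
    (hP : RelProj.IsRelProj 𝒜 p chart)
    (r : ((RelProj.domQ u pL chartL : PL.Opens) : Scheme.{u}) ⟶ P)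
    (hr : RelProj.IsProjQMapOn u p chart pL chartL (RelProj.domQ u pL chartL) r)
    (himm : IsImmersion r) :
    RelProj.IsRelVeryAmple f L := by
  have : L.IsQuasicoherent := hLq
  have : 𝒜.toModule.IsQuasicoherent := Groth.QCohMod.isQCoh_toModule 𝒜.toQCAlg
  obtain ⟨σ, hσ⟩ := exists_linData hjL hL u
  have htop : RelProj.domQ u pL chartL = ⊤ := mem_domQ_of_forall hjL hL hPL u fun x => by
    obtain ⟨U, hU, e, he, V, hV, hVU, hxV, hsub⟩ := hsurj x
    exact ⟨U, hU, 1, e, one_pos, he, Opens.mem_iSup.2 ⟨⟨⟨V, hV⟩, hVU, hsub⟩, hxV⟩⟩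
  refine Groth.RelVA.isRelVeryAmple_of_isEmb (σ := σ) fun z => ?_
  have := Groth.RelTw.isIso_p hjL hPL hL
  let z' : ((RelProj.domQ u pL chartL : PL.Opens) : Scheme.{u}) := ⟨(inv pL).base z, htop ▸ trivial⟩
  have hz' : (π u pL chartL).base z' = z := by
    change (inv pL ≫ pL).base z = z
    rw [IsIso.inv_hom_id]; rfl
  obtain ⟨U, hU, hzU, -⟩ := exists_isAffineOpen_mem_and_subset (x := p.base (r.base z')) (U := (⊤ : Y.Opens)) trivial
  obtain ⟨y, hy⟩ : ∃ y : Proj (𝒜.deg U hU), (RelProj.emb p chart U hU).base y = r.base z' :=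
    (Groth.Ega2P2.projCharts hP).mem_range hU hzU
  obtain ⟨c₀, hc₀, hc₀y⟩ := Groth.RelTw.exists_frac_cover (Groth.RelTw.irrelevant_le_span_one h1 U hU) y
  have hzN : z ∈ nvU u U 1 c₀ := hz' ▸ (mem_dp_iff hjL hL hPL hP u hr one_pos hc₀ z').1 ⟨y, hc₀y, hy⟩
  have hjs : ∀ {c} (hc : c ∈ 𝒜.deg U hU 1) {W : X.Opens} (hW : W ≤ f ⁻¹ᵁ U),
      Groth.RelTw.jel 𝒮L jL W (Groth.PicAux.res L hW (σ.app U (Groth.QCohMod.ofB 𝒜.toQCAlg c))) =
        rs 𝒮L hW ((u.app U).hom c) := fun hc W hW => by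
    rw [← rs_jel, hσ U hU, Groth.RelVA.one₁_ofB hU hc]
  let e : Γ(𝒜.toModule, U) := Groth.QCohMod.ofB 𝒜.toQCAlg c₀
  have hsmul : ∀ {V : X.Opens} (a : Γ(X, V)) (g : Γ(L, V)),
      Groth.RelTw.jel 𝒮L jL V (a • g) = sc 𝒮L V a * Groth.RelTw.jel 𝒮L jL V g := fun a g => jL.app_smul a g
  have hG : σ.genLoc U e = nvU u U 1 c₀ := by
    refine le_antisymm (fun w hw => ?_) (σ.le_genLoc (nv_le _ _) ?_)
    · obtain ⟨V, hV, g, hwV, hVG, hg⟩ := exists_triv (L := L) hL hw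
      have hVU : V ≤ f ⁻¹ᵁ U := hVG.trans (σ.genLoc_le U e)
      obtain ⟨a, ha⟩ := Groth.RelTw.exists_coeff_gen hg (Groth.PicAux.res L hVU (σ.app U e))
      have hgV := (σ.gen_genLoc U e).res hVG
      rw [Groth.PicAux.res_res, ← ha] at hgV
      have hau : IsUnit a := hg.isUnit_of_smul hgV
      refine Opens.mem_iSup.2 ⟨⟨⟨V, hV⟩, hVU, genDeg_of_isUnit hjL hV hg hau ?_⟩, hwV⟩
      rw [pow_one, ← hsmul, ha, hjs hc₀]
    · choose V hV g hxV hVN hg using fun x : (nvU u U 1 c₀ : X.Opens) => exists_triv (L := L) hL x.2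
      refine Groth.PicAux.Gen.of_cover V hVN (fun w hw => Opens.mem_iSup.2 ⟨⟨w, hw⟩, hxV ⟨w, hw⟩⟩) fun x => ?_
      rw [Groth.PicAux.res_res]
      obtain ⟨a, hau, ha⟩ := exists_unit_coeff hjL (hV x) (hg x) (hVN x) (rs_mem_deg u hc₀ _ (hV x) _)
      rw [show Groth.PicAux.res L ((hVN x).trans (nv_le _ _)) (σ.app U e) = a • g x from
        jel_inj hjL hL (by rw [hjs hc₀, hsmul, ha, pow_one])]
      exact (hg x).smul_unit hau
  refine ⟨U, hU, e, hG.ge hzN, imm_phi hjL hL hPL hP u hr hc₀ _ hG _ ?_⟩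
  refine away_induction (h1 U hU) hc₀
    ((Groth.RelVA.rGen σ U e).comap ((Groth.PicAux.resX X hG.le).comp (phi hjL hL hPL hP u hr one_pos hc₀)))
    fun c hc => ?_
  refine (congrArg (· ∈ Groth.RelVA.rGen σ U e) ?_).mpr
    (Groth.RelVA.ratio_mem_rGen σ U e (Groth.QCohMod.ofB 𝒜.toQCAlg c))
  refine σ.eq_ratio (jel_inj hjL hL ?_)
  rw [hsmul, hjs hc₀, hjs hc]
  have h2 := congrArg (rs 𝒮L hG.le) (sc_phi_mul hjL hL hPL hP u hr one_pos hc₀ 1 (x := c) (by rwa [smul_eq_mul, mul_one]))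
  rw [map_mul, map_pow, pow_one, rs_sc, rs_rs, rs_rs] at h2
  exact h2

end Groth.Agent.S12691
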