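import Groth.Statements.S12712
import Groth.Agent.ArtfunDeform.ArtBasic
import Mathlib.Dynamics.Newton
import Mathlib.FieldTheory.Separable

set_option autoImplicit false
universe u v
open CategoryTheory
open ArtFun ArtFun.Art

namespace Groth.Agent.S12712

open Groth.ArtfunDeform


/-- If k is separable over the image of Λ → k, then for any two morphisms f₁ : A₁ → A and f₂ : A₂ → A in
the category of Artinian local Λ-algebras with residue field k the set-theoretic fibre product A₁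
×_A A₂ is again an object of the category. -/
theorem result {Λ : Type u} {k : Type u} [CommRing Λ] [Field k] [Algebra Λ k]
    [IsNoetherianRing Λ] [Module.Finite Λ k]
    [Algebra.IsSeparable (↥(algebraMap Λ k).range) k]
    {A A₁ A₂ : ArtFun.Art Λ k} (f₁ : A₁ ⟶ A) (f₂ : A₂ ⟶ A) :
    ∃ (B : ArtFun.Art Λ k) (p₁ : B ⟶ A₁) (p₂ : B ⟶ A₂), ArtFun.Art.IsFibreProd p₁ p₂ f₁ f₂ := by
  refine exists_isFibreProd_of_res f₁ f₂ fun c => ?_
  let k₀ := (algebraMap Λ k).range
  have hint : IsIntegral Λ c := Algebra.IsIntegral.isIntegral c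
  have hint₀ : IsIntegral k₀ c := Algebra.IsSeparable.isIntegral k₀ c
  obtain ⟨P, hP⟩ := Polynomial.map_surjective (algebraMap Λ k).rangeRestrict
    (algebraMap Λ k).rangeRestrict_surjective (minpoly k₀ c)
  have hev : ∀ Q : Polynomial Λ, Polynomial.aeval c Q =
      Polynomial.aeval c (Q.map (algebraMap Λ k).rangeRestrict) := fun Q => by
    rw [Polynomial.aeval_def, Polynomial.aeval_def, Polynomial.eval₂_map]
    rfl
  have h0 : Polynomial.aeval c P = 0 := by rw [hev, hP, minpoly.aeval]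
  have h1 : Polynomial.aeval c (Polynomial.derivative P) ≠ 0 := by
    rw [hev, ← Polynomial.derivative_map, hP]
    exact (Algebra.IsSeparable.isSeparable k₀ c).aeval_derivative_ne_zero (minpoly.aeval _ _)
  have hN : ∀ (C : ArtFun.Art Λ k) (z : C), IsNilpotent z ↔ C.res z = 0 := fun C z =>
    Groth.ArtfunDeform.isNilpotent_iff z
  have key : ∀ (C : ArtFun.Art Λ k) (x : C), C.res x = c →
      ∃! r, IsNilpotent (x - r) ∧ Polynomial.aeval r P = 0 := fun C x hx => by
    refine Polynomial.existsUnique_nilpotent_sub_and_aeval_eq_zero ?_ ?_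
    · rw [hN, ← Polynomial.aeval_algHom_apply, hx, h0]
    · rw [Groth.ArtfunDeform.isUnit_iff, ← Polynomial.aeval_algHom_apply, hx]
      exact h1
  obtain ⟨x₁, hx₁⟩ := A₁.res_surjective c
  obtain ⟨x₂, hx₂⟩ := A₂.res_surjective c
  obtain ⟨r₁, ⟨hr₁, hr₁'⟩, -⟩ := key A₁ x₁ hx₁
  obtain ⟨r₂, ⟨hr₂, hr₂'⟩, -⟩ := key A₂ x₂ hx₂
  rw [hN, map_sub, sub_eq_zero, hx₁] at hr₁
  rw [hN, map_sub, sub_eq_zero, hx₂] at hr₂
  refine ⟨r₁, r₂, ?_, hr₁.symm⟩
  obtain ⟨r, -, hu⟩ := key A (f₁ r₁) (by rw [res_app, ← hr₁])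
  have e₁ := hu (f₁ r₁) ⟨by simp, by rw [Polynomial.aeval_algHom_apply, hr₁', map_zero]⟩
  have e₂ := hu (f₂ r₂) ⟨by rw [hN, map_sub, res_app, res_app, ← hr₁, ← hr₂, sub_self],
    by rw [Polynomial.aeval_algHom_apply, hr₂', map_zero]⟩
  rw [e₁, e₂]

end Groth.Agent.S12712
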