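import Groth.Statements.S12713
import Groth.Agent.ArtfunDeform.ArtBasic

set_option autoImplicit false
universe u v
open CategoryTheory
open ArtFun ArtFun.Art

namespace Groth.Agent.S12713

open Groth.ArtfunDeform


/-- A small extension f : B → A in the category of Artinian local Λ-algebras with residue field k is not
an essential surjection (some morphism g : C → B is non-surjective although the composite C → A is
surjective) if and only if f has a section A → B in the category. -/
theorem result {Λ : Type u} {k : Type u} [CommRing Λ] [Field k] [Algebra Λ k]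
    [IsNoetherianRing Λ] [Module.Finite Λ k]
    {A B : ArtFun.Art Λ k} (f : B ⟶ A) (hf : ArtFun.Art.IsSmallExt f) :
    (∃ (C : ArtFun.Art Λ k) (g : C ⟶ B), Function.Surjective (g ≫ f) ∧ ¬ Function.Surjective g) ↔
      ∃ s : A ⟶ B, s ≫ f = 𝟙 A := by
  obtain ⟨hs, hne, ⟨⟨t, ht⟩⟩, hm⟩ := hf
  have htk : t ∈ RingHom.ker f.toAlgHom := ht ▸ Ideal.mem_span_singleton_self t
  constructor
  · rintro ⟨C, g, hgf, hg⟩
    have hinj : ∀ x : C, f (g x) = 0 → g x = 0 := by
      intro x hx
      by_contra hne'
      refine hg fun b => ?_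
      have hx' : g x ∈ Ideal.span {t} := ht.le (hx : g x ∈ RingHom.ker f.toAlgHom)
      obtain ⟨c, hc⟩ := Ideal.mem_span_singleton'.1 hx'
      have hcu : IsUnit c := by
        by_contra h
        apply hne'
        have h' : c * t ∈ IsLocalRing.maximalIdeal B * RingHom.ker f.toAlgHom :=
          Ideal.mul_mem_mul ((IsLocalRing.mem_maximalIdeal c).2 h) htk
        rw [hm, Ideal.mem_bot] at h'
        rw [← hc, h']
      obtain ⟨a, ha⟩ := hgf (f b)
      have hb : b - g a ∈ Ideal.span {t} := by
        refine ht.le ?_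
        change f.toAlgHom (b - g a) = 0
        rw [map_sub, sub_eq_zero]
        exact ha.symm
      obtain ⟨e, he⟩ := Ideal.mem_span_singleton'.1 hb
      obtain ⟨u, hu⟩ := hcu
      obtain ⟨y, hy⟩ := C.res_surjective (B.res (e * ↑u⁻¹))
      have h1 : (g y - e * ↑u⁻¹) * g x = 0 := by
        have h' : (g y - e * ↑u⁻¹) * g x ∈ IsLocalRing.maximalIdeal B * RingHom.ker f.toAlgHom :=
          Ideal.mul_mem_mul ((B.mem_maximalIdeal_iff _).2 (by rw [map_sub, res_app, hy, sub_self])) hx
        rwa [hm, Ideal.mem_bot] at h'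
      refine ⟨a + y * x, ?_⟩
      rw [map_add, map_mul, sub_mul, sub_eq_zero] at *
      rw [h1, ← hc, ← hu, mul_assoc e, ← mul_assoc (↑u⁻¹ : B), Units.inv_mul, one_mul, he,
        add_sub_cancel]
    let q := quotMk C (RingHom.ker (g ≫ f).toAlgHom) (ker_le_maximalIdeal _)
    let e := quotFactor (ker_le_maximalIdeal (g ≫ f)) (g ≫ f) le_rfl
    let l := quotFactor (ker_le_maximalIdeal (g ≫ f)) g (fun x hx => hinj x hx)
    haveI : IsIso e := isIso_of_bijective e
      ⟨quotFactor_injective _ _ _ le_rfl, quotFactor_surjective _ _ _ hgf⟩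
    refine ⟨inv e ≫ l, ?_⟩
    rw [Category.assoc, IsIso.inv_comp_eq, Category.comp_id]
    apply hom_ext_apply
    intro x
    obtain ⟨a, rfl⟩ := quotMk_surjective _ _ (ker_le_maximalIdeal (g ≫ f)) x
    rfl
  · rintro ⟨s, hs'⟩
    refine ⟨A, s, fun a => ⟨a, ?_⟩, fun hsur => hne ((RingHom.ker_eq_bot_iff_eq_zero _).2 ?_)⟩
    · rw [hs']
      rfl
    · intro x hx
      obtain ⟨a, rfl⟩ := hsur x
      have : (s ≫ f) a = 0 := hx
      rw [hs'] at this
      rw [show a = 0 from this, map_zero]

end Groth.Agent.S12713
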