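import Groth.Statements.S12718
import Groth.Agent.ArtfunDeform.PSIso

set_option autoImplicit false
universe u v
open CategoryTheory
open ArtFun

namespace Groth.Agent.S12718

/-- Let R → S be a morphism of complete local Noetherian Λ-algebras with residue field k. The induced
morphism h_S → h_R of functors on Artinian local Λ-algebras with residue field k (composition with R
→ S) is smooth if and only if S is isomorphic as an R-algebra to a power series ring R[[X₁, …, Xₙ]]
for some n. Smoothness of h_S → h_R is written as versality of the corresponding family of h_R over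
S. -/
theorem result {Λ : Type u} {k : Type u} [CommRing Λ] [Field k] [Algebra Λ k]
    [IsNoetherianRing Λ] [Module.Finite Λ k]
    (R S : ArtFun.CRing Λ k) [Algebra R.carrier S.carrier] [IsScalarTower Λ R.carrier S.carrier]
    (hRS : S.res.comp (IsScalarTower.toAlgHom Λ R.carrier S.carrier) = R.res) :
    ArtFun.IsVersal ((ArtFun.Family.self R.carrier R.res).along
        (IsScalarTower.toAlgHom Λ R.carrier S.carrier) hRS) ↔
      ∃ n : ℕ, Nonempty (S.carrier ≃ₐ[R.carrier] MvPowerSeries (Fin n) R.carrier) := by
  set f : R.carrier →ₐ[Λ] S.carrier := IsScalarTower.toAlgHom Λ R.carrier S.carrier with hfdef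
  constructor
  · intro h
    obtain ⟨n, θ, hC, -, hθ⟩ := ArtfunDeform.exists_ps_bijective R S f hRS fun B A μ hμ φ y e => by
      obtain ⟨ψ, h1, h2⟩ := h μ hμ φ y (ArtfunDeform.homSet_ext e)
      exact ⟨ψ, h1, congrArg Subtype.val h2⟩
    let e := RingEquiv.ofBijective θ.toRingHom hθ
    have he : ∀ a, e (ArtfunDeform.psC R n a) = algebraMap R.carrier S.carrier a :=
      fun a => congrArg (fun t : R.carrier →ₐ[Λ] S.carrier => t a) hC
    exact ⟨n, ⟨(AlgEquiv.ofRingEquiv (R := R.carrier) (A₁ := MvPowerSeries (Fin n) R.carrier) (f := e) he).symm⟩⟩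
  · rintro ⟨n, ⟨e⟩⟩ B A μ hμ φ y hy
    let e' : S.carrier ≃ₐ[Λ] (ArtfunDeform.psRing R n).carrier := e.restrictScalars Λ
    obtain ⟨ψ, h1, h2⟩ := ArtfunDeform.exists_lift_of_equiv R S f hRS e'
      (fun a => e.commutes a) μ hμ φ y
      (fun a => congrArg (fun t : ArtFun.HomSet R.carrier R.res A => t.1 a) hy)
    exact ⟨ψ, h1, Subtype.ext h2⟩

end Groth.Agent.S12718
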