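import Groth.Statements.S12744
import Groth.Agent.ArtfunDeform.Formal

set_option autoImplicit false
universe u v
open CategoryTheory
open ArtFun

namespace Groth.Agent.S12744

open Groth.ArtfunDeform


/-- For functors, if η : F → G is a smooth morphism of functors on Artinian local Λ-algebras with
residue field k and F(k) → G(k) is surjective, then for every complete local Noetherian R with
residue field k the induced map on formal elements over R (compatible systems of elements over the
truncations R/m^(n+1)) is surjective. -/
theorem result {Λ : Type u} {k : Type u} [CommRing Λ] [Field k] [Algebra Λ k]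
    [IsNoetherianRing Λ] [Module.Finite Λ k]
    {F G : ArtFun.Art Λ k ⥤ Type v} (η : F ⟶ G) (hη : ArtFun.IsSmooth η)
    (h0 : Function.Surjective (η.app (ArtFun.Art.base Λ k))) (R : ArtFun.CRing Λ k) :
    Function.Surjective (fun u : ArtFun.FormalElt F R => u.map η) := by
  intro v
  have base' := (app_surjective_of_isSmooth η hη h0 (R.trunc 0)) (v.elt 0)
  have step : ∀ n, ∀ x : F.obj (R.trunc n), η.app _ x = v.elt n →
      ∃ z : F.obj (R.trunc (n + 1)), F.map (R.truncMap n) z = x ∧ η.app _ z = v.elt (n + 1) :=
    fun n x hx => (relCmp_surjective_iff η _).1 (hη _ (truncMap_surjective R n)) x _ (by rw [hx, v.compat])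
  let seq : ∀ n, {x : F.obj (R.trunc n) // η.app _ x = v.elt n} := fun n =>
    Nat.rec ⟨base'.choose, base'.choose_spec⟩
      (fun n p => ⟨(step n p.1 p.2).choose, (step n p.1 p.2).choose_spec.2⟩) n
  exact ⟨⟨fun n => (seq n).1, fun n => (step n (seq n).1 (seq n).2).choose_spec.1⟩,
    ArtFun.FormalElt.ext' fun n => (seq n).2⟩

end Groth.Agent.S12744
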