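import Groth.Statements.S12747
import Groth.Agent.ArtfunDeform.Smooth2

set_option autoImplicit false
universe u v
open CategoryTheory
open ArtFun

namespace Groth.Agent.S12747

open CategoryTheory

/-- For functors, let H₁ → G, H₂ → G and q : G → F be morphisms of functors on Artinian local Λ-algebras
with residue field k where F and G are deformation functors (value at k a point, condition (RS)) and
q is injective on tangent spaces. Then the induced morphism H₁ ×_G H₂ → H₁ ×_F H₂ is smooth. (The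
published statement also assumes that infinitesimal automorphisms of G map onto those of F; for
functors that condition is empty.) -/
theorem result {Λ : Type u} {k : Type u} [CommRing Λ] [Field k] [Algebra Λ k]
    [IsNoetherianRing Λ] [Module.Finite Λ k]
    {F G H₁ H₂ : ArtFun.Art Λ k ⥤ Type v} (p₁ : H₁ ⟶ G) (p₂ : H₂ ⟶ G) (q : G ⟶ F)
    (hF0 : ArtFun.H0 F) (hF : (∀ ⦃B A A' A'' : ArtFun.Art Λ k⦄ (p' : B ⟶ A') (p'' : B ⟶ A'') (f' : A' ⟶ A) (f'' : A'' ⟶ A)
        (h : ArtFun.Art.IsFibreProd p' p'' f' f''), Function.Surjective f'' → Function.Bijective (ArtFun.cmp F h)))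
    (hG0 : ArtFun.H0 G) (hG : (∀ ⦃B A A' A'' : ArtFun.Art Λ k⦄ (p' : B ⟶ A') (p'' : B ⟶ A'') (f' : A' ⟶ A) (f'' : A'' ⟶ A)
        (h : ArtFun.Art.IsFibreProd p' p'' f' f''), Function.Surjective f'' → Function.Bijective (ArtFun.cmp G h)))
    (hq : Function.Injective (ArtFun.TangentSpace.map q)) :
    ArtFun.IsSmooth (CategoryTheory.Limits.pullback.map p₁ p₂ (p₁ ≫ q) (p₂ ≫ q) (𝟙 H₁) (𝟙 H₂) q
      (CategoryTheory.Category.id_comp _).symm (CategoryTheory.Category.id_comp _).symm) := by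
  intro B A μ hμ
  refine (ArtfunDeform.relCmp_surjective_iff _ μ).2 fun x y e => ?_
  have ey := ArtfunDeform.pullback_w (p₁ ≫ q) (p₂ ≫ q) y
  have e1 : H₁.map μ ((Limits.pullback.fst (p₁ ≫ q) (p₂ ≫ q)).app B y) =
      (Limits.pullback.fst p₁ p₂).app A x := by
    have h := congrArg ((Limits.pullback.fst (p₁ ≫ q) (p₂ ≫ q)).app A) e
    rw [NatTrans.naturality_apply] at h
    refine h.symm.trans ?_
    rw [← NatTrans.comp_app_apply, Limits.pullback.lift_fst, Category.comp_id]
  have e2 : H₂.map μ ((Limits.pullback.snd (p₁ ≫ q) (p₂ ≫ q)).app B y) =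
      (Limits.pullback.snd p₁ p₂).app A x := by
    have h := congrArg ((Limits.pullback.snd (p₁ ≫ q) (p₂ ≫ q)).app A) e
    rw [NatTrans.naturality_apply] at h
    refine h.symm.trans ?_
    rw [← NatTrans.comp_app_apply, Limits.pullback.lift_snd, Category.comp_id]
  have hkey : p₁.app B ((Limits.pullback.fst (p₁ ≫ q) (p₂ ≫ q)).app B y) =
      p₂.app B ((Limits.pullback.snd (p₁ ≫ q) (p₂ ≫ q)).app B y) := by
    refine ArtfunDeform.injective_rel (fun A x => q.app A x) (fun _ _ f x => (NatTrans.naturality_apply q f x).symm)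
      (fun _ _ _ _ p' p'' f' f'' h hf => (hG p' p'' f' f'' h hf.1).2)
      (fun _ _ p' p'' h => hG p' p'' _ _ h (ArtFun.Art.dual Λ k).res_surjective)
      (fun _ _ _ p₁ p₂ f h hf => (hF p₁ p₂ f f h hf.1).1) hq μ hμ _ _ ?_ ?_
    · exact ey
    · rw [← NatTrans.naturality_apply p₁, ← NatTrans.naturality_apply p₂, e1, e2]
      exact ArtfunDeform.pullback_w p₁ p₂ x
  obtain ⟨z, hz1, hz2⟩ := ArtfunDeform.pullback_obj_exists p₁ p₂ _ _ hkey
  refine ⟨z, ArtfunDeform.pullback_obj_ext p₁ p₂ ?_ ?_, ArtfunDeform.pullback_obj_ext (p₁ ≫ q) (p₂ ≫ q) ?_ ?_⟩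
  · rw [NatTrans.naturality_apply, hz1, e1]
  · rw [NatTrans.naturality_apply, hz2, e2]
  · rw [← NatTrans.comp_app_apply, Limits.pullback.lift_fst, Category.comp_id, hz1]
  · rw [← NatTrans.comp_app_apply, Limits.pullback.lift_snd, Category.comp_id, hz2]

end Groth.Agent.S12747
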