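import Groth.Statements.S12748
import Groth.Agent.ArtfunDeform.PSIso

set_option autoImplicit false
universe u v
open CategoryTheory
open ArtFun ArtFun.CRing

namespace Groth.Agent.S12748

/-- Let R' → R be a morphism of complete local Noetherian Λ-algebras with residue field k with an
R'-algebra retraction ρ : R → R', so that R = R' ⊕ I for the ideal I = ker ρ; let x₁, …, x_r ∈ I map
to a basis of I/m_R I and let φ : R'[[X₁, …, X_r]] → R be an R'-algebra map sending X_i to x_i. If
for all large n the induced map R'[[X]]/m^n → R/m_R^n has a left inverse — a Λ-algebra map g_n : R →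
R'[[X]]/m^n with g_n ∘ φ equal to the quotient map — then φ is an isomorphism. -/
theorem result {Λ : Type u} {k : Type u} [CommRing Λ] [Field k] [Algebra Λ k]
    [IsNoetherianRing Λ] [Module.Finite Λ k]
    (R' R : ArtFun.CRing Λ k) [Algebra R'.carrier R.carrier] [IsScalarTower Λ R'.carrier R.carrier]
    (hc : R.res.comp (IsScalarTower.toAlgHom Λ R'.carrier R.carrier) = R'.res)
    (ρ : R.carrier →ₐ[R'.carrier] R'.carrier)
    (r : ℕ) (x : Fin r → R.carrier) (hxI : ∀ i, ρ (x i) = 0)
    (hspan : Ideal.span (Set.range x) ⊔ IsLocalRing.maximalIdeal R.carrier * RingHom.ker ρ = RingHom.ker ρ)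
    (hli : ∀ c : Fin r → R.carrier, (∑ i, c i * x i) ∈ IsLocalRing.maximalIdeal R.carrier * RingHom.ker ρ →
      ∀ i, c i ∈ IsLocalRing.maximalIdeal R.carrier)
    (φ : MvPowerSeries (Fin r) R'.carrier →ₐ[R'.carrier] R.carrier) (hφ : ∀ i, φ (MvPowerSeries.X i) = x i)
    (hinv : ∃ N : ℕ, ∀ n, N ≤ n →
      ∃ g : R.carrier →ₐ[Λ] (MvPowerSeries (Fin r) R'.carrier ⧸
          IsLocalRing.maximalIdeal (MvPowerSeries (Fin r) R'.carrier) ^ n),
        ∀ s, g (φ s) = Ideal.Quotient.mk _ s) :
    Function.Bijective φ := by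
  let P := ArtfunDeform.psRing R' r
  have hρC : ∀ a, ρ (algebraMap R'.carrier R.carrier a) = a := fun a => ρ.commutes a
  have hc' : ∀ a, R.res (algebraMap R'.carrier R.carrier a) = R'.res a :=
    fun a => congrArg (fun t : R'.carrier →ₐ[Λ] k => t a) hc
  have hρres : ∀ s, R.res s = 0 → R'.res (ρ s) = 0 := by
    intro s hs
    rw [← ArtFun.CRing.mem_maximalIdeal_iff, IsLocalRing.mem_maximalIdeal, mem_nonunits_iff]
    intro hu
    have h1 : IsUnit (R.res (algebraMap R'.carrier R.carrier (ρ s))) := (hu.map (algebraMap R'.carrier R.carrier)).map R.res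
    have h2 : s - algebraMap R'.carrier R.carrier (ρ s) ∈ RingHom.ker ρ := by
      rw [RingHom.mem_ker, map_sub, hρC, sub_self]
    have h3 : RingHom.ker ρ ≤ IsLocalRing.maximalIdeal R.carrier := IsLocalRing.le_maximalIdeal (RingHom.ker_ne_top _)
    have h4 := (ArtFun.CRing.mem_maximalIdeal_iff R _).1 (h3 h2)
    rw [map_sub, hs, zero_sub, neg_eq_zero] at h4
    exact h1.ne_zero h4
  have hxm : ∀ i, x i ∈ IsLocalRing.maximalIdeal R.carrier := fun i =>
    IsLocalRing.le_maximalIdeal (RingHom.ker_ne_top ρ) (hxI i)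
  have hφC : ∀ a, φ (MvPowerSeries.C a) = algebraMap R'.carrier R.carrier a := fun a => φ.commutes a
  have hsurj : Function.Surjective φ := by
    refine ArtfunDeform.surjective_of_map_maximalIdeal (R := P.carrier) φ.toRingHom (fun s => ?_) (le_antisymm (sup_le ?_ (Ideal.pow_le_self (by decide))) ?_)
    · obtain ⟨a, ha⟩ := R'.res_surjective (R.res s)
      exact ⟨MvPowerSeries.C a, (ArtFun.CRing.mem_maximalIdeal_iff R _).2 (by
        change R.res (s - φ (MvPowerSeries.C a)) = 0
        rw [map_sub, hφC, hc', ha, sub_self])⟩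
    · refine Ideal.map_le_iff_le_comap.2 fun p hp => ?_
      obtain ⟨a, ha, h, rfl⟩ := ArtfunDeform.ps_mem_decomp R' hp
      rw [Ideal.mem_comap, map_add, map_sum]
      refine add_mem ?_ (Ideal.sum_mem _ fun i _ => ?_)
      · refine (ArtFun.CRing.mem_maximalIdeal_iff R _).2 ?_
        change R.res (φ (MvPowerSeries.C a)) = 0
        rw [hφC, hc', ← ArtFun.CRing.mem_maximalIdeal_iff]
        exact ha
      · rw [map_mul]
        refine Ideal.mul_mem_right _ _ ?_
        change φ (MvPowerSeries.X i) ∈ _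
        rw [hφ]
        exact hxm i
    · intro s hs
      have h1 : s - algebraMap R'.carrier R.carrier (ρ s) ∈ RingHom.ker ρ := by
        rw [RingHom.mem_ker, map_sub, hρC, sub_self]
      rw [← hspan] at h1
      have h2 : algebraMap R'.carrier R.carrier (ρ s) ∈
          Ideal.map φ.toRingHom (IsLocalRing.maximalIdeal P.carrier) ⊔ IsLocalRing.maximalIdeal R.carrier ^ 2 := by
        rw [← hφC]
        refine Ideal.mem_sup_left (Ideal.mem_map_of_mem φ.toRingHom ?_)
        exact (ArtfunDeform.mem_maximalIdeal_ps _).2 (by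
          rw [MvPowerSeries.constantCoeff_C]
          exact (ArtFun.CRing.mem_maximalIdeal_iff R' _).2 (hρres s ((ArtFun.CRing.mem_maximalIdeal_iff R s).1 hs)))
      have hle : Ideal.span (Set.range x) ⊔ IsLocalRing.maximalIdeal R.carrier * RingHom.ker ρ ≤
          Ideal.map φ.toRingHom (IsLocalRing.maximalIdeal P.carrier) ⊔ IsLocalRing.maximalIdeal R.carrier ^ 2 := by
        refine sup_le ((Ideal.span_le.2 ?_).trans le_sup_left) (le_trans ?_ le_sup_right)
        · rintro _ ⟨i, rfl⟩
          rw [← hφ i]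
          exact Ideal.mem_map_of_mem φ.toRingHom (ArtfunDeform.psX_mem R' i)
        · rw [pow_two]
          exact Ideal.mul_mono le_rfl (IsLocalRing.le_maximalIdeal (RingHom.ker_ne_top ρ))
      have h3 := add_mem (hle h1) h2
      rwa [sub_add_cancel] at h3
  refine ⟨(injective_iff_map_eq_zero φ).2 fun p hp => ?_, hsurj⟩
  obtain ⟨N, hN⟩ := hinv
  haveI : IsHausdorff (IsLocalRing.maximalIdeal P.carrier) P.carrier := inferInstance
  refine IsHausdorff.haus' (I := IsLocalRing.maximalIdeal P.carrier) (M := P.carrier) p fun n => ?_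
  rw [SModEq.sub_mem, sub_zero, smul_eq_mul, Ideal.mul_top]
  obtain ⟨g, hg⟩ := hN (max n N) (le_max_right _ _)
  have h := hg p
  rw [hp, map_zero] at h
  exact Ideal.pow_le_pow_right (le_max_left _ _) (Ideal.Quotient.eq_zero_iff_mem.1 h.symm)

end Groth.Agent.S12748
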