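import Groth.Statements.S1275
import Groth.Agent.NagComp.BlowUp

set_option autoImplicit false
universe u
open FlatMor

namespace Groth.Agent.S1275

open AlgebraicGeometry CategoryTheory Limits in
/-- Let S be a quasi-compact quasi-separated scheme, U ⊆ W ⊆ S quasi-compact opens, f : X → W a proper
morphism and s : U → X a morphism with f ∘ s the inclusion of U in W. Then there are a U-admissible
blow-up b : S' → S and a morphism s' : b⁻¹(W) → X with f ∘ s' equal to the restriction of b,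
extending s in the sense that on b⁻¹(U) it agrees with s composed with the restriction of b. -/
theorem result {X S : Scheme.{u}} [CompactSpace S] [QuasiSeparatedSpace S]
    (U W : S.Opens) (hUW : U ≤ W) (hU : IsCompact (U : Set S)) (hW : IsCompact (W : Set S))
    (f : X ⟶ (W : Scheme.{u})) [IsProper f] (s : (U : Scheme.{u}) ⟶ X) (hs : s ≫ f = S.homOfLE hUW) :
    ∃ (𝓘 : S.IdealSheafData) (S' : Scheme.{u}) (b : S' ⟶ S), BlowUp.IsBlowUp b 𝓘 ∧ BlowUp.IsAdmissibleFor U 𝓘 ∧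
      ∃ s' : ((b ⁻¹ᵁ W : S'.Opens) : Scheme.{u}) ⟶ X, s' ≫ f = b ∣_ W ∧
        S'.homOfLE (show b ⁻¹ᵁ U ≤ b ⁻¹ᵁ W from fun _ hx => hUW hx) ≫ s' = (b ∣_ U) ≫ s := by
  haveI : CompactSpace (W : Scheme.{u}) := isCompact_iff_compactSpace.mp hW
  haveI : QuasiCompact W.ι := quasiCompact_of_compactSpace _
  let p : X ⟶ S := f ≫ W.ι
  have hs' : s ≫ p = U.ι := by rw [reassoc_of% hs, Scheme.homOfLE_ι]
  obtain ⟨K, T, b, hb, hK, -, hsd, hext, -⟩ := Groth.NagComp.exists_blowUp_extension p U U le_rfl hU hU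
    s hs' (fun y hy hyV => Groth.NagComp.mem_range_of_mem_closure p s hs' hy hyV)
  obtain ⟨W₁, hUW₁, h, w, hhs, -, hci, -⟩ := hext.exists_glue
  have hW₁ : W₁ ≤ b ⁻¹ᵁ W := by
    intro y hy
    have e : b y = (f (h ⟨y, hy⟩)).1 := congr($w ⟨y, hy⟩)
    show b y ∈ W
    rw [e]
    exact (f (h ⟨y, hy⟩)).2
  let g : (W₁ : Scheme.{u}) ⟶ (b ⁻¹ᵁ W : T.Opens) := T.homOfLE hW₁
  have hg : g ≫ (b ∣_ W) = h ≫ f := by
    rw [← cancel_mono W.ι, Category.assoc, morphismRestrict_ι, Scheme.homOfLE_ι_assoc, w,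
      Category.assoc]
  let j : pullback (b ∣_ W) f ⟶ pullback b p :=
    pullback.map (b ∣_ W) f b p (b ⁻¹ᵁ W).ι (𝟙 X) W.ι (morphismRestrict_ι b W)
      (Category.id_comp _).symm
  have hjf : j ≫ pullback.fst b p = pullback.fst (b ∣_ W) f ≫ (b ⁻¹ᵁ W).ι := pullback.lift_fst _ _ _
  haveI : IsSeparated (j ≫ pullback.fst b p) := by rw [hjf]; infer_instance
  haveI : IsSeparated j := IsSeparated.of_comp j (pullback.fst b p)
  have hlift : pullback.lift g h hg ≫ j = pullback.lift W₁.ι h w := by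
    apply pullback.hom_ext
    · rw [Category.assoc, hjf, pullback.lift_fst_assoc, pullback.lift_fst, Scheme.homOfLE_ι]
    · rw [Category.assoc, pullback.lift_snd, pullback.lift_snd_assoc, Category.comp_id,
        pullback.lift_snd]
  haveI : IsClosedImmersion (pullback.lift g h hg ≫ j) := by rw [hlift]; exact hci
  haveI : IsClosedImmersion (pullback.lift g h hg) := IsClosedImmersion.of_comp _ j
  haveI : IsProper g := by
    rw [← pullback.lift_fst g h hg]
    infer_instance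
  haveI : Surjective g := ⟨fun y => by
    by_contra hy
    obtain ⟨z, hz, hzU⟩ := hsd.inter_nonempty
      (O := (b ⁻¹ᵁ W).ι ''ᵁ ⟨(Set.range g)ᶜ, g.isClosedMap.isClosed_range.isOpen_compl⟩) le_top
      ⟨_, y, hy, rfl⟩
    obtain ⟨z', hz', rfl⟩ := hz
    exact hz' ⟨⟨_, hUW₁ hzU⟩, (b ⁻¹ᵁ W).ι.isOpenEmbedding.injective (by
      rw [← Scheme.Hom.comp_apply, Scheme.homOfLE_ι]; rfl)⟩⟩
  haveI : IsIso g := (isIso_iff_isOpenImmersion_and_epi_base _).mpr
    ⟨inferInstance, (TopCat.epi_iff_surjective _).mpr g.surjective⟩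
  refine ⟨K, T, b, hb, hK, inv g ≫ h, by rw [Category.assoc, ← hg, IsIso.inv_hom_id_assoc], ?_⟩
  rw [← hhs, ← Category.assoc]
  congr 1
  rw [IsIso.comp_inv_eq, ← cancel_mono (b ⁻¹ᵁ W).ι]
  simp [g]

end Groth.Agent.S1275
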