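import Groth.Statements.S12750
import Groth.Agent.ArtfunDeform.EssSurj

set_option autoImplicit false
universe u v
open CategoryTheory
open ArtFun ArtFun.Art

namespace Groth.Agent.S12750

/-- (1) ⇔ (3): let f : B → A be a morphism in the category of Artinian local Λ-algebras with residue
field k, and let q_B : B → B', q_A : A → A' be the quotients by m_Λ B + m_B² and m_Λ A + m_A² (m_Λ
the kernel of Λ → k), realised as surjective morphisms with these kernels, with f' : B' → A' the
induced morphism. Then f is an essential surjection — surjective, and every morphism g into B whose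
composite with f is surjective is itself surjective — if and only if f' is. (The intermediate
equivalence with the map B/m_B² → A/m_A² is the special case Λ-structure trivialised and follows by
applying this one twice.) -/
theorem result {Λ : Type u} {k : Type u} [CommRing Λ] [Field k] [Algebra Λ k]
    [IsNoetherianRing Λ] [Module.Finite Λ k]
    {A B A' B' : ArtFun.Art Λ k} (f : B ⟶ A)
    (qB : B ⟶ B') (hqB : Function.Surjective qB)
    (hkB : RingHom.ker qB.toAlgHom = Ideal.map (algebraMap Λ B) (RingHom.ker (algebraMap Λ k)) ⊔ IsLocalRing.maximalIdeal B ^ 2)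
    (qA : A ⟶ A') (hqA : Function.Surjective qA)
    (hkA : RingHom.ker qA.toAlgHom = Ideal.map (algebraMap Λ A) (RingHom.ker (algebraMap Λ k)) ⊔ IsLocalRing.maximalIdeal A ^ 2)
    (f' : B' ⟶ A') (hf' : qB ≫ f' = f ≫ qA) :
    (Function.Surjective f ∧ ∀ (C : ArtFun.Art Λ k) (g : C ⟶ B), Function.Surjective (g ≫ f) → Function.Surjective g) ↔ (Function.Surjective f' ∧ ∀ (C : ArtFun.Art Λ k) (g : C ⟶ B'), Function.Surjective (g ≫ f') → Function.Surjective g) := by
  classical
  open Groth.ArtfunDeform Groth.ArtfunDeform.EssSurj in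
  refine (Groth.ArtfunDeform.EssSurj.isEssSurj_iff f).trans (Iff.trans ?_ (Groth.ArtfunDeform.EssSurj.isEssSurj_iff f').symm)
  have hsq : ∀ x, f' (qB x) = qA (f x) := fun x => congrArg (fun g : B ⟶ A' => g x) hf'
  have hqBm : ∀ x, qB x = 0 → x ∈ Groth.ArtfunDeform.EssSurj.MM B := fun x hx => hkB.le hx
  have hqAm : ∀ x, qA x = 0 → x ∈ Groth.ArtfunDeform.EssSurj.MM A := fun x hx => hkA.le hx
  have hsurj : Function.Surjective f ↔ Function.Surjective f' := by
    refine ⟨fun hf y => ?_, fun h => Groth.ArtfunDeform.EssSurj.surjective_of_le_MM f fun a ha => ?_⟩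
    · obtain ⟨a, rfl⟩ := hqA y
      obtain ⟨b, rfl⟩ := hf a
      exact ⟨qB b, hsq b⟩
    · obtain ⟨y, hy⟩ := h (qA a)
      obtain ⟨b, rfl⟩ := hqB y
      rw [hsq] at hy
      refine ⟨b, ?_, hqAm _ (by rw [map_sub, hy, sub_self])⟩
      have h1 := congrArg A'.res hy
      rw [ArtFun.Art.res_app, ArtFun.Art.res_app, ArtFun.Art.res_app] at h1
      rw [ArtFun.Art.mem_maximalIdeal_iff] at ha ⊢
      rw [h1, ha]
  letI := Groth.ArtfunDeform.EssSurj.resAlg B
  haveI := Groth.ArtfunDeform.EssSurj.isScalarTower_resAlg B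
  letI := Groth.ArtfunDeform.EssSurj.resAlg B'
  haveI := Groth.ArtfunDeform.EssSurj.isScalarTower_resAlg B'
  constructor
  · rintro ⟨hf, hk⟩
    refine ⟨hsurj.1 hf, fun D' y hy => ?_⟩
    obtain ⟨x, rfl⟩ := hqB y
    let D : Derivation Λ B k := Derivation.mk'
      { toFun := fun b => D' (qB b)
        map_add' := fun a b => by rw [map_add, map_add]
        map_smul' := fun r b => (congrArg D' (map_smul qB.toAlgHom r b)).trans (D'.map_smul r (qB b)) }
      fun a b => by
        change D' (qB (a * b)) = B.res a * D' (qB b) + B.res b * D' (qB a)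
        rw [map_mul, Groth.ArtfunDeform.EssSurj.der_mul, ArtFun.Art.res_app, ArtFun.Art.res_app]
    rw [hsq] at hy
    have h2 : Groth.ArtfunDeform.EssSurj.MM A ≤ (Groth.ArtfunDeform.EssSurj.MM B).map f.toAlgHom := by
      rw [Groth.ArtfunDeform.EssSurj.MM, Groth.ArtfunDeform.EssSurj.MM, Ideal.map_sup, Ideal.map_pow, Groth.ArtfunDeform.map_maximalIdeal_eq f hf]
      refine sup_le_sup (le_of_eq ?_) le_rfl
      change _ = Ideal.map f.toAlgHom.toRingHom _
      rw [Ideal.map_map]
      congr 1
      exact RingHom.ext fun r => (f.toAlgHom.commutes r).symm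
    obtain ⟨z, hz, hzx⟩ := (Ideal.mem_map_iff_of_surjective f.toAlgHom hf).1 (h2 (hqAm _ hy))
    have h3 : D (x - z) = 0 := hk D _ (by rw [map_sub, sub_eq_zero]; exact hzx.symm)
    rw [map_sub, Groth.ArtfunDeform.EssSurj.der_MM D hz, sub_zero] at h3
    exact h3
  · rintro ⟨hf, hk⟩
    refine ⟨hsurj.2 hf, fun D x hx => ?_⟩
    choose l hl using hqB
    have hl' : ∀ b, D (l (qB b)) = D b := fun b => by
      rw [← sub_eq_zero, ← map_sub]
      exact Groth.ArtfunDeform.EssSurj.der_MM D (hqBm _ (by rw [map_sub, hl, sub_self]))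
    let D' : Derivation Λ B' k := Derivation.mk'
      { toFun := fun y => D (l y)
        map_add' := fun a b => by
          rw [← map_add, ← hl' (l a + l b), map_add qB.toAlgHom, hl, hl]
        map_smul' := fun r a => by
          have h4 := hl' (r • l a)
          rw [show qB (r • l a) = r • a from (map_smul qB.toAlgHom r (l a)).trans (congrArg (r • ·) (hl a))] at h4
          rw [h4, D.map_smul, RingHom.id_apply] }
      fun a b => by
        change D (l (a * b)) = B'.res a * D (l b) + B'.res b * D (l a)
        have h4 := hl' (l a * l b)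
        rw [map_mul qB.toAlgHom, hl, hl] at h4
        rw [h4, Groth.ArtfunDeform.EssSurj.der_mul, ← ArtFun.Art.res_app qB (l a), ← ArtFun.Art.res_app qB (l b), hl, hl]
    have h5 : D' (qB x) = 0 := hk D' _ (by rw [hsq, hx, map_zero])
    exact (hl' x).symm.trans h5

end Groth.Agent.S12750
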