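import Groth.Statements.S12751
import Groth.Agent.ArtfunDeform.EssSurj
import Mathlib.RingTheory.Kaehler.Basic
import Mathlib.RingTheory.TensorProduct.Basic

set_option autoImplicit false
universe u v
open CategoryTheory
open scoped TensorProduct
open ArtFun ArtFun.Art

namespace Groth.Agent.S12751

/-- A morphism f : B → A in the category of Artinian local Λ-algebras with residue field k is surjective
if and only if Ω_{B/Λ} ⊗_B k → Ω_{A/Λ} ⊗_A k is surjective; by right exactness of the sequence
Ω_{B/Λ} ⊗_B A → Ω_{A/Λ} → Ω_{A/B} → 0 this surjectivity is the vanishing of Ω_{A/B} ⊗_A k, which is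
how it is written here (A a B-algebra through f, k an A-module through the augmentation). -/
theorem result {Λ : Type u} {k : Type u} [CommRing Λ] [Field k] [Algebra Λ k]
    [IsNoetherianRing Λ] [Module.Finite Λ k]
    {A B : ArtFun.Art Λ k} (f : B ⟶ A) :
    letI : Algebra B A := f.toAlgHom.toRingHom.toAlgebra
    letI : Algebra A k := A.res.toRingHom.toAlgebra
    Function.Surjective f ↔ Subsingleton (k ⊗[A] Ω[A⁄B]) := by
  classical
  open Groth.ArtfunDeform in
  letI : Algebra B A := f.toAlgHom.toRingHom.toAlgebra
  letI : Algebra A k := A.res.toRingHom.toAlgebra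
  constructor
  · intro hf
    haveI : Subsingleton Ω[A⁄B] := KaehlerDifferential.subsingleton_of_surjective B A hf
    exact subsingleton_of_forall_eq 0 fun z => by
      induction z using TensorProduct.induction_on with
      | zero => rfl
      | tmul a b => rw [Subsingleton.elim b 0, TensorProduct.tmul_zero]
      | add x y hx hy => rw [hx, hy, add_zero]
  · intro h
    haveI : IsScalarTower Λ A k := IsScalarTower.of_algebraMap_eq fun r => (A.res.commutes r).symm
    letI : Module B k := Module.compHom k (algebraMap B A)
    haveI : IsScalarTower B A k := IsScalarTower.of_compHom B A k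
    refine Groth.ArtfunDeform.surjective_of_maximalIdeal_le f (le_of_eq ?_)
    refine (Groth.ArtfunDeform.map_maximalIdeal_sup_eq_of_derivation (k := k) A.res_surjective f.toAlgHom ?_ fun D hD => ?_).symm
    · intro c
      obtain ⟨x, hx⟩ := B.res_surjective c
      exact ⟨x, (ArtFun.Art.res_app f x).trans hx⟩
    · let D' : Derivation B A k := Derivation.mk'
        { toFun := D
          map_add' := map_add D
          map_smul' := fun b a => by
            change D (f.toAlgHom b * a) = algebraMap B A b • D a
            rw [D.leibniz, hD, smul_zero, add_zero]
            rfl }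
        fun a b => D.leibniz a b
      refine Derivation.ext fun a => ?_
      have h1 := congrArg (D'.liftKaehlerDifferential.liftBaseChange k) (Subsingleton.elim ((1 : k) ⊗ₜ[A] KaehlerDifferential.D B A a) 0)
      rw [map_zero, LinearMap.liftBaseChange_tmul, one_smul, Derivation.liftKaehlerDifferential_comp_D] at h1
      exact h1

end Groth.Agent.S12751
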