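import Groth.Statements.S12752
import Groth.Agent.ArtfunDeform.EssSurj
import Groth.Agent.S12751
import Mathlib.RingTheory.Kaehler.Basic
import Mathlib.RingTheory.TensorProduct.Basic
import Mathlib.LinearAlgebra.Dual.Lemmas

set_option autoImplicit false
universe u v
open CategoryTheory
open scoped TensorProduct
open ArtFun ArtFun.Art

namespace Groth.Agent.S12752

/-- (a) ⇔ (c): a morphism f : B → A in the category of Artinian local Λ-algebras with residue field k is
an essential surjection (surjective, and any morphism g into B with g followed by f surjective is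
surjective) if and only if the map Ω_{B/Λ} ⊗_B k → Ω_{A/Λ} ⊗_A k is an isomorphism of k-vector
spaces. These spaces are finite-dimensional, so the isomorphism condition is written as: the map is
surjective (that is, Ω_{A/B} ⊗_A k = 0) and the two spaces have equal dimension. -/
theorem result {Λ : Type u} {k : Type u} [CommRing Λ] [Field k] [Algebra Λ k]
    [IsNoetherianRing Λ] [Module.Finite Λ k]
    {A B : ArtFun.Art Λ k} (f : B ⟶ A) :
    letI : Algebra B A := f.toAlgHom.toRingHom.toAlgebra
    letI : Algebra A k := A.res.toRingHom.toAlgebra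
    letI : Algebra B k := B.res.toRingHom.toAlgebra
    (Function.Surjective f ∧ ∀ (C : ArtFun.Art Λ k) (g : C ⟶ B), Function.Surjective (g ≫ f) → Function.Surjective g) ↔
      (Subsingleton (k ⊗[A] Ω[A⁄B]) ∧
        Module.finrank k (k ⊗[B] Ω[B⁄Λ]) = Module.finrank k (k ⊗[A] Ω[A⁄Λ])) := by
  classical
  open Groth.ArtfunDeform Groth.ArtfunDeform.EssSurj in
  letI : Algebra B A := f.toAlgHom.toRingHom.toAlgebra
  letI : Algebra A k := A.res.toRingHom.toAlgebra
  letI : Algebra B k := B.res.toRingHom.toAlgebra
  haveI : IsScalarTower Λ A k := IsScalarTower.of_algebraMap_eq fun r => (A.res.commutes r).symm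
  haveI : IsScalarTower Λ B k := IsScalarTower.of_algebraMap_eq fun r => (B.res.commutes r).symm
  have hfin : ∀ (S : Type u) [CommRing S] [IsLocalRing S] [Algebra Λ S] [Algebra S k] [IsScalarTower Λ S k] [IsNoetherianRing S],
      Function.Surjective (algebraMap S k) →
        Module.finrank k (k ⊗[S] Ω[S⁄Λ]) = Module.finrank k (Derivation Λ S k) ∧ Module.Finite k (Derivation Λ S k) := by
    intro S _ _ _ _ _ _ hS
    refine ⟨?_, Groth.ArtfunDeform.finite_derivation hS⟩
    let Φ : Module.Dual k (k ⊗[S] Ω[S⁄Λ]) →ₗ[k] Derivation Λ S k :=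
      { toFun := fun φ => (((φ.restrictScalars S).comp ((TensorProduct.mk S k Ω[S⁄Λ]) 1)).compDer (KaehlerDifferential.D Λ S))
        map_add' := fun _ _ => Derivation.ext fun _ => rfl
        map_smul' := fun _ _ => Derivation.ext fun _ => rfl }
    have hΦ : Function.Bijective Φ := by
      refine ⟨(injective_iff_map_eq_zero Φ).2 fun φ hφ => ?_, fun D => ⟨D.liftKaehlerDifferential.liftBaseChange k, Derivation.ext fun s => ?_⟩⟩
      · refine LinearMap.ext fun z => ?_
        induction z using TensorProduct.induction_on with
        | zero => simp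
        | add a b ha hb => rw [map_add, map_add, ha, hb]
        | tmul c w =>
          have h1 : ((φ.restrictScalars S).comp ((TensorProduct.mk S k Ω[S⁄Λ]) 1)) = 0 :=
            (KaehlerDifferential.linearMapEquivDerivation Λ S).injective (hφ.trans (map_zero _).symm)
          have h2 : φ ((1 : k) ⊗ₜ[S] w) = 0 := LinearMap.congr_fun h1 w
          rw [show (c ⊗ₜ[S] w : k ⊗[S] Ω[S⁄Λ]) = c • ((1 : k) ⊗ₜ[S] w) by rw [TensorProduct.smul_tmul', smul_eq_mul, mul_one],
            map_smul, h2, smul_zero, LinearMap.zero_apply]
      · change D.liftKaehlerDifferential.liftBaseChange k ((1 : k) ⊗ₜ[S] KaehlerDifferential.D Λ S s) = D s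
        rw [LinearMap.liftBaseChange_tmul, one_smul, Derivation.liftKaehlerDifferential_comp_D]
    rw [← (LinearEquiv.ofBijective Φ hΦ).finrank_eq, Subspace.dual_finrank_eq]
  let r : Derivation Λ A k →ₗ[k] Derivation Λ B k :=
    { toFun := fun D => Derivation.mk'
        { toFun := fun b => D (f b)
          map_add' := fun a b => by rw [map_add, map_add]
          map_smul' := fun c b => (congrArg D (map_smul f.toAlgHom c b)).trans (D.map_smul c (f b)) }
        fun a b => by
          change D (f (a * b)) = B.res a * D (f b) + B.res b * D (f a)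
          rw [map_mul, D.leibniz, ← ArtFun.Art.res_app f a, ← ArtFun.Art.res_app f b]
          rfl
      map_add' := fun _ _ => Derivation.ext fun _ => rfl
      map_smul' := fun _ _ => Derivation.ext fun _ => rfl }
  obtain ⟨hA, hAfin⟩ := hfin A A.res_surjective
  obtain ⟨hB, hBfin⟩ := hfin B B.res_surjective
  have key : Function.Surjective f → (Groth.ArtfunDeform.EssSurj.KillsKer f ↔
      Module.finrank k (k ⊗[B] Ω[B⁄Λ]) = Module.finrank k (k ⊗[A] Ω[A⁄Λ])) := fun hf => by
    have hinj : Function.Injective r := (injective_iff_map_eq_zero r).2 fun D hD => Derivation.ext fun a => by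
      obtain ⟨b, rfl⟩ := hf a
      exact DFunLike.congr_fun hD b
    rw [hA, hB]
    refine ⟨fun hk => (LinearEquiv.ofBijective r ⟨hinj, fun D => ?_⟩).finrank_eq.symm, fun he D x hx => ?_⟩
    · choose l hl using hf
      have hl' : ∀ b, D (l (f b)) = D b := fun b => by
        rw [← sub_eq_zero, ← map_sub]
        exact hk D _ (by rw [map_sub, hl, sub_self])
      refine ⟨Derivation.mk'
        { toFun := fun a => D (l a)
          map_add' := fun a b => by
            rw [← map_add, ← hl' (l a + l b), map_add f.toAlgHom, hl, hl]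
          map_smul' := fun c a => by
            have h4 := hl' (c • l a)
            rw [show f (c • l a) = c • a from (map_smul f.toAlgHom c (l a)).trans (congrArg (c • ·) (hl a))] at h4
            rw [h4, D.map_smul, RingHom.id_apply] }
        (fun a b => ?_), Derivation.ext hl'⟩
      change D (l (a * b)) = A.res a * D (l b) + A.res b * D (l a)
      have h4 := hl' (l a * l b)
      rw [map_mul f.toAlgHom, hl, hl] at h4
      rw [h4, Groth.ArtfunDeform.EssSurj.der_mul, ← ArtFun.Art.res_app f (l a), ← ArtFun.Art.res_app f (l b), hl, hl]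
    · obtain ⟨D', rfl⟩ := (LinearMap.injective_iff_surjective_of_finrank_eq_finrank he.symm).1 hinj D
      change D' (f x) = 0
      rw [hx, map_zero]
  refine (Groth.ArtfunDeform.EssSurj.isEssSurj_iff f).trans ?_
  have h51 := Groth.Agent.S12751.result f
  exact ⟨fun ⟨hf, hk⟩ => ⟨h51.1 hf, (key hf).1 hk⟩, fun ⟨hs, he⟩ => ⟨h51.2 hs, (key (h51.2 hs)).2 he⟩⟩

end Groth.Agent.S12752
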