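import Groth.Statements.S12753
import Groth.Agent.ArtfunDeform.EssSurj
import Mathlib.RingTheory.Etale.Field
import Mathlib.RingTheory.IntegralClosure.IsIntegralClosure.Basic
import Mathlib.LinearAlgebra.Dual.Lemmas

set_option autoImplicit false
universe u v
open CategoryTheory
open ArtFun ArtFun.Art

namespace Groth.Agent.S12753

/-- Suppose k is separable over the image of Λ → k. A morphism f : B → A in the category of Artinian
local Λ-algebras with residue field k is an essential surjection (surjective, and any morphism g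
into B with g followed by f surjective is surjective) if and only if the map of cotangent spaces
relative to Λ, m_B/(m_Λ B + m_B²) → m_A/(m_Λ A + m_A²), is an isomorphism; surjectivity and
injectivity are written out in terms of ideals, m_Λ being the kernel of Λ → k. -/
theorem result {Λ : Type u} {k : Type u} [CommRing Λ] [Field k] [Algebra Λ k]
    [IsNoetherianRing Λ] [Module.Finite Λ k]
    [Algebra.IsSeparable (↥(algebraMap Λ k).range) k]
    {A B : ArtFun.Art Λ k} (f : B ⟶ A) :
    (Function.Surjective f ∧ ∀ (C : ArtFun.Art Λ k) (g : C ⟶ B), Function.Surjective (g ≫ f) → Function.Surjective g) ↔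
      (Ideal.map (algebraMap Λ A) (RingHom.ker (algebraMap Λ k)) ⊔ Ideal.map f.toAlgHom (IsLocalRing.maximalIdeal B) ⊔ IsLocalRing.maximalIdeal A ^ 2 =
          IsLocalRing.maximalIdeal A ∧
        ∀ b ∈ IsLocalRing.maximalIdeal B, f b ∈ Ideal.map (algebraMap Λ A) (RingHom.ker (algebraMap Λ k)) ⊔ IsLocalRing.maximalIdeal A ^ 2 →
          b ∈ Ideal.map (algebraMap Λ B) (RingHom.ker (algebraMap Λ k)) ⊔ IsLocalRing.maximalIdeal B ^ 2) := by
  classical
  open Groth.ArtfunDeform Groth.ArtfunDeform.EssSurj in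
  letI := Groth.ArtfunDeform.EssSurj.resAlg B
  haveI := Groth.ArtfunDeform.EssSurj.isScalarTower_resAlg B
  let M := Groth.ArtfunDeform.EssSurj.MM B
  let q : B →ₐ[Λ] B ⧸ M := Ideal.Quotient.mkₐ Λ M
  have hMm : M ≤ IsLocalRing.maximalIdeal B := Groth.ArtfunDeform.EssSurj.MM_le B
  have hsep : ∀ x : B, B.res x = 0 → (∀ D : Derivation Λ B k, D x = 0) → x ∈ M := by
    intro x hx hD
    by_contra hxM
    let k₀ := (algebraMap Λ k).range
    haveI : Module.Finite k₀ k := by
      letI : Algebra Λ k₀ := (algebraMap Λ k).rangeRestrict.toAlgebra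
      haveI : IsScalarTower Λ k₀ k := IsScalarTower.of_algebraMap_eq fun _ => rfl
      exact Module.Finite.of_restrictScalars_finite Λ k₀ k
    have hk₀ : IsField k₀ := isField_of_isIntegral_of_isField (R := k₀) (S := k) Subtype.val_injective (Field.toIsField k)
    letI : Field k₀ := hk₀.toField
    haveI : Algebra.IsSeparable k₀ k := ‹_›
    haveI : Algebra.FormallySmooth k₀ k := by
      haveI := Algebra.FormallyEtale.of_isSeparable k₀ k
      infer_instance
    choose lam hlam using fun c : k₀ => RingHom.mem_range.1 c.2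
    have hwd : ∀ a b : Λ, algebraMap Λ k a = algebraMap Λ k b → algebraMap Λ (B ⧸ M) a = algebraMap Λ (B ⧸ M) b := by
      intro a b hab
      rw [← q.commutes a, ← q.commutes b, ← sub_eq_zero, ← map_sub, ← map_sub]
      refine Ideal.Quotient.eq_zero_iff_mem.2 (Submodule.mem_sup_left (Ideal.mem_map_of_mem _ ?_))
      rw [RingHom.mem_ker, map_sub, hab, sub_self]
    let h₀ : k₀ →+* B ⧸ M :=
      { toFun := fun c => algebraMap Λ (B ⧸ M) (lam c)
        map_one' := (hwd _ 1 (by rw [hlam, map_one]; rfl)).trans (map_one _)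
        map_mul' := fun a b => (hwd _ (lam a * lam b) (by rw [hlam, map_mul, hlam, hlam]; rfl)).trans (map_mul _ _ _)
        map_zero' := (hwd _ 0 (by rw [hlam, map_zero]; rfl)).trans (map_zero _)
        map_add' := fun a b => (hwd _ (lam a + lam b) (by rw [hlam, map_add, hlam, hlam]; rfl)).trans (map_add _ _ _) }
    letI : Algebra k₀ (B ⧸ M) := h₀.toAlgebra
    let ρ : B ⧸ M →+* k := Ideal.Quotient.lift M B.res.toRingHom fun a ha => (ArtFun.Art.mem_maximalIdeal_iff B a).1 (hMm ha)
    let ρ' : B ⧸ M →ₐ[k₀] k :=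
      { ρ with
        commutes' := fun c => by
          change ρ (q (algebraMap Λ B (lam c))) = (c : k)
          exact (B.res.commutes _).trans (hlam c) }
    have hρ : Function.Surjective ρ' := fun c => by
      obtain ⟨b, hb⟩ := B.res_surjective c
      exact ⟨q b, hb⟩
    have hker : ∀ u v : B ⧸ M, ρ u = 0 → ρ v = 0 → u * v = 0 := fun u v hu hv => by
      obtain ⟨u, rfl⟩ := Ideal.Quotient.mk_surjective u
      obtain ⟨v, rfl⟩ := Ideal.Quotient.mk_surjective v
      rw [← map_mul, Ideal.Quotient.eq_zero_iff_mem]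
      refine Submodule.mem_sup_right ?_
      rw [pow_two]
      exact Ideal.mul_mem_mul ((ArtFun.Art.mem_maximalIdeal_iff B u).2 hu) ((ArtFun.Art.mem_maximalIdeal_iff B v).2 hv)
    have hnil : IsNilpotent (RingHom.ker (ρ' : B ⧸ M →+* k)) := ⟨2, by
      rw [pow_two, Ideal.zero_eq_bot, ← le_bot_iff, Ideal.mul_le]
      exact fun u hu v hv => (Submodule.mem_bot _).2 (hker u v hu hv)⟩
    let s : k →ₐ[k₀] B ⧸ M := Algebra.FormallySmooth.liftOfSurjective (AlgHom.id k₀ k) ρ' hρ hnil
    have hs : ∀ c, ρ (s c) = c := fun c => AlgHom.congr_fun (Algebra.FormallySmooth.comp_liftOfSurjective (AlgHom.id k₀ k) ρ' hρ hnil) c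
    have hsΛ : ∀ r : Λ, s (algebraMap Λ k r) = algebraMap Λ (B ⧸ M) r := fun r => by
      refine (s.commutes (⟨algebraMap Λ k r, ⟨r, rfl⟩⟩ : k₀)).trans ?_
      exact hwd _ r (hlam _)
    letI : Algebra k (B ⧸ M) := s.toRingHom.toAlgebra
    have hsx : q x ≠ 0 := fun h => hxM (Ideal.Quotient.eq_zero_iff_mem.1 h)
    obtain ⟨ℓ, hℓ⟩ : ∃ ℓ : Module.Dual k (B ⧸ M), ℓ (q x) ≠ 0 := by
      by_contra hno
      push Not at hno
      exact hsx ((Module.forall_dual_apply_eq_zero_iff k _).1 hno)
    let δ : B → B ⧸ M := fun b => q b - s (B.res b)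
    have hδ : ∀ b, ρ (δ b) = 0 := fun b => by
      rw [map_sub, hs, sub_eq_zero]
      rfl
    have hmul : ∀ a b, δ (a * b) = B.res a • δ b + B.res b • δ a := fun a b => by
      have h0 := hker _ _ (hδ a) (hδ b)
      rw [Algebra.smul_def, Algebra.smul_def]
      change δ (a * b) = s (B.res a) * δ b + s (B.res b) * δ a
      simp only [δ, map_mul] at h0 ⊢
      linear_combination h0
    let D : Derivation Λ B k := Derivation.mk'
      { toFun := fun b => ℓ (δ b)
        map_add' := fun a b => by
          rw [← map_add]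
          congr 1
          simp only [δ, map_add]
          ring
        map_smul' := fun r b => by
          rw [RingHom.id_apply, Algebra.smul_def, hmul, Algebra.smul_def r (ℓ (δ b)), map_add, map_smul, map_smul,
            AlgHom.commutes]
          have h0 : δ (algebraMap Λ B r) = 0 := by
            simp only [δ]
            rw [q.commutes, B.res.commutes, hsΛ, sub_self]
          rw [h0, map_zero, smul_zero, add_zero]
          rfl }
      fun a b => by
        change ℓ (δ (a * b)) = B.res a • ℓ (δ b) + B.res b • ℓ (δ a)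
        rw [hmul, map_add, map_smul, map_smul]
    refine hℓ ?_
    have h1 := hD D
    change ℓ (q x - s (B.res x)) = 0 at h1
    rwa [hx, map_zero, sub_zero] at h1
  refine (Groth.ArtfunDeform.EssSurj.isEssSurj_iff f).trans ?_
  have hMA : Groth.ArtfunDeform.EssSurj.MM A ≤ IsLocalRing.maximalIdeal A := Groth.ArtfunDeform.EssSurj.MM_le A
  have hre : Ideal.map (algebraMap Λ A) (RingHom.ker (algebraMap Λ k)) ⊔ Ideal.map f.toAlgHom (IsLocalRing.maximalIdeal B) ⊔ IsLocalRing.maximalIdeal A ^ 2 =
      Ideal.map f.toAlgHom (IsLocalRing.maximalIdeal B) ⊔ IsLocalRing.maximalIdeal A ^ 2 := by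
    rw [sup_eq_right.2 (Groth.ArtfunDeform.EssSurj.algMap_le_map f)]
  rw [hre]
  constructor
  · rintro ⟨hf, hk⟩
    refine ⟨Groth.ArtfunDeform.map_maximalIdeal_sup_of_surjective f hf, fun b hb hfb => ?_⟩
    refine hsep b ((ArtFun.Art.mem_maximalIdeal_iff B b).1 hb) fun D => ?_
    have h2 : Groth.ArtfunDeform.EssSurj.MM A ≤ M.map f.toAlgHom := by
      change _ ≤ (Groth.ArtfunDeform.EssSurj.MM B).map f.toAlgHom
      rw [Groth.ArtfunDeform.EssSurj.MM, Groth.ArtfunDeform.EssSurj.MM, Ideal.map_sup, Ideal.map_pow, Groth.ArtfunDeform.map_maximalIdeal_eq f hf]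
      refine sup_le_sup (le_of_eq ?_) le_rfl
      change _ = Ideal.map f.toAlgHom.toRingHom _
      rw [Ideal.map_map]
      congr 1
      exact RingHom.ext fun r => (f.toAlgHom.commutes r).symm
    obtain ⟨z, hz, hzb⟩ := (Ideal.mem_map_iff_of_surjective f.toAlgHom hf).1 (h2 hfb)
    have h3 : D (b - z) = 0 := hk D _ (by rw [map_sub, sub_eq_zero]; exact hzb.symm)
    rwa [map_sub, Groth.ArtfunDeform.EssSurj.der_MM D hz, sub_zero] at h3
  · rintro ⟨h1, h2⟩
    refine ⟨Groth.ArtfunDeform.surjective_of_maximalIdeal_le f h1.ge, fun D x hx => ?_⟩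
    have hxm : x ∈ IsLocalRing.maximalIdeal B := by
      rw [ArtFun.Art.mem_maximalIdeal_iff, ← ArtFun.Art.res_app f, hx, map_zero]
    exact Groth.ArtfunDeform.EssSurj.der_MM D (h2 x hxm (by rw [hx]; exact zero_mem _))

end Groth.Agent.S12753
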