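import Groth.Statements.S12754
import Mathlib.Algebra.Category.FGModuleCat.Basic
import Mathlib.LinearAlgebra.FreeModule.Finite.Basic
import Mathlib.LinearAlgebra.Basis.VectorSpace

set_option autoImplicit false
universe u
open CategoryTheory
open ArtFun

namespace Groth.Agent.S12754

/-- A K-linear functor L from finite-dimensional K-vector spaces to K-vector spaces (K a field) is
isomorphic to the functor V ↦ L(K) ⊗_K V. (Existence of an isomorphism of functors, which is how the
published statement reads; the natural choice sends x ⊗ v to L(f_v)(x) with f_v : K → V, 1 ↦ v.) -/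
theorem result (K : Type u) [Field K]
    (L : FGModuleCat.{u} K ⥤ ModuleCat.{u} K) [L.Additive] [Functor.Linear K L] :
    Nonempty (L ≅ (ModuleCat.isFG.{u} K).ι ⋙ MonoidalCategory.tensorLeft (L.obj (FGModuleCat.of K K))) := by
  classical
  open TensorProduct in
  let K₀ : FGModuleCat.{u} K := FGModuleCat.of K K
  let V₀ := L.obj K₀
  let ev : ∀ V : FGModuleCat.{u} K, V → (K₀ ⟶ V) := fun V v => ObjectProperty.homMk (ModuleCat.ofHom (LinearMap.toSpanSingleton K V v))
  have hev_add : ∀ (V : FGModuleCat.{u} K) (v w : V), ev V (v + w) = ev V v + ev V w := fun V v w =>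
    FGModuleCat.hom_ext (LinearMap.toSpanSingleton_add _ _)
  have hev_smul : ∀ (V : FGModuleCat.{u} K) (c : K) (v : V), ev V (c • v) = c • ev V v := fun V c v =>
    FGModuleCat.hom_ext (LinearMap.toSpanSingleton_smul c v)
  let φ : ∀ V : FGModuleCat.{u} K, V₀ ⊗[K] V →ₗ[K] L.obj V := fun V =>
    TensorProduct.lift (LinearMap.flip
      { toFun := fun v => (L.map (ev V v)).hom
        map_add' := fun v w => by rw [hev_add, L.map_add]; rfl
        map_smul' := fun c v => by rw [hev_smul, L.map_smul]; rfl })
  have hφ : ∀ (V : FGModuleCat.{u} K) (x : V₀) (v : V), φ V (x ⊗ₜ[K] v) = (L.map (ev V v)).hom x := fun V x v => rfl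
  have hbij : ∀ V, Function.Bijective (φ V) := by
    intro V
    let b := Module.Free.chooseBasis K V
    let co : Module.Free.ChooseBasisIndex K V → (V ⟶ K₀) := fun i => ObjectProperty.homMk (ModuleCat.ofHom (b.coord i))
    let ψ : L.obj V →ₗ[K] V₀ ⊗[K] V := ∑ i, ((TensorProduct.mk K V₀ V).flip (b i)).comp (L.map (co i)).hom
    have hψ : ∀ y, ψ y = ∑ i, (L.map (co i)).hom y ⊗ₜ[K] b i := fun y => by simp [ψ]
    have h1 : ∀ z, ψ (φ V z) = z := fun z => by
      induction z using TensorProduct.induction_on with
      | zero => rw [map_zero, map_zero]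
      | add z w hz hw => rw [map_add, map_add, hz, hw]
      | tmul x v =>
        rw [hψ, hφ]
        have hc : ∀ i, (L.map (co i)).hom ((L.map (ev V v)).hom x) = b.coord i v • x := fun i => by
          have e : ev V v ≫ co i = b.coord i v • 𝟙 K₀ := FGModuleCat.hom_ext (LinearMap.ext fun (c : K) => by
            change b.coord i (c • v) = b.coord i v • c
            rw [map_smul, smul_eq_mul, smul_eq_mul, mul_comm])
          change (L.map (ev V v) ≫ L.map (co i)).hom x = _
          rw [← L.map_comp, e, L.map_smul, CategoryTheory.Functor.map_id]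
          rfl
        simp only [hc, TensorProduct.smul_tmul]
        rw [← TensorProduct.tmul_sum]
        congr 1
        exact b.sum_repr v
    have h2 : ∀ y, φ V (ψ y) = y := fun y => by
      have e : ∑ i, co i ≫ ev V (b i) = 𝟙 V := FGModuleCat.hom_ext (LinearMap.ext fun (v : V) => by
        have hs : (∑ i, co i ≫ ev V (b i)).hom.hom = ∑ i, (co i ≫ ev V (b i)).hom.hom := by
          let ad : (V ⟶ V) →+ (V →ₗ[K] V) :=
            { toFun := fun f => f.hom.hom, map_zero' := rfl, map_add' := fun _ _ => rfl }
          exact map_sum ad _ _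
        rw [hs, LinearMap.sum_apply]
        exact b.sum_repr v)
      rw [hψ, map_sum]
      simp only [hφ]
      have := congrArg (fun f => (L.map f).hom y) e
      simp only [L.map_sum, CategoryTheory.Functor.map_id] at this
      rw [ModuleCat.hom_sum, LinearMap.sum_apply] at this
      simp only [L.map_comp] at this
      exact this
    exact ⟨Function.LeftInverse.injective h1, Function.RightInverse.surjective h2⟩
  let e : ∀ V : FGModuleCat.{u} K,
      ((ModuleCat.isFG.{u} K).ι ⋙ MonoidalCategory.tensorLeft (L.obj (FGModuleCat.of K K))).obj V ≅ L.obj V :=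
    fun V => (LinearEquiv.ofBijective (φ V) (hbij V)).toModuleIso
  refine ⟨(NatIso.ofComponents e fun {V W} f => ?_).symm⟩
  refine ModuleCat.hom_ext (TensorProduct.ext' fun (x : V₀) (v : V) => ?_)
  change φ W (x ⊗ₜ[K] f.hom.hom v) = (L.map f).hom (φ V (x ⊗ₜ[K] v))
  rw [hφ, hφ]
  have he : ev W (f.hom.hom v) = ev V v ≫ f := FGModuleCat.hom_ext (LinearMap.ext fun (c : K) => by
    change c • f.hom.hom v = f.hom.hom (c • v)
    rw [map_smul])
  rw [he, L.map_comp]
  rfl

end Groth.Agent.S12754
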