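import Groth.Statements.S1278
import Groth.Agent.FlatMorOne.FlatLocusBaseChange

set_option autoImplicit false
universe u
open TensorProduct
open FlatMor

namespace Groth.Agent.S1278

section Helpers

open TensorProduct Groth.FlatMorOne

set_option synthInstance.maxHeartbeats 200000 in
/-- Over a finite extension of algebras, flatness at a prime below is flatness at all primes above. -/
theorem flat_localized_iff_of_isIntegral {A S T N : Type u} [CommRing A] [CommRing S] [CommRing T] [Algebra A S]
    [Algebra A T] [Algebra S T] [IsScalarTower A S T] [Algebra.IsIntegral S T] [AddCommGroup N] [Module T N]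
    [Module S N] [IsScalarTower S T N] [Module A N] [IsScalarTower A S N] [IsScalarTower A T N]
    (q : Ideal S) [q.IsPrime] :
    Module.Flat A (LocalizedModule q.primeCompl N) ↔
      ∀ (Q : Ideal T) [Q.IsPrime], Q.comap (algebraMap S T) = q →
        Module.Flat A (LocalizedModule Q.primeCompl N) := by
  constructor
  · intro h Q _ hQ
    subst hQ
    exact flat_localized_baseChange (B := A) (algebraMap S T) (IsBaseChange.ofEquiv (LinearEquiv.refl A N))
      (fun s m => (algebraMap_smul T s m).symm) Q
  · intro h
    rw [Module.Flat.iff_lTensor_preserves_injective_linearMap]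
    intro X Y _ _ _ _ f hf
    refine lTensor_localized_injective_of_killed _ _ fun z hz => ?_
    by_contra hne
    push Not at hne
    let I : Ideal T :=
      { carrier := {t | t • z = 0}
        add_mem' := fun {a b} (ha : a • z = 0) (hb : b • z = 0) => by
          show (a + b) • z = 0
          rw [add_smul, ha, hb, add_zero]
        zero_mem' := zero_smul _ _
        smul_mem' := fun c a (ha : a • z = 0) => by
          show (c • a) • z = 0
          rw [smul_eq_mul, mul_smul, ha, smul_zero] }
    have hsz : ∀ (s : S), algebraMap S T s • z = s • z := fun s => by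
      clear hz hne I
      induction z using TensorProduct.induction_on with
      | zero => simp
      | tmul m x => rw [smul_tmul', smul_tmul', algebraMap_smul]
      | add a b ha hb => rw [smul_add, smul_add, ha, hb]
    have hI : I.comap (algebraMap S T) ≤ q := fun s (hs : algebraMap S T s • z = 0) => by
      by_contra hsq
      exact hne s hsq (by rw [← hsz, hs])
    obtain ⟨Q, hIQ, hQ, hQq⟩ := Ideal.exists_ideal_over_prime_of_isIntegral q I hI
    have := h Q hQq
    obtain ⟨t, ht, htz⟩ := exists_smul_eq_zero_of_flat_localized Q f hf z hz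
    exact ht (hIQ htz)

end Helpers


open IsLocalRing in
/-- Let A be a local ring and B → C a finite local homomorphism of local A-algebras (A → B local), and N
a C-module, viewed also as a B-module. For every local homomorphism of local rings A → A', with base
changes B', C' of B, C and base changes M' (of N over B') and N' (of N over C'): M' is flat over A'
at every prime of B' containing 𝔪_{A'}B' + 𝔪_B B' if and only if N' is flat over A' at every prime
of C' containing 𝔪_{A'}C' + 𝔪_C C'. -/
theorem result {A B C : Type u} [CommRing A] [IsLocalRing A] [CommRing B] [IsLocalRing B] [CommRing C] [IsLocalRing C]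
    [Algebra A B] [IsLocalHom (algebraMap A B)] [Algebra B C] [IsLocalHom (algebraMap B C)] [Algebra A C] [IsScalarTower A B C] [Module.Finite B C]
    (N : Type u) [AddCommGroup N] [Module C N] [Module B N] [IsScalarTower B C N]
    (A' : Type u) [CommRing A'] [IsLocalRing A'] [Algebra A A'] [IsLocalHom (algebraMap A A')]
    (B' M' : Type u) [CommRing B'] [Algebra B B'] [Algebra A' B'] [Algebra A B'] [IsScalarTower A B B'] [IsScalarTower A A' B']
        [Algebra.IsPushout A B A' B']
        [AddCommGroup M'] [Module B' M'] [Module B M'] [IsScalarTower B B' M'] [Module A' M'] [IsScalarTower A' B' M']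
        (fB : N →ₗ[B] M') (hfB : IsBaseChange B' fB)
    (C' N' : Type u) [CommRing C'] [Algebra C C'] [Algebra A' C'] [Algebra A C'] [IsScalarTower A C C'] [IsScalarTower A A' C']
        [Algebra.IsPushout A C A' C']
        [AddCommGroup N'] [Module C' N'] [Module C N'] [IsScalarTower C C' N'] [Module A' N'] [IsScalarTower A' C' N']
        (fC : N →ₗ[C] N') (hfC : IsBaseChange C' fC) :
    FlatCA.FlatAboveClosedPoints B A' B' M' ↔ FlatCA.FlatAboveClosedPoints C A' C' N' := by
  let φ : B' →ₐ[A] C' :=
    Algebra.pushoutDesc B' ((IsScalarTower.toAlgHom A C C').comp (IsScalarTower.toAlgHom A B C))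
      (IsScalarTower.toAlgHom A A' C') fun _ _ => mul_comm _ _
  have hφB : ∀ b, φ (algebraMap B B' b) = algebraMap C C' (algebraMap B C b) := fun b =>
    Algebra.pushoutDesc_left _ _ _ _ b
  have hφA : ∀ a, φ (algebraMap A' B' a) = algebraMap A' C' a := fun a =>
    Algebra.pushoutDesc_right _ _ _ _ a
  let _ : Algebra B' C' := φ.toRingHom.toAlgebra
  let _ : Algebra B C' := ((algebraMap C C').comp (algebraMap B C)).toAlgebra
  have : IsScalarTower B C C' := .of_algebraMap_eq fun _ => rfl
  have : IsScalarTower B B' C' := .of_algebraMap_eq fun b => (hφB b).symm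
  have : IsScalarTower A' B' C' := .of_algebraMap_eq fun a => (hφA a).symm
  have : IsScalarTower A B' C' := .of_algebraMap_eq fun a => (φ.commutes a).symm
  have : IsScalarTower A B C' := .of_algebraMap_eq fun a => by
    rw [IsScalarTower.algebraMap_apply B C C', ← IsScalarTower.algebraMap_apply A B C,
      ← IsScalarTower.algebraMap_apply A C C']
  have : Algebra.IsPushout A A' B B' := Algebra.IsPushout.symm inferInstance
  have : Algebra.IsPushout A A' C C' := Algebra.IsPushout.symm inferInstance
  have : Algebra.IsPushout A B A' B' := inferInstance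
  have : Algebra.IsPushout B C B' C' :=
    (Algebra.IsPushout.comp_iff (R := A) (S := B) (R' := A') (S' := B') (T := C) (T' := C')).mp inferInstance
  have : Algebra.IsPushout B B' C C' := Algebra.IsPushout.symm inferInstance
  have : Module.Finite B' C' := by
    have : Module.Finite B' (B' ⊗[B] C) := inferInstance
    exact Module.Finite.equiv (Algebra.IsPushout.equiv B B' C C').toLinearEquiv
  have : Algebra.IsIntegral B' C' := Algebra.IsIntegral.of_finite B' C'
  let _ : Module B' N' := Module.compHom N' (algebraMap B' C')
  have : IsScalarTower B' C' N' := IsScalarTower.of_algebraMap_smul fun _ _ => rfl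
  have : IsScalarTower A' B' N' := IsScalarTower.of_algebraMap_smul fun a x => by
    rw [← algebraMap_smul C' (algebraMap A' B' a) x, ← IsScalarTower.algebraMap_apply, algebraMap_smul]
  let _ : Module B N' := Module.compHom N' (algebraMap B B')
  have : IsScalarTower B B' N' := IsScalarTower.of_algebraMap_smul fun _ _ => rfl
  have : IsScalarTower B C N' := IsScalarTower.of_algebraMap_smul fun b x => by
    rw [← algebraMap_smul C' (algebraMap B C b) x, ← hφB, ← IsScalarTower.algebraMap_smul B' b x,
      ← algebraMap_smul C' (algebraMap B B' b) x]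
    rfl
  -- `N'` is also the base change of `N` along `B → B'`
  let eN : N' ≃ₗ[B'] B' ⊗[B] N :=
    (hfC.equiv.symm.restrictScalars B').trans (Algebra.IsPushout.cancelBaseChange B B' C C' N)
  have hN : IsBaseChange B' (fC.restrictScalars B) := IsBaseChange.of_equiv eN.symm fun n => by
    rw [LinearEquiv.symm_apply_eq]
    show (1 : B') ⊗ₜ[B] n = _
    simp [eN, IsBaseChange.equiv_symm_apply]
  let e : M' ≃ₗ[B'] N' := hfB.equiv.symm.trans hN.equiv
  have hMN : ∀ (q : Ideal B') [q.IsPrime], Module.Flat A' (LocalizedModule q.primeCompl M') ↔
      Module.Flat A' (LocalizedModule q.primeCompl N') := fun q _ =>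
    Module.Flat.equiv_iff ((IsLocalizedModule.mapEquiv q.primeCompl (LocalizedModule.mkLinearMap q.primeCompl M')
      (LocalizedModule.mkLinearMap q.primeCompl N') (Localization q.primeCompl) e).restrictScalars A')
  have hrad : ∀ (P : Ideal C) [P.IsPrime], (IsLocalRing.maximalIdeal B).map (algebraMap B C) ≤ P →
      P = IsLocalRing.maximalIdeal C := by
    intro P hP hle
    have h1 : P.comap (algebraMap B C) = IsLocalRing.maximalIdeal B :=
      ((IsLocalRing.maximalIdeal.isMaximal B).eq_of_le (Ideal.IsPrime.comap _).ne_top
        (Ideal.map_le_iff_le_comap.mp hle)).symm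
    have : Algebra.IsIntegral B C := Algebra.IsIntegral.of_finite B C
    exact IsLocalRing.eq_maximalIdeal
      (Ideal.isMaximal_of_isIntegral_of_isMaximal_comap (R := B) P (h1 ▸ IsLocalRing.maximalIdeal.isMaximal B))
  have hprimes : ∀ (Q : Ideal C') [Q.IsPrime],
      (IsLocalRing.maximalIdeal A').map (algebraMap A' B') ⊔
          (IsLocalRing.maximalIdeal B).map (algebraMap B B') ≤ Q.comap (algebraMap B' C') ↔
        (IsLocalRing.maximalIdeal A').map (algebraMap A' C') ⊔
          (IsLocalRing.maximalIdeal C).map (algebraMap C C') ≤ Q := by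
    intro Q _
    rw [sup_le_iff, sup_le_iff, ← Ideal.map_le_iff_le_comap, ← Ideal.map_le_iff_le_comap, Ideal.map_map,
      Ideal.map_map, ← IsScalarTower.algebraMap_eq, ← IsScalarTower.algebraMap_eq,
      IsScalarTower.algebraMap_eq B C C', ← Ideal.map_map, Ideal.map_le_iff_le_comap (f := algebraMap C C'),
      Ideal.map_le_iff_le_comap (f := algebraMap C C')]
    refine and_congr_right fun _ => ⟨fun h => (hrad _ h).ge, fun h => le_trans ?_ h⟩
    exact Ideal.map_le_iff_le_comap.mpr
      (((IsLocalRing.local_hom_TFAE (algebraMap B C)).out 0 4 rfl rfl).1 ‹_›).ge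
  constructor
  · intro h Q _ hQ
    exact (flat_localized_iff_of_isIntegral (Q.comap (algebraMap B' C'))).mp
      ((hMN _).mp (h _ ((hprimes Q).mpr hQ))) Q rfl
  · intro h q _ hq
    refine (hMN q).mpr ((flat_localized_iff_of_isIntegral (T := C') q).mpr fun Q _ hQ => h Q ((hprimes Q).mp ?_))
    rw [hQ]
    exact hq

end Groth.Agent.S1278
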