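import Groth.Statements.S12794
import Groth.Agent.StkBase.Descent

set_option autoImplicit false
set_option backward.isDefEq.respectTransparency false
set_option backward.isDefEq.respectTransparency.types false
open CategoryTheory
universe w v u
open Stk

namespace Groth.Agent.S12794

/-- Let `𝒳`, `𝒴` be stacks in groupoids over `C` for the topology `J` and `F : 𝒳 ⟶ 𝒴` a functor over `C`
whose underlying functor is fully faithful. Then `F` is an equivalence over `C` if and only if every
object `y` of `𝒴` is locally in the essential image: there is a covering sieve `R` of the object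
under `y` such that for every arrow `f` of `R` some object `x` of `𝒳` has a morphism `F x ⟶ y` lying
over `f` (equivalently, the pullback of `y` along `f` is isomorphic in its fibre to an object in the
image of `F`). (The published statement is for stacks over the site, not necessarily in groupoids,
and 1-morphisms of stacks; this row treats stacks in groupoids.) -/
theorem result {C : Type u} [Category.{v} C] (J : GrothendieckTopology C) {𝒳 𝒴 : BasedCategory.{v, max u v} C}
    (h𝒳 : Stk.IsStack J 𝒳) (h𝒴 : Stk.IsStack J 𝒴) (F : 𝒳 ⥤ᵇ 𝒴) [F.toFunctor.Full] [F.toFunctor.Faithful] :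
    FibCat.IsEquivOver F ↔
      ∀ y : 𝒴.obj, ∃ R ∈ J (𝒴.p.obj y), ∀ ⦃V : C⦄ (f : V ⟶ 𝒴.p.obj y), R f →
        ∃ (x : 𝒳.obj) (φ : F.obj x ⟶ y), 𝒴.p.IsHomLift f φ := by
  open Groth.StkBase in
  constructor
  · intro hF y
    obtain ⟨x, φ, hφ⟩ := exists_vert_preimage hF y
    refine ⟨⊤, J.top_mem _, fun V f _ => ?_⟩
    obtain ⟨x', l, hl, he⟩ := exists_lift' h𝒳.1 (x := x) (f ≫ eqToHom (hφ.obj_eq.symm.trans (F.w_obj x)))
    refine ⟨x', F.map l ≫ φ.hom, (isHomLift_iff_eqToHom _ _).2 ⟨(F.w_obj x').trans hl, rfl, ?_⟩⟩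
    simp [map_map, hφ.map_eq, he]
  · intro h
    refine isEquivOver_of_fullyFaithful F inferInstance inferInstance fun y => ?_
    obtain ⟨R, hR, hl⟩ := h y
    obtain ⟨i, hi⟩ := overFunctor_eval h𝒴.1 y rfl
    let O := overFunctor h𝒴.1 y rfl
    obtain ⟨K, ⟨eK⟩⟩ := exists_lift_through F (BasedFunctor.comp (Stk.sieveIncl R) O) fun a => by
      obtain ⟨x, φ, hφ⟩ := hl a.obj.hom a.property
      obtain ⟨ha, hb', hp⟩ := (isHomLift_iff_eqToHom _ _).1 hφ
      obtain ⟨j, hj, -⟩ := exists_vert_iso_of_lifts h𝒴.1 φ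
        (O.map (toId ((Stk.sieveIncl R).obj a)) ≫ i.hom)
        (ha.trans (O.w_obj _).symm) (by
          rw [hp, Functor.map_comp, map_map, hi.map_eq]
          simp
          rfl)
      exact ⟨x, j, hj⟩
    have : (Stk.resSieve R 𝒳).IsEquivalence := h𝒳.2 R hR
    have : (Stk.resSieve R 𝒴).IsEquivalence := h𝒴.2 R hR
    let G := (Stk.resSieve R 𝒳).objPreimage K
    let e : BasedFunctor.comp G F ≅ O := (Stk.resSieve R 𝒴).preimageIso
      ((whiskerRightIso ((Stk.resSieve R 𝒳).objObjPreimageIso K) F).trans eK)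
    exact ⟨G.obj (idObj _), isoApp e _ ≪≫ i, (isVert_isoApp e _).comp hi⟩

end Groth.Agent.S12794
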