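import Groth.Statements.S12800
import Groth.Agent.CategoryFibred.Functors

set_option autoImplicit false
open CategoryTheory
universe v u
open FibCat

namespace Groth.Agent.S12800
set_option backward.isDefEq.respectTransparency false
set_option backward.isDefEq.respectTransparency.types false


/-- For categories `𝒮`, `𝒯` fibred in groupoids over `C`, a category `ℛ` fibred in setoids over `C`, a
functor `f : 𝒯 ⟶ 𝒮` over `C` with faithful underlying functor and a functor `g : ℛ ⟶ 𝒮` over `C`,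
the 2-fibre product `𝒯 ×_𝒮 ℛ` over `C` is fibred in setoids. (The published statement takes stacks
in groupoids over a site and concludes a stack in setoids; the stack property of the 2-fibre product
is the separate result on 2-fibre products of stacks in groupoids, and the setoid property stated
here needs no topology.) -/
theorem result {C : Type u} [Category.{v} C] {𝒮 𝒯 ℛ : BasedCategory.{v, max u v} C}
    (h𝒮 : FibCat.IsFibGrpd 𝒮.p) (h𝒯 : FibCat.IsFibGrpd 𝒯.p) (hℛ : FibCat.IsFibSetoid ℛ.p) (f : 𝒯 ⥤ᵇ 𝒮) [f.toFunctor.Faithful] (g : ℛ ⥤ᵇ 𝒮) :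
    FibCat.IsFibSetoid (FibCat.fp f g).p := by
  refine ⟨Groth.CatFib.isFibGrpd_fp h𝒯 hℛ.1 h𝒮, fun U a b => ⟨fun φ ψ => ?_⟩⟩
  have hφ : (FibCat.fp f g).p.IsHomLift (𝟙 U) φ.1 := φ.2
  have hψ : (FibCat.fp f g).p.IsHomLift (𝟙 U) ψ.1 := ψ.2
  let A : ℛ.p.Fiber U := ⟨a.1.obj.snd, (Groth.CatFib.fp_obj_snd a.1).trans a.2⟩
  let B : ℛ.p.Fiber U := ⟨b.1.obj.snd, (Groth.CatFib.fp_obj_snd b.1).trans b.2⟩
  have e2 : φ.1.hom.snd = ψ.1.hom.snd := congrArg Subtype.val ((hℛ.2 U A B).elim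
    ⟨φ.1.hom.snd, Groth.CatFib.fp_isHomLift_snd' (𝟙 U) φ.1⟩
    ⟨ψ.1.hom.snd, Groth.CatFib.fp_isHomLift_snd' (𝟙 U) ψ.1⟩)
  apply Subtype.ext
  apply Groth.CatFib.fp_hom_ext _ e2
  apply f.toFunctor.map_injective
  rw [← cancel_mono b.1.obj.iso.hom, φ.1.hom.w, ψ.1.hom.w, e2]

end Groth.Agent.S12800
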