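import Groth.Statements.S12802
import Groth.Agent.StkGerb.Relative

set_option autoImplicit false
set_option backward.isDefEq.respectTransparency false
set_option backward.isDefEq.respectTransparency.types false
open CategoryTheory
universe v u
open Stk

namespace Groth.Agent.S12802

/-- Let `F : 𝒳 ⟶ 𝒴` be a functor over `C` between categories fibred in groupoids over `C` and endow `𝒳`
and `𝒴` with the topologies inherited from the topology `J` on `C` (generated by the sieves whose
image in `C` covers). Then `F` maps covering sieves to families generating covering sieves, lifts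
coverings (it is cocontinuous), and precomposition with `F` sends sheaves of types on `𝒴` to sheaves
on `𝒳` (it is continuous). (The published statement is for a 1-morphism of fibred categories with
the inherited topologies; this row is the case of categories fibred in groupoids, and the published
statement phrases continuity through the fibre products of covering families and deduces a morphism
of topoi whose inverse image is precomposition with `F`, which is not stated here.) -/
theorem result {C : Type u} [Category.{v} C] (J : GrothendieckTopology C) {𝒳 𝒴 : BasedCategory.{v, max u v} C}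
    (h𝒳 : FibCat.IsFibGrpd 𝒳.p) (h𝒴 : FibCat.IsFibGrpd 𝒴.p) (F : 𝒳 ⥤ᵇ 𝒴) :
    CoverPreserving (𝒳.p.restrictedTopology J) (𝒴.p.restrictedTopology J) F.toFunctor ∧
      F.toFunctor.IsCocontinuous (𝒳.p.restrictedTopology J) (𝒴.p.restrictedTopology J) ∧
      F.toFunctor.IsContinuous (𝒳.p.restrictedTopology J) (𝒴.p.restrictedTopology J) := by
  have cp : CoverPreserving (𝒳.p.restrictedTopology J) (𝒴.p.restrictedTopology J) F.toFunctor := ⟨fun {x S} hS => by
    obtain ⟨R, hR, rfl⟩ := Groth.StkGerb.exists_of_mem_restrictedTopology h𝒳 hS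
    apply Functor.mem_restrictedTopology_of_functorPushforward_mem
    have hR' : (R.pullback (eqToHom (F.w_obj x))) ∈ J _ := J.pullback_stable _ hR
    refine J.superset_covering ?_ hR'
    intro V f hf
    obtain ⟨y₁, l, h₁, hl⟩ := Groth.StkBase.exists_lift' h𝒳 (x := x) (f ≫ eqToHom (F.w_obj x))
    refine ⟨F.obj y₁, F.map l, eqToHom (h₁.symm.trans (F.w_obj y₁).symm), ⟨y₁, l, 𝟙 _, ?_, (Category.id_comp _).symm⟩, ?_⟩
    · show R (𝒳.p.map l)
      rw [hl]
      exact R.downward_closed hf _
    · rw [Groth.StkBase.map_map, hl]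
      simp⟩
  have co : F.toFunctor.IsCocontinuous (𝒳.p.restrictedTopology J) (𝒴.p.restrictedTopology J) := ⟨fun {x S} hS => by
    obtain ⟨R, hR, rfl⟩ := Groth.StkGerb.exists_of_mem_restrictedTopology h𝒴 hS
    have hR' : (R.pullback (eqToHom (F.w_obj x).symm)) ∈ J _ := J.pullback_stable _ hR
    refine GrothendieckTopology.superset_covering _ ?_ (Groth.StkGerb.mem_restrictedTopology h𝒳 hR')
    intro V f hf
    show R (𝒴.p.map (F.map f))
    rw [Groth.StkBase.map_map]
    exact R.downward_closed hf _⟩
  refine ⟨cp, co, Functor.isContinuous_of_coverPreserving ⟨fun ℱ Z T x hx Y₁ Y₂ X f₁ f₂ g₁ g₂ hg₁ hg₂ eq => ?_⟩ cp⟩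
  obtain ⟨z, l₁, hz, hl₁⟩ := Groth.StkBase.exists_lift' h𝒳 (x := Y₁) (𝒴.p.map f₁ ≫ eqToHom (F.w_obj Y₁))
  obtain ⟨i, hi, hi'⟩ := Groth.StkBase.exists_vert_iso_of_lifts h𝒴 (F.map l₁) f₁ ((F.w_obj z).trans hz)
    (by rw [Groth.StkBase.map_map, hl₁]; simp)
  have e0 := congrArg 𝒴.p.map eq
  rw [Functor.map_comp, Functor.map_comp, Groth.StkBase.map_map, Groth.StkBase.map_map] at e0
  let l₂ := Groth.StkBase.factor h𝒳 g₂ (l₁ ≫ g₁) (eqToHom hz ≫ 𝒴.p.map f₂ ≫ eqToHom (F.w_obj Y₂)) (by
    rw [Functor.map_comp, hl₁]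
    rw [← cancel_mono (eqToHom (F.w_obj Z).symm)]
    simpa using congrArg (eqToHom hz ≫ ·) e0.symm)
  have hl₂ : l₂ ≫ g₂ = l₁ ≫ g₁ := Groth.StkBase.factor_comp h𝒳 _ _ _ _
  have hF₂ : F.map l₂ = i.hom ≫ f₂ := by
    apply Groth.StkBase.hom_eq_of_comp_eq h𝒴 (F.map g₂)
    · rw [Functor.map_comp, Groth.StkBase.map_map, Groth.StkBase.factor_map, hi.map_eq]
      simp
    · rw [Category.assoc, ← eq, ← Category.assoc, hi', ← Functor.map_comp, hl₂, Functor.map_comp]
  have key := hx l₁ l₂ hg₁ hg₂ hl₂.symm
  change ℱ.obj.map (F.map l₁).op (x g₁ hg₁) = ℱ.obj.map (F.map l₂).op (x g₂ hg₂) at key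
  rw [← hi', hF₂] at key
  simp only [op_comp, Functor.map_comp, types_comp_apply] at key
  have k2 := congrArg (ℱ.obj.map i.inv.op) key
  simp only [← Functor.map_comp_apply, ← op_comp, Iso.inv_hom_id_assoc] at k2
  exact k2

end Groth.Agent.S12802
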