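import Groth.Statements.S12803
import Groth.Agent.StkGerb.Relative

set_option autoImplicit false
set_option backward.isDefEq.respectTransparency false
set_option backward.isDefEq.respectTransparency.types false
open CategoryTheory
universe v₂ u₂ v u
open Stk

namespace Groth.Agent.S12803

/-- Let `p : 𝒳 ⥤ C` make `𝒳` fibred in groupoids over `C`, let `J` be a topology on `C` and `x` an
object of `𝒳`. The functor `𝒳/x ⥤ C/p(x)` induced by `p` is an equivalence of categories, and it
identifies the localisation at `x` of the topology on `𝒳` inherited from `J` with the localisation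
of `J` at `p x`: a sieve on an object of `𝒳/x` covers if and only if its image covers. -/
theorem result {C : Type u} [Category.{v} C] {𝒳 : Type u₂} [Category.{v₂} 𝒳] (p : 𝒳 ⥤ C)
    (hp : FibCat.IsFibGrpd p) (J : GrothendieckTopology C) (x : 𝒳) :
    (Over.post p : Over x ⥤ Over (p.obj x)).IsEquivalence ∧
      ∀ (a : Over x) (S : Sieve a), S ∈ (p.restrictedTopology J).over x a ↔
        S.functorPushforward (Over.post p) ∈ (J.over (p.obj x)) ((Over.post p).obj a) := by
  have : (Over.post p : Over x ⥤ Over (p.obj x)).Full := ⟨fun {a b} g => by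
      have hw : g.left ≫ p.map b.hom = p.map a.hom := Over.w g
      refine ⟨Over.homMk (Groth.StkBase.factor hp b.hom a.hom g.left hw)
        (Groth.StkBase.factor_comp hp b.hom a.hom g.left hw), Over.OverMorphism.ext ?_⟩
      exact Groth.StkBase.factor_map hp b.hom a.hom g.left hw⟩
  have : (Over.post p : Over x ⥤ Over (p.obj x)).Faithful := ⟨fun {a b} f g e =>
      Over.OverMorphism.ext (Groth.StkBase.hom_eq_of_comp_eq hp b.hom (congrArg (fun k => k.left) e)
        ((Over.w f).trans (Over.w g).symm))⟩
  have : (Over.post p : Over x ⥤ Over (p.obj x)).EssSurj := ⟨fun o => by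
      obtain ⟨y, φ, h, e⟩ := Groth.StkBase.exists_lift' hp (x := x) o.hom
      exact ⟨Over.mk φ, ⟨Over.isoMk (eqToIso h) e.symm⟩⟩⟩
  refine ⟨{ }, fun a S => ?_⟩
  rw [GrothendieckTopology.mem_over_iff, GrothendieckTopology.mem_over_iff, Sieve.overEquiv_functorPushforward_post]
  constructor
  · intro h
    obtain ⟨R, hR, e⟩ := Groth.StkGerb.exists_of_mem_restrictedTopology hp h
    rw [e]
    refine J.superset_covering ?_ hR
    intro V f hf
    obtain ⟨y₁, l, h₁, hl⟩ := Groth.StkBase.exists_lift' hp (x := a.left) f
    refine ⟨y₁, l, eqToHom h₁.symm, ?_, by simp [hl]⟩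
    show R (p.map l)
    rw [hl]
    exact R.downward_closed hf _
  · exact fun h => p.mem_restrictedTopology_of_functorPushforward_mem h

end Groth.Agent.S12803
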