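import Groth.Statements.S12806
import Groth.Agent.CategoryFibred.Functors

set_option autoImplicit false
open CategoryTheory
universe v u
open FibCat

namespace Groth.Agent.S12806
set_option backward.isDefEq.respectTransparency false
set_option backward.isDefEq.respectTransparency.types false


/-- Let `𝒮` be fibred in groupoids over `C`, `U` an object of `C` and `x, y : C/U ⟶ 𝒮` two functors over
`C` (objects over `U` in 2-Yoneda form), with `e` the 2-isomorphism identifying their composites
with the structure functor. Then the 2-fibre product over `C` of `(x, y) : C/U ⟶ 𝒮 ×_C 𝒮` with the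
diagonal `𝒮 ⟶ 𝒮 ×_C 𝒮` is fibred in setoids over `C/U` through its first projection. (The published
statement is for a fibred category with `x`, `y` the functors given by chosen pullbacks; this row is
the case of a category fibred in groupoids, where every functor over `C` out of `C/U` is of that
kind.) -/
theorem result {C : Type u} [Category.{v} C] {𝒮 : BasedCategory.{v, max u v} C} (h𝒮 : FibCat.IsFibGrpd 𝒮.p)
    (U : C) (x y : FibCat.overCat U ⥤ᵇ 𝒮)
    (e : BasedFunctor.comp x (FibCat.toSelf 𝒮) ≅ BasedFunctor.comp y (FibCat.toSelf 𝒮)) :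
    FibCat.IsFibSetoid (FibCat.fpFst (FibCat.fpLift x y e) (FibCat.diag (FibCat.toSelf 𝒮))).toFunctor := by
  have hC : FibCat.IsFibGrpd (FibCat.selfOver C).p := Groth.CatFib.isFibSet_selfOver.1
  refine ⟨(Groth.CatFib.isFibGrpd_iff_comp (G := Over.forget U) (Groth.CatFib.isFibSet_overForget U) _).2
    (Groth.CatFib.isFibGrpd_fp (F := FibCat.fpLift x y e) (Groth.CatFib.isFibSet_overForget U).1 h𝒮
      (Groth.CatFib.isFibGrpd_fp h𝒮 h𝒮 hC)), fun V a b => ⟨fun φ ψ => ?_⟩⟩
  have e1 : φ.1.hom.fst = ψ.1.hom.fst := by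
    have h1 := φ.2
    have h2 := ψ.2
    have k1 := IsHomLift.fac' (FibCat.fpFst (FibCat.fpLift x y e) (FibCat.diag (FibCat.toSelf 𝒮))).toFunctor (𝟙 V) φ.1
    have k2 := IsHomLift.fac' (FibCat.fpFst (FibCat.fpLift x y e) (FibCat.diag (FibCat.toSelf 𝒮))).toFunctor (𝟙 V) ψ.1
    exact k1.trans k2.symm
  have key : (FibCat.diag (FibCat.toSelf 𝒮)).toFunctor.map φ.1.hom.snd =
      (FibCat.diag (FibCat.toSelf 𝒮)).toFunctor.map ψ.1.hom.snd := by
    rw [← cancel_epi a.1.obj.iso.hom, ← φ.1.hom.w, ← ψ.1.hom.w, e1]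
  exact Subtype.ext (Groth.CatFib.fp_hom_ext e1 (congrArg (fun k => k.hom.fst) key))

end Groth.Agent.S12806
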