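import Groth.Statements.S12807


set_option autoImplicit false
open CategoryTheory CategoryTheory.Limits
universe v₃ u₃ v₂ u₂ v u
open FibCat

namespace Groth.Agent.S12807
set_option backward.isDefEq.respectTransparency false
set_option backward.isDefEq.respectTransparency.types false


/-- Let `u : C ⥤ D` be a functor and `𝒮` a category over `D` whose structure functor is a fibred
category. Then the 2-fibre product `C ×_D 𝒮` of `u` and the structure functor (triples `(U, y, u U ≅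
p y)`), with its first projection, is a fibred category over `C`. (The published statement uses the
strict fibre product, pairs with `u U = p y`; for `𝒮` fibred over `D` it is equivalent over `C` to
the 2-fibre product used here.) -/
theorem result {C : Type u} [Category.{v} C] {D : Type u₂} [Category.{v₂} D] (u : C ⥤ D)
    (𝒮 : BasedCategory.{v₃, u₃} D) [𝒮.p.IsFibered] :
    (CategoricalPullback.π₁ u 𝒮.p).IsFibered := by
  refine Functor.IsFibered.of_exists_isStronglyCartesian fun x U' g => ?_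
  obtain ⟨b, φ, hφ⟩ := IsPreFibered.exists_isCartesian 𝒮.p (rfl : 𝒮.p.obj x.snd = _) (u.map g ≫ x.iso.hom)
  have hb : 𝒮.p.obj b = u.obj U' := IsHomLift.domain_eq 𝒮.p (u.map g ≫ x.iso.hom) φ
  let x' : CategoricalPullback u 𝒮.p := ⟨U', b, eqToIso hb.symm⟩
  let m : x' ⟶ x := ⟨g, φ, by
    have := IsHomLift.fac' 𝒮.p (u.map g ≫ x.iso.hom) φ
    simp [x', this]⟩
  refine ⟨x', m, ?_⟩
  have hm : (CategoricalPullback.π₁ u 𝒮.p).IsHomLift g m := IsHomLift.map (CategoricalPullback.π₁ u 𝒮.p) m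
  refine { universal_property' := fun {z} h ψ hψ => ?_ }
  have he : h ≫ g = ψ.fst := IsHomLift.eq_of_isHomLift (CategoricalPullback.π₁ u 𝒮.p) _ ψ
  have hp : (z.iso.inv ≫ u.map h) ≫ u.map g ≫ x.iso.hom = 𝒮.p.map ψ.snd := by
    have w := ψ.w
    rw [← he, Functor.map_comp, Category.assoc] at w
    rw [Category.assoc]
    change z.iso.inv ≫ u.map h ≫ u.map g ≫ x.iso.hom = _
    erw [w]
    simp
  have : 𝒮.p.IsHomLift ((z.iso.inv ≫ u.map h) ≫ u.map g ≫ x.iso.hom) ψ.snd := by
    rw [hp]; infer_instance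
  obtain ⟨c, ⟨hc, ec⟩, hu⟩ := Functor.IsStronglyCartesian.universal_property 𝒮.p (u.map g ≫ x.iso.hom) φ
    (z.iso.inv ≫ u.map h) _ rfl ψ.snd
  let χ : z ⟶ x' := ⟨h, c, by
    have := IsHomLift.fac' 𝒮.p (z.iso.inv ≫ u.map h) c
    simp [x', this]⟩
  refine ⟨χ, ⟨IsHomLift.map (CategoricalPullback.π₁ u 𝒮.p) χ, CategoricalPullback.hom_ext he ec⟩, ?_⟩
  rintro τ ⟨hτ, hτ'⟩
  have e1 : h = τ.fst := IsHomLift.eq_of_isHomLift (CategoricalPullback.π₁ u 𝒮.p) h τ
  refine CategoricalPullback.hom_ext e1.symm (hu τ.snd ⟨?_, congrArg (fun k => k.snd) hτ'⟩)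
  refine IsHomLift.of_fac' 𝒮.p _ _ rfl hb ?_
  have w := τ.w
  rw [← e1] at w
  change u.map h ≫ eqToHom hb.symm = z.iso.hom ≫ 𝒮.p.map τ.snd at w
  rw [← Iso.inv_comp_eq] at w
  rw [← w]
  simp

end Groth.Agent.S12807
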