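import Groth.Statements.S8857
import Groth.Agent.RefRank.AdmBlowUp
import Groth.Agent.RefRank.StrictSheaf
import Groth.Agent.Divisors.IdealComap
import Groth.Agent.RefRank.FTIdealExtendOn
-- import your own Groth.Agent.* helpers here

set_option autoImplicit false
universe u
open CategoryTheory CategoryTheory.Limits AlgebraicGeometry TopologicalSpace
open SDiv

namespace Groth.Agent.S8857

/-- Let X be a quasi-compact and quasi-separated scheme, U, V ⊆ X quasi-compact open subschemes and 𝓘 a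
quasi-coherent ideal sheaf on V which is of finite type with support disjoint from U ∩ V (a blowing
up of V in 𝓘 is a (U ∩ V)-admissible blow-up). Then there is a quasi-coherent ideal sheaf 𝓙 on X, of
finite type with support disjoint from U, whose restriction to V is 𝓘; and every blowing up of X in
𝓙 restricts over V to a blowing up of V in 𝓘 (the U-admissible blow-up of X extends the given one of
V). -/
theorem result (X : Scheme.{u}) [CompactSpace ↥X] [QuasiSeparatedSpace ↥X]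
    (U V : X.Opens) (hU : IsCompact (U : Set ↥X)) (hV : IsCompact (V : Set ↥X))
    (𝓘 : (V : Scheme.{u}).IdealSheafData) (h𝓘 : BlowUp.IsAdmissibleFor (V.ι ⁻¹ᵁ U) 𝓘) :
    ∃ 𝓙 : X.IdealSheafData, BlowUp.IsAdmissibleFor U 𝓙 ∧ 𝓙.comap V.ι = 𝓘 ∧
      ∀ (X' : Scheme.{u}) (c : X' ⟶ X), BlowUp.IsBlowUp c 𝓙 → BlowUp.IsBlowUp (c ∣_ V) 𝓘 := by
  classical
  have := Groth.FlatMorOne.quasiCompact_ι hV
  let J₀ := 𝓘.map V.ι
  have hcomap : J₀.comap V.ι = 𝓘 := by
    refine le_antisymm (Scheme.IdealSheafData.comap_map_le _ _) fun B a ha => ?_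
    have hA : IsAffineOpen (V.ι ''ᵁ B.1) := B.2.image_of_isOpenImmersion V.ι
    have hpre : IsAffineOpen (V.ι ⁻¹ᵁ (V.ι ''ᵁ B.1)) := by rw [Scheme.Hom.preimage_image_eq]; exact B.2
    rw [Scheme.IdealSheafData.ideal_comap_of_isOpenImmersion,
      show J₀.ideal ⟨V.ι ''ᵁ B.1, hA⟩ = _ from Scheme.IdealSheafData.ideal_map 𝓘 V.ι ⟨_, hA⟩ (H := hpre),
      Ideal.comap_comap, ← CommRingCat.hom_comp, Ideal.mem_comap]
    have e : (V.ι.appIso B.1).inv ≫ V.ι.app (V.ι ''ᵁ B.1) =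
        (V : Scheme.{u}).presheaf.map (eqToHom (Scheme.Hom.preimage_image_eq V.ι B.1)).op :=
      Scheme.Hom.appIso_inv_app V.ι B.1
    rw [e]
    exact 𝓘.ideal_le_comap_ideal (U := ⟨_, hpre⟩) (V := B)
      (le_of_eq (Subtype.ext (Scheme.Hom.preimage_image_eq V.ι B.1))) ha
  have hdisj : Disjoint (J₀.support : Set X) (U : Set X) := by
    rw [Scheme.IdealSheafData.support_map]
    refine Disjoint.closure_left ?_ U.isOpen
    rw [Set.disjoint_left]
    rintro _ ⟨v, hv, rfl⟩ hvU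
    exact Set.disjoint_left.1 h𝓘.2 hv hvU
  obtain ⟨tU, htU⟩ : ∃ t : Finset X.affineOpens, (∀ A ∈ t, A.1 ≤ U) ∧
      ∀ x ∈ U, ∃ A ∈ t, x ∈ A.1 := by
    obtain ⟨t, ht⟩ := hU.elim_finite_subcover (fun A : {A : X.affineOpens // A.1 ≤ U} => (A.1.1 : Set X))
      (fun A => A.1.1.isOpen) fun x hx => by
        obtain ⟨A, hA, hxA, hAU⟩ := exists_isAffineOpen_mem_and_subset (show x ∈ U from hx)
        exact Set.mem_iUnion.2 ⟨⟨⟨A, hA⟩, hAU⟩, hxA⟩
    refine ⟨t.image Subtype.val, fun A hA => ?_, fun x hx => ?_⟩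
    · obtain ⟨A, -, rfl⟩ := Finset.mem_image.1 hA
      exact A.2
    · obtain ⟨A, hA, hxA⟩ := Set.mem_iUnion₂.1 (ht hx)
      exact ⟨A.1, Finset.mem_image_of_mem _ hA, hxA⟩
  obtain ⟨tV, htV⟩ : ∃ t : Finset X.affineOpens, (∀ A ∈ t, A.1 ≤ V) ∧
      ∀ x ∈ V, ∃ A ∈ t, x ∈ A.1 := by
    obtain ⟨t, ht⟩ := hV.elim_finite_subcover (fun A : {A : X.affineOpens // A.1 ≤ V} => (A.1.1 : Set X))
      (fun A => A.1.1.isOpen) fun x hx => by
        obtain ⟨A, hA, hxA, hAV⟩ := exists_isAffineOpen_mem_and_subset (show x ∈ V from hx)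
        exact Set.mem_iUnion.2 ⟨⟨⟨A, hA⟩, hAV⟩, hxA⟩
    refine ⟨t.image Subtype.val, fun A hA => ?_, fun x hx => ?_⟩
    · obtain ⟨A, -, rfl⟩ := Finset.mem_image.1 hA
      exact A.2
    · obtain ⟨A, hA, hxA⟩ := Set.mem_iUnion₂.1 (ht hx)
      exact ⟨A.1, Finset.mem_image_of_mem _ hA, hxA⟩
  have htop : ∀ A ∈ tU, J₀.ideal A = ⊤ := fun A hA =>
    Groth.RefRank.StrictSheaf.ideal_eq_top_of_notMem_support J₀ A fun y hy hys =>
      Set.disjoint_left.1 hdisj hys (htU.1 A hA hy)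
  have hfgV : ∀ A ∈ tV, (J₀.ideal A).FG := by
    intro A hA
    have hpre : IsAffineOpen (V.ι ⁻¹ᵁ A.1) :=
      A.2.preimage_of_isOpenImmersion V.ι (by simpa using htV.1 A hA)
    rw [Scheme.IdealSheafData.ideal_map 𝓘 V.ι A (H := hpre)]
    have hle : A.1 ≤ V.ι.opensRange := by simpa using htV.1 A hA
    have := Scheme.Hom.isIso_app V.ι A.1 hle
    let e := (asIso (V.ι.app A.1)).commRingCatIsoToRingEquiv
    change (Ideal.comap (e : Γ(X, A.1) →+* Γ(V, V.ι ⁻¹ᵁ A.1)) (𝓘.ideal ⟨V.ι ⁻¹ᵁ A.1, hpre⟩)).FG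
    rw [Ideal.comap_coe, ← Ideal.map_symm]
    exact (h𝓘.1 ⟨V.ι ⁻¹ᵁ A.1, hpre⟩).map _
  obtain ⟨K, -, hKfg, hK⟩ := Groth.RefRank.exists_ftIdeal_eq_on J₀ (tU ∪ tV) fun A hA => by
    rcases Finset.mem_union.1 hA with hA | hA
    · rw [htop A hA]; exact ⟨{1}, by simp⟩
    · exact hfgV A hA
  have hKV : K.comap V.ι = 𝓘 := by
    rw [← hcomap]
    refine Groth.Divisors.ext_of_cover fun v => ?_
    obtain ⟨A, hA, hvA⟩ := htV.2 v.1 v.2
    have hpre : IsAffineOpen (V.ι ⁻¹ᵁ A.1) :=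
      A.2.preimage_of_isOpenImmersion V.ι (by simpa using htV.1 A hA)
    refine ⟨⟨_, hpre⟩, hvA, ?_⟩
    rw [Groth.Divisors.ideal_comap_affine K V.ι A ⟨_, hpre⟩ le_rfl,
      Groth.Divisors.ideal_comap_affine J₀ V.ι A ⟨_, hpre⟩ le_rfl, hK A (Finset.mem_union_right _ hA)]
  refine ⟨K, ⟨hKfg, ?_⟩, hKV, fun X' c hc => ?_⟩
  · rw [Set.disjoint_left]
    intro x hxK hxU
    obtain ⟨A, hA, hxA⟩ := htU.2 x hxU
    rw [SetLike.mem_coe, Scheme.IdealSheafData.mem_support_iff_of_mem hxA, hK A (Finset.mem_union_left _ hA),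
      htop A hA, Scheme.mem_zeroLocus_iff] at hxK
    exact hxK 1 Submodule.mem_top (by rw [Scheme.basicOpen_of_isUnit _ isUnit_one]; exact hxA)
  · rw [← hKV]
    exact Groth.BlowUpBasics.isBlowUp_morphismRestrict hc V

end Groth.Agent.S8857
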