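import Groth.Statements.S12829
import Groth.Agent.AlgStBasic.StUniv

set_option autoImplicit false
set_option backward.isDefEq.respectTransparency false
set_option backward.isDefEq.respectTransparency.types false
universe u
open CategoryTheory AlgebraicGeometry
open AlgSt

namespace Groth.Agent.S12829

/-- For a morphism `f : 𝒳 ⟶ 𝒴` of algebraic stacks over `S` that is representable by algebraic spaces,
every base change of `f` to a scheme is universally injective as a morphism of algebraic spaces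
exactly when, for each morphism of algebraic stacks `𝒵 ⟶ 𝒴`, the induced map on points `|𝒵 ×_𝒴 𝒳| →
|𝒵|` is injective. -/
theorem result {S : Scheme.{u}} {𝒳 𝒴 : AlgSt.Cat S}
    (h𝒳 : AlgSt.IsAlgStack Scheme.fppfPrecoverage 𝒳) (h𝒴 : AlgSt.IsAlgStack Scheme.fppfPrecoverage 𝒴) (f : 𝒳 ⥤ᵇ 𝒴) (hf : AlgSt.RepByAlgSp1 f) :
    AlgSt.RepByAlgSpWith AlgSp.IsUnivInjectiveMor f ↔ AlgSt.IsUnivInjective Scheme.fppfPrecoverage f := by
  refine ⟨fun h 𝒵 hZ g => ?_, fun h => ?_⟩
  · exact Groth.AlgStBasic.injective_map_of_charts (Groth.AlgStBasic.isAlgStack_fp h𝒴.isStack h𝒴.diag hZ h𝒳 g f).isStack.1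
      hZ.isStack.1 fun T y => Groth.AlgStBasic.exists_chartSq_fpFst f h g T y
  · exact Groth.AlgStBasic.repWith_univSp_of_forall (R := fun φ => Function.Injective φ)
      (fun _ _ _ _ ha _ e hψ => Groth.AlgStBasic.injective_of_square ha e hψ) (fun _ h => h) h𝒳 h𝒴 hf h

end Groth.Agent.S12829
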