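import Groth.Statements.S12835
import Groth.Agent.AlgStSpectral.Chart
-- import your own Groth.Agent.* helpers here

set_option autoImplicit false
universe u
open CategoryTheory AlgebraicGeometry
open AlgSt

namespace Groth.Agent.S12835

/-- Let `𝒳` be an algebraic stack over `S` whose diagonal is quasi-compact (for instance `𝒳`
quasi-separated). Then `|𝒳|` has an open covering by spectral spaces; in particular `|𝒳|` is sober.
Here the diagonal is `𝒳 ⟶ 𝒳 ×_S 𝒳` over the base and `S` is taken quasi-separated, under which this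
agrees with the absolute condition of the published statement. -/
theorem result {S : Scheme.{u}} [QuasiSeparatedSpace S]
    {𝒳 : AlgSt.Cat S} (h𝒳 : AlgSt.IsAlgStack Scheme.fppfPrecoverage 𝒳)
    (hΔ : AlgSt.RepByAlgSpWith AlgSp.IsQuasiCompactMor (FibCat.diag (FibCat.toSelf 𝒳))) :
    (∀ x : AlgSt.Points 𝒳, ∃ U : Set (AlgSt.Points 𝒳), IsOpen U ∧ x ∈ U ∧ SpectralSpace ↥U) ∧
      QuasiSober (AlgSt.Points 𝒳) ∧ T0Space (AlgSt.Points 𝒳) := by
  have h := fun z => Groth.AlgStSpectral.locally_spectral h𝒳 hΔ z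
  refine ⟨h, ?_, ⟨fun x y hxy => ?_⟩⟩
  · haveI : ∀ U : {U : Set (AlgSt.Points 𝒳) | IsOpen U ∧ SpectralSpace ↥U}, QuasiSober ↥(U : Set (AlgSt.Points 𝒳)) :=
      fun U => (show SpectralSpace ↥(U : Set (AlgSt.Points 𝒳)) from U.2.2).toQuasiSober
    refine quasiSober_of_open_cover {U : Set (AlgSt.Points 𝒳) | IsOpen U ∧ SpectralSpace ↥U} (fun U => U.2.1) (Set.eq_univ_of_forall fun z => ?_)
    obtain ⟨U, hU, hz, hs⟩ := h z
    exact ⟨U, ⟨hU, hs⟩, hz⟩
  · obtain ⟨U, hU, hx, hs⟩ := h x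
    have hy : y ∈ U := (hxy.mem_open_iff hU).1 hx
    exact congrArg Subtype.val
      (Inseparable.eq (x := (⟨x, hx⟩ : U)) (y := ⟨y, hy⟩) (subtype_inseparable_iff _ _ |>.2 hxy))

end Groth.Agent.S12835
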