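import Groth.Statements.S12838
-- import your own Groth.Agent.* helpers here

set_option autoImplicit false
set_option backward.isDefEq.respectTransparency false
set_option backward.isDefEq.respectTransparency.types false
universe u
open CategoryTheory AlgebraicGeometry
open AlgSt

namespace Groth.Agent.S12838

open MonoidalCategory CartesianMonoidalCategory MonObj GrpObj in
/-- Let `G` be a group scheme over `S` acting on an `S`-scheme `X`, `f : T ⟶ T'` a morphism of
`S`-schemes, `x` a `T`-point and `x'` a `T'`-point of `X`. In the quotient category `[X/G]` (scheme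
torsors for the fppf topology with an equivariant morphism to `X`) the canonical functor `X ⟶ [X/G]`
sends `x` to the trivial torsor `G ×_S T ⟶ T`, with `G` acting by left multiplication on the first
factor and the equivariant morphism `(h, t) ↦ h · x(t)`, and likewise for `x'`. The morphisms from
the image of `x` to the image of `x'` lying over `f` are exactly the maps `(h, t) ↦ (h · g(t),
f(t))` for those `T`-points `g` of `G` with `g · (x' ∘ f) = x`: every morphism over `f` is of this
form, and every such `g` defines one. -/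
theorem result (S : Scheme.{u}) (G : Over S) [GrpObj G] (X : Over S)
    (aX : AlgGrp.Action G X) (T T' : Over S) (f : T ⟶ T') (x : T ⟶ X) (x' : T' ⟶ X) :
    (∀ h : (AlgSt.quotMap Scheme.fppfPrecoverage G aX).obj ((AlgSt.ofOverCat X).obj (Over.mk x)) ⟶ (AlgSt.quotMap Scheme.fppfPrecoverage G aX).obj ((AlgSt.ofOverCat X).obj (Over.mk x')),
        h.base = f → ∃ g : T ⟶ G, lift g (f ≫ x') ≫ aX.act = x ∧
          h.top = lift (fst G T * (snd G T ≫ g)) (snd G T ≫ f)) ∧
    (∀ g : T ⟶ G, lift g (f ≫ x') ≫ aX.act = x →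
        ∃ h : (AlgSt.quotMap Scheme.fppfPrecoverage G aX).obj ((AlgSt.ofOverCat X).obj (Over.mk x)) ⟶ (AlgSt.quotMap Scheme.fppfPrecoverage G aX).obj ((AlgSt.ofOverCat X).obj (Over.mk x')),
          h.base = f ∧ h.top = lift (fst G T * (snd G T ≫ g)) (snd G T ≫ f)) := by
  classical
  let one : ∀ (Z : Over S), Z ⟶ G := fun Z => toUnit Z ≫ η[G]
  have hone : ∀ {Z : Over S} (y : Z ⟶ X), lift (one Z) y ≫ aX.act = y := by
    intro Z y
    have e : lift (one Z) y = lift (toUnit Z) y ≫ (η[G] ▷ X) := by
      apply CartesianMonoidalCategory.hom_ext <;> simp [one]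
    rw [e, Category.assoc, aX.one_act, leftUnitor_hom, lift_snd]
  constructor
  · intro h hb
    obtain ⟨top, htop'⟩ : ∃ top : G ⊗ T ⟶ G ⊗ T', h.top = top := ⟨_, rfl⟩
    let e₀ : T ⟶ G ⊗ T := lift (one T) (𝟙 T)
    let g : T ⟶ G := e₀ ≫ top ≫ fst G T'
    have hsnd : top ≫ snd G T' = snd G T ≫ f := by
      have := h.cart.w
      rw [hb, htop'] at this
      exact this
    have heqv := h.eqv
    rw [htop'] at heqv
    change (AlgSt.leftMul G T).act ≫ top = (G ◁ top) ≫ (AlgSt.leftMul G T').act at heqv
    have hw : top ≫ (G ◁ x') ≫ aX.act = (G ◁ x) ≫ aX.act := htop' ▸ h.wφ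
    have he₀ : e₀ ≫ top = lift g f := by
      apply CartesianMonoidalCategory.hom_ext
      · simp [g]
      · rw [Category.assoc, hsnd, lift_snd, ← Category.assoc, lift_snd, Category.id_comp]
    refine ⟨g, ?_, ?_⟩
    · have e₁ := congrArg (e₀ ≫ ·) hw
      simp only [← Category.assoc, he₀] at e₁
      rw [lift_whiskerLeft, lift_whiskerLeft, Category.id_comp, hone] at e₁
      exact e₁
    · let j : G ⊗ T ⟶ G ⊗ (G ⊗ T) := lift (fst G T) (snd G T ≫ e₀)
      have hone' : snd G T ≫ one T = (1 : G ⊗ T ⟶ G) := by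
        rw [Hom.one_def, ← Category.assoc, toUnit_unique (snd G T ≫ toUnit T) (toUnit _)]
      have hj : j ≫ (AlgSt.leftMul G T).act = 𝟙 _ := by
        apply CartesianMonoidalCategory.hom_ext
        · simp only [j, e₀, AlgSt.leftMul, comp_lift, lift_fst, lift_snd, lift_snd_assoc, comp_mul, Category.assoc,
            hone', _root_.mul_one, Category.id_comp]
        · simp only [j, e₀, AlgSt.leftMul, comp_lift, lift_snd, lift_snd_assoc, Category.assoc, Category.comp_id,
            Category.id_comp]
      have e₁ := congrArg (j ≫ ·) heqv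
      simp only [← Category.assoc, hj, Category.id_comp] at e₁
      rw [htop', e₁, show j ≫ (G ◁ top) = lift (fst G T) (snd G T ≫ e₀ ≫ top) by simp [j], he₀]
      apply CartesianMonoidalCategory.hom_ext
      · simp only [AlgSt.leftMul, comp_lift, lift_fst, lift_snd, lift_snd_assoc, comp_mul, Category.assoc]
      · simp only [AlgSt.leftMul, comp_lift, lift_snd, lift_snd_assoc, Category.assoc]
  · intro g hg
    let φ : G ⊗ T ⟶ G ⊗ T := lift (fst G T * (snd G T ≫ g)) (snd G T)
    have hφ : IsIso φ := by
      refine ⟨⟨lift (fst G T * (snd G T ≫ g)⁻¹) (snd G T), ?_, ?_⟩⟩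
      · simp only [φ, comp_lift, comp_mul, comp_inv, lift_fst, lift_snd, lift_snd_assoc, mul_inv_cancel_right,
          lift_fst_snd]
      · simp only [φ, comp_lift, comp_mul, comp_inv, lift_fst, lift_snd, lift_snd_assoc, inv_mul_cancel_right,
          lift_fst_snd]
    have htop : lift (fst G T * (snd G T ≫ g)) (snd G T ≫ f) = φ ≫ (G ◁ f) := by
      apply CartesianMonoidalCategory.hom_ext <;> simp [φ]
    have hcart : IsPullback (lift (fst G T * (snd G T ≫ g)) (snd G T ≫ f)) (snd G T) (snd G T') f := by
      rw [htop]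
      have h₁ : IsPullback φ (snd G T) (snd G T) (𝟙 T) := IsPullback.of_horiz_isIso ⟨by simp [φ]⟩
      simpa using h₁.paste_horiz (AlgSt.isPullback_whiskerLeft (G := G) f)
    have heqv : (AlgSt.leftMul G T).act ≫ lift (fst G T * (snd G T ≫ g)) (snd G T ≫ f) =
        (G ◁ lift (fst G T * (snd G T ≫ g)) (snd G T ≫ f)) ≫ (AlgSt.leftMul G T').act := by
      apply CartesianMonoidalCategory.hom_ext
      · simp only [AlgSt.leftMul, comp_lift, lift_fst, lift_snd, lift_snd_assoc, comp_mul, Category.assoc,
          whiskerLeft_fst, whiskerLeft_snd, whiskerLeft_snd_assoc, _root_.mul_assoc]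
      · simp only [AlgSt.leftMul, comp_lift, lift_fst, lift_snd, lift_snd_assoc, comp_mul, Category.assoc,
          whiskerLeft_fst, whiskerLeft_snd, whiskerLeft_snd_assoc]
    refine ⟨⟨f, lift (fst G T * (snd G T ≫ g)) (snd G T ≫ f), heqv, hcart, ?_⟩, rfl, rfl⟩
    show lift (fst G T * (snd G T ≫ g)) (snd G T ≫ f) ≫ (G ◁ x') ≫ aX.act = (G ◁ x) ≫ aX.act
    have hμ : ∀ {Z : Over S} (a b : Z ⟶ G) (y : Z ⟶ X), lift a (lift b y ≫ aX.act) ≫ aX.act =
        lift (a * b) y ≫ aX.act := by
      intro Z a b y
      have e₁ : lift a (lift b y ≫ aX.act) = (lift (lift a b) y ≫ (α_ G G X).hom) ≫ (G ◁ aX.act) := by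
        have : lift (lift a b) y ≫ (α_ G G X).hom = lift a (lift b y) := by
          apply CartesianMonoidalCategory.hom_ext
          · simp
          · apply CartesianMonoidalCategory.hom_ext <;> simp
        rw [this, lift_whiskerLeft]
      rw [e₁, Category.assoc, Category.assoc, ← aX.mul_act, ← Category.assoc]
      congr 1
      apply CartesianMonoidalCategory.hom_ext <;> simp [Hom.mul_def]
    have hx : (G ◁ x) = lift (fst G T) (snd G T ≫ lift g (f ≫ x') ≫ aX.act) := by
      rw [hg]
      apply CartesianMonoidalCategory.hom_ext <;> simp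
    rw [hx, ← Category.assoc (snd G T), comp_lift, hμ, ← Category.assoc, lift_whiskerLeft, ← Category.assoc (snd G T) f, Category.assoc]

end Groth.Agent.S12838
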