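import Groth.Statements.S12853
import Groth.Agent.AlgStBasic.LocQApps

set_option autoImplicit false
set_option backward.isDefEq.respectTransparency false
set_option backward.isDefEq.respectTransparency.types false
open CategoryTheory AlgebraicGeometry
universe u
open AlgSt

namespace Groth.Agent.S12853

/-- (2) ⇔ (3): suppose `P`, a property of schemes, is local for the smooth topology (for every jointly
surjective family of smooth morphisms `V_i ⟶ U`, `U` has `P` if and only if every `V_i` has `P`) and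
`𝒳` an algebraic stack over `S`. Then every scheme admitting a smooth morphism to `𝒳` has `P` if and
only if some algebraic space `U` having `P` (some surjective etale scheme chart of `U` has `P`)
admits a surjective smooth `U ⟶ 𝒳`. -/
theorem result {S : Scheme.{u}} {𝒳 : AlgSt.Cat S}
    (h𝒳 : AlgSt.IsAlgStack Scheme.fppfPrecoverage 𝒳) (P : Scheme.{u} → Prop)
    (hP : ∀ (U : Scheme.{u}) (R : Presieve U), R ∈ Scheme.precoverage @Smooth U →
      (P U ↔ ∀ ⦃V : Scheme.{u}⦄ (g : V ⟶ U), R g → P V)) :
    AlgSt.SmoothLocally P 𝒳 ↔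
      ∃ (U : AlgSp.Space S) (x : AlgSt.ofSp U.obj ⥤ᵇ 𝒳),
        AlgSt.RepByAlgSpWith (AlgSp.LocP @Smooth) x ∧ AlgSt.RepByAlgSpWith AlgSp.IsSurjectiveMor x ∧
          AlgSp.EtaleLocally P U.obj := by
  constructor
  · intro h
    obtain ⟨U, x, hx, hxs⟩ := h𝒳.atlas
    refine ⟨(AlgSp.ofScheme S).obj U, BasedFunctor.comp (AlgSt.toOverCat U) x,
      (Groth.AlgStBasic.repWith_precomp_equiv (Groth.AlgStBasic.isEquivOver_toOverCat U) x).2 hx,
      (Groth.AlgStBasic.repWith_precomp_equiv (Groth.AlgStBasic.isEquivOver_toOverCat U) x).2 hxs,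
      U, 𝟙 _, AlgSp.repWith_id @Etale U, AlgSp.repWith_id @Surjective U, h U x hx⟩
  · rintro ⟨U, x, hx, hxs, V, q, hq, hqs, hV⟩
    exact Groth.AlgStBasic.smoothLocally_of_atlas hP (Groth.AlgStBasic.repWith_chart_of_space hx hq).1
      ((Groth.AlgStBasic.repWith_chart_of_space hx hq).2 hqs hxs) hV

end Groth.Agent.S12853
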