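import Groth.Statements.S12854
import Groth.Agent.AlgStBasic.LocQApps

set_option autoImplicit false
set_option backward.isDefEq.respectTransparency false
set_option backward.isDefEq.respectTransparency.types false
open CategoryTheory AlgebraicGeometry
universe u
open AlgSt

namespace Groth.Agent.S12854

/-- Suppose `P`, a property of schemes, is local for the smooth topology (for every jointly surjective
family of smooth morphisms `V_i ⟶ U`, `U` has `P` if and only if every `V_i` has `P`) and `U` a
scheme over `S`. Then every scheme admitting a smooth morphism to (the algebraic stack of) `U` has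
`P` if and only if `U` has `P`. -/
theorem result {S : Scheme.{u}} (U : Over S) (P : Scheme.{u} → Prop)
    (hP : ∀ (U : Scheme.{u}) (R : Presieve U), R ∈ Scheme.precoverage @Smooth U →
      (P U ↔ ∀ ⦃V : Scheme.{u}⦄ (g : V ⟶ U), R g → P V)) :
    AlgSt.SmoothLocally P (AlgSt.ofSch U) ↔ P U.left := by
  have he := Groth.AlgStBasic.isEquivOver_ofOverCat U
  constructor
  · intro h
    exact h U (AlgSt.ofOverCat U)
      ((Groth.AlgStBasic.repWith_precomp_equiv he (BasedFunctor.id _)).2 (Groth.AlgStBasic.repWith_id ((AlgSp.ofScheme S).obj U)))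
  · intro h
    exact Groth.AlgStBasic.smoothLocally_of_atlas hP (x₀ := AlgSt.ofOverCat U)
      ((Groth.AlgStBasic.repWith_precomp_equiv he (BasedFunctor.id _)).2 (Groth.AlgStBasic.repWith_id ((AlgSp.ofScheme S).obj U)))
      ((Groth.AlgStBasic.repWith_precomp_equiv he (BasedFunctor.id _)).2
        (Groth.AlgStBasic.repWith_ofPshMap_of_stable (F := (AlgSp.ofScheme S).obj U) (G := (AlgSp.ofScheme S).obj U)
          Groth.AlgStBasic.stableBaseChange_surjective (𝟙 _) (Groth.AlgSp2.isSurjectiveMor_id _))) h

end Groth.Agent.S12854
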