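import Groth.Statements.S12855
import Groth.Agent.AlgStBasic.LocQApps

set_option autoImplicit false
set_option backward.isDefEq.respectTransparency false
set_option backward.isDefEq.respectTransparency.types false
open CategoryTheory AlgebraicGeometry
universe u
open AlgSt

namespace Groth.Agent.S12855

/-- Suppose `P`, a property of schemes, is local for the smooth topology (for every jointly surjective
family of smooth morphisms `V_i ⟶ U`, `U` has `P` if and only if every `V_i` has `P`) and `X` an
algebraic space over `S`. Then every scheme admitting a smooth morphism to (the algebraic stack of)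
`X` has `P` if and only if `X` has `P`, i.e. some surjective etale scheme chart of `X` has `P`. -/
theorem result {S : Scheme.{u}} (X : AlgSp.Space S) (P : Scheme.{u} → Prop)
    (hP : ∀ (U : Scheme.{u}) (R : Presieve U), R ∈ Scheme.precoverage @Smooth U →
      (P U ↔ ∀ ⦃V : Scheme.{u}⦄ (g : V ⟶ U), R g → P V)) :
    AlgSt.SmoothLocally P (AlgSt.ofSp X.obj) ↔ AlgSp.EtaleLocally P X.obj := by
  have hid := Groth.AlgStBasic.repWith_id (P := @Smooth) X
  have hsurj : AlgSt.RepByAlgSpWith AlgSp.IsSurjectiveMor (BasedFunctor.id (AlgSt.ofSp X.obj)) :=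
    Groth.AlgStBasic.repWith_ofPshMap_of_stable (F := X) (G := X) Groth.AlgStBasic.stableBaseChange_surjective (𝟙 X.obj)
      (Groth.AlgSp2.isSurjectiveMor_id X.obj)
  constructor
  · intro h
    obtain ⟨V, q, hq, hqs⟩ := X.property.atlas
    exact ⟨V, q, hq, hqs, h V _ (Groth.AlgStBasic.repWith_chart_of_space hid hq).1⟩
  · rintro ⟨V, q, hq, hqs, hV⟩
    exact Groth.AlgStBasic.smoothLocally_of_atlas hP (Groth.AlgStBasic.repWith_chart_of_space hid hq).1
      ((Groth.AlgStBasic.repWith_chart_of_space hid hq).2 hqs hsurj) hV

end Groth.Agent.S12855
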