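import Groth.Statements.S12856
import Groth.Agent.AlgStBasic.StCompact

set_option autoImplicit false
set_option backward.isDefEq.respectTransparency false
set_option backward.isDefEq.respectTransparency.types false
open CategoryTheory AlgebraicGeometry
universe u
open AlgSt

namespace Groth.Agent.S12856

/-- (2) ⇔ (4): an algebraic stack `𝒳` over `S` admits a surjective smooth morphism from an affine scheme
if and only if it admits a surjective smooth morphism from a quasi-compact algebraic space. -/
theorem result {S : Scheme.{u}} {𝒳 : AlgSt.Cat S}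
    (h𝒳 : AlgSt.IsAlgStack Scheme.fppfPrecoverage 𝒳) :
    AlgSt.IsQuasiCompact 𝒳 ↔
      ∃ (U : AlgSp.Space S) (x : AlgSt.ofSp U.obj ⥤ᵇ 𝒳), AlgSp.IsQuasiCompactSp U.obj ∧
        AlgSt.RepByAlgSpWith (AlgSp.LocP @Smooth) x ∧ AlgSt.RepByAlgSpWith AlgSp.IsSurjectiveMor x := by
  constructor
  · rintro ⟨U, x, hU, hx, hxs⟩
    have he := Groth.AlgStBasic.isEquivOver_toOverCat U
    refine ⟨(AlgSp.ofScheme S).obj U, BasedFunctor.comp (AlgSt.toOverCat U) x,
      (Groth.AlgSpBasic.isQuasiCompactSp_yon_iff U).2 inferInstance,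
      (Groth.AlgStBasic.repWith_precomp_equiv he x).2 hx, (Groth.AlgStBasic.repWith_precomp_equiv he x).2 hxs⟩
  · rintro ⟨U, x, hU, hx, hxs⟩
    have hS := Groth.AlgStBasic.isAlgStack_ofSp U.property
    have := (Groth.AlgSpBasic.isQuasiCompactSp_iff_compactSpace U.property).1 hU
    have := Function.Surjective.compactSpace (Groth.AlgStBasic.continuous_spPt U.property)
      Groth.AlgStBasic.bijective_spPt.2
    exact Groth.AlgStBasic.isQuasiCompact_of_isSurjective hS h𝒳
      ((Groth.AlgStBasic.isSurjective_iff_repWith hS.isStack.1 h𝒳.isStack.1 (Groth.AlgStBasic.repWith_repByAlgSp1 hxs)).2 hxs)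
      (Groth.AlgStBasic.isQuasiCompact_of_compactSpace hS)

end Groth.Agent.S12856
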