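import Groth.Statements.S12860
import Groth.Agent.AlgStBasic.OpenSub

set_option autoImplicit false
set_option backward.isDefEq.respectTransparency false
set_option backward.isDefEq.respectTransparency.types false
open CategoryTheory AlgebraicGeometry
universe u
open AlgSt

namespace Groth.Agent.S12860

/-- Let `𝒳` be an algebraic stack over `S`, `U` an algebraic space with a surjective smooth `u : U ⟶ 𝒳`,
and `j : V ⟶ U` an open immersion of algebraic spaces. Then there are an algebraic stack `𝒴`, an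
open immersion `i : 𝒴 ⟶ 𝒳` and a surjective smooth `g : V ⟶ 𝒴` such that `i ∘ g` is 2-isomorphic to
`u ∘ j` (the compatibility is part of the published proof, which constructs `𝒴` as the image of
`V`). -/
theorem result {S : Scheme.{u}} {𝒳 : AlgSt.Cat S}
    (h𝒳 : AlgSt.IsAlgStack Scheme.fppfPrecoverage 𝒳) (U : AlgSp.Space S) (u : AlgSt.ofSp U.obj ⥤ᵇ 𝒳)
    (hu₁ : AlgSt.RepByAlgSpWith (AlgSp.LocP @Smooth) u) (hu₂ : AlgSt.RepByAlgSpWith AlgSp.IsSurjectiveMor u)
    (V : AlgSp.Space S) (j : V ⟶ U) (hj : AlgSp.RepWith @IsOpenImmersion j.hom) :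
    ∃ (𝒴 : AlgSt.Cat S) (i : 𝒴 ⥤ᵇ 𝒳) (g : AlgSt.ofSp V.obj ⥤ᵇ 𝒴),
      AlgSt.IsAlgStack Scheme.fppfPrecoverage 𝒴 ∧ AlgSt.IsOpenImm i ∧
        AlgSt.RepByAlgSpWith (AlgSp.LocP @Smooth) g ∧ AlgSt.RepByAlgSpWith AlgSp.IsSurjectiveMor g ∧
          Nonempty (BasedFunctor.comp g i ≅ BasedFunctor.comp (AlgSt.ofSpMap j.hom) u) := by
  let G := BasedFunctor.comp (AlgSt.ofSpMap j.hom) u
  have hG : AlgSt.RepByAlgSpWith (AlgSp.LocP @Smooth) G :=
    Groth.AlgStBasic.repWith_comp' (Groth.AlgStBasic.isFibGrpd_ofSp _) (Groth.AlgStBasic.isFibGrpd_ofSp _) Groth.AlgStBasic.stableBaseChange_locP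
      Groth.AlgStBasic.stableComp_locP Groth.AlgStBasic.descendsAlongAtlas_locP
      (Groth.AlgStBasic.repWith_ofPshMap_of_stable Groth.AlgStBasic.stableBaseChange_locP j.hom
        (Groth.AlgSpBasic.locP_of_repWith (Groth.AlgSpBasic.repWith_mono
          (fun _ _ g (_ : IsOpenImmersion g) => (inferInstance : Smooth g)) hj))) hu₁
  have hV := Groth.AlgStBasic.isAlgStack_ofSp V.property
  let T := Set.range (AlgSt.Points.map G)
  have h₁ : AlgSt.RepByAlgSpWith (AlgSp.LocP @Flat) G :=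
    Groth.AlgStBasic.repWith_mono (fun _ _ _ _ _ k => by
      intro U' V' a b m ha hb c
      have : Smooth m.left := k a b m ha hb c
      infer_instance) hG
  have h₂ : AlgSt.RepByAlgSpWith (AlgSp.LocP @LocallyOfFinitePresentation) G :=
    Groth.AlgStBasic.repWith_mono (fun _ _ _ _ _ k => by
      intro U' V' a b m ha hb c
      have : Smooth m.left := k a b m ha hb c
      infer_instance) hG
  have hT : IsOpen T := (Groth.AlgStBasic.isOpenMap_map_of_repWith hV h𝒳.isStack.1 h₁ h₂).isOpen_range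
  have hQ := Groth.AlgStBasic.isOpenSubstack_inPts h𝒳 hT
  let i := AlgSt.subIncl 𝒳 (Groth.AlgStBasic.inPts T)
  have : i.toFunctor.Full := inferInstanceAs (ObjectProperty.ι _).Full
  have : i.toFunctor.Faithful := inferInstanceAs (ObjectProperty.ι _).Faithful
  let g : AlgSt.ofSp V.obj ⥤ᵇ AlgSt.fullSub 𝒳 (Groth.AlgStBasic.inPts T) :=
    { toFunctor := ObjectProperty.lift _ G.toFunctor
        (Groth.AlgStBasic.inPts_obj_of_range h𝒳.isStack.1 (Groth.AlgStBasic.isFibGrpd_ofSp _) G le_rfl)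
      w := G.w }
  have hg := Groth.AlgStBasic.repWith_of_comp_fullyFaithful i (Groth.AlgStBasic.repWith_of_iso (Iso.refl G) hG : AlgSt.RepByAlgSpWith _ (BasedFunctor.comp g i))
  refine ⟨_, i, g, hQ.2.1, hQ.2.2, hg, ?_, ⟨Iso.refl _⟩⟩
  refine (Groth.AlgStBasic.isSurjective_iff_repWith hV.isStack.1 hQ.2.1.isStack.1 (Groth.AlgStBasic.repWith_repByAlgSp1 hg)).1
    fun z => ?_
  obtain ⟨x, hx⟩ := Groth.AlgStBasic.range_subIncl_inPts T ⟨z, rfl⟩
  refine ⟨x, Groth.AlgStBasic.injective_map_of_full_faithful hQ.2.1.isStack.1 h𝒳.isStack.1 i ?_⟩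
  rw [← Groth.AlgStBasic.map_comp]
  exact hx

end Groth.Agent.S12860
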