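import Groth.Statements.S1287
import Groth.Agent.RaynaudGruson.ContentFitting
-- import your own Groth.Agent.* helpers here

set_option autoImplicit false
universe u
open FlatMor

set_option linter.style.haveILetI false

namespace Groth.Agent.S1287

open TensorProduct in
/-- Let R be a ring, f ∈ R, r ≥ 0, S a finitely presented flat R-algebra all of whose fibre rings are
geometrically integral, and M a finite S-module such that M_f is finitely presented over S_f and
such that for every prime p of R not containing f, with q = pS, the localization M_q is free of rank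
r over S_q. Then there is a finitely generated ideal I of R with V(I) = V(f) such that for every a ∈
I, writing R' = R[I/a] for the affine blow-up algebra, S' = S ⊗_R R' and M' for the base change of M
to S' modulo its a-power torsion (any models of the base change): for every prime p' of R' there is
g ∈ S' outside p'S' with M'_g free of rank r over S'_g. -/
theorem result {R S : Type u} [CommRing R] [CommRing S] [Algebra R S] [Algebra.FinitePresentation R S] [Module.Flat R S]
    (hgi : FlatCA.GeomIntegralFibres R S) (f : R) (r : ℕ)
    (M : Type u) [AddCommGroup M] [Module S M] [Module R M] [IsScalarTower R S M] [Module.Finite S M]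
    (hfp : Module.FinitePresentation (Localization.Away (algebraMap R S f)) (LocalizedModule (Submonoid.powers (algebraMap R S f)) M))
    (hfree : ∀ (p : Ideal R) [p.IsPrime] [(p.map (algebraMap R S)).IsPrime], f ∉ p →
      Module.Free (Localization.AtPrime (p.map (algebraMap R S))) (LocalizedModule (p.map (algebraMap R S)).primeCompl M) ∧
      Module.rank (Localization.AtPrime (p.map (algebraMap R S))) (LocalizedModule (p.map (algebraMap R S)).primeCompl M) = r) :
    ∃ I : Ideal R, I.FG ∧ I.radical = (Ideal.span {f}).radical ∧ ∀ a ∈ I,
      ∀ (S' M' : Type u) [CommRing S'] [Algebra S S'] [Algebra (BlowUp.affineAlgebra R I a) S'] [Algebra R S']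
        [IsScalarTower R S S'] [IsScalarTower R (BlowUp.affineAlgebra R I a) S']
        [Algebra.IsPushout R S (BlowUp.affineAlgebra R I a) S']
        [AddCommGroup M'] [Module S' M'] [Module S M'] [IsScalarTower S S' M']
        (φ : M →ₗ[S] M'), IsBaseChange S' φ →
        ∀ (p' : Ideal (BlowUp.affineAlgebra R I a)) [p'.IsPrime],
          ∃ g : S', g ∉ p'.map (algebraMap (BlowUp.affineAlgebra R I a) S') ∧
            Module.Free (Localization.Away g)
              (LocalizedModule (Submonoid.powers g) (M' ⧸ FlatCA.powTorsion S' (algebraMap R S' a) M')) ∧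
            Module.rank (Localization.Away g)
              (LocalizedModule (Submonoid.powers g) (M' ⧸ FlatCA.powTorsion S' (algebraMap R S' a) M')) = r := by
  haveI := Groth.RaynaudGruson.IntegralProjective.projective_of_flat R S hgi
  obtain ⟨σ, hσ⟩ := Groth.RaynaudGruson.ContentFitting.exists_coord (R := R) (S := S)
  obtain ⟨A, hAfin, hA, N, hN⟩ := Groth.RaynaudGruson.ContentFitting.exists_center hσ hgi f r hfree
  refine ⟨Ideal.span {f} * Ideal.span (⋃ x ∈ A, σ x '' (σ x).support),
    (Submodule.fg_span_singleton f).mul
      (Submodule.fg_span (hAfin.biUnion fun x _ => (σ x).support.finite_toSet.image _)),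
    le_antisymm (Ideal.radical_mono Ideal.mul_le_left) ?_, ?_⟩
  · rw [Ideal.radical_le_radical_iff, Ideal.span_singleton_le_iff_mem]
    exact ⟨N + 1, by rw [pow_succ']; exact Ideal.mul_mem_mul (Ideal.mem_span_singleton_self f) hN⟩
  intro a ha S' M' _ _ _ _ _ _ _ _ _ _ _ φ hφ p' _
  obtain ⟨c₀, hc₀, hac⟩ := Ideal.mem_span_singleton_mul.1 ha
  exact Groth.RaynaudGruson.ContentFitting.chart hσ hgi f r
    (fun k hk x hx => Groth.RaynaudGruson.ContentFitting.fitt_killed hσ hgi f hk hfree hx) A hA a c₀ hc₀ hac.symm
    (Groth.Misc3Fitt.copy_nzd AlgEquiv.refl)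
    (fun d hd => Groth.Misc3Fitt.copy_mem_span AlgEquiv.refl (Ideal.mul_mem_mul (Ideal.mem_span_singleton_self f) hd))
    φ hφ p'

end Groth.Agent.S1287
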