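import Groth.Statements.S12876
import Groth.Agent.AlgStBasic.Faithful

set_option autoImplicit false
set_option backward.isDefEq.respectTransparency false
set_option backward.isDefEq.respectTransparency.types false
open CategoryTheory AlgebraicGeometry
universe u
open AlgSt

namespace Groth.Agent.S12876

/-- Let `i : 𝒳 ⟶ 𝒳'` and `g : 𝒳' ⟶ 𝒴` be 1-morphisms of algebraic stacks over `S` with `i` a
monomorphism. Then the square whose top is the diagonal `𝒳 ⟶ 𝒳 ×_𝒴 𝒳` of `g ∘ i`, whose left side is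
`i`, whose right side is the 1-morphism `𝒳 ×_𝒴 𝒳 ⟶ 𝒳' ×_𝒴 𝒳'` induced by `i` on both factors and
whose bottom is the diagonal of `g` (it commutes strictly, the 2-cell being the identity) is
2-cartesian: the induced 1-morphism from `𝒳` to the 2-fibre product is an equivalence over
`(Sch/S)`. -/
theorem result {S : Scheme.{u}} {𝒳 𝒳' 𝒴 : AlgSt.Cat S}
    (h𝒳 : AlgSt.IsAlgStack Scheme.fppfPrecoverage 𝒳) (h𝒳' : AlgSt.IsAlgStack Scheme.fppfPrecoverage 𝒳') (h𝒴 : AlgSt.IsAlgStack Scheme.fppfPrecoverage 𝒴)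
    (i : 𝒳 ⥤ᵇ 𝒳') (g : 𝒳' ⥤ᵇ 𝒴) (hi : AlgSt.IsMono i) :
    FibCat.IsTwoCartOver
      (F := (FibCat.fpLift (BasedFunctor.comp (FibCat.fpFst (BasedFunctor.comp i g) (BasedFunctor.comp i g)) i)
        (BasedFunctor.comp (FibCat.fpSnd (BasedFunctor.comp i g) (BasedFunctor.comp i g)) i) (FibCat.fpIso (BasedFunctor.comp i g) (BasedFunctor.comp i g))))
      (G := FibCat.diag g) (FibCat.diag (BasedFunctor.comp i g)) i (Iso.refl _) := by
  obtain ⟨hfull, hfaith⟩ := Groth.AlgStBasic.fullyFaithful_of_isMono h𝒳.isStack.1 h𝒳'.isStack.1 i hi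
  refine Groth.StkBase.isEquivOver_of_fullyFaithful _ ⟨fun {x y} h => ?_⟩ ⟨fun {x y} a b e => ?_⟩
    (fun y => ?_)
  · have k₁ := congrArg (fun t => t.hom.fst) h.hom.w
    have k₂ := congrArg (fun t => t.hom.snd) h.hom.w
    have w₁ : i.map h.hom.fst.hom.fst = h.hom.snd :=
      ((Category.comp_id _).symm.trans k₁).trans (Category.id_comp _)
    have w₂ : i.map h.hom.fst.hom.snd = h.hom.snd :=
      ((Category.comp_id _).symm.trans k₂).trans (Category.id_comp _)
    have e : h.hom.fst.hom.fst = h.hom.fst.hom.snd := i.toFunctor.map_injective (w₁.trans w₂.symm)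
    exact ⟨h.hom.fst.hom.fst,
      Groth.StkBase.fp_hom_ext (Groth.StkBase.fp_hom_ext rfl e) w₁⟩
  · exact congrArg (fun t => t.hom.fst.hom.fst) e
  · let c₁ := (FibCat.fpFst g g).toFunctor.mapIso y.obj.iso
    let c₂ := (FibCat.fpSnd g g).toFunctor.mapIso y.obj.iso
    let ψ : y.obj.fst.obj.fst ≅ y.obj.fst.obj.snd := i.toFunctor.preimageIso (c₁ ≪≫ c₂.symm)
    have hψ : i.map ψ.hom = c₁.hom ≫ c₂.inv := i.toFunctor.map_preimage _
    have w : g.map c₁.hom = y.obj.fst.obj.iso.hom ≫ g.map c₂.hom :=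
      (Category.comp_id _).symm.trans y.obj.iso.hom.hom.w
    refine ⟨y.obj.fst.obj.fst, Groth.StkBase.fpObjIso
      (Groth.StkBase.fpObjIso (Iso.refl _) ψ ?_) c₁ ?_, Groth.StkBase.isVert_id _⟩
    · simp [FibCat.diag, FibCat.fpLift]
      refine Eq.trans ?_ (Category.id_comp _).symm
      refine Eq.trans ?_ (congrArg g.map hψ).symm
      refine Eq.trans ?_ (g.toFunctor.map_comp c₁.hom c₂.inv).symm
      exact (Iso.eq_comp_inv (g.toFunctor.mapIso c₂)).2 w.symm
    · apply Groth.StkBase.fp_hom_ext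
      · exact (congrArg (· ≫ c₁.hom) (i.toFunctor.map_id _)).trans rfl
      · refine Eq.trans ?_ (Category.id_comp _).symm
        show i.map ψ.hom ≫ c₂.hom = c₁.hom
        rw [hψ, Category.assoc, Iso.inv_hom_id]
        exact Category.comp_id _

end Groth.Agent.S12876
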