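import Groth.Statements.S1288
import Groth.Agent.NagComp.BlowUp

set_option autoImplicit false
universe u
open FlatMor

namespace Groth.Agent.S1288

open AlgebraicGeometry CategoryTheory Limits in
/-- Let S be quasi-compact and quasi-separated, g : U → S separated and of finite type, V ⊆ U a
quasi-compact open, and j : V → Y a quasi-compact open immersion over S into a scheme Y proper over
S. Then there are a blow-up b : Y' → Y in a finite type ideal with support disjoint from j(V), an
open V' of Y' containing b⁻¹(j(V)), and a proper morphism h : V' → U which extends V → U: on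
b⁻¹(j(V)) it is the identification with V followed by the inclusion of V in U. -/
theorem result {U S Y : Scheme.{u}} [CompactSpace S] [QuasiSeparatedSpace S]
    (g : U ⟶ S) [IsSeparated g] [LocallyOfFiniteType g] [QuasiCompact g]
    (V : U.Opens) (hV : IsCompact (V : Set U)) (j : (V : Scheme.{u}) ⟶ Y) [IsOpenImmersion j] [QuasiCompact j]
    (πY : Y ⟶ S) [IsProper πY] (hj : j ≫ πY = V.ι ≫ g) :
    ∃ (𝓘 : Y.IdealSheafData) (Y' : Scheme.{u}) (b : Y' ⟶ Y), BlowUp.IsBlowUp b 𝓘 ∧ BlowUp.IsAdmissibleFor j.opensRange 𝓘 ∧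
      ∃ (V' : Y'.Opens) (hle : b ⁻¹ᵁ j.opensRange ≤ V') (h : (V' : Scheme.{u}) ⟶ U),
        IsProper h ∧
        ∃ k : ((b ⁻¹ᵁ j.opensRange : Y'.Opens) : Scheme.{u}) ⟶ V,
          k ≫ j = (b ∣_ j.opensRange) ≫ j.opensRange.ι ∧ Y'.homOfLE hle ≫ h = k ≫ V.ι := by
  haveI : CompactSpace Y := QuasiCompact.compactSpace_of_compactSpace πY
  haveI : QuasiSeparatedSpace Y := quasiSeparatedSpace_of_quasiSeparated πY
  haveI : CompactSpace (V : Scheme.{u}) := isCompact_iff_compactSpace.mp hV
  let R : Y.Opens := j.opensRange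
  have hR : IsCompact (R : Set Y) := by
    show IsCompact (Set.range j)
    exact isCompact_range j.continuous
  let k₀ : (R : Scheme.{u}) ⟶ (V : Scheme.{u}) := IsOpenImmersion.lift j R.ι
    (by rw [Scheme.Opens.range_ι]; exact subset_rfl)
  have hk₀ : k₀ ≫ j = R.ι := IsOpenImmersion.lift_fac _ _ _
  let s : (R : Scheme.{u}) ⟶ pullback πY g := pullback.lift R.ι (k₀ ≫ V.ι) (by
    rw [Category.assoc, ← hj, reassoc_of% hk₀])
  have hs : s ≫ pullback.fst πY g = R.ι := pullback.lift_fst _ _ _
  obtain ⟨K, T, b, hb, hK, hbp, -, hext, -⟩ := Groth.NagComp.exists_blowUp_extension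
    (pullback.fst πY g) R R le_rfl hR hR s hs
    (fun y hy hyV => Groth.NagComp.mem_range_of_mem_closure _ s hs hy hyV)
  obtain ⟨W, hUW, h, w, hhs, -, hci, -⟩ := hext.exists_glue
  haveI : IsProper (h ≫ pullback.snd πY g) := by
    rw [← pullback.lift_snd W.ι h w, Category.assoc]
    infer_instance
  refine ⟨K, T, b, hb, hK, W, hUW, h ≫ pullback.snd πY g, inferInstance,
    (b ∣_ R) ≫ k₀, by rw [Category.assoc, hk₀], ?_⟩
  rw [reassoc_of% hhs, pullback.lift_snd, Category.assoc]

end Groth.Agent.S1288
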