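import Groth.Statements.S12882
import Groth.Agent.CohTwo.ExtZCriteria

set_option autoImplicit false
universe u
open CategoryTheory CategoryTheory.Limits TopologicalSpace AlgebraicGeometry
open Coherent

namespace Groth.Agent.S12882

/-- Let X be a locally Noetherian scheme whose local rings are all regular, Y a closed subset with open
complement U, F and G coherent O_X-modules, and i a natural number such that dim O_{X,x} < i for
every point x of Y in the support of F. Then ℰxt^i_Y(F, G) = 0. (Internal Hom of F and injective
resolutions of O_X-modules are the stated instance hypotheses, both true.) -/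
theorem result (X : Scheme.{u}) [IsLocallyNoetherian X]
    (hreg : ∀ x : X, IsRegularLocalRing (X.presheaf.stalk x)) (U : X.Opens)
    (F G : X.Modules) (hF : Coh.IsCoh F) (hG : Coh.IsCoh G) (i : ℕ)
    (hi : ∀ x ∈ CohB1.support F, x ∉ (U : Set X) → ringKrullDim (X.presheaf.stalk x) < (i : WithBot ℕ∞))
    [ModSite.HasSheafHom (O := X.sheaf) F] [HasInjectiveResolutions (ModSite.Mod X.sheaf)] :
    IsZero ((ModSite.extZSh (O := X.sheaf) U F i).obj G) := by
  haveI := hG.1
  refine CohTwo.ExtZ.isZero_extZSh_of_ext U F G hF i fun V hV L _ _ _ h => ?_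
  haveI : IsNoetherianRing Γ(X, V) := IsLocallyNoetherian.component_noetherian ⟨V, hV⟩
  refine CohTwo.ExtVanish.subsingleton_ext_of_height_lt L _ i fun p hp => ?_
  obtain ⟨hd, hr⟩ := CohTwo.ExtZ.localization_of_stalk hV p
  refine ⟨hr (hreg _), ?_⟩
  have h1 := hi _ (h p hp).1 (h p hp).2
  rw [hd] at h1
  exact WithBot.coe_lt_coe.1 h1

end Groth.Agent.S12882
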