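import Groth.Statements.S12885
import Groth.Agent.CohTwo.ExtShDepth
import Groth.Agent.CohTwo.SupportRealise

set_option autoImplicit false
universe u
open CategoryTheory CategoryTheory.Limits TopologicalSpace AlgebraicGeometry
open Coherent

namespace Groth.Agent.S12885

/-- Let X be a locally Noetherian scheme, Y a closed subset with open complement U, F a coherent
O_X-module and n a natural number. Then the depth of the stalk F_x over O_{X,x} is at least n for
every point x of Y if and only if for every coherent O_X-module G with support contained in Y the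
local Ext sheaves ℰxt^i(G, F) vanish for all i < n. (Internal Hom of every O_X-module and injective
resolutions of O_X-modules are the stated instance hypotheses, both true.) -/
theorem result (X : Scheme.{u}) [IsLocallyNoetherian X]
    (U : X.Opens) (F : X.Modules) (hF : Coh.IsCoh F) (n : ℕ)
    [∀ M : X.Modules, ModSite.HasSheafHom (O := X.sheaf) M] [HasInjectiveResolutions (ModSite.Mod X.sheaf)] :
    (∀ x : X, x ∉ (U : Set X) → (n : ℕ∞) ≤ LocCoh.depth (X.presheaf.stalk x) (F.presheaf.stalk x)) ↔
      ∀ G : X.Modules, Coh.IsCoh G → (∀ x ∈ CohB1.support G, x ∉ (U : Set X)) →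
        ∀ i : ℕ, i < n → IsZero ((ModSite.extSh (O := X.sheaf) G i).obj F) := by
  refine ⟨fun h G hG hsupp i hi =>
    CohTwo.ExtShDepth.isZero_extSh_of_depth G F hG hF n (fun x hx => h x (hsupp x hx)) i hi,
    fun h x hx => ?_⟩
  obtain ⟨G, hG, hsupp⟩ := CohTwo.SupportRealise.exists_support_eq (X := X) ⟨(U : Set X)ᶜ, U.2.isClosed_compl⟩
  exact CohTwo.ExtShDepth.le_depth_of_isZero_extSh G F hG hF n
    (fun i hi => h G hG (fun y hy => by rw [hsupp] at hy; exact hy) i hi) (by rw [hsupp]; exact hx)

end Groth.Agent.S12885
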