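import Groth.Statements.S13198
import Mathlib.FieldTheory.PurelyInseparable.Basic
import Mathlib.RingTheory.TensorProduct.Nontrivial
import Mathlib.RingTheory.Ideal.GoingUp

set_option autoImplicit false
universe u
open scoped TensorProduct
open Hensel

namespace Groth.Agent.S13198

/-- Let R be a local ring which is strictly henselian (henselian, with separably closed residue field),
A a local ring which is an integral R-algebra with local structure map and whose residue field is
purely inseparable over that of R, and B a local ring with a local homomorphism R → B. Then A ⊗_R B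
is a local ring, the map B → A ⊗_R B is local, and the residue field extension of A ⊗_R B over B is
purely inseparable: every element of A ⊗_R B has a p^n-th power, p the characteristic exponent of
the residue field of B, congruent modulo the maximal ideal to an element 1 ⊗ b. -/
theorem result
    (R A B : Type u) [CommRing R] [HenselianLocalRing R] [IsSepClosed (IsLocalRing.ResidueField R)]
    [CommRing A] [IsLocalRing A] [Algebra R A] [IsLocalHom (algebraMap R A)] [Algebra.IsIntegral R A]
    [IsPurelyInseparable (IsLocalRing.ResidueField R) (IsLocalRing.ResidueField A)]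
    [CommRing B] [IsLocalRing B] [Algebra R B] [IsLocalHom (algebraMap R B)] :
    ∃ _ : IsLocalRing (A ⊗[R] B),
      IsLocalHom (Algebra.TensorProduct.includeRight : B →ₐ[R] A ⊗[R] B).toRingHom ∧
      ∀ x : A ⊗[R] B, ∃ (n : ℕ) (b : B),
        x ^ (ringExpChar (IsLocalRing.ResidueField B)) ^ n - (1 : A) ⊗ₜ[R] b ∈ IsLocalRing.maximalIdeal (A ⊗[R] B) := by
  classical
  let _ : Algebra B (A ⊗[R] B) := Algebra.TensorProduct.rightAlgebra
  set p := ringExpChar (IsLocalRing.ResidueField B) with hp
  have hAi : ∀ a : A, IsIntegral B (a ⊗ₜ[R] (1 : B)) := fun a =>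
    ((Algebra.IsIntegral.isIntegral (R := R) a).map (Algebra.TensorProduct.includeLeft : A →ₐ[R] A ⊗[R] B)).tower_top
  have hint : Algebra.IsIntegral B (A ⊗[R] B) := ⟨fun x => by
    induction x using TensorProduct.induction_on with
    | zero => exact isIntegral_zero
    | add x y hx hy => exact hx.add hy
    | tmul a b =>
      rw [show a ⊗ₜ[R] b = (a ⊗ₜ[R] (1 : B)) * algebraMap B (A ⊗[R] B) b by
        rw [Algebra.TensorProduct.right_algebraMap_apply, Algebra.TensorProduct.tmul_mul_tmul, mul_one, one_mul]]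
      exact (hAi a).mul isIntegral_algebraMap⟩
  have hMB : ∀ M : Ideal (A ⊗[R] B), M.IsMaximal → ∀ b : B, (1 : A) ⊗ₜ[R] b ∈ M ↔ b ∈ IsLocalRing.maximalIdeal B := by
    intro M hM b
    have h1 : (M.comap (algebraMap B (A ⊗[R] B))).IsMaximal := Ideal.isMaximal_comap_of_isIntegral_of_isMaximal M
    rw [← IsLocalRing.eq_maximalIdeal h1]
    exact Iff.rfl
  have hMA : ∀ M : Ideal (A ⊗[R] B), M.IsMaximal → ∀ a ∈ IsLocalRing.maximalIdeal A, a ⊗ₜ[R] (1 : B) ∈ M := by
    intro M hM a ha
    let P := M.comap (Algebra.TensorProduct.includeLeft : A →ₐ[R] A ⊗[R] B).toRingHom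
    have hP : P.IsPrime := Ideal.IsPrime.comap _
    have hPR : P.comap (algebraMap R A) = IsLocalRing.maximalIdeal R := by
      ext r
      show (algebraMap R A r) ⊗ₜ[R] (1 : B) ∈ M ↔ _
      rw [show (algebraMap R A r) ⊗ₜ[R] (1 : B) = (1 : A) ⊗ₜ[R] algebraMap R B r by
        rw [Algebra.algebraMap_eq_smul_one, Algebra.algebraMap_eq_smul_one, TensorProduct.smul_tmul], hMB M hM,
        ← Ideal.mem_comap, IsLocalRing.maximalIdeal_comap]
    have : (P.comap (algebraMap R A)).IsMaximal := hPR ▸ inferInstance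
    have hPm : P.IsMaximal := Ideal.isMaximal_of_isIntegral_of_isMaximal_comap P this
    rw [← IsLocalRing.eq_maximalIdeal hPm] at ha
    exact ha
  have key : ∀ x : A ⊗[R] B, ∃ (n : ℕ) (b : B), ∀ M : Ideal (A ⊗[R] B), M.IsMaximal →
      x ^ p ^ n - (1 : A) ⊗ₜ[R] b ∈ M := by
    intro x
    induction x using TensorProduct.induction_on with
    | zero => exact ⟨0, 0, fun M _ => by rw [TensorProduct.tmul_zero, pow_zero, pow_one, sub_zero]; exact zero_mem _⟩
    | tmul a b =>
      obtain ⟨n, r, hr⟩ := IsPurelyInseparable.pow_mem (IsLocalRing.ResidueField R)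
        (ringExpChar (IsLocalRing.ResidueField R)) (IsLocalRing.residue A a)
      obtain ⟨r, rfl⟩ := IsLocalRing.residue_surjective r
      have hpR : ringExpChar (IsLocalRing.ResidueField R) = p := by
        have := expChar_of_injective_algebraMap (R := IsLocalRing.ResidueField R) (A := IsLocalRing.ResidueField B)
          (RingHom.injective _) (ringExpChar (IsLocalRing.ResidueField R))
        exact (ringExpChar.eq _ _).symm
      rw [hpR] at hr
      refine ⟨n, algebraMap R B r * b ^ p ^ n, fun M hM => ?_⟩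
      have h1 : a ^ p ^ n - algebraMap R A r ∈ IsLocalRing.maximalIdeal A := by
        rw [← IsLocalRing.residue_eq_zero_iff, map_sub, map_pow, ← hr, sub_eq_zero]
        rfl
      have h2 : (a ^ p ^ n - algebraMap R A r) ⊗ₜ[R] (b ^ p ^ n) ∈ M := by
        have h3 := M.mul_mem_right ((1 : A) ⊗ₜ[R] (b ^ p ^ n)) (hMA M hM _ h1)
        convert h3 using 1
        exact (by rw [Algebra.TensorProduct.tmul_mul_tmul, mul_one, one_mul] :
          _ = ((a ^ p ^ n - algebraMap R A r) ⊗ₜ[R] (1 : B)) * ((1 : A) ⊗ₜ[R] (b ^ p ^ n)))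
      have heq : (1 : A) ⊗ₜ[R] (algebraMap R B r * b ^ p ^ n) = algebraMap R A r ⊗ₜ[R] (b ^ p ^ n) := by
        rw [← Algebra.smul_def, ← TensorProduct.smul_tmul, ← Algebra.algebraMap_eq_smul_one]
      rw [Algebra.TensorProduct.tmul_pow, heq]
      have hs := TensorProduct.sub_tmul (R := R) (a ^ p ^ n) (algebraMap R A r) (b ^ p ^ n)
      exact hs ▸ h2
    | add x y hx hy =>
      obtain ⟨n, b, hb⟩ := hx
      obtain ⟨m, c, hc⟩ := hy
      refine ⟨n + m, b ^ p ^ m + c ^ p ^ n, fun M hM => ?_⟩
      let := Ideal.Quotient.field M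
      let h : IsLocalRing.ResidueField B →+* (A ⊗[R] B) ⧸ M := Ideal.Quotient.lift _
        ((Ideal.Quotient.mk M).comp (algebraMap B (A ⊗[R] B))) fun z hz =>
          Ideal.Quotient.eq_zero_iff_mem.2 ((hMB M hM z).2 hz)
      have : ExpChar ((A ⊗[R] B) ⧸ M) p := expChar_of_injective_ringHom h.injective p
      have hb' := Ideal.Quotient.eq.2 (hb M hM)
      have hc' := Ideal.Quotient.eq.2 (hc M hM)
      rw [map_pow] at hb' hc'
      refine Ideal.Quotient.eq.1 ?_
      rw [map_pow, map_add, add_pow_expChar_pow, TensorProduct.tmul_add, map_add,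
        show (1 : A) ⊗ₜ[R] (b ^ p ^ m) = ((1 : A) ⊗ₜ[R] b) ^ p ^ m by rw [Algebra.TensorProduct.tmul_pow, one_pow],
        show (1 : A) ⊗ₜ[R] (c ^ p ^ n) = ((1 : A) ⊗ₜ[R] c) ^ p ^ n by rw [Algebra.TensorProduct.tmul_pow, one_pow],
        map_pow, map_pow, ← hb', ← hc', ← pow_mul, ← pow_mul, ← pow_add, ← pow_add, add_comm m n]
  have hnt : Nontrivial (A ⊗[R] B) := by
    let V := IsLocalRing.ResidueField A ⊗[IsLocalRing.ResidueField R] IsLocalRing.ResidueField B
    let Φ : A ⊗[R] B →ₐ[R] V := Algebra.TensorProduct.lift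
      (((Algebra.TensorProduct.includeLeft : IsLocalRing.ResidueField A →ₐ[IsLocalRing.ResidueField R] V).restrictScalars R).comp
        (IsScalarTower.toAlgHom R A (IsLocalRing.ResidueField A)))
      (((Algebra.TensorProduct.includeRight : IsLocalRing.ResidueField B →ₐ[IsLocalRing.ResidueField R] V).restrictScalars R).comp
        (IsScalarTower.toAlgHom R B (IsLocalRing.ResidueField B))) fun _ _ => Commute.all _ _
    have : Nontrivial V := Algebra.TensorProduct.nontrivial_of_algebraMap_injective_of_isDomain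
      (IsLocalRing.ResidueField R) _ _ (RingHom.injective _) (RingHom.injective _)
    exact Φ.toRingHom.domain_nontrivial
  obtain ⟨M, hM⟩ := Ideal.exists_maximal (A ⊗[R] B)
  have huniq : ∀ M' : Ideal (A ⊗[R] B), M'.IsMaximal → M' = M := by
    intro M' hM'
    refine hM'.eq_of_le hM.ne_top fun x hx => ?_
    obtain ⟨n, b, hb⟩ := key x
    have hpn : 0 < p ^ n := pow_pos (expChar_pos (IsLocalRing.ResidueField B) p) n
    have h1 : (1 : A) ⊗ₜ[R] b ∈ M' := by
      have h1 := sub_mem (M'.pow_mem_of_mem hx _ hpn) (hb M' hM')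
      rwa [sub_sub_cancel] at h1
    refine hM.isPrime.mem_of_pow_mem (p ^ n) ?_
    have := add_mem (hb M hM) ((hMB M hM b).2 ((hMB M' hM' b).1 h1))
    rwa [sub_add_cancel] at this
  have hloc : IsLocalRing (A ⊗[R] B) := IsLocalRing.of_unique_max_ideal ⟨M, hM, huniq⟩
  have hmax := IsLocalRing.maximalIdeal.isMaximal (A ⊗[R] B)
  refine ⟨hloc, ⟨fun b hb => ?_⟩, fun x => ?_⟩
  · by_contra hu
    exact (IsLocalRing.mem_maximalIdeal _).1 ((hMB _ hmax b).2 ((IsLocalRing.mem_maximalIdeal _).2 hu)) hb
  · obtain ⟨n, b, hb⟩ := key x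
    exact ⟨n, b, hb _ hmax⟩

end Groth.Agent.S13198
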