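import Groth.Statements.S12899
import Groth.Agent.DAlg.Torsion
import Groth.Agent.DAlg.Fibre


set_option autoImplicit false
universe u
open CategoryTheory CategoryTheory.Limits
attribute [local instance] HasDerivedCategory.standard
open DRing

namespace Groth.Agent.S12899

/-- Let R be a commutative ring, f ∈ R and M an object of D(R) such that (1) H^i(M) = 0 for i &gt; 0,
(2) in D(R_f), M ⊗^L_R R_f is isomorphic to a flat R_f-module concentrated in degree 0, and (3) in
D(R/fR), M ⊗^L_R R/fR is isomorphic to a flat R/fR-module concentrated in degree 0. Then, in D(R), M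
itself is isomorphic to a flat R-module concentrated in degree 0. (The derived base change functors
along R → R_f and R → R/fR are the stated instance hypotheses, both true.) -/
theorem result {R : Type u} [CommRing R] (f : R) (M : Dual.D R)
    [DRing.HasLBaseChange (algebraMap R (Localization.Away f))]
    [DRing.HasLBaseChange (Ideal.Quotient.mk (Ideal.span ({f} : Set R)))]
    (h1 : ∀ i : ℤ, 0 < i → Subsingleton (Dual.HD R M i))
    (h2 : ∃ (N : Type u) (_ : AddCommGroup N) (_ : Module (Localization.Away f) N),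
      Module.Flat (Localization.Away f) N ∧
        Nonempty ((DRing.LBaseChange (algebraMap R (Localization.Away f))).obj M ≅ Dual.inD (Localization.Away f) N))
    (h3 : ∃ (N : Type u) (_ : AddCommGroup N) (_ : Module (R ⧸ Ideal.span ({f} : Set R)) N),
      Module.Flat (R ⧸ Ideal.span ({f} : Set R)) N ∧
        Nonempty ((DRing.LBaseChange (Ideal.Quotient.mk (Ideal.span ({f} : Set R)))).obj M ≅
          Dual.inD (R ⧸ Ideal.span ({f} : Set R)) N)) :
    ∃ (N : Type u) (_ : AddCommGroup N) (_ : Module R N), Module.Flat R N ∧ Nonempty (M ≅ Dual.inD R N) := by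
  obtain ⟨F, hF, hfree, ⟨e⟩⟩ := DAlg.exists_free_rep R (b := 0) h1
  have hproj : ∀ i, Module.Projective R (F.X i) := fun i => have := hfree i; inferInstance
  have hflat : ∀ i, Module.Flat R (F.X i) := fun i => have := hproj i; inferInstance
  have := DAlg.isKProjective_of_bounded hF hproj
  obtain ⟨N₂, i2, i2', hN₂, ⟨e2⟩⟩ := h2
  obtain ⟨N₃, i3, i3', hN₃, ⟨e3⟩⟩ := h3
  have ha2 := DAlg.TorAmp.of_iso (DAlg.torAmp_mD_of_flat (ModuleCat.of (Localization.Away f) N₂))
    (e2.symm ≪≫ (DRing.LBaseChange _).mapIso e.symm)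
  have ha3 := DAlg.TorAmp.of_iso (DAlg.torAmp_mD_of_flat (ModuleCat.of (R ⧸ Ideal.span ({f} : Set R)) N₃))
    (e3.symm ≪≫ (DRing.LBaseChange _).mapIso e.symm)
  have hamp : DRing.HasTorAmplitudeIn R 0 0 M := by
    refine DAlg.torAmp_of_forall_tensor F hF hflat e fun L j hj => ?_
    rcases hj with hj | hj
    · refine DAlg.isZero_tensor_of_away F j f (fun i hi T _ _ hT => ?_) L
        (DAlg.isZero_tensor_of_baseChange (algebraMap R (Localization.Away f)) F ha2
          (TensorProduct R (Localization.Away f) L) (fun r x => algebraMap_smul _ r x) j (Or.inl hj))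
      have ht : Module.IsTorsionBySet R T (Ideal.span ({f} : Set R)) :=
        (Module.isTorsionBySet_span_singleton_iff f).2 fun x => hT x
      let _ := ht.module
      exact DAlg.isZero_tensor_of_baseChange (Ideal.Quotient.mk _) F ha3 T (fun r x => rfl) i
        (Or.inl (by omega))
    · exact DAlg.isZero_homology_of_isZero_X (DAlg.isZero_tensorCx_X (hF j hj) L)
  obtain ⟨E, hE, hEf, ⟨eE⟩⟩ := hamp
  have : E.IsStrictlyGE 0 := (CochainComplex.isStrictlyGE_iff E 0).2 fun i hi => hE i (Or.inl hi)
  have : E.IsStrictlyLE 0 := (CochainComplex.isStrictlyLE_iff E 0).2 fun i hi => hE i (Or.inr hi)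
  obtain ⟨Y, ⟨eY⟩⟩ := CochainComplex.exists_iso_single E 0
  have : IsIso (eY.hom.f 0) := inferInstanceAs (IsIso ((HomologicalComplex.eval _ _ 0).map eY.hom))
  have := hEf 0
  have : Module.Flat R Y := Module.Flat.of_linearEquiv
    (asIso (eY.hom.f 0) ≪≫ HomologicalComplex.singleObjXSelf (ComplexShape.up ℤ) 0 Y).symm.toLinearEquiv
  exact ⟨Y, inferInstance, inferInstance, this, ⟨eE.symm ≪≫ DerivedCategory.Q.mapIso eY ≪≫
    ((DerivedCategory.singleFunctorIsoCompQ _ 0).app Y).symm⟩⟩

end Groth.Agent.S12899
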