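import Groth.Statements.S12901
import Groth.Agent.S0056
import Groth.Agent.FormalPic.System
import Groth.Agent.AdicLinTop.SysExamples
import Groth.Agent.AdicLinTop.SysPullback

set_option maxHeartbeats 1000000
set_option linter.style.haveILetI false
set_option backward.isDefEq.respectTransparency.types false

open CategoryTheory AlgebraicGeometry in
/-- A closed immersion is the subscheme of its kernel. -/
theorem Groth.GrothAlgz.exists_iso_subscheme {Z Y : Scheme} (i : Z ⟶ Y) [IsClosedImmersion i]
    {K : Y.IdealSheafData} (h : i.ker = K) : ∃ σ : Z ≅ K.subscheme, σ.hom ≫ K.subschemeι = i := by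
  subst h
  exact ⟨asIso i.toImage, i.toImage_imageι⟩

set_option autoImplicit false
universe u
open CategoryTheory AlgebraicGeometry
open FSch

namespace Groth.Agent.S12901

/-- Let A be a complete Noetherian local ring with maximal ideal m, and 𝔛 a formal scheme proper and
flat over A, presented as an adic system X_0 → X_1 → ⋯ over the thickenings Spec(A/m^{n+1}) (the
structure morphism is adic with proper level 0, and every level X_n → Spec(A/m^{n+1}) is flat). If
X_0 is projective (it carries an ample invertible sheaf) and H^2(X_0, O_{X_0}) = 0, then 𝔛 is the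
m-adic completion of a projective A-scheme: there are a proper A-scheme X carrying an ample
invertible sheaf and an isomorphism of systems, over the base, between 𝔛 and the completion of X
along the pulled-back ideal. -/
theorem result (A : Type u) [CommRing A] [IsLocalRing A]
    [IsNoetherianRing A] [IsAdicComplete (IsLocalRing.maximalIdeal A) A]
    (𝔛 : FSch.Sys.{u}) (f : 𝔛 ⟶ FSch.completionAlong (Spec (CommRingCat.of A)) (FSch.idealSpec A (IsLocalRing.maximalIdeal A)))
    (hf : FSch.IsProperHom f) (hflat : ∀ n : ℕ, Flat ((f : FSch.Hom _ _).app n))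
    (hproj : ∃ L₀ : (𝔛.X 0).Modules, CohB1.IsAmple L₀)
    (hH2 : Subsingleton (Coh.HH (𝔛.X 0) (Coh.structureModule (𝔛.X 0)) 2)) :
    ∃ (X : Scheme.{u}) (g : X ⟶ (Spec (CommRingCat.of A))) (L : X.Modules), IsProper g ∧ CohB1.IsAmple L ∧
      ∃ (h : FSch.PowCompat g ((FSch.idealSpec A (IsLocalRing.maximalIdeal A)).comap g) (FSch.idealSpec A (IsLocalRing.maximalIdeal A)))
        (e : 𝔛 ≅ FSch.completionAlong X ((FSch.idealSpec A (IsLocalRing.maximalIdeal A)).comap g)),
        e.hom ≫ FSch.completionMap g ((FSch.idealSpec A (IsLocalRing.maximalIdeal A)).comap g) (FSch.idealSpec A (IsLocalRing.maximalIdeal A)) h = f := by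
  let I := IsLocalRing.maximalIdeal A
  let Y := Spec (CommRingCat.of A)
  let K := FSch.idealSpec A I
  let 𝔖 := FSch.completionAlong Y K
  haveI : ∀ n, IsClosedImmersion (CohB1.specQuot I n) := fun n =>
    IsClosedImmersion.spec_of_surjective _ Ideal.Quotient.mk_surjective
  have hker : ∀ n, (CohB1.specQuot I n).ker = K ^ (n + 1) := fun n =>
    Groth.AdicLinTop.Thickenings.idealSpec_pow I (n + 1)
  choose σ hσ using fun n => Groth.GrothAlgz.exists_iso_subscheme (CohB1.specQuot I n) (hker n)
  let fn : ∀ n, 𝔛.X n ⟶ (K ^ (n + 1)).subscheme := fun n => (f : FSch.Hom _ _).app n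
  let p : ∀ n, 𝔛.X n ⟶ Spec (CommRingCat.of (A ⧸ I ^ (n + 1))) := fun n => fn n ≫ (σ n).inv
  have hσι : ∀ n, CohB1.specQuotTrans I n ≫ (σ (n + 1)).hom = (σ n).hom ≫ 𝔖.ι n := by
    intro n
    haveI : Mono (K ^ (n + 1 + 1)).subschemeι := inferInstance
    refine (cancel_mono (K ^ (n + 1 + 1)).subschemeι).1 ?_
    rw [Category.assoc, hσ, CohB1.specQuotTrans_specQuot]
    refine Eq.symm ((Category.assoc _ _ _).trans ?_)
    exact (congrArg ((σ n).hom ≫ ·) (Scheme.IdealSheafData.inclusion_subschemeι _)).trans (hσ n)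
  have hcart : ∀ n, IsPullback (𝔛.ι n) (p n) (p (n + 1)) (CohB1.specQuotTrans I n) := fun n =>
    (hf.1 n).of_iso (Iso.refl _) (Iso.refl _) (σ n).symm (σ (n + 1)).symm
      ((Category.comp_id _).trans (Category.id_comp _).symm)
      (Category.id_comp _).symm (Category.id_comp _).symm (by
        exact (Iso.eq_inv_comp (σ n)).2 ((Category.assoc _ _ _).symm.trans
          ((Iso.comp_inv_eq (σ (n + 1))).2 (hσι n).symm)))
  haveI := hf.2
  have hp : IsProper (p 0) := MorphismProperty.comp_mem @IsProper (fn 0) (σ 0).inv hf.2 inferInstance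
  have hflat' : ∀ n, Flat (p n) := fun n =>
    MorphismProperty.comp_mem @Flat (fn n) (σ n).inv (hflat n) inferInstance
  haveI : (𝔛.X 0).IsSeparated := by
    haveI := hp
    exact ⟨by
      rw [Subsingleton.elim (Limits.terminal.from (𝔛.X 0)) (p 0 ≫ Limits.terminal.from _)]
      infer_instance⟩
  obtain ⟨L₀, hL₀⟩ := hproj
  choose lift hlift using fun (n : ℕ) (L : {L : (𝔛.X n).Modules // PicF.IsInvertible L}) =>
    Groth.FormalPic.exists_lift_step hcart hflat' hH2 n L.2
  let Ls : ∀ n, {L : (𝔛.X n).Modules // PicF.IsInvertible L} := fun n =>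
    Nat.rec (motive := fun n => {L : (𝔛.X n).Modules // PicF.IsInvertible L}) ⟨L₀, hL₀.1⟩
      (fun n L => ⟨lift n L, (hlift n L).1⟩) n
  obtain ⟨X, g, M, e, hg, -, hMa, hpb, he, -⟩ := Groth.Agent.S0056.result A I 𝔛.X p 𝔛.ι hcart hp
    (fun n => (Ls n).1) (fun n => (Ls n).2) (fun n => (hlift n (Ls n)).2) hL₀
  have h : FSch.PowCompat g (K.comap g) K := fun n => (Groth.Divisors.comap_pow K g (n + 1)).le
  have hpb' : ∀ n, IsPullback (e n) (fn n) g (FSch.completionToX Y K n) := fun n =>
    (hpb n).of_iso (Iso.refl _) (Iso.refl _) (σ n) (Iso.refl _) ((Category.comp_id _).trans (Category.id_comp _).symm)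
      (((Category.assoc _ _ _).trans ((congrArg (fn n ≫ ·) (σ n).inv_hom_id).trans (Category.comp_id _))).trans
        (Category.id_comp _).symm)
      ((Category.comp_id _).trans (Category.id_comp _).symm)
      ((Category.comp_id _).trans (hσ n).symm)
  let ε : ∀ n, 𝔛.X n ≅ (FSch.completionAlong X (K.comap g)).X n := fun n =>
    (hpb' n).isoIsPullback _ _ (Groth.AdicLinTop.Thickenings.isPullback_completionToX g K h n)
  have hε1 : ∀ n, (ε n).hom ≫ FSch.completionToX X (K.comap g) n = e n := fun n =>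
    (hpb' n).isoIsPullback_hom_fst _ _ _
  have hε2 : ∀ n, (ε n).hom ≫ (FSch.completionMap g (K.comap g) K h : FSch.Hom _ _).app n = fn n :=
    fun n => (hpb' n).isoIsPullback_hom_snd _ _ _
  have hεc : ∀ n, (ε n).hom ≫ (FSch.completionAlong X (K.comap g)).ι n =
      𝔛.ι n ≫ (ε (n + 1)).hom := fun n => by
    refine (cancel_mono (FSch.completionToX X (K.comap g) (n + 1))).1 ?_
    rw [Category.assoc, Category.assoc]
    exact ((congrArg ((ε n).hom ≫ ·) (Scheme.IdealSheafData.inclusion_subschemeι _)).trans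
      (hε1 n)).trans ((he n).trans (congrArg (𝔛.ι n ≫ ·) (hε1 (n + 1)).symm))
  let eh : 𝔛 ⟶ FSch.completionAlong X (K.comap g) := ⟨fun n => (ε n).hom, hεc⟩
  let ei : FSch.completionAlong X (K.comap g) ⟶ 𝔛 := ⟨fun n => (ε n).inv, fun n => by
    rw [Iso.inv_comp_eq, ← Category.assoc, hεc, Category.assoc, Iso.hom_inv_id, Category.comp_id]⟩
  exact ⟨X, g, M, hg, hMa, h,
    ⟨eh, ei, FSch.Hom.ext (funext fun n => (ε n).hom_inv_id),
      FSch.Hom.ext (funext fun n => (ε n).inv_hom_id)⟩,
    FSch.Hom.ext (funext fun n => hε2 n)⟩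

end Groth.Agent.S12901
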