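import Groth.Statements.S12902
import Groth.Agent.QCohMod.QCQS

set_option autoImplicit false
universe u
open CategoryTheory CategoryTheory.Limits AlgebraicGeometry
open Coherent

namespace Groth.Agent.S12902

/-- Let X be a scheme, j : U → X a quasi-compact open immersion, Z the closed complement of U, and F a
quasi-coherent O_X-module. Then the subsheaf Γ_Z(F) ⊆ F of sections supported in Z (the kernel of F
→ j_*(F|_U)) is a quasi-coherent O_X-module. -/
theorem result {U X : Scheme.{u}} (j : U ⟶ X) [IsOpenImmersion j] [QuasiCompact j]
    (F : X.Modules) (hF : Coh.IsQCoh F) :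
    Coh.IsQCoh ((DCoh.gammaZ j).obj F) := by
  haveI : F.IsQuasicoherent := hF
  haveI : (F.restrict j).IsQuasicoherent := Scheme.Modules.isQuasicoherent_restrictFunctor j F
  haveI : ((Scheme.Modules.pushforward j).obj (F.restrict j)).IsQuasicoherent :=
    Groth.QCohMod.isQCoh_pushforward _ j
  haveI : ((𝟭 X.Modules).obj F).IsQuasicoherent := hF
  haveI : ((Scheme.Modules.restrictFunctor j ⋙ Scheme.Modules.pushforward j).obj F).IsQuasicoherent :=
    ‹((Scheme.Modules.pushforward j).obj (F.restrict j)).IsQuasicoherent›
  exact Groth.QCohMod.isQCoh_kernel ((Scheme.Modules.restrictAdjunction j).unit.app F)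

end Groth.Agent.S12902
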