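import Groth.Statements.S12903
import Groth.Agent.QCohMod.QCQS

set_option autoImplicit false
universe u
open CategoryTheory CategoryTheory.Limits AlgebraicGeometry Opposite
open Coherent

namespace Groth.Agent.S12903

/-- The core equivalence, in plain notation. -/
theorem core {X : Scheme.{u}} (F : X.Modules) [F.IsQuasicoherent] (R : X.Opens) (V : X.Opens)
    (hV : IsAffineOpen V) (I : Ideal Γ(X, V)) (hI : I.FG)
    (hZ : ∀ x : X, x ∈ V → (x ∉ R ↔ ∀ f ∈ I, x ∉ X.basicOpen f)) (s : Γ(F, V))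
    {W : X.Opens} (hW : W ≤ V) (hW' : ∀ x, x ∈ W ↔ x ∈ R ∧ x ∈ V) :
    Groth.QCohMod.res F hW s = 0 ↔ ∃ n : ℕ, ∀ a ∈ I ^ n, a • s = 0 := by
  have hle : ∀ f ∈ I, X.basicOpen f ≤ W := fun f hf x hx => by
    have hxV : x ∈ V := X.basicOpen_le f hx
    refine (hW' x).2 ⟨?_, hxV⟩
    by_contra h
    exact (hZ x hxV).1 h f hf hx
  constructor
  · intro h
    let J : Ideal Γ(X, V) := LinearMap.ker (LinearMap.toSpanSingleton Γ(X, V) Γ(F, V) s)
    have hJ : I ≤ J.radical := fun f hf => by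
      obtain ⟨n, hn⟩ := Groth.QCohMod.exists_pow_smul_eq_zero F hV f s (by
        rw [← Groth.QCohMod.res_res F hW (hle f hf), h, map_zero])
      exact ⟨n, hn⟩
    obtain ⟨n, hn⟩ := Ideal.exists_pow_le_of_le_radical_of_fg hJ hI
    exact ⟨n, fun a ha => hn ha⟩
  · rintro ⟨n, hn⟩
    refine TopCat.Sheaf.eq_of_locally_eq' ⟨F.presheaf, F.isSheaf⟩
      (fun f : I => X.basicOpen f.1) W (fun f => homOfLE (hle f.1 f.2)) ?_ _ _ (fun f => ?_)
    · intro x hx
      obtain ⟨hxR, hxV⟩ := (hW' x).1 hx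
      have h := mt (hZ x hxV).2 (not_not.2 hxR)
      push_neg at h
      obtain ⟨f, hf, hxf⟩ := h
      exact TopologicalSpace.Opens.mem_iSup.2 ⟨⟨f, hf⟩, hxf⟩
    · change Groth.QCohMod.res F (hle f.1 f.2) (Groth.QCohMod.res F hW s) =
        Groth.QCohMod.res F (hle f.1 f.2) 0
      rw [map_zero, Groth.QCohMod.res_res]
      have hu : IsUnit (Groth.QCohMod.resFun X ((hle f.1 f.2).trans hW) f.1) :=
        X.toRingedSpace.isUnit_res_basicOpen f.1
      refine (hu.pow n).smul_left_cancel.1 ?_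
      rw [smul_zero, ← map_pow, ← Groth.QCohMod.res_smul, hn _ (Ideal.pow_mem_pow f.2 n), map_zero]

/-- Let X be a scheme, j : U → X a quasi-compact open immersion with closed complement Z, F a
quasi-coherent O_X-module, V an affine open of X and I a finitely generated ideal of Γ(V, O_X)
cutting out Z ∩ V (a point of V lies outside U if and only if it lies in no basic open X_f with f ∈
I). Then a section s of F over V belongs to the subsheaf Γ_Z(F) of sections supported in Z (the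
kernel of F → j_*(F|_U)) if and only if I^n s = 0 for some n. -/
theorem result {U X : Scheme.{u}} (j : U ⟶ X) [IsOpenImmersion j] [QuasiCompact j]
    (F : X.Modules) (hF : Coh.IsQCoh F) (V : X.Opens) (hV : IsAffineOpen V)
    (I : Ideal (X.ringCatSheaf.obj.obj (op V))) (hI : I.FG)
    (hZ : ∀ x : X, x ∈ V → (x ∉ Set.range j.base ↔ ∀ f ∈ I, x ∉ X.basicOpen (f : Γ(X, V))))
    (s : F.val.obj (op V)) :
    s ∈ Set.range ((((CxOX.gammaZι j).app F).val.app (op V)).hom) ↔ ∃ n : ℕ, ∀ a ∈ I ^ n, a • s = 0 := by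
  haveI : F.IsQuasicoherent := hF
  let u := (Scheme.Modules.restrictAdjunction j).unit.app F
  have hW' : ∀ x, x ∈ j ''ᵁ (j ⁻¹ᵁ V) ↔ x ∈ j.opensRange ∧ x ∈ V := fun x =>
    ⟨fun ⟨y, hy, e⟩ => ⟨⟨y, e⟩, e ▸ hy⟩, fun ⟨⟨y, e⟩, hx⟩ => ⟨y, by
      change j.base y ∈ V
      exact e ▸ hx, e⟩⟩
  refine Iff.trans ?_ (core F j.opensRange V hV I hI hZ s (j.image_preimage_le V) hW')
  change s ∈ Set.range ((kernel.ι u).app V) ↔ u.app V s = 0
  constructor
  · rintro ⟨t, rfl⟩
    rw [← ConcreteCategory.comp_apply, ← Scheme.Modules.Hom.comp_app, kernel.condition]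
    rfl
  · intro h
    exact Groth.QCohMod.exists_app_eq_of_mono_exact
      (S := ShortComplex.mk _ _ (kernel.condition u))
      (ShortComplex.exact_of_f_is_kernel _ (kernelIsKernel u)) V s h

end Groth.Agent.S12903
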