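import Groth.Statements.S12905
import Groth.Agent.Variety2.Reg.Support

set_option autoImplicit false
universe u
open CategoryTheory CategoryTheory.Limits AlgebraicGeometry
open Variety

namespace Groth.Agent.S12905

/-- Let k be a field and φ : F' → F a monomorphism of coherent modules on P^n_k whose cokernel has
support of Krull dimension at most zero (a finite set of closed points, possibly empty). If F' is
m-regular then F is m-regular. (The published statement is the case of an ideal sheaf contained in
the ideal sheaf of a curve with quotient supported at finitely many points, phrased as an inequality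
of regularities; the argument gives the form stated here.) -/
theorem result (k : Type u) [Field k] (n : ℕ)
    (F' F : (CohB1.ProjSpace n k).Modules) (hF' : Coh.IsCoh F') (hF : Coh.IsCoh F) (φ : F' ⟶ F) [Mono φ]
    (hsupp : topologicalKrullDim (CohB1.support (cokernel φ)) ≤ 0) (m : ℤ)
    (h : Curv2.IsMRegular k n F' m) : Curv2.IsMRegular k n F m := by
  haveI := hF'.1
  haveI : IsLocallyNoetherian (CohB1.ProjSpace n k) := Groth.PnCoh.isLocallyNoetherian_projSpace n k
  haveI : CompactSpace (CohB1.ProjSpace n k) :=
    QuasiCompact.compactSpace_of_compactSpace (CohB1.ProjSpace.toSpec n k)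
  haveI : IsNoetherian (CohB1.ProjSpace n k) := {}
  have hQ := Groth.QCohMod.isCoh_cokernel φ hF
  intro i hi hin
  refine Groth.Variety2.Reg.subsingleton_mid k
    (Groth.Variety2.Reg.shortExact_fT (Groth.Variety2.Reg.cokernel_shortExact φ) (m - i)) (h i hi hin) ?_
  exact Groth.Variety2.Reg.subsingleton_HH_of_support_zero _ (Groth.CohTwo.isClosed_support _ hQ) hsupp
    (Groth.Variety2.Reg.support_fT_subset _ _) hi

end Groth.Agent.S12905
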