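import Groth.Statements.S12909
import Groth.Agent.Calg8.FiniteFreeResolution
import Mathlib

set_option autoImplicit false
universe u
open CAlgX

namespace Groth.Agent.S12909

/-- Let R be a Noetherian ring and I a nonzero ideal with a finite free resolution 0 → R^{n_e} → … →
R^{n_1} → R^{n_0} → I → 0 with e ≥ 1: the map R^{n_{i+1}} → R^{n_i} is the matrix A_i, the map π :
R^{n_0} → R is linear with image I, the kernel of π is the image of A_0, the kernel of A_i is the
image of A_{i+1} for 0 ≤ i ≤ e - 2, and A_{e-1} is injective. Then I contains a non-zero-divisor of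
R. (The hypothesis that I is nonzero is implicit in the published statement: the zero ideal of a
domain has a finite free resolution and contains no non-zero-divisor.) -/
theorem result {R : Type u} [CommRing R] [IsNoetherianRing R]
    (e : ℕ) (he : 1 ≤ e) (n : ℕ → ℕ) (A : (i : ℕ) → Matrix (Fin (n i)) (Fin (n (i + 1))) R)
    (π : (Fin (n 0) → R) →ₗ[R] R) (hI : LinearMap.range π ≠ ⊥)
    (h0 : LinearMap.ker π = LinearMap.range (A 0).mulVecLin)
    (hA : ∀ i, i + 2 ≤ e → LinearMap.ker (A i).mulVecLin = LinearMap.range (A (i + 1)).mulVecLin)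
    (hlast : LinearMap.ker (A (e - 1)).mulVecLin = ⊥) :
    ∃ x : R, x ∈ LinearMap.range π ∧ x ∈ nonZeroDivisors R := by
  classical
  obtain ⟨e, rfl⟩ : ∃ k, e = k + 1 := ⟨e - 1, by omega⟩
  let n' : ℕ → ℕ := fun | 0 => 1 | i + 1 => n i
  let B : (i : ℕ) → Matrix (Fin (n' i)) (Fin (n' (i + 1))) R := fun
    | 0 => Matrix.of fun _ j => π (Pi.single j 1)
    | i + 1 => A i
  have hπ : ∀ (z : Fin (n 0) → R) (i : Fin (n' 0)), (B 0).mulVec z i = π z := fun z i => by
    rw [LinearMap.pi_apply_eq_sum_univ π z]
    show ∑ j : Fin (n 0), π (Pi.single j 1) * z j = _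
    refine Finset.sum_congr rfl fun j _ => ?_
    rw [show (fun k => if j = k then (1 : R) else 0) = Pi.single j 1 from
      funext fun k => by simp [Pi.single_apply, eq_comm], smul_eq_mul, mul_comm]
  have hcompA : ∀ i, i + 2 ≤ e + 1 → A i * A (i + 1) = 0 := fun i hi => by
    apply Matrix.toLin'.injective
    rw [map_zero, Matrix.toLin'_mul]
    exact LinearMap.range_le_ker_iff.1 (hA i hi).ge
  have hB : Groth.Calg8.IsFreeResolutionChain R (e + 1) n' B := by
    refine ⟨fun i hi z hz => ?_, fun i hi => ?_, fun z hz => ?_⟩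
    · match i, hi, z, hz with
      | 0, _, z, hz =>
        have : z ∈ LinearMap.ker π := by
          have := congrFun hz (0 : Fin 1)
          rwa [hπ] at this
        rw [h0] at this
        exact this
      | i + 1, hi, z, hz =>
        have : z ∈ LinearMap.ker (A i).mulVecLin := hz
        rw [hA i (by omega)] at this
        exact this
    · match i, hi with
      | 0, _ =>
        apply Matrix.toLin'.injective
        rw [map_zero, Matrix.toLin'_mul]
        refine LinearMap.ext fun z => funext fun k => ?_
        show (B 0).mulVec ((A 0).mulVec z) k = 0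
        rw [hπ]
        exact h0.ge ⟨z, rfl⟩
      | i + 1, hi => exact hcompA i (by omega)
    · have : z ∈ LinearMap.ker (A (e + 1 - 1)).mulVecLin := hz
      rwa [hlast, Submodule.mem_bot] at this
  have hne : B 0 ≠ 0 := fun h => hI (LinearMap.range_eq_bot.2 (LinearMap.ext fun z => by
    rw [← hπ z (0 : Fin 1), h]; simp))
  obtain ⟨d, hd, hdreg⟩ := hB.exists_nonZeroDivisor rfl hne
  refine ⟨d, ?_, hdreg⟩
  refine Submodule.span_le.2 ?_ hd
  rintro _ ⟨j, rfl⟩
  exact ⟨Pi.single j 1, rfl⟩

end Groth.Agent.S12909
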