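import Groth.Statements.S12910
import Groth.Agent.Variety2.Reg.Complex

set_option autoImplicit false
universe u
open CategoryTheory CategoryTheory.Limits AlgebraicGeometry
open Variety

namespace Groth.Agent.S12910

/-- Let k be a field, d an integer, and E a bounded chain complex ⋯ → E_2 → E_1 → E_0 of coherent
modules on P^n_k (E_s = 0 for s large) such that E_s is (d + s)-regular for every s and, for every i
> 0, the homology sheaf H_i(E) has support of Krull dimension at most 1. Then the cokernel of E_1 →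
E_0 is d-regular and the image of E_1 → E_0 is (d + 1)-regular. -/
theorem result (k : Type u) [Field k] (n : ℕ)
    (E : ChainComplex ((CohB1.ProjSpace n k).Modules) ℕ) (t : ℕ) (hbdd : ∀ s : ℕ, t < s → IsZero (E.X s))
    (hcoh : ∀ s : ℕ, Coh.IsCoh (E.X s)) (d : ℤ)
    (hreg : ∀ s : ℕ, Curv2.IsMRegular k n (E.X s) (d + s))
    (hsupp : ∀ i : ℕ, 0 < i → topologicalKrullDim (CohB1.support (E.homology i)) ≤ 1) :
    Curv2.IsMRegular k n (cokernel (E.d 1 0)) d ∧
      Curv2.IsMRegular k n (Abelian.image (E.d 1 0)) (d + 1) := by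
  haveI : IsLocallyNoetherian (CohB1.ProjSpace n k) := Groth.PnCoh.isLocallyNoetherian_projSpace n k
  haveI : CompactSpace (CohB1.ProjSpace n k) :=
    QuasiCompact.compactSpace_of_compactSpace (CohB1.ProjSpace.toSpec n k)
  haveI : IsNoetherian (CohB1.ProjSpace n k) := {}
  have hB : ∀ i, Coh.IsCoh (Abelian.image (E.d (i + 1) i)) := fun i =>
    Groth.Variety2.Reg.isCoh_image _ (hcoh _) (hcoh _)
  have key : ∀ (e i : ℕ), t ≤ i + e → ∀ p : ℕ, 1 ≤ p →
      Subsingleton (Coh.HH _ (Groth.Variety2.Reg.fT (Abelian.image (E.d (i + 1) i)) (d + i + 1 - p)) p) := by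
    intro e
    induction e with
    | zero =>
      intro i hi p hp
      refine Groth.Variety2.Reg.subsingleton_of_isZero' k ?_ p
      exact (DCoh.tensorRightMod _).map_isZero
        (IsZero.of_epi (Abelian.factorThruImage (E.d (i + 1) i)) (hbdd (i + 1) (by omega)))
    | succ e ih =>
      intro i hi p hp
      have hH : CohB1.support (E.sc' (i + 1 + 1) (i + 1) i).homology ⊆ CohB1.support (E.homology (i + 1)) :=
        Groth.Variety2.Reg.support_subset_of_iso
          (E.homologyIsoSc' (i + 1 + 1) (i + 1) i (by simp) (by simp))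
      refine Groth.Variety2.Reg.subsingleton_image_step (E.sc' (i + 1 + 1) (i + 1) i) _ ?_ ?_ ?_
      · haveI := (hcoh (i + 1)).1
        exact Groth.Variety2.Reg.vanish_of_mReg (E.X (i + 1)) (hreg (i + 1)) hp (by push_cast; omega)
      · have := ih (i + 1) (by omega) (p + 1) (by omega)
        rwa [show d + ((i + 1 : ℕ) : ℤ) + 1 - ((p + 1 : ℕ) : ℤ) = d + i + 1 - p by push_cast; ring] at this
      · have hcl : Coh.IsCoh (E.homology (i + 1)) :=
          Groth.QCohMod.isCoh_of_iso (E.homologyIsoSc' (i + 1 + 1) (i + 1) i (by simp) (by simp)).symm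
            (Groth.Variety2.Reg.isCoh_homology (E.sc' (i + 1 + 1) (i + 1) i) (hcoh _) (hcoh _) (hcoh _))
        exact Groth.Variety2.Reg.subsingleton_HH_of_support_one _
          (Groth.CohTwo.isClosed_support _ hcl) (hsupp (i + 1) (by omega))
          ((Groth.Variety2.Reg.support_fT_subset _ _).trans hH) (by omega)
  refine ⟨fun p hp _ => ?_, fun p hp _ => ?_⟩
  · haveI := (hcoh 0).1
    refine Groth.Variety2.Reg.subsingleton_right k
      (Groth.Variety2.Reg.shortExact_fT (Groth.Variety2.Reg.image_shortExact (E.d 1 0)) (d - p))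
      (Groth.Variety2.Reg.vanish_of_mReg (E.X 0) (hreg 0) hp (by simp)) ?_
    have := key t 0 (by omega) (p + 1) (by omega)
    rwa [show d + ((0 : ℕ) : ℤ) + 1 - ((p + 1 : ℕ) : ℤ) = d - p by push_cast; ring] at this
  · have := key t 0 (by omega) p hp
    rwa [show d + ((0 : ℕ) : ℤ) + 1 - (p : ℤ) = d + 1 - p by push_cast; ring] at this

end Groth.Agent.S12910
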