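import Groth.Statements.S12911
import Groth.Agent.Variety2.Reg.ENRegular
import Groth.Agent.PnCoh.GlobalFun

set_option autoImplicit false
universe u
open CategoryTheory CategoryTheory.Limits AlgebraicGeometry
open Variety

open Groth.Variety2.Reg

namespace Groth.Agent.S12911

/-- Let k be a field and φ : O(-1)^n → O^m a morphism of modules on P^r_k, that is an m × n matrix of
linear forms; let F be its cokernel and I = Fitt_0(F) the zeroth Fitting ideal sheaf of F, the
quasi-coherent ideal sheaf generated locally by the m × m minors of φ. If the closed subset of P^r_k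
cut out by I has Krull dimension at most 1, then I, viewed as an O-module, is m-regular: H^j(P^r_k,
I(m - j)) = 0 for 1 ≤ j ≤ r. -/
theorem result (k : Type u) [Field k] (r m n : ℕ)
    (φ : (∐ fun _ : Fin n => Twist.twistProjSpace r k (-1)) ⟶ FlatMod.freeMod (CohB1.ProjSpace r k) m)
    (hdim : topologicalKrullDim ((Fitt.sheafIdeal (cokernel φ) 0).support : Set (CohB1.ProjSpace r k)) ≤ 1) :
    Curv2.IsMRegular k r (ClSub.idealMod (Fitt.sheafIdeal (cokernel φ) 0)) m := by
  obtain ⟨ε⟩ := Groth.PnCoh.nonempty_twist_zero_iso (CohB1.polyGrading r k)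
  let t0 : Twist.twist (CohB1.polyGrading r k) (-((0 : ℕ) : ℤ)) ≅ Coh.structureModule (Proj (CohB1.polyGrading r k)) :=
    eqToIso (congrArg (Twist.twist (CohB1.polyGrading r k)) (show -((0 : ℕ) : ℤ) = 0 by simp)) ≪≫ ε
  let e : FlatMod.freeMod (Proj (CohB1.polyGrading r k)) m ≅ frSheaf (r := r) (k := k) (cdeg m 0) :=
    Sigma.mapIso fun _ => t0.symm
  let φ' : frSheaf (r := r) (k := k) (cdeg n (0 + 1)) ⟶ frSheaf (cdeg m 0) :=
    (show frSheaf (r := r) (k := k) (cdeg n (0 + 1)) ⟶ FlatMod.freeMod (Proj (CohB1.polyGrading r k)) m from φ) ≫ e.hom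
  obtain ⟨A, hA, hφ⟩ := exists_matMap_eq φ'
  have hq : (cokernel (matMap (isHomMat_cdeg (c := 0) hA))).IsQuasicoherent := by
    have h1 := isCoh_frSheaf (r := r) (k := k) (cdeg m 0)
    have : (frSheaf (r := r) (k := k) (cdeg n (0 + 1))).IsQuasicoherent := (isCoh_frSheaf (cdeg n (0 + 1))).1
    exact (Groth.QCohMod.isCoh_cokernel (matMap (isHomMat_cdeg (c := 0) hA)) h1).1
  let iso : cokernel (matMap (isHomMat_cdeg (c := 0) hA)) ≅
      cokernel (show frSheaf (r := r) (k := k) (cdeg n (0 + 1)) ⟶ FlatMod.freeMod (Proj (CohB1.polyGrading r k)) m from φ) :=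
    cokernelIsoOfEq hφ.symm ≪≫ cokernelCompIsIso _ e.hom
  have hI : fittI hA = Fitt.sheafIdeal (cokernel (show frSheaf (r := r) (k := k) (cdeg n (0 + 1)) ⟶
      FlatMod.freeMod (Proj (CohB1.polyGrading r k)) m from φ)) 0 :=
    Groth.RefRank.FittSheaf.sheafIdeal_congr _ (isFT_coker hA) iso 0
  exact Eq.mp (congrArg (fun I => Curv2.IsMRegular k r (ClSub.idealMod (X := CohB1.ProjSpace r k) I) (m : ℤ)) hI)
    (mReg_fittI hA (hI ▸ hdim))

end Groth.Agent.S12911
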