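import Groth.Statements.S12912
import Groth.Agent.CurveBridge.SpaceCurve
import Groth.Agent.Curves1.RR.Numerics
import Groth.Agent.VarietyBC.GenusPoints
import Groth.Agent.Duality.SheafHomTwist
import Groth.Agent.PlaneCurve.HypIdeal

set_option autoImplicit false
universe u
open CategoryTheory CategoryTheory.Limits AlgebraicGeometry
open Curves

namespace Groth.Agent.S12912

/-- Let k be an algebraically closed field and X a curve over k (integral, proper over k, of dimension
one) with a closed immersion i : X → P^r_k over k whose image lies in no hyperplane: every nonzero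
global section of O(1) on P^r_k pulls back to a nonzero global section of i^* O(1). Then deg i^*
O(1) ≥ r. -/
theorem result (k : Type u) [Field k] [IsAlgClosed k] (r : ℕ)
    (X : Scheme.{u}) [X.Over (Spec (CommRingCat.of k))] [IsIntegral X] [IsProper (X ↘ (Spec (CommRingCat.of k)))]
    (hdim : topologicalKrullDim X = 1)
    (i : X ⟶ CohB1.ProjSpace r k) [IsClosedImmersion i]
    (hi : i ≫ CohB1.ProjSpace.toSpec r k = (X ↘ (Spec (CommRingCat.of k))))
    (hplane : ∀ s : LinSer.Sect (CohB1.ProjSpace r k) (Twist.twistProjSpace r k 1), s ≠ 0 →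
      OmegaSh.pullSect i (Twist.twistProjSpace r k 1) ⊤ s ≠ 0) :
    (r : ℤ) ≤ Curv2.deg k X ((Scheme.Modules.pullback i).obj (Twist.twistProjSpace r k 1)) 1 := by
  have h0 := Groth.VarietyBC.GenusPoints.h0_eq_one (k := k) (X := X) hdim
  have hinv := Groth.PicAux.isInvertible_pullback i
    (Groth.PlaneCurve.isInvertible_twistProjSpace (r := r) (k := k) 1)
  have := Groth.EulerDeg.isNoetherian_of_proper k X
  rcases Groth.CurveBridge.SpaceCurve.choose_le_h0_or_exists i hi
    (fun M hM => Groth.EulerDeg.finite_HH k X (Groth.EulerDeg.isCoh_of_isInvertible hM) 0) 1 hinv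
    with h | ⟨Q, hQ, hQ0⟩
  · rw [Nat.choose_one_right] at h
    have hnt : Nontrivial (Coh.HH X ((Scheme.Modules.pullback i).obj (Twist.twistProjSpace r k 1)) 0) :=
      Module.nontrivial_of_finrank_pos (R := k) (by exact lt_of_lt_of_le (Nat.succ_pos r) h)
    have h2 := (Groth.Curves1.RR.h0_le_deg_add_one k hdim.le h0 hinv hnt).2
    have h3 : r + 1 ≤ Module.finrank k
        (Coh.HH X ((Scheme.Modules.pullback i).obj (Twist.twistProjSpace r k 1)) 0) := h
    omega
  · exact absurd hQ0 (hplane Q hQ)

end Groth.Agent.S12912
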