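import Groth.Statements.S12913
import Groth.Agent.VBCurves.NegFilt
import Groth.Agent.CurveBridge.RegularSmooth

set_option autoImplicit false
set_option linter.style.haveILetI false
universe u
open CategoryTheory CategoryTheory.Limits AlgebraicGeometry
open Curves

namespace Groth.Agent.S12913

open Groth.VBCurves Groth.VBCurves.NegFilt

theorem filtration (k : Type u) [Field k] [IsAlgClosed k] (C : Scheme.{u})
    [C.Over (Spec (CommRingCat.of k))] [IsIntegral C] [IsProper (C ↘ Spec (CommRingCat.of k))]
    (h : Groth.CurveBridge.IsRegCurve C) (hc : IsVBCurve k C) :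
    ∀ (r : ℕ) (N : C.Modules), FlatMod.IsFinLocFreeOfRank r N →
      (∀ g : Coh.structureModule C ⟶ N, g = 0) →
      ∀ (m : ℕ) (ι : N ⟶ FlatMod.freeMod C m), Mono ι →
      ∃ (M : Fin (r + 1) → C.Modules) (f : (j : Fin r) → (M j.succ ⟶ M j.castSucc)),
        Nonempty (M 0 ≅ N) ∧ IsZero (M (Fin.last r)) ∧
          ∀ j : Fin r, Mono (f j) ∧ PicF.IsInvertible (cokernel (f j)) ∧
            Curv2.deg k C (cokernel (f j)) 1 < 0 := by
  classical
  haveI : IsLocallyNoetherian C :=
    LocallyOfFiniteType.isLocallyNoetherian (C ↘ Spec (CommRingCat.of k))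
  intro r
  induction r with
  | zero =>
    intro N hN _ m ι _
    refine ⟨fun _ => N, fun j => j.elim0, ⟨Iso.refl N⟩, ?_, fun j => j.elim0⟩
    exact isZero_of_rk_eq_zero (Groth.LocFree.isFinLocFree_of_rank hN) (rk_eq hN)
  | succ r ih =>
    intro N hN h0 m ι hι
    let F : Fin m → C.Modules := fun _ => Coh.structureModule C
    let π : ∀ i, (∐ F) ⟶ Coh.structureModule C := fun i =>
      Sigma.desc fun j => if j = i then 𝟙 _ else 0
    have hπ : ∀ i j, Sigma.ι F j ≫ π i = if j = i then 𝟙 _ else 0 := fun i j => Sigma.ι_desc _ _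
    have hid : 𝟙 (∐ F) = ∑ i, π i ≫ Sigma.ι F i := by
      refine Sigma.hom_ext _ _ fun j => ?_
      rw [Category.comp_id, Preadditive.comp_sum, Finset.sum_eq_single j]
      · rw [← Category.assoc, hπ, if_pos rfl, Category.id_comp]
      · intro i _ hij
        rw [← Category.assoc, hπ, if_neg (Ne.symm hij), zero_comp]
      · intro hj; exact absurd (Finset.mem_univ j) hj
    obtain ⟨g, hg0, hge⟩ := exists_functional (k := k) h hc m hN (Nat.succ_pos r) h0
      (fun i => ι ≫ π i) fun x a b hab => by
        refine (Groth.QCohMod.mono_iff_stalk ι).1 hι x ?_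
        have key : ∀ v : N.presheaf.stalk x, Groth.KTheory.LocFree.stalkₗ ι x v =
            ∑ i, Groth.KTheory.LocFree.stalkₗ (Sigma.ι F i) x
              (coords (fun i => ι ≫ π i) x v i • Groth.VectorBundles.RefHullStalk.one x) := by
          intro v
          have h1 : ι = ∑ i, (ι ≫ π i) ≫ Sigma.ι F i := by
            conv_lhs => rw [← Category.comp_id ι, hid, Preadditive.comp_sum]
            simp only [Category.assoc]
          conv_lhs => rw [h1]
          rw [stalk_sum]
          refine Finset.sum_congr rfl fun i _ => ?_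
          rw [stalk_comp, coords_spec (fun i => ι ≫ π i) x v i]
        show Groth.KTheory.LocFree.stalkₗ ι x a = Groth.KTheory.LocFree.stalkₗ ι x b
        rw [key a, key b, hab]
    have hO := Groth.EulerDeg.isInvertible_structureModule C
    have hO1 := Groth.LocFree.isInvertible_iff_ofRank_one.mp hO
    have hOf := Groth.LocFree.isFinLocFree_of_rank hO1
    obtain ⟨S, j, e, hS, hj, hfac, -, hS1, hS3⟩ :=
      exists_factor hc.pid (Groth.LocFree.isFinLocFree_of_rank hN) hOf g
    have hadd := rk_add hS hS1 hS3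
    have hle := rk_le_of_mono j hOf
    rw [rk_eq hO1] at hle
    have hne : rk S.X₃ ≠ 0 := fun hz => hg0 (by
      have hz' := isZero_of_rk_eq_zero hS3 hz
      have : eqToHom e ≫ g = 0 := by rw [← hfac, hz'.eq_zero_of_tgt S.g, zero_comp]
      rw [← cancel_epi (eqToHom e), this, comp_zero])
    have h31 : rk S.X₃ = 1 := by omega
    have h3i : FlatMod.IsFinLocFreeOfRank 1 S.X₃ := h31 ▸ isFinLocFreeOfRank_rk hS3
    have h21 : rk S.X₂ = r + 1 := by rw [e]; exact rk_eq hN
    have h11 : rk S.X₁ = r := by omega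
    haveI := hS.mono_f
    haveI := hS.epi_g
    obtain ⟨M, f, ⟨e0⟩, hlast, hf⟩ := ih S.X₁ (h11 ▸ isFinLocFreeOfRank_rk hS1)
      (fun g' => by
        have := h0 (g' ≫ S.f ≫ eqToHom e)
        rw [← cancel_mono (S.f ≫ eqToHom e), this, zero_comp])
      m ((S.f ≫ eqToHom e) ≫ ι) inferInstance
    let M' : Fin (r + 2) → C.Modules := Fin.cons S.X₂ M
    let f' : (j : Fin (r + 1)) → (M' j.succ ⟶ M' j.castSucc) :=
      fun j => Fin.cases (motive := fun j => M' j.succ ⟶ M' j.castSucc) (e0.hom ≫ S.f)
        (fun i => f i) j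
    refine ⟨M', f', ⟨eqToIso e⟩, hlast, fun i => ?_⟩
    induction i using Fin.cases with
    | succ i => exact hf i
    | zero =>
      show Mono (e0.hom ≫ S.f) ∧ PicF.IsInvertible (cokernel (e0.hom ≫ S.f)) ∧
        Curv2.deg k C (cokernel (e0.hom ≫ S.f)) 1 < 0
      let ec : cokernel (e0.hom ≫ S.f) ≅ S.X₃ := cokernelEpiComp e0.hom S.f ≪≫
        (cokernelIsCokernel S.f).coconePointUniqueUpToIso hS.gIsCokernel
      refine ⟨inferInstance,
        Groth.LocFree.isInvertible_iff_ofRank_one.mpr
          (Groth.LocFree.isFinLocFreeOfRank_of_iso ec.symm h3i), ?_⟩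
      rw [Groth.EulerDeg.deg_congr k ec 1, dg_eq k h3i]
      have hd := dg_le_of_mono k hc.dim.le hS3 hOf j (by rw [h31, rk_eq hO1])
      have hO0 : dg k (Coh.structureModule C) = 0 := by
        rw [← dg_eq k hO1]; exact Groth.EulerDeg.deg_structure k
      refine lt_of_le_of_ne (hd.1.trans hO0.le) fun h0' => hge ?_
      have hiso : IsIso j := hd.2.mp (h0'.trans hO0.symm)
      have h5 : Epi (eqToHom e ≫ g) := by rw [← hfac]; infer_instance
      exact epi_of_epi (eqToHom e) g

/-- Let k be an algebraically closed field, C a curve over k (integral, proper over k, of dimension one,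
all local rings regular), and N a locally free O_C-module of rank r which admits a monomorphism into
O_C^m for some m and has no nonzero global section. Then there is a filtration N = N_0 ⊃ N_1 ⊃ ⋯ ⊃
N_r = 0 whose successive quotients are invertible sheaves of strictly negative degree; it is given
here as modules M_0, …, M_r with M_0 ≅ N, M_r = 0 and monomorphisms M_{j+1} → M_j whose cokernels
are invertible of negative degree. -/
theorem result (k : Type u) [Field k] [IsAlgClosed k]
    (C : Scheme.{u}) [C.Over (Spec (CommRingCat.of k))] [IsIntegral C] [IsProper (C ↘ (Spec (CommRingCat.of k)))]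
    (hdim : topologicalKrullDim C = 1) (hreg : ∀ x : C, IsRegularLocalRing (C.presheaf.stalk x))
    (N : C.Modules) (r : ℕ) (hN : FlatMod.IsFinLocFreeOfRank r N) (m : ℕ) (ι : N ⟶ FlatMod.freeMod C m) [Mono ι]
    (h0 : ∀ s : LinSer.Sect C N, s = 0) :
    ∃ (M : Fin (r + 1) → C.Modules) (f : (j : Fin r) → (M j.succ ⟶ M j.castSucc)),
      Nonempty (M 0 ≅ N) ∧ IsZero (M (Fin.last r)) ∧
        ∀ j : Fin r, Mono (f j) ∧ PicF.IsInvertible (cokernel (f j)) ∧ Curv2.deg k C (cokernel (f j)) 1 < 0 := by
  have h : Groth.CurveBridge.IsRegCurve C := ⟨hdim, hreg⟩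
  haveI := Groth.CurveBridge.smooth_of_regular k C hreg
  refine filtration k C h (Groth.VBCurves.IsVBCurve.of_smooth k hdim) r N hN (fun g => ?_) m ι
    inferInstance
  exact Groth.VBCurves.NegFilt.hom_eq_zero_of_section g (h0 _)

end Groth.Agent.S12913
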