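import Groth.Statements.S12915
import Mathlib
import Groth.Agent.Calg8.PointForms

set_option autoImplicit false
universe u
open CAlgX

namespace Groth.Agent.S12915

/-- Let k be a field, S = k[x_0, …, x_r], and f a nonzero homogeneous polynomial of degree m. For every
t ≥ m the image in S/(f) of the homogeneous polynomials of degree t is a k-vector space of dimension
C(t + r, r) - C(t + r - m, r). (The published clause states that the hypersurface f = 0 in P^r has
degree m; its proof computes exactly this Hilbert function, whose polynomial has leading term m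
t^(r-1)/(r-1)!, and that computation is what is stated here.) -/
theorem result (k : Type u) [Field k] (r m : ℕ)
    (f : MvPolynomial (Fin (r + 1)) k) (hf : f.IsHomogeneous m) (hf0 : f ≠ 0) (t : ℕ) (ht : m ≤ t) :
    Module.finrank k
        (Submodule.map ((Ideal.Quotient.mkₐ k (Ideal.span {f})).toLinearMap)
          (MvPolynomial.homogeneousSubmodule (Fin (r + 1)) k t)) =
      Nat.choose (t + r) r - Nat.choose (t + r - m) r := by
  classical
  let H := MvPolynomial.homogeneousSubmodule (Fin (r + 1)) k
  have hdim : ∀ d, Module.finrank k (H d) = Nat.choose (d + r) r := fun d => by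
    rw [Groth.SGA7.Forms.finrank_form r k d, Nat.add_comm r d, Nat.choose_symm_add]
  have hfin : ∀ d, Module.Finite k (H d) := fun d => Module.finite_of_finrank_pos (by rw [hdim]; exact Nat.choose_pos (Nat.le_add_left r d))
  let q : MvPolynomial (Fin (r + 1)) k →ₗ[k] MvPolynomial (Fin (r + 1)) k ⧸ Ideal.span {f} := (Ideal.Quotient.mkₐ k (Ideal.span {f})).toLinearMap
  let μ : H (t - m) →ₗ[k] H t := ((LinearMap.mulLeft k f).comp (H (t-m)).subtype).codRestrict (H t) fun g => by
    have := hf.mul (show MvPolynomial.IsHomogeneous (g : MvPolynomial _ k) (t - m) from g.2)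
    rwa [Nat.add_sub_cancel' ht] at this
  have hμ : Function.Injective μ := fun g₁ g₂ h => Subtype.ext (mul_left_cancel₀ hf0 (congrArg Subtype.val h))
  have hker : LinearMap.ker (q.comp (H t).subtype) = LinearMap.range μ := by
    refine le_antisymm (fun g hg => ?_) ?_
    · have hg' : (g : MvPolynomial (Fin (r+1)) k) ∈ Ideal.span {f} := Ideal.Quotient.eq_zero_iff_mem.1 hg
      obtain ⟨c, hc⟩ := Ideal.mem_span_singleton'.1 hg'
      refine ⟨⟨MvPolynomial.homogeneousComponent (t - m) c, MvPolynomial.homogeneousComponent_mem _ _⟩, Subtype.ext ?_⟩
      show f * MvPolynomial.homogeneousComponent (t - m) c = (g : MvPolynomial (Fin (r+1)) k)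
      have h1 : MvPolynomial.homogeneousComponent t (f * c) = f * MvPolynomial.homogeneousComponent (t - m) c := by
        conv_lhs => rw [← MvPolynomial.sum_homogeneousComponent c]
        have : ∀ i, MvPolynomial.homogeneousComponent t (f * MvPolynomial.homogeneousComponent i c) =
            if i = t - m then f * MvPolynomial.homogeneousComponent i c else 0 := fun i => by
          rw [MvPolynomial.homogeneousComponent_of_mem (hf.mul (MvPolynomial.homogeneousComponent_isHomogeneous i c))]
          exact if_congr (by omega) rfl rfl
        rw [Finset.mul_sum, map_sum, Finset.sum_congr rfl fun i _ => this i, Finset.sum_ite_eq']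
        split_ifs with h
        · rfl
        · rw [MvPolynomial.homogeneousComponent_eq_zero _ _ (by simp only [Finset.mem_range, Nat.lt_succ_iff, not_le] at h; omega), mul_zero]
      rw [← h1, mul_comm f c, hc, MvPolynomial.homogeneousComponent_of_mem g.2, if_pos rfl]
    · rintro _ ⟨g, rfl⟩
      exact Ideal.Quotient.eq_zero_iff_mem.2 (Ideal.mul_mem_right _ _ (Ideal.mem_span_singleton_self f))
  have hrn := LinearMap.finrank_range_add_finrank_ker (q.comp (H t).subtype)
  rw [hker, LinearMap.finrank_range_of_inj hμ, hdim, hdim, LinearMap.range_comp, Submodule.range_subtype] at hrn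
  show Module.finrank k (Submodule.map q (H t)) = _
  rw [show t + r - m = t - m + r by omega]
  omega

end Groth.Agent.S12915
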