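import Groth.Statements.S12916
import Mathlib

set_option autoImplicit false
universe u
open CAlgX

namespace Groth.Agent.S12916

theorem isFiniteLength_of_associatedPrimes_isMaximal {R : Type*} [CommRing R] [IsNoetherianRing R]
    (N : Type*) [AddCommGroup N] [Module R N] [Module.Finite R N]
    (h : ∀ P ∈ associatedPrimes R N, P.IsMaximal) : IsFiniteLength R N := by
  set J := Module.annihilator R N
  have hJ : ∀ P : Ideal R, P.IsPrime → J ≤ P → P.IsMaximal := fun P hP hle => by
    obtain ⟨q, hq, hqP⟩ := Ideal.exists_minimalPrimes_le hle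
    have hm := h q (Module.associatedPrimes.minimalPrimes_annihilator_subset_associatedPrimes R N hq)
    rwa [← hm.eq_of_le hP.ne_top hqP]
  have : Ring.KrullDimLE 0 (R ⧸ J) := Ring.krullDimLE_zero_iff.2 fun P hP => by
    have h1 := hJ (P.comap (Ideal.Quotient.mk J)) (hP.comap _) (fun x hx => by
      rw [Ideal.mem_comap, Ideal.Quotient.eq_zero_iff_mem.2 hx]; exact zero_mem _)
    have := (Ideal.map_eq_top_or_isMaximal_of_surjective (Ideal.Quotient.mk J) Ideal.Quotient.mk_surjective h1)
    rw [Ideal.map_comap_of_surjective _ Ideal.Quotient.mk_surjective] at this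
    exact this.resolve_left hP.ne_top
  have : IsArtinianRing (R ⧸ J) := IsNoetherianRing.isArtinianRing_of_krullDimLE_zero
  obtain ⟨n, s, hs⟩ := Module.Finite.exists_fin (R := R) (M := N)
  have : IsArtinian R (R ⧸ J) := isArtinian_of_surjective_algebraMap (Ideal.Quotient.mk_surjective (I := J))
  let f : (Fin n → R ⧸ J) →ₗ[R] N :=
    LinearMap.lsum R _ R fun i => J.liftQ (LinearMap.toSpanSingleton R N (s i)) fun r hr => by
      rw [LinearMap.mem_ker, LinearMap.toSpanSingleton_apply]
      exact Module.mem_annihilator.1 hr _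
  have hf : Function.Surjective f := by
    rw [← LinearMap.range_eq_top, eq_top_iff, ← hs, Submodule.span_le]
    rintro _ ⟨i, rfl⟩
    refine ⟨Pi.single i 1, ?_⟩
    simp only [f, LinearMap.lsum_apply, LinearMap.sum_apply, LinearMap.comp_apply, LinearMap.proj_apply]
    rw [Finset.sum_eq_single i]
    · rw [Pi.single_eq_same]
      exact one_smul R (s i)
    · intro j _ hj
      rw [Pi.single_eq_of_ne hj, map_zero]
    · simp
  exact isFiniteLength_iff_isNoetherian_isArtinian.2 ⟨inferInstance, isArtinian_of_surjective _ f hf⟩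

/-- Let k be an infinite field, S = k[x_0, …, x_r], M a finitely generated S-module and d a natural
number. Then some nonzero homogeneous polynomial f of degree d is quasi-regular on M: the submodule
(0 :_M f) of elements of M annihilated by f has finite length. (The published statement assumes M
graded; this row assumes only that M is finitely generated.) -/
theorem result (k : Type u) [Field k] [Infinite k] (r d : ℕ)
    (M : Type u) [AddCommGroup M] [Module (MvPolynomial (Fin (r + 1)) k) M] [Module.Finite (MvPolynomial (Fin (r + 1)) k) M] :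
    ∃ f : MvPolynomial (Fin (r + 1)) k, f.IsHomogeneous d ∧ f ≠ 0 ∧
      IsFiniteLength (MvPolynomial (Fin (r + 1)) k) ↥(Submodule.torsionBy (MvPolynomial (Fin (r + 1)) k) M f) := by
  classical
  let S := MvPolynomial (Fin (r + 1)) k
  let H := MvPolynomial.homogeneousSubmodule (Fin (r + 1)) k d
  let bad : Set (Ideal S) := {P | P ∈ associatedPrimes S M ∧ ¬ P.IsMaximal}
  have hfin : bad.Finite := (associatedPrimes.finite S M).subset fun P hP => hP.1
  have : Finite bad := hfin.to_subtype
  let p : Option bad → Submodule k H := fun o =>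
    Option.elim o ⊥ fun P => Submodule.comap H.subtype ((P.1).restrictScalars k)
  have hp : ∀ o, p o ≠ ⊤ := by
    rintro (_ | ⟨P, hP, hPmax⟩) htop
    · have h1 : (⟨MvPolynomial.X 0 ^ d, by
          show MvPolynomial.IsHomogeneous _ d; simpa using (MvPolynomial.isHomogeneous_X k (0 : Fin (r + 1))).pow d⟩ : H) ∈ p none := htop ▸ Submodule.mem_top
      change _ ∈ (⊥ : Submodule k H) at h1
      rw [Submodule.mem_bot, Subtype.ext_iff] at h1
      exact pow_ne_zero d (MvPolynomial.X_ne_zero _) h1
    · have hX : ∀ i, (MvPolynomial.X i : S) ∈ P := fun i => by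
        have hx : (⟨MvPolynomial.X i ^ d, by
            show MvPolynomial.IsHomogeneous _ d; simpa using (MvPolynomial.isHomogeneous_X k i).pow d⟩ : H) ∈ p (some ⟨P, hP, hPmax⟩) := htop ▸ Submodule.mem_top
        exact hP.isPrime.mem_of_pow_mem d hx
      apply hPmax
      have hker : RingHom.ker (MvPolynomial.constantCoeff : S →+* k) ≤ P := by
        intro x hx
        rw [RingHom.mem_ker, MvPolynomial.constantCoeff_eq] at hx
        rw [x.as_sum]
        refine sum_mem fun m hm => ?_
        obtain ⟨i, hi⟩ : ∃ i, m i ≠ 0 := by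
          by_contra! hall
          have : m = 0 := Finsupp.ext hall
          rw [this, MvPolynomial.mem_support_iff] at hm
          exact hm hx
        obtain ⟨c, hc⟩ : (MvPolynomial.X i : S) ∣ MvPolynomial.monomial m (x.coeff m) :=
          MvPolynomial.X_dvd_monomial.2 (Or.inr hi)
        rw [hc]
        exact Ideal.mul_mem_right _ _ (hX i)
      have hm := RingHom.ker_isMaximal_of_surjective (MvPolynomial.constantCoeff : S →+* k)
        fun a => ⟨MvPolynomial.C a, MvPolynomial.constantCoeff_C _ a⟩
      rwa [← hm.eq_of_le hP.isPrime.ne_top hker]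
  obtain ⟨⟨f, hf⟩, hfp⟩ := Submodule.exists_forall_notMem_of_forall_ne_top p hp
  refine ⟨f, hf, fun h0 => hfp none (Subtype.ext h0), ?_⟩
  refine isFiniteLength_of_associatedPrimes_isMaximal _ fun P hP => ?_
  by_contra hmax
  have hPM : P ∈ associatedPrimes S M :=
    associatedPrimes.subset_of_injective (Submodule.injective_subtype _) hP
  refine hfp (some ⟨P, hPM, hmax⟩) ?_
  show f ∈ P
  obtain ⟨hprime, x, hx⟩ := isAssociatedPrime_iff.1 hP
  rw [hx, Submodule.mem_colon_singleton, Submodule.mem_bot]
  exact Subtype.ext ((Submodule.mem_torsionBy_iff f _).1 x.2)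

end Groth.Agent.S12916
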