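import Groth.Statements.S12917
import Groth.Agent.Calg8.PointsIdeal

set_option autoImplicit false
universe u
open CAlgX

namespace Groth.Agent.S12917

/-- Let k be a field, Z a finite set of nonzero vectors in k^3, regarded as points of the projective
plane, and I the homogeneous vanishing ideal of Z in S = k[x_0, x_1, x_2]: a polynomial belongs to I
exactly when each of its homogeneous components vanishes at every vector of Z. Then I has a free
resolution of length one: for some t there are a (t+1) × t matrix Ψ over S, injective as a map S^t →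
S^{t+1}, and an S-linear map π : S^{t+1} → S with ker π = im Ψ and im π = I. (The published
statement speaks of the minimal free resolution of I having length 1; stated here as the existence
of such a resolution.) -/
theorem result (k : Type u) [Field k]
    (Z : Finset (Fin 3 → k)) (hZ : ∀ p ∈ Z, p ≠ 0) (I : Ideal (MvPolynomial (Fin 3) k))
    (hI : ∀ f : MvPolynomial (Fin 3) k, f ∈ I ↔
      ∀ p ∈ Z, ∀ j : ℕ, MvPolynomial.eval p (MvPolynomial.homogeneousComponent j f) = 0) :
    ∃ (t : ℕ) (Ψ : Matrix (Fin (t + 1)) (Fin t) (MvPolynomial (Fin 3) k)) (π : (Fin (t + 1) → MvPolynomial (Fin 3) k) →ₗ[MvPolynomial (Fin 3) k] MvPolynomial (Fin 3) k),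
      LinearMap.ker Ψ.mulVecLin = ⊥ ∧ LinearMap.ker π = LinearMap.range Ψ.mulVecLin ∧ LinearMap.range π = I := by
  obtain ⟨t, Ψ, f, hinj, hrel, hker, hspan, -⟩ :=
    Groth.Calg8.exists_minimal_resolution_pointsIdeal Z I hI hZ
  refine ⟨t, Ψ, Fintype.linearCombination (MvPolynomial (Fin 3) k) f, ?_, ?_, ?_⟩
  · rw [LinearMap.ker_eq_bot']
    exact hinj
  · refine le_antisymm (fun z hz => ?_) ?_
    · rw [LinearMap.mem_ker, Fintype.linearCombination_apply] at hz
      obtain ⟨w, hw⟩ := hker z (by simpa [mul_comm] using hz)
      exact ⟨w, hw⟩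
    · rintro _ ⟨w, rfl⟩
      rw [LinearMap.mem_ker, Fintype.linearCombination_apply]
      simp only [Matrix.mulVecLin_apply, Matrix.mulVec, dotProduct, smul_eq_mul, Finset.sum_mul]
      rw [Finset.sum_comm]
      refine Finset.sum_eq_zero fun j _ => ?_
      calc ∑ i, Ψ i j * w j * f i = (∑ i, f i * Ψ i j) * w j := by
            rw [Finset.sum_mul]; exact Finset.sum_congr rfl fun i _ => by ring
        _ = 0 := by rw [hrel j, zero_mul]
  · rw [Fintype.range_linearCombination]
    exact hspan

end Groth.Agent.S12917
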