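import Groth.Statements.S12918
import Groth.Agent.Hopf.Integral

set_option autoImplicit false
universe u v w
open HopfRep
open scoped TensorProduct

namespace Groth.Agent.S12918

/-- Let `k` be a commutative ring, `A` a commutative Hopf algebra over `k`, flat as a `k`-module and `B`
a commutative `k`-algebra with a coaction `ρ : B → B ⊗ A` that is an algebra map (an action of the
affine group scheme `Spec A` on `Spec B`). Then the action admits a total integral — a comodule map
`α : A → B`, for the regular coaction on `A`, with `α 1 = 1` — if and only if `ρ` has a left inverse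
`B ⊗ A → B` which is a comodule map for the coaction `id ⊗ Δ` on `B ⊗ A`. -/
theorem result
    (k : Type u) [CommRing k] (A : Type v) [CommRing A] [HopfAlgebra k A] [Module.Flat k A]
    (B : Type w) [CommRing B] [Algebra k B] [HopfRep.Comod k A B] [GLin.IsCoactAlg k A B] :
    (∃ α : A →ₗ[k] B, Hoch.IsComodHom A α ∧ α 1 = 1) ↔
      ∃ lam : Hoch.Ind k A B →ₗ[k] B, Hoch.IsComodHom A lam ∧ lam ∘ₗ Hoch.toInd k A B = LinearMap.id := by
  let ρ := HopfRep.Comod.coact (k := k) (A := A) (V := B)
  let I := Hoch.Ind.equiv k A B
  constructor
  · rintro ⟨α, hα, hα1⟩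
    let S := HopfAlgebraStruct.antipode (R := k) (A := A)
    let H : (B ⊗[k] A) ⊗[k] A →ₗ[k] B :=
      LinearMap.mul' k B ∘ₗ LinearMap.lTensor B (α ∘ₗ LinearMap.mul' k A ∘ₗ S.rTensor A) ∘ₗ
        (TensorProduct.assoc k B A A).toLinearMap
    have hH : ∀ x p c, H ((x ⊗ₜ[k] p) ⊗ₜ[k] c) = x * α (S p * c) := by
      intro x p c; simp [H]
    let lam₀ : B ⊗[k] A →ₗ[k] B := H ∘ₗ ρ.rTensor A
    have hlam : ∀ b c, lam₀ (b ⊗ₜ[k] c) = H (ρ b ⊗ₜ[k] c) := fun _ _ => rfl
    have key : ∀ b c, ρ (lam₀ (b ⊗ₜ[k] c)) = lam₀.rTensor A
        ((TensorProduct.assoc k B A A).symm (b ⊗ₜ[k] Coalgebra.comul (R := k) c)) := by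
      intro b c
      let T : (B ⊗[k] A) ⊗[k] A →ₗ[k] B ⊗[k] A :=
        LinearMap.mul' k (B ⊗[k] A) ∘ₗ
          LinearMap.lTensor (B ⊗[k] A) (α.rTensor A ∘ₗ LinearMap.mulRight k (Coalgebra.comul (R := k) c) ∘ₗ
            Coalgebra.comul (R := k) ∘ₗ S)
      have h1 : ∀ z, ρ (H (z ⊗ₜ[k] c)) = T (ρ.rTensor A z) := by
        intro z
        induction z using TensorProduct.induction_on with
        | zero => simp
        | add p q hp hq => simp only [TensorProduct.add_tmul, map_add, hp, hq]
        | tmul x p =>
          rw [hH]
          change HopfRep.Comod.coact (k := k) (A := A) (x * _) = _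
          rw [GLin.IsCoactAlg.coact_mul]
          have := LinearMap.congr_fun hα (S p * c)
          simp only [LinearMap.comp_apply] at this
          rw [this]
          simp [T, ρ, LinearMap.mul'_apply, HopfRep.Comod.coact, Bialgebra.comul_mul]
      rw [hlam, h1, ← (TensorProduct.assoc k B A A).symm_apply_apply (ρ.rTensor A (ρ b))]
      have hco := LinearMap.congr_fun (HopfRep.Comod.coassoc (k := k) (A := A) (V := B)) b
      simp only [LinearMap.comp_apply, LinearEquiv.coe_coe] at hco
      rw [hco]
      have h2 : ∀ (Y : A ⊗[k] A), lam₀.rTensor A ((TensorProduct.assoc k B A A).symm (b ⊗ₜ[k] Y)) =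
          H.rTensor A ((TensorProduct.assoc k (B ⊗[k] A) A A).symm (ρ b ⊗ₜ[k] Y)) := by
        intro Y
        induction Y using TensorProduct.induction_on with
        | zero => simp
        | tmul s t => simp [hlam]
        | add s t hs ht => simp only [TensorProduct.tmul_add, map_add, hs, ht]
      rw [h2]
      generalize ρ b = z
      induction z using TensorProduct.induction_on with
      | zero => simp
      | add p q hp hq => simp only [map_add, TensorProduct.add_tmul, hp, hq]
      | tmul x b =>
        let j : A →ₗ[k] B := LinearMap.mulLeft k x ∘ₗ α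
        have h3 : ∀ Z : A ⊗[k] A, T ((TensorProduct.assoc k B A A).symm (x ⊗ₜ[k] Z)) =
            j.rTensor A (Algebra.TensorProduct.lift (Algebra.TensorProduct.includeRight : A →ₐ[k] A ⊗[k] A)
              ((Bialgebra.comulAlgHom k A).comp (HopfAlgebra.antipodeAlgHom k A)) (fun _ _ => .all ..) Z
                * Coalgebra.comul (R := k) c) := by
          intro Z
          induction Z using TensorProduct.induction_on with
          | zero => simp
          | add p q hp hq => simp only [TensorProduct.tmul_add, map_add, add_mul, hp, hq]
          | tmul p q =>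
            simp only [T, TensorProduct.assoc_symm_tmul, LinearMap.comp_apply, LinearMap.lTensor_tmul,
              LinearMap.mul'_apply, Algebra.TensorProduct.lift_tmul, AlgHom.comp_apply,
              Algebra.TensorProduct.includeRight_apply, LinearMap.mulRight_apply]
            rw [mul_assoc]
            change (x ⊗ₜ[k] p) * α.rTensor A (Coalgebra.comul (R := k) (S q) * Coalgebra.comul (R := k) c) =
              j.rTensor A (((1 : A) ⊗ₜ[k] p) * (Coalgebra.comul (R := k) (S q) * Coalgebra.comul (R := k) c))
            generalize Coalgebra.comul (R := k) (S q) * Coalgebra.comul (R := k) c = W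
            induction W using TensorProduct.induction_on with
            | zero => simp
            | tmul s t => simp [j]
            | add s t hs ht => simp only [map_add, mul_add, hs, ht]
        rw [LinearMap.lTensor_tmul, h3, ComodLib.inr_mul_comul_antipode]
        generalize Coalgebra.comul (R := k) c = Y
        induction Y using TensorProduct.induction_on with
        | zero => simp
        | add s t hs ht => simp only [mul_add, TensorProduct.tmul_add, map_add, hs, ht]
        | tmul s t => simp [j, hH, S]
    refine ⟨lam₀ ∘ₗ I.symm.toLinearMap, ?_, ?_⟩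
    · refine LinearMap.ext fun z => ?_
      obtain ⟨z, rfl⟩ := I.surjective z
      change ρ (lam₀ z) = lam₀.rTensor A (Hoch.Ind.coactAux k A B z)
      induction z using TensorProduct.induction_on with
      | zero => simp
      | add p q hp hq => simp only [map_add, hp, hq]
      | tmul b c => rw [Hoch.Ind.coactAux_tmul, key]
    · refine LinearMap.ext fun b => ?_
      change H (ρ.rTensor A (ρ b)) = b
      rw [← (TensorProduct.assoc k B A A).symm_apply_apply (ρ.rTensor A (ρ b))]
      have hco := LinearMap.congr_fun (HopfRep.Comod.coassoc (k := k) (A := A) (V := B)) b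
      simp only [LinearMap.comp_apply, LinearEquiv.coe_coe] at hco
      rw [hco]
      conv_rhs => rw [show b = ComodLib.slice (Coalgebra.counit (R := k) (A := A)) (ρ b) from (ComodLib.op_counit b).symm]
      generalize ρ b = z
      induction z using TensorProduct.induction_on with
      | zero => simp
      | add p q hp hq => simp only [map_add, hp, hq]
      | tmul x p =>
        rw [LinearMap.lTensor_tmul, ComodLib.slice_tmul]
        have : ∀ Z : A ⊗[k] A, H ((TensorProduct.assoc k B A A).symm (x ⊗ₜ[k] Z)) =
            x * α (LinearMap.mul' k A (S.rTensor A Z)) := by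
          intro Z
          induction Z using TensorProduct.induction_on with
          | zero => simp
          | tmul p q => simp [hH]
          | add p q hp hq => simp only [TensorProduct.tmul_add, map_add, hp, hq, mul_add]
        rw [this, HopfAlgebra.mul_antipode_rTensor_comul_apply, Algebra.algebraMap_eq_smul_one, map_smul, hα1,
          mul_smul_comm, mul_one]
  · rintro ⟨lam, hlam, hlam1⟩
    refine ⟨lam ∘ₗ I.toLinearMap ∘ₗ TensorProduct.mk k B A 1, LinearMap.ext fun a => ?_, ?_⟩
    · have h := LinearMap.congr_fun hlam (I ((1 : B) ⊗ₜ[k] a))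
      simp only [LinearMap.comp_apply] at h
      refine h.trans ?_
      change lam.rTensor A (Hoch.Ind.coactAux k A B ((1 : B) ⊗ₜ[k] a)) =
        (lam ∘ₗ I.toLinearMap ∘ₗ TensorProduct.mk k B A 1).rTensor A (Coalgebra.comul (R := k) a)
      rw [Hoch.Ind.coactAux_tmul]
      generalize Coalgebra.comul (R := k) a = w
      induction w using TensorProduct.induction_on with
      | zero => simp; rfl
      | tmul s t => simp [I, Hoch.Ind.equiv]; rfl
      | add s t hs ht => simp only [TensorProduct.tmul_add, map_add, ← hs, ← ht]; exact map_add _ _ _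
    · have h := LinearMap.congr_fun hlam1 1
      simpa [Hoch.toInd, GLin.IsCoactAlg.coact_one, Algebra.TensorProduct.one_def, I] using h

end Groth.Agent.S12918
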