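import Groth.Statements.S12921
import Groth.Agent.Hopf.Integral

set_option autoImplicit false
universe u v w
open HopfRep

namespace Groth.Agent.S12921

/-- Let `k` be a commutative ring, `A` a commutative Hopf algebra over `k`, flat as a `k`-module, `B` a
commutative `k`-algebra with a coaction of `A` that is an algebra map and admits a total integral (a
comodule map `α : A → B` with `α 1 = 1`), and `C = B^A` the subring of invariants. Then for every
ideal `c` of `C` one has `cB ∩ C = c`. (The published statement assumes only that taking invariants
is exact on `(B, A)`-modules; a total integral, assumed here, gives that exactness.) -/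
theorem result
    (k : Type u) [CommRing k] (A : Type v) [CommRing A] [HopfAlgebra k A] [Module.Flat k A]
    (B : Type w) [CommRing B] [Algebra k B] [HopfRep.Comod k A B] [GLin.IsCoactAlg k A B]
    (htame : ∃ α : A →ₗ[k] B, Hoch.IsComodHom A α ∧ α 1 = 1)
    (c : Ideal (GLin.invariants k A B)) :
    (c.map (algebraMap (GLin.invariants k A B) B)).comap (algebraMap (GLin.invariants k A B) B) = c := by
  have := ComodLib.isHopfMod_self (k := k) (A := A) (B := B)
  obtain ⟨α, hα, hα1⟩ := htame
  let E := TameAct.reynolds k A B B α
  have hE : ∀ x, E x ∈ GLin.invariants k A B := fun x => ComodLib.reynolds_mem_fixedPts hα x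
  have hfix : ∀ x ∈ GLin.invariants k A B, E x = x := fun x hx => ComodLib.reynolds_of_fixed hα1 hx
  have hlin : ∀ (c : GLin.invariants k A B) (x : B), E ((c : B) * x) = (c : B) * E x := fun c x =>
    ComodLib.reynolds_fixed_smul α c.2 x
  have hext : ∀ c : Ideal (GLin.invariants k A B), ∀ x ∈ c.map (algebraMap (GLin.invariants k A B) B),
      (⟨E x, hE x⟩ : GLin.invariants k A B) ∈ c := by
    intro c x hx
    refine Submodule.span_induction (p := fun x _ => ∀ y : B, (⟨E (y * x), hE _⟩ : GLin.invariants k A B) ∈ c)
      ?_ ?_ ?_ ?_ hx 1 |> fun h => by simpa using h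
    · rintro _ ⟨z, hz, rfl⟩ y
      have : (⟨E (y * (z : B)), hE _⟩ : GLin.invariants k A B) = z * ⟨E y, hE y⟩ :=
        Subtype.ext (by rw [mul_comm y]; exact hlin z y)
      exact this ▸ c.mul_mem_right _ hz
    · intro y
      simp only [mul_zero, map_zero]
      exact c.zero_mem
    · intro a b _ _ ha hb y
      simp only [mul_add, map_add]
      exact c.add_mem (ha y) (hb y)
    · intro r a _ ha y
      simpa [smul_eq_mul, mul_assoc] using ha (y * r)
  have hcm : ∀ c : Ideal (GLin.invariants k A B), (c.map (algebraMap (GLin.invariants k A B) B)).comap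
      (algebraMap (GLin.invariants k A B) B) = c := fun c =>
    le_antisymm (fun z hz => by simpa [hfix z z.2] using hext c z hz) Ideal.le_comap_map
  exact hcm c

end Groth.Agent.S12921
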