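import Groth.Statements.S12923
import Groth.Agent.Hopf.Integral

set_option autoImplicit false
universe u v w
open HopfRep

namespace Groth.Agent.S12923

/-- Let `k` be a commutative ring, `A` a commutative Hopf algebra over `k`, flat as a `k`-module, `B` a
commutative `k`-algebra with a coaction of `A` that is an algebra map and admits a total integral (a
comodule map `α : A → B` with `α 1 = 1`), `C = B^A`, and `b` an ideal of `B` which is a subcomodule
(a closed subscheme of `Spec B` stable under the action). Then the image of `V(b)` under `Spec B →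
Spec C` is the closed set `V(b ∩ C)`. (The published statement assumes only that taking invariants
is exact on `(B, A)`-modules; a total integral, assumed here, gives that exactness.) -/
theorem result
    (k : Type u) [CommRing k] (A : Type v) [CommRing A] [HopfAlgebra k A] [Module.Flat k A]
    (B : Type w) [CommRing B] [Algebra k B] [HopfRep.Comod k A B] [GLin.IsCoactAlg k A B]
    (htame : ∃ α : A →ₗ[k] B, Hoch.IsComodHom A α ∧ α 1 = 1)
    (b : Ideal B) (hb : HopfRep.IsSubcomod (k := k) (A := A) (b.restrictScalars k)) :
    PrimeSpectrum.comap (algebraMap (GLin.invariants k A B) B) '' PrimeSpectrum.zeroLocus (b : Set B) =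
      PrimeSpectrum.zeroLocus ((b.comap (algebraMap (GLin.invariants k A B) B) : Ideal (GLin.invariants k A B)) : Set (GLin.invariants k A B)) := by
  have := ComodLib.isHopfMod_self (k := k) (A := A) (B := B)
  obtain ⟨α, hα, hα1⟩ := htame
  let E := TameAct.reynolds k A B B α
  have hE : ∀ x, E x ∈ GLin.invariants k A B := fun x => ComodLib.reynolds_mem_fixedPts hα x
  have hfix : ∀ x ∈ GLin.invariants k A B, E x = x := fun x hx => ComodLib.reynolds_of_fixed hα1 hx
  have hlin : ∀ (c : GLin.invariants k A B) (x : B), E ((c : B) * x) = (c : B) * E x := fun c x =>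
    ComodLib.reynolds_fixed_smul α c.2 x
  have hext : ∀ c : Ideal (GLin.invariants k A B), ∀ x ∈ c.map (algebraMap (GLin.invariants k A B) B),
      (⟨E x, hE x⟩ : GLin.invariants k A B) ∈ c := by
    intro c x hx
    refine Submodule.span_induction (p := fun x _ => ∀ y : B, (⟨E (y * x), hE _⟩ : GLin.invariants k A B) ∈ c)
      ?_ ?_ ?_ ?_ hx 1 |> fun h => by simpa using h
    · rintro _ ⟨z, hz, rfl⟩ y
      have : (⟨E (y * (z : B)), hE _⟩ : GLin.invariants k A B) = z * ⟨E y, hE y⟩ :=
        Subtype.ext (by rw [mul_comm y]; exact hlin z y)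
      exact this ▸ c.mul_mem_right _ hz
    · intro y
      simp only [mul_zero, map_zero]
      exact c.zero_mem
    · intro a b _ _ ha hb y
      simp only [mul_add, map_add]
      exact c.add_mem (ha y) (hb y)
    · intro r a _ ha y
      simpa [smul_eq_mul, mul_assoc] using ha (y * r)
  have hcm : ∀ c : Ideal (GLin.invariants k A B), (c.map (algebraMap (GLin.invariants k A B) B)).comap
      (algebraMap (GLin.invariants k A B) B) = c := fun c =>
    le_antisymm (fun z hz => by simpa [hfix z z.2] using hext c z hz) Ideal.le_comap_map
  ext p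
  constructor
  · rintro ⟨q, hq, rfl⟩
    exact fun c hc => hq hc
  · intro hp
    have hEb : ∀ x ∈ b, E x ∈ b := by
      intro x hx
      obtain ⟨z, hz⟩ := hb x hx
      change TameAct.reynolds k A B B α x ∈ b
      rw [ComodLib.reynolds_eq, ← hz]
      clear hz
      induction z using TensorProduct.induction_on with
      | zero => simp
      | tmul u w =>
        simp only [LinearMap.rTensor_tmul, ComodLib.evalS_tmul]
        exact b.mul_mem_left _ u.2
      | add u w hu hw => simp only [map_add]; exact b.add_mem hu hw
    have key : ((b ⊔ p.asIdeal.map (algebraMap (GLin.invariants k A B) B))).comap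
        (algebraMap (GLin.invariants k A B) B) = p.asIdeal := by
      refine le_antisymm (fun z hz => ?_) (le_trans Ideal.le_comap_map (Ideal.comap_mono le_sup_right))
      obtain ⟨β, hβ, π, hπ, hsum⟩ := Submodule.mem_sup.1 hz
      have hz' : z = ⟨E β, hE β⟩ + ⟨E π, hE π⟩ := Subtype.ext (by
        change (z : B) = E β + E π
        rw [← map_add, hsum]
        exact (hfix z z.2).symm)
      rw [hz']
      exact p.asIdeal.add_mem (hp (show E β ∈ b from hEb β hβ)) (hext _ π hπ)
    let J := (b ⊔ p.asIdeal.map (algebraMap (GLin.invariants k A B) B))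
    let S := p.asIdeal.primeCompl.map (algebraMap (GLin.invariants k A B) B)
    have hdisj : Disjoint (J : Set B) (S : Set B) := by
      rw [Set.disjoint_left]
      rintro x hx ⟨c, hc, rfl⟩
      exact hc (key ▸ Ideal.mem_comap.2 hx)
    obtain ⟨q, hq, hJq, hqS⟩ := Ideal.exists_le_prime_disjoint J S hdisj
    refine ⟨⟨q, hq⟩, fun x hx => hJq (Ideal.mem_sup_left hx), PrimeSpectrum.ext (le_antisymm ?_ ?_)⟩
    · intro z hz
      by_contra h
      exact Set.disjoint_left.1 hqS hz ⟨z, h, rfl⟩
    · exact fun z hz => hJq (Ideal.mem_sup_right (Ideal.mem_map_of_mem _ hz))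

end Groth.Agent.S12923
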