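import Groth.Statements.S12924
import Groth.Agent.Hopf.Integral
import Mathlib.AlgebraicGeometry.AffineScheme
import Mathlib.AlgebraicGeometry.Cover.Open
import Mathlib.AlgebraicGeometry.Gluing
import Mathlib.AlgebraicGeometry.Pullbacks

set_option autoImplicit false
universe u
open CategoryTheory AlgebraicGeometry
open HopfRep

namespace Groth.Agent.S12924

open TensorProduct Groth.ComodLib Limits

section Epi

variable {D E : Type u} [CommRing D] [CommRing E] [Algebra D E] (r : E →ₗ[D] D) (hr : r 1 = 1)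

include hr in
theorem retraction_algebraMap (d : D) : r (algebraMap D E d) = d := by
  rw [Algebra.algebraMap_eq_smul_one, map_smul, hr, smul_eq_mul, mul_one]

include hr in
theorem comap_surjective : Function.Surjective (PrimeSpectrum.comap (algebraMap D E)) := by
  intro p
  refine (PrimeSpectrum.mem_range_comap_iff (algebraMap D E)).2 (le_antisymm (fun d hd => ?_) Ideal.le_comap_map)
  have h : ∀ x ∈ p.asIdeal.map (algebraMap D E), ∀ e : E, r (e * x) ∈ p.asIdeal := by
    intro x hx
    induction hx using Submodule.span_induction with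
    | mem x hx =>
      obtain ⟨y, hy, rfl⟩ := hx
      intro e
      rw [mul_comm, ← Algebra.smul_def, map_smul, smul_eq_mul]
      exact p.asIdeal.mul_mem_right _ hy
    | zero => intro e; simp
    | add a b _ _ ha hb => intro e; rw [mul_add, map_add]; exact add_mem (ha e) (hb e)
    | smul a b _ hb => intro e; rw [smul_eq_mul, ← mul_assoc]; exact hb _
  have h1 := h _ hd 1
  rwa [one_mul, retraction_algebraMap r hr] at h1

include hr in
/-- a ring extension with a linear retraction gives an epimorphism of schemes -/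
theorem hom_ext_of_retraction {Z : Scheme.{u}} (f g : Spec (CommRingCat.of D) ⟶ Z)
    (h : Spec.map (CommRingCat.ofHom (algebraMap D E)) ≫ f = Spec.map (CommRingCat.ofHom (algebraMap D E)) ≫ g) :
    f = g := by
  classical
  have hfg : ∀ x, f x = g x := fun x => by
    obtain ⟨q, rfl⟩ := comap_surjective r hr x
    change (Spec.map (CommRingCat.ofHom (algebraMap D E)) ≫ f) q = (Spec.map (CommRingCat.ofHom (algebraMap D E)) ≫ g) q
    rw [h]
  have hex : ∀ x : PrimeSpectrum D, ∃ (W : Z.Opens) (d : D), IsAffineOpen W ∧ x ∈ PrimeSpectrum.basicOpen d ∧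
      ∀ y ∈ PrimeSpectrum.basicOpen d, f y ∈ W := by
    intro x
    obtain ⟨W, hW, hxW, -⟩ := exists_isAffineOpen_mem_and_subset (X := Z) (U := ⊤) (x := f x) trivial
    obtain ⟨_, ⟨d, rfl⟩, hxd, hd⟩ := PrimeSpectrum.isTopologicalBasis_basic_opens.exists_subset_of_mem_open
      (show x ∈ f ⁻¹' (W : Set Z) from hxW) (W.isOpen.preimage f.continuous)
    exact ⟨W, d, hW, hxd, hd⟩
  choose W d hW hxd hd using hex
  have hs : Ideal.span (Set.range d) = ⊤ := by
    by_contra hne
    obtain ⟨M, hM, hle⟩ := Ideal.exists_le_maximal _ hne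
    exact hxd ⟨M, hM.isPrime⟩ (hle (Ideal.subset_span ⟨_, rfl⟩))
  refine (Scheme.affineOpenCoverOfSpanRangeEqTop (R := CommRingCat.of D) d hs).openCover.hom_ext _ _ fun x => ?_
  let Dd := Localization.Away (d x)
  let Ed := Localization.Away (algebraMap D E (d x))
  let a : Spec (CommRingCat.of Dd) ⟶ Spec (CommRingCat.of D) := Spec.map (CommRingCat.ofHom (algebraMap D Dd))
  change a ≫ f = a ≫ g
  have hmem : ∀ y, f (a y) ∈ W x := fun y => by
    refine hd x _ ?_
    have := PrimeSpectrum.localization_away_comap_range Dd (d x)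
    exact this.le ⟨y, rfl⟩
  have h₁ : Set.range (a ≫ f) ⊆ Set.range (W x).ι := by
    rw [Scheme.Opens.range_ι]
    rintro _ ⟨y, rfl⟩
    exact hmem y
  have h₂ : Set.range (a ≫ g) ⊆ Set.range (W x).ι := by
    rw [Scheme.Opens.range_ι]
    rintro _ ⟨y, rfl⟩
    change g (a y) ∈ W x
    rw [← hfg]
    exact hmem y
  let e := (hW x).isoSpec
  let lf := IsOpenImmersion.lift (W x).ι (a ≫ f) h₁ ≫ e.hom
  let lg := IsOpenImmersion.lift (W x).ι (a ≫ g) h₂ ≫ e.hom
  have hlf : lf ≫ e.inv ≫ (W x).ι = a ≫ f := by simp [lf]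
  have hlg : lg ≫ e.inv ≫ (W x).ι = a ≫ g := by simp [lg]
  suffices lf = lg by rw [← hlf, ← hlg, this]
  let φ : Dd →+* Ed := IsLocalization.Away.map Dd Ed (algebraMap D E) (d x)
  have hφ : ∀ y : D, φ (algebraMap D Dd y) = algebraMap E Ed (algebraMap D E y) := fun y =>
    IsLocalization.map_eq _ y
  have hinj : Function.Injective φ := by
    rw [injective_iff_map_eq_zero]
    intro z hz
    obtain ⟨n, y, hy⟩ := IsLocalization.Away.surj (d x) z
    have h0 : algebraMap E Ed (algebraMap D E y) = algebraMap E Ed 0 := by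
      rw [← hφ, ← hy, map_mul, hz, zero_mul, map_zero]
    obtain ⟨m, hm⟩ := IsLocalization.Away.exists_of_eq (algebraMap D E (d x)) h0
    rw [mul_zero, ← map_pow, ← map_mul] at hm
    have h2 : d x ^ m * y = 0 := by
      rw [← retraction_algebraMap r hr (d x ^ m * y), hm, map_zero]
    have hu := (IsLocalization.Away.algebraMap_isUnit (S := Dd) (d x)).pow n
    have hm0 := congrArg (algebraMap D Dd) h2
    rw [map_mul, map_pow, map_zero, ← hy] at hm0
    exact hu.mul_left_eq_zero.1 (((IsLocalization.Away.algebraMap_isUnit (S := Dd) (d x)).pow m).mul_right_eq_zero.1 hm0)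
  have hsq : Spec.map (CommRingCat.ofHom φ) ≫ a =
      Spec.map (CommRingCat.ofHom (algebraMap E Ed)) ≫ Spec.map (CommRingCat.ofHom (algebraMap D E)) := by
    rw [← Spec.map_comp, ← Spec.map_comp]
    exact congrArg Spec.map (CommRingCat.hom_ext (RingHom.ext hφ))
  have hcomp : Spec.map (CommRingCat.ofHom φ) ≫ lf = Spec.map (CommRingCat.ofHom φ) ≫ lg := by
    rw [← cancel_mono e.inv, ← cancel_mono (W x).ι]
    simp only [Category.assoc, hlf, hlg, reassoc_of% hsq, h]
  rw [← Spec.map_preimage lf, ← Spec.map_preimage lg, ← Spec.map_comp, ← Spec.map_comp, Spec.map_inj] at hcomp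
  rw [← Spec.map_preimage lf, ← Spec.map_preimage lg]
  exact congrArg Spec.map (CommRingCat.hom_ext (RingHom.ext fun s => hinj (congrArg (fun q => q.hom s) hcomp)))

/-- a linear retraction survives base change -/
theorem hom_ext_baseChange {C B D : Type u} [CommRing C] [CommRing B] [Algebra C B] [CommRing D] [Algebra C D]
    (R : B →ₗ[C] C) (hR : R 1 = 1) {Z : Scheme.{u}} (f g : Spec (CommRingCat.of D) ⟶ Z)
    (h : Spec.map (CommRingCat.ofHom (algebraMap D (D ⊗[C] B))) ≫ f =
      Spec.map (CommRingCat.ofHom (algebraMap D (D ⊗[C] B))) ≫ g) : f = g := by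
  refine hom_ext_of_retraction (D := D) (E := D ⊗[C] B)
    ((TensorProduct.AlgebraTensorModule.rid C D D).toLinearMap ∘ₗ R.baseChange D) ?_ f g h
  simp [Algebra.TensorProduct.one_def, hR]

/-- two local morphisms agree on the overlap -/
theorem compat_overlap {C B Ci Cj : Type u} [CommRing C] [CommRing B] [Algebra C B] [CommRing Ci] [Algebra C Ci]
    [CommRing Cj] [Algebra C Cj] (R : B →ₗ[C] C) (hR : R 1 = 1) (ci cj : C)
    (hci : IsUnit (algebraMap C Ci ci)) (hcj : IsUnit (algebraMap C Cj cj))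
    {Z : Scheme.{u}} (ψ : Spec (CommRingCat.of B) ⟶ Z)
    (χi : Spec (CommRingCat.of Ci) ⟶ Z) (χj : Spec (CommRingCat.of Cj) ⟶ Z)
    (hi : ∀ (E : Type u) [CommRing E] (kB : B →+* E) (m : Ci →+* E), IsUnit (kB (algebraMap C B ci)) →
      m.comp (algebraMap C Ci) = kB.comp (algebraMap C B) →
      Spec.map (CommRingCat.ofHom m) ≫ χi = Spec.map (CommRingCat.ofHom kB) ≫ ψ)
    (hj : ∀ (E : Type u) [CommRing E] (kB : B →+* E) (m : Cj →+* E), IsUnit (kB (algebraMap C B cj)) →
      m.comp (algebraMap C Cj) = kB.comp (algebraMap C B) →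
      Spec.map (CommRingCat.ofHom m) ≫ χj = Spec.map (CommRingCat.ofHom kB) ≫ ψ) :
    pullback.fst (Spec.map (CommRingCat.ofHom (algebraMap C Ci))) (Spec.map (CommRingCat.ofHom (algebraMap C Cj)))
      ≫ χi = pullback.snd _ _ ≫ χj := by
  rw [← cancel_epi (pullbackSpecIso C Ci Cj).inv, pullbackSpecIso_inv_fst_assoc, pullbackSpecIso_inv_snd_assoc]
  refine hom_ext_baseChange (D := Ci ⊗[C] Cj) R hR _ _ ?_
  let kB : B →+* (Ci ⊗[C] Cj) ⊗[C] B := (Algebra.TensorProduct.includeRight : B →ₐ[C] _).toRingHom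
  have hk : ∀ c : C, kB (algebraMap C B c) =
      algebraMap (Ci ⊗[C] Cj) _ (algebraMap C (Ci ⊗[C] Cj) c) := fun c => by
    rw [← IsScalarTower.algebraMap_apply]
    exact (Algebra.TensorProduct.includeRight : B →ₐ[C] (Ci ⊗[C] Cj) ⊗[C] B).commutes c
  have hl : ∀ c : C, algebraMap C (Ci ⊗[C] Cj) c =
      (Algebra.TensorProduct.includeLeftRingHom : Ci →+* Ci ⊗[C] Cj) (algebraMap C Ci c) := fun c =>
    ((Algebra.TensorProduct.includeLeft : Ci →ₐ[C] Ci ⊗[C] Cj).commutes c).symm
  have hr : ∀ c : C, algebraMap C (Ci ⊗[C] Cj) c =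
      (Algebra.TensorProduct.includeRight : Cj →ₐ[C] Ci ⊗[C] Cj) (algebraMap C Cj c) := fun c =>
    ((Algebra.TensorProduct.includeRight : Cj →ₐ[C] Ci ⊗[C] Cj).commutes c).symm
  have hui : IsUnit (kB (algebraMap C B ci)) := by
    rw [hk, hl]
    exact (hci.map _).map _
  have huj : IsUnit (kB (algebraMap C B cj)) := by
    rw [hk, hr]
    exact (hcj.map _).map _
  rw [← Spec.map_comp_assoc, ← Spec.map_comp_assoc, ← CommRingCat.ofHom_comp, ← CommRingCat.ofHom_comp]
  refine (hi _ kB _ hui (RingHom.ext fun c => ?_)).trans (hj _ kB _ huj (RingHom.ext fun c => ?_)).symm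
  · exact ((hk c).trans (congrArg _ (hl c))).symm
  · exact ((hk c).trans (congrArg _ (hr c))).symm

/-- gluing over a covering by basic opens -/
theorem exists_glue {C : Type u} [CommRing C] {ι : Type u} (s : ι → C) (hs : Ideal.span (Set.range s) = ⊤)
    {Z : Scheme.{u}} (χ : ∀ i, Spec (CommRingCat.of (Localization.Away (s i))) ⟶ Z)
    (hχ : ∀ i j, pullback.fst (Spec.map (CommRingCat.ofHom (algebraMap C (Localization.Away (s i)))))
        (Spec.map (CommRingCat.ofHom (algebraMap C (Localization.Away (s j))))) ≫ χ i =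
      pullback.snd _ _ ≫ χ j) :
    ∃ X : Spec (CommRingCat.of C) ⟶ Z,
      ∀ i, Spec.map (CommRingCat.ofHom (algebraMap C (Localization.Away (s i)))) ≫ X = χ i := by
  let 𝒰 := (Scheme.affineOpenCoverOfSpanRangeEqTop (R := CommRingCat.of C) s hs).openCover
  exact ⟨𝒰.glueMorphisms χ hχ, 𝒰.ι_glueMorphisms χ hχ⟩

/-- equality on a covering by basic opens -/
theorem hom_ext_span {C : Type u} [CommRing C] {ι : Type u} (s : ι → C) (hs : Ideal.span (Set.range s) = ⊤)
    {Z : Scheme.{u}} (f g : Spec (CommRingCat.of C) ⟶ Z)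
    (h : ∀ i, Spec.map (CommRingCat.ofHom (algebraMap C (Localization.Away (s i)))) ≫ f =
      Spec.map (CommRingCat.ofHom (algebraMap C (Localization.Away (s i)))) ≫ g) : f = g :=
  (Scheme.affineOpenCoverOfSpanRangeEqTop (R := CommRingCat.of C) s hs).openCover.hom_ext f g h

theorem exists_away_lift {C D : Type u} [CommRing C] [CommRing D] (g : C →+* D) (c : C) (h : IsUnit (g c)) :
    ∃ φ : Localization.Away c →+* D, φ.comp (algebraMap C (Localization.Away c)) = g :=
  ⟨IsLocalization.Away.lift c h, IsLocalization.Away.lift_comp c h⟩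

end Epi

section Main

variable {k : Type u} [CommRing k] {A : Type u} [CommRing A] [HopfAlgebra k A]
  {B : Type u} [CommRing B] [Algebra k B] [HopfRep.Comod k A B] [GLin.IsCoactAlg k A B]

local notation "C" => GLin.invariants k A B

variable (k A B) in
/-- the orbit map of a closed subscheme -/
def orbit (I : Ideal B) : B →ₐ[k] (B ⧸ I) ⊗[k] A :=
  (Algebra.TensorProduct.map (Ideal.Quotient.mkₐ k I) (AlgHom.id k A)).comp (GLin.coactAlgHom k A B)

/-- the Reynolds operator keeps the orbit ideals -/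
theorem reynolds_mem (I : Ideal B) (α : A →ₗ[k] B) {b : B} (hb : orbit k A B I b = 0) :
    orbit k A B I (TameAct.reynolds k A B B α b) = 0 := by
  let f := orbit k A B I
  rw [reynolds_eq]
  let Λ : ((B ⧸ I) ⊗[k] A) ⊗[k] A →ₗ[k] (B ⧸ I) ⊗[k] A :=
    TensorProduct.lift ((LinearMap.mul k ((B ⧸ I) ⊗[k] A)).compl₂
      (f.toLinearMap ∘ₗ α ∘ₗ HopfAlgebraStruct.antipode (R := k) (A := A)))
  have h1 : ∀ z : B ⊗[k] A, f (evalS k A B B α z) = Λ (f.toLinearMap.rTensor A z) := by
    intro z
    induction z using TensorProduct.induction_on with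
    | zero => simp
    | add p q hp hq => simp only [map_add, hp, hq]
    | tmul p q => simp [Λ, mul_comm]
  change f _ = 0
  rw [h1]
  let q := (Ideal.Quotient.mkₐ k I).toLinearMap
  have h2 : f.toLinearMap.rTensor A (HopfRep.Comod.coact (k := k) (A := A) b) =
      (TensorProduct.assoc k (B ⧸ I) A A).symm
        ((Coalgebra.comul (R := k) (A := A)).lTensor (B ⧸ I) (f b)) := by
    have hc := LinearMap.congr_fun (HopfRep.Comod.coassoc (k := k) (A := A) (V := B)) b
    simp only [LinearMap.comp_apply, LinearEquiv.coe_coe] at hc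
    have hf : f.toLinearMap = q.rTensor A ∘ₗ HopfRep.Comod.coact (k := k) (A := A) := LinearMap.ext fun x => rfl
    have e : ∀ w : (B ⊗[k] A) ⊗[k] A, (q.rTensor A).rTensor A w =
        (TensorProduct.assoc k (B ⧸ I) A A).symm (q.rTensor (A ⊗[k] A) (TensorProduct.assoc k B A A w)) := by
      intro w
      induction w using TensorProduct.induction_on with
      | zero => simp
      | add p r hp hr => simp only [map_add, hp, hr]
      | tmul p r =>
        induction p using TensorProduct.induction_on with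
        | zero => simp
        | add p s hp hs => simp only [TensorProduct.add_tmul, map_add, hp, hs]
        | tmul p s => simp
    rw [hf, LinearMap.rTensor_comp_apply, e, hc]
    congr 1
    change (q.rTensor (A ⊗[k] A) ∘ₗ (Coalgebra.comul (R := k) (A := A)).lTensor B) _ = _
    rw [LinearMap.rTensor_comp_lTensor, ← LinearMap.lTensor_comp_rTensor]
    rfl
  rw [h2, show f b = 0 from hb, map_zero, map_zero, map_zero]

/-- invariant functions cutting out pieces of the preimages of affine opens -/
theorem exists_cover (α : A →ₗ[k] B) (hα : Hoch.IsComodHom A α) (hα1 : α 1 = 1) {Z : Scheme.{u}}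
    (ψ : Spec (CommRingCat.of B) ⟶ Z)
    (hψ : Spec.map (CommRingCat.ofHom (GLin.coactAlgHom k A B).toRingHom) ≫ ψ =
      Spec.map (CommRingCat.ofHom (Algebra.TensorProduct.includeLeftRingHom : B →+* B ⊗[k] A)) ≫ ψ) :
    Ideal.span {c : C | ∃ W : Z.Opens, IsAffineOpen W ∧
      ∀ q ∈ PrimeSpectrum.basicOpen (c : B), ψ q ∈ W} = ⊤ := by
  haveI := isHopfMod_self (k := k) (A := A) (B := B)
  let I : {W : Z.Opens // IsAffineOpen W} → Ideal B := fun W =>
    PrimeSpectrum.vanishingIdeal {q : PrimeSpectrum B | ψ q ∉ W.1}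
  let J : {W : Z.Opens // IsAffineOpen W} → Ideal B := fun W => RingHom.ker (orbit k A B (I W))
  have hclosed : ∀ W, ∀ q : PrimeSpectrum B, I W ≤ q.asIdeal → ψ q ∉ W.1 := by
    intro W q hq
    have h : q ∈ closure {q : PrimeSpectrum B | ψ q ∉ W.1} := by
      rw [← PrimeSpectrum.zeroLocus_vanishingIdeal_eq_closure]
      exact hq
    have hc : IsClosed {q : PrimeSpectrum B | ψ q ∉ W.1} :=
      (W.1.isOpen.preimage ψ.continuous).isClosed_compl
    rwa [hc.closure_eq] at h
  have hJI : ∀ W, J W ≤ I W := by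
    intro W b hb
    rw [← Ideal.Quotient.eq_zero_iff_mem]
    have h : ∀ z : B ⊗[k] A, TensorProduct.rid k (B ⧸ I W) ((Coalgebra.counit (R := k) (A := A)).lTensor (B ⧸ I W)
        (Algebra.TensorProduct.map (Ideal.Quotient.mkₐ k (I W)) (AlgHom.id k A) z)) =
          Ideal.Quotient.mkₐ k (I W) (slice (Coalgebra.counit (R := k) (A := A)) z) := by
      intro z
      induction z using TensorProduct.induction_on with
      | zero => simp
      | add p q hp hq => simp only [map_add, hp, hq]
      | tmul p q => simp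
    have h1 := h (HopfRep.Comod.coact (k := k) (A := A) b)
    rw [show Algebra.TensorProduct.map (Ideal.Quotient.mkₐ k (I W)) (AlgHom.id k A)
      (HopfRep.Comod.coact (k := k) (A := A) b) = 0 from hb, map_zero, map_zero, ← op_apply, op_counit] at h1
    exact h1.symm
  have hJV : ∀ W, ∀ q : PrimeSpectrum B, J W ≤ q.asIdeal → ψ q ∉ W.1 := by
    intro W q hq
    have h : q ∈ closure (Set.range (PrimeSpectrum.comap (orbit k A B (I W)).toRingHom)) := by
      rw [PrimeSpectrum.closure_range_comap]
      exact hq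
    have hc : IsClosed {q : PrimeSpectrum B | ψ q ∉ W.1} :=
      (W.1.isOpen.preimage ψ.continuous).isClosed_compl
    refine closure_minimal ?_ hc h
    rintro _ ⟨P, rfl⟩
    let P' : PrimeSpectrum (B ⊗[k] A) :=
      PrimeSpectrum.comap (Algebra.TensorProduct.map (Ideal.Quotient.mkₐ k (I W)) (AlgHom.id k A)).toRingHom P
    have e := congrArg (fun m => m P') hψ
    change ψ (PrimeSpectrum.comap (GLin.coactAlgHom k A B).toRingHom P') ∉ W.1
    change ψ (PrimeSpectrum.comap (GLin.coactAlgHom k A B).toRingHom P') =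
      ψ (PrimeSpectrum.comap (Algebra.TensorProduct.includeLeftRingHom : B →+* B ⊗[k] A) P') at e
    rw [e]
    refine hclosed W _ fun b hb => ?_
    change Algebra.TensorProduct.map (Ideal.Quotient.mkₐ k (I W)) (AlgHom.id k A) (b ⊗ₜ[k] (1 : A)) ∈ P.asIdeal
    rw [Algebra.TensorProduct.map_tmul, Ideal.Quotient.mkₐ_eq_mk, Ideal.Quotient.eq_zero_iff_mem.2 hb,
      TensorProduct.zero_tmul]
    exact zero_mem _
  have hone : (1 : B) ∈ ⨆ W, J W := by
    rw [← Ideal.eq_top_iff_one]
    by_contra hne
    obtain ⟨M, hM, hle⟩ := Ideal.exists_le_maximal _ hne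
    obtain ⟨W, hW, hxW, -⟩ := exists_isAffineOpen_mem_and_subset (X := Z) (U := ⊤)
      (x := ψ (⟨M, hM.isPrime⟩ : PrimeSpectrum B)) trivial
    exact hJV ⟨W, hW⟩ ⟨M, hM.isPrime⟩ ((le_iSup J ⟨W, hW⟩).trans hle) hxW
  let R : B → C := fun b => ⟨TameAct.reynolds k A B B α b, reynolds_mem_fixedPts hα b⟩
  set S := Ideal.span {c : C | ∃ W : Z.Opens, IsAffineOpen W ∧ ∀ q ∈ PrimeSpectrum.basicOpen (c : B), ψ q ∈ W}
  have key : ∀ x ∈ ⨆ W, J W, R x ∈ S := by
    intro x hx
    induction hx using Submodule.iSup_induction' with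
    | mem W b hb =>
      refine Ideal.subset_span ⟨W.1, W.2, fun q hq => ?_⟩
      by_contra hqW
      have hIq : I W ≤ q.asIdeal := fun x hx => (PrimeSpectrum.mem_vanishingIdeal _ _).1 hx q hqW
      exact hq (hIq (hJI W (reynolds_mem (I W) α hb)))
    | zero =>
      convert Ideal.zero_mem S
      exact Subtype.ext (map_zero (TameAct.reynolds k A B B α))
    | add a b _ _ ha hb =>
      convert S.add_mem ha hb
      exact Subtype.ext (map_add (TameAct.reynolds k A B B α) a b)
  rw [Ideal.eq_top_iff_one]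
  convert key 1 hone
  exact Subtype.ext (reynolds_of_fixed hα1 (one_mem C)).symm

/-- the descended morphism on a basic open -/
theorem exists_local {Z : Scheme.{u}} (ψ : Spec (CommRingCat.of B) ⟶ Z)
    (hψ : Spec.map (CommRingCat.ofHom (GLin.coactAlgHom k A B).toRingHom) ≫ ψ =
      Spec.map (CommRingCat.ofHom (Algebra.TensorProduct.includeLeftRingHom : B →+* B ⊗[k] A)) ≫ ψ)
    (c : C) {W : Z.Opens} (hW : IsAffineOpen W) (hc : ∀ q ∈ PrimeSpectrum.basicOpen (c : B), ψ q ∈ W) :
    ∃ χ : Spec (CommRingCat.of (Localization.Away c)) ⟶ Z,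
      ∀ (E : Type u) [CommRing E] (kB : B →+* E) (m : Localization.Away c →+* E),
        IsUnit (kB (c : B)) → m.comp (algebraMap C (Localization.Away c)) = kB.comp (algebraMap C B) →
        Spec.map (CommRingCat.ofHom m) ≫ χ = Spec.map (CommRingCat.ofHom kB) ≫ ψ := by
  let Bc := Localization.Away (c : B)
  let Cc := Localization.Away c
  let a : Spec (CommRingCat.of Bc) ⟶ Spec (CommRingCat.of B) := Spec.map (CommRingCat.ofHom (algebraMap B Bc))
  have hrg : Set.range (a ≫ ψ) ⊆ Set.range W.ι := by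
    rw [Scheme.Opens.range_ι]
    rintro _ ⟨y, rfl⟩
    exact hc _ ((PrimeSpectrum.localization_away_comap_range Bc (c : B)).le ⟨y, rfl⟩)
  let e := hW.isoSpec
  let l := IsOpenImmersion.lift W.ι (a ≫ ψ) hrg ≫ e.hom
  have hl : l ≫ e.inv ≫ W.ι = a ≫ ψ := by simp [l]
  let h := Spec.preimage l
  have huc : IsUnit (((algebraMap B Bc).comp (algebraMap C B)) c) :=
    IsLocalization.Away.algebraMap_isUnit (c : B)
  let φ : Cc →+* Bc := IsLocalization.Away.lift c huc
  have hφ : ∀ y : C, φ (algebraMap C Cc y) = algebraMap B Bc (y : B) := IsLocalization.Away.lift_eq c huc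
  -- the two maps to the localised tensor product
  let c' : B ⊗[k] A := (c : B) ⊗ₜ[k] (1 : A)
  let T := Localization.Away c'
  let ρ : B →+* B ⊗[k] A := (GLin.coactAlgHom k A B).toRingHom
  let i₁ : B →+* B ⊗[k] A := Algebra.TensorProduct.includeLeftRingHom
  have hu₁ : IsUnit (((algebraMap (B ⊗[k] A) T).comp i₁) (c : B)) := IsLocalization.Away.algebraMap_isUnit c'
  have hu₂ : IsUnit (((algebraMap (B ⊗[k] A) T).comp ρ) (c : B)) := by
    rw [RingHom.comp_apply, show ρ (c : B) = c' from c.2]
    exact IsLocalization.Away.algebraMap_isUnit c'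
  let p₁ : Bc →+* T := IsLocalization.Away.lift (c : B) hu₁
  let p₂ : Bc →+* T := IsLocalization.Away.lift (c : B) hu₂
  have hp₁ : ∀ b, p₁ (algebraMap B Bc b) = algebraMap _ T (i₁ b) := IsLocalization.Away.lift_eq (c : B) hu₁
  have hp₂ : ∀ b, p₂ (algebraMap B Bc b) = algebraMap _ T (ρ b) := IsLocalization.Away.lift_eq (c : B) hu₂
  have hh : h ≫ CommRingCat.ofHom p₁ = h ≫ CommRingCat.ofHom p₂ := by
    rw [← Spec.map_inj, Spec.map_comp, Spec.map_comp, Spec.map_preimage, ← cancel_mono e.inv, ← cancel_mono W.ι]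
    simp only [Category.assoc, hl]
    have e₁ : Spec.map (CommRingCat.ofHom p₁) ≫ a =
        Spec.map (CommRingCat.ofHom (algebraMap _ T)) ≫ Spec.map (CommRingCat.ofHom i₁) := by
      rw [← Spec.map_comp, ← Spec.map_comp]
      exact congrArg Spec.map (CommRingCat.hom_ext (RingHom.ext hp₁))
    have e₂ : Spec.map (CommRingCat.ofHom p₂) ≫ a =
        Spec.map (CommRingCat.ofHom (algebraMap _ T)) ≫ Spec.map (CommRingCat.ofHom ρ) := by
      rw [← Spec.map_comp, ← Spec.map_comp]
      exact congrArg Spec.map (CommRingCat.hom_ext (RingHom.ext hp₂))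
    rw [reassoc_of% e₁, reassoc_of% e₂, hψ]
  have hlift : ∀ x, p₁ x = p₂ x → ∃ y, φ y = x := by
    intro x hx
    obtain ⟨n, b, hb⟩ := IsLocalization.Away.surj (c : B) x
    have h12 : algebraMap _ T (i₁ b) = algebraMap _ T (ρ b) := by
      rw [← hp₁, ← hp₂, ← hb, map_mul, map_mul, hx, map_pow, map_pow, hp₁, hp₂, show ρ (c : B) = c' from c.2]
      rfl
    obtain ⟨m, hm⟩ := IsLocalization.Away.exists_of_eq c' h12
    have hmem : (c : B) ^ m * b ∈ C := by
      change ρ ((c : B) ^ m * b) = i₁ ((c : B) ^ m * b)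
      rw [map_mul, map_mul, map_pow, map_pow, show ρ (c : B) = c' from c.2]
      exact hm.symm
    obtain ⟨v, hv⟩ := ((IsLocalization.Away.algebraMap_isUnit (S := Cc) c).pow (m + n)).exists_right_inv
    refine ⟨algebraMap C Cc ⟨_, hmem⟩ * v, ?_⟩
    have hv' := congrArg φ hv
    rw [map_mul, map_pow, hφ, map_one] at hv'
    rw [map_mul, hφ]
    change algebraMap B Bc ((c : B) ^ m * b) * φ v = x
    rw [map_mul, map_pow, ← hb]
    calc algebraMap B Bc (c : B) ^ m * (x * algebraMap B Bc (c : B) ^ n) * φ v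
        = x * (algebraMap B Bc (c : B) ^ (m + n) * φ v) := by ring
      _ = x := by rw [hv', mul_one]
  have hinj : Function.Injective φ := by
    rw [injective_iff_map_eq_zero]
    intro z hz
    obtain ⟨n, y, hy⟩ := IsLocalization.Away.surj c z
    have h0 : algebraMap B Bc (y : B) = algebraMap B Bc 0 := by
      rw [← hφ, ← hy, map_mul, hz, zero_mul, map_zero]
    obtain ⟨m, hm⟩ := IsLocalization.Away.exists_of_eq (c : B) h0
    have h2 : c ^ m * y = 0 := Subtype.ext (by simpa using hm)
    have hm0 := congrArg (algebraMap C Cc) h2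
    rw [map_mul, map_pow, map_zero, ← hy] at hm0
    exact ((IsLocalization.Away.algebraMap_isUnit (S := Cc) c).pow n).mul_left_eq_zero.1
      (((IsLocalization.Away.algebraMap_isUnit (S := Cc) c).pow m).mul_right_eq_zero.1 hm0)
  choose g hg using fun s => hlift (h.hom s) (congrArg (fun q => q.hom s) hh)
  let g' : Γ(Z, W) →+* Cc :=
    { toFun := g
      map_one' := hinj (by rw [hg, map_one, map_one])
      map_mul' := fun s t => hinj (by rw [map_mul, hg, hg, hg, map_mul])
      map_zero' := hinj (by rw [hg, map_zero, map_zero])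
      map_add' := fun s t => hinj (by rw [map_add, hg, hg, hg, map_add]) }
  refine ⟨Spec.map (CommRingCat.ofHom g') ≫ e.inv ≫ W.ι, fun E _ kB m hu hm => ?_⟩
  let u : Bc →+* E := IsLocalization.Away.lift (c : B) hu
  have huB : ∀ b, u (algebraMap B Bc b) = kB b := IsLocalization.Away.lift_eq (c : B) hu
  have hum : u.comp φ = m := by
    refine IsLocalization.ringHom_ext (Submonoid.powers c) (RingHom.ext fun y => ?_)
    rw [RingHom.comp_apply, RingHom.comp_apply, RingHom.comp_apply, hφ, huB]
    exact (RingHom.congr_fun hm y).symm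
  have e1 : CommRingCat.ofHom g' ≫ CommRingCat.ofHom φ = h := CommRingCat.hom_ext (RingHom.ext hg)
  rw [← hum, CommRingCat.ofHom_comp, Spec.map_comp, Category.assoc, ← Spec.map_comp_assoc _ (CommRingCat.ofHom φ), e1,
    Spec.map_preimage, hl, ← Spec.map_comp_assoc]
  exact congrArg (fun t => Spec.map t ≫ ψ) (CommRingCat.hom_ext (RingHom.ext huB))

end Main


/-- Let `k` be a commutative ring, `A` a commutative Hopf algebra over `k`, flat as a `k`-module, `B` a
commutative `k`-algebra with a coaction `ρ : B → B ⊗ A` that is an algebra map and admits a total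
integral (a comodule map `α : A → B` with `α 1 = 1`), and `C = B^A`. Then `Spec B → Spec C` is a
categorical quotient of the action in the category of schemes: for every scheme `Z` and every
morphism `ψ : Spec B → Z` which is invariant, i.e. has the same composite with `Spec (B ⊗ A) → Spec
B` induced by `ρ` and by `b ↦ b ⊗ 1`, there is exactly one morphism `Spec C → Z` through which `ψ`
factors. (The published statement assumes only that taking invariants is exact on `(B, A)`-modules;
a total integral, assumed here, gives that exactness.) -/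
theorem result
    (k : Type u) [CommRing k] (A : Type u) [CommRing A] [HopfAlgebra k A] [Module.Flat k A]
    (B : Type u) [CommRing B] [Algebra k B] [HopfRep.Comod k A B] [GLin.IsCoactAlg k A B]
    (htame : ∃ α : A →ₗ[k] B, Hoch.IsComodHom A α ∧ α 1 = 1)
    (Z : Scheme.{u}) (ψ : Spec (CommRingCat.of B) ⟶ Z)
    (hψ : Spec.map (CommRingCat.ofHom (GLin.coactAlgHom k A B).toRingHom) ≫ ψ =
      Spec.map (CommRingCat.ofHom
        (Algebra.TensorProduct.includeLeftRingHom : B →+* TensorProduct k B A)) ≫ ψ) :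
    ∃! χ : Spec (CommRingCat.of (GLin.invariants k A B)) ⟶ Z,
      Spec.map (CommRingCat.ofHom (algebraMap (GLin.invariants k A B) B)) ≫ χ = ψ := by
  classical
  obtain ⟨α, hα, hα1⟩ := htame
  haveI := isHopfMod_self (k := k) (A := A) (B := B)
  let C := GLin.invariants k A B
  let R : B →ₗ[C] C :=
    { toFun := fun b => ⟨TameAct.reynolds k A B B α b, reynolds_mem_fixedPts hα b⟩
      map_add' := fun a b => Subtype.ext (map_add (TameAct.reynolds k A B B α) a b)
      map_smul' := fun c b => Subtype.ext (by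
        change TameAct.reynolds k A B B α ((c : B) • b) = _
        rw [reynolds_fixed_smul α c.2]
        rfl) }
  have hR1 : R 1 = 1 := Subtype.ext (reynolds_of_fixed hα1 (one_mem C))
  let T : Set C := {c | ∃ W : Z.Opens, IsAffineOpen W ∧ ∀ q ∈ PrimeSpectrum.basicOpen (c : B), ψ q ∈ W}
  have hT : Ideal.span (Set.range fun c : T => (c : C)) = ⊤ := by
    rw [Subtype.range_coe]
    exact exists_cover α hα hα1 ψ hψ
  choose χ hχ using fun i : T => exists_local ψ hψ i.1 i.2.choose_spec.1 i.2.choose_spec.2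
  have hcompat : ∀ i j : T,
      pullback.fst (Spec.map (CommRingCat.ofHom (algebraMap C (Localization.Away i.1))))
        (Spec.map (CommRingCat.ofHom (algebraMap C (Localization.Away j.1)))) ≫ χ i =
      pullback.snd _ _ ≫ χ j := by
    intro i j
    exact compat_overlap R hR1 i.1 j.1 (IsLocalization.Away.algebraMap_isUnit i.1)
      (IsLocalization.Away.algebraMap_isUnit j.1) ψ (χ i) (χ j) (hχ i) (hχ j)
  obtain ⟨X, hX⟩ := exists_glue (fun c : T => (c : C)) hT χ hcompat
  have hXψ : Spec.map (CommRingCat.ofHom (algebraMap C B)) ≫ X = ψ := by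
    have hT' : Ideal.span (Set.range fun c : T => ((c : C) : B)) = ⊤ := by
      have h := congrArg (Ideal.map (algebraMap C B)) hT
      rw [Ideal.map_top, Ideal.map_span, ← Set.range_comp] at h
      exact h
    refine hom_ext_span (fun c : T => ((c : C) : B)) hT' _ _ fun i => ?_
    let Bi := Localization.Away ((i.1 : C) : B)
    obtain ⟨φ, hsq⟩ := exists_away_lift ((algebraMap B Bi).comp (algebraMap C B)) i.1
      (IsLocalization.Away.algebraMap_isUnit ((i.1 : C) : B))
    change Spec.map (CommRingCat.ofHom (algebraMap B Bi)) ≫ _ = Spec.map (CommRingCat.ofHom (algebraMap B Bi)) ≫ ψ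
    rw [← Spec.map_comp_assoc, ← CommRingCat.ofHom_comp, ← hsq, CommRingCat.ofHom_comp, Spec.map_comp_assoc, hX]
    exact hχ i Bi _ φ (IsLocalization.Away.algebraMap_isUnit _) hsq
  exact ⟨X, hXψ, fun X' hX' => hom_ext_of_retraction R hR1 X' X (hX'.trans hXψ.symm)⟩

end Groth.Agent.S12924
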