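import Groth.Statements.S12925
import Groth.Agent.Hopf.Integral

set_option autoImplicit false
universe u w
open HopfRep

namespace Groth.Agent.S12925

/-- Let `k` be a commutative ring, `M` a commutative group and `B` a commutative `k`-algebra with a
coaction of the group algebra `k[M]` that is an algebra map (an action of the diagonalizable group
scheme `D(M) = Spec k[M]` on `Spec B`). Then the action is tame: there is a comodule map `α : k[M] →
B`, for the regular coaction on `k[M]`, with `α 1 = 1`. -/
theorem result
    (k : Type u) [CommRing k] (M : Type u) [CommGroup M]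
    (B : Type w) [CommRing B] [Algebra k B] [HopfRep.Comod k (MonoidAlgebra k M) B]
    [GLin.IsCoactAlg k (MonoidAlgebra k M) B] :
    ∃ α : MonoidAlgebra k M →ₗ[k] B, Hoch.IsComodHom (MonoidAlgebra k M) α ∧ α 1 = 1 := by
  let α₀ : MonoidAlgebra k M →ₗ[k] k := Finsupp.lapply 1 ∘ₗ (MonoidAlgebra.coeffLinearEquiv k).toLinearMap
  refine ⟨Algebra.linearMap k B ∘ₗ α₀, ComodLib.isComodHom_algebraMap_comp α₀ ?_, ?_⟩
  · refine MonoidAlgebra.lhom_ext' fun m => ?_
    classical
    ext
    by_cases h : m = 1 <;> simp [α₀, h, MonoidAlgebra.one_def, HopfRep.Comod.coact]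
  · simp [α₀, MonoidAlgebra.one_def]

end Groth.Agent.S12925
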