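import Groth.Statements.S12926
import Groth.Agent.Hopf.Integral

set_option autoImplicit false
universe u v
open HopfRep

namespace Groth.Agent.S12926

/-- Let `k` be a commutative ring and `A` a commutative bialgebra over `k`, flat as a `k`-module. If the
submodule `k · 1` of the regular comodule `A` has a complement `H` which is a subcomodule — the case
used when `A` is cosemisimple, i.e. every subcomodule of every comodule is a direct summand as a
comodule — then the trivial action of `Spec A` on `Spec k` is tame: there is a comodule map `α : A →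
k`, for the regular coaction on `A` and the trivial coaction `r ↦ r ⊗ 1` on `k`, with `α 1 = 1`. -/
theorem result
    (k : Type u) [CommRing k] (A : Type v) [CommRing A] [Bialgebra k A] [Module.Flat k A]
    (H : Submodule k A) (hH : HopfRep.IsSubcomod (k := k) (A := A) H)
    (hc : IsCompl (Submodule.span k {(1 : A)}) H) :
    ∃ α : A →ₗ[k] k, @Hoch.IsComodHom k _ A _ _ _ A _ _ _ k _ _ (HopfRep.Comod.trivial k A k) α ∧ α 1 = 1 := by
  classical
  let c : k →ₗ[k] A := Algebra.linearMap k A
  let p := (Submodule.span k {(1 : A)}).projection H hc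
  let α : A →ₗ[k] k := Coalgebra.counit (R := k) (A := A) ∘ₗ p
  have h1 : p 1 = 1 := Submodule.projection_apply_of_mem_left hc (Submodule.mem_span_singleton_self _)
  have hH' : ∀ h ∈ H, α h = 0 := fun h hh => by
    simp [α, p, Submodule.projection_apply_of_mem_right hc hh]
  have hα1 : α 1 = 1 := by simp [α, h1]
  refine ⟨α, LinearMap.ext fun a => ?_, hα1⟩
  change α a ⊗ₜ[k] (1 : A) = α.rTensor A (Coalgebra.comul (R := k) a)
  obtain ⟨y, hy, h, hh, rfl⟩ := Submodule.mem_sup.1 (hc.sup_eq_top ▸ Submodule.mem_top (x := a))
  obtain ⟨t, rfl⟩ := Submodule.mem_span_singleton.1 hy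
  obtain ⟨z, hz⟩ := hH h hh
  have h0 : α.rTensor A (Coalgebra.comul (R := k) h) = 0 := by
    rw [show Coalgebra.comul (R := k) h = H.subtype.rTensor A z from hz.symm,
      ← LinearMap.comp_apply, ← LinearMap.rTensor_comp,
      show α ∘ₗ H.subtype = 0 from LinearMap.ext fun x => hH' x x.2, LinearMap.rTensor_zero,
      LinearMap.zero_apply]
  rw [map_add, map_smul, hH' h hh, hα1, add_zero, map_add, map_smul, map_add, map_smul, h0, add_zero,
    Bialgebra.comul_one, Algebra.TensorProduct.one_def, LinearMap.rTensor_tmul, hα1,
    TensorProduct.smul_tmul']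

end Groth.Agent.S12926
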