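import Groth.Statements.S12928
import Groth.Agent.Hopf.Dual
import Groth.Agent.Hopf.Integral
import Groth.Prelude.Def_ComodTens

set_option autoImplicit false
universe u
open HopfRep

namespace Groth.Agent.S12928

open TensorProduct Groth.ComodLib

section Aux

variable {k : Type u} [CommRing k] {A : Type u} [CommRing A] [HopfAlgebra k A] [Module.Finite k A]
  [Module.Projective k A]

/-- the evaluation pairing is invariant -/
theorem pairing (f : Module.Dual k A) (a : A) :
    LinearMap.mul' k A ((dualTensorHom k A A ((dualComod (HopfRep.Comod.regular (k := k) (A := A))).coact f)).rTensor A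
      (Coalgebra.comul (R := k) a)) = f a • (1 : A) := by
  rw [show dualTensorHom k A A ((dualComod (HopfRep.Comod.regular (k := k) (A := A))).coact f) =
    ComodTens.dualCoactFun (HopfRep.Comod.regular (k := k) (A := A)) f from
      isDual_dualComod (HopfRep.Comod.regular (k := k) (A := A)) f]
  let S := HopfAlgebraStruct.antipode (R := k) (A := A)
  let K : A ⊗[k] (A ⊗[k] A) →ₗ[k] A := (TensorProduct.lid k A).toLinearMap ∘ₗ
    TensorProduct.map f (LinearMap.mul' k A ∘ₗ S.rTensor A)
  have h1 : ∀ w : A ⊗[k] A, LinearMap.mul' k A ((ComodTens.dualCoactFun (HopfRep.Comod.regular (k := k) (A := A)) f).rTensor A w) =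
      K (TensorProduct.assoc k A A A ((Coalgebra.comul (R := k) (A := A)).rTensor A w)) := by
    intro w
    induction w using TensorProduct.induction_on with
    | zero => simp
    | add p q hp hq => simp only [map_add, hp, hq]
    | tmul p q =>
      rw [LinearMap.rTensor_tmul, LinearMap.mul'_apply, LinearMap.rTensor_tmul, ComodTens.dualCoactFun_apply]
      change (TensorProduct.lid k A) (TensorProduct.map f S (Coalgebra.comul (R := k) p)) * q = _
      induction Coalgebra.comul (R := k) p using TensorProduct.induction_on with
      | zero => simp
      | add r s hr hs => simp only [map_add, add_mul, TensorProduct.add_tmul, hr, hs]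
      | tmul r s => simp [K, S]
  rw [h1, Coalgebra.coassoc_apply]
  have h2 : ∀ w : A ⊗[k] A, K ((Coalgebra.comul (R := k) (A := A)).lTensor A w) =
      f (TensorProduct.rid k A ((Coalgebra.counit (R := k) (A := A)).lTensor A w)) • (1 : A) := by
    intro w
    induction w using TensorProduct.induction_on with
    | zero => simp
    | add p q hp hq => simp only [map_add, add_smul, hp, hq]
    | tmul p q =>
      simp only [K, S, LinearMap.lTensor_tmul, LinearMap.comp_apply, TensorProduct.map_tmul,
        LinearEquiv.coe_coe, TensorProduct.lid_tmul, HopfAlgebra.mul_antipode_rTensor_comul_apply,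
        TensorProduct.rid_tmul, map_smul, Algebra.algebraMap_eq_smul_one, smul_smul, smul_eq_mul, mul_comm]
  rw [h2, Coalgebra.lTensor_counit_comul, TensorProduct.rid_tmul, one_smul]

variable {B : Type u} [CommRing B] [Algebra k B] [HopfRep.Comod k A B]

/-- evaluation of `B ⊗ A^*` -/
def ev : B ⊗[k] Module.Dual k A →ₗ[k] A →ₗ[k] B :=
  dualTensorHom k A B ∘ₗ (TensorProduct.comm k B (Module.Dual k A)).toLinearMap

theorem ev_tmul (b : B) (f : Module.Dual k A) (a : A) : ev (b ⊗ₜ[k] f) a = f a • b := by simp [ev]

/-- the comodule `B ⊗ A^*` -/
@[reducible] noncomputable def homComod : HopfRep.Comod k A (B ⊗[k] Module.Dual k A) :=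
  ComodTens.Comod.tensor (inferInstanceAs (HopfRep.Comod k A B)) (dualComod (HopfRep.Comod.regular (k := k) (A := A)))

theorem homComod_coact_tmul (b : B) (f : Module.Dual k A) :
    (homComod (k := k) (A := A) (B := B)).coact (b ⊗ₜ[k] f) =
      TensorProduct.map LinearMap.id (LinearMap.mul' k A)
        (AlgebraTensorModule.tensorTensorTensorComm k k k k B A (Module.Dual k A) A
          (HopfRep.Comod.coact (k := k) (A := A) b ⊗ₜ[k]
            (dualComod (HopfRep.Comod.regular (k := k) (A := A))).coact f)) :=
  ComodTens.tensor_coact_tmul _ _ b f

theorem isHopfMod_hom [GLin.IsCoactAlg k A B] :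
    @TameAct.IsHopfMod k _ A _ _ B _ _ (B ⊗[k] Module.Dual k A) _ _ _ _ _ homComod := by
  letI := homComod (k := k) (A := A) (B := B)
  refine ⟨fun c m => ?_⟩
  induction m using TensorProduct.induction_on with
  | zero => simp
  | add p q hp hq => rw [smul_add, map_add, map_add, hp, hq, map_add]
  | tmul b f =>
    rw [TensorProduct.smul_tmul', smul_eq_mul]
    change (homComod (k := k) (A := A) (B := B)).coact ((c * b) ⊗ₜ[k] f) =
      TameAct.hmSMul k A B _ _ ((homComod (k := k) (A := A) (B := B)).coact (b ⊗ₜ[k] f))
    rw [homComod_coact_tmul, homComod_coact_tmul, GLin.IsCoactAlg.coact_mul]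
    generalize (HopfRep.Comod.coact (k := k) (A := A) c) = z
    generalize (HopfRep.Comod.coact (k := k) (A := A) b) = z'
    generalize ((dualComod (HopfRep.Comod.regular (k := k) (A := A))).coact f) = w
    induction z using TensorProduct.induction_on with
    | zero => simp
    | add p q hp hq => simp only [add_mul, TensorProduct.add_tmul, map_add, LinearMap.add_apply, hp, hq]
    | tmul c₀ c₁ =>
      induction z' using TensorProduct.induction_on with
      | zero => simp
      | add p q hp hq => simp only [mul_add, TensorProduct.add_tmul, map_add, hp, hq]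
      | tmul b₀ b₁ =>
        induction w using TensorProduct.induction_on with
        | zero => simp
        | add p q hp hq => simp only [TensorProduct.tmul_add, map_add, hp, hq]
        | tmul f₀ f₁ => simp [mul_assoc, TensorProduct.smul_tmul']

/-- evaluation intertwines -/
theorem coact_ev [GLin.IsCoactAlg k A B] (m : B ⊗[k] Module.Dual k A) (a : A) :
    HopfRep.Comod.coact (k := k) (A := A) (ev m a) =
      TensorProduct.map₂ (ev (k := k) (A := A) (B := B)) (LinearMap.mul k A)
        ((homComod (k := k) (A := A) (B := B)).coact m) (Coalgebra.comul (R := k) a) := by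
  induction m using TensorProduct.induction_on with
  | zero => simp
  | add p q hp hq => simp only [map_add, LinearMap.add_apply, hp, hq]
  | tmul b f =>
    rw [homComod_coact_tmul, ev_tmul, map_smul]
    have key : ∀ (z : B ⊗[k] A) (w : Module.Dual k A ⊗[k] A) (y : A ⊗[k] A),
        TensorProduct.map₂ (ev (k := k) (A := A) (B := B)) (LinearMap.mul k A)
          (TensorProduct.map LinearMap.id (LinearMap.mul' k A)
            (AlgebraTensorModule.tensorTensorTensorComm k k k k B A (Module.Dual k A) A (z ⊗ₜ[k] w))) y =
          z * ((1 : B) ⊗ₜ[k] LinearMap.mul' k A ((dualTensorHom k A A w).rTensor A y)) := by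
      intro z w y
      induction y using TensorProduct.induction_on with
      | zero => simp
      | add p q hp hq => simp only [map_add, TensorProduct.tmul_add, mul_add, hp, hq]
      | tmul a₁ a₂ =>
        induction z using TensorProduct.induction_on with
        | zero => simp
        | add p q hp hq => simp only [TensorProduct.add_tmul, map_add, LinearMap.add_apply, add_mul, hp, hq]
        | tmul b₀ b₁ =>
          induction w using TensorProduct.induction_on with
          | zero => simp
          | add p q hp hq =>
            simp only [TensorProduct.tmul_add, map_add, LinearMap.add_apply, TensorProduct.add_tmul, mul_add, LinearMap.rTensor_add, hp, hq]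
          | tmul f₀ f₁ =>
            simp [ev, mul_assoc, TensorProduct.smul_tmul', TensorProduct.tmul_smul]
    rw [key, pairing, TensorProduct.tmul_smul, ← Algebra.TensorProduct.one_def, mul_smul_comm, mul_one]

end Aux

/-- Let `k` be a commutative ring, `A` a commutative Hopf algebra over `k` which is finite locally free
(finite projective, in particular flat) as a `k`-module, `B` a commutative `k`-algebra with a
coaction of `A` that is an algebra map, and `C = B^A` the ring of invariants; assume `C` Noetherian
and `B` finite and flat over `C`. If taking invariants is exact on `(B, A)`-modules — for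
`B`-modules `M`, `N` with compatible `A`-coactions (in the universe of `k`, `A`, `B`) every
surjective `B`-linear comodule map `M → N` maps `M^A` onto `N^A` — then the action is tame: there is
a comodule map `α : A → B` with `α 1 = 1`. Together with the converse (a total integral makes
invariants exact) this says that tameness of the action is the exactness of invariants. (The
published statement does not assume `B` finite over `C`; its proof uses that finiteness, which is
assumed here.) -/
theorem result
    (k : Type u) [CommRing k] (A : Type u) [CommRing A] [HopfAlgebra k A] [Module.Flat k A]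
    [Module.Finite k A] [Module.Projective k A]
    (B : Type u) [CommRing B] [Algebra k B] [HopfRep.Comod k A B] [GLin.IsCoactAlg k A B]
    [IsNoetherianRing (GLin.invariants k A B)] [Module.Finite (GLin.invariants k A B) B] [Module.Flat (GLin.invariants k A B) B]
    (hexact : ∀ (M N : Type u) [AddCommGroup M] [Module k M] [Module B M] [IsScalarTower k B M]
      [HopfRep.Comod k A M] [TameAct.IsHopfMod k A B M]
      [AddCommGroup N] [Module k N] [Module B N] [IsScalarTower k B N]
      [HopfRep.Comod k A N] [TameAct.IsHopfMod k A B N] (f : M →ₗ[B] N),
      Hoch.IsComodHom A (f.restrictScalars k) → Function.Surjective f →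
      ∀ n ∈ HopfRep.fixedPts k A N, ∃ m ∈ HopfRep.fixedPts k A M, f m = n) :
    ∃ α : A →ₗ[k] B, Hoch.IsComodHom A α ∧ α 1 = 1 := by
  letI cM := homComod (k := k) (A := A) (B := B)
  haveI hM : TameAct.IsHopfMod k A B (B ⊗[k] Module.Dual k A) := isHopfMod_hom
  haveI := isHopfMod_self (k := k) (A := A) (B := B)
  let π : B ⊗[k] Module.Dual k A →ₗ[B] B :=
    { toFun := fun m => ev m 1
      map_add' := fun p q => by simp
      map_smul' := fun c m => by
        induction m using TensorProduct.induction_on with
        | zero => simp
        | add p q hp hq =>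
          simp only [smul_add, map_add, LinearMap.add_apply, RingHom.id_apply] at hp hq ⊢
          rw [hp, hq]
        | tmul b f =>
          rw [TensorProduct.smul_tmul', ev_tmul, ev_tmul, RingHom.id_apply, smul_eq_mul, smul_eq_mul, mul_smul_comm] }
  have hπ : Hoch.IsComodHom A (π.restrictScalars k) := by
    refine LinearMap.ext fun m => ?_
    change HopfRep.Comod.coact (k := k) (A := A) (ev m 1) = (π.restrictScalars k).rTensor A (cM.coact m)
    rw [coact_ev, Bialgebra.comul_one, Algebra.TensorProduct.one_def]
    generalize cM.coact m = w
    induction w using TensorProduct.induction_on with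
    | zero => simp
    | add p q hp hq => simp only [map_add, LinearMap.add_apply, hp, hq]
    | tmul x p => simp [π]
  have hsurj : Function.Surjective π := fun b =>
    ⟨b ⊗ₜ[k] Coalgebra.counit (R := k) (A := A), by
      change ev (b ⊗ₜ[k] Coalgebra.counit (R := k) (A := A)) (1 : A) = b
      rw [ev_tmul, Bialgebra.counit_one, one_smul]⟩
  have h1 : (1 : B) ∈ HopfRep.fixedPts k A B :=
    (GLin.IsCoactAlg.coact_one (k := k) (A := A) (R := B)).trans Algebra.TensorProduct.one_def
  obtain ⟨m, hm, hm1⟩ := hexact _ B π hπ hsurj 1 h1
  refine ⟨ev m, LinearMap.ext fun a => ?_, hm1⟩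
  change HopfRep.Comod.coact (k := k) (A := A) (ev m a) = (ev m).rTensor A (Coalgebra.comul (R := k) a)
  rw [coact_ev, show cM.coact m = m ⊗ₜ[k] (1 : A) from hm]
  generalize Coalgebra.comul (R := k) a = y
  induction y using TensorProduct.induction_on with
  | zero => simp
  | add p q hp hq => simp only [map_add, hp, hq]
  | tmul p q => simp

end Groth.Agent.S12928
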