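import Groth.Statements.S12929
import Groth.Agent.Hopf.Integral

set_option autoImplicit false
universe u v w w'
open HopfRep
open scoped TensorProduct

namespace Groth.Agent.S12929

/-- Let `k` be a commutative ring, `A` a commutative Hopf algebra over `k`, `M` a right `A`-comodule and
`N` a `k`-module; give `N ⊗ A` the coaction `id ⊗ Δ`. Then for every `k`-linear map `h : M → N` the
composite `(h ⊗ id_A) ∘ ρ_M : M → N ⊗ A` is a comodule map, and every comodule map `f : M → N ⊗ A`
is of this form for exactly one `h` (which is `(id_N ⊗ ε) ∘ f`): comodule maps `M → N ⊗ A`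
correspond bijectively to linear maps `M → N`. -/
theorem result
    (k : Type u) [CommRing k] (A : Type v) [CommRing A] [HopfAlgebra k A]
    (M : Type w) [AddCommGroup M] [Module k M] [HopfRep.Comod k A M]
    (N : Type w') [AddCommGroup N] [Module k N] :
    (∀ h : M →ₗ[k] N, Hoch.IsComodHom A
        ((Hoch.Ind.equiv k A N).toLinearMap ∘ₗ h.rTensor A ∘ₗ HopfRep.Comod.coact (k := k) (A := A))) ∧
      ∀ f : M →ₗ[k] Hoch.Ind k A N, Hoch.IsComodHom A f →
        ∃! h : M →ₗ[k] N,
          f = (Hoch.Ind.equiv k A N).toLinearMap ∘ₗ h.rTensor A ∘ₗ HopfRep.Comod.coact (k := k) (A := A) := by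
  let E := Hoch.Ind.equiv k A N
  let ρ := HopfRep.Comod.coact (k := k) (A := A) (V := M)
  refine ⟨fun h => LinearMap.ext fun m => ?_, fun f hf => ?_⟩
  · have hco := LinearMap.congr_fun (HopfRep.Comod.coassoc (k := k) (A := A) (V := M)) m
    simp only [LinearMap.comp_apply, LinearEquiv.coe_coe] at hco
    simp only [LinearMap.comp_apply, LinearEquiv.coe_coe]
    change Hoch.Ind.coactAux k A N (h.rTensor A (ρ m)) =
      (E.toLinearMap ∘ₗ h.rTensor A ∘ₗ ρ).rTensor A (ρ m)
    rw [LinearMap.rTensor_comp_apply, LinearMap.rTensor_comp_apply,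
      ← (TensorProduct.assoc k M A A).symm_apply_apply (ρ.rTensor A (ρ m)), hco]
    generalize ρ m = z
    induction z using TensorProduct.induction_on with
    | zero => simp only [map_zero]; rfl
    | add p q hp hq => simp only [map_add]; exact congrArg₂ (· + ·) hp hq
    | tmul p q =>
      simp only [LinearMap.rTensor_tmul, Hoch.Ind.coactAux_tmul, LinearMap.lTensor_tmul]
      generalize Coalgebra.comul (R := k) q = w
      induction w using TensorProduct.induction_on with
      | zero => simp only [TensorProduct.tmul_zero, map_zero]; rfl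
      | tmul s t => simp [E, Hoch.Ind.equiv]; rfl
      | add s t hs ht => simp only [TensorProduct.tmul_add, map_add]; exact congrArg₂ (· + ·) hs ht
  · have key : ∀ h : M →ₗ[k] N, Hoch.Ind.counit k A N ∘ₗ E.toLinearMap ∘ₗ h.rTensor A ∘ₗ ρ = h := by
      intro h
      refine LinearMap.ext fun m => ?_
      have : ∀ z : M ⊗[k] A, Hoch.Ind.counit k A N (E (h.rTensor A z)) =
          h (ComodLib.slice (Coalgebra.counit (R := k) (A := A)) z) := by
        intro z
        induction z using TensorProduct.induction_on with
        | zero => simp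
        | tmul p q => simp [E]
        | add p q hp hq => simp only [map_add, hp, hq]
      exact (this (ρ m)).trans (congrArg h (ComodLib.op_counit m))
    refine ⟨Hoch.Ind.counit k A N ∘ₗ f, LinearMap.ext fun m => ?_, fun h hh => by rw [hh, key]⟩
    have hm := LinearMap.congr_fun hf m
    simp only [LinearMap.comp_apply] at hm
    simp only [LinearMap.comp_apply, LinearEquiv.coe_coe, LinearMap.rTensor_comp_apply]
    rw [show f.rTensor A (HopfRep.Comod.coact (k := k) (A := A) m) = Hoch.Ind.coactAux k A N (f m) from hm.symm]
    change f m = E ((Hoch.Ind.counit k A N ∘ₗ E.toLinearMap).rTensor A (Hoch.Ind.coactAux k A N (E.symm (f m))))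
    conv_lhs => rw [← E.apply_symm_apply (f m)]
    generalize E.symm (f m) = z
    induction z using TensorProduct.induction_on with
    | zero => simp
    | add p q hp hq => simp only [map_add, ← hp, ← hq]
    | tmul p q =>
      have : ∀ w : TensorProduct k A A, (Hoch.Ind.counit k A N ∘ₗ E.toLinearMap).rTensor A ((TensorProduct.assoc k N A A).symm (p ⊗ₜ[k] w)) =
          p ⊗ₜ[k] (TensorProduct.lid k A ((Coalgebra.counit (R := k) (A := A)).rTensor A w)) := by
        intro w
        induction w using TensorProduct.induction_on with
        | zero => simp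
        | tmul s t =>
          simp only [TensorProduct.assoc_symm_tmul, LinearMap.rTensor_tmul, TensorProduct.lid_tmul]
          rw [show (Hoch.Ind.counit k A N ∘ₗ E.toLinearMap) (p ⊗ₜ[k] s) = Coalgebra.counit (R := k) s • p from
            Hoch.Ind.counit_equiv_tmul k A N p s, TensorProduct.smul_tmul]
        | add s t hs ht => simp only [TensorProduct.tmul_add, map_add, hs, ht]
      rw [Hoch.Ind.coactAux_tmul, this]
      simp

end Groth.Agent.S12929
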