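import Groth.Statements.S12931
import Mathlib.Algebra.BigOperators.Pi

set_option autoImplicit false
universe u v w
open HopfRep

namespace Groth.Agent.S12931

/-- Let `R` be a commutative ring, `Γ` a finite set and `T` a commutative `R`-algebra which is
connected: nonzero, with no idempotents other than `0` and `1`. Then `γ ↦ (evaluation at γ : (Γ → R)
→ R → T)` is a bijection from `Γ` onto the `R`-algebra maps `(Γ → R) → T`: every such map sends
exactly one of the indicator functions to `1` and the others to `0`. (Only the bijection of sets is
stated; when `Γ` is a group, the compatibility with the group structures on both sides is not.) -/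
theorem result
    (R : Type u) [CommRing R] (Γ : Type v) [Finite Γ]
    (T : Type w) [CommRing T] [Algebra R T] [Nontrivial T]
    (hT : ∀ e : T, IsIdempotentElem e → e = 0 ∨ e = 1) :
    Function.Bijective (fun γ : Γ => (Algebra.ofId R T).comp (Pi.evalAlgHom R (fun _ : Γ => R) γ)) := by
  classical
  let := Fintype.ofFinite Γ
  have key : ∀ (F : (Γ → R) →ₐ[R] T) (γ : Γ), F (Pi.single γ 1) = 1 →
      F = (Algebra.ofId R T).comp (Pi.evalAlgHom R (fun _ : Γ => R) γ) := by
    intro F γ hγ
    refine AlgHom.ext fun f => ?_
    have h : f * Pi.single γ 1 = f γ • Pi.single γ 1 := by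
      ext γ'
      by_cases h : γ' = γ <;> simp [h]
    have := congrArg F h
    rw [map_mul, map_smul, hγ, mul_one] at this
    simpa [Algebra.smul_def] using this
  constructor
  · intro γ γ' h
    by_contra hne
    have := DFunLike.congr_fun h (Pi.single γ 1)
    simp [Pi.single_eq_of_ne (Ne.symm hne)] at this
  · intro F
    have hsum : (∑ γ : Γ, F (Pi.single γ (1 : R))) = 1 := by
      rw [← map_sum, Finset.univ_sum_single]
      exact map_one F
    obtain ⟨γ, hγ⟩ : ∃ γ, F (Pi.single γ 1) ≠ 0 := by
      by_contra h
      push Not at h
      simp [h] at hsum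
    refine ⟨γ, (key F γ ((hT _ ?_).resolve_left hγ)).symm⟩
    have : (Pi.single γ (1 : R) : Γ → R) * Pi.single γ 1 = Pi.single γ 1 := by simp [← Pi.single_mul]
    exact (map_mul F _ _).symm.trans (congrArg F this)

end Groth.Agent.S12931
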