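import Groth.Statements.S12932
import Mathlib.RingTheory.Invariant.Basic

set_option autoImplicit false
universe u v
open scoped BigOperators
open InvTh

namespace Groth.Agent.S12932

/-- Let `B` be a commutative ring with an action of a finite group `Γ` by ring automorphisms, and call a
prime ideal `P` of `B` tame when the order of its inertia group `{γ | γ • x - x ∈ P for all x}` is
not divisible by the characteristic of `B/P` (its ramification group is trivial). Then every prime
of `B` is tame if and only if the trace `b ↦ Σ_γ γ • b`, which takes values in the invariant ring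
`B^Γ` and is `B^Γ`-linear, is onto `B^Γ` — equivalently, some element of `B` has trace `1`. -/
theorem result
    (B : Type u) [CommRing B] (Γ : Type v) [Group Γ] [Fintype Γ] [MulSemiringAction Γ B] :
    (∃ b : B, ∑ γ : Γ, γ • b = 1) ↔
      ∀ P : Ideal B, P.IsPrime → ((Nat.card (P.inertia Γ) : ℕ) : B ⧸ P) ≠ 0 := by
  classical
  have key : ∀ (P : Ideal B) (b : B), ∃ X : B ⧸ P,
      Ideal.Quotient.mk P (∑ γ : Γ, γ • b) = (Nat.card (P.inertia Γ) : B ⧸ P) * X ∧
      X = ∑ χ ∈ Finset.univ.image (fun γ : Γ ↦ ((Ideal.Quotient.mk P).comp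
        (MulSemiringAction.toRingHom Γ B γ)).toMonoidHom), χ b := fun P b ↦ by
    refine ⟨_, ?_, rfl⟩
    set φ := fun γ : Γ ↦ ((Ideal.Quotient.mk P).comp (MulSemiringAction.toRingHom Γ B γ)).toMonoidHom
    have hφ : ∀ γ δ : Γ, φ γ = φ δ ↔ γ * δ⁻¹ ∈ P.inertia Γ := fun γ δ ↦ by
      constructor
      · intro h y
        have e := DFunLike.congr_fun h (δ⁻¹ • y)
        have e' : Ideal.Quotient.mk P (γ • δ⁻¹ • y) = Ideal.Quotient.mk P (δ • δ⁻¹ • y) := e
        rw [smul_inv_smul, smul_smul] at e'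
        exact Ideal.Quotient.eq.mp e'
      · intro h
        refine MonoidHom.ext fun y ↦ ?_
        change Ideal.Quotient.mk P (γ • y) = Ideal.Quotient.mk P (δ • y)
        rw [Ideal.Quotient.eq]
        have := h (δ • y)
        rwa [smul_smul, inv_mul_cancel_right] at this
    rw [map_sum]
    change ∑ γ, φ γ b = _
    rw [← Finset.sum_fiberwise_of_maps_to (fun γ _ ↦ Finset.mem_image_of_mem φ (Finset.mem_univ γ)), Finset.mul_sum]
    refine Finset.sum_congr rfl fun χ hχ ↦ ?_
    obtain ⟨δ, -, rfl⟩ := Finset.mem_image.mp hχ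
    rw [Finset.sum_congr rfl (fun γ hγ ↦ by rw [(Finset.mem_filter.mp hγ).2]), Finset.sum_const, nsmul_eq_mul]
    congr 2
    rw [Nat.card_eq_fintype_card]
    refine Finset.card_bij' (fun γ hγ ↦ (⟨γ * δ⁻¹, (hφ γ δ).mp (Finset.mem_filter.mp hγ).2⟩ : P.inertia Γ))
      (fun t _ ↦ (t : Γ) * δ) (fun _ _ ↦ Finset.mem_univ _)
      (fun t _ ↦ Finset.mem_filter.mpr ⟨Finset.mem_univ _, (hφ _ δ).mpr (by rw [mul_inv_cancel_right]; exact t.2)⟩)
      (fun _ _ ↦ by simp) (fun _ _ ↦ by simp)
  constructor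
  · rintro ⟨b, hb⟩ P hP h0
    obtain ⟨X, hX, -⟩ := key P b
    rw [hb, map_one, h0, zero_mul] at hX
    exact one_ne_zero hX
  · intro h
    let S := FixedPoints.subring B Γ
    have hfix : ∀ b : B, (∑ γ : Γ, γ • b) ∈ S := fun b δ ↦ by
      rw [Finset.smul_sum]
      exact Fintype.sum_bijective (δ * ·) (Group.mulLeft_bijective δ) _ _ fun γ ↦ (mul_smul _ _ _).symm
    let tr : B →ₗ[S] S :=
      { toFun := fun b ↦ ⟨_, hfix b⟩
        map_add' := fun a b ↦ Subtype.ext (by simp [smul_add, Finset.sum_add_distrib])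
        map_smul' := fun s b ↦ Subtype.ext (by
          change ∑ γ : Γ, γ • ((s : B) * b) = (s : B) * ∑ γ : Γ, γ • b
          rw [Finset.mul_sum]
          exact Finset.sum_congr rfl fun γ _ ↦ by rw [smul_mul', s.2 γ]) }
    by_cases htop : LinearMap.range tr = ⊤
    · obtain ⟨b, hb⟩ := htop.symm ▸ Submodule.mem_top (x := (1 : S))
      exact ⟨b, congrArg Subtype.val hb⟩
    · exfalso
      obtain ⟨m, hm, hle⟩ := Ideal.exists_le_maximal _ htop
      have : Algebra.IsInvariant S B Γ := ⟨fun x hx ↦ ⟨⟨x, hx⟩, rfl⟩⟩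
      have : SMulCommClass Γ S B := ⟨fun ω s x ↦ by
        change ω • ((s : B) * x) = s * ω • x
        rw [smul_mul', s.2 ω]⟩
      have := Algebra.IsInvariant.isIntegral S B Γ
      obtain ⟨P, hP, hPm⟩ := Ideal.exists_ideal_over_maximal_of_isIntegral (S := B) m (by
        rw [(RingHom.injective_iff_ker_eq_bot _).mp Subtype.coe_injective]; exact bot_le)
      let _ := Ideal.Quotient.field P
      set φ := fun γ : Γ ↦ ((Ideal.Quotient.mk P).comp (MulSemiringAction.toRingHom Γ B γ)).toMonoidHom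
      have hall : ∀ b, ∑ χ ∈ Finset.univ.image φ, χ b = 0 := fun b ↦ by
        obtain ⟨X, hX, rfl⟩ := key P b
        have hmem : (⟨_, hfix b⟩ : S) ∈ P.comap (algebraMap S B) := hPm.symm ▸ hle ⟨b, rfl⟩
        rw [Ideal.Quotient.eq_zero_iff_mem.mpr (show (∑ γ : Γ, γ • b) ∈ P from hmem), eq_comm] at hX
        exact (mul_eq_zero.mp hX).resolve_left (h P hP.isPrime)
      have hli := linearIndependent_iff'.mp (linearIndependent_monoidHom B (B ⧸ P))
        (Finset.univ.image φ) (fun _ ↦ 1) (funext fun b ↦ by simpa using hall b)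
        (φ 1) (Finset.mem_image_of_mem φ (Finset.mem_univ _))
      exact one_ne_zero hli

end Groth.Agent.S12932
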