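import Groth.Statements.S12933
import Mathlib.LinearAlgebra.TensorProduct.Pi
import Mathlib.RingTheory.Flat.Basic

set_option autoImplicit false
universe u v w w'
open TensorProduct
open InvTh

namespace Groth.Agent.S12933

/-- Let `R` be a commutative ring, `B` a commutative `R`-algebra with an action of a finite group `Γ` by
`R`-algebra automorphisms, and `R'` a flat commutative `R`-algebra; let `Γ` act on `R' ⊗_R B`
through the factor `B`. Then an element of `R' ⊗_R B` is fixed by every element of `Γ` if and only
if it lies in the `R'`-submodule spanned by the tensors `1 ⊗ b` with `b ∈ B^Γ`: taking invariants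
commutes with flat base change (the map `R' ⊗_R B^Γ → R' ⊗_R B` being moreover injective by
flatness). -/
theorem result
    (R : Type u) [CommRing R] (B : Type v) [CommRing B] [Algebra R B]
    (Γ : Type w) [Group Γ] [Finite Γ] [MulSemiringAction Γ B] [SMulCommClass Γ R B]
    (R' : Type w') [CommRing R'] [Algebra R R'] [Module.Flat R R']
    (x : R' ⊗[R] B) :
    (∀ γ : Γ, Algebra.TensorProduct.map (AlgHom.id R R') (MulSemiringAction.toAlgHom R B γ) x = x) ↔
      x ∈ Submodule.span R' ((fun b : B => (1 : R') ⊗ₜ[R] b) '' {b : B | ∀ γ : Γ, γ • b = b}) := by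
  classical
  have := Fintype.ofFinite Γ
  let φ : B →ₗ[R] (Γ → B) := LinearMap.pi fun γ ↦ (MulSemiringAction.toAlgHom R B γ).toLinearMap - LinearMap.id
  have hker : ∀ b, b ∈ LinearMap.ker φ ↔ ∀ γ : Γ, γ • b = b := fun b ↦ by
    simp [φ, funext_iff, sub_eq_zero]
  have hex : Function.Exact (LinearMap.ker φ).subtype φ := φ.exact_subtype_ker_map
  have hex' := Module.Flat.lTensor_exact R' hex
  let e := TensorProduct.piRight R R R' (fun _ : Γ ↦ B)
  have he : ∀ (z : R' ⊗[R] B) (γ : Γ), e (φ.lTensor R' z) γ =
      Algebra.TensorProduct.map (AlgHom.id R R') (MulSemiringAction.toAlgHom R B γ) z - z := by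
    intro z γ
    induction z using TensorProduct.induction_on with
    | zero => simp
    | tmul a b => simp [e, φ, TensorProduct.tmul_sub]
    | add u v hu hv => simp only [map_add, Pi.add_apply, hu, hv]; abel
  constructor
  · intro h
    obtain ⟨y, rfl⟩ := (hex' x).mp (e.injective (funext fun γ ↦ by rw [he, h γ, sub_self, map_zero, Pi.zero_apply]))
    clear h
    induction y using TensorProduct.induction_on with
    | zero => simp
    | add u v hu hv => rw [map_add]; exact add_mem hu hv
    | tmul a b =>
      rw [LinearMap.lTensor_tmul, Submodule.subtype_apply, show a ⊗ₜ[R] (b : B) = a • ((1 : R') ⊗ₜ[R] (b : B)) by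
        rw [TensorProduct.smul_tmul', smul_eq_mul, mul_one]]
      exact Submodule.smul_mem _ _ (Submodule.subset_span ⟨b, (hker b).mp b.2, rfl⟩)
  · intro h γ
    induction h using Submodule.span_induction with
    | mem z hz =>
      obtain ⟨b, hb, rfl⟩ := hz
      simp [hb γ]
    | zero => simp
    | add u v _ _ hu hv => rw [map_add, hu, hv]
    | smul a u _ hu =>
      rw [show a • u = (a ⊗ₜ[R] (1 : B)) * u by rw [Algebra.smul_def]; rfl, map_mul, hu,
        Algebra.TensorProduct.map_tmul, map_one, AlgHom.coe_id, id_eq]

end Groth.Agent.S12933
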