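import Groth.Statements.S12934
import Mathlib.RingTheory.LocalRing.ResidueField.Basic
import Mathlib.GroupTheory.Sylow
import Mathlib.RingTheory.RootsOfUnity.Basic
import Mathlib.RingTheory.RootsOfUnity.PrimitiveRoots
import Mathlib.Algebra.CharP.Reduced
import Mathlib.Tactic.LinearCombination

set_option autoImplicit false
universe u v
open InvTh

namespace Groth.Agent.S12934

/-- Let `B` be a local commutative ring with maximal ideal `m` and residue field `k`, and `Γ` a finite
group acting faithfully on `B` by ring automorphisms, such that every element of `Γ` acts trivially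
modulo `m` (the whole group is inertia) and maps each principal ideal of `B` into itself (every
ideal is stable). Let `S ⊆ Γ` be the set of `γ` with `γ b ∈ b + b m` for all `b`. Then: if `k` has
characteristic `0`, `S = {1}`; if `k` has characteristic `p > 0`, `S` is (the underlying set of) a
Sylow `p`-subgroup; every commutator of `Γ` lies in `S`, so `Γ/S` is abelian; and whenever the class
of `γ` in `Γ/S` has order `n` (`γ^n ∈ S`, no smaller positive power in `S`), `k` contains a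
primitive `n`-th root of unity. (The published statement also bounds the number of generators of
`Γ/S` by the number of generators of the monoid of principal ideals; that clause is not included.) -/
theorem result
    (B : Type u) [CommRing B] [IsLocalRing B]
    (Γ : Type v) [Group Γ] [Finite Γ] [MulSemiringAction Γ B] [FaithfulSMul Γ B]
    (hin : ∀ (γ : Γ) (b : B), γ • b - b ∈ IsLocalRing.maximalIdeal B)
    (hst : ∀ (γ : Γ) (b : B), ∃ u : B, γ • b = b * u)
    (S : Set Γ)
    (hS : ∀ γ : Γ, γ ∈ S ↔ ∀ b : B, ∃ x ∈ IsLocalRing.maximalIdeal B, γ • b = b + b * x) :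
    (ringChar (IsLocalRing.ResidueField B) = 0 → S = {1}) ∧
      (∀ (p : ℕ) [Fact p.Prime], ringChar (IsLocalRing.ResidueField B) = p →
        ∃ Q : Sylow p Γ, (Q : Set Γ) = S) ∧
      (∀ γ δ : Γ, γ * δ * γ⁻¹ * δ⁻¹ ∈ S) ∧
      (∀ (γ : Γ) (n : ℕ), 0 < n → γ ^ n ∈ S → (∀ i : ℕ, 0 < i → i < n → γ ^ i ∉ S) →
        ∃ ζ : IsLocalRing.ResidueField B, IsPrimitiveRoot ζ n) := by
  classical
  set k := IsLocalRing.ResidueField B
  set ρ := IsLocalRing.residue B
  choose u hu using hst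
  have hfix : ∀ (γ : Γ) (b : B), ρ (γ • b) = ρ b := fun γ b ↦ by
    rw [← sub_eq_zero, ← map_sub, IsLocalRing.residue_eq_zero_iff]; exact hin γ b
  have huniq : ∀ {b u v : B}, b ≠ 0 → b * u = b * v → ρ u = ρ v := fun {b u v} hb h ↦ by
    rw [← sub_eq_zero, ← map_sub, IsLocalRing.residue_eq_zero_iff]
    intro hunit
    exact hb (hunit.mul_left_eq_zero.mp (by rw [mul_sub, h, sub_self]))
  have hχ : ∀ {b : B}, b ≠ 0 → ∀ γ δ, ρ (u (γ * δ) b) = ρ (u γ b) * ρ (u δ b) := fun {b} hb γ δ ↦ by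
    rw [← hfix γ (u δ b), ← map_mul]
    refine huniq hb ?_
    rw [← hu, mul_smul, hu δ b, smul_mul', hu γ b, mul_assoc]
  have hχ1 : ∀ {b : B}, b ≠ 0 → ρ (u 1 b) = 1 := fun {b} hb ↦ by
    rw [← map_one ρ]; exact huniq hb (by rw [← hu, one_smul, mul_one])
  have hχpow : ∀ {b : B}, b ≠ 0 → ∀ γ (n : ℕ), ρ (u (γ ^ n) b) = ρ (u γ b) ^ n := fun {b} hb γ n ↦ by
    induction n with
    | zero => rw [pow_zero, pow_zero, hχ1 hb]
    | succ n ih => rw [pow_succ, pow_succ, hχ hb, ih]
  have hmem : ∀ γ, γ ∈ S ↔ ∀ b : B, b ≠ 0 → ρ (u γ b) = 1 := fun γ ↦ by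
    rw [hS]
    refine ⟨fun h b hb ↦ ?_, fun h b ↦ ?_⟩
    · obtain ⟨x, hx, e⟩ := h b
      rw [huniq hb (v := 1 + x) (by rw [← hu, e, mul_add, mul_one]), map_add, map_one,
        (IsLocalRing.residue_eq_zero_iff x).mpr hx, add_zero]
    · by_cases hb : b = 0
      · exact ⟨0, zero_mem _, by simp [hb]⟩
      refine ⟨u γ b - 1, (IsLocalRing.residue_eq_zero_iff _).mp ?_, by rw [hu γ b]; ring⟩
      rw [map_sub, map_one, h b hb, sub_self]
  let H : Subgroup Γ :=
    { carrier := S
      one_mem' := (hmem 1).mpr fun b hb ↦ hχ1 hb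
      mul_mem' := fun {a c} ha hc ↦ (hmem _).mpr fun b hb ↦ by
        rw [hχ hb, (hmem a).mp ha b hb, (hmem c).mp hc b hb, one_mul]
      inv_mem' := fun {a} ha ↦ (hmem _).mpr fun b hb ↦ by
        have := hχ hb a a⁻¹
        rwa [mul_inv_cancel, hχ1 hb, (hmem a).mp ha b hb, one_mul, eq_comm] at this }
  have hHS : (H : Set Γ) = S := rfl
  -- an element of `S` of prime order `l` invertible in the residue field is trivial
  have htriv : ∀ γ ∈ H, ∀ l : ℕ, γ ^ l = 1 → (l : k) ≠ 0 → γ = 1 := fun γ hγ l hl hlk ↦ by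
    refine eq_of_smul_eq_smul (α := B) fun b ↦ ?_
    rw [one_smul, ← sub_eq_zero]
    set y := γ • b - b
    have h0 : ∑ i ∈ Finset.range l, γ ^ i • y = 0 := by
      simp only [y, smul_sub, smul_smul, ← pow_succ]
      rw [Finset.sum_range_sub (fun i ↦ γ ^ i • b), hl, pow_zero, sub_self]
    have hsum : y * ∑ i ∈ Finset.range l, u (γ ^ i) y = 0 := by
      rw [Finset.mul_sum, ← h0]
      exact Finset.sum_congr rfl fun i _ ↦ (hu _ _).symm
    by_contra hy
    have hunit : IsUnit (∑ i ∈ Finset.range l, u (γ ^ i) y) := by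
      refine IsLocalRing.notMem_maximalIdeal.mp fun h ↦ hlk ?_
      rw [← (IsLocalRing.residue_eq_zero_iff _).mpr h, map_sum,
        Finset.sum_congr rfl fun i _ ↦ (hmem _).mp (H.pow_mem hγ i) y hy]
      simp [k]
    exact hy (hunit.mul_left_eq_zero.mp hsum)
  have hcauchy : ∀ l : ℕ, l.Prime → l ∣ Nat.card H → (l : k) = 0 := fun l hl hdvd ↦ by
    have := Fact.mk hl
    obtain ⟨g, hg⟩ := exists_prime_orderOf_dvd_card' l hdvd
    by_contra hlk
    have h1 : (g : Γ) ^ l = 1 := by rw [← Subgroup.coe_pow, ← hg, pow_orderOf_eq_one, Subgroup.coe_one]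
    have := htriv g g.2 l h1 hlk
    rw [OneMemClass.coe_eq_one.mp this, orderOf_one] at hg
    exact hl.one_lt.ne hg
  refine ⟨fun h0 ↦ ?_, fun p _ hp ↦ ?_, fun γ δ ↦ (hmem _).mpr fun b hb ↦ ?_, fun γ n hn hγn hmin ↦ ?_⟩
  · have : CharP k 0 := by rw [← h0]; exact ringChar.charP k
    have := CharP.charP_to_charZero k
    rw [← hHS]
    suffices H = ⊥ by rw [this, Subgroup.coe_bot]
    rw [← Subgroup.card_eq_one]
    by_contra h1
    obtain ⟨l, hl, hld⟩ := Nat.exists_prime_and_dvd h1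
    exact hl.ne_zero (Nat.cast_eq_zero.mp (hcauchy l hl hld))
  · have : CharP k p := by rw [← hp]; exact ringChar.charP k
    have hP : IsPGroup p H := IsPGroup.of_card (Nat.eq_prime_pow_of_unique_prime_dvd Nat.card_pos.ne' fun {l} hl hld ↦
      ((Nat.prime_dvd_prime_iff_eq Fact.out hl).mp ((CharP.cast_eq_zero_iff k p l).mp (hcauchy l hl hld))).symm)
    refine ⟨⟨H, hP, fun {Q} hQ hle ↦ le_antisymm (fun γ hγ ↦ ?_) hle⟩, rfl⟩
    obtain ⟨e, he⟩ := hQ ⟨γ, hγ⟩
    refine (hmem γ).mpr fun b hb ↦ frobenius_inj k p |>.iterate e ?_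
    simp only [iterate_frobenius, one_pow]
    rw [← hχpow hb, show γ ^ p ^ e = 1 from congrArg Subtype.val he, hχ1 hb]
  · have hi : ∀ a, ρ (u a⁻¹ b) * ρ (u a b) = 1 := fun a ↦ by rw [← hχ hb, inv_mul_cancel, hχ1 hb]
    rw [hχ hb, hχ hb, hχ hb]
    linear_combination (ρ (u δ b) * ρ (u δ⁻¹ b)) * hi γ + hi δ
  · have : NeZero n := ⟨hn.ne'⟩
    obtain ⟨z, hz⟩ := IsCyclic.exists_generator (α := rootsOfUnity n k)
    have hzn : orderOf z = n := by
      have hdvd : orderOf z ∣ n := orderOf_dvd_of_pow_eq_one (Subtype.ext ((mem_rootsOfUnity n _).mp z.2))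
      refine (Nat.le_of_dvd hn hdvd).eq_of_not_lt fun hlt ↦ hmin _ (orderOf_pos z) hlt ((hmem _).mpr fun b hb ↦ ?_)
      have h1 : ρ (u γ b) ^ n = 1 := by rw [← hχpow hb]; exact (hmem _).mp hγn b hb
      have hu' : IsUnit (ρ (u γ b)) := IsUnit.of_pow_eq_one h1 hn.ne'
      obtain ⟨i, hi⟩ := Subgroup.mem_zpowers_iff.mp (hz ⟨hu'.unit, (mem_rootsOfUnity n _).mpr (Units.ext (by simpa using h1))⟩)
      have e : (⟨hu'.unit, (mem_rootsOfUnity n _).mpr (Units.ext (by simpa using h1))⟩ : rootsOfUnity n k) ^ orderOf z = 1 := by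
        rw [← hi, ← zpow_natCast, ← zpow_mul, mul_comm, zpow_mul, zpow_natCast, pow_orderOf_eq_one, one_zpow]
      rw [hχpow hb]
      simpa using congrArg (fun w : rootsOfUnity n k ↦ ((w : kˣ) : k)) e
    refine ⟨((z : kˣ) : k), ?_⟩
    have := IsPrimitiveRoot.orderOf z
    rw [hzn] at this
    exact this.map_of_injective (f := (Units.coeHom k).comp (rootsOfUnity n k).subtype) (Units.val_injective.comp Subtype.val_injective)

end Groth.Agent.S12934
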