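import Groth.Statements.S12935
import Mathlib.RingTheory.Invariant.Basic

set_option autoImplicit false
open scoped Pointwise

universe u v
open InvTh

namespace Groth.Agent.S12935

/-- Let `B` be a commutative ring with an action of a finite group `Γ` by ring automorphisms, `Ω` a
normal subgroup of `Γ`, `B^Ω` the subring of `Ω`-invariants (stable under `Γ`, with the induced
action of `Γ/Ω`), and `P` a prime ideal of `B`. Then (decomposition groups) an element `γ` maps `P ∩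
B^Ω` onto itself if and only if `γω` maps `P` onto itself for some `ω ∈ Ω`; and (inertia groups) `γ`
fixes `B^Ω` modulo `P ∩ B^Ω` if and only if `γω` fixes `B` modulo `P` for some `ω ∈ Ω`. In other
words the decomposition and inertia groups of `P ∩ B^Ω` under `Γ/Ω` are the images of those of `P`.
(The published statement also asserts the same for the ramification groups, the Sylow subgroups of
the inertia groups at the residue characteristic; that clause is not included here.) -/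
theorem result
    (B : Type u) [CommRing B] (Γ : Type v) [Group Γ] [Finite Γ] [MulSemiringAction Γ B]
    (Ω : Subgroup Γ) [Ω.Normal] (P : Ideal B) [P.IsPrime] (γ : Γ) :
    ((∀ x : B, (∀ ω ∈ Ω, ω • x = x) → (x ∈ P ↔ γ • x ∈ P)) ↔
        ∃ ω ∈ Ω, ∀ x : B, x ∈ P ↔ (γ * ω) • x ∈ P) ∧
      ((∀ x : B, (∀ ω ∈ Ω, ω • x = x) → γ • x - x ∈ P) ↔
        ∃ ω ∈ Ω, ∀ x : B, (γ * ω) • x - x ∈ P) := by
  let S := FixedPoints.subring B Ω
  have hS : ∀ (x : B), (∀ ω ∈ Ω, ω • x = x) → x ∈ S := fun x hx ⟨ω, hω⟩ ↦ hx ω hω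
  have : Algebra.IsInvariant S B Ω := ⟨fun x hx ↦ ⟨⟨x, hx⟩, rfl⟩⟩
  have hc : SMulCommClass Ω S B := ⟨fun ω s x ↦ by
    change ω • ((s : B) * x) = s * ω • x
    rw [smul_mul', s.2 ω]⟩
  have first : (∀ x : B, (∀ ω ∈ Ω, ω • x = x) → (x ∈ P ↔ γ • x ∈ P)) →
      ∃ ω ∈ Ω, ∀ x : B, x ∈ P ↔ (γ * ω) • x ∈ P := fun h ↦ by
    obtain ⟨ω, hω⟩ := Algebra.IsInvariant.exists_smul_of_under_eq S B Ω P (γ⁻¹ • P) (by
      ext ⟨s, hs⟩
      simp only [Ideal.under_def, Ideal.mem_comap, Ideal.mem_inv_pointwise_smul_iff]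
      exact h s fun ω hω ↦ hs ⟨ω, hω⟩)
    refine ⟨ω, ω.2, fun x ↦ ?_⟩
    rw [mul_smul, ← Ideal.mem_inv_pointwise_smul_iff (a := γ), hω]
    exact (Ideal.smul_mem_pointwise_smul_iff (a := (ω : Γ))).symm
  refine ⟨⟨first, ?_⟩, ⟨fun h ↦ ?_, ?_⟩⟩
  · rintro ⟨ω, hω, h⟩ x hx
    rw [h x, mul_smul, hx ω hω]
  · obtain ⟨ω₁, hω₁, h1⟩ := first fun x hx ↦ by
      refine ⟨fun hxP ↦ by simpa using P.add_mem (h x hx) hxP, fun hxP ↦ by
        simpa using P.sub_mem hxP (h x hx)⟩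
    let p : Ideal S := P.under S
    have : P.LiesOver p := ⟨rfl⟩
    let σ := Ideal.quotientEquiv P P (MulSemiringAction.toRingEquiv Γ B (γ * ω₁)) (le_antisymm
      (fun x hx ↦ Ideal.mem_map_iff_of_surjective _ (MulSemiringAction.toRingEquiv Γ B (γ * ω₁)).surjective |>.mpr
        ⟨(γ * ω₁)⁻¹ • x, (h1 _).mpr (by rwa [smul_inv_smul]), smul_inv_smul _ x⟩)
      (Ideal.map_le_iff_le_comap.mpr fun x hx ↦ (h1 x).mp hx))
    let σ' : (B ⧸ P) ≃ₐ[S ⧸ p] (B ⧸ P) := AlgEquiv.ofRingEquiv (f := σ) fun s ↦ by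
      obtain ⟨⟨s, hs⟩, rfl⟩ := Ideal.Quotient.mk_surjective s
      rw [Ideal.Quotient.algebraMap_mk_of_liesOver]
      change Ideal.Quotient.mk P ((γ * ω₁) • s) = Ideal.Quotient.mk P s
      rw [mul_smul, show ω₁ • s = s from hs ⟨ω₁, hω₁⟩]
      exact Ideal.Quotient.eq.mpr (h s fun ω hω ↦ hs ⟨ω, hω⟩)
    obtain ⟨τ, hτ⟩ := Ideal.Quotient.stabilizerHom_surjective Ω p P σ'
    refine ⟨ω₁ * (τ.1 : Γ)⁻¹, mul_mem hω₁ (inv_mem τ.1.2), fun x ↦ ?_⟩
    have e := DFunLike.congr_fun hτ (Ideal.Quotient.mk P ((τ.1 : Γ)⁻¹ • x))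
    have e' : Ideal.Quotient.mk P ((τ.1 : Γ) • (τ.1 : Γ)⁻¹ • x) =
        Ideal.Quotient.mk P ((γ * ω₁) • (τ.1 : Γ)⁻¹ • x) := e
    rw [smul_inv_smul, smul_smul, mul_assoc] at e'
    exact Ideal.Quotient.eq.mp e'.symm
  · rintro ⟨ω, hω, h⟩ x hx
    simpa [mul_smul, hx ω hω] using h x

end Groth.Agent.S12935
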