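import Groth.Statements.S12936
import Mathlib.RingTheory.Invariant.Basic

set_option autoImplicit false
open scoped Pointwise

universe u v
open InvTh

namespace Groth.Agent.S12936

/-- Let `B` be a commutative ring with an action of a finite group `Γ` by ring automorphisms and `P` a
maximal ideal of `B`, with decomposition group `D_P = {γ | γP = P}` and decomposition ring `D =
B^{D_P}`. Then `D = B^Γ + (P ∩ D)`: every element of `B` fixed by `D_P` is congruent modulo `P` to a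
`Γ`-invariant element. Hence the residue field of `D` at `P ∩ D` is that of `B^Γ` at `P ∩ B^Γ`; for
an arbitrary prime `P` the same equality of residue fields follows by localising at `P ∩ B^Γ`. (The
published statement prints this residue field as `k(P)`; the proof establishes the equality with the
residue field of `B^Γ` stated here.) -/
theorem result
    (B : Type u) [CommRing B] (Γ : Type v) [Group Γ] [Finite Γ] [MulSemiringAction Γ B]
    (P : Ideal B) [P.IsMaximal] (x : B)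
    (hx : ∀ γ : Γ, (∀ y : B, y ∈ P ↔ γ • y ∈ P) → γ • x = x) :
    ∃ c : B, (∀ γ : Γ, γ • c = c) ∧ x - c ∈ P := by
  classical
  have := Fintype.ofFinite Γ
  have hstab : ∀ γ : Γ, γ ∈ MulAction.stabilizer Γ P ↔ ∀ y : B, y ∈ P ↔ γ • y ∈ P := fun γ ↦ by
    rw [MulAction.mem_stabilizer_iff]
    exact ⟨fun h y ↦ by conv_rhs => rw [← h, Ideal.smul_mem_pointwise_smul_iff],
      fun h ↦ by ext y; rw [Ideal.mem_pointwise_smul_iff_inv_smul_mem, h (γ⁻¹ • y), smul_inv_smul]⟩
  set D := MulAction.stabilizer Γ P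
  have htf : ∀ γ : Γ, γ • (⊤ : Ideal B) = ⊤ := fun γ ↦ by
    ext y; simp [Ideal.mem_pointwise_smul_iff_inv_smul_mem]
  have hne : ∀ γ : Γ, γ ∉ D → ∃ e ∈ γ • P, 1 - e ∈ P := fun γ hγ ↦ by
    have hmax : P ⊔ γ • P = ⊤ := Ideal.IsMaximal.coprime_of_ne inferInstance
      ⟨⟨fun h ↦ (Ideal.IsMaximal.ne_top ‹P.IsMaximal›) (by simpa [htf] using congrArg (γ⁻¹ • ·) h),
        fun J hJ ↦ ?_⟩⟩ fun e ↦ hγ e.symm
    · obtain ⟨u, hu, e, he, hue⟩ := Submodule.mem_sup.mp (hmax ▸ Submodule.mem_top (x := (1 : B)))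
      exact ⟨e, he, by rwa [← hue, add_sub_cancel_right]⟩
    · have h1 : P < γ⁻¹ • J := by
        refine lt_of_le_of_ne ?_ fun e ↦ hJ.ne (by rw [e, smul_inv_smul])
        intro y hy
        rw [Ideal.mem_inv_pointwise_smul_iff]
        exact hJ.le (Ideal.smul_mem_pointwise_smul_iff.mpr hy)
      have := congrArg (γ • ·) (Ideal.IsMaximal.out.2 _ h1 : γ⁻¹ • J = ⊤)
      simpa [htf] using this
  choose! ε hε1 hε2 using hne
  set e₀ := ∏ γ ∈ Finset.univ.filter (· ∉ D), ε γ
  have he0 : ∀ γ ∉ D, e₀ ∈ γ • P := fun γ hγ ↦ Ideal.prod_mem (I := γ • P)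
    (Finset.mem_filter.mpr ⟨Finset.mem_univ γ, hγ⟩) (hε1 γ hγ)
  have he0' : Ideal.Quotient.mk P e₀ = 1 := by
    rw [map_prod]
    refine Finset.prod_eq_one fun γ hγ ↦ ?_
    rw [eq_comm, ← map_one (Ideal.Quotient.mk P), Ideal.Quotient.eq]
    exact hε2 γ (Finset.mem_filter.mp hγ).2
  set e := ∏ δ : D, (δ : Γ) • e₀
  have heD : ∀ δ ∈ D, δ • e = e := fun δ hδ ↦ by
    rw [Finset.smul_prod']
    refine Fintype.prod_bijective ((⟨δ, hδ⟩ : D) * ·) (Group.mulLeft_bijective _) _ _ fun γ ↦ ?_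
    rw [Subgroup.coe_mul, mul_smul]
  have he1 : Ideal.Quotient.mk P e = 1 := by
    rw [map_prod]
    refine Finset.prod_eq_one fun δ _ ↦ ?_
    rw [← map_one (Ideal.Quotient.mk P), Ideal.Quotient.eq]
    have := ((hstab δ).mp δ.2 (e₀ - 1)).mp (Ideal.Quotient.eq.mp (he0'.trans (map_one _).symm))
    rwa [smul_sub, smul_one] at this
  have hzero : ∀ γ ∉ D, γ • (x * e) ∈ P := fun γ hγ ↦ by
    rw [smul_mul']
    refine P.mul_mem_left _ ?_
    rw [Finset.smul_prod']
    refine Ideal.prod_mem (I := P) (Finset.mem_univ (1 : D)) ?_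
    rw [Subgroup.coe_one, one_smul]
    exact Ideal.mem_inv_pointwise_smul_iff.mp (he0 γ⁻¹ (fun h ↦ hγ (inv_inv γ ▸ inv_mem h)))
  have hy : ∀ δ ∈ D, δ • (x * e) = x * e := fun δ hδ ↦ by
    rw [smul_mul', hx δ ((hstab δ).mp hδ), heD δ hδ]
  let φ : Γ ⧸ D → B := Quotient.lift (fun γ ↦ γ • (x * e)) fun a b h ↦ by
    have h' : a⁻¹ * b ∈ D := QuotientGroup.leftRel_apply.mp h
    conv_rhs => rw [show b = a * (a⁻¹ * b) by group, mul_smul, hy _ h']
  refine ⟨∑ q, φ q, fun γ ↦ ?_, ?_⟩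
  · rw [Finset.smul_sum]
    refine Fintype.sum_bijective (γ • ·) (MulAction.bijective γ) _ _ fun q ↦ ?_
    induction q using QuotientGroup.induction_on with
    | H a => exact (mul_smul γ a (x * e)).symm
  · rw [← Finset.add_sum_erase _ _ (Finset.mem_univ (QuotientGroup.mk (1 : Γ) : Γ ⧸ D)),
      show φ (QuotientGroup.mk (1 : Γ)) = x * e from one_smul Γ _, ← sub_sub]
    refine P.sub_mem ?_ (sum_mem fun q hq ↦ ?_)
    · rw [← Ideal.Quotient.eq, map_mul, he1, mul_one]
    · induction q using QuotientGroup.induction_on with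
      | H a =>
        refine hzero a fun ha ↦ (Finset.mem_erase.mp hq).1 ?_
        rw [QuotientGroup.eq]
        simpa using inv_mem ha

end Groth.Agent.S12936
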