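import Groth.Statements.S12937
import Groth.Agent.S12935
import Groth.Agent.S12936
import Mathlib.FieldTheory.Separable
import Mathlib.FieldTheory.Minpoly.Field

set_option autoImplicit false
open scoped Pointwise

universe u v
open InvTh

namespace Groth.Agent.S12937

/-- Let `B` be a commutative ring with an action of a finite group `Γ` by ring automorphisms, `P` a
maximal ideal of `B`, `T = {γ | γ x - x ∈ P for all x}` its inertia group, `B^T` the inertia ring
and `B^Γ` the ring of invariants, so that `k(P ∩ B^Γ) ⊆ k(P ∩ B^T) ⊆ k(P) = B/P`. Then `k(P ∩ B^T)`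
is the largest separable extension of `k(P ∩ B^Γ)` inside `k(P)`: an element `x` of `B` is congruent
modulo `P` to a `T`-invariant element if and only if `x mod P` is a root of some polynomial with
`Γ`-invariant coefficients whose reduction modulo `P` is separable. (The published statement is for
every prime ideal `P`, as an equality of residue fields; this row takes `P` maximal, the case to
which the published proof reduces by localising at `P ∩ B^Γ`.) -/
theorem result
    (B : Type u) [CommRing B] (Γ : Type v) [Group Γ] [Finite Γ] [MulSemiringAction Γ B]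
    (P : Ideal B) [P.IsMaximal] (x : B) :
    (∃ y : B, (∀ γ : Γ, γ ∈ P.inertia Γ → γ • y = y) ∧ x - y ∈ P) ↔
      ∃ g : Polynomial B, (∀ (i : ℕ) (γ : Γ), γ • g.coeff i = g.coeff i) ∧
        (g.map (Ideal.Quotient.mk P)).Separable ∧ Polynomial.aeval x g ∈ P := by
  classical
  have := Fintype.ofFinite Γ
  let _ := Ideal.Quotient.field P
  set π := Ideal.Quotient.mk P
  let inv : Subgroup Γ → Subring B := fun H ↦ FixedPoints.subring B H
  have hinv : ∀ (H : Subgroup Γ) (s : B), s ∈ inv H ↔ ∀ γ ∈ H, γ • s = s := fun H s ↦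
    ⟨fun h γ hγ ↦ h ⟨γ, hγ⟩, fun h γ ↦ h γ γ.2⟩
  let K : Subgroup Γ → Subfield (B ⧸ P) := fun H ↦
    { (inv H).map π with
      inv_mem' := by
        rintro _ ⟨s, hs, rfl⟩
        by_cases h0 : π s = 0
        · exact ⟨0, (inv H).zero_mem, by rw [h0, inv_zero, map_zero]⟩
        let S := inv H
        have hI : Algebra.IsInvariant S B H := ⟨fun b hb ↦ ⟨⟨b, hb⟩, rfl⟩⟩
        have := Algebra.IsInvariant.isIntegral S B H
        have hmax : (P.comap (algebraMap S B)).IsMaximal := Ideal.isMaximal_comap_of_isIntegral_of_isMaximal P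
        obtain ⟨t, i, hi, hti⟩ := hmax.exists_inv (x := ⟨s, hs⟩) fun h ↦ h0 (Ideal.Quotient.eq_zero_iff_mem.mpr h)
        refine ⟨t, t.2, eq_inv_of_mul_eq_one_left ?_⟩
        have := congrArg (fun z : S ↦ π z) hti
        simp only [Subring.coe_add, Subring.coe_mul, Subring.coe_one, map_add, map_mul, map_one] at this
        rwa [Ideal.Quotient.eq_zero_iff_mem.mpr (show (i : B) ∈ P from hi), add_zero] at this }
  have hK : ∀ (H : Subgroup Γ) (a : B ⧸ P), a ∈ K H ↔ ∃ s, (∀ γ ∈ H, γ • s = s) ∧ π s = a := fun H a ↦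
    ⟨fun ⟨s, hs, e⟩ ↦ ⟨s, (hinv H s).mp hs, e⟩, fun ⟨s, hs, e⟩ ↦ ⟨s, (hinv H s).mpr hs, e⟩⟩
  set T := P.inertia Γ
  let D := MulAction.stabilizer Γ P
  have hstab : ∀ γ, γ ∈ D ↔ ∀ y : B, y ∈ P ↔ γ • y ∈ P := fun γ ↦ by
    rw [MulAction.mem_stabilizer_iff]
    exact ⟨fun h y ↦ by conv_rhs => rw [← h, Ideal.smul_mem_pointwise_smul_iff],
      fun h ↦ by ext y; rw [Ideal.mem_pointwise_smul_iff_inv_smul_mem, h (γ⁻¹ • y), smul_inv_smul]⟩
  have hdesc : ∀ z : B, (∀ δ ∈ D, δ • z = z) → π z ∈ K ⊤ := fun z hz ↦ by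
    obtain ⟨c, hc, hzc⟩ := Groth.Agent.S12936.result B Γ P z fun γ hγ ↦ hz γ ((hstab γ).mpr hγ)
    exact (hK ⊤ _).mpr ⟨c, fun γ _ ↦ hc γ, (Ideal.Quotient.eq.mpr hzc).symm⟩
  have hTD : T ≤ D := fun τ hτ ↦ (hstab τ).mpr fun y ↦ ⟨fun h ↦ by simpa using P.add_mem (hτ y) h,
    fun h ↦ by simpa using P.sub_mem h (hτ y)⟩
  have hconj : ∀ δ ∈ D, ∀ τ ∈ T, δ⁻¹ * τ * δ ∈ T := fun δ hδ τ hτ y ↦ by
    have h1 : δ • ((δ⁻¹ * τ * δ) • y - y) ∈ P := by
      rw [smul_sub, smul_smul, ← mul_assoc, ← mul_assoc, mul_inv_cancel, one_mul, mul_smul]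
      exact hτ (δ • y)
    exact ((hstab δ).mp hδ _).mpr h1
  constructor
  · rintro ⟨y, hy, hxy⟩
    have hfixT : ∀ z : B, (∀ τ ∈ T, τ • z = z) → ∀ δ ∈ D, ∀ τ ∈ T, τ • δ • z = δ • z := fun z hz δ hδ τ hτ ↦ by
      conv_rhs => rw [← hz _ (hconj δ hδ τ hτ)]
      simp [mul_smul]
    let O : Finset (B ⧸ P) := Finset.univ.image fun δ : D ↦ π ((δ : Γ) • y)
    let q : Polynomial (B ⧸ P) := ∏ o ∈ O, (Polynomial.X - Polynomial.C o)
    have hsep : q.Separable := Polynomial.separable_prod_X_sub_C_iff'.mpr fun _ _ _ _ h ↦ h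
    have hcoefT : q ∈ Polynomial.lifts (π.comp (inv T).subtype) := by
      refine Subsemiring.prod_mem _ fun o ho ↦ ?_
      obtain ⟨δ, -, rfl⟩ := Finset.mem_image.mp ho
      refine ⟨Polynomial.X - Polynomial.C ⟨(δ : Γ) • y, (hinv T _).mpr fun τ hτ ↦ hfixT y hy δ δ.2 τ hτ⟩, ?_⟩
      simp
    let act : D → (B ⧸ P) →+* (B ⧸ P) := fun δ ↦ Ideal.quotientMap P (MulSemiringAction.toRingHom Γ B δ)
      fun z hz ↦ ((hstab δ).mp δ.2 z).mp hz
    have hact : ∀ (δ : D) (z : B), act δ (π z) = π ((δ : Γ) • z) := fun _ _ ↦ rfl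
    have hqfix : ∀ δ : D, q.map (act δ) = q := fun δ ↦ by
      have hsub : O.image (act δ) = O := by
        refine Finset.eq_of_subset_of_card_le (fun o ho ↦ ?_)
          (by rw [Finset.card_image_of_injective _ (act δ).injective])
        obtain ⟨o', ho', rfl⟩ := Finset.mem_image.mp ho
        obtain ⟨ε, -, rfl⟩ := Finset.mem_image.mp ho'
        exact Finset.mem_image.mpr ⟨δ * ε, Finset.mem_univ _, by rw [hact, Subgroup.coe_mul, mul_smul]⟩
      conv_rhs => rw [show q = ∏ o ∈ O.image (act δ), (Polynomial.X - Polynomial.C o) by rw [hsub]]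
      rw [Finset.prod_image (act δ).injective.injOn, Polynomial.map_prod]
      simp
    have : (T.subgroupOf D).Normal := ⟨fun τ hτ δ ↦ by
      have := hconj (δ : Γ)⁻¹ (inv_mem δ.2) τ hτ
      simpa [Subgroup.mem_subgroupOf] using this⟩
    let χ : D ⧸ T.subgroupOf D → (inv T →* B ⧸ P) := Quotient.lift
      (fun δ ↦ (π.comp ((MulSemiringAction.toRingHom Γ B (δ : Γ)).comp (inv T).subtype)).toMonoidHom)
      fun a b h ↦ by
        refine MonoidHom.ext fun z ↦ ?_
        change π ((a : Γ) • (z : B)) = π ((b : Γ) • (z : B))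
        have h' : a⁻¹ * b ∈ T.subgroupOf D := QuotientGroup.leftRel_apply.mp h
        conv_rhs => rw [show (b : Γ) = (a : Γ) * ((a⁻¹ * b : D) : Γ) by simp, mul_smul, show ((a⁻¹ * b : D) : Γ) • (z : B) = z from (hinv T z).mp z.2 _ h']
    have hχ : Function.Injective χ := by
      intro qa qb h
      induction qa using QuotientGroup.induction_on with
      | H a =>
      induction qb using QuotientGroup.induction_on with
      | H b =>
      rw [QuotientGroup.eq]
      have hP : ∀ z : B, (∀ ω ∈ T.subgroupOf D, ω • z = z) → (a⁻¹ * b : D) • z - z ∈ P := fun z hz ↦ by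
        have e := DFunLike.congr_fun h ⟨z, (hinv T z).mpr fun τ hτ ↦ hz ⟨τ, hTD hτ⟩ hτ⟩
        have e' : π ((a : Γ) • z) = π ((b : Γ) • z) := e
        change ((a⁻¹ * b : D) : Γ) • z - z ∈ P
        refine ((hstab a).mp a.2 _).mpr ?_
        rw [smul_sub, smul_smul, Subgroup.coe_mul, Subgroup.coe_inv, mul_inv_cancel_left]
        exact Ideal.Quotient.eq.mp e'.symm
      obtain ⟨ω, hω, hh⟩ := (Groth.Agent.S12935.result B D (T.subgroupOf D) P (a⁻¹ * b)).2.mp hP
      have h2 : a⁻¹ * b * ω ∈ T.subgroupOf D := fun z ↦ hh z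
      exact (Subgroup.mul_mem_cancel_right _ hω).mp h2
    let _ : Fintype (D ⧸ T.subgroupOf D) := Fintype.ofFinite _
    let G : inv T → B := fun z ↦ ∑ c : D ⧸ T.subgroupOf D, Quotient.liftOn c (fun δ ↦ (δ : Γ) • (z : B))
      fun a b h ↦ by
        have h' : a⁻¹ * b ∈ T.subgroupOf D := QuotientGroup.leftRel_apply.mp h
        conv_rhs => rw [show (b : Γ) = (a : Γ) * ((a⁻¹ * b : D) : Γ) by simp, mul_smul, show ((a⁻¹ * b : D) : Γ) • (z : B) = z from (hinv T z).mp z.2 _ h']
    have hG : ∀ z, π (G z) = ∑ c, χ c z := fun z ↦ by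
      rw [map_sum]
      refine Finset.sum_congr rfl fun c _ ↦ ?_
      induction c using QuotientGroup.induction_on with
      | H a => rfl
    have hGD : ∀ z, ∀ δ ∈ D, δ • G z = G z := fun z δ hδ ↦ by
      rw [Finset.smul_sum]
      refine Fintype.sum_bijective ((⟨δ, hδ⟩ : D) • ·) (MulAction.bijective _) _ _ fun c ↦ ?_
      induction c using QuotientGroup.induction_on with
      | H a => exact (mul_smul δ (a : Γ) (z : B)).symm
    obtain ⟨w, hw⟩ : ∃ w, ∑ c, χ c w ≠ 0 := by
      by_contra! hall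
      have := linearIndependent_iff'.mp ((linearIndependent_monoidHom (inv T) (B ⧸ P)).comp χ hχ)
        Finset.univ (fun _ ↦ 1) (funext fun z ↦ by simpa using hall z) (QuotientGroup.mk 1) (Finset.mem_univ _)
      exact one_ne_zero this
    have hcoef : ∀ i, q.coeff i ∈ K ⊤ := fun i ↦ by
      obtain ⟨z, hz⟩ := (Polynomial.lifts_iff_coeff_lifts q).mp hcoefT i
      have hz' : ∀ δ : D, π ((δ : Γ) • (z : B)) = q.coeff i := fun δ ↦ by
        conv_rhs => rw [← hqfix δ, Polynomial.coeff_map, ← hz]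
        rfl
      have e : π (G (z * w)) = q.coeff i * π (G w) := by
        rw [hG, hG, Finset.mul_sum]
        refine Finset.sum_congr rfl fun c _ ↦ ?_
        induction c using QuotientGroup.induction_on with
        | H a =>
          rw [map_mul]
          exact congrArg (· * _) (hz' a)
      have hw' : π (G w) ≠ 0 := by rw [hG]; exact hw
      rw [← mul_div_cancel_right₀ (q.coeff i) hw', ← e]
      exact div_mem (hdesc _ (hGD _)) (hdesc _ (hGD _))
    have hl : q ∈ Polynomial.lifts (π.comp (inv ⊤).subtype) := (Polynomial.lifts_iff_coeff_lifts q).mpr fun i ↦ by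
      obtain ⟨s, hs, e⟩ := (hK ⊤ _).mp (hcoef i)
      exact ⟨⟨s, (hinv ⊤ s).mpr hs⟩, e⟩
    obtain ⟨g, hg⟩ := hl
    rw [Polynomial.coe_mapRingHom, ← Polynomial.map_map] at hg
    refine ⟨g.map (inv ⊤).subtype, fun i γ ↦ ?_, hg ▸ hsep, ?_⟩
    · rw [Polynomial.coeff_map]
      exact (hinv ⊤ _).mp (g.coeff i).2 γ trivial
    · rw [Polynomial.coe_aeval_eq_eval, ← Ideal.Quotient.eq_zero_iff_mem, ← Polynomial.eval₂_at_apply,
        ← Polynomial.eval_map, hg, show π x = π y from Ideal.Quotient.eq.mpr hxy, Polynomial.eval_prod]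
      refine Finset.prod_eq_zero (Finset.mem_image_of_mem _ (Finset.mem_univ (1 : D))) ?_
      simp
  · rintro ⟨g, hgfix, hgsep, hgx⟩
    have hq : g.map π ∈ Polynomial.lifts (K T).subtype := (Polynomial.lifts_iff_coeff_lifts _).mpr fun i ↦
      ⟨⟨_, (hK T _).mpr ⟨_, fun γ _ ↦ hgfix i γ, (Polynomial.coeff_map π i).symm⟩⟩, rfl⟩
    let r : Polynomial B := ∏ τ : T, (Polynomial.X - Polynomial.C ((τ : Γ) • x))
    have hrcoef : ∀ i, ∀ τ ∈ T, τ • r.coeff i = r.coeff i := fun i τ hτ ↦ by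
      have e : r.map (MulSemiringAction.toRingHom Γ B τ) = r := by
        simp only [r, Polynomial.map_prod]
        refine Fintype.prod_bijective ((⟨τ, hτ⟩ : T) * ·) (Group.mulLeft_bijective _) _ _ fun σ ↦ ?_
        simp [mul_smul]
      conv_rhs => rw [← e, Polynomial.coeff_map]
      rfl
    have hr : r.map π ∈ Polynomial.lifts (K T).subtype := (Polynomial.lifts_iff_coeff_lifts _).mpr fun i ↦
      ⟨⟨_, (hK T _).mpr ⟨_, hrcoef i, (Polynomial.coeff_map π i).symm⟩⟩, rfl⟩
    obtain ⟨qK, hqK⟩ := hq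
    obtain ⟨rK, hrK⟩ := hr
    rw [Polynomial.coe_mapRingHom] at hqK hrK
    have hrpow : r.map π = (Polynomial.X - Polynomial.C (π x)) ^ Fintype.card T := by
      simp only [r, Polynomial.map_prod, Polynomial.map_sub, Polynomial.map_X, Polynomial.map_C]
      rw [Finset.prod_congr rfl (fun τ _ ↦ by rw [show π ((τ : Γ) • x) = π x from Ideal.Quotient.eq.mpr (τ.2 x)]),
        Finset.prod_const, Finset.card_univ]
    have hq0 : Polynomial.aeval (π x) qK = 0 := by
      rw [Polynomial.aeval_def, show algebraMap (K T) (B ⧸ P) = (K T).subtype from rfl, ← Polynomial.eval_map,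
        hqK, Polynomial.eval_map, Polynomial.eval₂_at_apply, Ideal.Quotient.eq_zero_iff_mem]
      rwa [Polynomial.coe_aeval_eq_eval] at hgx
    have hr0 : Polynomial.aeval (π x) rK = 0 := by
      rw [Polynomial.aeval_def, show algebraMap (K T) (B ⧸ P) = (K T).subtype from rfl, ← Polynomial.eval_map,
        hrK, hrpow]
      simp
    set m := minpoly (K T) (π x)
    have hqsep : qK.Separable := (Polynomial.separable_map (K T).subtype).mp (hqK ▸ hgsep)
    have hm0 : qK ≠ 0 := hqsep.ne_zero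
    have hint : IsIntegral (K T) (π x) :=
      IsAlgebraic.isIntegral ⟨qK, hm0, hq0⟩
    have hmsep : m.Separable := hqsep.of_dvd (minpoly.dvd _ _ hq0)
    have hdvd : m.map (K T).subtype ∣ (Polynomial.X - Polynomial.C (π x)) ^ Fintype.card T :=
      hrpow ▸ hrK ▸ Polynomial.map_dvd _ (minpoly.dvd _ _ hr0)
    obtain ⟨j, -, hj⟩ := (dvd_prime_pow (Polynomial.prime_X_sub_C (π x)) _).mp hdvd
    have hj1 : j ≤ 1 := by
      by_contra hj1
      have h2 : (Polynomial.X - Polynomial.C (π x)) * (Polynomial.X - Polynomial.C (π x)) ∣ m.map (K T).subtype := by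
        rw [← pow_two]; exact (pow_dvd_pow _ (by omega)).trans hj.symm.dvd
      exact (Polynomial.prime_X_sub_C (π x)).not_unit ((hmsep.map (f := (K T).subtype)).squarefree _ h2)
    have hdeg : m.natDegree = 1 := by
      have h1 := Polynomial.natDegree_eq_of_degree_eq (Polynomial.degree_eq_degree_of_associated hj)
      rw [Polynomial.natDegree_map, Polynomial.natDegree_pow, Polynomial.natDegree_X_sub_C, mul_one] at h1
      have : 0 < m.natDegree := minpoly.natDegree_pos hint
      omega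
    obtain ⟨a, ha⟩ := minpoly.natDegree_eq_one_iff.mp hdeg
    obtain ⟨y, hy, hya⟩ := (hK T _).mp (show π x ∈ K T from ha ▸ a.2)
    exact ⟨y, hy, Ideal.Quotient.eq.mp hya.symm⟩

end Groth.Agent.S12937
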