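import Groth.Statements.S1295
import Groth.Agent.RaynaudGruson.PurityColimit
import Groth.Agent.FlatMorOne.FlatLocusColimit

set_option autoImplicit false
universe u
open FlatMor

namespace Groth.Agent.S1295

/-- Ring form, X = Spec B and the S_i = Spec A_i affine: let A be the colimit of a directed system of
rings (A_i), p a prime of A with contractions p_i, B a finitely presented A-algebra and N a finitely
presented B-module which is pure along the fibre over p and flat over A at every prime of B over p.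
Then for some index i there are a finitely presented A_i-algebra B_i with B ≅ B_i ⊗_{A_i} A and a
finitely presented B_i-module N_i with N ≅ N_i ⊗_{B_i} B, such that N_i is pure along the fibre over
p_i and flat over A_i at every prime of B_i over p_i. -/
theorem result {ι : Type u} [Preorder ι] (G : ι → Type u) [∀ i, CommRing (G i)]
    (g : ∀ i j, i ≤ j → G i →+* G j) {A : Type u} [CommRing A] [∀ i, Algebra (G i) A] (hcolim : FlatCA.IsDirectedColimitRing G g A)
    {B : Type u} [CommRing B] [Algebra A B] [Algebra.FinitePresentation A B]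
    (N : Type u) [AddCommGroup N] [Module B N] [Module A N] [IsScalarTower A B N] [Module.FinitePresentation B N]
    (p : Ideal A) [p.IsPrime] (hpure : FlatCA.IsPureAlong A B N p)
    (hflat : ∀ (q : Ideal B) [q.IsPrime], q.LiesOver p → FlatCA.FlatAt A q N) :
    ∃ (i : ι) (Bi Ni : Type u) (_ : CommRing Bi) (_ : Algebra (G i) Bi) (_ : Algebra Bi B) (_ : Algebra (G i) B)
      (_ : IsScalarTower (G i) A B) (_ : IsScalarTower (G i) Bi B)
      (_ : AddCommGroup Ni) (_ : Module Bi Ni) (_ : Module (G i) Ni) (_ : IsScalarTower (G i) Bi Ni)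
      (_ : Module Bi N) (_ : IsScalarTower Bi B N) (f : Ni →ₗ[Bi] N),
      Algebra.FinitePresentation (G i) Bi ∧ Algebra.IsPushout (G i) Bi A B ∧ Module.FinitePresentation Bi Ni ∧ IsBaseChange B f ∧
      FlatCA.IsPureAlong (G i) Bi Ni (p.comap (algebraMap (G i) A)) ∧
      ∀ (q : Ideal Bi) [q.IsPrime], q.LiesOver (p.comap (algebraMap (G i) A)) → FlatCA.FlatAt (G i) q Ni := by
  classical
  obtain ⟨hdir, hne, -, -, hcompg, hsurj, hker⟩ := hcolim
  haveI := hdir; haveI := hne
  haveI : IsDirectedOrder ι := hdir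
  obtain ⟨A₁, hA₁, B₁, _, _, _, _, hB₁, hpush, N₁, _, _, _, _, _, _, f₁, hN₁, hf₁, hflat₁⟩ :=
    RaynaudGruson.PurityColimit.exists_flat_stage_along N p hflat
  haveI := hA₁; haveI := hB₁; haveI := hpush; haveI := hN₁
  haveI : IsNoetherianRing A₁ := Algebra.FiniteType.isNoetherianRing ℤ A₁
  haveI hAB : IsScalarTower A₁ A B := .of_algebraMap_eq fun _ => rfl
  obtain ⟨A₂, hA₂fg, huniv⟩ := RaynaudGruson.PurityColimit.exists_univPure_stage (A₁ := A₁) (A := A)
    Subtype.val_injective N₁ N f₁ hf₁ p hpure hflat₁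
  haveI : Algebra.FiniteType A₁ A₂ := (Subalgebra.fg_iff_finiteType A₂).mp hA₂fg
  haveI : Algebra.FiniteType ℤ A₂ := Algebra.FiniteType.trans hA₁ inferInstance
  haveI : Algebra.FinitePresentation ℤ A₂ := Algebra.FinitePresentation.of_finiteType.mp inferInstance
  obtain ⟨B₂, _, _, _, _, _, _, hp₂⟩ := RaynaudGruson.EtalePushout.exists_pushout A₁ B₁ A₂
  haveI := hp₂
  obtain ⟨N₂, _, _, _, _, f₂, hf₂⟩ := RaynaudGruson.EtalePushout.exists_baseChange B₁ B₂ N₁
  letI : Module A₂ N₂ := Module.compHom N₂ (algebraMap A₂ B₂)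
  haveI : IsScalarTower A₂ B₂ N₂ := IsScalarTower.of_algebraMap_smul fun _ _ => rfl
  have hup := huniv B₂ N₂ f₂ hf₂
  obtain ⟨i, φ, hφ⟩ := RaynaudGruson.PurityColimit.exists_algHom_stage (R₀ := ℤ) (fun i j h => (g i j h).toIntAlgHom)
    (fun i => (algebraMap (G i) A).toIntAlgHom) (fun i j h => AlgHom.ext fun x => RingHom.congr_fun (hcompg i j h) x)
    hsurj hker A₂ (A₂.val.toRingHom.toIntAlgHom)
  letI : Algebra A₂ (G i) := φ.toRingHom.toAlgebra
  have hφ' : ∀ a : A₂, algebraMap (G i) A (algebraMap A₂ (G i) a) = algebraMap A₂ A a := fun a => AlgHom.congr_fun hφ a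
  haveI : IsScalarTower A₂ (G i) A := .of_algebraMap_eq fun a => (hφ' a).symm
  letI : Algebra A₁ (G i) := (φ.toRingHom.comp (algebraMap A₁ A₂)).toAlgebra
  haveI : IsScalarTower A₁ A₂ (G i) := .of_algebraMap_eq fun _ => rfl
  obtain ⟨Bi, _, _, _, _, _, _, hpi⟩ := RaynaudGruson.EtalePushout.exists_pushout A₂ B₂ (G i)
  haveI := hpi
  letI : Algebra B₁ Bi := ((algebraMap B₂ Bi).comp (algebraMap B₁ B₂)).toAlgebra
  haveI : IsScalarTower B₁ B₂ Bi := .of_algebraMap_eq fun _ => rfl
  letI : Algebra A₁ Bi := ((algebraMap A₂ Bi).comp (algebraMap A₁ A₂)).toAlgebra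
  haveI : IsScalarTower A₁ A₂ Bi := .of_algebraMap_eq fun _ => rfl
  haveI : IsScalarTower A₁ (G i) Bi := .of_algebraMap_eq fun a => by
    rw [IsScalarTower.algebraMap_apply A₁ A₂ Bi, IsScalarTower.algebraMap_apply A₂ (G i) Bi]
    rfl
  haveI : IsScalarTower A₁ B₁ Bi := .of_algebraMap_eq fun a => by
    show algebraMap A₂ Bi (algebraMap A₁ A₂ a) = algebraMap B₂ Bi (algebraMap B₁ B₂ (algebraMap A₁ B₁ a))
    rw [← IsScalarTower.algebraMap_apply A₁ B₁ B₂, IsScalarTower.algebraMap_apply A₁ A₂ B₂,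
      ← IsScalarTower.algebraMap_apply A₂ B₂ Bi]
  haveI : IsScalarTower A₁ B₂ Bi := .of_algebraMap_eq fun a => by
    show algebraMap A₂ Bi (algebraMap A₁ A₂ a) = _
    rw [IsScalarTower.algebraMap_apply A₁ A₂ B₂, ← IsScalarTower.algebraMap_apply A₂ B₂ Bi]
  haveI : Algebra.IsPushout A₁ (G i) B₁ Bi :=
    (Algebra.IsPushout.comp_iff (R := A₁) (S := A₂) (R' := B₁) (S' := B₂) (T := G i) (T' := Bi)).mpr hpi
  haveI hA₂B : IsScalarTower A₂ A B := .of_algebraMap_eq fun _ => rfl
  haveI hA₁A₂B : IsScalarTower A₁ A₂ B := .of_algebraMap_eq fun _ => rfl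
  let τ : B₂ →ₐ[A₁] B := Algebra.pushoutDesc B₂ (IsScalarTower.toAlgHom A₁ A₂ B) (IsScalarTower.toAlgHom A₁ B₁ B)
    fun _ _ => Commute.all _ _
  letI : Algebra B₂ B := τ.toRingHom.toAlgebra
  haveI : IsScalarTower A₂ B₂ B := .of_algebraMap_eq fun b =>
    (Algebra.pushoutDesc_left B₂ (IsScalarTower.toAlgHom A₁ A₂ B) (IsScalarTower.toAlgHom A₁ B₁ B)
      (fun _ _ => Commute.all _ _) b).symm
  haveI : IsScalarTower B₁ B₂ B := .of_algebraMap_eq fun b =>
    (Algebra.pushoutDesc_right B₂ (IsScalarTower.toAlgHom A₁ A₂ B) (IsScalarTower.toAlgHom A₁ B₁ B)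
      (fun _ _ => Commute.all _ _) b).symm
  haveI : Algebra.IsPushout A₂ A B₂ B :=
    (Algebra.IsPushout.comp_iff (R := A₁) (S := A₂) (R' := B₁) (S' := B₂) (T := A) (T' := B)).mp hpush
  letI : Algebra (G i) B := ((algebraMap A B).comp (algebraMap (G i) A)).toAlgebra
  haveI hGAB : IsScalarTower (G i) A B := .of_algebraMap_eq fun _ => rfl
  haveI : IsScalarTower A₂ (G i) B := .of_algebraMap_eq fun a => by
    show _ = algebraMap A B (algebraMap (G i) A (algebraMap A₂ (G i) a))
    rw [hφ', ← IsScalarTower.algebraMap_apply]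
  let θ : Bi →ₐ[A₂] B := Algebra.pushoutDesc Bi (IsScalarTower.toAlgHom A₂ (G i) B) (IsScalarTower.toAlgHom A₂ B₂ B)
    fun _ _ => Commute.all _ _
  letI : Algebra Bi B := θ.toRingHom.toAlgebra
  haveI hGBiB : IsScalarTower (G i) Bi B := .of_algebraMap_eq fun b =>
    (Algebra.pushoutDesc_left Bi (IsScalarTower.toAlgHom A₂ (G i) B) (IsScalarTower.toAlgHom A₂ B₂ B)
      (fun _ _ => Commute.all _ _) b).symm
  haveI : IsScalarTower B₂ Bi B := .of_algebraMap_eq fun b =>
    (Algebra.pushoutDesc_right Bi (IsScalarTower.toAlgHom A₂ (G i) B) (IsScalarTower.toAlgHom A₂ B₂ B)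
      (fun _ _ => Commute.all _ _) b).symm
  haveI hpB : Algebra.IsPushout (G i) A Bi B :=
    (Algebra.IsPushout.comp_iff (R := A₂) (S := G i) (R' := B₂) (S' := Bi) (T := A) (T' := B)).mp inferInstance
  obtain ⟨Ni, _, _, _, _, gi, hgi⟩ := RaynaudGruson.EtalePushout.exists_baseChange B₂ Bi N₂
  letI : Module (G i) Ni := Module.compHom Ni (algebraMap (G i) Bi)
  haveI : IsScalarTower (G i) Bi Ni := IsScalarTower.of_algebraMap_smul fun _ _ => rfl
  letI : Module B₁ Ni := Module.compHom Ni (algebraMap B₁ Bi)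
  haveI : IsScalarTower B₁ Bi Ni := IsScalarTower.of_algebraMap_smul fun _ _ => rfl
  haveI : IsScalarTower B₁ B₂ Ni := IsScalarTower.of_algebraMap_smul fun b x => by
    rw [← algebraMap_smul Bi (algebraMap B₁ B₂ b) x]
    rfl
  letI : Module B₂ N := Module.compHom N (algebraMap B₂ B)
  haveI : IsScalarTower B₂ B N := IsScalarTower.of_algebraMap_smul fun _ _ => rfl
  letI : Module Bi N := Module.compHom N (algebraMap Bi B)
  haveI hBiN : IsScalarTower Bi B N := IsScalarTower.of_algebraMap_smul fun _ _ => rfl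
  haveI : IsScalarTower B₁ B₂ N := IsScalarTower.of_algebraMap_smul fun b x => by
    rw [← algebraMap_smul B (algebraMap B₁ B₂ b) x, ← IsScalarTower.algebraMap_apply, algebraMap_smul]
  haveI : IsScalarTower B₂ Bi N := IsScalarTower.of_algebraMap_smul fun b x => by
    rw [← algebraMap_smul B (algebraMap B₂ Bi b) x, ← IsScalarTower.algebraMap_apply, algebraMap_smul]
  let F₂ : N₂ →ₗ[B₂] N := hf₂.lift f₁
  have hF₂ : IsBaseChange B F₂ := by
    refine IsBaseChange.of_comp hf₂ ?_
    rw [hf₂.lift_comp]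
    exact hf₁
  let Fi : Ni →ₗ[Bi] N := hgi.lift F₂
  have hFi : IsBaseChange B Fi := by
    refine IsBaseChange.of_comp hgi ?_
    rw [hgi.lift_comp]
    exact hF₂
  haveI : Algebra.FinitePresentation A₂ B₂ :=
    Algebra.FinitePresentation.equiv (R := A₂) (A := TensorProduct A₁ A₂ B₁) (Algebra.IsPushout.equiv A₁ A₂ B₁ B₂)
  haveI : Algebra.FinitePresentation (G i) Bi := Algebra.FinitePresentation.equiv (Algebra.IsPushout.equiv A₂ (G i) B₂ Bi)
  haveI : Module.FinitePresentation B₂ N₂ := Module.FinitePresentation.of_equiv hf₂.equiv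
  haveI : Module.FinitePresentation Bi Ni := Module.FinitePresentation.of_equiv hgi.equiv
  refine ⟨i, Bi, Ni, inferInstance, inferInstance, inferInstance, inferInstance, hGAB, hGBiB, inferInstance,
    inferInstance, inferInstance, inferInstance, inferInstance, hBiN, Fi, inferInstance,
    Algebra.IsPushout.symm hpB, inferInstance, hFi, ?_, ?_⟩
  · haveI : Algebra.IsPushout A₂ B₂ (G i) Bi := Algebra.IsPushout.symm hpi
    have hu := RaynaudGruson.isUnivPureAlong_baseChange N₂ (p.comap (algebraMap A₂ A)) hup (G i) Bi Ni gi hgi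
      (p.comap (algebraMap (G i) A)) ⟨by rw [Ideal.under_def, Ideal.comap_comap, ← IsScalarTower.algebraMap_eq]⟩
    intro A' B' N' _ _ _ _ _ _ _ _ _ _ _ _ _ _ f' t' t _ _ P _ _
    exact hu A' B' N' f' t' t P
  · intro q _ hq
    let h₁ : N₁ →ₗ[B₁] Ni := (gi.restrictScalars B₁).comp f₂
    have hh₁ : IsBaseChange Bi h₁ := hf₂.comp hgi
    letI : Module A₁ Ni := Module.compHom Ni (algebraMap A₁ Bi)
    haveI : IsScalarTower A₁ (G i) Ni := IsScalarTower.of_algebraMap_smul fun a x => by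
      rw [← algebraMap_smul Bi (algebraMap A₁ (G i) a) x, ← IsScalarTower.algebraMap_apply]
      rfl
    haveI : IsScalarTower A₁ B₁ Ni := IsScalarTower.of_algebraMap_smul fun a x => by
      rw [← algebraMap_smul Bi (algebraMap A₁ B₁ a) x, ← IsScalarTower.algebraMap_apply]
      rfl
    haveI : Module.Flat A₁ (LocalizedModule (q.comap (algebraMap B₁ Bi)).primeCompl N₁) :=
      hflat₁ (q.comap (algebraMap B₁ Bi)) ⟨by
        rw [Ideal.under_def, Ideal.comap_comap, ← IsScalarTower.algebraMap_eq, IsScalarTower.algebraMap_eq A₁ (G i) Bi,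
          ← Ideal.comap_comap, show q.comap (algebraMap (G i) Bi) = p.comap (algebraMap (G i) A) from hq.over.symm,
          Ideal.comap_comap]
        congr 1
        exact RingHom.ext fun a => (hφ' (algebraMap A₁ A₂ a)).symm⟩
    exact FlatMorOne.flat_localized_baseChange (B := A₁) (R := G i) (algebraMap B₁ Bi)
      (FlatMorOne.isBaseChange_restrict (A := A₁) (R := G i) (SA := B₁) (S := Bi) hh₁)
      (fun s m => (h₁.map_smul s m).trans (algebraMap_smul Bi s (h₁ m)).symm) q

end Groth.Agent.S1295
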