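import Groth.Statements.S12959
import Groth.Agent.AlgStBasic.Permanence
import Groth.Agent.AlgSpBasic.LocPInst

set_option autoImplicit false
set_option backward.isDefEq.respectTransparency false
set_option backward.isDefEq.respectTransparency.types false
universe u
open CategoryTheory AlgebraicGeometry
open AlgSt

namespace Groth.Agent.S12959

/-- If the composite of f : 𝒳 → 𝒴 and g : 𝒴 → 𝒵 (morphisms of algebraic stacks) is quasi-separated and
the diagonal of g is quasi-separated (as a morphism representable by algebraic spaces), then f is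
quasi-separated. -/
theorem result
    (S : Scheme.{u}) (𝒳 : AlgSt.Cat S) (𝒴 : AlgSt.Cat S) (𝒵 : AlgSt.Cat S)
    (h𝒳 : AlgSt.IsAlgStack Scheme.fppfPrecoverage 𝒳)
    (h𝒴 : AlgSt.IsAlgStack Scheme.fppfPrecoverage 𝒴)
    (h𝒵 : AlgSt.IsAlgStack Scheme.fppfPrecoverage 𝒵)
    (f : 𝒳 ⥤ᵇ 𝒴) (g : 𝒴 ⥤ᵇ 𝒵) :
    AlgSt.IsQuasiSeparatedMor (BasedFunctor.comp f g) →
      AlgSt.RepByAlgSpWith AlgSp.IsQuasiSeparatedMor (FibCat.diag g) → AlgSt.IsQuasiSeparatedMor f := by
  exact fun h hg => Groth.AlgStBasic.repWith_of_comp_cancel' h𝒳.isStack.1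
    (Groth.StkBase.isFibGrpd_fp h𝒳.isStack.1 h𝒳.isStack.1 h𝒴.isStack.1)
    (Groth.AlgStBasic.stableBaseChange_inf Groth.AlgStBasic.stableBaseChange_qc Groth.AlgStBasic.stableBaseChange_qs) Groth.AlgStBasic.stableBaseChange_qs
    (fun _ _ _ hX hY hZ a b hb hab => Groth.AlgStBasic.qcqs_of_comp hX hY hZ a b hb hab)
    (Groth.AlgStBasic.repByAlgSp1_diag_of_diag h𝒳.isStack.1 h𝒴.isStack.1 h𝒳.diag h𝒴.diag f)
    (Groth.AlgStBasic.repWith_fpPost hg)
    (Groth.AlgStBasic.repWith_of_iso (Groth.AlgStBasic.nonempty_diag_comp_iso f g).some.symm h)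

end Groth.Agent.S12959
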