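import Groth.Statements.S1296
import Groth.Agent.RaynaudGruson.ImpurityEtale


set_option autoImplicit false
universe u
open FlatMor

namespace Groth.Agent.S1296

/-- Ring form, X = Spec B affine, T = Spec A' with A' the colimit of a directed system of A-algebras
A'_i: let B be a finite type A-algebra, N a finite B-module, p a prime of A, and suppose given an
impurity of N above p with base change ring A' and points t' ⊆ t. Then for some index i there is an
impurity of N above p whose base change ring is A'_i (up to an A-isomorphism) and whose point t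
corresponds to the contraction of t to A'_i. -/
theorem result {A B : Type u} [CommRing A] [CommRing B] [Algebra A B] [Algebra.FiniteType A B]
    (N : Type u) [AddCommGroup N] [Module B N] [Module.Finite B N] (p : Ideal A) [p.IsPrime]
    {ι : Type u} [Preorder ι] (G : ι → Type u) [∀ i, CommRing (G i)] [∀ i, Algebra A (G i)]
    (g : ∀ i j, i ≤ j → G i →ₐ[A] G j)
    (A' : Type u) [CommRing A'] [Algebra A A'] [∀ i, Algebra (G i) A'] [∀ i, IsScalarTower A (G i) A']
    (hcolim : FlatCA.IsDirectedColimitRing G (fun i j h => (g i j h).toRingHom) A')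
    (B' N' : Type u) [CommRing B'] [Algebra B B'] [Algebra A' B'] [Algebra A B'] [IsScalarTower A B B'] [IsScalarTower A A' B']
    [AddCommGroup N'] [Module B' N'] [Module B N'] [IsScalarTower B B' N'] [Module A' N'] [IsScalarTower A' B' N']
    (f : N →ₗ[B] N') (t' t : Ideal A') [t'.IsPrime] [t.IsPrime] (P : Ideal B') [P.IsPrime]
    (himp : FlatCA.IsImpurity A B N p A' B' N' f t' t P) :
    ∃ i : ι, FlatCA.HasImpurity A B N p (fun A'' _ _ t'' => ∃ e : A'' ≃ₐ[A] G i, t''.map e = t.comap (algebraMap (G i) A')) := by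
  classical
  letI : Module A N := Module.compHom N (algebraMap A B)
  haveI : IsScalarTower A B N := IsScalarTower.of_algebraMap_smul fun _ _ => rfl
  haveI : Algebra.IsPushout A B A' B' := himp.1
  have htp : t.LiesOver p := himp.2.2.2.1
  obtain ⟨C, hC, hwC⟩ :=
    (Groth.RaynaudGruson.wit_of_isImpurity (A := A) (B := B) (N := N) A' B' N' f p t' t P himp).exists_finiteType
  obtain ⟨T, hT⟩ := hC
  obtain ⟨hdir, hne, -, -, hcomp, hsurj, -⟩ := hcolim
  choose j x hx using fun y : T => hsurj (y : A')
  obtain ⟨i, hi⟩ : ∃ i, ∀ y, j y ≤ i := Finite.exists_le j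
  let γ : G i →ₐ[A] A' := IsScalarTower.toAlgHom A (G i) A'
  have hCγ : C ≤ γ.range := by
    rw [← hT, Algebra.adjoin_le_iff]
    exact fun y hy => ⟨g _ _ (hi ⟨y, hy⟩) (x ⟨y, hy⟩), (RingHom.congr_fun (hcomp _ _ (hi ⟨y, hy⟩)) _).trans (hx ⟨y, hy⟩)⟩
  have hwE : Groth.RaynaudGruson.Wit (A := A) (B := B) N (t'.comap γ.range.val) (t.comap γ.range.val) :=
    Groth.RaynaudGruson.Wit.map (Subalgebra.inclusion hCγ) (Ideal.comap_mono himp.2.2.1) hwC
  have hw := hwE.comap_of_surjective γ.rangeRestrict γ.rangeRestrict_surjective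
  refine ⟨i, Groth.RaynaudGruson.hasImpurity_of_wit p _ _ ⟨Ideal.ext fun r => ?_⟩ hw ⟨AlgEquiv.refl, Ideal.map_id _⟩⟩
  show r ∈ p ↔ γ (algebraMap A (G i) r) ∈ t
  rw [AlgHom.commutes, htp.over]
  rfl

end Groth.Agent.S1296
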