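import Groth.Statements.S12979
import Groth.Agent.AlgStBasic.SepRep

set_option autoImplicit false
set_option backward.isDefEq.respectTransparency false
set_option backward.isDefEq.respectTransparency.types false
universe u
open CategoryTheory AlgebraicGeometry
open AlgSt

namespace Groth.Agent.S12979

/-- If the first and second diagonals of a morphism f of algebraic stacks are both universally closed
(as morphisms representable by algebraic spaces), then f is separated. (The published statement is
an equivalence; this row states the implication from the two diagonals to separatedness.) -/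
theorem result
    (S : Scheme.{u}) (𝒳 : AlgSt.Cat S) (𝒴 : AlgSt.Cat S)
    (h𝒳 : AlgSt.IsAlgStack Scheme.fppfPrecoverage 𝒳)
    (h𝒴 : AlgSt.IsAlgStack Scheme.fppfPrecoverage 𝒴)
    (f : 𝒳 ⥤ᵇ 𝒴) :
    AlgSt.RepByAlgSpWith AlgSp.IsUnivClosedMor (FibCat.diag f) →
      AlgSt.RepByAlgSpWith AlgSp.IsUnivClosedMor (FibCat.diag (FibCat.diag f)) → AlgSt.IsSeparatedMor f := by
  intro h₁ h₂
  have hΔ := Groth.AlgStBasic.repByAlgSp1_diag_of_diag h𝒳.isStack.1 h𝒴.isStack.1 h𝒳.diag h𝒴.diag f
  have hs := ((Groth.AlgStBasic.tfae_separated hΔ).out 0 3).2 h₂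
  exact Groth.AlgStBasic.repWith_mono (fun _ _ φ hX hY hφ =>
    (⟨hφ.1.1, ⟨hφ.1.2, Groth.AlgSpBasic.isQuasiCompactMor_of_univClosed hX hY hφ.2⟩, hφ.2⟩ : AlgSp.IsProperMor φ))
    (Groth.AlgStBasic.repWith_inf Groth.AlgStBasic.stableBaseChange_univClosed (Groth.AlgStBasic.repWith_inf Groth.AlgStBasic.stableBaseChange_locP hs (Groth.AlgStBasic.repWith_lft_diag h𝒳 h𝒴 f)) h₁)

end Groth.Agent.S12979
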