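import Groth.Statements.S1298
import Groth.Agent.RaynaudGruson.GenericNowhereDense


set_option autoImplicit false
universe u
open FlatMor

namespace Groth.Agent.S1298

open AlgebraicGeometry CategoryTheory Limits in
/-- Let f be of finite type with irreducible target and let Z be a closed subset of the source whose
trace on the generic fibre is nowhere dense there. Then over some nonempty open of the target every
fibre of Z is nowhere dense in the corresponding fibre of f. -/
theorem result {X Y : Scheme.{u}} (f : X ⟶ Y) [IrreducibleSpace ↑Y] [LocallyOfFiniteType f] [QuasiCompact f]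
    (Z : Set ↑X) (hZ : IsClosed Z) (h : IsNowhereDense ((f.fiberι (genericPoint ↑Y)) ⁻¹' Z)) :
    ∃ V : Y.Opens, (V : Set ↑Y).Nonempty ∧ ∀ y ∈ V, IsNowhereDense ((f.fiberι y) ⁻¹' Z) := by
  obtain ⟨V, hV, hgen⟩ := Groth.RaynaudGruson.exists_open_nowhereDense f Z hZ h
  refine ⟨V, hV, fun y hy => ?_⟩
  rw [(hZ.preimage (f.fiberι y).continuous).isNowhereDense_iff, interior_eq_empty_iff_dense_compl]
  intro x
  have hxy : f.base (f.fiberι y x) = y := by
    have : f.fiberι y x ∈ f.base ⁻¹' {y} := f.range_fiberι y ▸ ⟨x, rfl⟩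
    exact this
  obtain ⟨z, hzx, hz, hzZ⟩ := hgen (f.fiberι y x) (by rw [hxy]; exact hy)
  have hz' : z ∈ f.base ⁻¹' {y} := hz.trans hxy
  rw [← f.range_fiberι y] at hz'
  obtain ⟨w, rfl⟩ := hz'
  have hwx : w ⤳ x := (f.fiberι y).isEmbedding.isInducing.specializes_iff.mp hzx
  exact closure_mono (Set.singleton_subset_iff.mpr (show w ∈ ((f.fiberι y) ⁻¹' Z)ᶜ from hzZ)) hwx.mem_closure

end Groth.Agent.S1298
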