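import Groth.Statements.S12980
import Groth.Agent.AlgStBasic.SepRep

set_option autoImplicit false
set_option backward.isDefEq.respectTransparency false
set_option backward.isDefEq.respectTransparency.types false
universe u
open CategoryTheory AlgebraicGeometry
open AlgSt

namespace Groth.Agent.S12980

/-- A morphism f of algebraic stacks is quasi-separated if and only if its first and second diagonals
are both quasi-compact (as morphisms representable by algebraic spaces). -/
theorem result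
    (S : Scheme.{u}) (𝒳 : AlgSt.Cat S) (𝒴 : AlgSt.Cat S)
    (h𝒳 : AlgSt.IsAlgStack Scheme.fppfPrecoverage 𝒳)
    (h𝒴 : AlgSt.IsAlgStack Scheme.fppfPrecoverage 𝒴)
    (f : 𝒳 ⥤ᵇ 𝒴) :
    AlgSt.IsQuasiSeparatedMor f ↔
      AlgSt.RepByAlgSpWith AlgSp.IsQuasiCompactMor (FibCat.diag f) ∧
        AlgSt.RepByAlgSpWith AlgSp.IsQuasiCompactMor (FibCat.diag (FibCat.diag f)) := by
  have hΔ := Groth.AlgStBasic.repByAlgSp1_diag_of_diag h𝒳.isStack.1 h𝒴.isStack.1 h𝒳.diag h𝒴.diag f
  have h12 := (Groth.AlgStBasic.tfae_quasiSeparated hΔ).out 0 1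
  constructor
  · intro h
    exact ⟨Groth.AlgStBasic.repWith_mono (fun _ _ _ _ _ hφ => hφ.1) h,
      h12.1 (Groth.AlgStBasic.repWith_mono (fun _ _ _ _ _ hφ => hφ.2) h)⟩
  · rintro ⟨h₁, h₂⟩
    exact Groth.AlgStBasic.repWith_inf Groth.AlgStBasic.stableBaseChange_qs h₁ (h12.2 h₂)

end Groth.Agent.S12980
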