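import Groth.Statements.S12989
import Groth.Agent.AlgStBasic.StCompact

set_option autoImplicit false
set_option backward.isDefEq.respectTransparency false
set_option backward.isDefEq.respectTransparency.types false
universe u
open CategoryTheory AlgebraicGeometry
open AlgSt

namespace Groth.Agent.S12989

/-- Let f : 𝒳 → 𝒴 be a morphism of algebraic stacks and W → 𝒴 a surjective, flat, locally finitely
presented morphism whose source is an algebraic space. Whenever the projection W ×_𝒴 𝒳 → W is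
quasi-compact, f is quasi-compact too. -/
theorem result
    (S : Scheme.{u}) (𝒳 : AlgSt.Cat S) (𝒴 : AlgSt.Cat S)
    (h𝒳 : AlgSt.IsAlgStack Scheme.fppfPrecoverage 𝒳)
    (h𝒴 : AlgSt.IsAlgStack Scheme.fppfPrecoverage 𝒴)
    (f : 𝒳 ⥤ᵇ 𝒴)
    (W : AlgSp.Space S) (w : AlgSt.ofSp W.obj ⥤ᵇ 𝒴)
    (hw₁ : AlgSt.RepByAlgSpWith (AlgSp.LocP @Flat) w)
    (hw₂ : AlgSt.RepByAlgSpWith (AlgSp.LocP @LocallyOfFinitePresentation) w)
    (hw₃ : AlgSt.RepByAlgSpWith AlgSp.IsSurjectiveMor w) :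
    AlgSt.IsQuasiCompactMor Scheme.fppfPrecoverage (FibCat.fpFst w f) → AlgSt.IsQuasiCompactMor Scheme.fppfPrecoverage f := by
  intro h
  have hW := Groth.AlgStBasic.isAlgStack_ofSp W.property
  refine Groth.AlgStBasic.isQuasiCompactMor_of_open_cover h𝒳 h𝒴 hW
    ((Groth.AlgStBasic.isSurjective_iff_repWith hW.isStack.1 h𝒴.isStack.1 (Groth.AlgStBasic.repWith_repByAlgSp1 hw₃)).2 hw₃)
    (fun 𝒯 hT g => ?_) h
  exact Groth.AlgStBasic.isOpenMap_map_of_repWith (Groth.AlgStBasic.isAlgStack_fp h𝒴.isStack h𝒴.diag hT hW g w) hT.isStack.1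
    (Groth.AlgStBasic.repWith_fpFst w g hw₁) (Groth.AlgStBasic.repWith_fpFst w g hw₂)

end Groth.Agent.S12989
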