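import Groth.Statements.S12990
import Groth.Agent.AlgStBasic.LocQCalc

set_option autoImplicit false
set_option backward.isDefEq.respectTransparency false
set_option backward.isDefEq.respectTransparency.types false
universe u
open CategoryTheory AlgebraicGeometry
open AlgSt

namespace Groth.Agent.S12990

/-- Suppose P, a property of morphisms between algebraic spaces, is local on source and target for the
smooth topology, and let f : 𝒳 → 𝒴 be a morphism of algebraic stacks. Then some 2-commutative square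
with smooth scheme charts x : U → 𝒳 (surjective), y : V → 𝒴 and h : U → V having P exists if and
only if in every 2-commutative square with smooth scheme charts x : U → 𝒳, y : V → 𝒴 for which the
induced U → 𝒳 ×_𝒴 V is smooth, the morphism h : U → V has P. (The published statement uses charts
from algebraic spaces; this row uses charts from schemes.) -/
theorem result
    (S : Scheme.{u}) (P : MorphismProperty (AlgSp.Sp S)) (hP : AlgSp.IsSmoothLocalST P)
    (𝒳 : AlgSt.Cat S) (𝒴 : AlgSt.Cat S)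
    (h𝒳 : AlgSt.IsAlgStack Scheme.fppfPrecoverage 𝒳)
    (h𝒴 : AlgSt.IsAlgStack Scheme.fppfPrecoverage 𝒴)
    (f : 𝒳 ⥤ᵇ 𝒴) :
    AlgSt.LocQ P f ↔
      ∀ (U V : Over S) (x : FibCat.overCat U ⥤ᵇ 𝒳) (y : FibCat.overCat V ⥤ᵇ 𝒴) (h : U ⟶ V)
        (α : BasedFunctor.comp x f ≅ BasedFunctor.comp (AlgSt.overMap h) y),
        AlgSt.RepByAlgSpWith (AlgSp.LocP @Smooth) x → AlgSt.RepByAlgSpWith (AlgSp.LocP @Smooth) y →
        AlgSt.RepByAlgSpWith (AlgSp.LocP @Smooth) (FibCat.fpLift x (AlgSt.overMap h) α) → P ((AlgSp.yon S).map h) := by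
  refine ⟨fun hf U V x y h α hx hy hL => ?_, fun H => ?_⟩
  · let U' : AlgSp.Space S := (AlgSp.ofScheme S).obj U
    let V' : AlgSp.Space S := (AlgSp.ofScheme S).obj V
    let y' : AlgSt.ofSp V'.obj ⥤ᵇ 𝒴 := BasedFunctor.comp (AlgSt.toOverCat V) y
    let E := Groth.StkBase.fpPre (BasedFunctor.id 𝒳) (AlgSt.ofOverCat V) f y'
    have hE : FibCat.IsEquivOver E :=
      Groth.StkBase.isEquivOver_fpPre (Groth.StkBase.isEquivOver_id _) (Groth.AlgStBasic.isEquivOver_ofOverCat V) _ _
    have := (Groth.AlgStBasic.locQ_iff_all hP h𝒳 h𝒴).1 hf U' V' y'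
      (BasedFunctor.comp (AlgSt.toOverCat U) (BasedFunctor.comp (FibCat.fpLift x (AlgSt.overMap h) α) E))
      ((Groth.AlgStBasic.repWith_precomp_equiv (Groth.AlgStBasic.isEquivOver_toOverCat V) y).2 hy)
      ((Groth.AlgStBasic.repWith_precomp_equiv (Groth.AlgStBasic.isEquivOver_toOverCat U) _).2
        ((Groth.AlgStBasic.repWith_postcomp_equiv _ hE).2 hL))
    rwa [show BasedFunctor.comp (BasedFunctor.comp (AlgSt.toOverCat U)
        (BasedFunctor.comp (FibCat.fpLift x (AlgSt.overMap h) α) E)) (FibCat.fpSnd f y') =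
        AlgSt.ofSpMap ((AlgSp.yon S).map h) from rfl, Groth.AlgStBasic.mapOf_ofSpMap] at this
  · obtain ⟨V, y, hy, hys⟩ := h𝒴.atlas
    have hW := Groth.AlgStBasic.isAlgStack_fp h𝒴.isStack h𝒴.diag h𝒳
      (Groth.AlgStBasic.isAlgStack_of_repByAlgSp (Groth.AlgStBasic.repByAlgSp_overCat V)) f y
    obtain ⟨U, w, hw, hws⟩ := hW.atlas
    have hU := Groth.StkBase.isFibGrpd_overCat (C := Over S) U
    let φ := BasedFunctor.comp w (FibCat.fpSnd f y)
    let a : U ⟶ V := eqToHom (φ.w_obj (Groth.StkBase.idObj U)).symm ≫ (φ.obj (Groth.StkBase.idObj U)).hom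
    obtain ⟨hφ⟩ : Nonempty (φ ≅ AlgSt.overMap a) := by
      refine (Groth.StkBase.nonempty_overIso_iff (Groth.StkBase.isFibGrpd_overCat V) _ _).2
        ⟨Over.homMk (eqToHom (φ.w_obj (Groth.StkBase.idObj U))) ?_, φ.w_obj (Groth.StkBase.idObj U), rfl⟩
      show eqToHom _ ≫ 𝟙 U ≫ a = _
      simp [a]
    let x := BasedFunctor.comp w (FibCat.fpFst f y)
    let α : BasedFunctor.comp x f ≅ BasedFunctor.comp (AlgSt.overMap a) y :=
      (Groth.StkBase.whiskerLeftIso w (FibCat.fpIso f y)).trans (Groth.StkBase.whiskerRightIso hφ y)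
    have hx : AlgSt.RepByAlgSpWith (AlgSp.LocP @Smooth) x :=
      Groth.AlgStBasic.repWith_comp' hU hW.isStack.1 Groth.AlgStBasic.stableBaseChange_locP
        Groth.AlgStBasic.stableComp_locP Groth.AlgStBasic.descendsAlongAtlas_locP hw
        (Groth.AlgStBasic.repWith_fpFst y f hy)
    refine ⟨U, V, x, y, a, α, hx, Groth.AlgStBasic.repWith_comp' hU hW.isStack.1
      Groth.AlgStBasic.stableBaseChange_surjective Groth.AlgStBasic.stableComp_surjective
      Groth.AlgStBasic.descendsAlongAtlas_surjective hws (Groth.AlgStBasic.repWith_fpFst y f hys),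
      hy, H U V x y a α hx hy (Groth.AlgStBasic.repWith_of_iso ?_ hw)⟩
    exact Groth.StkBase.fpIsoMk (H := w) (K := FibCat.fpLift x (AlgSt.overMap a) α) (Iso.refl _) hφ
      fun v => by simp [x, φ, α]

end Groth.Agent.S12990
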