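import Groth.Statements.S12995
import Groth.Agent.AlgStBasic.LocQDescend

set_option autoImplicit false
set_option backward.isDefEq.respectTransparency false
set_option backward.isDefEq.respectTransparency.types false
universe u
open CategoryTheory AlgebraicGeometry
open AlgSt

namespace Groth.Agent.S12995

/-- Let P be a property of morphisms of algebraic spaces that is fppf local on the target and stable
under base change, f : 𝒳 → 𝒴 a morphism of algebraic stacks representable by algebraic spaces, and 𝒵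
→ 𝒴 a surjective, flat, locally finitely presented morphism of algebraic stacks. Then f has P (every
base change to a scheme has P) if and only if the projection 𝒵 ×_𝒴 𝒳 → 𝒵 has P. -/
theorem result
    (S : Scheme.{u}) (P : MorphismProperty (AlgSp.Sp S))
    (hP₁ : ∀ ⦃X₁ Y₁ X₂ Y₂ : AlgSp.Sp S⦄, AlgSp.IsAlgSpace X₁ → AlgSp.IsAlgSpace Y₁ → AlgSp.IsAlgSpace X₂ →
      AlgSp.IsAlgSpace Y₂ → ∀ (a : X₁ ⟶ Y₁) (b : Y₂ ⟶ Y₁) (a' : X₂ ⟶ Y₂) (b' : X₂ ⟶ X₁),
      IsPullback b' a' a b → P a → P a')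
    (hP₂ : AlgSp.IsLocalOnBase AlgSp.IsFppfCover P)
    (𝒳 : AlgSt.Cat S) (𝒴 : AlgSt.Cat S)
    (h𝒳 : AlgSt.IsAlgStack Scheme.fppfPrecoverage 𝒳)
    (h𝒴 : AlgSt.IsAlgStack Scheme.fppfPrecoverage 𝒴)
    (f : 𝒳 ⥤ᵇ 𝒴) (hf : AlgSt.RepByAlgSp1 f)
    (𝒵 : AlgSt.Cat S) (h𝒵 : AlgSt.IsAlgStack Scheme.fppfPrecoverage 𝒵) (z : 𝒵 ⥤ᵇ 𝒴)
    (hz₁ : AlgSt.LocQ (AlgSp.LocP @Flat) z) (hz₂ : AlgSt.LocQ (AlgSp.LocP @LocallyOfFinitePresentation) z)
    (hz₃ : AlgSt.IsSurjective z) :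
    AlgSt.RepByAlgSpWith P f ↔ AlgSt.RepByAlgSpWith P (FibCat.fpFst z f) := by
  refine ⟨fun h => Groth.AlgStBasic.repWith_fpFst f z h, fun h => ?_⟩
  obtain ⟨V, v, hv, hvs⟩ := Groth.AlgStBasic.exists_space_atlas h𝒵
  have hVst := Groth.AlgStBasic.isAlgStack_ofSp ((AlgSp.ofScheme S).obj V).property
  let w := BasedFunctor.comp v z
  have hw : AlgSt.RepByAlgSp1 w :=
    (Groth.AlgStBasic.repByAlgSp1_precomp_iff (Groth.AlgStBasic.isEquivOver_ofOverCat V) w).1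
      ((Groth.AlgStBasic.repByAlgSp1_diag_iff h𝒴.isStack.1).1 h𝒴.diag V (BasedFunctor.comp (AlgSt.ofOverCat V) w))
  have hv' : AlgSt.LocQ (AlgSp.LocP @Flat) v ∧ AlgSt.LocQ (AlgSp.LocP @LocallyOfFinitePresentation) v :=
    ⟨Groth.AlgStBasic.locQ_of_repWith Groth.AlgStBasic.stableBaseChange_locP Groth.AlgStBasic.descendsAlongAtlas_locP Groth.AlgStBasic.isSmoothLocalST_flat hVst h𝒵
      (Groth.AlgStBasic.repWith_locP_of_smooth (P := @Flat) (fun _ _ f (_ : Smooth f) => inferInstance) hv),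
    Groth.AlgStBasic.locQ_of_repWith Groth.AlgStBasic.stableBaseChange_locP Groth.AlgStBasic.descendsAlongAtlas_locP Groth.AlgStBasic.isSmoothLocalST_lfp hVst h𝒵
      (Groth.AlgStBasic.repWith_locP_of_smooth (P := @LocallyOfFinitePresentation) (fun _ _ f (_ : Smooth f) => inferInstance) hv)⟩
  have hw₁ := Groth.AlgStBasic.repWith_of_locQ Groth.AlgStBasic.stableBaseChange_locP (Groth.AlgStBasic.isLocalOnBase_fppf_locP _) Groth.AlgStBasic.isSmoothLocalST_flat hVst h𝒴 hw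
    (Groth.AlgStBasic.locQ_comp Groth.AlgStBasic.isSmoothLocalST_flat Groth.AlgStBasic.stableComp_locP hVst h𝒵 h𝒴 hv'.1 hz₁)
  have hw₂ := Groth.AlgStBasic.repWith_of_locQ Groth.AlgStBasic.stableBaseChange_locP (Groth.AlgStBasic.isLocalOnBase_fppf_locP _) Groth.AlgStBasic.isSmoothLocalST_lfp hVst h𝒴 hw
    (Groth.AlgStBasic.locQ_comp Groth.AlgStBasic.isSmoothLocalST_lfp Groth.AlgStBasic.stableComp_locP hVst h𝒵 h𝒴 hv'.2 hz₂)
  have hw₃ : AlgSt.IsSurjective w := fun p => by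
    obtain ⟨q, rfl⟩ := hz₃ p
    obtain ⟨r, rfl⟩ := (Groth.AlgStBasic.isSurjective_iff_repWith hVst.isStack.1 h𝒵.isStack.1 (Groth.AlgStBasic.repWith_repByAlgSp1 hvs)).2 hvs q
    exact ⟨r, Groth.AlgStBasic.map_comp v z r⟩
  exact (Groth.AlgStBasic.repWith_iff_fpFst_of_cover hP₁ hP₂ hf hw₁ hw₂
    ((Groth.AlgStBasic.isSurjective_iff_repWith hVst.isStack.1 h𝒴.isStack.1 hw).1 hw₃)).2
    ((Groth.AlgStBasic.repWith_precomp_equiv (Groth.StkBase.isEquivOver_fpPaste v z f) (FibCat.fpFst w f)).1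
      (Groth.AlgStBasic.repWith_fpFst (FibCat.fpFst z f) v h))

end Groth.Agent.S12995
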