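import Groth.Statements.S12997
import Groth.Agent.AlgStBasic.LocQCalc

set_option autoImplicit false
set_option backward.isDefEq.respectTransparency false
set_option backward.isDefEq.respectTransparency.types false
universe u
open CategoryTheory AlgebraicGeometry
open AlgSt

namespace Groth.Agent.S12997

/-- An open immersion of algebraic stacks is locally of finite presentation. -/
theorem result
    (S : Scheme.{u}) (𝒳 : AlgSt.Cat S) (𝒴 : AlgSt.Cat S)
    (h𝒳 : AlgSt.IsAlgStack Scheme.fppfPrecoverage 𝒳)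
    (h𝒴 : AlgSt.IsAlgStack Scheme.fppfPrecoverage 𝒴)
    (f : 𝒳 ⥤ᵇ 𝒴) :
    AlgSt.IsOpenImm f → AlgSt.LocQ (AlgSp.LocP @LocallyOfFinitePresentation) f := by
  intro hf
  exact Groth.AlgStBasic.locQ_of_repWith Groth.AlgStBasic.stableBaseChange_locP Groth.AlgStBasic.descendsAlongAtlas_locP Groth.AlgStBasic.isSmoothLocalST_lfp h𝒳 h𝒴
    (Groth.AlgStBasic.repWith_mono (fun _ _ _ _ _ h => Groth.AlgSpBasic.locP_of_repWith (P := @LocallyOfFinitePresentation)
      (Groth.AlgSpBasic.repWith_mono (P := @IsOpenImmersion) (Q := @LocallyOfFinitePresentation)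
        (fun _ _ φ (_ : IsOpenImmersion φ) => inferInstance) h)) hf)

end Groth.Agent.S12997
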