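import Groth.Statements.S1300
import Groth.Agent.FibreSTD.Chart
import Groth.Agent.Calg2.Uniform.FibresScheme

set_option autoImplicit false
universe u
open FlatMor

namespace Groth.Agent.S1300

open AlgebraicGeometry CategoryTheory in
theorem exists_rho {Y : Scheme.{u}} {U : Y.Opens} (hU : IsAffineOpen U) (p : Spec Γ(Y, U)) :
    ∃ ρ : Γ(Y, U) ⟶ Y.residueField (hU.fromSpec p),
      Spec.map ρ ≫ hU.fromSpec = Y.fromSpecResidueField (hU.fromSpec p) ∧ RingHom.ker ρ.hom = p.asIdeal := by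
  have hr : Set.range (Y.fromSpecResidueField (hU.fromSpec p)) ⊆ Set.range hU.fromSpec := by
    rw [Scheme.range_fromSpecResidueField]; rintro _ rfl; exact ⟨p, rfl⟩
  refine ⟨Spec.preimage (IsOpenImmersion.lift hU.fromSpec _ hr), by rw [Spec.map_preimage, IsOpenImmersion.lift_fac], ?_⟩
  refine (Groth.Calg2.Uniform.point_eq_ker _ (IsLocalRing.closedPoint (Y.residueField (hU.fromSpec p)))).symm.trans
    (congrArg PrimeSpectrum.asIdeal ?_)
  apply hU.fromSpec.isOpenEmbedding.injective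
  show hU.fromSpec (Spec.map (Spec.preimage _) _) = _
  rw [Spec.map_preimage, ← Scheme.Hom.comp_apply]
  exact (congrArg (fun m : Spec _ ⟶ Y => m _) (IsOpenImmersion.lift_fac hU.fromSpec _ hr)).trans
    (Scheme.fromSpecResidueField_apply _ _)

open TensorProduct in
theorem isNoetherianRing_tensor (R A K : Type u) [CommRing R] [CommRing A] [Algebra R A] [Algebra.FiniteType R A]
    [Field K] [Algebra R K] : IsNoetherianRing (A ⊗[R] K) :=
  have : IsNoetherianRing (K ⊗[R] A) := Algebra.FiniteType.isNoetherianRing K _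
  isNoetherianRing_of_ringEquiv (K ⊗[R] A) (Algebra.TensorProduct.comm R K A).toRingEquiv

open TensorProduct AlgebraicGeometry CategoryTheory in
theorem exists_finite_faith {R A K : Type u} [CommRing R] [CommRing A] [Algebra R A] [Algebra.FiniteType R A]
    [Field K] [Algebra R K] {G : Type u} (g : G → A)
    (h : Groth.FibreSTD.Faith fun j => (g j ⊗ₜ[R] (1 : K) : A ⊗[R] K)) :
    ∃ (r : ℕ) (e : Fin r → G), Groth.FibreSTD.Faith fun i => (g (e i) ⊗ₜ[R] (1 : K) : A ⊗[R] K) := by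
  classical
  have := isNoetherianRing_tensor R A K
  obtain ⟨s, hs, hspan⟩ := (Submodule.fg_span_iff_fg_span_finset_subset
    (Set.range fun j => (g j ⊗ₜ[R] (1 : K) : A ⊗[R] K))).1 (IsNoetherian.noetherian (R := A ⊗[R] K) (M := A ⊗[R] K) _)
  choose e he using fun x : s => hs x.2
  refine ⟨s.card, fun i => e (s.equivFin.symm i), fun t ht => h t fun j => ?_⟩
  have hle : Submodule.span (A ⊗[R] K) (s : Set (A ⊗[R] K)) ≤ Submodule.torsionBy (A ⊗[R] K) (A ⊗[R] K) t := by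
    refine Submodule.span_le.2 fun x hx => ?_
    have := ht (s.equivFin ⟨x, hx⟩)
    simp only [Equiv.symm_apply_apply] at this
    rw [SetLike.mem_coe, Submodule.mem_torsionBy_iff, smul_eq_mul, mul_comm, ← show _ = x from he ⟨x, hx⟩]
    exact this
  have := hle (hspan.le (Submodule.subset_span ⟨j, rfl⟩))
  rwa [Submodule.mem_torsionBy_iff, smul_eq_mul, mul_comm] at this

open AlgebraicGeometry CategoryTheory Limits TensorProduct in
/-- A finite family on one affine piece which is faithful on the generic fibre. -/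
theorem exists_piece {X Y : Scheme.{u}} (f : X ⟶ Y) [LocallyOfFiniteType f] (U : X.Opens)
    {U₀ : Y.Opens} (hU₀ : IsAffineOpen U₀) [hp : (nilradical Γ(Y, U₀)).IsPrime] {W : X.Opens} (hW : IsAffineOpen W)
    (hWU : W ≤ f ⁻¹ᵁ U₀)
    (h : IsSchemeTheoreticallyDominant (f.fiberι (hU₀.fromSpec ⟨nilradical Γ(Y, U₀), hp⟩) ⁻¹ᵁ U).ι) :
    ∃ (a : (Γ(Y, U₀) : Type u) ⧸ nilradical Γ(Y, U₀)) (r : ℕ) (g : Fin r → Γ(X, W)), a ≠ 0 ∧
      (∀ j, (PrimeSpectrum.basicOpen (g j) : Set (PrimeSpectrum Γ(X, W))) ⊆ hW.fromSpec.base ⁻¹' U) ∧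
      (let := (f.appLE U₀ W hWU).hom.toAlgebra
       ∀ (L : Type u) [Field L] [Algebra Γ(Y, U₀) L] (φ : (Γ(Y, U₀) : Type u) ⧸ nilradical Γ(Y, U₀) →+* L),
        φ.comp (Ideal.Quotient.mk _) = algebraMap Γ(Y, U₀) L → φ a ≠ 0 →
          Groth.FibreSTD.Faith fun j => (g j ⊗ₜ[Γ(Y, U₀)] (1 : L) : Γ(X, W) ⊗[Γ(Y, U₀)] L)) := by
  algebraize [(f.appLE U₀ W hWU).hom]
  have : Algebra.FiniteType Γ(Y, U₀) Γ(X, W) := f.finiteType_appLE hU₀ hW hWU
  let η : Spec Γ(Y, U₀) := ⟨nilradical Γ(Y, U₀), hp⟩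
  obtain ⟨ρ, hρ, hker⟩ := exists_rho hU₀ η
  let K := Y.residueField (hU₀.fromSpec η)
  let : Algebra Γ(Y, U₀) K := ρ.hom.toAlgebra
  have ho : 𝟙 (Spec (CommRingCat.of K)) ≫ Y.fromSpecResidueField (hU₀.fromSpec η) =
      Spec.map (CommRingCat.ofHom (algebraMap Γ(Y, U₀) K)) ≫ hU₀.fromSpec :=
    (Category.id_comp _).trans hρ.symm
  have ha : hW.fromSpec ≫ f = Spec.map (CommRingCat.ofHom (algebraMap Γ(Y, U₀) Γ(X, W))) ≫ hU₀.fromSpec :=
    (IsAffineOpen.SpecMap_appLE_fromSpec f hU₀ hW hWU).symm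
  let c : Spec (CommRingCat.of (Γ(X, W) ⊗[Γ(Y, U₀)] K)) ⟶ f.fiber (hU₀.fromSpec η) :=
    Groth.SchDom.tensorChart Γ(Y, U₀) K f (Y.fromSpecResidueField (hU₀.fromSpec η)) hU₀.fromSpec
      (𝟙 (Spec (CommRingCat.of K))) hW.fromSpec ha ho
  have : IsOpenImmersion c := by
    have h0 : IsOpenImmersion (Groth.SchDom.tensorChart Γ(Y, U₀) K f (Y.fromSpecResidueField (hU₀.fromSpec η))
        hU₀.fromSpec (𝟙 (Spec (CommRingCat.of K))) hW.fromSpec ha ho) := by
      unfold Groth.SchDom.tensorChart; infer_instance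
    exact h0
  let G := {g : Γ(X, W) // (PrimeSpectrum.basicOpen g : Set (PrimeSpectrum Γ(X, W))) ⊆ hW.fromSpec.base ⁻¹' U}
  have hc : ∀ z, f.fiberι (hU₀.fromSpec η) (c z) =
      hW.fromSpec (Spec.map (CommRingCat.ofHom Algebra.TensorProduct.includeLeftRingHom) z) := fun z => by
    exact (Scheme.Hom.comp_apply c _ z).symm.trans
      ((congrArg (fun m : Spec _ ⟶ X => m z) (Groth.SchDom.tensorChart_fst _ ha ho)).trans
        (Scheme.Hom.comp_apply _ _ z))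
  have : IsLocallyNoetherian (f.fiber (hU₀.fromSpec η)) :=
    have : LocallyOfFiniteType (f.fiberToSpecResidueField (hU₀.fromSpec η)) :=
      MorphismProperty.pullback_snd (P := @LocallyOfFiniteType) _ _ inferInstance
    LocallyOfFiniteType.isLocallyNoetherian (f.fiberToSpecResidueField (hU₀.fromSpec η))
  have hf : Groth.FibreSTD.Faith fun j : G => (j.1 ⊗ₜ[Γ(Y, U₀)] (1 : K) : Γ(X, W) ⊗[Γ(Y, U₀)] K) := by
    refine Groth.FibreSTD.faith_of_sd (T := CommRingCat.of (Γ(X, W) ⊗[Γ(Y, U₀)] K))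
      (f.fiberι (hU₀.fromSpec η) ⁻¹ᵁ U) c _ (Groth.FibreSTD.sd_of_std _) (fun j z hz => ?_) (fun z hz => ?_)
    · show f.fiberι (hU₀.fromSpec η) (c z) ∈ U
      rw [hc]
      exact j.2 hz
    · have hz' : f.fiberι (hU₀.fromSpec η) (c z) ∈ U := hz
      rw [hc] at hz'
      obtain ⟨_, ⟨_, ⟨g, rfl⟩, rfl⟩, hzg, hgU⟩ := PrimeSpectrum.isBasis_basic_opens.exists_subset_of_mem_open hz'
        (hW.fromSpec ⁻¹ᵁ U).isOpen
      exact ⟨⟨g, hgU⟩, hzg⟩
  obtain ⟨r, e, he⟩ := exists_finite_faith (fun j : G => j.1) hf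
  obtain ⟨a, ha0, hL⟩ := Groth.FibreSTD.exists_specialize (fun i => (e i).1) (K := K) hker he
  exact ⟨a, r, fun i => (e i).1, ha0, fun i => (e i).2, fun L _ _ φ hφ hφa => hL L φ hφ hφa⟩

open AlgebraicGeometry CategoryTheory Limits in
/-- Let f be of finite type with irreducible target and let U be an open of the source whose trace on
the generic fibre is scheme theoretically dense in it (the inclusion has trivial kernel ideal
sheaf). Then over some nonempty open of the target the trace of U on every fibre is scheme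
theoretically dense in that fibre. -/
theorem result {X Y : Scheme.{u}} (f : X ⟶ Y) [IrreducibleSpace ↑Y] [LocallyOfFiniteType f] [QuasiCompact f]
    (U : X.Opens) (h : IsSchemeTheoreticallyDominant (f.fiberι (genericPoint ↑Y) ⁻¹ᵁ U).ι) :
    ∃ V : Y.Opens, (V : Set ↑Y).Nonempty ∧ ∀ y ∈ V, IsSchemeTheoreticallyDominant (f.fiberι y ⁻¹ᵁ U).ι := by
  obtain ⟨U₀, hU₀, hη, -⟩ := exists_isAffineOpen_mem_and_subset
    (show genericPoint Y ∈ (⊤ : Y.Opens) from trivial)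
  have hprime := Groth.Calg2.Uniform.nilradical_isPrime_of_irreducible hU₀ ⟨_, hη⟩
  rw [← Groth.Calg2.Uniform.fromSpec_nilradical hU₀] at h
  obtain ⟨s, hs⟩ := (QuasiCompact.isCompact_preimage (f := f) U₀ U₀.isOpen hU₀.isCompact).elim_finite_subcover
    (fun W : {W : X.affineOpens // W.1 ≤ f ⁻¹ᵁ U₀} => (W.1.1 : Set X)) (fun W => W.1.1.isOpen) fun x hx => by
      obtain ⟨W, hW, hxW, hWU⟩ := exists_isAffineOpen_mem_and_subset (show x ∈ f ⁻¹ᵁ U₀ from hx)
      exact Set.mem_iUnion.2 ⟨⟨⟨W, hW⟩, hWU⟩, hxW⟩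
  choose a r g ha hgle hg using fun W : {W : X.affineOpens // W.1 ≤ f ⁻¹ᵁ U₀} =>
    exists_piece f U hU₀ W.1.2 W.2 h
  obtain ⟨V, hne, hV⟩ := Groth.Calg2.Uniform.exists_open hU₀ (∏ W ∈ s, a W)
    (Finset.prod_ne_zero_iff.2 fun W _ => ha W)
  refine ⟨V, hne, fun y hy => ?_⟩
  obtain ⟨p, rfl, hp⟩ := hV y hy
  refine Groth.FibreSTD.std_of_sd _ (Groth.SchDom.sd_of_dom_spec fun x => ?_)
  have hxy : f (f.fiberι (hU₀.fromSpec p) x) = hU₀.fromSpec p := by
    have : f.fiberι (hU₀.fromSpec p) x ∈ f.base ⁻¹' {hU₀.fromSpec p} := f.range_fiberι _ ▸ ⟨x, rfl⟩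
    exact this
  obtain ⟨W, hW, hxW⟩ := Set.mem_iUnion₂.1 (hs (show f.fiberι (hU₀.fromSpec p) x ∈ f ⁻¹ᵁ U₀ by
    show f (f.fiberι (hU₀.fromSpec p) x) ∈ U₀
    rw [hxy]
    exact hU₀.range_fromSpec.le ⟨p, rfl⟩))
  algebraize [(f.appLE U₀ W.1.1 W.2).hom]
  obtain ⟨ρ, hρ, hker⟩ := exists_rho hU₀ p
  let K := Y.residueField (hU₀.fromSpec p)
  let : Algebra Γ(Y, U₀) K := ρ.hom.toAlgebra
  obtain ⟨ψ, hψ, hψm⟩ := hp K ρ.hom hker
  have hfaith := hg W K ψ hψm fun h0 => hψ (by rw [map_prod, Finset.prod_eq_zero hW h0])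
  have ho : 𝟙 (Spec (CommRingCat.of K)) ≫ Y.fromSpecResidueField (hU₀.fromSpec p) =
      Spec.map (CommRingCat.ofHom (algebraMap Γ(Y, U₀) K)) ≫ hU₀.fromSpec :=
    (Category.id_comp _).trans hρ.symm
  have hap : W.1.2.fromSpec ≫ f =
      Spec.map (CommRingCat.ofHom (algebraMap Γ(Y, U₀) Γ(X, W.1.1))) ≫ hU₀.fromSpec :=
    (IsAffineOpen.SpecMap_appLE_fromSpec f hU₀ W.1.2 W.2).symm
  let c : Spec (CommRingCat.of (TensorProduct Γ(Y, U₀) Γ(X, W.1.1) K)) ⟶ f.fiber (hU₀.fromSpec p) :=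
    Groth.SchDom.tensorChart Γ(Y, U₀) K f (Y.fromSpecResidueField (hU₀.fromSpec p)) hU₀.fromSpec
      (𝟙 (Spec (CommRingCat.of K))) W.1.2.fromSpec hap ho
  have hcimm : IsOpenImmersion c := by
    have h0 : IsOpenImmersion (Groth.SchDom.tensorChart Γ(Y, U₀) K f (Y.fromSpecResidueField (hU₀.fromSpec p))
        hU₀.fromSpec (𝟙 (Spec (CommRingCat.of K))) W.1.2.fromSpec hap ho) := by
      unfold Groth.SchDom.tensorChart; infer_instance
    exact h0
  let T := TensorProduct Γ(Y, U₀) Γ(X, W.1.1) K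
  let gT : ULift.{u} (Fin (r W)) → T := fun j => g W j.down ⊗ₜ 1
  have hle : ∀ j, (PrimeSpectrum.basicOpen (gT j) : Set (PrimeSpectrum T)) ⊆
      c.base ⁻¹' (f.fiberι (hU₀.fromSpec p) ⁻¹ᵁ U) := fun j (z : Spec (CommRingCat.of T)) hz => by
    show f.fiberι (hU₀.fromSpec p) (c z) ∈ U
    have e : f.fiberι (hU₀.fromSpec p) (c z) =
        W.1.2.fromSpec (Spec.map (CommRingCat.ofHom (Algebra.TensorProduct.includeLeftRingHom (R := Γ(Y, U₀)) (A := Γ(X, W.1.1)) (B := K))) z) := by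
      exact (Scheme.Hom.comp_apply c _ z).symm.trans
        ((congrArg (fun m : Spec _ ⟶ X => m z) (Groth.SchDom.tensorChart_fst _ hap ho)).trans
          (Scheme.Hom.comp_apply _ _ z))
    rw [e]
    exact hgle W j.down hz
  refine ⟨CommRingCat.of T, c, hcimm, ULift.{u} (Fin (r W)), fun _ => PUnit.unit,
    fun j => CommRingCat.of (Localization.Away (gT j)),
    fun j => CommRingCat.ofHom (algebraMap T (Localization.Away (gT j))),
    fun j => Groth.FibreSTD.awayLift _ (T := CommRingCat.of T) c gT hle j,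
    fun j => Groth.FibreSTD.awayLift_fac _ (T := CommRingCat.of T) c gT hle j, ?_, ?_⟩
  · refine (Groth.SchDom.range_tensorChart (R := Γ(Y, U₀)) (R' := K) W.1.2.fromSpec hap ho).ge ⟨?_, ?_⟩
    · rw [Set.mem_preimage, W.1.2.range_fromSpec]; exact hxW
    · exact ⟨_, rfl⟩
  · exact Groth.FibreSTD.dom_of_faith (T := CommRingCat.of T) gT fun t ht => hfaith t fun j => ht ⟨j⟩

end Groth.Agent.S1300
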