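import Groth.Statements.S13001
import Groth.Agent.AlgStBasic.LocQDescend

set_option autoImplicit false
set_option backward.isDefEq.respectTransparency false
set_option backward.isDefEq.respectTransparency.types false
universe u
open CategoryTheory AlgebraicGeometry
open AlgSt

namespace Groth.Agent.S13001

/-- Let 𝒳 → 𝒴 → 𝒵 be morphisms of algebraic stacks with 𝒳 → 𝒵 locally of finite type and with 𝒳 → 𝒴
flat, surjective, locally of finite presentation and representable by algebraic spaces. In this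
situation 𝒴 → 𝒵 is also locally of finite type. -/
theorem result
    (S : Scheme.{u}) (𝒳 : AlgSt.Cat S) (𝒴 : AlgSt.Cat S) (𝒵 : AlgSt.Cat S)
    (h𝒳 : AlgSt.IsAlgStack Scheme.fppfPrecoverage 𝒳)
    (h𝒴 : AlgSt.IsAlgStack Scheme.fppfPrecoverage 𝒴)
    (h𝒵 : AlgSt.IsAlgStack Scheme.fppfPrecoverage 𝒵)
    (f : 𝒳 ⥤ᵇ 𝒴) (g : 𝒴 ⥤ᵇ 𝒵)
    (hf₁ : AlgSt.RepByAlgSpWith (AlgSp.LocP @Flat) f)
    (hf₂ : AlgSt.RepByAlgSpWith (AlgSp.LocP @LocallyOfFinitePresentation) f)
    (hf₃ : AlgSt.RepByAlgSpWith AlgSp.IsSurjectiveMor f) :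
    AlgSt.LocQ (AlgSp.LocP @LocallyOfFiniteType) (BasedFunctor.comp f g) → AlgSt.LocQ (AlgSp.LocP @LocallyOfFiniteType) g := by
  intro hfg
  have hfs : AlgSt.IsSurjective f :=
    (Groth.AlgStBasic.isSurjective_iff_repWith h𝒳.isStack.1 h𝒴.isStack.1 (Groth.AlgStBasic.repWith_repByAlgSp1 hf₃)).2 hf₃
  obtain ⟨U, W, V, a, b, has, h⟩ := Groth.AlgStBasic.exists_scheme_square_comp_surj h𝒳 h𝒴 h𝒵 f g hfs
  have : Flat a.left := Groth.AlgStBasic.left_prop_of_locP_yon ((h Groth.AlgStBasic.isSmoothLocalST_flat).1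
    (Groth.AlgStBasic.locQ_of_repWith Groth.AlgStBasic.stableBaseChange_locP Groth.AlgStBasic.descendsAlongAtlas_locP Groth.AlgStBasic.isSmoothLocalST_flat h𝒳 h𝒴 hf₁))
  have : LocallyOfFinitePresentation a.left := Groth.AlgStBasic.left_prop_of_locP_yon ((h Groth.AlgStBasic.isSmoothLocalST_lfp).1
    (Groth.AlgStBasic.locQ_of_repWith Groth.AlgStBasic.stableBaseChange_locP Groth.AlgStBasic.descendsAlongAtlas_locP Groth.AlgStBasic.isSmoothLocalST_lfp h𝒳 h𝒴 hf₂))
  have : LocallyOfFiniteType (a.left ≫ b.left) := Groth.AlgStBasic.left_prop_of_locP_yon ((h Groth.AlgStBasic.isSmoothLocalST_lft).2.2 hfg)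
  exact (h Groth.AlgStBasic.isSmoothLocalST_lft).2.1
    (Groth.AlgStBasic.locP_yon_of_left (Groth.GitQuot.FppfSource.locallyOfFiniteType_of_fppf a.left b.left))

end Groth.Agent.S13001
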