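import Groth.Statements.S13005
import Groth.Agent.AlgStBasic.LocQApps
import Groth.Agent.PropsBasic2.Misc

set_option autoImplicit false
set_option backward.isDefEq.respectTransparency false
set_option backward.isDefEq.respectTransparency.types false
universe u
open CategoryTheory AlgebraicGeometry
open AlgSt

namespace Groth.Agent.S13005

/-- Take morphisms of algebraic stacks f : 𝒳 → 𝒴 and g : 𝒴 → 𝒵. Suppose g is locally of finite type
while the composite 𝒳 → 𝒵 is locally of finite presentation; it follows that f is also locally of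
finite presentation. -/
theorem result
    (S : Scheme.{u}) (𝒳 : AlgSt.Cat S) (𝒴 : AlgSt.Cat S) (𝒵 : AlgSt.Cat S)
    (h𝒳 : AlgSt.IsAlgStack Scheme.fppfPrecoverage 𝒳)
    (h𝒴 : AlgSt.IsAlgStack Scheme.fppfPrecoverage 𝒴)
    (h𝒵 : AlgSt.IsAlgStack Scheme.fppfPrecoverage 𝒵)
    (f : 𝒳 ⥤ᵇ 𝒴) (g : 𝒴 ⥤ᵇ 𝒵) :
    AlgSt.LocQ (AlgSp.LocP @LocallyOfFinitePresentation) (BasedFunctor.comp f g) → AlgSt.LocQ (AlgSp.LocP @LocallyOfFiniteType) g →
      AlgSt.LocQ (AlgSp.LocP @LocallyOfFinitePresentation) f := by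
  intro hfg hg
  obtain ⟨U, W, V, a, b, h⟩ := Groth.AlgStBasic.exists_scheme_square_comp h𝒳 h𝒴 h𝒵 f g
  obtain ⟨hf, -, hc⟩ := h Groth.AlgStBasic.isSmoothLocalST_lfp
  have : LocallyOfFinitePresentation (a.left ≫ b.left) := Groth.AlgStBasic.left_prop_of_locP_yon (hc.1 hfg)
  have : LocallyOfFiniteType b.left := Groth.AlgStBasic.left_prop_of_locP_yon ((h Groth.AlgStBasic.isSmoothLocalST_lft).2.1.1 hg)
  exact hf.2 (Groth.AlgStBasic.locP_yon_of_left (Groth.PropsBasic2.lfp_of_comp a.left b.left))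

end Groth.Agent.S13005
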