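import Groth.Statements.S9960
import Groth.Agent.AlgSpBasic.SepLocal
import Groth.Agent.S4599

set_option autoImplicit false
universe u
open CategoryTheory CategoryTheory.Limits AlgebraicGeometry
open AlgSp Groth.AlgSpBasic

namespace Groth.Agent.S9960

local instance containsId : MorphismProperty.ContainsIdentities @LocallyOfFinitePresentation.{u} :=
  ⟨fun _ => inferInstance⟩

local instance isMul : MorphismProperty.IsMultiplicative @LocallyOfFinitePresentation.{u} where

/-- If `g` is locally of finite type and `f ≫ g` is locally of finite presentation, so is `f`. -/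
theorem cancel ⦃A B C : Scheme.{u}⦄ (f : A ⟶ B) (g : B ⟶ C)
    (h : LocallyOfFinitePresentation (f ≫ g)) (hg : LocallyOfFiniteType g) :
    LocallyOfFinitePresentation f := by
  have : MorphismProperty.HasOfPostcompProperty @LocallyOfFinitePresentation.{u}
      @LocallyOfFiniteType.{u} := MorphismProperty.hasOfPostcompProperty_iff_le_diagonal.2
    fun _ _ φ (_ : LocallyOfFiniteType φ) => Groth.Agent.S4599.result φ
  exact MorphismProperty.of_postcomp (W := @LocallyOfFinitePresentation.{u})
    (W' := @LocallyOfFiniteType.{u}) f g hg h

/-- The diagonal of a morphism locally of finite type is locally of finite presentation, and of finite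
presentation when the morphism is also quasi-separated. -/
theorem result {S : Scheme.{u}} {X Y : AlgSp.Space S} (f : X ⟶ Y)
    (hf : AlgSp.LocP @LocallyOfFiniteType f.hom) :
    AlgSp.LocP @LocallyOfFinitePresentation (pullback.diagonal f.hom) ∧
    (AlgSp.IsQuasiSeparatedMor f.hom → AlgSp.IsFinitePresentationMor (pullback.diagonal f.hom)) := by
  have hP := IsPullback.of_hasPullback f.hom f.hom
  have hXX := isAlgSpace_of_isPullback hP Y.property.diag X.property X.property
  have hd := monoLFT_diagonal X.property f.hom
  have h₁ : AlgSp.LocP @LocallyOfFiniteType (pullback.fst f.hom f.hom) :=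
    locP_of_isPullback X.property Y.property X.property hP.flip hf
  have h₂ : AlgSp.LocP @LocallyOfFinitePresentation
      (pullback.diagonal f.hom ≫ pullback.fst f.hom f.hom) := by
    rw [pullback.diagonal_fst]
    exact locP_of_repWith (repWith_isIso _)
  refine ⟨?_, fun hq => ?_⟩
  · exact locP_of_comp_of_cancel' cancel X.property hXX X.property h₂ h₁
  · refine ⟨locP_of_comp_of_cancel' cancel X.property hXX X.property h₂ h₁,
      isQuasiCompactMor_of_repWith X.property hXX hq, ?_⟩
    have := mono_of_repWith (fun _ _ _ h => h.1) hd
    exact repWith_isIso _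

end Groth.Agent.S9960
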