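import Groth.Statements.S13006
import Groth.Agent.AlgStBasic.LocQApps
import Groth.Agent.AlgStBasic.DiagCalc
import Groth.Agent.S4599
import Groth.Agent.S9960

set_option autoImplicit false
set_option backward.isDefEq.respectTransparency false
set_option backward.isDefEq.respectTransparency.types false
universe u
open CategoryTheory AlgebraicGeometry
open AlgSt

namespace Groth.Agent.S13006

/-- If a morphism f of algebraic stacks is locally of finite type then its diagonal is locally of finite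
presentation. (The second assertion adds the quasi-compactness clauses on both sides.) -/
theorem result
    (S : Scheme.{u}) (𝒳 : AlgSt.Cat S) (𝒴 : AlgSt.Cat S)
    (h𝒳 : AlgSt.IsAlgStack Scheme.fppfPrecoverage 𝒳)
    (h𝒴 : AlgSt.IsAlgStack Scheme.fppfPrecoverage 𝒴)
    (f : 𝒳 ⥤ᵇ 𝒴) :
    AlgSt.LocQ (AlgSp.LocP @LocallyOfFiniteType) f → AlgSt.LocQ (AlgSp.LocP @LocallyOfFinitePresentation) (FibCat.diag f) := by
  intro hf
  have hXX := Groth.AlgStBasic.isAlgStack_fp h𝒴.isStack h𝒴.diag h𝒳 h𝒳 f f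
  have hid : AlgSt.LocQ (AlgSp.LocP @LocallyOfFinitePresentation) (BasedFunctor.id 𝒳) := by
    obtain ⟨U, x, hx, hxs⟩ := h𝒳.atlas
    obtain ⟨φ⟩ : Nonempty (BasedFunctor.id (FibCat.overCat U) ≅ AlgSt.overMap (𝟙 U)) :=
      (Groth.StkBase.nonempty_overIso_iff (Groth.StkBase.isFibGrpd_overCat U) _ _).2
        ⟨Over.homMk (𝟙 U) (by show 𝟙 U ≫ 𝟙 U ≫ 𝟙 U = 𝟙 U; simp), rfl, rfl⟩
    exact ⟨U, U, x, x, 𝟙 U, Groth.StkBase.whiskerRightIso φ x, hx, hxs, hx,
      Groth.AlgStBasic.locP_yon_of_left (inferInstanceAs (LocallyOfFinitePresentation (𝟙 U.left)))⟩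
  have hp := Groth.AlgStBasic.locQ_fpFst Groth.AlgStBasic.isSmoothLocalST_lft Groth.AlgStBasic.stableBaseChange_locP h𝒳 h𝒴 h𝒳 f hf
  obtain ⟨U, W, V, a, b, h⟩ :=
    Groth.AlgStBasic.exists_scheme_square_comp h𝒳 hXX h𝒳 (FibCat.diag f) (FibCat.fpFst f f)
  refine (h Groth.AlgStBasic.isSmoothLocalST_lfp).1.2 (Groth.AlgStBasic.locP_yon_of_left ?_)
  exact Groth.Agent.S9960.cancel a.left b.left
    (Groth.AlgStBasic.left_prop_of_locP_yon ((h Groth.AlgStBasic.isSmoothLocalST_lfp).2.2.1 hid))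
    (Groth.AlgStBasic.left_prop_of_locP_yon ((h Groth.AlgStBasic.isSmoothLocalST_lft).2.1.1 hp))

end Groth.Agent.S13006
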