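import Groth.Statements.S13035
import Groth.Agent.AlgStBasic.StCover
import Groth.Agent.AlgStBasic.StCompact
import Groth.Agent.AlgStDVR.Points
import Groth.Agent.SchemeMorphisms.Points
import Groth.Agent.AlgSp3.ValCore

set_option backward.isDefEq.respectTransparency false
set_option backward.isDefEq.respectTransparency.types false

set_option autoImplicit false
universe u
open CategoryTheory AlgebraicGeometry
open AlgSt

namespace Groth.Agent.S13035

/-- Let f : 𝒳 → 𝒴 be a flat morphism of algebraic stacks and Spec A → 𝒴 a morphism with A a valuation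
ring whose closed point maps into the image of |𝒳| → |𝒴|. Then there are an extension of valuation
rings A → A' (an injective local homomorphism of valuation rings) and a morphism Spec A' → 𝒳 making
the square with Spec A' → Spec A → 𝒴 2-commute. -/
theorem result
    (S : Scheme.{u}) (𝒳 : AlgSt.Cat S) (𝒴 : AlgSt.Cat S)
    (h𝒳 : AlgSt.IsAlgStack Scheme.fppfPrecoverage 𝒳)
    (h𝒴 : AlgSt.IsAlgStack Scheme.fppfPrecoverage 𝒴)
    (f : 𝒳 ⥤ᵇ 𝒴)
    (hf : AlgSt.LocQ (AlgSp.LocP @Flat) f)
    (A : Type u) [CommRing A] [IsDomain A] [ValuationRing A] (sA : Spec (CommRingCat.of A) ⟶ S)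
    (a : FibCat.overCat (Over.mk sA) ⥤ᵇ 𝒴)
    (ha : AlgSt.Points.ofChart a (IsLocalRing.closedPoint A) ∈ Set.range (AlgSt.Points.map f)) :
    ∃ (A' : Type u) (_ : CommRing A') (_ : IsDomain A') (_ : ValuationRing A') (φ : A →+* A'),
      Function.Injective φ ∧ IsLocalHom φ ∧
      ∃ x : FibCat.overCat (Over.mk (Spec.map (CommRingCat.ofHom φ) ≫ sA)) ⥤ᵇ 𝒳,
        Nonempty (BasedFunctor.comp x f ≅
          BasedFunctor.comp (AlgSt.overMap (Over.homMk (Spec.map (CommRingCat.ofHom φ)) rfl :
            Over.mk (Spec.map (CommRingCat.ofHom φ) ≫ sA) ⟶ Over.mk sA)) a) := by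
  obtain ⟨W, α, x', ⟨e⟩, hrange, hP⟩ := Groth.AlgStBasic.exists_scheme_lift h𝒳 h𝒴 f a
  have : Flat α.left :=
    hP (fun _ _ g (_ : Smooth g) => inferInstance) Groth.AlgStBasic.isSmoothLocalST_flat hf
  obtain ⟨w, hw⟩ := hrange _ ha
  let ηA : PrimeSpectrum A := ⟨⊥, Ideal.isPrime_bot⟩
  have hη : (ηA : ↥(Spec (CommRingCat.of A))) ⤳ α.left w :=
    (PrimeSpectrum.le_iff_specializes ηA (α.left w)).1 bot_le
  obtain ⟨w', hww, hw'⟩ := Flat.generalizingMap α.left hη
  obtain ⟨A', g, hg, hgc⟩ := Groth.AlgSp3.exists_valuation_center (𝟙 W.left) (φ := w') (t := w) hww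
  let φ : A →+* A' := (Spec.preimage (g ≫ α.left)).hom
  have hφ : Spec.map (CommRingCat.ofHom φ) = g ≫ α.left := Spec.map_preimage _
  refine ⟨A', inferInstance, inferInstance, inferInstance, φ, ?_, ?_, ?_⟩
  · let z : ↥(Spec (CommRingCat.of (W.left.residueField w'))) :=
      (⟨⊥, Ideal.isPrime_bot⟩ : PrimeSpectrum (W.left.residueField w'))
    have h1 : (Spec.map (CommRingCat.ofHom (algebraMap A' (W.left.residueField w'))) ≫
        Spec.map (CommRingCat.ofHom φ)) z = ηA := by
      rw [hφ, ← Category.assoc, ← hg, Category.comp_id, Scheme.Hom.comp_apply]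
      exact (congrArg α.left (Scheme.fromSpecResidueField_apply w' z)).trans hw'
    rw [← Spec.map_comp] at h1
    have h2 : RingHom.ker ((algebraMap A' (W.left.residueField w')).comp φ) = ⊥ :=
      congrArg PrimeSpectrum.asIdeal h1
    exact Function.Injective.of_comp (f := algebraMap A' (W.left.residueField w'))
      ((RingHom.injective_iff_ker_eq_bot _).2 h2)
  · refine Groth.AlgSp3.isLocalHom_of_closedPoint φ ?_
    rw [hφ, Scheme.Hom.comp_apply, hgc]
    exact hw
  · have hα : α.left ≫ sA = W.hom := Over.w α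
    let gO : Over.mk (Spec.map (CommRingCat.ofHom φ) ≫ sA) ⟶ W :=
      Over.homMk g (by
        show g ≫ W.hom = Spec.map (CommRingCat.ofHom φ) ≫ sA
        rw [hφ, Category.assoc, hα])
    have ecomm : gO ≫ α = Over.homMk (Spec.map (CommRingCat.ofHom φ)) rfl :=
      Over.OverMorphism.ext hφ.symm
    exact ⟨BasedFunctor.comp (AlgSt.overMap gO) x',
      ⟨(Groth.StkBase.whiskerLeftIso (AlgSt.overMap gO) e).trans
        (Groth.StkBase.whiskerRightIso
          ((Groth.AlgStDVR.overMapComp gO α).trans (Groth.AlgStDVR.overMapCongr ecomm)) a)⟩⟩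

end Groth.Agent.S13035
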