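import Groth.Statements.S13036
import Groth.Agent.AlgStBasic.StCover
import Groth.Agent.AlgStBasic.StCompact
import Groth.Agent.AlgStDVR.Points
import Groth.Agent.SchemeMorphisms.Points
import Groth.Agent.AlgSp3.ValCore

set_option backward.isDefEq.respectTransparency false
set_option backward.isDefEq.respectTransparency.types false

set_option autoImplicit false
universe u
open CategoryTheory AlgebraicGeometry
open AlgSt
open CategoryTheory.Limits Groth.StkBase Groth.AlgStBasic Groth.AlgStDVR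

namespace Groth.Agent.S13036

/-- Let f : 𝒳 → 𝒴 be a quasi-compact morphism of algebraic stacks and y a point of |𝒴| in the closure of
the image of |f|. Then there are a valuation ring A with fraction field K and a 2-commutative square
Spec K → 𝒳, Spec A → 𝒴 (over Spec K → Spec A and f) such that the closed point of Spec A maps to y. -/
theorem result
    (S : Scheme.{u}) (𝒳 : AlgSt.Cat S) (𝒴 : AlgSt.Cat S)
    (h𝒳 : AlgSt.IsAlgStack Scheme.fppfPrecoverage 𝒳)
    (h𝒴 : AlgSt.IsAlgStack Scheme.fppfPrecoverage 𝒴)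
    (f : 𝒳 ⥤ᵇ 𝒴)
    (hf : AlgSt.IsQuasiCompactMor Scheme.fppfPrecoverage f)
    (y : AlgSt.Points 𝒴) (hy : y ∈ closure (Set.range (AlgSt.Points.map f))) :
    ∃ (A : Type u) (_ : CommRing A) (_ : IsDomain A) (_ : ValuationRing A) (sA : Spec (CommRingCat.of A) ⟶ S)
      (a : FibCat.overCat (Over.mk sA) ⥤ᵇ 𝒴)
      (x : FibCat.overCat (Over.mk (Spec.map (CommRingCat.ofHom (algebraMap A (FractionRing A))) ≫ sA)) ⥤ᵇ 𝒳),
      Nonempty (BasedFunctor.comp x f ≅
        BasedFunctor.comp (AlgSt.overMap (Over.homMk (Spec.map (CommRingCat.ofHom (algebraMap A (FractionRing A)))) rfl :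
          Over.mk (Spec.map (CommRingCat.ofHom (algebraMap A (FractionRing A))) ≫ sA) ⟶ Over.mk sA)) a) ∧
      AlgSt.Points.ofChart a (IsLocalRing.closedPoint A) = y := by
  have hX := h𝒳.isStack.1
  have hY := h𝒴.isStack.1
  obtain ⟨U, yU, hyU, hyUs⟩ := h𝒴.atlas
  obtain ⟨u, rfl⟩ := surjective_ofChart hY hyUs y
  obtain ⟨V₀, hV₀, huV, -⟩ := exists_isAffineOpen_mem_and_subset (X := U.left) (x := u)
    (U := ⊤) trivial
  let V : Over S := Over.mk (V₀.ι ≫ U.hom)
  have : IsAffine V.left := hV₀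
  have : CompactSpace ↥V.left := inferInstance
  let jV : V ⟶ U := Over.homMk V₀.ι rfl
  let yV := BasedFunctor.comp (AlgSt.overMap jV) yU
  let v : ↥V.left := ⟨u, huV⟩
  have hv : AlgSt.Points.ofChart yV v = AlgSt.Points.ofChart yU u := ofChart_overMap jV yU v
  have hopen : IsOpenMap (AlgSt.Points.ofChart yV) := by
    intro O hO
    have : AlgSt.Points.ofChart yV '' O = AlgSt.Points.ofChart yU '' (jV.left '' O) := by
      rw [Set.image_image]
      exact Set.image_congr fun t _ => ofChart_overMap jV yU t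
    rw [this]
    exact isOpenMap_ofChart_of_smooth hY hyU _ (V₀.ι.isOpenEmbedding.isOpenMap _ hO)
  obtain ⟨W₀, w₀, hW, -, hws⟩ := hf _ (isAlgStack_overCat V) isQuasiCompact_overCat yV
  obtain ⟨α₀, ⟨e₀⟩⟩ := exists_iso_overMap (BasedFunctor.comp w₀ (FibCat.fpFst yV f))
  have hgf : BasedFunctor.comp (BasedFunctor.comp w₀ (FibCat.fpSnd yV f)) f ≅
      BasedFunctor.comp (AlgSt.overMap α₀) yV :=
    (whiskerLeftIso w₀ (FibCat.fpIso yV f).symm).trans (whiskerRightIso e₀ yV)
  have hvc : v ∈ closure (Set.range α₀.left) := by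
    refine mem_closure_iff.2 fun O hO hvO => ?_
    obtain ⟨-, ⟨n, hn, rfl⟩, x, hnx⟩ := mem_closure_iff.1 hy _ (hopen O hO) ⟨v, hvO, hv⟩
    obtain ⟨z, hz₁, -⟩ := exists_points_fp hX hY (isFibGrpd_overCat V) f yV
      (AlgSt.Points.ofChart (BasedFunctor.id _) n) x (by rw [← ofChart_eq_map, hnx])
    obtain ⟨w, rfl⟩ := surjective_ofChart (isFibGrpd_fp (isFibGrpd_overCat V) hX hY) hws z
    refine ⟨n, hn, w, ?_⟩
    rw [← toPt_ofChart e₀ w, toPt, hz₁, ptToScheme_ofChart_id]
  have : QuasiCompact α₀.left := (quasiCompact_iff_compactSpace _).2 inferInstance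
  obtain ⟨w, hw⟩ := Groth.SchemeMorphisms.exists_specializes_of_mem_closure_range _ hvc
  obtain ⟨A, g, hg, hgc⟩ := Groth.AlgSp3.exists_valuation_center α₀.left hw
  let e := FractionRing.algEquiv A (W₀.left.residueField w)
  let kA : Spec (CommRingCat.of (FractionRing A)) ⟶ W₀.left :=
    Spec.map (CommRingCat.ofHom (e.symm : W₀.left.residueField w →+* FractionRing A)) ≫
      W₀.left.fromSpecResidueField w
  have hk : kA ≫ α₀.left = Spec.map (CommRingCat.ofHom (algebraMap A (FractionRing A))) ≫ g := by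
    simp only [kA, Category.assoc, hg, ← Spec.map_comp_assoc, ← CommRingCat.ofHom_comp]
    exact congrArg (fun q => Spec.map (CommRingCat.ofHom q) ≫ g)
      (RingHom.ext fun r => e.symm.commutes r)
  let sA : Spec (CommRingCat.of A) ⟶ S := g ≫ V.hom
  let gO : Over.mk sA ⟶ V := Over.homMk g rfl
  let kO : Over.mk (Spec.map (CommRingCat.ofHom (algebraMap A (FractionRing A))) ≫ sA) ⟶ W₀ :=
    Over.homMk kA (by
      show kA ≫ W₀.hom = Spec.map _ ≫ g ≫ V.hom
      rw [← Over.w α₀, reassoc_of% hk])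
  have ecomm : kO ≫ α₀ = Over.homMk
      (Spec.map (CommRingCat.ofHom (algebraMap A (FractionRing A)))) rfl ≫ gO :=
    Over.OverMorphism.ext hk
  refine ⟨A, inferInstance, inferInstance, inferInstance, sA, BasedFunctor.comp (AlgSt.overMap gO) yV,
    BasedFunctor.comp (AlgSt.overMap kO) (BasedFunctor.comp w₀ (FibCat.fpSnd yV f)), ⟨?_⟩, ?_⟩
  · exact (whiskerLeftIso (AlgSt.overMap kO) hgf).trans
      (whiskerRightIso ((overMapComp kO α₀).trans ((overMapCongr ecomm).trans
        (overMapComp _ gO).symm)) yV)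
  · rw [ofChart_overMap]
    exact (congrArg (AlgSt.Points.ofChart yV) hgc).trans hv

end Groth.Agent.S13036
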