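import Groth.Statements.S13041
-- import your own Groth.Agent.* helpers here
import Mathlib.RingTheory.Flat.Basic
import Mathlib.Tactic

set_option autoImplicit false
universe u
open MaxMod

namespace Groth.Agent.S13041

open scoped TensorProduct

/-- Let R be a domain with fraction field K, let A → B be a homomorphism of commutative R-algebras that
are flat over R, with B module-finite over A, such that the induced map K ⊗_R A → K ⊗_R B is
bijective. If the A-linear map Hom_A(B, A) → A evaluating at 1 is surjective, then A → B is
bijective. (The published statement concerns a finite morphism of flat schemes over a discrete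
valuation ring, with locally free relative dualizing sheaves, that is an isomorphism over a
schematically dense open and whose trace map on dualizing sheaves is surjective; this row is the
statement about rings to which the printed proof reduces it and which that proof establishes, and
the argument uses only that R is a domain.) -/
theorem result
    (R K A B : Type u) [CommRing R] [IsDomain R] [Field K] [Algebra R K] [IsFractionRing R K]
    [CommRing A] [CommRing B] [Algebra R A] [Algebra R B] [Algebra A B] [IsScalarTower R A B]
    [Module.Flat R A] [Module.Flat R B] [Module.Finite A B]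
    (hK : Function.Bijective
      (Algebra.TensorProduct.map (AlgHom.id R K) (IsScalarTower.toAlgHom R A B)))
    (htr : Function.Surjective (fun u : B →ₗ[A] A => u 1)) :
    Function.Bijective (algebraMap A B) := by
  obtain ⟨u, hu : u 1 = 1⟩ := htr 1
  have inj : ∀ (M : Type u) [AddCommGroup M] [Module R M] [Module.Flat R M],
      Function.Injective (fun m : M => (1 : K) ⊗ₜ[R] m) := by
    intro M _ _ _
    have h := Module.Flat.rTensor_preserves_injective_linearMap (M := M) (Algebra.linearMap R K)
      (IsFractionRing.injective R K)
    have h2 := h.comp (TensorProduct.lid R M).symm.injective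
    convert h2 using 1
    ext m
    simp
  have key : ∀ z : K ⊗[R] A, ∃ r : R, r ≠ 0 ∧ ∃ a : A, r • z = (1 : K) ⊗ₜ[R] a := by
    intro z
    induction z using TensorProduct.induction_on with
    | zero => exact ⟨1, one_ne_zero, 0, by simp⟩
    | tmul c a =>
      obtain ⟨n, d, hd, rfl⟩ := IsFractionRing.div_surjective R c
      refine ⟨d, nonZeroDivisors.ne_zero hd, n • a, ?_⟩
      have hd' : algebraMap R K d ≠ 0 := fun h =>
        nonZeroDivisors.ne_zero hd (IsFractionRing.injective R K (h.trans (map_zero _).symm))
      rw [← TensorProduct.smul_tmul, TensorProduct.smul_tmul', Algebra.smul_def, Algebra.smul_def, mul_one,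
        mul_div_cancel₀ _ hd']
    | add z w hz hw =>
      obtain ⟨r, hr, a, ha⟩ := hz
      obtain ⟨r', hr', a', ha'⟩ := hw
      refine ⟨r' * r, mul_ne_zero hr' hr, r' • a + r • a', ?_⟩
      rw [smul_add, TensorProduct.tmul_add, TensorProduct.tmul_smul, TensorProduct.tmul_smul, ← ha, ← ha',
        smul_smul, smul_smul, mul_comm r r']
  refine ⟨fun a a' h => inj A (hK.1 ?_), fun x => ⟨u x, ?_⟩⟩
  · simp [h]
  · obtain ⟨z, hz⟩ := hK.2 ((1 : K) ⊗ₜ[R] x)
    obtain ⟨r, hr, a, ha⟩ := key z
    have e : algebraMap A B a = r • x := by
      refine inj B ?_
      show (1 : K) ⊗ₜ[R] algebraMap A B a = (1 : K) ⊗ₜ[R] (r • x)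
      rw [TensorProduct.tmul_smul, ← hz, ← map_smul, ha]
      simp
    have e2 : r • u x = a := by
      have h1 := congrArg u e
      rw [LinearMap.map_smul_of_tower, Algebra.algebraMap_eq_smul_one, map_smul, hu, smul_eq_mul, mul_one] at h1
      exact h1.symm
    have e3 : r • (algebraMap A B (u x) - x) = 0 := by
      rw [smul_sub, ← e, ← e2]
      simp [Algebra.smul_def, IsScalarTower.algebraMap_apply R A B]
    have e4 : (1 : K) ⊗ₜ[R] (algebraMap A B (u x) - x) = 0 := by
      have h0 : (algebraMap R K r) ⊗ₜ[R] (algebraMap A B (u x) - x) = 0 := by
        rw [Algebra.algebraMap_eq_smul_one, TensorProduct.smul_tmul, e3, TensorProduct.tmul_zero]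
      have h1 := congrArg ((algebraMap R K r)⁻¹ • ·) h0
      simp only [TensorProduct.smul_tmul', smul_zero, smul_eq_mul] at h1
      rwa [inv_mul_cancel₀ (fun h => hr (IsFractionRing.injective R K (h.trans (map_zero _).symm)))] at h1
    exact sub_eq_zero.1 (inj B (e4.trans (TensorProduct.tmul_zero _ _).symm))

end Groth.Agent.S13041
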