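import Groth.Statements.S13042
-- import your own Groth.Agent.* helpers here
import Mathlib.Algebra.CharP.Lemmas
import Mathlib.Tactic

set_option autoImplicit false
universe u
open MaxMod

namespace Groth.Agent.S13042

theorem frob {Q : Type*} [CommRing Q] {p : ℕ} (hp : p.Prime) (h : (p : Q) = 0) (x y : Q) :
    (x + y) ^ p = x ^ p + y ^ p := by
  obtain ⟨r, hr⟩ := exists_add_pow_prime_eq hp x y
  rw [hr, h]; ring

open MvPolynomial in
/-- Let p be a prime, R a local ring of characteristic p, λ an element of the maximal ideal of R and f ∈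
R. Then there is an isomorphism of R-algebras R[W₁, W₂]/(W₁^p − f, W₂^p − f) ≅ R[x, W]/(x^p, W^p −
f) with W₁ ↦ x + W + λ·x·W and W₂ ↦ W; that is, Spec R[W]/(W^p − f) with the action w ↦ x + w + λxw
is a torsor under the group scheme Spec R[x]/(x^p) with law x₁ ∘ x₂ = x₁ + x₂ + λx₁x₂. (The
published statement is over a complete discrete valuation ring of characteristic p with λ a nonzero
nonunit, and also asserts that for f in the fraction field with negative valuation v(f) > −p·v(λ)
the torsor W^p = f extends to a torsor over R, using the coordinate 1/W; that second case fails: for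
p = 2, λ = π a uniformizer and f = 1/π, every model is Spec R[π^a t] with t² = π, and none of these
is a torsor since the coaction sends t to t − π(1 + t)x. Only the case f ∈ R is stated, and the
argument there uses only that R is local of characteristic p.) -/
theorem result
    (p : ℕ) [Fact p.Prime] (R : Type u) [CommRing R] [IsLocalRing R] [CharP R p]
    (lam f : R) (hlam : lam ∈ IsLocalRing.maximalIdeal R) :
    ∃ e : (MvPolynomial (Fin 2) R ⧸ Ideal.span {(X 0 ^ p - C f : MvPolynomial (Fin 2) R), X 1 ^ p - C f}) ≃ₐ[R]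
        (MvPolynomial (Fin 2) R ⧸ Ideal.span {(X 0 ^ p : MvPolynomial (Fin 2) R), X 1 ^ p - C f}),
      e (Ideal.Quotient.mk _ (X 0)) = Ideal.Quotient.mk _ (X 0 + X 1 + C lam * X 0 * X 1) ∧
      e (Ideal.Quotient.mk _ (X 1)) = Ideal.Quotient.mk _ (X 1) := by
  have hp := (Fact.out : p.Prime)
  set I := Ideal.span {(X 0 ^ p - C f : MvPolynomial (Fin 2) R), X 1 ^ p - C f} with hI
  set J := Ideal.span {(X 0 ^ p : MvPolynomial (Fin 2) R), X 1 ^ p - C f} with hJ
  have hu : IsUnit (1 + lam ^ p * f) := by
    by_contra h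
    have h2 : lam ^ p * f ∈ IsLocalRing.maximalIdeal R :=
      Ideal.mul_mem_right _ _ (Ideal.pow_mem_of_mem _ hlam p hp.pos)
    exact (IsLocalRing.maximalIdeal.isMaximal R).ne_top ((Ideal.eq_top_iff_one _).2
      (by simpa using sub_mem ((IsLocalRing.mem_maximalIdeal _).2 h) h2))
  obtain ⟨w, hw⟩ := hu.exists_left_inv
  set a : MvPolynomial (Fin 2) R ⧸ I := Ideal.Quotient.mk I (X 0) with hadef
  set b : MvPolynomial (Fin 2) R ⧸ I := Ideal.Quotient.mk I (X 1) with hbdef
  set x : MvPolynomial (Fin 2) R ⧸ J := Ideal.Quotient.mk J (X 0) with hxdef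
  set y : MvPolynomial (Fin 2) R ⧸ J := Ideal.Quotient.mk J (X 1) with hydef
  have ha : a ^ p = algebraMap R _ f := by
    rw [hadef, ← map_pow, (Ideal.Quotient.mk_eq_mk_iff_sub_mem _ _).2 (Ideal.subset_span (Set.mem_insert _ _))]; rfl
  have hb : b ^ p = algebraMap R _ f := by
    rw [hbdef, ← map_pow]
    exact (Ideal.Quotient.mk_eq_mk_iff_sub_mem _ (C f)).2 (Ideal.subset_span (Set.mem_insert_of_mem _ rfl))
  have hx : x ^ p = 0 := by
    rw [hxdef, ← map_pow, Ideal.Quotient.eq_zero_iff_mem]
    exact Ideal.subset_span (Set.mem_insert _ _)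
  have hy : y ^ p = algebraMap R _ f := by
    rw [hydef, ← map_pow]
    exact (Ideal.Quotient.mk_eq_mk_iff_sub_mem _ (C f)).2 (Ideal.subset_span (Set.mem_insert_of_mem _ rfl))
  have hpI : (p : MvPolynomial (Fin 2) R ⧸ I) = 0 := by
    rw [← map_natCast (algebraMap R _), CharP.cast_eq_zero, map_zero]
  have hpJ : (p : MvPolynomial (Fin 2) R ⧸ J) = 0 := by
    rw [← map_natCast (algebraMap R _), CharP.cast_eq_zero, map_zero]
  set xx : MvPolynomial (Fin 2) R ⧸ I :=
    (a - b) * (1 + algebraMap R _ lam * b) ^ (p - 1) * algebraMap R _ w with hxx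
  have hub : (1 + algebraMap R _ lam * b) ^ p * algebraMap R _ w = 1 := by
    rw [frob hp hpI, one_pow, mul_pow, hb, ← map_pow, ← map_mul, ← map_one (algebraMap R _), ← map_add,
      ← map_mul, mul_comm _ w, hw]
  have huy : (1 + algebraMap R _ lam * y) ^ p * algebraMap R _ w = 1 := by
    rw [frob hp hpJ, one_pow, mul_pow, hy, ← map_pow, ← map_mul, ← map_one (algebraMap R _), ← map_add,
      ← map_mul, mul_comm _ w, hw]
  have hxxp : xx ^ p = 0 := by
    have h0 : (a - b) ^ p = 0 := by
      have := frob hp hpI (a - b) b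
      rw [sub_add_cancel, ha, hb] at this
      simpa using this
    rw [hxx, mul_pow, mul_pow, h0, zero_mul, zero_mul]
  have hxy : (x + y + algebraMap R _ lam * x * y) ^ p = algebraMap R _ f := by
    rw [frob hp hpJ, frob hp hpJ, mul_pow, mul_pow, hx, hy]; simp
  let F : (MvPolynomial (Fin 2) R ⧸ I) →ₐ[R] (MvPolynomial (Fin 2) R ⧸ J) :=
    Ideal.Quotient.liftₐ I (aeval ![x + y + algebraMap R _ lam * x * y, y]) (fun z hz => by
      have : I ≤ RingHom.ker (aeval ![x + y + algebraMap R _ lam * x * y, y]) := by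
        rw [hI, Ideal.span_le]
        rintro _ (rfl | rfl) <;> simp [RingHom.mem_ker, hxy, hy]
      exact this hz)
  let G : (MvPolynomial (Fin 2) R ⧸ J) →ₐ[R] (MvPolynomial (Fin 2) R ⧸ I) :=
    Ideal.Quotient.liftₐ J (aeval ![xx, b]) (fun z hz => by
      have : J ≤ RingHom.ker (aeval ![xx, b]) := by
        rw [hJ, Ideal.span_le]
        rintro _ (rfl | rfl) <;> simp [RingHom.mem_ker, hxxp, hb]
      exact this hz)
  have hFa : F a = x + y + algebraMap R _ lam * x * y := by
    show (aeval ![x + y + algebraMap R _ lam * x * y, y]) (X 0) = _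
    simp
  have hFb : F b = y := by
    show (aeval ![x + y + algebraMap R _ lam * x * y, y]) (X 1) = _
    simp
  have hGx : G x = xx := by
    show (aeval ![xx, b]) (X 0) = _
    simp
  have hGy : G y = b := by
    show (aeval ![xx, b]) (X 1) = _
    simp
  have hp1 : p - 1 + 1 = p := Nat.sub_add_cancel hp.pos
  refine ⟨AlgEquiv.ofAlgHom F G ?_ ?_, ?_, hFb⟩
  · refine Ideal.Quotient.algHom_ext _ (MvPolynomial.algHom_ext fun i => ?_)
    fin_cases i
    · show F (G x) = x
      rw [hGx, hxx, map_mul, map_mul, map_pow, map_sub, map_add, map_one, map_mul, hFa, hFb,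
        AlgHom.commutes, AlgHom.commutes]
      calc _ = x * ((1 + algebraMap R _ lam * y) ^ (p - 1 + 1) * algebraMap R _ w) := by ring
        _ = x := by rw [hp1, huy, mul_one]
    · show F (G y) = y
      rw [hGy, hFb]
  · refine Ideal.Quotient.algHom_ext _ (MvPolynomial.algHom_ext fun i => ?_)
    fin_cases i
    · show G (F a) = a
      rw [hFa, map_add, map_add, map_mul, map_mul, hGx, hGy, AlgHom.commutes, hxx]
      calc _ = (a - b) * ((1 + algebraMap R _ lam * b) ^ (p - 1 + 1) * algebraMap R _ w) + b := by ring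
        _ = a := by rw [hp1, hub, mul_one, sub_add_cancel]
    · show G (F b) = b
      rw [hFb, hGy]
  · show F a = _
    rw [hFa, map_add, map_add, map_mul, map_mul]
    rfl

end Groth.Agent.S13042
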