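import Groth.Statements.S13044
import Mathlib
import Groth.Agent.NeronArea.GenericDense

set_option autoImplicit false
universe u
open MaxMod

namespace Groth.Agent.S13044

open CategoryTheory CategoryTheory.Limits AlgebraicGeometry

theorem factor {R K : Type u} [CommRing R] [IsDomain R] [Field K] [Algebra R K] [IsFractionRing R K]
    {Y Γ W : Scheme.{u}} (f : Y ⟶ Spec (CommRingCat.of R)) (p₁ p₂ : Γ ⟶ Y) (h : p₁ ≫ f = p₂ ≫ f)
    (hΓ : IsClosedImmersion (pullback.lift p₁ p₂ h)) (u v : W ⟶ Y) (huv : u ≫ f = v ≫ f) [Flat (u ≫ f)]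
    (hgen : ∀ (T : Scheme.{u}) (s : T ⟶ Spec (CommRingCat.of K)) (c : T ⟶ W),
      c ≫ u ≫ f = s ≫ Spec.map (CommRingCat.ofHom (algebraMap R K)) →
      ∃ g : T ⟶ Γ, g ≫ p₁ = c ≫ u ∧ g ≫ p₂ = c ≫ v) :
    ∃ g : W ⟶ Γ, g ≫ p₁ = u ∧ g ≫ p₂ = v := by
  let η := Spec.map (CommRingCat.ofHom (algebraMap R K))
  haveI : IsSchemeTheoreticallyDominant η :=
    Groth.NeronArea.isSchemeTheoreticallyDominant_specMap _ (IsFractionRing.injective R K)
  haveI : QuasiCompact η := inferInstance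
  haveI : IsSchemeTheoreticallyDominant (pullback.fst (u ≫ f) η) :=
    IsSchemeTheoreticallyDominant.of_isPullback (IsPullback.of_hasPullback (u ≫ f) η).flip
  obtain ⟨g, hg₁, hg₂⟩ := hgen _ (pullback.snd (u ≫ f) η) (pullback.fst (u ≫ f) η) pullback.condition
  obtain ⟨b, hb⟩ := Groth.NeronArea.exists_lift_of_dominant (pullback.lift p₁ p₂ h) (pullback.lift u v huv)
    (pullback.fst (u ≫ f) η) g (by
      apply pullback.hom_ext
      · rw [Category.assoc, Category.assoc, pullback.lift_fst, pullback.lift_fst, hg₁]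
      · rw [Category.assoc, Category.assoc, pullback.lift_snd, pullback.lift_snd, hg₂])
  refine ⟨b, ?_, ?_⟩
  · rw [← pullback.lift_fst p₁ p₂ h, reassoc_of% hb, pullback.lift_fst]
  · rw [← pullback.lift_snd p₁ p₂ h, reassoc_of% hb, pullback.lift_snd]


open CategoryTheory Limits AlgebraicGeometry in
/-- Let R be a discrete valuation ring with fraction field K, let Y be a flat separated R-scheme and let
Γ → Y ×_R Y be a closed subscheme, with projections p₁, p₂ : Γ → Y, such that Γ is flat over R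
(equivalently, Γ is the schematic closure of its generic fibre) and p₁, p₂ are flat. If for every
scheme T over Spec K the relation on the T-valued points of Y defined by the T-valued points of Γ is
an equivalence relation, then for every scheme T over Spec R that relation is an equivalence
relation: Γ is a flat equivalence relation on Y. -/
theorem result
    (R K : Type u) [CommRing R] [IsDomain R] [IsDiscreteValuationRing R]
    [Field K] [Algebra R K] [IsFractionRing R K]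
    (Y Γ : Scheme.{u}) (f : Y ⟶ Spec (CommRingCat.of R)) [IsSeparated f] [Flat f]
    (p₁ p₂ : Γ ⟶ Y) (h : p₁ ≫ f = p₂ ≫ f)
    (hΓ : IsClosedImmersion (pullback.lift p₁ p₂ h))
    [Flat (p₁ ≫ f)] [Flat p₁] [Flat p₂]
    (hK : ∀ (T : Scheme.{u}) (t : T ⟶ Spec (CommRingCat.of R)),
      (∃ s : T ⟶ Spec (CommRingCat.of K), t = s ≫ Spec.map (CommRingCat.ofHom (algebraMap R K))) →
      _root_.Equivalence fun a b : {a : T ⟶ Y // a ≫ f = t} =>
        ∃ c : T ⟶ Γ, c ≫ p₁ = a.1 ∧ c ≫ p₂ = b.1) :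
    ∀ (T : Scheme.{u}) (t : T ⟶ Spec (CommRingCat.of R)),
      _root_.Equivalence fun a b : {a : T ⟶ Y // a ≫ f = t} =>
        ∃ c : T ⟶ Γ, c ≫ p₁ = a.1 ∧ c ≫ p₂ = b.1 := by
  have hr := factor f p₁ p₂ h hΓ (𝟙 Y) (𝟙 Y) rfl (hgen := fun T s c hc => by
    simp only [Category.id_comp] at hc
    obtain ⟨g, h1, h2⟩ := (hK T (c ≫ f) ⟨s, hc⟩).refl ⟨c, rfl⟩
    exact ⟨g, by simpa using h1, by simpa using h2⟩)
  haveI : Flat (p₂ ≫ f) := h ▸ ‹Flat (p₁ ≫ f)›
  have hs := factor f p₁ p₂ h hΓ p₂ p₁ h.symm (hgen := fun T s c hc => by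
    obtain ⟨g, h1, h2⟩ := (hK T (c ≫ p₂ ≫ f) ⟨s, hc⟩).symm
      (x := ⟨c ≫ p₁, by rw [Category.assoc, h]⟩) (y := ⟨c ≫ p₂, Category.assoc _ _ _⟩)
      ⟨c, rfl, rfl⟩
    exact ⟨g, h1, h2⟩)
  have hcond : pullback.fst p₂ p₁ ≫ p₁ ≫ f = pullback.snd p₂ p₁ ≫ p₂ ≫ f := by
    rw [h, pullback.condition_assoc, h]
  haveI : Flat ((pullback.fst p₂ p₁ ≫ p₁) ≫ f) := by rw [Category.assoc]; infer_instance
  have ht := factor f p₁ p₂ h hΓ (pullback.fst p₂ p₁ ≫ p₁) (pullback.snd p₂ p₁ ≫ p₂)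
    (by simp only [Category.assoc, hcond]) (hgen := fun T s c hc => by
    obtain ⟨g, h1, h2⟩ := (hK T (c ≫ (pullback.fst p₂ p₁ ≫ p₁) ≫ f) ⟨s, hc⟩).trans
      (x := ⟨c ≫ pullback.fst p₂ p₁ ≫ p₁, by simp only [Category.assoc]⟩)
      (y := ⟨c ≫ pullback.fst p₂ p₁ ≫ p₂, by simp only [Category.assoc, h]⟩)
      (z := ⟨c ≫ pullback.snd p₂ p₁ ≫ p₂, by simp only [Category.assoc, hcond]⟩)
      ⟨c ≫ pullback.fst p₂ p₁, by simp, by simp⟩
      ⟨c ≫ pullback.snd p₂ p₁, by simp [pullback.condition], by simp⟩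
    exact ⟨g, h1, h2⟩)
  intro T t
  refine ⟨fun a => ?_, fun {a b} hab => ?_, fun {a b c} hab hbc => ?_⟩
  · obtain ⟨g, h1, h2⟩ := hr
    exact ⟨a.1 ≫ g, by simp [h1], by simp [h2]⟩
  · obtain ⟨g, h1, h2⟩ := hs
    obtain ⟨d, d1, d2⟩ := hab
    exact ⟨d ≫ g, by simp [h1, d2], by simp [h2, d1]⟩
  · obtain ⟨g, h1, h2⟩ := ht
    obtain ⟨d, d1, d2⟩ := hab
    obtain ⟨d', d1', d2'⟩ := hbc
    exact ⟨pullback.lift d d' (d2.trans d1'.symm) ≫ g,
      by rw [Category.assoc, h1, pullback.lift_fst_assoc, d1], by rw [Category.assoc, h2, pullback.lift_snd_assoc, d2']⟩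

end Groth.Agent.S13044
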