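import Groth.Statements.S13047
import Mathlib.Algebra.Polynomial.Div
import Mathlib.Tactic.LinearCombination
import Mathlib.Tactic.Positivity
import Mathlib.RingTheory.Ideal.Quotient.Operations

set_option autoImplicit false
universe u
open FrobAlg

namespace Groth.Agent.S13047

section
set_option maxHeartbeats 1000000
open W4c1imperftorsors TensorProduct Polynomial

variable (p : ℕ) [Fact p.Prime] {R : Type u} [CommRing R] [CharP R p]

theorem tmul_src (A : Type u) [CommRing A] [Algebra R A] (i : ℕ) (s : R) :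
    (1 : R) ⊗ₜ[Src p R i] (aEquiv p R A i).symm (algebraMap R A s) =
      algebraMap R (Twist p R A i) (s ^ p ^ i) := by
  have h := algebraMap_aSrc p R A i ((srcEquiv p R i).symm s)
  rw [RingEquiv.apply_symm_apply] at h
  rw [← h, Algebra.algebraMap_eq_smul_one, ← TensorProduct.smul_tmul, Algebra.TensorProduct.algebraMap_apply,
    Algebra.smul_def, algebraMap_src, RingEquiv.apply_symm_apply, mul_one,
    Algebra.algebraMap_self_apply]

theorem relFrob_tmul (A : Type u) [CommRing A] [Algebra R A] [CharP A p] (i : ℕ) (r : R) (a : ASrc p R A (i + 1)) :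
    relFrob p R A i (r ⊗ₜ a) = algebraMap R (Twist p R A i) r *
      ((1 : R) ⊗ₜ (aEquiv p R A i).symm ((aEquiv p R A (i + 1) a) ^ p)) := by
  show relFrobAux p R A i (r ⊗ₜ a) = _
  rw [relFrobAux, Algebra.TensorProduct.lift_tmul]
  rfl

theorem main (hp : p ≠ 2) (u v : R) (huv : u * v = 0)
    (hsep : ∀ N : ℕ, 1 ≤ N → ∀ g : R,
      (∀ n : ℕ, g ∈ Ideal.span {v ^ n} ⊔ Ideal.span {u ^ N}) → g ∈ Ideal.span {u ^ N})
    {A : Type u} [CommRing A] [Algebra R A] [CharP A p] (x : A) (hx2 : x ^ 2 = algebraMap R A (v ^ 2))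
    (hux : algebraMap R A u * x = 0) (hgen : ∀ a : A, ∃ c b : R, a = algebraMap R A c + algebraMap R A b * x)
    (hdet : ∀ i (c b : R), algebraMap R (Twist p R A i) c +
        algebraMap R _ b * ((1 : R) ⊗ₜ[Src p R i] (aEquiv p R A i).symm x) = 0 →
      c + b * v ^ p ^ i = 0 ∧ b ∈ Ideal.span {u ^ p ^ i}) :
    Function.Bijective (algebraMap R ↥(prePerf p R A)) := by
  obtain ⟨h, hh⟩ : ∃ h, p = 2 * h + 1 := (Fact.out : p.Prime).odd_of_ne_two hp
  have hh0 : h ≠ 0 := by have := (Fact.out : p.Prime).two_le; omega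
  let α : ∀ i, Twist p R A i := fun i => (1 : R) ⊗ₜ[Src p R i] (aEquiv p R A i).symm x
  have hα2 : ∀ i, α i ^ 2 = algebraMap R _ ((v ^ 2) ^ p ^ i) := fun i => by
    rw [← tmul_src p A i, ← hx2, map_pow (aEquiv p R A i).symm, Algebra.TensorProduct.tmul_pow, one_pow]
  have hαu : ∀ i, algebraMap R _ (u ^ p ^ i) * α i = 0 := fun i => by
    rw [← tmul_src p A i, Algebra.TensorProduct.tmul_mul_tmul, one_mul, ← map_mul, hux, map_zero,
      TensorProduct.tmul_zero]
  have hrepr : ∀ i (z : Twist p R A i), ∃ c b : R, z = algebraMap R _ c + algebraMap R _ b * α i := by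
    intro i z
    induction z using TensorProduct.induction_on with
    | zero => exact ⟨0, 0, by simp⟩
    | tmul r a =>
      obtain ⟨c, b, hcb⟩ := hgen (aEquiv p R A i a)
      refine ⟨r * c ^ p ^ i, r * b ^ p ^ i, ?_⟩
      have ha : r ⊗ₜ[Src p R i] a = algebraMap R (Twist p R A i) r * ((1 : R) ⊗ₜ[Src p R i] (aEquiv p R A i).symm
          (algebraMap R A c + algebraMap R A b * x)) := by
        rw [← hcb, RingEquiv.symm_apply_apply, Algebra.TensorProduct.algebraMap_apply,
          Algebra.TensorProduct.tmul_mul_tmul, Algebra.algebraMap_self_apply, mul_one, one_mul]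
      rw [ha, map_add, map_mul, TensorProduct.tmul_add, tmul_src, show (1 : R) ⊗ₜ[Src p R i]
        ((aEquiv p R A i).symm (algebraMap R A b) * (aEquiv p R A i).symm x) =
          ((1 : R) ⊗ₜ[Src p R i] (aEquiv p R A i).symm (algebraMap R A b)) * α i by
          rw [Algebra.TensorProduct.tmul_mul_tmul, one_mul], tmul_src, map_mul, map_mul]
      ring
    | add z w hz hw =>
      obtain ⟨c, b, rfl⟩ := hz
      obtain ⟨c', b', rfl⟩ := hw
      exact ⟨c + c', b + b', by rw [map_add, map_add]; ring⟩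
  constructor
  · rw [injective_iff_map_eq_zero]
    intro c hc
    have := (hdet 0 c 0 (by
      rw [map_zero, zero_mul, add_zero]
      exact congrArg (fun z : ↥(prePerf p R A) => z.1 0) hc)).1
    simpa using this
  rintro ⟨z, hz⟩
  have hzF : ∀ j, relFrob p R A j (z (j + 1)) = z j := fun j => (Algebra.mem_iInf.1 hz) j
  choose c b hcb using fun i => hrepr i (z i)
  have hFα : ∀ j, relFrob p R A j (α (j + 1)) = algebraMap R _ (((v ^ 2) ^ p ^ j) ^ h) * α j := by
    intro j
    have : relFrob p R A j (α (j + 1)) = α j ^ p :=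
      (relFrob_tmul p A j (1 : R) _).trans (by
        rw [map_one, one_mul, RingEquiv.apply_symm_apply, map_pow, Algebra.TensorProduct.tmul_pow, one_pow])
    rw [this, show α j ^ p = α j ^ (2 * h + 1) from congrArg _ hh, pow_succ, pow_mul, hα2, ← map_pow]
  have hrec : ∀ j, c j - c (j + 1) + (b j - b (j + 1) * ((v ^ 2) ^ p ^ j) ^ h) * v ^ p ^ j = 0 ∧
      b j - b (j + 1) * ((v ^ 2) ^ p ^ j) ^ h ∈ Ideal.span {u ^ p ^ j} := by
    intro j
    apply hdet
    have := hzF j
    rw [hcb (j + 1), hcb j, map_add, map_mul, AlgHom.commutes, AlgHom.commutes, hFα] at this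
    simp only [map_sub, map_mul]
    show _ + _ * α j = 0
    linear_combination -this
  have hmem : ∀ n i, b i ∈ Ideal.span {v ^ n} ⊔ Ideal.span {u ^ p ^ i} := by
    intro n
    induction n with
    | zero => intro i; simp
    | succ n ih =>
      intro i
      obtain ⟨y, hy, w, hw, hyw⟩ := Submodule.mem_sup.1 (ih (i + 1))
      rw [show b i = (b (i + 1) * ((v ^ 2) ^ p ^ i) ^ h) + (b i - b (i + 1) * ((v ^ 2) ^ p ^ i) ^ h) by ring]
      refine Ideal.add_mem _ ?_ (Ideal.mem_sup_right (hrec i).2)
      rw [← hyw, add_mul]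
      refine Submodule.add_mem_sup (Ideal.mem_span_singleton.2 ?_) (Ideal.mem_span_singleton.2 ?_)
      · rw [pow_succ]
        refine mul_dvd_mul (Ideal.mem_span_singleton.1 hy) ?_
        rw [← pow_mul, ← pow_mul]
        exact dvd_pow_self v (by have := (Fact.out : p.Prime).pos; positivity)
      · exact dvd_mul_of_dvd_left ((pow_dvd_pow u (Nat.pow_le_pow_right (Fact.out : p.Prime).pos
          (Nat.le_succ i))).trans (Ideal.mem_span_singleton.1 hw)) _
  have hb0 : ∀ i, z i = algebraMap R _ (c i) := fun i => by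
    obtain ⟨w, hw⟩ := Ideal.mem_span_singleton'.1
      (hsep (p ^ i) (Nat.one_le_pow _ _ (Fact.out : p.Prime).pos) (b i) fun n => hmem n i)
    rw [hcb i, ← hw, map_mul, mul_assoc, hαu, mul_zero, add_zero]
  have hc : ∀ i, c i = c 0 := by
    intro i
    induction i with
    | zero => rfl
    | succ i ih =>
      have := hzF i
      rw [hb0 (i + 1), hb0 i, AlgHom.commutes] at this
      have h0 := (hdet i (c (i + 1) - c i) 0 (by rw [map_sub, this, sub_self, map_zero, zero_mul, add_zero])).1
      rw [zero_mul, add_zero, sub_eq_zero] at h0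
      rw [h0, ih]
  exact ⟨c 0, Subtype.ext (funext fun i => by show algebraMap R _ (c 0) = z i; rw [hb0 i, hc i])⟩

theorem det (u v : R) (huv : u * v = 0) (i : ℕ) (c b : R)
    (he : algebraMap R (Twist p R (R[X] ⧸ Ideal.span {(C u * X : R[X]), X ^ 2 - C (v ^ 2)}) i) c +
      algebraMap R _ b * ((1 : R) ⊗ₜ[Src p R i]
        (aEquiv p R (R[X] ⧸ Ideal.span {(C u * X : R[X]), X ^ 2 - C (v ^ 2)}) i).symm (Ideal.Quotient.mk _ X)) = 0) :
    c + b * v ^ p ^ i = 0 ∧ b ∈ Ideal.span {u ^ p ^ i} := by
    let I : Ideal R[X] := Ideal.span {C (u ^ p ^ i) * X, X ^ 2 - C ((v ^ 2) ^ p ^ i)}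
    let f : (R[X] ⧸ Ideal.span {(C u * X : R[X]), X ^ 2 - C (v ^ 2)}) →+* R[X] ⧸ I := Ideal.Quotient.lift _
      (eval₂RingHom ((algebraMap R (R[X] ⧸ I)).comp (iterateFrobenius R p i)) (Ideal.Quotient.mk I X)) (by
        intro P hP
        induction hP using Submodule.span_induction with
        | mem P hP =>
          rcases hP with rfl | rfl
          · rw [coe_eval₂RingHom, eval₂_mul, eval₂_C, eval₂_X, RingHom.comp_apply, iterateFrobenius_def]
            exact Ideal.Quotient.eq_zero_iff_mem.2 (Ideal.subset_span (Set.mem_insert _ _))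
          · rw [coe_eval₂RingHom, eval₂_sub, eval₂_X_pow, eval₂_C, RingHom.comp_apply, iterateFrobenius_def,
              ← map_pow (Ideal.Quotient.mk I)]
            exact sub_eq_zero.2 (Ideal.Quotient.eq.2 (Ideal.subset_span (Set.mem_insert_of_mem _ rfl)))
        | zero => simp
        | add P Q _ _ hP hQ => rw [map_add, hP, hQ, add_zero]
        | smul r P _ hP => rw [smul_eq_mul, map_mul, hP, mul_zero])
    let fT : ASrc p R (R[X] ⧸ Ideal.span {(C u * X : R[X]), X ^ 2 - C (v ^ 2)}) i →ₐ[Src p R i] R[X] ⧸ I :=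
      { toRingHom := f.comp (aEquiv p R (R[X] ⧸ Ideal.span {(C u * X : R[X]), X ^ 2 - C (v ^ 2)}) i).toRingHom
        commutes' := fun s => by
          show eval₂ _ _ (C (srcEquiv p R i s)) = _
          rw [eval₂_C, RingHom.comp_apply, iterateFrobenius_def, IsScalarTower.algebraMap_apply
            (Src p R i) R (R[X] ⧸ I), algebraMap_src] }
    let ψ : Twist p R (R[X] ⧸ Ideal.span {(C u * X : R[X]), X ^ 2 - C (v ^ 2)}) i →ₐ[R] R[X] ⧸ I :=
      Algebra.TensorProduct.lift (Algebra.ofId R _) fT fun _ _ => Commute.all _ _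
    have h1 := congrArg ψ he
    have hψα : ψ ((1 : R) ⊗ₜ[Src p R i]
        (aEquiv p R (R[X] ⧸ Ideal.span {(C u * X : R[X]), X ^ 2 - C (v ^ 2)}) i).symm (Ideal.Quotient.mk _ X)) =
        Ideal.Quotient.mk I X := by
      show algebraMap R _ (1 : R) * f (Ideal.Quotient.mk _ X) = _
      rw [map_one, one_mul]
      exact eval₂_X _ _
    rw [map_add, map_mul, AlgHom.commutes, AlgHom.commutes, hψα, map_zero] at h1
    replace h1 : C c + C b * X ∈ I := Ideal.Quotient.eq_zero_iff_mem.1 (by rw [← h1]; rfl)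
    constructor
    · have : I ≤ RingHom.ker (evalRingHom (v ^ p ^ i)) := by
        rw [Ideal.span_le]
        rintro P (rfl | rfl)
        · simp [← mul_pow, huv, zero_pow (pow_ne_zero i (Fact.out : p.Prime).ne_zero)]
        · simp [← pow_mul, mul_comm 2]
      simpa using this h1
    · let q := Ideal.Quotient.mk (Ideal.span {u ^ p ^ i})
      have hu0 : q (u ^ p ^ i) = 0 := Ideal.Quotient.eq_zero_iff_mem.2 (Ideal.mem_span_singleton_self _)
      have h3 : (C (q c) + C (q b) * X) ∈ Ideal.span {X ^ 2 - C (q ((v ^ 2) ^ p ^ i))} := by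
        have hle : I ≤ (Ideal.span {X ^ 2 - C (q ((v ^ 2) ^ p ^ i))}).comap (Polynomial.mapRingHom q) := by
          rw [Ideal.span_le]
          rintro P (rfl | rfl)
          · simp only [SetLike.mem_coe, Ideal.mem_comap, coe_mapRingHom, Polynomial.map_mul, map_C, map_X, hu0]
            simp
          · exact Ideal.subset_span (by simp)
        simpa using hle h1
      obtain ⟨w, hw⟩ := Ideal.mem_span_singleton'.1 h3
      by_contra hb
      have hb' : q b ≠ 0 := fun h0 => hb (Ideal.Quotient.eq_zero_iff_mem.1 h0)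
      have : Nontrivial (R ⧸ Ideal.span {u ^ p ^ i}) := nontrivial_of_ne _ _ hb'
      have hmon : (X ^ 2 - C (q ((v ^ 2) ^ p ^ i))).Monic := monic_X_pow_sub_C _ two_ne_zero
      refine hmon.not_dvd_of_natDegree_lt (q := C (q c) + C (q b) * X) ?_ ?_ ⟨w, by rw [← hw, mul_comm]⟩
      · intro h0
        have := congrArg (fun P : (R ⧸ Ideal.span {u ^ p ^ i})[X] => P.coeff 1) h0
        simp at this
        exact hb' this
      · rw [natDegree_X_pow_sub_C]
        exact Nat.lt_succ_of_le ((natDegree_add_le _ _).trans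
          (max_le (by simp) ((natDegree_C_mul_le _ _).trans natDegree_X_le)))

end

open Polynomial in
/-- Let p be an odd prime, R a commutative ring of characteristic p and u, v ∈ R with uv = 0, such that
for every N ≥ 1 an element of R lying in (v^n) + (u^N) for all n lies in (u^N) (v-adic separatedness
of R/(u^N)). Let B = R[α]/(uα, α² − v²), an R-algebra of characteristic p, with Frobenius twists
B^{p^i/R} = R ⊗_{F^i,R} B and preperfection B^{p^∞/R} = lim_i B^{p^i/R} along the relative Frobenius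
maps. Then the structure map R → B^{p^∞/R} is bijective: the preperfection of B is R. (The published
statement is for R = F_p[[u, v]]/(uv), where B arises as the preperfection of R[x, y, 1/(x − y)]/(xy
− u), so that the second preperfection of that algebra is R although the first is not perfect; the
printed computation uses only the hypotheses listed here, which that R satisfies.) -/
theorem result
    (p : ℕ) [Fact p.Prime] (hp : p ≠ 2) (R : Type u) [CommRing R] [CharP R p]
    (u v : R) (huv : u * v = 0)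
    (hsep : ∀ N : ℕ, 1 ≤ N → ∀ g : R,
      (∀ n : ℕ, g ∈ Ideal.span {v ^ n} ⊔ Ideal.span {u ^ N}) → g ∈ Ideal.span {u ^ N})
    [CharP (R[X] ⧸ Ideal.span {(C u * X : R[X]), X ^ 2 - C (v ^ 2)}) p] :
    Function.Bijective
      (algebraMap R ↥(W4c1imperftorsors.prePerf p R
        (R[X] ⧸ Ideal.span {(C u * X : R[X]), X ^ 2 - C (v ^ 2)}))) := by
  refine main p hp u v huv hsep (A := R[X] ⧸ Ideal.span {(C u * X : R[X]), X ^ 2 - C (v ^ 2)})
    (Ideal.Quotient.mk _ X) ?_ ?_ ?_ (fun i c b => det p u v huv i c b)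
  · rw [← map_pow]
    exact Ideal.Quotient.eq.2 (Ideal.subset_span (Set.mem_insert_of_mem _ rfl))
  · exact Ideal.Quotient.eq_zero_iff_mem.2 (Ideal.subset_span (Set.mem_insert (C u * X : R[X]) _))
  · intro a
    obtain ⟨P, rfl⟩ := Ideal.Quotient.mk_surjective a
    induction P using Polynomial.induction_on with
    | C s => exact ⟨s, 0, by simp; rfl⟩
    | add P Q hP hQ =>
      obtain ⟨c, b, h1⟩ := hP
      obtain ⟨c', b', h2⟩ := hQ
      exact ⟨c + c', b + b', by rw [map_add, h1, h2, map_add, map_add]; ring⟩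
    | monomial n s ih =>
      obtain ⟨c, b, h1⟩ := ih
      refine ⟨b * v ^ 2, c, ?_⟩
      rw [show C s * X ^ (n + 1) = C s * X ^ n * X by ring, map_mul (Ideal.Quotient.mk _) (C s * X ^ n), h1, add_mul, mul_assoc,
        show (Ideal.Quotient.mk (Ideal.span {(C u * X : R[X]), X ^ 2 - C (v ^ 2)}) X) * Ideal.Quotient.mk _ X =
          algebraMap R _ (v ^ 2) from by
          rw [← map_mul, ← pow_two]
          exact Ideal.Quotient.eq.2 (Ideal.subset_span (Set.mem_insert_of_mem _ rfl)), ← map_mul]
      ring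

end Groth.Agent.S13047
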