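import Groth.Statements.S13048
import Mathlib

set_option autoImplicit false
universe u
open FrobAlg

namespace Groth.Agent.S13048

/-- Let k be an algebraically closed field of characteristic p > 0 and let A be a reduced finitely
generated commutative k-algebra with connected spectrum (A ≠ 0 and 0, 1 are its only idempotents).
If x ∈ A is a p^n-th power in A for every n ≥ 0, then x lies in the image of k; that is, ⋂_n A^{p^n}
= k. (The published statement is: for an artinian local ring R of characteristic p and a flat
R-algebra A of finite type, the maps A^ét → O(π₀(A)) → A^{p^∞/R} from the largest étale subalgebra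
to the preperfection are isomorphisms. This row is the case R = k algebraically closed and A reduced
with connected spectrum, where A^ét = k and the preperfection is ⋂_n A^{p^n}; the printed proof
reduces to this case and its last step proves it.) -/
theorem result
    (p : ℕ) [Fact p.Prime] (k : Type u) [Field k] [IsAlgClosed k] [CharP k p]
    (A : Type u) [CommRing A] [Algebra k A] [Algebra.FiniteType k A] [IsReduced A] [Nontrivial A]
    (hconn : ∀ e : A, IsIdempotentElem e → e = 0 ∨ e = 1)
    (x : A) (hx : ∀ n : ℕ, ∃ a : A, a ^ p ^ n = x) :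
    x ∈ (algebraMap k A).range := by
  have hN : IsNoetherianRing A := Algebra.FiniteType.isNoetherianRing k A
  have hp : p.Prime := Fact.out
  -- at every maximal ideal x is locally constant
  have key : ∀ (m : Ideal A), m.IsMaximal → ∀ c : k, x - algebraMap k A c ∈ m →
      ∃ s : A, s ∉ m ∧ s * (x - algebraMap k A c) = 0 := by
    intro m hm c hc
    let R := Localization.AtPrime m
    have hmem : algebraMap A R (x - algebraMap k A c) ∈ ⨅ n : ℕ, IsLocalRing.maximalIdeal R ^ n := by
      rw [Submodule.mem_iInf]
      intro n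
      obtain ⟨a, ha⟩ := hx n
      obtain ⟨c', hc'⟩ := IsAlgClosed.exists_pow_nat_eq c (pow_pos hp.pos n)
      have hA : CharP A p := charP_of_injective_algebraMap (algebraMap k A).injective p
      have hpow : (a - algebraMap k A c') ^ p ^ n = x - algebraMap k A c := by
        rw [sub_pow_char_pow, ha, ← map_pow, hc']
      have ham : a - algebraMap k A c' ∈ m := hm.isPrime.mem_of_pow_mem (p ^ n) (by rw [hpow]; exact hc)
      rw [← hpow, map_pow]
      refine Ideal.pow_le_pow_right (Nat.lt_pow_self hp.one_lt).le (Ideal.pow_mem_pow ?_ _)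
      exact (IsLocalization.AtPrime.to_map_mem_maximal_iff R m _).2 ham
    rw [Ideal.iInf_pow_eq_bot_of_isLocalRing _ (IsLocalRing.maximalIdeal.isMaximal R).ne_top,
      Ideal.mem_bot, IsLocalization.map_eq_zero_iff m.primeCompl] at hmem
    obtain ⟨⟨s, hs⟩, h⟩ := hmem
    exact ⟨s, hs, h⟩
  obtain ⟨m₀, hm₀⟩ := Ideal.exists_maximal A
  obtain ⟨c₀, hc₀⟩ : ∃ c : k, x - algebraMap k A c ∈ m₀ := by
    let _ := Ideal.Quotient.field m₀
    have : Module.Finite k (A ⧸ m₀) := finite_of_finite_type_of_isJacobsonRing k (A ⧸ m₀)
    obtain ⟨c, hc⟩ := (IsAlgClosed.algebraMap_bijective_of_isIntegral (k := k) (K := A ⧸ m₀)).2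
      (Ideal.Quotient.mk m₀ x)
    exact ⟨c, Ideal.Quotient.eq.1 hc.symm⟩
  let y := x - algebraMap k A c₀
  have htop : Ideal.span {y} ⊔ (Submodule.span A {y}).annihilator = ⊤ := by
    by_contra h
    obtain ⟨m, hm, hle⟩ := Ideal.exists_le_maximal _ h
    obtain ⟨s, hs, hsy⟩ := key m hm c₀ (hle (Ideal.mem_sup_left (Ideal.mem_span_singleton_self y)))
    exact hs (hle (Ideal.mem_sup_right ((Submodule.mem_annihilator_span_singleton _ _).2 hsy)))
  rw [Ideal.eq_top_iff_one, Submodule.mem_sup] at htop
  obtain ⟨u, hu, i, hi, hui⟩ := htop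
  obtain ⟨a, rfl⟩ := Ideal.mem_span_singleton'.1 hu
  rw [Submodule.mem_annihilator_span_singleton, smul_eq_mul] at hi
  have he : IsIdempotentElem (a * y) := by
    calc a * y * (a * y) = (a * y) * (a * y + i) - a * (i * y) := by ring
      _ = a * y := by rw [hui, hi, mul_one, mul_zero, sub_zero]
  rcases hconn _ he with h | h
  · rw [h, zero_add] at hui
    rw [hui, one_mul] at hi
    exact ⟨c₀, (sub_eq_zero.1 hi).symm⟩
  · exact absurd ((Ideal.eq_top_iff_one m₀).2 (h ▸ m₀.mul_mem_left a hc₀)) hm₀.ne_top

end Groth.Agent.S13048
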