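import Groth.Statements.S13049
import Mathlib.RingTheory.Perfection

set_option autoImplicit false
universe u
open FrobAlg

namespace Groth.Agent.S13049

/-- Let p be a prime and A a commutative ring of characteristic p whose nilradical N satisfies x^(p^e) =
0 for all x ∈ N and some fixed e (for instance A Noetherian). Then the map between the inverse-limit
perfections along the absolute Frobenius, lim (⋯ → A → A) → lim (⋯ → A/N → A/N), induced by the
projection A → A/N, is bijective. (The published argument takes A of finite type over a field, where
the nilradical is finitely generated; this row assumes only that the nilradical is killed by one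
fixed iterate of Frobenius, which is all that argument uses.) -/
theorem result
    (p : ℕ) [Fact p.Prime] (A : Type u) [CommRing A] [CharP A p]
    [CharP (A ⧸ nilradical A) p] (e : ℕ) (he : ∀ x ∈ nilradical A, x ^ p ^ e = 0) :
    Function.Bijective (Perfection.map p (Ideal.Quotient.mk (nilradical A))) := by
  have hpow : ∀ a b : A, Ideal.Quotient.mk (nilradical A) a = Ideal.Quotient.mk (nilradical A) b →
      a ^ p ^ e = b ^ p ^ e := fun a b h => by
    rw [← sub_eq_zero, ← sub_pow_char_pow]
    exact he _ (Ideal.Quotient.eq.1 h)
  constructor
  · intro f g hfg
    refine Perfection.ext fun n => ?_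
    rw [← Perfection.coeff_iterate_frobenius f n e, ← Perfection.coeff_iterate_frobenius g n e,
      iterate_frobenius, iterate_frobenius, map_pow, map_pow]
    exact hpow _ _ (congrArg (Perfection.coeff (A ⧸ nilradical A) p (n + e)) hfg)
  · intro g
    choose a ha using fun n => Ideal.Quotient.mk_surjective (Perfection.coeff (A ⧸ nilradical A) p n g)
    refine ⟨⟨fun n => a (n + e) ^ p ^ e, fun n => ?_⟩, Perfection.ext fun n => ?_⟩
    · rw [← pow_mul, mul_comm, pow_mul]
      refine hpow _ _ ?_
      rw [map_pow, ha, ha, Nat.add_right_comm, Perfection.coeff_pow_p']
    · change Ideal.Quotient.mk (nilradical A) (a (n + e) ^ p ^ e) = _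
      rw [map_pow, ha, ← map_pow, ← iterate_frobenius,
        Perfection.coeff_iterate_frobenius]

end Groth.Agent.S13049
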