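import Groth.Statements.S13057
import Mathlib.RingTheory.PowerSeries.Trunc
import Mathlib.LinearAlgebra.Dual.Lemmas

set_option autoImplicit false
set_option linter.style.haveILetI false
universe u
open Zeta

namespace Groth.Agent.S13057

/-- A coefficient of the product with a polynomial, as a sum over a window. -/
lemma conv_coeff {L : Type u} [Field L] (f : PowerSeries L) (Q : Polynomial L) (N : ℕ) (hN : Q.natDegree ≤ N)
    (i : ℕ) : PowerSeries.coeff (i + N) (f * (Q : PowerSeries L)) =
      ∑ j : Fin (N + 1), PowerSeries.coeff (i + (j : ℕ)) f * Q.coeff (N - j) := by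
  rw [PowerSeries.coeff_mul, Finset.Nat.sum_antidiagonal_eq_sum_range_succ
    (fun a b => PowerSeries.coeff a f * PowerSeries.coeff b (Q : PowerSeries L)),
    show (i + N).succ = i + (N + 1) by omega, Finset.sum_range_add,
    Finset.sum_eq_zero (fun a ha => by
      rw [Polynomial.coeff_coe, Polynomial.coeff_eq_zero_of_natDegree_lt
        (by have := Finset.mem_range.1 ha; omega), mul_zero]),
    zero_add, Finset.sum_range]
  refine Finset.sum_congr rfl fun j _ => ?_
  rw [Polynomial.coeff_coe, show i + N - (i + (j : ℕ)) = N - j by omega]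

/-- A power series f = ∑_{m ≥ 0} a_m t^m over a field L lies in L(t), i.e. f · Q = P for some
polynomials P, Q with Q ≠ 0, if and only if there are natural numbers M, N such that the vectors
(a_i, a_{i+1}, …, a_{i+N}) ∈ L^{N+1}, i ≥ M, span a proper subspace. -/
theorem result {L : Type u} [Field L]
    (f : PowerSeries L) :
    (∃ P Q : Polynomial L, Q ≠ 0 ∧ f * (Q : PowerSeries L) = (P : PowerSeries L)) ↔
      ∃ M N : ℕ, Submodule.span L
          {v : Fin (N + 1) → L | ∃ i : ℕ, M ≤ i ∧ v = fun j : Fin (N + 1) => PowerSeries.coeff (i + (j : ℕ)) f} ≠ ⊤ := by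
  constructor
  · rintro ⟨P, Q, hQ, hf⟩
    refine ⟨P.natDegree + 1, Q.natDegree, fun htop => ?_⟩
    let φ : (Fin (Q.natDegree + 1) → L) →ₗ[L] L :=
      ∑ j : Fin (Q.natDegree + 1), Q.coeff (Q.natDegree - j) • LinearMap.proj j
    have h0 : Submodule.span L
        {v : Fin (Q.natDegree + 1) → L | ∃ i : ℕ, P.natDegree + 1 ≤ i ∧
          v = fun j : Fin (Q.natDegree + 1) => PowerSeries.coeff (i + (j : ℕ)) f} ≤ LinearMap.ker φ := by
      refine Submodule.span_le.2 ?_
      rintro _ ⟨i, hi, rfl⟩
      rw [SetLike.mem_coe, LinearMap.mem_ker]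
      simp only [φ, LinearMap.sum_apply, LinearMap.smul_apply, LinearMap.proj_apply, smul_eq_mul]
      have h := congrArg (PowerSeries.coeff (i + Q.natDegree)) hf
      rw [Polynomial.coeff_coe, Polynomial.coeff_eq_zero_of_natDegree_lt (show P.natDegree < i + Q.natDegree by omega),
        conv_coeff f Q Q.natDegree le_rfl i] at h
      rw [← h]
      exact Finset.sum_congr rfl fun j _ => mul_comm _ _
    rw [htop] at h0
    have h1 := LinearMap.mem_ker.1 (h0 (show Pi.single (0 : Fin (Q.natDegree + 1)) (1 : L) ∈ ⊤ from trivial))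
    simp [φ, Pi.single_apply, Polynomial.coeff_natDegree, hQ] at h1
  · rintro ⟨M, N, hne⟩
    obtain ⟨φ, hφ, hle⟩ := Submodule.exists_le_ker_of_lt_top _ (lt_top_iff_ne_top.2 hne)
    let c : Fin (N + 1) → L := fun j => φ (Pi.single j 1)
    have hφc : ∀ v, φ v = ∑ j, v j * c j := by
      intro v
      conv_lhs => rw [pi_eq_sum_univ v]
      rw [map_sum]
      refine Finset.sum_congr rfl fun j _ => ?_
      rw [map_smul, smul_eq_mul]
      congr 2
      funext k
      simp [Pi.single_apply, eq_comm]
    let Q : Polynomial L := ∑ j : Fin (N + 1), Polynomial.monomial (N - j) (c j)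
    have hQc : ∀ j : Fin (N + 1), Q.coeff (N - j) = c j := by
      intro j
      simp only [Q, Polynomial.finsetSum_coeff, Polynomial.coeff_monomial]
      rw [Finset.sum_eq_single j (fun b _ hb => if_neg fun he => hb (Fin.ext (by omega))) (by simp), if_pos rfl]
    have hQd : Q.natDegree ≤ N :=
      Polynomial.natDegree_sum_le_of_forall_le _ _ fun j _ =>
        (Polynomial.natDegree_monomial_le _).trans (Nat.sub_le _ _)
    refine ⟨PowerSeries.trunc (M + N) (f * (Q : PowerSeries L)), Q, fun h0 => hφ ?_, ?_⟩
    · refine LinearMap.ext fun v => ?_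
      rw [hφc]
      simp [← hQc, h0]
    · ext m
      rw [Polynomial.coeff_coe, PowerSeries.coeff_trunc]
      split_ifs with hm
      · rfl
      · obtain ⟨i, rfl⟩ : ∃ i, m = i + N := ⟨m - N, by omega⟩
        rw [conv_coeff f Q N hQd i]
        have h := LinearMap.mem_ker.1 (hle (Submodule.subset_span ⟨i, by omega, rfl⟩))
        rw [hφc] at h
        rw [← h]
        exact Finset.sum_congr rfl fun j _ => by rw [hQc]

end Groth.Agent.S13057
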