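import Groth.Statements.S13058
import Groth.Agent.S13057

set_option autoImplicit false
set_option linter.style.haveILetI false
universe u v
open Zeta

namespace Groth.Agent.S13058

/-- If L'/L is a field extension, a power series f ∈ L⟦t⟧ belongs to L(t) exactly when it belongs to
L'(t); here membership in L(t) means f · Q = P for polynomials P, Q over the field in question with
Q ≠ 0. -/
theorem result {L : Type u} {L' : Type v} [Field L] [Field L']
    [Algebra L L'] (f : PowerSeries L) :
    (∃ P Q : Polynomial L', Q ≠ 0 ∧
        PowerSeries.map (algebraMap L L') f * (Q : PowerSeries L') = (P : PowerSeries L')) ↔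
      ∃ P Q : Polynomial L, Q ≠ 0 ∧ f * (Q : PowerSeries L) = (P : PowerSeries L) := by
  constructor
  · intro h
    obtain ⟨M, N, hne⟩ := (Groth.Agent.S13057.result _).1 h
    refine (Groth.Agent.S13057.result _).2 ⟨M, N, fun htop => hne ?_⟩
    rw [eq_top_iff, ← (Pi.basisFun L' (Fin (N + 1))).span_eq, Submodule.span_le]
    rintro _ ⟨j, rfl⟩
    set S := {v : Fin (N + 1) → L | ∃ i : ℕ, M ≤ i ∧ v = fun j : Fin (N + 1) => PowerSeries.coeff (i + (j : ℕ)) f}
    have key : ∀ v ∈ Submodule.span L S, (fun a => algebraMap L L' (v a)) ∈ Submodule.span L'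
        {v : Fin (N + 1) → L' | ∃ i : ℕ, M ≤ i ∧ v = fun j : Fin (N + 1) =>
          PowerSeries.coeff (i + (j : ℕ)) (PowerSeries.map (algebraMap L L') f)} := by
      intro v hv
      induction hv using Submodule.span_induction with
      | mem v hv =>
        obtain ⟨i, hi, rfl⟩ := hv
        exact Submodule.subset_span ⟨i, hi, funext fun a => by rw [PowerSeries.coeff_map]⟩
      | zero =>
        simp only [Pi.zero_apply, map_zero]
        exact Submodule.zero_mem _
      | add a b _ _ ha hb =>
        convert Submodule.add_mem _ ha hb using 1
        funext x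
        simp
      | smul c a _ ha =>
        convert Submodule.smul_mem _ (algebraMap L L' c) ha using 1
        funext x
        simp
    have := key (Pi.single j 1) (by rw [htop]; trivial)
    rw [SetLike.mem_coe, Pi.basisFun_apply]
    convert this using 1
    funext x
    simp only [Pi.single_apply]
    split_ifs <;> simp
  · rintro ⟨P, Q, hQ, h⟩
    refine ⟨P.map (algebraMap L L'), Q.map (algebraMap L L'),
      (Polynomial.map_ne_zero_iff (algebraMap L L').injective).2 hQ, ?_⟩
    rw [Polynomial.polynomial_map_coe, Polynomial.polynomial_map_coe, ← map_mul, h]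

end Groth.Agent.S13058
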