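import Groth.Statements.S13059
import Mathlib.LinearAlgebra.PerfectPairing.Basic
import Mathlib.LinearAlgebra.Matrix.Dual
import Mathlib.LinearAlgebra.Charpoly.ToMatrix
import Mathlib.LinearAlgebra.Matrix.Charpoly.Coeff

set_option autoImplicit false
set_option linter.style.haveILetI false
universe u
open Zeta

namespace Groth.Agent.S13059

/-- Let B : V × W → K be a perfect pairing of finite-dimensional vector spaces over a field K, c ∈ K
nonzero, and f, g endomorphisms of V, W with B(f v, g w) = c · B(v, w) for all v, w. Then det(Id − t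
g) = (−1)^r c^r t^r det(f)^{−1} det(Id − c^{−1} t^{−1} f) with r the common dimension; stated
cleared of denominators as det(f) · det(Id − t g) = (−1)^r c^r · det(t Id − c^{−1} f) in K[t],
det(Id − t g) being the reverse of the characteristic polynomial of g. -/
theorem result (K : Type u) [Field K] (V W : Type u)
    [AddCommGroup V] [Module K V] [FiniteDimensional K V] [AddCommGroup W] [Module K W]
    [FiniteDimensional K W] (B : V →ₗ[K] W →ₗ[K] K) [B.IsPerfPair] (f : V →ₗ[K] V) (g : W →ₗ[K] W)
    (c : K) (hc : c ≠ 0) (hfg : ∀ (v : V) (w : W), B (f v) (g w) = c * B v w) :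
    LinearMap.det f • (LinearMap.charpoly g).reverse =
      ((-1) ^ Module.finrank K W * c ^ Module.finrank K W) • (c⁻¹ • f).charpoly := by
  classical
  let e : W ≃ₗ[K] Module.Dual K V := B.flip.toPerfPair
  let g' : Module.Dual K V →ₗ[K] Module.Dual K V := e.toLinearMap ∘ₗ g ∘ₗ e.symm.toLinearMap
  have h : f.dualMap ∘ₗ g' = c • LinearMap.id := by
    refine LinearMap.ext fun φ => LinearMap.ext fun v => ?_
    have := hfg v (e.symm φ)
    simp only [g', LinearMap.comp_apply, LinearEquiv.coe_coe, LinearMap.dualMap_apply,
      LinearMap.smul_apply, LinearMap.id_apply, smul_eq_mul]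
    show B (f v) (g (e.symm φ)) = c * φ v
    rw [this]
    congr 1
    exact LinearMap.apply_toPerfPair_flip B φ v
  let b := Module.finBasis K V
  let b' := b.dualBasis
  set A := LinearMap.toMatrix b' b' f.dualMap with hA
  set G := LinearMap.toMatrix b' b' g' with hG
  have hAG : A * G = c • (1 : Matrix _ _ K) := by
    rw [hA, hG, ← LinearMap.toMatrix_comp, h, map_smul, LinearMap.toMatrix_id]
  have hAf : A = (LinearMap.toMatrix b b f).transpose := by
    rw [hA, LinearMap.dualMap_def, LinearMap.toMatrix_transpose]
  have hdet : LinearMap.det f = A.det := by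
    rw [hAf, Matrix.det_transpose, LinearMap.det_toMatrix]
  have hcg : g.charpoly = G.charpoly := by
    rw [hG, LinearMap.charpoly_toMatrix]
    exact (LinearEquiv.charpoly_conj e g).symm
  have hcf : (c⁻¹ • f).charpoly = (c⁻¹ • A).charpoly := by
    rw [← LinearMap.charpoly_toMatrix (c⁻¹ • f) b, map_smul, hAf, ← Matrix.transpose_smul,
      Matrix.charpoly_transpose]
  have hrk : Module.finrank K W = Module.finrank K V := by
    rw [e.finrank_eq, Subspace.dual_finrank_eq]
  rw [hdet, hcg, hcf, hrk, Matrix.reverse_charpoly, Matrix.charpolyRev, Polynomial.smul_eq_C_mul,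
    RingHom.map_det, RingHom.mapMatrix_apply, ← Matrix.det_mul]
  have key : A.map Polynomial.C * (1 - (Polynomial.X : Polynomial K) • G.map Polynomial.C) =
      (-Polynomial.C c) • Matrix.charmatrix (c⁻¹ • A) := by
    rw [mul_sub, mul_one, mul_smul_comm, ← Matrix.map_mul, hAG]
    ext i j
    by_cases hij : i = j
    · subst hij
      simp [Matrix.charmatrix_apply, mul_sub, ← mul_assoc, ← map_mul, hc]
      ring
    · simp [Matrix.charmatrix_apply, hij, ← mul_assoc, ← map_mul, hc]
  rw [key, Matrix.det_smul, Fintype.card_fin, Polynomial.smul_eq_C_mul, map_mul, map_pow, map_pow, map_neg,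
    map_one, ← mul_pow, neg_one_mul]
  rfl

end Groth.Agent.S13059
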