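import Groth.Statements.S13060
import Mathlib.RepresentationTheory.Invariants
import Mathlib.LinearAlgebra.TensorProduct.Basis
import Mathlib.LinearAlgebra.FreeModule.Basic

set_option autoImplicit false
set_option linter.style.haveILetI false
universe u v w x
open TensorProduct
open Zeta

namespace Groth.Agent.S13060

/-- Let k be a field, V and W vector spaces over k and G a group acting on V by k-linear automorphisms;
for the induced action on V ⊗_k W (trivial on W) one has (V ⊗_k W)^G = V^G ⊗_k W, i.e. the
invariants of V ⊗ W are the image of V^G ⊗ W → V ⊗ W. -/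
theorem result {k : Type u} [Field k] {G : Type v} [Group G]
    {V : Type w} {W : Type x} [AddCommGroup V] [Module k V] [AddCommGroup W] [Module k W]
    (ρ : Representation k G V) :
    (ρ.tprod (Representation.trivial k G W)).invariants =
      LinearMap.range (TensorProduct.map ρ.invariants.subtype (LinearMap.id : W →ₗ[k] W)) := by
  classical
  obtain ⟨ι, b⟩ := (Module.Free.exists_basis k W).some
  let e := TensorProduct.equivFinsuppOfBasisRight b (M := V)
  have he : ∀ (g : G) (x : V ⊗[k] W) (i : ι),
      e ((ρ.tprod (Representation.trivial k G W)) g x) i = ρ g (e x i) := by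
    intro g x i
    induction x using TensorProduct.induction_on with
    | zero => simp
    | tmul v w => simp [e, Representation.tprod_apply]
    | add x₁ x₂ h₁ h₂ => rw [map_add, map_add, map_add, Finsupp.add_apply, Finsupp.add_apply, map_add, h₁, h₂]
  apply le_antisymm
  · intro x hx
    rw [← e.symm_apply_apply x]
    simp only [e, TensorProduct.equivFinsuppOfBasisRight_symm_apply]
    refine Submodule.sum_mem _ fun i _ => ?_
    have hi : e x i ∈ ρ.invariants := fun g => by rw [← he, hx g]
    exact ⟨⟨e x i, hi⟩ ⊗ₜ b i, rfl⟩
  · rintro _ ⟨y, rfl⟩
    intro g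
    induction y using TensorProduct.induction_on with
    | zero => simp
    | tmul v w => simp [Representation.tprod_apply, v.2 g]
    | add x₁ x₂ h₁ h₂ => rw [map_add, map_add, h₁, h₂]

end Groth.Agent.S13060
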