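import Groth.Statements.S13061
import Mathlib.GroupTheory.Sylow
import Mathlib.RingTheory.Ideal.Quotient.Operations
import Mathlib.Algebra.CharP.Algebra

set_option autoImplicit false
set_option linter.style.haveILetI false
universe u v w
open Zeta

namespace Groth.Agent.S13061

/-- Let A be a commutative algebra over a field k, G a finite group acting on A by k-algebra
automorphisms and I ⊆ A an ideal preserved by G. If p^n is the largest power of p = char(k) dividing
|G| (with p^n = 1 when char(k) = 0), then for every G-invariant b ∈ A/I the power b^{p^n} lies in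
the image of A^G → (A/I)^G. (The published statement takes A finitely generated over k, which the
proof does not use.) -/
theorem result {k : Type u} [Field k]
    {A : Type v} [CommRing A] [Algebra k A] {G : Type w} [Group G] [Finite G]
    [MulSemiringAction G A] [SMulCommClass G k A] (I : Ideal A)
    (hI : ∀ (g : G) (a : A), a ∈ I → g • a ∈ I) (u : A) (hu : ∀ g : G, g • u - u ∈ I) :
    ∃ a : A, (∀ g : G, g • a = a) ∧
      Ideal.Quotient.mk I a =
        Ideal.Quotient.mk I u ^ (ringChar k ^ (Nat.card G).factorization (ringChar k)) := by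
  classical
  set p := ringChar k
  obtain ⟨H, hH, hind⟩ : ∃ H : Subgroup G, Nat.card H = p ^ (Nat.card G).factorization p ∧
      (H.index : k) ≠ 0 := by
    rcases CharP.char_is_prime_or_zero k p with hp | hp
    · haveI : Fact p.Prime := ⟨hp⟩
      let P : Sylow p G := default
      refine ⟨P, P.card_eq_multiplicity, fun h0 => ?_⟩
      exact P.not_dvd_index ((CharP.cast_eq_zero_iff k p _).1 h0)
    · refine ⟨⊥, by rw [hp]; simp, ?_⟩
      haveI : CharP k 0 := hp ▸ ringChar.charP k
      haveI : CharZero k := CharP.charP_to_charZero k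
      rw [Subgroup.index_bot]
      exact Nat.cast_ne_zero.2 Nat.card_pos.ne'
  letI := Fintype.ofFinite G
  let π := Ideal.Quotient.mk I
  have hπ : ∀ g : G, π (g • u) = π u := fun g => Ideal.Quotient.eq.2 (hu g)
  set N : A := ∏ h : H, (h : G) • u with hN
  have hNinv : ∀ h : H, (h : G) • N = N := fun h => by
    rw [hN, Finset.smul_prod']
    refine Fintype.prod_equiv (Equiv.mulLeft h) _ _ fun x => ?_
    rw [Equiv.coe_mulLeft, Subgroup.coe_mul, mul_smul]
  have hπN : π N = π u ^ (p ^ (Nat.card G).factorization p) := by
    rw [hN, map_prod, Finset.prod_congr rfl fun (h : H) _ => hπ (h : G), Finset.prod_const, Finset.card_univ,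
      ← Nat.card_eq_fintype_card, hH]
  set T : A := ∑ q : G ⧸ H, q.out • N with hT
  have hTinv : ∀ g : G, g • T = T := fun g => by
    rw [hT, Finset.smul_sum]
    refine Fintype.sum_equiv (MulAction.toPerm g) _ _ fun q => ?_
    rw [MulAction.toPerm_apply, ← mul_smul]
    obtain ⟨h, hh⟩ := QuotientGroup.mk_out_eq_mul H (g * q.out)
    have e : (QuotientGroup.mk (g * q.out) : G ⧸ H) = g • q := by
      conv_rhs => rw [← q.out_eq']
      rfl
    rw [← e, hh, mul_smul (g * q.out), hNinv]
  refine ⟨(H.index : k)⁻¹ • T, fun g => by rw [smul_comm, hTinv], ?_⟩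
  have hπT : π T = (H.index : A ⧸ I) * π N := by
    have hgN : ∀ g : G, π (g • N) = π N := fun g => by
      rw [hN, Finset.smul_prod', map_prod, map_prod]
      refine Finset.prod_congr rfl fun h _ => ?_
      rw [← mul_smul, hπ, hπ]
    rw [hT, map_sum, Finset.sum_congr rfl fun q _ => hgN _, Finset.sum_const, Finset.card_univ,
      nsmul_eq_mul, ← Nat.card_eq_fintype_card]
    rfl
  rw [Algebra.smul_def, map_mul, show Ideal.Quotient.mk I T = π T from rfl, hπT, hπN, ← mul_assoc,
    ← map_natCast (algebraMap k (A ⧸ I)), Ideal.Quotient.mk_algebraMap, ← map_mul, inv_mul_cancel₀ hind,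
    map_one, one_mul]

end Groth.Agent.S13061
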