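import Groth.Statements.S13065
import Mathlib.FieldTheory.ChevalleyWarning

set_option autoImplicit false
set_option linter.style.haveILetI false
universe u
open Zeta

namespace Groth.Agent.S13065

/-- Let k be a finite field with q elements and characteristic p, n ≥ 2, and f ∈ k[x_0, …, x_n]
homogeneous of degree n + 1, defining the hypersurface Z ⊂ P^n_k. Then #Z(F_q) ≢ 1 (mod p) if and
only if the coefficient of (x_0 ⋯ x_n)^{q−1} in f^{q−1} is nonzero. Stated through the affine count:
#Z(F_q) ≡ 1 (mod p) exactly when p divides the number of zeros of f in k^{n+1} (as (q − 1) #Z(F_q) +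
1 is that number). -/
theorem result {k : Type u} [Field k] [Finite k] (p : ℕ)
    [CharP k p] (n : ℕ) (hn : 2 ≤ n) (f : MvPolynomial (Fin (n + 1)) k)
    (hf : f.IsHomogeneous (n + 1)) :
    p ∣ Nat.card {a : Fin (n + 1) → k // MvPolynomial.eval a f = 0} ↔
      MvPolynomial.coeff (Finsupp.equivFunOnFinite.symm fun _ : Fin (n + 1) => Nat.card k - 1)
        (f ^ (Nat.card k - 1)) = 0 := by
  classical
  letI := Fintype.ofFinite k
  set q := Fintype.card k with hq
  have hq1 : 1 < q := Fintype.one_lt_card
  rw [Nat.card_eq_fintype_card, Nat.card_eq_fintype_card]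
  set g := f ^ (q - 1)
  have hg : g.IsHomogeneous ((n + 1) * (q - 1)) := hf.pow _
  set d₀ : Fin (n + 1) →₀ ℕ := Finsupp.equivFunOnFinite.symm fun _ => q - 1
  have hsum : ∑ x : Fin (n + 1) → k, MvPolynomial.eval x g = MvPolynomial.coeff d₀ g * (-1) ^ (n + 1) := by
    simp only [MvPolynomial.eval_eq']
    rw [Finset.sum_comm, Finset.sum_eq_single d₀]
    · rw [← Finset.mul_sum]
      congr 1
      rw [← Fintype.prod_sum (fun i (y : k) => y ^ d₀ i), Finset.prod_eq_pow_card (b := (-1 : k)),
        Finset.card_univ, Fintype.card_fin]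
      intro i _
      show ∑ y : k, y ^ (q - 1) = -1
      rw [← Finset.sum_erase_add _ _ (Finset.mem_univ (0 : k)), zero_pow (by omega), add_zero,
        Finset.sum_congr rfl (fun y hy => FiniteField.pow_card_sub_one_eq_one y (Finset.ne_of_mem_erase hy)),
        Finset.sum_const, Finset.card_erase_of_mem (Finset.mem_univ _), Finset.card_univ, nsmul_one,
        Nat.cast_sub hq1.le, FiniteField.cast_card_eq_zero, Nat.cast_one, zero_sub]
    · intro d hd hne
      rw [← Finset.mul_sum, ← Fintype.prod_sum (fun i (y : k) => y ^ d i)]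
      obtain ⟨i, hi⟩ : ∃ i, d i < q - 1 := by
        by_contra hcon
        push Not at hcon
        refine hne (Finsupp.ext fun i => ?_)
        have htot : ∑ j, d j = ∑ _j : Fin (n + 1), (q - 1) := by
          rw [Finset.sum_const, Finset.card_univ, Fintype.card_fin, smul_eq_mul, ← Finsupp.degree_eq_sum]
          exact hg.degree_eq_sum_deg_support hd ▸ rfl
        exact ((Finset.sum_eq_sum_iff_of_le fun j _ => hcon j).1 htot.symm i (Finset.mem_univ i)).symm
      rw [Finset.prod_eq_zero (Finset.mem_univ i) (FiniteField.sum_pow_lt_card_sub_one k _ hi), mul_zero]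
    · intro hd
      rw [MvPolynomial.notMem_support_iff.1 hd]
      simp
  rw [← CharP.cast_eq_zero_iff k p]
  have hcount : (Fintype.card {a : Fin (n + 1) → k // MvPolynomial.eval a f = 0} : k) =
      -(MvPolynomial.coeff d₀ g * (-1) ^ (n + 1)) := by
    rw [← hsum, Fintype.card_subtype, Finset.card_eq_sum_ones, Nat.cast_sum, Finset.sum_filter]
    have : ∀ x : Fin (n + 1) → k, (if MvPolynomial.eval x f = 0 then ((1 : ℕ) : k) else 0) =
        1 - MvPolynomial.eval x g := by
      intro x
      rw [map_pow]
      split_ifs with h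
      · rw [h, zero_pow (by omega), sub_zero, Nat.cast_one]
      · rw [FiniteField.pow_card_sub_one_eq_one _ h, sub_self]
    rw [Finset.sum_congr rfl fun x _ => this x, Finset.sum_sub_distrib, Finset.sum_const, Finset.card_univ,
      Fintype.card_fun, Fintype.card_fin, nsmul_one, Nat.cast_pow, ← hq, FiniteField.cast_card_eq_zero,
      zero_pow (by omega), zero_sub]
  rw [hcount, neg_eq_zero, mul_eq_zero, or_iff_left (pow_ne_zero _ (neg_ne_zero.2 one_ne_zero))]

end Groth.Agent.S13065
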