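import Groth.Statements.S13066
import Mathlib.Algebra.MvPolynomial.Expand
import Mathlib.RingTheory.MvPolynomial.Homogeneous
import Mathlib.FieldTheory.Finite.Basic
import Mathlib.RingTheory.MvPolynomial.Expand

set_option autoImplicit false
set_option linter.style.haveILetI false
universe u
open Zeta

namespace Groth.Agent.S13066

/-- Let k be a finite field with q elements and characteristic p, n ≥ 2, and f ∈ k[x_0, …, x_n]
homogeneous of degree n + 1. Then the coefficient of (x_0 ⋯ x_n)^{q−1} in f^{q−1} is nonzero if and
only if the coefficient of (x_0 ⋯ x_n)^{p−1} in f^{p−1} is nonzero. -/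
theorem result {k : Type u} [Field k] [Finite k]
    (p : ℕ) [CharP k p] (n : ℕ) (hn : 2 ≤ n) (f : MvPolynomial (Fin (n + 1)) k)
    (hf : f.IsHomogeneous (n + 1)) :
    MvPolynomial.coeff (Finsupp.equivFunOnFinite.symm fun _ : Fin (n + 1) => Nat.card k - 1)
        (f ^ (Nat.card k - 1)) ≠ 0 ↔
      MvPolynomial.coeff (Finsupp.equivFunOnFinite.symm fun _ : Fin (n + 1) => p - 1)
        (f ^ (p - 1)) ≠ 0 := by
  classical
  letI := Fintype.ofFinite k
  obtain ⟨⟨e, he⟩, hp, hcard⟩ := FiniteField.card k p
  haveI : Fact p.Prime := ⟨hp⟩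
  haveI : ExpChar k p := ExpChar.prime hp
  have hp1 : 1 ≤ p := hp.one_lt.le
  let D : ℕ → (Fin (n + 1) →₀ ℕ) := fun m => Finsupp.equivFunOnFinite.symm fun _ => m
  set c := MvPolynomial.coeff (D (p - 1)) (f ^ (p - 1))
  have key : ∀ e : ℕ, MvPolynomial.coeff (D (p ^ (e + 1) - 1)) (f ^ (p ^ (e + 1) - 1)) = 0 ↔ c = 0 := by
    intro e
    induction e with
    | zero => rw [zero_add, pow_one]
    | succ e ih =>
      set m := p ^ (e + 1) - 1 with hm
      have hpm : p ^ (e + 1 + 1) - 1 = (p - 1) + p * m := by
        rw [hm, Nat.mul_sub, mul_one, ← pow_succ']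
        have := Nat.pow_le_pow_right hp.pos (show 1 ≤ e + 1 + 1 by omega)
        rw [pow_one] at this
        omega
      rw [hpm]
      have hfac : f ^ (p - 1 + p * m) =
          f ^ (p - 1) * MvPolynomial.expand p (MvPolynomial.map (frobenius k p) (f ^ m)) := by
        rw [pow_add, mul_comm p m, pow_mul, ← MvPolynomial.map_frobenius_expand p (f := f ^ m), MvPolynomial.map_expand]
      have hcoef : MvPolynomial.coeff (D (p - 1 + p * m)) (f ^ (p - 1 + p * m)) =
          c * MvPolynomial.coeff (D m) (f ^ m) ^ p := by
        rw [hfac, MvPolynomial.coeff_mul, Finset.sum_eq_single (D (p - 1), p • D m)]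
        · rw [MvPolynomial.coeff_expand_smul _ hp.ne_zero, MvPolynomial.coeff_map, frobenius_def]
        · rintro ⟨d, d'⟩ hdd hne
          rw [Finset.HasAntidiagonal.mem_antidiagonal] at hdd
          by_contra h0
          obtain ⟨h1, h2⟩ := mul_ne_zero_iff.1 h0
          refine hne ?_
          have hdiv : ∀ i, p ∣ d' i := fun i => by
            by_contra hi
            exact h2 (MvPolynomial.coeff_expand_of_not_dvd _ hi)
          have hge : ∀ i, p - 1 ≤ d i := by
            intro i
            obtain ⟨t, ht⟩ := hdiv i
            have hi : d i + d' i = p - 1 + p * m := by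
              simpa [D] using congrArg (fun z : Fin (n + 1) →₀ ℕ => z i) hdd
            rw [ht] at hi
            by_contra hlt
            rcases le_or_gt t m with htm | htm
            · have := Nat.mul_le_mul_left p htm
              omega
            · have := Nat.mul_le_mul_left p htm
              rw [Nat.mul_succ] at this
              omega
          have htot : ∑ j, d j = ∑ _j : Fin (n + 1), (p - 1) := by
            rw [Finset.sum_const, Finset.card_univ, Fintype.card_fin, smul_eq_mul, ← Finsupp.degree_eq_sum]
            exact (hf.pow (p - 1)).degree_eq_sum_deg_support (MvPolynomial.mem_support_iff.2 h1) ▸ rfl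
          have hd : d = D (p - 1) := Finsupp.ext fun i =>
            ((Finset.sum_eq_sum_iff_of_le fun j _ => hge j).1 htot.symm i (Finset.mem_univ i)).symm
          refine Prod.ext hd (Finsupp.ext fun i => ?_)
          have := congrArg (fun z : Fin (n + 1) →₀ ℕ => z i) hdd
          simp only [hd, D, Finsupp.add_apply, Finsupp.smul_apply, smul_eq_mul,
            Finsupp.coe_equivFunOnFinite_symm] at this ⊢
          omega
        · intro h
          exfalso
          apply h
          rw [Finset.HasAntidiagonal.mem_antidiagonal]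
          ext i
          simp [D]
      rw [hcoef, mul_eq_zero, pow_eq_zero_iff hp.ne_zero, ih, or_self]
  rw [Nat.card_eq_fintype_card, hcard]
  obtain ⟨e', rfl⟩ : ∃ e', e = e' + 1 := ⟨e - 1, by omega⟩
  exact (key e').not

end Groth.Agent.S13066
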