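import Groth.Statements.S13069
import Groth.Agent.ZetaAn.CurveZeta

set_option autoImplicit false
set_option linter.style.haveILetI false
universe u
open CategoryTheory AlgebraicGeometry
open Zeta
open scoped Groth.CurveBridge

namespace Groth.Agent.S13069

/-- If X is a smooth, geometrically connected, projective curve over F_q (here: smooth proper
geometrically irreducible of dimension one over a finite field k), then all the sets Pic^m(X) of
isomorphism classes of line bundles of degree m, m ∈ ℤ, have the same finite nonzero number of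
elements. -/
theorem result (k : Type u) [Field k] [Finite k]
    (X : Scheme.{u}) [X.Over (Spec (CommRingCat.of k))]
    (hX : Curve.IsSmoothProperCurve k X (X ↘ Spec (CommRingCat.of k)))
    [GeometricallyIrreducible (X ↘ Spec (CommRingCat.of k))] (m : ℤ) :
    Finite {c : PicF.Cl X // ∃ L : X.Modules, PicF.cl L = c ∧ PicF.IsInvertible L ∧
        Curv2.deg k X L 1 = m} ∧
      Nonempty {c : PicF.Cl X // ∃ L : X.Modules, PicF.cl L = c ∧ PicF.IsInvertible L ∧
        Curv2.deg k X L 1 = m} ∧
      Nat.card {c : PicF.Cl X // ∃ L : X.Modules, PicF.cl L = c ∧ PicF.IsInvertible L ∧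
          Curv2.deg k X L 1 = m} =
        Nat.card {c : PicF.Cl X // ∃ L : X.Modules, PicF.cl L = c ∧ PicF.IsInvertible L ∧
          Curv2.deg k X L 1 = 0} := by
  obtain ⟨h1, h2, h3, h4⟩ := hX
  haveI := h1; haveI := h2; haveI := h3
  have h := Groth.ZetaAn.isRegCurve_of_smooth (k := k) h4
  have hK := Groth.ZetaAn.isFunctionField_curve (k := k) h4
  obtain ⟨e⟩ := Groth.ZetaAn.nonempty_picEquiv h hK m
  obtain ⟨e₀⟩ := Groth.ZetaAn.nonempty_picEquiv h hK 0
  haveI := (Groth.FunFld1.finite_ClN hK m).to_subtype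
  obtain ⟨D, hD⟩ := Groth.FunFld1.exists_deg hK m
  refine ⟨Finite.of_equiv _ e.symm, ⟨e.symm ⟨_, D, hD, rfl⟩⟩, ?_⟩
  rw [Nat.card_congr e, Nat.card_congr e₀, Nat.card_coe_set_eq, Nat.card_coe_set_eq,
    Groth.FunFld1.ncard_ClN hK (Groth.FunFld1.exists_deg hK m),
    Groth.FunFld1.ncard_ClN hK (Groth.FunFld1.exists_deg hK 0)]

end Groth.Agent.S13069
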