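import Groth.Statements.S13070
import Groth.Agent.ZetaAn.SchemeBound

set_option autoImplicit false
universe u
open CategoryTheory AlgebraicGeometry
open Zeta

namespace Groth.Agent.S13070

/-- For an arithmetic scheme X (of finite type over ℤ) of dimension r there are c_X > 0 and p₀ such that
#X(F_{p^m}) ≤ c_X p^{m(r−1)} for all primes p ≥ p₀ and m ≥ 1, and #X(F_{p^m}) ≤ c_X p^{mr} for p <
p₀ and m ≥ 1. Here #X(F) is the number of morphisms Spec F → X, and the dimension is only assumed ≤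
r. -/
theorem result {X : Scheme.{u}}
    (f : X ⟶ Spec (CommRingCat.of (ULift.{u} ℤ))) [LocallyOfFiniteType f] [QuasiCompact f] (r : ℕ)
    (hr : topologicalKrullDim X ≤ r) :
    ∃ (c : ℝ) (p₀ : ℕ), 0 < c ∧ ∀ (p m : ℕ), p.Prime → 1 ≤ m →
      ∀ (F : Type u) [Field F], Nat.card F = p ^ m →
        (p₀ ≤ p → (Nat.card (Spec (CommRingCat.of F) ⟶ X) : ℝ) ≤
            c * (p : ℝ) ^ ((m : ℝ) * ((r : ℝ) - 1))) ∧
        (p < p₀ → (Nat.card (Spec (CommRingCat.of F) ⟶ X) : ℝ) ≤ c * (p : ℝ) ^ ((m : ℝ) * r)) := by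
  obtain ⟨c, M, hM, hb⟩ := Groth.ZetaAn.exists_pts_bound f r hr
  refine ⟨(c : ℝ) + 1, M + 1, by positivity, fun p m hp hm F _ hF => ?_⟩
  haveI : Finite F := Nat.finite_of_card_ne_zero (by rw [hF]; exact pow_ne_zero _ hp.ne_zero)
  obtain ⟨hfin, hle, hle'⟩ := hb F
  rw [hF] at hle hle'
  have hp0 : (0 : ℝ) < p := by exact_mod_cast hp.pos
  refine ⟨fun hp₀ => ?_, fun _ => ?_⟩
  · have hMF : (M : F) ≠ 0 := by
      intro h
      obtain ⟨q, hq⟩ := CharP.exists F
      have hpF : (p : F) = 0 := by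
        haveI := Fintype.ofFinite F
        have h1 : ((Fintype.card F : ℕ) : F) = 0 := FiniteField.cast_card_eq_zero F
        rw [← Nat.card_eq_fintype_card, hF, Nat.cast_pow] at h1
        exact eq_zero_of_pow_eq_zero h1
      have hqp : q = p := (hp.eq_one_or_self_of_dvd q ((CharP.cast_eq_zero_iff F q p).1 hpF)).resolve_left
        (CharP.char_ne_one F q)
      have := Nat.le_of_dvd hM ((CharP.cast_eq_zero_iff F q M).1 h)
      omega
    have h1 : (Nat.card (Spec (CommRingCat.of F) ⟶ X) : ℝ) * (p : ℝ) ^ m ≤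
        (c + 1 : ℝ) * ((p : ℝ) ^ m) ^ r := by
      refine le_trans (b := (c : ℝ) * ((p : ℝ) ^ m) ^ r) (by exact_mod_cast hle' hMF) ?_
      exact mul_le_mul_of_nonneg_right (by linarith) (by positivity)
    rw [Real.rpow_natCast_mul hp0.le, Real.rpow_sub_one (by positivity), Real.rpow_natCast,
      ← mul_div_assoc, le_div_iff₀ (by positivity)]
    exact h1
  · rw [Real.rpow_natCast_mul hp0.le, Real.rpow_natCast]
    refine le_trans (b := (c : ℝ) * ((p : ℝ) ^ m) ^ r) (by exact_mod_cast hle) ?_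
    exact mul_le_mul_of_nonneg_right (by linarith) (by positivity)

end Groth.Agent.S13070
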