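import Groth.Statements.S13075
import Mathlib.RingTheory.PowerSeries.Log
import Mathlib.RingTheory.PowerSeries.Exp

set_option autoImplicit false
set_option linter.style.haveILetI false
open Zeta

namespace Groth.Agent.S13075

/-- For the formal power series exp(t) = ∑_{m ≥ 0} t^m / m! and log(1 + t) = ∑_{m ≥ 1} (−1)^{m+1} t^m /
m over ℚ, log(exp(u)) = u and exp(log(1 + u)) = 1 + u for every u ∈ tℚ⟦t⟧; stated for u = t (the
general case is obtained by substitution): substituting exp(t) − 1 into log(1 + ·) gives t, and
substituting log(1 + t) into exp gives 1 + t. -/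
theorem result :
    PowerSeries.subst (PowerSeries.exp ℚ - 1)
        (PowerSeries.mk fun m : ℕ => if m = 0 then (0 : ℚ) else (-1) ^ (m + 1) / (m : ℚ)) =
      PowerSeries.X ∧
    PowerSeries.subst (PowerSeries.mk fun m : ℕ => if m = 0 then (0 : ℚ) else (-1) ^ (m + 1) / (m : ℚ))
        (PowerSeries.exp ℚ) = 1 + PowerSeries.X := by
  have hL : (PowerSeries.mk fun m : ℕ => if m = 0 then (0 : ℚ) else (-1) ^ (m + 1) / (m : ℚ)) =
      PowerSeries.log ℚ := by
    ext m
    rcases eq_or_ne m 0 with rfl | hm
    · simp
    · simp [PowerSeries.coeff_log, hm]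
  rw [hL]
  set l := PowerSeries.derivative ℚ (PowerSeries.log ℚ) with hl
  have hl1 : (1 + PowerSeries.X) * l = 1 := by
    rw [hl, PowerSeries.deriv_log]
    ext n
    rcases n with - | n
    · simp
    · simp [add_mul, PowerSeries.coeff_succ_X_mul, PowerSeries.coeff_one, pow_succ]
  have he0 : PowerSeries.constantCoeff (PowerSeries.exp ℚ - 1) = 0 := by
    rw [map_sub, PowerSeries.constantCoeff_exp, map_one, sub_self]
  have he : PowerSeries.HasSubst (PowerSeries.exp ℚ - 1) :=
    PowerSeries.HasSubst.of_constantCoeff_zero he0
  have hlog : PowerSeries.HasSubst (PowerSeries.log ℚ) :=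
    PowerSeries.HasSubst.of_constantCoeff_zero PowerSeries.constantCoeff_log
  constructor
  · refine PowerSeries.derivative.ext ?_ ?_
    · rw [PowerSeries.derivative_subst he, PowerSeries.derivative_X, map_sub, PowerSeries.derivative_exp,
        ← hl]
      have h := congrArg (PowerSeries.subst (PowerSeries.exp ℚ - 1)) hl1
      rw [PowerSeries.subst_mul he, PowerSeries.subst_add he, PowerSeries.subst_X he,
        ← PowerSeries.coe_substAlgHom he, map_one, PowerSeries.coe_substAlgHom he, add_sub_cancel] at h
      rw [Derivation.map_one_eq_zero, sub_zero, mul_comm]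
      exact h
    · rw [PowerSeries.constantCoeff_X]
      exact PowerSeries.constantCoeff_subst_eq_zero he0 _ PowerSeries.constantCoeff_log
  · set f := PowerSeries.subst (PowerSeries.log ℚ) (PowerSeries.exp ℚ) with hf
    have hf' : PowerSeries.derivative ℚ f = f * l := by
      rw [hf, PowerSeries.derivative_subst hlog, PowerSeries.derivative_exp]
    have hl2 : l + (1 + PowerSeries.X) * PowerSeries.derivative ℚ l = 0 := by
      have h := congrArg (PowerSeries.derivative ℚ) hl1
      rw [Derivation.leibniz, smul_eq_mul, smul_eq_mul, map_add, Derivation.map_one_eq_zero,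
        PowerSeries.derivative_X, zero_add] at h
      linear_combination h
    have h0 : PowerSeries.constantCoeff f = 1 := by
      rw [hf, ← PowerSeries.coeff_zero_eq_constantCoeff_apply, PowerSeries.coeff_subst' hlog,
        finsum_eq_single _ 0 fun d hd => by
          rw [PowerSeries.coeff_zero_eq_constantCoeff_apply, map_pow, PowerSeries.constantCoeff_log,
            zero_pow hd, smul_zero]]
      simp
    have hfl : f * l = 1 := by
      refine PowerSeries.derivative.ext ?_ ?_
      · rw [Derivation.leibniz, smul_eq_mul, smul_eq_mul, hf', Derivation.map_one_eq_zero]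
        linear_combination (f * l) * hl2 - f * (PowerSeries.derivative ℚ l) * hl1
      · rw [map_mul, h0, map_one, one_mul]
        have := congrArg PowerSeries.constantCoeff hl1
        simpa using this
    linear_combination (1 + PowerSeries.X) * hfl - f * hl1

end Groth.Agent.S13075
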