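import Groth.Statements.S9261
import Mathlib

set_option autoImplicit false
universe u
open CAlg

namespace Groth.Agent.S9261

/-- Let G be a finite group acting on a ring R, S = R^G its ring of invariants (here: S → R injective
with image the invariants) and A a flat S-algebra. Then the map A → A ⊗_S R is injective with image
the invariants of G acting on A ⊗_S R through the second factor; that is, A → (A ⊗_S R)^G is an
isomorphism. -/
theorem result (S R A G : Type u) [CommRing S] [CommRing R] [Algebra S R]
    [FaithfulSMul S R] [Group G] [Finite G] [MulSemiringAction G R] [SMulCommClass G S R]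
    [Algebra.IsInvariant S R G] [CommRing A] [Algebra S A] [Module.Flat S A] :
    Function.Injective (algebraMap A (TensorProduct S A R)) ∧
      ∀ x : TensorProduct S A R,
        (∀ σ : G, Algebra.TensorProduct.map (AlgHom.id S A) (MulSemiringAction.toAlgHom S R σ) x = x) →
          x ∈ Set.range (algebraMap A (TensorProduct S A R)) := by
  classical
  have := Fintype.ofFinite G
  let d : R →ₗ[S] (G → R) :=
    LinearMap.pi fun σ => (MulSemiringAction.toAlgHom S R σ).toLinearMap - LinearMap.id
  have hd : Function.Exact (Algebra.linearMap S R) d := by
    intro r
    refine ⟨fun h => ?_, ?_⟩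
    · obtain ⟨s, hs⟩ := Algebra.IsInvariant.isInvariant (A := S) (G := G) r
        fun σ => sub_eq_zero.mp (congrFun h σ)
      exact ⟨s, hs⟩
    · rintro ⟨s, rfl⟩
      funext σ
      exact sub_eq_zero.mpr (smul_algebraMap σ s)
  have key : ∀ a : A, algebraMap A (TensorProduct S A R) a =
      (Algebra.linearMap S R).lTensor A ((TensorProduct.rid S A).symm a) := fun a => by simp
  constructor
  · intro a b hab
    rw [key, key] at hab
    exact (TensorProduct.rid S A).symm.injective (Module.Flat.lTensor_preserves_injective_linearMap _
      (FaithfulSMul.algebraMap_injective S R) hab)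
  · intro x hx
    have h0 : d.lTensor A x = 0 := by
      apply (TensorProduct.piRight S S A (fun _ : G => R)).injective
      funext σ
      rw [map_zero, Pi.zero_apply]
      have hval : ∀ y : TensorProduct S A R, TensorProduct.piRight S S A (fun _ : G => R) (d.lTensor A y) σ =
          ((MulSemiringAction.toAlgHom S R σ).toLinearMap - LinearMap.id).lTensor A y := by
        intro y
        induction y using TensorProduct.induction_on with
        | zero => simp
        | tmul a r => simp [d, TensorProduct.tmul_sub]
        | add a b ha hb => simp only [map_add, Pi.add_apply, ha, hb]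
      rw [hval, LinearMap.lTensor_sub, LinearMap.sub_apply, LinearMap.lTensor_id, LinearMap.id_apply,
        sub_eq_zero]
      exact hx σ
    obtain ⟨y, hy⟩ := (Module.Flat.lTensor_exact A hd x).mp h0
    exact ⟨TensorProduct.rid S A y, by rw [key, LinearEquiv.symm_apply_apply, hy]⟩

end Groth.Agent.S9261
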