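import Groth.Statements.S5137
import Groth.Agent.Pi1Quot.Local
import Groth.Agent.S9261
import Mathlib.AlgebraicGeometry.Morphisms.Flat

set_option autoImplicit false
set_option backward.isDefEq.respectTransparency false
open CategoryTheory CategoryTheory.Limits AlgebraicGeometry
universe u
open SGA1
open Groth.Pi1Quot

namespace Groth.Agent.S5137

open scoped TensorProduct in
theorem invOn_baseChange {X Y X' Y' : Scheme.{u}} {G : Type u} [Group G] [Finite G]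
    {ρ : G →* Aut X} {p : X ⟶ Y} (hp : SGA1.IsQuot ρ p) {qY : Y' ⟶ Y} [Flat qY] {pX : X' ⟶ X}
    {p' : X' ⟶ Y'} (hX : IsPullback pX p' p qY) {ρ' : G →* Aut X'}
    (hρ₁ : ∀ g : G, (ρ' g).hom ≫ pX = pX ≫ (ρ g).hom) (hρ₂ : ∀ g : G, (ρ' g).hom ≫ p' = p')
    {U : Y.Opens} (hU : IsAffineOpen U) {U' : Y'.Opens} (hU' : IsAffineOpen U') (e : U' ≤ qY ⁻¹ᵁ U) :
    InvOn hρ₂ U' := by
  haveI := hp.affine
  have hW : p' ⁻¹ᵁ U' = pX ⁻¹ᵁ (p ⁻¹ᵁ U) ⊓ p' ⁻¹ᵁ U' := by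
    rw [← Scheme.Hom.comp_preimage, hX.w, Scheme.Hom.comp_preimage]
    exact (inf_eq_right.2 (p'.preimage_mono e)).symm
  have hle : p' ⁻¹ᵁ U' ≤ pX ⁻¹ᵁ (p ⁻¹ᵁ U) := hW ▸ inf_le_left
  have hpo := (isIso_pushoutSection_iff hX e le_rfl hW).1
    (isIso_pushoutSection_of_isAffineOpen hX e le_rfl hW hU hU' (hU.preimage p))
  rw [Scheme.Hom.appLE_eq_app p, Scheme.Hom.appLE_eq_app p'] at hpo
  letI := action hp.inv U
  letI := algebra (p := p) U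
  haveI := smulCommClass hp U
  haveI := isInvariant hp U
  haveI := faithfulSMul hp U
  letI : Algebra Γ(Y, U) Γ(Y', U') := (qY.appLE U U' e).hom.toAlgebra
  haveI : Module.Flat Γ(Y, U) Γ(Y', U') :=
    HasRingHomProperty.appLE (P := @Flat) qY inferInstance ⟨U, hU⟩ ⟨U', hU'⟩ e
  letI : Algebra Γ(Y', U') Γ(X', p' ⁻¹ᵁ U') := (p'.app U').hom.toAlgebra
  letI : Algebra Γ(X, p ⁻¹ᵁ U) Γ(X', p' ⁻¹ᵁ U') := (pX.appLE (p ⁻¹ᵁ U) (p' ⁻¹ᵁ U') hle).hom.toAlgebra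
  letI : Algebra Γ(Y, U) Γ(X', p' ⁻¹ᵁ U') :=
    ((p'.app U').hom.comp (qY.appLE U U' e).hom).toAlgebra
  haveI : IsScalarTower Γ(Y, U) Γ(Y', U') Γ(X', p' ⁻¹ᵁ U') := IsScalarTower.of_algebraMap_eq' rfl
  haveI : IsScalarTower Γ(Y, U) Γ(X, p ⁻¹ᵁ U) Γ(X', p' ⁻¹ᵁ U') :=
    IsScalarTower.of_algebraMap_eq' (congrArg CommRingCat.Hom.hom hpo.flip.w)
  haveI : Algebra.IsPushout Γ(Y, U) Γ(Y', U') Γ(X, p ⁻¹ᵁ U) Γ(X', p' ⁻¹ᵁ U') :=
    CommRingCat.isPushout_iff_isPushout.mp hpo.flip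
  let E := Algebra.IsPushout.equiv Γ(Y, U) Γ(Y', U') Γ(X, p ⁻¹ᵁ U) Γ(X', p' ⁻¹ᵁ U')
  have hinj : ∀ a, E (algebraMap Γ(Y', U') (Γ(Y', U') ⊗[Γ(Y, U)] Γ(X, p ⁻¹ᵁ U)) a) = p'.app U' a :=
    fun a => E.commutes a
  have hsmul : ∀ (g : G) (r : Γ(X, p ⁻¹ᵁ U)),
      sectionHom hρ₂ U' g (pX.appLE (p ⁻¹ᵁ U) (p' ⁻¹ᵁ U') hle r) =
        pX.appLE (p ⁻¹ᵁ U) (p' ⁻¹ᵁ U') hle (sectionHom hp.inv U g r) := by
    intro g r
    have h1 := Scheme.Hom.appLE_comp_appLE (ρ' g⁻¹).hom pX (p ⁻¹ᵁ U) (p' ⁻¹ᵁ U') (p' ⁻¹ᵁ U') hle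
      (SGA1.preimage_le_of_inv ρ' p' hρ₂ g⁻¹ U')
    have h2 := Scheme.Hom.appLE_comp_appLE pX (ρ g⁻¹).hom (p ⁻¹ᵁ U) (p ⁻¹ᵁ U) (p' ⁻¹ᵁ U')
      (SGA1.preimage_le_of_inv ρ p hp.inv g⁻¹ U) hle
    exact RingHom.congr_fun (congrArg CommRingCat.Hom.hom
      (h1.trans ((appLE_congr_hom (hρ₁ g⁻¹) _ _ _ _).trans h2.symm))) r
  have hcomm : ∀ (g : G) (z : Γ(Y', U') ⊗[Γ(Y, U)] Γ(X, p ⁻¹ᵁ U)),
      sectionHom hρ₂ U' g (E z) = E (Algebra.TensorProduct.map (AlgHom.id Γ(Y, U) Γ(Y', U'))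
        (MulSemiringAction.toAlgHom Γ(Y, U) Γ(X, p ⁻¹ᵁ U) g) z) := by
    intro g z
    induction z using TensorProduct.induction_on with
    | zero => simp only [map_zero]
    | add x y hx hy => simp only [map_add, hx, hy]
    | tmul a r =>
      rw [Algebra.TensorProduct.map_tmul]
      erw [Algebra.IsPushout.equiv_tmul, Algebra.IsPushout.equiv_tmul]
      rw [map_mul]
      congr 1
      · exact sectionHom_app hρ₂ U' g a
      · exact hsmul g r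
  obtain ⟨h1, h2⟩ := Groth.Agent.S9261.result Γ(Y, U) Γ(X, p ⁻¹ᵁ U) Γ(Y', U') G
  refine ⟨fun a b hab => h1 (E.injective ?_), fun s hs => ?_⟩
  · rw [hinj, hinj, hab]
  · obtain ⟨a, ha⟩ := h2 (E.symm s) fun g => E.injective (by
      rw [← hcomm, E.apply_symm_apply, hs g])
    exact ⟨a, by rw [← hinj, ha, E.apply_symm_apply]⟩

/-- Quotients by finite groups commute with flat base change. Let p : X ⟶ Y be a quotient of X by the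
finite group G acting through ρ, let q : Y ⟶ Z and let b : Z' ⟶ Z be flat; let Y' be the fibre
product of Y and Z' over Z and X' that of X and Y' over Y, and let G act on X' compatibly with the
projection to X and trivially over Y'. Then X' ⟶ Y' is a quotient of X' by G. -/
theorem result {X Y Z Z' X' Y' : Scheme.{u}} {G : Type u} [Group G] [Finite G]
    (ρ : G →* Aut X) (p : X ⟶ Y) (hp : SGA1.IsQuot ρ p) (q : Y ⟶ Z) (b : Z' ⟶ Z) [Flat b]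
    (qY : Y' ⟶ Y) (bY : Y' ⟶ Z') (hY : IsPullback qY bY q b)
    (pX : X' ⟶ X) (p' : X' ⟶ Y') (hX : IsPullback pX p' p qY)
    (ρ' : G →* Aut X') (hρ₁ : ∀ g : G, (ρ' g).hom ≫ pX = pX ≫ (ρ g).hom) (hρ₂ : ∀ g : G, (ρ' g).hom ≫ p' = p') :
    SGA1.IsQuot ρ' p' := by
  haveI : Flat qY := MorphismProperty.of_isPullback hY.flip ‹Flat b›
  haveI : IsAffineHom p' := MorphismProperty.of_isPullback hX hp.affine
  refine isQuot_of_local hρ₂ fun y => ?_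
  obtain ⟨_, ⟨U, hU, rfl⟩, hyU, -⟩ :=
    Y.isBasis_affineOpens.exists_subset_of_mem_open (Set.mem_univ (qY y)) isOpen_univ
  obtain ⟨_, ⟨U', hU', rfl⟩, hyU', hle⟩ :=
    Y'.isBasis_affineOpens.exists_subset_of_mem_open (show y ∈ qY ⁻¹ᵁ U from hyU) (qY ⁻¹ᵁ U).isOpen
  exact ⟨U', hU', hyU', invOn_baseChange hp hX hρ₁ hρ₂ hU hU' hle⟩

end Groth.Agent.S5137
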