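import Groth.Statements.S13079
import Groth.Agent.S5137
import Groth.Agent.Pi1Quot.Basic

set_option autoImplicit false
set_option linter.style.haveILetI false
universe u
open CategoryTheory AlgebraicGeometry Limits
open Zeta

namespace Groth.Agent.S13079

/-- Composite of two quotients, for a product of groups acting compatibly. -/
theorem isQuot_comp_prod {G H : Type u} [Group G] [Group H] {A B C : Scheme.{u}}
    (θ : G × H →* Aut A) (r₁ : A ⟶ B) (r₂ : B ⟶ C) (τ : H →* Aut B)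
    (h₁ : SGA1.IsQuot (θ.comp (MonoidHom.inl G H)) r₁) (h₂ : SGA1.IsQuot τ r₂)
    (hθ : ∀ gh : G × H, (θ gh).hom ≫ r₁ = r₁ ≫ (τ gh.2).hom) : SGA1.IsQuot θ (r₁ ≫ r₂) := by
  haveI := h₁.affine
  haveI := h₂.affine
  have hinv : ∀ gh, (θ gh).hom ≫ r₁ ≫ r₂ = r₁ ≫ r₂ := fun gh => by
    rw [← Category.assoc, hθ, Category.assoc, h₂.inv]
  refine ⟨inferInstance, hinv, fun U => ?_, fun U s => ⟨?_, fun hs => ?_⟩⟩
  · rw [Scheme.Hom.comp_app]
    exact (h₁.injective _).comp (h₂.injective U)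
  · rintro ⟨t, rfl⟩ γ
    have h1 := Scheme.Hom.appLE_comp_appLE (θ γ).hom (r₁ ≫ r₂) U ((r₁ ≫ r₂) ⁻¹ᵁ U)
      ((r₁ ≫ r₂) ⁻¹ᵁ U) le_rfl (SGA1.preimage_le_of_inv θ (r₁ ≫ r₂) hinv γ U)
    rw [Groth.Pi1Quot.appLE_congr_hom (hinv γ) _ _ _ le_rfl, Scheme.Hom.appLE_eq_app] at h1
    exact RingHom.congr_fun (congrArg CommRingCat.Hom.hom h1) t
  · obtain ⟨t, ht⟩ : s ∈ Set.range (r₁.app (r₂ ⁻¹ᵁ U)).hom :=
      (h₁.range_iff (r₂ ⁻¹ᵁ U) s).2 fun g => hs (g, 1)
    obtain ⟨w, hw⟩ : t ∈ Set.range (r₂.app U).hom := by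
      refine (h₂.range_iff U t).2 fun h => h₁.injective _ ?_
      have e1 := Scheme.Hom.appLE_comp_appLE (θ (1, h)).hom r₁ (r₂ ⁻¹ᵁ U) (r₁ ⁻¹ᵁ r₂ ⁻¹ᵁ U)
        (r₁ ⁻¹ᵁ r₂ ⁻¹ᵁ U) le_rfl (SGA1.preimage_le_of_inv θ (r₁ ≫ r₂) hinv (1, h) U)
      have e2 := Scheme.Hom.appLE_comp_appLE r₁ (τ h).hom (r₂ ⁻¹ᵁ U) (r₂ ⁻¹ᵁ U) (r₁ ⁻¹ᵁ r₂ ⁻¹ᵁ U)
        (SGA1.preimage_le_of_inv τ r₂ h₂.inv h U) le_rfl
      rw [Scheme.Hom.appLE_eq_app] at e1 e2
      have e3 := e2.trans ((Groth.Pi1Quot.appLE_congr_hom (hθ (1, h)).symm _ _ _ _).trans e1.symm)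
      have e4 := RingHom.congr_fun (congrArg CommRingCat.Hom.hom e3) t
      simp only [CommRingCat.hom_comp, RingHom.comp_apply] at e4
      rw [ht] at e4
      exact e4.trans ((hs (1, h)).trans ht.symm)
    refine ⟨w, ?_⟩
    rw [Scheme.Hom.comp_app]
    exact (congrArg (r₁.app (r₂ ⁻¹ᵁ U)).hom hw).trans ht

/-- Suppose the finite groups G and H act by algebraic k-automorphisms on schemes X and Y of finite type
over k, both admitting quotients X → X/G and Y → Y/H (equivalently, covered by invariant affine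
opens). Then X × Y has the same property for the product action of G × H and (X × Y)/(G × H) ≅ X/G ×
Y/H: the morphism X ×_k Y → X/G ×_k Y/H with components the two quotient maps is a quotient for the
product action. The product action θ and that morphism π are pinned by their composites with the
projections. -/
theorem result {k : Type u} [Field k] {G H : Type u} [Group G] [Finite G] [Group H]
    [Finite H] {X Y XG YH : Scheme.{u}} (fX : X ⟶ Spec (CommRingCat.of k))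
    (fY : Y ⟶ Spec (CommRingCat.of k)) [LocallyOfFiniteType fX] [QuasiCompact fX]
    [LocallyOfFiniteType fY] [QuasiCompact fY] (gX : XG ⟶ Spec (CommRingCat.of k))
    (gY : YH ⟶ Spec (CommRingCat.of k)) (ρ : G →* Aut X) (σ : H →* Aut Y)
    (hρ : ∀ g, (ρ g).hom ≫ fX = fX) (hσ : ∀ h, (σ h).hom ≫ fY = fY)
    (p : X ⟶ XG) (hp : p ≫ gX = fX) (q : Y ⟶ YH) (hq : q ≫ gY = fY)
    (hP : SGA1.IsQuot ρ p) (hQ : SGA1.IsQuot σ q)
    (θ : G × H →* Aut (pullback fX fY))
    (hθ1 : ∀ gh : G × H, (θ gh).hom ≫ pullback.fst fX fY = pullback.fst fX fY ≫ (ρ gh.1).hom)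
    (hθ2 : ∀ gh : G × H, (θ gh).hom ≫ pullback.snd fX fY = pullback.snd fX fY ≫ (σ gh.2).hom)
    (π : pullback fX fY ⟶ pullback gX gY) (hπ1 : π ≫ pullback.fst gX gY = pullback.fst fX fY ≫ p)
    (hπ2 : π ≫ pullback.snd gX gY = pullback.snd fX fY ≫ q) :
    SGA1.IsQuot θ π := by
  haveI : Flat fY := inferInstance
  haveI : Flat gX := inferInstance
  let r₁ : pullback fX fY ⟶ pullback gX fY :=
    pullback.map fX fY gX fY p (𝟙 Y) (𝟙 _) (by simp [hp]) (by simp)
  let r₂ : pullback gX fY ⟶ pullback gX gY :=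
    pullback.map gX fY gX gY (𝟙 XG) q (𝟙 _) (by simp) (by simp [hq])
  have hr₁ : r₁ ≫ pullback.fst gX fY = pullback.fst fX fY ≫ p := pullback.lift_fst _ _ _
  have hr₁' : r₁ ≫ pullback.snd gX fY = pullback.snd fX fY :=
    (pullback.lift_snd _ _ _).trans (Category.comp_id _)
  have hr₂ : r₂ ≫ pullback.fst gX gY = pullback.fst gX fY :=
    (pullback.lift_fst _ _ _).trans (Category.comp_id _)
  have hr₂' : r₂ ≫ pullback.snd gX gY = pullback.snd gX fY ≫ q := pullback.lift_snd _ _ _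
  have hπ : π = r₁ ≫ r₂ := pullback.hom_ext
    (by rw [hπ1, Category.assoc, hr₂, hr₁]) (by rw [hπ2, Category.assoc, hr₂', reassoc_of% hr₁'])
  let τ₀ : H → (pullback gX fY ⟶ pullback gX fY) := fun h =>
    pullback.map gX fY gX fY (𝟙 XG) (σ h).hom (𝟙 _) (by simp) (by simp [hσ])
  have ht : ∀ h, τ₀ h ≫ pullback.fst gX fY = pullback.fst gX fY := fun h =>
    (pullback.lift_fst _ _ _).trans (Category.comp_id _)
  have ht' : ∀ h, τ₀ h ≫ pullback.snd gX fY = pullback.snd gX fY ≫ (σ h).hom := fun h =>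
    pullback.lift_snd _ _ _
  have hτ₁ : τ₀ 1 = 𝟙 _ := pullback.hom_ext (by rw [ht, Category.id_comp]) (by
    rw [ht', map_one, Category.id_comp]
    exact Category.comp_id _)
  have hτm : ∀ a b, τ₀ (a * b) = τ₀ b ≫ τ₀ a := fun a b => pullback.hom_ext
    (by rw [Category.assoc, ht, ht, ht]) (by
      rw [Category.assoc, ht', ht', reassoc_of% (ht' b), map_mul, Aut.Aut_mul_def, Iso.trans_hom])
  let τ : H →* Aut (pullback gX fY) :=
    { toFun := fun h => ⟨τ₀ h, τ₀ h⁻¹, by rw [← hτm, inv_mul_cancel, hτ₁],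
        by rw [← hτm, mul_inv_cancel, hτ₁]⟩
      map_one' := Iso.ext hτ₁
      map_mul' := fun a b => Iso.ext (hτm a b) }
  have hτe : ∀ h, (τ h).hom = τ₀ h := fun _ => rfl
  have hθr : ∀ gh : G × H, (θ gh).hom ≫ r₁ = r₁ ≫ (τ gh.2).hom := fun gh => by
    rw [hτe]
    refine pullback.hom_ext ?_ ?_
    · rw [Category.assoc, Category.assoc, ht, hr₁, reassoc_of% (hθ1 gh), hP.inv]
    · rw [Category.assoc, Category.assoc, ht', hr₁', hθ2, reassoc_of% hr₁']
  rw [hπ]
  refine isQuot_comp_prod θ r₁ r₂ τ ?_ ?_ hθr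
  · refine Groth.Agent.S5137.result ρ p hP gX fY (pullback.fst gX fY) (pullback.snd gX fY)
      (IsPullback.of_hasPullback gX fY) (pullback.fst fX fY) r₁ ?_ _ (fun g => hθ1 (g, 1)) fun g => ?_
    · refine IsPullback.of_bot ?_ hr₁.symm (IsPullback.of_hasPullback gX fY)
      rw [hr₁', hp]
      exact IsPullback.of_hasPullback fX fY
    · refine (hθr (g, 1)).trans ?_
      rw [map_one]
      exact Category.comp_id r₁
  · refine Groth.Agent.S5137.result σ q hQ gY gX (pullback.snd gX gY) (pullback.fst gX gY)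
      (IsPullback.of_hasPullback gX gY).flip (pullback.snd gX fY) r₂ ?_ τ (fun h => pullback.lift_snd _ _ _)
      fun h => ?_
    · refine IsPullback.of_bot ?_ (pullback.lift_snd _ _ _).symm (IsPullback.of_hasPullback gX gY).flip
      rw [hr₂, hq]
      exact (IsPullback.of_hasPullback gX fY).flip
    · rw [hτe]
      refine pullback.hom_ext ?_ ?_
      · rw [Category.assoc, hr₂, ht]
      · rw [Category.assoc, hr₂', reassoc_of% (ht' h), hQ.inv]


end Groth.Agent.S13079
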