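import Groth.Statements.S13080
import Groth.Agent.Pi1Quot.Existence
import Mathlib.AlgebraicGeometry.Morphisms.ClosedImmersion

set_option autoImplicit false
set_option backward.isDefEq.respectTransparency false
set_option linter.style.haveILetI false
universe u
open CategoryTheory AlgebraicGeometry Limits
open Zeta

namespace Groth.Agent.S13080

/-- Sections over a disjoint union of opens. -/
theorem bijective_pi_app {C : Type u} {X : Scheme.{u}} {Z : C → Scheme.{u}} (j : ∀ c, Z c ⟶ X)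
    [∀ c, IsOpenImmersion (j c)] (hcov : ∀ x : X, ∃ c, x ∈ Set.range (j c).base)
    (hdisj : ∀ c c' x, x ∈ Set.range (j c).base → x ∈ Set.range (j c').base → c = c') (U : X.Opens) :
    Function.Bijective fun (s : Γ(X, U)) c => ((j c).app U).hom s := by
  let W : C → X.Opens := fun c => (j c) ''ᵁ ((j c) ⁻¹ᵁ U)
  have hWU : ∀ c, W c ≤ U := fun c => by
    rintro _ ⟨z, hz, rfl⟩; exact hz
  have hcovU : U ≤ iSup W := fun x hx => by
    obtain ⟨c, z, rfl⟩ := hcov x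
    exact TopologicalSpace.Opens.mem_iSup.2 ⟨c, z, hx, rfl⟩
  have happ : ∀ c, (j c).app U = X.presheaf.map (homOfLE (hWU c)).op ≫ ((j c).appIso ((j c) ⁻¹ᵁ U)).hom := fun c => by
    rw [Scheme.Hom.appIso_hom', Scheme.Hom.map_appLE, Scheme.Hom.appLE_eq_app]
  have hiso : ∀ c, Function.Bijective ((j c).appIso ((j c) ⁻¹ᵁ U)).hom.hom := fun c =>
    ConcreteCategory.bijective_of_isIso ((j c).appIso ((j c) ⁻¹ᵁ U)).hom
  refine ⟨fun s t h => ?_, fun v => ?_⟩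
  · refine TopCat.Sheaf.eq_of_locally_eq' X.sheaf W U (fun c => homOfLE (hWU c)) hcovU s t fun c => (hiso c).1 ?_
    have h' := congrFun h c
    simp only [happ] at h'
    exact h'
  · choose w hw using fun c => (hiso c).2 (v c)
    obtain ⟨s, hs, -⟩ := TopCat.Sheaf.existsUnique_gluing' X.sheaf W U (fun c => homOfLE (hWU c)) hcovU w
      fun c c' => by
        rcases eq_or_ne c c' with rfl | hne
        · rfl
        have hbot : W c ⊓ W c' = ⊥ := TopologicalSpace.Opens.ext <| Set.eq_empty_iff_forall_notMem.2 fun x hx => by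
          obtain ⟨⟨z, -, rfl⟩, z', -, hz'⟩ := hx
          exact hne (hdisj c c' _ ⟨z, rfl⟩ ⟨z', hz'⟩)
        haveI : Subsingleton Γ(X, W c ⊓ W c') := by
          rw [hbot]; infer_instance
        exact Subsingleton.elim (α := Γ(X, W c ⊓ W c')) _ _
    refine ⟨s, funext fun c => ?_⟩
    simp only [happ]
    exact (congrArg _ (hs c)).trans (hw c)

/-- Let G be a finite group acting by algebraic automorphisms over k on a scheme X of finite type over k
admitting a quotient p : X → X/G, H ⊆ G a subgroup and Y ⊆ X an open subset preserved by H such that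
X is the disjoint union of the translates Y g over the cosets of G mod H. Then the natural morphism
Y/H → X/G is an isomorphism: Y → X/G is a quotient of Y by H. The action of H on Y is pinned by
compatibility with the inclusion Y → X; the coset condition is stated as: the translates of Y cover
X, and g(Y) is disjoint from Y for g ∉ H. -/
theorem result {k : Type u} [Field k] {G : Type u} [Group G]
    [Finite G] {X XG : Scheme.{u}} (fX : X ⟶ Spec (CommRingCat.of k)) [LocallyOfFiniteType fX]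
    [QuasiCompact fX] (ρ : G →* Aut X) (hρ : ∀ g, (ρ g).hom ≫ fX = fX) (p : X ⟶ XG)
    (hP : SGA1.IsQuot ρ p) (H : Subgroup G) (Y : X.Opens)
    (hcov : ∀ x : X, ∃ g : G, x ∈ (ρ g).hom.base '' (Y : Set X))
    (hdisj : ∀ g : G, g ∉ H → Disjoint ((ρ g).hom.base '' (Y : Set X)) (Y : Set X))
    (ρY : H →* Aut (Y : Scheme.{u})) (hρY : ∀ h : H, (ρY h).hom ≫ Y.ι = Y.ι ≫ (ρ (h : G)).hom) :
    SGA1.IsQuot ρY (Y.ι ≫ p) := by
  classical
  have hmul : ∀ a b : G, (ρ (a * b)).hom = (ρ b).hom ≫ (ρ a).hom := fun a b => by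
    rw [map_mul, Aut.Aut_mul_def, Iso.trans_hom]
  have hH : ∀ h : H, ∀ y ∈ Y, (ρ (h : G)).hom y ∈ Y := fun h y hy => by
    show (Y.ι ≫ (ρ (h : G)).hom) (⟨y, hy⟩ : Y.toScheme) ∈ Y
    rw [← hρY]
    exact ((ρY h).hom ⟨y, hy⟩).2
  let C := G ⧸ H
  let j : C → ((Y : Scheme.{u}) ⟶ X) := fun c => Y.ι ≫ (ρ c.out).hom
  have hjopen : ∀ c, IsOpenImmersion (j c) := fun c => inferInstance
  have hrange : ∀ c, Set.range (j c).base = (ρ c.out).hom.base '' (Y : Set X) := fun c => by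
    rw [show ((j c).base : Y.toScheme → X) = (ρ c.out).hom.base ∘ Y.ι.base from rfl, Set.range_comp, Scheme.Opens.range_ι]
  have hjcov : ∀ x : X, ∃ c, x ∈ Set.range (j c).base := fun x => by
    obtain ⟨g, y, hy, rfl⟩ := hcov x
    obtain ⟨h, hh⟩ := QuotientGroup.mk_out_eq_mul H g
    refine ⟨QuotientGroup.mk g, ?_⟩
    rw [hrange, hh]
    refine ⟨(ρ ((h : G)⁻¹)).hom y, hH h⁻¹ y hy, ?_⟩
    rw [← Scheme.Hom.comp_apply, ← hmul, mul_inv_cancel_right]
  have hjdisj : ∀ c c' x, x ∈ Set.range (j c).base → x ∈ Set.range (j c').base → c = c' := fun c c' x h1 h2 => by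
    rw [hrange] at h1 h2
    obtain ⟨y, hy, rfl⟩ := h1
    obtain ⟨y', hy', he⟩ := h2
    rw [← QuotientGroup.out_eq' c, ← QuotientGroup.out_eq' c', QuotientGroup.eq]
    by_contra hne
    refine Set.disjoint_left.1 (hdisj _ hne) ⟨y', hy', ?_⟩ hy
    rw [hmul, Scheme.Hom.comp_apply, he, ← Scheme.Hom.comp_apply, ← hmul, inv_mul_cancel, map_one]
    rfl
  have hclosed : IsClosed (Y : Set X) := by
    rw [← isOpen_compl_iff, isOpen_iff_forall_mem_open]
    intro x hx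
    obtain ⟨g, hg⟩ := hcov x
    refine ⟨(ρ g).hom.base '' (Y : Set X), fun z hz => ?_, (ρ g).hom.isOpenEmbedding.isOpenMap _ Y.2, hg⟩
    refine Set.disjoint_left.1 (hdisj g fun hgH => ?_) hz
    obtain ⟨y, hy, rfl⟩ := hg
    exact hx (hH ⟨g, hgH⟩ y hy)
  haveI : IsClosedImmersion Y.ι := IsClosedImmersion.of_isPreimmersion Y.ι (by rw [Scheme.Opens.range_ι]; exact hclosed)
  haveI := hP.affine
  have hinv : ∀ h, (ρY h).hom ≫ Y.ι ≫ p = Y.ι ≫ p := fun h => by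
    rw [← Category.assoc, hρY, Category.assoc, hP.inv]
  have hjp : ∀ c, j c ≫ p = Y.ι ≫ p := fun c => by rw [Category.assoc, hP.inv]
  have hpre : ∀ c (U : XG.Opens), (Y.ι ≫ p) ⁻¹ᵁ U ≤ (j c) ⁻¹ᵁ (p ⁻¹ᵁ U) := fun c U => by
    rw [← Scheme.Hom.comp_preimage, hjp]
  have hinj : ∀ (U : XG.Opens) (s t : Γ(X, p ⁻¹ᵁ U)),
      (∀ c, ((j c).appLE (p ⁻¹ᵁ U) ((Y.ι ≫ p) ⁻¹ᵁ U) (hpre c U)).hom s =
        ((j c).appLE (p ⁻¹ᵁ U) ((Y.ι ≫ p) ⁻¹ᵁ U) (hpre c U)).hom t) → s = t := by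
    intro U s t h
    refine (bijective_pi_app j hjcov hjdisj (p ⁻¹ᵁ U)).1 (funext fun c => ?_)
    have e : (j c) ⁻¹ᵁ (p ⁻¹ᵁ U) = (Y.ι ≫ p) ⁻¹ᵁ U := by rw [← Scheme.Hom.comp_preimage, hjp]
    have hb := (ConcreteCategory.bijective_of_isIso ((Y : Scheme.{u}).presheaf.map (eqToHom e.symm).op)).1
    refine hb ?_
    have h' := h c
    simp only [Scheme.Hom.appLE, CommRingCat.hom_comp, RingHom.comp_apply] at h'
    exact h'
  have happ : ∀ c (U : XG.Opens) (t : Γ(XG, U)),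
      ((j c).appLE (p ⁻¹ᵁ U) ((Y.ι ≫ p) ⁻¹ᵁ U) (hpre c U)).hom (p.app U t) = (Y.ι ≫ p).app U t := by
    intro c U t
    have h1 := Scheme.Hom.appLE_comp_appLE (j c) p U (p ⁻¹ᵁ U) ((Y.ι ≫ p) ⁻¹ᵁ U) le_rfl (hpre c U)
    rw [Groth.Pi1Quot.appLE_congr_hom (hjp c) _ _ _ le_rfl, Scheme.Hom.appLE_eq_app, Scheme.Hom.appLE_eq_app] at h1
    exact RingHom.congr_fun (congrArg CommRingCat.Hom.hom h1) t
  refine ⟨inferInstance, hinv, fun U a b hab => hP.injective U (hinj U _ _ fun c => ?_), fun U s => ⟨?_, fun hs => ?_⟩⟩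
  · rw [happ, happ]; exact hab
  · rintro ⟨t, rfl⟩ h
    have h1 := Scheme.Hom.appLE_comp_appLE (ρY h).hom (Y.ι ≫ p) U ((Y.ι ≫ p) ⁻¹ᵁ U) ((Y.ι ≫ p) ⁻¹ᵁ U) le_rfl
      (SGA1.preimage_le_of_inv ρY (Y.ι ≫ p) hinv h U)
    rw [Groth.Pi1Quot.appLE_congr_hom (hinv h) _ _ _ le_rfl, Scheme.Hom.appLE_eq_app] at h1
    exact RingHom.congr_fun (congrArg CommRingCat.Hom.hom h1) t
  · have e : ∀ c, (j c) ⁻¹ᵁ (p ⁻¹ᵁ U) = (Y.ι ≫ p) ⁻¹ᵁ U := fun c => by rw [← Scheme.Hom.comp_preimage, hjp]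
    obtain ⟨S, hS⟩ := (bijective_pi_app j hjcov hjdisj (p ⁻¹ᵁ U)).2
      (fun c => ((Y : Scheme.{u}).presheaf.map (eqToHom (e c)).op).hom s)
    have hS' : ∀ c, ((j c).appLE (p ⁻¹ᵁ U) ((Y.ι ≫ p) ⁻¹ᵁ U) (hpre c U)).hom S = s := fun c => by
      simp only [Scheme.Hom.appLE, CommRingCat.hom_comp, RingHom.comp_apply]
      rw [show ((j c).app (p ⁻¹ᵁ U)).hom S = _ from congrFun hS c, ← RingHom.comp_apply, ← CommRingCat.hom_comp,
        ← Functor.map_comp, Subsingleton.elim (_ ≫ _) (𝟙 _)]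
      exact RingHom.congr_fun (congrArg CommRingCat.Hom.hom ((Y : Scheme.{u}).presheaf.map_id _)) s
    have hSinv : ∀ g : G, ((ρ g).hom.appLE (p ⁻¹ᵁ U) (p ⁻¹ᵁ U) (SGA1.preimage_le_of_inv ρ p hP.inv g U)).hom S = S := by
      intro g
      refine hinj U _ _ fun c => ?_
      rw [hS']
      obtain ⟨h, hh⟩ := QuotientGroup.mk_out_eq_mul H (g * c.out)
      set c' : C := QuotientGroup.mk (g * c.out)
      have e1 : j c ≫ (ρ g).hom = (ρY h⁻¹).hom ≫ j c' := by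
        rw [show (ρY h⁻¹).hom ≫ j c' = ((ρY h⁻¹).hom ≫ Y.ι) ≫ (ρ c'.out).hom from (Category.assoc _ _ _).symm,
          hρY, Category.assoc, Category.assoc, ← hmul, ← hmul, hh, Subgroup.coe_inv, mul_inv_cancel_right]
      have h1 := Scheme.Hom.appLE_comp_appLE (j c) (ρ g).hom (p ⁻¹ᵁ U) (p ⁻¹ᵁ U) ((Y.ι ≫ p) ⁻¹ᵁ U)
        (SGA1.preimage_le_of_inv ρ p hP.inv g U) (hpre c U)
      have h2 := Scheme.Hom.appLE_comp_appLE (ρY h⁻¹).hom (j c') (p ⁻¹ᵁ U) ((Y.ι ≫ p) ⁻¹ᵁ U) ((Y.ι ≫ p) ⁻¹ᵁ U)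
        (hpre c' U) (SGA1.preimage_le_of_inv ρY (Y.ι ≫ p) hinv h⁻¹ U)
      have h3 := RingHom.congr_fun (congrArg CommRingCat.Hom.hom
        (h1.trans ((Groth.Pi1Quot.appLE_congr_hom e1 _ _ _ _).trans h2.symm))) S
      simp only [CommRingCat.hom_comp, RingHom.comp_apply] at h3
      rw [h3, hS', hs]
    obtain ⟨t, ht⟩ := (hP.range_iff U S).2 hSinv
    exact ⟨t, by rw [← happ (QuotientGroup.mk 1) U t, ← hS' (QuotientGroup.mk 1), ← ht]⟩
end Groth.Agent.S13080
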