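import Groth.Statements.S13081
import Groth.Agent.Pi1Quot.Descend

set_option autoImplicit false
set_option linter.style.haveILetI false
universe u
open CategoryTheory AlgebraicGeometry Limits
open Zeta

namespace Groth.Agent.S13081

/-- Let G be a finite group acting by algebraic automorphisms over k on a scheme X of finite type over k
admitting a quotient X → X/G, and H a normal subgroup of G. Then X/H carries an induced action of
G/H and its quotient by this action is X/G: the induced morphism r : X/H → X/G is a quotient of X/H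
by G/H. The induced action ρ̄ is pinned by p_H ≫ ρ̄(ḡ) = ρ(g) ≫ p_H and r by p_H ≫ r = p. -/
theorem result {k : Type u} [Field k] {G : Type u} [Group G]
    [Finite G] {X XG XH : Scheme.{u}} (fX : X ⟶ Spec (CommRingCat.of k)) [LocallyOfFiniteType fX]
    [QuasiCompact fX] (ρ : G →* Aut X) (hρ : ∀ g, (ρ g).hom ≫ fX = fX) (p : X ⟶ XG)
    (hP : SGA1.IsQuot ρ p) (H : Subgroup G) [H.Normal] (pH : X ⟶ XH)
    (hPH : SGA1.IsQuot (ρ.comp H.subtype) pH) (ρbar : G ⧸ H →* Aut XH)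
    (hρbar : ∀ g : G, pH ≫ (ρbar (QuotientGroup.mk g)).hom = (ρ g).hom ≫ pH)
    (r : XH ⟶ XG) (hr : pH ≫ r = p) :
    SGA1.IsQuot ρbar r := by
  subst hr
  haveI := hP.affine
  haveI := hPH.affine
  have hsurj := (Groth.Pi1Quot.surjective hPH).surj
  have hinv : ∀ γ : G ⧸ H, (ρbar γ).hom ≫ r = r := fun γ => by
    obtain ⟨g, rfl⟩ := QuotientGroup.mk_surjective γ
    refine Groth.Pi1Quot.eq_of_comp_eq pH hsurj hPH.injective ?_
    rw [← Category.assoc, hρbar, Category.assoc, hP.inv]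
  have haff : IsAffineHom r := Groth.Pi1Quot.isAffineHom_of_comp hPH r
  refine ⟨haff, hinv, fun U s t h => hP.injective U ?_, fun U s => ⟨?_, fun hs => ?_⟩⟩
  · rw [Scheme.Hom.comp_app]
    exact congrArg (pH.app (r ⁻¹ᵁ U)).hom h
  · rintro ⟨t, rfl⟩ γ
    have h1 := Scheme.Hom.appLE_comp_appLE (ρbar γ).hom r U (r ⁻¹ᵁ U) (r ⁻¹ᵁ U) le_rfl
      (SGA1.preimage_le_of_inv ρbar r hinv γ U)
    rw [Groth.Pi1Quot.appLE_congr_hom (hinv γ) _ _ _ le_rfl, Scheme.Hom.appLE_eq_app] at h1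
    exact RingHom.congr_fun (congrArg CommRingCat.Hom.hom h1) t
  · obtain ⟨t, ht⟩ : (pH.app (r ⁻¹ᵁ U)).hom s ∈ Set.range ((pH ≫ r).app U).hom := by
      refine (hP.range_iff U _).2 fun g => ?_
      have e1 := Scheme.Hom.appLE_comp_appLE (ρ g).hom pH (r ⁻¹ᵁ U) (pH ⁻¹ᵁ r ⁻¹ᵁ U) (pH ⁻¹ᵁ r ⁻¹ᵁ U) le_rfl
        (SGA1.preimage_le_of_inv ρ (pH ≫ r) hP.inv g U)
      have e2 := Scheme.Hom.appLE_comp_appLE pH (ρbar (QuotientGroup.mk g)).hom (r ⁻¹ᵁ U) (r ⁻¹ᵁ U) (pH ⁻¹ᵁ r ⁻¹ᵁ U)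
        (SGA1.preimage_le_of_inv ρbar r hinv _ U) le_rfl
      rw [Scheme.Hom.appLE_eq_app] at e1 e2
      have e3 := e1.trans ((Groth.Pi1Quot.appLE_congr_hom (hρbar g).symm _ _ _ _).trans e2.symm)
      have e4 := RingHom.congr_fun (congrArg CommRingCat.Hom.hom e3) s
      simp only [CommRingCat.hom_comp, RingHom.comp_apply] at e4
      rw [hs] at e4
      exact e4
    refine ⟨t, hPH.injective _ ?_⟩
    rw [Scheme.Hom.comp_app] at ht
    exact ht
end Groth.Agent.S13081
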