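import Groth.Statements.S13082
import Groth.Agent.Pi1Quot.Residue
import Groth.Agent.Pi1Quot.Basic
import Mathlib.AlgebraicGeometry.Morphisms.UniversallyInjective
import Mathlib.AlgebraicGeometry.Morphisms.Flat

set_option autoImplicit false
set_option linter.style.haveILetI false
universe u
open CategoryTheory AlgebraicGeometry Limits
open Zeta

namespace Groth.Agent.S13082

/-- Let X be a scheme of finite type over k with an action of a finite group G by algebraic
automorphisms over k admitting a quotient π : X → X/G, and W a locally closed subscheme of X on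
which G induces an action. Then the canonical morphism W/G → π(W) is radicial and surjective: the
induced morphism φ : W/G → X/G is universally injective with set-theoretic image π(W). The action on
W is pinned along the immersion j : W → X, φ by p_W ≫ φ = j ≫ π for a quotient p_W : W → W/G. -/
theorem result {k : Type u} [Field k] {G : Type u}
    [Group G] [Finite G] {X XG W WG : Scheme.{u}} (fX : X ⟶ Spec (CommRingCat.of k))
    [LocallyOfFiniteType fX] [QuasiCompact fX] (ρ : G →* Aut X) (hρ : ∀ g, (ρ g).hom ≫ fX = fX)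
    (p : X ⟶ XG) (hP : SGA1.IsQuot ρ p) (j : W ⟶ X) [IsImmersion j] (ρW : G →* Aut W)
    (hρW : ∀ g, (ρW g).hom ≫ j = j ≫ (ρ g).hom) (pW : W ⟶ WG) (hPW : SGA1.IsQuot ρW pW)
    (φ : WG ⟶ XG) (hφ : pW ≫ φ = j ≫ p) :
    UniversallyInjective φ ∧ Set.range φ.base = p.base '' Set.range j.base := by
  constructor
  · refine ((tfae_universallyInjective φ).out 1 0).1 ?_
    intro K _ a b hab
    haveI := Groth.Pi1Quot.surjective hPW
    let qa := pullback.snd pW a
    let qb := pullback.snd pW b
    let P := pullback qa qb
    let π : P ⟶ Spec (CommRingCat.of K) := pullback.fst qa qb ≫ qa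
    haveI : Surjective π := inferInstance
    obtain ⟨t, -⟩ := π.surjective (IsLocalRing.closedPoint K)
    let e : Spec (P.residueField t) ⟶ P := P.fromSpecResidueField t
    let ξa := e ≫ pullback.fst qa qb ≫ pullback.fst pW a
    let ξb := e ≫ pullback.snd qa qb ≫ pullback.fst pW b
    have ha : ξa ≫ pW = (e ≫ π) ≫ a := by
      simp only [ξa, π, qa, Category.assoc]
      rw [pullback.condition (f := pW) (g := a)]
    have hb : ξb ≫ pW = (e ≫ π) ≫ b := by
      have hπ : π = pullback.snd qa qb ≫ qb := pullback.condition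
      rw [hπ]
      simp only [ξb, qb, Category.assoc]
      rw [pullback.condition (f := pW) (g := b)]
    have hξ : (ξa ≫ j) ≫ p = (ξb ≫ j) ≫ p := by
      have key : ∀ ξ : Spec (P.residueField t) ⟶ W, (ξ ≫ j) ≫ p = (ξ ≫ pW) ≫ φ := fun ξ => by
        simp only [Category.assoc, hφ]
      rw [key, key, ha, hb, Category.assoc _ a, Category.assoc _ b, show a ≫ φ = b ≫ φ from hab]
    obtain ⟨g, hg⟩ := Groth.Pi1Quot.exists_fieldPoint_smul hP (ξa ≫ j) (ξb ≫ j) hξ
    have hg' : ξa ≫ (ρW g).hom = ξb := by
      rw [← cancel_mono j, Category.assoc, hρW, ← Category.assoc]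
      exact hg
    have hab' : (e ≫ π) ≫ a = (e ≫ π) ≫ b := by
      rw [← ha, ← hb, ← hg', Category.assoc ξa (ρW g).hom pW, hPW.inv]
    obtain ⟨ι, hι⟩ := Spec.map_surjective (e ≫ π)
    haveI : Flat (e ≫ π) := by
      rw [← hι, HasRingHomProperty.Spec_iff (P := @Flat)]
      letI := ι.hom.toAlgebra
      exact (inferInstanceAs (Module.Flat K (P.residueField t)))
    haveI : Surjective (e ≫ π) := ⟨fun y => ⟨IsLocalRing.closedPoint _, Subsingleton.elim _ _⟩⟩
    haveI : Epi (e ≫ π) := Flat.epi_of_flat_of_surjective _
    exact (cancel_epi _).1 hab'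
  · rw [← Set.range_comp, ← (Groth.Pi1Quot.surjective hPW).surj.range_comp φ.base]
    exact congrArg (fun m : W ⟶ XG => Set.range m.base) hφ

end Groth.Agent.S13082
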