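import Groth.Statements.S13083
import Groth.Agent.S13071
import Groth.Agent.Misc10.Weil.FrobPts
import Mathlib.AlgebraicGeometry.AlgClosed.Basic
import Mathlib.FieldTheory.PrimitiveElement

set_option autoImplicit false
set_option linter.style.haveILetI false
universe u
open CategoryTheory AlgebraicGeometry Limits
open Zeta

namespace Groth.Agent.S13083

section aux

variable {k K : Type u} [Field k] [Field K] [Algebra k K] [IsAlgClosed K] [Algebra.IsAlgebraic k K]
  {X : Scheme.{u}} (f : X ⟶ Spec (CommRingCat.of k)) [LocallyOfFiniteType f]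

local notation "sK" => Spec.map (CommRingCat.ofHom (algebraMap k K))

theorem finite_resHom {x : X} (hx : IsClosed ({x} : Set X)) :
    letI := (Groth.Variety2.Dim.resHom f x).toAlgebra
    Module.Finite k (X.residueField x) := by
  have : IsClosedImmersion (X.fromSpecResidueField x) := isClosed_singleton_iff_isClosedImmersion.1 hx
  have hfin : IsFinite (X.fromSpecResidueField x ≫ f) :=
    (isFinite_iff_locallyOfFiniteType_of_jacobsonSpace).2 inferInstance
  rw [← Groth.Variety2.Dim.resHom_spec, IsFinite.SpecMap_iff] at hfin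
  exact hfin

omit [IsAlgClosed K] [LocallyOfFiniteType f] in
theorem isIntegralHom_fst : IsIntegralHom (pullback.fst f sK) := by
  haveI : IsIntegralHom sK := by
    rw [IsIntegralHom.SpecMap_iff]
    exact algebraMap_isIntegral_iff.2 Algebra.IsAlgebraic.isIntegral
  infer_instance

omit [Algebra.IsAlgebraic k K] in
/-- Closed points of `X_K` over `x` correspond to the embeddings of the residue field. -/
theorem natCard_closedFibre [PerfectField k] {x : X} (hx : IsClosed ({x} : Set X)) :
    Finite {y : ↑(pullback f sK) // IsClosed ({y} : Set _) ∧ pullback.fst f sK y = x} ∧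
    Nat.card {y : ↑(pullback f sK) // IsClosed ({y} : Set _) ∧ pullback.fst f sK y = x} =
      EGA4loc.residueDegree f x := by
  classical
  letI := (Groth.Variety2.Dim.resHom f x).toAlgebra
  haveI := finite_resHom f hx
  haveI : Algebra.IsSeparable k (X.residueField x) := Algebra.IsAlgebraic.isSeparable_of_perfectField
  let P := pointEquivClosedPoint (pullback.snd f sK)
  let sec : (X.residueField x →ₐ[k] K) → {p : Spec (CommRingCat.of K) ⟶ pullback f sK // p ≫ pullback.snd f sK = 𝟙 _} :=
    fun φ => ⟨pullback.lift (Spec.map (CommRingCat.ofHom φ.toRingHom) ≫ X.fromSpecResidueField x) (𝟙 _) (by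
      rw [Category.id_comp, Category.assoc, ← Groth.Variety2.Dim.resHom_spec, ← Spec.map_comp]
      congr 1
      ext a
      exact φ.commutes a), pullback.lift_snd _ _ _⟩
  have hclosed : ∀ φ, IsClosed ({(sec φ).1 (IsLocalRing.closedPoint K)} : Set ↑(pullback f sK)) := fun φ => (P (sec φ)).2
  have hover : ∀ φ, pullback.fst f sK ((sec φ).1 (IsLocalRing.closedPoint K)) = x := fun φ => by
    have e : (sec φ).1 ≫ pullback.fst f sK = Spec.map (CommRingCat.ofHom φ.toRingHom) ≫ X.fromSpecResidueField x :=
      pullback.lift_fst _ _ _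
    refine Eq.trans (congrArg (fun g => g (IsLocalRing.closedPoint K)) e : _) ?_
    exact (Scheme.range_fromSpecResidueField x).le ⟨(Spec.map (CommRingCat.ofHom φ.toRingHom)) (IsLocalRing.closedPoint K), rfl⟩
  let G : (X.residueField x →ₐ[k] K) →
      {y : ↑(pullback f sK) // IsClosed ({y} : Set _) ∧ pullback.fst f sK y = x} :=
    fun φ => ⟨_, hclosed φ, hover φ⟩
  have hG : Function.Bijective G := by
    constructor
    · intro φ ψ h
      have h1 : sec φ = sec ψ := P.injective (Subtype.ext ((congrArg Subtype.val h : _) : ((P (sec φ)) : ↥(pullback f sK)) = P (sec ψ)))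
      have h2 := congrArg (fun p => p.1 ≫ pullback.fst f sK) h1
      simp only [sec, pullback.lift_fst] at h2
      have h3 := (Scheme.SpecToEquivOfField K X).symm.injective
        (a₁ := ⟨x, CommRingCat.ofHom φ.toRingHom⟩) (a₂ := ⟨x, CommRingCat.ofHom ψ.toRingHom⟩) h2
      replace h3 := eq_of_heq (Sigma.mk.inj h3).2
      exact AlgHom.ext fun a => RingHom.congr_fun (congrArg CommRingCat.Hom.hom h3) a
    · rintro ⟨y, hy, hyx⟩
      obtain ⟨⟨p, hp⟩, hpy⟩ := P.surjective ⟨y, hy⟩
      have hpy' : p (IsLocalRing.closedPoint K) = y := congrArg Subtype.val hpy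
      subst hpy'
      obtain ⟨φ, hφ⟩ : ∃ φ : X.residueField x ⟶ CommRingCat.of K,
          p ≫ pullback.fst f sK = Spec.map φ ≫ X.fromSpecResidueField x := by
        have hx' : (p ≫ pullback.fst f sK) (IsLocalRing.closedPoint K) = x := hyx
        subst hx'
        exact ⟨_, ((Scheme.SpecToEquivOfField K X).symm_apply_apply (p ≫ pullback.fst f sK)).symm⟩
      have hc : ∀ a, φ.hom (Groth.Variety2.Dim.resHom f x a) = algebraMap k K a := by
        have h := congrArg (· ≫ f) hφ
        simp only [Category.assoc, pullback.condition] at h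
        rw [← Category.assoc, hp, Category.id_comp, ← Groth.Variety2.Dim.resHom_spec, ← Spec.map_comp, Spec.map_inj] at h
        exact fun a => (RingHom.congr_fun (congrArg CommRingCat.Hom.hom h) a).symm
      refine ⟨AlgHom.mk φ.hom hc, Subtype.ext (congrArg (fun q => q (IsLocalRing.closedPoint K)) (?_ : (sec (AlgHom.mk φ.hom hc)).1 = p))⟩
      refine pullback.hom_ext ((pullback.lift_fst _ _ _).trans hφ.symm) ((pullback.lift_snd _ _ _).trans hp.symm)
  refine ⟨Finite.of_surjective G hG.2, ?_⟩
  rw [← Nat.card_congr (Equiv.ofBijective G hG), Groth.Misc10.FrobPts.residueDegree_eq_finrank,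
    Nat.card_eq_fintype_card, AlgHom.card]

end aux

/-- Let X be a variety over a perfect field k, k̄ an algebraic closure and π : X_{k̄} → X the
projection. Sending a closed point x to the sum of the points of π⁻¹(x) induces a bijection between
effective 0-cycles of degree n on X and effective 0-cycles of degree n on X_{k̄} fixed by G(k̄/k).
Stated for schemes of finite type over k, with 0-cycles as finitely supported ℕ-valued functions on
closed points, the degree on X weighted by the residue degrees [κ(x) : k], the map being c ↦ c ∘ π,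
and the Galois automorphisms τ_σ = id × Spec σ pinned by their projections. -/
theorem result {k : Type u} [Field k]
    [PerfectField k] {X : Scheme.{u}} (f : X ⟶ Spec (CommRingCat.of k)) [LocallyOfFiniteType f]
    [QuasiCompact f]
    (τ : (AlgebraicClosure k ≃ₐ[k] AlgebraicClosure k) →
      (pullback f (Spec.map (CommRingCat.ofHom (algebraMap k (AlgebraicClosure k)))) ⟶
        pullback f (Spec.map (CommRingCat.ofHom (algebraMap k (AlgebraicClosure k))))))
    (hτ1 : ∀ σ, τ σ ≫ pullback.fst f _ = pullback.fst f _)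
    (hτ2 : ∀ σ, τ σ ≫ pullback.snd f (Spec.map (CommRingCat.ofHom (algebraMap k (AlgebraicClosure k)))) =
        pullback.snd f _ ≫ Spec.map (CommRingCat.ofHom (σ : AlgebraicClosure k →+* AlgebraicClosure k)))
    (n : ℕ) :
    Set.BijOn
      (fun c : X → ℕ => c ∘ (pullback.fst f (Spec.map (CommRingCat.ofHom
        (algebraMap k (AlgebraicClosure k))))).base)
      {c : X → ℕ | (Function.support c).Finite ∧ (∀ x, c x ≠ 0 → IsClosed ({x} : Set X)) ∧
        ∑ᶠ x, c x * EGA4loc.residueDegree f x = n}
      {d : ↑(pullback f (Spec.map (CommRingCat.ofHom (algebraMap k (AlgebraicClosure k))))) → ℕ |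
        (Function.support d).Finite ∧ (∀ y, d y ≠ 0 → IsClosed ({y} : Set _)) ∧
        ∑ᶠ y, d y = n ∧ ∀ σ y, d ((τ σ).base y) = d y} := by
  classical
  let s := Spec.map (CommRingCat.ofHom (algebraMap k (AlgebraicClosure k)))
  let π := pullback.fst f s
  have horb := Groth.Agent.S13071.result f τ hτ1 hτ2
  haveI := isIntegralHom_fst (K := AlgebraicClosure k) f
  haveI : Surjective s := ⟨fun y => ⟨⟨⊥, Ideal.isPrime_bot⟩, Subsingleton.elim (α := PrimeSpectrum k) _ _⟩⟩
  have hsurj : Function.Surjective π.base := (inferInstance : Surjective (pullback.fst f s)).surj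
  have hdown : ∀ y, IsClosed ({y} : Set ↑(pullback f s)) → IsClosed ({π y} : Set X) := fun y hy => by
    have := π.isClosedMap _ hy
    rwa [Set.image_singleton] at this
  have hτiso : ∀ σ, IsIso (τ σ) := fun σ => by
    have h : ∀ σ ρ : AlgebraicClosure k ≃ₐ[k] AlgebraicClosure k, (∀ a, σ (ρ a) = a) → τ σ ≫ τ ρ = 𝟙 _ := by
      intro σ ρ h
      refine pullback.hom_ext ?_ ?_
      · rw [Category.assoc, hτ1, hτ1, Category.id_comp]
      · rw [Category.assoc, hτ2, ← Category.assoc, hτ2, Category.assoc, ← Spec.map_comp, Category.id_comp,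
          ← CommRingCat.ofHom_comp]
        conv_rhs => rw [← Category.comp_id (pullback.snd f _), ← Spec.map_id]
        congr 2
        ext a
        exact h a
    exact ⟨τ σ.symm, h _ _ σ.apply_symm_apply, h _ _ σ.symm_apply_apply⟩
  have hfib : ∀ x : X, IsClosed ({x} : Set X) → (π.base ⁻¹' {x}).Finite ∧
      (π.base ⁻¹' {x}).ncard = EGA4loc.residueDegree f x ∧ ∀ y, π y = x → IsClosed ({y} : Set ↑(pullback f s)) := by
    intro x hx
    obtain ⟨hfin, hcard⟩ := natCard_closedFibre (K := AlgebraicClosure k) f hx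
    have hpos : 0 < EGA4loc.residueDegree f x := by
      letI := (Groth.Variety2.Dim.resHom f x).toAlgebra
      haveI := finite_resHom f hx
      rw [Groth.Misc10.FrobPts.residueDegree_eq_finrank]
      exact Module.finrank_pos
    obtain ⟨⟨y₀, hy₀, hy₀x⟩⟩ := (Nat.card_pos_iff.1 (hcard.symm ▸ hpos)).1
    have hall : ∀ y, π y = x → IsClosed ({y} : Set ↑(pullback f s)) := fun y hy => by
      obtain ⟨σ, rfl⟩ := (horb y₀ y).1 (hy₀x.trans hy.symm)
      haveI := hτiso σ
      have h := (τ σ).isClosedMap _ hy₀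
      rwa [Set.image_singleton] at h
    let e : {y : ↑(pullback f s) // IsClosed ({y} : Set _) ∧ π y = x} ≃ (π.base ⁻¹' {x} : Set _) :=
      Equiv.subtypeEquivRight fun y => ⟨fun h => h.2, fun h => ⟨hall y h, h⟩⟩
    haveI : Finite (π.base ⁻¹' {x} : Set _) := Finite.of_equiv _ e
    exact ⟨Set.toFinite _, by rw [← Nat.card_coe_set_eq, ← Nat.card_congr e, hcard], hall⟩
  have hsum : ∀ c : X → ℕ, (Function.support c).Finite → (∀ x, c x ≠ 0 → IsClosed ({x} : Set X)) →
      (Function.support (c ∘ π.base)).Finite ∧ ∑ᶠ y, c (π y) = ∑ᶠ x, c x * EGA4loc.residueDegree f x := by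
    intro c hc hcl
    have hfs : (Function.support (c ∘ π.base)).Finite :=
      ((hc.biUnion fun x hx => (hfib x (hcl x hx)).1)).subset fun y hy => Set.mem_biUnion hy rfl
    refine ⟨hfs, ?_⟩
    rw [finsum_eq_sum_of_support_subset _ (s := hc.toFinset) (by
      intro x hx
      rw [Set.Finite.coe_toFinset]
      exact left_ne_zero_of_mul hx)]
    rw [finsum_eq_sum_of_support_subset _ (s := hfs.toFinset) (by rw [Set.Finite.coe_toFinset]; rfl),
      ← Finset.sum_fiberwise_of_maps_to (t := hc.toFinset) (g := fun y => π y)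
        (fun y hy => hc.mem_toFinset.2 (hfs.mem_toFinset.1 hy :))]
    refine Finset.sum_congr rfl fun x hx => ?_
    have hx0 : c x ≠ 0 := hc.mem_toFinset.1 hx
    obtain ⟨hxf, hxc, -⟩ := hfib x (hcl x hx0)
    rw [Finset.sum_congr rfl (fun y hy => by rw [(Finset.mem_filter.1 hy).2] : ∀ y ∈ _, c (π y) = c x), Finset.sum_const,
      smul_eq_mul, mul_comm, ← hxc, Set.ncard_eq_toFinset_card _ hxf]
    congr 2
    ext y
    simp only [Finset.mem_filter, Set.Finite.mem_toFinset, Function.mem_support, Function.comp_apply,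
      Set.mem_preimage, Set.mem_singleton_iff]
    exact ⟨fun h => h.2, fun h => ⟨h ▸ hx0, h⟩⟩
  refine ⟨?_, ?_, ?_⟩
  · rintro c ⟨hc, hcl, hn⟩
    refine ⟨(hsum c hc hcl).1, fun y hy => (hfib _ (hcl _ hy)).2.2 y rfl, (hsum c hc hcl).2.trans hn, fun σ y => ?_⟩
    exact congrArg c ((horb y ((τ σ).base y)).2 ⟨σ, rfl⟩).symm
  · intro c _ c' _ h
    funext x
    obtain ⟨y, rfl⟩ := hsurj x
    exact congrFun h y
  · rintro d ⟨hd, hdcl, hn, hinv⟩
    choose sec hsec using hsurj
    have hcomp : ∀ y, d (sec (π y)) = d y := fun y => by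
      obtain ⟨σ, hσ⟩ := (horb y (sec (π y))).1 (hsec (π y)).symm
      rw [← hσ, hinv]
    have hc : (Function.support (d ∘ sec)).Finite :=
      (hd.image π.base).subset fun x hx => ⟨sec x, hx, hsec x⟩
    have hcl : ∀ x, d (sec x) ≠ 0 → IsClosed ({x} : Set X) := fun x hx => hsec x ▸ hdown _ (hdcl _ hx)
    refine ⟨d ∘ sec, ⟨hc, hcl, ?_⟩, funext hcomp⟩
    rw [← (hsum _ hc hcl).2, ← hn]
    exact finsum_congr hcomp
end Groth.Agent.S13083
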