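import Groth.Statements.S13087
import Mathlib

set_option autoImplicit false
set_option maxSynthPendingDepth 5
set_option maxHeartbeats 1000000
universe u
open Lie3Mod

namespace Groth.Agent.S13087

open Polynomial in
theorem mul_linear_eq_zero {R : Type*} [CommRing R] {u : R} (hu : ∀ y, u * y = 0 → y = 0) (w : R) {p : R[X]}
    (h : (C u * X + C w) * p = 0) : p = 0 := by
  by_contra hp
  have h1 := congrArg (fun q => q.coeff (p.natDegree + 1)) h
  simp only [add_mul, coeff_add, mul_assoc, coeff_C_mul, coeff_X_mul, coeff_zero,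
    coeff_eq_zero_of_natDegree_lt (Nat.lt_succ_self p.natDegree), mul_zero, add_zero] at h1
  exact hp (leadingCoeff_eq_zero.1 (hu _ h1))

theorem swap {R : Type*} [CommRing R] {a b : R} (ha : ∀ y, a * y = 0 → y = 0) (hab : ∀ y, a ∣ b * y → a ∣ y)
    {x : R} (h : b ∣ a * x) : b ∣ x := by
  obtain ⟨y, hy⟩ := h
  obtain ⟨y', rfl⟩ := hab y ⟨x, hy.symm⟩
  exact ⟨y', sub_eq_zero.1 (ha _ (by rw [mul_sub, hy]; ring))⟩

theorem mk_zero_iff {R : Type*} [CommRing R] (a x : R) : Ideal.Quotient.mk (Ideal.span {a}) x = 0 ↔ a ∣ x := by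
  rw [Ideal.Quotient.eq_zero_iff_mem, Ideal.mem_span_singleton]

open Polynomial in
theorem C_dvd_linear {R : Type*} [CommRing R] {s u : R} (hsu : ∀ y, s ∣ u * y → s ∣ y) (w : R) {p : R[X]}
    (h : C s ∣ (C u * X + C w) * p) : C s ∣ p := by
  have key : ∀ q : R[X], C s ∣ q ↔ q.map (Ideal.Quotient.mk (Ideal.span {s})) = 0 := fun q => by
    rw [C_dvd_iff_dvd_coeff, Polynomial.ext_iff]
    simp [coeff_map, mk_zero_iff]
  rw [key] at h ⊢
  rw [Polynomial.map_mul, Polynomial.map_add, Polynomial.map_mul, map_C, map_C, map_X] at h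
  refine mul_linear_eq_zero (fun y => ?_) _ h
  obtain ⟨y, rfl⟩ := Ideal.Quotient.mk_surjective y
  rw [← map_mul, mk_zero_iff, mk_zero_iff]
  exact hsu y

open Polynomial in
/-- `s` is a nonzerodivisor on `R[X]/(uX+w)`. -/
theorem base {R : Type*} [CommRing R] {s u : R} (hs : ∀ y, s * y = 0 → y = 0) (hsu : ∀ y, s ∣ u * y → s ∣ y) (w : R)
    (y : R[X] ⧸ Ideal.span {C u * X + C w}) (h : Ideal.Quotient.mk _ (C s) * y = 0) : y = 0 := by
  obtain ⟨y, rfl⟩ := Ideal.Quotient.mk_surjective y
  rw [← map_mul, mk_zero_iff] at h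
  rw [mk_zero_iff]
  refine swap (fun z hz => ?_) (fun z hz => C_dvd_linear hsu w hz) h
  ext k
  have := congrArg (fun q => q.coeff k) hz
  simp only [coeff_C_mul, coeff_zero] at this ⊢
  exact hs _ this

open Polynomial in
theorem step3 {R R1 : Type*} [CommRing R] [CommRing R1] (π : R →+* R1) (hπ : Function.Surjective π) (p1 : R)
    (hker : ∀ z, π z = 0 ↔ p1 ∣ z) (s w2 t w3 : R)
    (ht1 : ∀ y, π t * y = 0 → y = 0) (ht2 : ∀ y, π t ∣ π s * y → π t ∣ y) (x : R[X][X])
    (hx : (C (C t) * X + C (C w3)) * x ∈ Ideal.span {C (C p1), C (C s * X + C w2)}) :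
    x ∈ Ideal.span {(C (C p1) : R[X][X]), C (C s * X + C w2)} := by
  set p2' : R1[X] := C (π s) * X + C (π w2) with hp2'
  set p2 : R[X] := C s * X + C w2 with hp2
  have hmap2 : p2.map π = p2' := by simp [hp2, hp2']
  set ρ : R1[X] →+* R1[X] ⧸ Ideal.span {p2'} := Ideal.Quotient.mk _ with hρ
  let Ψ : R[X][X] →+* (R1[X] ⧸ Ideal.span {p2'})[X] := mapRingHom (ρ.comp (mapRingHom π))
  have e1 : Ψ (C (C p1)) = 0 := by
    simp only [Ψ, coe_mapRingHom, map_C, RingHom.comp_apply]
    rw [(hker p1).2 dvd_rfl]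
    simp
  have e2 : Ψ (C p2) = 0 := by
    simp only [Ψ, coe_mapRingHom, map_C, RingHom.comp_apply, hmap2]
    rw [show ρ p2' = 0 from (mk_zero_iff _ _).2 dvd_rfl, map_zero]
  have hΨ : ∀ z, Ψ z = 0 ↔ z ∈ Ideal.span {(C (C p1) : R[X][X]), C p2} := by
    intro z
    constructor
    · intro h
      rw [z.as_sum_support_C_mul_X_pow]
      refine Ideal.sum_mem _ fun k _ => ?_
      have hk := congrArg (fun q => q.coeff k) h
      simp only [Ψ, coe_mapRingHom, coeff_map, coeff_zero, RingHom.comp_apply, hρ, mk_zero_iff] at hk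
      obtain ⟨b, hb⟩ := hk
      obtain ⟨b, rfl⟩ := map_surjective π hπ b
      have hd : C p1 ∣ z.coeff k - p2 * b := by
        rw [C_dvd_iff_dvd_coeff]
        intro i
        rw [← hker, ← coeff_map, Polynomial.map_sub, Polynomial.map_mul, hmap2, hb, sub_self, coeff_zero]
      obtain ⟨a, ha⟩ := hd
      rw [show z.coeff k = C p1 * a + p2 * b by linear_combination ha]
      refine Ideal.mul_mem_right _ _ ?_
      exact Ideal.mem_span_pair.2 ⟨C a, C b, by simp only [map_add, map_mul]; ring⟩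
    · intro h
      obtain ⟨a, b, rfl⟩ := Ideal.mem_span_pair.1 h
      rw [map_add, map_mul, map_mul, e1, e2, mul_zero, mul_zero, add_zero]
  rw [← hΨ] at hx ⊢
  rw [map_mul, show Ψ (C (C t) * X + C (C w3)) = C (ρ (C (π t))) * X + C (ρ (C (π w3))) by
    simp [Ψ, Polynomial.map_add, Polynomial.map_mul]] at hx
  exact mul_linear_eq_zero (base ht1 ht2 _) _ hx

open Polynomial in
theorem main {R : Type*} [CommRing R] (u s t w1 w2 w3 : R)
    (hu : ∀ y, u * y = 0 → y = 0) (hs : ∀ y, s * y = 0 → y = 0) (ht : ∀ y, t * y = 0 → y = 0)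
    (hsu : ∀ y, s ∣ u * y → s ∣ y) (htu : ∀ y, t ∣ u * y → t ∣ y) (hts : ∀ y, t ∣ s * y → t ∣ y)
    (htsu : ∀ y, u * y ∈ Ideal.span {t, s} → y ∈ Ideal.span {t, s}) :
    let P1 : R[X][X][X] := C (C (C u * X + C w1))
    let P2 : R[X][X][X] := C (C (C s) * X + C (C w2))
    let P3 : R[X][X][X] := C (C (C t)) * X + C (C (C w3))
    (∀ x, P1 * x = 0 → x = 0) ∧ (∀ x, P1 ∣ P2 * x → P1 ∣ x) ∧
      (∀ x, P3 * x ∈ Ideal.span {P1, P2} → x ∈ Ideal.span {P1, P2}) := by
  intro P1 P2 P3
  set p1 : R[X] := C u * X + C w1 with hp1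
  set I1 : Ideal R[X] := Ideal.span {p1} with hI1
  set π : R[X] →+* R[X] ⧸ I1 := Ideal.Quotient.mk I1 with hπ
  have hs1 : ∀ y, π (C s) * y = 0 → y = 0 := base hs hsu w1
  have ht1 : ∀ y, π (C t) * y = 0 → y = 0 := base ht htu w1
  have ht2 : ∀ y, π (C t) ∣ π (C s) * y → π (C t) ∣ y := by
    intro y hy
    obtain ⟨y, rfl⟩ := Ideal.Quotient.mk_surjective y
    set θ : R →+* R ⧸ Ideal.span {t} := Ideal.Quotient.mk _ with hθ
    set I' : Ideal (R ⧸ Ideal.span {t})[X] := Ideal.span {C (θ u) * X + C (θ w1)} with hI'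
    let φ : R[X] ⧸ I1 →+* (R ⧸ Ideal.span {t})[X] ⧸ I' :=
      Ideal.Quotient.lift I1 ((Ideal.Quotient.mk I').comp (mapRingHom θ)) (fun z hz => by
        obtain ⟨c, rfl⟩ := Ideal.mem_span_singleton.1 hz
        rw [RingHom.comp_apply, mk_zero_iff, coe_mapRingHom, hp1, Polynomial.map_mul, Polynomial.map_add,
          Polynomial.map_mul, map_C, map_C, map_X]
        exact dvd_mul_right _ _)
    obtain ⟨c, hc⟩ := hy
    have hc' : φ (π (C s) * π y) = φ (π (C t) * c) := congrArg φ hc
    have ht0 : φ (π (C t)) = 0 := by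
      show Ideal.Quotient.mk I' ((C t).map θ) = 0
      rw [map_C, hθ, (mk_zero_iff t t).2 dvd_rfl, map_zero, map_zero]
    rw [map_mul, map_mul φ (π (C t)), ht0] at hc'
    replace hc' := hc'.trans (zero_mul (φ c))
    have hb : φ (π y) = 0 := by
      refine base (s := θ s) (u := θ u) (fun z hz => ?_) (fun z hz => ?_) (θ w1) _ ?_
      · obtain ⟨z, rfl⟩ := Ideal.Quotient.mk_surjective z
        rw [← map_mul, mk_zero_iff] at hz
        exact (mk_zero_iff _ _).2 (hts z hz)
      · obtain ⟨z, rfl⟩ := Ideal.Quotient.mk_surjective z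
        obtain ⟨d, hd⟩ := hz
        obtain ⟨d, rfl⟩ := Ideal.Quotient.mk_surjective d
        rw [← map_mul, ← map_mul, Ideal.Quotient.eq, Ideal.mem_span_singleton] at hd
        obtain ⟨e, he⟩ := hd
        obtain ⟨α, β, hαβ⟩ := Ideal.mem_span_pair.1 (htsu z (Ideal.mem_span_pair.2 ⟨e, d, by linear_combination -he⟩))
        exact ⟨θ β, by rw [← map_mul, Ideal.Quotient.eq, Ideal.mem_span_singleton]; exact ⟨α, by linear_combination -hαβ⟩⟩
      · rw [← hc']
        congr 1
        show _ = Ideal.Quotient.mk I' ((C s).map θ)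
        rw [map_C]
    have hb' : Ideal.Quotient.mk I' (y.map θ) = 0 := hb
    rw [mk_zero_iff] at hb'
    obtain ⟨q, hq⟩ := hb'
    obtain ⟨q, rfl⟩ := map_surjective θ Ideal.Quotient.mk_surjective q
    have hd : C t ∣ y - p1 * q := by
      rw [C_dvd_iff_dvd_coeff]
      intro k
      rw [← mk_zero_iff, ← coeff_map, Polynomial.map_sub, hq, hp1, Polynomial.map_mul, Polynomial.map_add,
        Polynomial.map_mul, map_C, map_C, map_X, sub_self, coeff_zero]
    obtain ⟨d, hd⟩ := hd
    refine ⟨π d, ?_⟩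
    rw [← map_mul, ← hd, map_sub, map_mul, show π p1 = 0 from (mk_zero_iff _ _).2 dvd_rfl, zero_mul, sub_zero]
  set p2 : R[X][X] := C (C s) * X + C (C w2) with hp2
  set p2' : (R[X] ⧸ I1)[X] := C (π (C s)) * X + C (π (C w2)) with hp2'
  have hmap2 : p2.map π = p2' := by simp [hp2, hp2']
  have k1 : ∀ q : R[X][X], q.map π = 0 ↔ C p1 ∣ q := fun q => by
    rw [C_dvd_iff_dvd_coeff, Polynomial.ext_iff]
    simp only [coeff_map, coeff_zero]
    exact forall_congr' fun k => mk_zero_iff _ _
  refine ⟨fun x hx => ?_, fun x hx => ?_, fun x hx => ?_⟩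
  · ext k l m
    refine congrArg (fun q : R[X] => q.coeff m) (mul_linear_eq_zero hu w1 (p := (x.coeff k).coeff l) ?_)
    have h' : C (C p1) * x = 0 := hx
    have := congrArg (fun q => (q.coeff k).coeff l) h'
    simpa only [coeff_C_mul, coeff_zero] using this
  · show C (C p1) ∣ x
    have hx' : C (C p1) ∣ C p2 * x := hx
    rw [C_dvd_iff_dvd_coeff] at hx' ⊢
    intro k
    have h := hx' k
    rw [coeff_C_mul, ← k1, Polynomial.map_mul, hmap2] at h
    rw [← k1]
    exact mul_linear_eq_zero hs1 _ h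
  · exact step3 π Ideal.Quotient.mk_surjective p1 (fun z => mk_zero_iff p1 z) (C s) (C w2) (C t) (C w3)
      ht1 ht2 x hx

open MvPolynomial in
theorem vars_reg {A : Type u} [CommRing A] {σ : Type*} [DecidableEq σ] :
    (∀ (i : σ) (y : MvPolynomial σ A), X i * y = 0 → y = 0) ∧
    (∀ (i j : σ) (y : MvPolynomial σ A), i ≠ j → X i ∣ X j * y → X i ∣ y) ∧
    (∀ (i j k : σ) (y : MvPolynomial σ A), i ≠ k → j ≠ k → X k * y ∈ Ideal.span {X i, X j} →
      y ∈ Ideal.span {(X i : MvPolynomial σ A), X j}) := by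
  let φ : σ → MvPolynomial σ A →ₐ[A] MvPolynomial σ A := fun i => aeval (Function.update X i 0)
  have hφ : ∀ i y, X i ∣ y - φ i y := by
    intro i y
    induction y using MvPolynomial.induction_on with
    | C a => simp [φ]
    | add p q hp hq => rw [map_add, add_sub_add_comm]; exact dvd_add hp hq
    | mul_X p k hp =>
      rw [map_mul]
      by_cases hk : k = i
      · subst hk; simp [φ]
      · rw [show φ i (X k) = X k by simp [φ, hk], ← sub_mul]
        exact hp.mul_right _
  have hreg : ∀ (i : σ) (y : MvPolynomial σ A), X i * y = 0 → y = 0 := fun i y h => by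
    ext m
    have := congrArg (coeff (Finsupp.single i 1 + m)) h
    simpa [coeff_X_mul] using this
  have hφ0 : ∀ i, φ i (X i) = 0 := fun i => by simp [φ]
  have hφX : ∀ i k, k ≠ i → φ i (X k) = X k := fun i k h => by simp [φ, h]
  refine ⟨hreg, fun i j y hij h => ?_, fun i j k y hik hjk h => ?_⟩
  · obtain ⟨c, hc⟩ := h
    have h' := congrArg (φ i) hc
    rw [map_mul, map_mul, hφ0, hφX i j (Ne.symm hij), zero_mul] at h'
    simpa [hreg _ _ h'] using hφ i y
  · obtain ⟨a, b, hab⟩ := Ideal.mem_span_pair.1 h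
    have hj0 : φ j (φ i (X j)) = 0 := by
      by_cases hij : j = i
      · subst hij; rw [hφ0, map_zero]
      · rw [hφX i j hij, hφ0]
    have h' := congrArg (fun z => φ j (φ i z)) hab
    simp only [map_add, map_mul, hφ0, map_zero, mul_zero, hj0, hφX i k (Ne.symm hik), hφX j k (Ne.symm hjk), add_zero] at h'
    obtain ⟨c, hc⟩ := hφ i y
    obtain ⟨d, hd⟩ := hφ j (φ i y)
    refine Ideal.mem_span_pair.2 ⟨c, d, ?_⟩
    rw [hreg _ _ h'.symm] at hd
    linear_combination -hc - hd

theorem isRegular_of {D : Type u} [CommRing D] (f g h : D) (h1 : ∀ x, f * x = 0 → x = 0)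
    (h2 : ∀ x, f ∣ g * x → f ∣ x) (h3 : ∀ x, h * x ∈ Ideal.span {f, g} → x ∈ Ideal.span {f, g})
    (hne : Ideal.span {f, g, h} ≠ (⊤ : Ideal D)) : RingTheory.Sequence.IsRegular D [f, g, h] := by
  have key : ∀ (I : Ideal D) (r : D), (∀ x, r * x ∈ I → x ∈ I) →
      IsSMulRegular (D ⧸ (I • ⊤ : Submodule D D)) r := fun I r hr => by
    rw [isSMulRegular_quotient_iff_mem_of_smul_mem]
    intro x hx
    rw [smul_eq_mul, Ideal.mul_top] at hx ⊢
    exact hr x hx
  rw [RingTheory.Sequence.isRegular_iff, RingTheory.Sequence.isWeaklyRegular_iff]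
  refine ⟨fun i hi => ?_, ?_⟩
  · refine key _ _ ?_
    match i, hi with
    | 0, _ => simpa [Ideal.ofList] using h1
    | 1, _ =>
      simp only [List.take_succ_cons, List.take_zero, Ideal.ofList_singleton, Ideal.mem_span_singleton]
      exact h2
    | 2, _ =>
      have e : Ideal.ofList (List.take 2 [f, g, h]) = Ideal.span {f, g} := by
        simp [Ideal.ofList_cons, Ideal.span_insert]
      rw [e]
      exact h3
  · rw [smul_eq_mul, Ideal.mul_top]
    rw [show Ideal.ofList [f, g, h] = Ideal.span {f, g, h} by simp [Ideal.ofList_cons, Ideal.span_insert]]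
    exact Ne.symm hne


/-- six variables -/
abbrev A0 (A : Type u) [CommRing A] := MvPolynomial (Fin 6) A
/-- three more variables -/
abbrev S3 (A : Type u) [CommRing A] := Polynomial (Polynomial (Polynomial (A0 A)))

variable {A : Type u} [CommRing A]

/-- the six constants -/
noncomputable def vv (i : Fin 6) : S3 A := Polynomial.C (Polynomial.C (Polynomial.C (MvPolynomial.X i)))

/-- change of coordinates -/
noncomputable def toS : Lie3Mod.D A →ₐ[A] S3 A := MvPolynomial.aeval
    ![vv 0, vv 1, Polynomial.X, vv 2, Polynomial.C Polynomial.X, vv 5 - vv 1,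
      Polynomial.C (Polynomial.C Polynomial.X), vv 4 - vv 2, vv 3 + vv 0]

/-- its inverse -/
noncomputable def inv : S3 A →ₐ[A] Lie3Mod.D A :=
    Polynomial.aevalTower (Polynomial.aevalTower (Polynomial.aevalTower
      (MvPolynomial.aeval (R := A)
        ![(Lie3Mod.va : Lie3Mod.D A), Lie3Mod.vb, Lie3Mod.vd, Lie3Mod.vi - Lie3Mod.va, Lie3Mod.vh + Lie3Mod.vd,
          Lie3Mod.vf + Lie3Mod.vb]) Lie3Mod.vg) Lie3Mod.ve) Lie3Mod.vc

theorem inv_vv (i : Fin 6) : inv (vv i) = (![(Lie3Mod.va : Lie3Mod.D A), Lie3Mod.vb, Lie3Mod.vd,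
    Lie3Mod.vi - Lie3Mod.va, Lie3Mod.vh + Lie3Mod.vd, Lie3Mod.vf + Lie3Mod.vb] i) := by
  simp only [inv, vv, Polynomial.aevalTower_C, MvPolynomial.aeval_X]

theorem inv_g : inv (A := A) (Polynomial.C (Polynomial.C Polynomial.X)) = Lie3Mod.vg := by
  simp only [inv, Polynomial.aevalTower_C, Polynomial.aevalTower_X]

theorem inv_e : inv (A := A) (Polynomial.C Polynomial.X) = Lie3Mod.ve := by
  simp only [inv, Polynomial.aevalTower_C, Polynomial.aevalTower_X]

theorem inv_c : inv (A := A) Polynomial.X = Lie3Mod.vc := by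
  simp only [inv, Polynomial.aevalTower_X]

theorem inv_toS (x : Lie3Mod.D A) : inv (toS x) = x := by
  have : (inv (A := A)).comp toS = AlgHom.id A _ := MvPolynomial.algHom_ext fun i => by
    fin_cases i <;> simp [toS, inv_vv, inv_g, inv_e, inv_c]
  exact AlgHom.congr_fun this x

theorem toS_inv_vv (i : Fin 6) : toS (inv (vv (A := A) i)) = vv i := by
  rw [inv_vv]
  fin_cases i <;> simp [toS]

theorem toS_inv (x : S3 A) : toS (inv x) = x := by
  have e0 : ∀ r : A0 A, toS (inv (Polynomial.C (Polynomial.C (Polynomial.C r)))) = Polynomial.C (Polynomial.C (Polynomial.C r)) := by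
    intro r
    induction r using MvPolynomial.induction_on with
    | C a =>
      have e : (Polynomial.C (Polynomial.C (Polynomial.C (MvPolynomial.C a))) : S3 A) = algebraMap A (S3 A) a := by
        simp [Polynomial.algebraMap_apply, MvPolynomial.algebraMap_eq]
      rw [e, AlgHom.commutes, AlgHom.commutes]
    | add p q hp hq => simp only [map_add, hp, hq]
    | mul_X p i hp => simp only [map_mul, hp]; exact congrArg _ (toS_inv_vv i)
  have e1 : ∀ r : Polynomial (A0 A), toS (inv (Polynomial.C (Polynomial.C r))) = Polynomial.C (Polynomial.C r) := by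
    intro r
    induction r using Polynomial.induction_on with
    | C a => exact e0 a
    | add p q hp hq => simp only [map_add, hp, hq]
    | monomial k a _ => simp only [map_mul, map_pow, e0]; simp [toS, inv_g]
  have e2 : ∀ r : Polynomial (Polynomial (A0 A)), toS (inv (Polynomial.C r)) = Polynomial.C r := by
    intro r
    induction r using Polynomial.induction_on with
    | C a => exact e1 a
    | add p q hp hq => simp only [map_add, hp, hq]
    | monomial k a _ => simp only [map_mul, map_pow, e1]; simp [toS, inv_e]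
  induction x using Polynomial.induction_on with
  | C a => exact e2 a
  | add p q hp hq => simp only [map_add, hp, hq]
  | monomial k a _ => simp only [map_mul, map_pow, e2]; simp [toS, inv_c]

/-- Let A be a nontrivial commutative ring and D = A[a,b,c,d,e,f,g,h,i] the polynomial ring in nine
variables. Then the linear forms a − i, b + f, d + h form a regular sequence on D, and so do the
three Jacobi polynomials Q1 = ah + di − fg − bg, Q2 = ie + bd − fh − ae, Q3 = hc + dc − af − bi
(each term is a non-zero-divisor on the quotient of D by the preceding terms, and the quotient by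
all three is non-zero). (The published statement is made with a regular base ring in force; the
printed argument does not use that hypothesis, and the statement is given here over every nontrivial
commutative base ring.) -/
theorem result (A : Type u) [CommRing A] [Nontrivial A] :
    RingTheory.Sequence.IsRegular (Lie3Mod.D A) [Lie3Mod.L1 A, Lie3Mod.L2 A, Lie3Mod.L3 A] ∧
      RingTheory.Sequence.IsRegular (Lie3Mod.D A) [Lie3Mod.Q1 A, Lie3Mod.Q2 A, Lie3Mod.Q3 A] := by
  classical
  let v := vv (A := A)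
  let e : Lie3Mod.D A ≃ₐ[A] (S3 A) :=
    AlgEquiv.ofAlgHom toS inv (AlgHom.ext toS_inv) (AlgHom.ext inv_toS)
  obtain ⟨r1, r2, r3⟩ := vars_reg (A := A) (σ := Fin 6)
  obtain ⟨q1, q2, q3⟩ := main (R := (A0 A)) (-MvPolynomial.X 5) (MvPolynomial.X 3) (MvPolynomial.X 4)
    (MvPolynomial.X 0 * MvPolynomial.X 4 + MvPolynomial.X 2 * MvPolynomial.X 3)
    (MvPolynomial.X 1 * MvPolynomial.X 2 - (MvPolynomial.X 5 - MvPolynomial.X 1) * (MvPolynomial.X 4 - MvPolynomial.X 2))
    (-(MvPolynomial.X 0 * (MvPolynomial.X 5 - MvPolynomial.X 1)) - MvPolynomial.X 1 * (MvPolynomial.X 3 + MvPolynomial.X 0))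
    (fun y h => r1 5 y (by linear_combination -h)) (r1 3) (r1 4)
    (fun y h => r2 3 5 y (by decide) (by rwa [neg_mul, dvd_neg] at h))
    (fun y h => r2 4 5 y (by decide) (by rwa [neg_mul, dvd_neg] at h))
    (fun y => r2 4 3 y (by decide))
    (fun y h => r3 4 3 5 y (by decide) (by decide) (by rwa [neg_mul, neg_mem_iff] at h))
  have transfer : ∀ (f g h : Lie3Mod.D A) (f' g' h' : (S3 A)), e f = f' → e g = g' → e h = h' →
      (∀ x, f' * x = 0 → x = 0) → (∀ x, f' ∣ g' * x → f' ∣ x) →
      (∀ x, h' * x ∈ Ideal.span {f', g'} → x ∈ Ideal.span {f', g'}) →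
      MvPolynomial.constantCoeff f = 0 → MvPolynomial.constantCoeff g = 0 → MvPolynomial.constantCoeff h = 0 →
      RingTheory.Sequence.IsRegular (Lie3Mod.D A) [f, g, h] := by
    rintro f g h _ _ _ rfl rfl rfl t1 t2 t3 c1 c2 c3
    refine isRegular_of f g h (fun x hx => ?_) (fun x hx => ?_) (fun x hx => ?_) ?_
    · exact e.injective ((t1 (e x) (by rw [← map_mul, hx, map_zero])).trans (map_zero e).symm)
    · exact (map_dvd_iff e).1 (t2 (e x) (by rw [← map_mul]; exact map_dvd e hx))
    · have hmem : ∀ z, e z ∈ Ideal.span {e f, e g} ↔ z ∈ Ideal.span {f, g} := fun z => by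
        constructor
        · intro hz
          obtain ⟨a, b, hab⟩ := Ideal.mem_span_pair.1 hz
          exact Ideal.mem_span_pair.2 ⟨e.symm a, e.symm b, e.injective (by simp [hab])⟩
        · intro hz
          obtain ⟨a, b, hab⟩ := Ideal.mem_span_pair.1 hz
          exact Ideal.mem_span_pair.2 ⟨e a, e b, by rw [← hab, map_add, map_mul, map_mul]⟩
      exact (hmem x).1 (t3 (e x) (by rw [← map_mul]; exact (hmem _).2 hx))
    · intro htop
      have hle : Ideal.span {f, g, h} ≤ RingHom.ker (MvPolynomial.constantCoeff (R := A) (σ := Fin 9)) := by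
        rw [Ideal.span_le]
        rintro z (rfl | rfl | rfl) <;> assumption
      exact RingHom.ker_ne_top _ (top_le_iff.1 (htop ▸ hle))
  refine ⟨?_, ?_⟩
  · refine transfer _ _ _ (-v 3) (v 5) (v 4) ?_ ?_ ?_ ?_ ?_ ?_ (by simp [Lie3Mod.L1]) (by simp [Lie3Mod.L2]) (by simp [Lie3Mod.L3])
    · show toS (Lie3Mod.L1 A) = _
      simp [toS, v, vv, Lie3Mod.L1]
    · show toS (Lie3Mod.L2 A) = _
      simp [toS, v, vv, Lie3Mod.L2]
    · show toS (Lie3Mod.L3 A) = _
      simp [toS, v, vv, Lie3Mod.L3]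
    all_goals simp only [v, vv, neg_mul, neg_eq_zero, neg_dvd]
    · intro x hx
      ext k l m : 3
      exact r1 3 _ (by
        have := congrArg (fun q : (S3 A) => ((q.coeff k).coeff l).coeff m) hx
        simpa [Polynomial.coeff_C_mul] using this)
    · intro x hx
      simp only [Polynomial.C_dvd_iff_dvd_coeff] at hx ⊢
      intro k l m
      exact r2 3 5 _ (by decide) (by simpa [Polynomial.coeff_C_mul] using hx k l m)
    · intro x hx
      set τ : Ideal (A0 A) := Ideal.span {-MvPolynomial.X 3, MvPolynomial.X 5} with hτ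
      have hτ' : τ = Ideal.span {MvPolynomial.X 3, MvPolynomial.X 5} := by
        rw [hτ, Ideal.span_insert, Ideal.span_insert, Ideal.span_singleton_neg]
      have hI : Ideal.span {-Polynomial.C (Polynomial.C (Polynomial.C (MvPolynomial.X 3 : (A0 A)))),
          Polynomial.C (Polynomial.C (Polynomial.C (MvPolynomial.X 5 : (A0 A))))} =
          ((τ.map Polynomial.C).map Polynomial.C).map Polynomial.C := by
        rw [hτ, Ideal.map_span, Ideal.map_span, Ideal.map_span]
        simp [Set.image_insert_eq]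
      rw [hI] at hx ⊢
      simp only [Ideal.mem_map_C_iff, Polynomial.coeff_C_mul] at hx ⊢
      intro k l m
      rw [hτ']
      exact r3 3 5 4 _ (by decide) (by decide) (hτ' ▸ hx k l m)
  · refine transfer _ _ _ _ _ _ ?_ ?_ ?_ q1 q2 q3 (by simp [Lie3Mod.Q1]) (by simp [Lie3Mod.Q2]) (by simp [Lie3Mod.Q3])
    · show toS (Lie3Mod.Q1 A) = _
      simp [toS, v, vv, Lie3Mod.Q1]
      ring
    · show toS (Lie3Mod.Q2 A) = _
      simp [toS, v, vv, Lie3Mod.Q2]
      ring
    · show toS (Lie3Mod.Q3 A) = _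
      simp [toS, v, vv, Lie3Mod.Q3]
      ring

end Groth.Agent.S13087
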