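import Groth.Statements.S13088
-- import your own Groth.Agent.* helpers here
import Mathlib.RingTheory.MvPolynomial.Basic
import Mathlib.Algebra.MvPolynomial.CommRing
import Mathlib.Tactic

set_option autoImplicit false
universe u
open Lie3Mod

namespace Groth.Agent.S13088

/-- Let A be a commutative domain and D = A[a,b,c,d,e,f,g,h,i]. Then the ideal L = (a − i, b + f, d + h)
of D is minimal among the prime ideals of D containing the Jacobi ideal I = (Q1, Q2, Q3), where Q1 =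
ah + di − fg − bg, Q2 = ie + bd − fh − ae, Q3 = hc + dc − af − bi. (The published statement is made
with a regular base ring in force, used there as a domain; the printed argument uses only that the
base ring is a domain, which is the hypothesis taken here.) -/
theorem result (A : Type u) [CommRing A] [IsDomain A] :
    Lie3Mod.idL A ∈ (Lie3Mod.idI A).minimalPrimes := by
  have hI : Lie3Mod.idI A ≤ Lie3Mod.idL A := by
    rw [Lie3Mod.idI, Ideal.span_le]
    have h1 : Lie3Mod.L1 A ∈ Lie3Mod.idL A := Ideal.subset_span (by simp)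
    have h2 : Lie3Mod.L2 A ∈ Lie3Mod.idL A := Ideal.subset_span (by simp)
    have h3 : Lie3Mod.L3 A ∈ Lie3Mod.idL A := Ideal.subset_span (by simp)
    rintro x (rfl | rfl | rfl)
    · rw [SetLike.mem_coe, show Lie3Mod.Q1 A = MvPolynomial.X 7 * Lie3Mod.L1 A - MvPolynomial.X 6 * Lie3Mod.L2 A + MvPolynomial.X 8 * Lie3Mod.L3 A by
        simp only [Lie3Mod.Q1, Lie3Mod.L1, Lie3Mod.L2, Lie3Mod.L3]; ring]
      exact Ideal.add_mem _ (Ideal.sub_mem _ (Ideal.mul_mem_left _ _ h1) (Ideal.mul_mem_left _ _ h2)) (Ideal.mul_mem_left _ _ h3)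
    · rw [SetLike.mem_coe, show Lie3Mod.Q2 A = -MvPolynomial.X 4 * Lie3Mod.L1 A - MvPolynomial.X 7 * Lie3Mod.L2 A + MvPolynomial.X 1 * Lie3Mod.L3 A by
        simp only [Lie3Mod.Q2, Lie3Mod.L1, Lie3Mod.L2, Lie3Mod.L3]; ring]
      exact Ideal.add_mem _ (Ideal.sub_mem _ (Ideal.mul_mem_left _ _ h1) (Ideal.mul_mem_left _ _ h2)) (Ideal.mul_mem_left _ _ h3)
    · rw [SetLike.mem_coe, show Lie3Mod.Q3 A = -MvPolynomial.X 5 * Lie3Mod.L1 A - MvPolynomial.X 8 * Lie3Mod.L2 A + MvPolynomial.X 2 * Lie3Mod.L3 A by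
        simp only [Lie3Mod.Q3, Lie3Mod.L1, Lie3Mod.L2, Lie3Mod.L3]; ring]
      exact Ideal.add_mem _ (Ideal.sub_mem _ (Ideal.mul_mem_left _ _ h1) (Ideal.mul_mem_left _ _ h2)) (Ideal.mul_mem_left _ _ h3)
  let v : Fin 9 → Lie3Mod.D A := ![MvPolynomial.X 8, -MvPolynomial.X 5, MvPolynomial.X 2, -MvPolynomial.X 7,
    MvPolynomial.X 4, MvPolynomial.X 5, MvPolynomial.X 6, MvPolynomial.X 7, MvPolynomial.X 8]
  let φ : Lie3Mod.D A →ₐ[A] Lie3Mod.D A := MvPolynomial.aeval v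
  have hker : Lie3Mod.idL A = RingHom.ker φ := by
    apply le_antisymm
    · rw [Lie3Mod.idL, Ideal.span_le]
      rintro x (rfl | rfl | rfl) <;> simp [φ, v, Lie3Mod.L1, Lie3Mod.L2, Lie3Mod.L3]
    · intro x hx
      have h : (Ideal.Quotient.mkₐ A (Lie3Mod.idL A)).comp φ = Ideal.Quotient.mkₐ A (Lie3Mod.idL A) := by
        refine MvPolynomial.algHom_ext fun i => ?_
        simp only [AlgHom.comp_apply, φ, MvPolynomial.aeval_X, Ideal.Quotient.mkₐ_eq_mk]
        rw [Ideal.Quotient.mk_eq_mk_iff_sub_mem]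
        have h1 : Lie3Mod.L1 A ∈ Lie3Mod.idL A := Ideal.subset_span (by simp)
        have h2 : Lie3Mod.L2 A ∈ Lie3Mod.idL A := Ideal.subset_span (by simp)
        have h3 : Lie3Mod.L3 A ∈ Lie3Mod.idL A := Ideal.subset_span (by simp)
        fin_cases i <;> simp [v]
        · simpa [Lie3Mod.L1, neg_sub] using (Lie3Mod.idL A).neg_mem h1
        · have := (Lie3Mod.idL A).neg_mem h2
          convert this using 1; simp [Lie3Mod.L2]; ring
        · have := (Lie3Mod.idL A).neg_mem h3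
          convert this using 1; simp [Lie3Mod.L3]; ring
      have h' := DFunLike.congr_fun h x
      rw [AlgHom.comp_apply, RingHom.mem_ker.1 hx, map_zero, Ideal.Quotient.mkₐ_eq_mk] at h'
      exact Ideal.Quotient.eq_zero_iff_mem.1 h'.symm
  have hprime : (Lie3Mod.idL A).IsPrime := hker ▸ RingHom.ker_isPrime φ
  refine ⟨⟨hprime, hI⟩, ?_⟩
  intro P hP hPL
  obtain ⟨hP1, hP2⟩ := hP
  have hQ1 : Lie3Mod.Q1 A ∈ P := hP2 (Ideal.subset_span (by simp))
  have hQ2 : Lie3Mod.Q2 A ∈ P := hP2 (Ideal.subset_span (by simp))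
  have hQ3 : Lie3Mod.Q3 A ∈ P := hP2 (Ideal.subset_span (by simp))
  have hdet : Lie3Mod.detM A ∉ P := by
    intro h
    have := hPL h
    rw [hker, RingHom.mem_ker] at this
    have := congrArg (MvPolynomial.eval (![0, 0, 1, -1, 0, 0, 0, 1, 0] : Fin 9 → A)) this
    simp [φ, v, Lie3Mod.detM] at this
  have comb : ∀ p q r : Lie3Mod.D A, p * Lie3Mod.Q1 A + q * Lie3Mod.Q2 A + r * Lie3Mod.Q3 A ∈ P := fun p q r =>
    P.add_mem (P.add_mem (P.mul_mem_left _ hQ1) (P.mul_mem_left _ hQ2)) (P.mul_mem_left _ hQ3)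
  rw [Lie3Mod.idL, Ideal.span_le]
  rintro x (rfl | rfl | rfl) <;> refine (hP1.mem_or_mem ?_).resolve_left hdet
  · convert comb (-(MvPolynomial.X 7 * MvPolynomial.X 2) + MvPolynomial.X 1 * MvPolynomial.X 8)
      (MvPolynomial.X 6 * MvPolynomial.X 2 - MvPolynomial.X 8 ^ 2)
      (-(MvPolynomial.X 6 * MvPolynomial.X 1) + MvPolynomial.X 8 * MvPolynomial.X 7) using 1
    simp only [Lie3Mod.detM, Lie3Mod.Q1, Lie3Mod.Q2, Lie3Mod.Q3, Lie3Mod.L1]; ring
  · convert comb (MvPolynomial.X 4 * MvPolynomial.X 2 - MvPolynomial.X 1 * MvPolynomial.X 5)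
      (MvPolynomial.X 7 * MvPolynomial.X 2 + MvPolynomial.X 8 * MvPolynomial.X 5)
      (-(MvPolynomial.X 7 * MvPolynomial.X 1) - MvPolynomial.X 8 * MvPolynomial.X 4) using 1
    simp only [Lie3Mod.detM, Lie3Mod.Q1, Lie3Mod.Q2, Lie3Mod.Q3, Lie3Mod.L2]; ring
  · convert comb (MvPolynomial.X 4 * MvPolynomial.X 8 - MvPolynomial.X 7 * MvPolynomial.X 5)
      (MvPolynomial.X 7 * MvPolynomial.X 8 + MvPolynomial.X 6 * MvPolynomial.X 5)
      (-(MvPolynomial.X 7 ^ 2) - MvPolynomial.X 6 * MvPolynomial.X 4) using 1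
    simp only [Lie3Mod.detM, Lie3Mod.Q1, Lie3Mod.Q2, Lie3Mod.Q3, Lie3Mod.L3]; ring

end Groth.Agent.S13088
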