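import Groth.Statements.S13096
import Mathlib.RingTheory.FinitePresentation
import Mathlib.RingTheory.Polynomial.Basic
import Mathlib.RingTheory.FiniteType
import Mathlib.RingTheory.Ideal.Quotient.Operations
import Mathlib.Algebra.MvPolynomial.Monad
import Mathlib.RingTheory.Noetherian.Basic
-- import your own Groth.Agent.* helpers here

set_option autoImplicit false
universe u v
open CAlg

namespace Groth.Agent.S13096

section Helpers

theorem ringHom_injective_of_surjective {S : Type*} [CommRing S] [IsNoetherianRing S]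
    (f : S →+* S) (hf : Function.Surjective f) : Function.Injective f := by
  let g : ℕ → (S →+* S) := fun n => Nat.rec (RingHom.id S) (fun _ a => a.comp f) n
  have hg : ∀ n, Function.Surjective (g n) := by
    intro n
    induction n with
    | zero => exact fun x => ⟨x, rfl⟩
    | succ n ih => exact ih.comp hf
  have hcomm : ∀ n x, g n (f x) = f (g n x) := by
    intro n
    induction n with
    | zero => intro x; rfl
    | succ n ih => intro x; exact ih (f x)
  have hmono : Monotone fun n => RingHom.ker (g n) := by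
    refine monotone_nat_of_le_succ fun n x hx => ?_
    rw [RingHom.mem_ker] at hx ⊢
    change g n (f x) = 0
    rw [hcomm, hx, map_zero]
  obtain ⟨n, hn⟩ := monotone_stabilizes_iff_noetherian.mpr ‹IsNoetherianRing S›
    ⟨fun n => RingHom.ker (g n), hmono⟩
  rw [injective_iff_map_eq_zero]
  intro x hx
  obtain ⟨y, rfl⟩ := hg n x
  have : y ∈ RingHom.ker (g (n + 1)) := by
    change g n (f y) = 0
    rw [hcomm, hx]
  rw [show RingHom.ker (g (n + 1)) = RingHom.ker (g n) from (hn (n + 1) (Nat.le_succ n)).symm] at this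
  exact this

end Helpers

/-- Let R be a commutative ring and R' a commutative R-algebra of finite presentation. Then every
surjective R-algebra endomorphism α : R' → R' is bijective (an automorphism). -/
theorem result (R : Type u) [CommRing R]
    (R' : Type v) [CommRing R'] [Algebra R R'] [Algebra.FinitePresentation R R']
    (α : R' →ₐ[R] R') (hα : Function.Surjective α) : Function.Bijective α := by
  classical
  obtain ⟨n, π, hπ, hfg⟩ := (inferInstance : Algebra.FinitePresentation R R').out
  obtain ⟨m, F, hF⟩ := Submodule.fg_iff_exists_fin_generating_family.mp hfg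
  replace hF : Ideal.span (Set.range F) = RingHom.ker π := hF
  choose g hg using fun i => hπ (α (π (MvPolynomial.X i)))
  choose h hh using fun i => (hα.comp hπ) (π (MvPolynomial.X i))
  have hgπ : ∀ z, π (MvPolynomial.bind₁ g z) = α (π z) := by
    intro z
    change (π.comp (MvPolynomial.bind₁ g)) z = (α.comp π) z
    congr 1
    ext i
    simp [hg]
  have hmemF : ∀ j, MvPolynomial.bind₁ g (F j) ∈ Ideal.span (Set.range F) := by
    intro j
    have : F j ∈ RingHom.ker π := by rw [← hF]; exact Submodule.subset_span ⟨j, rfl⟩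
    rw [hF]
    exact (RingHom.mem_ker).mpr ((hgπ _).trans (by rw [RingHom.mem_ker.mp this, map_zero]))
  have hmemH : ∀ i, MvPolynomial.bind₁ g (h i) - MvPolynomial.X i ∈ Ideal.span (Set.range F) := by
    intro i
    rw [hF]
    refine RingHom.mem_ker.mpr ?_
    rw [map_sub, hgπ, sub_eq_zero]
    exact hh i
  choose c hc using fun j => Ideal.mem_span_range_iff_exists_fun.mp (hmemF j)
  choose d hd using fun i => Ideal.mem_span_range_iff_exists_fun.mp (hmemH i)
  let T : Finset R := (Finset.univ.biUnion fun j => (F j).support.image fun e => (F j).coeff e) ∪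
    (Finset.univ.biUnion fun i => (g i).support.image fun e => (g i).coeff e) ∪
    (Finset.univ.biUnion fun i => (h i).support.image fun e => (h i).coeff e) ∪
    (Finset.univ.biUnion fun (q : Fin m × Fin m) => (c q.1 q.2).support.image fun e => (c q.1 q.2).coeff e) ∪
    (Finset.univ.biUnion fun (q : Fin n × Fin m) => (d q.1 q.2).support.image fun e => (d q.1 q.2).coeff e)
  let R₀ : Subalgebra ℤ R := Algebra.adjoin ℤ (T : Set R)
  haveI : Algebra.FiniteType ℤ R₀ := (Subalgebra.fg_iff_finiteType _).mp ⟨T, rfl⟩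
  haveI : IsNoetherianRing R₀ := Algebra.FiniteType.isNoetherianRing ℤ R₀
  let φ : R₀ →+* R := R₀.val.toRingHom
  have hφ : Function.Injective φ := Subtype.val_injective
  have hlift : ∀ P : MvPolynomial (Fin n) R, (∀ e ∈ P.support, P.coeff e ∈ T) →
      ∃ P₀, MvPolynomial.map φ P₀ = P := by
    intro P hP
    have : P ∈ (MvPolynomial.map φ).range := by
      rw [MvPolynomial.as_sum P]
      refine Subring.sum_mem _ fun e he => ?_
      exact ⟨MvPolynomial.monomial e ⟨P.coeff e, Algebra.subset_adjoin (hP e he)⟩, by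
        rw [MvPolynomial.map_monomial]; rfl⟩
    exact this
  choose F₀ hF₀ using fun j => hlift (F j) (fun e he => by
    simp only [T, Finset.mem_union, Finset.mem_biUnion, Finset.mem_univ, Finset.mem_image, true_and]
    exact Or.inl (Or.inl (Or.inl (Or.inl ⟨j, e, he, rfl⟩))))
  choose g₀ hg₀ using fun j => hlift (g j) (fun e he => by
    simp only [T, Finset.mem_union, Finset.mem_biUnion, Finset.mem_univ, Finset.mem_image, true_and]
    exact Or.inl (Or.inl (Or.inl (Or.inr ⟨j, e, he, rfl⟩))))
  choose h₀ hh₀ using fun j => hlift (h j) (fun e he => by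
    simp only [T, Finset.mem_union, Finset.mem_biUnion, Finset.mem_univ, Finset.mem_image, true_and]
    exact Or.inl (Or.inl (Or.inr ⟨j, e, he, rfl⟩)))
  choose c₀ hc₀ using fun q : Fin m × Fin m => hlift (c q.1 q.2) (fun e he => by
    simp only [T, Finset.mem_union, Finset.mem_biUnion, Finset.mem_univ, Finset.mem_image, true_and]
    exact Or.inl (Or.inr ⟨q, e, he, rfl⟩))
  choose d₀ hd₀ using fun q : Fin n × Fin m => hlift (d q.1 q.2) (fun e he => by
    simp only [T, Finset.mem_union, Finset.mem_biUnion, Finset.mem_univ, Finset.mem_image, true_and]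
    exact Or.inr ⟨q, e, he, rfl⟩)
  have hbind : ∀ z, MvPolynomial.map φ (MvPolynomial.bind₁ g₀ z) =
      MvPolynomial.bind₁ g (MvPolynomial.map φ z) := by
    intro z
    rw [MvPolynomial.map_bind₁, funext hg₀]
  let J : Ideal (MvPolynomial (Fin n) R₀) := Ideal.span (Set.range F₀)
  have hinjm : Function.Injective (MvPolynomial.map (σ := Fin n) φ) :=
    MvPolynomial.map_injective φ hφ
  have hJF : ∀ j, MvPolynomial.bind₁ g₀ (F₀ j) ∈ J := fun j =>
    Ideal.mem_span_range_iff_exists_fun.mpr ⟨fun l => c₀ (j, l), hinjm (by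
      simp only [map_sum, map_mul, hbind, hF₀, hc₀, hc j])⟩
  have hJH : ∀ i, MvPolynomial.bind₁ g₀ (h₀ i) - MvPolynomial.X i ∈ J := fun i =>
    Ideal.mem_span_range_iff_exists_fun.mpr ⟨fun l => d₀ (i, l), hinjm (by
      simp only [map_sum, map_mul, map_sub, hbind, hh₀, hd₀, hF₀, MvPolynomial.map_X, hd i])⟩
  let q := Ideal.Quotient.mk J
  let α₀ : MvPolynomial (Fin n) R₀ ⧸ J →+* MvPolynomial (Fin n) R₀ ⧸ J :=
    Ideal.Quotient.lift J (q.comp (MvPolynomial.bind₁ g₀).toRingHom) (fun a ha =>
      (Ideal.span_le (I := RingHom.ker (q.comp (MvPolynomial.bind₁ g₀).toRingHom)).mpr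
        (by rintro _ ⟨j, rfl⟩
            exact Ideal.Quotient.eq_zero_iff_mem.mpr (hJF j))) ha)
  have hα₀ : ∀ z, α₀ (q z) = q (MvPolynomial.bind₁ g₀ z) := fun z => rfl
  have hgh : ∀ z, q (MvPolynomial.bind₁ g₀ (MvPolynomial.bind₁ h₀ z)) = q z := by
    intro z
    change ((Ideal.Quotient.mkₐ R₀ J).comp ((MvPolynomial.bind₁ g₀).comp (MvPolynomial.bind₁ h₀))) z =
      Ideal.Quotient.mkₐ R₀ J z
    congr 1
    ext i
    simp only [AlgHom.comp_apply, MvPolynomial.bind₁_X_right, Ideal.Quotient.mkₐ_eq_mk]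
    exact Ideal.Quotient.eq.mpr (hJH i)
  have hα₀s : Function.Surjective α₀ := by
    intro y
    obtain ⟨z, rfl⟩ := Ideal.Quotient.mk_surjective y
    exact ⟨q (MvPolynomial.bind₁ h₀ z), (hα₀ _).trans (hgh z)⟩
  haveI : IsNoetherianRing (MvPolynomial (Fin n) R₀) := inferInstance
  haveI : IsNoetherianRing (MvPolynomial (Fin n) R₀ ⧸ J) :=
    isNoetherianRing_of_surjective _ _ (Ideal.Quotient.mk J) Ideal.Quotient.mk_surjective
  have hα₀i := ringHom_injective_of_surjective (S := MvPolynomial (Fin n) R₀ ⧸ J) α₀ hα₀s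
  have hhg : ∀ z, q (MvPolynomial.bind₁ h₀ (MvPolynomial.bind₁ g₀ z)) = q z := fun z =>
    hα₀i (by rw [hα₀, hα₀, hgh])
  have hhF : ∀ j, MvPolynomial.bind₁ h₀ (F₀ j) ∈ J := by
    intro j
    refine Ideal.Quotient.eq_zero_iff_mem.mp (hα₀i ?_)
    rw [hα₀, hgh, map_zero]
    exact Ideal.Quotient.eq_zero_iff_mem.mpr (Ideal.subset_span ⟨j, rfl⟩)
  have hmapJ : J.map (MvPolynomial.map φ) = RingHom.ker π := by
    change (Ideal.span (Set.range F₀)).map (MvPolynomial.map φ) = _
    rw [Ideal.map_span, ← Set.range_comp, show (MvPolynomial.map φ) ∘ F₀ = F from funext hF₀,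
      hF]
  have hmh : ∀ z, MvPolynomial.map φ (MvPolynomial.bind₁ h₀ z) =
      MvPolynomial.bind₁ h (MvPolynomial.map φ z) := by
    intro z
    rw [MvPolynomial.map_bind₁, funext hh₀]
  have hker : ∀ z ∈ RingHom.ker π, π (MvPolynomial.bind₁ h z) = 0 := by
    intro z hz
    refine (Ideal.span_le (I := RingHom.ker (π.comp (MvPolynomial.bind₁ h)))).mpr ?_
      (show z ∈ Ideal.span (Set.range F) by rw [hF]; exact hz)
    rintro _ ⟨j, rfl⟩
    refine RingHom.mem_ker.mpr ?_
    rw [AlgHom.comp_apply, ← hF₀ j, ← hmh, ← RingHom.mem_ker, ← hmapJ]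
    exact Ideal.mem_map_of_mem _ (hhF j)
  have hid : ∀ z, π (MvPolynomial.bind₁ h (MvPolynomial.bind₁ g z)) = π z := by
    intro z
    change (π.comp ((MvPolynomial.bind₁ h).comp (MvPolynomial.bind₁ g))) z = π z
    congr 1
    ext i
    simp only [AlgHom.comp_apply, MvPolynomial.bind₁_X_right]
    rw [← sub_eq_zero, ← map_sub, ← RingHom.mem_ker, ← hmapJ, ← hg₀ i, ← hmh,
      ← MvPolynomial.map_X φ, ← map_sub]
    refine Ideal.mem_map_of_mem _ (Ideal.Quotient.eq.mp ?_)
    have := hhg (MvPolynomial.X i)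
    rwa [MvPolynomial.bind₁_X_right] at this
  refine ⟨?_, hα⟩
  rw [injective_iff_map_eq_zero]
  intro x hx
  obtain ⟨z, rfl⟩ := hπ x
  rw [← hid z]
  exact hker _ (RingHom.mem_ker.mpr ((hgπ z).trans hx))

end Groth.Agent.S13096
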