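import Groth.Statements.S13097
import Groth.Agent.HTopHyper.UnivHomeo
import Mathlib.AlgebraicGeometry.Morphisms.ClosedImmersion

set_option autoImplicit false
universe u
open FlatMor

namespace Groth.Agent.S13097

open CategoryTheory AlgebraicGeometry in
/-- Let f : X → S be a quasi-compact, separated morphism of schemes with a section e : S → X (e followed
by f is the identity of S), and U ⊆ S an open subscheme such that f⁻¹(U) is schematically dense in X
(for every open V of X, restriction of functions from V to V ∩ f⁻¹(U) is injective) and such that
the restriction f⁻¹(U) → U of f is a homeomorphism of underlying spaces. Then f is universally a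
homeomorphism (every base change of f is a homeomorphism), and f is finite as soon as it is locally
of finite type. (The published statement also lists surjectivity of f, which a section forces, and
offers as an alternative to the section the hypothesis that f be flat, still with f⁻¹(U) → U only a
homeomorphism; that flat alternative fails: the spectrum of a separable quadratic field extension
over the spectrum of the ground field, with U the whole base, is flat, surjective, quasi-compact,
separated and a homeomorphism over U, yet not universally injective. Only the case of a section,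
whose published proof is complete, is stated here.) -/
theorem result {X S : Scheme.{u}} (f : X ⟶ S)
    [QuasiCompact f] [IsSeparated f] (U : S.Opens)
    (hdense : CInt.IsSchematicallyDense (f ⁻¹ᵁ U)) (hU : IsHomeomorph (f ∣_ U).base)
    (e : S ⟶ X) (he : e ≫ f = 𝟙 S) :
    FlatMor.IsUnivHomeo f ∧ (LocallyOfFiniteType f → IsFinite f) := by
  haveI : IsClosedImmersion (e ≫ f) := by rw [he]; infer_instance
  haveI : IsClosedImmersion e := IsClosedImmersion.of_comp e f
  haveI hes : Surjective e := by
    refine ⟨fun x => ?_⟩
    by_contra hx
    let V : X.Opens := ⟨(Set.range e)ᶜ, e.isClosedEmbedding.isClosed_range.isOpen_compl⟩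
    have hVU : V ⊓ f ⁻¹ᵁ U = ⊥ := by
      refine le_bot_iff.mp fun y ⟨hy, hyU⟩ => hy ⟨f y, ?_⟩
      have hfe : f (e (f y)) = f y := by rw [← Scheme.Hom.comp_apply, he]; rfl
      have hey : e (f y) ∈ f ⁻¹ᵁ U := by
        show f (e (f y)) ∈ U
        rw [hfe]; exact hyU
      have h1 := hU.injective (a₁ := ⟨e (f y), hey⟩) (a₂ := ⟨y, hyU⟩) (by
        apply U.ι.isOpenEmbedding.injective
        have k : ∀ a, U.ι ((f ∣_ U) a) = f ((f ⁻¹ᵁ U).ι a) := fun a => by
          rw [← Scheme.Hom.comp_apply, morphismRestrict_ι]; rfl
        exact (k ⟨e (f y), hey⟩).trans (hfe.trans (k ⟨y, hyU⟩).symm))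
      exact congr_arg Subtype.val h1
    haveI : Subsingleton Γ(X, V ⊓ f ⁻¹ᵁ U) := CommRingCat.subsingleton_of_isTerminal
      (X.sheaf.isTerminalOfEqEmpty hVU)
    have h01 : (0 : Γ(X, V)) = 1 := hdense V (Subsingleton.elim _ _)
    haveI : Nontrivial (X.presheaf.stalk x) := inferInstance
    have := congr_arg (X.presheaf.germ V x hx).hom h01
    rw [map_zero, map_one] at this
    exact zero_ne_one this
  have h := Groth.HTopHyper.isUnivHomeo_of_comp_surjective e f
    (by rw [he]; exact Groth.HTopHyper.isUnivHomeo_of_isIso _)
  exact ⟨h, fun _ => Groth.HTopHyper.isFinite_of_isUnivHomeo f h⟩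

end Groth.Agent.S13097
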