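import Groth.Statements.S13099
import Groth.Agent.GrpschAbsch.Char
import Mathlib.RingTheory.OrzechProperty
import Mathlib.RingTheory.FiniteType
import Mathlib.RingTheory.AdjoinRoot

set_option autoImplicit false
universe u
open GrpSch

namespace Groth.Agent.S13099

open Polynomial in
/-- Let p be a prime and A a commutative ring of characteristic p, and consider the infinitesimal group
scheme Spec A[X]/(X^{p²}) with the additive group law. In coordinates: (1) a polynomial q ∈ A[X] of
degree less than p² satisfies q(Y + Z) − q(Y) − q(Z) ∈ (Y^{p²}, Z^{p²}) in A[Y, Z] (that is, X ↦ q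
respects the comultiplication) if and only if q = a₁ X + a_p X^p for some a₁, a_p ∈ A; (2) an
A-algebra endomorphism of A[X]/(X^{p²}) that sends the class of X to the class of a₁ X + a_p X^p is
bijective if and only if a₁ is a unit of A. (The printed statement is that the automorphism group
scheme of this group scheme is the semidirect product of the additive group by the multiplicative
group, v acting on u by v^{p−1}u; this row records the two computations it consists of, in
coordinates.) -/
theorem result (p : ℕ) [Fact p.Prime] (A : Type u) [CommRing A] [CharP A p] :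
    (∀ q : A[X], q.natDegree < p ^ 2 →
      (Polynomial.aeval (MvPolynomial.X 0 + MvPolynomial.X 1 : MvPolynomial (Fin 2) A) q -
            Polynomial.aeval (MvPolynomial.X 0 : MvPolynomial (Fin 2) A) q -
            Polynomial.aeval (MvPolynomial.X 1 : MvPolynomial (Fin 2) A) q ∈
          Ideal.span ({MvPolynomial.X 0 ^ p ^ 2, MvPolynomial.X 1 ^ p ^ 2} : Set (MvPolynomial (Fin 2) A)) ↔
        ∃ a₁ ap : A, q = Polynomial.C a₁ * X + Polynomial.C ap * X ^ p)) ∧
    (∀ (a₁ ap : A) (φ : (A[X] ⧸ Ideal.span ({X ^ p ^ 2} : Set A[X])) →ₐ[A] (A[X] ⧸ Ideal.span ({X ^ p ^ 2} : Set A[X]))),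
      φ (Ideal.Quotient.mk (Ideal.span ({X ^ p ^ 2} : Set A[X])) X) =
          Ideal.Quotient.mk (Ideal.span ({X ^ p ^ 2} : Set A[X])) (Polynomial.C a₁ * X + Polynomial.C ap * X ^ p) →
        (Function.Bijective φ ↔ IsUnit a₁)) := by
  open Groth.GrpschAbsch.Char in
  have hp : p.Prime := Fact.out
  have h2 : p ^ 2 = p * p := sq p
  have hp1 : 1 < p := hp.one_lt
  have hpp : p < p * p := by nlinarith
  constructor
  · intro q hq
    constructor
    · intro h
      have hc : ∀ i j, i < p ^ 2 → j < p ^ 2 → ((i + j).choose i : A) * q.coeff (i + j) =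
          (if j = 0 then q.coeff i else 0) + (if i = 0 then q.coeff j else 0) := fun i j hi hj ↦ by
        have := coeff_eq_zero_of_mem_span h hi hj
        rw [MvPolynomial.coeff_sub, MvPolynomial.coeff_sub, coeff_aeval_add, coeff_aeval_X_zero,
          coeff_aeval_X_one] at this
        linear_combination this
      have hz : ∀ n < p ^ 2, n ≠ 1 → n ≠ p → q.coeff n = 0 := by
        intro n hn h1 hnp
        have hr : n % p < p := Nat.mod_lt _ hp.pos
        have ht : n / p < p := (Nat.div_lt_iff_lt_mul hp.pos).mpr (by omega)
        have hn' := Nat.mod_add_div' n p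
        rcases Nat.eq_zero_or_pos (n % p) with r0 | r0
        · rcases Nat.eq_zero_or_pos (n / p) with t0 | t0
          · have := hc 0 0 (by omega) (by omega)
            simp at this
            rw [show n = 0 by rw [r0, t0] at hn'; omega]
            exact this
          · obtain ⟨t, ht'⟩ : ∃ t, n / p = t + 1 := ⟨n / p - 1, by omega⟩
            rw [r0, ht', zero_add] at hn'
            have ht0 : t ≠ 0 := by
              rintro rfl
              omega
            have htp : 0 < t * p := Nat.mul_pos (Nat.pos_of_ne_zero ht0) hp.pos
            have e : p + t * p = n := by rw [← hn']; ring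
            have := hc p (t * p) (by omega) (by omega)
            rw [if_neg htp.ne', if_neg hp.ne_zero, add_zero, e] at this
            have hch := choose_succ_mul_pow (A := A) p t 1
            rw [pow_one, hn'] at hch
            rw [hch] at this
            exact (isUnit_natCast_of_lt p (by omega) (by omega)).mul_right_eq_zero.mp this
        · rcases Nat.eq_zero_or_pos (n / p) with t0 | t0
          · rw [t0, zero_mul, add_zero] at hn'
            have := hc 1 (n - 1) (by omega) (by omega)
            rw [if_neg (by omega), if_neg one_ne_zero, add_zero, Nat.add_sub_cancel' (by omega),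
              Nat.choose_one_right] at this
            exact (isUnit_natCast_of_lt p (by omega) (by omega)).mul_right_eq_zero.mp this
          · have htp : 0 < n / p * p := Nat.mul_pos t0 hp.pos
            have hch := choose_add_mul_pow (A := A) (r := n % p) (m := 1) p (n / p)
              (by rwa [pow_one])
            rw [pow_one, hn'] at hch
            have := hc (n % p) (n / p * p) (by omega) (by omega)
            rwa [if_neg htp.ne', if_neg r0.ne', add_zero, hn', hch, one_mul] at this
      refine ⟨q.coeff 1, q.coeff p, Polynomial.ext fun n ↦ ?_⟩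
      rw [Polynomial.coeff_add, Polynomial.coeff_C_mul_X, Polynomial.coeff_C_mul_X_pow]
      by_cases h1 : n = 1
      · subst h1; simp [show 1 ≠ p by omega]
      by_cases h3 : n = p
      · subst h3; simp [h1]
      rw [if_neg h1, if_neg h3, add_zero]
      by_cases hn : n < p ^ 2
      · exact hz n hn h1 h3
      · exact Polynomial.coeff_eq_zero_of_natDegree_lt (by omega)
    · rintro ⟨a₁, ap, rfl⟩
      have e : (MvPolynomial.X 0 + MvPolynomial.X 1 : MvPolynomial (Fin 2) A) ^ p =
          MvPolynomial.X 0 ^ p + MvPolynomial.X 1 ^ p := add_pow_char ..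
      convert Ideal.zero_mem _ using 1
      simp only [map_add, map_mul, map_pow, Polynomial.aeval_C, Polynomial.aeval_X]
      rw [e]; ring
  · intro a₁ ap
    set I := Ideal.span ({Polynomial.X ^ p ^ 2} : Set A[X]) with hI
    intro φ hφ
    set x := Ideal.Quotient.mk I X with hx
    have hxz : x ^ p ^ 2 = 0 := by
      rw [hx, ← map_pow, Ideal.Quotient.eq_zero_iff_mem]
      exact Ideal.subset_span rfl
    have hgen : ∀ g : A[X], Ideal.Quotient.mk I g = Polynomial.aeval x g := fun g ↦ by
      have := Polynomial.aeval_algHom_apply (Ideal.Quotient.mkₐ A I) X g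
      rw [Polynomial.aeval_X_left_apply] at this
      exact this.symm
    have hφx : φ x = algebraMap A _ a₁ * x + algebraMap A _ ap * x ^ p := by
      rw [hφ, hgen]; simp
    constructor
    · intro hb
      obtain ⟨y, hy⟩ := hb.2 x
      obtain ⟨g, rfl⟩ := Ideal.Quotient.mk_surjective y
      have hy' : Ideal.Quotient.mk I (g.comp (Polynomial.C a₁ * X + Polynomial.C ap * X ^ p)) =
          Ideal.Quotient.mk I X := by
        rw [hgen, ← Polynomial.aeval_algHom_apply, hφ] at hy
        refine Eq.trans ?_ hy
        rw [Polynomial.comp_eq_aeval]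
        exact (Polynomial.aeval_algHom_apply (Ideal.Quotient.mkₐ A I) _ g).symm
      rw [Ideal.Quotient.eq, hI, Ideal.mem_span_singleton] at hy'
      obtain ⟨s, hs⟩ := hy'
      have hc := congrArg (Polynomial.coeff · 1) hs
      simp only [Polynomial.coeff_sub, Polynomial.coeff_X_one, Polynomial.coeff_X_pow_mul'] at hc
      rw [if_neg (by omega)] at hc
      have key : ∀ g : A[X], (g.comp (Polynomial.C a₁ * X + Polynomial.C ap * X ^ p)).coeff 1 =
          g.coeff 1 * a₁ := by
        intro g
        induction g using Polynomial.induction_on' with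
        | add g₁ g₂ h₁ h₂ => simp [h₁, h₂, add_mul]
        | monomial n b =>
          rw [Polynomial.monomial_comp, Polynomial.coeff_monomial, Polynomial.coeff_C_mul]
          match n with
          | 0 => simp [Polynomial.coeff_one]
          | 1 => simp [Polynomial.coeff_C_mul_X_pow, show 1 ≠ p by omega]
          | n + 2 =>
            obtain ⟨k, hk⟩ : ∃ k, p = k + 1 := ⟨p - 1, by omega⟩
            have e : (Polynomial.C a₁ * X + Polynomial.C ap * X ^ p : A[X]) =
                X * (Polynomial.C a₁ + Polynomial.C ap * X ^ k) := by
              rw [hk]; ring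
            rw [e, mul_pow, Polynomial.coeff_X_pow_mul', if_neg (by omega), mul_zero,
              if_neg (by omega), zero_mul]
      rw [key] at hc
      exact IsUnit.of_mul_eq_one (g.coeff 1) (by linear_combination hc)
    · intro ha
      have hfin : Module.Finite A (A[X] ⧸ I) :=
        Polynomial.Monic.finite_quotient (Polynomial.monic_X_pow (p ^ 2))
      have hsurj : Function.Surjective φ := by
        have h1 : φ x ^ p = algebraMap A _ (a₁ ^ p) * x ^ p := by
          rw [hφx]
          obtain ⟨s, hs⟩ := exists_add_pow_prime_eq hp (algebraMap A (A[X] ⧸ I) a₁ * x)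
            (algebraMap A _ ap * x ^ p)
          have hp0 : (p : A[X] ⧸ I) = 0 := by
            rw [← map_natCast (algebraMap A (A[X] ⧸ I)), CharP.cast_eq_zero, map_zero]
          rw [hs, hp0, mul_pow, mul_pow, ← pow_mul, ← sq, hxz, map_pow]
          ring
        have hxp : x ^ p ∈ φ.range := by
          obtain ⟨b, hb⟩ := (ha.pow p).exists_left_inv
          refine ⟨algebraMap A _ b * x ^ p, ?_⟩
          show φ _ = _
          rw [map_mul, map_pow, AlgHom.commutes, h1, ← mul_assoc, ← map_mul, hb, map_one, one_mul]
        have hxr : x ∈ φ.range := by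
          obtain ⟨b, hb⟩ := ha.exists_left_inv
          have h3 : algebraMap A _ b * (φ x - algebraMap A _ ap * x ^ p) = x := by
            rw [hφx, add_sub_cancel_right, ← mul_assoc, ← map_mul, hb, map_one, one_mul]
          rw [← h3]
          exact φ.range.mul_mem (φ.range.algebraMap_mem b)
            (φ.range.sub_mem ⟨x, rfl⟩ (φ.range.mul_mem (φ.range.algebraMap_mem ap) hxp))
        intro z
        obtain ⟨g, rfl⟩ := Ideal.Quotient.mk_surjective z
        rw [hgen]
        exact (Algebra.adjoin_le (S := φ.range) (Set.singleton_subset_iff.mpr hxr))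
          (Polynomial.aeval_mem_adjoin_singleton _ _)
      exact ⟨OrzechProperty.injective_of_surjective_endomorphism φ.toLinearMap hsurj, hsurj⟩

end Groth.Agent.S13099
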