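import Groth.Statements.S13100
import Mathlib.RingTheory.Henselian
import Mathlib.RingTheory.AdicCompletion.Completeness

set_option autoImplicit false
universe u
open GrpSch

namespace Groth.Agent.S13100

/-- Let k be an algebraically closed field of characteristic different from 2 and K = k((t)) the field
of Laurent series over k. Then a non-zero Laurent series f is a square in K if and only if its order
in t is even; consequently the group Kˣ/Kˣ² of non-zero elements modulo squares has exactly two
elements, represented by 1 and t. -/
theorem result (k : Type u) [Field k] [IsAlgClosed k] (h2 : (2 : k) ≠ 0)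
    (f : LaurentSeries k) (hf : f ≠ 0) : IsSquare f ↔ Even f.order := by
  constructor
  · rintro ⟨g, rfl⟩
    have hg : g ≠ 0 := fun h ↦ hf (by simp [h])
    exact ⟨g.order, HahnSeries.order_mul hg hg⟩
  · rintro ⟨m, hm⟩
    set u := f.powerSeriesPart
    have hu : PowerSeries.constantCoeff u ≠ 0 := by
      rw [← PowerSeries.coeff_zero_eq_constantCoeff_apply, LaurentSeries.powerSeriesPart_coeff]
      simpa using HahnSeries.coeff_order_eq_zero.not.mpr hf
    obtain ⟨s, hs⟩ := IsAlgClosed.exists_pow_nat_eq (PowerSeries.constantCoeff u) (n := 2) (by norm_num)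
    have hs0 : s ≠ 0 := fun h ↦ hu (by rw [← hs, h]; simp)
    have hI : IsAdicComplete (Ideal.span {(PowerSeries.X : PowerSeries k)}) (PowerSeries k) :=
      inferInstance
    have : HenselianRing (PowerSeries k) (Ideal.span {(PowerSeries.X : PowerSeries k)}) :=
      inferInstance
    obtain ⟨w, hw, -⟩ := HenselianRing.is_henselian
      (I := Ideal.span {(PowerSeries.X : PowerSeries k)})
      (Polynomial.X ^ 2 - Polynomial.C u) (Polynomial.monic_X_pow_sub_C _ (by norm_num))
      (PowerSeries.C s) (by
        rw [Ideal.mem_span_singleton, PowerSeries.X_dvd_iff]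
        simp [hs])
      (by
        refine IsUnit.map _ ?_
        rw [PowerSeries.isUnit_iff_constantCoeff, isUnit_iff_ne_zero]
        have : (1 + 1 : k) * s ≠ 0 := mul_ne_zero (by rwa [one_add_one_eq_two]) hs0
        simpa [Polynomial.derivative_X_pow] using this)
    have hw2 : w ^ 2 = u := by simpa [Polynomial.IsRoot, sub_eq_zero] using hw
    refine ⟨HahnSeries.single m 1 * (w : LaurentSeries k), ?_⟩
    conv_lhs => rw [← LaurentSeries.single_order_mul_powerSeriesPart f]
    rw [hm, show f.powerSeriesPart = w * w from hw2.symm.trans (pow_two w)]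
    rw [mul_mul_mul_comm, HahnSeries.single_mul_single, _root_.one_mul]
    push_cast
    rfl

end Groth.Agent.S13100
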