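import Groth.Statements.S13101
import Groth.Agent.GrpschAbsch.Lie3
import Mathlib.Tactic.LinearCombination

set_option autoImplicit false
universe u v
open GrpSch

namespace Groth.Agent.S13101

/-- Let A be a commutative ring in which 2 is a unit, and L a Lie algebra over A, free as a module with
basis x = bs 0, y = bs 1, z = bs 2 and brackets [x,y] = y, [x,z] = y + z, [y,z] = 0. Then for every
Lie algebra automorphism φ of L over A there are b, c, h ∈ A and a unit i of A with φ(x) = x + b y +
c z, φ(y) = i y and φ(z) = h y + i z. Only the form of an automorphism is stated, not that every map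
of this form is one. (The published statement identifies the automorphism group scheme with a
semidirect product of two additive groups by the product of the multiplicative and additive group,
for algebras over a field of Laurent series of characteristic not 2, and deduces the vanishing of
its first cohomology; this row records the determination of the automorphisms, over any base ring
with 2 invertible; the cohomological consequence is not restated.) -/
theorem result (A : Type u) [CommRing A] (h2 : IsUnit (2 : A))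
    (L : Type v) [LieRing L] [LieAlgebra A L] (bs : Module.Basis (Fin 3) A L)
    (hxy : ⁅bs 0, bs 1⁆ = bs 1) (hxz : ⁅bs 0, bs 2⁆ = bs 1 + bs 2) (hyz : ⁅bs 1, bs 2⁆ = 0)
    (φ : L ≃ₗ⁅A⁆ L) :
    ∃ b c h i : A, IsUnit i ∧ φ (bs 0) = bs 0 + b • bs 1 + c • bs 2 ∧ φ (bs 1) = i • bs 1 ∧
      φ (bs 2) = h • bs 1 + i • bs 2 := by
  have key : ∀ ψ : L ≃ₗ⁅A⁆ L,
      ∃ a b c e f h i : A, ψ (bs 0) = a • bs 0 + b • bs 1 + c • bs 2 ∧
        ψ (bs 1) = (0 : A) • bs 0 + e • bs 1 + f • bs 2 ∧
        ψ (bs 2) = (0 : A) • bs 0 + h • bs 1 + i • bs 2 ∧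
        IsUnit (a * e * i - a * h * f) ∧ e = a * e + a * f ∧ f = a * f ∧
        e + h = a * h + a * i ∧ f + i = a * i := by
    intro ψ
    have h0 := Groth.GrpschAbsch.Lie3.eq_sum bs (ψ (bs 0))
    have h1 := Groth.GrpschAbsch.Lie3.eq_sum bs (ψ (bs 1))
    have h2' := Groth.GrpschAbsch.Lie3.eq_sum bs (ψ (bs 2))
    generalize bs.repr (ψ (bs 0)) 0 = a, bs.repr (ψ (bs 0)) 1 = b, bs.repr (ψ (bs 0)) 2 = c at h0
    generalize bs.repr (ψ (bs 1)) 0 = d, bs.repr (ψ (bs 1)) 1 = e, bs.repr (ψ (bs 1)) 2 = f at h1
    generalize bs.repr (ψ (bs 2)) 0 = g, bs.repr (ψ (bs 2)) 1 = h, bs.repr (ψ (bs 2)) 2 = i at h2'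
    have e1 := congrArg ψ hxy
    have e2 := congrArg ψ hxz
    rw [LieEquiv.map_lie, h0, h1, Groth.GrpschAbsch.Lie3.lie_expand, hxy, hxz, hyz] at e1
    rw [LieEquiv.map_lie, map_add, h0, h1, h2', Groth.GrpschAbsch.Lie3.lie_expand, hxy, hxz,
      hyz] at e2
    have p0 := congrArg (fun v ↦ bs.repr v 0) e1
    have p1 := congrArg (fun v ↦ bs.repr v 1) e1
    have p2 := congrArg (fun v ↦ bs.repr v 2) e1
    have q0 := congrArg (fun v ↦ bs.repr v 0) e2
    have q1 := congrArg (fun v ↦ bs.repr v 1) e2
    have q2 := congrArg (fun v ↦ bs.repr v 2) e2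
    simp at p0 p1 p2 q0 q1 q2
    subst p0
    simp at q0 p1 p2
    subst q0
    simp at q1 q2
    refine ⟨a, b, c, e, f, h, i, h0, h1, h2', ?_, ?_, ?_, ?_, ?_⟩
    · have := Groth.GrpschAbsch.Lie3.isUnit_det ψ.toLinearEquiv h0 h1 h2'
      simpa using this
    all_goals first
      | linear_combination -p1 | linear_combination p1 | linear_combination -p2
      | linear_combination p2 | linear_combination -q1 | linear_combination q1
      | linear_combination -q2 | linear_combination q2
  obtain ⟨a, b, c, e, f, h, i, h0, h1, h2', hu, E1, E2, E3, E4⟩ := key φ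
  have ha : IsUnit a := isUnit_of_dvd_unit ⟨e * i - h * f, by ring⟩ hu
  have hd : IsUnit (e * i - h * f) := isUnit_of_dvd_unit ⟨a, by ring⟩ hu
  have n2 : (a - 1) ^ 2 * (e * i - h * f) = 0 := by
    linear_combination -(a - 1) * i * E1 + (a * i + (a - 1) * h) * E2
  have ha1 : (a - 1) ^ 2 = 0 := hd.mul_left_eq_zero.mp n2
  have hf2 : (2 : A) * f = 0 := by
    refine ha.mul_right_eq_zero.mp ?_
    linear_combination -E1 - h * ha1 - (a - 1) * E3 + a * E4
  have hf0 : f = 0 := h2.mul_right_eq_zero.mp hf2
  subst hf0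
  have hn : (a - 1) * (e * i) = 0 := by linear_combination (-i) * E1
  have ha' : a = 1 := by
    have : a - 1 = 0 := hd.mul_left_eq_zero.mp (by linear_combination hn)
    linear_combination this
  subst ha'
  have hei : e = i := by linear_combination E3
  subst hei
  refine ⟨b, c, h, e, isUnit_of_dvd_unit ⟨e, by ring⟩ hd, ?_, ?_, ?_⟩
  · simpa using h0
  · simpa using h1
  · simpa using h2'

end Groth.Agent.S13101
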