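import Groth.Statements.S13102
import Groth.Agent.GrpschAbsch.Lie3
import Mathlib.Tactic.LinearCombination

set_option autoImplicit false
universe u v w
open GrpSch

namespace Groth.Agent.S13102

/-- Let K be a field, α ∈ K, A a commutative K-algebra and L a Lie algebra over A which is free as an
A-module with basis x = bs 0, y = bs 1, z = bs 2 and brackets [x,y] = y, [x,z] = α z, [y,z] = 0. If
α² ≠ 1 then every Lie algebra automorphism φ of L over A satisfies φ(x) = x + b y + c z, φ(y) = e y,
φ(z) = i z for some b, c ∈ A and units e, i of A. If α = 1 then every such φ satisfies φ(x) = x + b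
y + c z, φ(y) = e y + f z, φ(z) = h y + i z with e i − f h a unit of A. (The printed statement
identifies the automorphism group schemes with the corresponding semidirect products, treats also α
= −1 in characteristic not 2, and computes first cohomology over a field of Laurent series; those
clauses are not restated here.) -/
theorem result (K : Type u) [Field K] (α : K) (A : Type v) [CommRing A] [Algebra K A]
    (L : Type w) [LieRing L] [LieAlgebra A L] (bs : Module.Basis (Fin 3) A L)
    (hxy : ⁅bs 0, bs 1⁆ = bs 1) (hxz : ⁅bs 0, bs 2⁆ = algebraMap K A α • bs 2) (hyz : ⁅bs 1, bs 2⁆ = 0)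
    (φ : L ≃ₗ⁅A⁆ L) :
    (α ^ 2 ≠ 1 → ∃ b c e i : A, IsUnit e ∧ IsUnit i ∧ φ (bs 0) = bs 0 + b • bs 1 + c • bs 2 ∧
        φ (bs 1) = e • bs 1 ∧ φ (bs 2) = i • bs 2) ∧
    (α = 1 → ∃ b c e f h i : A, IsUnit (e * i - f * h) ∧ φ (bs 0) = bs 0 + b • bs 1 + c • bs 2 ∧
        φ (bs 1) = e • bs 1 + f • bs 2 ∧ φ (bs 2) = h • bs 1 + i • bs 2) := by
  have h0 := Groth.GrpschAbsch.Lie3.eq_sum bs (φ (bs 0))
  have h1 := Groth.GrpschAbsch.Lie3.eq_sum bs (φ (bs 1))
  have h2 := Groth.GrpschAbsch.Lie3.eq_sum bs (φ (bs 2))
  generalize bs.repr (φ (bs 0)) 0 = a, bs.repr (φ (bs 0)) 1 = b, bs.repr (φ (bs 0)) 2 = c at h0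
  generalize bs.repr (φ (bs 1)) 0 = d, bs.repr (φ (bs 1)) 1 = e, bs.repr (φ (bs 1)) 2 = f at h1
  generalize bs.repr (φ (bs 2)) 0 = g, bs.repr (φ (bs 2)) 1 = h, bs.repr (φ (bs 2)) 2 = i at h2
  have hdet := Groth.GrpschAbsch.Lie3.isUnit_det φ.toLinearEquiv h0 h1 h2
  have e1 := congrArg φ hxy
  have e2 := congrArg φ hxz
  have e3 := congrArg φ hyz
  rw [LieEquiv.map_lie, h0, h1, Groth.GrpschAbsch.Lie3.lie_expand, hxy, hxz, hyz] at e1
  rw [LieEquiv.map_lie, map_smul, h0, h2, Groth.GrpschAbsch.Lie3.lie_expand, hxy, hxz, hyz] at e2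
  rw [LieEquiv.map_lie, map_zero, h1, h2, Groth.GrpschAbsch.Lie3.lie_expand, hxy, hxz, hyz] at e3
  set r := algebraMap K A α with hr
  have p0 := congrArg (fun v ↦ bs.repr v 0) e1
  have p1 := congrArg (fun v ↦ bs.repr v 1) e1
  have p2 := congrArg (fun v ↦ bs.repr v 2) e1
  have q0 := congrArg (fun v ↦ bs.repr v 0) e2
  have q1 := congrArg (fun v ↦ bs.repr v 1) e2
  have q2 := congrArg (fun v ↦ bs.repr v 2) e2
  have r1 := congrArg (fun v ↦ bs.repr v 1) e3
  simp at p0 p1 p2 q0 q1 q2 r1
  subst p0
  simp at hdet p1 p2 r1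
  constructor
  · intro hα
    have hs : IsUnit (r ^ 2 - 1) := by
      rw [hr, ← map_pow, ← map_one (algebraMap K A), ← map_sub]
      exact (isUnit_iff_ne_zero.mpr (sub_ne_zero.mpr hα)).map _
    have hs1 : IsUnit (r - 1) := isUnit_of_dvd_unit ⟨r + 1, by ring⟩ hs
    by_cases hα0 : α = 0
    · have hr0 : r = 0 := by rw [hr, hα0, map_zero]
      rw [hr0] at p2 q1
      have hf : f = 0 := by linear_combination -p2
      subst hf
      have he : IsUnit e := isUnit_of_dvd_unit ⟨a * i - g * c, by ring⟩ hdet
      have ha : a = 1 := by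
        have : a - 1 = 0 := he.mul_left_eq_zero.mp (by linear_combination p1)
        linear_combination this
      subst ha
      have hg : g = 0 := he.mul_right_eq_zero.mp (by linear_combination r1)
      subst hg
      have hh : h = 0 := by linear_combination q1
      subst hh
      exact ⟨b, c, e, i, he, isUnit_of_dvd_unit ⟨e, by ring⟩ hdet,
        by simpa using h0, by simpa using h1, by simpa using h2⟩
    · have hru : IsUnit r := (isUnit_iff_ne_zero.mpr hα0).map _
      have hg : g = 0 := hru.mul_right_eq_zero.mp (by linear_combination -q0)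
      subst hg
      have hi : a * i = i := by
        have : a * i - i = 0 := hru.mul_right_eq_zero.mp (by simp at q2; linear_combination q2)
        linear_combination this
      simp at q1
      have hfh : f * h = 0 := hs.mul_right_eq_zero.mp (by
        linear_combination h * p2 * 1 + 0 * (r * f) + (-r * f) * q1 * 1)
      have hei : IsUnit (e * i) := isUnit_of_dvd_unit ⟨a, by linear_combination (-a) * hfh⟩ hdet
      have ha : a = 1 := by
        have : a - 1 = 0 := hei.mul_left_eq_zero.mp (by linear_combination i * p1)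
        linear_combination this
      subst ha
      have hf : f = 0 := hs1.mul_right_eq_zero.mp (by linear_combination p2)
      have hh : h = 0 := hs1.mul_right_eq_zero.mp (by linear_combination -q1)
      subst hf hh
      exact ⟨b, c, e, i, isUnit_of_mul_isUnit_left hei, isUnit_of_mul_isUnit_right hei,
        by simpa using h0, by simpa using h1, by simpa using h2⟩
  · intro hα
    have hr1 : r = 1 := by rw [hr, hα, map_one]
    rw [hr1] at p2 q0 q1 q2
    simp at p2 q0 q1 q2
    subst q0
    simp at q1 q2
    have hd : IsUnit (e * i - f * h) := isUnit_of_dvd_unit ⟨a, by ring⟩ hdet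
    have ha : a = 1 := by
      have : a - 1 = 0 := hd.mul_left_eq_zero.mp (by linear_combination i * p1 - h * p2)
      linear_combination this
    subst ha
    exact ⟨b, c, e, f, h, i, hd, by simpa using h0, by simpa using h1, by simpa using h2⟩

end Groth.Agent.S13102
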