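import Groth.Statements.S13104
import Mathlib.RingTheory.DualNumber
import Mathlib.AlgebraicGeometry.AffineScheme

set_option autoImplicit false
universe u
open GrpSch

namespace Groth.Agent.S13104

open CategoryTheory AlgebraicGeometry in
/-- Let B be a commutative ring, B[ε] the ring of dual numbers (ε² = 0) and B[α, β]/(α², β²) the double
dual numbers, realised as dual numbers over the dual numbers with α the inner and β the outer
generator, and let ψ : B[ε] → B[α, β]/(α², β²) be the B-algebra homomorphism with ψ(ε) = αβ. Then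
for every scheme G the map u ↦ Spec(ψ) ≫ u from morphisms Spec B[ε] → G to morphisms Spec
B[α,β]/(α²,β²) → G is injective. (The printed statement is its consequence for a group scheme G: the
map Lie(G)(B) → G(B[α,β]/(α²,β²)), x ↦ exp(αβ x), is injective; the injectivity on all B[ε]-points
stated here is what the printed argument establishes.) -/
theorem result (B : Type u) [CommRing B]
    (ψ : DualNumber B →+* DualNumber (DualNumber B))
    (hψB : ∀ b : B, ψ (algebraMap B (DualNumber B) b) = algebraMap B (DualNumber (DualNumber B)) b)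
    (hψ : ψ DualNumber.eps = algebraMap (DualNumber B) (DualNumber (DualNumber B)) DualNumber.eps * DualNumber.eps)
    (G : Scheme.{u}) :
    Function.Injective (fun u : Spec (CommRingCat.of (DualNumber B)) ⟶ G =>
      Spec.map (CommRingCat.ofHom (R := DualNumber B) (S := DualNumber (DualNumber B)) ψ) ≫ u) := by
  intro u v huv
  have hψbar : ∀ x : DualNumber B, ψ x =
      algebraMap B (DualNumber (DualNumber B)) x.fst +
        algebraMap B (DualNumber (DualNumber B)) x.snd *
          (algebraMap (DualNumber B) (DualNumber (DualNumber B)) DualNumber.eps * DualNumber.eps) := by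
    intro x
    conv_lhs => rw [← TrivSqZeroExt.inl_fst_add_inr_snd_eq x, DualNumber.inr_eq_smul_eps]
    rw [map_add, Algebra.smul_def, map_mul, hψB, hψ, ← hψB x.fst]
    rfl
  have h00 : ∀ x, (ψ x).fst.fst = x.fst := by
    intro x; simp [hψbar x, TrivSqZeroExt.algebraMap_eq_inl']
  have h11 : ∀ x, (ψ x).snd.snd = x.snd := by
    intro x; simp [hψbar x, TrivSqZeroExt.algebraMap_eq_inl']
  have h10 : ∀ x, (ψ x).fst.snd = 0 ∧ (ψ x).snd.fst = 0 := by
    intro x; constructor <;> simp [hψbar x, TrivSqZeroExt.algebraMap_eq_inl']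
  have hP : ∀ (P : Ideal (DualNumber B)), P.IsPrime → ∀ x : DualNumber B,
      x ∈ P ↔ algebraMap B (DualNumber B) x.fst ∈ P := by
    intro P _ x
    have hn : IsNilpotent (x - algebraMap B (DualNumber B) x.fst) :=
      ⟨2, TrivSqZeroExt.ext (by simp [pow_two, TrivSqZeroExt.algebraMap_eq_inl'])
        (by simp [pow_two, TrivSqZeroExt.algebraMap_eq_inl'])⟩
    obtain ⟨k, hk⟩ := hn
    have := Ideal.IsPrime.mem_of_pow_mem (I := P) inferInstance k (hk ▸ P.zero_mem)
    constructor
    · intro hx; simpa using P.sub_mem hx this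
    · intro hx; simpa using P.add_mem this hx
  let φ : CommRingCat.of (DualNumber B) ⟶ CommRingCat.of (DualNumber (DualNumber B)) :=
    CommRingCat.ofHom ψ
  have hsurj : Function.Surjective (PrimeSpectrum.comap φ.hom) := by
    intro P
    refine ⟨PrimeSpectrum.comap ((algebraMap B (DualNumber B)).comp
      ((TrivSqZeroExt.fstHom B B B).toRingHom.comp
        (TrivSqZeroExt.fstHom (DualNumber B) (DualNumber B) (DualNumber B)).toRingHom)) P, ?_⟩
    ext x
    simpa [φ, h00] using! (hP P.asIdeal P.isPrime x).symm
  have : Epi (Spec.map φ) := by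
    apply CategoryTheory.Functor.epi_of_epi_map (Scheme.forgetToLocallyRingedSpace)
    apply CategoryTheory.Functor.epi_of_epi_map (LocallyRingedSpace.forgetToSheafedSpace)
    apply SheafedSpace.epi_of_base_surjective_of_stalk_mono
    · exact hsurj
    intro q
    let q : PrimeSpectrum (DualNumber (DualNumber B)) := q
    change Mono ((Spec.map φ).stalkMap q)
    have hinj : Function.Injective (Localization.localRingHom
        (PrimeSpectrum.comap ψ q).asIdeal q.asIdeal ψ (PrimeSpectrum.comap_asIdeal ψ q)) := by
      refine (injective_iff_map_eq_zero _).mpr fun z hz ↦ ?_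
      obtain ⟨x, s, rfl⟩ := IsLocalization.exists_mk'_eq
        (PrimeSpectrum.comap ψ q).asIdeal.primeCompl z
      rw [Localization.localRingHom_mk', IsLocalization.mk'_eq_zero_iff] at hz
      obtain ⟨⟨t, ht⟩, htx⟩ := hz
      rw [IsLocalization.mk'_eq_zero_iff]
      have e1 := congrArg (fun w ↦ w.fst.fst) htx
      have e2 := congrArg (fun w ↦ w.snd.snd) htx
      simp [φ, h00, h11, (h10 x).1, (h10 x).2] at e1 e2
      refine ⟨⟨algebraMap B (DualNumber B) t.fst.fst ^ 2, fun hmem ↦ ?_⟩, ?_⟩
      · have hm := Ideal.IsPrime.mem_of_pow_mem inferInstance _ hmem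
        have hn : IsNilpotent (t - algebraMap B (DualNumber (DualNumber B)) t.fst.fst) := by
          rw [TrivSqZeroExt.isNilpotent_iff_isNilpotent_fst,
            TrivSqZeroExt.isNilpotent_iff_isNilpotent_fst]
          simp [TrivSqZeroExt.algebraMap_eq_inl']
        obtain ⟨k, hk⟩ := hn
        have hh := Ideal.IsPrime.mem_of_pow_mem (I := q.asIdeal) inferInstance k
          (hk ▸ q.asIdeal.zero_mem)
        apply ht
        have hm' : ψ (algebraMap B (DualNumber B) t.fst.fst) ∈ q.asIdeal := hm
        rw [hψB] at hm'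
        simpa using q.asIdeal.add_mem hh hm'
      · apply TrivSqZeroExt.ext
        · simp [pow_two, TrivSqZeroExt.algebraMap_eq_inl', mul_assoc, e1]
        · simp [pow_two, TrivSqZeroExt.algebraMap_eq_inl']
          linear_combination t.fst.fst * e2 - t.snd.snd * e1
    have key : ∀ {A₁ A₂ : CommRingCat.{u}} (f : A₁ ⟶ A₂) {B₁ B₂ : CommRingCat.{u}} (g : B₁ ⟶ B₂)
        (e : Arrow.mk f ≅ Arrow.mk g), Mono g → Mono f := fun f _ _ g e h ↦
      ((MorphismProperty.monomorphisms CommRingCat).arrow_mk_iso_iff e).mpr h
    refine key _ _ (Scheme.arrowStalkMapSpecIso φ q) ?_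
    exact ConcreteCategory.mono_of_injective _ hinj
  exact (cancel_epi (Spec.map φ)).mp huv

end Groth.Agent.S13104
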