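import Groth.Statements.S13105
import Groth.Agent.Variety2.DimAffine
import Mathlib
-- import your own Groth.Agent.* helpers here

set_option autoImplicit false
universe u
open Lie3Mod

namespace Groth.Agent.S13105

section Helpers

open MvPolynomial

variable {k : Type u} [Field k] (t : k)

/-- The point. -/
def pt : Fin 9 → k := ![0, 1, 0, 0, 0, t, 0, 0, 0]

theorem eval_pt_detM : eval (pt t) (detM k) = 0 := by simp [detM, pt]

theorem idJ_le_ker : idJ k ≤ RingHom.ker (eval (pt t)) := by
  refine Ideal.span_le.mpr ?_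
  rintro q (rfl | rfl | rfl | rfl) <;> rw [SetLike.mem_coe, RingHom.mem_ker] <;>
    simp [Q1, Q2, Q3, detM, pt]

theorem span_eq_ker :
    Ideal.span ({X 0, X 1 - 1, X 2, X 3, X 4, X 5 - C t, X 6, X 7, X 8} : Set (Lie3Mod.D k)) =
      RingHom.ker (eval (pt t)) := by
  set G : Set (Lie3Mod.D k) := {X 0, X 1 - 1, X 2, X 3, X 4, X 5 - C t, X 6, X 7, X 8}
  refine le_antisymm (Ideal.span_le.mpr ?_) fun p hp => ?_
  · rintro q (rfl | rfl | rfl | rfl | rfl | rfl | rfl | rfl | rfl) <;> simp [pt]
  have h : ∀ j, X j - C (pt t j) ∈ Ideal.span G := by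
    intro j
    fin_cases j <;> simp [pt] <;> exact Ideal.subset_span (by simp [G])
  suffices h' : p - C (eval (pt t) p) ∈ Ideal.span G by simpa [RingHom.mem_ker.mp hp] using h'
  clear hp
  induction p using MvPolynomial.induction_on with
  | C a => simp
  | add p q hp hq => rw [map_add, map_add, add_sub_add_comm]; exact add_mem hp hq
  | mul_X p j hp =>
    have : p * X j - C (eval (pt t) (p * X j)) =
        (p - C (eval (pt t) p)) * X j + C (eval (pt t) p) * (X j - C (pt t j)) := by
      rw [map_mul, eval_X, map_mul]; ring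
    exact this ▸ add_mem (Ideal.mul_mem_right _ _ hp) (Ideal.mul_mem_left _ _ (h j))

/-- the six parameters -/
noncomputable def params : Finset (Lie3Mod.D k) :=
  open Classical in {X 0, X 1 - 1, X 2, X 4, X 5 - C t, X 7}

theorem maximal_le {S : Type u} [CommRing S] (ρ : Lie3Mod.D k →+* S) (hJ : ∀ q ∈ idJ k, ρ q = 0)
    (hu : ∀ q, eval (pt t) q ≠ 0 → IsUnit (ρ q)) :
    (RingHom.ker (eval (pt t))).map ρ ≤ Ideal.span (ρ '' params t) := by
  classical
  set N := Ideal.span (ρ '' params t)
  have hN : ∀ q ∈ params t, ρ q ∈ N := fun q hq => Ideal.subset_span ⟨q, hq, rfl⟩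
  have h0 : ρ (X 0) ∈ N := hN _ (by simp [params])
  have h1 : ρ (X 1 - 1) ∈ N := hN _ (by simp [params])
  have h2 : ρ (X 2) ∈ N := hN _ (by simp [params])
  have h4 : ρ (X 4) ∈ N := hN _ (by simp [params])
  have h5 : ρ (X 5 - C t) ∈ N := hN _ (by simp [params])
  have h7 : ρ (X 7) ∈ N := hN _ (by simp [params])
  have hq1 := hJ (Q1 k) (Ideal.subset_span (by simp))
  have hq2 := hJ (Q2 k) (Ideal.subset_span (by simp))
  have hq3 := hJ (Q3 k) (Ideal.subset_span (by simp))
  have hq4 := hJ (detM k) (Ideal.subset_span (by simp))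
  simp only [Q1, Q2, Q3, detM, map_add, map_sub, map_mul, map_neg, map_pow] at hq1 hq2 hq3 hq4
  have hb : IsUnit (ρ vb) := hu _ (by simp [pt])
  have h3 : ρ (X 3) ∈ N := by
    refine (Ideal.unit_mul_mem_iff_mem N hb).mp ?_
    have : ρ vb * ρ vd = ρ vf * ρ vh + ρ va * ρ ve - ρ vi * ρ ve := by linear_combination hq2
    rw [this]
    exact sub_mem (add_mem (Ideal.mul_mem_left _ _ h7) (Ideal.mul_mem_left _ _ h4)) (Ideal.mul_mem_left _ _ h4)
  have h8 : ρ (X 8) ∈ N := by
    refine (Ideal.unit_mul_mem_iff_mem N hb).mp ?_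
    have : ρ vb * ρ vi = ρ vc * ρ vh + ρ vd * ρ vc - ρ vf * ρ va := by linear_combination -hq3
    rw [this]
    exact sub_mem (add_mem (Ideal.mul_mem_left _ _ h7) (Ideal.mul_mem_left _ _ h2)) (Ideal.mul_mem_left _ _ h0)
  have h6 : ρ (X 6) ∈ N := by
    by_cases ht : t + 1 = 0
    · have ht0 : t ≠ 0 := fun h => by simp [h] at ht
      have hu' : IsUnit (ρ (vb * vf - ve * vc)) := hu _ (by simp [pt, ht0])
      rw [map_sub, map_mul, map_mul] at hu'
      refine (Ideal.unit_mul_mem_iff_mem N hu').mp ?_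
      have : (ρ vb * ρ vf - ρ ve * ρ vc) * ρ vg =
          (ρ vc * ρ vh - ρ vb * ρ vi + ρ vi * ρ vf) * ρ vh - (ρ ve * ρ vi) * ρ vi := by
        linear_combination hq4
      rw [this]
      exact sub_mem (Ideal.mul_mem_left _ _ h7) (Ideal.mul_mem_left _ _ h8)
    · have hu' : IsUnit (ρ (vf + vb)) := hu _ (by simpa [pt] using ht)
      rw [map_add] at hu'
      refine (Ideal.unit_mul_mem_iff_mem N hu').mp ?_
      have : (ρ vf + ρ vb) * ρ vg = ρ va * ρ vh + ρ vd * ρ vi := by linear_combination -hq1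
      rw [this]
      exact add_mem (Ideal.mul_mem_left _ _ h7) (Ideal.mul_mem_left _ _ h8)
  rw [← span_eq_ker, Ideal.map_span, Ideal.span_le]
  rintro _ ⟨q, hq, rfl⟩
  rcases hq with rfl | rfl | rfl | rfl | rfl | rfl | rfl | rfl | rfl <;> assumption

/-- Near the point `J` needs only three generators. -/
theorem exists_three (R : Type u) [CommRing R] (ρ : Lie3Mod.D k →+* R)
    (hu : ∀ q, eval (pt t) q ≠ 0 → IsUnit (ρ q)) :
    ∃ s : Finset R, s.card ≤ 3 ∧ (idJ k).map ρ = Ideal.span (s : Set R) := by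
  classical
  have hmap : (idJ k).map ρ = Ideal.span {ρ (Q1 k), ρ (Q2 k), ρ (Q3 k), ρ (detM k)} := by
    rw [idJ, Ideal.map_span]; simp [Set.image_insert_eq]
  by_cases ht : t + 1 = 0
  · have ht0 : t ≠ 0 := fun h => by simp [h] at ht
    refine ⟨{ρ (Q2 k), ρ (Q3 k), ρ (detM k)}, Finset.card_le_three, ?_⟩
    rw [hmap, Finset.coe_insert, Finset.coe_insert, Finset.coe_singleton]
    refine le_antisymm (Ideal.span_le.mpr ?_) (Ideal.span_mono (Set.subset_insert _ _))
    rintro x (rfl | hx)
    · have hu' : IsUnit (ρ (vb * vf - ve * vc)) := hu _ (by simp [pt, ht0])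
      refine (Ideal.unit_mul_mem_iff_mem _ hu').mp ?_
      have : (vb * vf - ve * vc) * Q1 k =
          -L2 k * detM k + (vh * vc + vi * vf) * Q2 k + (-vh * vb - vi * ve) * Q3 k := by
        simp only [Q1, Q2, Q3, L2, detM]; ring
      rw [← map_mul, this, map_add, map_add, map_mul, map_mul, map_mul]
      exact add_mem (add_mem (Ideal.mul_mem_left _ _ (Ideal.subset_span (by simp)))
        (Ideal.mul_mem_left _ _ (Ideal.subset_span (by simp)))) (Ideal.mul_mem_left _ _ (Ideal.subset_span (by simp)))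
    · exact Ideal.subset_span hx
  · refine ⟨{ρ (Q1 k), ρ (Q2 k), ρ (Q3 k)}, Finset.card_le_three, ?_⟩
    rw [hmap, Finset.coe_insert, Finset.coe_insert, Finset.coe_singleton]
    refine le_antisymm (Ideal.span_le.mpr ?_) (Ideal.span_mono (fun x hx => by
      rcases hx with rfl | rfl | rfl <;> simp))
    rintro x (rfl | rfl | rfl | rfl)
    · exact Ideal.subset_span (by simp)
    · exact Ideal.subset_span (by simp)
    · exact Ideal.subset_span (by simp)
    · have hu' : IsUnit (ρ (L2 k)) := hu _ (by simpa [pt, L2, add_comm] using ht)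
      refine (Ideal.unit_mul_mem_iff_mem _ hu').mp ?_
      have : L2 k * detM k = (ve * vc - vb * vf) * Q1 k + (vh * vc + vi * vf) * Q2 k +
          (-vh * vb - vi * ve) * Q3 k := by simp only [Q1, Q2, Q3, L2, detM]; ring
      rw [← map_mul, this, map_add, map_add, map_mul, map_mul, map_mul]
      exact add_mem (add_mem (Ideal.mul_mem_left _ _ (Ideal.subset_span (by simp)))
        (Ideal.mul_mem_left _ _ (Ideal.subset_span (by simp)))) (Ideal.mul_mem_left _ _ (Ideal.subset_span (by simp)))

theorem main (P : Ideal (Lie3Mod.D k ⧸ idJ k)) [P.IsPrime] (S : Type u) [CommRing S] [IsLocalRing S]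
    [Algebra (Lie3Mod.D k ⧸ idJ k) S] [IsLocalization.AtPrime S P]
    (hP : P = Ideal.map (Ideal.Quotient.mk (idJ k)) (RingHom.ker (eval (pt t)))) :
    IsRegularLocalRing S ∧ ringKrullDim S = 6 := by
  classical
  let M : Ideal (Lie3Mod.D k) := RingHom.ker (eval (pt t))
  have hM : M.IsMaximal := RingHom.ker_isMaximal_of_surjective _ fun a => ⟨C a, eval_C a⟩
  have hJM : idJ k ≤ M := idJ_le_ker t
  have hcomap : P.comap (Ideal.Quotient.mk (idJ k)) = M := by
    rw [hP, Ideal.comap_map_of_surjective _ Ideal.Quotient.mk_surjective, ← RingHom.ker_eq_comap_bot,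
      Ideal.mk_ker]
    exact sup_eq_left.mpr hJM
  have hmem : ∀ q, Ideal.Quotient.mk (idJ k) q ∈ P ↔ q ∈ M := fun q => by rw [← hcomap]; rfl
  let ρ : Lie3Mod.D k →+* S := (algebraMap _ S).comp (Ideal.Quotient.mk (idJ k))
  have hρu : ∀ q, eval (pt t) q ≠ 0 → IsUnit (ρ q) := fun q hq =>
    IsLocalization.map_units (M := P.primeCompl) S ⟨_, fun h => hq ((hmem q).mp h)⟩
  have hρJ : ∀ q ∈ idJ k, ρ q = 0 := fun q hq => by
    simp [ρ, Ideal.Quotient.eq_zero_iff_mem.mpr hq]
  have : IsNoetherianRing S := IsLocalization.isNoetherianRing P.primeCompl S inferInstance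
  have hle : IsLocalRing.maximalIdeal S ≤ Ideal.span (ρ '' params t) := by
    have : IsLocalRing.maximalIdeal S = M.map ρ := by
      exact (IsLocalization.AtPrime.map_eq_maximalIdeal P S).symm.trans
        ((congrArg (Ideal.map (algebraMap _ S)) hP).trans (Ideal.map_map _ _))
    rw [this]
    exact maximal_le (S := S) t ρ hρJ hρu
  have hge : Ideal.span (ρ '' params t) ≤ IsLocalRing.maximalIdeal S := by
    rw [Ideal.span_le]
    rintro _ ⟨q, hq, rfl⟩
    refine (IsLocalization.AtPrime.to_map_mem_maximal_iff S P _).mpr ((hmem q).mpr ?_)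
    simp only [params, Finset.coe_insert, Finset.coe_singleton] at hq
    rcases hq with rfl | rfl | rfl | rfl | rfl | rfl <;> simp [M, pt]
  have hrank : (IsLocalRing.maximalIdeal S).spanFinrank ≤ 6 := by
    rw [le_antisymm hle hge]
    refine (Submodule.spanFinrank_span_le_ncard_of_finite ((params t).finite_toSet.image ρ)).trans ?_
    refine (Set.ncard_image_le (params t).finite_toSet).trans ?_
    rw [Set.ncard_coe_finset]
    exact Finset.card_le_six
  let R := Localization.AtPrime M
  let ψ : R →+* S := IsLocalization.lift (M := M.primeCompl) (g := ρ) fun q => hρu _ q.2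
  obtain ⟨s, hs3, hs⟩ := exists_three t R (algebraMap _ R) fun q hq =>
    IsLocalization.map_units (M := M.primeCompl) R ⟨q, hq⟩
  have hdim : (6 : WithBot ℕ∞) ≤ ringKrullDim S := by
    let R' := R ⧸ (idJ k).map (algebraMap _ R)
    have hloc : IsLocalization (Algebra.algebraMapSubmonoid (Lie3Mod.D k ⧸ idJ k) M.primeCompl) R' :=
      inferInstance
    have hsub : Algebra.algebraMapSubmonoid (Lie3Mod.D k ⧸ idJ k) M.primeCompl = P.primeCompl := by
      ext x
      refine ⟨fun ⟨q, hq, h⟩ => h ▸ fun hx => hq ((hmem q).mp hx), fun hx => ?_⟩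
      obtain ⟨q, rfl⟩ := Ideal.Quotient.mk_surjective x
      exact ⟨q, fun hq => hx ((hmem q).mpr hq), rfl⟩
    rw [hsub] at hloc
    have e := (IsLocalization.algEquiv P.primeCompl R' S).toRingEquiv
    have he : ringKrullDim R' = ringKrullDim S := ringKrullDim_eq_of_ringEquiv e
    rw [← he]
    have h9 : ringKrullDim R = ((9 : ℕ) : ℕ∞) := by
      rw [IsLocalization.AtPrime.ringKrullDim_eq_height M R,
        Groth.Variety2.Dim.height_isMaximal_mvPolynomial k 9 M hM]
    have hjac : (idJ k).map (algebraMap _ R) ≤ Ring.jacobson R := by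
      rw [IsLocalRing.ringJacobson_eq_maximalIdeal, ← IsLocalization.AtPrime.map_eq_maximalIdeal M R]
      exact Ideal.map_mono hJM
    have h := ringKrullDim_le_ringKrullDim_quotient_add_spanFinrank _ hjac
    rw [h9] at h
    have hn : ((idJ k).map (algebraMap _ R)).spanFinrank ≤ 3 := by
      rw [hs]
      exact (Submodule.spanFinrank_span_le_ncard_of_finite s.finite_toSet).trans (by simpa using hs3)
    have hle' : (((idJ k).map (algebraMap _ R)).spanFinrank : WithBot ℕ∞) ≤ 3 := by exact_mod_cast hn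
    have h' := h.trans (add_le_add le_rfl hle')
    revert h'
    induction ringKrullDim R' with
    | bot => intro h'; simp at h'
    | coe n =>
      intro h'
      induction n with
      | top => exact le_top
      | coe n =>
        have h1 : ((9 : ℕ) : WithBot ℕ∞) ≤ ((n + 3 : ℕ) : WithBot ℕ∞) := by
          refine le_trans (le_of_eq ?_) (h'.trans (le_of_eq ?_)) <;> simp
        have h2 : (9 : ℕ) ≤ n + 3 := Nat.cast_le.mp h1
        have h3 : 6 ≤ n := by omega
        exact le_trans (le_of_eq (by simp)) ((Nat.cast_le (α := WithBot ℕ∞)).mpr h3)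
  have hup : ringKrullDim S ≤ 6 :=
    (ringKrullDim_le_spanFinrank_maximalIdeal S).trans (by exact_mod_cast hrank)
  exact ⟨IsRegularLocalRing.of_spanFinrank_maximalIdeal_le S ((Nat.cast_le.mpr hrank).trans hdim),
    le_antisymm hup hdim⟩

end Helpers

open MvPolynomial in
/-- Let k be a field, t ∈ k, D = k[a,b,c,d,e,f,g,h,i] and J = (Q1, Q2, Q3, det M) with Q1 = ah + di − fg
− bg, Q2 = ie + bd − fh − ae, Q3 = hc + dc − af − bi, det M = −ch² + gbf + ei² − gec + hbi − ihf.
The maximal ideal (a, b − 1, c, d, e, f − t, g, h, i) of D contains J (it is the point given by the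
Lie algebra with [x,y] = y, [x,z] = t z, [y,z] = 0), and the localization of D/J at the
corresponding prime is a regular local ring of Krull dimension 6: the scheme Spec(D/J) has a smooth
k-rational point. -/
theorem result (k : Type u) [Field k] (t : k)
    (P : Ideal (Lie3Mod.D k ⧸ Lie3Mod.idJ k)) [P.IsPrime]
    (hP : P = Ideal.map (Ideal.Quotient.mk (Lie3Mod.idJ k))
      (Ideal.span ({X 0, X 1 - 1, X 2, X 3, X 4, X 5 - C t, X 6, X 7, X 8} : Set (Lie3Mod.D k)))) :
    IsRegularLocalRing (Localization.AtPrime P) ∧ ringKrullDim (Localization.AtPrime P) = 6 := by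
  rw [span_eq_ker] at hP
  exact main t P (Localization.AtPrime P) hP

end Groth.Agent.S13105
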