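import Groth.Statements.S13107
import Groth.Agent.GrpschAbsch.Lie3
import Mathlib.Tactic.LinearCombination

set_option autoImplicit false
universe u v w
open GrpSch

namespace Groth.Agent.S13107

/-- Let k be a field, K = k((t)) the field of Laurent series over k, F a Lie algebra over K with a basis
x' = bF 0, y' = bF 1, z' = bF 2 and brackets [x',y'] = z', [x',z'] = t y', [y',z'] = 0, and L a Lie
algebra over K with a basis x = bL 0, y = bL 1, z = bL 2 and brackets [x,y] = y, [x,z] = −z, [y,z] =
0. Then there is no K-linear isomorphism of Lie algebras between L and F: F is a non-trivial form of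
L over K. (The published result is the classification of three-dimensional Lie algebras over k((t))
for k algebraically closed of characteristic not 2, with F its only non-split entry; this row states
the non-isomorphism of F and L over k((t)) for every field k.) -/
theorem result (k : Type u) [Field k]
    (F : Type v) [LieRing F] [LieAlgebra (LaurentSeries k) F] (bF : Module.Basis (Fin 3) (LaurentSeries k) F)
    (hF01 : ⁅bF 0, bF 1⁆ = bF 2) (hF02 : ⁅bF 0, bF 2⁆ = (HahnSeries.single 1 (1 : k) : LaurentSeries k) • bF 1)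
    (hF12 : ⁅bF 1, bF 2⁆ = 0)
    (L : Type w) [LieRing L] [LieAlgebra (LaurentSeries k) L] (bL : Module.Basis (Fin 3) (LaurentSeries k) L)
    (hL01 : ⁅bL 0, bL 1⁆ = bL 1) (hL02 : ⁅bL 0, bL 2⁆ = -bL 2) (hL12 : ⁅bL 1, bL 2⁆ = 0) :
    IsEmpty (L ≃ₗ⁅LaurentSeries k⁆ F) := by
  refine ⟨fun φ ↦ ?_⟩
  have h0 := Groth.GrpschAbsch.Lie3.eq_sum bF (φ (bL 0))
  have h1 := Groth.GrpschAbsch.Lie3.eq_sum bF (φ (bL 1))
  generalize bF.repr (φ (bL 0)) 0 = a, bF.repr (φ (bL 0)) 1 = b, bF.repr (φ (bL 0)) 2 = c at h0
  generalize bF.repr (φ (bL 1)) 0 = d, bF.repr (φ (bL 1)) 1 = e, bF.repr (φ (bL 1)) 2 = f at h1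
  have e1 := congrArg φ hL01
  rw [LieEquiv.map_lie, h0, h1, Groth.GrpschAbsch.Lie3.lie_expand, hF01, hF02, hF12] at e1
  have p0 := congrArg (fun v ↦ bF.repr v 0) e1
  have p1 := congrArg (fun v ↦ bF.repr v 1) e1
  have p2 := congrArg (fun v ↦ bF.repr v 2) e1
  simp at p0 p1 p2
  subst p0
  simp at p1 p2
  set t := (HahnSeries.single 1 (1 : k) : LaurentSeries k)
  by_cases he : e = 0
  · subst he
    have hf : f = 0 := by linear_combination -p2
    subst hf
    have h1' : φ (bL 1) = 0 := by simpa using h1
    clear h1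
    rename φ (bL 1) = 0 => h1
    exact bL.ne_zero 1 ((map_eq_zero_iff φ φ.injective).mp h1)
  · have key : t * (a * a) = 1 := by
      refine mul_right_cancel₀ he ?_
      linear_combination p1 + a * t * p2
    have ha : a ≠ 0 := fun ha ↦ by simp [ha] at key
    have := congrArg HahnSeries.order key
    rw [HahnSeries.order_mul (by simp [t]) (mul_ne_zero ha ha), HahnSeries.order_mul ha ha,
      HahnSeries.order_single one_ne_zero, HahnSeries.order_one] at this
    omega

end Groth.Agent.S13107
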