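import Groth.Statements.S13108
import Groth.Agent.GrpschAbsch.Lie3
import Mathlib.Tactic.LinearCombination

set_option autoImplicit false
universe u v w
open GrpSch

namespace Groth.Agent.S13108

/-- Let k be a field and t, t' ∈ k both non-zero; let L be a Lie algebra over k with a basis x = b 0, y
= b 1, z = b 2 and brackets [x,y] = y, [x,z] = t z, [y,z] = 0, and L' a Lie algebra over k with a
basis x' = b' 0, y' = b' 1, z' = b' 2 and brackets [x',y'] = y', [x',z'] = t' z', [y',z'] = 0. Then
L and L' are isomorphic Lie algebras over k if and only if t' = t or t' = t⁻¹. -/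
theorem result (k : Type u) [Field k] (t t' : k) (ht : t ≠ 0) (ht' : t' ≠ 0)
    (L : Type v) [LieRing L] [LieAlgebra k L] (b : Module.Basis (Fin 3) k L)
    (h01 : ⁅b 0, b 1⁆ = b 1) (h02 : ⁅b 0, b 2⁆ = t • b 2) (h12 : ⁅b 1, b 2⁆ = 0)
    (L' : Type w) [LieRing L'] [LieAlgebra k L'] (b' : Module.Basis (Fin 3) k L')
    (h01' : ⁅b' 0, b' 1⁆ = b' 1) (h02' : ⁅b' 0, b' 2⁆ = t' • b' 2) (h12' : ⁅b' 1, b' 2⁆ = 0) :
    Nonempty (L ≃ₗ⁅k⁆ L') ↔ (t' = t ∨ t' = t⁻¹) := by
  open Groth.GrpschAbsch in
  constructor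
  · rintro ⟨φ⟩
    have h0 := Lie3.eq_sum b' (φ (b 0))
    have h1 := Lie3.eq_sum b' (φ (b 1))
    have h2 := Lie3.eq_sum b' (φ (b 2))
    generalize b'.repr (φ (b 0)) 0 = a, b'.repr (φ (b 0)) 1 = bb, b'.repr (φ (b 0)) 2 = c at h0
    generalize b'.repr (φ (b 1)) 0 = d, b'.repr (φ (b 1)) 1 = e, b'.repr (φ (b 1)) 2 = f at h1
    generalize b'.repr (φ (b 2)) 0 = g, b'.repr (φ (b 2)) 1 = h, b'.repr (φ (b 2)) 2 = i at h2
    have hdet := Lie3.isUnit_det φ.toLinearEquiv h0 h1 h2
    have e1 := congrArg φ h01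
    have e2 := congrArg φ h02
    rw [LieEquiv.map_lie, h0, h1, Lie3.lie_expand, h01', h02', h12'] at e1
    rw [LieEquiv.map_lie, map_smul, h0, h2, Lie3.lie_expand, h01', h02', h12'] at e2
    have p0 := congrArg (fun v ↦ b'.repr v 0) e1
    have p1 := congrArg (fun v ↦ b'.repr v 1) e1
    have p2 := congrArg (fun v ↦ b'.repr v 2) e1
    have q0 := congrArg (fun v ↦ b'.repr v 0) e2
    have q1 := congrArg (fun v ↦ b'.repr v 1) e2
    have q2 := congrArg (fun v ↦ b'.repr v 2) e2
    simp at p0 p1 p2 q0 q1 q2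
    subst p0
    have hg : g = 0 := by simpa [ht] using q0
    subst hg
    simp at hdet p1 p2 q1 q2
    by_cases he : e = 0
    · subst he
      have hf : f ≠ 0 := fun hf ↦ by simp [hf] at hdet
      have hh : h ≠ 0 := fun hh ↦ by simp [hh] at hdet
      have hat : a = t := q1.resolve_right hh
      subst hat
      refine Or.inr (eq_inv_of_mul_eq_one_left (mul_right_cancel₀ hf ?_))
      linear_combination p2
    · have ha : a = 1 := mul_right_cancel₀ he (by linear_combination p1)
      subst ha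
      by_cases hi : i = 0
      · subst hi
        have hf : f ≠ 0 := fun hf ↦ by simp [hf] at hdet
        have hh : h ≠ 0 := fun hh ↦ by simp [hh] at hdet
        have h1t : t = 1 := (q1.resolve_right hh).symm
        have h2t : t' = 1 := mul_right_cancel₀ hf (by linear_combination p2)
        exact Or.inl (h2t.trans h1t.symm)
      · exact Or.inl (mul_right_cancel₀ hi (by linear_combination q2))
  · rintro (rfl | rfl)
    · refine ⟨{ (b.equiv b' (Equiv.refl _)) with map_lie' := ?_ }⟩
      intro u v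
      refine Lie3.map_lie_of_basis b (b.equiv b' (Equiv.refl _)).toLinearMap ?_ ?_ ?_ u v <;>
        simp [h01, h02, h12, h01', h02', h12']
    · let e : Module.Basis (Fin 3) k L' :=
        (b'.reindex (Equiv.swap 1 2)).unitsSMul ![Units.mk0 t ht, 1, 1]
      have e0 : e 0 = t • b' 0 := by
        simp [e, Module.Basis.unitsSMul_apply, Equiv.swap_apply_of_ne_of_ne, Units.smul_def]
      have e1 : e 1 = b' 2 := by simp [e, Module.Basis.unitsSMul_apply]
      have e2 : e 2 = b' 1 := by simp [e, Module.Basis.unitsSMul_apply]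
      refine ⟨{ (b.equiv e (Equiv.refl _)) with map_lie' := ?_ }⟩
      intro u v
      have h21' : ⁅b' 2, b' 1⁆ = 0 := by rw [← lie_skew, h12', neg_zero]
      refine Lie3.map_lie_of_basis b (b.equiv e (Equiv.refl _)).toLinearMap ?_ ?_ ?_ u v <;>
        simp [h01, h02, h12, h01', h02', e0, e1, e2, smul_smul, ht, h21']

end Groth.Agent.S13108
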