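import Groth.Statements.S13111
import Groth.Agent.HTopHyper.PtFunDVR

set_option autoImplicit false
universe u
open HTop

namespace Groth.Agent.S13111

open AlgebraicGeometry W4c1hilbchowinc in
/-- Let A be a reduced Noetherian ring whose integral closure in its total ring of fractions is a finite
A-module. Suppose that any pointwise function on Spec A that is algebraic along every discrete
valuation ring (for every discrete valuation ring R and every morphism Spec R → Spec A there is an
element of R whose values at the two points of Spec R are the images of the chosen values) is the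
family of values of exactly one global section. Then A is seminormal: whenever x^3 = y^2 there is
exactly one a with x = a^2 and y = a^3. Test rings range over the universe of A. -/
theorem result
    (A : Type u) [CommRing A] [IsReduced A] [IsNoetherianRing A]
    (hfin : Module.Finite A (integralClosure A (FractionRing A)))
    (h : ∀ f : PtFun (Spec (CommRingCat.of A)), f.VariesAlongDVR →
      ∃! a : Γ(Spec (CommRingCat.of A), ⊤), PtFun.ofSection (Spec (CommRingCat.of A)) a = f) :
    HTop.IsSeminormalRing A := by
  open Groth.HTopHyper.PtFunDVR in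
  intro x y hxy
  classical
  let f : PtFun (Spec (CommRingCat.of A)) := fun p => ev A p y / ev A p x
  have hf : f.VariesAlongDVR := by
    intro R _ _ _ g
    obtain ⟨θ, rfl⟩ : ∃ θ : A →+* R, Spec.map (CommRingCat.ofHom θ) = g :=
      ⟨(Spec.preimage g).hom, Spec.map_preimage g⟩
    obtain ⟨r, hr2, hr3⟩ : ∃ r : R, θ x = r ^ 2 ∧ θ y = r ^ 3 := by
      by_cases hx : θ x = 0
      · refine ⟨0, by simp [hx], ?_⟩
        have : θ y ^ 2 = 0 := by rw [← map_pow, ← hxy, map_pow, hx, zero_pow three_ne_zero]
        simpa using eq_zero_of_pow_eq_zero this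
      · let K := FractionRing R
        have hx' : algebraMap R K (θ x) ≠ 0 :=
          fun h => hx (IsFractionRing.injective R K (h.trans (map_zero _).symm))
        let q := algebraMap R K (θ y) / algebraMap R K (θ x)
        have hsq : algebraMap R K (θ y) ^ 2 = algebraMap R K (θ x) ^ 3 := by
          simp only [← map_pow, hxy]
        have hq2 : q ^ 2 = algebraMap R K (θ x) := by
          rw [div_pow, hsq, div_eq_iff (pow_ne_zero _ hx')]; ring
        obtain ⟨r, hr⟩ := IsIntegrallyClosed.exists_algebraMap_eq_of_isIntegral_pow
          (R := R) (K := K) (x := q) (n := 2) two_pos (hq2 ▸ isIntegral_algebraMap)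
        refine ⟨r, IsFractionRing.injective R K ?_, IsFractionRing.injective R K ?_⟩
        · rw [map_pow, hr, hq2]
        · rw [map_pow, hr, pow_succ, hq2, mul_comm]
          exact (div_mul_cancel₀ _ hx').symm
    refine ⟨(Scheme.ΓSpecIso (CommRingCat.of R)).inv r, funext fun p => ?_⟩
    have h1 := map_ev θ p x
    have h2 := map_ev θ p y
    refine (ofSection_apply r p).trans ?_
    show _ = (Spec.map (CommRingCat.ofHom θ)).residueFieldMap p (_ / _)
    rw [map_div₀, h1, h2, hr2, hr3]
    simp only [ev, map_pow]
    rcases eq_or_ne ((Spec (CommRingCat.of R)).Γevaluation p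
      ((Scheme.ΓSpecIso (CommRingCat.of R)).inv r)) 0 with h0 | h0
    · rw [h0]; simp
    · rw [eq_div_iff (pow_ne_zero _ h0)]; ring
  obtain ⟨s, hs, -⟩ := h f hf
  let a := (Scheme.ΓSpecIso (CommRingCat.of A)).hom s
  have ha : ∀ p, ev A p a = ev A p y / ev A p x := fun p => by
    rw [ev, CategoryTheory.Iso.hom_inv_id_apply]
    exact congrFun hs p
  have key : ∀ p, ev A p y ^ 2 = ev A p x ^ 3 := fun p => by
    simp only [ev, ← map_pow, hxy]
  have hax : x = a ^ 2 := eq_of_forall_ev fun p => by
    have he : ev A p (a ^ 2) = ev A p a ^ 2 := by simp only [ev, map_pow]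
    rw [he, ha, div_pow, key]
    rcases eq_or_ne (ev A p x) 0 with h0 | h0
    · rw [h0]; simp
    · rw [eq_div_iff (pow_ne_zero _ h0)]; ring
  have hay : y = a ^ 3 := eq_of_forall_ev fun p => by
    have he : ev A p (a ^ 3) = ev A p a ^ 3 := by simp only [ev, map_pow]
    rw [he, ha, div_pow, pow_succ (ev A p y) 2, key]
    rcases eq_or_ne (ev A p x) 0 with h0 | h0
    · have := key p
      rw [h0, zero_pow three_ne_zero] at this
      rw [eq_zero_of_pow_eq_zero this]; simp
    · rw [eq_div_iff (pow_ne_zero _ h0)]; ring
  exact ⟨a, ⟨hax, hay⟩, fun b hb => Groth.HTopHyper.eq_of_sq_cube (hb.1.symm.trans hax)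
    (hb.2.symm.trans hay)⟩

end Groth.Agent.S13111
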