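import Groth.Statements.S13112
import Groth.Agent.HTopHyper.SchemeBasic

set_option autoImplicit false
universe u
open HTop

namespace Groth.Agent.S13112

open CategoryTheory AlgebraicGeometry in
/-- Let k be a field, T a seminormal scheme of finite type over k, and f : X → Y a proper universally
injective k-morphism of schemes locally of finite type over k. If a morphism of schemes g : T → Y
lifts through f at every point of T, i.e. for every t the composite Spec κ(t) → T → Y factors
through f, then g itself factors through f. -/
theorem result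
    {k : Type u} [Field k] {T X Y : Scheme.{u}}
    (sT : T ⟶ Spec (CommRingCat.of k)) (sX : X ⟶ Spec (CommRingCat.of k)) (sY : Y ⟶ Spec (CommRingCat.of k))
    [LocallyOfFiniteType sT] [QuasiCompact sT] [LocallyOfFiniteType sX] [LocallyOfFiniteType sY]
    (hT : HTop.IsSeminormal T)
    (f : X ⟶ Y) (hf : f ≫ sY = sX) [IsProper f] [UniversallyInjective f]
    (g : T ⟶ Y)
    (hlift : ∀ t : T, ∃ l : Spec (T.residueField t) ⟶ X, l ≫ f = T.fromSpecResidueField t ≫ g) :
    ∃ h : T ⟶ X, h ≫ f = g := by
  let π := Limits.pullback.fst g f
  have hsurj : Surjective π := ⟨fun t => by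
    obtain ⟨l, hl⟩ := hlift t
    let σ := Limits.pullback.lift (f := g) (g := f) (T.fromSpecResidueField t) l hl.symm
    let c : Spec (T.residueField t) := IsLocalRing.closedPoint (T.residueField t)
    refine ⟨σ c, ?_⟩
    rw [← Scheme.Hom.comp_apply, Limits.pullback.lift_fst]
    exact Scheme.fromSpecResidueField_apply _ _⟩
  have : UniversallyInjective π :=
    MorphismProperty.of_isPullback (P := @UniversallyInjective) (IsPullback.of_hasPullback g f).flip ‹UniversallyInjective f›
  have huh : FlatMor.IsUnivHomeo π := Groth.HTopHyper.isUnivHomeo_of_closed π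
  have hres : HTop.ResidueFieldsIso π := fun q => by
    obtain ⟨l, hl⟩ := hlift (π q)
    let σ := Limits.pullback.lift (f := g) (g := f) (T.fromSpecResidueField (π q)) l hl.symm
    have hσ : σ ≫ π = T.fromSpecResidueField (π q) := Limits.pullback.lift_fst _ _ _
    obtain ⟨⟨q', r⟩, hqr⟩ : ∃ d, (Scheme.SpecToEquivOfField (T.residueField (π q)) _).symm d = σ :=
      ⟨_, Equiv.symm_apply_apply _ σ⟩
    rw [Scheme.SpecToEquivOfField_symm_apply] at hqr
    have hq : q' = q := by
      refine π.injective ?_
      let c : Spec (T.residueField (π q)) := IsLocalRing.closedPoint (T.residueField (π q))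
      have h1 : σ c = q' := by
        rw [← hqr, Scheme.Hom.comp_apply]
        exact Scheme.fromSpecResidueField_apply _ _
      rw [← h1, ← Scheme.Hom.comp_apply, hσ]
      exact Scheme.fromSpecResidueField_apply _ _
    subst hq
    have key : π.residueFieldMap q' ≫ r = 𝟙 _ := by
      apply Spec.map_injective
      rw [← cancel_mono (T.fromSpecResidueField (π q')), Spec.map_comp, Category.assoc,
        π.SpecMap_residueFieldMap_fromSpecResidueField q', ← Category.assoc, hqr, hσ]
      rw [Spec.map_id]; exact (Category.id_comp _).symm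
    rw [ConcreteCategory.isIso_iff_bijective]
    exact ⟨(π.residueFieldMap q').hom.injective, fun z => ⟨r.hom z, r.hom.injective
      (ConcreteCategory.congr_hom key (r.hom z))⟩⟩
  have := Groth.HTopHyper.isReduced_of_isSeminormal hT
  obtain ⟨s, hs, -⟩ := Groth.HTopHyper.existsUnique_lift (𝟙 T) huh (Or.inr ⟨hT, hres⟩)
  refine ⟨s ≫ Limits.pullback.snd g f, ?_⟩
  rw [Category.assoc, ← Limits.pullback.condition, ← Category.assoc, hs, Category.id_comp]

end Groth.Agent.S13112
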