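import Groth.Statements.S13113
import Groth.Agent.HTopHyper.SchemeBasic
import Mathlib.AlgebraicGeometry.AffineSpace
import Mathlib.AlgebraicGeometry.Morphisms.SchemeTheoreticallyDominant

set_option autoImplicit false
universe u
open HTop
open scoped TensorProduct

namespace Groth.Agent.S13113

open CategoryTheory CategoryTheory.Limits AlgebraicGeometry in
/-- Let k be a field, X a seminormal scheme of finite type over k and π : Y → X a proper surjective
morphism with Y reduced. Then a global section s of the structure sheaf of Y whose pullbacks along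
the two projections Y ×_X Y → Y coincide is the pullback along π of exactly one global section of
the structure sheaf of X. (The published statement also treats non-reduced Y, where the structure
sheaf of X is only a canonical direct summand of the equaliser; this row is the reduced case, where
the two agree.) -/
theorem result
    {k : Type u} [Field k] {X Y : Scheme.{u}} (sX : X ⟶ Spec (CommRingCat.of k))
    [LocallyOfFiniteType sX] [QuasiCompact sX] (hX : HTop.IsSeminormal X)
    (π : Y ⟶ X) [IsProper π] [Surjective π] [IsReduced Y]
    (s : Γ(Y, ⊤)) (hs : (pullback.fst π π).appTop s = (pullback.snd π π).appTop s) :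
    ∃! t : Γ(X, ⊤), π.appTop t = s := by
  have := Groth.HTopHyper.isReduced_of_isSeminormal hX
  let p : AffineSpace PUnit.{u+1} X ⟶ X := AffineSpace PUnit.{u+1} X ↘ X
  let m : Y ⟶ AffineSpace PUnit.{u+1} X := AffineSpace.homOfVector π fun _ => s
  have hmp : m ≫ p = π := AffineSpace.homOfVector_over _ _
  have hproj : pullback.fst π π ≫ m = pullback.snd π π ≫ m := by
    refine AffineSpace.hom_ext ?_ fun i => ?_
    · rw [Category.assoc, Category.assoc]; change _ ≫ m ≫ p = _ ≫ m ≫ p; rw [hmp, pullback.condition]
    · simp only [Scheme.Hom.comp_appTop, CommRingCat.comp_apply, m, AffineSpace.homOfVector_appTop_coord]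
      exact hs
  have : UniversallyClosed (m ≫ p) := by rw [hmp]; infer_instance
  have : UniversallyClosed m := UniversallyClosed.of_comp_of_isSeparated m p
  have hts : Surjective m.toImage := by
    constructor
    rw [← Set.range_eq_univ, ← m.toImage.isClosedMap.isClosed_range.closure_eq]
    exact m.toImage.denseRange.closure_eq
  -- factor through the reduced image
  let r := m.image.nilradical.subschemeι
  have : Surjective (pullback.fst m.toImage r) := inferInstance
  have : IsIso (pullback.fst m.toImage r) := isIso_of_isClosedImmersion_of_surjective _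
  let t : Y ⟶ m.image.nilradical.subscheme := inv (pullback.fst m.toImage r) ≫ pullback.snd m.toImage r
  let j := r ≫ m.imageι
  have htr : t ≫ r = m.toImage := by rw [Category.assoc, ← pullback.condition, IsIso.inv_hom_id_assoc]
  have htj : t ≫ j = m := by rw [← Category.assoc, htr, Scheme.Hom.toImage_imageι]
  clear_value t
  let ρ := j ≫ p
  have htρ : t ≫ ρ = π := by rw [← Category.assoc, htj, hmp]
  have : Surjective t := ⟨fun z => by
    obtain ⟨y, hy⟩ := m.toImage.surjective (r z)
    exact ⟨y, r.injective (by rw [← Scheme.Hom.comp_apply, htr, hy])⟩⟩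
  have hprojt : pullback.fst π π ≫ t = pullback.snd π π ≫ t := by
    rw [← cancel_mono j, Category.assoc, Category.assoc, htj, hproj]
  have : UniversallyClosed (t ≫ ρ) := by rw [htρ]; infer_instance
  have : UniversallyClosed ρ := UniversallyClosed.of_comp_surjective t ρ
  have : Surjective (t ≫ ρ) := by rw [htρ]; infer_instance
  have : Surjective ρ := Surjective.of_comp t ρ
  have : UniversallyInjective ρ := by
    rw [UniversallyInjective.iff_diagonal]
    refine ⟨fun w => ?_⟩
    let e := pullback.map π π ρ ρ t t (𝟙 X) (by rw [Category.comp_id, htρ]) (by rw [Category.comp_id, htρ])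
    have hse : Surjective e := by
      have : MorphismProperty.IsStableUnderComposition @Surjective.{u} :=
        { comp_mem := fun a b (h₁ : Surjective a) (h₂ : Surjective b) =>
            (inferInstance : Surjective (a ≫ b)) }
      have : MorphismProperty.IsStableUnderBaseChange @Surjective.{u} := inferInstance
      exact MorphismProperty.pullbackMap (P := @Surjective.{u}) ‹Surjective t› ‹Surjective t› htρ.symm htρ.symm
    obtain ⟨v, rfl⟩ := hse.surj w
    refine ⟨(pullback.fst π π ≫ t) v, ?_⟩
    rw [← Scheme.Hom.comp_apply]
    refine congrArg (fun φ : pullback π π ⟶ pullback ρ ρ => φ v) ?_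
    apply pullback.hom_ext
    · simp [e, pullback.map]
      exact (pullback.lift_fst _ _ _).symm
    · simp [e, pullback.map, hprojt]
      exact (pullback.lift_snd _ _ _).symm
  have huh : FlatMor.IsUnivHomeo ρ := Groth.HTopHyper.isUnivHomeo_of_closed ρ
  have hres : HTop.ResidueFieldsIso ρ := by
    intro z
    obtain ⟨y, rfl⟩ := t.surjective z
    rw [ConcreteCategory.isIso_iff_bijective]
    refine ⟨(ρ.residueFieldMap (t y)).hom.injective, fun c => ?_⟩
    let F := X.residueField (ρ (t y))
    let L := Y.residueField y
    let i : F ⟶ L := ρ.residueFieldMap (t y) ≫ t.residueFieldMap y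
    let := i.hom.toAlgebra
    let a : L ⟶ CommRingCat.of (TensorProduct F L L) :=
      CommRingCat.ofHom (Algebra.TensorProduct.includeLeftRingHom (R := F) (A := L) (B := L))
    let b : L ⟶ CommRingCat.of (TensorProduct F L L) :=
      CommRingCat.ofHom (Algebra.TensorProduct.includeRight (R := F) (A := L) (B := L)).toRingHom
    have hab : i ≫ a = i ≫ b := CommRingCat.hom_ext (RingHom.ext fun x =>
      ((Algebra.TensorProduct.includeLeft (R := F) (S := F) (A := L) (B := L)).commutes x).trans
        ((Algebra.TensorProduct.includeRight (R := F) (A := L) (B := L)).commutes x).symm)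
    have hy : Y.fromSpecResidueField y ≫ π = Spec.map i ≫ X.fromSpecResidueField (ρ (t y)) := by
      simp only [i, Spec.map_comp, Category.assoc]
      rw [ρ.SpecMap_residueFieldMap_fromSpecResidueField (t y),
        t.SpecMap_residueFieldMap_fromSpecResidueField_assoc y, htρ]
    let φ := pullback.lift (f := π) (g := π) (Spec.map a ≫ Y.fromSpecResidueField y)
      (Spec.map b ≫ Y.fromSpecResidueField y)
      (by simp only [Category.assoc, hy, ← Spec.map_comp_assoc, hab])
    have e1 : Spec.map a ≫ Y.fromSpecResidueField y ≫ t = Spec.map b ≫ Y.fromSpecResidueField y ≫ t := by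
      have h1 := φ ≫= hprojt
      simp only [φ, pullback.lift_fst_assoc, pullback.lift_snd_assoc, Category.assoc] at h1
      exact h1
    rw [← t.SpecMap_residueFieldMap_fromSpecResidueField y, ← Category.assoc, ← Category.assoc,
      cancel_mono, ← Spec.map_comp, ← Spec.map_comp] at e1
    have e2 := ConcreteCategory.congr_hom (Spec.map_injective e1) c
    let c' : L := t.residueFieldMap y c
    have e3 : c' ⊗ₜ[F] (1 : L) = (1 : L) ⊗ₜ[F] c' := e2
    obtain ⟨ℓ, hℓ⟩ := Module.Projective.exists_dual_ne_zero F (one_ne_zero (α := L))
    have e4 := congrArg (fun x => TensorProduct.lid F L (TensorProduct.map ℓ LinearMap.id x)) e3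
    simp only [TensorProduct.map_tmul, LinearMap.id_coe, id_eq, TensorProduct.lid_tmul] at e4
    refine ⟨(ℓ 1)⁻¹ * ℓ c', (t.residueFieldMap y).hom.injective ?_⟩
    change i.hom _ = c'
    have : c' = ((ℓ 1)⁻¹ * ℓ c') • (1 : L) := by
      rw [mul_smul, e4, smul_smul, inv_mul_cancel₀ hℓ, one_smul]
    conv_rhs => rw [this, Algebra.smul_def, mul_one]
    rfl
  have : IsIso ρ := Groth.HTopHyper.isIso_of_isUnivHomeo huh (Or.inr ⟨hX, hres⟩)
  refine ⟨(inv ρ ≫ j).appTop (AffineSpace.coord X PUnit.unit), ?_, fun t' ht' => ?_⟩
  · change π.appTop ((inv ρ ≫ j).appTop _) = s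
    rw [← CommRingCat.comp_apply, ← Scheme.Hom.comp_appTop]
    have : π ≫ inv ρ ≫ j = m := by rw [← htρ, Category.assoc, IsIso.hom_inv_id_assoc, htj]
    rw [this]
    exact AffineSpace.homOfVector_appTop_coord π (fun _ => s) PUnit.unit
  · have : IsSchemeTheoreticallyDominant π := .of_isDominant π
    refine π.app_injective ⊤ (ht'.trans ?_)
    change s = π.appTop ((inv ρ ≫ j).appTop _)
    rw [← CommRingCat.comp_apply, ← Scheme.Hom.comp_appTop]
    have : π ≫ inv ρ ≫ j = m := by rw [← htρ, Category.assoc, IsIso.hom_inv_id_assoc, htj]
    rw [this]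
    exact (AffineSpace.homOfVector_appTop_coord π (fun _ => s) PUnit.unit).symm

end Groth.Agent.S13113
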