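import Groth.Statements.S13114
import Mathlib.RingTheory.Norm.Basic
import Mathlib.LinearAlgebra.Eigenspace.Zero
import Mathlib.RingTheory.Artinian.Ring
import Mathlib.FieldTheory.IsAlgClosed.Basic
import Mathlib.RingTheory.Finiteness.Cardinality
-- import your own Groth.Agent.* helpers here

set_option autoImplicit false
universe u
open HilbChow

namespace Groth.Agent.S13114

/-- Let k be an algebraically closed field, A a commutative local k-algebra of finite dimension n over k
and u a unit of A. Then the determinant of multiplication by u on the k-vector space A, mapped to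
the residue field of A, equals the n-th power of the residue class of u. -/
theorem result
    (k A : Type u) [Field k] [IsAlgClosed k] [CommRing A] [Algebra k A] [IsLocalRing A]
    [Module.Finite k A] (u : Aˣ) :
    algebraMap k (IsLocalRing.ResidueField A) (Algebra.norm k (u : A)) =
      IsLocalRing.residue A (u : A) ^ Module.finrank k A := by
  haveI : IsArtinianRing A := IsArtinianRing.of_finite k A
  haveI : Module.Finite k (IsLocalRing.ResidueField A) :=
    Module.Finite.of_surjective (IsScalarTower.toAlgHom k A (IsLocalRing.ResidueField A)).toLinearMap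
      (IsLocalRing.residue_surjective)
  obtain ⟨c, hc⟩ := (IsAlgClosed.algebraMap_bijective_of_isIntegral (k := k)
    (K := IsLocalRing.ResidueField A)).2 (IsLocalRing.residue A (u : A))
  set nn : A := (u : A) - algebraMap k A c with hnn
  have hmem : nn ∈ IsLocalRing.maximalIdeal A := by
    rw [← IsLocalRing.residue_eq_zero_iff, hnn, map_sub, sub_eq_zero, ← hc]
    rfl
  have hnil : IsNilpotent nn := by
    obtain ⟨m, hm⟩ := IsArtinianRing.isNilpotent_jacobson_bot (R := A)
    refine ⟨m, ?_⟩
    have h2 := Ideal.pow_mem_pow hmem m
    rw [IsLocalRing.jacobson_eq_maximalIdeal ⊥ bot_ne_top] at hm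
    rw [hm] at h2
    exact h2
  have hu : (u : A) = algebraMap k A c + nn := by rw [hnn]; ring
  rw [← hc, Algebra.norm_apply, hu, map_add, AlgHom.commutes, ← map_pow]
  congr 1
  set φ := Algebra.lmul k A nn
  have hφ : IsNilpotent φ := hnil.map (Algebra.lmul k A)
  have h3 := LinearMap.eval_charpoly (-φ) c
  rw [hφ.neg.charpoly_eq_X_pow_finrank] at h3
  simpa using h3.symm

end Groth.Agent.S13114
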