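import Groth.Statements.S13115
import Mathlib


set_option autoImplicit false
universe u
open scoped TensorProduct
open HilbChow

namespace Groth.Agent.S13115

/-- Let k be an infinite field, V a k-vector space and m a natural number. Then every symmetric tensor
in the m-fold tensor power of V — one fixed by every permutation of the factors — is a k-linear
combination of pure powers v ⊗ ⋯ ⊗ v with v in V. (The published statement concerns the ring of
functions of an affine scheme over an infinite field, where it gives the uniqueness of the algebra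
map defining the Hilbert-to-Chow morphism for zero-cycles; this row states it for any vector space.) -/
theorem result
    (k V : Type u) [Field k] [Infinite k] [AddCommGroup V] [Module k V] (m : ℕ)
    (x : ⨂[k] _ : Fin m, V)
    (hx : ∀ σ : Equiv.Perm (Fin m), PiTensorProduct.reindex k (fun _ : Fin m => V) σ x = x) :
    x ∈ Submodule.span k (Set.range fun v : V => PiTensorProduct.tprod k (fun _ : Fin m => v)) := by
  classical
  by_contra hnot
  obtain ⟨φ, hφx, hφ⟩ := Submodule.exists_le_ker_of_notMem hnot
  let ι := Module.Free.ChooseBasisIndex k V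
  let b : Module.Basis ι k V := Module.Free.chooseBasis k V
  let B := _root_.Basis.piTensorProduct (fun _ : Fin m => b)
  let c := B.repr x
  -- symmetry of the coordinates
  have hc : ∀ (σ : Equiv.Perm (Fin m)) (f : Fin m → ι), c (f ∘ σ) = c f := by
    intro σ f
    have key : ((Finsupp.lapply f).comp B.repr.toLinearMap).comp
        (PiTensorProduct.reindex k (fun _ : Fin m => V) σ).toLinearMap =
        (Finsupp.lapply (f ∘ σ)).comp B.repr.toLinearMap := by
      apply PiTensorProduct.ext
      apply MultilinearMap.ext
      intro v
      simp only [LinearMap.compMultilinearMap_apply, LinearMap.comp_apply, LinearEquiv.coe_coe,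
        Finsupp.lapply_apply, PiTensorProduct.reindex_tprod, B,
        _root_.Basis.piTensorProduct_repr_tprod_apply]
      refine (Fintype.prod_equiv σ _ _ fun i => ?_).symm
      erw [Equiv.symm_apply_apply]; rfl
    have := LinearMap.congr_fun key x
    simp only [LinearMap.comp_apply, LinearEquiv.coe_coe, Finsupp.lapply_apply, hx σ] at this
    exact this.symm
  let s : Finset ι := c.support.biUnion fun f => Finset.univ.image f
  let F : Finset (Fin m → ι) := Fintype.piFinset fun _ => s
  let cnt : (Fin m → ι) → (ι →₀ ℕ) := fun f => ∑ i, Finsupp.single (f i) 1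
  let P : MvPolynomial ι k := ∑ f ∈ F, MvPolynomial.monomial (cnt f) (φ (B f))
  have hP : P = 0 := by
    apply MvPolynomial.funext
    intro t
    have h0 : φ (PiTensorProduct.tprod k fun _ : Fin m => ∑ j ∈ s, t j • b j) = 0 :=
      hφ (Submodule.subset_span ⟨_, rfl⟩)
    rw [MultilinearMap.map_sum_finset, _root_.map_sum] at h0
    rw [map_zero, ← h0, _root_.map_sum]
    refine Finset.sum_congr rfl fun f _ => ?_
    rw [MultilinearMap.map_smul_univ, map_smul, MvPolynomial.eval_monomial]
    simp only [B, _root_.Basis.piTensorProduct_apply, smul_eq_mul, cnt]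
    rw [← Finsupp.prod_finsetSum_index]
    · rw [mul_comm]
      congr 1
      refine Finset.prod_congr rfl fun i _ => ?_
      rw [Finsupp.prod_single_index] <;> simp
    · simp
    · intro a n₁ n₂; exact pow_add _ _ _
  apply hφx
  have hsupp : c.support ⊆ F := by
    intro f hf
    simp only [F, Fintype.mem_piFinset, s, Finset.mem_biUnion, Finset.mem_image]
    exact fun i => ⟨f, hf, i, Finset.mem_univ _, rfl⟩
  have hsum : φ x = ∑ f ∈ F, c f * φ (B f) := by
    conv_lhs => rw [← B.linearCombination_repr x, Finsupp.linearCombination_apply,
      Finsupp.sum_of_support_subset _ hsupp _ (fun i _ => by simp)]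
    simp [c]
  rw [hsum, ← Finset.sum_fiberwise_of_maps_to (g := cnt) (t := F.image cnt)
    (fun f hf => Finset.mem_image_of_mem _ hf)]
  refine Finset.sum_eq_zero fun d hd => ?_
  obtain ⟨f₀, hf₀, rfl⟩ := Finset.mem_image.1 hd
  have heq : ∀ f ∈ F.filter (fun f => cnt f = cnt f₀), c f * φ (B f) = c f₀ * φ (B f) := by
    intro f hf
    obtain ⟨-, hf⟩ := Finset.mem_filter.1 hf
    have hcard : ∀ j : ι, Fintype.card {i // f i = j} = Fintype.card {i // f₀ i = j} := by
      intro j
      have := DFunLike.congr_fun hf j
      simpa [cnt, Finsupp.finsetSum_apply, Finsupp.single_apply, Fintype.card_subtype,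
        Finset.sum_boole] using this
    let σ : Equiv.Perm (Fin m) := Equiv.ofFiberEquiv fun j => Fintype.equivOfCardEq (hcard j)
    have hσ : f₀ ∘ σ = f := funext fun i => Equiv.ofFiberEquiv_map _ i
    rw [← hσ, hc σ f₀]
  rw [Finset.sum_congr rfl heq, ← Finset.mul_sum]
  have := congr_arg (MvPolynomial.coeff (cnt f₀)) hP
  simp only [P, MvPolynomial.coeff_sum, MvPolynomial.coeff_monomial, MvPolynomial.coeff_zero,
    ← Finset.sum_filter] at this
  rw [this, mul_zero]

end Groth.Agent.S13115
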