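import Groth.Statements.S13117
import Mathlib

set_option autoImplicit false
set_option maxRecDepth 4000
set_option linter.style.haveILetI false
universe u
open HilbChow

namespace Groth.Agent.S13117

open Module in
/-- Determinant of a componentwise endomorphism of a finite product. -/
lemma det_piMap {R ι : Type*} [CommRing R] [Fintype ι] {M : ι → Type*} [∀ i, AddCommGroup (M i)]
    [∀ i, Module R (M i)] [∀ i, Module.Free R (M i)] [∀ i, Module.Finite R (M i)]
    (g : ∀ i, M i →ₗ[R] M i) :
    LinearMap.det (LinearMap.pi fun i => (g i).comp (LinearMap.proj i)) =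
      ∏ i, LinearMap.det (g i) := by
  classical
  letI : LinearOrder ι := LinearOrder.lift' (Fintype.equivFin ι) (Fintype.equivFin ι).injective
  let b := fun i => Module.Free.chooseBasis R (M i)
  let B := Pi.basis b
  have hB : LinearMap.toMatrix B B (LinearMap.pi fun i => (g i).comp (LinearMap.proj i)) =
      Matrix.blockDiagonal' (fun i => LinearMap.toMatrix (b i) (b i) (g i)) := by
    ext ⟨i, x⟩ ⟨j, y⟩
    rw [LinearMap.toMatrix_apply, Pi.basis_repr, Pi.basis_apply, LinearMap.pi_apply,
      Matrix.blockDiagonal'_apply]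
    simp only [LinearMap.coe_comp, Function.comp_apply, LinearMap.coe_proj, Function.eval]
    rcases eq_or_ne i j with rfl | h
    · simp [LinearMap.toMatrix_apply, b]
    · simp [Pi.single_eq_of_ne h, h]
  rw [← LinearMap.det_toMatrix B, hB,
    (Matrix.blockTriangular_blockDiagonal' _).det_fintype]
  refine Finset.prod_congr rfl fun i _ => ?_
  rw [← LinearMap.det_toMatrix (b i)]
  let e : Module.Free.ChooseBasisIndex R (M i) ≃
      {a : (Σ j, Module.Free.ChooseBasisIndex R (M j)) // a.1 = i} :=
    { toFun := fun x => ⟨⟨i, x⟩, rfl⟩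
      invFun := fun a => a.2 ▸ a.1.2
      left_inv := fun x => rfl
      right_inv := by rintro ⟨⟨j, x⟩, rfl⟩; rfl }
  rw [← Matrix.det_submatrix_equiv_self e]
  congr 1
  ext x y
  simp [Matrix.toSquareBlock_def, e, Matrix.blockDiagonal'_apply]

/-- Norm in a local finite algebra with residue field the base. -/
lemma norm_eq_pow {k B : Type*} [Field k] [CommRing B] [Algebra k B] [Module.Finite k B]
    [IsLocalRing B] (ψ : B →ₐ[k] k) (b : B) :
    Algebra.norm k b = ψ b ^ Module.finrank k B := by
  haveI : IsArtinianRing B := IsArtinianRing.of_finite k B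
  have hmax : (RingHom.ker ψ.toRingHom).IsMaximal :=
    RingHom.ker_isMaximal_of_surjective _ fun c => ⟨algebraMap k B c, by simp⟩
  have hmem : algebraMap k B (ψ b) - b ∈ IsLocalRing.maximalIdeal B := by
    rw [← IsLocalRing.eq_maximalIdeal hmax, RingHom.mem_ker]; simp
  have hN : IsNilpotent (algebraMap k B (ψ b) - b) := by
    obtain ⟨N, hN⟩ := IsArtinianRing.isNilpotent_jacobson_bot (R := B)
    refine ⟨N, ?_⟩
    rw [IsLocalRing.jacobson_eq_maximalIdeal (⊥ : Ideal B) bot_ne_top] at hN
    have h := Ideal.pow_mem_pow hmem N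
    rw [hN] at h
    simpa using h
  have hN' : IsNilpotent (Algebra.lmul k B (algebraMap k B (ψ b) - b)) := hN.map _
  have h := LinearMap.eval_charpoly (Algebra.lmul k B (algebraMap k B (ψ b) - b)) (ψ b)
  rw [IsNilpotent.charpoly_eq_X_pow_finrank hN', Polynomial.eval_pow, Polynomial.eval_X] at h
  rw [h, Algebra.norm_apply]
  congr 1
  ext x
  simp [Algebra.smul_def, sub_mul]


/-- Let k be an algebraically closed field, A a finite-dimensional commutative k-algebra (the coordinate
ring of a zero-dimensional subscheme Z of length dim_k A) and f ∈ A. Then the determinant of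
multiplication by f on A is the product over the points x of Z — the k-algebra homomorphisms A → k —
of the value f(x) raised to the length of the local ring of Z at x, that length being the
k-dimension of the localisation of A at the corresponding maximal ideal. This is the formula by
which the Hilbert-to-Chow morphism for zero-cycles sends Z to its fundamental cycle Σ ℓ(O_{Z,x})[x]. -/
theorem result
    (k A : Type u) [Field k] [IsAlgClosed k] [CommRing A] [Algebra k A] [Module.Finite k A] (f : A) :
    Algebra.norm k f =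
      ∏ᶠ φ : A →ₐ[k] k, φ f ^ Module.finrank k (Localization.AtPrime (Ideal.comap φ ⊥)) := by
  classical
  haveI : IsArtinianRing A := IsArtinianRing.of_finite k A
  let σ : (A →ₐ[k] k) → PrimeSpectrum A := fun φ =>
    ⟨Ideal.comap φ ⊥, Ideal.IsPrime.comap φ⟩
  have hmem : ∀ (φ : A →ₐ[k] k) (a : A), a ∈ (σ φ).asIdeal ↔ φ a = 0 :=
    fun φ a => Ideal.mem_comap.trans Ideal.mem_bot
  have hσ : Function.Bijective σ := by
    constructor
    · intro φ ψ h
      ext a
      have h' : Ideal.comap φ ⊥ = Ideal.comap ψ ⊥ := congrArg PrimeSpectrum.asIdeal h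
      have h0 : a - algebraMap k A (φ a) ∈ (σ ψ).asIdeal := by
        rw [← h, hmem, map_sub, AlgHom.commutes, Algebra.algebraMap_self_apply, sub_self]
      rw [hmem, map_sub, AlgHom.commutes, Algebra.algebraMap_self_apply, sub_eq_zero] at h0
      exact h0.symm
    · intro x
      haveI : x.asIdeal.IsMaximal := IsArtinianRing.isMaximal_of_isPrime x.asIdeal
      letI := Ideal.Quotient.field x.asIdeal
      let ψ : (A ⧸ x.asIdeal) ≃ₐ[k] k := (AlgEquiv.ofBijective (Algebra.ofId k (A ⧸ x.asIdeal))
        IsAlgClosed.algebraMap_bijective_of_isIntegral).symm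
      refine ⟨ψ.toAlgHom.comp (Ideal.Quotient.mkₐ k x.asIdeal), PrimeSpectrum.ext ?_⟩
      ext a
      rw [hmem, AlgHom.comp_apply, Ideal.Quotient.mkₐ_eq_mk]
      exact (map_eq_zero_iff ψ ψ.injective).trans Ideal.Quotient.eq_zero_iff_mem
  haveI : Fintype (PrimeSpectrum A) := Fintype.ofFinite _
  haveI : Fintype (A →ₐ[k] k) := Fintype.ofEquiv _ (Equiv.ofBijective σ hσ).symm
  let L : (A →ₐ[k] k) → Type _ := fun φ => Localization.AtPrime (σ φ).asIdeal
  let π : A →ₐ[k] ∀ φ, L φ := AlgHom.pi fun φ => IsScalarTower.toAlgHom k A (L φ)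
  have hπ : Function.Bijective π := by
    let h := (Equiv.ofBijective σ hσ).piCongrLeft (fun x => Localization.AtPrime x.asIdeal)
    constructor
    · intro a a' ha
      refine PrimeSpectrum.toPiLocalization_bijective.injective (funext fun x => ?_)
      obtain ⟨φ, rfl⟩ := hσ.2 x
      exact congrFun ha φ
    · intro y
      let y' : PrimeSpectrum.PiLocalization A := h y
      obtain ⟨a, ha⟩ := PrimeSpectrum.toPiLocalization_bijective.surjective y'
      refine ⟨a, funext fun φ => ?_⟩
      have := congrFun ha (σ φ)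
      refine this.trans ?_
      exact Equiv.piCongrLeft_apply_apply (fun x : PrimeSpectrum A =>
        Localization.AtPrime x.asIdeal) (Equiv.ofBijective σ hσ) y φ
  haveI : ∀ φ, Module.Finite k (L φ) := fun φ =>
    Module.Finite.of_surjective ((Pi.evalAlgHom k L φ).comp π).toLinearMap fun y => by
      obtain ⟨a, ha⟩ := hπ.2 (Pi.single φ y)
      exact ⟨a, by simp [ha]⟩
  have h1 : Algebra.norm k f = ∏ φ, Algebra.norm k (algebraMap A (L φ) f) := by
    rw [← Algebra.norm_eq_of_algEquiv (AlgEquiv.ofBijective π hπ) f, Algebra.norm_apply]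
    simp only [Algebra.norm_apply]
    rw [← det_piMap (fun φ => Algebra.lmul k (L φ) (algebraMap A (L φ) f))]
    congr 1
  rw [h1, finprod_eq_prod_of_fintype]
  refine Finset.prod_congr rfl fun φ _ => ?_
  have hu : ∀ s : (σ φ).asIdeal.primeCompl, IsUnit (φ s) := fun s =>
    isUnit_iff_ne_zero.mpr fun h0 => s.2 ((hmem φ s).mpr h0)
  let ψ : L φ →ₐ[k] k := IsLocalization.liftAlgHom (M := (σ φ).asIdeal.primeCompl) (f := φ) hu
  rw [norm_eq_pow ψ]
  congr 1
  exact IsLocalization.lift_eq hu f

end Groth.Agent.S13117
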