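import Groth.Statements.S13120
import Groth.Agent.EtaleDeep.Char2Derivation

set_option autoImplicit false
universe u
open KumFam

namespace Groth.Agent.S13120

open MvPolynomial Groth.EtaleDeep.Char2

/-- `R[u², u³, v², v³]` in terms of `R[u², v²]`. -/
lemma exists_form {R : Type u} [CommRing R] (a : MvPolynomial (Fin 2) R)
    (ha : a ∈ Algebra.adjoin R
      ({X 0 ^ 2, X 0 ^ 3, X 1 ^ 2, X 1 ^ 3} : Set (MvPolynomial (Fin 2) R))) :
    ∃ α β γ δ, a = expand 2 α + expand 2 β * X 0 ^ 3 + expand 2 γ * X 1 ^ 3 +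
      expand 2 δ * (X 0 ^ 3 * X 1 ^ 3) := by
  induction ha using Algebra.adjoin_induction with
  | mem x hx =>
    obtain rfl | rfl | rfl | rfl := hx
    · exact ⟨X 0, 0, 0, 0, by simp⟩
    · exact ⟨0, 1, 0, 0, by simp⟩
    · exact ⟨X 1, 0, 0, 0, by simp⟩
    · exact ⟨0, 0, 1, 0, by simp⟩
  | algebraMap r => exact ⟨C r, 0, 0, 0, by simp⟩
  | add x y _ _ hx hy =>
    obtain ⟨a, b, c, d, rfl⟩ := hx
    obtain ⟨a', b', c', d', rfl⟩ := hy
    exact ⟨a + a', b + b', c + c', d + d', by simp only [map_add]; ring⟩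
  | mul x y _ _ hx hy =>
    obtain ⟨a, b, c, d, rfl⟩ := hx
    obtain ⟨a', b', c', d', rfl⟩ := hy
    exact ⟨a * a' + b * b' * X 0 ^ 3 + c * c' * X 1 ^ 3 + d * d' * (X 0 ^ 3 * X 1 ^ 3),
      a * b' + b * a' + (c * d' + d * c') * X 1 ^ 3,
      a * c' + c * a' + (b * d' + d * b') * X 0 ^ 3,
      a * d' + d * a' + b * c' + c * b', by
        simp only [map_add, map_mul, map_pow, expand_X]; ring⟩

open MvPolynomial in
/-- Let R be a commutative ring of characteristic 2 and l0, l2, l4, s0, s2, s4, τ ∈ R with τ a unit.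
Inside R[u, v] (u = X 0, v = X 1) let A = R[u², u³, v², v³] be the coordinate ring of the product of
two cuspidal curves, and let D be the R-derivation of R[u, v] with D(u) = v²(l0 u⁴ + τ u³ + l2 u² +
l4) and D(v) = u²(s0 v⁴ + τ v³ + s2 v² + s4); D is u²v² times the rational vector field (l0 u² + τ u
+ l2 + l4 u⁻²) ∂_u + (s0 v² + τ v + s2 + s4 v⁻²) ∂_v, which maps A into itself, and u²v² is a
non-zero-divisor, so the kernel of that vector field on A is the set of a ∈ A with D(a) = 0. Then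
for a ∈ A: D(a) = 0 if and only if a ∈ R[u², v², g], where g = (s0 v⁴ + s2 v² + s4) u³ + (l0 u⁴ + l2
u² + l4) v³ + τ u³ v³. (The published statement identifies this kernel with the ring of invariants
of the corresponding action of the group scheme of square roots of unity; this row states the kernel
computation that is actually carried out.) -/
theorem result (R : Type u) [CommRing R] [CharP R 2]
    (l0 l2 l4 s0 s2 s4 τ : R) (hτ : IsUnit τ) (a : MvPolynomial (Fin 2) R)
    (ha : a ∈ Algebra.adjoin R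
      ({X 0 ^ 2, X 0 ^ 3, X 1 ^ 2, X 1 ^ 3} : Set (MvPolynomial (Fin 2) R))) :
    MvPolynomial.mkDerivation R
        (![X 1 ^ 2 * (C l0 * X 0 ^ 4 + C τ * X 0 ^ 3 + C l2 * X 0 ^ 2 + C l4),
          X 0 ^ 2 * (C s0 * X 1 ^ 4 + C τ * X 1 ^ 3 + C s2 * X 1 ^ 2 + C s4)] :
          Fin 2 → MvPolynomial (Fin 2) R) a = 0 ↔
      a ∈ Algebra.adjoin R
        ({X 0 ^ 2, X 1 ^ 2,
          (C s0 * X 1 ^ 4 + C s2 * X 1 ^ 2 + C s4) * X 0 ^ 3 +
            (C l0 * X 0 ^ 4 + C l2 * X 0 ^ 2 + C l4) * X 1 ^ 3 +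
            C τ * X 0 ^ 3 * X 1 ^ 3} : Set (MvPolynomial (Fin 2) R)) := by
  set p0 : MvPolynomial (Fin 2) R := C l0 * X 0 ^ 2 + C l2 * X 0 + C l4 with hp0
  set q0 : MvPolynomial (Fin 2) R := C s0 * X 1 ^ 2 + C s2 * X 1 + C s4 with hq0
  set T : MvPolynomial (Fin 2) R := C τ * (X 0 * X 1) with hT
  set g : MvPolynomial (Fin 2) R := (C s0 * X 1 ^ 4 + C s2 * X 1 ^ 2 + C s4) * X 0 ^ 3 +
    (C l0 * X 0 ^ 4 + C l2 * X 0 ^ 2 + C l4) * X 1 ^ 3 + C τ * X 0 ^ 3 * X 1 ^ 3 with hg
  set D := mkDerivation R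
    (![X 1 ^ 2 * (C l0 * X 0 ^ 4 + C τ * X 0 ^ 3 + C l2 * X 0 ^ 2 + C l4),
      X 0 ^ 2 * (C s0 * X 1 ^ 4 + C τ * X 1 ^ 3 + C s2 * X 1 ^ 2 + C s4)] :
      Fin 2 → MvPolynomial (Fin 2) R) with hD
  have h0 : D (X 0) = expand 2 (p0 * X 1) + expand 2 T * X 0 := by
    rw [hD, mkDerivation_X, hp0, hT]
    simp only [map_add, map_mul, map_pow, expand_X, expand_C, Matrix.cons_val_zero]
    ring
  have h1 : D (X 1) = expand 2 (q0 * X 0) + expand 2 T * X 1 := by
    rw [hD, mkDerivation_X, hq0, hT]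
    simp only [map_add, map_mul, map_pow, expand_X, expand_C, Matrix.cons_val_one,
      Matrix.cons_val_zero]
    ring
  have hinv : g = invariant (p0 * X 1) (q0 * X 0) T := by
    rw [hg, invariant, hp0, hq0, hT]
    simp only [map_add, map_mul, map_pow, expand_X, expand_C]
    ring
  constructor
  · intro hD0
    obtain ⟨α, β, γ, δ, rfl⟩ := exists_form a ha
    have e : expand 2 α + expand 2 β * X 0 ^ 3 + expand 2 γ * X 1 ^ 3 +
        expand 2 δ * (X 0 ^ 3 * X 1 ^ 3) = expand 2 α + expand 2 (β * X 0) * X 0 +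
          expand 2 (γ * X 1) * X 1 + expand 2 (δ * (X 0 * X 1)) * (X 0 * X 1) := by
      simp only [map_mul, expand_X]; ring
    rw [e] at hD0 ⊢
    obtain ⟨hb, hc⟩ := derivation_decomp_eq_zero _ _ _ D h0 h1 hD0
    obtain ⟨t, ht⟩ := hτ.exists_left_inv
    have et : (C τ : MvPolynomial (Fin 2) R) * C t = 1 := by rw [← map_mul, mul_comm, ht, map_one]
    have cancel : ∀ (i : Fin 2) (x y : MvPolynomial (Fin 2) R), x * X i = y * X i → x = y :=
      fun i x y hxy => (isRegular_X (R := R)).right.eq_iff.1 hxy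
    have hb' : β * C τ = δ * q0 := by
      refine cancel 0 _ _ (cancel 0 _ _ (cancel 1 _ _ ?_))
      linear_combination hb
    have hc' : γ * C τ = δ * p0 := by
      refine cancel 1 _ _ (cancel 1 _ _ (cancel 0 _ _ ?_))
      linear_combination hc
    have hmem : ∀ x : MvPolynomial (Fin 2) R,
        expand 2 x ∈ Algebra.adjoin R ({X 0 ^ 2, X 1 ^ 2, g} : Set (MvPolynomial (Fin 2) R)) :=
      fun x => expand_mem (fun i => Algebra.subset_adjoin (by fin_cases i <;> simp)) x
    have : expand 2 α + expand 2 (β * X 0) * X 0 + expand 2 (γ * X 1) * X 1 +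
        expand 2 (δ * (X 0 * X 1)) * (X 0 * X 1) = expand 2 α + expand 2 (C t * δ) * g := by
      rw [hinv, invariant, hT]
      simp only [map_mul]
      have eb := congrArg (expand 2) hb'
      have ec := congrArg (expand 2) hc'
      have et' := congrArg (expand 2) et
      simp only [map_mul, map_one] at eb ec et'
      linear_combination (expand 2 (C t) * expand 2 (X 0) * X 0) * eb +
        (expand 2 (C t) * expand 2 (X 1) * X 1) * ec
        - (expand 2 β * expand 2 (X 0) * X 0 + expand 2 γ * expand 2 (X 1) * X 1 +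
            expand 2 δ * (expand 2 (X 0) * expand 2 (X 1)) * (X 0 * X 1)) * et'
    rw [this]
    exact add_mem (hmem α) (mul_mem (hmem _) (Algebra.subset_adjoin (by simp)))
  · intro h
    refine derivation_eq_zero_of_mem_adjoin D ?_ h
    rintro x (rfl | rfl | rfl)
    · exact derivation_X_sq D 0
    · exact derivation_X_sq D 1
    · rw [hinv]; exact derivation_invariant _ _ _ D h0 h1

end Groth.Agent.S13120
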