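import Groth.Statements.S13122
import Groth.Agent.EtaleDeep.Char2Derivation

set_option autoImplicit false
universe u
open KumFam

namespace Groth.Agent.S13122

open MvPolynomial Groth.EtaleDeep.Char2

open MvPolynomial in
/-- Let R be a commutative ring of characteristic 2 and l0, l2, l4, s0, s2, s4, τ ∈ R with τ a unit. On
R[x, y] (x = X 0, y = X 1; the coordinates u⁻¹, v⁻¹ of the smooth chart of the product of two
cuspidal curves) let D be the R-derivation with D(x) = l4 x⁴ + l2 x² + τ x + l0 and D(y) = s4 y⁴ +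
s2 y² + τ y + s0, and put h = (s4 y⁴ + s2 y² + s0) x + (l4 x⁴ + l2 x² + l0) y + τ x y. Then: (1) for
p ∈ R[x, y], D(p) = 0 if and only if p lies in the image of the R-algebra homomorphism R[a, b, c] →
R[x, y] (a = X 0, b = X 1, c = X 2) with a ↦ x², b ↦ y², c ↦ h; (2) the kernel of that homomorphism
is the ideal generated by c² + τ² a b + (s4² b⁴ + s2² b² + s0²) a + (l4² a⁴ + l2² a² + l0²) b. (The
published statement asserts that the ring of invariants of the action of the group scheme of square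
roots of unity given by this vector field is R[a, b, c] modulo this equation, by the same
computation as on the other chart; this row pins the generator h and states the kernel computation.) -/
theorem result (R : Type u) [CommRing R]
    [CharP R 2] (l0 l2 l4 s0 s2 s4 τ : R) (hτ : IsUnit τ) :
    (∀ p : MvPolynomial (Fin 2) R,
      MvPolynomial.mkDerivation R
          (![C l4 * X 0 ^ 4 + C l2 * X 0 ^ 2 + C τ * X 0 + C l0,
            C s4 * X 1 ^ 4 + C s2 * X 1 ^ 2 + C τ * X 1 + C s0] :
            Fin 2 → MvPolynomial (Fin 2) R) p = 0 ↔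
        p ∈ (MvPolynomial.aeval (R := R) (S₁ := MvPolynomial (Fin 2) R)
          ![X 0 ^ 2, X 1 ^ 2,
            (C s4 * X 1 ^ 4 + C s2 * X 1 ^ 2 + C s0) * X 0 +
              (C l4 * X 0 ^ 4 + C l2 * X 0 ^ 2 + C l0) * X 1 + C τ * X 0 * X 1]).range) ∧
    RingHom.ker (MvPolynomial.aeval (R := R) (S₁ := MvPolynomial (Fin 2) R)
        ![X 0 ^ 2, X 1 ^ 2,
          (C s4 * X 1 ^ 4 + C s2 * X 1 ^ 2 + C s0) * X 0 +
            (C l4 * X 0 ^ 4 + C l2 * X 0 ^ 2 + C l0) * X 1 + C τ * X 0 * X 1]) =
      Ideal.span {(X 2 ^ 2 + C (τ ^ 2) * X 0 * X 1 +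
        (C (s4 ^ 2) * X 1 ^ 4 + C (s2 ^ 2) * X 1 ^ 2 + C (s0 ^ 2)) * X 0 +
        (C (l4 ^ 2) * X 0 ^ 4 + C (l2 ^ 2) * X 0 ^ 2 + C (l0 ^ 2)) * X 1 : MvPolynomial (Fin 3) R)} := by
  set p0 : MvPolynomial (Fin 2) R := C l4 * X 0 ^ 2 + C l2 * X 0 + C l0 with hp0
  set q0 : MvPolynomial (Fin 2) R := C s4 * X 1 ^ 2 + C s2 * X 1 + C s0 with hq0
  set h : MvPolynomial (Fin 2) R := (C s4 * X 1 ^ 4 + C s2 * X 1 ^ 2 + C s0) * X 0 +
    (C l4 * X 0 ^ 4 + C l2 * X 0 ^ 2 + C l0) * X 1 + C τ * X 0 * X 1 with hh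
  have hinv : h = invariant p0 q0 (C τ) := by
    rw [hh, hp0, hq0, invariant]
    simp only [map_add, map_mul, map_pow, expand_X, expand_C]
    ring
  set φ := aeval (R := R) (S₁ := MvPolynomial (Fin 2) R) ![X 0 ^ 2, X 1 ^ 2, h] with hφ
  obtain ⟨t, ht⟩ := hτ.exists_left_inv
  refine ⟨?_, ?_⟩
  · set D := mkDerivation R
      (![C l4 * X 0 ^ 4 + C l2 * X 0 ^ 2 + C τ * X 0 + C l0,
        C s4 * X 1 ^ 4 + C s2 * X 1 ^ 2 + C τ * X 1 + C s0] :
        Fin 2 → MvPolynomial (Fin 2) R) with hD
    have h0 : D (X 0) = expand 2 p0 + expand 2 (C τ) * X 0 := by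
      rw [hD, mkDerivation_X, hp0]
      simp only [map_add, map_mul, map_pow, expand_X, expand_C, Matrix.cons_val_zero]
      ring
    have h1 : D (X 1) = expand 2 q0 + expand 2 (C τ) * X 1 := by
      rw [hD, mkDerivation_X, hq0]
      simp only [map_add, map_mul, map_pow, expand_X, expand_C, Matrix.cons_val_one,
        Matrix.cons_val_zero]
      ring
    intro p
    constructor
    · intro hp
      obtain ⟨a, b, c, d, rfl⟩ := exists_decomp p
      obtain ⟨hb, hc⟩ := derivation_decomp_eq_zero p0 q0 (C τ) D h0 h1 hp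
      have e : (C τ : MvPolynomial (Fin 2) R) * C t = 1 := by rw [← map_mul, mul_comm, ht, map_one]
      have hb' : b = C t * d * q0 := by linear_combination C t * hb - b * e
      have hc' : c = C t * d * p0 := by linear_combination C t * hc - c * e
      refine ⟨rename Fin.castSucc a + rename Fin.castSucc (C t * d) * X 2, ?_⟩
      have hφι : ∀ u, φ (rename Fin.castSucc u) = expand 2 u := fun u => by
        rw [hφ, aeval_rename]
        refine DFunLike.congr_fun (?_ : aeval _ = expand 2) u
        refine MvPolynomial.algHom_ext fun i => ?_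
        rw [aeval_X, expand_X]
        fin_cases i <;> rfl
      show φ _ = _
      rw [map_add, map_mul, hφι, hφι, show φ (X 2) = h by simp [hφ], hinv, invariant, hb', hc']
      simp only [map_mul]
      have e' := congrArg (expand 2) e
      simp only [map_mul, map_one] at e'
      linear_combination (expand 2 d * (X 0 * X 1)) * e'
    · intro hp
      rw [hφ, ← Algebra.adjoin_range_eq_range_aeval] at hp
      refine derivation_eq_zero_of_mem_adjoin D ?_ hp
      rintro _ ⟨i, rfl⟩
      fin_cases i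
      · exact derivation_X_sq D 0
      · exact derivation_X_sq D 1
      · show D h = 0
        rw [hinv]; exact derivation_invariant p0 q0 (C τ) D h0 h1
  · refine ker_aeval_eq_span p0 q0 (C τ) (fun v hv => ?_) h hinv
      (C (τ ^ 2) * X 0 * X 1 + (C (s4 ^ 2) * X 1 ^ 4 + C (s2 ^ 2) * X 1 ^ 2 + C (s0 ^ 2)) * X 0 +
        (C (l4 ^ 2) * X 0 ^ 4 + C (l2 ^ 2) * X 0 ^ 2 + C (l0 ^ 2)) * X 1) ?_ _ ?_
    · have := congrArg (· * (C t : MvPolynomial (Fin 2) R)) hv
      simpa [mul_assoc, ← map_mul, mul_comm τ, ht] using this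
    · rw [hh]
      simp only [CharTwo.add_sq, mul_pow, map_add, map_mul, map_pow, expand_X, expand_C]
      ring
    · simp only [map_add, map_mul, map_pow, rename_X, rename_C]
      simp
      ring

end Groth.Agent.S13122
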