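import Groth.Statements.S13124
import Mathlib.RingTheory.IntegralClosure.IntegrallyClosed
import Mathlib.RingTheory.Flat.Basic
-- import your own Groth.Agent.* helpers here

set_option autoImplicit false
universe u v w
open KumFam
open scoped TensorProduct

namespace Groth.Agent.S13124

/-- Let k be a commutative ring, A a commutative k-bialgebra that is flat over k, and R a commutative
k-algebra which is an integrally closed domain, with a coaction R → R ⊗ A that is an algebra
homomorphism. Then the ring of invariants (the elements f with coaction f ⊗ 1) is an integrally
closed domain. (The published statement is for a finite group scheme acting on a normal scheme whose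
quotient is, locally, the spectrum of the ring of invariants; this row is the affine integral case
and allows any commutative bialgebra flat over k, flatness being automatic over a field.) -/
theorem result (k : Type u) [CommRing k]
    (A : Type v) [CommRing A] [Bialgebra k A] [Module.Flat k A]
    (R : Type w) [CommRing R] [Algebra k R] [IsDomain R] [IsIntegrallyClosed R]
    [HopfRep.Comod k A R] [GLin.IsCoactAlg k A R] :
    IsIntegrallyClosed (GLin.invariants k A R) := by
  classical
  let S := GLin.invariants k A R
  rw [isIntegrallyClosed_iff (FractionRing S)]
  intro x hx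
  let g : FractionRing S →ₐ[S] FractionRing R :=
    IsFractionRing.liftAlgHom (g := Algebra.ofId S (FractionRing R))
      ((IsFractionRing.injective R (FractionRing R)).comp Subtype.val_injective :)
  have hgi : IsIntegral R (g x) := (hx.map g).tower_top
  obtain ⟨r, hr⟩ := IsIntegrallyClosed.isIntegral_iff.1 hgi
  obtain ⟨a, b, hb, hab⟩ := IsFractionRing.div_surjective S x
  have hb0 : (b : R) ≠ 0 := fun h => nonZeroDivisors.ne_zero hb (Subtype.ext h)
  have hgS : ∀ c : S, g (algebraMap S (FractionRing S) c) = algebraMap R (FractionRing R) (c : R) :=
    fun c => g.commutes c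
  have hrb : r * (b : R) = (a : R) := by
    apply IsFractionRing.injective R (FractionRing R)
    rw [map_mul, hr, ← hab, map_div₀, hgS, hgS, div_mul_cancel₀]
    exact fun h => hb0 (IsFractionRing.injective R (FractionRing R) (by rw [h, map_zero]))
  have hmem : r ∈ S := by
    rw [GLin.mem_invariants_iff]
    have ha := (GLin.mem_invariants_iff k A R (a : R)).1 a.2
    have hb' := (GLin.mem_invariants_iff k A R (b : R)).1 b.2
    have h1 : HopfRep.Comod.coact (k := k) (A := A) r * ((b : R) ⊗ₜ[k] (1 : A)) =
        r ⊗ₜ[k] (1 : A) * ((b : R) ⊗ₜ[k] (1 : A)) := by
      rw [← hb', ← GLin.IsCoactAlg.coact_mul, hrb, ha, hb', Algebra.TensorProduct.tmul_mul_tmul,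
        one_mul, hrb]
    have hinj : Function.Injective ((LinearMap.mulRight k (b : R)).rTensor A) :=
      Module.Flat.rTensor_preserves_injective_linearMap (M := A) _ (mul_left_injective₀ hb0)
    have hmul : ∀ t : R ⊗[k] A, (LinearMap.mulRight k (b : R)).rTensor A t = t * ((b : R) ⊗ₜ[k] (1 : A)) := by
      intro t
      induction t using TensorProduct.induction_on with
      | zero => simp
      | tmul x y => simp
      | add x y hx hy => rw [map_add, hx, hy, add_mul]
    refine hinj ?_
    rw [hmul, hmul]
    exact h1
  refine ⟨⟨r, hmem⟩, ?_⟩
  apply g.toRingHom.injective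
  change g _ = g x
  rw [hgS]
  exact hr

end Groth.Agent.S13124
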