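import Groth.Statements.S13125
import Mathlib.RingTheory.GradedAlgebra.Homogeneous.Ideal

set_option autoImplicit false
universe u v
open KumFam
open scoped DirectSum

namespace Groth.Agent.S13125

/-- Let A be a commutative ring graded by an additive monoid ι (an abelian group in the published
statement) through additive subgroups 𝒜 i, and I an ideal of A. Then I is a homogeneous ideal if and
only if A/I carries a structure of ι-graded ring ℬ for which the quotient map sends 𝒜 i into ℬ i for
all i. -/
theorem result (ι : Type u) [DecidableEq ι] [AddMonoid ι]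
    (A : Type v) [CommRing A] (𝒜 : ι → AddSubgroup A) [GradedRing 𝒜] (I : Ideal A) :
    I.IsHomogeneous 𝒜 ↔
      ∃ ℬ : ι → AddSubgroup (A ⧸ I), Nonempty (GradedRing ℬ) ∧
        ∀ i : ι, (𝒜 i).map (Ideal.Quotient.mk I : A →+ A ⧸ I) ≤ ℬ i := by
  classical
  let q : A →+ A ⧸ I := (Ideal.Quotient.mk I : A →+ A ⧸ I)
  constructor
  · intro hI
    let ℬ : ι → AddSubgroup (A ⧸ I) := fun i => (𝒜 i).map q
    let m : ∀ i, 𝒜 i →+ ℬ i := fun i =>
      (q.comp (𝒜 i).subtype).codRestrict (ℬ i) fun x => ⟨x.1, x.2, rfl⟩
    let D : A →+ ⨁ i, ℬ i :=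
      (DirectSum.map m).comp (DirectSum.decomposeAddEquiv 𝒜).toAddMonoidHom
    have hD : ∀ a ∈ I, D a = 0 := fun a ha => by
      refine DFinsupp.ext fun i => Subtype.ext ?_
      show q ((DirectSum.decompose 𝒜 a i : 𝒜 i) : A) = 0
      exact Ideal.Quotient.eq_zero_iff_mem.2 (hI i ha)
    let D' : A ⧸ I →+ ⨁ i, ℬ i := QuotientAddGroup.lift I.toAddSubgroup D hD
    have hD' : ∀ a, D' (q a) = D a := fun a => rfl
    refine ⟨ℬ, ⟨{ one_mem := ⟨1, SetLike.GradedOne.one_mem, map_one (Ideal.Quotient.mk I)⟩
                  mul_mem := ?_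
                  decompose' := D'
                  left_inv := ?_
                  right_inv := ?_ }⟩, fun i => le_rfl⟩
    · rintro i j _ _ ⟨x, hx, rfl⟩ ⟨y, hy, rfl⟩
      exact ⟨x * y, SetLike.GradedMul.mul_mem hx hy, map_mul (Ideal.Quotient.mk I) x y⟩
    · intro x
      obtain ⟨a, rfl⟩ := Ideal.Quotient.mk_surjective x
      show DirectSum.coeAddMonoidHom ℬ (D' (q a)) = q a
      induction a using DirectSum.Decomposition.inductionOn 𝒜 with
      | zero => simp
      | homogeneous a =>
        rw [hD']
        simp [D, DirectSum.decomposeAddEquiv, m]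
        try rfl
      | add a b ha hb => simp only [map_add, ha, hb]
    · intro y
      induction y using DirectSum.induction_on with
      | zero => simp
      | of i x =>
        obtain ⟨_, a, ha, rfl⟩ := x
        show D' (DirectSum.coeAddMonoidHom ℬ _) = _
        rw [DirectSum.coeAddMonoidHom_of, hD']
        simp [D, DirectSum.decomposeAddEquiv, DirectSum.decompose_of_mem 𝒜 ha, m]
        try rfl
      | add a b ha hb => simp only [map_add, ha, hb]
  · rintro ⟨ℬ, ⟨hB⟩, hq⟩ i r hr
    let m : ∀ i, 𝒜 i →+ ℬ i := fun i =>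
      (q.comp (𝒜 i).subtype).codRestrict (ℬ i) fun x => hq i ⟨x.1, x.2, rfl⟩
    have key : ∀ a : A,
        DirectSum.map m (DirectSum.decompose 𝒜 a) = DirectSum.decompose ℬ (q a) := fun a => by
      induction a using DirectSum.Decomposition.inductionOn 𝒜 with
      | zero => simp
      | homogeneous a =>
        rw [DirectSum.decompose_coe, DirectSum.map_of]
        exact (DirectSum.decompose_coe ℬ (m _ a)).symm
      | add a b ha hb => simp only [map_add, DirectSum.decompose_add, ha, hb]
    have h0 : q r = 0 := Ideal.Quotient.eq_zero_iff_mem.2 hr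
    have h := congrArg (fun z : ⨁ i, ℬ i => ((z i : ℬ i) : A ⧸ I)) (key r)
    simp only [DirectSum.map_apply, h0, DirectSum.decompose_zero] at h
    exact Ideal.Quotient.eq_zero_iff_mem.1 h

end Groth.Agent.S13125
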