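import Groth.Statements.S13126
import Mathlib.Algebra.Polynomial.RingDivision
import Mathlib.Algebra.Polynomial.BigOperators
import Mathlib.Algebra.Polynomial.Div
-- import your own Groth.Agent.* helpers here

set_option autoImplicit false
universe u
open KumFam

namespace Groth.Agent.S13126

open Polynomial in
/-- Let R be a commutative ring, n a natural number which is a unit in R, and ζ ∈ R with ζ^n = 1 and 1 −
ζ^i a unit for 0 < i < n (a primitive n-th root of unity in the fibrewise sense: the powers ζ^0, …,
ζ^(n−1) are roots of X^n − 1 with pairwise unit differences; over an integral domain in which n is a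
unit this is the same as ζ having multiplicative order n). Then the R-algebra homomorphism R[X] →
(Fin n → R) sending a polynomial to its values at ζ^0, …, ζ^(n−1) is surjective and its kernel is
the ideal generated by X^n − 1; hence R[X]/(X^n − 1) ≅ R^n as R-algebras, i.e. the scheme of n-th
roots of unity over Spec R is the disjoint union of n copies of Spec R. (The published statement
asks that R contain a primitive n-th root of unity without defining the term; its Chinese-remainder
argument uses that the ideals (X − ζ^i), i < n, are pairwise comaximal, which is the unit-difference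
condition taken as the hypothesis here, whereas under the reading 'ζ has multiplicative order n'
alone the surjectivity fails over a product of two fields. The published statement also asserts that
the isomorphism respects the group-scheme structures of the n-th roots of unity and of the constant
group ℤ/n; this row does not state that.) -/
theorem result (R : Type u) [CommRing R]
    (n : ℕ) (hn : IsUnit (n : R)) (ζ : R) (hζ : ζ ^ n = 1)
    (hprim : ∀ i : ℕ, 0 < i → i < n → IsUnit (1 - ζ ^ i)) :
    Function.Surjective (AlgHom.pi (fun i : Fin n => Polynomial.aeval (R := R) (ζ ^ (i : ℕ)))) ∧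
      RingHom.ker (AlgHom.pi (fun i : Fin n => Polynomial.aeval (R := R) (ζ ^ (i : ℕ)))) =
        Ideal.span {(X ^ n - 1 : R[X])} := by
  classical
  rcases Nat.eq_zero_or_pos n with hn0 | hn0
  · subst hn0
    simp only [Nat.cast_zero, isUnit_zero_iff] at hn
    have : Subsingleton R := subsingleton_of_zero_eq_one hn
    exact ⟨fun y => ⟨0, Subsingleton.elim _ _⟩, Subsingleton.elim _ _⟩
  · rcases subsingleton_or_nontrivial R with hR | hR
    · exact ⟨fun y => ⟨0, Subsingleton.elim _ _⟩, Subsingleton.elim _ _⟩
    have hζu : IsUnit ζ := (isUnit_pow_iff hn0.ne').1 (hζ ▸ isUnit_one)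
    have hdiff : ∀ i j : Fin n, i ≠ j → IsUnit (ζ ^ (i : ℕ) - ζ ^ (j : ℕ)) := by
      have key : ∀ i j : Fin n, (i : ℕ) < (j : ℕ) → IsUnit (ζ ^ (i : ℕ) - ζ ^ (j : ℕ)) := by
        intro i j hij
        have h1 := (hζu.pow (i : ℕ)).mul (hprim ((j : ℕ) - i) (by omega) (by omega))
        rwa [mul_sub, mul_one, ← pow_add, Nat.add_sub_cancel' hij.le] at h1
      intro i j hij
      rcases lt_or_gt_of_ne (Fin.val_ne_of_ne hij) with h | h
      · exact key i j h
      · simpa using (key j i h).neg
    let L : Fin n → R[X] := fun i => X - C (ζ ^ (i : ℕ))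
    have hcop : Pairwise (Function.onFun IsCoprime L) := fun i j hij =>
      Polynomial.isCoprime_X_sub_C_of_isUnit_sub (hdiff i j hij)
    have hmem : ∀ f : R[X], f ∈ RingHom.ker (AlgHom.pi (fun i : Fin n => Polynomial.aeval (R := R) (ζ ^ (i : ℕ)))) ↔
        ∏ i, L i ∣ f := by
      intro f
      rw [RingHom.mem_ker]
      constructor
      · intro h
        refine Fintype.prod_dvd_of_coprime hcop (fun i => dvd_iff_isRoot.2 ?_)
        have := congrFun h i
        simpa using this
      · rintro ⟨g, rfl⟩
        funext i
        simp only [AlgHom.pi_apply, Pi.zero_apply, map_mul, map_prod]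
        rw [Finset.prod_eq_zero (Finset.mem_univ i) (by simp [L]), zero_mul]
    constructor
    · intro v
      have hu : ∀ i : Fin n, IsUnit (∏ j ∈ Finset.univ.erase i, (ζ ^ (i : ℕ) - ζ ^ (j : ℕ))) :=
        fun i => IsUnit.prod_iff.2 (fun j hj => hdiff i j (Finset.ne_of_mem_erase hj).symm)
      refine ⟨∑ i, C (v i * ↑(hu i).unit⁻¹) * ∏ j ∈ Finset.univ.erase i, L j, ?_⟩
      funext k
      simp only [AlgHom.pi_apply, map_sum, map_mul, map_prod, aeval_C]
      rw [Finset.sum_eq_single k]
      · simp only [L, map_sub, aeval_X, aeval_C, Algebra.algebraMap_self, RingHom.id_apply]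
        rw [mul_assoc, IsUnit.val_inv_mul, mul_one]
      · intro i _ hik
        exact mul_eq_zero_of_right _
          (Finset.prod_eq_zero (Finset.mem_erase.2 ⟨Ne.symm hik, Finset.mem_univ k⟩) (by simp [L]))
      · simp
    · have hroot : (X ^ n - 1 : R[X]) ∈ RingHom.ker
          (AlgHom.pi (fun i : Fin n => Polynomial.aeval (R := R) (ζ ^ (i : ℕ)))) := by
        rw [RingHom.mem_ker]
        funext i
        simp only [AlgHom.pi_apply, Pi.zero_apply, map_sub, map_pow, aeval_X, map_one]
        rw [← pow_mul, mul_comm, pow_mul, hζ, one_pow, sub_self]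
      have hm1 : (∏ i, L i).Monic := monic_prod_of_monic _ _ (fun i _ => monic_X_sub_C _)
      have hdeg : (∏ i, L i).natDegree = n := by
        rw [natDegree_prod_of_monic _ _ (fun i _ => monic_X_sub_C _)]
        simp [L, ← map_pow]
      have hm2 : (X ^ n - C 1 : R[X]).Monic := monic_X_pow_sub_C 1 hn0.ne'
      have heq : (X ^ n - C 1 : R[X]) = ∏ i, L i := by
        refine Polynomial.eq_of_monic_of_dvd_of_natDegree_le hm1 hm2 ?_ ?_
        · rw [map_one]; exact (hmem _).1 hroot
        · rw [hdeg, natDegree_X_pow_sub_C]
      rw [map_one] at heq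
      rw [heq]
      ext f
      rw [hmem, Ideal.mem_span_singleton]

end Groth.Agent.S13126
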