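import Groth.Statements.S13127
import Groth.Agent.EtaleDeep.PowerSeriesInverse
import Mathlib.RingTheory.PowerSeries.Substitution
import Mathlib.Algebra.CharP.Two
import Mathlib.Tactic.LinearCombination

set_option autoImplicit false
universe u
open KumFam

namespace Groth.Agent.S13127

open Groth.EtaleDeep.PSInverse

lemma exists_cubeRoot {R : Type u} [CommRing R] (h3 : IsUnit (3 : R)) {σ : Type*}
    (x : MvPowerSeries σ R) (hx : MvPowerSeries.constantCoeff x = 0) :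
    ∃ ρ : MvPowerSeries σ R, MvPowerSeries.constantCoeff ρ = 0 ∧ (1 + ρ) ^ 3 = 1 + x := by
  let P : PowerSeries R := (1 + PowerSeries.X) ^ 3 - 1
  have hP : PowerSeries.constantCoeff P = 0 := by simp [P]
  have hP' : IsUnit (PowerSeries.coeff 1 P) := by
    have : P = PowerSeries.C (3 : R) * PowerSeries.X ^ 1 +
        PowerSeries.C (3 : R) * PowerSeries.X ^ 2 + PowerSeries.X ^ 3 := by
      simp only [P, map_ofNat]; ring
    rw [this]
    simp only [map_add, PowerSeries.coeff_C_mul, PowerSeries.coeff_X_pow]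
    simpa using h3
  have hQ := PowerSeries.subst_substInvOfIsUnit_right P hP hP'
  have hQs := PowerSeries.HasSubst.substInvOfIsUnit P hP'
  have hxs : PowerSeries.HasSubst x := PowerSeries.HasSubst.of_constantCoeff_zero hx
  refine ⟨PowerSeries.subst x (P.substInvOfIsUnit hP'),
    PowerSeries.constantCoeff_subst_eq_zero hx _
      (PowerSeries.constantCoeff_substInvOfIsUnit P hP'), ?_⟩
  rw [← PowerSeries.coe_substAlgHom hQs] at hQ
  simp only [P, map_sub, map_pow, map_add, map_one, PowerSeries.substAlgHom_X] at hQ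
  rw [sub_eq_iff_eq_add'] at hQ
  have := congrArg (PowerSeries.substAlgHom hxs) hQ
  simpa only [map_pow, map_add, map_one, PowerSeries.substAlgHom_X,
    PowerSeries.coe_substAlgHom hxs] using this

open MvPowerSeries in
/-- Let R be a commutative ring of characteristic 2 and l0, l2, l4, s0, s2, s4, τ, lam, sig ∈ R with l4,
s4, lam, sig units, and let κ₁, κ₂ ∈ R satisfy s4² κ₁³ = sig² and l4² κ₂³ = lam² (cube roots of
sig²/s4² and lam²/l4²). In the power series ring R[[a, b, c]] (a = X 0, b = X 1, c = X 2) put F = c²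
+ s0² a³ b⁴ + s2² a³ b² + s4² a³ + l0² a⁴ b³ + l2² a² b³ + l4² b³ + τ² a³ b³ and F₀ = c² + sig² a³ +
lam² b³. Then some R-algebra automorphism of R[[a, b, c]] maps F to F₀; consequently R[[a, b,
c]]/(F) ≅ R[[a, b, c]]/(F₀). (In the published statement lam, sig are the representatives in the
ground field of the residues of l4, s4 at a rational point, so that F₀ is the equation of the
special fibre made constant; this row takes them to be arbitrary units.) -/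
theorem result (R : Type u) [CommRing R] [CharP R 2]
    (l0 l2 l4 s0 s2 s4 τ lam sig κ₁ κ₂ : R) (hl4 : IsUnit l4) (hs4 : IsUnit s4) (hlam : IsUnit lam)
    (hsig : IsUnit sig) (h₁ : s4 ^ 2 * κ₁ ^ 3 = sig ^ 2) (h₂ : l4 ^ 2 * κ₂ ^ 3 = lam ^ 2) :
    ∃ φ : MvPowerSeries (Fin 3) R ≃ₐ[R] MvPowerSeries (Fin 3) R,
      φ ((X 2 ^ 2 + C (s0 ^ 2) * X 0 ^ 3 * X 1 ^ 4 + C (s2 ^ 2) * X 0 ^ 3 * X 1 ^ 2 +
          C (s4 ^ 2) * X 0 ^ 3 + C (l0 ^ 2) * X 0 ^ 4 * X 1 ^ 3 + C (l2 ^ 2) * X 0 ^ 2 * X 1 ^ 3 +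
          C (l4 ^ 2) * X 1 ^ 3 + C (τ ^ 2) * X 0 ^ 3 * X 1 ^ 3 : MvPowerSeries (Fin 3) R)) =
        (X 2 ^ 2 + C (sig ^ 2) * X 0 ^ 3 + C (lam ^ 2) * X 1 ^ 3 : MvPowerSeries (Fin 3) R) := by
  have h3 : IsUnit (3 : R) := by
    have : (3 : R) = 1 := by linear_combination (CharTwo.two_eq_zero (R := R))
    rw [this]; exact isUnit_one
  obtain ⟨a4, ha4⟩ := (hs4.pow 2).exists_left_inv
  obtain ⟨b4, hb4⟩ := (hl4.pow 2).exists_left_inv
  have hκ₁ : IsUnit κ₁ := by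
    have : IsUnit (s4 ^ 2 * κ₁ ^ 3) := h₁ ▸ hsig.pow 2
    exact (isUnit_pow_iff (by norm_num)).1 (isUnit_of_mul_isUnit_right this)
  have hκ₂ : IsUnit κ₂ := by
    have : IsUnit (l4 ^ 2 * κ₂ ^ 3) := h₂ ▸ hlam.pow 2
    exact (isUnit_pow_iff (by norm_num)).1 (isUnit_of_mul_isUnit_right this)
  obtain ⟨k₁, hk₁⟩ := hκ₁.exists_left_inv
  obtain ⟨k₂, hk₂⟩ := hκ₂.exists_left_inv
  obtain ⟨ρ, hρ0, hρ⟩ := exists_cubeRoot h3
    (C a4 * (C (s2 ^ 2) * X 1 ^ 2 + C (s0 ^ 2) * X 1 ^ 4) : MvPowerSeries (Fin 3) R) (by simp)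
  obtain ⟨η, hη0, hη⟩ := exists_cubeRoot h3
    (C b4 * (C (l2 ^ 2) * X 0 ^ 2 + C (l0 ^ 2) * X 0 ^ 4 + C (τ ^ 2) * X 0 ^ 3) :
      MvPowerSeries (Fin 3) R) (by simp)
  let f : Fin 3 → MvPowerSeries (Fin 3) R :=
    ![C k₁ * X 0 * (1 + ρ), C k₂ * X 1 * (1 + η), X 2]
  have hf : HasSubst f := hasSubst_of_constantCoeff_zero fun i => by
    fin_cases i <;> simp [f]
  have hb := bijective_subst f ![k₁, k₂, 1]
    (fun i => by
      fin_cases i <;> simp [IsUnit.of_mul_eq_one _ hk₁, IsUnit.of_mul_eq_one _ hk₂])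
    (fun i => by
      fin_cases i
      · simpa [f, mul_add] using two_le_order_mul (g := ρ)
          (show constantCoeff (C k₁ * X 0 : MvPowerSeries (Fin 3) R) = 0 by simp) hρ0
      · simpa [f, mul_add] using two_le_order_mul (g := η)
          (show constantCoeff (C k₂ * X 1 : MvPowerSeries (Fin 3) R) = 0 by simp) hη0
      · simp [f])
  refine ⟨(substEquiv f hf hb).symm, ?_⟩
  rw [AlgEquiv.symm_apply_eq]
  simp only [substEquiv_apply, subst_add hf, subst_mul hf, subst_pow hf, subst_X hf, subst_C, f,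
    Matrix.cons_val_zero, Matrix.cons_val_one, Matrix.cons_val]
  have e₁ : (C (sig ^ 2) * C k₁ ^ 3 : MvPowerSeries (Fin 3) R) = C (s4 ^ 2) := by
    rw [← map_pow, ← map_mul]; congr 1
    rw [← h₁]
    linear_combination (s4 ^ 2 * (k₁ ^ 2 * κ₁ ^ 2 + k₁ * κ₁ + 1)) * hk₁
  have e₂ : (C (lam ^ 2) * C k₂ ^ 3 : MvPowerSeries (Fin 3) R) = C (l4 ^ 2) := by
    rw [← map_pow, ← map_mul]; congr 1
    rw [← h₂]
    linear_combination (l4 ^ 2 * (k₂ ^ 2 * κ₂ ^ 2 + k₂ * κ₂ + 1)) * hk₂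
  have e₃ : (C (s4 ^ 2) * C a4 : MvPowerSeries (Fin 3) R) = 1 := by
    rw [← map_mul, mul_comm, ha4, map_one]
  have e₄ : (C (l4 ^ 2) * C b4 : MvPowerSeries (Fin 3) R) = 1 := by
    rw [← map_mul, mul_comm, hb4, map_one]
  rw [mul_pow, mul_pow, mul_pow, mul_pow, hρ, hη]
  linear_combination
    -(X 0 ^ 3 * (1 + C a4 * (C (s2 ^ 2) * X 1 ^ 2 + C (s0 ^ 2) * X 1 ^ 4))) * e₁
    - (X 1 ^ 3 * (1 + C b4 * (C (l2 ^ 2) * X 0 ^ 2 + C (l0 ^ 2) * X 0 ^ 4 +
        C (τ ^ 2) * X 0 ^ 3))) * e₂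
    - (X 0 ^ 3 * (C (s2 ^ 2) * X 1 ^ 2 + C (s0 ^ 2) * X 1 ^ 4)) * e₃
    - (X 1 ^ 3 * (C (l2 ^ 2) * X 0 ^ 2 + C (l0 ^ 2) * X 0 ^ 4 + C (τ ^ 2) * X 0 ^ 3)) * e₄

end Groth.Agent.S13127
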