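import Groth.Statements.S13128
import Groth.Agent.EtaleDeep.PowerSeriesInverse
import Mathlib.RingTheory.PowerSeries.Substitution
import Mathlib.Algebra.CharP.Two
import Mathlib.Tactic.LinearCombination

set_option autoImplicit false
universe u
open KumFam

namespace Groth.Agent.S13128

open Groth.EtaleDeep.PSInverse

lemma sqrt_eq {R : Type u} [CommRing R] [CharP R 2] (t s4 s2 s0 τ β : R) (ht : t * τ = 1)
    (hβ : s4 ^ 2 * β ^ 4 + s2 ^ 2 * β ^ 2 + τ ^ 2 * β + s0 ^ 2 = 0) :
    (t * (s4 * β ^ 2 + s2 * β + s0)) ^ 2 = β := by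
  have h2 : (2 : R) = 0 := CharTwo.two_eq_zero
  have h1 : t ^ 2 * τ ^ 2 = 1 := by rw [← mul_pow, ht, one_pow]
  linear_combination t ^ 2 * hβ - β * h1 +
    (t ^ 2 * (s4 * β ^ 2 * (s2 * β) + s4 * β ^ 2 * s0 + s2 * β * s0) - β) * h2

open MvPowerSeries in
/-- Let R be a commutative ring of characteristic 2, l0, l2, l4, s0, s2, s4, τ ∈ R with τ a unit, and α,
β ∈ R with l4² α⁴ + l2² α² + τ² α + l0² = 0 and s4² β⁴ + s2² β² + τ² β + s0² = 0. In characteristic
2 these relations give τ² α = (l4 α² + l2 α + l0)² and τ² β = (s4 β² + s2 β + s0)², so α = α′² and β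
= β′² with α′ = (l4 α² + l2 α + l0)/τ and β′ = (s4 β² + s2 β + s0)/τ. In R[[a, b, c]] (a = X 0, b =
X 1, c = X 2) put h = c² + τ² a b + (s4² b⁴ + s2² b²) a + (l4² a⁴ + l2² a²) b + l4² β a⁴ + l2² β a²
+ s4² α b⁴ + s2² α b²; this is the chart equation c² + τ² a b + (s4² b⁴ + s2² b² + s0²) a + (l4² a⁴
+ l2² a² + l0²) b after the substitution a ↦ a + α, b ↦ b + β, c ↦ c + τ α′ β′, which moves the
point (α, β, τ α′ β′) of that surface, where all partial derivatives vanish, to the origin. Then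
some R-algebra automorphism of R[[a, b, c]] maps h to c² + a b; consequently R[[a, b, c]]/(h) ≅
R[[a, b, c]]/(c² + a b), the completed local ring of an ordinary double point, constant over R. (The
published statement translates only a and b, so that its h carries the additional constant term τ² α
β; with that term h is a unit of R[[a, b, c]] whenever τ α β is a unit, for instance c² + a b + 1
over the field with two elements with l0 = s0 = τ = α = β = 1 and l2 = l4 = s2 = s4 = 0, and no ring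
automorphism carries a unit to c² + a b. The published proof begins by shifting c by a polynomial in
a, b whose constant term is τ α′ β′, a substitution of the polynomial ring which removes the term τ²
α β, and the rest of its argument takes place in R[[a, b, c]]; this row states the result for the
fully translated equation, which is what that argument proves.) -/
theorem result (R : Type u) [CommRing R] [CharP R 2]
    (l0 l2 l4 s0 s2 s4 τ α β : R) (hτ : IsUnit τ)
    (hα : l4 ^ 2 * α ^ 4 + l2 ^ 2 * α ^ 2 + τ ^ 2 * α + l0 ^ 2 = 0)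
    (hβ : s4 ^ 2 * β ^ 4 + s2 ^ 2 * β ^ 2 + τ ^ 2 * β + s0 ^ 2 = 0) :
    ∃ φ : MvPowerSeries (Fin 3) R ≃ₐ[R] MvPowerSeries (Fin 3) R,
      φ ((X 2 ^ 2 + C (τ ^ 2) * X 0 * X 1 + (C (s4 ^ 2) * X 1 ^ 4 + C (s2 ^ 2) * X 1 ^ 2) * X 0 +
          (C (l4 ^ 2) * X 0 ^ 4 + C (l2 ^ 2) * X 0 ^ 2) * X 1 + C (l4 ^ 2 * β) * X 0 ^ 4 +
          C (l2 ^ 2 * β) * X 0 ^ 2 + C (s4 ^ 2 * α) * X 1 ^ 4 + C (s2 ^ 2 * α) * X 1 ^ 2 :
          MvPowerSeries (Fin 3) R)) =
        (X 2 ^ 2 + X 0 * X 1 : MvPowerSeries (Fin 3) R) := by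
  obtain ⟨t, ht⟩ := hτ.exists_left_inv
  obtain ⟨α', hα'⟩ : ∃ x, x ^ 2 = α := ⟨_, sqrt_eq t l4 l2 l0 τ α ht hα⟩
  obtain ⟨β', hβ'⟩ : ∃ x, x ^ 2 = β := ⟨_, sqrt_eq t s4 s2 s0 τ β ht hβ⟩
  let m : MvPowerSeries (Fin 3) R := C (s4 ^ 2) * X 1 ^ 3 + C (s2 ^ 2) * X 1 +
    C (l4 ^ 2) * X 0 ^ 3 + C (l2 ^ 2) * X 0
  have hm : constantCoeff m = 0 := by simp [m]
  let g : MvPowerSeries (Fin 3) R := C (l4 * β') * X 0 ^ 2 + C (l2 * β') * X 0 +
    C (s4 * α') * X 1 ^ 2 + C (s2 * α') * X 1
  have hg : constantCoeff g = 0 := by simp [g]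
  let f₁ : Fin 3 → MvPowerSeries (Fin 3) R := ![X 0 * (C (τ ^ 2) + m), X 1, X 2]
  have hf₁ : HasSubst f₁ := hasSubst_of_constantCoeff_zero fun i => by
    fin_cases i <;> simp [f₁]
  have hb₁ := bijective_subst f₁ ![τ ^ 2, 1, 1]
    (fun i => by fin_cases i <;> simp [hτ.pow 2]) (fun i => by
      fin_cases i
      · have : X 0 * (C (τ ^ 2) + m) - C (τ ^ 2) * X 0 = X 0 * m := by ring
        simpa [f₁, this, ← map_pow] using this ▸ two_le_order_mul (constantCoeff_X (R := R) (0 : Fin 3)) hm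
      · simp [f₁]
      · simp [f₁])
  let f₂ : Fin 3 → MvPowerSeries (Fin 3) R := ![X 0, X 1, X 2 + g]
  have hf₂ : HasSubst f₂ := hasSubst_of_constantCoeff_zero fun i => by
    fin_cases i <;> simp [f₂, hg]
  have htwo : ∀ x : MvPowerSeries (Fin 3) R, x + x = 0 := fun x => by
    have : (2 : MvPowerSeries (Fin 3) R) = C (2 : R) := by rw [map_ofNat]
    rw [← two_mul, this, CharTwo.two_eq_zero, map_zero, zero_mul]
  have hg₂ : subst f₂ g = g := by
    simp only [g, subst_add hf₂, subst_mul hf₂, subst_pow hf₂, subst_X hf₂, subst_C]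
    simp [f₂]
  have hinv : Function.Involutive
      (subst f₂ : MvPowerSeries (Fin 3) R → MvPowerSeries (Fin 3) R) := fun p => by
    have e : (fun i => subst f₂ (f₂ i)) = (X : Fin 3 → MvPowerSeries (Fin 3) R) := by
      funext i
      fin_cases i
      · show subst f₂ (X 0 : MvPowerSeries (Fin 3) R) = _
        rw [subst_X hf₂]; rfl
      · show subst f₂ (X 1 : MvPowerSeries (Fin 3) R) = _
        rw [subst_X hf₂]; rfl
      · show subst f₂ (X 2 + g) = _
        rw [subst_add hf₂, subst_X hf₂, hg₂]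
        show X 2 + g + g = _
        rw [add_assoc, htwo, add_zero]; rfl
    rw [subst_comp_subst_apply hf₂ hf₂, e, subst_self, id_eq]
  refine ⟨((substEquiv f₁ hf₁ hb₁).trans (substEquiv f₂ hf₂ hinv.bijective)).symm, ?_⟩
  rw [AlgEquiv.symm_apply_eq]
  simp only [AlgEquiv.trans_apply, substEquiv_apply, subst_add hf₁, subst_mul hf₁, subst_pow hf₁,
    subst_X hf₁, f₁, Matrix.cons_val_zero, Matrix.cons_val_one, Matrix.cons_val]
  simp only [m, subst_add hf₂, subst_mul hf₂, subst_pow hf₂, subst_X hf₂, subst_C, f₂,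
    Matrix.cons_val_zero, Matrix.cons_val_one, Matrix.cons_val]
  rw [← hα', ← hβ']
  simp only [g, map_mul, map_pow]
  have h2 : (2 : MvPowerSeries (Fin 3) R) = 0 := by rw [← one_add_one_eq_two, htwo]
  grind

end Groth.Agent.S13128
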