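import Groth.Statements.S13130
import Mathlib.RingTheory.IntegralClosure.IsIntegralClosure.Basic
import Mathlib.Algebra.Polynomial.AlgebraMap
-- import your own Groth.Agent.* helpers here

set_option autoImplicit false
universe u v
open KumFam

namespace Groth.Agent.S13130

/-- Let R be a nontrivial commutative ring and M a commutative group, with group algebra R[M], the
coordinate ring of the diagonalizable group scheme D(M) over Spec R. Then D(M) is integral over Spec
R, i.e. R[M] is an integral R-algebra, if and only if M is a torsion group. (The published statement
is over an arbitrary base scheme; the question is local and this row is the affine form, with R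
nontrivial so that the elements of M are R-linearly independent.) -/
theorem result (R : Type u) [CommRing R] [Nontrivial R]
    (M : Type v) [CommGroup M] :
    Algebra.IsIntegral R (MonoidAlgebra R M) ↔ IsMulTorsion M := by
  constructor
  · intro h m
    obtain ⟨f, hf, hf0⟩ := h.isIntegral (MonoidAlgebra.of R M m)
    by_contra hm
    have hinj : Function.Injective (fun i : ℕ => m ^ i) :=
      injective_pow_iff_not_isOfFinOrder.2 hm
    have key : ∀ g : Polynomial R, ∀ i : ℕ,
        (Polynomial.aeval (MonoidAlgebra.of R M m) g).coeff (m ^ i) = g.coeff i := by
      intro g i
      induction g using Polynomial.induction_on' with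
      | add a b ha hb => rw [map_add, Polynomial.coeff_add, MonoidAlgebra.coeff_add, Finsupp.add_apply, ha, hb]
      | monomial k r =>
        rw [Polynomial.aeval_monomial, ← map_pow, ← Algebra.smul_def, Polynomial.coeff_monomial]
        by_cases hki : k = i
        · subst hki; simp [MonoidAlgebra.of]
        · simp [MonoidAlgebra.of, hki, hinj.ne hki]
    have := key f f.natDegree
    rw [← Polynomial.aeval_def] at hf0
    rw [hf0, hf.coeff_natDegree] at this
    simp at this
  · intro h
    refine ⟨fun f => ?_⟩
    have hof : ∀ m : M, IsIntegral R (MonoidAlgebra.of R M m) := by
      intro m
      obtain ⟨k, hk0, hk⟩ := isOfFinOrder_iff_pow_eq_one.1 (h m)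
      refine IsIntegral.of_pow hk0 ?_
      rw [← map_pow, hk, map_one]
      exact isIntegral_one
    induction f using MonoidAlgebra.induction_on with
    | of m => exact hof m
    | add a b ha hb => exact ha.add hb
    | smul r a ha => exact ha.smul r

end Groth.Agent.S13130
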