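import Groth.Statements.S13131
-- import your own Groth.Agent.* helpers here

set_option autoImplicit false
universe u
open CategoryTheory CategoryTheory.Limits AlgebraicGeometry
open KumFam

namespace Groth.Agent.S13131

/-- Let S be a scheme, M a set and p : T → S a scheme over S. The S-morphisms T → ∐_{m ∈ M} S (the
constant S-scheme on M, with its structure map the codiagonal) are in bijection with the locally
constant maps T → M, a morphism f corresponding to the function sending t to the index of the copy
of S containing f(t). (In the published statement M is a group and ∐_M S the constant group scheme;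
the group structures play no role in this description of T-points.) -/
theorem result (S : Scheme.{u}) (M : Type u)
    (T : Scheme.{u}) (p : T ⟶ S) :
    ∃ e : {f : T ⟶ ∐ (fun _ : M => S) // f ≫ Sigma.desc (fun _ : M => 𝟙 S) = p} ≃
        LocallyConstant T M,
      ∀ (f : {f : T ⟶ ∐ (fun _ : M => S) // f ≫ Sigma.desc (fun _ : M => 𝟙 S) = p}) (t : T),
        e f t = ((sigmaMk (fun _ : M => S)).symm (f.1.base t)).1 := by
  classical
  let F : M → Scheme.{u} := fun _ => S
  let idx : (T ⟶ ∐ F) → T → M := fun f t => ((sigmaMk F).symm (f.base t)).1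
  have idx_ι : ∀ (m : M) (s : S), ((sigmaMk F).symm ((Sigma.ι F m).base s)).1 = m := by
    intro m s
    rw [← sigmaMk_mk F m s, Homeomorph.symm_apply_apply]
  have hlc : ∀ f : T ⟶ ∐ F, IsLocallyConstant (idx f) := by
    intro f
    refine (IsLocallyConstant.iff_isOpen_fiber (f := idx f)).2 (fun m => ?_)
    have : idx f ⁻¹' {m} = f.base ⁻¹' Set.range (Sigma.ι F m).base := by
      ext t
      simp only [Set.mem_preimage, Set.mem_singleton_iff, Set.mem_range, idx]
      constructor
      · intro h
        generalize hy : (sigmaMk F).symm (f.base t) = y at h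
        obtain ⟨i, s⟩ := y
        simp only at h
        subst h
        exact ⟨s, by rw [← sigmaMk_mk, ← hy, Homeomorph.apply_symm_apply]⟩
      · rintro ⟨s, hs⟩
        rw [← hs, idx_ι]
    rw [this]
    exact (Sigma.ι F m).isOpenEmbedding.isOpen_range.preimage f.base.hom.continuous
  let U : LocallyConstant T M → M → T.Opens := fun g m => ⟨g ⁻¹' {m}, g.isLocallyConstant _⟩
  let cov : LocallyConstant T M → T.OpenCover := fun g =>
    { I₀ := M
      X := fun m => (U g m).toScheme
      f := fun m => (U g m).ι
      mem₀ := by
        rw [Scheme.presieve₀_mem_precoverage_iff]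
        exact ⟨fun t => ⟨g t, by simp [U]⟩, inferInstance⟩ }
  have hglue : ∀ g : LocallyConstant T M, ∃ f : T ⟶ ∐ F,
      f ≫ Sigma.desc (fun _ : M => 𝟙 S) = p ∧ ∀ m, (U g m).ι ≫ f = ((U g m).ι ≫ p) ≫ Sigma.ι F m := by
    intro g
    refine ⟨(cov g).glueMorphisms (fun m => ((U g m).ι ≫ p) ≫ Sigma.ι F m) ?_, ?_, ?_⟩
    · intro a b
      by_cases hab : a = b
      · subst hab
        congr 1
        exact (cancel_mono ((cov g).f a)).1 pullback.condition
      · have hemp : IsEmpty ↥(pullback ((cov g).f a) ((cov g).f b)) := ⟨fun x => hab (by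
          have h1 := ((pullback.fst ((cov g).f a) ((cov g).f b)).base x).2
          have h2 := ((pullback.snd ((cov g).f a) ((cov g).f b)).base x).2
          have h3 : ((U g a).ι).base ((pullback.fst ((cov g).f a) ((cov g).f b)).base x) =
              ((U g b).ι).base ((pullback.snd ((cov g).f a) ((cov g).f b)).base x) := by
            rw [← Scheme.Hom.comp_apply, ← Scheme.Hom.comp_apply]
            exact congrArg (fun k : pullback ((cov g).f a) ((cov g).f b) ⟶ T => k.base x)
              (pullback.condition (f := (cov g).f a) (g := (cov g).f b))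
          simp only [U, Set.mem_preimage, Set.mem_singleton_iff] at h1 h2
          exact h1.symm.trans ((congrArg g h3).trans h2))⟩
        exact isInitialOfIsEmpty.hom_ext _ _
    · refine Scheme.Cover.hom_ext (cov g) _ _ (fun m => ?_)
      rw [Scheme.Cover.ι_glueMorphisms_assoc, Category.assoc, Sigma.ι_desc, Category.comp_id]
    · intro m
      exact Scheme.Cover.ι_glueMorphisms (cov g) _ _ m
  choose inv hinv₁ hinv₂ using hglue
  refine ⟨{ toFun := fun f => ⟨idx f.1, hlc f.1⟩
            invFun := fun g => ⟨inv g, hinv₁ g⟩
            left_inv := ?_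
            right_inv := ?_ }, fun f t => rfl⟩
  · rintro ⟨f, hf⟩
    apply Subtype.ext
    set g : LocallyConstant T M := ⟨idx f, hlc f⟩ with hg
    refine Scheme.Cover.hom_ext (cov g) _ _ (fun m => ?_)
    refine (hinv₂ g m).trans ?_
    have hr : Set.range ((U g m).ι ≫ f).base ⊆ Set.range (Sigma.ι F m).base := by
      rintro _ ⟨t, rfl⟩
      have ht : idx f ((U g m).ι.base t) = m := t.2
      generalize hy : (sigmaMk F).symm (f.base ((U g m).ι.base t)) = y
      obtain ⟨i, s⟩ := y
      simp only [idx, hy] at ht
      subst ht
      refine ⟨s, ?_⟩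
      rw [← sigmaMk_mk, ← hy, Homeomorph.apply_symm_apply]
      rfl
    have hl := IsOpenImmersion.lift_fac (Sigma.ι F m) ((U g m).ι ≫ f) hr
    have : IsOpenImmersion.lift (Sigma.ι F m) ((U g m).ι ≫ f) hr = (U g m).ι ≫ p := by
      have h2 := congrArg (fun k => k ≫ Sigma.desc (fun _ : M => 𝟙 S)) hl
      simp only [Category.assoc, hf] at h2
      erw [Sigma.ι_desc, Category.comp_id] at h2
      exact h2
    rw [← this, hl]
  · intro g
    refine LocallyConstant.ext (fun t => ?_)
    have h := congrArg (fun k => k.base ⟨t, (rfl : g t = g t)⟩) (hinv₂ g (g t))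
    simp only [Scheme.Hom.comp_base, TopCat.comp_app, Category.assoc] at h
    change ((sigmaMk F).symm ((inv g).base t)).1 = g t
    erw [h, idx_ι]

end Groth.Agent.S13131
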