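import Groth.Statements.S13132
import Groth.Agent.ArtfunDeform.RegFlat

set_option autoImplicit false
universe u v
open CAlg

namespace Groth.Agent.S13132

/-- Let A' be an Artinian local ring, I a proper ideal of A' and S' a flat A'-algebra. An element f' of
S' is a non-zero-divisor exactly when its image in S'/IS' is one; and when f' is a non-zero-divisor,
the quotient S'/(f') is flat over A'. (The published statement is for local Artinian algebras with a
fixed residue field over a ring of Witt vectors and a surjection between two of them; the argument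
uses only that A' is Artinian local and I is a proper ideal, which is the form taken here.) -/
theorem result
    {A' : Type u} [CommRing A'] [IsArtinianRing A'] [IsLocalRing A'] (I : Ideal A') (hI : I ≠ ⊤)
    {S' : Type v} [CommRing S'] [Algebra A' S'] [Module.Flat A' S'] (f' : S') :
    (f' ∈ nonZeroDivisors S' ↔
      Ideal.Quotient.mk (I.map (algebraMap A' S')) f' ∈ nonZeroDivisors (S' ⧸ I.map (algebraMap A' S'))) ∧
    (f' ∈ nonZeroDivisors S' → Module.Flat A' (S' ⧸ Ideal.span {f'})) := by
  classical
  set K := I.map (algebraMap A' S') with hK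
  let g : S' →ₗ[A'] S' := ((LinearMap.lsmul S' S') f').restrictScalars A'
  have hr : K.restrictScalars A' = I • (⊤ : Submodule A' S') := (Ideal.smul_top_eq_map I).symm
  have hz : ∀ x, g x ∈ I • (⊤ : Submodule A' S') ↔ Ideal.Quotient.mk K f' * Ideal.Quotient.mk K x = 0 := by
    intro x
    rw [← hr, Submodule.restrictScalars_mem, ← map_mul, Ideal.Quotient.eq_zero_iff_mem]
    rfl
  have hinj : f' ∈ nonZeroDivisors S' → Function.Injective g := fun h => by
    rw [injective_iff_map_eq_zero]
    intro x hx
    exact (mem_nonZeroDivisors_iff.mp h).1 x hx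
  refine ⟨⟨fun h => ?_, fun h => ?_⟩, fun h => ?_⟩
  · have hm := Groth.ArtfunDeform.RegFlat.mem_smul_top_of_injective g (hinj h) I
    have key : ∀ y : S' ⧸ K, Ideal.Quotient.mk K f' * y = 0 → y = 0 := by
      intro y hy
      obtain ⟨x, rfl⟩ := Ideal.Quotient.mk_surjective y
      have := hm x ((hz x).mpr hy)
      rw [← hr, Submodule.restrictScalars_mem] at this
      exact Ideal.Quotient.eq_zero_iff_mem.mpr this
    exact mem_nonZeroDivisors_iff.mpr ⟨key, fun y hy => key y (by rwa [mul_comm])⟩
  · have key : ∀ x, g x ∈ I • (⊤ : Submodule A' S') → x ∈ I • (⊤ : Submodule A' S') := by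
      intro x hx
      rw [← hr, Submodule.restrictScalars_mem]
      exact Ideal.Quotient.eq_zero_iff_mem.mp ((mem_nonZeroDivisors_iff.mp h).1 _ ((hz x).mp hx))
    have := (Groth.ArtfunDeform.RegFlat.step g hI key).1
    rw [injective_iff_map_eq_zero] at this
    exact mem_nonZeroDivisors_iff.mpr ⟨fun x hx => this x hx, fun x hx => this x (by change f' * x = 0; rwa [mul_comm])⟩
  · have hbot : ∀ x, g x ∈ (⊥ : Ideal A') • (⊤ : Submodule A' S') → x ∈ (⊥ : Ideal A') • (⊤ : Submodule A' S') := fun x hx => by
      rw [Submodule.bot_smul, Submodule.mem_bot] at hx ⊢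
      exact hinj h (hx.trans (map_zero g).symm)
    haveI := (Groth.ArtfunDeform.RegFlat.step g bot_ne_top hbot).2
    have e : LinearMap.range g = (Ideal.span {f'}).restrictScalars A' := by
      ext x
      simp [g, Ideal.mem_span_singleton', mul_comm]
    exact Module.Flat.of_linearEquiv ((Submodule.Quotient.restrictScalarsEquiv A' (Ideal.span {f'})).symm ≪≫ₗ Submodule.quotEquivOfEq _ _ e.symm)

end Groth.Agent.S13132
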