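import Groth.Statements.S13133
import Groth.Agent.ArtfunDeform.RegFlat
import Mathlib.RingTheory.Nilpotent.Basic

set_option autoImplicit false
universe u v
open CAlg

namespace Groth.Agent.S13133

/-- Let A' be an Artinian local ring, I a proper ideal of A', S' a flat A'-algebra and f'_1, …, f'_n
elements of S' with n ≥ 1. A family f'_1, …, f'_n in S' is a regular sequence exactly when its
reduction modulo I·S' is a regular sequence of S'/IS'. (Regular sequences are defined in the
published text over Noetherian rings; this row does not assume S' Noetherian, which the argument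
does not use. The published statement is for a surjection of local Artinian algebras with a fixed
residue field over a ring of Witt vectors; only the Artinian local base and the proper ideal are
used, which is the form taken here.) -/
theorem result
    {A' : Type u} [CommRing A'] [IsArtinianRing A'] [IsLocalRing A'] (I : Ideal A') (hI : I ≠ ⊤)
    {S' : Type v} [CommRing S'] [Algebra A' S'] [Module.Flat A' S'] {n : ℕ} (hn : 1 ≤ n)
    (f' : Fin n → S') :
    RingTheory.Sequence.IsRegular S' (List.ofFn f') ↔
      RingTheory.Sequence.IsRegular (S' ⧸ I.map (algebraMap A' S'))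
        (List.ofFn fun i => Ideal.Quotient.mk (I.map (algebraMap A' S')) (f' i)) := by
  classical
  set K := I.map (algebraMap A' S') with hK
  have hmap : List.ofFn (fun i => Ideal.Quotient.mk K (f' i)) = (List.ofFn f').map (algebraMap S' (S' ⧸ K)) := by
    rw [List.map_ofFn]; rfl
  let e : (S' ⧸ K) ≃ₗ[S'] (S' ⧸ K • (⊤ : Submodule S' S')) := Submodule.quotEquivOfEq _ _ (by rw [Ideal.smul_eq_mul, Ideal.mul_top])
  have hiff : RingTheory.Sequence.IsWeaklyRegular (S' ⧸ K) (List.ofFn fun i => Ideal.Quotient.mk K (f' i)) ↔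
      RingTheory.Sequence.IsWeaklyRegular (S' ⧸ K • (⊤ : Submodule S' S')) (List.ofFn f') := by
    rw [hmap, RingTheory.Sequence.isWeaklyRegular_map_algebraMap_iff]
    exact e.isWeaklyRegular_congr _
  have hsm : ∀ L : Ideal S', L • (⊤ : Submodule S' S') = L := fun L => by rw [Ideal.smul_eq_mul, Ideal.mul_top]
  have hsm' : ∀ L : Ideal (S' ⧸ K), L • (⊤ : Submodule (S' ⧸ K) (S' ⧸ K)) = L := fun L => by rw [Ideal.smul_eq_mul, Ideal.mul_top]
  constructor
  · intro h
    refine ⟨hiff.mpr (Groth.ArtfunDeform.RegFlat.isWeaklyRegular_mod I _ S' h.toIsWeaklyRegular), fun htop => h.top_ne_smul ?_⟩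
    rw [hsm', hmap, ← Ideal.map_ofList] at htop
    rw [hsm]
    obtain ⟨k, hk⟩ := IsArtinianRing.isNilpotent_jacobson_bot (R := A')
    rw [IsLocalRing.jacobson_eq_maximalIdeal ⊥ bot_ne_top] at hk
    have h2 : (Ideal.ofList (List.ofFn f')) ⊔ K = ⊤ := by
      have := congrArg (Ideal.comap (algebraMap S' (S' ⧸ K))) htop.symm
      rw [Ideal.comap_top, Ideal.Quotient.algebraMap_eq, Ideal.comap_map_of_surjective _ Ideal.Quotient.mk_surjective] at this
      convert this using 2
      exact (Ideal.mk_ker (I := K)).symm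
    obtain ⟨a, ha, b, hb, hab⟩ := Submodule.mem_sup.mp ((Ideal.eq_top_iff_one _).mp h2)
    have hbn : IsNilpotent b := ⟨k, by
      have h3 : b ^ k ∈ K ^ k := Ideal.pow_mem_pow hb k
      have h4 : K ^ k ≤ ⊥ := by
        rw [hK, ← Ideal.map_pow]
        refine (Ideal.map_mono (Ideal.pow_right_mono (IsLocalRing.le_maximalIdeal hI) k)).trans ?_
        rw [hk]; simp
      exact Ideal.mem_bot.mp (h4 h3)⟩
    refine (Ideal.eq_top_of_isUnit_mem _ ha ?_).symm
    rw [eq_sub_of_add_eq hab]
    exact IsNilpotent.isUnit_one_sub hbn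
  · intro h
    refine ⟨(Groth.ArtfunDeform.RegFlat.isWeaklyRegular_and_flat hI _ S' (hiff.mp h.toIsWeaklyRegular)).1, fun htop => h.top_ne_smul ?_⟩
    rw [hsm] at htop
    rw [hsm', hmap, ← Ideal.map_ofList, ← htop, Ideal.map_top]

end Groth.Agent.S13133
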