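import Groth.Statements.S13134
import Mathlib

set_option autoImplicit false
universe u v
open CAlg

namespace Groth.Agent.S13134

/-- Let A' be an Artinian local ring, I a proper ideal, A = A'/I and f_1, …, f_m ∈ A[x_1, …, x_n]. Every
flat A'-algebra B' equipped with a surjection π onto A[x]/(f_1, …, f_m) with kernel I·B', compatible
with A' → A, is a quotient of A'[x_1, …, x_n] by the ideal generated by some lifts f'_1, …, f'_m of
the f_i, compatibly with π and with reduction of polynomials modulo I. (The published statement is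
for a surjection of local Artinian algebras with a fixed residue field over a ring of Witt vectors;
only the Artinian local base and the proper ideal are used, which is the form taken here.) -/
theorem result
    {A' : Type u} [CommRing A'] [IsArtinianRing A'] [IsLocalRing A'] (I : Ideal A') (hI : I ≠ ⊤)
    {n m : ℕ} (f : Fin m → MvPolynomial (Fin n) (A' ⧸ I))
    {B' : Type v} [CommRing B'] [Algebra A' B'] [Module.Flat A' B']
    (π : B' →+* MvPolynomial (Fin n) (A' ⧸ I) ⧸ Ideal.span (Set.range f))
    (hπ : Function.Surjective π) (hker : RingHom.ker π = I.map (algebraMap A' B'))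
    (hcomp : π.comp (algebraMap A' B') =
      ((Ideal.Quotient.mk (Ideal.span (Set.range f))).comp MvPolynomial.C).comp (Ideal.Quotient.mk I)) :
    ∃ (f' : Fin m → MvPolynomial (Fin n) A') (ψ : MvPolynomial (Fin n) A' →ₐ[A'] B'),
      (∀ i, MvPolynomial.map (Ideal.Quotient.mk I) (f' i) = f i) ∧
      Function.Surjective ψ ∧ RingHom.ker ψ.toRingHom = Ideal.span (Set.range f') ∧
      ∀ q, π (ψ q) = Ideal.Quotient.mk (Ideal.span (Set.range f)) (MvPolynomial.map (Ideal.Quotient.mk I) q) := by
  classical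
  have := hI
  let red : MvPolynomial (Fin n) A' →+* MvPolynomial (Fin n) (A' ⧸ I) := MvPolynomial.map (Ideal.Quotient.mk I)
  have hred : Function.Surjective red := MvPolynomial.map_surjective _ Ideal.Quotient.mk_surjective
  choose y hy using fun i => hπ (Ideal.Quotient.mk (Ideal.span (Set.range f)) (MvPolynomial.X i))
  let ψ : MvPolynomial (Fin n) A' →ₐ[A'] B' := MvPolynomial.aeval y
  have hcompat : ∀ q, π (ψ q) = Ideal.Quotient.mk (Ideal.span (Set.range f)) (red q) := fun q => by
    induction q using MvPolynomial.induction_on with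
    | C a =>
      simp only [ψ, red, MvPolynomial.aeval_C, MvPolynomial.map_C]
      exact RingHom.congr_fun hcomp a
    | add P P' hP hP' => simp only [map_add, hP, hP']
    | mul_X P i hP => simp only [map_mul, hP, ψ, red, MvPolynomial.aeval_X, MvPolynomial.map_X, hy]
  let IP : Ideal (MvPolynomial (Fin n) A') := I.map MvPolynomial.C
  have hkerred : RingHom.ker red = IP := by
    rw [MvPolynomial.ker_map, Ideal.mk_ker]
  obtain ⟨N, hN⟩ : IsNilpotent I := by
    have h := IsArtinianRing.isNilpotent_jacobson_bot (R := A')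
    obtain ⟨N, hN⟩ := h
    refine ⟨N, le_bot_iff.1 ((Ideal.pow_right_mono ?_ N).trans hN.le)⟩
    rw [IsLocalRing.jacobson_eq_maximalIdeal ⊥ bot_ne_top]
    exact IsLocalRing.le_maximalIdeal hI
  have hψI : ∀ b ∈ I.map (algebraMap A' B'), ∀ m : ℕ,
      (∀ c : B', ∃ q, c - ψ q ∈ I.map (algebraMap A' B') ^ m) →
      ∃ q ∈ IP, b - ψ q ∈ I.map (algebraMap A' B') ^ (m + 1) := fun b hb m ih => by
    induction hb using Submodule.span_induction with
    | mem x hx =>
      obtain ⟨a, ha, rfl⟩ := hx
      exact ⟨MvPolynomial.C a, Ideal.mem_map_of_mem _ ha, by simp [ψ]⟩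
    | zero => exact ⟨0, zero_mem _, by simp⟩
    | add x x' _ _ h h' =>
      obtain ⟨q, hq, hq2⟩ := h
      obtain ⟨q', hq', hq2'⟩ := h'
      exact ⟨q + q', add_mem hq hq', by rw [map_add, add_sub_add_comm]; exact add_mem hq2 hq2'⟩
    | smul c x hxmem h =>
      obtain ⟨q, hq, hq2⟩ := h
      obtain ⟨r, hr⟩ := ih c
      refine ⟨r * q, Ideal.mul_mem_left _ _ hq, ?_⟩
      have hψq : ψ q ∈ I.map (algebraMap A' B') := by
        have := Ideal.mem_map_of_mem ψ.toRingHom hq
        rw [Ideal.map_map] at this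
        have hC : ψ.toRingHom.comp MvPolynomial.C = algebraMap A' B' := RingHom.ext fun a => by simp [ψ]
        rwa [hC] at this
      have e : c • x - ψ (r * q) = c * (x - ψ q) + (c - ψ r) * ψ q := by
        rw [map_mul, smul_eq_mul]; ring
      rw [e]
      exact add_mem (Ideal.mul_mem_left _ _ hq2) (pow_succ (I.map (algebraMap A' B')) m ▸ Ideal.mul_mem_mul hr hψq)
  have happrox : ∀ m : ℕ, ∀ c : B', ∃ q, c - ψ q ∈ I.map (algebraMap A' B') ^ m := by
    intro m
    induction m with
    | zero => exact fun c => ⟨0, by simp⟩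
    | succ m ih =>
      intro c
      obtain ⟨z, hz⟩ := Ideal.Quotient.mk_surjective (π c)
      obtain ⟨z', rfl⟩ := hred z
      have hmem : c - ψ z' ∈ I.map (algebraMap A' B') := by
        rw [← hker, RingHom.mem_ker, map_sub, hcompat, hz, sub_self]
      obtain ⟨q, -, hq⟩ := hψI _ hmem m ih
      exact ⟨z' + q, by rwa [map_add, ← sub_sub]⟩
  have hN' : I.map (algebraMap A' B') ^ N = ⊥ := by rw [← Ideal.map_pow, hN, Ideal.zero_eq_bot, Ideal.map_bot]
  have hsurj : Function.Surjective ψ := fun c => by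
    obtain ⟨q, hq⟩ := happrox N c
    rw [hN', Ideal.mem_bot, sub_eq_zero] at hq
    exact ⟨q, hq.symm⟩
  -- lifts of the equations
  choose g hg using fun i => hred (f i)
  have hgI : ∀ i, ψ (g i) ∈ I.map (algebraMap A' B') := fun i => by
    rw [← hker, RingHom.mem_ker, hcompat, hg, Ideal.Quotient.eq_zero_iff_mem]
    exact Ideal.subset_span ⟨i, rfl⟩
  have hIP : ∀ i, ∃ q ∈ IP, ψ q = ψ (g i) := fun i => by
    obtain ⟨q, hq, hq2⟩ := hψI _ (hgI i) N (happrox N)
    rw [pow_succ, hN', Ideal.bot_mul, Ideal.mem_bot, sub_eq_zero] at hq2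
    exact ⟨q, hq, hq2.symm⟩
  choose q hq hqψ using hIP
  let f' := fun i => g i - q i
  have hf' : ∀ i, red (f' i) = f i := fun i => by
    have hz : red (q i) = 0 := by rw [← RingHom.mem_ker, hkerred]; exact hq i
    rw [map_sub, hg, hz, sub_zero]
  refine ⟨f', ψ, hf', hsurj, ?_, hcompat⟩
  set F := Ideal.span (Set.range f') with hF
  set Kψ := RingHom.ker ψ.toRingHom with hKψ
  have hFK : F ≤ Kψ := by
    rw [hF, Ideal.span_le]
    rintro _ ⟨i, rfl⟩
    simp [hKψ, f', hqψ]
  have hIK : ∀ x ∈ Kψ, x ∈ IP → x ∈ IP * Kψ := fun x hx hxI => by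
    let a : x.support → A' := fun σ => MvPolynomial.coeff σ.1 x
    let p : x.support → MvPolynomial (Fin n) A' := fun σ => MvPolynomial.monomial σ.1 1
    have hxs : x = ∑ σ, a σ • p σ := by
      conv_lhs => rw [MvPolynomial.as_sum x, ← Finset.sum_coe_sort]
      simp [a, p, MvPolynomial.smul_monomial]
    have hz : ∑ σ, a σ • ψ (p σ) = 0 := by
      have : ψ x = 0 := hx
      rw [hxs, map_sum] at this
      simpa only [map_smul] using this
    obtain ⟨l, C, z, hz1, hz2⟩ := Module.Flat.isTrivialRelation_of_sum_smul_eq_zero (R := A') (M := B') (f := a) (x := fun σ => ψ (p σ)) (by convert hz)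
    choose w hw using fun j => hsurj (z j)
    have hk : ∀ σ, p σ - ∑ j, C σ j • w j ∈ Kψ := fun σ => by
      show ψ _ = 0
      have h1 : ψ (p σ) = ∑ j, C σ j • z j := hz1 σ
      rw [map_sub, map_sum, h1, sub_eq_zero]
      simp only [map_smul, hw]
    have hxk : x = ∑ σ, a σ • (p σ - ∑ j, C σ j • w j) := by
      simp only [smul_sub, Finset.sum_sub_distrib, Finset.smul_sum, smul_smul]
      rw [Finset.sum_comm (γ := x.support)]
      simp only [← Finset.sum_smul, hz2, zero_smul, Finset.sum_const_zero, sub_zero]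
      exact hxs
    rw [hxk]
    refine Ideal.sum_mem _ fun σ _ => ?_
    rw [MvPolynomial.smul_eq_C_mul]
    exact Ideal.mul_mem_mul (Ideal.mem_map_of_mem _ (MvPolynomial.mem_map_C_iff.1 hxI σ.1)) (hk σ)
  have hK1 : Kψ ≤ F ⊔ IP * Kψ := fun x hx => by
    have hx0 : ψ x = 0 := hx
    have h : red x ∈ (Ideal.span (Set.range f)) := by rw [← Ideal.Quotient.eq_zero_iff_mem, ← hcompat, hx0, map_zero]
    have hFQ : F.map red = (Ideal.span (Set.range f)) := by
      rw [hF, Ideal.map_span, ← Set.range_comp, show red ∘ f' = f from funext hf']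
    rw [← hFQ, Ideal.mem_map_iff_of_surjective red hred] at h
    obtain ⟨z, hz, hzx⟩ := h
    have h1 : x - z ∈ IP := by rw [← hkerred, RingHom.mem_ker, map_sub, hzx, sub_self]
    refine Submodule.mem_sup.2 ⟨z, hz, x - z, hIK _ (sub_mem hx (hFK hz)) h1, add_sub_cancel z x⟩
  have hKm : ∀ k : ℕ, Kψ ≤ F ⊔ IP ^ k * Kψ := fun k => by
    induction k with
    | zero => rw [pow_zero, Ideal.one_eq_top, Ideal.top_mul]; exact le_sup_right
    | succ k ih =>
      refine ih.trans (sup_le le_sup_left ?_)
      refine (Ideal.mul_mono_right hK1).trans ?_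
      rw [Ideal.mul_sup, ← mul_assoc, ← pow_succ]
      exact sup_le (Ideal.mul_le_right.trans le_sup_left) le_sup_right
  refine le_antisymm ?_ hFK
  refine (hKm N).trans (sup_le le_rfl ?_)
  rw [← Ideal.map_pow, hN, Ideal.zero_eq_bot, Ideal.map_bot, Ideal.bot_mul]
  exact bot_le

end Groth.Agent.S13134
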