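import Groth.Statements.S13135
import Groth.Agent.Calg5.RelGCI
import Groth.Agent.Calg5.QFLocal

set_option autoImplicit false
universe u
open CAlg

namespace Groth.Agent.S13135

open RingTheory.Sequence Module in
/-- Cutting by a weakly regular sequence lowers the dimension by at least its length. -/
theorem supportDim_add_length_le {R : Type u} [CommRing R] [IsNoetherianRing R] (rs : List R) :
    ∀ (M : Type u) [AddCommGroup M] [Module R M] [Module.Finite R M], IsWeaklyRegular M rs →
      supportDim R (M ⧸ Ideal.ofList rs • (⊤ : Submodule R M)) + rs.length ≤ supportDim R M := by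
  induction rs with
  | nil =>
    intro M _ _ _ _
    rw [Ideal.ofList_nil, Submodule.bot_smul, List.length_nil, Nat.cast_zero, add_zero]
    exact (supportDim_eq_of_equiv (Submodule.quotEquivOfEqBot ⊥ rfl)).le
  | cons x rs ih =>
    intro M _ _ _ h
    rw [isWeaklyRegular_cons_iff] at h
    rw [supportDim_eq_of_equiv (Submodule.quotOfListConsSMulTopEquivQuotSMulTopInner M x _),
      List.length_cons, Nat.cast_add, Nat.cast_one, ← add_assoc]
    calc supportDim R (QuotSMulTop x M ⧸ Ideal.ofList rs • (⊤ : Submodule R (QuotSMulTop x M))) + rs.length + 1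
        ≤ supportDim R (QuotSMulTop x M) + 1 := by gcongr; exact ih _ h.2
      _ ≤ supportDim R M :=
        supportDim_quotSMulTop_succ_le_of_notMem_minimalPrimes (fun _ hp => h.1.notMem_of_mem_minimalPrimes hp)


/-- Let A' be an Artinian local ring, I a proper ideal, A = A'/I and f_1, …, f_m a regular sequence in
A[x_1, …, x_n]. For every choice of lifts f'_1, …, f'_m in A'[x_1, …, x_n] the quotient A'[x]/(f'_1,
…, f'_m) is flat over A' (so it is a flat lifting of A[x]/(f_1, …, f_m)). (The published statement
is for a surjection of local Artinian algebras with a fixed residue field over a ring of Witt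
vectors; only the Artinian local base and the proper ideal are used, which is the form taken here.) -/
theorem result
    {A' : Type u} [CommRing A'] [IsArtinianRing A'] [IsLocalRing A'] (I : Ideal A') (hI : I ≠ ⊤)
    {n m : ℕ} (f : Fin m → MvPolynomial (Fin n) (A' ⧸ I))
    (hreg : RingTheory.Sequence.IsRegular (MvPolynomial (Fin n) (A' ⧸ I)) (List.ofFn f))
    (f' : Fin m → MvPolynomial (Fin n) A') (hf' : ∀ i, MvPolynomial.map (Ideal.Quotient.mk I) (f' i) = f i) :
    Module.Flat A' (MvPolynomial (Fin n) A' ⧸ Ideal.span (Set.range f')) := by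
  classical
  have hI' := hI
  haveI : Nontrivial (A' ⧸ I) := Ideal.Quotient.nontrivial_iff.2 hI
  refine Groth.Calg5.QFLocal.flat_of_forall_maximal (B := MvPolynomial (Fin n) A') fun q hq => ⟨Localization.AtPrime q, inferInstance,
      inferInstance, inferInstance, inferInstance, inferInstance,
      ⟨IsLocalRing.maximalIdeal _, inferInstance, IsLocalization.AtPrime.comap_maximalIdeal _ q⟩, ?_⟩
  let S := Localization.AtPrime q
  suffices Module.Flat A' (S ⧸ (Ideal.span (Set.range f')).map (algebraMap (MvPolynomial (Fin n) A') S)) from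
    Module.Flat.of_linearEquiv ((Algebra.TensorProduct.quotIdealMapEquivTensorQuot S
      (Ideal.span (Set.range f'))).toLinearEquiv.restrictScalars A').symm
  by_cases hsub : Ideal.span (Set.range f') ≤ q
  swap
  · obtain ⟨x, hx, hxq⟩ := SetLike.not_le_iff_exists.1 hsub
    have htop : (Ideal.span (Set.range f')).map (algebraMap (MvPolynomial (Fin n) A') S) = ⊤ :=
      Ideal.eq_top_of_isUnit_mem _ (Ideal.mem_map_of_mem _ hx)
        (IsLocalization.map_units S (⟨x, hxq⟩ : q.primeCompl))
    haveI : Subsingleton (S ⧸ (Ideal.span (Set.range f')).map (algebraMap (MvPolynomial (Fin n) A') S)) :=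
      Ideal.Quotient.subsingleton_iff.mpr htop
    infer_instance
  -- the prime below is the maximal ideal
  have hp : q.comap (MvPolynomial.C (R := A')) = IsLocalRing.maximalIdeal A' :=
    IsLocalRing.eq_maximalIdeal (IsArtinianRing.isMaximal_of_isPrime _)
  set p := IsLocalRing.maximalIdeal A'
  have hA0 : ringKrullDim (A' ⧸ I) = 0 :=
    le_antisymm (Ring.krullDimLE_iff.1 inferInstance) ringKrullDim_nonneg_of_nontrivial
  -- dimension bound in `A[x]`
  have hd : ringKrullDim ((MvPolynomial (Fin n) (A' ⧸ I)) ⧸ Ideal.span (Set.range f)) + (m : WithBot ℕ∞) ≤ (n : WithBot ℕ∞) := by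
    have h1 := supportDim_add_length_le (List.ofFn f) (MvPolynomial (Fin n) (A' ⧸ I)) hreg.toIsWeaklyRegular
    rw [List.length_ofFn, Module.supportDim_self_eq_ringKrullDim,
      MvPolynomial.ringKrullDim_of_isNoetherianRing, hA0,
      Nat.card_fin, zero_add] at h1
    have e : Ideal.ofList (List.ofFn f) • (⊤ : Submodule (MvPolynomial (Fin n) (A' ⧸ I)) (MvPolynomial (Fin n) (A' ⧸ I))) = Ideal.span (Set.range f) := by
      rw [Ideal.smul_eq_mul, Ideal.mul_top, Ideal.ofList]
      exact congrArg Ideal.span (Set.ext fun x => by simp [List.mem_ofFn])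
    rw [e, Module.supportDim_quotient_eq_ringKrullDim] at h1
    exact h1
  -- comparison with the closed fibre
  have hIp : I ≤ p := IsLocalRing.le_maximalIdeal hI
  let u : (A' ⧸ I) →+* p.ResidueField :=
    Ideal.Quotient.lift I (algebraMap A' p.ResidueField) fun a ha =>
      Ideal.algebraMap_residueField_eq_zero.2 (hIp ha)
  have husurj : Function.Surjective u := fun z => by
    obtain ⟨a, rfl⟩ := Ideal.algebraMap_residueField_surjective p z
    exact ⟨Ideal.Quotient.mk I a, rfl⟩
  have hmapf : ∀ i, MvPolynomial.map u (f i) = MvPolynomial.map (algebraMap A' p.ResidueField) (f' i) := fun i => by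
    rw [← hf' i, MvPolynomial.map_map]
    rfl
  let P := MvPolynomial (Fin n) p.ResidueField
  let J : Ideal P := Ideal.span (Set.range fun i => MvPolynomial.map (algebraMap A' p.ResidueField) (f' i))
  have hle : Ideal.span (Set.range f) ≤ J.comap (MvPolynomial.map u) := by
    rw [Ideal.span_le]
    rintro _ ⟨i, rfl⟩
    exact Ideal.subset_span ⟨i, (hmapf i).symm⟩
  have hJ : ringKrullDim (P ⧸ J) ≤ ringKrullDim ((MvPolynomial (Fin n) (A' ⧸ I)) ⧸ Ideal.span (Set.range f)) :=
    ringKrullDim_le_of_surjective (Ideal.quotientMap J (MvPolynomial.map u) hle) (fun z => by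
      obtain ⟨w, rfl⟩ := Ideal.Quotient.mk_surjective z
      obtain ⟨v, rfl⟩ := MvPolynomial.map_surjective u husurj w
      exact ⟨Ideal.Quotient.mk _ v, Ideal.quotientMap_mk⟩)
  -- the fibre is nonempty
  haveI : Nontrivial (P ⧸ J) := by
    rw [Ideal.Quotient.nontrivial_iff]
    intro htop
    let g : (MvPolynomial (Fin n) A') →+* P := MvPolynomial.map (algebraMap A' p.ResidueField)
    have hgs : Function.Surjective g := MvPolynomial.map_surjective _ (Ideal.algebraMap_residueField_surjective p)
    have hker : RingHom.ker g ≤ q := by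
      rw [MvPolynomial.ker_map, Ideal.map_le_iff_le_comap]
      intro a ha
      show a ∈ q.comap MvPolynomial.C
      rw [hp]
      exact Ideal.algebraMap_residueField_eq_zero.1 (RingHom.mem_ker.1 ha)
    have hJ' : J ≤ q.map g := by
      rw [Ideal.span_le]
      rintro _ ⟨i, rfl⟩
      exact Ideal.mem_map_of_mem g (hsub (Ideal.subset_span ⟨i, rfl⟩))
    have hne : q.map g ≠ ⊤ := fun h => by
      have := congrArg (Ideal.comap g) h
      rw [Ideal.comap_map_of_surjective' g hgs, Ideal.comap_top, sup_eq_left.2 hker] at this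
      exact hq.ne_top this
    exact hne (top_le_iff.1 (htop ▸ hJ'))
  have hmn : m ≤ n := by
    have h0 : (0 : WithBot ℕ∞) ≤ ringKrullDim ((MvPolynomial (Fin n) (A' ⧸ I)) ⧸ Ideal.span (Set.range f)) :=
      ringKrullDim_nonneg_of_nontrivial.trans hJ
    have h2 : (m : WithBot ℕ∞) ≤ (n : WithBot ℕ∞) :=
      le_trans (by simpa using add_le_add h0 (le_refl (m : WithBot ℕ∞))) hd
    exact_mod_cast h2
  have hdim : ringKrullDim (p.Fiber ((MvPolynomial (Fin n) A') ⧸ Ideal.span (Set.range f'))) ≤ ((n - m : ℕ) : WithBot ℕ∞) := by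
    rw [ringKrullDim_eq_of_ringEquiv (Groth.Calg5.RelGCI.tensorQuotientEquiv p.ResidueField f').toRingEquiv]
    refine le_trans hJ ?_
    revert hd
    generalize ringKrullDim ((MvPolynomial (Fin n) (A' ⧸ I)) ⧸ Ideal.span (Set.range f)) = d
    intro hd
    induction d using WithBot.recBotCoe with
    | bot => exact bot_le
    | coe d =>
      have h3 : d + (m : ℕ∞) ≤ n := by exact_mod_cast hd
      induction d using ENat.recTopCoe with
      | top => simp at h3
      | coe d =>
        have h4 : d + m ≤ n := by exact_mod_cast h3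
        exact WithBot.coe_le_coe.2 (Nat.cast_le.2 (show d ≤ n - m by omega))
  haveI := (Groth.Calg5.RelGCI.regular_flat f' q hsub hmn p hp hdim).2 m
  have hEq : (Ideal.span (Set.range f')).map (algebraMap (MvPolynomial (Fin n) A') S) =
      Ideal.ofList (((List.ofFn f').take m).map (algebraMap (MvPolynomial (Fin n) A') S)) := by
    rw [show (List.ofFn f').take m = List.ofFn f' from List.take_of_length_le (by simp), List.map_ofFn,
      Ideal.map_span, ← Set.range_comp, Ideal.ofList]
    exact congrArg Ideal.span (Set.ext fun x => by simp [List.mem_ofFn])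
  exact Module.Flat.of_linearEquiv ((Submodule.quotEquivOfEq _ _ hEq).restrictScalars A')

end Groth.Agent.S13135
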