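import Groth.Statements.S13137
import Groth.Agent.FrobLCI.W2Base

set_option autoImplicit false
universe u v
open FrobAlg

namespace Groth.Agent.S13137

/-- For a perfect field k of characteristic p, a flat W₂(k)-algebra B and an ideal J of B, the quotient
B/J is flat over W₂(k) if and only if (p) ∩ J = pJ in B. (With B a flat lifting of A = B/pB this
says: B/J is a flat lifting of A modulo the image of J exactly when (p) ∩ J = pJ.) -/
theorem result
    (p : ℕ) [Fact p.Prime] (k : Type u) [Field k] [CharP k p] [PerfectRing k p]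
    (B : Type v) [CommRing B] [Algebra (FrobAlg.W2 p k) B] [Module.Flat (FrobAlg.W2 p k) B]
    (J : Ideal B) :
    Module.Flat (FrobAlg.W2 p k) (B ⧸ J) ↔
      Ideal.span {(p : B)} ⊓ J = Ideal.span {(p : B)} * J := by
  have hcast : ∀ b : B, (p : W2 p k) • b = (p : B) * b := fun b => by
    rw [Algebra.smul_def, map_natCast]
  have hB := (Groth.FrobLCI.W2.flat_iff (p := p) (k := k) B).1 inferInstance
  rw [Groth.FrobLCI.W2.flat_iff]
  constructor
  · intro H
    refine le_antisymm ?_ Ideal.mul_le_inf
    rintro b ⟨hb1, hb2⟩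
    obtain ⟨c, rfl⟩ := Ideal.mem_span_singleton.1 hb1
    obtain ⟨m', hm'⟩ := H (Submodule.Quotient.mk c) (by
      rw [← Submodule.Quotient.mk_smul, Submodule.Quotient.mk_eq_zero, hcast]
      exact hb2)
    obtain ⟨d, rfl⟩ := Submodule.Quotient.mk_surjective J m'
    rw [← Submodule.Quotient.mk_smul, Submodule.Quotient.eq, hcast] at hm'
    have : (p : B) * c = p * (c - p * d) := by
      have hpp : (p : B) * p = 0 := by
        rw [← map_natCast (algebraMap (W2 p k) B), ← map_mul,
          Groth.FrobLCI.W2.p_sq (CharP.cast_eq_zero k p), map_zero]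
      linear_combination d * hpp
    rw [this]
    exact Ideal.mul_mem_mul (Ideal.mem_span_singleton_self _) hm'
  · intro H m hm
    obtain ⟨c, rfl⟩ := Submodule.Quotient.mk_surjective J m
    rw [← Submodule.Quotient.mk_smul, Submodule.Quotient.mk_eq_zero, hcast] at hm
    obtain ⟨j, hj, hpj⟩ := Ideal.mem_span_singleton_mul.1
      (H ▸ Submodule.mem_inf.2 ⟨Ideal.mem_span_singleton.2 ⟨c, rfl⟩, hm⟩ :
        (p : B) * c ∈ Ideal.span {(p : B)} * J)
    obtain ⟨d, hd⟩ := hB (c - j) (by rw [hcast, mul_sub, hpj, sub_self])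
    refine ⟨Submodule.Quotient.mk d, ?_⟩
    rw [← Submodule.Quotient.mk_smul, Submodule.Quotient.eq, ← hd, sub_sub_cancel]
    exact hj

end Groth.Agent.S13137
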