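import Groth.Statements.S13138
import Groth.Agent.FrobLCI.W2Presentation

set_option autoImplicit false
universe u
open scoped BigOperators
open FrobAlg

namespace Groth.Agent.S13138

theorem sat_of_flat {p : ℕ} [Fact p.Prime] {k : Type u} [Field k] [CharP k p] [PerfectRing k p]
    {n : ℕ} (J : Ideal (MvPolynomial (Fin n) (W2 p k)))
    (hflat : ((Ideal.Quotient.mk J).comp (MvPolynomial.C : W2 p k →+* MvPolynomial (Fin n) (W2 p k))).Flat)
    (w : MvPolynomial (Fin n) (W2 p k)) (hw : (p : MvPolynomial (Fin n) (W2 p k)) * w ∈ J) :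
    (p : MvPolynomial (Fin n) (W2 p k)) * w ∈ Ideal.span {(p : MvPolynomial (Fin n) (W2 p k))} * J := by
  have hfl : Module.Flat (W2 p k) (MvPolynomial (Fin n) (W2 p k) ⧸ J) := RingHom.flat_algebraMap_iff.1 hflat
  have hs : ∀ q : MvPolynomial (Fin n) (W2 p k) ⧸ J, (p : W2 p k) • q = (p : MvPolynomial (Fin n) (W2 p k) ⧸ J) * q :=
    fun q => by rw [Nat.cast_smul_eq_nsmul, nsmul_eq_mul]
  obtain ⟨q, hq⟩ := (Groth.FrobLCI.W2.flat_iff (p := p) (k := k) _).1 hfl (Ideal.Quotient.mk J w) (by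
    rw [hs, ← map_natCast (Ideal.Quotient.mk J), ← map_mul]
    exact Ideal.Quotient.eq_zero_iff_mem.2 hw)
  obtain ⟨d, rfl⟩ := Ideal.Quotient.mk_surjective q
  rw [hs, ← map_natCast (Ideal.Quotient.mk J), ← map_mul, Ideal.Quotient.eq] at hq
  have h2 := Groth.FrobLCI.W2.isPFlat_mapRes (p := p) (k := k) (σ := Fin n)
  rw [show (p : MvPolynomial (Fin n) (W2 p k)) * w = p * (w - p * d) by linear_combination d * h2.pp]
  exact Ideal.mul_mem_mul (Ideal.mem_span_singleton_self _) hq

/-- Let k be a perfect field of characteristic p, R' = W₂(k)[x_1, …, x_n], f'_1, …, f'_m ∈ R' with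
reductions f_1, …, f_m ∈ R = k[x_1, …, x_n], J' = (f'_1, …, f'_m), J = (f_1, …, f_m), and assume B'
= R'/J' is flat over W₂(k), so that it is a flat lifting of B = R/J. The Frobenius of B lifts to B'
— there is a ring endomorphism of B' semilinear for the Witt-vector Frobenius σ₂ of W₂(k) and
reducing to the p-th power map of B — if and only if there are h_1, …, h_n ∈ R' with F'(f'_i) −
f'_i^p − p·Σ_j (∂f'_i/∂x_j)^p h_j ∈ pJ' for every i, where F' is the standard Frobenius lift of R'
(σ₂ on coefficients, x_j ↦ x_j^p). Since multiplication by p identifies R with pR', this is the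
congruence P(f'_i) ≡ Σ_j (∂f_i/∂x_j)^p h_j modulo J for the Frobenius residues P(f'_i) = (F'(f'_i) −
f'_i^p)/p. -/
theorem result
    (p : ℕ) [Fact p.Prime] (k : Type u) [Field k] [CharP k p] [PerfectRing k p]
    {n m : ℕ} (f' : Fin m → MvPolynomial (Fin n) (FrobAlg.W2 p k))
    (hflat : ((Ideal.Quotient.mk (Ideal.span (Set.range f'))).comp
      (MvPolynomial.C : FrobAlg.W2 p k →+* MvPolynomial (Fin n) (FrobAlg.W2 p k))).Flat) :
    (∃ Φ : (MvPolynomial (Fin n) (FrobAlg.W2 p k) ⧸ Ideal.span (Set.range f')) →+*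
        (MvPolynomial (Fin n) (FrobAlg.W2 p k) ⧸ Ideal.span (Set.range f')),
      Φ.comp ((Ideal.Quotient.mk (Ideal.span (Set.range f'))).comp MvPolynomial.C) =
        ((Ideal.Quotient.mk (Ideal.span (Set.range f'))).comp MvPolynomial.C).comp (FrobAlg.sigma p k) ∧
      ∀ b, Ideal.quotientMap ((Ideal.span (Set.range f')).map (MvPolynomial.map (FrobAlg.res p k)))
          (MvPolynomial.map (FrobAlg.res p k)) Ideal.le_comap_map (Φ b) =
        (Ideal.quotientMap ((Ideal.span (Set.range f')).map (MvPolynomial.map (FrobAlg.res p k)))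
          (MvPolynomial.map (FrobAlg.res p k)) Ideal.le_comap_map b) ^ p) ↔
    ∃ h : Fin n → MvPolynomial (Fin n) (FrobAlg.W2 p k), ∀ i,
      FrobAlg.polyFrob p k (Fin n) (f' i) - f' i ^ p
        - (p : MvPolynomial (Fin n) (FrobAlg.W2 p k)) * ∑ j, MvPolynomial.pderiv j (f' i) ^ p * h j
        ∈ Ideal.span {(p : MvPolynomial (Fin n) (FrobAlg.W2 p k))} * Ideal.span (Set.range f') := by
  set J := Ideal.span (Set.range f') with hJ
  have hφ := Groth.FrobLCI.W2.isPFlat_mapRes (p := p) (k := k) (σ := Fin n)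
  have crit := Groth.FrobLCI.W2.polyFrobH_mem_iff f' (sat_of_flat J hflat)
  constructor
  · rintro ⟨Φ, hsemi, hred⟩
    have hx : ∀ j, ∃ c, Φ (Ideal.Quotient.mk J (MvPolynomial.X j)) =
        Ideal.Quotient.mk J (MvPolynomial.X j ^ p + (p : MvPolynomial (Fin n) (W2 p k)) * c) := fun j => by
      obtain ⟨Y, hY⟩ := Ideal.Quotient.mk_surjective (Φ (Ideal.Quotient.mk J (MvPolynomial.X j)))
      have := hred (Ideal.Quotient.mk J (MvPolynomial.X j))
      rw [← hY, Ideal.quotientMap_mk, Ideal.quotientMap_mk, ← map_pow, ← map_pow, Ideal.Quotient.eq,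
        ← map_sub, Ideal.mem_map_iff_of_surjective _ hφ.surj] at this
      obtain ⟨z, hz, hzz⟩ := this
      obtain ⟨c, hc⟩ := hφ.ker (Y - MvPolynomial.X j ^ p - z) (by rw [map_sub, hzz, sub_self])
      refine ⟨c, hY.symm.trans (Ideal.Quotient.eq.2 ?_)⟩
      rw [← hc]
      convert hz using 1
      ring
    choose c hc using hx
    refine ⟨fun j => -c j, fun i => (crit _ i).1 ?_⟩
    simp only [neg_neg]
    have : Φ.comp (Ideal.Quotient.mk J) = (Ideal.Quotient.mk J).comp (Groth.FrobLCI.W2.polyFrobH c) := by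
      refine MvPolynomial.ringHom_ext (fun r => ?_) (fun j => ?_)
      · have := RingHom.congr_fun hsemi r
        rw [RingHom.comp_apply, RingHom.comp_apply, RingHom.comp_apply, RingHom.comp_apply] at this
        rw [RingHom.comp_apply, RingHom.comp_apply, this, Groth.FrobLCI.W2.polyFrobH,
          MvPolynomial.eval₂Hom_C, RingHom.comp_apply]
      · rw [RingHom.comp_apply, RingHom.comp_apply, hc, Groth.FrobLCI.W2.polyFrobH, MvPolynomial.eval₂Hom_X']
    have h0 := RingHom.congr_fun this (f' i)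
    rw [RingHom.comp_apply, RingHom.comp_apply,
      Ideal.Quotient.eq_zero_iff_mem.2 (Ideal.subset_span (Set.mem_range_self i)), map_zero] at h0
    exact Ideal.Quotient.eq_zero_iff_mem.1 h0.symm
  · rintro ⟨h, hh⟩
    refine ⟨Ideal.Quotient.lift J ((Ideal.Quotient.mk J).comp (Groth.FrobLCI.W2.polyFrobH fun j => -h j))
      (fun x hx => ?_), RingHom.ext fun r => ?_, fun b => ?_⟩
    · refine RingHom.mem_ker.1 ((Ideal.span_le.2 ?_) hx)
      rintro _ ⟨i, rfl⟩
      exact RingHom.mem_ker.2 (Ideal.Quotient.eq_zero_iff_mem.2 ((crit h i).2 (hh i)))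
    · rw [RingHom.comp_apply, RingHom.comp_apply, RingHom.comp_apply, RingHom.comp_apply,
        Ideal.Quotient.lift_mk, RingHom.comp_apply, Groth.FrobLCI.W2.polyFrobH, MvPolynomial.eval₂Hom_C,
        RingHom.comp_apply]
    · obtain ⟨F, rfl⟩ := Ideal.Quotient.mk_surjective b
      rw [Ideal.Quotient.lift_mk, RingHom.comp_apply, Ideal.quotientMap_mk, Ideal.quotientMap_mk,
        Groth.FrobLCI.W2.map_res_polyFrobH, map_pow]

end Groth.Agent.S13138
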