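import Groth.Statements.S13139
import Groth.Agent.FrobLCI.W2Presentation

set_option autoImplicit false
universe u
open scoped BigOperators
open FrobAlg

namespace Groth.Agent.S13139

/-- Let k be a perfect field of characteristic p and f_1, …, f_m a regular sequence in R = k[x_1, …,
x_n]. The complete intersection A = R/(f_1, …, f_m) lifts to W₂(k) compatibly with Frobenius if and
only if for some lifts f'_1, …, f'_m ∈ R' = W₂(k)[x_1, …, x_n] of the f_i and some h_1, …, h_n ∈ R'
one has F'(f'_i) − f'_i^p − p·Σ_j (∂f'_i/∂x_j)^p h_j ∈ p·(f'_1, …, f'_m) for every i, F' being the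
standard Frobenius lift of R'. In terms of Frobenius residues P(f') = (F'(f') − f'^p)/p ∈ R, which
change by g^p when f' changes by pg, this is the congruence P_{f_i} + g_i^p ≡ Σ_j (∂f_i/∂x_j)^p h_j
modulo (f_1, …, f_m) for some g_i, h_j. -/
theorem result
    (p : ℕ) [Fact p.Prime] (k : Type u) [Field k] [CharP k p] [PerfectRing k p]
    {n m : ℕ} (f : Fin m → MvPolynomial (Fin n) k)
    (hreg : RingTheory.Sequence.IsRegular (MvPolynomial (Fin n) k) (List.ofFn f)) :
    FrobAlg.IsFLiftable p k (MvPolynomial (Fin n) k ⧸ Ideal.span (Set.range f)) ↔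
    ∃ (f' : Fin m → MvPolynomial (Fin n) (FrobAlg.W2 p k)) (h : Fin n → MvPolynomial (Fin n) (FrobAlg.W2 p k)),
      (∀ i, MvPolynomial.map (FrobAlg.res p k) (f' i) = f i) ∧
      ∀ i, FrobAlg.polyFrob p k (Fin n) (f' i) - f' i ^ p
        - (p : MvPolynomial (Fin n) (FrobAlg.W2 p k)) * ∑ j, MvPolynomial.pderiv j (f' i) ^ p * h j
        ∈ Ideal.span {(p : MvPolynomial (Fin n) (FrobAlg.W2 p k))} * Ideal.span (Set.range f') := by
  have hφ := Groth.FrobLCI.W2.isPFlat_mapRes (p := p) (k := k) (σ := Fin n)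
  constructor
  · rintro ⟨B, _, ι, π, Φ, hB⟩
    have hπ := Groth.FrobLCI.W2.isPFlat_of_isLift hB.toIsLift
    let x : Fin n → B := fun j => hπ.sec (Ideal.Quotient.mk _ (MvPolynomial.X j))
    let g : MvPolynomial (Fin n) (W2 p k) →+* B := MvPolynomial.eval₂Hom ι x
    have hg : ∀ F, π (g F) = Ideal.Quotient.mk _ (MvPolynomial.map (res p k) F) := fun F => by
      have : π.comp g = (Ideal.Quotient.mk (Ideal.span (Set.range f))).comp (MvPolynomial.map (res p k)) := by
        refine MvPolynomial.ringHom_ext (fun r => ?_) (fun j => ?_)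
        · rw [RingHom.comp_apply, RingHom.comp_apply, MvPolynomial.eval₂Hom_C, MvPolynomial.map_C]
          exact RingHom.congr_fun hB.comm r
        · rw [RingHom.comp_apply, RingHom.comp_apply, MvPolynomial.eval₂Hom_X', MvPolynomial.map_X, hπ.pi_sec]
      exact RingHom.congr_fun this F
    have hgs : Function.Surjective g := fun b => by
      have hlift : ∀ b, ∃ F c, b = g F + (p : B) * c := fun b => by
        obtain ⟨Y, hY⟩ := Ideal.Quotient.mk_surjective (π b)
        obtain ⟨F, rfl⟩ := hφ.surj Y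
        obtain ⟨c, hc⟩ := hπ.ker (b - g F) (by rw [map_sub, hg, hY, sub_self])
        exact ⟨F, c, by rw [← hc]; ring⟩
      obtain ⟨F, c, rfl⟩ := hlift b
      obtain ⟨G, d, rfl⟩ := hlift c
      exact ⟨F + (p : MvPolynomial (Fin n) (W2 p k)) * G, by
        rw [map_add, map_mul, map_natCast]; linear_combination -d * hπ.pp⟩
    have hker : ∀ F, π (g F) = 0 → ∃ z, g F = g ((p : MvPolynomial (Fin n) (W2 p k)) * z) := fun F h0 => by
      obtain ⟨c, hc⟩ := hπ.ker _ h0
      obtain ⟨z, rfl⟩ := hgs c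
      exact ⟨z, by rw [hc, map_mul, map_natCast]⟩
    have hf : ∀ i, ∃ f' : MvPolynomial (Fin n) (W2 p k), g f' = 0 ∧ MvPolynomial.map (res p k) f' = f i := by
      intro i
      obtain ⟨y, hy⟩ := hφ.surj (f i)
      obtain ⟨z, hz⟩ := hker y (by
        rw [hg, hy, Ideal.Quotient.eq_zero_iff_mem]
        exact Ideal.subset_span (Set.mem_range_self i))
      exact ⟨y - (p : MvPolynomial (Fin n) (W2 p k)) * z, by rw [map_sub, hz, sub_self],
        by rw [map_sub, map_mul, hφ.pi_p, zero_mul, sub_zero, hy]⟩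
    choose f' hgf hf' using hf
    have hkerg : ∀ u, g u = 0 → u ∈ Ideal.span (Set.range f') := by
      have hstep : ∀ u, g u = 0 → ∃ a ∈ Ideal.span (Set.range f'), ∃ v,
          u = a + (p : MvPolynomial (Fin n) (W2 p k)) * v ∧ π (g v) = 0 := by
        intro u hu
        have hu' : MvPolynomial.map (res p k) u ∈ Ideal.span (Set.range f) := by
          rw [← Ideal.Quotient.eq_zero_iff_mem, ← hg, hu, map_zero]
        obtain ⟨b, hb⟩ := Ideal.mem_span_range_iff_exists_fun.1 hu'
        choose b' hb' using fun i => hφ.surj (b i)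
        have ha : ∑ i, b' i * f' i ∈ Ideal.span (Set.range f') :=
          Ideal.sum_mem _ fun i _ => Ideal.mul_mem_left _ _ (Ideal.subset_span (Set.mem_range_self i))
        obtain ⟨v, hv⟩ := hφ.ker (u - ∑ i, b' i * f' i) (by
          rw [map_sub, map_sum]
          simp only [map_mul, hb', hf']
          rw [hb, sub_self])
        refine ⟨_, ha, v, by rw [← hv]; ring, (hπ.tors _).1 ?_⟩
        rw [← map_natCast g, ← map_mul, ← hv, map_sub, map_sum, hu, zero_sub, neg_eq_zero]
        exact Finset.sum_eq_zero fun i _ => by rw [map_mul, hgf, mul_zero]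
      intro u hu
      obtain ⟨a, ha, v, rfl, hv⟩ := hstep u hu
      obtain ⟨z, hz⟩ := hker v hv
      obtain ⟨a', ha', v', hva, -⟩ := hstep (v - (p : MvPolynomial (Fin n) (W2 p k)) * z)
        (by rw [map_sub, hz, sub_self])
      rw [show (p : MvPolynomial (Fin n) (W2 p k)) * v = p * a' by
        linear_combination (p : MvPolynomial (Fin n) (W2 p k)) * hva + (z + v') * hφ.pp]
      exact add_mem ha (Ideal.mul_mem_left _ _ ha')
    have hJ : ∀ u, u ∈ Ideal.span (Set.range f') → g u = 0 := fun u hu =>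
      RingHom.mem_ker.1 ((Ideal.span_le.2 (by rintro _ ⟨i, rfl⟩; exact RingHom.mem_ker.2 (hgf i))) hu)
    have hsat : ∀ w, (p : MvPolynomial (Fin n) (W2 p k)) * w ∈ Ideal.span (Set.range f') →
        (p : MvPolynomial (Fin n) (W2 p k)) * w ∈
          Ideal.span {(p : MvPolynomial (Fin n) (W2 p k))} * Ideal.span (Set.range f') := by
      intro w hw
      have h0 : π (g w) = 0 := (hπ.tors _).1 (by rw [← map_natCast g, ← map_mul, hJ _ hw])
      obtain ⟨z, hz⟩ := hker w h0
      rw [show (p : MvPolynomial (Fin n) (W2 p k)) * w = p * (w - p * z) by linear_combination z * hφ.pp]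
      exact Ideal.mul_mem_mul (Ideal.mem_span_singleton_self _) (hkerg _ (by rw [map_sub, hz, sub_self]))
    have hx : ∀ j, ∃ c, Φ (x j) = g (MvPolynomial.X j ^ p + (p : MvPolynomial (Fin n) (W2 p k)) * c) :=
      fun j => by
      obtain ⟨c, hc⟩ := hπ.ker (Φ (x j) - x j ^ p) (by rw [map_sub, map_pow, hB.red, sub_self])
      obtain ⟨C', rfl⟩ := hgs c
      exact ⟨C', by rw [map_add, map_pow, map_mul, map_natCast, MvPolynomial.eval₂Hom_X', ← hc]; ring⟩
    choose c hc using hx
    have hcomm : Φ.comp g = g.comp (Groth.FrobLCI.W2.polyFrobH c) := by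
      refine MvPolynomial.ringHom_ext (fun r => ?_) (fun j => ?_)
      · rw [RingHom.comp_apply, RingHom.comp_apply, MvPolynomial.eval₂Hom_C,
          Groth.FrobLCI.W2.polyFrobH, MvPolynomial.eval₂Hom_C, RingHom.comp_apply, MvPolynomial.eval₂Hom_C]
        exact RingHom.congr_fun hB.semi r
      · rw [RingHom.comp_apply, RingHom.comp_apply, MvPolynomial.eval₂Hom_X', Groth.FrobLCI.W2.polyFrobH,
          MvPolynomial.eval₂Hom_X', hc]
    refine ⟨f', fun j => -c j, hf', fun i =>
      (Groth.FrobLCI.W2.polyFrobH_mem_iff f' hsat (fun j => -c j) i).1 ?_⟩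
    simp only [neg_neg]
    refine hkerg _ ?_
    rw [← RingHom.comp_apply, ← hcomm, RingHom.comp_apply, hgf, map_zero]
  · rintro ⟨f', h, hf', hh⟩
    obtain ⟨π, hπc, hπ⟩ :=
      Groth.FrobLCI.W2.isPFlat_quotient_of_weaklyRegular hφ f f' hf' hreg.toIsWeaklyRegular
    have hmk : ∀ F, π (Ideal.Quotient.mk _ F) = Ideal.Quotient.mk _ (MvPolynomial.map (res p k) F) :=
      fun F => RingHom.congr_fun hπc F
    have hsat : ∀ w, (p : MvPolynomial (Fin n) (W2 p k)) * w ∈ Ideal.span (Set.range f') →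
        (p : MvPolynomial (Fin n) (W2 p k)) * w ∈
          Ideal.span {(p : MvPolynomial (Fin n) (W2 p k))} * Ideal.span (Set.range f') := by
      intro w hw
      have h0 : π (Ideal.Quotient.mk _ w) = 0 := (hπ.tors _).1 (by
        rw [← map_natCast (Ideal.Quotient.mk _), ← map_mul, Ideal.Quotient.eq_zero_iff_mem.2 hw])
      obtain ⟨z, hz⟩ := hπ.ker _ h0
      obtain ⟨z, rfl⟩ := Ideal.Quotient.mk_surjective z
      rw [← map_natCast (Ideal.Quotient.mk _), ← map_mul, Ideal.Quotient.eq] at hz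
      rw [show (p : MvPolynomial (Fin n) (W2 p k)) * w = p * (w - p * z) by linear_combination z * hφ.pp]
      exact Ideal.mul_mem_mul (Ideal.mem_span_singleton_self _) hz
    refine ⟨_, inferInstance, (Ideal.Quotient.mk (Ideal.span (Set.range f'))).comp MvPolynomial.C, π,
      Ideal.Quotient.lift _ ((Ideal.Quotient.mk _).comp (Groth.FrobLCI.W2.polyFrobH fun j => -h j))
        (fun x hx => ?_), Groth.FrobLCI.W2.isLift_of_isPFlat hπ (RingHom.ext fun r => ?_),
      RingHom.ext fun r => ?_, fun b => ?_⟩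
    · refine RingHom.mem_ker.1 ((Ideal.span_le.2 ?_) hx)
      rintro _ ⟨i, rfl⟩
      exact RingHom.mem_ker.2 (Ideal.Quotient.eq_zero_iff_mem.2
        ((Groth.FrobLCI.W2.polyFrobH_mem_iff f' hsat h i).2 (hh i)))
    · rw [RingHom.comp_apply, RingHom.comp_apply, hmk, MvPolynomial.map_C]
      rfl
    · rw [RingHom.comp_apply, RingHom.comp_apply, RingHom.comp_apply, RingHom.comp_apply,
        Ideal.Quotient.lift_mk, RingHom.comp_apply, Groth.FrobLCI.W2.polyFrobH, MvPolynomial.eval₂Hom_C,
        RingHom.comp_apply]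
    · obtain ⟨F, rfl⟩ := Ideal.Quotient.mk_surjective b
      rw [Ideal.Quotient.lift_mk, RingHom.comp_apply, hmk, hmk,
        Groth.FrobLCI.W2.map_res_polyFrobH, map_pow]

end Groth.Agent.S13139
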