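import Groth.Statements.S13140
import Mathlib.RepresentationTheory.Maschke
-- helpers

set_option autoImplicit false
universe u v w
open GrpAlg

namespace Groth.Agent.S13140

/-- Let G be a finite group, R a commutative ring in which |G| is a unit, and M a module over the group
algebra R[G] whose underlying R-module is projective. Then M is a projective R[G]-module. -/
theorem result
    (R : Type u) [CommRing R] (G : Type v) [Group G] [Finite G] (hG : IsUnit ((Nat.card G : ℕ) : R))
    (M : Type w) [AddCommGroup M] [Module R M] [Module (MonoidAlgebra R G) M]
    [IsScalarTower R (MonoidAlgebra R G) M] [Module.Projective R M] :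
    Module.Projective (MonoidAlgebra R G) M := by
  have := Fintype.ofFinite G
  let π : (M →₀ MonoidAlgebra R G) →ₗ[MonoidAlgebra R G] M := Finsupp.linearCombination _ id
  have hs : Function.Surjective π := Finsupp.linearCombination_surjective _ Function.surjective_id
  obtain ⟨s, hs'⟩ := Module.projective_lifting_property (π.restrictScalars R) LinearMap.id hs
  have hG' : IsUnit ((Fintype.card G : ℕ) : R) := by rwa [← Nat.card_eq_fintype_card]
  refine Module.projective_def'.2 ⟨s.equivariantProjection G, ?_⟩
  ext m
  have hπ : ∀ x, π (s x) = x := fun x => LinearMap.congr_fun hs' x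
  simp only [π, LinearMap.comp_apply, LinearMap.id_apply, LinearMap.equivariantProjection_apply, map_sum,
    LinearMap.map_smul_of_tower, LinearMap.conjugate_apply, map_smul, hπ, smul_smul, MonoidAlgebra.single_mul_single,
    inv_mul_cancel, mul_one, ← MonoidAlgebra.one_def, one_smul]
  rw [Finset.sum_const, Finset.card_univ, ← Nat.cast_smul_eq_nsmul R, smul_smul, Nat.card_eq_fintype_card,
    Ring.inverse_mul_cancel _ hG', one_smul]

end Groth.Agent.S13140
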