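import Groth.Statements.S13141
import Mathlib.RepresentationTheory.Invariants
import Mathlib.Tactic

set_option autoImplicit false
universe u v w w'
open scoped TensorProduct
open GrpAlg

namespace Groth.Agent.S13141

/-- Let G be a finite group, R a commutative ring with |G| invertible in R, M a projective R-module with
an R-linear G-action and S an R-algebra. The natural map M^G ⊗_R S → M ⊗_R S is injective and its
image is the submodule of G-invariants of M ⊗_R S (G acting on the first factor); that is, M^G ⊗_R S
→ (M ⊗_R S)^G is bijective. -/
theorem result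
    (R : Type u) [CommRing R] (G : Type v) [Group G] [Finite G] (hG : IsUnit ((Nat.card G : ℕ) : R))
    (M : Type w) [AddCommGroup M] [Module R M] [Module.Projective R M] (ρ : Representation R G M)
    (S : Type w') [CommRing S] [Algebra R S] :
    Function.Injective (TensorProduct.map ρ.invariants.subtype (LinearMap.id : S →ₗ[R] S)) ∧
    LinearMap.range (TensorProduct.map ρ.invariants.subtype (LinearMap.id : S →ₗ[R] S)) =
      ⨅ g : G, LinearMap.eqLocus (LinearMap.rTensor S (ρ g)) LinearMap.id := by
  have := Fintype.ofFinite G
  have : Invertible (Fintype.card G : R) := by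
    rw [← Nat.card_eq_fintype_card]; exact hG.invertible
  let e : M →ₗ[R] ρ.invariants := LinearMap.codRestrict _ ρ.averageMap (ρ.averageMap_invariant)
  have he : e ∘ₗ ρ.invariants.subtype = LinearMap.id := by
    ext v; exact ρ.averageMap_id v v.2
  refine ⟨Function.LeftInverse.injective (g := TensorProduct.map e LinearMap.id) fun x => ?_, ?_⟩
  · rw [← LinearMap.comp_apply, ← TensorProduct.map_comp, he, LinearMap.id_comp, TensorProduct.map_id, LinearMap.id_apply]
  · refine le_antisymm ?_ ?_
    · rintro _ ⟨x, rfl⟩
      simp only [Submodule.mem_iInf, LinearMap.mem_eqLocus]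
      intro g
      have : ρ g ∘ₗ ρ.invariants.subtype = ρ.invariants.subtype := by ext v; exact v.2 g
      rw [LinearMap.rTensor, ← LinearMap.comp_apply, ← TensorProduct.map_comp, this, LinearMap.id_comp, LinearMap.id_apply]
    · intro x hx
      simp only [Submodule.mem_iInf, LinearMap.mem_eqLocus, LinearMap.id_apply] at hx
      refine ⟨TensorProduct.map e LinearMap.id x, ?_⟩
      rw [← LinearMap.comp_apply, ← TensorProduct.map_comp, LinearMap.id_comp,
        show ρ.invariants.subtype ∘ₗ e = ρ.averageMap from rfl]
      have : ρ.averageMap = ⅟(Fintype.card G : R) • ∑ g : G, ρ g := by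
        ext v; simp [Representation.averageMap, GroupAlgebra.average, Representation.asAlgebraHom_def, MonoidAlgebra.of_apply]
      rw [show TensorProduct.map ρ.averageMap LinearMap.id = LinearMap.rTensorHom S ρ.averageMap from rfl,
        this, map_smul, map_sum, LinearMap.smul_apply, LinearMap.sum_apply]
      simp [LinearMap.coe_rTensorHom, hx, ← Nat.cast_smul_eq_nsmul R, smul_smul]

end Groth.Agent.S13141
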