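import Groth.Statements.S13142
import Mathlib.RingTheory.Flat.Basic
import Mathlib.Tactic

set_option autoImplicit false
universe u v
open GrpAlg

namespace Groth.Agent.S13142

/-- Let G be a finite group and R a commutative ring with |G| invertible in R, acting on R[x_1, …, x_n]
by R-algebra automorphisms. The invariant subring R[x_1, …, x_n]^G is a flat R-module (so the
quotient of affine n-space over R by G is flat over R). -/
theorem result
    (R : Type u) [CommRing R] (G : Type v) [Group G] [Finite G] (hG : IsUnit ((Nat.card G : ℕ) : R))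
    (n : ℕ) (ρ : G →* (MvPolynomial (Fin n) R ≃ₐ[R] MvPolynomial (Fin n) R)) :
    Module.Flat R ↥(⨅ g : G, LinearMap.eqLocus (ρ g).toLinearMap (LinearMap.id : MvPolynomial (Fin n) R →ₗ[R] MvPolynomial (Fin n) R)) := by
  have := Fintype.ofFinite G
  set I := (⨅ g : G, LinearMap.eqLocus (ρ g).toLinearMap (LinearMap.id : MvPolynomial (Fin n) R →ₗ[R] MvPolynomial (Fin n) R))
  obtain ⟨u, hu⟩ := hG
  let e : MvPolynomial (Fin n) R →ₗ[R] MvPolynomial (Fin n) R := (↑u⁻¹ : R) • ∑ g : G, (ρ g).toLinearMap
  have hmem : ∀ v, e v ∈ I := by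
    intro v
    simp only [I, Submodule.mem_iInf, LinearMap.mem_eqLocus, LinearMap.id_apply]
    intro h
    simp only [e, LinearMap.smul_apply, LinearMap.sum_apply, map_smul, map_sum, AlgEquiv.toLinearMap_apply]
    congr 1
    exact Fintype.sum_bijective (h * ·) (Group.mulLeft_bijective h) _ _ fun g => by simp [map_mul]
  refine Module.Flat.of_retract I.subtype (LinearMap.codRestrict I e hmem) ?_
  ext ⟨v, hv⟩
  simp only [I, Submodule.mem_iInf, LinearMap.mem_eqLocus, LinearMap.id_apply, AlgEquiv.toLinearMap_apply] at hv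
  simp [e, hv, ← Nat.cast_smul_eq_nsmul R, smul_smul, ← Nat.card_eq_fintype_card, ← hu]

end Groth.Agent.S13142
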