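import Groth.Statements.S13143
import Groth.Agent.FrobLCI.W2Lift

set_option autoImplicit false
universe u
open FrobAlg

namespace Groth.Agent.S13143

/-- Let k be a perfect field of characteristic p and A → B a homomorphism of Noetherian k-algebras with
an A-linear retraction B → A. If B lifts flatly to W₂(k), so does A. (The published statement
phrases the descent for finite surjective morphisms of degree prime to p, via a trace splitting; the
argument uses exactly an A-linear splitting of A → B for an affine morphism, which is the hypothesis
taken here.) -/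
theorem result
    (p : ℕ) [Fact p.Prime] (k : Type u) [Field k] [CharP k p] [PerfectRing k p]
    (A B : Type u) [CommRing A] [CommRing B] [Algebra k A] [Algebra k B]
    [IsNoetherianRing A] [IsNoetherianRing B] [Algebra A B] [IsScalarTower k A B]
    (r : B →ₗ[A] A) (hr : ∀ a : A, r (algebraMap A B a) = a)
    (hB : FrobAlg.IsW2Liftable p k B) : FrobAlg.IsW2Liftable p k A := by
  obtain ⟨B', _, ιB, πB, hB⟩ := hB
  have h := Groth.FrobLCI.W2.isPFlat_of_isLift hB
  let q : MvPolynomial A (FrobAlg.W2 p k) →+* A :=
    MvPolynomial.eval₂Hom ((algebraMap k A).comp (FrobAlg.res p k)) id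
  let g : MvPolynomial A (FrobAlg.W2 p k) →+* B' :=
    MvPolynomial.eval₂Hom ιB fun a => h.sec (algebraMap A B a)
  have hg : ∀ x, πB (g x) = algebraMap A B (q x) := by
    intro x
    have : πB.comp g = (algebraMap A B).comp q := by
      refine MvPolynomial.ringHom_ext (fun w => ?_) fun a => ?_
      · have := RingHom.congr_fun hB.comm w
        simp only [RingHom.comp_apply, g, q, MvPolynomial.eval₂Hom_C] at this ⊢
        rw [this, ← IsScalarTower.algebraMap_apply]
      · simp [g, q, h.pi_sec]
    exact RingHom.congr_fun this x
  let ψ := Groth.FrobLCI.W2.psi q h (algebraMap A B) g hg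
  refine Groth.FrobLCI.W2.isW2Liftable_of_functional MvPolynomial.C q
    (RingHom.ext fun w => by simp [q]) (fun a => ⟨MvPolynomial.X a, by simp [q]⟩)
    (r.toAddMonoidHom.comp ψ) (fun c x => ?_) (fun hp' => ?_)
  · rw [AddMonoidHom.comp_apply, Groth.FrobLCI.W2.psi_smul q h (algebraMap A B) g hg c x,
      ← Algebra.smul_def]
    exact r.map_smul (q c) _
  · rw [AddMonoidHom.comp_apply, Groth.FrobLCI.W2.psi_p q h (algebraMap A B) g hg hp']
    change r 1 = 1
    rw [← map_one (algebraMap A B), hr]

end Groth.Agent.S13143
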