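import Groth.Statements.S13144
import Groth.Agent.FrobLCI.W2Base

set_option autoImplicit false
universe u
open FrobAlg

namespace Groth.Agent.S13144

/-- Let k be a perfect field of characteristic p, A → B a homomorphism of Noetherian k-algebras with an
A-linear retraction B → A, and A' → B' a homomorphism over W₂(k) between flat liftings of A and B
which reduces to A → B. If the Frobenius of B lifts to B' (a σ₂-semilinear ring endomorphism
reducing to the p-th power map), then the Frobenius of A lifts to A'. (The published statement is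
for an affine morphism whose map on structure sheaves splits linearly; the affine case with an
A-linear splitting is taken here.) -/
theorem result
    (p : ℕ) [Fact p.Prime] (k : Type u) [Field k] [CharP k p] [PerfectRing k p]
    (A B : Type u) [CommRing A] [CommRing B] [Algebra k A] [Algebra k B]
    [IsNoetherianRing A] [IsNoetherianRing B] [Algebra A B] [IsScalarTower k A B]
    (r : B →ₗ[A] A) (hr : ∀ a : A, r (algebraMap A B a) = a)
    (A' B' : Type u) [CommRing A'] [CommRing B']
    (ιA : FrobAlg.W2 p k →+* A') (πA : A' →+* A) (hA : FrobAlg.IsLift p k A A' ιA πA)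
    (ιB : FrobAlg.W2 p k →+* B') (πB : B' →+* B) (hB : FrobAlg.IsLift p k B B' ιB πB)
    (φ' : A' →+* B') (hφι : φ'.comp ιA = ιB) (hφπ : πB.comp φ' = (algebraMap A B).comp πA)
    (ΦB : B' →+* B') (hΦB : FrobAlg.IsFrobLift p k B B' ιB πB ΦB) :
    ∃ ΦA : A' →+* A', FrobAlg.IsFrobLift p k A A' ιA πA ΦA := by
  open Groth.FrobLCI.W2 in
  have hA' := isPFlat_of_isLift hA
  have hB' := Groth.FrobLCI.W2.isPFlat_of_isLift hB
  have hπ : ∀ x, πB (φ' x) = algebraMap A B (πA x) := fun x => RingHom.congr_fun hφπ x
  have heps : ∀ a, φ' (hA'.eps a) = hB'.eps (algebraMap A B a) := fun a => by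
    obtain ⟨c, rfl⟩ := hA'.surj a
    rw [hA'.eps_pi, ← hπ, hB'.eps_pi, map_mul, map_natCast]
  have hex : ∀ x, ∃ d, hB'.eps d = ΦB (φ' x) - φ' x ^ p := fun x =>
    hB'.exists_eps (by rw [map_sub, map_pow, hΦB.red, sub_self])
  choose D hD using hex
  have hpne := (Fact.out : p.Prime).ne_zero
  let Ψ : A' →+* A' :=
    { toFun := fun x => x ^ p + hA'.eps (r (D x))
      map_one' := by
        have : D 1 = 0 := hB'.eps_injective (by rw [hD, map_one, map_one, one_pow, sub_self, map_zero])
        simp [this]
      map_zero' := by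
        have : D 0 = 0 := hB'.eps_injective
          (by rw [hD, map_zero, map_zero, zero_pow hpne, sub_self, map_zero])
        simp [this, zero_pow hpne]
      map_mul' := fun x y => by
        have : D (x * y) = algebraMap A B (πA x ^ p) * D y + algebraMap A B (πA y ^ p) * D x := by
          have hπp : ∀ z, algebraMap A B (πA z ^ p) = πB (φ' z ^ p) := fun z => by
            rw [map_pow, map_pow, hπ]
          apply hB'.eps_injective
          rw [hπp, hπp, map_add, ← hB'.mul_eps, ← hB'.mul_eps, hD, hD, hD, map_mul, map_mul, mul_pow]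
          have h0 : (ΦB (φ' x) - φ' x ^ p) * (ΦB (φ' y) - φ' y ^ p) = 0 := by
            rw [← hD, ← hD, hB'.eps_mul_eps]
          linear_combination h0
        rw [this, r.map_add, map_add, ← Algebra.smul_def, ← Algebra.smul_def, r.map_smul, r.map_smul,
          smul_eq_mul, smul_eq_mul, ← map_pow, ← map_pow, ← hA'.mul_eps, ← hA'.mul_eps]
        linear_combination -(hA'.eps_mul_eps (r (D x)) (r (D y)))
      map_add' := fun x y => by
        obtain ⟨c, hc⟩ := exists_add_pow_prime_eq (Fact.out : p.Prime) x y
        have : D (x + y) = D x + D y - algebraMap A B (πA (x * y * c)) := by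
          apply hB'.eps_injective
          rw [map_sub, map_add, hD, hD, hD, ← heps, hA'.eps_pi, map_add, map_add]
          have := congrArg φ' hc
          simp only [map_add, map_mul, map_pow, map_natCast] at this ⊢
          linear_combination -this
        rw [this, map_sub, map_add, map_sub, map_add, hr, hA'.eps_pi, hc]
        ring }
  refine ⟨Ψ, hA, RingHom.ext fun w => ?_, fun b => ?_⟩
  · have hk := Groth.FrobLCI.W2.isPFlat_res (p := p) (k := k)
    have hs : sigma p k w = w ^ p + hk.eps (w.coeff 1) := by
      rw [← Groth.FrobLCI.W2.ghost_res_eq_sigma]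
      exact hk.ghost_eq w (by simp)
    have hD' : D (ιA w) = algebraMap A B (algebraMap k A (w.coeff 1)) := by
      apply hB'.eps_injective
      obtain ⟨c, hc⟩ := hk.surj (w.coeff 1)
      rw [hD, ← heps, ← hc]
      have h1 : algebraMap k A (res p k c) = πA (ιA c) := (RingHom.congr_fun hA.comm c).symm
      rw [h1, hA'.eps_pi]
      have h2 : φ' (ιA w) = ιB w := RingHom.congr_fun hφι w
      have h3 : ΦB (ιB w) = ιB (sigma p k w) := RingHom.congr_fun hΦB.semi w
      have h4 : φ' (ιA c) = ιB c := RingHom.congr_fun hφι c
      rw [h2, h3, hs, ← hc, hk.eps_pi, map_add, map_mul, map_mul, map_pow, map_natCast, map_natCast, h4]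
      ring
    change ιA w ^ p + hA'.eps (r (D (ιA w))) = ιA (sigma p k w)
    obtain ⟨c, hc⟩ := hk.surj (w.coeff 1)
    have h1 : algebraMap k A (res p k c) = πA (ιA c) := (RingHom.congr_fun hA.comm c).symm
    rw [hD', hr, hs, ← hc, h1, hA'.eps_pi, hk.eps_pi, map_add, map_pow, map_mul, map_natCast]
  · change πA (b ^ p + hA'.eps _) = _
    rw [map_add, hA'.pi_eps, add_zero, map_pow]

end Groth.Agent.S13144
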