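import Groth.Statements.S13145
import Groth.Agent.FrobLCI.W2Lift

set_option autoImplicit false
universe u
open FrobAlg

namespace Groth.Agent.S13145

/-- For liftings over W₂(k) — let k be a perfect field of characteristic p, A a k-algebra essentially of
finite type and A → B étale and faithfully flat. If B lifts flatly to W₂(k) then so does A. (The
published statement allows an étale surjective cover of Spec A by a scheme; an affine cover is taken
here, to which the published argument reduces.) -/
theorem result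
    (p : ℕ) [Fact p.Prime] (k : Type u) [Field k] [CharP k p] [PerfectRing k p]
    (A B : Type u) [CommRing A] [CommRing B] [Algebra k A] [Algebra.EssFiniteType k A]
    [Algebra A B] [Algebra.Etale A B] [Module.FaithfullyFlat A B] [Algebra k B] [IsScalarTower k A B]
    (hB : FrobAlg.IsW2Liftable p k B) : FrobAlg.IsW2Liftable p k A := by
  classical
  obtain ⟨B', _, ιB, πB, hB⟩ := hB
  have h := Groth.FrobLCI.W2.isPFlat_of_isLift hB
  have : IsNoetherianRing A := Algebra.EssFiniteType.isNoetherianRing k A
  let s := Algebra.EssFiniteType.finset k A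
  let q₀ : MvPolynomial s (FrobAlg.W2 p k) →+* A :=
    MvPolynomial.eval₂Hom ((algebraMap k A).comp (FrobAlg.res p k)) Subtype.val
  have hadj : ∀ y ∈ Algebra.adjoin k (s : Set A), ∃ z, q₀ z = y := by
    intro y hy
    induction hy using Algebra.adjoin_induction with
    | mem x hx => exact ⟨MvPolynomial.X ⟨x, hx⟩, by simp [q₀]⟩
    | algebraMap c =>
      obtain ⟨w, rfl⟩ := Groth.FrobLCI.W2.res_surjective (p := p) c
      exact ⟨MvPolynomial.C w, by simp [q₀]⟩
    | add x y _ _ hx hy =>
      obtain ⟨a, rfl⟩ := hx; obtain ⟨b, rfl⟩ := hy; exact ⟨a + b, map_add _ _ _⟩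
    | mul x y _ _ hx hy =>
      obtain ⟨a, rfl⟩ := hx; obtain ⟨b, rfl⟩ := hy; exact ⟨a * b, map_mul _ _ _⟩
  let S : Submonoid (MvPolynomial s (FrobAlg.W2 p k)) := (IsUnit.submonoid A).comap q₀
  have hS : ∀ z : S, IsUnit (q₀ z) := fun z => z.2
  let q : Localization S →+* A := IsLocalization.lift (M := S) hS
  have hsurj : Function.Surjective q := by
    intro a
    obtain ⟨t, ht, htu, hat⟩ := (Algebra.essFiniteType_cond_iff k A s).1
      (Algebra.EssFiniteType.isLocalization (R := k) (S := A)) a
    obtain ⟨zt, rfl⟩ := hadj t ht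
    obtain ⟨z, hz⟩ := hadj _ hat
    refine ⟨IsLocalization.mk' (Localization S) z (⟨zt, htu⟩ : S), ?_⟩
    rw [IsLocalization.lift_mk'_spec, hz]
    exact mul_comm _ _
  let g₀ : MvPolynomial s (FrobAlg.W2 p k) →+* B' :=
    MvPolynomial.eval₂Hom ιB fun a => h.sec (algebraMap A B a.1)
  have hg₀ : πB.comp g₀ = (algebraMap A B).comp q₀ := by
    refine MvPolynomial.ringHom_ext (fun w => ?_) fun a => ?_
    · have := RingHom.congr_fun hB.comm w
      simp only [RingHom.comp_apply, g₀, q₀, MvPolynomial.eval₂Hom_C] at this ⊢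
      rw [this, ← IsScalarTower.algebraMap_apply]
    · simp [g₀, q₀, h.pi_sec]
  have hgu : ∀ z : S, IsUnit (g₀ z) := fun z => h.isUnit_of_isUnit (by
    rw [← RingHom.comp_apply, hg₀, RingHom.comp_apply]
    exact (hS z).map _)
  let g : Localization S →+* B' := IsLocalization.lift (M := S) hgu
  have hg : ∀ x, πB (g x) = algebraMap A B (q x) := by
    intro x
    have : πB.comp g = (algebraMap A B).comp q := IsLocalization.ringHom_ext S (RingHom.ext fun z => by
      simp only [RingHom.comp_apply, g, q, IsLocalization.lift_eq]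
      exact RingHom.congr_fun hg₀ z)
    exact RingHom.congr_fun this x
  let ψ := Groth.FrobLCI.W2.psi q h (algebraMap A B) g hg
  have hNP : IsNoetherianRing (Localization S) := IsLocalization.isNoetherianRing S _ inferInstance
  obtain ⟨m, φ, hφ⟩ := Module.Finite.exists_fin' (Localization S) (RingHom.ker q)
  obtain ⟨l, N, hN⟩ := Submodule.fg_iff_exists_fin_generating_family.1
    (IsNoetherian.noetherian (LinearMap.ker φ))
  have hp0 : (p : Localization S) ∈ RingHom.ker q := by
    rw [RingHom.mem_ker, map_natCast, Groth.FrobLCI.W2.cast_p_algebra (p := p) (k := k) A]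
  obtain ⟨c₁, hc₁⟩ := hφ ⟨_, hp0⟩
  have hψ : ∀ z : Fin m → Localization S,
      ψ (φ z) = ∑ i, algebraMap A B (q (z i)) * ψ (φ (Pi.single i 1)) := fun z => by
    conv_lhs => rw [pi_eq_sum_univ' z]
    rw [map_sum, map_sum]
    refine Finset.sum_congr rfl fun i _ => ?_
    rw [map_smul]
    exact Groth.FrobLCI.W2.psi_smul q h (algebraMap A B) g hg _ _
  obtain ⟨v, hv⟩ := Groth.FrobLCI.W2.exists_solution_of_faithfullyFlat (B := B)
    (fun (j : Fin l ⊕ Unit) i => q (Sum.elim N (fun _ => c₁) j i))
    (Sum.elim (fun _ => 0) (fun _ => 1)) (fun i => ψ (φ (Pi.single i 1))) (by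
      rintro (j | j)
      · have : φ (N j) = 0 := LinearMap.mem_ker.1 (hN ▸ Submodule.subset_span ⟨j, rfl⟩)
        simp only [Sum.elim_inl]
        rw [← hψ, this, map_zero, map_zero]
      · simp only [Sum.elim_inr]
        rw [← hψ, hc₁, map_one]
        exact Groth.FrobLCI.W2.psi_p q h (algebraMap A B) g hg hp0)
  let χ₀ : (Fin m → Localization S) →+ A :=
    { toFun := fun z => ∑ i, q (z i) * v i
      map_zero' := by simp
      map_add' := fun a b => by simp [add_mul, Finset.sum_add_distrib] }
  have hker : ∀ z, φ z = 0 → χ₀ z = 0 := by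
    intro z hz
    have hz' : z ∈ Submodule.span (Localization S) (Set.range N) := hN.symm ▸ LinearMap.mem_ker.2 hz
    induction hz' using Submodule.span_induction with
    | mem y hy => obtain ⟨j, rfl⟩ := hy; exact hv (Sum.inl j)
    | zero => exact map_zero _
    | add y y' hy1 hy2 h1 h2 =>
      have hy : ∀ y ∈ Submodule.span (Localization S) (Set.range N), φ y = 0 := fun y hy =>
        LinearMap.mem_ker.1 (hN ▸ hy)
      rw [map_add, h1 (hy y hy1), h2 (hy y' hy2), add_zero]
    | smul a y hy1 h1 =>
      have := h1 (LinearMap.mem_ker.1 (hN ▸ hy1))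
      change ∑ i, q ((a • y) i) * v i = 0
      simp only [Pi.smul_apply, smul_eq_mul, map_mul, mul_assoc, ← Finset.mul_sum]
      rw [show ∑ i, q (y i) * v i = 0 from this, mul_zero]
  have hwd : ∀ {z z'}, φ z = φ z' → χ₀ z = χ₀ z' := fun {z z'} e => by
    rw [← sub_eq_zero, ← map_sub]
    exact hker _ (by rw [map_sub, e, sub_self])
  choose sec hsec using hφ
  let χ : RingHom.ker q →+ A :=
    { toFun := fun x => χ₀ (sec x)
      map_zero' := (hwd (by rw [hsec, map_zero])).trans (map_zero _)
      map_add' := fun x y => (hwd (by rw [hsec, map_add, hsec, hsec])).trans (map_add _ _ _) }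
  refine Groth.FrobLCI.W2.isW2Liftable_of_functional
    ((algebraMap (MvPolynomial s (FrobAlg.W2 p k)) (Localization S)).comp MvPolynomial.C) q
    (RingHom.ext fun w => by simp [q, q₀, IsLocalization.lift_eq]) hsurj χ (fun c x => ?_) (fun hp' => ?_)
  · refine (hwd (z' := c • sec x) (by rw [hsec, map_smul, hsec])).trans ?_
    change ∑ i, q ((c • sec x) i) * v i = q c * ∑ i, q (sec x i) * v i
    simp [Finset.mul_sum, mul_assoc]
  · exact (hwd (z' := c₁) (by rw [hsec, hc₁])).trans (hv (Sum.inr ()))

end Groth.Agent.S13145
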