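import Groth.Statements.S13146
import Groth.Agent.FrobLCI.W2Base
import Groth.Agent.FrobLCI.W2Quadric

set_option autoImplicit false
universe u
open scoped BigOperators
open FrobAlg

namespace Groth.Agent.S13146

/-- In an even number of variables — for a perfect field k of characteristic p and n ≥ 3, the local
Artinian algebra k[x_1, y_1, …, x_n, y_n]/(x_1y_1 + ⋯ + x_ny_n, x_1^p, y_1^p, …, x_n^p, y_n^p)
admits no flat lifting over W₂(k). (The published statement covers every number N ≥ 5 of variables,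
using x_1x_2 + ⋯ + x_{N−2}x_{N−1} + x_N² for odd N; the printed argument is written out for even N
and the odd case is said to be analogous, so only even N = 2n ≥ 6 is taken here.) -/
theorem result
    (p : ℕ) [Fact p.Prime] (k : Type u) [Field k] [CharP k p] [PerfectRing k p]
    (n : ℕ) (hn : 3 ≤ n) :
    ¬ FrobAlg.IsW2Liftable p k
      (MvPolynomial (Fin n × Fin 2) k ⧸ Ideal.span
        (insert (∑ i : Fin n, MvPolynomial.X (i, (0 : Fin 2)) * MvPolynomial.X (i, (1 : Fin 2)))
          (Set.range fun v : Fin n × Fin 2 => (MvPolynomial.X v : MvPolynomial (Fin n × Fin 2) k) ^ p))) := by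
  set I : Ideal (MvPolynomial (Fin n × Fin 2) k) := Ideal.span
    (insert (∑ i : Fin n, MvPolynomial.X (i, (0 : Fin 2)) * MvPolynomial.X (i, (1 : Fin 2)))
      (Set.range fun v : Fin n × Fin 2 => (MvPolynomial.X v : MvPolynomial (Fin n × Fin 2) k) ^ p))
  set mkI := Ideal.Quotient.mk I
  rintro ⟨B', _, ι, π, hB⟩
  have h := Groth.FrobLCI.W2.isPFlat_of_isLift hB
  let x : Fin n × Fin 2 → B' := fun v => h.sec (mkI (MvPolynomial.X v))
  have hx : ∀ v, π (x v) = mkI (MvPolynomial.X v) := fun v => h.pi_sec _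
  have hxp : ∀ v, ∃ a, h.eps a = x v ^ p := fun v => h.exists_eps (by
    rw [map_pow, hx, ← map_pow, Ideal.Quotient.eq_zero_iff_mem]
    exact Ideal.subset_span (Set.mem_insert_of_mem _ ⟨v, rfl⟩))
  have hQ : ∃ a, h.eps a = ∑ i, x (i, 0) * x (i, 1) := h.exists_eps (by
    rw [map_sum]
    simp only [map_mul, hx]
    simp only [← map_mul, ← map_sum]
    exact Ideal.Quotient.eq_zero_iff_mem.2 (Ideal.subset_span (Set.mem_insert _ _)))
  have h0 : (∑ i, x (i, 0) * x (i, 1)) ^ p = 0 := by
    obtain ⟨a, ha⟩ := hQ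
    have : h.eps a ^ 2 = 0 := by rw [sq, h.eps_mul_eps]
    rw [← ha]
    exact pow_eq_zero_of_le (Fact.out : p.Prime).two_le this
  have hsum : ∑ i, (x (i, 0) * x (i, 1)) ^ p = 0 := Finset.sum_eq_zero fun i _ => by
    obtain ⟨a, ha⟩ := hxp (i, 0)
    obtain ⟨b, hb⟩ := hxp (i, 1)
    rw [mul_pow, ← ha, ← hb, h.eps_mul_eps]
  rw [Groth.FrobLCI.Quadric.powDiv_spec, hsum, zero_add, h.tors] at h0
  apply Groth.FrobLCI.Quadric.fn_powDiv p n k hn
  apply Groth.FrobLCI.Quadric.fn_eq_zero_of_mem p n k hn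
  apply Ideal.Quotient.eq_zero_iff_mem.1
  rw [← h0, ← RingHom.comp_apply, ← RingHom.comp_apply]
  exact RingHom.congr_fun (MvPolynomial.ringHom_ext (fun a => by simp) fun i => by simp [hx, mkI, I]) _

end Groth.Agent.S13146
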