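import Groth.Statements.S13147
import Groth.Agent.FrobLCI.W2Base

set_option autoImplicit false
universe u
open FrobAlg

namespace Groth.Agent.S13147

/-- Let k be a perfect field of characteristic p and (A, φ) a k-algebra with a Frobenius splitting (φ
additive, φ(a^p b) = a φ(b), φ(1) = 1). The quotient of W₂(A) by the ideal generated by the Witt
vectors (0, a) with φ(a) = 0 — the ring of twisted Witt vectors of (A, φ) — is a flat lifting of A
over W₂(k): flat over W₂(k), with reduction map onto A induced by (a₀, a₁) ↦ a₀ whose kernel is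
generated by the maximal ideal of W₂(k). (The published statement also asserts that a morphism of
algebras with Frobenius splittings compatible with the splittings induces a ring map between these
quotients; that part is not stated here.) -/
theorem result
    (p : ℕ) [Fact p.Prime] (k : Type u) [Field k] [CharP k p] [PerfectRing k p]
    (A : Type u) [CommRing A] [Algebra k A] (φ : A →+ A)
    (hφ : ∀ a b : A, φ (a ^ p * b) = a * φ b) (hφ1 : φ 1 = 1) :
    FrobAlg.IsLift p k A (FrobAlg.W2 p A ⧸ FrobAlg.splitIdeal p A φ)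
      ((Ideal.Quotient.mk (FrobAlg.splitIdeal p A φ)).comp (WittGrp.truncMap p 2 (algebraMap k A)))
      (FrobAlg.splitRes p A φ) := by
  open Groth.FrobLCI.W2 in
  have hA : (p : A) = 0 := cast_p_algebra (p := p) (k := k) A
  have hp0 : ∀ c : A, φ (c ^ p) = c := fun c => by
    rw [← mul_one (c ^ p), hφ, hφ1, mul_one]
  have hmem : ∀ x : W2 p A, x ∈ splitIdeal p A φ ↔ res p A x = 0 ∧ φ (x.coeff 1) = 0 := by
    refine fun x => ⟨fun hx => ?_, fun hx => Ideal.subset_span hx⟩
    induction hx using Submodule.span_induction with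
    | mem y hy => exact hy
    | zero => exact ⟨map_zero _, by rw [TruncatedWittVector.coeff_zero, map_zero]⟩
    | add y z _ _ hy hz =>
      refine ⟨by rw [map_add, hy.1, hz.1, add_zero], ?_⟩
      rw [Groth.FrobLCI.W2.eq_V1_of_res_eq_zero hy.1, Groth.FrobLCI.W2.eq_V1_of_res_eq_zero hz.1,
        ← Groth.FrobLCI.W2.V1_add]
      simp [Groth.FrobLCI.W2.V1, map_add, hy.2, hz.2]
    | smul a y _ hy =>
      refine ⟨by rw [smul_eq_mul, map_mul, hy.1, mul_zero], ?_⟩
      rw [smul_eq_mul, mul_comm, Groth.FrobLCI.W2.eq_V1_of_res_eq_zero hy.1,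
        Groth.FrobLCI.W2.V1_mul hA, mul_comm (y.coeff 1)]
      simp only [Groth.FrobLCI.W2.V1, Groth.FrobLCI.W2.coeff_mk2_one]
      rw [hφ, hy.2, mul_zero]
  have hres : ∀ x, splitRes p A φ (Ideal.Quotient.mk _ x) = res p A x := fun x =>
    Ideal.Quotient.lift_mk _ _ _
  refine Groth.FrobLCI.W2.isLift_of_isPFlat ⟨?_, ?_, ?_, hA⟩ (RingHom.ext fun w => ?_)
  · intro a
    obtain ⟨x, rfl⟩ := Groth.FrobLCI.W2.res_surjective (p := p) a
    exact ⟨Ideal.Quotient.mk _ x, hres x⟩
  · intro b hb
    obtain ⟨x, rfl⟩ := Ideal.Quotient.mk_surjective b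
    rw [hres] at hb
    obtain ⟨c, hc⟩ := Groth.FrobLCI.W2.res_surjective (p := p) (φ (x.coeff 1))
    refine ⟨Ideal.Quotient.mk _ c, ?_⟩
    rw [← map_natCast (Ideal.Quotient.mk (splitIdeal p A φ)), ← map_mul, Ideal.Quotient.eq, hmem,
      Groth.FrobLCI.W2.p_mul hA, hc, Groth.FrobLCI.W2.eq_V1_of_res_eq_zero hb,
      ← Groth.FrobLCI.W2.V1_sub]
    refine ⟨Groth.FrobLCI.W2.res_V1 _, ?_⟩
    simp [Groth.FrobLCI.W2.V1, hp0]
  · intro b
    obtain ⟨c, rfl⟩ := Ideal.Quotient.mk_surjective b
    rw [hres, ← map_natCast (Ideal.Quotient.mk (splitIdeal p A φ)), ← map_mul,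
      Ideal.Quotient.eq_zero_iff_mem, hmem, Groth.FrobLCI.W2.p_mul hA]
    constructor
    · intro h; simpa [Groth.FrobLCI.W2.V1, hp0] using h.2
    · intro h
      exact ⟨Groth.FrobLCI.W2.res_V1 _, by simp [Groth.FrobLCI.W2.V1, hp0, h]⟩
  · rw [RingHom.comp_apply, RingHom.comp_apply, hres]
    simp

end Groth.Agent.S13147
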