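import Groth.Statements.S13148
import Groth.Agent.FrobLCI.W2Smooth

set_option autoImplicit false
universe u
open FrobAlg

namespace Groth.Agent.S13148

/-- Over a perfect field k of characteristic p, every smooth affine scheme Spec A admits a flat lifting
over W₂(k) together with a lifting of Frobenius (not necessarily unique). -/
theorem result
    (p : ℕ) [Fact p.Prime] (k : Type u) [Field k] [CharP k p] [PerfectRing k p]
    (A : Type u) [CommRing A] [Algebra k A] [Algebra.Smooth k A] :
    FrobAlg.IsFLiftable p k A := by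
  open Groth.FrobLCI.W2 in
  obtain ⟨B, _, _, π, hc, hπ⟩ := exists_lift_of_smooth (isPFlat_res (p := p) (k := k)) A
  have hlift : IsLift p k A B (algebraMap (W2 p k) B) π :=
    Groth.FrobLCI.W2.isLift_of_isPFlat hπ hc
  have : Module.Flat (W2 p k) B := RingHom.flat_algebraMap_iff.1 hlift.flat
  have : Algebra.FormallySmooth (W2 p k) B :=
    Groth.FrobLCI.W2.formallySmooth_of_lift (Groth.FrobLCI.W2.isPFlat_res (p := p) (k := k)) hc hπ
  let : Algebra (W2 p k) (W2 p A) := (WittGrp.truncMap p 2 (algebraMap k A)).toAlgebra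
  let : Algebra (W2 p k) A := ((algebraMap k A).comp (res p k)).toAlgebra
  let g : W2 p A →ₐ[W2 p k] A :=
    { toRingHom := res p A
      commutes' := fun w => by simp [RingHom.algebraMap_toAlgebra] }
  let πa : B →ₐ[W2 p k] A :=
    { toRingHom := π
      commutes' := fun w => RingHom.congr_fun hc w }
  have hg : IsNilpotent (RingHom.ker g.toRingHom) := by
    refine ⟨2, le_bot_iff.1 (((pow_two (RingHom.ker g.toRingHom)).le).trans (Ideal.mul_le.2 ?_))⟩
    intro a ha b hb
    exact Groth.FrobLCI.W2.mul_eq_zero_of_res (Groth.FrobLCI.W2.cast_p_algebra (p := p) (k := k) A) ha hb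
  let θ := Algebra.FormallySmooth.liftOfSurjective πa g
    (Groth.FrobLCI.W2.res_surjective (p := p) (R := A)) hg
  have hθ : ∀ b, res p A (θ b) = π b := fun b =>
    AlgHom.congr_fun (Algebra.FormallySmooth.comp_liftOfSurjective πa g _ hg) b
  refine ⟨B, inferInstance, algebraMap (W2 p k) B, π, hπ.ghost.comp θ.toRingHom,
    hlift, RingHom.ext fun w => ?_, fun b => ?_⟩
  · have : θ (algebraMap (W2 p k) B w) = WittGrp.truncMap p 2 (algebraMap k A) w := θ.commutes w
    change hπ.ghost (θ (algebraMap (W2 p k) B w)) = _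
    rw [this]
    exact Groth.FrobLCI.W2.ghost_truncMap hlift w
  · change π (hπ.ghost (θ b)) = _
    rw [hπ.pi_ghost, hθ]

end Groth.Agent.S13148
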