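import Groth.Statements.S13149
import Mathlib

set_option autoImplicit false
universe u
open CAlg

namespace Groth.Agent.S13149
open Matrix in
theorem core (p : ℕ) [Fact p.Prime] (A : Type u) [CommRing A] [IsLocalRing A]
    (σ : (Fin 3 → ZMod p) → (Fin 3 → A))
    (hpt : ∀ v : Fin 3 → ZMod p, v ≠ 0 → ∃ i, IsUnit (σ v i))
    (hcol : ∀ u v w : Fin 3 → ZMod p, u ≠ 0 → v ≠ 0 → w ≠ 0 →
      Matrix.det (Matrix.of ![u, v, w]) = 0 →
      ∃ n : Fin 3 → A, (∃ i, IsUnit (n i)) ∧
        dotProduct (σ u) n = 0 ∧ dotProduct (σ v) n = 0 ∧ dotProduct (σ w) n = 0)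
    (h0 : σ ![1, 0, 0] = ![1, 0, 0]) (h1 : σ ![0, 1, 0] = ![0, 1, 0])
    (h2 : σ ![0, 0, 1] = ![0, 0, 1]) (h3 : σ ![1, 1, 1] = ![1, 1, 1]) : (p : A) = 0 := by
  have nz : ∀ a b c : ZMod p, (a = 1 ∨ b = 1 ∨ c = 1) → (![a, b, c] : Fin 3 → ZMod p) ≠ 0 := by
    intro a b c h e
    rcases h with h | h | h
    · exact one_ne_zero (h ▸ congr_fun e 0)
    · exact one_ne_zero (h ▸ congr_fun e 1)
    · exact one_ne_zero (h ▸ congr_fun e 2)
  have line : ∀ u v w : Fin 3 → ZMod p, u ≠ 0 → v ≠ 0 → w ≠ 0 →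
      u 0 * (v 1 * w 2 - v 2 * w 1) - u 1 * (v 0 * w 2 - v 2 * w 0) + u 2 * (v 0 * w 1 - v 1 * w 0) = 0 →
      ∃ a b c : A, (IsUnit a ∨ IsUnit b ∨ IsUnit c) ∧ σ u 0 * a + σ u 1 * b + σ u 2 * c = 0 ∧
        σ v 0 * a + σ v 1 * b + σ v 2 * c = 0 ∧ σ w 0 * a + σ w 1 * b + σ w 2 * c = 0 := by
    intro u v w hu hv hw h
    obtain ⟨n, ⟨i, hi⟩, e1, e2, e3⟩ := hcol u v w hu hv hw (by
      rw [Matrix.det_fin_three]
      simp only [Matrix.of_apply, Matrix.cons_val_zero, Matrix.cons_val_one, Matrix.cons_val]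
      linear_combination h)
    refine ⟨n 0, n 1, n 2, ?_, ?_, ?_, ?_⟩
    · fin_cases i <;> simp_all
    · simpa [dotProduct, Fin.sum_univ_three] using e1
    · simpa [dotProduct, Fin.sum_univ_three] using e2
    · simpa [dotProduct, Fin.sum_univ_three] using e3
  have un : ∀ {a b c t r s : A}, (IsUnit a ∨ IsUnit b ∨ IsUnit c) → a = t * r → b = t * s → (c = 0 ∨ c = t) → IsUnit t := by
    intro a b c t r s h ha hb hc
    rcases h with h | h | h
    · exact isUnit_of_mul_isUnit_left (ha ▸ h)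
    · exact isUnit_of_mul_isUnit_left (hb ▸ h)
    · rcases hc with rfl | rfl
      · exact absurd h not_isUnit_zero
      · exact h
  have upt : ∀ a b c : ZMod p, (a = 1 ∨ b = 1 ∨ c = 1) →
      IsUnit (σ ![a, b, c] 0) ∨ IsUnit (σ ![a, b, c] 1) ∨ IsUnit (σ ![a, b, c] 2) := by
    intro a b c h
    obtain ⟨i, hi⟩ := hpt _ (nz a b c h)
    fin_cases i <;> simp_all
  -- (1:1:0)
  obtain ⟨q, hqu, hq⟩ : ∃ q : A, IsUnit q ∧ σ ![1, 1, 0] = ![q, q, 0] := by
    obtain ⟨a, b, c, hn, e1, e2, e3⟩ := line ![1, 0, 0] ![0, 1, 0] ![1, 1, 0] (nz _ _ _ (by simp)) (nz _ _ _ (by simp)) (nz _ _ _ (by simp)) (by simp)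
    simp [h0, h1] at e1 e2
    have hc : IsUnit c := by simpa [e1, e2] using hn
    have hz : σ ![1, 1, 0] 2 = 0 := by
      simp [e1, e2] at e3
      exact (hc.mul_left_eq_zero).1 e3
    obtain ⟨a, b, c, hn, e1, e2, e3⟩ := line ![0, 0, 1] ![1, 1, 1] ![1, 1, 0] (nz _ _ _ (by simp)) (nz _ _ _ (by simp)) (nz _ _ _ (by simp)) (by simp)
    simp [h2, h3] at e1 e2
    have hb : b = a * (-1) := by linear_combination e2 - e1
    have ha : IsUnit a := un hn (mul_one a).symm hb (Or.inl e1)
    have he : σ ![1, 1, 0] 0 = σ ![1, 1, 0] 1 := by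
      rw [hb, e1] at e3
      exact sub_eq_zero.1 ((ha.mul_left_eq_zero).1 (by linear_combination e3))
    refine ⟨σ ![1, 1, 0] 1, ?_, ?_⟩
    · simpa [hz, he] using upt (1 : ZMod p) 1 0 (by simp)
    · funext i; fin_cases i <;> simp [hz, he]
  -- (0:1:1)
  obtain ⟨r, hru, hr⟩ : ∃ r : A, IsUnit r ∧ σ ![0, 1, 1] = ![0, r, r] := by
    obtain ⟨a, b, c, hn, e1, e2, e3⟩ := line ![0, 1, 0] ![0, 0, 1] ![0, 1, 1] (nz _ _ _ (by simp)) (nz _ _ _ (by simp)) (nz _ _ _ (by simp)) (by simp)
    simp [h1, h2] at e1 e2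
    have ha : IsUnit a := by simpa [e1, e2] using hn
    have hz : σ ![0, 1, 1] 0 = 0 := by
      simp [e1, e2] at e3
      exact (ha.mul_left_eq_zero).1 e3
    obtain ⟨a, b, c, hn, e1, e2, e3⟩ := line ![1, 0, 0] ![1, 1, 1] ![0, 1, 1] (nz _ _ _ (by simp)) (nz _ _ _ (by simp)) (nz _ _ _ (by simp)) (by simp)
    simp [h0, h3] at e1 e2
    have hb : b = c * (-1) := by linear_combination e2 - e1
    have hc : IsUnit c := un hn (show a = c * 0 by simpa using e1) hb (Or.inr rfl)
    have he : σ ![0, 1, 1] 2 = σ ![0, 1, 1] 1 := by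
      rw [hb, e1] at e3
      exact sub_eq_zero.1 ((hc.mul_left_eq_zero).1 (by linear_combination e3))
    refine ⟨σ ![0, 1, 1] 1, ?_, ?_⟩
    · simpa [hz, he] using upt (0 : ZMod p) 1 1 (by simp)
    · funext i; fin_cases i <;> simp [hz, he]
  have key : ∀ k : ℕ, ∃ z : A, IsUnit z ∧ σ ![(k : ZMod p), 0, 1] = ![(k : A) * z, 0, z] := by
    intro k
    induction k with
    | zero => exact ⟨1, isUnit_one, by simpa using h2⟩
    | succ k ih =>
      obtain ⟨z, hzu, hz⟩ := ih
      set v : Fin 3 → ZMod p := ![((k + 1 : ℕ) : ZMod p), 1, 1] with hv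
      obtain ⟨a, b, c, hn, e1, e2, e3⟩ := line ![1, 0, 0] ![0, 1, 1] v (nz _ _ _ (by simp)) (nz _ _ _ (by simp)) (nz _ _ _ (by simp)) (by simp [hv])
      simp [h0] at e1
      simp [hr, e1] at e2
      have hb : b = c * (-1) := by
        have : b + c = 0 := (hru.mul_right_eq_zero).1 (by linear_combination e2)
        linear_combination this
      have hc : IsUnit c := un hn (show a = c * 0 by simpa using e1) hb (Or.inr rfl)
      have he : σ v 2 = σ v 1 := by
        rw [hb, e1] at e3
        exact sub_eq_zero.1 ((hc.mul_left_eq_zero).1 (by linear_combination e3))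
      obtain ⟨a, b, c, hn, e1, e2, e3⟩ := line ![1, 1, 0] ![(k : ZMod p), 0, 1] v (nz _ _ _ (by simp)) (nz _ _ _ (by simp)) (nz _ _ _ (by simp)) (by simp [hv])
      simp [hq] at e1
      simp [hz] at e2
      have hb : b = a * (-1) := by
        have : a + b = 0 := (hqu.mul_right_eq_zero).1 (by linear_combination e1)
        linear_combination this
      have hc : c = a * (-(k : A)) := by
        have : (k : A) * a + c = 0 := (hzu.mul_right_eq_zero).1 (by linear_combination e2)
        linear_combination this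
      have ha : IsUnit a := by
        rcases hn with h | h | h
        · exact h
        · exact isUnit_of_mul_isUnit_left (hb ▸ h)
        · exact isUnit_of_mul_isUnit_left (hc ▸ h)
      have hv0 : σ v 0 = ((k + 1 : ℕ) : A) * σ v 1 := by
        rw [hb, hc, he] at e3
        push_cast
        exact sub_eq_zero.1 ((ha.mul_left_eq_zero).1 (by linear_combination e3))
      have hvu : IsUnit (σ v 1) := by
        rcases upt ((k + 1 : ℕ) : ZMod p) 1 1 (by simp) with h | h | h <;> simp only [← hv] at h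
        · exact isUnit_of_mul_isUnit_right (hv0 ▸ h)
        · exact h
        · exact he ▸ h
      set w : Fin 3 → ZMod p := ![((k + 1 : ℕ) : ZMod p), 0, 1] with hw
      obtain ⟨a, b, c, hn, e1, e2, e3⟩ := line ![1, 0, 0] ![0, 0, 1] w (nz _ _ _ (by simp)) (nz _ _ _ (by simp)) (nz _ _ _ (by simp)) (by simp [hw])
      simp [h0, h2] at e1 e2
      have hb' : IsUnit b := by simpa [e1, e2] using hn
      have hw1 : σ w 1 = 0 := by
        simp [e1, e2] at e3
        exact (hb'.mul_left_eq_zero).1 e3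
      obtain ⟨a, b, c, hn, e1, e2, e3⟩ := line ![0, 1, 0] v w (nz _ _ _ (by simp)) (nz _ _ _ (by simp)) (nz _ _ _ (by simp)) (by simp [hv, hw])
      simp [h1] at e1
      have hc : c = a * (-((k + 1 : ℕ) : A)) := by
        rw [hv0, he, e1] at e2
        have : ((k + 1 : ℕ) : A) * a + c = 0 := (hvu.mul_right_eq_zero).1 (by linear_combination e2)
        linear_combination this
      have ha : IsUnit a := by
        rcases hn with h | h | h
        · exact h
        · exact absurd (e1 ▸ h) not_isUnit_zero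
        · exact isUnit_of_mul_isUnit_left (hc ▸ h)
      have hw0 : σ w 0 = ((k + 1 : ℕ) : A) * σ w 2 := by
        rw [hc, e1, hw1] at e3
        exact sub_eq_zero.1 ((ha.mul_left_eq_zero).1 (by linear_combination e3))
      refine ⟨σ w 2, ?_, ?_⟩
      · rcases upt ((k + 1 : ℕ) : ZMod p) 0 1 (by simp) with h | h | h <;> simp only [← hw] at h
        · exact isUnit_of_mul_isUnit_right (hw0 ▸ h)
        · exact absurd (hw1 ▸ h) not_isUnit_zero
        · exact h
      · funext i; fin_cases i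
        · simpa using hw0
        · simpa using hw1
        · simp
  obtain ⟨z, hzu, hz⟩ := key p
  rw [ZMod.natCast_self, h2] at hz
  have e0 := congr_fun hz 0
  simp at e0
  exact (hzu.mul_left_eq_zero).1 e0.symm


/-- Let A be a local ring and ρ a map from the points of the projective plane over F_p to the points of
the projective plane over A (vectors with a unit coordinate, up to units) taking collinear triples
to collinear triples (three points are collinear when a vector with a unit coordinate is orthogonal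
to all three). If ρ sends the standard frame (1:0:0), (0:1:0), (0:0:1), (1:1:1) to four points in
general position, then p = 0 in A. (The published statement asks only that ρ preserve collinearity;
a constant map does so over any ring, and the published argument begins by moving the images of the
standard frame to the standard frame, which needs them in general position — that condition is made
a hypothesis here.) -/
theorem result
    (p : ℕ) [Fact p.Prime] (A : Type u) [CommRing A] [IsLocalRing A]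
    (ρ : (Fin 3 → ZMod p) → (Fin 3 → A))
    (hpt : ∀ v : Fin 3 → ZMod p, v ≠ 0 → ∃ i, IsUnit (ρ v i))
    (hcol : ∀ u v w : Fin 3 → ZMod p, u ≠ 0 → v ≠ 0 → w ≠ 0 →
      Matrix.det (Matrix.of ![u, v, w]) = 0 →
      ∃ n : Fin 3 → A, (∃ i, IsUnit (n i)) ∧
        dotProduct (ρ u) n = 0 ∧ dotProduct (ρ v) n = 0 ∧ dotProduct (ρ w) n = 0)
    (hgen : IsUnit (Matrix.det (Matrix.of ![ρ (Pi.single 0 1), ρ (Pi.single 1 1), ρ (Pi.single 2 1)])) ∧
      IsUnit (Matrix.det (Matrix.of ![ρ (Pi.single 0 1), ρ (Pi.single 1 1), ρ (fun _ => 1)])) ∧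
      IsUnit (Matrix.det (Matrix.of ![ρ (Pi.single 0 1), ρ (Pi.single 2 1), ρ (fun _ => 1)])) ∧
      IsUnit (Matrix.det (Matrix.of ![ρ (Pi.single 1 1), ρ (Pi.single 2 1), ρ (fun _ => 1)]))) :
    (p : A) = 0 := by
  classical
  obtain ⟨g0, g1, g2, g3⟩ := hgen
  set M : Matrix (Fin 3) (Fin 3) A := Matrix.of ![ρ (Pi.single 0 1), ρ (Pi.single 1 1), ρ (Pi.single 2 1)] with hM
  set x : (Fin 3 → ZMod p) → (Fin 3 → A) := fun v => Matrix.vecMul (ρ v) M⁻¹ with hx
  have hxM : ∀ v, Matrix.vecMul (x v) M = ρ v := fun v => by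
    simp only [hx, Matrix.vecMul_vecMul, Matrix.nonsing_inv_mul _ g0, Matrix.vecMul_one]
  have hexp : ∀ v, ρ v = fun j => x v 0 * M 0 j + x v 1 * M 1 j + x v 2 * M 2 j := fun v => by
    funext j
    conv_lhs => rw [← hxM v]
    simp [Matrix.vecMul, dotProduct, Fin.sum_univ_three]
  set c : Fin 3 → A := x (fun _ => 1) with hc
  have hcu : ∀ i, IsUnit (c i) := by
    have ee := hexp (fun _ => 1)
    intro i
    fin_cases i
    · refine isUnit_of_mul_isUnit_left (y := M.det) ?_
      convert g3 using 1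
      rw [ee]; simp [Matrix.det_fin_three, hM, hc]; ring
    · refine isUnit_of_mul_isUnit_left (y := -M.det) ?_
      convert g2 using 1
      rw [ee]; simp [Matrix.det_fin_three, hM, hc]; ring
    · refine isUnit_of_mul_isUnit_left (y := M.det) ?_
      convert g1 using 1
      rw [ee]; simp [Matrix.det_fin_three, hM, hc]; ring
  set d : Fin 3 → A := fun i => ↑(hcu i).unit⁻¹ with hd
  have hdc : ∀ i, d i * c i = 1 := fun i => (hcu i).val_inv_mul
  set σ : (Fin 3 → ZMod p) → (Fin 3 → A) := fun v i => d i * x v i with hσ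
  have hdu : ∀ i, IsUnit (d i) := fun i => ((hcu i).unit⁻¹).isUnit
  have hpt' : ∀ v : Fin 3 → ZMod p, v ≠ 0 → ∃ i, IsUnit (σ v i) := by
    intro v hv
    by_contra hcon
    simp only [not_exists] at hcon
    obtain ⟨j, hj⟩ := hpt v hv
    have hm : ∀ i, x v i ∈ IsLocalRing.maximalIdeal A := fun i => by
      rw [IsLocalRing.mem_maximalIdeal, mem_nonunits_iff]
      exact fun hi => hcon i ((hdu i).mul hi)
    rw [hexp v] at hj
    exact (IsLocalRing.mem_maximalIdeal _).1
      (Ideal.add_mem _ (Ideal.add_mem _ (Ideal.mul_mem_right _ _ (hm 0)) (Ideal.mul_mem_right _ _ (hm 1)))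
        (Ideal.mul_mem_right _ _ (hm 2))) hj
  have hcol' : ∀ u v w : Fin 3 → ZMod p, u ≠ 0 → v ≠ 0 → w ≠ 0 →
      Matrix.det (Matrix.of ![u, v, w]) = 0 →
      ∃ n : Fin 3 → A, (∃ i, IsUnit (n i)) ∧
        dotProduct (σ u) n = 0 ∧ dotProduct (σ v) n = 0 ∧ dotProduct (σ w) n = 0 := by
    intro u v w hu hv hw h
    obtain ⟨n, ⟨j, hj⟩, e1, e2, e3⟩ := hcol u v w hu hv hw h
    refine ⟨fun i => c i * Matrix.mulVec M n i, ?_, ?_⟩
    · by_contra hcon
      simp only [not_exists] at hcon
      have hm : ∀ i, Matrix.mulVec M n i ∈ IsLocalRing.maximalIdeal A := fun i => by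
        rw [IsLocalRing.mem_maximalIdeal, mem_nonunits_iff]
        exact fun hi => hcon i ((hcu i).mul hi)
      have h1 : n j = ∑ i, M⁻¹ j i * Matrix.mulVec M n i := by
        conv_lhs => rw [show n = Matrix.mulVec M⁻¹ (Matrix.mulVec M n) by
          rw [Matrix.mulVec_mulVec, Matrix.nonsing_inv_mul _ g0, Matrix.one_mulVec]]
        rfl
      rw [h1] at hj
      exact (IsLocalRing.mem_maximalIdeal _).1 (Ideal.sum_mem _ fun i _ => Ideal.mul_mem_left _ _ (hm i)) hj
    · have key : ∀ v, dotProduct (σ v) (fun i => c i * Matrix.mulVec M n i) = dotProduct (ρ v) n := by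
        intro v
        rw [← hxM v, ← Matrix.dotProduct_mulVec]
        simp only [dotProduct, hσ]
        refine Finset.sum_congr rfl fun i _ => ?_
        rw [mul_mul_mul_comm, hdc, one_mul]
      simp only [key]
      exact ⟨e1, e2, e3⟩
  -- the frame
  have hbasis : ∀ i : Fin 3, σ (Pi.single i 1) = Pi.single i (d i) := by
    intro i
    have h1 : ρ (Pi.single i 1) = M i := by fin_cases i <;> rw [hM] <;> rfl
    funext j
    have h2 : x (Pi.single i 1) j = (1 : Matrix (Fin 3) (Fin 3) A) i j := by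
      rw [← Matrix.mul_nonsing_inv _ g0]
      simp only [hx, h1]
      rfl
    simp only [hσ, h2, Matrix.one_apply, Pi.single_apply]
    by_cases hij : i = j
    · subst hij; simp
    · simp [hij, Ne.symm hij]
  set τ : (Fin 3 → ZMod p) → (Fin 3 → A) :=
    fun v => if h : ∃ i, v = Pi.single i 1 then Pi.single h.choose 1 else σ v with hτ
  have hτb : ∀ i : Fin 3, τ (Pi.single i 1) = Pi.single i 1 := by
    intro i
    have h : ∃ j, (Pi.single i 1 : Fin 3 → ZMod p) = Pi.single j 1 := ⟨i, rfl⟩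
    simp only [hτ, dif_pos h]
    have := h.choose_spec
    have e := congr_fun this i
    rw [Pi.single_eq_same] at e
    by_cases hij : i = h.choose
    · rw [← hij]
    · rw [Pi.single_eq_of_ne hij] at e; exact absurd e one_ne_zero
  have b0 : (![1, 0, 0] : Fin 3 → ZMod p) = Pi.single 0 1 := by funext j; fin_cases j <;> simp
  have b1 : (![0, 1, 0] : Fin 3 → ZMod p) = Pi.single 1 1 := by funext j; fin_cases j <;> simp
  have b2 : (![0, 0, 1] : Fin 3 → ZMod p) = Pi.single 2 1 := by funext j; fin_cases j <;> simp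
  refine core p A τ (fun v hv => ?_) (fun u v w hu hv hw h => ?_) ?_ ?_ ?_ ?_
  · by_cases h : ∃ i, v = Pi.single i 1
    · obtain ⟨i, rfl⟩ := h
      exact ⟨i, by rw [hτb]; simp⟩
    · simpa [hτ, dif_neg h] using hpt' v hv
  · obtain ⟨n, hn, e1, e2, e3⟩ := hcol' u v w hu hv hw h
    have tr : ∀ v, dotProduct (σ v) n = 0 → dotProduct (τ v) n = 0 := by
      intro v e
      by_cases h : ∃ i, v = Pi.single i 1
      · obtain ⟨i, rfl⟩ := h
        rw [hbasis, single_dotProduct] at e
        rw [hτb, single_dotProduct, one_mul]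
        exact ((hdu i).mul_right_eq_zero).1 e
      · simpa [hτ, dif_neg h] using e
    exact ⟨n, hn, tr _ e1, tr _ e2, tr _ e3⟩
  · rw [b0, hτb]; funext j; fin_cases j <;> simp
  · rw [b1, hτb]; funext j; fin_cases j <;> simp
  · rw [b2, hτb]; funext j; fin_cases j <;> simp
  · have h : ¬ ∃ i, (![1, 1, 1] : Fin 3 → ZMod p) = Pi.single i 1 := by
      rintro ⟨i, hi⟩
      fin_cases i
      · simpa using congr_fun hi 1
      · simpa using congr_fun hi 0
      · simpa using congr_fun hi 0
    simp only [hτ, dif_neg h]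
    rw [show (![1,1,1] : Fin 3 → ZMod p) = fun _ => 1 by funext j; fin_cases j <;> rfl]
    funext i
    simp only [hσ, ← hc]
    rw [hdc]; fin_cases i <;> rfl

end Groth.Agent.S13149
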