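import Groth.Statements.S13151
import Mathlib

set_option autoImplicit false
universe u
open CAlg

namespace Groth.Agent.S13151

/-- Let A → B be an injective ring homomorphism of integral domains which is integral, with A integrally
closed, and let π be an element of A. Then the contraction to A of the ideal πB is πA, i.e. an
element of A which is a multiple of π in B is already a multiple of π in A; in particular if B/πB is
an integral domain then A/πA is an integral domain. (The published statement is for an integral
dominant morphism of integral schemes flat over a discrete valuation ring, with normal target and π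
a uniformizer; flatness and the valuation ring play no role, so π is an arbitrary element here.) -/
theorem result {A B : Type u} [CommRing A] [CommRing B]
    [IsDomain A] [IsDomain B] [IsIntegrallyClosed A] [Algebra A B] [Algebra.IsIntegral A B]
    (hinj : Function.Injective (algebraMap A B)) (π : A) :
    (Ideal.span {algebraMap A B π}).comap (algebraMap A B) = Ideal.span {π} ∧
      (IsDomain (B ⧸ Ideal.span {algebraMap A B π}) → IsDomain (A ⧸ Ideal.span {π})) := by
  have h1 : (Ideal.span {algebraMap A B π}).comap (algebraMap A B) = Ideal.span {π} := by
    refine le_antisymm (fun a ha => ?_) ?_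
    · obtain ⟨b, hb⟩ := Ideal.mem_span_singleton.1 (Ideal.mem_comap.1 ha)
      by_cases h0 : π = 0
      · subst h0; simp at hb ⊢; exact hinj (by simpa using hb)
      let K := FractionRing A
      let L := FractionRing B
      let g : A →+* L := (algebraMap B L).comp (algebraMap A B)
      have hg : Function.Injective g := (IsFractionRing.injective B L).comp hinj
      let φ : K →+* L := IsFractionRing.lift hg
      let r : K := algebraMap A K a / algebraMap A K π
      have hr : φ r = algebraMap B L b := by
        simp [r, φ, g, hb, IsFractionRing.lift_algebraMap]
        have : algebraMap B L (algebraMap A B π) ≠ 0 := fun h => h0 (hg (by simpa [g] using h))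
        rw [div_eq_iff this, mul_comm]
      obtain ⟨P, hP, hPb⟩ := Algebra.IsIntegral.isIntegral (R := A) b
      have : IsIntegral A r := by
        refine ⟨P, hP, φ.injective ?_⟩
        rw [Polynomial.hom_eval₂, map_zero, hr]
        have : φ.comp (algebraMap A K) = (algebraMap B L).comp (algebraMap A B) := by
          ext x; simp [φ, g, IsFractionRing.lift_algebraMap]
        rw [this, ← Polynomial.hom_eval₂, hPb, map_zero]
      obtain ⟨c, hc⟩ := IsIntegrallyClosed.isIntegral_iff.1 this
      refine Ideal.mem_span_singleton.2 ⟨c, IsFractionRing.injective A K ?_⟩
      rw [map_mul, hc]
      have : algebraMap A K π ≠ 0 := fun h => h0 (IsFractionRing.injective A K (by simpa using h))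
      exact (mul_div_cancel₀ _ this).symm
    · rw [Submodule.span_singleton_le_iff_mem]
      exact Ideal.subset_span rfl
  refine ⟨h1, fun h => ?_⟩
  rw [← h1, Ideal.Quotient.isDomain_iff_prime] 
  have := (Ideal.Quotient.isDomain_iff_prime _).1 h
  exact Ideal.comap_isPrime _ _

end Groth.Agent.S13151
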