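import Groth.Statements.S13153
import Mathlib

set_option autoImplicit false
universe u
open CAlg

namespace Groth.Agent.S13153
theorem D_ne_zero_of_transcendental {K : Type u} {L : Type u} [Field K] [Field L] [Algebra K L] [CharZero K] {x : L}
    (hx : Transcendental K x) : KaehlerDifferential.D K L x ≠ 0 := by
  classical
  obtain ⟨s, hxs, hs⟩ := exists_isTranscendenceBasis_superset (R := K) (A := L) (s := {x})
    (show AlgebraicIndepOn K id ({x} : Set L) from (algebraicIndependent_unique_type_iff).2 hx)
  have hb : AlgebraicIndependent K (Subtype.val : s → L) := hs.1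
  let g : (MvPolynomial s K) →ₐ[K] L := MvPolynomial.aeval (Subtype.val : s → L)
  letI algPL : Algebra (MvPolynomial s K) L := g.toRingHom.toAlgebra
  haveI : IsScalarTower K (MvPolynomial s K) L := IsScalarTower.of_algebraMap_eq fun r => (g.commutes r).symm
  let F := FractionRing (MvPolynomial s K)
  let gF : F →ₐ[K] L := IsFractionRing.liftAlgHom (g := g) hb
  letI : Algebra F L := gF.toRingHom.toAlgebra
  haveI : IsScalarTower (MvPolynomial s K) F L := IsScalarTower.of_algebraMap_eq fun r => (IsFractionRing.lift_algebraMap hb r).symm
  haveI : CharZero F := charZero_of_injective_algebraMap (algebraMap K F).injective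
  haveI hPalg : Algebra.IsAlgebraic (MvPolynomial s K) L := by
    haveI := hs.isAlgebraic
    have hr : (Algebra.adjoin K (Set.range (Subtype.val : s → L))) = g.range := Algebra.adjoin_range_eq_range_aeval _ _
    refine ⟨fun y => ?_⟩
    obtain ⟨p, hp, hpy⟩ := Algebra.IsAlgebraic.isAlgebraic (R := Algebra.adjoin K (Set.range (Subtype.val : s → L))) y
    have hsurj : Function.Surjective (hb.aevalEquiv : (MvPolynomial s K) → _) := hb.aevalEquiv.surjective
    obtain ⟨q, rfl⟩ := Polynomial.map_surjective hb.aevalEquiv.toRingHom hsurj p
    refine ⟨q, fun h => hp (by rw [h, Polynomial.map_zero]), ?_⟩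
    rw [← hpy, Polynomial.aeval_def, Polynomial.aeval_def, Polynomial.eval₂_map]
    congr 1
  haveI : Algebra.IsAlgebraic F L := (IsFractionRing.comap_isAlgebraic_iff (A := (MvPolynomial s K)) (K := F) (C := L)).1 hPalg
  haveI : Algebra.IsSeparable F L := Algebra.IsAlgebraic.isSeparable_of_perfectField
  haveI : Algebra.FormallyEtale (MvPolynomial s K) F := Algebra.FormallyEtale.of_isLocalization (nonZeroDivisors (MvPolynomial s K))
  haveI : Algebra.FormallyEtale F L := Algebra.FormallyEtale.of_isSeparable F L
  haveI : Algebra.FormallyEtale (MvPolynomial s K) L := Algebra.FormallyEtale.comp (MvPolynomial s K) F L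
  intro h0
  have h1 := KaehlerDifferential.tensorKaehlerEquivOfFormallyEtale_symm_D_algebraMap (R := K) (S := (MvPolynomial s K)) (T := L)
    (MvPolynomial.X ⟨x, hxs rfl⟩)
  have hX : algebraMap (MvPolynomial s K) L (MvPolynomial.X ⟨x, hxs rfl⟩) = x := MvPolynomial.aeval_X _ _
  rw [hX, h0, map_zero] at h1
  let b := Algebra.TensorProduct.basis L (KaehlerDifferential.mvPolynomialBasis K s)
  have h2 := congrArg (fun z => b.repr z ⟨x, hxs rfl⟩) h1
  simp [b, Algebra.TensorProduct.basis_repr_tmul, KaehlerDifferential.mvPolynomialBasis_repr_D_X] at h2


/-- Let R be a discrete valuation ring whose fraction field K has characteristic zero, A an integral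
domain which is a faithfully flat R-algebra, with fraction field L, such that K is algebraically
closed in L (every element of L algebraic over K is in the image of K). If f ∈ A has vanishing
differential, df = 0 in Ω_{A/R}, then f is the image of an element of R. (The published statement is
the sheaf form: for a faithfully flat morphism X → Spec R with geometrically integral generic fibre,
the kernel of d : O_X → Ω¹_{X/R} is the inverse image of O_{Spec R}; for integral X, geometric
integrality of the generic fibre in characteristic zero amounts to K being algebraically closed in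
the function field, which is the form used here, and this row is the case of global sections over an
affine X = Spec A.) -/
theorem result (R : Type u) [CommRing R] [IsDomain R]
    [IsDiscreteValuationRing R] [CharZero R] (K : Type u) [Field K] [Algebra R K] [IsFractionRing R K]
    (A : Type u) [CommRing A] [IsDomain A] [Algebra R A] [Module.FaithfullyFlat R A]
    (L : Type u) [Field L] [Algebra A L] [IsFractionRing A L] [Algebra R L] [Algebra K L]
    [IsScalarTower R A L] [IsScalarTower R K L]
    (hac : ∀ x : L, IsAlgebraic K x → x ∈ (algebraMap K L).range)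
    (f : A) (hf : KaehlerDifferential.D R A f = 0) : f ∈ (algebraMap R A).range := by
  haveI : CharZero K := charZero_of_injective_algebraMap (IsFractionRing.injective R K)
  have hx : KaehlerDifferential.D K L (algebraMap A L f) = 0 := by
    rw [← KaehlerDifferential.map_D R K A L f, hf, map_zero]
  obtain ⟨c, hc⟩ := hac _ (not_not.1 fun h => D_ne_zero_of_transcendental h hx)
  obtain ⟨r, s, hs, rfl⟩ := IsFractionRing.div_surjective (A := R) c
  have hs0 : algebraMap R K s ≠ 0 := by simpa using nonZeroDivisors.ne_zero hs
  have hA : algebraMap R A r = algebraMap R A s * f := by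
    apply IsFractionRing.injective A L
    rw [map_mul, ← hc, ← IsScalarTower.algebraMap_apply R A L, ← IsScalarTower.algebraMap_apply R A L,
      IsScalarTower.algebraMap_apply R K L, IsScalarTower.algebraMap_apply R K L, ← map_mul, mul_div_cancel₀ _ hs0]
  have hr : r ∈ Ideal.span {s} := by
    rw [← Ideal.comap_map_eq_self_of_faithfullyFlat (B := A) (Ideal.span {s}), Ideal.mem_comap, Ideal.map_span, Set.image_singleton,
      Ideal.mem_span_singleton]
    exact ⟨f, hA⟩
  obtain ⟨r', rfl⟩ := Ideal.mem_span_singleton.1 hr
  refine ⟨r', IsFractionRing.injective A L ?_⟩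
  rw [← hc, map_mul, mul_div_cancel_left₀ _ hs0, ← IsScalarTower.algebraMap_apply R A L, IsScalarTower.algebraMap_apply R K L]

end Groth.Agent.S13153
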