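import Groth.Statements.S13154
import Mathlib

set_option autoImplicit false
universe u
open scoped TensorProduct
open CAlg

namespace Groth.Agent.S13154
theorem exists_smul_eq {R : Type u} [CommRing R] [IsDomain R] (K : Type u) [Field K] [Algebra R K] [IsFractionRing R K]
    (B : Type u) [AddCommGroup B] [Module R B] (x : K ⊗[R] B) :
    ∃ s : R, s ≠ 0 ∧ ∃ y : B, s • x = (1 : K) ⊗ₜ y := by
  induction x using TensorProduct.induction_on with
  | zero => exact ⟨1, one_ne_zero, 0, by simp⟩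
  | tmul k b =>
    obtain ⟨r, s, hs, rfl⟩ := IsFractionRing.div_surjective (A := R) k
    refine ⟨s, nonZeroDivisors.ne_zero hs, r • b, ?_⟩
    rw [TensorProduct.smul_tmul', TensorProduct.tmul_smul, TensorProduct.smul_tmul', Algebra.smul_def, Algebra.smul_def, mul_one,
      mul_div_cancel₀ _ (by simpa using nonZeroDivisors.ne_zero hs)]
  | add x y hx hy =>
    obtain ⟨s, hs, a, ha⟩ := hx
    obtain ⟨t, ht, b, hb⟩ := hy
    refine ⟨s * t, mul_ne_zero hs ht, t • a + s • b, ?_⟩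
    rw [smul_add, TensorProduct.tmul_add, TensorProduct.tmul_smul, TensorProduct.tmul_smul, ← ha, ← hb, smul_smul, smul_smul, mul_comm t s]


/-- Let R be a discrete valuation ring with fraction field K, A a faithfully flat R-algebra (an affine
faithfully flat base change S' → S = Spec R) and B₁, B₂ flat R-algebras (two affine S-schemes X₁ =
Spec B₁, X₂ = Spec B₂, flat over S). Suppose given a K-algebra homomorphism φ_K : K ⊗ B₂ → K ⊗ B₁ (a
morphism of the generic fibres X₁,K → X₂,K) and an A-algebra homomorphism φ_A : A ⊗ B₂ → A ⊗ B₁ (a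
morphism X₁ ×_S S' → X₂ ×_S S' over S') which coincide after base change to K ⊗ A, in the sense that
for every b ∈ B₂ the images of φ_K(1 ⊗ b) and φ_A(1 ⊗ b) in (K ⊗ A) ⊗ B₁ agree. Then there is
exactly one R-algebra homomorphism φ : B₂ → B₁ (a morphism X₁ → X₂) whose base changes to K and to A
are φ_K and φ_A. (The published statement assumes only X₂ flat over S; flatness of X₁ is also
needed: with B₂ = R[t], B₁ = R[e]/(e², πe) for a uniformizer π and A = R[x], the maps t ↦ 0 over K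
and t ↦ e x over A agree over K ⊗ A = K[x] but come from no map over R.) -/
theorem result (R : Type u) [CommRing R] [IsDomain R]
    [IsDiscreteValuationRing R] (K : Type u) [Field K] [Algebra R K] [IsFractionRing R K]
    (A : Type u) [CommRing A] [Algebra R A] [Module.FaithfullyFlat R A]
    (B₁ B₂ : Type u) [CommRing B₁] [CommRing B₂] [Algebra R B₁] [Algebra R B₂]
    [Module.Flat R B₁] [Module.Flat R B₂]
    (φK : K ⊗[R] B₂ →ₐ[K] K ⊗[R] B₁) (φA : A ⊗[R] B₂ →ₐ[A] A ⊗[R] B₁)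
    (hcomp : ∀ b : B₂,
      Algebra.TensorProduct.map (Algebra.TensorProduct.includeLeft : K →ₐ[R] K ⊗[R] A) (AlgHom.id R B₁)
          (φK (1 ⊗ₜ b)) =
        Algebra.TensorProduct.map (Algebra.TensorProduct.includeRight : A →ₐ[R] K ⊗[R] A) (AlgHom.id R B₁)
          (φA (1 ⊗ₜ b))) :
    ∃! φ : B₂ →ₐ[R] B₁, (∀ b : B₂, φK (1 ⊗ₜ b) = 1 ⊗ₜ φ b) ∧ (∀ b : B₂, φA (1 ⊗ₜ b) = 1 ⊗ₜ φ b) := by
  have hinjR : Function.Injective (algebraMap R K) := IsFractionRing.injective R K
  have hK : Function.Injective (Algebra.TensorProduct.includeRight : B₁ →ₐ[R] K ⊗[R] B₁) :=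
    Algebra.TensorProduct.includeRight_injective hinjR
  have hj : Function.Injective (Algebra.TensorProduct.map (Algebra.TensorProduct.includeRight : A →ₐ[R] K ⊗[R] A) (AlgHom.id R B₁)) :=
    Module.Flat.rTensor_preserves_injective_linearMap (M := B₁)
      (Algebra.TensorProduct.includeRight : A →ₐ[R] K ⊗[R] A).toLinearMap
      (Algebra.TensorProduct.includeRight_injective hinjR)
  have hex : ∀ b : B₂, ∃ y : B₁, φK (1 ⊗ₜ b) = 1 ⊗ₜ y ∧ φA (1 ⊗ₜ b) = 1 ⊗ₜ y := by
    intro b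
    obtain ⟨s, hs, y, hy⟩ := exists_smul_eq K B₁ (φK (1 ⊗ₜ b))
    have h1 : s • φA (1 ⊗ₜ b) = (1 : A) ⊗ₜ y := by
      apply hj
      rw [map_smul, ← hcomp b, ← map_smul, hy]
      simp
    have h2 : (Submodule.Quotient.mk y : B₁ ⧸ LinearMap.range (s • (LinearMap.id : B₁ →ₗ[R] B₁))) = 0 := by
      apply Module.FaithfullyFlat.tensorProduct_mk_injective (A := R) (B := A)
      rw [map_zero]
      show (1 : A) ⊗ₜ[R] ((LinearMap.range (s • (LinearMap.id : B₁ →ₗ[R] B₁))).mkQ y) = 0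
      rw [← LinearMap.lTensor_tmul, ← h1]
      generalize φA (1 ⊗ₜ b) = z
      induction z using TensorProduct.induction_on with
      | zero => simp
      | tmul a m =>
        rw [← TensorProduct.tmul_smul, LinearMap.lTensor_tmul, Submodule.mkQ_apply,
          (Submodule.Quotient.mk_eq_zero (LinearMap.range (s • (LinearMap.id : B₁ →ₗ[R] B₁)))).2 (show s • m ∈ _ from ⟨m, rfl⟩), TensorProduct.tmul_zero]
      | add z w hz hw => rw [smul_add, map_add, hz, hw, add_zero]
    obtain ⟨y', rfl⟩ := (Submodule.Quotient.mk_eq_zero _).1 h2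
    have h3 : φK (1 ⊗ₜ b) = 1 ⊗ₜ y' := by
      have h4 : (algebraMap R K s) • φK (1 ⊗ₜ b) = (algebraMap R K s) • ((1 : K) ⊗ₜ[R] y') := by
        rw [algebraMap_smul, algebraMap_smul, hy]
        simp
      exact smul_right_injective (K ⊗[R] B₁) (by simpa using hs : algebraMap R K s ≠ 0) h4
    refine ⟨y', h3, hj ?_⟩
    rw [← hcomp b, h3]
    simp
  choose f hfK hfA using hex
  refine ⟨{ toFun := f, map_one' := hK ?_, map_mul' := fun x y => hK ?_, map_zero' := hK ?_,
            map_add' := fun x y => hK ?_, commutes' := fun r => hK ?_ }, ⟨hfK, hfA⟩, ?_⟩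
  · show (1 : K) ⊗ₜ[R] f 1 = (1 : K) ⊗ₜ[R] 1
    rw [← hfK, ← Algebra.TensorProduct.one_def, map_one, Algebra.TensorProduct.one_def]
  · show (1 : K) ⊗ₜ[R] f (x * y) = (1 : K) ⊗ₜ[R] (f x * f y)
    rw [← hfK, ← one_mul (1 : K), ← Algebra.TensorProduct.tmul_mul_tmul, ← Algebra.TensorProduct.tmul_mul_tmul, map_mul, hfK, hfK]
  · show (1 : K) ⊗ₜ[R] f 0 = (1 : K) ⊗ₜ[R] 0
    rw [← hfK, TensorProduct.tmul_zero, map_zero, TensorProduct.tmul_zero]
  · show (1 : K) ⊗ₜ[R] f (x + y) = (1 : K) ⊗ₜ[R] (f x + f y)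
    rw [← hfK, TensorProduct.tmul_add, map_add, hfK, hfK, TensorProduct.tmul_add]
  · show (1 : K) ⊗ₜ[R] f (algebraMap R B₂ r) = (1 : K) ⊗ₜ[R] algebraMap R B₁ r
    rw [← hfK, Algebra.algebraMap_eq_smul_one, Algebra.algebraMap_eq_smul_one, TensorProduct.tmul_smul, TensorProduct.tmul_smul,
      ← Algebra.TensorProduct.one_def]
    exact (φK.toLinearMap.map_smul_of_tower r 1).trans (congrArg (r • ·) ((map_one φK).trans Algebra.TensorProduct.one_def))
  · rintro g ⟨hg, -⟩
    ext x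
    exact hK (show (1 : K) ⊗ₜ[R] g x = (1 : K) ⊗ₜ[R] f x by rw [← hg, hfK])

end Groth.Agent.S13154
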