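import Groth.Statements.S13155
import Mathlib

set_option autoImplicit false
universe u
open CAlg

namespace Groth.Agent.S13155

/-- Let R be a discrete valuation ring of characteristic zero with uniformizer π, and A a Noetherian
integrally closed domain which is an R-algebra with injective structure map and in which πA is a
prime ideal (X = Spec A is normal, flat over R, with integral special fibre). Let m ≥ 1 and let f ∈
A be invertible in A[1/π] (so Z^m = f defines a μ_m-torsor over the generic fibre), such that S =
A[1/π][Z]/(Z^m − f) is an integral domain and, writing B for the integral closure of A in S (the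
normalization of X in that cover), πB is a prime ideal of B (the normalization has integral special
fibre). Then f is, up to a unit of A, an m-th power of a power of π: f = π^{mq}·u with q ≥ 0 and u ∈
A^×, so that the cover extends to the μ_m-torsor Z^m = u over all of X. (The published statement is
the existence and uniqueness of the extending μ_m-torsor over a normal faithfully flat R-scheme with
integral fibres, R containing a primitive m-th root of unity; this row is the affine computation
that carries the proof.) -/
theorem result (R : Type u) [CommRing R]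
    [IsDomain R] [IsDiscreteValuationRing R] [CharZero R] (ϖ : R) (hϖ : Irreducible ϖ)
    (A : Type u) [CommRing A] [IsDomain A] [IsNoetherianRing A] [IsIntegrallyClosed A] [Algebra R A]
    (hinj : Function.Injective (algebraMap R A)) (hprime : (Ideal.span {algebraMap R A ϖ}).IsPrime)
    (m : ℕ) (hm : 0 < m) (f : A) (hf : IsUnit (algebraMap A (Localization.Away (algebraMap R A ϖ)) f))
    [IsDomain (AdjoinRoot (Polynomial.X ^ m - Polynomial.C (algebraMap A (Localization.Away (algebraMap R A ϖ)) f)))]
    (hsp : (Ideal.span {algebraMap A (integralClosure A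
        (AdjoinRoot (Polynomial.X ^ m - Polynomial.C (algebraMap A (Localization.Away (algebraMap R A ϖ)) f))))
          (algebraMap R A ϖ)}).IsPrime) :
    ∃ (q : ℕ) (u : Aˣ), f = algebraMap R A ϖ ^ (m * q) * (u : A) := by
  let π := algebraMap R A ϖ
  have hπ0 : π ≠ 0 := (map_ne_zero_iff _ hinj).2 hϖ.ne_zero
  have hπp : Prime π := (Ideal.span_singleton_prime hπ0).1 hprime
  obtain ⟨N, hN⟩ : ∃ N : ℕ, f ∣ π ^ N := by
    obtain ⟨g, hg⟩ := hf.exists_right_inv
    obtain ⟨⟨a, ⟨_, n, rfl⟩⟩, hga⟩ := IsLocalization.surj (Submonoid.powers π) g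
    refine ⟨n, a, IsLocalization.injective (Localization.Away π) (powers_le_nonZeroDivisors_of_noZeroDivisors hπ0) ?_⟩
    rw [map_mul, ← hga, ← mul_assoc, hg, one_mul]
  obtain ⟨a, -, hassoc⟩ := (dvd_prime_pow hπp N).1 hN
  obtain ⟨u, hu⟩ := hassoc.symm
  obtain ⟨q, r, hr, rfl⟩ : ∃ q r, r < m ∧ a = m * q + r :=
    ⟨a / m, a % m, Nat.mod_lt _ hm, (Nat.div_add_mod a m).symm⟩
  rcases Nat.eq_zero_or_pos r with hr0 | hr0
  · subst hr0
    exact ⟨q, u, by simpa using hu.symm⟩
  exfalso
  let S := AdjoinRoot (Polynomial.X ^ m - Polynomial.C (algebraMap A (Localization.Away π) f))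
  let ρ : S := AdjoinRoot.root _
  have hρ : ρ ^ m = algebraMap A S f := by
    have h := AdjoinRoot.eval₂_root (Polynomial.X ^ m - Polynomial.C (algebraMap A (Localization.Away π) f))
    rw [Polynomial.eval₂_sub, Polynomial.eval₂_X_pow, Polynomial.eval₂_C, sub_eq_zero] at h
    rw [IsScalarTower.algebraMap_apply A (Localization.Away π) S]
    exact h
  have hπu : IsUnit (algebraMap A S π) := by
    rw [IsScalarTower.algebraMap_apply A (Localization.Away π) S]
    exact (IsLocalization.Away.algebraMap_isUnit π).map _
  obtain ⟨v, hv⟩ := hπu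
  let z : S := ρ * ↑(v⁻¹ ^ q)
  have hzm : z ^ m = algebraMap A S (π ^ r * u) := by
    have hfA : algebraMap A S f = algebraMap A S (π ^ (m * q + r) * u) := congrArg _ hu.symm
    have h1 : (↑(v⁻¹ ^ q) : S) ^ m * (↑v : S) ^ (m * q) = 1 := by
      rw [Units.val_pow_eq_pow_val, ← pow_mul, mul_comm q m, ← mul_pow, Units.inv_mul, one_pow]
    rw [mul_pow, hρ, hfA, map_mul, map_mul, map_pow, map_pow, ← hv, pow_add]
    linear_combination ((↑v : S) ^ r * algebraMap A S (u : A)) * h1
  have hz : z ∈ integralClosure A S :=
    IsIntegral.of_pow hm (hzm ▸ isIntegral_algebraMap)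
  let zB : integralClosure A S := ⟨z, hz⟩
  let P := Ideal.span {algebraMap A (integralClosure A S) π}
  have hzB : zB ^ m = algebraMap A _ π ^ r * algebraMap A _ (u : A) :=
    Subtype.ext (by simpa [map_mul] using hzm)
  have hmem : zB ∈ P := hsp.mem_of_pow_mem m (by
    rw [hzB]
    exact Ideal.mul_mem_right _ _ (Ideal.pow_mem_of_mem _ (Ideal.mem_span_singleton_self _) r hr0))
  obtain ⟨w, hw⟩ := Ideal.mem_span_singleton.1 hmem
  have hne : algebraMap A (integralClosure A S) π ≠ 0 := fun h =>
    v.ne_zero (hv.trans (congrArg Subtype.val h))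
  have hunit : algebraMap A (integralClosure A S) π ^ (m - r) * w ^ m = algebraMap A _ (u : A) :=
    mul_left_cancel₀ (pow_ne_zero r hne) (by
      rw [← mul_assoc, ← pow_add, Nat.add_sub_cancel' hr.le, ← mul_pow, ← hw, hzB])
  refine hsp.ne_top (Ideal.eq_top_of_isUnit_mem _ ?_ ((u.isUnit).map (algebraMap A (integralClosure A S))))
  rw [← hunit]
  exact Ideal.mul_mem_right _ _ (Ideal.pow_mem_of_mem _ (Ideal.mem_span_singleton_self _) _ (by omega))

end Groth.Agent.S13155
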