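import Groth.Statements.S13156
import Mathlib.Tactic.LinearCombination
import Mathlib.Algebra.MvPolynomial.Eval
import Mathlib.Algebra.MvPolynomial.CommRing
import Mathlib.Data.Fin.VecNotation
import Mathlib.Tactic.ComputeDegree
import Mathlib.Algebra.Polynomial.Derivative
import Mathlib.Algebra.Polynomial.AlgebraMap
-- import your own Groth.Agent.* helpers here

set_option autoImplicit false
universe u
open scoped Polynomial
open CAlg

namespace Groth.Agent.S13156

section Helpers

theorem isUnit_natCast_of_lt {A : Type u} [CommRing A] {p : ℕ} (hu : IsUnit ((Nat.factorial (p - 1) : ℕ) : A))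
    {r : ℕ} (h1 : 1 ≤ r) (h2 : r < p) : IsUnit ((r : ℕ) : A) := by
  obtain ⟨c, hc⟩ := Nat.dvd_factorial h1 (show r ≤ p - 1 by omega)
  rw [hc, Nat.cast_mul] at hu
  exact isUnit_of_mul_isUnit_left hu

theorem eq_iff_coeff {A : Type u} [CommRing A] (μ : A) (F : A[X]) :
    F * Polynomial.C (F.coeff 1) = Polynomial.derivative F * (1 + Polynomial.C μ * Polynomial.X) ↔
      ∀ r : ℕ, F.coeff r * F.coeff 1 = ((r : A) + 1) * F.coeff (r + 1) + (r : A) * μ * F.coeff r := by
  rw [Polynomial.ext_iff]
  refine forall_congr' fun r => ?_
  rw [Polynomial.coeff_mul_C, mul_add, mul_one, Polynomial.coeff_add,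
    ← mul_assoc, mul_comm (Polynomial.derivative F) (Polynomial.C μ), mul_assoc, Polynomial.coeff_C_mul]
  rcases r with _ | r
  · simp [Polynomial.coeff_derivative]
  · rw [Polynomial.coeff_mul_X, Polynomial.coeff_derivative, Polynomial.coeff_derivative]
    push_cast
    constructor <;> intro h <;> rw [h] <;> ring

theorem derivative_aeval_double {A : Type u} [CommRing A] (x : A[X][X]) (G : A[X]) :
    Polynomial.derivative (Polynomial.aeval x G) =
      Polynomial.aeval x (Polynomial.derivative G) * Polynomial.derivative x := by
  induction G using Polynomial.induction_on' with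
  | add f g hf hg => simp only [map_add, hf, hg, add_mul]
  | monomial n b =>
    simp [Polynomial.aeval_monomial, Polynomial.derivative_monomial, Polynomial.algebraMap_apply,
      Polynomial.derivative_mul, Polynomial.derivative_pow]
    ring

theorem eval_aeval {A : Type u} [CommRing A] (x : A[X][X]) (G : A[X]) (y : A[X]) :
    Polynomial.eval y (Polynomial.aeval x G) = Polynomial.aeval (Polynomial.eval y x) G := by
  have := Polynomial.aeval_algHom_apply ((Polynomial.aeval y : A[X][X] →ₐ[A[X]] A[X]).restrictScalars A) x G
  simpa using this.symm

theorem aeval_zero_derivative {A : Type u} [CommRing A] (F : A[X]) :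
    Polynomial.aeval (0 : A[X]) (Polynomial.derivative F) = Polynomial.C (F.coeff 1) := by
  rw [Polynomial.aeval_def, Polynomial.eval₂_at_zero, Polynomial.coeff_derivative]
  simp

theorem aeval_zero_eq {A : Type u} [CommRing A] (F : A[X]) :
    Polynomial.aeval (0 : A[X]) F = Polynomial.C (F.coeff 0) := by
  rw [Polynomial.aeval_def, Polynomial.eval₂_at_zero]
  rfl

end Helpers

/-- Let p be a prime number, A a commutative ring in which (p−1)! is invertible, μ an element of A, and
F ∈ A[X] a polynomial of degree at most p − 1 with coefficients a_0, a_1, …. Then the identity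
F(S)·F(T) − a_0² = F(S + T + μST) − a_0 holds in the polynomial ring A[S, T] if and only if a_1·F(S)
= F′(S)·(1 + μS) holds in A[S], F′ the formal derivative. (The published statement is over the
quotient of a discrete valuation ring of residue characteristic p by a nonzero element of its
maximal ideal; only the invertibility of 1, …, p − 1 is used, so an arbitrary such ring A is allowed
here.) -/
theorem result (A : Type u) [CommRing A] (p : ℕ) [Fact p.Prime]
    (hu : IsUnit ((Nat.factorial (p - 1) : ℕ) : A)) (μ : A) (F : A[X]) (hF : F.natDegree < p) :
    (Polynomial.aeval (MvPolynomial.X 0 : MvPolynomial (Fin 2) A) F *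
          Polynomial.aeval (MvPolynomial.X 1 : MvPolynomial (Fin 2) A) F - MvPolynomial.C (F.coeff 0 ^ 2) =
        Polynomial.aeval (MvPolynomial.X 0 + MvPolynomial.X 1 +
            MvPolynomial.C μ * MvPolynomial.X 0 * MvPolynomial.X 1 : MvPolynomial (Fin 2) A) F -
          MvPolynomial.C (F.coeff 0)) ↔
      F * Polynomial.C (F.coeff 1) = Polynomial.derivative F * (1 + Polynomial.C μ * Polynomial.X) := by
  let S' : A[X][X] := Polynomial.C Polynomial.X
  let T' : A[X][X] := Polynomial.X
  let c : A → A[X][X] := fun a => Polynomial.C (Polynomial.C a)
  let U : A[X][X] := S' + T' + c μ * S' * T'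
  have hφ : ∀ x : A[X][X], ∀ G : A[X], Polynomial.derivative (Polynomial.aeval x G) =
      Polynomial.aeval x (Polynomial.derivative G) * Polynomial.derivative x := derivative_aeval_double
  have hc' : ∀ a : A, algebraMap A A[X][X] a = c a := fun a => rfl
  constructor
  · intro h
    let φ : MvPolynomial (Fin 2) A →ₐ[A] A[X][X] := MvPolynomial.aeval ![S', T']
    have h2 := congrArg φ h
    simp only [φ, map_sub, map_mul, map_add, ← Polynomial.aeval_algHom_apply, MvPolynomial.aeval_X,
      MvPolynomial.aeval_C, Matrix.cons_val_zero, Matrix.cons_val_one, hc'] at h2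
    have hS : Polynomial.aeval S' F = Polynomial.C F := by
      have := Polynomial.aeval_algHom_apply (IsScalarTower.toAlgHom A A[X] A[X][X]) Polynomial.X F
      simpa [S', Polynomial.aeval_X_left_apply] using this
    have h3 := congrArg (fun g => (Polynomial.derivative g).eval 0) h2
    simp only [map_sub, Polynomial.derivative_mul, hφ, hS, S', T', c, Polynomial.derivative_C, Polynomial.derivative_X,
      map_add, zero_mul, mul_zero, add_zero, zero_add, sub_zero, mul_one, Polynomial.eval_mul, Polynomial.eval_C,
      Polynomial.eval_add, Polynomial.eval_one, eval_aeval, Polynomial.eval_X, aeval_zero_derivative,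
      Polynomial.aeval_X_left_apply] at h3
    exact h3
  · intro hE
    have hcoef := (eq_iff_coeff μ F).mp hE
    set a := F.coeff 1 with ha
    set a₀ := F.coeff 0 with ha₀
    have hone : ∀ r, 1 ≤ r → F.coeff r * (1 - a₀) = 0 := by
      intro r hr1
      induction r, hr1 using Nat.le_induction with
      | base =>
        have := hcoef 0
        simp only [Nat.cast_zero, zero_add, zero_mul, add_zero, one_mul, ← ha, ← ha₀] at this
        linear_combination -this
      | succ r hr ih =>
        by_cases hrp : r + 1 < p
        · refine (isUnit_natCast_of_lt hu (Nat.le_add_left 1 r) hrp).mul_left_cancel ?_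
          push_cast
          linear_combination -(1 - a₀) * hcoef r + (a - (r : A) * μ) * ih
        · rw [Polynomial.coeff_eq_zero_of_natDegree_lt (by omega), zero_mul]
    let G : A[X][X] := Polynomial.aeval U F - Polynomial.aeval S' F * Polynomial.aeval T' F - c (a₀ * (1 - a₀))
    have key : G = 0 := by
      have hode : Polynomial.derivative G * (1 + c μ * T') = c a * G := by
        have e1 : ∀ x : A[X][X], Polynomial.aeval x F * c a = Polynomial.aeval x (Polynomial.derivative F) * (1 + c μ * x) := by
          intro x
          have := congrArg (Polynomial.aeval x) hE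
          simp only [map_mul, map_add, map_one, Polynomial.aeval_C, Polynomial.aeval_X, hc'] at this
          exact this
        have e2 : c a * c (a₀ * (1 - a₀)) = 0 := by
          simp only [c, ← map_mul]
          rw [show a * (a₀ * (1 - a₀)) = a₀ * (a * (1 - a₀)) by ring, hone 1 le_rfl, mul_zero, map_zero, map_zero]
        have dS : Polynomial.derivative (Polynomial.aeval S' F) = 0 := by rw [hφ]; simp [S']
        have dc : ∀ b, Polynomial.derivative (c b) = 0 := fun b => Polynomial.derivative_C
        have dU : Polynomial.derivative U = 1 + c μ * S' := by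
          simp only [U, S', T', c, map_add, Polynomial.derivative_mul, Polynomial.derivative_C, Polynomial.derivative_X]
          ring
        have dT : Polynomial.derivative T' = 1 := Polynomial.derivative_X
        simp only [G, map_sub, Polynomial.derivative_mul, hφ U F, hφ T' F, dS, dc, dU, dT]
        linear_combination -e1 U + Polynomial.aeval S' F * e1 T' + e2
      have h0 : G.coeff 0 = 0 := by
        rw [Polynomial.coeff_zero_eq_eval_zero]
        simp only [G, U, S', T', c, Polynomial.eval_sub, Polynomial.eval_mul, eval_aeval, Polynomial.eval_C, Polynomial.eval_add,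
          Polynomial.eval_X, mul_zero, add_zero, aeval_zero_eq, Polynomial.aeval_X_left_apply, ← ha₀]
        ext r
        rw [Polynomial.coeff_sub, Polynomial.coeff_sub, Polynomial.coeff_mul_C, Polynomial.coeff_C, Polynomial.coeff_zero]
        split
        · next h => subst h; rw [← ha₀]; ring
        · next h => linear_combination hone r (Nat.one_le_iff_ne_zero.mpr h)
      have hdeg : ∀ j, p ≤ j → G.coeff j = 0 := by
        intro j hj
        refine Polynomial.coeff_eq_zero_of_natDegree_lt (lt_of_le_of_lt ?_ (show F.natDegree < j by omega))
        have hb : ∀ x : A[X][X], x.natDegree ≤ 1 → (Polynomial.aeval x F).natDegree ≤ F.natDegree := by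
          intro x hx
          have e : Polynomial.aeval x F = (F.map Polynomial.C).comp x := by
            rw [Polynomial.comp, Polynomial.eval₂_map]
            rfl
          rw [e]
          refine Polynomial.natDegree_comp_le.trans ((Nat.mul_le_mul Polynomial.natDegree_map_le hx).trans ?_)
          rw [mul_one]
        refine (Polynomial.natDegree_sub_le _ _).trans (max_le ((Polynomial.natDegree_sub_le _ _).trans (max_le (hb U ?_) ?_)) ?_)
        · simp only [U, S', T', c, ← map_mul]
          compute_degree
        · refine Polynomial.natDegree_mul_le.trans ((Nat.add_le_add (le_of_eq (b := 0) ?_) (hb T' Polynomial.natDegree_X_le)).trans (Nat.zero_add _).le)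
          have : Polynomial.aeval S' F = Polynomial.C F := by
            have := Polynomial.aeval_algHom_apply (IsScalarTower.toAlgHom A A[X] A[X][X]) Polynomial.X F
            simpa [S', Polynomial.aeval_X_left_apply] using this
          rw [this, Polynomial.natDegree_C]
        · exact (Polynomial.natDegree_C _).trans_le (Nat.zero_le _)
      ext j : 1
      rw [Polynomial.coeff_zero]
      induction j with
      | zero => exact h0
      | succ j ih =>
        by_cases hj : j + 1 < p
        · have h := congrArg (fun g : A[X][X] => g.coeff j) hode
          simp only [c, T', mul_add, mul_one, Polynomial.coeff_add, Polynomial.coeff_C_mul, ih, mul_zero,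
            Polynomial.coeff_derivative] at h
          rw [← mul_assoc, mul_comm (Polynomial.derivative G) (Polynomial.C (Polynomial.C μ)), mul_assoc,
            Polynomial.coeff_C_mul] at h
          have hu' : IsUnit ((j : A[X]) + 1) := by
            have := (isUnit_natCast_of_lt hu (Nat.le_add_left 1 j) hj).map Polynomial.C
            simpa using this
          refine hu'.mul_left_eq_zero.mp ?_
          rcases j with _ | j
          · simpa using h
          · rw [Polynomial.coeff_mul_X, Polynomial.coeff_derivative, ih, zero_mul, mul_zero, add_zero] at h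
            push_cast at h ⊢
            linear_combination h
        · exact hdeg _ (by omega)
    let ψ : A[X][X] →ₐ[A] MvPolynomial (Fin 2) A :=
      { Polynomial.eval₂RingHom (Polynomial.aeval (MvPolynomial.X 0 : MvPolynomial (Fin 2) A)).toRingHom (MvPolynomial.X 1) with
        commutes' := fun b => by simp [Polynomial.algebraMap_apply] }
    have hψS : ψ S' = MvPolynomial.X 0 := by simp [ψ, S']
    have hψT : ψ T' = MvPolynomial.X 1 := by simp [ψ, T']
    have hψc : ∀ b, ψ (c b) = MvPolynomial.C b := fun b => by rw [← hc']; exact ψ.commutes b
    have h := congrArg ψ key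
    simp only [G, U, map_sub, map_zero, map_mul, ← Polynomial.aeval_algHom_apply, map_add, hψS, hψT, hψc, map_one] at h
    rw [pow_two, map_mul]
    linear_combination -h

end Groth.Agent.S13156
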