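import Groth.Statements.S13157
import Mathlib.Tactic.LinearCombination
import Mathlib.Algebra.MvPolynomial.Eval
import Mathlib.Algebra.MvPolynomial.CommRing
import Mathlib.Data.Fin.VecNotation
import Mathlib.Tactic.ComputeDegree
import Mathlib.Algebra.Polynomial.Derivative
import Mathlib.Algebra.Polynomial.AlgebraMap
-- import your own Groth.Agent.* helpers here

set_option autoImplicit false
universe u
open scoped Polynomial
open CAlg

namespace Groth.Agent.S13157

section Helpers

theorem isUnit_natCast_of_lt {A : Type u} [CommRing A] {p : ℕ} (hu : IsUnit ((Nat.factorial (p - 1) : ℕ) : A))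
    {r : ℕ} (h1 : 1 ≤ r) (h2 : r < p) : IsUnit ((r : ℕ) : A) := by
  obtain ⟨c, hc⟩ := Nat.dvd_factorial h1 (show r ≤ p - 1 by omega)
  rw [hc, Nat.cast_mul] at hu
  exact isUnit_of_mul_isUnit_left hu

theorem eq_iff_coeff {A : Type u} [CommRing A] (μ : A) (F : A[X]) :
    F * Polynomial.C (F.coeff 1) = Polynomial.derivative F * (1 + Polynomial.C μ * Polynomial.X) ↔
      ∀ r : ℕ, F.coeff r * F.coeff 1 = ((r : A) + 1) * F.coeff (r + 1) + (r : A) * μ * F.coeff r := by
  rw [Polynomial.ext_iff]
  refine forall_congr' fun r => ?_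
  rw [Polynomial.coeff_mul_C, mul_add, mul_one, Polynomial.coeff_add,
    ← mul_assoc, mul_comm (Polynomial.derivative F) (Polynomial.C μ), mul_assoc, Polynomial.coeff_C_mul]
  rcases r with _ | r
  · simp [Polynomial.coeff_derivative]
  · rw [Polynomial.coeff_mul_X, Polynomial.coeff_derivative, Polynomial.coeff_derivative]
    push_cast
    constructor <;> intro h <;> rw [h] <;> ring

end Helpers

/-- (i) ⇔ (ii): let p be a prime number, A a commutative ring in which (p−1)! is invertible, μ ∈ A, and
F ∈ A[X] a polynomial of degree at most p − 1 with constant term a_0 = 1 and coefficients a_1, a_2,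
…. Then the relations a_{r−1}·a_1 = (r − 1)μ·a_{r−1} + r·a_r for 1 ≤ r ≤ p (with a_p = 0), written
here as the single identity a_1·F = F′·(1 + μX), hold if and only if r!·a_r = ∏_{k=0}^{r−1} (a_1 −
kμ) for every 1 ≤ r ≤ p − 1 and ∏_{k=0}^{p−1} (a_1 − kμ) = 0. (The published statement lists the
relations only for 1 ≤ r ≤ p − 1, while its proof uses and derives the relation for r = p as well,
which is needed for the vanishing of the last product; it is included here. The published setting is
the quotient of a discrete valuation ring of residue characteristic p by a nonzero non-unit; only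
the invertibility of 1, …, p − 1 is used.) -/
theorem result (A : Type u) [CommRing A] (p : ℕ) [Fact p.Prime]
    (hu : IsUnit ((Nat.factorial (p - 1) : ℕ) : A)) (μ : A) (F : A[X]) (hF : F.natDegree < p)
    (h0 : F.coeff 0 = 1) :
    F * Polynomial.C (F.coeff 1) = Polynomial.derivative F * (1 + Polynomial.C μ * Polynomial.X) ↔
      ((∀ r : ℕ, 1 ≤ r → r < p →
          (r.factorial : A) * F.coeff r = ∏ k ∈ Finset.range r, (F.coeff 1 - (k : A) * μ)) ∧
        ∏ k ∈ Finset.range p, (F.coeff 1 - (k : A) * μ) = 0) := by
  have hz : ∀ r, p ≤ r → F.coeff r = 0 := fun r hr => Polynomial.coeff_eq_zero_of_natDegree_lt (by omega)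
  set a := F.coeff 1 with ha
  rw [eq_iff_coeff]
  constructor
  · intro h
    have hr : ∀ r : ℕ, (r.factorial : A) * F.coeff r = ∏ k ∈ Finset.range r, (a - (k : A) * μ) := by
      intro r
      induction r with
      | zero => simp [h0]
      | succ r ih =>
        rw [Finset.prod_range_succ, ← ih, Nat.factorial_succ, Nat.cast_mul, Nat.cast_add, Nat.cast_one]
        linear_combination -(r.factorial : A) * h r
    exact ⟨fun r _ _ => hr r, by rw [← hr p, hz p le_rfl, mul_zero]⟩
  · rintro ⟨hr, hp⟩ r
    by_cases hrp : p ≤ r
    · rw [hz r hrp, hz (r + 1) (by omega)]; ring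
    have hfac : ∀ q, q ≤ p → (q.factorial : A) * F.coeff q = ∏ k ∈ Finset.range q, (a - (k : A) * μ) := by
      intro q hq
      rcases Nat.eq_zero_or_pos q with rfl | hq0
      · simp [h0]
      rcases hq.lt_or_eq with hlt | rfl
      · exact hr q hq0 hlt
      · rw [hz q le_rfl, mul_zero, hp]
    have hunit : IsUnit (r.factorial : A) := by
      obtain ⟨c, hc⟩ := Nat.factorial_dvd_factorial (show r ≤ p - 1 by omega)
      rw [hc, Nat.cast_mul] at hu
      exact isUnit_of_mul_isUnit_left hu
    refine hunit.mul_left_cancel ?_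
    have h1 := hfac r (by omega)
    have h2 := hfac (r + 1) (by omega)
    rw [Finset.prod_range_succ, ← h1, Nat.factorial_succ, Nat.cast_mul, Nat.cast_add, Nat.cast_one] at h2
    linear_combination -h2

end Groth.Agent.S13157
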