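import Groth.Statements.S13158
import Mathlib.RingTheory.Flat.FaithfullyFlat.Algebra
import Mathlib.RingTheory.IntegralClosure.IntegrallyClosed
import Mathlib.Data.Nat.Choose.Sum
import Mathlib.RingTheory.Polynomial.Basic
-- import your own Groth.Agent.* helpers here

set_option autoImplicit false
universe u
open CAlg

namespace Groth.Agent.S13158

section Helpers

theorem pow_dvd_choose {A : Type u} [CommRing A] (p : ℕ) [hp : Fact p.Prime] {m : ℕ} (L : A)
    (hL : L ^ (p ^ m * (p - 1)) ∣ (p : A)) (j : ℕ) (hj : j < p ^ (m + 1)) (hj0 : j ≠ 0) :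
    L ^ (p ^ (m + 1) - j) ∣ (((p ^ (m + 1)).choose j : ℕ) : A) := by
  obtain ⟨k, a, ha, hka⟩ := Nat.exists_eq_pow_mul_and_not_dvd hj0 p hp.out.ne_one
  have hkj : p ^ k ≤ j := hka ▸ Nat.le_mul_of_pos_right _ (Nat.pos_of_ne_zero fun h => ha (h ▸ dvd_zero p))
  have hk : k < m + 1 := (Nat.pow_lt_pow_iff_right hp.out.one_lt).mp (hkj.trans_lt hj)
  have key : ∀ d, k + d ≤ m + 1 → p ^ (k + d) ≤ p ^ k + d * (p ^ m * (p - 1)) := by
    intro d
    induction d with
    | zero => intro _; simp
    | succ d ih =>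
      intro hd
      have h1 := ih (by omega)
      have h2 : p ^ (k + d) ≤ p ^ m := Nat.pow_le_pow_right hp.out.pos (by omega)
      have h3 : p ^ (k + d) * (p - 1) ≤ p ^ m * (p - 1) := Nat.mul_le_mul_right _ h2
      have h4 : p ^ (k + (d + 1)) = p ^ (k + d) + p ^ (k + d) * (p - 1) := by
        rw [← Nat.add_assoc, pow_succ]
        obtain ⟨p', hp'⟩ : ∃ p', p = p' + 1 := ⟨p - 1, (Nat.sub_add_cancel hp.out.one_le).symm⟩
        rw [hp', Nat.add_sub_cancel]
        ring
      rw [Nat.add_one_mul]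
      omega
  obtain ⟨r, hr⟩ : ∃ r, m + 1 = k + r := ⟨m + 1 - k, by omega⟩
  have h5 := key r (by omega)
  rw [← hr] at h5
  have hdiv : p ^ r ∣ (p ^ (m + 1)).choose j := by
    obtain ⟨j', hj'⟩ : ∃ j', j = j' + 1 := ⟨j - 1, by omega⟩
    obtain ⟨N', hN'⟩ : ∃ N', p ^ (m + 1) = N' + 1 :=
      ⟨p ^ (m + 1) - 1, (Nat.sub_add_cancel (Nat.one_le_pow _ _ hp.out.pos)).symm⟩
    have e : p ^ r * N'.choose j' = a * (p ^ (m + 1)).choose j := by
      refine Nat.eq_of_mul_eq_mul_left (pow_pos hp.out.pos k) ?_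
      rw [← mul_assoc, ← mul_assoc, ← pow_add, ← hr, ← hka, hj', hN', Nat.add_one_mul_choose_eq, mul_comm]
    exact (Nat.Coprime.pow_left r (hp.out.coprime_iff_not_dvd.mpr ha)).dvd_of_dvd_mul_left ⟨_, e.symm⟩
  have h1 : (L ^ (p ^ m * (p - 1))) ^ r ∣ (((p ^ r : ℕ)) : A) := by
    rw [Nat.cast_pow]; exact pow_dvd_pow_of_dvd hL r
  refine dvd_trans ?_ (h1.trans (Nat.cast_dvd_cast hdiv))
  rw [← pow_mul]
  refine pow_dvd_pow L ?_
  rw [mul_comm (p ^ m * (p - 1)) r]
  omega

end Helpers

/-- Let R be a discrete valuation ring of characteristic zero whose maximal ideal contains the prime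
number p, let n ≥ 1, and let λ be a nonzero element of R such that λ^(p^(n−1)(p−1)) divides p (the
condition v(p) ≥ p^(n−1)(p−1)·v(λ) under which the polynomial ((1 + λT)^(p^n) − 1)/λ^(p^n) has
coefficients in R). Let A be an integrally closed integral domain which is a faithfully flat
R-algebra. Then for every unit x of A, λ^(p^n) divides x^(p^n) − 1 in A if and only if λ divides x −
1 in A. -/
theorem result (R : Type u) [CommRing R]
    [IsDomain R] [IsDiscreteValuationRing R] [CharZero R] (p n : ℕ) [Fact p.Prime] (hn : 1 ≤ n)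
    (hp : (p : R) ∈ IsLocalRing.maximalIdeal R) (lam : R) (hlam : lam ≠ 0)
    (hstar : lam ^ (p ^ (n - 1) * (p - 1)) ∣ (p : R))
    (A : Type u) [CommRing A] [IsDomain A] [IsIntegrallyClosed A] [Algebra R A] [Module.FaithfullyFlat R A]
    (x : Aˣ) :
    (algebraMap R A lam ^ p ^ n ∣ (x : A) ^ p ^ n - 1) ↔ (algebraMap R A lam ∣ (x : A) - 1) := by
  set L := algebraMap R A lam
  have hL : L ≠ 0 := (map_ne_zero_iff _ (FaithfulSMul.algebraMap_injective R A)).mpr hlam
  obtain ⟨m, rfl⟩ : ∃ m, n = m + 1 := ⟨n - 1, by omega⟩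
  rw [Nat.add_sub_cancel] at hstar
  have hp1 : L ^ (p ^ m * (p - 1)) ∣ (p : A) := by
    have := map_dvd (algebraMap R A) hstar
    rwa [map_pow, map_natCast] at this
  set N := p ^ (m + 1) with hN
  have hdvd : ∀ j, j < N → j ≠ 0 → L ^ (N - j) ∣ ((N.choose j : ℕ) : A) :=
    fun j hj hj0 => pow_dvd_choose p L hp1 j hj hj0
  constructor
  · rintro ⟨c, hc⟩
    have hbex : ∀ j : Fin N, ∃ b : A, (j : ℕ) ≠ 0 → ((N.choose j : ℕ) : A) = L ^ (N - j) * b := fun j => by
      by_cases h : (j : ℕ) = 0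
      · exact ⟨0, fun h' => absurd h h'⟩
      · obtain ⟨b, hb⟩ := hdvd j j.2 h
        exact ⟨b, fun _ => hb⟩
    choose b hb using hbex
    let K := FractionRing A
    let φ := algebraMap A K
    have hφL : φ L ≠ 0 := (map_ne_zero_iff _ (IsFractionRing.injective A K)).mpr hL
    let t : K := (φ x - 1) / φ L
    have ht : φ x = φ L * t + 1 := by rw [mul_div_cancel₀ _ hφL, sub_add_cancel]
    let bb : Fin N → A := fun j => if (j : ℕ) = 0 then -c else b j
    have hint : IsIntegral A t := by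
      refine ⟨Polynomial.X ^ N + ∑ j : Fin N, Polynomial.C (bb j) * Polynomial.X ^ (j : ℕ),
        Polynomial.monic_X_pow_add (Polynomial.degree_sum_fin_lt bb), ?_⟩
      rw [Polynomial.eval₂_add, Polynomial.eval₂_X_pow, Polynomial.eval₂_finsetSum]
      simp only [Polynomial.eval₂_mul, Polynomial.eval₂_C, Polynomial.eval₂_X_pow]
      refine mul_left_cancel₀ (pow_ne_zero N hφL) ?_
      rw [mul_zero, mul_add, Finset.mul_sum]
      have hterm : ∀ j : Fin N, φ L ^ N * (φ (bb j) * t ^ (j : ℕ)) =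
          (if (j : ℕ) = 0 then -(φ (L ^ N * c)) else ((N.choose j : ℕ) : K) * (φ L * t) ^ (j : ℕ)) := by
        intro j
        simp only [bb]
        split
        · next h => rw [h, pow_zero, mul_one, map_neg, map_mul, map_pow, mul_neg]
        · next h =>
          conv_rhs => rw [← map_natCast φ, hb j h, map_mul, map_pow, mul_pow]
          rw [show φ L ^ N = φ L ^ (N - j) * φ L ^ (j : ℕ) by rw [← pow_add]; congr 1; omega]
          ring
      rw [Finset.sum_congr rfl fun j _ => hterm j,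
        Fin.sum_univ_eq_sum_range (fun j => if j = 0 then -(φ (L ^ N * c)) else ((N.choose j : ℕ) : K) * (φ L * t) ^ j),
        ← hc, map_sub, map_pow, map_one, ht, ← mul_pow]
      obtain ⟨N', hN'⟩ : ∃ N', N = N' + 1 :=
        ⟨N - 1, (Nat.sub_add_cancel (Nat.one_le_pow _ _ (Fact.out : p.Prime).pos)).symm⟩
      rw [hN', Finset.sum_range_succ', if_pos rfl, add_pow, Finset.sum_range_succ, Finset.sum_range_succ']
      simp only [Nat.add_eq_zero_iff, one_ne_zero, and_false, if_false, Nat.choose_self, Nat.cast_one, mul_one,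
        Nat.sub_self, pow_zero, Nat.choose_zero_right, one_pow, Nat.sub_zero, neg_sub]
      have e : ∀ j, (φ L * t) ^ (j + 1) * ((N' + 1).choose (j + 1) : K) = ((N' + 1).choose (j + 1) : K) * (φ L * t) ^ (j + 1) :=
        fun j => mul_comm _ _
      simp only [e]
      ring
    obtain ⟨a, ha⟩ := (IsIntegrallyClosed.isIntegral_iff (R := A)).mp hint
    refine ⟨a, IsFractionRing.injective A K ?_⟩
    show φ ((x : A) - 1) = φ (L * a)
    rw [map_sub, map_one, map_mul, show φ a = t from ha, ht, add_sub_cancel_right]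
  · rintro ⟨t, ht⟩
    rw [sub_eq_iff_eq_add] at ht
    rw [ht, add_pow, Finset.sum_range_succ']
    simp only [one_pow, mul_one, pow_zero, Nat.choose_zero_right, Nat.cast_one, add_sub_cancel_right]
    refine Finset.dvd_sum fun j hj => ?_
    rw [Finset.mem_range] at hj
    rw [mul_pow]
    rcases eq_or_lt_of_le (show j + 1 ≤ N by omega) with h | h
    · rw [h]; exact (dvd_mul_right _ _).mul_right _
    · have h1 := hdvd (j + 1) h (Nat.succ_ne_zero j)
      rw [show L ^ N = L ^ (j + 1) * L ^ (N - (j + 1)) by rw [← pow_add]; congr 1; omega]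
      exact mul_dvd_mul (dvd_mul_right _ _) h1

end Groth.Agent.S13158
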