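import Groth.Statements.S13160
import Mathlib

set_option autoImplicit false
universe u
open CAlg

namespace Groth.Agent.S13160

open Polynomial in
lemma universal (p : ℕ) [hp : Fact p.Prime] (α β : ℕ → MvPolynomial (Fin 2 × ℕ) ℤ) (n : ℕ) :
    (X : (MvPolynomial (Fin 2 × ℕ) ℤ)[X]) ^ p ∣
      (WittVector.mk p (fun i => X * C (α i)) + WittVector.mk p (fun i => X * C (β i))).coeff n
        - (X * C (α n) + X * C (β n)) := by
  set A := WittVector.mk p (fun i => X * C (α i))
  set B := WittVector.mk p (fun i => X * C (β i))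
  set S := A + B
  induction n using Nat.strong_induction_on with
  | _ n ih =>
    have hx : ∀ i < n, (X : (MvPolynomial (Fin 2 × ℕ) ℤ)[X]) ∣ S.coeff i := fun i hi => by
      have h := (dvd_pow_self X hp.out.ne_zero).trans (ih i hi)
      have := dvd_add h (dvd_add (dvd_mul_right X (C (α i))) (dvd_mul_right X (C (β i))))
      simpa using this
    have g : ∀ W : WittVector p (MvPolynomial (Fin 2 × ℕ) ℤ)[X], WittVector.ghostComponent n W =
        (∑ i ∈ Finset.range n, (p : (MvPolynomial (Fin 2 × ℕ) ℤ)[X]) ^ i * W.coeff i ^ p ^ (n - i)) +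
          (p : (MvPolynomial (Fin 2 × ℕ) ℤ)[X]) ^ n * W.coeff n := by
      intro W
      rw [WittVector.ghostComponent_apply, wittPolynomial_eq_sum_C_mul_X_pow]
      simp [Finset.sum_range_succ, MvPolynomial.aeval_monomial]
    have low : ∀ W : WittVector p (MvPolynomial (Fin 2 × ℕ) ℤ)[X], (∀ i < n, X ∣ W.coeff i) →
        (X : (MvPolynomial (Fin 2 × ℕ) ℤ)[X]) ^ p ∣
          ∑ i ∈ Finset.range n, (p : (MvPolynomial (Fin 2 × ℕ) ℤ)[X]) ^ i * W.coeff i ^ p ^ (n - i) := by
      intro W hW
      refine Finset.dvd_sum fun i hi => Dvd.dvd.mul_left ?_ _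
      have hi := Finset.mem_range.mp hi
      exact (pow_dvd_pow _ (Nat.le_self_pow (by omega) p)).trans (pow_dvd_pow_of_dvd (hW i hi) _)
    have hA := low A fun i _ => dvd_mul_right _ _
    have hB := low B fun i _ => dvd_mul_right _ _
    have hS := low S hx
    have e : WittVector.ghostComponent n S = WittVector.ghostComponent n A +
        WittVector.ghostComponent n B := map_add _ A B
    rw [g, g, g] at e
    have hd : (X : (MvPolynomial (Fin 2 × ℕ) ℤ)[X]) ^ p ∣
        (p : (MvPolynomial (Fin 2 × ℕ) ℤ)[X]) ^ n * (S.coeff n - (X * C (α n) + X * C (β n))) := by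
      have : (p : (MvPolynomial (Fin 2 × ℕ) ℤ)[X]) ^ n * (S.coeff n - (A.coeff n + B.coeff n)) =
          (∑ i ∈ Finset.range n, (p : (MvPolynomial (Fin 2 × ℕ) ℤ)[X]) ^ i * A.coeff i ^ p ^ (n - i)) +
          (∑ i ∈ Finset.range n, (p : (MvPolynomial (Fin 2 × ℕ) ℤ)[X]) ^ i * B.coeff i ^ p ^ (n - i)) -
          (∑ i ∈ Finset.range n, (p : (MvPolynomial (Fin 2 × ℕ) ℤ)[X]) ^ i * S.coeff i ^ p ^ (n - i)) := by
        linear_combination e
      exact this ▸ dvd_sub (dvd_add hA hB) hS
    rw [X_pow_dvd_iff] at hd ⊢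
    intro d hd'
    have h := hd d hd'
    rw [show (p : (MvPolynomial (Fin 2 × ℕ) ℤ)[X]) ^ n = C ((p : MvPolynomial (Fin 2 × ℕ) ℤ) ^ n) by simp,
      coeff_C_mul] at h
    exact (mul_eq_zero.mp h).resolve_left (pow_ne_zero _ (Nat.cast_ne_zero.mpr hp.out.ne_zero))

/-- Let R be a discrete valuation ring, p a prime number and λ an element of R dividing p (so that R/λR
is an 𝔽_p-algebra), and let a and b be p-typical Witt vectors with coefficients in R/λR which are
killed by the Frobenius endomorphism. Then the Witt sum a + b has components a_n + b_n for every n.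
(The published statement allows an arbitrary λ ∈ R and is stated for Witt vectors with finitely many
nonzero components; this row assumes that λ divides p, so that p = 0 in R/λR, and allows all Witt
vectors.) -/
theorem result (R : Type u) [CommRing R] [IsDomain R]
    [IsDiscreteValuationRing R] (p : ℕ) [Fact p.Prime] (lam : R) (hlam : lam ∣ (p : R))
    (a b : WittVector p (R ⧸ Ideal.span {lam})) (ha : WittVector.frobenius a = 0)
    (hb : WittVector.frobenius b = 0) (n : ℕ) : (a + b).coeff n = a.coeff n + b.coeff n := by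
  have hp : p.Prime := Fact.out
  rcases subsingleton_or_nontrivial (R ⧸ Ideal.span {lam}) with hs | hnt
  · exact Subsingleton.elim _ _
  have hp0 : (p : R ⧸ Ideal.span {lam}) = 0 := by
    rw [← map_natCast (Ideal.Quotient.mk (Ideal.span {lam})), Ideal.Quotient.eq_zero_iff_mem,
      Ideal.mem_span_singleton]
    exact hlam
  haveI : CharP (R ⧸ Ideal.span {lam}) p := (CharP.charP_iff_prime_eq_zero hp).mpr hp0
  have ha' : ∀ i, a.coeff i ^ p = 0 := fun i => by
    rw [← WittVector.coeff_frobenius_charP, ha, WittVector.zero_coeff]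
  have hb' : ∀ i, b.coeff i ^ p = 0 := fun i => by
    rw [← WittVector.coeff_frobenius_charP, hb, WittVector.zero_coeff]
  obtain ⟨c, hc⟩ := (inferInstance : IsPrincipalIdealRing R).principal (Ideal.span {x : R | lam ∣ x ^ p})
  change Ideal.span {x : R | lam ∣ x ^ p} = Ideal.span {c} at hc
  have key : ∀ x ∈ Ideal.span {x : R | lam ∣ x ^ p}, lam ∣ x ^ p := by
    intro x hx
    induction hx using Submodule.span_induction with
    | mem x hx => exact hx
    | zero => simp [hp.ne_zero]
    | add x y _ _ hx hy =>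
      rcases ValuationRing.dvd_total x y with ⟨t, rfl⟩ | ⟨t, rfl⟩
      · rw [show x + x * t = x * (1 + t) by ring, mul_pow]; exact hx.mul_right _
      · rw [show y * t + y = y * (1 + t) by ring, mul_pow]; exact hy.mul_right _
    | smul r x _ hx => rw [smul_eq_mul, mul_pow]; exact hx.mul_left _
  have hcp : (Ideal.Quotient.mk (Ideal.span {lam}) c) ^ p = 0 := by
    rw [← map_pow, Ideal.Quotient.eq_zero_iff_mem, Ideal.mem_span_singleton]
    exact key c (hc ▸ Ideal.mem_span_singleton_self c)
  have rep : ∀ z : R ⧸ Ideal.span {lam}, z ^ p = 0 →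
      ∃ t, Ideal.Quotient.mk (Ideal.span {lam}) c * t = z := by
    intro z hz
    obtain ⟨x, rfl⟩ := Ideal.Quotient.mk_surjective z
    rw [← map_pow, Ideal.Quotient.eq_zero_iff_mem, Ideal.mem_span_singleton] at hz
    have hx : x ∈ Ideal.span {x : R | lam ∣ x ^ p} := Ideal.subset_span hz
    rw [hc, Ideal.mem_span_singleton'] at hx
    obtain ⟨t, rfl⟩ := hx
    exact ⟨Ideal.Quotient.mk _ t, by rw [← map_mul, mul_comm]⟩
  choose α hα using fun i => rep _ (ha' i)
  choose β hβ using fun i => rep _ (hb' i)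
  replace hα : ∀ i, α i * Ideal.Quotient.mk (Ideal.span {lam}) c = a.coeff i := fun i => by
    rw [mul_comm]; exact hα i
  replace hβ : ∀ i, β i * Ideal.Quotient.mk (Ideal.span {lam}) c = b.coeff i := fun i => by
    rw [mul_comm]; exact hβ i
  let φ : MvPolynomial (Fin 2 × ℕ) ℤ →+* R ⧸ Ideal.span {lam} :=
    MvPolynomial.eval₂Hom (Int.castRingHom _) fun q => if q.1 = 0 then α q.2 else β q.2
  let ψ : Polynomial (MvPolynomial (Fin 2 × ℕ) ℤ) →+* R ⧸ Ideal.span {lam} :=
    Polynomial.eval₂RingHom φ (Ideal.Quotient.mk _ c)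
  have h := map_dvd ψ (universal p (fun i => MvPolynomial.X (0, i)) (fun i => MvPolynomial.X (1, i)) n)
  set A := WittVector.mk p (fun i => Polynomial.X * Polynomial.C (MvPolynomial.X ((0 : Fin 2), i) : MvPolynomial (Fin 2 × ℕ) ℤ))
  set B := WittVector.mk p (fun i => Polynomial.X * Polynomial.C (MvPolynomial.X ((1 : Fin 2), i) : MvPolynomial (Fin 2 × ℕ) ℤ))
  have eA : WittVector.map ψ A = a := WittVector.ext fun i => by
    rw [WittVector.map_coeff]; simp [A, ψ, φ, hα]
  have eB : WittVector.map ψ B = b := WittVector.ext fun i => by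
    rw [WittVector.map_coeff]; simp [B, ψ, φ, hβ]
  rw [map_pow, map_sub, map_add, ← WittVector.map_coeff, map_add, eA, eB] at h
  simp [ψ, φ, hcp, hα, hβ] at h
  exact sub_eq_zero.mp h

end Groth.Agent.S13160
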