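import Groth.Statements.S13161
import Mathlib

set_option autoImplicit false
universe u
open scoped TensorProduct
open CAlg

namespace Groth.Agent.S13161

/-- Let R be a discrete valuation ring with fraction field K, A an R-algebra which is semireflexive as
an R-module (the map to its double dual is injective: every nonzero a ∈ A has an R-linear form f : A
→ R with f(a) ≠ 0), and B an A-algebra which is finitely generated as an A-module and flat over R.
Suppose B ⊗ K is semireflexive as a module over A ⊗ K, which for such B amounts to: every nonzero b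
∈ B has an A-linear map g : B → A ⊗_R K with g(b) ≠ 0. Then B is semireflexive as an R-module: every
nonzero b ∈ B has an R-linear form h : B → R with h(b) ≠ 0. (The published statement phrases the
hypothesis on B_K as an A_K-module; for B flat over R and finite over A this is the elementwise
condition used here.) -/
theorem result (R : Type u) [CommRing R] [IsDomain R]
    [IsDiscreteValuationRing R] (K : Type u) [Field K] [Algebra R K] [IsFractionRing R K]
    (A B : Type u) [CommRing A] [CommRing B] [Algebra R A] [Algebra R B] [Algebra A B] [IsScalarTower R A B]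
    [Module.Finite A B] [Module.Flat R B]
    (hA : ∀ a : A, a ≠ 0 → ∃ f : A →ₗ[R] R, f a ≠ 0)
    (hBK : ∀ b : B, b ≠ 0 → ∃ g : B →ₗ[A] A ⊗[R] K, g b ≠ 0) :
    ∀ b : B, b ≠ 0 → ∃ h : B →ₗ[R] R, h b ≠ 0 := by
  classical
  intro b hb
  have hA0 : ∀ (r : R) (a : A), r ≠ 0 → r • a = 0 → a = 0 := fun r a hr h => by
    by_contra ha
    obtain ⟨f, hf⟩ := hA a ha
    have := congrArg f h
    rw [map_smul, map_zero, smul_eq_mul] at this
    exact hf ((mul_eq_zero.1 this).resolve_left hr)
  haveI : Module.IsTorsionFree R A :=
    ⟨fun r hr x y hxy => sub_eq_zero.1 (hA0 r _ hr.ne_zero (by rw [smul_sub]; exact sub_eq_zero.2 hxy))⟩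
  haveI : Module.Flat R A := inferInstance
  let ι : A →ₗ[A] A ⊗[R] K := (Algebra.TensorProduct.includeLeft : A →ₐ[A] A ⊗[R] K).toLinearMap
  have hι : Function.Injective ι :=
    Algebra.TensorProduct.includeLeft_injective (R := R) (S := A) (A := A) (B := K) (IsFractionRing.injective R K)
  have hden : ∀ z : A ⊗[R] K, ∃ r : R, r ≠ 0 ∧ r • z ∈ LinearMap.range ι := fun z => by
    induction z using TensorProduct.induction_on with
    | zero => exact ⟨1, one_ne_zero, by simp⟩
    | tmul a κ =>
      obtain ⟨n, d, hd, rfl⟩ := IsFractionRing.div_surjective (A := R) κ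
      refine ⟨d, nonZeroDivisors.ne_zero hd, n • a, ?_⟩
      show (n • a) ⊗ₜ[R] (1 : K) = d • (a ⊗ₜ[R] _)
      rw [TensorProduct.smul_tmul, ← TensorProduct.tmul_smul]
      congr 1
      rw [Algebra.smul_def, Algebra.smul_def, mul_one, mul_div_cancel₀]
      exact IsFractionRing.to_map_ne_zero_of_mem_nonZeroDivisors hd
    | add x y hx hy =>
      obtain ⟨r, hr, a, ha⟩ := hx
      obtain ⟨s, hs, c, hc⟩ := hy
      refine ⟨r * s, mul_ne_zero hr hs, s • a + r • c, ?_⟩
      rw [smul_add, map_add, LinearMap.map_smul_of_tower, LinearMap.map_smul_of_tower, ha, hc,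
        smul_smul, smul_smul, mul_comm s r]
  obtain ⟨g, hg⟩ := hBK b hb
  obtain ⟨T, hT⟩ := Module.Finite.fg_top (R := A) (M := B)
  choose r hr hrmem using fun x : B => hden (g x)
  let c : R := ∏ x ∈ T, r x
  have hc : c ≠ 0 := Finset.prod_ne_zero_iff.2 fun x _ => hr x
  have hmem : ∀ x, (c • g) x ∈ LinearMap.range ι := by
    have : (⊤ : Submodule A B) ≤ (LinearMap.range ι).comap (c • g) := by
      rw [← hT, Submodule.span_le]
      intro x hx
      show c • g x ∈ LinearMap.range ι
      rw [show c = (∏ y ∈ T.erase x, r y) * r x from (Finset.prod_erase_mul _ _ hx).symm, mul_smul]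
      exact Submodule.smul_of_tower_mem _ _ (hrmem x)
    exact fun x => this Submodule.mem_top
  let g' : B →ₗ[A] A := (LinearEquiv.ofInjective ι hι).symm.toLinearMap ∘ₗ LinearMap.codRestrict _ (c • g) hmem
  have hg' : g' b ≠ 0 := fun h => by
    have h1 : (c • g) b = 0 := by
      have := congrArg (LinearEquiv.ofInjective ι hι) h
      simp only [g', LinearMap.comp_apply, LinearEquiv.coe_coe, LinearEquiv.apply_symm_apply, map_zero] at this
      exact congrArg Subtype.val this
    apply hg
    have h2 : ((1 : A) ⊗ₜ[R] (algebraMap R K c)⁻¹) * (c • g b) = g b := by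
      rw [Algebra.smul_def, Algebra.TensorProduct.algebraMap_apply, ← mul_assoc,
        Algebra.TensorProduct.tmul_mul_tmul, one_mul, mul_one]
      have : ((algebraMap R A c) ⊗ₜ[R] (algebraMap R K c)⁻¹ : A ⊗[R] K) = 1 := by
        rw [Algebra.algebraMap_eq_smul_one, TensorProduct.smul_tmul, Algebra.smul_def, mul_inv_cancel₀]
        · rfl
        · exact (map_ne_zero_iff _ (IsFractionRing.injective R K)).2 hc
      rw [this, one_mul]
    rw [← h2, show c • g b = (c • g) b from rfl, h1, mul_zero]
  obtain ⟨f, hf⟩ := hA _ hg'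
  exact ⟨f ∘ₗ g'.restrictScalars R, hf⟩

end Groth.Agent.S13161
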