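import Groth.Statements.S13162
import Mathlib.GroupTheory.Sylow
import Mathlib.RingTheory.Ideal.Quotient.Operations
import Mathlib.Algebra.BigOperators.GroupWithZero.Action

set_option autoImplicit false
universe u v
open ZeroCyc

namespace Groth.Agent.S13162

/-- Let a finite group G act on a commutative ring A by ring automorphisms and let p be a prime such
that every integer prime to p is a unit in A. If I is an ideal of A and f ∈ A has G-invariant class
modulo I, then f^(p^k) is congruent modulo I to a G-invariant element of A, where p^k is the exact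
power of p dividing the order of G. (The published statement assumes I stable under G, so that G
acts on A/I and the claim reads: the p^k-th power of an invariant of A/I lies in the image of the
invariants of A; the form here asks only that the class of f be invariant.) -/
theorem result {A : Type u} [CommRing A] {G : Type v} [Group G] [Fintype G]
    [MulSemiringAction G A] (p : ℕ) [Fact p.Prime]
    (hA : ∀ m : ℕ, ¬ p ∣ m → IsUnit (m : A))
    (I : Ideal A) (f : A) (hf : ∀ g : G, g • f - f ∈ I) :
    ∃ a : A, (∀ g : G, g • a = a) ∧ a - f ^ (p ^ (Fintype.card G).factorization p) ∈ I := by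
  classical
  obtain ⟨P⟩ : Nonempty (Sylow p G) := inferInstance
  have hcard : Fintype.card (P : Subgroup G) = p ^ (Fintype.card G).factorization p := by
    have := Sylow.card_eq_multiplicity P
    simpa [Nat.card_eq_fintype_card] using this
  let N : A := ∏ h : (P : Subgroup G), (h : G) • f
  have hNinv : ∀ h : G, h ∈ (P : Subgroup G) → h • N = N := by
    intro h hh
    simp only [N, Finset.smul_prod', smul_smul]
    exact Equiv.prod_comp (Equiv.mulLeft (⟨h, hh⟩ : (P : Subgroup G))) fun x : (P : Subgroup G) => (x : G) • f
  let Q := Ideal.Quotient.mk I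
  have hq : ∀ g : G, Q (g • f) = Q f := fun g => Ideal.Quotient.eq.mpr (hf g)
  have hgN : ∀ g : G, Q (g • N) = Q f ^ (p ^ (Fintype.card G).factorization p) := by
    intro g
    simp only [N, Finset.smul_prod', smul_smul, map_prod, hq, Finset.prod_const, Finset.card_univ, hcard]
  have hu : IsUnit ((Fintype.card (G ⧸ (P : Subgroup G)) : ℕ) : A) := by
    refine hA _ ?_
    have h := Sylow.not_dvd_index P
    rwa [Subgroup.index_eq_card, Nat.card_eq_fintype_card] at h
  obtain ⟨u, hu⟩ := hu
  let T : A := ∑ q : G ⧸ (P : Subgroup G), q.out • N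
  refine ⟨((u⁻¹ : Aˣ) : A) * T, fun g => ?_, ?_⟩
  · have hg1 : g • ((u⁻¹ : Aˣ) : A) = ((u⁻¹ : Aˣ) : A) := by
      apply (IsUnit.mul_left_inj (u.isUnit)).mp
      calc g • ((u⁻¹ : Aˣ) : A) * u = g • ((u⁻¹ : Aˣ) : A) * g • (u : A) := by
            congr 1
            rw [hu]
            exact (map_natCast (MulSemiringAction.toRingHom G A g) _).symm
        _ = g • (1 : A) := by rw [← smul_mul', Units.inv_mul]
        _ = ((u⁻¹ : Aˣ) : A) * u := by rw [smul_one, Units.inv_mul]
    rw [smul_mul', hg1]
    congr 1
    simp only [T, Finset.smul_sum, smul_smul]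
    refine Fintype.sum_equiv (MulAction.toPerm g) _ _ fun q => ?_
    have he : ((g • q).out)⁻¹ * (g * q.out) ∈ (P : Subgroup G) := by
      rw [← QuotientGroup.eq, QuotientGroup.out_eq', ← smul_eq_mul g q.out, ← MulAction.Quotient.smul_mk,
        QuotientGroup.out_eq']
    conv_rhs => rw [MulAction.toPerm_apply, ← hNinv _ he, smul_smul, mul_inv_cancel_left]
  · rw [← Ideal.Quotient.eq]
    show Q (((u⁻¹ : Aˣ) : A) * T) = Q (f ^ _)
    rw [map_mul, map_pow]
    simp only [T, map_sum, hgN, Finset.sum_const, Finset.card_univ, nsmul_eq_mul]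
    rw [← mul_assoc, ← map_natCast Q, ← hu, ← map_mul, Units.inv_mul, map_one, one_mul]

end Groth.Agent.S13162
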