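import Groth.Statements.S13163
-- import your own Groth.Agent.* helpers here

set_option autoImplicit false
universe u
open ZeroCyc

namespace Groth.Agent.S13163

open Polynomial in
/-- Let P_d(T) = ∏_{0 ≤ i < j ≤ d} (T^i − T^j) − 1 ∈ ℤ[T]. Every residue field of ℤ[T]/(P_d), i.e. every
field receiving a ring homomorphism from it, has at least d + 1 elements. -/
theorem result (d : ℕ) (k : Type u) [Field k]
    (φ : (ℤ[X] ⧸ Ideal.span {(∏ j ∈ Finset.range (d + 1), ∏ i ∈ Finset.range j,
        ((X : ℤ[X]) ^ i - X ^ j)) - 1}) →+* k) :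
    ((d + 1 : ℕ) : Cardinal) ≤ Cardinal.mk k := by
  classical
  set P : ℤ[X] := ∏ j ∈ Finset.range (d + 1), ∏ i ∈ Finset.range j, ((X : ℤ[X]) ^ i - X ^ j)
  let ψ : ℤ[X] →+* k := φ.comp (Ideal.Quotient.mk _)
  have h1 : ψ P = 1 := by
    have : ψ (P - 1) = 0 := by
      simp only [ψ, RingHom.comp_apply]
      rw [Ideal.Quotient.eq_zero_iff_mem.mpr (Ideal.mem_span_singleton_self (P - 1)), map_zero]
    rwa [map_sub, map_one, sub_eq_zero] at this
  have hne : ∀ i j : ℕ, i < j → j < d + 1 → ψ X ^ i ≠ ψ X ^ j := by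
    intro i j hij hj he
    have h0 : ψ P = 0 := by
      rw [map_prod]
      refine Finset.prod_eq_zero (Finset.mem_range.mpr hj) ?_
      rw [map_prod]
      refine Finset.prod_eq_zero (Finset.mem_range.mpr hij) ?_
      rw [map_sub, map_pow, map_pow, he, sub_self]
    exact one_ne_zero (h1.symm.trans h0)
  have hinj : Function.Injective fun i : Fin (d + 1) => ψ X ^ (i : ℕ) := by
    intro i j h
    rcases lt_trichotomy (i : ℕ) j with hl | hl | hl
    · exact absurd h (hne _ _ hl j.2)
    · exact Fin.ext hl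
    · exact absurd h.symm (hne _ _ hl i.2)
  have := Cardinal.lift_mk_le_lift_mk_of_injective hinj
  simpa using this

end Groth.Agent.S13163
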