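import Groth.Statements.S13166
import Groth.Agent.Cycles.Avoid

set_option autoImplicit false
universe u
open ZeroCyc

namespace Groth.Agent.S13166

/-- Let k be a field, B a k-algebra generated as an algebra by a k-subspace V, k'/k a field extension
and x_1, …, x_d pairwise distinct k'-points of B ⊗_k k' (equivalently, distinct k-algebra
homomorphisms B → k'). If k has at least d(d − 1)/2 elements, then there is b ∈ V whose values at
x_1, …, x_d are pairwise distinct. -/
theorem result {k : Type u} [Field k] {B : Type u} [CommRing B] [Algebra k B] (V : Submodule k B)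
    (hV : Algebra.adjoin k (V : Set B) = ⊤) {k' : Type u} [Field k'] [Algebra k k']
    {d : ℕ} (x : Fin d → (B →ₐ[k] k')) (hx : Function.Injective x)
    (hk : ((d.choose 2 : ℕ) : Cardinal) ≤ Cardinal.mk k) :
    ∃ b ∈ V, Function.Injective fun i => x i b := by
  classical
  let L : Fin d → (V →ₗ[k] k') := fun i => (x i).toLinearMap.domRestrict V
  let p : Finset (Fin d) → Submodule k V := fun e =>
    ⨅ i ∈ e, ⨅ j ∈ e, LinearMap.ker (L i - L j)
  obtain ⟨b, hb⟩ := Groth.Cycles.exists_notMem_of_card_le p
    ((Finset.univ : Finset (Fin d)).powersetCard 2) (fun e he htop => by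
      obtain ⟨i, j, hij, rfl⟩ := Finset.card_eq_two.mp (Finset.mem_powersetCard.mp he).2
      refine hij (hx (AlgHom.ext_of_adjoin_eq_top hV fun v hv => ?_))
      have : (⟨v, hv⟩ : V) ∈ p {i, j} := htop ▸ Submodule.mem_top
      simp only [p, Submodule.mem_iInf] at this
      have := this i (by simp) j (by simp)
      rw [LinearMap.mem_ker, LinearMap.sub_apply, sub_eq_zero] at this
      exact this) (by simpa using hk)
  refine ⟨b, b.2, fun i j hij => ?_⟩
  by_contra hne
  refine hb {i, j} (Finset.mem_powersetCard.mpr ⟨Finset.subset_univ _, Finset.card_pair hne⟩) ?_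
  simp only [p, Submodule.mem_iInf, LinearMap.mem_ker, LinearMap.sub_apply, sub_eq_zero]
  intro a ha a' ha'
  rcases Finset.mem_insert.mp ha with rfl | ha <;> rcases Finset.mem_insert.mp ha' with rfl | ha' <;>
    simp_all [L, LinearMap.domRestrict_apply]

end Groth.Agent.S13166
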