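import Groth.Statements.S13167
import Groth.Agent.Cycles.Avoid
import Mathlib.LinearAlgebra.TensorProduct.Tower
import Mathlib.RingTheory.TensorProduct.Basic
import Mathlib.RingTheory.LocalRing.ResidueField.Ideal

set_option autoImplicit false
universe u
open scoped TensorProduct
open AlgebraicGeometry
open ZeroCyc

namespace Groth.Agent.S13167

/-- Let B be a graded R-algebra generated by its degree-one part B_1, with B_1 a finitely generated
R-module, and let x_1, …, x_d be points of X = Proj B lying over one and the same prime p of R. If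
the residue field of p has at least d elements, then some f ∈ B_1 ⊆ Γ(X, O_X(1)) has all the x_i in
D_+(f). (Without the hypothesis on the residue field such an f exists in some B_n with n ≥ 1; that
first assertion is a known property of ample sheaves and is not restated here.) -/
theorem result {R A : Type u} [CommRing R] [CommRing A] [Algebra R A] (𝒜 : ℕ → Submodule R A) [GradedAlgebra 𝒜]
    (hgen : Algebra.adjoin R (𝒜 1 : Set A) = ⊤) (hfg : (𝒜 1).FG)
    (p : Ideal R) [p.IsPrime] {d : ℕ} (x : Fin d → Proj 𝒜)
    (hx : ∀ i, ((x i).asHomogeneousIdeal.toIdeal).comap (algebraMap R A) = p)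
    (hcard : (d : Cardinal) ≤ Cardinal.mk p.ResidueField) :
    ∃ g ∈ 𝒜 1, ∀ i, x i ∈ Proj.basicOpen 𝒜 g := by
  classical
  let P : Fin d → Ideal A := fun i => (x i).asHomogeneousIdeal.toIdeal
  have hP : ∀ i, (P i).IsPrime := fun i => (x i).isPrime
  let k := p.ResidueField
  let L : Fin d → Type u := fun i => FractionRing (A ⧸ P i)
  let jR : ∀ i, R →+* L i := fun i => algebraMap R (L i)
  have hj : ∀ i r, jR i r = 0 ↔ r ∈ p := by
    intro i r
    simp only [jR]
    rw [IsScalarTower.algebraMap_apply R (A ⧸ P i) (L i), map_eq_zero_iff _ (IsFractionRing.injective _ _),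
      ← Ideal.Quotient.mk_algebraMap, Ideal.Quotient.eq_zero_iff_mem, ← hx i]
    rfl
  let jk : ∀ i, k →+* L i := fun i => IsFractionRing.lift (A := R ⧸ p) (K := k)
    (g := Ideal.Quotient.lift p (jR i) (fun r hr => (hj i r).mpr hr)) (by
      rw [injective_iff_map_eq_zero]
      intro z hz
      obtain ⟨r, rfl⟩ := Ideal.Quotient.mk_surjective z
      rw [Ideal.Quotient.lift_mk, hj] at hz
      exact Ideal.Quotient.eq_zero_iff_mem.mpr hz)
  have hjk : ∀ i r, jk i (algebraMap R k r) = jR i r := by
    intro i r
    rw [IsScalarTower.algebraMap_apply R (R ⧸ p) k]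
    exact IsFractionRing.lift_algebraMap _ _
  have key : ∀ i, ∃ K : Submodule k (k ⊗[R] (𝒜 1)), K ≠ ⊤ ∧
      ∀ b : 𝒜 1, (b : A) ∈ P i → (1 : k) ⊗ₜ[R] b ∈ K := by
    intro i
    let _ : Algebra k (L i) := (jk i).toAlgebra
    have : IsScalarTower R k (L i) := IsScalarTower.of_algebraMap_eq fun r => (hjk i r).symm
    let φ : 𝒜 1 →ₗ[R] L i :=
      { toFun := fun b => algebraMap (A ⧸ P i) (L i) (Ideal.Quotient.mk (P i) (b : A))
        map_add' := fun b c => by simp
        map_smul' := fun r b => by
          simp only [RingHom.id_apply, Submodule.coe_smul]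
          rw [Algebra.smul_def r (algebraMap (A ⧸ P i) (L i) _), IsScalarTower.algebraMap_apply R (A ⧸ P i) (L i),
            Algebra.smul_def, map_mul, map_mul, Ideal.Quotient.mk_algebraMap] }
    refine ⟨LinearMap.ker (φ.liftBaseChange k), ?_, fun b hb => ?_⟩
    · intro htop
      obtain ⟨b, hb⟩ : ∃ b : 𝒜 1, (b : A) ∉ P i := by
        by_contra hc
        push Not at hc
        refine (x i).not_irrelevant_le ?_
        intro y hy
        rw [HomogeneousIdeal.mem_irrelevant_iff, GradedRing.proj_apply] at hy
        have hmem : ∀ z ∈ Algebra.adjoin R (𝒜 1 : Set A),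
            ∀ j, 0 < j → (DirectSum.decompose 𝒜 z j : A) ∈ P i := by
          intro z hz j hj0
          induction hz using Algebra.adjoin_induction generalizing j with
          | mem z hz =>
            by_cases h : 1 = j
            · subst h
              rw [DirectSum.decompose_of_mem_same 𝒜 hz]
              exact hc ⟨z, hz⟩
            · rw [DirectSum.decompose_of_mem_ne 𝒜 hz h]
              exact Ideal.zero_mem _
          | algebraMap r =>
            rw [DirectSum.decompose_of_mem_ne 𝒜 (SetLike.algebraMap_mem_graded 𝒜 r) hj0.ne]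
            exact Ideal.zero_mem _
          | add u v _ _ hu hv =>
            rw [DirectSum.decompose_add, DirectSum.add_apply, Submodule.coe_add]
            exact Ideal.add_mem _ (hu j hj0) (hv j hj0)
          | mul u v _ _ hu hv =>
            rw [DirectSum.decompose_mul, DirectSum.coe_mul_apply]
            refine Ideal.sum_mem _ fun q hq => ?_
            rw [Finset.mem_filter] at hq
            rcases Nat.eq_zero_or_pos q.1 with h | h
            · exact Ideal.mul_mem_left _ _ (hv q.2 (by omega))
            · exact Ideal.mul_mem_right _ _ (hu q.1 h)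
        show y ∈ P i
        rw [← DirectSum.sum_support_decompose 𝒜 y]
        refine Ideal.sum_mem _ fun j _ => ?_
        rcases Nat.eq_zero_or_pos j with rfl | hj0
        · rw [hy]
          exact Ideal.zero_mem _
        · exact hmem y (hgen ▸ Algebra.mem_top) j hj0
      have h0 : φ.liftBaseChange k ((1 : k) ⊗ₜ[R] b) = 0 := by
        rw [← LinearMap.mem_ker, htop]
        exact Submodule.mem_top
      rw [LinearMap.liftBaseChange_tmul, one_smul] at h0
      refine hb (Ideal.Quotient.eq_zero_iff_mem.mp ((map_eq_zero_iff _ (IsFractionRing.injective _ (L i))).mp h0))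
    · rw [LinearMap.mem_ker, LinearMap.liftBaseChange_tmul, one_smul]
      show algebraMap (A ⧸ P i) (L i) (Ideal.Quotient.mk (P i) (b : A)) = 0
      rw [Ideal.Quotient.eq_zero_iff_mem.mpr hb, map_zero]
  choose K hK hKmem using key
  obtain ⟨q, hq⟩ := Groth.Cycles.exists_notMem_of_card_le K Finset.univ (fun i _ => hK i) (by simpa using hcard)
  obtain ⟨t, b, ht, htq⟩ : ∃ (t : R) (b : 𝒜 1), t ∉ p ∧ t • q = (1 : k) ⊗ₜ[R] b := by
    clear hq
    induction q using TensorProduct.induction_on with
    | zero => exact ⟨1, 0, fun h => (‹p.IsPrime›).ne_top ((Ideal.eq_top_iff_one p).mpr h), by simp⟩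
    | tmul z m =>
      obtain ⟨u, v, hv, rfl⟩ := IsFractionRing.div_surjective (R ⧸ p) z
      obtain ⟨u, rfl⟩ := Ideal.Quotient.mk_surjective u
      obtain ⟨v, rfl⟩ := Ideal.Quotient.mk_surjective v
      have hv' : v ∉ p := fun h =>
        nonZeroDivisors.ne_zero hv (Ideal.Quotient.eq_zero_iff_mem.mpr h)
      refine ⟨v, u • m, hv', ?_⟩
      rw [TensorProduct.smul_tmul', TensorProduct.tmul_smul, TensorProduct.smul_tmul',
        Algebra.smul_def, Algebra.smul_def, mul_one]
      congr 1
      show algebraMap R k v * (algebraMap (R ⧸ p) k _ / algebraMap (R ⧸ p) k _) = algebraMap R k u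
      rw [IsScalarTower.algebraMap_apply R (R ⧸ p) k, IsScalarTower.algebraMap_apply R (R ⧸ p) k]
      refine mul_div_cancel₀ _ ?_
      rw [ne_eq, map_eq_zero_iff _ (IsFractionRing.injective _ _)]
      exact nonZeroDivisors.ne_zero hv
    | add a b iha ihb =>
      obtain ⟨t₁, b₁, ht₁, h₁⟩ := iha
      obtain ⟨t₂, b₂, ht₂, h₂⟩ := ihb
      refine ⟨t₁ * t₂, t₂ • b₁ + t₁ • b₂, fun h => ((‹p.IsPrime›).mem_or_mem h).elim ht₁ ht₂, ?_⟩
      rw [smul_add, mul_comm, ← smul_smul, h₁, mul_comm, ← smul_smul, h₂, TensorProduct.tmul_add,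
        TensorProduct.tmul_smul, TensorProduct.tmul_smul]
  refine ⟨b, b.2, fun i => ?_⟩
  rw [Proj.mem_basicOpen]
  intro hbi
  refine hq i (Finset.mem_univ _) ?_
  have h1 : algebraMap R k t • q ∈ K i := by
    rw [algebraMap_smul, htq]
    exact hKmem i b hbi
  have hne : algebraMap R k t ≠ 0 := fun h => ht (Ideal.algebraMap_residueField_eq_zero.mp h)
  exact ((K i).smul_mem_iff hne).mp h1

end Groth.Agent.S13167
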