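import Groth.Statements.S13168
-- import your own Groth.Agent.* helpers here

set_option autoImplicit false
universe u
open AlgebraicGeometry
open ZeroCyc

namespace Groth.Agent.S13168

/-- Let B be a graded R-algebra generated by homogeneous elements f_1, …, f_s of positive degrees d_1,
…, d_s, let l be the least common multiple of the d_i and X = Proj B. For n = a l with a ≥ 1, X is
the union of the opens D_+(g), g ∈ B_n. -/
theorem result {R A : Type u} [CommRing R] [CommRing A] [Algebra R A] (𝒜 : ℕ → Submodule R A) [GradedAlgebra 𝒜]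
    {s : ℕ} (f : Fin s → A) (deg : Fin s → ℕ) (hdeg : ∀ i, 0 < deg i) (hf : ∀ i, f i ∈ 𝒜 (deg i))
    (hgen : Algebra.adjoin R (Set.range f) = ⊤) (a : ℕ) (ha : 0 < a) :
    (⨆ g : 𝒜 (a * Finset.univ.lcm deg), Proj.basicOpen 𝒜 (g : A)) = ⊤ := by
  refine top_le_iff.mp fun x _ => ?_
  rw [TopologicalSpace.Opens.mem_iSup]
  obtain ⟨i, hi⟩ : ∃ i, f i ∉ x.asHomogeneousIdeal := by
    by_contra hc
    push Not at hc
    refine x.not_irrelevant_le ?_
    intro b hb
    rw [HomogeneousIdeal.mem_irrelevant_iff, GradedRing.proj_apply] at hb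
    have hspan : b ∈ Algebra.adjoin R (Set.range f) := hgen ▸ Algebra.mem_top
    have key : ∀ y ∈ Algebra.adjoin R (Set.range f), ∀ (j : ℕ), 0 < j →
        (DirectSum.decompose 𝒜 y j : A) ∈ x.asHomogeneousIdeal.toIdeal := by
      intro y hy j hj
      induction hy using Algebra.adjoin_induction generalizing j with
      | mem z hz =>
        obtain ⟨i, rfl⟩ := hz
        by_cases h : deg i = j
        · subst h
          rw [DirectSum.decompose_of_mem_same 𝒜 (hf i)]
          exact hc i
        · rw [DirectSum.decompose_of_mem_ne 𝒜 (hf i) h]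
          exact Ideal.zero_mem _
      | algebraMap r =>
        rw [DirectSum.decompose_of_mem_ne 𝒜 (SetLike.algebraMap_mem_graded 𝒜 r) hj.ne]
        exact Ideal.zero_mem _
      | add y z _ _ hy hz =>
        rw [DirectSum.decompose_add, DirectSum.add_apply, Submodule.coe_add]
        exact Ideal.add_mem _ (hy j hj) (hz j hj)
      | mul y z _ _ hy hz =>
        classical
        rw [DirectSum.decompose_mul, DirectSum.coe_mul_apply]
        refine Ideal.sum_mem _ fun p hp => ?_
        rw [Finset.mem_filter] at hp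
        rcases Nat.eq_zero_or_pos p.1 with h | h
        · exact Ideal.mul_mem_left _ _ (hz p.2 (by omega))
        · exact Ideal.mul_mem_right _ _ (hy p.1 h)
    classical
    rw [← DirectSum.sum_support_decompose 𝒜 b]
    refine Ideal.sum_mem _ fun j _ => ?_
    rcases Nat.eq_zero_or_pos j with rfl | hj
    · rw [hb]
      exact Ideal.zero_mem _
    · exact key b hspan j hj
  obtain ⟨c, hc⟩ : deg i ∣ a * Finset.univ.lcm deg := Dvd.dvd.mul_left (Finset.dvd_lcm (Finset.mem_univ i)) a
  refine ⟨⟨f i ^ c, by rw [hc, mul_comm]; exact SetLike.pow_mem_graded c (hf i)⟩, ?_⟩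
  rw [Proj.mem_basicOpen]
  intro h
  exact hi (x.isPrime.mem_of_pow_mem c h)

end Groth.Agent.S13168
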