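import Groth.Statements.S13178
import Groth.Agent.FieldLaw.Basic
-- import your own Groth.Agent.* helpers here

set_option autoImplicit false
universe u
open scoped TensorProduct
open ZeroCyc

namespace Groth.Agent.S13178

section Helpers

theorem mem_of_pow_coprime {K : Type*} [Field K] {F : Type*} [Field F] [Algebra F K]
    (L : IntermediateField F K) {z : K} {a b : ℕ} (h : Nat.Coprime a b) (ha : z ^ a ∈ L)
    (hb : z ^ b ∈ L) : z ∈ L := by
  by_cases hz : z = 0
  · subst hz; exact zero_mem L
  have : z = (z ^ a) ^ Nat.gcdA a b * (z ^ b) ^ Nat.gcdB a b := by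
    rw [← zpow_natCast z a, ← zpow_natCast z b, ← zpow_mul, ← zpow_mul, ← zpow_add₀ hz,
      ← Nat.gcd_eq_gcd_ab, h.gcd_eq_one, Nat.cast_one, zpow_one]
  rw [this]
  exact mul_mem (zpow_mem ha _) (zpow_mem hb _)

/-- The exponent is a power of the exponential characteristic. -/
theorem exponent_eq_pow {k : Type u} [Field k] {K : Type u} [Field K] [Algebra k K]
    [FiniteDimensional k K] (q : ℕ) [ExpChar k q] (e : ℕ) (he : 0 < e)
    (hexp : ∀ x : K, x ^ e ∈ separableClosure k K)
    (hmin : ∀ n : ℕ, 0 < n → (∀ x : K, x ^ n ∈ separableClosure k K) → e ≤ n) :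
    ∃ r, e = q ^ r := by
  rcases expChar_is_prime_or_one k q with hq | hq
  · obtain ⟨v, m, hm, rfl⟩ := Nat.exists_eq_pow_mul_and_not_dvd he.ne' q hq.ne_one
    refine ⟨v, ?_⟩
    have hmem : ∀ x : K, x ^ q ^ v ∈ separableClosure k K := by
      intro x
      haveI : ExpChar (separableClosure k K) q :=
        expChar_of_injective_algebraMap (algebraMap k _).injective q
      obtain ⟨n, y, hy⟩ := IsPurelyInseparable.pow_mem (separableClosure k K) q (x ^ q ^ v)
      refine mem_of_pow_coprime _ (a := m) (b := q ^ n)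
        (Nat.Coprime.pow_right n (Nat.Coprime.symm (hq.coprime_iff_not_dvd.mpr hm))) ?_
        (hy ▸ y.2)
      rw [← pow_mul]
      exact hexp x
    have := hmin _ (pow_pos hq.pos v) hmem
    have h2 : q ^ v ≤ q ^ v * m := Nat.le_mul_of_pos_right _ (Nat.pos_of_ne_zero fun h => hm (h ▸ dvd_zero q))
    omega
  · refine ⟨0, le_antisymm ?_ he⟩
    subst hq
    haveI : CharZero k := charZero_of_expChar_one' k
    haveI : Algebra.IsSeparable k K := inferInstance
    refine hmin 1 one_pos fun x => ?_
    rw [pow_one]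
    exact mem_separableClosure_iff.mpr (Algebra.IsSeparable.isSeparable k x)

end Helpers

/-- Let K/k be a finite field extension with separable degree d_s and exponent e (the least e ≥ 1 such
that x^e is separable over k for every x ∈ K), and let d ≥ 0. The k-points of Γ^d(Spec K / Spec k)
are the multiplicative polynomial laws K → k over k that are homogeneous of degree d; there is at
most one such law, and one exists if and only if the quasi-degree d_s·e divides d. (The
identification of k-points of Γ^d with multiplicative homogeneous laws is the universal property of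
the algebra of divided powers; the row is stated directly for laws.) -/
theorem result {k : Type u} [Field k] {K : Type u} [Field K] [Algebra k K]
    [FiniteDimensional k K] (d e : ℕ) (he : 0 < e) (hexp : ∀ x : K, x ^ e ∈ separableClosure k K)
    (hmin : ∀ n : ℕ, 0 < n → (∀ x : K, x ^ n ∈ separableClosure k K) → e ≤ n) :
    (∀ F F' : K →ₚₗ[k] k,
      ((∀ (S : Type u) [CommRing S] [Algebra k S], F.toFun' S 1 = 1 ∧
        ∀ x y : S ⊗[k] K, F.toFun' S (x * y) = F.toFun' S x * F.toFun' S y) ∧
      ∀ (S : Type u) [CommRing S] [Algebra k S] (a : S) (z : S ⊗[k] K), F.toFun' S (a • z) = a ^ d • F.toFun' S z) →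
      ((∀ (S : Type u) [CommRing S] [Algebra k S], F'.toFun' S 1 = 1 ∧
        ∀ x y : S ⊗[k] K, F'.toFun' S (x * y) = F'.toFun' S x * F'.toFun' S y) ∧
      ∀ (S : Type u) [CommRing S] [Algebra k S] (a : S) (z : S ⊗[k] K), F'.toFun' S (a • z) = a ^ d • F'.toFun' S z) → F = F') ∧
    ((∃ F : K →ₚₗ[k] k, ((∀ (S : Type u) [CommRing S] [Algebra k S], F.toFun' S 1 = 1 ∧
        ∀ x y : S ⊗[k] K, F.toFun' S (x * y) = F.toFun' S x * F.toFun' S y) ∧
      ∀ (S : Type u) [CommRing S] [Algebra k S] (a : S) (z : S ⊗[k] K), F.toFun' S (a • z) = a ^ d • F.toFun' S z)) ↔ Field.finSepDegree k K * e ∣ d) := by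
  classical
  let q := ringExpChar k
  haveI : ExpChar k q := ringExpChar.expChar k
  obtain ⟨r, rfl⟩ : ∃ r, e = q ^ r := exponent_eq_pow (ringExpChar k) e he hexp hmin
  refine ⟨fun F F' hF hF' => Groth.FieldLaw.unique q r hexp F F' hF hF', ?_, fun h => ?_⟩
  · rintro ⟨F, hF⟩
    rcases expChar_is_prime_or_one k q with hq | hq
    · refine Groth.FieldLaw.dvd_of_exists q r hexp hq F hF fun v hv => ?_
      by_contra hcon
      push Not at hcon
      exact absurd (hmin _ (pow_pos hq.pos v) hcon) (not_le.mpr (pow_lt_pow_right₀ hq.one_lt hv))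
    · obtain ⟨a, ha, -⟩ := Groth.FieldLaw.exists_exponent q r hexp F hF
      rw [hq, one_pow, mul_one]
      exact Dvd.intro a ha
  · exact Groth.FieldLaw.exists_law q r hexp h

end Groth.Agent.S13178
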