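import Groth.Statements.S13181
import Groth.Agent.Cycles.ProjQuot
-- import your own Groth.Agent.* helpers here

set_option autoImplicit false
universe u
open CategoryTheory CategoryTheory.Limits AlgebraicGeometry
open ZeroCyc

namespace Groth.Agent.S13181

/-- Over an affine base Spec R, let B be a graded R-algebra generated by its degree-one part and let a
finite group G act on B by graded R-algebra automorphisms, with ring of invariants C = B^G (graded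
by C_n = B_n ∩ B^G, given here as a graded ring with an injective graded map ι onto the invariants).
Let ρ be the induced action of G on X = Proj B (on each chart D_+(σf) → D_+(f) it is Spec of b/f^k ↦
σ(b)/σ(f)^k) and π : Proj B → Proj C the morphism induced by ι (on D_+(ι c) → D_+(c) it is Spec of
C_(c) → B_(ι c)). Then π is a quotient of X by G: affine, G-invariant, with O_{Proj C} the
G-invariant sections of O_X. (The published statement is over a general base scheme with a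
quasi-coherent graded algebra and includes the existence of the quotient; this row is its
affine-local content, with ρ and π characterised chartwise.) -/
theorem result {R A : Type u} [CommRing R] [CommRing A] [Algebra R A] (𝒜 : ℕ → Submodule R A) [GradedAlgebra 𝒜]
    (hgen : Algebra.adjoin R (𝒜 1 : Set A) = ⊤)
    {G : Type u} [Group G] [Finite G] [MulSemiringAction G A]
    (hGR : ∀ (σ : G) (r : R), σ • algebraMap R A r = algebraMap R A r)
    (hGdeg : ∀ (σ : G) (i : ℕ) (a : A), a ∈ 𝒜 i → σ • a ∈ 𝒜 i)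
    {C : Type u} [CommRing C] [Algebra R C] (𝒞 : ℕ → Submodule R C) [GradedAlgebra 𝒞]
    (ι : C →ₐ[R] A) (hι : Function.Injective ι)
    (hιdeg : ∀ (i : ℕ) (a : A), a ∈ (𝒞 i).map ι.toLinearMap ↔ (a ∈ 𝒜 i ∧ ∀ σ : G, σ • a = a))
    (ρ : G →* Aut (Proj 𝒜))
    (hρ : ∀ (σ : G) (n : ℕ) (f : A) (hn : 0 < n) (hf : f ∈ 𝒜 n)
      (θ : CommRingCat.of (HomogeneousLocalization.Away 𝒜 f) ⟶ CommRingCat.of (HomogeneousLocalization.Away 𝒜 (σ • f))),
      (algebraMap (HomogeneousLocalization.Away 𝒜 (σ • f)) (Localization.Away (σ • f))).comp θ.hom =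
        (Localization.awayMap (MulSemiringAction.toRingHom G A σ) f).comp
          (algebraMap (HomogeneousLocalization.Away 𝒜 f) (Localization.Away f)) →
      Proj.awayι 𝒜 (σ • f) (hGdeg σ n f hf) hn ≫ (ρ σ).inv = Spec.map θ ≫ Proj.awayι 𝒜 f hf hn)
    (π : Proj 𝒜 ⟶ Proj 𝒞)
    (hπ : ∀ (n : ℕ) (c : C) (hn : 0 < n) (hc : c ∈ 𝒞 n)
      (θ : CommRingCat.of (HomogeneousLocalization.Away 𝒞 c) ⟶ CommRingCat.of (HomogeneousLocalization.Away 𝒜 (ι c))),
      (algebraMap (HomogeneousLocalization.Away 𝒜 (ι c)) (Localization.Away (ι c))).comp θ.hom =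
        (Localization.awayMap ι.toRingHom c).comp
          (algebraMap (HomogeneousLocalization.Away 𝒞 c) (Localization.Away c)) →
      Proj.awayι 𝒜 (ι c) ((hιdeg n (ι c)).mp (Submodule.mem_map_of_mem hc)).1 hn ≫ π =
        Spec.map θ ≫ Proj.awayι 𝒞 c hc hn) :
    SGA1.IsQuot ρ π := by
  classical
  cases nonempty_fintype G
  have hmem : ∀ {i : ℕ} {c : C}, c ∈ 𝒞 i → ι c ∈ 𝒜 i := fun {i c} hc =>
    ((hιdeg i (ι c)).mp (Submodule.mem_map_of_mem hc)).1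
  have hιinv : ∀ (σ : G) (c : C), σ • ι c = ι c := fun σ c => by
    rw [← DirectSum.sum_support_decompose 𝒞 c, map_sum, Finset.smul_sum]
    exact Finset.sum_congr rfl fun i _ =>
      ((hιdeg i _).mp (Submodule.mem_map_of_mem (DirectSum.decompose 𝒞 c i).2)).2 σ
  have hex := fun (n : ℕ) (c : C) (hc : c ∈ 𝒞 n) =>
    Groth.Cycles.ProjQuot.exists_awayHom 𝒞 𝒜 ι.toRingHom (fun i x hx => hmem hx) n c hc
  have hchart : ∀ (n : ℕ) (c : C) (hn : 0 < n) (hc : c ∈ 𝒞 n),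
      ∃ θ : CommRingCat.of (HomogeneousLocalization.Away 𝒞 c) ⟶
          CommRingCat.of (HomogeneousLocalization.Away 𝒜 (ι c)),
        (∀ (k : ℕ) (x : C) (hx : x ∈ 𝒞 (k • n)),
          θ.hom (HomogeneousLocalization.Away.mk 𝒞 hc k x hx) =
            HomogeneousLocalization.Away.mk 𝒜 (hmem hc) k (ι x) (hmem hx)) ∧
        Proj.awayι 𝒜 (ι c) (hmem hc) hn ≫ π = Spec.map θ ≫ Proj.awayι 𝒞 c hc hn := by
    intro n c hn hc
    obtain ⟨θ, hθ, hθv⟩ := hex n c hc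
    exact ⟨θ, hθ, hπ n c hn hc θ hθv⟩
  choose θC θC_mk hchart using hchart
  -- the charts cover
  have hcovA : ∀ x : Proj 𝒜, ∃ n, ∃ c ∈ 𝒞 n, 0 < n ∧ x ∈ Proj.basicOpen 𝒜 (ι c) := by
    intro x
    obtain ⟨n, hn, a, ha, hax⟩ := Groth.Cycles.ProjQuot.exists_homogeneous_notMem 𝒜 x
    obtain ⟨m, hm, b, hb, hbinv, hbx⟩ := Groth.Cycles.ProjQuot.exists_invariant_notMem 𝒜 hGdeg
      x.asHomogeneousIdeal.toIdeal hn ha hax
    obtain ⟨c, hc, rfl⟩ := (hιdeg m b).mpr ⟨hb, hbinv⟩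
    exact ⟨m, c, hc, hm, hbx⟩
  have hpre : ∀ (n : ℕ) (c : C), 0 < n → c ∈ 𝒞 n →
      π ⁻¹ᵁ Proj.basicOpen 𝒞 c = Proj.basicOpen 𝒜 (ι c) := by
    intro n c hn hc
    ext x
    obtain ⟨m, c', hc', hm, hx⟩ := hcovA x
    rw [← Proj.opensRange_awayι 𝒜 (ι c') (hmem hc') hm] at hx
    obtain ⟨z, rfl⟩ := hx
    have e1 : π (Proj.awayι 𝒜 (ι c') (hmem hc') hm z) =
        Proj.awayι 𝒞 c' hc' hm (Spec.map (θC m c' hm hc') z) := by
      rw [← Scheme.Hom.comp_apply, hchart m c' hm hc', Scheme.Hom.comp_apply]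
    change π _ ∈ Proj.basicOpen 𝒞 c ↔ _
    rw [e1]
    change Spec.map (θC m c' hm hc') z ∈ Proj.awayι 𝒞 c' hc' hm ⁻¹ᵁ Proj.basicOpen 𝒞 c ↔
      z ∈ Proj.awayι 𝒜 (ι c') (hmem hc') hm ⁻¹ᵁ Proj.basicOpen 𝒜 (ι c)
    rw [Proj.awayι_preimage_basicOpen 𝒞 hc' hm hc hn,
      Proj.awayι_preimage_basicOpen 𝒜 (hmem hc') hm (hmem hc) hn]
    have e2 : (θC m c' hm hc').hom (HomogeneousLocalization.Away.isLocalizationElem hc' hc) =
        HomogeneousLocalization.Away.isLocalizationElem (hmem hc') (hmem hc) := by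
      rw [HomogeneousLocalization.Away.isLocalizationElem, θC_mk m c' hm hc']
      simp only [HomogeneousLocalization.Away.isLocalizationElem, map_pow]
    rw [← e2]
    rfl
  have : IsAffineHom π := by
    refine isAffineHom_of_forall_exists_isAffineOpen _ fun y => ?_
    obtain ⟨n, hn, c, hc, hy⟩ := Groth.Cycles.ProjQuot.exists_homogeneous_notMem 𝒞 y
    refine ⟨Proj.basicOpen 𝒞 c, hy, Proj.isAffineOpen_basicOpen 𝒞 c hc hn, ?_⟩
    rw [hpre n c hn hc]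
    exact Proj.isAffineOpen_basicOpen 𝒜 (ι c) (hmem hc) hn
  have hσ : ∀ (σ : G) (n : ℕ) (f f' : A) (_ : σ • f = f') (hn : 0 < n) (hf : f ∈ 𝒜 n) (hf' : f' ∈ 𝒜 n),
      ∃ θ : CommRingCat.of (HomogeneousLocalization.Away 𝒜 f) ⟶
          CommRingCat.of (HomogeneousLocalization.Away 𝒜 f'),
        (∀ (k : ℕ) (x : A) (hx : x ∈ 𝒜 (k • n)),
          θ.hom (HomogeneousLocalization.Away.mk 𝒜 hf k x hx) =
            HomogeneousLocalization.Away.mk 𝒜 hf' k (σ • x) (hGdeg σ _ x hx)) ∧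
        Proj.awayι 𝒜 f' hf' hn ≫ (ρ σ).inv = Spec.map θ ≫ Proj.awayι 𝒜 f hf hn := by
    rintro σ n f _ rfl hn hf hf'
    obtain ⟨θ, hθ, hθv⟩ := Groth.Cycles.ProjQuot.exists_awayHom 𝒜 𝒜
      (MulSemiringAction.toRingHom G A σ) (fun i x hx => hGdeg σ i x hx) n f hf
    exact ⟨θ, hθ, hρ σ n f hn hf θ hθv⟩
  have hcov : TopologicalSpace.IsOpenCover (fun i : {p : ℕ × C // 0 < p.1 ∧ p.2 ∈ 𝒞 p.1} =>
      Proj.basicOpen 𝒜 (ι i.1.2)) :=
    eq_top_iff.mpr fun (x : Proj 𝒜) _ => by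
      obtain ⟨n, c, hc, hn, hx⟩ := hcovA x
      exact TopologicalSpace.Opens.mem_iSup.mpr ⟨⟨(n, c), hn, hc⟩, hx⟩
  have hinv0 : ∀ σ : G, (ρ σ).inv ≫ π = π := by
    intro σ
    refine (Scheme.openCoverOfIsOpenCover (Proj 𝒜) _ hcov).hom_ext _ _ ?_
    rintro ⟨⟨n, c⟩, hn, hc⟩
    change (Proj.basicOpen 𝒜 (ι c)).ι ≫ _ = (Proj.basicOpen 𝒜 (ι c)).ι ≫ _
    rw [← cancel_epi (Proj.basicOpenIsoSpec 𝒜 (ι c) (hmem hc) hn).inv,
      Proj.basicOpenIsoSpec_inv_ι_assoc, Proj.basicOpenIsoSpec_inv_ι_assoc]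
    obtain ⟨θ, hθ, hθι⟩ := hσ σ n _ _ (hιinv σ c) hn (hmem hc) (hmem hc)
    rw [reassoc_of% hθι, hchart n c hn hc, ← Category.assoc, ← Spec.map_comp]
    congr 2
    refine CommRingCat.hom_ext (RingHom.ext fun z => ?_)
    obtain ⟨k, x, hx, rfl⟩ := HomogeneousLocalization.Away.mk_surjective 𝒞 hc z
    change θ.hom ((θC n c hn hc).hom _) = (θC n c hn hc).hom _
    rw [θC_mk, hθ]
    simp only [hιinv]
  have hinv : ∀ g : G, (ρ g).hom ≫ π = π := fun g => by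
    have := hinv0 g
    rwa [Iso.inv_comp_eq, eq_comm] at this
  refine Groth.Pi1Quot.isQuot_of_local hinv fun y => ?_
  obtain ⟨n, hn, c, hc, hy⟩ := Groth.Cycles.ProjQuot.exists_homogeneous_notMem 𝒞 y
  refine ⟨Proj.basicOpen 𝒞 c, Proj.isAffineOpen_basicOpen 𝒞 c hc hn, hy, ?_⟩
  have hU := Proj.opensRange_awayι 𝒞 c hc hn
  have hV : (Proj.awayι 𝒜 (ι c) (hmem hc) hn).opensRange = π ⁻¹ᵁ Proj.basicOpen 𝒞 c :=
    (Proj.opensRange_awayι 𝒜 (ι c) (hmem hc) hn).trans (hpre n c hn hc).symm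
  have bA := Groth.Cycles.ProjQuot.secHom_bijective _ _ hV
  have bC := Groth.Cycles.ProjQuot.secHom_bijective _ _ hU
  have key : ∀ t, (Groth.Cycles.ProjQuot.secHom _ _ hV).hom (π.app (Proj.basicOpen 𝒞 c) t) =
      (θC n c hn hc).hom ((Groth.Cycles.ProjQuot.secHom _ _ hU).hom t) := fun t => by
    rw [Scheme.Hom.app_eq_appLE]
    exact RingHom.congr_fun (congrArg CommRingCat.Hom.hom
      (Groth.Cycles.ProjQuot.appLE_comp_secHom _ _ π (θC n c hn hc) (hchart n c hn hc) _ hV _ hU le_rfl)) t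
  refine ⟨fun s t hst => bC.1 ?_, fun s hs => ?_⟩
  · have h1 := (key s).symm.trans ((congrArg _ hst).trans (key t))
    revert h1
    generalize (Groth.Cycles.ProjQuot.secHom _ _ hU).hom s = z
    generalize (Groth.Cycles.ProjQuot.secHom _ _ hU).hom t = w
    obtain ⟨k, x, hx, rfl⟩ := HomogeneousLocalization.Away.mk_surjective 𝒞 hc z
    obtain ⟨l, y, hy, rfl⟩ := HomogeneousLocalization.Away.mk_surjective 𝒞 hc w
    rw [θC_mk, θC_mk]
    intro h1
    obtain ⟨m, hm⟩ := Groth.Cycles.ProjQuot.exists_pow_mul_eq 𝒜 (hmem hc) h1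
    exact Groth.Cycles.ProjQuot.mk_eq_mk 𝒞 hc m (hι (by simpa using hm))
  · obtain ⟨k, x, hx, hkx⟩ := HomogeneousLocalization.Away.mk_surjective 𝒜 (hmem hc)
      ((Groth.Cycles.ProjQuot.secHom _ _ hV).hom s)
    have hfix : ∀ σ : G, ∃ m : ℕ, ι c ^ m * (σ • x - x) = 0 := fun σ => by
      obtain ⟨θ, hθ, hθι⟩ := hσ σ n _ _ (hιinv σ c) hn (hmem hc) (hmem hc)
      have h1 : (ρ σ⁻¹).hom = (ρ σ).inv := by rw [map_inv]; rfl
      have he : π ⁻¹ᵁ Proj.basicOpen 𝒞 c ≤ (ρ σ).inv ⁻¹ᵁ (π ⁻¹ᵁ Proj.basicOpen 𝒞 c) :=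
        h1 ▸ SGA1.preimage_le_of_inv ρ π hinv σ⁻¹ _
      have h2 := RingHom.congr_fun (congrArg CommRingCat.Hom.hom
        (Groth.Cycles.ProjQuot.appLE_comp_secHom _ _ (ρ σ).inv θ hθι _ hV _ hV he)) s
      have h3 : ((ρ σ).inv.appLE _ _ he).hom s = s :=
        (RingHom.congr_fun (congrArg CommRingCat.Hom.hom
          (Groth.Pi1Quot.appLE_congr_hom h1 _ _ (SGA1.preimage_le_of_inv ρ π hinv σ⁻¹ _) he)) s).symm.trans
          (hs σ)
      change _ = θ.hom _ at h2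
      erw [CommRingCat.comp_apply, h3, ← hkx, hθ] at h2
      obtain ⟨m, hm⟩ := Groth.Cycles.ProjQuot.exists_pow_mul_eq 𝒜 (hmem hc) h2
      exact ⟨m + k, by rw [pow_add]; linear_combination -hm⟩
    choose m hm using hfix
    let M := Finset.univ.sup m
    have hyinv : ∀ σ : G, σ • (ι c ^ M * x) = ι c ^ M * x := fun σ => by
      rw [smul_mul', smul_pow', hιinv]
      obtain ⟨d, hd⟩ := Nat.exists_eq_add_of_le (Finset.le_sup (Finset.mem_univ σ) : m σ ≤ M)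
      rw [show M = m σ + d from hd, pow_add]
      linear_combination ι c ^ d * hm σ
    have hydeg : ι c ^ M * x ∈ 𝒜 ((M + k) • n) := by
      rw [add_smul]
      exact SetLike.mul_mem_graded (SetLike.pow_mem_graded M (hmem hc)) hx
    obtain ⟨c', hc', hcx⟩ := (hιdeg _ _).mpr ⟨hydeg, hyinv⟩
    obtain ⟨t, ht⟩ := bC.2 (HomogeneousLocalization.Away.mk 𝒞 hc (M + k) c' hc')
    refine ⟨t, bA.1 ?_⟩
    rw [key, ht, θC_mk, ← hkx]
    refine Groth.Cycles.ProjQuot.mk_eq_mk 𝒜 (hmem hc) 0 ?_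
    change ι c' = _ at hcx
    rw [hcx, pow_add]
    ring

end Groth.Agent.S13181
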