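import Groth.Statements.S13184
-- import your own Groth.Agent.* helpers here

set_option autoImplicit false
universe u
open ZeroCyc

namespace Groth.Agent.S13184

/-- Let k ⊆ K be a finite extension of fields of characteristic p > 0, viewed inside an algebraically
closed field Ω, and for e ≥ 0 let k^{p^{-e}} ⊆ Ω be the field of elements whose p^e-th power lies in
k. Then the compositum k^{p^{-e}}K is separable over k^{p^{-e}} if and only if x^{p^e} is separable
over k for every x ∈ K; hence the exponent of K/k (the least n ≥ 1 with K^n separable over k, a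
power of p) is the least p^e for which k^{p^{-e}} ⊆ k^{p^{-e}}K is separable. -/
theorem result {k : Type u} [Field k] (p : ℕ) [Fact p.Prime] [CharP k p]
    {K : Type u} [Field K] [Algebra k K] [FiniteDimensional k K]
    {Ω : Type u} [Field Ω] [Algebra k Ω] [Algebra K Ω] [IsScalarTower k K Ω] [IsAlgClosed Ω] (e : ℕ) :
    (∀ x : Ω, x ∈ IntermediateField.adjoin k {y : Ω | y ^ (p ^ e) ∈ Set.range (algebraMap k Ω)} ⊔
        IntermediateField.adjoin k (Set.range (algebraMap K Ω)) →
      IsSeparable (IntermediateField.adjoin k {y : Ω | y ^ (p ^ e) ∈ Set.range (algebraMap k Ω)}) x) ↔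
    ∀ x : K, x ^ (p ^ e) ∈ separableClosure k K := by
  classical
  haveI : CharP Ω p := charP_of_injective_algebraMap (algebraMap k Ω).injective p
  haveI : ExpChar Ω p := ExpChar.prime Fact.out
  let S : Set Ω := {y : Ω | y ^ (p ^ e) ∈ Set.range (algebraMap k Ω)}
  let F := IntermediateField.adjoin k S
  let φ : F →+* Ω := (iterateFrobenius Ω p e).comp (algebraMap F Ω)
  have hφ : ∀ a : F, φ a = (a : Ω) ^ (p ^ e) := fun a => iterateFrobenius_def p e (a : Ω)
  have hFk : ∀ a : F, φ a ∈ Set.range (algebraMap k Ω) := by
    intro a
    let K₀ : IntermediateField k Ω :=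
      ((⊥ : IntermediateField k Ω).toSubfield.comap (iterateFrobenius Ω p e)).toIntermediateField fun c => by
        show iterateFrobenius Ω p e (algebraMap k Ω c) ∈ (⊥ : IntermediateField k Ω)
        rw [iterateFrobenius_def, ← map_pow]
        exact IntermediateField.algebraMap_mem _ _
    have hle : F ≤ K₀ := IntermediateField.adjoin_le_iff.2 fun y hy => by
      show iterateFrobenius Ω p e y ∈ (⊥ : IntermediateField k Ω)
      rw [iterateFrobenius_def, IntermediateField.mem_bot]
      exact hy
    exact IntermediateField.mem_bot.1 (hle a.2)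
  constructor
  · intro h x
    rw [mem_separableClosure_iff]
    have hy : IsSeparable F (algebraMap K Ω x) :=
      h _ (le_sup_right (a := IntermediateField.adjoin k S)
        (IntermediateField.subset_adjoin k _ ⟨x, rfl⟩))
    obtain ⟨g, hg⟩ : (minpoly F (algebraMap K Ω x)).map φ ∈ Polynomial.lifts (algebraMap k Ω) := by
      refine (Polynomial.lifts_iff_coeff_lifts _).2 fun n => ?_
      rw [Polynomial.coeff_map]
      exact hFk _
    change g.map (algebraMap k Ω) = _ at hg
    have hgs : g.Separable := by
      rw [← Polynomial.separable_map (algebraMap k Ω), hg, Polynomial.separable_map φ]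
      exact hy
    have hroot : Polynomial.aeval (x ^ p ^ e) g = 0 := by
      apply (algebraMap K Ω).injective
      rw [map_zero, ← Polynomial.aeval_algebraMap_apply, map_pow, Polynomial.aeval_def, ← Polynomial.eval_map, hg,
        Polynomial.eval_map]
      have h2 := Polynomial.hom_eval₂ (minpoly F (algebraMap K Ω x)) (algebraMap F Ω) (iterateFrobenius Ω p e)
        (algebraMap K Ω x)
      rw [← Polynomial.aeval_def, minpoly.aeval, map_zero, iterateFrobenius_def] at h2
      exact h2.symm
    exact hgs.of_dvd (minpoly.dvd k _ hroot)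
  · intro h x hx
    suffices IntermediateField.adjoin k S ⊔ IntermediateField.adjoin k (Set.range (algebraMap K Ω)) ≤
        (separableClosure F Ω).restrictScalars k from mem_separableClosure_iff.1 (this hx)
    refine sup_le (fun a ha => ?_) (IntermediateField.adjoin_le_iff.2 ?_)
    · exact mem_separableClosure_iff.2 (isSeparable_algebraMap (⟨a, ha⟩ : F))
    rintro _ ⟨y, rfl⟩
    refine mem_separableClosure_iff.2 ?_
    have hz : IsSeparable k (y ^ p ^ e) := mem_separableClosure_iff.1 (h y)
    obtain ⟨g, hg⟩ : (minpoly k (y ^ p ^ e)).map (algebraMap k Ω) ∈ Polynomial.lifts φ := by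
      refine (Polynomial.lifts_iff_coeff_lifts _).2 fun n => ?_
      rw [Polynomial.coeff_map]
      obtain ⟨r, hr⟩ := IsAlgClosed.exists_pow_nat_eq (algebraMap k Ω ((minpoly k (y ^ p ^ e)).coeff n))
        (pow_pos (Fact.out : p.Prime).pos e)
      exact ⟨⟨r, IntermediateField.subset_adjoin k S ⟨_, hr.symm⟩⟩, (hφ _).trans hr⟩
    change g.map φ = _ at hg
    have hgs : g.Separable := by
      rw [← Polynomial.separable_map φ, hg, Polynomial.separable_map (algebraMap k Ω)]
      exact hz
    have hroot : Polynomial.aeval (algebraMap K Ω y) g = 0 := by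
      apply (iterateFrobenius Ω p e).injective
      rw [map_zero, Polynomial.aeval_def, Polynomial.hom_eval₂, iterateFrobenius_def, ← Polynomial.eval_map,
        show g.map ((iterateFrobenius Ω p e).comp (algebraMap F Ω)) = _ from hg, Polynomial.eval_map,
        ← map_pow, ← Polynomial.aeval_def, Polynomial.aeval_algebraMap_apply, minpoly.aeval, map_zero]
    exact hgs.of_dvd (minpoly.dvd F _ hroot)

end Groth.Agent.S13184
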