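import Groth.Statements.S13186
import Groth.Agent.GaloisBrauer.H90GL
-- import your own Groth.Agent.* helpers here

set_option autoImplicit false
universe u
open GalCoh

namespace Groth.Agent.S13186

/-- Let L/K be a finite Galois extension of fields, n a natural number, and B a map from the Galois
group of L over K to the invertible n × n matrices over L such that B(σ) · σ(B(τ)) = B(στ) for all
σ, τ (σ acting on matrices entrywise, στ applying τ first) and det B(σ) = 1 for every σ. Then there
is an invertible matrix A over L of determinant 1 with B(σ) = A⁻¹ · σ(A) for every σ; that is, every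
1-cocycle of the Galois group with values in SL_n(L) is the coboundary of an element of SL_n(L), so
H¹ of the Galois group with values in SL_n(L) is a point. (The published statement says that every
torsor under the special linear group over K is trivial; this row is the finite-Galois-level cocycle
form that its proof establishes.) -/
theorem result (K L : Type u) [Field K] [Field L]
    [Algebra K L] [FiniteDimensional K L] [IsGalois K L] (n : ℕ)
    (B : (L ≃ₐ[K] L) → GL (Fin n) L)
    (hB : ∀ σ τ : L ≃ₐ[K] L,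
      (B σ : Matrix (Fin n) (Fin n) L) * (B τ : Matrix (Fin n) (Fin n) L).map σ =
        (B (σ * τ) : Matrix (Fin n) (Fin n) L))
    (hdet : ∀ σ : L ≃ₐ[K] L, Matrix.det (B σ : Matrix (Fin n) (Fin n) L) = 1) :
    ∃ A : GL (Fin n) L, Matrix.det (A : Matrix (Fin n) (Fin n) L) = 1 ∧ ∀ σ : L ≃ₐ[K] L,
      (B σ : Matrix (Fin n) (Fin n) L) =
        ((A⁻¹ : GL (Fin n) L) : Matrix (Fin n) (Fin n) L) * (A : Matrix (Fin n) (Fin n) L).map σ := by
  classical
  obtain ⟨P, hP⟩ := Groth.GaloisBrauer.exists_gl_fixed B hB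
  have hmapmul : ∀ (σ : L ≃ₐ[K] L) (M N : Matrix (Fin n) (Fin n) L), (M * N).map σ = M.map σ * N.map σ :=
    fun σ M N => Matrix.map_mul
  obtain ⟨r, hr⟩ := (IsGalois.mem_range_algebraMap_iff_fixed (F := K) (P : Matrix (Fin n) (Fin n) L).det).2
    fun σ => by
      have h := congrArg Matrix.det (hP σ)
      rw [Matrix.det_mul, hdet, one_mul, ← AlgEquiv.coe_ringEquiv, ← RingEquiv.coe_toRingHom,
        ← RingHom.mapMatrix_apply, ← RingHom.map_det] at h
      exact h
  have hd0 : (P : Matrix (Fin n) (Fin n) L).det ≠ 0 :=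
    ((Matrix.isUnit_iff_isUnit_det _).1 P.isUnit).ne_zero
  have hr0 : r ≠ 0 := by rintro rfl; exact hd0 (by rw [← hr, map_zero])
  obtain ⟨Q, hQdet, hQfix⟩ : ∃ Q : Matrix (Fin n) (Fin n) L,
      (P : Matrix (Fin n) (Fin n) L).det * Q.det = 1 ∧ ∀ σ : L ≃ₐ[K] L, Q.map σ = Q := by
    rcases Nat.eq_zero_or_pos n with rfl | hn
    · exact ⟨1, by simp, fun σ => Subsingleton.elim _ _⟩
    · refine ⟨Matrix.diagonal fun i => if i = ⟨0, hn⟩ then algebraMap K L r⁻¹ else 1, ?_, fun σ => ?_⟩
      · rw [Matrix.det_diagonal, Finset.prod_ite_eq' Finset.univ, if_pos (Finset.mem_univ _), ← hr,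
          ← map_mul, mul_inv_cancel₀ hr0, map_one]
      · rw [Matrix.diagonal_map (map_zero σ)]
        congr 1
        funext i
        by_cases hi : i = ⟨0, hn⟩ <;> simp [hi]
  have hPQ : IsUnit ((P : Matrix (Fin n) (Fin n) L) * Q) :=
    (Matrix.isUnit_iff_isUnit_det _).2 (by rw [Matrix.det_mul, hQdet]; exact isUnit_one)
  refine ⟨hPQ.unit⁻¹, ?_, fun σ => ?_⟩
  · have h : (((hPQ.unit⁻¹ : GL (Fin n) L) : Matrix (Fin n) (Fin n) L) * ((P : Matrix (Fin n) (Fin n) L) * Q)).det = 1 := by
      rw [IsUnit.val_inv_mul, Matrix.det_one]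
    rwa [Matrix.det_mul, Matrix.det_mul, hQdet, mul_one] at h
  · rw [inv_inv, IsUnit.unit_spec]
    have hfix : (B σ : Matrix (Fin n) (Fin n) L) * ((P : Matrix (Fin n) (Fin n) L) * Q).map σ = P * Q := by
      rw [hmapmul, ← mul_assoc, hP, hQfix]
    calc (B σ : Matrix (Fin n) (Fin n) L)
        = (B σ : Matrix (Fin n) (Fin n) L) * (((P : Matrix (Fin n) (Fin n) L) * Q) *
            ((hPQ.unit⁻¹ : GL (Fin n) L) : Matrix (Fin n) (Fin n) L)).map σ := by
          rw [IsUnit.mul_val_inv, Matrix.map_one _ (map_zero σ) (map_one σ), mul_one]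
      _ = _ := by rw [hmapmul, ← mul_assoc, hfix]

end Groth.Agent.S13186
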