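import Groth.Statements.S13188
import Groth.Agent.CSA.RedNorm
import Groth.Agent.S13256
import Mathlib.RingTheory.MvPolynomial.Homogeneous
-- import your own Groth.Agent.* helpers here

set_option autoImplicit false
universe u v w
open Brauer

namespace Groth.Agent.S13188

/-- Let K be a field with property C_2 for systems of forms and D a finite-dimensional central division
algebra over K with dim_K D = d². Let N : D → K be multiplicative, a reduced norm of D over K, and
given in the coordinates of a K-basis b of D by a homogeneous polynomial F of degree d, i.e. N(Σ x_i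
b_i) = F(x) for every coordinate vector x (the reduced norm of a central simple algebra of dimension
d² is such a polynomial map of degree d; these data record it). Then N : D → K is surjective. -/
theorem result (K : Type u) [Field K] (hK : Curves.IsCi K 2)
    (D : Type v) [DivisionRing D] [Algebra K D] [Algebra.IsCentral K D] [FiniteDimensional K D]
    (d : ℕ) (hd : Module.finrank K D = d ^ 2)
    (N : D →* K) (hN : CSAGal.IsRedNorm K D N)
    {ι : Type w} [Fintype ι] (b : Module.Basis ι K D)
    (F : MvPolynomial ι K) (hF : F.IsHomogeneous d)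
    (hNF : ∀ x : ι → K, N (∑ i, x i • b i) = MvPolynomial.eval x F) :
    Function.Surjective N := by
  classical
  intro c
  obtain ⟨m, f, hm, hm2⟩ := Groth.CSA.exists_rep K D
  obtain rfl : m = d := Nat.pow_left_injective two_ne_zero (hm2.symm.trans hd)
  have hf : Module.finrank K D = Fintype.card (Fin m) ^ 2 := by rw [Fintype.card_fin, hd]
  have hscal : ∀ s : K, N (algebraMap K D s) = s ^ m := fun s =>
    (algebraMap K (AlgebraicClosure K)).injective <| by
      rw [Groth.CSA.redNorm_eq_det hN f hf, f.commutes, Matrix.algebraMap_eq_diagonal, Matrix.det_diagonal]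
      simp [Pi.algebraMap_def]
  have hne : ∀ y : D, y ≠ 0 → N y ≠ 0 := fun y hy =>
    (Groth.Agent.S13256.result K D N hN y).1 (isUnit_iff_ne_zero.2 hy)
  let G : MvPolynomial (Option ι) K :=
    MvPolynomial.rename some F - MvPolynomial.C c * MvPolynomial.X none ^ m
  let e := (Fintype.equivFin (Option ι))
  have hG : G.IsHomogeneous m :=
    (hF.rename_isHomogeneous).sub (MvPolynomial.IsHomogeneous.C_mul (MvPolynomial.isHomogeneous_X_pow none m) c)
  have hlt : (∑ _ρ : Fin 1, m ^ 2) < Fintype.card (Option ι) := by
    rw [Fin.sum_univ_one, Fintype.card_option, ← Module.finrank_eq_card_basis b, hd]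
    exact Nat.lt_succ_self _
  obtain ⟨a, ha, hz⟩ := hK 1 (Fintype.card (Option ι)) (fun _ => MvPolynomial.rename e G) (fun _ => m)
    (fun _ => hG.rename_isHomogeneous) (fun _ => Nat.pos_of_ne_zero hm) hlt
  have hz0 := hz 0
  rw [MvPolynomial.eval_rename] at hz0
  simp only [G, map_sub, map_mul, map_pow, MvPolynomial.eval_rename, MvPolynomial.eval_C, MvPolynomial.eval_X,
    Function.comp_apply, sub_eq_zero] at hz0
  let x : ι → K := fun i => a (e (some i))
  let t : K := a (e none)
  have hx : N (∑ i, x i • b i) = c * t ^ m := (hNF x).trans hz0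
  have ht : t ≠ 0 := by
    intro ht
    rw [ht, zero_pow hm, mul_zero] at hx
    have hsum : ∑ i, x i • b i = 0 := by_contra fun h => hne _ h hx
    apply ha
    funext j
    obtain ⟨o, rfl⟩ := e.surjective j
    cases o with
    | none => exact ht
    | some i => exact Fintype.linearIndependent_iff.1 b.linearIndependent x hsum i
  refine ⟨algebraMap K D t⁻¹ * ∑ i, x i • b i, ?_⟩
  rw [map_mul, hscal, hx, inv_pow, mul_comm c, inv_mul_cancel_left₀ (pow_ne_zero _ ht)]

end Groth.Agent.S13188
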