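import Groth.Statements.S13189
import Mathlib

set_option autoImplicit false
universe u
open CAlg

namespace Groth.Agent.S13189

/-- For a finite field K of cardinality q and n ≥ 0, a polynomial p in n variables over K vanishes at
every point of K^n if and only if p belongs to the ideal generated by the X_i^q − X_i, i = 1, …, n;
in other words that ideal is the kernel of the evaluation homomorphism from K[X_1, …, X_n] to the
ring of K-valued functions on K^n. -/
theorem result (K : Type u) [Field K] [Fintype K]
    (n : ℕ) (p : MvPolynomial (Fin n) K) :
    (∀ a : Fin n → K, MvPolynomial.eval a p = 0) ↔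
      p ∈ Ideal.span (Set.range fun i : Fin n =>
        (MvPolynomial.X i ^ Fintype.card K - MvPolynomial.X i : MvPolynomial (Fin n) K)) := by
  classical
  have e : ∀ i : Fin n, ∏ r ∈ (Finset.univ : Finset K), (MvPolynomial.X i - MvPolynomial.C r) =
      (MvPolynomial.X i ^ Fintype.card K - MvPolynomial.X i : MvPolynomial (Fin n) K) := by
    intro i
    have h := FiniteField.roots_X_pow_card_sub_X K
    have hm : (Polynomial.X ^ Fintype.card K - Polynomial.X : Polynomial K).Monic :=
      Polynomial.monic_X_pow_sub (by simpa using Fintype.one_lt_card (α := K))
    have hp := Polynomial.prod_multiset_X_sub_C_of_monic_of_roots_card_eq hm (by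
      rw [h, FiniteField.X_pow_card_sub_X_natDegree_eq K Fintype.one_lt_card]; rfl)
    rw [h] at hp
    have := congrArg (Polynomial.eval₂ (MvPolynomial.C : K →+* MvPolynomial (Fin n) K) (MvPolynomial.X i)) hp
    simpa [Polynomial.eval₂_finsetProd, Finset.prod_map_val] using this
  constructor
  · intro h
    obtain ⟨c, -, hc⟩ := MvPolynomial.combinatorial_nullstellensatz_exists_linearCombination
      (fun _ => Finset.univ) (fun _ => Finset.univ_nonempty) p (fun x _ => h x)
    rw [hc, Finsupp.linearCombination_apply]
    refine Submodule.sum_mem _ fun i _ => Submodule.smul_mem _ _ ?_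
    rw [e]
    exact Ideal.subset_span ⟨i, rfl⟩
  · intro h a
    induction h using Submodule.span_induction with
    | mem x hx => obtain ⟨i, rfl⟩ := hx; simp [FiniteField.pow_card]
    | zero => simp
    | add x y _ _ hx hy => simp [hx, hy]
    | smul c x _ hx => simp [hx]

end Groth.Agent.S13189
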