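import Groth.Statements.S13191
-- import your own Groth.Agent.* helpers here

set_option autoImplicit false
universe u v w x
open GalCoh

namespace Groth.Agent.S13191

/-- Let a group G act by automorphisms on a group A, and let E and E' each be a G-equivariant right
A-torsor (a set with a simply transitive right action of A, written m ↦ m·a, and a left action of G
with g(m·a) = (gm)·(ga)). Let m ∈ E and m' ∈ E' be points with attached maps a, a' : G → A (g·m =
m·a(g) and g·m' = m'·a'(g) for all g). Then there is a bijection E ≃ E' commuting with the actions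
of G and of A if and only if a and a' are cohomologous. (The published statement is for a Galois
group acting on discrete modules; this row takes an arbitrary group acting on a group.) -/
theorem result {G : Type u} {A : Type v} {E : Type w} {E' : Type x}
    [Group G] [Group A] [MulDistribMulAction G A]
    [MulAction G E] [MulAction Aᵐᵒᵖ E]
    (hfree : ∀ m₁ m₂ : E, ∃! a : A, m₂ = MulOpposite.op a • m₁)
    (hcompat : ∀ (g : G) (a : A) (m : E), g • (MulOpposite.op a • m) = MulOpposite.op (g • a) • g • m)
    [MulAction G E'] [MulAction Aᵐᵒᵖ E']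
    (hfree' : ∀ m₁ m₂ : E', ∃! a : A, m₂ = MulOpposite.op a • m₁)
    (hcompat' : ∀ (g : G) (a : A) (m : E'), g • (MulOpposite.op a • m) = MulOpposite.op (g • a) • g • m)
    (m : E) (a : G → A) (ha : ∀ g : G, g • m = MulOpposite.op (a g) • m)
    (m' : E') (a' : G → A) (ha' : ∀ g : G, g • m' = MulOpposite.op (a' g) • m') :
    (∃ f : E ≃ E', (∀ (g : G) (e : E), f (g • e) = g • f e) ∧
        ∀ (b : A) (e : E), f (MulOpposite.op b • e) = MulOpposite.op b • f e) ↔
      GpH1.Cohomologous a a' := by
  constructor
  · rintro ⟨f, hf, hf'⟩
    obtain ⟨b, hb, -⟩ := hfree' m' (f m)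
    refine ⟨b, fun g => ?_⟩
    have e1 : f (g • m) = MulOpposite.op (b * a g) • m' := by
      rw [ha, hf', hb, smul_smul, ← MulOpposite.op_mul]
    rw [hf, hb, hcompat', ha', smul_smul, ← MulOpposite.op_mul] at e1
    have e2 := (hfree' m' _).unique (rfl : MulOpposite.op (a' g * g • b) • m' = _) e1
    rw [mul_assoc, e2, inv_mul_cancel_left]
  · rintro ⟨c, hc⟩
    choose x hx hxu using fun e => hfree m e
    choose y hy hyu using fun e => hfree' m' e
    have hxop : ∀ b, x (MulOpposite.op b • m) = b := fun b => (hxu _ b rfl).symm
    have hyop : ∀ b, y (MulOpposite.op b • m') = b := fun b => (hyu _ b rfl).symm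
    refine ⟨⟨fun e => MulOpposite.op (c * x e) • m', fun e => MulOpposite.op (c⁻¹ * y e) • m,
      fun e => ?_, fun e => ?_⟩, fun g e => ?_, fun b e => ?_⟩
    · simp only [hyop, inv_mul_cancel_left]; exact (hx e).symm
    · simp only [hxop, mul_inv_cancel_left]; exact (hy e).symm
    · show MulOpposite.op (c * x (g • e)) • m' = g • MulOpposite.op (c * x e) • m'
      have h1 : g • e = MulOpposite.op (a g * g • x e) • m := by
        conv_lhs => rw [hx e]
        rw [hcompat, ha, smul_smul, ← MulOpposite.op_mul]
      rw [h1, hxop, hcompat', ha', smul_smul, ← MulOpposite.op_mul, hc g, smul_mul']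
      group
    · show MulOpposite.op (c * x (MulOpposite.op b • e)) • m' = MulOpposite.op b • MulOpposite.op (c * x e) • m'
      have h1 : MulOpposite.op b • e = MulOpposite.op (x e * b) • m := by
        conv_lhs => rw [hx e]
        rw [smul_smul, ← MulOpposite.op_mul]
      rw [h1, hxop, smul_smul, ← MulOpposite.op_mul, mul_assoc]

end Groth.Agent.S13191
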