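import Groth.Statements.S13194
import Mathlib
import Groth.Agent.GaloisBrauer.LocConst

set_option autoImplicit false
universe u
open GalCoh

namespace Groth.Agent.S13194

/-- Let K be a field of characteristic p > 0, L a separable closure of K, and χ a locally constant map
from the automorphism group of L over K (Krull topology) to Z/pZ with χ(στ) = χ(σ) + χ(τ) for all σ,
τ — a continuous 1-cocycle for the trivial action. Then there is an element x of L with x^p − x in K
such that σ(x) − x equals χ(σ), read in the prime field of L, for every σ. Together with the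
elementary facts that σ ↦ σ(x) − x is such a cocycle for every x with x^p − x in K and vanishes
exactly when x lies in K, this identifies the first continuous cohomology group of the absolute
Galois group of K with coefficients Z/pZ with K/℘(K), ℘(y) = y^p − y. -/
theorem result (p : ℕ) [Fact p.Prime]
    (K L : Type u) [Field K] [Field L] [Algebra K L] [CharP K p] [IsSepClosure K L]
    (χ : (L ≃ₐ[K] L) → ZMod p) (hχ : ∀ σ τ : L ≃ₐ[K] L, χ (σ * τ) = χ σ + χ τ)
    (hlc : IsLocallyConstant χ) :
    ∃ x : L, x ^ p - x ∈ Set.range (algebraMap K L) ∧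
      ∀ σ : L ≃ₐ[K] L, σ x - x = ((χ σ).val : L) := by
  have : IsGalois K L := { }
  have : CharP L p := charP_of_injective_algebraMap (algebraMap K L).injective p
  obtain ⟨E, _, _, -, hE⟩ := Groth.GaloisBrauer.LocConst.exists_level χ hlc ∅ Set.finite_empty
  have h1 : χ 1 = 0 := by
    have h := hχ 1 1
    rw [one_mul] at h
    exact left_eq_add.1 h
  let r := AlgEquiv.restrictNormalHom (F := K) (K₁ := L) E
  choose lift hlift using Groth.GaloisBrauer.LocConst.restrictNormal_surjective E
  have hcongr : ∀ σ τ, r σ = r τ → χ σ = χ τ := fun σ τ h => by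
    have hm := hE _ (Groth.GaloisBrauer.LocConst.inv_mul_mem_fixing E h)
    rw [← mul_inv_cancel_left σ τ, hχ, hm, h1, add_zero]
  let ψ : (E ≃ₐ[K] E) → ZMod p := fun g => χ (lift g)
  have hψ : ∀ σ g, ψ (r σ * g) = χ σ + ψ g := fun σ g => by
    refine (hcongr (lift (r σ * g)) (σ * lift g) ?_).trans (hχ _ _)
    show r (lift _) = r (σ * lift g)
    rw [hlift, map_mul, hlift]
  obtain ⟨θ, hθ⟩ := Algebra.trace_surjective K E 1
  have hsum : ∑ g : E ≃ₐ[K] E, ((g θ : E) : L) = 1 := by
    have h : ((∑ g : E ≃ₐ[K] E, g θ : E) : L) = 1 := by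
      rw [← trace_eq_sum_automorphisms, hθ, map_one]
      rfl
    rw [← h]
    exact (map_sum E.val _ _).symm
  let ι : ZMod p →+* L := ZMod.castHom (dvd_refl p) L
  let x : L := -∑ g : E ≃ₐ[K] E, ι (ψ g) * ((g θ : E) : L)
  have hι : ∀ (σ : L ≃ₐ[K] L) (c : ZMod p), σ (ι c) = ι c := fun σ c =>
    RingHom.congr_fun (Subsingleton.elim ((σ : L →+* L).comp ι) ι) c
  have hx : ∀ σ : L ≃ₐ[K] L, σ x - x = ι (χ σ) := fun σ => by
    have h : σ x = -∑ g : E ≃ₐ[K] E, (ι (ψ g) - ι (χ σ)) * ((g θ : E) : L) := by
      rw [map_neg, map_sum]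
      congr 1
      refine Fintype.sum_equiv (Equiv.mulLeft (r σ)) _ _ fun g => ?_
      rw [map_mul, hι, Equiv.coe_mulLeft, hψ, map_add, add_sub_cancel_left]
      congr 1
      exact (Groth.GaloisBrauer.LocConst.coe_restrictNormalHom E σ (g θ)).symm
    rw [h]
    simp only [x, sub_mul, Finset.sum_sub_distrib, ← Finset.mul_sum, hsum, mul_one]
    ring
  refine ⟨x, ?_, fun σ => ?_⟩
  · refine (InfiniteGalois.mem_range_algebraMap_iff_fixed _).2 fun σ => ?_
    rw [map_sub, map_pow, sub_eq_iff_eq_add.1 (hx σ), add_pow_char, ← map_pow, ZMod.pow_card]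
    ring
  · rw [hx, ZMod.natCast_val]
    rfl

end Groth.Agent.S13194
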