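import Groth.Statements.S13197
import Mathlib
import Groth.Agent.GaloisBrauer.LocConst

set_option autoImplicit false
universe u
open GalCoh

namespace Groth.Agent.S13197

/-- Let K be a field, n ≥ 1 an integer invertible in K, L a separable closure of K, and a a map from the
automorphism group of L over K to the units of L, locally constant for the Krull topology, with
a(στ) = a(σ) · σ(a(τ)) and a(σ)^n = 1 for all σ, τ. Then there is a unit α of L with α^n in K and
a(σ) = α⁻¹ · σ(α) for every σ; that is, every continuous 1-cocycle of the absolute Galois group with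
values in the n-th roots of unity is the Kummer boundary of the class of α^n. -/
theorem result (K L : Type u) [Field K] [Field L]
    [Algebra K L] [IsSepClosure K L] (n : ℕ) (hn : 0 < n) (hnK : (n : K) ≠ 0)
    (a : (L ≃ₐ[K] L) → Lˣ)
    (ha : ∀ σ τ : L ≃ₐ[K] L, a (σ * τ) = a σ * σ • a τ) (hroot : ∀ σ : L ≃ₐ[K] L, a σ ^ n = 1)
    (hlc : IsLocallyConstant a) :
    ∃ α : Lˣ, ((α ^ n : Lˣ) : L) ∈ Set.range (algebraMap K L) ∧
      ∀ σ : L ≃ₐ[K] L, a σ = α⁻¹ * σ • α := by
  classical
  have : IsGalois K L := { }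
  let T : Set L := {y | y ^ n = 1}
  have hT : T.Finite := ((Polynomial.X ^ n - 1 : Polynomial L).roots.toFinset).finite_toSet.subset fun y hy => by
    simp only [Finset.mem_coe, Multiset.mem_toFinset]
    rw [Polynomial.mem_roots (by rw [← Polynomial.C_1]; exact Polynomial.X_pow_sub_C_ne_zero hn 1)]
    simp [Polynomial.IsRoot, show y ^ n = 1 from hy]
  obtain ⟨E, _, _, hTE, hE⟩ := Groth.GaloisBrauer.LocConst.exists_level a hlc T hT
  have h1 : a 1 = 1 := by
    have h := ha 1 1
    rw [one_mul, one_smul] at h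
    exact left_eq_mul.1 h
  let r := AlgEquiv.restrictNormalHom (F := K) (K₁ := L) E
  choose lift hlift using Groth.GaloisBrauer.LocConst.restrictNormal_surjective E
  have hcongr : ∀ σ τ, r σ = r τ → a σ = a τ := fun σ τ h => by
    have hm := hE _ (Groth.GaloisBrauer.LocConst.inv_mul_mem_fixing E h)
    rw [← mul_inv_cancel_left σ τ, ha, hm, h1, smul_one, mul_one]
  have hmem : ∀ σ, (a σ : L) ∈ E := fun σ => hTE (by
    show (a σ : L) ^ n = 1
    rw [← Units.val_pow_eq_pow_val, hroot, Units.val_one])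
  let f : (E ≃ₐ[K] E) → Eˣ := fun g =>
    Units.mk0 ⟨a (lift g), hmem _⟩ fun h => (a (lift g)).ne_zero (congrArg Subtype.val h)
  have hf : groupCohomology.IsMulCocycle₁ f := fun g h => by
    apply Units.ext
    apply Subtype.ext
    show (a (lift (g * h)) : L) = ((g ⟨a (lift h), hmem _⟩ : E) : L) * (a (lift g) : L)
    rw [hcongr (lift (g * h)) (lift g * lift h) (by show r _ = r _; rw [map_mul, hlift, hlift, hlift]), ha,
      Units.val_mul, mul_comm]
    have e := Groth.GaloisBrauer.LocConst.coe_restrictNormalHom E (lift g) ⟨a (lift h), hmem _⟩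
    rw [hlift] at e
    exact congrArg (· * (a (lift g) : L)) e.symm
  obtain ⟨β, hβ⟩ := groupCohomology.isMulCoboundary₁_of_isMulCocycle₁_of_aut_to_units f hf
  let α : Lˣ := Units.map E.val.toMonoidHom β
  have hα : ∀ σ : L ≃ₐ[K] L, a σ = α⁻¹ * σ • α := fun σ => by
    have h := congrArg (fun u : Eˣ => ((u : E) : L)) (eq_mul_of_div_eq (hβ (r σ)))
    change ((r σ (β : E) : E) : L) = (a (lift (r σ)) : L) * ((β : E) : L) at h
    rw [Groth.GaloisBrauer.LocConst.coe_restrictNormalHom, hcongr (lift (r σ)) σ (hlift _)] at h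
    rw [eq_inv_mul_iff_mul_eq, mul_comm]
    exact Units.ext h.symm
  refine ⟨α, (InfiniteGalois.mem_range_algebraMap_iff_fixed _).2 fun σ => ?_, hα⟩
  have h : σ • α = α * a σ := by rw [hα, mul_inv_cancel_left]
  show σ ((α ^ n : Lˣ) : L) = ((α ^ n : Lˣ) : L)
  have h2 : σ • (α ^ n) = α ^ n := by rw [smul_pow', h, mul_pow, hroot, mul_one]
  exact congrArg Units.val h2

end Groth.Agent.S13197
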