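import Groth.Statements.S13199
import Groth.Agent.Hensel1.SmoothBranches
import Groth.Agent.Hensel1.UnibranchSepClosed

set_option autoImplicit false
universe u
open Hensel

namespace Groth.Agent.S13199

/-- Let R be a Noetherian integral domain which is a strictly henselian local ring (henselian with
separably closed residue field), R' a smooth R-algebra and p a prime ideal of R' lying over the
maximal ideal of R (that is, containing its image). Then the local ring R'_p is an integral domain
and is geometrically unibranch: the integral closure of R'_p in its fraction field is a local ring
whose residue field is purely inseparable over that of R'_p. (The published statement concludes that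
every strict henselization of R'_p is an integral domain; for a local ring this is equivalent to
being an integral domain which is geometrically unibranch, the conclusion stated here.) -/
theorem result
    (R R' : Type u) [CommRing R] [IsDomain R] [IsNoetherianRing R] [HenselianLocalRing R]
    [IsSepClosed (IsLocalRing.ResidueField R)]
    [CommRing R'] [Algebra R R'] [Algebra.Smooth R R']
    (p : Ideal R') [p.IsPrime] (hp : (IsLocalRing.maximalIdeal R).map (algebraMap R R') ≤ p) :
    IsDomain (Localization.AtPrime p) ∧ CAlg2.IsGeomUnibranch (Localization.AtPrime p) := by
  have : IsLocalHom (algebraMap R (Localization.AtPrime p)) := ⟨fun a ha => by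
    by_contra hna
    rw [IsScalarTower.algebraMap_apply R R' (Localization.AtPrime p),
      IsLocalization.AtPrime.isUnit_to_map_iff (Localization.AtPrime p) p] at ha
    exact ha (hp (Ideal.mem_map_of_mem _ ((IsLocalRing.mem_maximalIdeal a).mpr hna)))⟩
  have : IsLocalization.AtPrime R (IsLocalRing.maximalIdeal R) :=
    IsLocalization.self fun r hr => IsLocalRing.notMem_maximalIdeal.mp hr
  refine Groth.Hensel1.isDomain_and_isGeomUnibranch_of_smooth (R := R) (S := R') (A := R)
    (IsLocalRing.maximalIdeal R).primeCompl p.primeCompl ?_
  refine Groth.Hensel1.isGeomUnibranch_of_isUnibranch_of_isSepClosed ?_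
  have : IsDomain (CAlg2.red R) := (Ideal.Quotient.isDomain_iff_prime _).mpr
    (by rw [nilradical_eq_zero]; exact Ideal.isPrime_bot)
  refine ⟨this, ?_⟩
  have : IsDomain (CAlg2.normRed R) := inferInstance
  have : Algebra.IsIntegral R (CAlg2.normRed R) := Algebra.IsIntegral.trans (CAlg2.red R)
  exact Groth.Hensel1.isLocalRing_of_isIntegral_of_isDomain R (CAlg2.normRed R)

end Groth.Agent.S13199
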