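import Groth.Statements.S13200
import Groth.Agent.Ega4Algebra2.HenselFormalFibre
import Groth.Agent.Ega4Algebra2.NormalRingSmooth
import Groth.Agent.Ega4Algebra1.ExcellentLoc
import Groth.Agent.S4754

set_option autoImplicit false
universe u
open Hensel

namespace Groth.Agent.S13200

/-- Let R be an excellent local ring which is strictly henselian (henselian with separably closed
residue field), and let R^ denote its completion at the maximal ideal. An element Δ of R is a prime
element of R exactly when its image in R^ is a prime element of R^. -/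
theorem result
    (R : Type u) [CommRing R] [HenselianLocalRing R] [IsSepClosed (IsLocalRing.ResidueField R)]
    (hR : EGA4.IsExcellent R) (Δ : R) :
    Prime Δ ↔ Prime (algebraMap R (AdicCompletion (IsLocalRing.maximalIdeal R) R) Δ) := by
  haveI := hR.1
  let m := IsLocalRing.maximalIdeal R
  haveI : IsLocalRing (AdicCompletion m R) := inferInstance
  have hreg : CAlg.IsRegularHom R (EGA4.Cpl R) :=
    Groth.Ega4Algebra1.isRegularHom_completion_of_ringEquiv
      (IsLocalization.atUnits R m.primeCompl (S := Localization.AtPrime m) fun x hx => by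
        by_contra hu
        exact hx hu).symm.toRingEquiv (hR.2.2.1.2 m)
  have hA : EGA4.HasGeomNormalFormalFibres R := fun p _ K _ _ hK => by
    haveI := (hreg.2 p).2 K hK
    exact Groth.Ega4b.isNormalRing_of_isRegularRing _
  haveI := Groth.Ega4b.HenselFib.faithfullyFlat_cpl R
  have hinj : Function.Injective (algebraMap R (EGA4.Cpl R)) :=
    AdicCompletion.of_injective (IsLocalRing.maximalIdeal R) R
  rcases eq_or_ne Δ 0 with rfl | hΔ
  · exact ⟨fun h => absurd rfl h.ne_zero, fun h => absurd (map_zero _) h.ne_zero⟩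
  have hΔ' : algebraMap R (EGA4.Cpl R) Δ ≠ 0 := fun h => hΔ (hinj (h.trans (map_zero _).symm))
  rw [← Ideal.span_singleton_prime hΔ]
  refine Iff.trans ?_ (Ideal.span_singleton_prime hΔ')
  have hmap : (Ideal.span {Δ}).map (algebraMap R (EGA4.Cpl R)) = Ideal.span {algebraMap R (EGA4.Cpl R) Δ} := by
    rw [Ideal.map_span, Set.image_singleton]
  rw [← hmap]
  constructor
  · intro hp
    haveI : Nontrivial (R ⧸ Ideal.span {Δ}) := Ideal.Quotient.nontrivial_iff.mpr hp.ne_top
    haveI : IsLocalRing (R ⧸ Ideal.span {Δ}) := IsLocalRing.of_surjective' _ Ideal.Quotient.mk_surjective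
    haveI : IsDomain (R ⧸ Ideal.span {Δ}) := Ideal.Quotient.isDomain _
    haveI : HenselianLocalRing (R ⧸ Ideal.span {Δ}) :=
      Groth.EtaleAlgebra.henselianLocalRing_of_isIntegral R (R ⧸ Ideal.span {Δ})
    haveI := Groth.Ega4b.HenselFib.isDomain_cpl (R ⧸ Ideal.span {Δ})
      (Groth.Agent.S4754.result R hA (Ideal.span {Δ}))
    rw [← Groth.Ega4b.ker_cplQuot]
    exact RingHom.ker_isPrime _
  · intro hp
    have := Ideal.IsPrime.comap (algebraMap R (EGA4.Cpl R)) (hK := hp)
    rwa [Ideal.comap_map_eq_self_of_faithfullyFlat] at this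

end Groth.Agent.S13200
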