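import Groth.Statements.S13201
import Groth.Agent.NodeFibral.Factorial
import Groth.Agent.NodeFibral.Primes
-- import your own Groth.Agent.* helpers here

set_option autoImplicit false
universe u
open CAlg

namespace Groth.Agent.S13201

open MvPowerSeries in
/-- Let R be a complete regular local ring and Δ an element of the maximal ideal of R. The quotient of
the power series ring R[[u,v]] in two variables by the ideal generated by uv − Δ is an integral
domain with unique factorization exactly when Δ is a prime element of R. -/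
theorem result
    (R : Type u) [CommRing R] [IsRegularLocalRing R] [IsAdicComplete (IsLocalRing.maximalIdeal R) R]
    (Δ : R) (hΔ : Δ ∈ IsLocalRing.maximalIdeal R) :
    (IsDomain (MvPowerSeries (Fin 2) R ⧸ Ideal.span {(X 0 * X 1 - C Δ : MvPowerSeries (Fin 2) R)}) ∧
      UniqueFactorizationMonoid (MvPowerSeries (Fin 2) R ⧸ Ideal.span {(X 0 * X 1 - C Δ : MvPowerSeries (Fin 2) R)}))
      ↔ Prime Δ := by
  classical
  haveI := Groth.Ega4Algebra1.isDomain_of_isRegularLocalRing R
  haveI := Groth.PicAux.ufd_of_isRegularLocalRing R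
  refine ⟨fun ⟨hd, hu⟩ => ?_, Groth.NodeFibral.factorial_nodeRing Δ⟩
  have hne : ∀ i : Fin 2, Groth.NodeRing.v Δ i ≠ 0 := fun i => by
    haveI : Nontrivial (R ⧸ Ideal.span {Δ}) :=
      Ideal.Quotient.nontrivial_iff.2 fun h => hΔ (Ideal.span_singleton_eq_top.1 h)
    exact Groth.NodeRing.v_ne_zero Δ i
  have hΔ0 : Δ ≠ 0 := by
    intro h0
    have := Groth.NodeRing.v_mul Δ 0
    rw [show algebraMap R (ArLef.NodeAlg R Δ) Δ = 0 by rw [h0, map_zero]] at this
    rcases mul_eq_zero.1 this with h | h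
    exacts [hne 0 h, hne _ h]
  obtain ⟨π, hπ, s, rfl⟩ : ∃ π, Prime π ∧ π ∣ Δ := by
    obtain ⟨π, hπ, hd⟩ := WfDvdMonoid.exists_irreducible_factor hΔ hΔ0
    exact ⟨π, hπ.prime, hd⟩
  by_cases hs : IsUnit s
  · exact (associated_mul_unit_right π s hs).prime hπ
  exfalso
  set o : Option (Fin 2) := some 0
  have ho : o ∈ Groth.NodeFibral.gens (π * s) π := by simp [Groth.NodeFibral.gens, o]
  have hP := Groth.NodeFibral.isPrime_primeA (π * s) π hΔ hπ ho
  have hP1 := Groth.NodeFibral.height_primeA (π * s) π hΔ hπ hΔ0 ho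
  have hbot : Groth.NodeFibral.primeA (π * s) π o ≠ ⊥ := by
    intro h
    rw [h, Ideal.height_bot] at hP1
    exact zero_ne_one hP1
  obtain ⟨p, hpP, hp⟩ := Ideal.IsPrime.exists_mem_prime_of_ne_bot hP hbot
  have hPp : Groth.NodeFibral.primeA (π * s) π o = Ideal.span {p} := by
    refine ((Ideal.span_singleton_le_iff_mem _).2 hpP).eq_or_lt.elim Eq.symm fun h => ?_
    exfalso
    haveI := hP
    haveI := (Ideal.span_singleton_prime hp.ne_zero).2 hp
    haveI : (Groth.NodeFibral.primeA (π * s) π o).FiniteHeight := ⟨Or.inr (by rw [hP1]; exact ENat.one_ne_top)⟩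
    have h1 := Ideal.height_strict_mono_of_isPrime_of_isPrime h
    rw [hP1, Order.lt_one_iff, Ideal.height_eq_zero_iff, IsDomain.minimalPrimes_eq_singleton_bot] at h1
    exact hp.ne_zero (Ideal.span_singleton_eq_bot.1 h1)
  have hx : Groth.NodeRing.v (π * s) 0 ∈ Ideal.span {p} := by
    rw [← hPp, Groth.NodeFibral.primeA_some]; exact Ideal.subset_span (by simp)
  have hπp : Groth.NodeFibral.cA (π * s) π ∈ Ideal.span {p} := by
    rw [← hPp]; exact Groth.NodeFibral.cA_mem (π * s) π hΔ hπ o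
  obtain ⟨a, ha⟩ := Ideal.mem_span_singleton.1 hx
  have hau : IsUnit a := by
    obtain ⟨F, rfl⟩ := Ideal.Quotient.mk_surjective a
    obtain ⟨G, rfl⟩ := Ideal.Quotient.mk_surjective p
    by_contra hnu
    have hF : ¬ IsUnit F := fun h => hnu (h.map _)
    have hG : ¬ IsUnit G := fun h => hp.not_unit (h.map _)
    rw [isUnit_iff_constantCoeff, ← mem_nonunits_iff, ← IsLocalRing.mem_maximalIdeal] at hF hG
    rw [Groth.NodeRing.v, ← map_mul, Ideal.Quotient.eq] at ha
    obtain ⟨h, hh⟩ := Ideal.mem_span_singleton.1 ha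
    have h1 := congrArg (coeff (Finsupp.single (0 : Fin 2) 1)) hh
    simp only [map_sub, sub_mul, coeff_C_mul, coeff_index_single_self_X] at h1
    have h2 : coeff (Finsupp.single (0 : Fin 2) 1) (X 0 * X 1 * h : MvPowerSeries (Fin 2) R) = 0 := by
      obtain ⟨g, hg⟩ : (X 1 : MvPowerSeries (Fin 2) R) ∣ X 0 * X 1 * h := ⟨X 0 * h, by ring⟩
      exact (X_dvd_iff.1 ⟨g, hg⟩) _ (by simp)
    have h3 : coeff (Finsupp.single (0 : Fin 2) 1) (G * F) ∈ IsLocalRing.maximalIdeal R := by
      rw [coeff_mul, Finsupp.antidiagonal_single, Finset.sum_map]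
      refine Ideal.sum_mem _ fun q hq => ?_
      rw [Finset.HasAntidiagonal.mem_antidiagonal] at hq
      obtain ⟨q1, q2⟩ := q
      simp only [Function.Embedding.coe_prodMap, Function.Embedding.coeFn_mk, Prod.map_apply]
      rcases Nat.eq_zero_or_pos q1 with rfl | h'
      · exact Ideal.mul_mem_right _ _ (by simpa using hG)
      · obtain rfl : q2 = 0 := by simp only at hq; omega
        exact Ideal.mul_mem_left _ _ (by simpa using hF)
    rw [h2] at h1
    have h4 : (1 : R) = coeff (Finsupp.single (0 : Fin 2) 1) (G * F) -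
        π * s * coeff (Finsupp.single (0 : Fin 2) 1) h := by linear_combination h1
    exact (IsLocalRing.maximalIdeal.isMaximal R).ne_top ((Ideal.eq_top_iff_one _).2
      (h4 ▸ sub_mem h3 (Ideal.mul_mem_right _ _ hΔ)))
  obtain ⟨b, hb⟩ := Ideal.mem_span_singleton.1 hπp
  have hvd : Groth.NodeRing.v (π * s) 0 ∣ Groth.NodeFibral.cA (π * s) π := by
    rw [hb, ha, hau.mul_right_dvd]
    exact dvd_mul_right _ _
  rw [Groth.NodeRing.dvd_iff_branch] at hvd
  have h5 : (Groth.NodeFibral.cA (π * s) π) = algebraMap R (ArLef.NodeAlg R (π * s)) π := rfl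
  rw [h5, Groth.NodeRing.branch_algebraMap, map_eq_zero_iff _ PowerSeries.C_injective,
    Ideal.Quotient.eq_zero_iff_dvd] at hvd
  obtain ⟨c, hc⟩ := hvd
  exact hs (IsUnit.of_mul_eq_one c (mul_left_cancel₀ hπ.ne_zero (by rw [← mul_assoc, ← hc, mul_one])))

end Groth.Agent.S13201
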