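import Groth.Statements.S13202
import Groth.Agent.Hensel1.SmoothBranches
import Groth.Agent.Hensel1.EtaleTransfer
import Groth.Agent.AlgSpEt.GorRing

set_option autoImplicit false
universe u
open Hensel

namespace Groth.Agent.S13202

section
open IsLocalRing

/-- Primality of an element in a strict henselization. -/
theorem prime_iff {L T : Type u} [CommRing L] [IsLocalRing L] [CommRing T] [IsLocalRing T] [Algebra L T]
    [IsLocalHom (algebraMap L T)] [Hensel.IsStrictHenselization L T] (δ : L) (hδ : δ ∈ maximalIdeal L)
    (J : Ideal L) (hJ : J = Ideal.span {δ}) [IsLocalRing (L ⧸ J)] :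
    Prime (algebraMap L T δ) ↔ δ ≠ 0 ∧ IsReduced (L ⧸ J) ∧ CAlg2.IsGeomUnibranch (L ⧸ J) := by
  obtain ⟨M⟩ := Groth.Hensel1.hensModel_of_isStrictHenselization (R := L) (S := T)
  haveI := M.faithfullyFlat
  have hinj : Function.Injective (algebraMap L T) := FaithfulSMul.algebraMap_injective L T
  have hJT : J.map (algebraMap L T) = Ideal.span {algebraMap L T δ} := by
    rw [hJ, Ideal.map_span, Set.image_singleton]
  have hle : J.map (algebraMap L T) ≤ maximalIdeal T := by
    rw [hJT, Ideal.span_singleton_le_iff_mem]
    exact map_nonunit (algebraMap L T) δ hδ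
  haveI : Nontrivial (T ⧸ J.map (algebraMap L T)) :=
    Ideal.Quotient.nontrivial_iff.mpr (ne_top_of_le_ne_top (maximalIdeal.isMaximal T).ne_top hle)
  haveI : IsLocalRing (T ⧸ J.map (algebraMap L T)) := .of_surjective' _ Ideal.Quotient.mk_surjective
  haveI : IsLocalHom (algebraMap (L ⧸ J) (T ⧸ J.map (algebraMap L T))) := by
    refine ⟨fun z hz => ?_⟩
    obtain ⟨z, rfl⟩ := Ideal.Quotient.mk_surjective z
    haveI : IsLocalHom (Ideal.Quotient.mk (J.map (algebraMap L T))) :=
      .of_surjective _ Ideal.Quotient.mk_surjective
    have hz' : IsUnit (Ideal.Quotient.mk (J.map (algebraMap L T)) (algebraMap L T z)) := hz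
    exact (IsUnit.of_map (algebraMap L T) z (IsUnit.of_map _ _ hz')).map _
  haveI := Groth.AlgSpEt.GorRing.isStrictHenselization_quotient (R := T) J
  rw [Groth.Hensel1.reduced_isGeomUnibranch_iff_isDomain (L ⧸ J) (T ⧸ J.map (algebraMap L T))]
  rcases eq_or_ne δ 0 with rfl | h0
  · simp
  · have h1 : algebraMap L T δ ≠ 0 := (map_ne_zero_iff _ hinj).mpr h0
    rw [← Ideal.span_singleton_prime h1, ← hJT, Ideal.Quotient.isDomain_iff_prime]
    exact ⟨fun h => ⟨h0, h⟩, fun h => h.2⟩

theorem isLocalRing_quotient {L : Type u} [CommRing L] [IsLocalRing L] {J : Ideal L}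
    (hJ : J ≤ maximalIdeal L) : IsLocalRing (L ⧸ J) :=
  haveI : Nontrivial (L ⧸ J) :=
    Ideal.Quotient.nontrivial_iff.mpr (ne_top_of_le_ne_top (maximalIdeal.isMaximal L).ne_top hJ)
  .of_surjective' _ Ideal.Quotient.mk_surjective

/-- Smooth algebras preserve `prime in the strict henselization`. -/
theorem smooth_step {R R' : Type u} [CommRing R] [CommRing R'] [Algebra R R'] [Algebra.Smooth R R']
    (Δ : R) (p : Ideal R) [p.IsPrime] (q : Ideal R') [q.IsPrime] (hpq : p = q.comap (algebraMap R R'))
    (hΔ : Δ ∈ p) [IsLocalRing (Localization.AtPrime p ⧸ (Ideal.span {Δ}).map (algebraMap R (Localization.AtPrime p)))]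
    (h0 : algebraMap R (Localization.AtPrime p) Δ ≠ 0)
    (hred : IsReduced (Localization.AtPrime p ⧸ (Ideal.span {Δ}).map (algebraMap R (Localization.AtPrime p))))
    (hgu : CAlg2.IsGeomUnibranch (Localization.AtPrime p ⧸ (Ideal.span {Δ}).map (algebraMap R (Localization.AtPrime p)))) :
    algebraMap R' (Localization.AtPrime q) (algebraMap R R' Δ) ≠ 0 ∧
      ∃ _ : IsLocalRing (Localization.AtPrime q ⧸
        ((Ideal.span {Δ}).map (algebraMap R R')).map (algebraMap R' (Localization.AtPrime q))),
      IsReduced (Localization.AtPrime q ⧸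
          ((Ideal.span {Δ}).map (algebraMap R R')).map (algebraMap R' (Localization.AtPrime q))) ∧
        CAlg2.IsGeomUnibranch (Localization.AtPrime q ⧸
          ((Ideal.span {Δ}).map (algebraMap R R')).map (algebraMap R' (Localization.AtPrime q))) := by
  haveI : q.LiesOver p := ⟨hpq⟩
  let φ : Localization.AtPrime p →+* Localization.AtPrime q :=
    Localization.localRingHom p q (algebraMap R R') hpq
  have hφ : φ.comp (algebraMap R (Localization.AtPrime p)) =
      (algebraMap R' (Localization.AtPrime q)).comp (algebraMap R R') :=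
    RingHom.ext fun r => Localization.localRingHom_to_map p q (algebraMap R R') hpq r
  letI : Algebra (Localization.AtPrime p) (Localization.AtPrime q) := φ.toAlgebra
  haveI : IsScalarTower R (Localization.AtPrime p) (Localization.AtPrime q) :=
    .of_algebraMap_eq fun r => by
      rw [IsScalarTower.algebraMap_apply R R' (Localization.AtPrime q)]
      exact (RingHom.congr_fun hφ r).symm
  haveI : IsLocalHom (algebraMap (Localization.AtPrime p) (Localization.AtPrime q)) :=
    Localization.isLocalHom_localRingHom p q (algebraMap R R') hpq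
  haveI := Groth.Hensel1.flat_of_smooth_localization (R := R) (S := R') (A := Localization.AtPrime p)
    (B := Localization.AtPrime q) p.primeCompl q.primeCompl
  haveI : Module.FaithfullyFlat (Localization.AtPrime p) (Localization.AtPrime q) :=
    Module.FaithfullyFlat.of_flat_of_isLocalHom
  refine ⟨fun h => h0 (FaithfulSMul.algebraMap_injective (Localization.AtPrime p) (Localization.AtPrime q)
    (by rw [map_zero, ← IsScalarTower.algebraMap_apply, IsScalarTower.algebraMap_apply R R', h])), ?_⟩
  let I : Ideal R := Ideal.span {Δ}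
  let K : Ideal R' := I.map (algebraMap R R')
  have hKq : K.map (algebraMap R' (Localization.AtPrime q)) ≤ maximalIdeal (Localization.AtPrime q) := by
    rw [← Localization.AtPrime.map_eq_maximalIdeal]
    refine Ideal.map_mono (Ideal.map_le_iff_le_comap.mpr ?_)
    rw [← hpq, Ideal.span_singleton_le_iff_mem]
    exact hΔ
  haveI hBl := isLocalRing_quotient hKq
  refine ⟨hBl, ?_⟩
  let B := Localization.AtPrime q ⧸ K.map (algebraMap R' (Localization.AtPrime q))
  let A := Localization.AtPrime p ⧸ I.map (algebraMap R (Localization.AtPrime p))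
  have hmap : I.map (algebraMap R (Localization.AtPrime p)) ≤
      (K.map (algebraMap R' (Localization.AtPrime q))).comap φ := by
    rw [← Ideal.map_le_iff_le_comap, Ideal.map_map, hφ, ← Ideal.map_map]
  letI : Algebra A B := (Ideal.quotientMap _ φ hmap).toAlgebra
  haveI : Algebra.Smooth (R ⧸ I) (R' ⧸ K) :=
    Algebra.Smooth.of_equiv (Algebra.TensorProduct.quotIdealMapEquivQuotTensor R' I).symm
  letI : Algebra (R ⧸ I) B := ((algebraMap (R' ⧸ K) B).comp (algebraMap (R ⧸ I) (R' ⧸ K))).toAlgebra
  haveI : IsScalarTower (R ⧸ I) (R' ⧸ K) B := .of_algebraMap_eq fun _ => rfl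
  haveI : IsScalarTower (R ⧸ I) A B := .of_algebraMap_eq fun x => by
    obtain ⟨r, rfl⟩ := Ideal.Quotient.mk_surjective x
    exact congrArg (Ideal.Quotient.mk _) (RingHom.congr_fun hφ r).symm
  haveI : IsLocalHom (algebraMap A B) := by
    refine ⟨fun z hz => ?_⟩
    obtain ⟨z, rfl⟩ := Ideal.Quotient.mk_surjective z
    haveI : IsLocalHom (Ideal.Quotient.mk (K.map (algebraMap R' (Localization.AtPrime q)))) :=
      .of_surjective _ Ideal.Quotient.mk_surjective
    have hz' : IsUnit (Ideal.Quotient.mk (K.map (algebraMap R' (Localization.AtPrime q))) (φ z)) := hz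
    exact (IsUnit.of_map (algebraMap (Localization.AtPrime p) (Localization.AtPrime q)) z
      (IsUnit.of_map _ _ hz')).map _
  haveI : IsReduced A := hred
  have hA : IsDomain A := by
    have := (Ideal.Quotient.isDomain_iff_prime _).mp hgu.1.1
    rw [nilradical_eq_zero] at this
    exact IsDomain.of_bot_isPrime A
  have h := Groth.Hensel1.isDomain_and_isGeomUnibranch_of_smooth (R := R ⧸ I) (S := R' ⧸ K) (A := A) (B := B)
    (Algebra.algebraMapSubmonoid (R ⧸ I) p.primeCompl) (Algebra.algebraMapSubmonoid (R' ⧸ K) q.primeCompl) hgu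
  haveI := h.1
  exact ⟨inferInstance, h.2⟩

end

/-- Let R be a Noetherian regular ring (every localization at a prime ideal is a regular local ring) and
Δ ∈ R. The element Δ is étale-universally prime — meaning that for every prime ideal p of R
containing Δ and every strict henselization T of R_p, the image of Δ in T is a prime element —
exactly when for every smooth R-algebra R', every prime ideal q of R' and every strict henselization
T of R'_q, the image of Δ in T is either invertible or a prime element. (Smooth R-algebras and their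
strict henselizations are taken in the universe of R.) -/
theorem result
    (R : Type u) [CommRing R] [IsNoetherianRing R]
    (hreg : ∀ (p : Ideal R) [p.IsPrime], IsRegularLocalRing (Localization.AtPrime p)) (Δ : R) :
    (∀ (p : Ideal R) [p.IsPrime], Δ ∈ p →
        ∀ (T : Type u) [CommRing T] [IsLocalRing T] [Algebra (Localization.AtPrime p) T]
          [IsLocalHom (algebraMap (Localization.AtPrime p) T)]
          [Hensel.IsStrictHenselization (Localization.AtPrime p) T],
          Prime (algebraMap (Localization.AtPrime p) T (algebraMap R (Localization.AtPrime p) Δ))) ↔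
    (∀ (R' : Type u) [CommRing R'] [Algebra R R'] [Algebra.Smooth R R'] (q : Ideal R') [q.IsPrime]
        (T : Type u) [CommRing T] [IsLocalRing T] [Algebra (Localization.AtPrime q) T]
          [IsLocalHom (algebraMap (Localization.AtPrime q) T)]
          [Hensel.IsStrictHenselization (Localization.AtPrime q) T],
        IsUnit (algebraMap (Localization.AtPrime q) T (algebraMap R' (Localization.AtPrime q) (algebraMap R R' Δ))) ∨
          Prime (algebraMap (Localization.AtPrime q) T (algebraMap R' (Localization.AtPrime q) (algebraMap R R' Δ)))) := by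
  constructor
  · intro H R' _ _ _ q _ T _ _ _ _ _
    let p : Ideal R := q.comap (algebraMap R R')
    by_cases hΔ : Δ ∈ p
    · right
      have hΔp : algebraMap R (Localization.AtPrime p) Δ ∈ IsLocalRing.maximalIdeal (Localization.AtPrime p) := by
        rw [← Localization.AtPrime.map_eq_maximalIdeal]; exact Ideal.mem_map_of_mem _ hΔ
      have hJ : (Ideal.span {Δ}).map (algebraMap R (Localization.AtPrime p)) =
          Ideal.span {algebraMap R (Localization.AtPrime p) Δ} := by rw [Ideal.map_span, Set.image_singleton]
      haveI := isLocalRing_quotient (hJ.le.trans ((Ideal.span_singleton_le_iff_mem _).mpr hΔp))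
      obtain ⟨S, _, _, _, _, _⟩ := Groth.Hensel1.exists_isStrictHenselization (Localization.AtPrime p)
      obtain ⟨h0, hred, hgu⟩ := (prime_iff (T := S) _ hΔp _ hJ).mp (H p hΔ S)
      obtain ⟨h0', hl, hred', hgu'⟩ := smooth_step Δ p q rfl hΔ h0 hred hgu
      refine (prime_iff (T := T) _ ?_ _ ?_).mpr ⟨h0', hred', hgu'⟩
      · rw [← Localization.AtPrime.map_eq_maximalIdeal]; exact Ideal.mem_map_of_mem _ hΔ
      · rw [Ideal.map_span, Set.image_singleton, Ideal.map_span, Set.image_singleton]
    · left
      exact (IsLocalization.map_units (Localization.AtPrime q)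
        (⟨algebraMap R R' Δ, hΔ⟩ : q.primeCompl)).map _
  · intro H p _ hp T _ _ _ _ _
    refine (H R p T).resolve_left fun h => ?_
    have h2 : algebraMap R (Localization.AtPrime p) Δ ∈ IsLocalRing.maximalIdeal (Localization.AtPrime p) := by
      rw [← Localization.AtPrime.map_eq_maximalIdeal]; exact Ideal.mem_map_of_mem _ hp
    exact h2 (IsUnit.of_map (algebraMap (Localization.AtPrime p) T) _ h)

end Groth.Agent.S13202
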