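import Groth.Statements.S13204
import Groth.Agent.EGA43Valuative.DominatingDVR
-- import your own Groth.Agent.* helpers here

set_option autoImplicit false
universe u
open Neron

namespace Groth.Agent.S13204

/-- Let R be a strictly henselian Noetherian local unique factorization domain and Δ₁, Δ₂ two non-units
of R with no common prime factor. Then there are a discrete valuation ring A and an injective local
homomorphism f : R → A — so that Spec A → Spec R sends the closed point to the closed point and the
generic point to the generic point, which lies in every dense open subset — such that f(Δ₁) is a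
non-zero non-unit and f(Δ₁) = u · f(Δ₂) for some unit u of A congruent to 1 modulo the maximal
ideal. (The published statement asks for the images of Δ₁ and Δ₂ in A to be equal, with the generic
point of Spec A sent into a given dense open subset of Spec R; that cannot hold in general — for R =
ℂ[[a,b]], Δ₁ = a, Δ₂ = b and the dense open D(a − b), any local map to a discrete valuation ring
identifying a and b sends the generic point into V(a − b) — so this row asks instead for f(Δ₁) = u ·
f(Δ₂) with u a unit congruent to 1 modulo the maximal ideal.) -/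
theorem result
    (R : Type u) [CommRing R] [IsDomain R] [IsNoetherianRing R] [UniqueFactorizationMonoid R]
    [HenselianLocalRing R] [IsSepClosed (IsLocalRing.ResidueField R)]
    (Δ₁ Δ₂ : R) (h₁ : ¬ IsUnit Δ₁) (h₂ : ¬ IsUnit Δ₂) (hcop : IsRelPrime Δ₁ Δ₂) :
    ∃ (A : Type u) (_ : CommRing A) (_ : IsDomain A) (_ : IsDiscreteValuationRing A) (f : R →+* A),
      IsLocalHom f ∧ Function.Injective f ∧ ¬ IsUnit (f Δ₁) ∧
        ∃ u : Aˣ, (u : A) - 1 ∈ IsLocalRing.maximalIdeal A ∧ f Δ₁ = (u : A) * f Δ₂ := by
  classical
  let K := FractionRing R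
  have hΔ₂ : Δ₂ ≠ 0 := fun h => by
    rw [h] at hcop
    exact h₁ (hcop dvd_rfl (dvd_zero _))
  let a : R →+* K := algebraMap R K
  have ha : Function.Injective a := IsFractionRing.injective R K
  let x : K := a Δ₁ / a Δ₂
  let φ : Polynomial R →+* K := Polynomial.eval₂RingHom a x
  let π : Polynomial R →+* IsLocalRing.ResidueField R :=
    Polynomial.eval₂RingHom (IsLocalRing.residue R) 1
  have hker : RingHom.ker φ ≤ RingHom.ker π := by
    intro g hg
    let p : Polynomial R := Polynomial.C Δ₂ * Polynomial.X - Polynomial.C Δ₁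
    have hp : p.IsPrimitive := by
      intro r hr
      rw [Polynomial.C_dvd_iff_dvd_coeff] at hr
      refine hcop ?_ ?_
      · simpa [p] using dvd_neg.mpr (hr 0)
      · simpa [p] using hr 1
    have hdvd : p ∣ g := by
      refine hp.dvd_of_fraction_map_dvd_fraction_map (K := K) ?_
      have hΔ : a Δ₂ ≠ 0 := fun h => hΔ₂ (ha (h.trans (map_zero a).symm))
      have h3 : Polynomial.map a p = Polynomial.C (a Δ₂) * (Polynomial.X - Polynomial.C x) := by
        simp only [p, Polynomial.map_sub, Polynomial.map_mul, Polynomial.map_C, Polynomial.map_X,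
          mul_sub, ← Polynomial.C_mul, x, mul_div_cancel₀ _ hΔ]
      rw [show algebraMap R K = a from rfl, h3]
      refine (IsUnit.mul_left_dvd (Polynomial.isUnit_C.mpr (isUnit_iff_ne_zero.mpr hΔ))).mpr ?_
      rw [Polynomial.dvd_iff_isRoot, Polynomial.IsRoot, Polynomial.eval_map]
      exact hg
    obtain ⟨q, rfl⟩ := hdvd
    rw [RingHom.mem_ker, map_mul]
    have : π p = 0 := by
      simp [p, π, (IsLocalRing.residue_eq_zero_iff _).mpr ((IsLocalRing.mem_maximalIdeal _).mpr h₁),
        (IsLocalRing.residue_eq_zero_iff _).mpr ((IsLocalRing.mem_maximalIdeal _).mpr h₂)]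
    rw [this, zero_mul]
  let B : Subring K := φ.range
  let φ' : Polynomial R →+* B := φ.rangeRestrict
  have hφ' : Function.Surjective φ' := φ.rangeRestrict_surjective
  have hker' : RingHom.ker φ' ≤ RingHom.ker π := by
    intro g hg
    exact hker (congrArg Subtype.val (RingHom.mem_ker.mp hg))
  let ψ : B →+* IsLocalRing.ResidueField R := RingHom.liftOfSurjective φ' hφ' ⟨π, hker'⟩
  have hψ : ∀ g, ψ (φ' g) = π g := fun g =>
    RingHom.liftOfRightInverse_comp_apply _ _ _ ⟨π, hker'⟩ g
  have : IsNoetherianRing B := isNoetherianRing_of_surjective (Polynomial R) B φ' hφ'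
  let P : Ideal B := RingHom.ker ψ
  have hP : P.IsPrime := RingHom.ker_isPrime _
  let L := Localization.AtPrime P
  let ι : R →+* L := (algebraMap B L).comp (φ'.comp Polynomial.C)
  have hιinj : Function.Injective ι := by
    refine (IsLocalization.injective L P.primeCompl_le_nonZeroDivisors).comp fun r s hrs => ha ?_
    have h5 : φ (Polynomial.C r) = φ (Polynomial.C s) := congrArg (fun y : B => (y : K)) hrs
    simpa [φ] using h5
  have hιloc : IsLocalHom ι := ⟨fun r hr => by
    by_contra hru
    have : φ' (Polynomial.C r) ∉ P := (IsLocalization.AtPrime.isUnit_to_map_iff L P _).mp hr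
    apply this
    rw [RingHom.mem_ker, hψ]
    simpa [π] using (IsLocalRing.residue_eq_zero_iff _).mpr ((IsLocalRing.mem_maximalIdeal _).mpr hru)⟩
  let t : L := algebraMap B L (φ' Polynomial.X)
  have ht : ι Δ₁ = t * ι Δ₂ := by
    show algebraMap B L (φ' (Polynomial.C Δ₁)) = algebraMap B L (φ' Polynomial.X) * algebraMap B L (φ' (Polynomial.C Δ₂))
    rw [← map_mul]
    refine congrArg _ (Subtype.ext ?_)
    have hΔ : a Δ₂ ≠ 0 := fun h => hΔ₂ (ha (h.trans (map_zero a).symm))
    show φ (Polynomial.C Δ₁) = φ Polynomial.X * φ (Polynomial.C Δ₂)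
    simp [φ, x, div_mul_cancel₀ _ hΔ]
  have ht1 : t - 1 ∈ IsLocalRing.maximalIdeal L := by
    rw [show t - 1 = algebraMap B L (φ' (Polynomial.X - 1)) by rw [map_sub, map_sub, map_one, map_one],
      IsLocalization.AtPrime.to_map_mem_maximal_iff L P, RingHom.mem_ker, hψ]
    simp [π]
  have hL : ¬ IsField L := fun hF => by
    have h0 : ι Δ₂ ≠ 0 := fun h => hΔ₂ (hιinj (h.trans (map_zero ι).symm))
    exact h₂ (hιloc.map_nonunit _ ((hF.mul_inv_cancel h0).elim fun b hb => IsUnit.of_mul_eq_one b hb))
  have : IsNoetherianRing L := IsLocalization.isNoetherianRing P.primeCompl L inferInstance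
  obtain ⟨A, iA, iD, iV, f, hf, hfloc⟩ := Groth.EGA43Val.exists_dvr_dominating L hL
  have : IsLocalHom (f.comp ι) := RingHom.isLocalHom_comp f ι
  have hfm : f (t - 1) ∈ IsLocalRing.maximalIdeal A := fun h =>
    (IsLocalRing.mem_maximalIdeal _).mp ht1 (hfloc.map_nonunit _ h)
  have hu : IsUnit (f t) := by
    by_contra hc
    have h1 : f t - f (t - 1) ∈ IsLocalRing.maximalIdeal A := sub_mem hc hfm
    rw [map_sub, map_one, sub_sub_cancel] at h1
    exact h1 isUnit_one
  refine ⟨A, iA, iD, iV, f.comp ι, this, hf.comp hιinj, fun h => h₁ (this.map_nonunit _ h),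
    hu.unit, ?_, ?_⟩
  · rw [IsUnit.unit_spec, ← map_one f, ← map_sub]
    exact hfm
  · show f (ι Δ₁) = f t * f (ι Δ₂)
    rw [ht, map_mul]


end Groth.Agent.S13204
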