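import Groth.Statements.S13206
import Groth.Agent.AlgGrp1.Sub

set_option autoImplicit false
universe u
open CategoryTheory AlgebraicGeometry
open AlgGrp

namespace Groth.Agent.S13206

/-- Let X → S be a separated morphism of schemes and let a finite group G act on X through
S-automorphisms. Then the functor of G-fixed points is represented by a closed subscheme of X: there
are a scheme Z and a closed immersion i : Z → X with i ∘ g = i for all g ∈ G such that every
morphism x : T → X with g ∘ x = x for all g ∈ G factors uniquely through i. (The published statement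
is for an algebraic space X over S, also treats the locally separated case and notes compatibility
with base change; this row is the separated case for schemes.) -/
theorem result
    {X S : Scheme.{u}} (p : X ⟶ S) [IsSeparated p]
    (G : Type u) [Group G] [Finite G] (ρ : G →* Aut X) (hρ : ∀ g : G, (ρ g).hom ≫ p = p) :
    ∃ (Z : Scheme.{u}) (i : Z ⟶ X), IsClosedImmersion i ∧ (∀ g : G, i ≫ (ρ g).hom = i) ∧
      ∀ (T : Scheme.{u}) (x : T ⟶ X), (∀ g : G, x ≫ (ρ g).hom = x) → ∃! z : T ⟶ Z, z ≫ i = x := by
  classical
  have hsep : IsSeparated (Over.mk p).hom := ‹IsSeparated p›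
  have key : ∀ s : Finset G, ∃ (Z : Over S) (c : Z ⟶ Over.mk p), IsClosedImmersion c.left ∧
      ∀ (W : Over S) (x : W ⟶ Over.mk p),
        (∃ z : W ⟶ Z, z ≫ c = x) ↔ ∀ g ∈ s, x.left ≫ (ρ g).hom = x.left := by
    intro s
    induction s using Finset.induction with
    | empty => exact ⟨Over.mk p, 𝟙 _, inferInstanceAs (IsClosedImmersion (𝟙 X)), fun W x => by simp⟩
    | @insert g s _ ih =>
      obtain ⟨Z, c, hc, hu⟩ := ih
      let r : Over.mk p ⟶ Over.mk p := Over.homMk (ρ g).hom (hρ g)
      obtain ⟨Z', c', hc', hu'⟩ := Groth.AlgGrp1.exists_equalizer (c ≫ r) c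
      refine ⟨Z', c' ≫ c, inferInstanceAs (IsClosedImmersion (c'.left ≫ c.left)), fun W x => ?_⟩
      have : Mono c := Over.mono_of_mono_left c
      constructor
      · rintro ⟨z, rfl⟩
        have e := (hu' _ (z ≫ c')).1 ⟨z, rfl⟩
        intro g' hg'
        rcases Finset.mem_insert.1 hg' with rfl | hg'
        · have := congrArg (fun q => q.left) e
          simpa [r] using this
        · exact (hu _ (z ≫ c' ≫ c)).1 ⟨z ≫ c', Category.assoc _ _ _⟩ g' hg'
      · intro h
        obtain ⟨y, hy⟩ := (hu _ x).2 fun g' hg' => h g' (Finset.mem_insert_of_mem hg')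
        obtain ⟨z, hz⟩ := (hu' _ y).2 (by
          apply Over.OverMorphism.ext
          have := h g (Finset.mem_insert_self g s)
          rw [← hy] at this
          simpa [r] using this)
        exact ⟨z, by rw [reassoc_of% hz, hy]⟩
  have : Fintype G := Fintype.ofFinite G
  obtain ⟨Z, c, hc, hu⟩ := key Finset.univ
  refine ⟨Z.left, c.left, hc, fun g => ?_, fun T x hx => ?_⟩
  · exact (hu Z c).1 ⟨𝟙 Z, Category.id_comp c⟩ g (Finset.mem_univ g)
  · let x' : Over.mk (x ≫ p) ⟶ Over.mk p := Over.homMk x rfl
    obtain ⟨z, hz⟩ := (hu _ x').2 fun g _ => hx g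
    refine ⟨z.left, congrArg (fun q => q.left) hz, fun z' hz' => ?_⟩
    rw [← cancel_mono c.left, hz']
    exact (congrArg (fun q => q.left) hz).symm

end Groth.Agent.S13206
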