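import Groth.Statements.S13207
import Groth.Agent.NeronArea.Mapping
import Mathlib.AlgebraicGeometry.Limits


set_option autoImplicit false
universe u
open CategoryTheory CategoryTheory.Limits AlgebraicGeometry
open Neron

set_option backward.isDefEq.respectTransparency false
open CategoryTheory CategoryTheory.Limits Groth.NeronArea

namespace Groth.Agent.S13207.Aux

lemma isPullback_sigmaMap {I : Type u} (B N : I → Scheme.{u}) (f : ∀ i, N i ⟶ B i) (i : I) :
    IsPullback (f i) (Sigma.ι N i) (Sigma.ι B i) (Limits.Sigma.map f) := by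
  refine IsOpenImmersion.isPullback (f i) (Sigma.ι N i) (Sigma.ι B i) (Limits.Sigma.map f)
    (Sigma.ι_map f i) ?_
  ext x
  constructor
  · rintro ⟨y, hy⟩
    obtain ⟨⟨j, z⟩, rfl⟩ := (sigmaMk N).surjective x
    rw [sigmaMk_mk]
    have e : (Limits.Sigma.map f).base ((Sigma.ι N j).base z) = (Sigma.ι B j).base ((f j).base z) := by
      rw [← Scheme.Hom.comp_apply, Sigma.ι_map, Scheme.Hom.comp_apply]
    rw [sigmaMk_mk] at hy
    have hij : i = j := by
      by_contra h
      exact disjoint_left (Set.mem_range_self y) (hy.trans e ▸ Set.mem_range_self _) h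
    subst hij
    exact ⟨z, rfl⟩
  · rintro ⟨z, rfl⟩
    exact ⟨(f i).base z, by rw [← Scheme.Hom.comp_apply, ← Sigma.ι_map f i, Scheme.Hom.comp_apply]⟩
where
  disjoint_left {i j : I} {x} (h1 : x ∈ Set.range (Sigma.ι B i).base) (h2 : x ∈ Set.range (Sigma.ι B j).base)
      (h : i ≠ j) : False :=
    Set.disjoint_left.1 (Set.disjoint_iff_inter_eq_empty.2 (by
      have := disjoint_iff.1 (disjoint_opensRange_sigmaι B i j h)
      exact congrArg (fun O : (∐ B).Opens => (O : Set (∐ B : Scheme.{u}))) this)) h1 h2

/-- The base change isomorphism. -/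
noncomputable def pullbackIso {I : Type u} (B N : I → Scheme.{u}) (f : ∀ i, N i ⟶ B i) (i : I) :
    (Over.pullback (Sigma.ι B i)).obj (Over.mk (Limits.Sigma.map f)) ≅ Over.mk (f i) :=
  Over.isoMk (isPullback_sigmaMap B N f i).flip.isoPullback.symm (by simp)

lemma bijective_iso {S U : Scheme.{u}} (ι : U ⟶ S) (Y : Over S) {N N' : Over S} (e : N ≅ N') :
    Function.Bijective (fun g : Y ⟶ N => (Over.pullback ι).map g) ↔
      Function.Bijective (fun g : Y ⟶ N' => (Over.pullback ι).map g) := by
  rw [← e.homToEquiv.bijective_comp (fun g : Y ⟶ N' => (Over.pullback ι).map g),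
    ← (((Over.pullback ι).mapIso e).homToEquiv).comp_bijective (fun g : Y ⟶ N => (Over.pullback ι).map g)]
  refine iff_of_eq (congrArg _ (funext fun f => ?_))
  simp [Iso.homToEquiv]

lemma smooth_sigmaMap_iff {I : Type u} (B N : I → Scheme.{u}) (f : ∀ i, N i ⟶ B i) :
    Smooth (Limits.Sigma.map f) ↔ ∀ i, Smooth (f i) := by
  constructor
  · intro h i
    exact MorphismProperty.of_isPullback (isPullback_sigmaMap B N f i).flip h
  · intro h
    rw [IsZariskiLocalAtTarget.iff_of_openCover (P := @Smooth) (sigmaOpenCover B)]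
    intro i
    exact ((MorphismProperty.arrow_mk_iso_iff @Smooth
      (Arrow.isoMk ((Over.forget _).mapIso (pullbackIso B N f i)) (Iso.refl _) ((Over.w (pullbackIso B N f i).hom).trans (Category.comp_id _).symm))).2 (h i) :)

lemma bijective_of_cover {I : Type u} (B : I → Scheme.{u}) {U : Scheme.{u}} (ι : U ⟶ ∐ B)
    (Y N : Over (∐ B))
    (h : ∀ i, Function.Bijective
      (fun g : rst (Sigma.ι B i) Y ⟶ N => (Over.pullback ι).map g)) :
    Function.Bijective (fun g : Y ⟶ N => (Over.pullback ι).map g) := by
  let cov : Y.left.OpenCover := (sigmaOpenCover B).pullback₁ Y.hom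
  constructor
  · intro a b hab
    ext
    refine Scheme.Cover.hom_ext cov _ _ fun i => ?_
    have := (h i).1 (a₁ := rstπ _ Y ≫ a) (a₂ := rstπ _ Y ≫ b)
      (by simp only [Functor.map_comp]; exact congrArg (_ ≫ ·) hab)
    exact congrArg CommaMorphism.left this
  · intro φ
    rw [show φ = (rstEquiv ι Y N).symm (rstEquiv ι Y N φ) by simp]
    set t := rstEquiv ι Y N φ
    choose a ha using fun i => ((bijective_map_iff ι (rst (Sigma.ι B i) Y) N).1 (h i)).2
      (Over.homMk (pullback.lift (pullback.fst _ _ ≫ pullback.fst _ _) (pullback.snd _ _)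
        (by rw [← pullback.condition]; simp) ≫ t.left) (by
          have := Over.w t
          simp at this ⊢))
    have hov : ∀ i j, pullback.fst (cov.f i) (cov.f j) ≫ (a i).left =
        pullback.snd (cov.f i) (cov.f j) ≫ (a j).left := by
      intro i j
      by_cases hij : i = j
      · subst hij
        congr 1
        exact (cancel_mono (cov.f i)).1 pullback.condition
      · have hE : IsEmpty ↑(pullback (cov.f i) (cov.f j)) :=
          isEmpty_of_commSq_sigmaι_of_ne (a := pullback.fst (cov.f i) (cov.f j) ≫ pullback.snd Y.hom (Sigma.ι B i))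
            (b := pullback.snd (cov.f i) (cov.f j) ≫ pullback.snd Y.hom (Sigma.ι B j))
            ⟨by
              have e := congrArg (· ≫ Y.hom) (pullback.condition (f := cov.f i) (g := cov.f j))
              simp only [Category.assoc] at e ⊢
              rw [← pullback.condition, ← pullback.condition]
              exact e⟩ hij
        exact ((isInitial_iff_isEmpty (X := pullback (cov.f i) (cov.f j))).mpr hE).some.hom_ext _ _
    let g : Y.left ⟶ N.left := Scheme.Cover.glueMorphisms cov (fun i => (a i).left) hov
    have hg : g ≫ N.hom = Y.hom := Scheme.Cover.hom_ext cov _ _ fun i => by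
      rw [← Category.assoc, Scheme.Cover.ι_glueMorphisms cov]; exact Over.w (a i)
    refine ⟨Over.homMk g hg, (rstEquiv ι Y N).injective ?_⟩
    rw [rstEquiv_map, Equiv.apply_symm_apply]
    ext
    refine Scheme.Cover.hom_ext ((sigmaOpenCover B).pullback₁ (rst ι Y).hom) _ _ fun i => ?_
    have ha' := congrArg CommaMorphism.left (ha i)
    let w : pullback (rst ι Y).hom (Sigma.ι B i) ⟶ (rst ι (rst (Sigma.ι B i) Y)).left :=
      pullback.lift (pullback.lift (pullback.fst _ _ ≫ pullback.fst _ _) (pullback.snd _ _)
        (by simpa using pullback.condition (f := (rst ι Y).hom) (g := Sigma.ι B i)))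
        (pullback.fst _ _ ≫ pullback.snd _ _) (by simp [← pullback.condition])
    have := congrArg (w ≫ ·) ha'
    have hw : w ≫ pullback.lift (pullback.fst _ _ ≫ pullback.fst _ _) (pullback.snd _ _)
        (by rw [← pullback.condition]; simp) = pullback.fst (rst ι Y).hom (Sigma.ι B i) := by
      apply pullback.hom_ext <;> simp [w]
    simp only [Over.comp_left, Over.homMk_left] at this ⊢
    rw [reassoc_of% hw] at this
    refine Eq.trans ?_ this
    rw [show (a i).left = pullback.fst Y.hom (Sigma.ι B i) ≫ g from
      (Scheme.Cover.ι_glueMorphisms cov (fun i => (a i).left) hov i).symm]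
    show pullback.fst (rst ι Y).hom (Sigma.ι B i) ≫ pullback.fst Y.hom ι ≫ g = _
    simp [w]

end Groth.Agent.S13207.Aux

namespace Groth.Agent.S13207

/-- Let (S_i)_{i ∈ I} be a family of schemes, (N_i → S_i)_{i ∈ I} morphisms of schemes, S = ∐ S_i and N
= ∐ N_i with the induced morphism N → S, and U ⊆ S a schematically dense open subscheme with
preimages U_i ⊆ S_i. Then N → S is smooth with the Néron mapping property with respect to U — for
every smooth S-scheme Y, restriction to U is a bijection from S-morphisms Y → N onto U-morphisms Y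
×_S U → N ×_S U — if and only if every N_i → S_i is smooth with the Néron mapping property with
respect to U_i. (The published statement is for algebraic spaces N_i tested against smooth algebraic
spaces, and has the same form for separated models; this row is the not-necessarily-separated case
for schemes tested against smooth schemes.) -/
theorem result
    {I : Type u} (B N : I → Scheme.{u}) (f : ∀ i, N i ⟶ B i)
    (U : (∐ B).Opens) (hU : CInt.IsSchematicallyDense U) :
    (Smooth (Limits.Sigma.map f) ∧ ∀ Y : Over (∐ B), Smooth Y.hom →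
        Function.Bijective (fun g : Y ⟶ Over.mk (Limits.Sigma.map f) => (Over.pullback U.ι).map g)) ↔
    ∀ i, Smooth (f i) ∧ ∀ Y : Over (B i), Smooth Y.hom →
        Function.Bijective (fun g : Y ⟶ Over.mk (f i) => (Over.pullback ((Limits.Sigma.ι B i) ⁻¹ᵁ U).ι).map g) := by
  rw [Aux.smooth_sigmaMap_iff]
  have key : ∀ i, ∀ Y : Over (B i),
      Function.Bijective (fun g : Y ⟶ Over.mk (f i) => (Over.pullback ((Limits.Sigma.ι B i) ⁻¹ᵁ U).ι).map g) ↔
      Function.Bijective (fun g : (Over.map (Limits.Sigma.ι B i)).obj Y ⟶ Over.mk (Limits.Sigma.map f) =>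
        (Over.pullback U.ι).map g) := fun i Y =>
    (Aux.bijective_iso _ Y (Aux.pullbackIso B N f i)).symm.trans
      (bijective_baseChange_iff U.ι (Limits.Sigma.ι B i) _ (isPullback_morphismRestrict _ U) Y _)
  constructor
  · rintro ⟨h1, h2⟩ i
    refine ⟨h1 i, fun Y hY => (key i Y).2 (h2 _ ?_)⟩
    exact inferInstanceAs (Smooth (Y.hom ≫ Limits.Sigma.ι B i))
  · intro h
    refine ⟨fun i => (h i).1, fun Y hY => Aux.bijective_of_cover B U.ι Y _ fun i => ?_⟩
    let e : (Over.map (Limits.Sigma.ι B i)).obj ((Over.pullback (Limits.Sigma.ι B i)).obj Y) ≅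
        rst (Limits.Sigma.ι B i) Y := Over.isoMk (Iso.refl _) (by simp [Limits.pullback.condition])
    have := (key i _).1 ((h i).2 ((Over.pullback (Limits.Sigma.ι B i)).obj Y)
      (inferInstanceAs (Smooth (Limits.pullback.snd Y.hom (Limits.Sigma.ι B i)))))
    exact (bijective_map_comp U.ι e.hom (e.homFromEquiv (Z := Over.mk (Limits.Sigma.map f))).symm.bijective).2 this

end Groth.Agent.S13207
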