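import Groth.Statements.S13209
import Groth.Agent.AlgSpBasic.LocP
import Groth.Agent.AlgSpBasic.Topology
import Groth.Agent.AlgSpBasic.Diag
import Groth.Agent.AlgSpBasic.Sep
import Groth.Agent.AlgSp2.InfGlue


set_option autoImplicit false
universe u
open CategoryTheory CategoryTheory.Limits AlgebraicGeometry
open Neron

namespace Groth.Agent.S13209

/-- Let S be a scheme, U ⊆ S a schematically dense open subscheme and N → S a smooth S-scheme with the
Néron mapping property for schemes with respect to U: for every smooth S-scheme Y, composition with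
the projection Y ×_S U → Y is a bijection from S-morphisms Y → N onto S-morphisms Y ×_S U → N
(equivalently, onto U-morphisms Y ×_S U → N ×_S U). Then N also has the Néron mapping property with
respect to smooth algebraic spaces: for every algebraic space F over S (an fppf sheaf of sets on
S-schemes with representable diagonal and an étale surjective chart from a scheme) whose structure
map to h_S is smooth, composition with the first projection F × h_U → F is a bijection from
morphisms of sheaves F → h_N onto morphisms F × h_U → h_N. -/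
theorem result
    {S : Scheme.{u}} (U : S.Opens) (hU : CInt.IsSchematicallyDense U) (N : Over S) [Smooth N.hom]
    (hN : ∀ Y : Over S, Smooth Y.hom →
      Function.Bijective (fun g : Y ⟶ N => (Over.mapPullbackAdj U.ι).counit.app Y ≫ g))
    (F : AlgSp.Sp S) (hF : AlgSp.IsAlgSpace F)
    (sF : F ⟶ (AlgSp.yon S).obj (Over.mk (𝟙 S))) (hsm : AlgSp.LocP @Smooth sF) :
    Function.Bijective (fun φ : F ⟶ (AlgSp.yon S).obj N =>
      (Limits.prod.fst : F ⨯ (AlgSp.yon S).obj (Over.mk U.ι) ⟶ F) ≫ φ) := by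
  let Uo : Over S := Over.mk U.ι
  -- the mapping property in terms of products
  have hN' : ∀ Y : Over S, Smooth Y.hom →
      Function.Bijective (fun g : Y ⟶ N => (prod.fst : Y ⨯ Uo ⟶ Y) ≫ g) := fun Y hY => by
    let sq := Groth.AlgSpBasic.isPullback_prod_left Y Uo
    let e : Y ⨯ Uo ≅ (Over.map U.ι).obj ((Over.pullback U.ι).obj Y) := Over.isoMk sq.isoPullback (by
      show sq.isoPullback.hom ≫ pullback.snd Y.hom U.ι ≫ U.ι = (Y ⨯ Uo).hom
      rw [← Category.assoc]
      exact (congrArg (· ≫ U.ι) sq.isoPullback_hom_snd).trans (Over.w (prod.snd : Y ⨯ Uo ⟶ Uo)))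
    have he : e.hom ≫ (Over.mapPullbackAdj U.ι).counit.app Y = prod.fst := by
      ext1
      exact sq.isoPullback_hom_fst
    refine ⟨fun g₁ g₂ h => (hN Y hY).1 ((cancel_epi e.hom).1 (by
      simpa only [← Category.assoc, he] using h)), fun γ => ?_⟩
    obtain ⟨g, hg⟩ := (hN Y hY).2 (e.inv ≫ γ)
    refine ⟨g, ?_⟩
    show prod.fst ≫ g = γ
    rw [← he, Category.assoc]
    exact (congrArg (e.hom ≫ ·) hg).trans (e.hom_inv_id_assoc γ)
  obtain ⟨Y, p, hpE, hpS⟩ := hF.atlas
  have hY : Smooth Y.hom := by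
    have := hsm p (𝟙 ((AlgSp.yon S).obj (Over.mk (𝟙 S)))) (Over.homMk Y.hom) hpE (AlgSp.repWith_id _ _) (by
      obtain ⟨k, hk⟩ := (AlgSp.yon S).map_surjective (p ≫ sF)
      rw [Category.comp_id, ← hk]
      congr 1
      ext1
      simpa using Over.w k)
    exact this
  have : Sheaf.IsLocallySurjective p := Groth.AlgSpBasic.isLocallySurjective_of_etale p hpE hpS
  have : Epi p := (Sheaf.isLocallySurjective_iff_epi _).1 inferInstance
  constructor
  · intro φ₁ φ₂ h
    obtain ⟨g₁, hg₁⟩ := (AlgSp.yon S).map_surjective (p ≫ φ₁)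
    obtain ⟨g₂, hg₂⟩ := (AlgSp.yon S).map_surjective (p ≫ φ₂)
    rw [← cancel_epi p, ← hg₁, ← hg₂]
    congr 1
    apply (hN' Y hY).1
    apply (AlgSp.yon S).map_injective
    simp only [Functor.map_comp, hg₁, hg₂, ← prodComparison_fst (AlgSp.yon S)]
    have := prodComparison (AlgSp.yon S) Y Uo ≫= prod.map p (𝟙 ((AlgSp.yon S).obj Uo)) ≫= h
    rw [Category.assoc, Category.assoc, ← prod.map_fst_assoc p (𝟙 ((AlgSp.yon S).obj Uo)), ← prod.map_fst_assoc p (𝟙 ((AlgSp.yon S).obj Uo))]
    exact this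
  · intro γ
    obtain ⟨γ₀, hγ₀⟩ := (AlgSp.yon S).map_surjective
      (prodComparison (AlgSp.yon S) Y Uo ≫ prod.map p (𝟙 _) ≫ γ)
    obtain ⟨g, hg⟩ := (hN' Y hY).2 γ₀
    have hg' : (AlgSp.yon S).map (prod.fst : Y ⨯ Uo ⟶ Y) ≫ (AlgSp.yon S).map g = _ :=
      ((AlgSp.yon S).map_comp _ _).symm.trans ((congrArg (AlgSp.yon S).map hg).trans hγ₀)
    obtain ⟨R, w₁, w₂, hR⟩ := Groth.AlgSpBasic.exists_pullback_of_diag hF.diag p p
    have hR' : Smooth R.hom := by
      have : Etale w₁.left := (AlgSp.repWith_yon_map_iff _ w₁).1 (Groth.AlgSpBasic.repWith_of_isPullback hR.flip hpE)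
      rw [← Over.w w₁]
      infer_instance
    have hw : w₁ ≫ g = w₂ ≫ g := by
      apply (hN' R hR').1
      apply (AlgSp.yon S).map_injective
      have key : ∀ w : R ⟶ Y, (AlgSp.yon S).map ((prod.fst : R ⨯ Uo ⟶ R) ≫ w ≫ g) =
          prodComparison (AlgSp.yon S) R Uo ≫ prod.map ((AlgSp.yon S).map w ≫ p) (𝟙 _) ≫ γ := fun w => by
        have e : (prod.fst : R ⨯ Uo ⟶ R) ≫ w ≫ g = prod.map w (𝟙 Uo) ≫ prod.fst ≫ g := by simp
        rw [e, Functor.map_comp, Functor.map_comp, hg', ← Category.assoc, prodComparison_natural,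
          Category.assoc, CategoryTheory.Functor.map_id, ← Category.assoc (prod.map _ _) (prod.map _ _),
          prod.map_map, Category.comp_id]
      show (AlgSp.yon S).map ((prod.fst : R ⨯ Uo ⟶ R) ≫ w₁ ≫ g) = (AlgSp.yon S).map ((prod.fst : R ⨯ Uo ⟶ R) ≫ w₂ ≫ g)
      rw [key, key, hR.w]
    obtain ⟨φ, hφ⟩ := Groth.AlgSp2.exists_desc_of_etale p hpE hpS ((AlgSp.yon S).map g) (fun Z a b hab => by
      obtain ⟨r, hr⟩ := (AlgSp.yon S).map_surjective (hR.lift a b hab)
      have ha : (AlgSp.yon S).map r ≫ (AlgSp.yon S).map w₁ = a := by rw [hr, hR.lift_fst]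
      have hb : (AlgSp.yon S).map r ≫ (AlgSp.yon S).map w₂ = b := by rw [hr, hR.lift_snd]
      rw [← ha, ← hb, Category.assoc, Category.assoc,
        ← Functor.map_comp _ w₁, ← Functor.map_comp _ w₂, hw])
    refine ⟨φ, ?_⟩
    have : Sheaf.IsLocallySurjective (prod.map p (𝟙 ((AlgSp.yon S).obj Uo))) :=
      Groth.AlgSpBasic.isLocallySurjective_of_etale _
        (Groth.AlgSpBasic.repWith_of_isPullback (IsPullback.of_prod_fst_with_id p _) hpE)
        (Groth.AlgSpBasic.repWith_of_isPullback (IsPullback.of_prod_fst_with_id p _) hpS)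
    have : Epi (prod.map p (𝟙 ((AlgSp.yon S).obj Uo))) := (Sheaf.isLocallySurjective_iff_epi _).1 inferInstance
    rw [← cancel_epi (prod.map p (𝟙 ((AlgSp.yon S).obj Uo))), ← cancel_epi (prodComparison (AlgSp.yon S) Y Uo)]
    show _ ≫ _ ≫ prod.fst ≫ φ = _
    rw [prod.map_fst_assoc, hφ, prodComparison_fst_assoc, hg']

end Groth.Agent.S13209
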