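import Groth.Statements.S13210
import Groth.Agent.AlgSpBasic.AlgSpace

set_option autoImplicit false
universe u
open CategoryTheory CategoryTheory.Limits AlgebraicGeometry
open AlgGrp

namespace Groth.Agent.S13210

open Groth.AlgSpBasic in
/-- The common fixed locus of finitely many endomorphisms of a separated space is a closed subspace. -/
theorem exists_fixed {S : Scheme.{u}} (F : AlgSp.Sp S) (hsep : AlgSp.IsSeparatedSp F) {I : Type*}
    (s : Finset I) (φ : I → (F ⟶ F)) :
    ∃ (E : AlgSp.Sp S) (j : E ⟶ F), AlgSp.RepWith @IsClosedImmersion j ∧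
      (∀ g ∈ s, j ≫ φ g = j) ∧
      ∀ (W : AlgSp.Sp S) (x : W ⟶ F), (∀ g ∈ s, x ≫ φ g = x) → ∃! z : W ⟶ E, z ≫ j = x := by
  classical
  induction s using Finset.induction with
  | empty =>
    refine ⟨F, 𝟙 F, repWith_isIso _, by simp, fun W x _ => ⟨x, Category.comp_id x, fun z hz => ?_⟩⟩
    simpa using hz
  | insert g s _ ih =>
    obtain ⟨E, j, hj, hfix, huniv⟩ := ih
    let γ : E ⟶ F ⨯ F := prod.lift (j ≫ φ g) j
    have sq := IsPullback.of_hasPullback γ (Limits.diag F)
    have h1 : pullback.fst γ (Limits.diag F) ≫ j ≫ φ g = pullback.snd γ (Limits.diag F) := by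
      have := congrArg (· ≫ Limits.prod.fst) sq.w
      simp only [γ, Category.assoc] at this
      erw [Limits.prod.lift_fst, Limits.prod.lift_fst, Category.comp_id] at this
      exact this
    have h2 : pullback.fst γ (Limits.diag F) ≫ j = pullback.snd γ (Limits.diag F) := by
      have := congrArg (· ≫ Limits.prod.snd) sq.w
      simp only [γ, Category.assoc] at this
      erw [Limits.prod.lift_snd, Limits.prod.lift_snd, Category.comp_id] at this
      exact this
    refine ⟨pullback γ (Limits.diag F), pullback.fst γ (Limits.diag F) ≫ j,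
      repWith_comp (repWith_of_isPullback sq.flip hsep) hj, fun g' hg' => ?_, fun W x hx => ?_⟩
    · rcases Finset.mem_insert.1 hg' with rfl | hg'
      · rw [Category.assoc, h1, h2]
      · rw [Category.assoc, hfix g' hg']
    · obtain ⟨z, hz, hzu⟩ := huniv W x fun g' hg' => hx g' (Finset.mem_insert_of_mem hg')
      have hxg := hx g (Finset.mem_insert_self g s)
      have hw : z ≫ γ = x ≫ Limits.diag F := by
        apply Limits.prod.hom_ext <;> simp [γ, hz, reassoc_of% hz, hxg]
      refine ⟨pullback.lift z x hw, ?_, fun y hy => ?_⟩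
      · exact (pullback.lift_fst_assoc _ _ _ _).trans hz
      · have e1 : y ≫ pullback.fst γ (Limits.diag F) = z := hzu _ (by simpa using hy)
        refine pullback.hom_ext (e1.trans (pullback.lift_fst _ _ _).symm) ?_
        rw [pullback.lift_snd, ← h2, ← Category.assoc, e1, hz]


/-- Let S be a scheme, F an algebraic space over S which is separated over S, and G a finite group
acting on F by S-automorphisms. If i : Z → F exhibits the fppf sheaf Z as the sub-sheaf of G-fixed
points of F (i is G-invariant and every G-invariant morphism W → F factors uniquely through i), then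
Z is an algebraic space and i is a closed immersion (representable by closed immersions). (The
published statement also treats a locally separated F, whose fixed points form a subspace, and
compatibility with base change; this row states only the separated case.) -/
theorem result
    {S : Scheme.{u}} (F : AlgSp.Sp S) (hF : AlgSp.IsAlgSpace F) (hsep : AlgSp.IsSeparatedSp F)
    (G : Type u) [Group G] [Finite G] (ρ : G →* Aut F)
    (Z : AlgSp.Sp S) (i : Z ⟶ F) (hi : ∀ g : G, i ≫ (ρ g).hom = i)
    (huniv : ∀ (W : AlgSp.Sp S) (x : W ⟶ F), (∀ g : G, x ≫ (ρ g).hom = x) → ∃! z : W ⟶ Z, z ≫ i = x) :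
    AlgSp.IsAlgSpace Z ∧ AlgSp.RepWith @IsClosedImmersion i := by
  have := Fintype.ofFinite G
  obtain ⟨E, j, hj, hfix, hu⟩ := exists_fixed F hsep Finset.univ (fun g : G => (ρ g).hom)
  obtain ⟨a, ha, -⟩ := hu Z i fun g _ => hi g
  obtain ⟨b, hb, -⟩ := huniv E j fun g => hfix g (Finset.mem_univ g)
  have hab : a ≫ b = 𝟙 Z :=
    (huniv Z i hi).unique (by rw [Category.assoc, hb, ha]) (Category.id_comp i)
  have hba : b ≫ a = 𝟙 E :=
    (hu E j hfix).unique (by rw [Category.assoc, ha, hb]) (Category.id_comp j)
  have : IsIso a := ⟨b, hab, hba⟩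
  have hiR : AlgSp.RepWith @IsClosedImmersion i := by
    rw [← ha]
    exact Groth.AlgSpBasic.repWith_comp (Groth.AlgSpBasic.repWith_isIso a) hj
  exact ⟨Groth.AlgSpBasic.isAlgSpace_of_representable hF i hiR.rep, hiR⟩

end Groth.Agent.S13210
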