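import Groth.Statements.S13336
import Groth.Agent.AdicLinTop.FormalReal

set_option autoImplicit false
open CategoryTheory CategoryTheory.Limits
universe u
open FCompl CategoryTheory CategoryTheory.Limits AlgebraicGeometry

namespace Groth.Agent.S13336

open AlgebraicGeometry in
/-- On a locally Noetherian formal scheme presented as an adic system of locally Noetherian thickenings
with common underlying space, let (F_k) be a system of coherent modules on the levels with
compatible transition isomorphisms and 𝔉 the limit of their direct images. For every k the morphism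
u_k^* 𝔉 → F_k adjoint to the projection 𝔉 → (u_k)_* F_k is an isomorphism, so that the system of
inverse images of 𝔉 to the levels is isomorphic to the given system. -/
theorem result (𝔛 : FSch.Sys.{u}) (h𝔛 : 𝔛.IsLocNoethFormal) (𝔐 : FSch.ModSys 𝔛)
    (h𝔐 : 𝔐.IsCoh) (k : ℕ) :
    IsIso (((FSch.levelMor 𝔛 h𝔛.1 k).adj.homEquiv _ _).symm (FSch.realProj 𝔛 h𝔛.1 𝔐.F 𝔐.toPush k)) := by
  open Groth.AdicLinTop.FormalReal in
  obtain ⟨d, hd, -⟩ := existsUnique_factor h𝔛 h𝔐 k ((FSch.levelMor 𝔛 h𝔛.1 k).pull.obj _)
    ((FSch.levelMor 𝔛 h𝔛.1 k).adj.unit.app (𝔐.realMod h𝔛.1))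
  refine ⟨d, ?_, ?_⟩
  · refine ((FSch.levelMor 𝔛 h𝔛.1 k).adj.homEquiv _ _).injective ?_
    rw [Adjunction.homEquiv_naturality_right, Equiv.apply_symm_apply,
      Adjunction.homEquiv_unit, CategoryTheory.Functor.map_id]
    exact hd.trans (Category.comp_id _).symm
  · refine (Groth.AdicLinTop.FormalReal.existsUnique_factor h𝔛 h𝔐 k _
      (Groth.AdicLinTop.FormalReal.proj h𝔛.1 𝔐 k)).unique ?_ ?_
    · refine (congrArg (_ ≫ ·) (Functor.map_comp _ _ _)).trans ((Category.assoc _ _ _).symm.trans ?_)
      refine (congrArg (· ≫ _) hd).trans ?_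
      exact ((FSch.levelMor 𝔛 h𝔛.1 k).adj.homEquiv_unit _ _ _).symm.trans
        (Equiv.apply_symm_apply _ _)
    · exact (congrArg (_ ≫ ·) (CategoryTheory.Functor.map_id _ _)).trans (Category.comp_id _)

end Groth.Agent.S13336
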