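import Groth.Statements.S13337
import Groth.Agent.AdicLinTop.FormalReal

set_option autoImplicit false
open CategoryTheory CategoryTheory.Limits
universe u
open FCompl CategoryTheory CategoryTheory.Limits AlgebraicGeometry

namespace Groth.Agent.S13337

open AlgebraicGeometry in
/-- On a locally Noetherian formal scheme presented as an adic system of locally Noetherian thickenings
with common underlying space, for two systems of coherent modules on the levels with compatible
transition isomorphisms, the map sending a morphism of systems to the induced morphism between the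
attached O_𝔛-modules (limits of direct images) is bijective: Hom_{O_𝔛}(𝔉, 𝔊) is the limit of the
Hom_{O_{X_n}}(F_n, G_n). -/
theorem result (𝔛 : FSch.Sys.{u}) (h𝔛 : 𝔛.IsLocNoethFormal) (𝔐 𝔑 : FSch.ModSys 𝔛)
    (h𝔐 : 𝔐.IsCoh) (h𝔑 : 𝔑.IsCoh) :
    Function.Bijective (fun φ : 𝔐 ⟶ 𝔑 => FSch.ModSys.realModMap h𝔛.1 φ) := by
  have hproj : ∀ (φ : 𝔐 ⟶ 𝔑) (k : ℕ),
      FSch.ModSys.realModMap h𝔛.1 φ ≫ Groth.AdicLinTop.FormalReal.proj h𝔛.1 𝔑 k =
        Groth.AdicLinTop.FormalReal.proj h𝔛.1 𝔐 k ≫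
          (Groth.AdicLinTop.FormalReal.push h𝔛.1 k).map (φ.app k) := fun φ k =>
    FSch.realLimMap_realProj 𝔛 h𝔛.1 φ.app (FSch.ModSys.Hom.toPush_comm φ) k
  refine ⟨fun φ φ' e => FSch.ModSys.Hom.ext (funext fun k => ?_), fun ψ => ?_⟩
  · refine (Groth.AdicLinTop.FormalReal.existsUnique_factor h𝔛 h𝔐 k _
      (FSch.ModSys.realModMap h𝔛.1 φ ≫ Groth.AdicLinTop.FormalReal.proj h𝔛.1 𝔑 k)).unique
      (hproj φ k).symm ?_
    rw [show FSch.ModSys.realModMap h𝔛.1 φ = FSch.ModSys.realModMap h𝔛.1 φ' from e]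
    exact (hproj φ' k).symm
  · choose f hf hfu using fun k => Groth.AdicLinTop.FormalReal.existsUnique_factor h𝔛 h𝔐 k (𝔑.F k)
      (ψ ≫ Groth.AdicLinTop.FormalReal.proj h𝔛.1 𝔑 k)
    have hcomm : ∀ k, 𝔐.toPush k ≫ (Scheme.Modules.pushforward (𝔛.ι k)).map (f k) =
        f (k + 1) ≫ 𝔑.toPush k := by
      intro k
      refine Groth.AdicLinTop.FormalReal.push_map_injective (h := h𝔛.1) ?_
      have := Groth.AdicLinTop.FormalReal.epi_proj h𝔛 h𝔐 (k + 1)
      have : Mono ((FSch.pushCompare 𝔛 h𝔛.1 k).app (𝔑.F k)) :=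
        (SplitMono.mk ((FSch.pushCompareInv 𝔛 h𝔛.1 k).app (𝔑.F k))
          (FSch.pushCompare_pushCompareInv 𝔛 h𝔛.1 k _)).mono
      rw [← cancel_epi (Groth.AdicLinTop.FormalReal.proj h𝔛.1 𝔐 (k + 1)),
        ← cancel_mono ((FSch.pushCompare 𝔛 h𝔛.1 k).app (𝔑.F k))]
      have nat := (FSch.pushCompare 𝔛 h𝔛.1 k).naturality (f k)
      calc (Groth.AdicLinTop.FormalReal.proj h𝔛.1 𝔐 (k + 1) ≫
            (Groth.AdicLinTop.FormalReal.push h𝔛.1 (k + 1)).map
              (𝔐.toPush k ≫ (Scheme.Modules.pushforward (𝔛.ι k)).map (f k))) ≫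
            (FSch.pushCompare 𝔛 h𝔛.1 k).app (𝔑.F k)
          = (Groth.AdicLinTop.FormalReal.proj h𝔛.1 𝔐 (k + 1) ≫
              Groth.AdicLinTop.FormalReal.trans h𝔛.1 𝔐 k) ≫
              (Groth.AdicLinTop.FormalReal.push h𝔛.1 k).map (f k) := by
            unfold Groth.AdicLinTop.FormalReal.trans
            rw [Functor.map_comp, Category.assoc, Category.assoc, Category.assoc, Category.assoc]
            exact congrArg (_ ≫ ·) (congrArg (_ ≫ ·) nat)
        _ = ψ ≫ Groth.AdicLinTop.FormalReal.proj h𝔛.1 𝔑 k := by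
            rw [Groth.AdicLinTop.FormalReal.proj_trans]; exact hf k
        _ = ψ ≫ Groth.AdicLinTop.FormalReal.proj h𝔛.1 𝔑 (k + 1) ≫
              Groth.AdicLinTop.FormalReal.trans h𝔛.1 𝔑 k := by
            rw [Groth.AdicLinTop.FormalReal.proj_trans]
        _ = _ := by
            rw [← Category.assoc, ← hf (k + 1)]
            unfold Groth.AdicLinTop.FormalReal.trans
            rw [Functor.map_comp]
            simp only [Category.assoc]
    let φ : 𝔐 ⟶ 𝔑 := ⟨f, fun k => by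
      refine ((Scheme.Modules.pullbackPushforwardAdjunction (𝔛.ι k)).homEquiv _ _).injective ?_
      rw [Adjunction.homEquiv_naturality_left, Adjunction.homEquiv_naturality_right]
      exact (hcomm k).symm⟩
    refine ⟨φ, limit.hom_ext fun j => ?_⟩
    exact (hproj φ j.unop).trans (hf j.unop)

end Groth.Agent.S13337
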