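import Groth.Statements.S13342
import Groth.Agent.AdicLinTop.Thickenings

set_option autoImplicit false
open CategoryTheory CategoryTheory.Limits
universe u
open FCompl

namespace Groth.Agent.S13342

open AlgebraicGeometry in
/-- The formal prescheme induced on an open subset of a formal prescheme (resp. of a locally Noetherian
formal prescheme, resp. of a Noetherian formal prescheme) is a formal prescheme (resp. a locally
Noetherian formal prescheme, resp. a Noetherian formal prescheme). In the presentation by systems of
thickenings with common underlying space: for an open U, the induced system (the open subschemes of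
the levels over U with the restricted transition maps) is again a system of thickenings; it is adic
with locally Noetherian levels when the given system is; and if moreover the common underlying space
is quasi-compact (a Noetherian formal prescheme), so is that of the induced system. -/
theorem result (𝔛 : FSch.Sys.{u}) (h : 𝔛.IsFormal) (U : (𝔛.X 0).Opens) :
    (𝔛.restrictOpen h U).IsFormal ∧ (𝔛.IsLocNoethFormal → (𝔛.restrictOpen h U).IsLocNoethFormal) ∧
      (𝔛.IsLocNoethFormal → CompactSpace (𝔛.X 0) → CompactSpace ((𝔛.restrictOpen h U).X 0)) := by
  have key : ∀ (X Y : Scheme.{u}) (g : X ⟶ Y) (W : Y.Opens) (V : X.Opens) (e : g ⁻¹ᵁ W = V),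
      CategoryTheory.IsPullback (g.resLE W V e.ge) V.ι W.ι g := by
    intro X Y g W V e
    subst e
    rw [Scheme.Hom.resLE_eq_morphismRestrict]
    exact isPullback_morphismRestrict g W
  have hs : FSch.IsAdicHom (𝔛.restrictOpenι h U) := fun n => key _ _ _ _ _ (𝔛.lvU_succ h n U)
  refine ⟨Groth.AdicLinTop.Thickenings.isFormal_of_isAdicHom hs h, fun hN => ?_, fun hN hc => ?_⟩
  · haveI := hN.2.2 0
    haveI : IsLocallyNoetherian ((𝔛.restrictOpen h U).X 0) :=
      (isLocallyNoetherian_of_isOpenImmersion (𝔛.lvU h 0 U).ι : IsLocallyNoetherian (𝔛.lvU h 0 U).toScheme)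
    exact Groth.AdicLinTop.Thickenings.isLocNoethFormal_of_isAdicHom hs hN
  · haveI := hN.2.2 0
    haveI := hc
    haveI : IsNoetherian (𝔛.X 0) := {}
    exact isCompact_iff_compactSpace.mp (TopologicalSpace.NoetherianSpace.isCompact (𝔛.lvU h 0 U : Set (𝔛.X 0)))

end Groth.Agent.S13342
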