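import Groth.Statements.S13341


set_option autoImplicit false
open CategoryTheory
universe u
open FCompl CategoryTheory CategoryTheory.Limits AlgebraicGeometry

namespace Groth.Agent.S13341

open AlgebraicGeometry in
/-- Formal schemes are presented as locally Noetherian adic systems of thickenings and the fibre product
is taken levelwise (it presents the fibre product of formal schemes since one factor is adic over
the base). Let 𝔖 be a locally Noetherian formal system, 𝔛 and 𝔜 locally Noetherian formal systems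
over 𝔖 such that 𝔛 or 𝔜 is of finite type over 𝔖, and 𝔜 separated over 𝔖 at level 0. Then for every
𝔖-morphism f : 𝔛 → 𝔜 the graph morphism 𝔛 → 𝔛 ×_𝔖 𝔜 is a closed immersion: adic, with level 0 a
closed immersion. -/
theorem result {𝔛 𝔜 𝔖 : FSch.Sys.{u}} (h𝔖 : 𝔖.IsLocNoethFormal) (h𝔛 : 𝔛.IsLocNoethFormal)
    (h𝔜 : 𝔜.IsLocNoethFormal) (p : 𝔛 ⟶ 𝔖) (q : 𝔜 ⟶ 𝔖) (hpq : FSch.IsFiniteTypeHom p ∨ FSch.IsFiniteTypeHom q)
    (hq : IsSeparated ((q : FSch.Hom 𝔜 𝔖).app 0)) (f : 𝔛 ⟶ 𝔜) (w : f ≫ q = p) :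
    FSch.IsClosedImmHom (FSch.graph f p q w) := by
  refine ⟨fun n => ?_, ?_⟩
  · have : IsClosedImmersion (𝔜.ι n) := (h𝔜.1 n).1
    have : IsClosedImmersion (𝔛.ι n) := (h𝔛.1 n).1
    let P := FSch.pullbackSys p q
    let a : ∀ m, P.X m ⟶ 𝔛.X m := fun m => (FSch.pullbackFst p q : FSch.Hom _ _).app m
    let b : ∀ m, P.X m ⟶ 𝔜.X m := fun m => (FSch.pullbackSnd p q : FSch.Hom _ _).app m
    let g : ∀ m, 𝔛.X m ⟶ P.X m := fun m => (FSch.graph f p q w : FSch.Hom _ _).app m
    have hfst : ∀ m, g m ≫ a m = 𝟙 _ := fun m => pullback.lift_fst _ _ _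
    have hsnd : ∀ m, g m ≫ b m = (f : FSch.Hom 𝔛 𝔜).app m := fun m => pullback.lift_snd _ _ _
    have ha : a n ≫ 𝔛.ι n = P.ι n ≫ a (n + 1) := (FSch.pullbackFst p q : FSch.Hom _ _).comm n
    have hb : b n ≫ 𝔜.ι n = P.ι n ≫ b (n + 1) := (FSch.pullbackSnd p q : FSch.Hom _ _).comm n
    refine IsPullback.of_isLimit' (show CommSq (𝔛.ι n) (g n) (g (n + 1)) (P.ι n) from
      ⟨((FSch.graph f p q w : FSch.Hom _ _).comm n).symm⟩)
      (PullbackCone.IsLimit.mk _ (fun s => s.snd ≫ a n) (fun s => ?_) (fun s => ?_)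
        (fun s m h₁ h₂ => ?_))
    · rw [Category.assoc, ha, ← Category.assoc, ← s.condition, Category.assoc, hfst, Category.comp_id]
    · have h2 : (s.snd ≫ a n) ≫ 𝔛.ι n = s.fst := by
        rw [Category.assoc, ha, ← Category.assoc, ← s.condition, Category.assoc, hfst, Category.comp_id]
      have h3 : (s.snd ≫ a n) ≫ (f : FSch.Hom 𝔛 𝔜).app n = s.snd ≫ b n := by
        rw [← cancel_mono (𝔜.ι n), Category.assoc, (f : FSch.Hom 𝔛 𝔜).comm n,
          ← Category.assoc, h2, Category.assoc, hb, ← Category.assoc, ← s.condition, Category.assoc,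
          hsnd]
      apply pullback.hom_ext
      · exact (Category.assoc _ _ _).trans ((congrArg _ (hfst n)).trans (Category.comp_id _))
      · exact (Category.assoc _ _ _).trans ((congrArg _ (hsnd n)).trans h3)
    · rw [← h₂, Category.assoc, hfst, Category.comp_id]
  · have := hq
    have : IsSeparated (pullback.fst ((p : FSch.Hom 𝔛 𝔖).app 0) ((q : FSch.Hom 𝔜 𝔖).app 0)) :=
      MorphismProperty.pullback_fst (P := @IsSeparated) _ _ hq
    have hc : IsClosedImmersion ((FSch.graph f p q w : FSch.Hom _ _).app 0 ≫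
        pullback.fst ((p : FSch.Hom 𝔛 𝔖).app 0) ((q : FSch.Hom 𝔜 𝔖).app 0)) := by
      rw [show (FSch.graph f p q w : FSch.Hom _ _).app 0 ≫ pullback.fst _ _ = 𝟙 _ from
        pullback.lift_fst _ _ _]
      infer_instance
    exact @IsClosedImmersion.of_comp _ _ _ _
      (pullback.fst ((p : FSch.Hom 𝔛 𝔖).app 0) ((q : FSch.Hom 𝔜 𝔖).app 0)) hc this

end Groth.Agent.S13341
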