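import Groth.Statements.S13347
import Groth.Agent.FlatMor2.AffineThickening
import Groth.Agent.AdicLinTop.InverseLimit

set_option autoImplicit false
open CategoryTheory CategoryTheory.Limits
universe u
open Opposite
open FCompl CategoryTheory CategoryTheory.Limits AlgebraicGeometry TopologicalSpace Opposite

namespace Groth.Agent.S13347

open AlgebraicGeometry in
/-- Let (X_i) be an inductive system of preschemes on one underlying space with surjective transition
homomorphisms whose kernels O_{X_i} → O_{X_0} are locally nilpotent — here a system of thickenings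
(closed immersions surjective on points) with the kernel ideal of X_0 → X_i nilpotent on every
affine open of X_i — and O_𝔛 = lim O_{X_i} the structure sheaf of the formal prescheme it defines.
Then the canonical homomorphisms O_𝔛 → O_{X_i} are surjective: over every affine open U of X_0 the
map on sections Γ(U, O_𝔛) → Γ(U_i, O_{X_i}) is onto. -/
theorem result (𝔛 : FSch.Sys.{u}) (h : 𝔛.IsFormal)
    (hb : ∀ (i : ℕ) (V : (𝔛.X i).affineOpens), IsNilpotent ((𝔛.toX i).ker.ideal V))
    (i : ℕ) (U : (𝔛.X 0).Opens) (hU : IsAffineOpen U) :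
    Function.Surjective ((𝔛.OshProj h i).hom.app (op U)) := by
  have haff : ∀ n, IsAffineOpen (𝔛.lvU h n U) := by
    intro n
    have hpre : 𝔛.toX n ⁻¹ᵁ 𝔛.lvU h n U = U := by
      change (Opens.map ((𝔛.toX n).base ≫ 𝔛.gInv h n)).obj U = U
      rw [𝔛.toX_base_gInv]
      rfl
    have : IsAffine ↑(𝔛.toX n ⁻¹ᵁ 𝔛.lvU h n U) := by rw [hpre]; exact hU
    have : IsClosedImmersion (𝔛.toX n) := 𝔛.toX_isClosedImmersion h n
    have : IsClosedImmersion (𝔛.toX n ∣_ 𝔛.lvU h n U) := IsZariskiLocalAtTarget.restrict ‹_› _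
    have : AlgebraicGeometry.Surjective (𝔛.toX n) := ⟨𝔛.toX_surjective h n⟩
    have : AlgebraicGeometry.Surjective (𝔛.toX n ∣_ 𝔛.lvU h n U) :=
      IsZariskiLocalAtTarget.restrict ‹_› _
    exact Groth.FlatMor2.isAffine_of_surjective_closedImmersion
      (𝔛.toX n ∣_ 𝔛.lvU h n U)
  have hs : ∀ n, Function.Surjective ((𝔛.levelMap h n).hom.app (op U)) := by
    intro n x
    have := (h n).1
    rw [FSch.Sys.levelMap_app, Scheme.Hom.appLE]
    have : IsIso ((𝔛.X n).presheaf.map (homOfLE (𝔛.lvU_le h n U)).op) := by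
      have hle : IsIso (homOfLE (𝔛.lvU_le h n U)) :=
        ⟨homOfLE (𝔛.lvU_succ h n U).le, Subsingleton.elim _ _, Subsingleton.elim _ _⟩
      infer_instance
    obtain ⟨y, hy⟩ := (ConcreteCategory.bijective_of_isIso
      ((𝔛.X n).presheaf.map (homOfLE (𝔛.lvU_le h n U)).op)).2 x
    obtain ⟨z, hz⟩ := (𝔛.ι n).app_surjective _ (haff (n + 1)) y
    exact ⟨z, (congrArg _ hz).trans hy⟩
  intro x
  obtain ⟨y, hy, hyi⟩ := Groth.AdicLinTop.InvLim.exists_compat i
    (fun n => (𝔛.levelObj h n).obj.obj (op U))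
    (fun n => (𝔛.levelMap h n).hom.app (op U)) hs x
  let G : Sheaf (Opens.grothendieckTopology (𝔛.X 0)) CommRingCat.{u} ⥤ Type u :=
    sheafToPresheaf _ _ ⋙ (evaluation _ _).obj (op U) ⋙ forget CommRingCat
  let F := 𝔛.levelRing h ⋙ G
  let σ : ∀ j, F.obj j := fun j => y j.unop
  have hlim : IsLimit (G.mapCone (limit.cone (𝔛.levelRing h))) :=
    isLimitOfPreserves G (limit.isLimit _)
  let τ : (Functor.const ℕᵒᵖ).obj PUnit.{u + 1} ⟶ F :=
    NatTrans.ofOpSequence (fun n => ↾(fun _ => σ (op n))) fun n => by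
      ext a
      show σ (op n) = F.map (homOfLE (Nat.le_add_right n 1)).op (σ (op (n + 1)))
      simp only [F, Functor.comp_map, FSch.Sys.levelRing_map_succ]
      exact (hy n).symm
  have hσ : σ ∈ F.sections := fun {a b} f => by
    exact (ConcreteCategory.congr_hom (τ.naturality f) PUnit.unit).symm
  refine ⟨(Types.isLimitEquivSections hlim).symm ⟨σ, hσ⟩, ?_⟩
  exact (Types.isLimitEquivSections_symm_apply hlim ⟨σ, hσ⟩ (op i)).trans hyi

end Groth.Agent.S13347
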