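import Groth.Statements.S13350
import Groth.Agent.AdicLinTop.TopFinHom
import Groth.Agent.AdicLinTop.SectionsExact

set_option autoImplicit false
universe u
open FCompl

namespace Groth.Agent.S13350

open AlgebraicGeometry in
open CategoryTheory in
/-- Let R be a base ring of class (N) or (V) for the ideal I, A an R-algebra topologically of finite
presentation (hence a coherent ring), and u : M' → M, v : M → M'' homomorphisms of finitely
presented A-modules. Present Spf A as the completion of Spec A along IA, with structure sheaf the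
limit of the structure sheaves of the closed subschemes V((IA)^(n+1)), and let M^Δ be the limit of
the direct images of the modules associated to M/(IA)^(n+1)M. If u^Δ and v^Δ compose to zero and 0 →
M'^Δ → M^Δ → M''^Δ → 0 is a short exact sequence of O_Spf A-modules, then u and v compose to zero
and 0 → M' → M → M'' → 0 is short exact. -/
theorem result
    (R : Type u) [CommRing R] (I : Ideal R) (hR : AdicRing.IsBase R I)
    (A : Type u) [CommRing A] [Algebra R A] (hA : AdicRing.TopFinitePresentation R I A)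
    (h : (FSch.completionAlong (Spec (CommRingCat.of A)) (FSch.idealSpec A (I.map (algebraMap R A)))).IsFormal)
    (M₁ M₂ M₃ : ModuleCat.{u} A) [Module.FinitePresentation A M₁] [Module.FinitePresentation A M₂]
    [Module.FinitePresentation A M₃] (u : M₁ ⟶ M₂) (v : M₂ ⟶ M₃)
    (hΔ : ∃ w : FSch.ModSys.realModMap h (FSch.complModMap (FSch.idealSpec A (I.map (algebraMap R A))) ((tilde.functor (CommRingCat.of A)).map u)) ≫
        FSch.ModSys.realModMap h (FSch.complModMap (FSch.idealSpec A (I.map (algebraMap R A))) ((tilde.functor (CommRingCat.of A)).map v)) = 0,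
      (ShortComplex.mk _ _ w).ShortExact) :
    ∃ w : u ≫ v = 0, (ShortComplex.mk u v w).ShortExact := by
  obtain ⟨w, hw⟩ := hΔ
  have hA' : AdicRing.TopFiniteType R I A := by
    obtain ⟨n, φ, hφ, -⟩ := hA
    exact ⟨n, φ, hφ⟩
  have z : ∀ (M : ModuleCat.{u} A), Groth.AdicLinTop.TopFinHom.canTop h M 0 = 0 := fun M =>
    (AddMonoidHom.mk' _ (Groth.AdicLinTop.TopFinHom.canTop_add h M)).map_zero
  have hb : ∀ (M : ModuleCat.{u} A) [Module.Finite A M], Function.Bijective (Groth.AdicLinTop.TopFinHom.canTop h M) :=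
    fun M _ => Groth.AdicLinTop.TopFinHom.canTop_bijective h hR hA' M
  have huv : u ≫ v = 0 := ModuleCat.hom_ext (LinearMap.ext fun m => (hb M₃).1 (by
    show Groth.AdicLinTop.TopFinHom.canTop h M₃ (v.hom (u.hom m)) = Groth.AdicLinTop.TopFinHom.canTop h M₃ 0
    rw [← Groth.AdicLinTop.TopFinHom.app_canTop h v, ← Groth.AdicLinTop.TopFinHom.app_canTop h u,
      ← Groth.AdicLinTop.FormalReal.app_comp, z]
    exact (congrArg (fun φ => Groth.AdicLinTop.FormalReal.app φ _ (Groth.AdicLinTop.TopFinHom.canTop h M₁ m)) w).trans rfl))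
  refine ⟨huv, ?_⟩
  haveI := hw.mono_f
  haveI : Mono (Groth.AdicLinTop.TopFinHom.triangleMap h u) := hw.mono_f
  haveI : Epi (Groth.AdicLinTop.TopFinHom.triangleMap h v) := hw.epi_g
  haveI : Mono u := (ModuleCat.mono_iff_injective u).2 fun a b e =>
    (hb M₁).1 (Groth.AdicLinTop.SectionsExact.injective_app
      (Groth.AdicLinTop.TopFinHom.triangleMap h u) _
      (by rw [Groth.AdicLinTop.TopFinHom.app_canTop, Groth.AdicLinTop.TopFinHom.app_canTop]; exact congrArg _ e))
  haveI : Epi v := by
    refine (ModuleCat.epi_iff_range_eq_top v).2 ?_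
    let π : M₃ ⟶ ModuleCat.of A (M₃ ⧸ LinearMap.range v.hom) := ModuleCat.ofHom (LinearMap.range v.hom).mkQ
    have h0 : Groth.AdicLinTop.TopFinHom.triangleMap h π = 0 := by
      rw [← cancel_epi (Groth.AdicLinTop.TopFinHom.triangleMap h v), Limits.comp_zero]
      refine Groth.AdicLinTop.ComplReal.realModMap_comp_eq_zero _ _ ?_
      have e : v ≫ π = 0 :=
        ModuleCat.hom_ext (LinearMap.ext fun m => (Submodule.Quotient.mk_eq_zero _).2 ⟨m, rfl⟩)
      haveI : (tilde.functor (CommRingCat.of A)).IsLeftAdjoint := (tilde.adjunction (R := CommRingCat.of A)).isLeftAdjoint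
      exact ((tilde.functor (CommRingCat.of A)).map_comp v π).symm.trans
        ((congrArg (tilde.functor (CommRingCat.of A)).map e).trans (Functor.map_zero _ _ _))
    refine eq_top_iff.2 fun m _ => (Submodule.Quotient.mk_eq_zero _).1 ?_
    apply (hb (ModuleCat.of A (M₃ ⧸ LinearMap.range v.hom))).1
    rw [z]
    exact (Groth.AdicLinTop.TopFinHom.app_canTop h π m).symm.trans
      (congrArg (fun φ => Groth.AdicLinTop.FormalReal.app φ _ (Groth.AdicLinTop.TopFinHom.canTop h M₃ m)) h0)
  refine ShortComplex.ShortExact.mk ((ShortComplex.moduleCat_exact_iff _).2 fun m hm => ?_)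
  obtain ⟨x, hx⟩ := Groth.AdicLinTop.SectionsExact.exists_app_eq hw.exact _
    (y := Groth.AdicLinTop.TopFinHom.canTop h M₂ m) ((Groth.AdicLinTop.TopFinHom.app_canTop h v m).trans
      ((congrArg _ hm).trans (z M₃)))
  obtain ⟨m₁, rfl⟩ := (hb M₁).2 x
  exact ⟨m₁, (hb M₂).1 ((Groth.AdicLinTop.TopFinHom.app_canTop h u m₁).symm.trans hx)⟩

end Groth.Agent.S13350
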