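import Groth.Statements.S13351
import Groth.Agent.AdicLinTop.TopFinCoh

set_option autoImplicit false
universe u
open FCompl

namespace Groth.Agent.S13351

open AlgebraicGeometry in
open CategoryTheory in
/-- Let R be a base ring of class (N) or (V) for the ideal I and A an R-algebra topologically of finite
presentation. Present Spf A as the completion of Spec A along IA, with structure sheaf the limit of
the structure sheaves of the closed subschemes V((IA)^(n+1)). Then every O_Spf A-module of finite
presentation (for such formal schemes this is the same as coherent) is isomorphic to M^Δ, the limit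
of the direct images of the modules associated to M/(IA)^(n+1)M, for some finitely presented (that
is, coherent) A-module M. -/
theorem result
    (R : Type u) [CommRing R] (I : Ideal R) (hR : AdicRing.IsBase R I)
    (A : Type u) [CommRing A] [Algebra R A] (hA : AdicRing.TopFinitePresentation R I A)
    (h : (FSch.completionAlong (Spec (CommRingCat.of A)) (FSch.idealSpec A (I.map (algebraMap R A)))).IsFormal)
    (F : FSch.ModF (FSch.completionAlong (Spec (CommRingCat.of A)) (FSch.idealSpec A (I.map (algebraMap R A)))) h)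
    (hF : FSch.IsCohF (FSch.completionAlong (Spec (CommRingCat.of A)) (FSch.idealSpec A (I.map (algebraMap R A)))) h F) :
    ∃ M : ModuleCat.{u} A, Module.FinitePresentation A M ∧
      Nonempty (F ≅ (FSch.complMod (FSch.idealSpec A (I.map (algebraMap R A))) (tilde M)).realMod h) := by
  have hA' : AdicRing.TopFiniteType R I A := by
    obtain ⟨n, φ, hφ, -⟩ := hA
    exact ⟨n, φ, hφ⟩
  let X := Spec (CommRingCat.of A)
  let J := I.map (algebraMap R A)
  let i := fun n => FSch.completionToX X (FSch.idealSpec A J) n
  have hc : ∀ n, (FSch.completionAlong X (FSch.idealSpec A J)).ι n ≫ i (n + 1) = i n := fun n =>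
    Scheme.IdealSheafData.inclusion_subschemeι (FSch.pow_succ_le X (FSch.idealSpec A J) n)
  have : ∀ n, IsClosedImmersion (i n) := fun n => inferInstance
  have hK : ∀ n, (i n).ker = FSch.idealSpec A (J ^ (n + 1)) := fun n =>
    (Scheme.IdealSheafData.ker_subschemeι _).trans
      (Groth.AdicLinTop.Thickenings.idealSpec_pow J (n + 1)).symm
  have hJ : J.FG := (Groth.AdicLinTop.TopFinCompl.fg_ideal hR).map _
  haveI : IsAdicComplete J A := Groth.AdicLinTop.TopFinCompl.isAdicComplete hR hA' A
  obtain ⟨M, hM, ⟨Φ⟩⟩ := Groth.AdicLinTop.TildeSys.exists_iso_sysMod i hc J hK hJ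
    (Groth.AdicLinTop.FormalCoh.sys h F) (Groth.AdicLinTop.TopFinLevels.isCoh_sys hF)
  haveI := Groth.AdicLinTop.TopFinCoh.isIso_comparison (G := tilde (R := CommRingCat.of A) M) Φ hR hA' hF
  refine ⟨M, Groth.AdicLinTop.TopFinCoh.finitePresentation_of_quotients hR hA' M fun k => ?_,
    ⟨asIso (Groth.AdicLinTop.TopFinCoh.comparison (G := tilde (R := CommRingCat.of A) M) Φ)⟩⟩
  obtain ⟨hs, hker⟩ := Groth.AdicLinTop.TildeSys.proj_spec (i k) (hK k) M
  haveI hfp : Module.FinitePresentation A
      ((Groth.AdicLinTop.TildeSys.pushΓ (i k)).obj ((Scheme.Modules.pullback (i k)).obj (tilde (R := CommRingCat.of A) M))) := by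
    have hU := (isAffineOpen_top X).preimage (i k)
    haveI := Groth.AdicLinTop.TopFinLevels.finitePresentation_pullk_affine hF k hU
    have hb := Groth.AdicLinTop.TopFinCoh.bijective_app (G := tilde (R := CommRingCat.of A) M) Φ k (i k ⁻¹ᵁ ⊤)
    let e : Γ(Groth.AdicLinTop.FormalPull.pullk h F k, i k ⁻¹ᵁ ⊤) ≃ₗ[Γ((FSch.completionAlong X (FSch.idealSpec A J)).X k, i k ⁻¹ᵁ ⊤)]
        Γ((Scheme.Modules.pullback (i k)).obj (tilde (R := CommRingCat.of A) M), i k ⁻¹ᵁ ⊤) :=
      LinearEquiv.ofBijective
        { toFun := fun x => (Φ.hom.app k).app (i k ⁻¹ᵁ ⊤) x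
          map_add' := fun x y => map_add _ x y
          map_smul' := fun r x => (Φ.hom.app k).app_smul r x } hb
    exact Groth.AdicLinTop.TopFinCoh.finitePresentation_pushΓ (i k) (hK k) (Ideal.FG.pow hJ) _
      (Module.FinitePresentation.of_equiv e)
  exact Module.FinitePresentation.of_equiv
    ((Submodule.quotEquivOfEq _ _ hker.symm).trans ((Groth.AdicLinTop.TildeSys.proj (i k) M).hom.quotKerEquivOfSurjective hs)).symm

end Groth.Agent.S13351
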