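import Groth.Statements.S13356
import Groth.Agent.GrpschAbsch.Char

set_option autoImplicit false
universe u
open GaDual

namespace Groth.Agent.S13356

/-- Over a commutative algebra A over the rationals, the polynomials f with f(0) = 1 and f(X+Y) =
f(X)f(Y) (the characters of the additive group into the multiplicative group over A) are exactly the
polynomials exp(aX) with a in A nilpotent. -/
theorem result (A : Type u) [CommRing A] [Algebra ℚ A] (f : Polynomial A) :
    (f.eval 0 = 1 ∧
      Polynomial.aeval (MvPolynomial.X 0 + MvPolynomial.X 1 : MvPolynomial (Fin 2) A) f =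
        Polynomial.aeval (MvPolynomial.X 0 : MvPolynomial (Fin 2) A) f *
          Polynomial.aeval (MvPolynomial.X 1 : MvPolynomial (Fin 2) A) f) ↔
      ∃ a : A, IsNilpotent a ∧ (f : PowerSeries A) = PowerSeries.rescale a (PowerSeries.exp A) := by
  open Groth.GrpschAbsch.Char in
  constructor
  · rintro ⟨h0, h⟩
    rw [← Polynomial.coeff_zero_eq_eval_zero] at h0
    have h' := (isMul_iff f).mp h
    have key := factorial_mul_eq_pow (c := f.coeff) h0 fun j ↦ h' 1 j
    refine ⟨f.coeff 1, ⟨f.natDegree + 1, ?_⟩, eq_rescale_exp_of_factorial_mul fun n ↦ ?_⟩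
    · rw [← key, Polynomial.coeff_eq_zero_of_natDegree_lt (Nat.lt_succ_self _), mul_zero]
    · simpa using key n
  · rintro ⟨a, _, hf⟩
    have key : ∀ n, (n.factorial : A) * f.coeff n = a ^ n := fun n ↦ by
      rw [← factorial_mul_coeff_rescale_exp a n, ← hf, Polynomial.coeff_coe]
    refine ⟨?_, (isMul_iff f).mpr fun i j ↦ charCond_of_factorial_mul_eq_pow key i j⟩
    rw [← Polynomial.coeff_zero_eq_eval_zero]
    simpa using key 0

end Groth.Agent.S13356
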