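import Groth.Statements.S13357
import Groth.Agent.GrpschAbsch.Char

set_option autoImplicit false
universe u
open GaDual

namespace Groth.Agent.S13357

/-- Over a commutative algebra A of prime characteristic p, the polynomials f with f(0) = 1 and f(X+Y) =
f(X)f(Y) (the characters of the additive group into the multiplicative group over A) are exactly the
finite products of truncated exponentials exp_p(a_n X^(p^n)) = Σ_{j<p} a_n^j X^(j p^n)/j! with a_n^p
= 0. -/
theorem result (p : ℕ) [Fact p.Prime] (A : Type u) [CommRing A] [CharP A p]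
    (f : Polynomial A) :
    (f.eval 0 = 1 ∧
      Polynomial.aeval (MvPolynomial.X 0 + MvPolynomial.X 1 : MvPolynomial (Fin 2) A) f =
        Polynomial.aeval (MvPolynomial.X 0 : MvPolynomial (Fin 2) A) f *
          Polynomial.aeval (MvPolynomial.X 1 : MvPolynomial (Fin 2) A) f) ↔
      ∃ (N : ℕ) (a : ℕ → A), (∀ n, a n ^ p = 0) ∧
        f = ∏ n ∈ Finset.range N, ∑ j ∈ Finset.range p,
          Polynomial.C (Ring.inverse (j.factorial : A) * a n ^ j) * Polynomial.X ^ (j * p ^ n) := by
  open Groth.GrpschAbsch.Char in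
  constructor
  · rintro ⟨h0, h⟩
    rw [← Polynomial.coeff_zero_eq_eval_zero] at h0
    have h' := (isMul_iff f).mp h
    have hN : f.natDegree < p ^ f.natDegree := Nat.lt_pow_self (Fact.out : p.Prime).one_lt
    refine ⟨f.natDegree, fun k ↦ f.coeff (p ^ k), fun k ↦ (eq_prod_of_charCond p h0 (k + 1)
      (fun i j _ _ ↦ h' i j)).1 k (Nat.lt_succ_self _), ?_⟩
    refine Polynomial.ext fun n ↦ ?_
    by_cases hn : n < p ^ f.natDegree
    · exact (eq_prod_of_charCond p h0 _ (fun i j _ _ ↦ h' i j)).2 n hn
    · exact (Polynomial.coeff_eq_zero_of_natDegree_lt (by omega)).trans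
        (coeff_prod_expTerm_eq_zero p (fun k ↦ f.coeff (p ^ k)) _ n (by omega)).symm
  · rintro ⟨N, a, ha, rfl⟩
    refine ⟨?_, IsMul.prod _ _ fun k _ ↦ isMul_expTerm p (ha k) k⟩
    rw [← Polynomial.coeff_zero_eq_eval_zero]
    exact coeff_zero_prod_expTerm p a N

end Groth.Agent.S13357
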