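import Groth.Statements.S13359
import Mathlib.RingTheory.Localization.AtPrime.Basic
import Mathlib.RingTheory.IntegralClosure.IntegrallyClosed
import Mathlib.RingTheory.Polynomial.IntegralNormalization
import Mathlib.Tactic

set_option autoImplicit false
universe u
open UltraProd

namespace Groth.Agent.S13359

open Classical in
/-- indicator idempotent -/
noncomputable def ind {ι : Type*} (R : ι → Type*) [∀ i, CommRing (R i)] (p : ι → Prop) : ∀ i, R i :=
  fun i => if p i then 1 else 0

theorem ind_not_mem {ι : Type*} {R : ι → Type*} [∀ i, CommRing (R i)] (P : Ideal (∀ i, R i)) [P.IsPrime]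
    {p : ι → Prop} (h : ind R p ∈ P) : ind R (fun i => ¬ p i) ∉ P := by
  intro h'
  have : (1 : ∀ i, R i) = ind R p + ind R (fun i => ¬ p i) := by
    funext i; by_cases hp : p i <;> simp [ind, hp]
  exact P.ne_top_iff_one.1 (Ideal.IsPrime.ne_top ‹_›) (this ▸ P.add_mem h h')

theorem mk_eq_zero {ι : Type*} {R : ι → Type*} [∀ i, CommRing (R i)] {P : Ideal (∀ i, R i)} [P.IsPrime]
    {a : ∀ i, R i} {e : ∀ i, R i} (he : e ∉ P) (h : e * a = 0) :
    algebraMap _ (Localization.AtPrime P) a = 0 :=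
  (IsLocalization.map_eq_zero_iff P.primeCompl _ a).2 ⟨⟨e, he⟩, h⟩

theorem isDomain_loc {ι : Type*} {R : ι → Type*} [∀ i, CommRing (R i)] [∀ i, IsDomain (R i)]
    (P : Ideal (∀ i, R i)) [P.IsPrime] : IsDomain (Localization.AtPrime P) := by
  have : NoZeroDivisors (Localization.AtPrime P) := ⟨fun {x y} h => by
    obtain ⟨a, s, rfl⟩ := IsLocalization.exists_mk'_eq P.primeCompl x
    obtain ⟨b, t, rfl⟩ := IsLocalization.exists_mk'_eq P.primeCompl y
    rw [← IsLocalization.mk'_mul, IsLocalization.mk'_eq_zero_iff] at h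
    obtain ⟨⟨u, hu⟩, h⟩ := h
    rw [IsLocalization.mk'_eq_zero_iff, IsLocalization.mk'_eq_zero_iff]
    by_cases he : ind R (fun i => a i = 0) ∈ P
    · refine Or.inr ⟨⟨_, (Ideal.primeCompl P).mul_mem hu (ind_not_mem P he)⟩, ?_⟩
      funext i
      have := congrFun h i
      by_cases ha : a i = 0 <;> simp_all [ind]
    · refine Or.inl ⟨⟨_, he⟩, ?_⟩
      funext i; by_cases ha : a i = 0 <;> simp [ind, ha]⟩
  exact NoZeroDivisors.to_isDomain _

theorem scale_term {F : Type*} [Field F] (c x y : F) (hy : y ≠ 0) {j n : ℕ} (h : j ≤ n) :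
    c * (x / y) ^ j * y ^ n = c * x ^ j * y ^ (n - j) := by
  rw [div_pow, pow_sub₀ _ hy h]; ring

/-- If (R_i) is a nonempty family of integrally closed domains, then the localization of the product
ring ∏ R_i at any prime ideal is an integrally closed domain. -/
theorem result {ι : Type u} [Nonempty ι] (R : ι → Type u)
    [∀ i, CommRing (R i)] [∀ i, IsDomain (R i)] [∀ i, IsIntegrallyClosed (R i)]
    (P : Ideal (∀ i, R i)) [P.IsPrime] :
    IsDomain (Localization.AtPrime P) ∧ IsIntegrallyClosed (Localization.AtPrime P) := by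
  classical
  have := isDomain_loc P
  refine ⟨this, (isIntegrallyClosed_iff (FractionRing (Localization.AtPrime P))).2 fun {x} hx => ?_⟩
  obtain ⟨⟨m, hm⟩, hint⟩ := IsIntegral.exists_multiple_integral_of_isLocalization (P.primeCompl)
    (Rₘ := Localization.AtPrime P) x hx
  let K := FractionRing (Localization.AtPrime P)
  let g : (∀ i, R i) →+* K := (algebraMap (Localization.AtPrime P) K).comp (algebraMap _ _)
  have hg : ∀ z : ∀ i, R i, g z = 0 ↔ ∃ w ∉ P, w * z = 0 := by
    intro z
    simp only [g, RingHom.comp_apply, map_eq_zero_iff _ (IsFractionRing.injective (Localization.AtPrime P) K)]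
    rw [IsLocalization.map_eq_zero_iff P.primeCompl]
    exact ⟨fun ⟨w, h⟩ => ⟨w.1, w.2, h⟩, fun ⟨w, hw, h⟩ => ⟨⟨w, hw⟩, h⟩⟩
  have hgu : ∀ z ∉ P, g z ≠ 0 := fun z hz h => by
    obtain ⟨w, hw, h⟩ := (hg z).1 h
    exact ((Ideal.IsPrime.mem_or_mem ‹_› (h ▸ P.zero_mem)).elim hw hz)
  obtain ⟨a, b, hb, hy⟩ : ∃ a b : ∀ i, R i, g b ≠ 0 ∧ g a / g b = g m * x := by
    obtain ⟨A, B, hB, e⟩ := IsFractionRing.div_surjective (Localization.AtPrime P) (g m * x)
    obtain ⟨⟨a, s⟩, ha⟩ := IsLocalization.surj P.primeCompl A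
    obtain ⟨⟨b, t⟩, hb'⟩ := IsLocalization.surj P.primeCompl B
    have hB' : algebraMap _ K B ≠ 0 := IsFractionRing.to_map_ne_zero_of_mem_nonZeroDivisors hB
    have ha' : algebraMap _ K A * g s = g a := by simp only [g, RingHom.comp_apply, ← map_mul]; exact congrArg _ ha
    have hb'' : algebraMap _ K B * g t = g b := by simp only [g, RingHom.comp_apply, ← map_mul]; exact congrArg _ hb'
    refine ⟨a * t, b * s, ?_, ?_⟩
    · rw [map_mul, ← hb'']; exact mul_ne_zero (mul_ne_zero hB' (hgu _ t.2)) (hgu _ s.2)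
    · rw [map_mul, map_mul, ← ha', ← hb'', ← e]
      rw [mul_right_comm (algebraMap _ K A), mul_div_mul_right _ _ (hgu _ s.2), mul_div_mul_right _ _ (hgu _ t.2)]
  obtain ⟨p, hp, hev⟩ := hint
  have hev' : p.eval₂ g (g a / g b) = 0 := by
    rw [hy]; simpa [g, ← IsScalarTower.algebraMap_eq, Algebra.smul_def, ← IsScalarTower.algebraMap_apply] using hev
  set n := p.natDegree
  let z : ∀ i, R i := ∑ j ∈ Finset.range (n + 1), p.coeff j * a ^ j * b ^ (n - j)
  have hz : g z = 0 := by
    rw [← zero_mul (g b ^ n), ← hev', Polynomial.eval₂_eq_sum_range, Finset.sum_mul, map_sum]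
    refine Finset.sum_congr rfl fun j hj => ?_
    rw [map_mul, map_mul, map_pow, map_pow, scale_term _ _ _ hb (by simp at hj; omega)]
  obtain ⟨w, hw, hwz⟩ := (hg z).1 hz
  let eb : ∀ i, R i := ind R (fun i => b i ≠ 0 ∧ w i ≠ 0)
  have heb : eb ∉ P := by
    intro h
    have h' := ind_not_mem P h
    apply hb
    refine (hg b).2 ⟨_, P.primeCompl.mul_mem hw h', ?_⟩
    funext i
    by_cases h1 : b i = 0 <;> by_cases h2 : w i = 0 <;> simp [ind, h1, h2]
  have hr : ∀ i, b i ≠ 0 → w i ≠ 0 → ∃ r : R i, a i = b i * r := by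
    intro i hbi hwi
    let F := FractionRing (R i)
    have hb0 : algebraMap (R i) F (b i) ≠ 0 := by simpa using hbi
    have hz0 : z i = 0 := (mul_eq_zero.1 (congrFun hwz i)).resolve_left hwi
    have : IsIntegral (R i) (algebraMap (R i) F (a i) / algebraMap (R i) F (b i)) := by
      refine ⟨p.map (Pi.evalRingHom R i), hp.map _, ?_⟩
      rw [Polynomial.eval₂_map, Polynomial.eval₂_eq_sum_range]
      have h0 := congrArg (algebraMap (R i) F) hz0
      simp only [z, Finset.sum_apply, Pi.mul_apply, Pi.pow_apply, map_sum, map_mul, map_pow, map_zero] at h0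
      refine mul_right_cancel₀ (pow_ne_zero n hb0) ?_
      rw [zero_mul, Finset.sum_mul]
      refine Eq.trans (Finset.sum_congr rfl fun j hj => ?_) h0
      simp only [RingHom.comp_apply, Pi.evalRingHom_apply]
      exact scale_term _ _ _ hb0 (by simp at hj; omega)
    obtain ⟨r, hr⟩ := IsIntegrallyClosed.isIntegral_iff.1 this
    refine ⟨r, IsFractionRing.injective (R i) F ?_⟩
    rw [map_mul, hr, mul_div_cancel₀ _ hb0]
  let r : ∀ i, R i := fun i => if h : b i ≠ 0 ∧ w i ≠ 0 then (hr i h.1 h.2).choose else 0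
  have har : g (a - b * r) = 0 := by
    refine (hg _).2 ⟨eb, heb, ?_⟩
    funext i
    by_cases h : b i ≠ 0 ∧ w i ≠ 0
    · simp [eb, ind, r, h, ← (hr i h.1 h.2).choose_spec]
    · simp [eb, ind, h]
  rw [map_sub, map_mul, sub_eq_zero] at har
  refine ⟨IsLocalization.mk' (Localization.AtPrime P) r (⟨m, hm⟩ : P.primeCompl), ?_⟩
  apply mul_left_cancel₀ (hgu m hm)
  rw [← hy, har, mul_div_cancel_left₀ _ hb]
  simp only [g, RingHom.comp_apply]
  refine (map_mul (algebraMap (Localization.AtPrime P) K) _ _).symm.trans (congrArg _ ?_)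
  exact IsLocalization.mk'_spec' (Localization.AtPrime P) r ⟨m, hm⟩

end Groth.Agent.S13359
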