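import Groth.Statements.S13360
import Mathlib.RingTheory.Localization.AtPrime.Basic
import Mathlib.RingTheory.Valuation.ValuationRing
import Mathlib.Tactic

set_option autoImplicit false
universe u
open UltraProd

namespace Groth.Agent.S13360

open Classical in
/-- indicator idempotent -/
noncomputable def ind {ι : Type*} (R : ι → Type*) [∀ i, CommRing (R i)] (p : ι → Prop) : ∀ i, R i :=
  fun i => if p i then 1 else 0

theorem ind_not_mem {ι : Type*} {R : ι → Type*} [∀ i, CommRing (R i)] (P : Ideal (∀ i, R i)) [P.IsPrime]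
    {p : ι → Prop} (h : ind R p ∈ P) : ind R (fun i => ¬ p i) ∉ P := by
  intro h'
  have : (1 : ∀ i, R i) = ind R p + ind R (fun i => ¬ p i) := by
    funext i; by_cases hp : p i <;> simp [ind, hp]
  exact P.ne_top_iff_one.1 (Ideal.IsPrime.ne_top ‹_›) (this ▸ P.add_mem h h')

theorem mk_eq_zero {ι : Type*} {R : ι → Type*} [∀ i, CommRing (R i)] {P : Ideal (∀ i, R i)} [P.IsPrime]
    {a : ∀ i, R i} {e : ∀ i, R i} (he : e ∉ P) (h : e * a = 0) :
    algebraMap _ (Localization.AtPrime P) a = 0 :=
  (IsLocalization.map_eq_zero_iff P.primeCompl _ a).2 ⟨⟨e, he⟩, h⟩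

theorem isDomain_loc {ι : Type*} {R : ι → Type*} [∀ i, CommRing (R i)] [∀ i, IsDomain (R i)]
    (P : Ideal (∀ i, R i)) [P.IsPrime] : IsDomain (Localization.AtPrime P) := by
  have : NoZeroDivisors (Localization.AtPrime P) := ⟨fun {x y} h => by
    obtain ⟨a, s, rfl⟩ := IsLocalization.exists_mk'_eq P.primeCompl x
    obtain ⟨b, t, rfl⟩ := IsLocalization.exists_mk'_eq P.primeCompl y
    rw [← IsLocalization.mk'_mul, IsLocalization.mk'_eq_zero_iff] at h
    obtain ⟨⟨u, hu⟩, h⟩ := h
    rw [IsLocalization.mk'_eq_zero_iff, IsLocalization.mk'_eq_zero_iff]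
    by_cases he : ind R (fun i => a i = 0) ∈ P
    · refine Or.inr ⟨⟨_, (Ideal.primeCompl P).mul_mem hu (ind_not_mem P he)⟩, ?_⟩
      funext i
      have := congrFun h i
      by_cases ha : a i = 0 <;> simp_all [ind]
    · refine Or.inl ⟨⟨_, he⟩, ?_⟩
      funext i; by_cases ha : a i = 0 <;> simp [ind, ha]⟩
  exact NoZeroDivisors.to_isDomain _

/-- If (R_i) is a nonempty family of valuation rings, then the localization of the product ring ∏ R_i at
any prime ideal is a valuation ring: a domain in which, of any two elements, one divides the other. -/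
theorem result {ι : Type u} [Nonempty ι] (R : ι → Type u)
    [∀ i, CommRing (R i)] [∀ i, IsDomain (R i)] [∀ i, ValuationRing (R i)]
    (P : Ideal (∀ i, R i)) [P.IsPrime] :
    IsDomain (Localization.AtPrime P) ∧ PreValuationRing (Localization.AtPrime P) := by
  classical
  refine ⟨isDomain_loc P, ⟨fun x y => ?_⟩⟩
  obtain ⟨a, s, rfl⟩ := IsLocalization.exists_mk'_eq P.primeCompl x
  obtain ⟨b, t, rfl⟩ := IsLocalization.exists_mk'_eq P.primeCompl y
  have key : ∀ a b : ∀ i, R i, ind R (fun i => a i ∣ b i) ∉ P → ∀ s t : P.primeCompl,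
      ∃ c, IsLocalization.mk' (Localization.AtPrime P) a s * c = IsLocalization.mk' _ b t := by
    intro a b he s t
    let c : ∀ i, R i := fun i => if h : a i ∣ b i then h.choose else 0
    refine ⟨IsLocalization.mk' _ (s.1 * c) t, ?_⟩
    rw [← IsLocalization.mk'_mul, IsLocalization.mk'_eq_iff_eq, IsLocalization.eq_iff_exists P.primeCompl]
    refine ⟨⟨_, he⟩, ?_⟩
    funext i
    by_cases h : a i ∣ b i
    · simp [ind, c, h]
      linear_combination ((s : ∀ i, R i) i * (t : ∀ i, R i) i) * h.choose_spec.symm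
    · simp [ind, h]
  by_cases he : ind R (fun i => a i ∣ b i) ∈ P
  · have eq1 : ind R (fun i => ¬ a i ∣ b i) = ind R (fun i => ¬ a i ∣ b i) * ind R (fun i => b i ∣ a i) := by
      funext i
      by_cases h1 : a i ∣ b i
      · simp [ind, h1]
      · simp [ind, h1, (ValuationRing.dvd_total (a i) (b i)).resolve_left h1]
    have hne : ind R (fun i => b i ∣ a i) ∉ P := fun h => ind_not_mem P he (eq1 ▸ P.mul_mem_left _ h)
    obtain ⟨c, hc⟩ := key b a hne t s
    exact ⟨c, Or.inr hc⟩
  · obtain ⟨c, hc⟩ := key a b he s t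
    exact ⟨c, Or.inl hc⟩

end Groth.Agent.S13360
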