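import Groth.Statements.S13361
import Groth.Agent.AdicLinTop.ProCompl

set_option autoImplicit false
universe u
open ProCompl

namespace Groth.Agent.S13361

/-- A finite abelian group with a nonzero element contained in every nonzero subgroup is isomorphic to a
cyclic group of prime-power order Z/p^n. -/
theorem result {A : Type u} [AddCommGroup A] [Finite A]
    (a : A) (ha : a ≠ 0) (h : ∀ B : AddSubgroup A, B ≠ ⊥ → a ∈ B) :
    ∃ p n : ℕ, p.Prime ∧ Nonempty (A ≃+ ZMod (p ^ n)) := by
  classical
  obtain ⟨ι, _, p, hp, n, ⟨e⟩⟩ := AddCommGroup.equiv_directSum_zmod_of_finite A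
  obtain ⟨i, hi⟩ : ∃ i, (e a) i ≠ 0 := by
    by_contra hc
    push Not at hc
    exact ha (e.injective (by rw [map_zero]; exact DFinsupp.ext hc))
  have hj : ∀ j, j ≠ i → n j = 0 := by
    intro j hji
    by_contra hnj
    haveI : Fact (1 < p j ^ n j) := ⟨one_lt_pow₀ (hp j).one_lt hnj⟩
    let f : ZMod (p j ^ n j) →+ A := e.symm.toAddMonoidHom.comp (DirectSum.of (fun i => ZMod (p i ^ n i)) j)
    have hf : f.range ≠ ⊥ := fun hb => by
      have h1 : f 1 ∈ f.range := ⟨1, rfl⟩
      rw [hb, AddSubgroup.mem_bot] at h1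
      have h2 : DirectSum.of (fun i => ZMod (p i ^ n i)) j 1 = 0 := by
        have := congrArg e h1
        simpa [f] using this
      exact one_ne_zero (DirectSum.of_injective j (h2.trans (map_zero _).symm))
    obtain ⟨y, hy⟩ := h _ hf
    apply hi
    rw [← hy]
    simp [f, DirectSum.of_eq_of_ne _ _ _ hji.symm]
  refine ⟨p i, n i, hp i, ⟨AddEquiv.ofBijective ((DFinsupp.evalAddMonoidHom i).comp e.toAddMonoidHom) ⟨?_, ?_⟩⟩⟩
  · refine (injective_iff_map_eq_zero _).mpr fun x hx => e.injective ?_
    rw [map_zero]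
    refine DFinsupp.ext fun j => ?_
    by_cases hji : j = i
    · subst hji; exact hx
    · haveI : Subsingleton (ZMod (p j ^ n j)) := by rw [hj j hji, pow_zero]; infer_instance
      exact Subsingleton.elim _ _
  · intro y
    refine ⟨e.symm (DirectSum.of (fun i => ZMod (p i ^ n i)) i y), ?_⟩
    show (e (e.symm _)) i = y
    rw [e.apply_symm_apply, DirectSum.of_eq_same]

end Groth.Agent.S13361
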