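import Groth.Statements.S13363
import Groth.Agent.AdicLinTop.ProCompl

set_option autoImplicit false
universe u
open ProCompl

namespace Groth.Agent.S13363

/-- Let A be a topological abelian group such that the subgroup n·A is open for each n > 0, and a ∈ A.
Then A has an open subgroup of finite index not containing a if and only if a does not lie in the
subgroup of divisible elements ∩_n nA. -/
theorem result {A : Type u} [AddCommGroup A]
    [TopologicalSpace A] [IsTopologicalAddGroup A]
    (hn : ∀ n : ℕ, 0 < n → IsOpen (Set.range (fun x : A => n • x))) (a : A) :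
    (∃ B : AddSubgroup A, IsOpen (B : Set A) ∧ B.FiniteIndex ∧ a ∉ B) ↔
      ¬ (∀ n : ℕ, 0 < n → ∃ b : A, n • b = a) := by
  constructor
  · rintro ⟨B, -, hB, haB⟩ hdiv
    obtain ⟨b, rfl⟩ := hdiv B.index (Nat.pos_of_ne_zero hB.index_ne_zero)
    exact haB (B.nsmul_index_mem b)
  · intro h
    push Not at h
    obtain ⟨n, hn0, hn'⟩ := h
    let H₀ : AddSubgroup A := (nsmulAddMonoidHom n : A →+ A).range
    have ha : a ∉ H₀ := fun ⟨b, hb⟩ => hn' b hb
    obtain ⟨B, hB, hfi, haB⟩ := Groth.AdicLinTop.ProCompl.exists_finiteIndex_not_mem_of_exponent H₀ ha hn0.ne'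
      fun x => ⟨x, rfl⟩
    refine ⟨B, AddSubgroup.isOpen_mono hB ?_, hfi, haB⟩
    exact hn n hn0

end Groth.Agent.S13363
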