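import Groth.Statements.S13365
import Groth.Agent.AdicLinTop.ProCompl

set_option autoImplicit false
universe u
open ProCompl

namespace Groth.Agent.S13365

/-- The quotient of a profinite (compact, Hausdorff, totally disconnected) abelian topological group by
a compact subgroup is profinite. -/
theorem result {A : Type u} [AddCommGroup A] [TopologicalSpace A]
    [IsTopologicalAddGroup A] [CompactSpace A] [T2Space A] [TotallyDisconnectedSpace A]
    (B : AddSubgroup A) (hB : IsCompact (B : Set A)) :
    CompactSpace (A ⧸ B) ∧ T2Space (A ⧸ B) ∧ TotallyDisconnectedSpace (A ⧸ B) := by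
  haveI : IsClosed (B : Set A) := hB.isClosed
  refine ⟨inferInstance, inferInstance, ?_⟩
  haveI : T2Space (A ⧸ B) := inferInstance
  suffices h : TotallySeparatedSpace (A ⧸ B) from TotallySeparatedSpace.totallyDisconnectedSpace _
  refine ⟨fun q _ r _ hqr => ?_⟩
  obtain ⟨x, rfl⟩ := QuotientAddGroup.mk_surjective q
  obtain ⟨y, rfl⟩ := QuotientAddGroup.mk_surjective r
  have hs : (fun z => (-x + y) + z) ⁻¹' (B : Set A)ᶜ ∈ nhds (0 : A) := by
    refine ((hB.isClosed.isOpen_compl).preimage (continuous_const_add _)).mem_nhds ?_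
    simpa using fun h => hqr ((QuotientAddGroup.eq).mpr h)
  obtain ⟨U, hU⟩ := Groth.AdicLinTop.ProCompl.exists_openSubgroup_subset hs
  let V : Set (A ⧸ B) := (fun q : A ⧸ B => -(x : A ⧸ B) + q) ⁻¹' (QuotientAddGroup.mk '' (U : Set A))
  have hVo : IsOpen V := (QuotientAddGroup.isOpenMap_coe _ U.isOpen).preimage (continuous_const_add _)
  have hVc : IsClosed V :=
    (((OpenAddSubgroup.isClosed U).isCompact.image
      (continuous_quotient_mk' : Continuous (QuotientAddGroup.mk : A → A ⧸ B))).isClosed).preimage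
      (continuous_const_add (-(x : A ⧸ B)))
  refine ⟨V, Vᶜ, hVo, hVc.isOpen_compl, ?_, ?_, by simp, disjoint_compl_right⟩
  · exact ⟨0, U.zero_mem, (neg_add_cancel (x : A ⧸ B)).symm⟩
  · intro hyV
    obtain ⟨u, hu, hu'⟩ := hyV
    replace hu' : (u : A ⧸ B) = ((-x + y : A) : A ⧸ B) := hu'
    rw [QuotientAddGroup.eq] at hu'
    refine hU (neg_mem hu) ?_
    show (-x + y) + -u ∈ B
    rw [add_comm]
    exact hu' 

end Groth.Agent.S13365
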