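import Groth.Statements.S13366
import Mathlib
import Groth.Agent.Calg3.FrobFixed

set_option autoImplicit false
universe u v
open FrobMod

namespace Groth.Agent.S13366

/-- Over a strictly Henselian local ring R of prime characteristic p (Henselian, separably closed
residue field), let M be a free module of finite rank n and T an additive Frobenius-semilinear
self-map of M (T(rm) = r^p T(m)) whose values generate M as an R-module; for a basis (e_i) this says
that the matrix of coefficients of the elements T(e_i) is invertible. Then the map T − 1 is
surjective and its kernel has cardinality p^n. (The published statement calls T a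
Frobenius-semilinear isomorphism; this row asks only that the values of T generate M over R, which
is the property of T the published proof uses. Requiring T itself to be bijective would, for M ≠ 0,
force the Frobenius of R to be surjective.) -/
theorem result (p : ℕ) [Fact p.Prime] {R : Type u} [CommRing R]
    [HenselianLocalRing R] [IsSepClosed (IsLocalRing.ResidueField R)] [CharP R p]
    {M : Type v} [AddCommGroup M] [Module R M] [Module.Free R M] [Module.Finite R M]
    (T : M →+ M) (hT : ∀ (r : R) (m : M), T (r • m) = r ^ p • T m)
    (hspan : Submodule.span R (Set.range T) = ⊤) :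
    Function.Surjective (fun m => T m - m) ∧ Nat.card {m : M // T m = m} = p ^ Module.finrank R M := by
  have : CharP (IsLocalRing.ResidueField R) p := by
    refine (CharP.charP_iff_prime_eq_zero Fact.out).mpr ?_
    rw [← map_natCast (IsLocalRing.residue R), CharP.cast_eq_zero, map_zero]
  let e := Module.finBasis R M
  set n := Module.finrank R M with hn
  let A : Matrix (Fin n) (Fin n) R := Matrix.of fun i j => e.repr (T (e j)) i
  have hTrepr : ∀ (m : M) (i : Fin n), e.repr (T m) i = ∑ j, A i j * e.repr m j ^ p := fun m i => by
    conv_lhs => rw [← e.sum_repr m]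
    simp only [map_sum, hT, map_smul, Finsupp.coe_finsetSum, Finset.sum_apply, Finsupp.smul_apply, smul_eq_mul]
    exact Finset.sum_congr rfl fun j _ => mul_comm _ _
  let φ : (Fin n → IsLocalRing.ResidueField R) →+ (Fin n → IsLocalRing.ResidueField R) :=
    AddMonoidHom.mk' (fun x i => ∑ j, IsLocalRing.residue R (A i j) * x j ^ p) (fun x y => funext fun i => by
      simp only [Pi.add_apply, add_pow_char, mul_add, Finset.sum_add_distrib])
  have hφ : Groth.SGA7.QLin.IsQLin (k := IsLocalRing.ResidueField R) p φ := fun c v => funext fun i => by
    show ∑ j, IsLocalRing.residue R (A i j) * (c • v j) ^ p = c ^ p * ∑ j, IsLocalRing.residue R (A i j) * v j ^ p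
    simp only [smul_eq_mul, mul_pow, Finset.mul_sum]
    exact Finset.sum_congr rfl fun j _ => by ring
  have hsol : ∀ b x : Fin n → R, (∀ i, (∑ j, A i j * x j ^ p) - x i = b i) ↔
      T (e.equivFun.symm x) - e.equivFun.symm x = e.equivFun.symm b := fun b x => by
    rw [← e.equivFun.injective.eq_iff, funext_iff]
    refine forall_congr' fun i => ?_
    simp only [map_sub, Pi.sub_apply, Module.Basis.equivFun_apply]
    rw [hTrepr]
    have hx : ∀ (z : Fin n → R) (j : Fin n), e.repr (e.equivFun.symm z) j = z j := fun z j => by
      rw [← Module.Basis.equivFun_apply, LinearEquiv.apply_symm_apply]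
    simp only [hx]
  have hss : Submodule.span (IsLocalRing.ResidueField R) (Set.range φ) = ⊤ := by
    let red : M →ₛₗ[IsLocalRing.residue R] (Fin n → IsLocalRing.ResidueField R) :=
      { toFun := fun m i => IsLocalRing.residue R (e.repr m i)
        map_add' := fun a b => funext fun i => by simp
        map_smul' := fun c a => funext fun i => by simp }
    rw [eq_top_iff]
    intro y _
    choose z hz using fun i => IsLocalRing.residue_surjective (y i)
    have key : ∀ m ∈ Submodule.span R (Set.range T),
        red m ∈ Submodule.span (IsLocalRing.ResidueField R) (Set.range φ) := by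
      intro m hm
      induction hm using Submodule.span_induction with
      | mem _ hx =>
        obtain ⟨w, rfl⟩ := hx
        refine Submodule.subset_span ⟨red w, funext fun i => ?_⟩
        show ∑ j, IsLocalRing.residue R (A i j) * (IsLocalRing.residue R (e.repr w j)) ^ p = IsLocalRing.residue R (e.repr (T w) i)
        rw [hTrepr, map_sum]
        exact Finset.sum_congr rfl fun j _ => by rw [map_mul, map_pow]
      | zero => rw [map_zero]; exact zero_mem _
      | add a b _ _ ha hb => rw [map_add]; exact add_mem ha hb
      | smul c a _ ha => rw [LinearMap.map_smulₛₗ]; exact Submodule.smul_mem _ _ ha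
    have := key (e.equivFun.symm z) (by rw [hspan]; exact Submodule.mem_top)
    have hr : red (e.equivFun.symm z) = y := funext fun i => by
      show IsLocalRing.residue R (e.repr (e.equivFun.symm z) i) = y i
      rw [← Module.Basis.equivFun_apply, LinearEquiv.apply_symm_apply, hz]
    rwa [hr] at this
  constructor
  · intro m
    obtain ⟨v, hv⟩ := Groth.Calg3.FrobFixed.surjective_sub p hφ (fun i => IsLocalRing.residue R (e.equivFun m i))
    obtain ⟨x, -⟩ := (Groth.Calg3.FrobFixed.bijective_reduce p A (e.equivFun m)).2
      ⟨v, fun i => congrFun hv i⟩
    refine ⟨e.equivFun.symm x.1, ?_⟩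
    have := (hsol _ x.1).mp x.2
    rwa [LinearEquiv.symm_apply_apply] at this
  · rw [show n = Module.finrank (IsLocalRing.ResidueField R) (Fin n → IsLocalRing.ResidueField R) by simp,
      ← Groth.Calg3.FrobFixed.natCard_fixed p hφ hss]
    let e1 : {m : M // T m = m} ≃ {x : Fin n → R // ∀ i, (∑ j, A i j * x j ^ p) - x i = (0 : Fin n → R) i} :=
      e.equivFun.toEquiv.subtypeEquiv fun m => by
        rw [hsol 0 (e.equivFun.toEquiv m)]
        show _ ↔ T (e.equivFun.symm (e.equivFun m)) - e.equivFun.symm (e.equivFun m) = e.equivFun.symm 0
        rw [LinearEquiv.symm_apply_apply, map_zero, sub_eq_zero]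
    let e2 := Equiv.ofBijective _ (Groth.Calg3.FrobFixed.bijective_reduce p A (0 : Fin n → R))
    refine Nat.card_congr (e1.trans (e2.trans (Equiv.subtypeEquivRight fun y => ?_)))
    constructor
    · intro h
      funext i
      have := h i
      rw [Pi.zero_apply, map_zero, sub_eq_zero] at this
      exact this
    · intro h i
      rw [Pi.zero_apply, map_zero, sub_eq_zero]
      exact congrFun h i
end Groth.Agent.S13366
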