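import Groth.Statements.S13367
import Mathlib
import Groth.Agent.Calg3.FrobFixed

set_option autoImplicit false
universe u v
open FrobMod

namespace Groth.Agent.S13367

open scoped TensorProduct


/-- Over a strictly Henselian discrete valuation ring R of prime characteristic p with residue field κ,
for a finitely generated module M with n = dim_κ(κ ⊗ M) and a Frobenius-semilinear additive
bijection T of M (T(rm) = r^p T(m)), the map T − 1 is surjective and its kernel has cardinality p^n. -/
theorem result (p : ℕ) [Fact p.Prime] {R : Type u} [CommRing R] [IsDomain R]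
    [IsDiscreteValuationRing R] [HenselianLocalRing R] [IsSepClosed (IsLocalRing.ResidueField R)] [CharP R p]
    {M : Type v} [AddCommGroup M] [Module R M] [Module.Finite R M]
    (T : M →+ M) (hT : ∀ (r : R) (m : M), T (r • m) = r ^ p • T m) (hbij : Function.Bijective T) :
    Function.Surjective (fun m => T m - m) ∧
      Nat.card {m : M // T m = m} =
        p ^ Module.finrank (IsLocalRing.ResidueField R) (TensorProduct R (IsLocalRing.ResidueField R) M) := by
  classical
  have : CharP (IsLocalRing.ResidueField R) p := by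
    refine (CharP.charP_iff_prime_eq_zero Fact.out).mpr ?_
    rw [← map_natCast (IsLocalRing.residue R), CharP.cast_eq_zero, map_zero]
  let k := IsLocalRing.ResidueField R
  let φ : k ⊗[R] M →+ k ⊗[R] M := TensorProduct.liftAddHom
    (AddMonoidHom.mk' (fun c => AddMonoidHom.mk' (fun m => (c ^ p) ⊗ₜ[R] T m)
        (fun a b => by simp only [map_add, TensorProduct.tmul_add]))
      (fun a b => by ext m; simp [add_pow_char, TensorProduct.add_tmul]))
    (fun r c m => by
      show ((r • c) ^ p) ⊗ₜ[R] T m = (c ^ p) ⊗ₜ[R] T (r • m)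
      rw [hT, smul_pow, TensorProduct.smul_tmul])
  have hφt : ∀ (c : k) (m : M), φ (c ⊗ₜ m) = (c ^ p) ⊗ₜ[R] T m := fun c m => rfl
  have hφ : Groth.SGA7.QLin.IsQLin (k := k) p φ := by
    intro c v
    induction v using TensorProduct.induction_on with
    | zero => simp
    | tmul a m => rw [TensorProduct.smul_tmul', hφt, hφt, TensorProduct.smul_tmul', smul_eq_mul, smul_eq_mul, mul_pow]
    | add a b ha hb => rw [smul_add, map_add, map_add, ha, hb, smul_add]
  have hsurj : Function.Surjective (fun m : M => (1 : k) ⊗ₜ[R] m) :=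
    TensorProduct.mk_surjective R M k IsLocalRing.residue_surjective
  have hss : Submodule.span k (Set.range φ) = ⊤ := by
    rw [eq_top_iff]
    intro v _
    obtain ⟨m, rfl⟩ := hsurj v
    obtain ⟨w, rfl⟩ := hbij.2 m
    exact Submodule.subset_span ⟨(1 : k) ⊗ₜ w, by rw [hφt, one_pow]⟩
  have hinjφ : Function.Injective φ := Groth.SGA7.QLin.injective_of_span hφ hss
  set 𝔪 := IsLocalRing.maximalIdeal R with h𝔪
  have hker : ∀ m : M, (1 : k) ⊗ₜ[R] m = 0 ↔ m ∈ (𝔪 • ⊤ : Submodule R M) := fun m => by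
    rw [← Submodule.Quotient.mk_eq_zero, ← (TensorProduct.quotTensorEquivQuotSMul M 𝔪).symm.map_eq_zero_iff,
      TensorProduct.quotTensorEquivQuotSMul_symm_mk]
    rfl
  have hTm : ∀ m ∈ (𝔪 • ⊤ : Submodule R M), T m ∈ (𝔪 • (𝔪 • ⊤) : Submodule R M) := by
    intro m hm
    induction hm using Submodule.smul_induction_on' with
    | smul a ha z _ =>
      rw [hT, show p = (p - 2) + 1 + 1 by have := (Fact.out : p.Prime).two_le; omega, pow_succ, pow_succ, mul_assoc, mul_smul, mul_smul]
      exact Submodule.smul_mem _ _ (Submodule.smul_mem_smul ha (Submodule.smul_mem_smul ha Submodule.mem_top))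
    | add a _ b _ ha hb => rw [map_add]; exact add_mem ha hb
  have hle : (𝔪 • ⊤ : Submodule R M) ≤ 𝔪 • (𝔪 • ⊤) := by
    intro y hy
    obtain ⟨z, rfl⟩ := hbij.2 y
    refine hTm z ((hker z).mp (hinjφ ?_))
    rw [hφt, one_pow, map_zero, hker]
    exact hy
  have hbot : (𝔪 • ⊤ : Submodule R M) = ⊥ :=
    Submodule.eq_bot_of_le_smul_of_le_jacobson_bot _ _ (IsNoetherian.noetherian _) hle (IsLocalRing.maximalIdeal_le_jacobson ⊥)
  have hb : Function.Bijective (fun m : M => (1 : k) ⊗ₜ[R] m) := by
    refine ⟨fun a b h => ?_, hsurj⟩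
    have h0 : (1 : k) ⊗ₜ[R] (a - b) = 0 := by rw [TensorProduct.tmul_sub, sub_eq_zero]; exact h
    rw [hker, hbot, Submodule.mem_bot, sub_eq_zero] at h0
    exact h0
  have hcomm : ∀ m : M, φ ((1 : k) ⊗ₜ m) = (1 : k) ⊗ₜ[R] T m := fun m => by rw [hφt, one_pow]
  constructor
  · intro m
    obtain ⟨v, hv⟩ := Groth.Calg3.FrobFixed.surjective_sub p hφ ((1 : k) ⊗ₜ m)
    obtain ⟨w, rfl⟩ := hsurj v
    refine ⟨w, hb.1 ?_⟩
    simp only [TensorProduct.tmul_sub]
    rw [← hcomm]
    exact hv
  · rw [← Groth.Calg3.FrobFixed.natCard_fixed p hφ hss]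
    refine Nat.card_congr ((Equiv.ofBijective _ hb).subtypeEquiv fun m => ?_)
    show T m = m ↔ φ ((1 : k) ⊗ₜ m) = (1 : k) ⊗ₜ m
    rw [hcomm, hb.1.eq_iff]
end Groth.Agent.S13367
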