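import Groth.Statements.S13368
import Groth.Agent.GrpschAbsch.FrobDeriv
import Mathlib.RingTheory.DiscreteValuationRing.Basic
import Mathlib.RingTheory.Localization.FractionRing
import Mathlib.RingTheory.Filtration
import Mathlib.LinearAlgebra.FiniteDimensional.Lemmas
import Mathlib.Algebra.CharP.Algebra

set_option autoImplicit false
universe u
open GaDual

namespace Groth.Agent.S13368

/-- Let R be a discrete valuation ring of prime characteristic p whose fraction field k has degree p
over its subfield k^p of p-th powers, and π a uniformizer. Then every element of R is, in a unique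
way, a sum of π^i c_i^p over 0 ≤ i < p with c_i in R, and the Kähler differentials of R (absolute,
i.e. over the integers, equivalently over the prime field) form a free module of rank one generated
by dπ. -/
theorem result (p : ℕ) [Fact p.Prime] {R : Type u} [CommRing R]
    [IsDomain R] [IsDiscreteValuationRing R] [CharP R p]
    (kp : Subfield (FractionRing R)) (hkp : ∀ x : FractionRing R, x ∈ kp ↔ ∃ y : FractionRing R, y ^ p = x)
    (hdeg : Module.finrank kp (FractionRing R) = p)
    (π : R) (hπ : Irreducible π) :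
    (∀ r : R, ∃! c : Fin p → R, r = ∑ i : Fin p, π ^ (i : ℕ) * c i ^ p) ∧
      Function.Bijective (fun r : R => r • KaehlerDifferential.D ℤ R π) := by
  classical
  have hp : p.Prime := Fact.out
  let K := FractionRing R
  have hinj : Function.Injective (algebraMap R K) := IsFractionRing.injective R K
  have : CharP K p := charP_of_injective_ringHom hinj p
  have hπp : Prime π := hπ.prime
  let S : (Fin p → R) → R := fun c ↦ ∑ i : Fin p, π ^ (i : ℕ) * c i ^ p
  -- divisibility by `π ^ p` forces divisibility of all coefficients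
  have hdiv : ∀ c, π ^ p ∣ S c → ∀ i, π ∣ c i := by
    intro c hc
    suffices h : ∀ j : ℕ, ∀ hj : j < p, π ∣ c ⟨j, hj⟩ from fun i ↦ h i i.2
    intro j
    induction j using Nat.strong_induction_on with
    | _ j ih =>
      intro hj
      have hrest : π ^ (j + 1) ∣ ∑ i ∈ (Finset.univ : Finset (Fin p)).erase ⟨j, hj⟩,
          π ^ (i : ℕ) * c i ^ p := by
        refine Finset.dvd_sum fun i hi ↦ ?_
        have hne : (i : ℕ) ≠ j := fun e ↦ (Finset.mem_erase.mp hi).1 (Fin.ext e)
        rcases Nat.lt_or_gt_of_ne hne with h | h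
        · exact dvd_mul_of_dvd_right ((pow_dvd_pow π (by omega : j + 1 ≤ p)).trans
            (pow_dvd_pow_of_dvd (ih i h i.2) p)) _
        · exact dvd_mul_of_dvd_left (pow_dvd_pow π h) _
      have htot : π ^ (j + 1) ∣ S c := (pow_dvd_pow π (by omega : j + 1 ≤ p)).trans hc
      rw [show S c = _ from (Finset.add_sum_erase _ _ (Finset.mem_univ (⟨j, hj⟩ : Fin p))).symm] at htot
      have h1 : π ^ (j + 1) ∣ π ^ j * c ⟨j, hj⟩ ^ p := (dvd_add_left hrest).mp htot
      rw [pow_succ, mul_dvd_mul_iff_left (pow_ne_zero _ hπ.ne_zero)] at h1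
      exact hπp.dvd_of_dvd_pow h1
  -- uniqueness
  have hzero : ∀ c, S c = 0 → c = 0 := by
    intro c hc
    have key : ∀ n : ℕ, ∀ c, S c = 0 → ∀ i, π ^ n ∣ c i := by
      intro n
      induction n with
      | zero => simp
      | succ n ih =>
        intro c hc i
        choose d hd using fun i ↦ hdiv c (hc ▸ dvd_zero _) i
        have hd0 : S d = 0 := by
          have h : S c = π ^ p * S d := by
            simp only [S, hd, Finset.mul_sum, mul_pow]
            exact Finset.sum_congr rfl fun i _ ↦ by ring
          exact (mul_eq_zero.mp (h.symm.trans hc)).resolve_left (pow_ne_zero _ hπ.ne_zero)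
        rw [hd i, pow_succ']
        exact mul_dvd_mul_left π (ih d hd0 i)
    funext i
    have hb := Ideal.iInf_pow_eq_bot_of_isLocalRing (Ideal.span {π})
      (fun h ↦ hπp.not_unit (Ideal.span_singleton_eq_top.mp h))
    have hmem : c i ∈ ⨅ n : ℕ, Ideal.span {π} ^ n := by
      simp only [Submodule.mem_iInf, Ideal.span_singleton_pow, Ideal.mem_span_singleton]
      exact fun n ↦ key n c hc i
    rw [hb] at hmem
    exact hmem
  have huniq : ∀ c d, S c = S d → c = d := fun c d h ↦ by
    have h0 : S (c - d) = 0 := by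
      simp only [S, Pi.sub_apply, sub_pow_char (p := p), mul_sub, Finset.sum_sub_distrib]
      exact sub_eq_zero.mpr h
    exact sub_eq_zero.mp (hzero _ h0)
  -- the basis of `k` over its `p`-th powers
  have hpow : ∀ y : K, y ^ p ∈ kp := fun y ↦ (hkp _).mpr ⟨y, rfl⟩
  have hclear : ∀ y : Fin p → K, ∃ (d : R) (a : Fin p → R), d ≠ 0 ∧
      ∀ i, y i * algebraMap R K d = algebraMap R K (a i) := fun y ↦ by
    obtain ⟨⟨d, hd⟩, hd'⟩ := IsLocalization.exist_integer_multiples_of_finite (nonZeroDivisors R) y
    choose a ha using hd'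
    exact ⟨d, a, nonZeroDivisors.ne_zero hd, fun i ↦ by rw [ha, Algebra.smul_def, mul_comm]⟩
  have hSK : ∀ a : Fin p → R, algebraMap R K (S a) =
      ∑ i : Fin p, algebraMap R K π ^ (i : ℕ) * algebraMap R K (a i) ^ p := fun a ↦ by
    simp [S, map_sum, map_mul, map_pow]
  have hli : LinearIndependent kp (fun i : Fin p ↦ algebraMap R K π ^ (i : ℕ)) := by
    rw [Fintype.linearIndependent_iff]
    intro g hg i
    choose y hy using fun i ↦ (hkp (g i : K)).mp (g i).2
    obtain ⟨d, a, hd, ha⟩ := hclear y
    have h0 : S a = 0 := hinj (by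
      rw [hSK, map_zero]
      calc ∑ i : Fin p, algebraMap R K π ^ (i : ℕ) * algebraMap R K (a i) ^ p
          = (∑ i : Fin p, g i • algebraMap R K π ^ (i : ℕ)) * algebraMap R K d ^ p := by
            rw [Finset.sum_mul]
            refine Finset.sum_congr rfl fun i _ ↦ ?_
            rw [← ha, mul_pow, hy, Subfield.smul_def, smul_eq_mul]
            ring
        _ = 0 := by rw [hg, zero_mul])
    have hai : a i = 0 := congrFun (hzero a h0) i
    have := ha i
    rw [hai, map_zero, mul_eq_zero] at this
    have hyi : y i = 0 := this.resolve_right fun h ↦ hd (hinj (h.trans (map_zero _).symm))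
    exact Subtype.ext ((hy i).symm.trans (by rw [hyi, zero_pow hp.ne_zero]; rfl))
  have : FiniteDimensional kp K := FiniteDimensional.of_finrank_pos (hdeg ▸ hp.pos)
  have hspan := hli.span_eq_top_of_card_eq_finrank' (by rw [Fintype.card_fin]; exact hdeg.symm)
  have hex : ∀ r : R, ∃ c, r = S c := by
    intro r
    obtain ⟨g, hg⟩ := Submodule.mem_span_range_iff_exists_fun kp |>.mp
      (hspan ▸ Submodule.mem_top : algebraMap R K r ∈ _)
    choose y hy using fun i ↦ (hkp (g i : K)).mp (g i).2
    obtain ⟨d, a, hd, ha⟩ := hclear y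
    have h0 : r * d ^ p = S a := hinj (by
      rw [hSK, map_mul, map_pow, ← hg, Finset.sum_mul]
      refine Finset.sum_congr rfl fun i _ ↦ ?_
      rw [← ha, mul_pow, hy, Subfield.smul_def, smul_eq_mul]
      ring)
    obtain ⟨N, u, hu⟩ := IsDiscreteValuationRing.eq_unit_mul_pow_irreducible hd hπ
    subst hu
    clear hg hy ha hd
    induction N generalizing a with
    | zero =>
      refine ⟨fun i ↦ ↑u⁻¹ * a i, ?_⟩
      have h1 : S (fun i ↦ ↑u⁻¹ * a i) = (↑u⁻¹ : R) ^ p * S a := by
        simp only [S, Finset.mul_sum, mul_pow]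
        exact Finset.sum_congr rfl fun i _ ↦ by ring
      rw [h1, ← h0, pow_zero, mul_one, mul_left_comm, ← mul_pow, Units.inv_mul, one_pow, mul_one]
    | succ N ih =>
      choose b hb using fun i ↦ hdiv a (h0 ▸ ⟨r * (u * π ^ N) ^ p, by ring⟩) i
      refine ih b (mul_left_cancel₀ (pow_ne_zero p hπ.ne_zero) ?_)
      calc π ^ p * (r * (↑u * π ^ N) ^ p) = r * (↑u * π ^ (N + 1)) ^ p := by ring
        _ = S a := h0
        _ = π ^ p * S b := by
          simp only [S, hb, Finset.mul_sum, mul_pow]
          exact Finset.sum_congr rfl fun i _ ↦ by ring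
  refine ⟨fun r ↦ ?_, ?_, ?_⟩
  · obtain ⟨c, hc⟩ := hex r
    exact ⟨c, hc, fun d hd ↦ huniq d c (hd.symm.trans hc)⟩
  · -- a derivation with `D π = 1`
    have hπK : ∀ y : K, y ^ p ≠ algebraMap R K π := by
      intro y hy
      obtain ⟨d, a, hd, ha⟩ := hclear (fun _ ↦ y)
      let i0 : Fin p := ⟨0, hp.pos⟩
      let i1 : Fin p := ⟨1, hp.one_lt⟩
      have h01 : i1 ≠ i0 := fun h ↦ one_ne_zero (congrArg Fin.val h : (1 : ℕ) = 0)
      have h0 : π * d ^ p = a i0 ^ p := hinj (by
        rw [map_mul, map_pow, map_pow, ← ha, mul_pow, hy])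
      have := huniq (Pi.single i1 d) (Pi.single i0 (a i0)) (by
        simp only [S]
        rw [Finset.sum_eq_single i1 (fun i _ hi ↦ by simp [Pi.single_eq_of_ne hi, hp.ne_zero])
          (by simp), Finset.sum_eq_single i0 (fun i _ hi ↦ by simp [Pi.single_eq_of_ne hi, hp.ne_zero])
          (by simp)]
        simpa [i0, i1] using h0)
      have := congrFun this i1
      simp [h01] at this
      exact hd this
    exact GrpschAbsch.injective_smul_D_of_not_pow p hinj hπK
  · intro z
    have hz : z ∈ Submodule.span R {KaehlerDifferential.D ℤ R π} := by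
      have : z ∈ (⊤ : Submodule R _) := trivial
      rw [← KaehlerDifferential.span_range_derivation] at this
      refine Submodule.span_le.mpr ?_ this
      rintro _ ⟨r, rfl⟩
      obtain ⟨c, hc⟩ := hex r
      rw [hc, SetLike.mem_coe, map_sum]
      refine Submodule.sum_mem _ fun i _ ↦ ?_
      have hcp : KaehlerDifferential.D ℤ R (c i ^ p) = 0 := by
        rw [Derivation.leibniz_pow, ← Nat.cast_smul_eq_nsmul R, CharP.cast_eq_zero, zero_smul]
      rw [Derivation.leibniz, hcp, smul_zero, zero_add, Derivation.leibniz_pow,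
        ← Nat.cast_smul_eq_nsmul R]
      exact Submodule.smul_mem _ _ (Submodule.smul_mem _ _ (Submodule.smul_mem _ _
        (Submodule.mem_span_singleton_self _)))
    obtain ⟨r, hr⟩ := Submodule.mem_span_singleton.mp hz
    exact ⟨r, hr⟩

end Groth.Agent.S13368
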