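import Groth.Statements.S13369
import Groth.Agent.GrpschAbsch.FrobDeriv
import Mathlib.Algebra.CharP.Algebra

set_option autoImplicit false
universe u
open GaDual

namespace Groth.Agent.S13369

/-- For a normal Noetherian domain A of prime characteristic p, an element whose differential vanishes
in the absolute Kähler differentials of A is a p-th power; that is, the sequence F : A → A, d : A →
Ω_A (F the Frobenius) is exact at the middle term. (The published statement is for normal locally
Noetherian schemes of characteristic p; this row is the case of the spectrum of a normal Noetherian
domain.) -/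
theorem result (p : ℕ) [Fact p.Prime] {A : Type u} [CommRing A] [IsDomain A]
    [IsNoetherianRing A] [IsIntegrallyClosed A] [CharP A p] (s : A) (hs : KaehlerDifferential.D ℤ A s = 0) :
    ∃ f : A, f ^ p = s := by
  have : CharP (FractionRing A) p :=
    charP_of_injective_algebraMap (IsFractionRing.injective A (FractionRing A)) p
  obtain ⟨y, hy⟩ := Groth.GrpschAbsch.exists_pow_eq_algebraMap_of_D_eq_zero (K := FractionRing A) p hs
  obtain ⟨f, hf⟩ := IsIntegrallyClosed.algebraMap_eq_of_integral (R := A)
    (IsIntegral.of_pow (Fact.out : p.Prime).pos (hy ▸ isIntegral_algebraMap))
  exact ⟨f, IsFractionRing.injective A (FractionRing A) (by rw [map_pow, hf, hy])⟩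

end Groth.Agent.S13369
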