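import Groth.Statements.S13370
import Groth.Agent.GrpschAbsch.GaGm
import Mathlib.RingTheory.MvPolynomial.Basic

set_option autoImplicit false
universe u
open GaDual

namespace Groth.Agent.S13370

open AlgebraicGeometry in
/-- Over a reduced scheme X, each invertible global function on 𝔸ⁿ_X comes, by pullback along the
projection to X, from an invertible global function on X. -/
theorem result (n : Type u) [Finite n] (X : Scheme.{u}) [IsReduced X]
    (w : Γ(𝔸(n; X), ⊤)) (hw : IsUnit w) :
    ∃ v : Γ(X, ⊤), IsUnit v ∧ (𝔸(n; X) ↘ X).appTop v = w := by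
  open AlgebraicGeometry AlgebraicGeometry.AffineSpace CategoryTheory Groth.GrpschAbsch in
  let z : X ⟶ 𝔸(n; X) := homOfVector (𝟙 X) (fun _ ↦ 0)
  refine ⟨z.appTop w, hw.map _, eq_of_residueField _ _ fun p ↦ ?_⟩
  set K := 𝔸(n; X).residueField p
  set f := 𝔸(n; X).fromSpecResidueField p
  let R : CommRingCat.{u} := CommRingCat.of (MvPolynomial n K)
  let π := 𝔸(n; X) ↘ X
  let F : Spec R ⟶ 𝔸(n; X) := homOfVector
    (Spec.map (CommRingCat.ofHom (MvPolynomial.C : K →+* MvPolynomial n K)) ≫ f ≫ π)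
    (fun i ↦ (Scheme.ΓSpecIso R).inv (MvPolynomial.X i))
  let ev : (n → K) → (Spec K ⟶ Spec R) := fun a ↦ Spec.map (CommRingCat.ofHom (MvPolynomial.eval a))
  have hC : ∀ a, ev a ≫ Spec.map (CommRingCat.ofHom (MvPolynomial.C : K →+* MvPolynomial n K)) =
      𝟙 (Spec K) := fun a ↦ by
    rw [← Spec.map_comp, ← Spec.map_id K]
    congr 1
    ext b
    exact MvPolynomial.eval_C b
  obtain ⟨a, ha⟩ : ∃ a : n → K, ∀ i, (Scheme.ΓSpecIso K).inv (a i) = f.appTop (coord X i) :=
    ⟨fun i ↦ (Scheme.ΓSpecIso K).hom (f.appTop (coord X i)), fun i ↦ by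
      rw [← CommRingCat.comp_apply, Iso.hom_inv_id]; rfl⟩
  have hf : ev a ≫ F = f := by
    apply AffineSpace.hom_ext
    · simp only [F, Category.assoc, homOfVector_over]
      rw [← Category.assoc, hC, Category.id_comp]
    · intro i
      rw [Scheme.Hom.comp_appTop, CommRingCat.comp_apply, homOfVector_appTop_coord, ← ha i]
      refine (appTop_specMap_inv (CommRingCat.ofHom (MvPolynomial.eval a) : R ⟶ K) _).trans ?_
      congr 1
      exact MvPolynomial.eval_X i
  have h0 : ev 0 ≫ F = f ≫ π ≫ z := by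
    apply AffineSpace.hom_ext
    · simp only [F, z, Category.assoc, homOfVector_over, Category.comp_id]
      rw [← Category.assoc, hC, Category.id_comp]
    · intro i
      rw [Scheme.Hom.comp_appTop, CommRingCat.comp_apply, homOfVector_appTop_coord,
        Scheme.Hom.comp_appTop, CommRingCat.comp_apply, Scheme.Hom.comp_appTop,
        CommRingCat.comp_apply, homOfVector_appTop_coord, map_zero, map_zero]
      refine (appTop_specMap_inv (CommRingCat.ofHom (MvPolynomial.eval 0) : R ⟶ K) _).trans ?_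
      rw [show (CommRingCat.ofHom (MvPolynomial.eval 0) : R ⟶ K) (MvPolynomial.X i) = 0 from
        MvPolynomial.eval_X i, map_zero]
      rfl
  obtain ⟨g, hg⟩ : ∃ g, (Scheme.ΓSpecIso R).inv g = F.appTop w :=
    ⟨(Scheme.ΓSpecIso R).hom (F.appTop w), by rw [← CommRingCat.comp_apply, Iso.hom_inv_id]; rfl⟩
  have hgu : IsUnit g := by
    have := (hw.map F.appTop.hom).map (Scheme.ΓSpecIso R).hom.hom
    rw [← hg] at this
    erw [← CommRingCat.comp_apply, Iso.inv_hom_id] at this
    exact this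
  obtain ⟨c, -, rfl⟩ := MvPolynomial.isUnit_iff_eq_C_of_isReduced.mp hgu
  show f.appTop (π.appTop (z.appTop w)) = f.appTop w
  have e1 : f.appTop (π.appTop (z.appTop w)) = (f ≫ π ≫ z).appTop w := by
    simp [Scheme.Hom.comp_appTop]
  rw [e1, ← h0]
  conv_rhs => rw [← hf]
  rw [Scheme.Hom.comp_appTop, Scheme.Hom.comp_appTop, CommRingCat.comp_apply,
    CommRingCat.comp_apply, ← hg]
  refine (appTop_specMap_inv (CommRingCat.ofHom (MvPolynomial.eval 0) : R ⟶ K) _).trans
    (Eq.trans ?_ (appTop_specMap_inv (CommRingCat.ofHom (MvPolynomial.eval a) : R ⟶ K) _).symm)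
  congr 1
  exact (MvPolynomial.eval_C c).trans (MvPolynomial.eval_C c).symm

end Groth.Agent.S13370
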