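import Groth.Statements.S13371
import Groth.Agent.GrpschAbsch.GaGm

set_option autoImplicit false
universe u
open GaDual

namespace Groth.Agent.S13371

open CategoryTheory AlgebraicGeometry MonObj CartesianMonoidalCategory in
/-- If S is a reduced scheme, every homomorphism of S-group schemes from the additive group to the
multiplicative group over S is the trivial homomorphism. -/
theorem result (S : Scheme.{u}) [IsReduced S] (φ : Red.Ga S ⟶ Red.Gm S)
    [IsMonHom φ] : φ = 1 := by
  open CategoryTheory AlgebraicGeometry AlgebraicGeometry.AffineSpace MonObj CartesianMonoidalCategory Groth.GrpschAbsch in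
  have h1 := ‹IsMonHom φ›.one_hom
  have hφ : ∀ T : Over S, (1 : T ⟶ Red.Ga S) ≫ φ = 1 := fun T ↦
    (Category.assoc _ _ _).trans (congrArg (toUnit T ≫ ·) h1)
  refine gmFn_injective ?_
  rw [gmFn_one]
  let Y : Over S := Over.mk (𝔸(PUnit.{u + 1}; S) ↘ S)
  let f : Red.Ga S ⟶ Y := Over.homMk
    (homOfVector (Red.Ga S).hom (fun _ ↦ Red.gaFn (𝟙 (Red.Ga S)))) (homOfVector_over _ _)
  obtain ⟨x, hx⟩ := gaFn_surjective Y (coord S PUnit.unit)
  have hfx : f ≫ x = 𝟙 _ := gaFn_injective (by
    rw [gaFn_comp, hx]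
    exact homOfVector_appTop_coord _ _ _)
  have : IsReduced Y.left := inferInstanceAs (IsReduced 𝔸(PUnit.{u + 1}; S))
  rw [← Category.id_comp φ, ← hfx, Category.assoc, gmFn_comp, gmFn_point_comp_eq_one x φ hφ, map_one]

end Groth.Agent.S13371
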