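import Groth.Statements.S13373
import Groth.Agent.GrpschAbsch.Char

set_option autoImplicit false
universe u
open GaDual

namespace Groth.Agent.S13373

/-- Over a commutative algebra A of prime characteristic p, the formal characters (power series χ with
constant term 1 and χ(X+Y) = χ(X)χ(Y)) are exactly the infinite products ∏_n exp_p(a_n X^(p^n)) with
a_n^p = 0, where exp_p(Y) = Σ_{j<p} Y^j/j!; the infinite product is expressed through its
truncations: χ mod X^(p^m) equals the finite product over n < m. -/
theorem result (p : ℕ) [Fact p.Prime] (A : Type u) [CommRing A] [CharP A p]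
    (χ : PowerSeries A) :
    (PowerSeries.constantCoeff χ = 1 ∧
      PowerSeries.subst (MvPowerSeries.X 0 + MvPowerSeries.X 1 : MvPowerSeries (Fin 2) A) χ =
        PowerSeries.subst (MvPowerSeries.X 0 : MvPowerSeries (Fin 2) A) χ *
          PowerSeries.subst (MvPowerSeries.X 1 : MvPowerSeries (Fin 2) A) χ) ↔
      ∃ a : ℕ → A, (∀ n, a n ^ p = 0) ∧ ∀ m : ℕ,
        PowerSeries.trunc (p ^ m) χ = ∏ n ∈ Finset.range m, ∑ j ∈ Finset.range p,
          Polynomial.C (Ring.inverse (j.factorial : A) * a n ^ j) * Polynomial.X ^ (j * p ^ n) := by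
  open Groth.GrpschAbsch.Char in
  constructor
  · rintro ⟨h0, h⟩
    rw [series_isMul_iff] at h
    have h0' : (fun n ↦ PowerSeries.coeff n χ) 0 = 1 := by simpa using h0
    refine ⟨fun k ↦ PowerSeries.coeff (p ^ k) χ, fun k ↦ (eq_prod_of_charCond p h0' (k + 1)
      (fun i j _ _ ↦ h i j)).1 k (Nat.lt_succ_self _), fun m ↦ Polynomial.ext fun n ↦ ?_⟩
    rw [PowerSeries.coeff_trunc]
    split_ifs with hn
    · exact (eq_prod_of_charCond p h0' m (fun i j _ _ ↦ h i j)).2 n hn
    · exact (coeff_prod_expTerm_eq_zero p (fun k ↦ PowerSeries.coeff (p ^ k) χ) m n (by omega)).symm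
  · rintro ⟨a, ha, h⟩
    have key : ∀ m, ∀ n < p ^ m, PowerSeries.coeff n χ =
        (∏ k ∈ Finset.range m, expTerm p (a k) k).coeff n := fun m n hn ↦ by
      have := congrArg (Polynomial.coeff · n) (h m)
      simp only [PowerSeries.coeff_trunc, if_pos hn] at this
      exact this
    refine ⟨?_, ?_⟩
    · rw [← PowerSeries.coeff_zero_eq_constantCoeff_apply, key 0 0 (by simp)]
      exact coeff_zero_prod_expTerm p a 0
    · rw [series_isMul_iff]
      intro i j
      have hm : i + j < p ^ (i + j) := Nat.lt_pow_self (Fact.out : p.Prime).one_lt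
      have := (isMul_iff _).mp (IsMul.prod (Finset.range (i + j)) (fun k ↦ expTerm p (a k) k)
        (fun k _ ↦ isMul_expTerm p (ha k) k)) i j
      simp only [CharCond] at this ⊢
      rw [key _ _ hm, key (i + j) i (by omega), key (i + j) j (by omega)]
      exact this

end Groth.Agent.S13373
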