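import Groth.Statements.S13374
import Groth.Agent.GrpschAbsch.Char

set_option autoImplicit false
universe u
open GaDual

namespace Groth.Agent.S13374

/-- Over a commutative algebra A of prime characteristic p, every character of the kernel α_(p^n) of the
n-th Frobenius of the additive group — i.e. every polynomial f of degree < p^n with f(0) = 1 and
f(X+Y) ≡ f(X)f(Y) modulo (X^(p^n), Y^(p^n)) — is the product ∏_{i<n} exp_p(a_i X^(p^i)) for some a_i
with a_i^p = 0, exp_p(Y) = Σ_{j<p} Y^j/j!. -/
theorem result (p : ℕ) [Fact p.Prime] (A : Type u) [CommRing A] [CharP A p]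
    (n : ℕ) (f : Polynomial A) (hdeg : f.natDegree < p ^ n) (h0 : f.eval 0 = 1)
    (hmul : Ideal.Quotient.mk
        (Ideal.span {(MvPolynomial.X 0 ^ p ^ n : MvPolynomial (Fin 2) A), MvPolynomial.X 1 ^ p ^ n})
        (Polynomial.aeval (MvPolynomial.X 0 + MvPolynomial.X 1 : MvPolynomial (Fin 2) A) f) =
      Ideal.Quotient.mk
        (Ideal.span {(MvPolynomial.X 0 ^ p ^ n : MvPolynomial (Fin 2) A), MvPolynomial.X 1 ^ p ^ n})
        (Polynomial.aeval (MvPolynomial.X 0 : MvPolynomial (Fin 2) A) f *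
          Polynomial.aeval (MvPolynomial.X 1 : MvPolynomial (Fin 2) A) f)) :
    ∃ a : ℕ → A, (∀ i, a i ^ p = 0) ∧
      f = ∏ i ∈ Finset.range n, ∑ j ∈ Finset.range p,
          Polynomial.C (Ring.inverse (j.factorial : A) * a i ^ j) * Polynomial.X ^ (j * p ^ i) := by
  open Groth.GrpschAbsch.Char in
  rw [← Polynomial.coeff_zero_eq_eval_zero] at h0
  have hc : ∀ i j, i < p ^ n → j < p ^ n → CharCond f.coeff i j := fun i j hi hj ↦ by
    have := coeff_eq_zero_of_mem_span (Ideal.Quotient.eq.mp hmul) hi hj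
    rwa [MvPolynomial.coeff_sub, coeff_aeval_add, coeff_aeval_mul, sub_eq_zero] at this
  have h := eq_prod_of_charCond p h0 n hc
  refine ⟨fun i ↦ if i < n then f.coeff (p ^ i) else 0, fun i ↦ ?_, ?_⟩
  · dsimp only
    split_ifs with hi
    · exact h.1 i hi
    · exact zero_pow (Fact.out : p.Prime).ne_zero
  · have e : (∏ i ∈ Finset.range n, expTerm p (if i < n then f.coeff (p ^ i) else 0) i) =
        ∏ i ∈ Finset.range n, expTerm p (f.coeff (p ^ i)) i :=
      Finset.prod_congr rfl fun i hi ↦ by rw [if_pos (Finset.mem_range.mp hi)]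
    refine (Polynomial.ext fun k ↦ ?_).trans e.symm
    by_cases hk : k < p ^ n
    · exact h.2 k hk
    · exact (Polynomial.coeff_eq_zero_of_natDegree_lt (by omega)).trans
        (coeff_prod_expTerm_eq_zero p (fun i ↦ f.coeff (p ^ i)) n k (by omega)).symm

end Groth.Agent.S13374
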