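import Groth.Statements.S13378
import Groth.Agent.AdicLinTop.ProfiniteCompl
import Groth.Agent.AdicLinTop.ProCompl

set_option autoImplicit false
universe u
open ProCompl

namespace Groth.Agent.S13378

/-- For an abelian group A (written multiplicatively, discrete) and a subgroup A' such that the quotient
A/A' has no nontrivial divisible element and its torsion elements are killed by one positive
integer, the map induced on profinite completions by the inclusion of A' in A is injective. (The
published statement is for topological abelian groups in which every nA is open, with completions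
formed from open subgroups of finite index; this row is the case of the discrete topology.) -/
theorem result (A : Type u) [CommGroup A] (A' : Subgroup A)
    (hdiv : ∀ x : A ⧸ A', (∀ n : ℕ, 0 < n → ∃ y : A ⧸ A', y ^ n = x) → x = 1)
    (htors : ∃ N : ℕ, 0 < N ∧ ∀ x : A ⧸ A', IsOfFinOrder x → x ^ N = 1) :
    Function.Injective (ProfiniteGrp.profiniteCompletion.map (GrpCat.ofHom A'.subtype)).hom := by
  refine (injective_iff_map_eq_one _).mpr fun y hy => Subtype.ext (funext fun K => ?_)
  obtain ⟨a, ha⟩ := QuotientGroup.mk_surjective (y.1 K)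
  rw [← ha]
  refine (QuotientGroup.eq_one_iff a).mpr ?_
  by_contra haK
  obtain ⟨N, hN0, hN⟩ := htors
  have hm : 0 < K.toSubgroup.index := Nat.pos_of_ne_zero Subgroup.FiniteIndex.index_ne_zero
  let K' : Subgroup A := K.toSubgroup.map A'.subtype
  let n := N * K.toSubgroup.index
  let H₀ : Subgroup A := K' ⊔ (powMonoidHom n : A →* A).range
  have hb : (a : A) ∉ H₀ := by
    intro h
    obtain ⟨k, hk, _, ⟨c, rfl⟩, hkc⟩ := Subgroup.mem_sup.mp h
    have hc : c ^ n ∈ A' := by
      have hk' : k ∈ A' := by obtain ⟨k0, -, rfl⟩ := hk; exact k0.2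
      have : c ^ n = k⁻¹ * (a : A) := by rw [← hkc]; simp
      rw [this]
      exact A'.mul_mem (A'.inv_mem hk') a.2
    have hcN : c ^ N ∈ A' := by
      have h1 : ((c : A ⧸ A')) ^ n = 1 := by
        rw [← QuotientGroup.mk_pow]; exact (QuotientGroup.eq_one_iff _).mpr hc
      rw [← QuotientGroup.eq_one_iff, QuotientGroup.mk_pow]
      exact hN _ (isOfFinOrder_iff_pow_eq_one.mpr ⟨n, Nat.mul_pos hN0 hm, h1⟩)
    have hcn : c ^ n ∈ K' := by
      refine ⟨⟨c ^ N, hcN⟩ ^ K.toSubgroup.index, K.toSubgroup.pow_index_mem _, ?_⟩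
      simp [n, pow_mul]
    have : (a : A) ∈ K' := hkc ▸ K'.mul_mem hk hcn
    obtain ⟨a0, ha0, ha0'⟩ := this
    exact haK (Subtype.ext ha0' ▸ ha0)
  obtain ⟨B, hB, hBfi, haB⟩ := Groth.AdicLinTop.ProCompl.exists_finiteIndex_not_mem_of_exponent
    (a := Additive.ofMul (a : A)) (Subgroup.toAddSubgroup H₀) hb (Nat.mul_pos hN0 hm).ne'
    (fun x => show (x.toMul) ^ n ∈ H₀ from Subgroup.mem_sup_right ⟨_, rfl⟩)
  let B₁ : Subgroup A := AddSubgroup.toSubgroup' B
  haveI : B₁.FiniteIndex := ⟨fun h0 => hBfi.index_ne_zero (by rw [← h0]; rfl)⟩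
  let V : FiniteIndexNormalSubgroup A := FiniteIndexNormalSubgroup.ofSubgroup B₁
  have h1 := (Groth.AdicLinTop.ProfiniteCompl.map_component (GrpCat.ofHom A'.subtype) y V).symm.trans
    (congrArg (fun z => z.1 V) hy)
  have h2 := y.2 (CategoryTheory.homOfLE (show K ≤ V.comap A'.subtype from fun w hw =>
    hB (Subgroup.mem_sup_left (S := K') ⟨w, hw, rfl⟩)))
  rw [← ha] at h2
  erw [← h2] at h1
  exact haB ((QuotientGroup.eq_one_iff (a : A)).mp h1)

end Groth.Agent.S13378
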