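import Groth.Statements.S13379
import Groth.Agent.AdicLinTop.ProfiniteCompl

set_option autoImplicit false
universe u
open ProCompl

namespace Groth.Agent.S13379

/-- Profinite completion is right exact: for an abelian group A (written multiplicatively, discrete) and
a subgroup A', the map on profinite completions induced by A → A/A' is surjective and its kernel is
the image of the completion of A'. (The published statement is right-exactness for topological
abelian groups with completions formed from open subgroups of finite index; this row is the case of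
the discrete topology.) -/
theorem result (A : Type u) [CommGroup A] (A' : Subgroup A) :
    Function.Surjective (ProfiniteGrp.profiniteCompletion.map (GrpCat.ofHom (QuotientGroup.mk' A'))).hom ∧
      (ProfiniteGrp.profiniteCompletion.map (GrpCat.ofHom (QuotientGroup.mk' A'))).hom.toMonoidHom.ker =
        (ProfiniteGrp.profiniteCompletion.map (GrpCat.ofHom A'.subtype)).hom.toMonoidHom.range := by
  have key := @Groth.AdicLinTop.ProfiniteCompl.map_component
  refine ⟨?_, le_antisymm ?_ ?_⟩
  · intro z
    let F := (ProfiniteGrp.profiniteCompletion.map (GrpCat.ofHom (QuotientGroup.mk' A'))).hom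
    have hcl : IsClosed (Set.range F) := (isCompact_range F.continuous_toFun).isClosed
    have hsub : Set.range (ProfiniteGrp.ProfiniteCompletion.etaFn (GrpCat.of (A ⧸ A'))) ⊆ Set.range F := by
      rintro _ ⟨q, rfl⟩
      obtain ⟨a, rfl⟩ := QuotientGroup.mk'_surjective A' q
      exact ⟨_, Groth.AdicLinTop.ProfiniteCompl.map_etaFn (GrpCat.ofHom (QuotientGroup.mk' A')) a⟩
    exact hcl.closure_subset_iff.mpr hsub ((ProfiniteGrp.ProfiniteCompletion.denseRange _) z)
  · intro x hx
    replace hx : (ProfiniteGrp.profiniteCompletion.map (GrpCat.ofHom (QuotientGroup.mk' A'))).hom x = 1 := hx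
    let F := (ProfiniteGrp.profiniteCompletion.map (GrpCat.ofHom A'.subtype)).hom
    let T : FiniteIndexNormalSubgroup A → Set (ProfiniteGrp.ProfiniteCompletion.completion (GrpCat.of A')) :=
      fun H => {y | (F y).1 H = x.1 H}
    have hTc : ∀ H, IsClosed (T H) := fun H => by
      haveI : DiscreteTopology ((ProfiniteGrp.ProfiniteCompletion.diagram (GrpCat.of A)).obj H) := ⟨rfl⟩
      exact isClosed_eq ((Groth.AdicLinTop.ProfiniteCompl.continuous_component _).comp F.continuous_toFun)
        continuous_const
    have hTne : ∀ H, (T H).Nonempty := fun H => by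
      haveI : (H.toSubgroup.map (QuotientGroup.mk' A')).FiniteIndex := ⟨fun h0 => by
        have h1 := H.toSubgroup.index_map_dvd (QuotientGroup.mk'_surjective A')
        rw [h0, zero_dvd_iff] at h1
        exact Subgroup.FiniteIndex.index_ne_zero h1⟩
      let V : FiniteIndexNormalSubgroup (A ⧸ A') :=
        FiniteIndexNormalSubgroup.ofSubgroup (H.toSubgroup.map (QuotientGroup.mk' A'))
      have h1 := (key (GrpCat.ofHom (QuotientGroup.mk' A')) x V).symm.trans (congrArg (fun z => z.1 V) hx)
      obtain ⟨a, ha⟩ := QuotientGroup.mk_surjective (x.1 H)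
      have h2 := x.2 (CategoryTheory.homOfLE (show H ≤ V.comap (QuotientGroup.mk' A') from fun w hw => ⟨w, hw, rfl⟩))
      rw [← ha] at h2
      erw [← h2] at h1
      obtain ⟨w, hw, hwa⟩ := (QuotientGroup.eq_one_iff _).mp h1
      have hmem : w⁻¹ * a ∈ A' := QuotientGroup.eq.mp hwa
      refine ⟨ProfiniteGrp.ProfiniteCompletion.etaFn _ ⟨_, hmem⟩, ?_⟩
      show (F _).1 H = x.1 H
      rw [show F _ = _ from Groth.AdicLinTop.ProfiniteCompl.map_etaFn _ _]
      show QuotientGroup.mk (w⁻¹ * a) = x.1 H
      rw [← ha, QuotientGroup.mk_mul, QuotientGroup.mk_inv, (QuotientGroup.eq_one_iff w).mpr hw]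
      simp
    haveI : Nonempty (FiniteIndexNormalSubgroup A) :=
      ⟨FiniteIndexNormalSubgroup.ofSubgroup (⊤ : Subgroup A)⟩
    obtain ⟨y, hy⟩ := IsCompact.nonempty_iInter_of_directed_nonempty_isCompact_isClosed T
      (fun H₁ H₂ => by
        haveI : (H₁.toSubgroup ⊓ H₂.toSubgroup).FiniteIndex := inferInstance
        refine ⟨FiniteIndexNormalSubgroup.ofSubgroup (H₁.toSubgroup ⊓ H₂.toSubgroup), ?_, ?_⟩
        · intro y (hy : _ = _)
          show _ = _
          rw [← (F y).2 (CategoryTheory.homOfLE (show FiniteIndexNormalSubgroup.ofSubgroup (H₁.toSubgroup ⊓ H₂.toSubgroup) ≤ H₁ from fun w hw => hw.1)),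
            ← x.2 (CategoryTheory.homOfLE (show FiniteIndexNormalSubgroup.ofSubgroup (H₁.toSubgroup ⊓ H₂.toSubgroup) ≤ H₁ from fun w hw => hw.1)), hy]
        · intro y (hy : _ = _)
          show _ = _
          rw [← (F y).2 (CategoryTheory.homOfLE (show FiniteIndexNormalSubgroup.ofSubgroup (H₁.toSubgroup ⊓ H₂.toSubgroup) ≤ H₂ from fun w hw => hw.2)),
            ← x.2 (CategoryTheory.homOfLE (show FiniteIndexNormalSubgroup.ofSubgroup (H₁.toSubgroup ⊓ H₂.toSubgroup) ≤ H₂ from fun w hw => hw.2)), hy])
      hTne (fun H => (hTc H).isCompact) hTc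
    exact ⟨y, Subtype.ext (funext fun H => Set.mem_iInter.mp hy H)⟩
  · rintro _ ⟨y, rfl⟩
    refine MonoidHom.mem_ker.mpr (Subtype.ext (funext fun V => ?_))
    obtain ⟨a, ha⟩ := QuotientGroup.mk_surjective
      (y.1 ((V.comap (QuotientGroup.mk' A')).comap A'.subtype))
    erw [key, key]
    erw [← ha]
    show QuotientGroup.mk (QuotientGroup.mk (a : A) : A ⧸ A') = (1 : _ ⧸ V.toSubgroup)
    rw [(QuotientGroup.eq_one_iff (a : A)).mpr a.2]
    rfl

end Groth.Agent.S13379
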