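import Groth.Statements.S13380
import Mathlib.Data.Nat.Choose.Lucas
import Mathlib.Algebra.CharP.Invertible
import Mathlib.Algebra.Polynomial.Expand
import Mathlib.RingTheory.Polynomial.Basic
import Mathlib.RingTheory.Polynomial.Nilpotent
import Mathlib.Data.Nat.Factorization.Basic
import Mathlib.NumberTheory.Wilson
import Mathlib.Algebra.MvPolynomial.Nilpotent
import Mathlib.Data.Nat.Prime.Factorial
-- import your own Groth.Agent.* helpers here

set_option autoImplicit false
universe u
open GaDual

namespace Groth.Agent.S13380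

open Polynomial

section Binomial

variable (p : ℕ) [hp : Fact p.Prime] {R : Type u} [CommRing R] [CharP R p]

include hp in
lemma choose_q_mul (w l A : ℕ) :
    (((l * p ^ w).choose A : ℕ) : R) =
      if p ^ w ∣ A then ((l.choose (A / p ^ w) : ℕ) : R) else 0 := by
  have h : ((1 : R[X]) + X) ^ (l * p ^ w) = expand R (p ^ w) ((1 + X) ^ l) := by
    rw [mul_comm, pow_mul, add_pow_char_pow, one_pow, map_pow, map_add, map_one, expand_X]
  have h2 := congrArg (fun f => Polynomial.coeff f A) h
  rwa [coeff_expand (pow_pos hp.out.pos w), coeff_one_add_X_pow, coeff_one_add_X_pow] at h2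

include hp in
lemma natCast_isUnit {c : ℕ} (h : ¬ p ∣ c) : IsUnit (c : R) :=
  (CharP.isUnit_natCast_iff hp.out).2 h

include hp in
lemma choose_q (w a : ℕ) : (((a * p ^ w).choose (p ^ w) : ℕ) : R) = (a : R) := by
  rw [choose_q_mul p w a, if_pos dvd_rfl, Nat.div_self (pow_pos hp.out.pos w), Nat.choose_one_right]

include hp in
lemma choose_top (a : ℕ) : (((a * p + (p - 1)).choose (p - 1) : ℕ) : R) = 1 := by
  have h := Choose.choose_modEq_choose_mod_mul_choose_div_nat (p := p) (n := a * p + (p - 1)) (k := p - 1)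
  have hlt : p - 1 < p := Nat.sub_lt hp.out.pos one_pos
  rw [Nat.mul_add_mod_of_lt hlt, Nat.mod_eq_of_lt hlt, Nat.div_eq_of_lt hlt, Nat.choose_self,
    Nat.choose_zero_right, mul_one] at h
  rw [CharP.natCast_eq_natCast' R p h, Nat.cast_one]

end Binomial

section Rigid

variable (p : ℕ) [hp : Fact p.Prime] {R : Type u} [CommRing R] [CharP R p]

/-- First exponent of the monomial of degree `n` whose coefficient we normalise. -/
noncomputable def des (n : ℕ) : ℕ :=
  if n = p ^ (n.factorization p) then p ^ (n.factorization p - 1) else p ^ (n.factorization p)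

include hp in
lemma factorization_pow_mul (m u : ℕ) (hu : ¬ p ∣ u) : (p ^ m * u).factorization p = m := by
  have hu0 : u ≠ 0 := fun h => hu (h ▸ dvd_zero p)
  rw [Nat.factorization_mul (pow_ne_zero _ hp.out.ne_zero) hu0, Finsupp.add_apply,
    Nat.factorization_pow, Finsupp.smul_apply, hp.out.factorization_self,
    Nat.factorization_eq_zero_of_not_dvd hu]
  simp

include hp in
lemma des_pow_mul (m u : ℕ) (hu : ¬ p ∣ u) :
    des p (p ^ m * u) = if u = 1 then p ^ (m - 1) else p ^ m := by
  unfold des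
  rw [factorization_pow_mul p m u hu]
  by_cases h : u = 1
  · simp [h]
  · rw [if_neg, if_neg h]
    intro hh
    apply h
    have : 0 < p ^ m := pow_pos hp.out.pos m
    exact (Nat.mul_eq_left this.ne').1 hh

/-- A symmetric additive `2`-cocycle in characteristic `p` vanishes once its normalised
coefficients vanish. -/
lemma rigid {S : Type u} [CommRing S] (ρ : R →+* S) (d : ℕ → ℕ → S)
    (hs : ∀ a b, d a b = d b a) (h0 : ∀ a, d a 0 = 0)
    (hc : ∀ i j k, 0 < i → 0 < j → 0 < k →
      ((j + k).choose j : S) * d i (j + k) = ((i + j).choose i : S) * d (i + j) k)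
    (hd : ∀ a b, 0 < a → 0 < b → a = des p (a + b) → d a b = 0) :
    ∀ a b, d a b = 0 := by
  have unit_cancel : ∀ (c : ℕ) (x : S), ¬ p ∣ c → (c : S) * x = 0 → x = 0 := by
    intro c x h hx
    have := (natCast_isUnit p (R := R) h).map ρ
    rw [map_natCast] at this
    exact this.mul_right_eq_zero.1 hx
  have castEq : ∀ {x : ℕ} {y : R}, (x : R) = y → (x : S) = ρ y := by
    intro x y h; rw [← h, map_natCast]
  have hppos := hp.out.pos
  have h2 := hp.out.two_le
  -- the coefficients at prime powers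
  have step1 : ∀ (w b : ℕ), 0 < b → d (p ^ w) b = 0 := by
    intro w b hb
    obtain ⟨m, u, hu, hn⟩ :=
      Nat.exists_eq_pow_mul_and_not_dvd (n := p ^ w + b) (by omega) p hp.out.ne_one
    have hu1 : 1 ≤ u := Nat.one_le_iff_ne_zero.2 (fun h => hu (h ▸ dvd_zero p))
    have hqpos : 0 < p ^ w := pow_pos hppos w
    by_cases hex : p ^ w = des p (p ^ w + b)
    · exact hd _ _ hqpos hb hex
    rw [hn, des_pow_mul p m u hu] at hex
    rcases lt_trichotomy w m with hw | hw | hw
    · -- use the relation (q, (p-1)q, n - pq)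
      obtain ⟨t, rfl⟩ : ∃ t, m = w + 1 + t := ⟨m - w - 1, by omega⟩
      have hmul : p ^ w + b = p ^ w * (p * (p ^ t * u)) := by
        rw [hn, pow_add, pow_succ]; ring
      have hne : p ^ t * u ≠ 1 := by
        intro h1
        rw [mul_eq_one] at h1
        obtain ⟨ht, rfl⟩ := h1
        rw [if_pos rfl] at hex
        have : t = 0 := by
          by_contra ht0
          have := Nat.one_lt_pow ht0 hp.out.one_lt
          omega
        subst this
        exact hex (by simp)
      obtain ⟨s, hs'⟩ : ∃ s, p ^ t * u = s + 2 := by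
        have : 0 < p ^ t * u := Nat.mul_pos (pow_pos hppos t) hu1
        exact ⟨p ^ t * u - 2, by omega⟩
      rw [hs'] at hmul
      obtain ⟨r, hr⟩ : ∃ r, p = r + 2 := ⟨p - 2, by omega⟩
      have hb' : b = p ^ w * (r + 1) + p ^ w * ((r + 2) * (s + 1)) := by
        rw [show p * (s + 2) = (r + 2) * (s + 1) + (r + 1) + 1 by rw [hr]; ring] at hmul
        rw [mul_add, mul_add, mul_one] at hmul
        linarith
      have rel := hc (p ^ w) (p ^ w * (r + 1)) (p ^ w * ((r + 2) * (s + 1)))
        hqpos (by positivity) (by positivity)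
      rw [← hb'] at rel
      have e1 : ((b.choose (p ^ w * (r + 1)) : ℕ) : R) = 1 := by
        rw [show b = ((s + 1) * p + (p - 1)) * p ^ w by
          rw [hb', hr, show r + 2 - 1 = r + 1 by omega]; ring]
        rw [choose_q_mul p w, if_pos (dvd_mul_right _ _),
          Nat.mul_div_cancel_left _ hqpos, show r + 1 = p - 1 by omega, choose_top p]
      have e2 : (((p ^ w + p ^ w * (r + 1)).choose (p ^ w) : ℕ) : R) = 0 := by
        rw [show p ^ w + p ^ w * (r + 1) = p * p ^ w by rw [hr]; ring, choose_q p w p, CharP.cast_eq_zero]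
      rw [castEq e1, castEq e2, map_one, map_zero, one_mul, zero_mul] at rel
      exact rel
    · subst hw
      by_cases h1 : u = 1
      · exfalso; subst h1; rw [mul_one] at hn; omega
      · rw [if_neg h1] at hex
        exact absurd rfl hex
    · -- `w > m`: compare with the exponent `p ^ m`
      have hu2 : u ≠ 1 := by
        rintro rfl
        rw [mul_one] at hn
        have := Nat.pow_lt_pow_right hp.out.one_lt hw
        omega
      obtain ⟨t, rfl⟩ : ∃ t, w = m + 1 + t := ⟨w - m - 1, by omega⟩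
      have hq : p ^ (m + 1 + t) = p ^ m * (p * p ^ t) := by ring
      have hlt : p * p ^ t < u := by
        have : p ^ m * (p * p ^ t) < p ^ m * u := by rw [← hq]; omega
        exact Nat.lt_of_mul_lt_mul_left this
      obtain ⟨e, rfl⟩ : ∃ e, u = p * p ^ t + e + 1 := ⟨u - p * p ^ t - 1, by omega⟩
      have hb' : b = p ^ m * (e + 1) := by
        rw [hq, mul_add, mul_add, mul_one] at hn
        rw [mul_add, mul_one]; omega
      have hq0 : d (p ^ m) (p ^ m * (p * p ^ t + e)) = 0 := by
        refine hd _ _ (pow_pos hppos m) (Nat.mul_pos (pow_pos hppos m) (by positivity)) ?_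
        rw [show p ^ m + p ^ m * (p * p ^ t + e) = p ^ m * (p * p ^ t + e + 1) by ring,
          des_pow_mul p m _ hu, if_neg hu2]
      rcases Nat.eq_zero_or_pos e with he | he
      · subst he
        rw [hs, hb', zero_add, mul_one, hq]
        simpa using hq0
      have hk : 0 < p ^ m * e := Nat.mul_pos (pow_pos hppos m) he
      have hP : 0 < p ^ m * (p * p ^ t) := hq ▸ pow_pos hppos _
      have rel := hc _ _ _ hP (pow_pos hppos m) hk
      have rel' := hc _ _ _ (pow_pos hppos m) hP hk
      rw [show p ^ m * (p * p ^ t) + p ^ m * e = p ^ m * (p * p ^ t + e) by ring, hq0, mul_zero,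
        add_comm (p ^ m) (p ^ m * (p * p ^ t))] at rel'
      rw [show p ^ m + p ^ m * e = b by rw [hb']; ring] at rel
      have hsymm : ((p ^ m * (p * p ^ t) + p ^ m).choose (p ^ m * (p * p ^ t)) : ℕ) =
          (p ^ m * (p * p ^ t) + p ^ m).choose (p ^ m) := Nat.choose_symm_add
      rw [hsymm, ← rel'] at rel
      rw [hq]
      have hu' : ¬ p ∣ e + 1 := by
        intro h
        apply hu
        rw [add_assoc]
        exact dvd_add (dvd_mul_right _ _) h
      refine unit_cancel _ _ hu' ?_
      have e1 : ((b.choose (p ^ m) : ℕ) : R) = ((e + 1 : ℕ) : R) := by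
        rw [hb', mul_comm]; exact choose_q p m (e + 1)
      rw [castEq e1, map_natCast] at rel
      exact rel
  intro a b
  rcases Nat.eq_zero_or_pos b with hb | hb
  · subst hb; exact h0 a
  rcases Nat.eq_zero_or_pos a with ha | ha
  · subst ha; rw [hs]; exact h0 b
  obtain ⟨w, c, hc', rfl⟩ := Nat.exists_eq_pow_mul_and_not_dvd (n := a) ha.ne' p hp.out.ne_one
  rcases Nat.lt_trichotomy c 1 with h | h | h
  · exact absurd (dvd_zero p) (by simp [show c = 0 by omega] at hc')
  · subst h; rw [mul_one]; exact step1 w b hb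
  obtain ⟨e, rfl⟩ : ∃ e, c = e + 2 := ⟨c - 2, by omega⟩
  have hqpos : 0 < p ^ w := pow_pos hppos w
  have rel := hc (p ^ w) (p ^ w * (e + 1)) b hqpos (by positivity) hb
  rw [step1 w _ (by omega), mul_zero, show p ^ w + p ^ w * (e + 1) = (e + 2) * p ^ w by ring,
    castEq (choose_q p w (e + 2) (R := R)), map_natCast] at rel
  rw [mul_comm (p ^ w)]
  exact unit_cancel _ _ hc' rel.symm

end Rigid

section Coefficients

variable {R : Type u} [CommRing R]

/-- `MvPolynomial (Fin 2) R`. -/
abbrev P2 (R : Type u) [CommRing R] := MvPolynomial (Fin 2) R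
/-- `MvPolynomial (Fin 3) R`. -/
abbrev P3 (R : Type u) [CommRing R] := MvPolynomial (Fin 3) R

/-- exponent vector `(a, b)` -/
noncomputable def e2 (a b : ℕ) : Fin 2 →₀ ℕ := Finsupp.single 0 a + Finsupp.single 1 b
/-- exponent vector `(i, j, k)` -/
noncomputable def e3 (i j k : ℕ) : Fin 3 →₀ ℕ :=
  Finsupp.single 0 i + Finsupp.single 1 j + Finsupp.single 2 k

lemma e2_inj {a b a' b' : ℕ} : e2 a b = e2 a' b' ↔ a = a' ∧ b = b' := by
  constructor
  · intro h
    exact ⟨by simpa [e2] using congrArg (fun v => v 0) h, by simpa [e2] using congrArg (fun v => v 1) h⟩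
  · rintro ⟨rfl, rfl⟩; rfl

lemma e3_inj {i j k i' j' k' : ℕ} : e3 i j k = e3 i' j' k' ↔ i = i' ∧ j = j' ∧ k = k' := by
  constructor
  · intro h
    exact ⟨by simpa [e3] using congrArg (fun v => v 0) h, by simpa [e3] using congrArg (fun v => v 1) h,
      by simpa [e3] using congrArg (fun v => v 2) h⟩
  · rintro ⟨rfl, rfl, rfl⟩; rfl

lemma e2_eta (e : Fin 2 →₀ ℕ) : e2 (e 0) (e 1) = e := by
  ext x; fin_cases x <;> simp [e2]

/-- The coefficient of `X^a Y^b`. -/
noncomputable def co (f : P2 R) (a b : ℕ) : R := f.coeff (e2 a b)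
/-- The coefficient of `X^i Y^j Z^k`. -/
noncomputable def co3 (f : P3 R) (i j k : ℕ) : R := f.coeff (e3 i j k)

lemma co_add (f g : P2 R) (a b : ℕ) : co (f + g) a b = co f a b + co g a b :=
  MvPolynomial.coeff_add ..

lemma co_sub (f g : P2 R) (a b : ℕ) : co (f - g) a b = co f a b - co g a b :=
  MvPolynomial.coeff_sub ..

lemma co3_add (f g : P3 R) (i j k : ℕ) : co3 (f + g) i j k = co3 f i j k + co3 g i j k :=
  MvPolynomial.coeff_add ..

lemma monomial_e2 (a b : ℕ) (c : R) :
    MvPolynomial.monomial (e2 a b) c =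
      MvPolynomial.C c * (MvPolynomial.X 0 ^ a * MvPolynomial.X 1 ^ b) := by
  simp [e2, MvPolynomial.X_pow_eq_monomial, MvPolynomial.monomial_mul, MvPolynomial.C_mul_monomial]

lemma monomial_e3 (i j k : ℕ) (c : R) :
    MvPolynomial.monomial (e3 i j k) c = MvPolynomial.C c *
      (MvPolynomial.X 0 ^ i * MvPolynomial.X 1 ^ j * MvPolynomial.X 2 ^ k) := by
  simp [e3, MvPolynomial.X_pow_eq_monomial, MvPolynomial.monomial_mul, MvPolynomial.C_mul_monomial]

lemma co_mono (a b a' b' : ℕ) (c : R) :
    co (MvPolynomial.C c * (MvPolynomial.X 0 ^ a * MvPolynomial.X 1 ^ b)) a' b' =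
      if a = a' ∧ b = b' then c else 0 := by
  classical
  rw [← monomial_e2, co, MvPolynomial.coeff_monomial, if_congr e2_inj rfl rfl]

lemma co3_mono (i j k i' j' k' : ℕ) (c : R) :
    co3 (MvPolynomial.C c *
      (MvPolynomial.X 0 ^ i * MvPolynomial.X 1 ^ j * MvPolynomial.X 2 ^ k)) i' j' k' =
      if i = i' ∧ j = j' ∧ k = k' then c else 0 := by
  classical
  rw [← monomial_e3, co3, MvPolynomial.coeff_monomial, if_congr e3_inj rfl rfl]

lemma ind2 {P : P2 R → Prop} (f : P2 R) (hadd : ∀ g h, P g → P h → P (g + h))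
    (hmono : ∀ a b c, P (MvPolynomial.C c * (MvPolynomial.X 0 ^ a * MvPolynomial.X 1 ^ b))) :
    P f := by
  induction f using MvPolynomial.induction_on' with
  | monomial e c => rw [← e2_eta e, monomial_e2]; exact hmono _ _ _
  | add g h hg hh => exact hadd g h hg hh

lemma co_prod (f g : R[X]) (a b : ℕ) :
    co (aeval (MvPolynomial.X 0 : P2 R) f * aeval (MvPolynomial.X 1 : P2 R) g) a b =
      f.coeff a * g.coeff b := by
  induction f using Polynomial.induction_on' with
  | add f₁ f₂ h₁ h₂ => simp only [map_add, add_mul, co_add, coeff_add, h₁, h₂]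
  | monomial i c =>
    induction g using Polynomial.induction_on' with
    | add g₁ g₂ h₁ h₂ => simp only [map_add, mul_add, co_add, coeff_add, h₁, h₂]
    | monomial j c' =>
      rw [aeval_monomial, aeval_monomial, MvPolynomial.algebraMap_eq, mul_mul_mul_comm, ← map_mul,
        co_mono, coeff_monomial, coeff_monomial]
      by_cases h : i = a <;> by_cases h' : j = b <;> simp [h, h']

lemma co_sum (f : R[X]) (a b : ℕ) :
    co (aeval (MvPolynomial.X 0 + MvPolynomial.X 1 : P2 R) f) a b =
      ((a + b).choose a : R) * f.coeff (a + b) := by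
  induction f using Polynomial.induction_on' with
  | add f₁ f₂ h₁ h₂ => simp only [map_add, mul_add, co_add, coeff_add, h₁, h₂]
  | monomial l c =>
    rw [aeval_monomial, MvPolynomial.algebraMap_eq, add_pow, Finset.mul_sum, co,
      MvPolynomial.coeff_sum, coeff_monomial]
    have : ∀ m ∈ Finset.range (l + 1), MvPolynomial.coeff (e2 a b) (MvPolynomial.C c *
        ((MvPolynomial.X 0 : P2 R) ^ m * MvPolynomial.X 1 ^ (l - m) * (l.choose m : P2 R))) =
        if m = a then (if l = a + b then ((a + b).choose a : R) * c else 0) else 0 := by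
      intro m hm
      rw [Finset.mem_range] at hm
      have e : MvPolynomial.C c * ((MvPolynomial.X 0 : P2 R) ^ m * MvPolynomial.X 1 ^ (l - m) *
          (l.choose m : P2 R)) = MvPolynomial.C ((l.choose m : R) * c) *
          (MvPolynomial.X 0 ^ m * MvPolynomial.X 1 ^ (l - m)) := by
        rw [map_mul, map_natCast]; ring
      rw [e]
      refine (co_mono _ _ _ _ _).trans ?_
      by_cases h1 : m = a
      · subst h1
        by_cases h2 : l = m + b
        · subst h2; simp
        · rw [if_neg (fun h => h2 (by omega)), if_pos rfl, if_neg h2]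
      · rw [if_neg (fun h => h1 h.1), if_neg h1]
    rw [Finset.sum_congr rfl this, Finset.sum_ite_eq']
    by_cases h2 : l = a + b
    · subst h2; simp
    · simp [h2]

lemma co_swap (f : P2 R) (a b : ℕ) :
    co (MvPolynomial.aeval ![(MvPolynomial.X 1 : P2 R), MvPolynomial.X 0] f) a b = co f b a := by
  induction f using ind2 with
  | hadd g h hg hh => simp only [map_add, co_add, hg, hh]
  | hmono a' b' c =>
    simp only [map_mul, map_pow, MvPolynomial.aeval_C, MvPolynomial.aeval_X,
      MvPolynomial.algebraMap_eq, Matrix.cons_val_zero, Matrix.cons_val_one]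
    rw [mul_comm ((MvPolynomial.X 1 : P2 R) ^ a'), co_mono, co_mono]
    simp [and_comm]

lemma co_norm (f : P2 R) (a : ℕ) :
    co (MvPolynomial.aeval ![(MvPolynomial.X 0 : P2 R), 0] f) a 0 = co f a 0 := by
  induction f using ind2 with
  | hadd g h hg hh => simp only [map_add, co_add, hg, hh]
  | hmono a' b' c =>
    simp only [map_mul, map_pow, MvPolynomial.aeval_C, MvPolynomial.aeval_X,
      MvPolynomial.algebraMap_eq, Matrix.cons_val_zero, Matrix.cons_val_one]
    rcases Nat.eq_zero_or_pos b' with h | h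
    · subst h
      have := co_mono a' 0 a 0 c
      simpa using this
    · rw [zero_pow h.ne', mul_zero, mul_zero, co_mono, if_neg (fun hh => h.ne' hh.2)]
      simp [co]

/-- substitution `(u, v)` into a polynomial in two variables -/
noncomputable abbrev sub3 (u v : P3 R) : P2 R →ₐ[R] P3 R := MvPolynomial.aeval ![u, v]

lemma co3_yz (f : P2 R) (i j k : ℕ) (hi : 0 < i) :
    co3 (sub3 (MvPolynomial.X 1) (MvPolynomial.X 2) f) i j k = 0 := by
  induction f using ind2 with
  | hadd g h hg hh => simp only [map_add, co3_add, hg, hh, add_zero]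
  | hmono a b c =>
    simp only [map_mul, map_pow, MvPolynomial.aeval_C, MvPolynomial.aeval_X,
      MvPolynomial.algebraMap_eq, Matrix.cons_val_zero, Matrix.cons_val_one]
    have := co3_mono 0 a b i j k c
    rw [if_neg (fun h => hi.ne h.1)] at this
    simpa using this

lemma co3_xy (f : P2 R) (i j k : ℕ) (hk : 0 < k) :
    co3 (sub3 (MvPolynomial.X 0) (MvPolynomial.X 1) f) i j k = 0 := by
  induction f using ind2 with
  | hadd g h hg hh => simp only [map_add, co3_add, hg, hh, add_zero]
  | hmono a b c =>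
    simp only [map_mul, map_pow, MvPolynomial.aeval_C, MvPolynomial.aeval_X,
      MvPolynomial.algebraMap_eq, Matrix.cons_val_zero, Matrix.cons_val_one]
    have := co3_mono a b 0 i j k c
    rw [if_neg (fun h => hk.ne h.2.2)] at this
    simpa using this

lemma co3_x_yz (f : P2 R) (i j k : ℕ) :
    co3 (sub3 (MvPolynomial.X 0) (MvPolynomial.X 1 + MvPolynomial.X 2) f) i j k =
      ((j + k).choose j : R) * co f i (j + k) := by
  induction f using ind2 with
  | hadd g h hg hh => simp only [map_add, co3_add, co_add, hg, hh, mul_add]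
  | hmono a b c =>
    simp only [map_mul, map_pow, MvPolynomial.aeval_C, MvPolynomial.aeval_X,
      MvPolynomial.algebraMap_eq, Matrix.cons_val_zero, Matrix.cons_val_one, co_mono]
    rw [add_pow, Finset.mul_sum, Finset.mul_sum, co3, MvPolynomial.coeff_sum]
    have : ∀ m ∈ Finset.range (b + 1), MvPolynomial.coeff (e3 i j k) (MvPolynomial.C c *
        ((MvPolynomial.X 0 : P3 R) ^ a * (MvPolynomial.X 1 ^ m * MvPolynomial.X 2 ^ (b - m) *
          (b.choose m : P3 R)))) =
        if m = j then (if a = i ∧ b = j + k then ((j + k).choose j : R) * c else 0) else 0 := by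
      intro m hm
      rw [Finset.mem_range] at hm
      have e : MvPolynomial.C c * ((MvPolynomial.X 0 : P3 R) ^ a * (MvPolynomial.X 1 ^ m *
          MvPolynomial.X 2 ^ (b - m) * (b.choose m : P3 R))) =
          MvPolynomial.C ((b.choose m : R) * c) *
          (MvPolynomial.X 0 ^ a * MvPolynomial.X 1 ^ m * MvPolynomial.X 2 ^ (b - m)) := by
        rw [map_mul, map_natCast]; ring
      rw [e]
      refine (co3_mono _ _ _ _ _ _ _).trans ?_
      by_cases h1 : m = j
      · subst h1
        by_cases h2 : a = i ∧ b = m + k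
        · obtain ⟨rfl, rfl⟩ := h2; simp
        · rw [if_neg (fun h => h2 ⟨h.1, by omega⟩), if_pos rfl, if_neg h2]
      · rw [if_neg (fun h => h1 h.2.1), if_neg h1]
    rw [Finset.sum_congr rfl this, Finset.sum_ite_eq']
    by_cases h2 : a = i ∧ b = j + k
    · obtain ⟨rfl, rfl⟩ := h2; simp
    · simp [h2]

lemma co3_xy_z (f : P2 R) (i j k : ℕ) :
    co3 (sub3 (MvPolynomial.X 0 + MvPolynomial.X 1) (MvPolynomial.X 2) f) i j k =
      ((i + j).choose i : R) * co f (i + j) k := by
  induction f using ind2 with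
  | hadd g h hg hh => simp only [map_add, co3_add, co_add, hg, hh, mul_add]
  | hmono a b c =>
    simp only [map_mul, map_pow, MvPolynomial.aeval_C, MvPolynomial.aeval_X,
      MvPolynomial.algebraMap_eq, Matrix.cons_val_zero, Matrix.cons_val_one, co_mono]
    rw [add_pow, Finset.sum_mul, Finset.mul_sum, co3, MvPolynomial.coeff_sum]
    have : ∀ m ∈ Finset.range (a + 1), MvPolynomial.coeff (e3 i j k) (MvPolynomial.C c *
        ((MvPolynomial.X 0 : P3 R) ^ m * MvPolynomial.X 1 ^ (a - m) *
          (a.choose m : P3 R) * MvPolynomial.X 2 ^ b)) =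
        if m = i then (if a = i + j ∧ b = k then ((i + j).choose i : R) * c else 0) else 0 := by
      intro m hm
      rw [Finset.mem_range] at hm
      have e : MvPolynomial.C c * ((MvPolynomial.X 0 : P3 R) ^ m * MvPolynomial.X 1 ^ (a - m) *
          (a.choose m : P3 R) * MvPolynomial.X 2 ^ b) = MvPolynomial.C ((a.choose m : R) * c) *
          (MvPolynomial.X 0 ^ m * MvPolynomial.X 1 ^ (a - m) * MvPolynomial.X 2 ^ b) := by
        rw [map_mul, map_natCast]; ring
      rw [e]
      refine (co3_mono _ _ _ _ _ _ _).trans ?_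
      by_cases h1 : m = i
      · subst h1
        by_cases h2 : a = m + j ∧ b = k
        · obtain ⟨rfl, rfl⟩ := h2; simp
        · rw [if_neg (fun h => h2 ⟨by omega, h.2.2⟩), if_pos rfl, if_neg h2]
      · rw [if_neg (fun h => h1 h.1), if_neg h1]
    rw [Finset.sum_congr rfl this, Finset.sum_ite_eq']
    by_cases h2 : a = i + j ∧ b = k
    · obtain ⟨rfl, rfl⟩ := h2; simp
    · simp [h2]

end Coefficients

section Cocycle

variable {R : Type u} [CommRing R]

/-- Normalised symmetric multiplicative `2`-cocycle. -/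
structure Good (h : P2 R) : Prop where
  norm : MvPolynomial.aeval ![(MvPolynomial.X 0 : P2 R), 0] h = 1
  symm : MvPolynomial.aeval ![(MvPolynomial.X 1 : P2 R), MvPolynomial.X 0] h = h
  coc : sub3 (MvPolynomial.X 1) (MvPolynomial.X 2) h *
      sub3 (MvPolynomial.X 0) (MvPolynomial.X 1 + MvPolynomial.X 2) h =
    sub3 (MvPolynomial.X 0 + MvPolynomial.X 1) (MvPolynomial.X 2) h *
      sub3 (MvPolynomial.X 0) (MvPolynomial.X 1) h

lemma Good.mul {h h' : P2 R} (g : Good h) (g' : Good h') : Good (h * h') where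
  norm := by rw [map_mul, g.norm, g'.norm, one_mul]
  symm := by rw [map_mul, g.symm, g'.symm]
  coc := by
    rw [map_mul, map_mul, map_mul, map_mul, mul_mul_mul_comm, g.coc, g'.coc, mul_mul_mul_comm]

/-- evaluation of units -/
noncomputable abbrev evU {B : Type u} [CommRing B] [Algebra R B] (x : B) : (R[X])ˣ →* Bˣ :=
  Units.map (aeval x : R[X] →ₐ[R] B).toMonoidHom

/-- The coboundary. -/
noncomputable def δ : (R[X])ˣ →* (P2 R)ˣ :=
  evU (MvPolynomial.X 0) * evU (MvPolynomial.X 1) * (evU (MvPolynomial.X 0 + MvPolynomial.X 1))⁻¹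

lemma map_evU {A B : Type u} [CommRing A] [Algebra R A] [CommRing B] [Algebra R B]
    (ψ : A →ₐ[R] B) (x : A) (g : (R[X])ˣ) :
    Units.map ψ.toMonoidHom (evU x g) = evU (ψ x) g := by
  ext
  exact (aeval_algHom_apply ψ x (g : R[X])).symm

lemma map_δ {B : Type u} [CommRing B] [Algebra R B] (u v : B) (g : (R[X])ˣ) :
    Units.map (MvPolynomial.aeval ![u, v] : P2 R →ₐ[R] B).toMonoidHom (δ g) =
      evU u g * evU v g * (evU (u + v) g)⁻¹ := by
  simp only [δ, MonoidHom.mul_apply, MonoidHom.inv_apply, map_mul, map_inv, map_evU, map_add,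
    MvPolynomial.aeval_X, Matrix.cons_val_zero, Matrix.cons_val_one]

lemma good_δ (g : (R[X])ˣ) (h1 : (g : R[X]).coeff 0 = 1) : Good ((δ g : (P2 R)ˣ) : P2 R) := by
  refine ⟨?_, ?_, ?_⟩
  · have h := congrArg Units.val (map_δ (MvPolynomial.X 0 : P2 R) 0 g)
    have e : evU (0 : P2 R) g = 1 := by
      ext1
      exact (coeff_zero_eq_aeval_zero' (g : R[X])).symm.trans (by rw [h1, map_one, Units.val_one])
    rw [e, mul_one, add_zero, mul_inv_cancel] at h
    exact h
  · have h := congrArg Units.val (map_δ (MvPolynomial.X 1 : P2 R) (MvPolynomial.X 0) g)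
    rw [add_comm, mul_comm (evU (MvPolynomial.X 1 : P2 R) g)] at h
    exact h
  · have key : Units.map (sub3 (MvPolynomial.X 1 : P3 R) (MvPolynomial.X 2)).toMonoidHom (δ g) *
        Units.map (sub3 (MvPolynomial.X 0) (MvPolynomial.X 1 + MvPolynomial.X 2)).toMonoidHom (δ g) =
        Units.map (sub3 (MvPolynomial.X 0 + MvPolynomial.X 1) (MvPolynomial.X 2)).toMonoidHom (δ g) *
        Units.map (sub3 (MvPolynomial.X 0) (MvPolynomial.X 1)).toMonoidHom (δ g) := by
      simp only [sub3, map_δ, ← add_assoc]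
      generalize evU (MvPolynomial.X 0 : P3 R) g = a
      generalize evU (MvPolynomial.X 1 : P3 R) g = b
      generalize evU (MvPolynomial.X 2 : P3 R) g = c
      generalize evU (MvPolynomial.X 1 + MvPolynomial.X 2 : P3 R) g = t
      generalize evU (MvPolynomial.X 0 + MvPolynomial.X 1 : P3 R) g = s
      generalize evU (MvPolynomial.X 0 + MvPolynomial.X 1 + MvPolynomial.X 2 : P3 R) g = r
      calc b * c * t⁻¹ * (a * t * r⁻¹) = b * c * a * r⁻¹ * (t⁻¹ * t) := by
            simp only [mul_comm, mul_left_comm, mul_assoc]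
        _ = b * c * a * r⁻¹ * (s⁻¹ * s) := by rw [inv_mul_cancel, inv_mul_cancel]
        _ = s * c * r⁻¹ * (a * b * s⁻¹) := by
            simp only [mul_comm, mul_left_comm, mul_assoc]
    exact congrArg Units.val key

lemma δ_mul_sum (g : (R[X])ˣ) :
    ((δ g : (P2 R)ˣ) : P2 R) * aeval (MvPolynomial.X 0 + MvPolynomial.X 1 : P2 R) (g : R[X]) =
      aeval (MvPolynomial.X 0 : P2 R) (g : R[X]) * aeval (MvPolynomial.X 1 : P2 R) (g : R[X]) := by
  have h : δ g * evU (MvPolynomial.X 0 + MvPolynomial.X 1 : P2 R) g =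
      evU (MvPolynomial.X 0 : P2 R) g * evU (MvPolynomial.X 1 : P2 R) g := by
    simp [δ, mul_assoc]
  exact congrArg Units.val h

lemma map_C_le {A B : Type u} [CommRing A] [Algebra R A] [CommRing B] [Algebra R B]
    (ψ : A →ₐ[R] B) (I : Ideal R) {x : A} (hx : x ∈ I.map (algebraMap R A)) :
    ψ x ∈ I.map (algebraMap R B) := by
  have := Ideal.mem_map_of_mem ψ.toRingHom hx
  rw [Ideal.map_map, show ψ.toRingHom.comp (algebraMap R A) = algebraMap R B from ψ.comp_algebraMap] at this
  exact this

lemma mem_P2_iff (I : Ideal R) (f : P2 R) :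
    f ∈ I.map (algebraMap R (P2 R)) ↔ ∀ a b, co f a b ∈ I := by
  rw [MvPolynomial.algebraMap_eq, MvPolynomial.mem_map_C_iff]
  refine ⟨fun h a b => h _, fun h e => ?_⟩
  rw [← e2_eta e]; exact h _ _

lemma mem_P3 (I : Ideal R) (f : P3 R) (hf : f ∈ I.map (algebraMap R (P3 R))) (i j k : ℕ) :
    co3 f i j k ∈ I := by
  rw [MvPolynomial.algebraMap_eq, MvPolynomial.mem_map_C_iff] at hf
  exact hf _

/-- `δ g - 1` is, to first order, `g(X)g(Y) - g(X+Y)`. -/
lemma δ_linear (J J' K : Ideal R) (hJK : J * K ≤ J') (g : (R[X])ˣ)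
    (hg0 : (g : R[X]).coeff 0 = 1) (hgK : ∀ n, 0 < n → (g : R[X]).coeff n ∈ K)
    (hD : ∀ a b, (g : R[X]).coeff a * (g : R[X]).coeff b -
      ((a + b).choose a : R) * (g : R[X]).coeff (a + b) ∈ J) :
    (∀ a b, co ((δ g : (P2 R)ˣ) - 1 : P2 R) a b ∈ J) ∧
    (∀ a b, co ((δ g : (P2 R)ˣ) - 1 : P2 R) a b - ((g : R[X]).coeff a * (g : R[X]).coeff b -
      ((a + b).choose a : R) * (g : R[X]).coeff (a + b)) ∈ J') := by
  set s := aeval (MvPolynomial.X 0 + MvPolynomial.X 1 : P2 R) (g : R[X]) with hs
  set D := aeval (MvPolynomial.X 0 : P2 R) (g : R[X]) * aeval (MvPolynomial.X 1 : P2 R) (g : R[X]) - s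
    with hDdef
  have hcoD : ∀ a b, co D a b = (g : R[X]).coeff a * (g : R[X]).coeff b -
      ((a + b).choose a : R) * (g : R[X]).coeff (a + b) := by
    intro a b
    rw [hDdef, co_sub, co_prod, hs, co_sum]
  have hDJ : D ∈ J.map (algebraMap R (P2 R)) := by
    rw [mem_P2_iff]; intro a b; rw [hcoD]; exact hD a b
  have hval := δ_mul_sum g
  rw [← hs] at hval
  have hunit : IsUnit s := g.isUnit.map _
  obtain ⟨t, ht⟩ := hunit.exists_left_inv
  have h1 : ((δ g : (P2 R)ˣ) : P2 R) - 1 = t * D := by
    rw [hDdef, ← hval]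
    calc ((δ g : (P2 R)ˣ) : P2 R) - 1 = (t * s) * (((δ g : (P2 R)ˣ) : P2 R) - 1) := by rw [ht, one_mul]
      _ = _ := by ring
  have hJ1 : ((δ g : (P2 R)ˣ) : P2 R) - 1 ∈ J.map (algebraMap R (P2 R)) := by
    rw [h1]; exact Ideal.mul_mem_left _ _ hDJ
  have hs1 : (g : R[X]) - 1 ∈ K.map (algebraMap R R[X]) := by
    rw [Polynomial.algebraMap_eq, Ideal.mem_map_C_iff]
    intro n
    rcases Nat.eq_zero_or_pos n with hn | hn
    · subst hn; simp [hg0]
    · rw [coeff_sub, coeff_one, if_neg hn.ne', sub_zero]; exact hgK n hn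
  have hs2 : s - 1 ∈ K.map (algebraMap R (P2 R)) := by
    have := map_C_le (aeval (MvPolynomial.X 0 + MvPolynomial.X 1 : P2 R) : R[X] →ₐ[R] P2 R) K hs1
    rwa [map_sub, map_one, ← hs] at this
  have h2 : (((δ g : (P2 R)ˣ) : P2 R) - 1) - D = -((((δ g : (P2 R)ˣ) : P2 R) - 1) * (s - 1)) := by
    rw [hDdef, ← hval]; ring
  refine ⟨(mem_P2_iff _ _).1 hJ1, fun a b => ?_⟩
  rw [← hcoD, ← co_sub]
  refine (mem_P2_iff J' _).1 ?_ a b
  rw [h2]
  refine neg_mem (Ideal.map_mono hJK ?_)
  rw [Ideal.map_mul]
  exact Ideal.mul_mem_mul hJ1 hs2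

/-- coefficients of a product of two elements `≡ 1 mod J`, mod `J' ⊇ J * J` -/
lemma co_mul_linear (J J' : Ideal R) (hJJ : J * J ≤ J') (u v : P2 R)
    (hu : ∀ a b, co (u - 1) a b ∈ J) (hv : ∀ a b, co (v - 1) a b ∈ J) :
    (∀ a b, co (u * v - 1) a b - (co (u - 1) a b + co (v - 1) a b) ∈ J') ∧
    ((u - 1) * (v - 1) ∈ J.map (algebraMap R (P2 R)) ∧
      (∀ a b, co (u * v - 1) a b ∈ J)) := by
  have hu' := (mem_P2_iff J _).2 hu
  have hv' := (mem_P2_iff J _).2 hv
  have e : u * v - 1 = (u - 1) + (v - 1) + (u - 1) * (v - 1) := by ring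
  refine ⟨fun a b => ?_, Ideal.mul_mem_left _ _ hv', fun a b => ?_⟩
  · rw [e, co_add, co_add, add_sub_cancel_left]
    refine (mem_P2_iff J' _).1 ?_ a b
    refine Ideal.map_mono hJJ ?_
    rw [Ideal.map_mul]
    exact Ideal.mul_mem_mul hu' hv'
  · refine (mem_P2_iff J _).1 ?_ a b
    rw [e]
    exact add_mem (add_mem hu' hv') (Ideal.mul_mem_left _ _ hv')

end Cocycle

section Step

variable (p : ℕ) [hp : Fact p.Prime] {R : Type u} [CommRing R] [CharP R p]

/-- truncated exponential of `b X^Q` (coefficient function) -/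
noncomputable def texp (b : R) (Q : ℕ) : R[X] :=
  ∑ i ∈ Finset.range p, C (Ring.inverse (i.factorial : R) * b ^ i) * X ^ (Q * i)

omit hp [CharP R p] in
lemma coeff_texp (b : R) {Q : ℕ} (hQ : 0 < Q) (A : ℕ) :
    (texp p b Q).coeff A =
      if Q ∣ A ∧ A / Q < p then Ring.inverse ((A / Q).factorial : R) * b ^ (A / Q) else 0 := by
  rw [texp, finsetSum_coeff]
  simp only [coeff_C_mul_X_pow]
  by_cases h : Q ∣ A
  · obtain ⟨i, rfl⟩ := h
    rw [Nat.mul_div_cancel_left _ hQ]
    simp only [Nat.mul_right_inj hQ.ne']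
    rw [Finset.sum_ite_eq]
    simp [Finset.mem_range]
  · rw [if_neg (fun hh => h hh.1)]
    exact Finset.sum_eq_zero (fun i _ => if_neg (fun hh => h ⟨i, hh⟩))

include hp in
lemma fact_unit {i : ℕ} (hi : i < p) : IsUnit (i.factorial : R) :=
  natCast_isUnit p (fun h => by rw [Nat.Prime.dvd_factorial hp.out] at h; omega)

include hp in
lemma inv_fact_mul {i j : ℕ} (h : i + j < p) :
    Ring.inverse (i.factorial : R) * Ring.inverse (j.factorial : R) =
      ((i + j).choose i : R) * Ring.inverse ((i + j).factorial : R) := by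
  have hi : IsUnit (i.factorial : R) := fact_unit p (by omega)
  have hj : IsUnit (j.factorial : R) := fact_unit p (by omega)
  have hij : IsUnit ((i + j).factorial : R) := fact_unit p h
  have e : (((i + j).choose i : R) * i.factorial) * j.factorial = ((i + j).factorial : R) := by
    rw [← Nat.cast_mul, ← Nat.cast_mul, Nat.choose_symm_add, Nat.add_choose_mul_factorial_mul_factorial]
  apply hij.mul_left_cancel
  rw [mul_left_comm _ ((i + j).choose i : R), Ring.mul_inverse_cancel _ hij, ← e, mul_one]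
  calc ((i + j).choose i : R) * i.factorial * j.factorial *
        (Ring.inverse (i.factorial : R) * Ring.inverse (j.factorial : R))
      = ((i + j).choose i : R) * ((i.factorial : R) * Ring.inverse (i.factorial : R)) *
          ((j.factorial : R) * Ring.inverse (j.factorial : R)) := by ring
    _ = _ := by rw [Ring.mul_inverse_cancel _ hi, Ring.mul_inverse_cancel _ hj, mul_one, mul_one]

include hp in
/-- The first order coboundary of the truncated exponential is `O(b^p)`, homogeneous of degree
`pQ` up to `O(b^(p+1))`. -/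
lemma texp_D (b : R) (w : ℕ) (J J' : Ideal R) (hb : b ^ p ∈ J) (hb' : b ^ (p + 1) ∈ J') (a a' : ℕ) :
    ((texp p b (p ^ w)).coeff a * (texp p b (p ^ w)).coeff a' -
        ((a + a').choose a : R) * (texp p b (p ^ w)).coeff (a + a') ∈ J) ∧
      (a + a' ≠ p ^ (w + 1) → (texp p b (p ^ w)).coeff a * (texp p b (p ^ w)).coeff a' -
        ((a + a').choose a : R) * (texp p b (p ^ w)).coeff (a + a') ∈ J') := by
  have hQ : 0 < p ^ w := pow_pos hp.out.pos w
  rw [coeff_texp p b hQ, coeff_texp p b hQ, coeff_texp p b hQ]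
  by_cases hsum : p ^ w ∣ a + a'
  swap
  · rw [if_neg (fun h => hsum h.1) (c := p ^ w ∣ a + a' ∧ _), mul_zero, sub_zero]
    by_cases ha : p ^ w ∣ a
    · rw [if_neg (fun h => hsum (dvd_add ha h.1)) (c := p ^ w ∣ a' ∧ _), mul_zero]
      exact ⟨zero_mem _, fun _ => zero_mem _⟩
    · rw [if_neg (fun h => ha h.1), zero_mul]
      exact ⟨zero_mem _, fun _ => zero_mem _⟩
  by_cases ha : p ^ w ∣ a
  swap
  · obtain ⟨l, hl⟩ := hsum
    have : ((a + a').choose a : R) = 0 := by
      rw [hl, mul_comm, choose_q_mul p w l a, if_neg ha]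
    rw [this, zero_mul, sub_zero, if_neg (fun h => ha h.1), zero_mul]
    exact ⟨zero_mem _, fun _ => zero_mem _⟩
  obtain ⟨i, rfl⟩ := ha
  obtain ⟨j, rfl⟩ : p ^ w ∣ a' := (Nat.dvd_add_right (dvd_mul_right _ _)).1 hsum
  have ec : (((p ^ w * i + p ^ w * j).choose (p ^ w * i) : ℕ) : R) = ((i + j).choose i : R) := by
    rw [show p ^ w * i + p ^ w * j = (i + j) * p ^ w by ring, choose_q_mul p w,
      if_pos (dvd_mul_right _ _), Nat.mul_div_cancel_left _ hQ]
  rw [ec, ← mul_add, Nat.mul_div_cancel_left _ hQ, Nat.mul_div_cancel_left _ hQ,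
    Nat.mul_div_cancel_left _ hQ]
  simp only [dvd_mul_right, true_and]
  rcases Nat.lt_or_ge (i + j) p with h | h
  · rw [if_pos (show i < p by omega), if_pos (show j < p by omega), if_pos h, mul_mul_mul_comm,
      inv_fact_mul p h, ← pow_add, mul_assoc, sub_self]
    exact ⟨zero_mem _, fun _ => zero_mem _⟩
  rw [if_neg (Nat.not_lt.2 h) (c := i + j < p), mul_zero, sub_zero]
  have hmul : ∀ I : Ideal R, ∀ n, n ≤ i + j → b ^ n ∈ I →
      ((if i < p then Ring.inverse (i.factorial : R) * b ^ i else 0) *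
        if j < p then Ring.inverse (j.factorial : R) * b ^ j else 0) ∈ I := by
    intro I n hn hI
    split_ifs
    · rw [mul_mul_mul_comm, ← pow_add, show i + j = n + (i + j - n) by omega, pow_add]
      exact Ideal.mul_mem_left _ _ (Ideal.mul_mem_right _ _ hI)
    all_goals simp
  refine ⟨hmul J p h hb, fun hne => hmul J' (p + 1) ?_ hb'⟩
  rw [pow_succ] at hne
  rcases eq_or_lt_of_le h with h' | h'
  · exact absurd (by rw [← h']) hne
  · omega

include hp in
/-- The correction in degree `n`. -/
lemma exists_correction (J J' K : Ideal R) (hJJ : J * J ≤ J') (hJK : J * K ≤ J') (hJleK : J ≤ K)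
    (hnil : ∀ x ∈ K, IsNilpotent x) (hroot : ∀ a ∈ J, ∃ b ∈ K, b ^ p = a)
    (hpow : ∀ b ∈ K, b ^ p ∈ J) (η : ℕ → ℕ → R) (hη : ∀ a b, η a b ∈ J) (n : ℕ) :
    ∃ g : (R[X])ˣ, (g : R[X]).coeff 0 = 1 ∧ (∀ a b, co ((δ g : (P2 R)ˣ) - 1 : P2 R) a b ∈ J) ∧
      ∀ a b, 0 < a → 0 < b → a = des p (a + b) →
        co ((δ g : (P2 R)ˣ) - 1 : P2 R) a b + (if a + b = n then η a b else 0) ∈ J' := by
  by_cases hn : n < 2
  · refine ⟨1, by simp, fun a b => by simp [co], fun a b ha hb _ => ?_⟩
    rw [if_neg (by omega)]; simp [co]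
  obtain ⟨m, u, hu, rfl⟩ := Nat.exists_eq_pow_mul_and_not_dvd (n := n) (by omega) p hp.out.ne_one
  -- make a unit out of a polynomial
  have mk : ∀ G : R[X], G.coeff 0 = 1 → (∀ k, 0 < k → G.coeff k ∈ K) →
      ∃ g : (R[X])ˣ, (g : R[X]) = G := by
    intro G h0 hk
    have : IsUnit G := Polynomial.isUnit_iff_coeff_isUnit_isNilpotent.2
      ⟨h0 ▸ isUnit_one, fun k hk' => hnil _ (hk k (Nat.pos_of_ne_zero hk'))⟩
    exact ⟨this.unit, rfl⟩
  by_cases hu1 : u = 1
  · -- `n = p ^ (w + 1)` : truncated exponential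
    subst hu1
    obtain ⟨w, rfl⟩ : ∃ w, m = w + 1 := ⟨m - 1, by
      rcases Nat.eq_zero_or_pos m with h | h
      · subst h; simp at hn
      · omega⟩
    have hQ : 0 < p ^ w := pow_pos hp.out.pos w
    obtain ⟨b, hbK, hb⟩ := hroot _ (hη (p ^ w) (p ^ w * (p - 1)))
    have hbJ := hpow b hbK
    have hb' : b ^ (p + 1) ∈ J' := by
      rw [pow_succ]; exact hJK (Ideal.mul_mem_mul hbJ hbK)
    have c0 : (texp p b (p ^ w)).coeff 0 = 1 := by
      simp [coeff_texp p b hQ, hp.out.pos]
    have cK : ∀ k, 0 < k → (texp p b (p ^ w)).coeff k ∈ K := by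
      intro k hk
      rw [coeff_texp p b hQ]
      split_ifs with h
      · obtain ⟨⟨i, rfl⟩, hi⟩ := h
        rw [Nat.mul_div_cancel_left _ hQ]
        refine Ideal.mul_mem_left _ _ (Ideal.pow_mem_of_mem _ hbK _ ?_)
        rcases Nat.eq_zero_or_pos i with h0 | h0
        · subst h0; simp at hk
        · exact h0
      · exact zero_mem _
    obtain ⟨g, hg⟩ := mk _ c0 cK
    obtain ⟨l1, l2⟩ := δ_linear J J' K hJK g (hg ▸ c0) (hg ▸ cK)
      (fun a a' => hg ▸ (texp_D p b w J J' hbJ hb' a a').1)
    refine ⟨g, hg ▸ c0, l1, fun a a' ha ha' hdes => ?_⟩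
    rw [mul_one]
    by_cases hN : a + a' = p ^ (w + 1)
    · rw [if_pos hN]
      rw [hN, show p ^ (w + 1) = p ^ (w + 1) * 1 by rw [mul_one],
        des_pow_mul p _ 1 hu, if_pos rfl, Nat.add_sub_cancel] at hdes
      subst hdes
      obtain rfl : a' = p ^ w * (p - 1) := by
        rw [Nat.mul_sub, mul_one, ← pow_succ]; omega
      have hlt : p - 1 < p := Nat.sub_lt hp.out.pos one_pos
      have h1p := hp.out.one_lt
      have hD := l2 (p ^ w) (p ^ w * (p - 1))
      rw [hg, hN, coeff_texp p b hQ, coeff_texp p b hQ, coeff_texp p b hQ, Nat.div_self hQ,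
        Nat.mul_div_cancel_left _ hQ,
        show p ^ (w + 1) / p ^ w = p by rw [pow_succ, Nat.mul_div_cancel_left _ hQ]] at hD
      simp only [dvd_mul_right, dvd_refl, lt_irrefl, h1p, hlt, and_self, and_false, if_true, if_false,
        mul_zero, sub_zero, Nat.factorial_one, Nat.cast_one, Ring.inverse_one, one_mul, pow_one] at hD
      have hw : ((p - 1).factorial : R) = -1 := by
        have := congrArg (ZMod.castHom dvd_rfl R) (ZMod.wilsons_lemma p)
        rw [map_natCast, map_neg, map_one] at this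
        exact this
      rw [hw, show (-1 : R) = ((-1 : Rˣ) : R) by simp, Ring.inverse_unit] at hD
      rw [← mul_assoc, mul_comm b _, mul_assoc, ← pow_succ', show p - 1 + 1 = p by omega, hb] at hD
      simpa using hD
    · rw [if_neg hN, add_zero]
      have hD := l2 a a'
      rw [hg] at hD
      simpa using add_mem hD ((texp_D p b w J J' hbJ hb' a a').2 hN)
  · -- `n = p ^ m * u` with `u > 1` prime to `p`
    obtain ⟨uu, huu⟩ := natCast_isUnit p (R := R) hu
    have hu0 : u ≠ 0 := fun h => hu (h ▸ dvd_zero p)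
    have hpm : 0 < p ^ m := pow_pos hp.out.pos m
    have hN0 : p ^ m * u ≠ 0 := Nat.mul_ne_zero hpm.ne' hu0
    set lam : R := (↑uu⁻¹ : R) * η (p ^ m) (p ^ m * u - p ^ m) with hlam
    have hlamJ : lam ∈ J := Ideal.mul_mem_left _ _ (hη _ _)
    set G : R[X] := 1 + C lam * X ^ (p ^ m * u) with hG
    have hGc : ∀ k, G.coeff k = (if k = 0 then 1 else 0) + if k = p ^ m * u then lam else 0 := by
      intro k; rw [hG, coeff_add, coeff_one, coeff_C_mul_X_pow]
    have c0 : G.coeff 0 = 1 := by rw [hGc, if_pos rfl, if_neg hN0.symm, add_zero]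
    have cJ : ∀ k, 0 < k → G.coeff k = if k = p ^ m * u then lam else 0 := by
      intro k hk; rw [hGc, if_neg hk.ne', zero_add]
    have cJ' : ∀ k, 0 < k → G.coeff k ∈ J := by
      intro k hk; rw [cJ k hk]; split_ifs
      · exact hlamJ
      · exact zero_mem _
    have cK : ∀ k, 0 < k → G.coeff k ∈ K := fun k hk => hJleK (cJ' k hk)
    have hD : ∀ a a', G.coeff a * G.coeff a' - ((a + a').choose a : R) * G.coeff (a + a') ∈ J := by
      intro a a'
      rcases Nat.eq_zero_or_pos a with h | h
      · subst h; simp [c0]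
      rcases Nat.eq_zero_or_pos a' with h' | h'
      · subst h'; simp [c0]
      exact sub_mem (Ideal.mul_mem_left _ _ (cJ' _ h')) (Ideal.mul_mem_left _ _ (cJ' _ (by omega)))
    obtain ⟨g, hg⟩ := mk _ c0 cK
    obtain ⟨l1, l2⟩ := δ_linear J J' K hJK g (hg ▸ c0) (hg ▸ cK) (hg ▸ hD)
    refine ⟨g, hg ▸ c0, l1, fun a a' ha ha' hdes => ?_⟩
    have h2 := l2 a a'
    rw [hg] at h2
    have hsq : G.coeff a * G.coeff a' ∈ J' := hJJ (Ideal.mul_mem_mul (cJ' _ ha) (cJ' _ ha'))
    have key : -(((a + a').choose a : R) * G.coeff (a + a')) +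
        (if a + a' = p ^ m * u then η a a' else 0) = 0 := by
      rw [cJ _ (by omega)]
      split_ifs with hN
      · rw [hN, des_pow_mul p m u hu, if_neg hu1] at hdes
        subst hdes
        rw [show a' = p ^ m * u - p ^ m by omega, Nat.add_sub_cancel' (Nat.le_mul_of_pos_right _ (Nat.pos_of_ne_zero hu0)), mul_comm (p ^ m) u,
          choose_q p m u, ← huu, hlam, mul_comm (p ^ m) u, ← mul_assoc, Units.mul_inv, one_mul]
        ring
      · simp
    have := add_mem h2 hsq
    rw [← add_zero (co _ _ _ - _ + _), ← key] at this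
    convert this using 1
    ring

include hp in
/-- One step of the successive approximation. -/
lemma step (J J' K : Ideal R) (hJJ : J * J ≤ J') (hJK : J * K ≤ J') (hJleK : J ≤ K)
    (hnil : ∀ x ∈ K, IsNilpotent x) (hroot : ∀ a ∈ J, ∃ b ∈ K, b ^ p = a)
    (hpow : ∀ b ∈ K, b ^ p ∈ J) (h : (P2 R)ˣ) (hh : Good (h : P2 R))
    (hJ : ∀ a b, co ((h : P2 R) - 1) a b ∈ J) :
    ∃ g : (R[X])ˣ, Good ((h * δ g : (P2 R)ˣ) : P2 R) ∧
      ∀ a b, co (((h * δ g : (P2 R)ˣ) : P2 R) - 1) a b ∈ J' := by
  classical
  set η : ℕ → ℕ → R := fun a b => co ((h : P2 R) - 1) a b with hη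
  have hprod : ∀ s : Finset ℕ, ∃ g : (R[X])ˣ, (g : R[X]).coeff 0 = 1 ∧
      (∀ a b, co ((δ g : (P2 R)ˣ) - 1 : P2 R) a b ∈ J) ∧
      ∀ a b, 0 < a → 0 < b → a = des p (a + b) →
        co ((δ g : (P2 R)ˣ) - 1 : P2 R) a b + (if a + b ∈ s then η a b else 0) ∈ J' := by
    intro s
    induction s using Finset.induction_on with
    | empty => exact ⟨1, by simp, fun a b => by simp [co], fun a b _ _ _ => by simp [co]⟩
    | insert n s hns ih =>
      obtain ⟨g, g0, g1, g2⟩ := ih
      obtain ⟨g', g0', g1', g2'⟩ := exists_correction p J J' K hJJ hJK hJleK hnil hroot hpow η hJ n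
      have e : ((δ (g * g') : (P2 R)ˣ) : P2 R) = ((δ g : (P2 R)ˣ) : P2 R) * ((δ g' : (P2 R)ˣ) : P2 R) := by
        rw [map_mul, Units.val_mul]
      obtain ⟨l1, -, l3⟩ := co_mul_linear J J' hJJ _ _ g1 g1'
      refine ⟨g * g', by rw [Units.val_mul, mul_coeff_zero, g0, g0', one_mul], e ▸ l3, ?_⟩
      intro a b ha hb hd
      rw [e]
      have := add_mem (add_mem (l1 a b) (g2 a b ha hb hd)) (g2' a b ha hb hd)
      convert this using 1
      by_cases hN : a + b = n
      · rw [if_pos (Finset.mem_insert.2 (Or.inl hN)), if_neg (hN ▸ hns), if_pos hN]; ring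
      · by_cases hs : a + b ∈ s
        · rw [if_pos (Finset.mem_insert.2 (Or.inr hs)), if_pos hs, if_neg hN]; ring
        · rw [if_neg (by simp [hN, hs]), if_neg hs, if_neg hN]; ring
  obtain ⟨g, g0, g1, g2⟩ := hprod (Finset.range (((h : P2 R) - 1).totalDegree + 1))
  have hgood : Good ((h * δ g : (P2 R)ˣ) : P2 R) := by
    rw [Units.val_mul]; exact hh.mul (good_δ g g0)
  obtain ⟨l1, -, l3⟩ := co_mul_linear J J' hJJ _ _ hJ g1
  rw [← Units.val_mul] at l1 l3
  refine ⟨g, hgood, ?_⟩
  generalize hH : ((h * δ g : (P2 R)ˣ) : P2 R) = H at hgood l1 l3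
  set π := Ideal.Quotient.mk J'
  have hζ : ∀ a b, π (co (H - 1) a b) = 0 := by
    apply rigid p π (fun a b => π (co (H - 1) a b))
    · intro a b
      have := co_swap (H - 1) a b
      rw [map_sub, map_one, hgood.symm] at this
      simp only [this]
    · intro a
      have := co_norm (H - 1) a
      rw [map_sub, map_one, hgood.norm] at this
      simp only [← this, sub_self]
      simp [co]
    · intro i j k hi hj hk
      rw [← map_natCast π, ← map_natCast π, ← map_mul, ← map_mul, Ideal.Quotient.eq,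
        ← co3_x_yz, ← co3_xy_z]
      have hHJ : H - 1 ∈ J.map (algebraMap R (P2 R)) := (mem_P2_iff J _).2 l3
      have c := hgood.coc
      have := mem_P3 J' (sub3 (MvPolynomial.X 0) (MvPolynomial.X 1 + MvPolynomial.X 2) (H - 1) +
          sub3 (MvPolynomial.X 1) (MvPolynomial.X 2) (H - 1) -
          (sub3 (MvPolynomial.X 0 + MvPolynomial.X 1) (MvPolynomial.X 2) (H - 1) +
          sub3 (MvPolynomial.X 0) (MvPolynomial.X 1) (H - 1))) ?_ i j k
      · simp only [co3, MvPolynomial.coeff_sub, MvPolynomial.coeff_add] at this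
        rw [show MvPolynomial.coeff (e3 i j k) (sub3 (MvPolynomial.X 1) (MvPolynomial.X 2) (H - 1)) = 0
            from co3_yz (H - 1) i j k hi,
          show MvPolynomial.coeff (e3 i j k) (sub3 (MvPolynomial.X 0) (MvPolynomial.X 1) (H - 1)) = 0
            from co3_xy (H - 1) i j k hk, add_zero, add_zero] at this
        exact this
      · refine Ideal.map_mono hJJ ?_
        rw [Ideal.map_mul]
        have m := fun (u v : P3 R) => map_C_le (sub3 u v) J hHJ
        have := sub_mem (Ideal.mul_mem_mul (m (MvPolynomial.X 0 + MvPolynomial.X 1) (MvPolynomial.X 2))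
            (m (MvPolynomial.X 0) (MvPolynomial.X 1)))
          (Ideal.mul_mem_mul (m (MvPolynomial.X 1) (MvPolynomial.X 2))
            (m (MvPolynomial.X 0) (MvPolynomial.X 1 + MvPolynomial.X 2)))
        convert this using 1
        simp only [map_sub, map_one]
        linear_combination c
    · intro a b ha hb hd
      rw [Ideal.Quotient.eq_zero_iff_mem]
      have := add_mem (l1 a b) (g2 a b ha hb hd)
      by_cases hs : a + b ∈ Finset.range (((h : P2 R) - 1).totalDegree + 1)
      · rw [if_pos hs] at this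
        convert this using 1
        ring
      · rw [if_neg hs, add_zero] at this
        have h0 : η a b = 0 := by
          by_contra hne
          apply hs
          rw [Finset.mem_range]
          have := MvPolynomial.le_totalDegree (MvPolynomial.mem_support_iff.2 hne)
          have e : (e2 a b).sum (fun _ e => e) = a + b := by
            rw [Finsupp.sum_fintype _ _ (fun _ => rfl)]; simp [e2, Fin.sum_univ_two]
          omega
        convert this using 1
        simp only [hη] at h0
        rw [h0]; ring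
  intro a b
  exact (Ideal.Quotient.eq_zero_iff_mem).1 (hζ a b)

end Step

/-- Over a commutative ring R of prime characteristic p whose Frobenius is surjective, every commutative
extension of the additive group by the multiplicative group that has a scheme-theoretic section
splits. In the coordinates given by such a section the extension is the product G_m × G_a with law
(t,x)(t',x') = (tt'h(x,x'), x+x') for an invertible polynomial h with h(X,0) = 1, h symmetric and
h(Y,Z)h(X,Y+Z) = h(X+Y,Z)h(X,Y), and a group-theoretic section is an invertible polynomial f with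
f(X+Y) = f(X)f(Y)h(X,Y); the row states the existence of such f for every such h. -/
theorem result (p : ℕ) [Fact p.Prime] (R : Type u)
    [CommRing R] [CharP R p] (hF : Function.Surjective (frobenius R p))
    (h : MvPolynomial (Fin 2) R) (hu : IsUnit h)
    (h0 : MvPolynomial.aeval ![(MvPolynomial.X 0 : MvPolynomial (Fin 2) R), 0] h = 1)
    (hsymm : MvPolynomial.aeval ![(MvPolynomial.X 1 : MvPolynomial (Fin 2) R), MvPolynomial.X 0] h = h)
    (hcoc : MvPolynomial.aeval ![(MvPolynomial.X 1 : MvPolynomial (Fin 3) R), MvPolynomial.X 2] h *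
        MvPolynomial.aeval ![MvPolynomial.X 0, MvPolynomial.X 1 + MvPolynomial.X 2] h =
      MvPolynomial.aeval ![MvPolynomial.X 0 + MvPolynomial.X 1, MvPolynomial.X 2] h *
        MvPolynomial.aeval ![MvPolynomial.X 0, MvPolynomial.X 1] h) :
    ∃ f : Polynomial R, IsUnit f ∧
      Polynomial.aeval (MvPolynomial.X 0 + MvPolynomial.X 1 : MvPolynomial (Fin 2) R) f =
        Polynomial.aeval (MvPolynomial.X 0 : MvPolynomial (Fin 2) R) f *
          Polynomial.aeval (MvPolynomial.X 1 : MvPolynomial (Fin 2) R) f * h := by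
  classical
  have : ExpChar R p := ExpChar.prime (Fact.out)
  set hU : (P2 R)ˣ := hu.unit with hhU
  have hgood : Good (hU : P2 R) := ⟨h0, hsymm, hcoc⟩
  -- the coefficients of `h - 1`
  set e : Fin (h - 1).support.card ≃ (h - 1).support := (h - 1).support.equivFin.symm
  set a : Fin (h - 1).support.card → R := fun i => (h - 1).coeff (e i).1 with ha
  have hanil : ∀ i, IsNilpotent (a i) := by
    intro i
    have h1 := MvPolynomial.isUnit_iff.1 hu
    by_cases he : (e i).1 = 0
    · exfalso
      have hc : MvPolynomial.constantCoeff h = 1 := by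
        have := congrArg MvPolynomial.constantCoeff h0
        have e2 : ∀ f : P2 R, MvPolynomial.constantCoeff
            (MvPolynomial.aeval ![(MvPolynomial.X 0 : P2 R), 0] f) = MvPolynomial.constantCoeff f := by
          intro f
          induction f using MvPolynomial.induction_on with
          | C c => simp
          | add f g hf hg => simp [hf, hg]
          | mul_X f k hf =>
            rw [map_mul, MvPolynomial.aeval_X, map_mul, map_mul, MvPolynomial.constantCoeff_X, mul_zero]
            fin_cases k <;> simp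
        rwa [e2, map_one] at this
      have := MvPolynomial.mem_support_iff.1 (e i).2
      rw [he, MvPolynomial.coeff_sub, MvPolynomial.coeff_zero_one,
        ← MvPolynomial.constantCoeff_eq, hc, sub_self] at this
      exact this rfl
    · simp only [ha, MvPolynomial.coeff_sub, MvPolynomial.coeff_one, if_neg (Ne.symm he), sub_zero]
      exact h1.2 _ he
  choose N hN using hanil
  -- compatible roots
  choose root hroot using hF
  let c : ℕ → Fin (h - 1).support.card → R :=
    fun k => Nat.rec a (fun _ f i => root (f i)) k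
  set L : ℕ → Ideal R := fun k => Ideal.span (Set.range (c k)) with hL
  have hmap : ∀ k, (L (k + 1)).map (frobenius R p) = L k := by
    intro k
    simp only [hL, Ideal.map_span, ← Set.range_comp]
    congr 1
    ext x
    simp [c, hroot]
  have hLp : ∀ k, L k ≤ L (k + 1) ^ p := by
    intro k x hx
    rw [← hmap k, Ideal.mem_map_iff_of_surjective _ (fun y => ⟨root y, hroot y⟩)] at hx
    obtain ⟨y, hy, rfl⟩ := hx
    rw [frobenius_def]
    exact Ideal.pow_mem_pow hy p
  set T := ∑ i, N i with hT
  have hcpow : ∀ k i, c k i ^ (p ^ k) = a i := by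
    intro k
    induction k with
    | zero => intro i; simp [c]
    | succ k ih =>
      intro i
      have e : c (k + 1) i ^ p = c k i := hroot (c k i)
      rw [pow_succ', pow_mul, e, ih]
  -- high powers vanish
  have hzero : ∀ k, L k ^ ((h - 1).support.card * (p ^ k * T) + 1) = ⊥ := by
    intro k
    have key : ∀ s : Finset (Fin (h - 1).support.card),
        Ideal.span (c k '' ↑s) ^ (s.card * (p ^ k * T) + 1) = ⊥ := by
      intro s
      induction s using Finset.induction_on with
      | empty => simp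
      | insert i s his ih =>
        rw [Finset.coe_insert, Set.image_insert_eq, Ideal.span_insert, Finset.card_insert_of_notMem his,
          show (s.card + 1) * (p ^ k * T) + 1 = p ^ k * T + (s.card * (p ^ k * T) + 1) by ring]
        rw [eq_bot_iff]
        refine Ideal.sup_pow_add_le_pow_sup_pow.trans ?_
        rw [ih, sup_bot_eq, Ideal.span_singleton_pow, ← eq_bot_iff, Ideal.span_singleton_eq_bot,
          pow_mul, hcpow]
        exact pow_eq_zero_of_le (Finset.single_le_sum (fun j _ => Nat.zero_le _) (Finset.mem_univ i)) (hN i)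
    have := key Finset.univ
    simpa [hL] using this
  have hLnil : ∀ k n, 0 < n → ∀ x ∈ L k ^ n, IsNilpotent x := by
    intro k n hn x hx
    refine ⟨(h - 1).support.card * (p ^ k * T) + 1, ?_⟩
    have := Ideal.pow_mem_pow (Ideal.pow_le_self hn.ne' hx) ((h - 1).support.card * (p ^ k * T) + 1)
    rwa [hzero k, Ideal.mem_bot] at this
  -- number of steps
  set M := (h - 1).support.card * T + 1 with hM
  set k₀ := p * M with hk₀
  have hbern : ∀ k, p ^ k * (p + k) ≤ (p + 1) ^ k * p := by
    intro k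
    induction k with
    | zero => simp
    | succ k ih =>
      calc p ^ (k + 1) * (p + (k + 1)) ≤ p ^ k * (p + k) * (p + 1) := by
            rw [pow_succ, mul_assoc, mul_assoc]
            exact Nat.mul_le_mul_left _ (by
              have : (p + k) * (p + 1) = p * (p + (k + 1)) + k := by ring
              omega)
        _ ≤ (p + 1) ^ k * p * (p + 1) := Nat.mul_le_mul_right _ ih
        _ = (p + 1) ^ (k + 1) * p := by ring
  have hk₀' : L k₀ ^ ((p + 1) ^ k₀) = ⊥ := by
    rw [eq_bot_iff, ← hzero k₀]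
    apply Ideal.pow_le_pow_right
    have hpk : 1 ≤ p ^ k₀ := Nat.one_le_pow _ _ (Fact.out : p.Prime).pos
    have hM' : p ^ k₀ * M ≤ (p + 1) ^ k₀ := by
      have := hbern k₀
      have h2 : p ^ k₀ * M * p ≤ (p + 1) ^ k₀ * p :=
        le_trans (by rw [hk₀, mul_assoc]; exact Nat.mul_le_mul_left _ (by rw [mul_comm]; omega)) this
      exact Nat.le_of_mul_le_mul_right h2 (Fact.out : p.Prime).pos
    rw [hM, mul_add, mul_one] at hM'
    rw [show (h - 1).support.card * (p ^ k₀ * T) = p ^ k₀ * ((h - 1).support.card * T) by ring]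
    omega
  have hL0 : L 0 = Ideal.span (Set.range a) := rfl
  clear_value L
  clear hzero hcpow
  -- descending induction
  have main : ∀ m k, k + m = k₀ → ∀ H : (P2 R)ˣ, Good (H : P2 R) →
      (∀ x y, co ((H : P2 R) - 1) x y ∈ L k ^ ((p + 1) ^ k)) → ∃ g : (R[X])ˣ, H * δ g = 1 := by
    intro m
    induction m with
    | zero =>
      intro k hk H _ hH
      rw [add_zero] at hk
      subst hk
      refine ⟨1, ?_⟩
      rw [map_one, mul_one]
      ext1
      rw [Units.val_one, ← sub_eq_zero]
      ext e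
      rw [← e2_eta e]
      have := hH (e 0) (e 1)
      rw [hk₀', Ideal.mem_bot] at this
      exact this
    | succ m ih =>
      intro k hk H hHg hH
      set n := (p + 1) ^ k with hn
      have hn0 : 0 < n := pow_pos (Nat.succ_pos p) k
      have hle : L k ^ n ≤ L (k + 1) ^ (p * n) := by
        rw [pow_mul]; exact Ideal.pow_right_mono (hLp k) n
      have hpn : n ≤ p * n := Nat.le_mul_of_pos_left n (Fact.out : p.Prime).pos
      obtain ⟨g, hg1, hg2⟩ := step p (L k ^ n) (L (k + 1) ^ ((p + 1) ^ (k + 1))) (L (k + 1) ^ n)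
        (by
          refine (Ideal.mul_mono hle hle).trans ?_
          rw [← pow_add]
          apply Ideal.pow_le_pow_right
          rw [pow_succ, ← hn, mul_add, mul_one, mul_comm n p]
          omega)
        (by
          refine (Ideal.mul_mono hle le_rfl).trans ?_
          rw [← pow_add]
          apply Ideal.pow_le_pow_right
          rw [pow_succ, ← hn, mul_add, mul_one, mul_comm n p])
        (hle.trans (Ideal.pow_le_pow_right hpn))
        (hLnil (k + 1) n hn0)
        (fun x hx => by
          rw [← hmap k, ← Ideal.map_pow,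
            Ideal.mem_map_iff_of_surjective _ (fun y => ⟨root y, hroot y⟩)] at hx
          exact hx)
        (fun x hx => by
          rw [← hmap k, ← Ideal.map_pow]
          exact Ideal.mem_map_of_mem _ hx) H hHg hH
      obtain ⟨g', hg'⟩ := ih (k + 1) (by omega) _ hg1 hg2
      exact ⟨g * g', by rw [map_mul, ← mul_assoc]; exact hg'⟩
  obtain ⟨g, hg⟩ := main k₀ 0 (zero_add _) hU hgood (fun x y => by
    rw [pow_zero, pow_one]
    by_cases hs : e2 x y ∈ (h - 1).support
    · rw [hL0]
      exact Ideal.subset_span ⟨e.symm ⟨_, hs⟩, by simp [ha, co, hhU]⟩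
    · have : co (h - 1) x y = 0 := MvPolynomial.notMem_support_iff.1 hs
      rw [show (hU : P2 R) = h from rfl, this]
      exact zero_mem _)
  refine ⟨(g : R[X]), g.isUnit, ?_⟩
  have h2 := δ_mul_sum g
  have h3 : h * ((δ g : (P2 R)ˣ) : P2 R) = 1 := congrArg Units.val hg
  calc aeval (MvPolynomial.X 0 + MvPolynomial.X 1 : MvPolynomial (Fin 2) R) (g : R[X])
      = h * (((δ g : (P2 R)ˣ) : P2 R) *
          aeval (MvPolynomial.X 0 + MvPolynomial.X 1 : P2 R) (g : R[X])) := by
        rw [← mul_assoc, h3, one_mul]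
    _ = _ := by rw [h2, mul_comm]

end Groth.Agent.S13380
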