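import Groth.Statements.S13387
import Mathlib
-- import your own Groth.Agent.* helpers here

set_option autoImplicit false
universe u
open ZeroCyc

namespace Groth.Agent.S13387

theorem mul_mem_of_points {A M : Type u} [CommRing A] [AddCommGroup M] [Module A M] (D : ℕ) (P : Ideal A) [P.IsPrime]
    (s : A) (hs : s ∉ P) (a : Fin D → A) (ha : ∀ i j, i ≠ j → a i - a j ∉ P) (i : Fin D) (x y : M) :
    ∃ c ∉ P, c • (DividedPowerAlgebra.dp A (D - i) x * DividedPowerAlgebra.dp A i y) ∈
      Submodule.span A (Set.range (DividedPowerAlgebra.dp A D : M → DividedPowerAlgebra A M)) := by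
  classical
  let N := Submodule.span A (Set.range (DividedPowerAlgebra.dp A D : M → DividedPowerAlgebra A M))
  let V : Matrix (Fin D) (Fin D) A := Matrix.vandermonde a
  let E : Fin D → DividedPowerAlgebra A M := fun i =>
    s ^ (D - (i : ℕ)) • (DividedPowerAlgebra.dp A (D - i) x * DividedPowerAlgebra.dp A i y)
  have hexp : ∀ l, ∑ i, V l i • E i ∈ N := by
    intro l
    have h : DividedPowerAlgebra.dp A D (s • x + a l • y) =
        (∑ i, V l i • E i) + a l ^ D • DividedPowerAlgebra.dp A D y := by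
      rw [DividedPowerAlgebra.dp_add, Finset.Nat.sum_antidiagonal_eq_sum_range_succ_mk, ← Finset.sum_range_reflect,
        ← Fin.sum_univ_eq_sum_range, Fin.sum_univ_castSucc]
      congr 1
      · refine Finset.sum_congr rfl fun i _ => ?_
        have hi := i.2
        simp only [E, V, Matrix.vandermonde_apply, Fin.val_castSucc]
        rw [show D.succ - 1 - (i : ℕ) = D - i by omega, Nat.sub_sub_self hi.le, DividedPowerAlgebra.dp_smul,
          DividedPowerAlgebra.dp_smul, mul_smul_comm, smul_mul_assoc]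
      · simp [DividedPowerAlgebra.dp_smul, DividedPowerAlgebra.dp_zero]
    rw [eq_sub_of_add_eq h.symm]
    exact N.sub_mem (Submodule.subset_span ⟨_, rfl⟩) (N.smul_mem _ (Submodule.subset_span ⟨_, rfl⟩))
  refine ⟨V.det * s ^ (D - (i : ℕ)), fun hc => ?_, ?_⟩
  · rcases Ideal.IsPrime.mem_or_mem ‹_› hc with h | h
    · rw [Matrix.det_vandermonde, Ideal.IsPrime.prod_mem_iff] at h
      obtain ⟨u, -, h⟩ := h
      rw [Ideal.IsPrime.prod_mem_iff] at h
      obtain ⟨w, hw, h⟩ := h
      exact ha w u (Finset.mem_Ioi.1 hw).ne' h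
    · exact hs (Ideal.IsPrime.mem_of_pow_mem ‹_› _ h)
  · rw [mul_smul]
    show V.det • E i ∈ N
    have h : V.det • E i = ∑ l, V.adjugate i l • ∑ j, V l j • E j := by
      simp only [Finset.smul_sum, smul_smul]
      rw [Finset.sum_comm]
      simp only [← Finset.sum_smul, ← Matrix.mul_apply, Matrix.adjugate_mul, Matrix.smul_apply, Matrix.one_apply]
      simp
    rw [h]
    exact N.sum_mem fun l _ => N.smul_mem _ (hexp l)

theorem exists_points {A : Type u} [CommRing A] (P : Ideal A) [P.IsPrime] (d : ℕ)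
    (h : (d : Cardinal) ≤ Cardinal.mk P.ResidueField) :
    ∃ s ∉ P, ∃ a : Fin d → A, ∀ i j, i ≠ j → a i - a j ∉ P := by
  classical
  have h' : Cardinal.mk (ULift.{u} (Fin d)) ≤ Cardinal.mk P.ResidueField := by simpa using h
  obtain ⟨f⟩ := (Cardinal.le_def _ _).1 h'
  haveI : IsFractionRing (A ⧸ P) P.ResidueField := inferInstance
  have hden : ∀ i : Fin d, ∃ (a s : A), s ∉ P ∧ f ⟨i⟩ * algebraMap A P.ResidueField s = algebraMap A P.ResidueField a := by
    intro i
    obtain ⟨x, y, hy, hxy⟩ := IsFractionRing.div_surjective (A ⧸ P) (f ⟨i⟩)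
    obtain ⟨a, rfl⟩ := Ideal.Quotient.mk_surjective x
    obtain ⟨s, rfl⟩ := Ideal.Quotient.mk_surjective y
    have hs : algebraMap (A ⧸ P) P.ResidueField (Ideal.Quotient.mk P s) ≠ 0 :=
      (map_ne_zero_iff _ (IsFractionRing.injective (A ⧸ P) P.ResidueField)).2 (nonZeroDivisors.ne_zero hy)
    refine ⟨a, s, fun hsP => nonZeroDivisors.ne_zero hy (Ideal.Quotient.eq_zero_iff_mem.2 hsP), ?_⟩
    rw [← hxy, IsScalarTower.algebraMap_apply A (A ⧸ P) P.ResidueField, IsScalarTower.algebraMap_apply A (A ⧸ P) P.ResidueField]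
    exact div_mul_cancel₀ _ hs
  choose a s hs hf using hden
  refine ⟨∏ i, s i, fun hc => ?_, fun i => a i * ∏ j ∈ Finset.univ.erase i, s j, fun i j hij hm => hij ?_⟩
  · obtain ⟨i, -, hi⟩ := Ideal.IsPrime.prod_mem_iff.1 hc
    exact hs i hi
  · have hz := (Ideal.algebraMap_residueField_eq_zero (I := P)).2 hm
    have e : ∀ i, algebraMap A P.ResidueField (a i * ∏ j ∈ Finset.univ.erase i, s j) =
        f ⟨i⟩ * algebraMap A P.ResidueField (∏ j, s j) := fun i => by
      rw [← Finset.mul_prod_erase Finset.univ s (Finset.mem_univ i), map_mul, map_mul, ← mul_assoc, hf]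
    rw [map_sub, e, e, ← sub_mul, mul_eq_zero, Ideal.algebraMap_residueField_eq_zero] at hz
    rcases hz with hz | hz
    · exact congrArg ULift.down (f.injective (sub_eq_zero.1 hz))
    · obtain ⟨l, -, hl⟩ := Ideal.IsPrime.prod_mem_iff.1 hz
      exact absurd hl (hs l)

theorem aux {A M : Type u} [CommRing A] [AddCommGroup M] [Module A M] (P : Ideal A) [P.IsPrime]
    (s : A) (hs : s ∉ P) (d : ℕ) (a : Fin d → A) (ha : ∀ i j, i ≠ j → a i - a j ∉ P)
    (n : ℕ) (k : Fin n → ℕ) (m : Fin n → M) (hk : ∑ i, k i ≤ d) :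
    ∃ c ∉ P, c • (∏ i, DividedPowerAlgebra.dp A (k i) (m i)) ∈
      Submodule.span A (Set.range (DividedPowerAlgebra.dp A (∑ i, k i) : M → DividedPowerAlgebra A M)) := by
  classical
  induction n with
  | zero =>
    refine ⟨1, Ideal.IsPrime.one_notMem ‹_›, ?_⟩
    rw [one_smul]
    exact Submodule.subset_span ⟨0, by simp [DividedPowerAlgebra.dp_zero]⟩
  | succ n ih =>
    rw [Fin.sum_univ_succ] at hk ⊢
    obtain ⟨c, hc, hmem⟩ := ih (fun i => k i.succ) (fun i => m i.succ) (by omega)
    rw [Fin.prod_univ_succ]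
    set p := k 0
    set q := ∑ i : Fin n, k i.succ
    obtain ⟨g, hgs⟩ : ∃ g : M → A, ∀ y, g y ∉ P ∧ g y • (DividedPowerAlgebra.dp A p (m 0) * DividedPowerAlgebra.dp A q y) ∈
        Submodule.span A (Set.range (DividedPowerAlgebra.dp A (p + q) : M → DividedPowerAlgebra A M)) := by
      have : ∀ y : M, ∃ c, c ∉ P ∧ c • (DividedPowerAlgebra.dp A p (m 0) * DividedPowerAlgebra.dp A q y) ∈
          Submodule.span A (Set.range (DividedPowerAlgebra.dp A (p + q) : M → DividedPowerAlgebra A M)) := by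
        intro y
        rcases Nat.eq_zero_or_pos p with hp | hp
        · refine ⟨1, Ideal.IsPrime.one_notMem ‹_›, ?_⟩
          rw [one_smul, hp, DividedPowerAlgebra.dp_zero, one_mul, zero_add]
          exact Submodule.subset_span ⟨_, rfl⟩
        · have := mul_mem_of_points (M := M) (p + q) P s hs (fun i => a (Fin.castLE hk i))
            (fun i j hij => ha _ _ fun e => hij (Fin.castLE_injective hk e)) ⟨q, by omega⟩ (m 0) y
          simpa only [Nat.add_sub_cancel] using this
      choose g hg1 hg2 using this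
      exact ⟨g, fun y => ⟨hg1 y, hg2 y⟩⟩
    have key : ∀ z ∈ Submodule.span A (Set.range (DividedPowerAlgebra.dp A q : M → DividedPowerAlgebra A M)),
        ∃ c ∉ P, c • (DividedPowerAlgebra.dp A p (m 0) * z) ∈
          Submodule.span A (Set.range (DividedPowerAlgebra.dp A (p + q) : M → DividedPowerAlgebra A M)) := by
      intro z hz
      refine Submodule.span_induction ?_ ⟨1, Ideal.IsPrime.one_notMem ‹_›, by simp⟩ ?_ ?_ hz
      · rintro _ ⟨y, rfl⟩
        exact ⟨g y, (hgs y).1, (hgs y).2⟩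
      · rintro u v _ _ ⟨c₁, h1, h1'⟩ ⟨c₂, h2, h2'⟩
        refine ⟨c₁ * c₂, fun h => (Ideal.IsPrime.mem_or_mem ‹_› h).elim h1 h2, ?_⟩
        rw [mul_add, smul_add]
        refine Submodule.add_mem _ ?_ (by rw [mul_smul]; exact Submodule.smul_mem _ _ h2')
        rw [mul_comm c₁, mul_smul]
        exact Submodule.smul_mem _ _ h1'
      · rintro r u _ ⟨c₁, h1, h1'⟩
        refine ⟨c₁, h1, ?_⟩
        rw [mul_smul_comm, smul_comm]
        exact Submodule.smul_mem _ _ h1'
    obtain ⟨c', hc', hmem'⟩ := key _ hmem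
    refine ⟨c' * c, fun h => (Ideal.IsPrime.mem_or_mem ‹_› h).elim hc' hc, ?_⟩
    rw [mul_smul, ← mul_smul_comm]
    exact hmem'

/-- Let A be a commutative ring, M an A-module and d ≥ 0. Suppose that at each prime p of A either k(p)
has d or more elements, or the localisation M_p is a cyclic A_p-module. Then the degree-d piece
Γ^d_A(M) of the divided power algebra Γ_A(M) is spanned over A by the d-th divided powers γ_d(m), m
∈ M. -/
theorem result {A M : Type u} [CommRing A] [AddCommGroup M]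
    [Module A M] (d : ℕ)
    (h : ∀ p : PrimeSpectrum A, (d : Cardinal) ≤ Cardinal.mk p.asIdeal.ResidueField ∨
      ∃ x : LocalizedModule p.asIdeal.primeCompl M, Submodule.span (Localization.AtPrime p.asIdeal) {x} = ⊤) :
    Submodule.span A (Set.range (DividedPowerAlgebra.dp A d : M → DividedPowerAlgebra A M)) =
      PolLaw.gammaPiece A M d := by
  classical
  refine le_antisymm (Submodule.span_le.2 ?_) (Submodule.span_le.2 ?_)
  · rintro _ ⟨m, rfl⟩
    exact Submodule.subset_span ⟨1, fun _ => d, fun _ => m, by simp, by simp⟩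
  rintro _ ⟨n, k, m, hk, rfl⟩
  set z := ∏ i, DividedPowerAlgebra.dp A (k i) (m i) with hz
  set N := Submodule.span A (Set.range (DividedPowerAlgebra.dp A d : M → DividedPowerAlgebra A M))
  let J : Ideal A := N.comap (LinearMap.toSpanSingleton A _ z)
  suffices hJ : J = ⊤ by
    have h1 : (1 : A) ∈ J := hJ ▸ trivial
    simpa [J] using h1
  by_contra hne
  obtain ⟨P, hP, hJP⟩ := Ideal.exists_le_maximal J hne
  have := hP.isPrime
  suffices hc : ∃ c ∉ P, c • z ∈ N by
    obtain ⟨c, hc, hcz⟩ := hc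
    exact hc (hJP (by simpa [J] using hcz))
  rcases h ⟨P, inferInstance⟩ with hcard | ⟨x, hx⟩
  · obtain ⟨s, hs, a, ha⟩ := exists_points P d hcard
    have := aux P s hs d a ha n k m hk.le
    rwa [hk] at this
  · obtain ⟨x₀, s₀, rfl⟩ : ∃ (x₀ : M) (s₀ : P.primeCompl), LocalizedModule.mk x₀ s₀ = x := by
      induction x using LocalizedModule.induction_on with
      | _ a b => exact ⟨a, b, rfl⟩
    have hgen : ∀ y : M, ∃ b c : A, c ∉ P ∧ c • y = b • x₀ := by
      intro y
      have hy : LocalizedModule.mk y 1 ∈ Submodule.span (Localization.AtPrime P) {LocalizedModule.mk x₀ s₀} := by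
        rw [hx]; trivial
      obtain ⟨r, hr⟩ := Submodule.mem_span_singleton.1 hy
      obtain ⟨b, t, rfl⟩ := IsLocalization.exists_mk'_eq P.primeCompl r
      rw [← Localization.mk_eq_mk', LocalizedModule.mk_smul_mk, LocalizedModule.mk_eq] at hr
      obtain ⟨u, hu⟩ := hr
      refine ⟨u * b, u * (t * s₀), (u * (t * s₀)).2, ?_⟩
      simp only [Submonoid.smul_def, OneMemClass.coe_one, one_smul, Submonoid.coe_mul] at hu
      simp only [mul_smul] at hu ⊢
      exact hu.symm
    choose b c hc hy using fun i => hgen (m i)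
    refine ⟨∏ i, c i ^ k i, fun hm => ?_, ?_⟩
    · obtain ⟨i, -, hi⟩ := Ideal.IsPrime.prod_mem_iff.1 hm
      exact hc i (Ideal.IsPrime.mem_of_pow_mem ‹_› _ hi)
    · have e : (∏ i, c i ^ k i) • z = (∏ i, b i ^ k i) • ((Nat.multinomial Finset.univ k) • DividedPowerAlgebra.dp A d x₀) := by
        rw [hz, nsmul_eq_mul, ← hk, ← DividedPowerAlgebra.prod_dp (R := A), Algebra.smul_def, Algebra.smul_def, map_prod,
          map_prod, ← Finset.prod_mul_distrib, ← Finset.prod_mul_distrib]
        refine Finset.prod_congr rfl fun i _ => ?_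
        rw [← Algebra.smul_def, ← Algebra.smul_def, ← DividedPowerAlgebra.dp_smul, ← DividedPowerAlgebra.dp_smul, hy]
      rw [e]
      exact N.smul_mem _ (nsmul_mem (show DividedPowerAlgebra.dp A d x₀ ∈ N from Submodule.subset_span ⟨_, rfl⟩) _)

end Groth.Agent.S13387
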