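import Groth.Statements.S13388
import Mathlib.RingTheory.DividedPowerAlgebra.Init
import Mathlib.RingTheory.LocalRing.Module
import Mathlib.Algebra.Polynomial.BigOperators
import Mathlib.RingTheory.MvPolynomial.Ideal
import Mathlib.Tactic.LinearCombination

set_option autoImplicit false
universe u
open ZeroCyc
open scoped TensorProduct

namespace Groth.Agent.S13388

open Polynomial Finset

section esymm

variable {R : Type*} [CommRing R]

/-- The elementary symmetric functions of a family, as coefficients of a product of linear factors. -/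
noncomputable def esym {ι : Type*} (s : Finset ι) (u : ι → R) (n : ℕ) : R :=
  (∏ j ∈ s, (1 + C (u j) * X)).coeff n

theorem esym_zero {ι : Type*} (s : Finset ι) (u : ι → R) : esym s u 0 = 1 := by
  simp [esym, Polynomial.coeff_zero_eq_eval_zero, Polynomial.eval_prod]

theorem esym_add {ι : Type*} (s : Finset ι) (u v : ι → R) (huv : ∀ j, u j * v j = 0) (n : ℕ) :
    esym s (u + v) n = ∑ p ∈ Finset.antidiagonal n, esym s u p.1 * esym s v p.2 := by
  unfold esym
  rw [← Polynomial.coeff_mul, ← Finset.prod_mul_distrib]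
  congr 1
  refine Finset.prod_congr rfl fun j _ => ?_
  rw [Pi.add_apply, map_add]
  have h : C (u j) * C (v j) = (0 : R[X]) := by rw [← map_mul, huv, map_zero]
  linear_combination (-(X : R[X]) ^ 2) * h

theorem esym_smul {ι : Type*} (s : Finset ι) (u : ι → R) (c : R) (n : ℕ) :
    esym s (c • u) n = c ^ n * esym s u n := by
  unfold esym
  rw [show (∏ j ∈ s, (1 + C ((c • u) j) * X)) = (∏ j ∈ s, (1 + C (u j) * X)).comp (C c * X) by
    rw [Polynomial.prod_comp]
    refine Finset.prod_congr rfl fun j _ => ?_
    simp only [Pi.smul_apply, smul_eq_mul, add_comp, one_comp, mul_comp, C_comp, X_comp, map_mul]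
    ring, Polynomial.comp_C_mul_X_coeff, mul_comm]

theorem esym_card {ι : Type*} (s : Finset ι) (u : ι → R) : esym s u s.card = ∏ j ∈ s, u j := by
  unfold esym
  rw [← mul_one s.card, Polynomial.coeff_prod_of_natDegree_le _ _ _ fun j _ => ?_]
  · simp [Polynomial.coeff_one]
  · exact (natDegree_add_le _ _).trans (max_le (by simp) ((natDegree_C_mul_le _ _).trans natDegree_X_le))

theorem esym_insert {ι : Type*} [DecidableEq ι] {s : Finset ι} {j : ι} (hj : j ∉ s) (u : ι → R)
    (n : ℕ) : esym (insert j s) u (n + 1) = esym s u (n + 1) + u j * esym s u n := by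
  unfold esym
  rw [Finset.prod_insert hj, add_mul, one_mul, coeff_add, mul_assoc, coeff_C_mul, coeff_X_mul]

theorem esym_mul {ι : Type*} (s : Finset ι) (u : ι → R) (hu : ∀ j, u j * u j = 0) (n m : ℕ) :
    esym s u n * esym s u m = (n + m).choose n • esym s u (n + m) := by
  classical
  induction s using Finset.induction_on generalizing n m with
  | empty =>
    rcases n with _ | n <;> rcases m with _ | m <;> simp [esym, Polynomial.coeff_one]
  | @insert j s hj ih =>
    rcases n with _ | n
    · simp [esym_zero]
    rcases m with _ | m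
    · simp [esym_zero]
    rw [esym_insert hj, esym_insert hj, show n + 1 + (m + 1) = (n + m + 1) + 1 by omega,
      esym_insert hj]
    have h1 := ih (n + 1) (m + 1)
    have h2 := ih n (m + 1)
    have h3 := ih (n + 1) m
    simp only [nsmul_eq_mul, show n + 1 + (m + 1) = (n + m + 1) + 1 by omega,
      show n + (m + 1) = n + m + 1 by omega, show n + 1 + m = n + m + 1 by omega] at h1 h2 h3 ⊢
    rw [Nat.choose_succ_succ (n + m + 1) n] at h1 ⊢
    simp only [Nat.succ_eq_add_one, Nat.cast_add] at h1 ⊢
    linear_combination h1 + u j * h2 + u j * h3 + esym s u n * esym s u m * hu j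

theorem esym_map {ι S : Type*} [CommRing S] (f : R →+* S) (s : Finset ι) (u : ι → R) (n : ℕ) :
    esym s (f ∘ u) n = f (esym s u n) := by
  simp [esym, ← Polynomial.coeff_map, Polynomial.map_prod]

/-- The coefficients of a product of binary linear factors. -/
theorem coeff_prod_binary {ι : Type*} (s : Finset ι) (x y : ι → R) (hxy : ∀ j, x j * y j = 0)
    (q : ℕ) (hq : q ≤ s.card) :
    (∏ j ∈ s, (C (x j) * X + C (y j))).coeff q = esym s x q * esym s y (s.card - q) := by
  rw [← esym_card, show (fun j => C (x j) * X + C (y j)) = (X : R[X]) • (C ∘ x) + C ∘ y by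
    funext j; show _ = X * C (x j) + C (y j); rw [mul_comm],
    esym_add _ _ _ (fun j => by
      show X * C (x j) * C (y j) = 0
      rw [mul_assoc, ← map_mul, hxy, map_zero, mul_zero])]
  simp only [esym_smul, esym_map, Polynomial.finsetSum_coeff, mul_assoc, ← map_mul]
  rw [Finset.sum_eq_single (q, s.card - q)]
  · rw [mul_comm, Polynomial.coeff_C_mul_X_pow, if_pos rfl]
  · rintro ⟨a, b⟩ hab hne
    rw [mul_comm, Polynomial.coeff_C_mul_X_pow, if_neg]
    rintro rfl
    exact hne (Prod.ext rfl (by simp at hab ⊢; omega))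
  · intro h
    exact absurd (Finset.mem_antidiagonal.2 (by simp; omega)) h

end esymm

section target

variable (k : Type u) [Field k] (d : ℕ)

/-- The ideal of products of two variables at the same site. -/
noncomputable def siteIdeal : Ideal (MvPolynomial (Fin d × Fin 2) k) :=
  Ideal.span (Set.range fun t : Fin d × Fin 2 × Fin 2 =>
    MvPolynomial.X (t.1, t.2.1) * MvPolynomial.X (t.1, t.2.2))

/-- The truncated ring with `d` sites and two variables at each site. -/
abbrev Sites : Type u := MvPolynomial (Fin d × Fin 2) k ⧸ siteIdeal k d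

/-- The variable at a site. -/
noncomputable def siteVar (j : Fin d) (a : Fin 2) : Sites k d :=
  Ideal.Quotient.mk _ (MvPolynomial.X (j, a))

theorem siteVar_mul (j : Fin d) (a b : Fin 2) : siteVar k d j a * siteVar k d j b = 0 := by
  rw [siteVar, siteVar, ← map_mul, Ideal.Quotient.eq_zero_iff_mem]
  exact Ideal.subset_span ⟨(j, a, b), rfl⟩

/-- The multilinear monomial of a choice of variables. -/
noncomputable def choiceExp (χ : Fin d → Fin 2) : Fin d × Fin 2 →₀ ℕ :=
  ∑ j, Finsupp.single (j, χ j) 1

theorem choiceExp_apply (χ : Fin d → Fin 2) (j : Fin d) (a : Fin 2) :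
    choiceExp d χ (j, a) = if χ j = a then 1 else 0 := by
  rw [choiceExp, Finsupp.finsetSum_apply, Finset.sum_eq_single j] <;>
    simp +contextual [Finsupp.single_apply, Prod.ext_iff, eq_comm]

theorem choiceExp_injective : Function.Injective (choiceExp d) := fun χ χ' h => funext fun j => by
  have := DFunLike.congr_fun h (j, χ j)
  rw [choiceExp_apply, choiceExp_apply, if_pos rfl] at this
  by_contra hne
  rw [if_neg (Ne.symm hne)] at this
  exact one_ne_zero this

/-- The functional on polynomials given by a linear form at each site. -/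
noncomputable def formFun (ℓ : Fin d → Fin 2 → k) : MvPolynomial (Fin d × Fin 2) k →ₗ[k] k :=
  ∑ χ : Fin d → Fin 2, (∏ j, ℓ j (χ j)) • MvPolynomial.lcoeff k (choiceExp d χ)

theorem formFun_eq_zero (ℓ : Fin d → Fin 2 → k) {p : MvPolynomial (Fin d × Fin 2) k}
    (hp : p ∈ siteIdeal k d) : formFun k d ℓ p = 0 := by
  suffices h : ∀ χ, MvPolynomial.coeff (choiceExp d χ) p = 0 by
    simp [formFun, h, MvPolynomial.lcoeff_apply]
  intro χ
  by_contra hne
  have hp' : p ∈ Ideal.span ((fun e => MvPolynomial.monomial e (1 : k)) ''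
      Set.range (fun t : Fin d × Fin 2 × Fin 2 =>
        Finsupp.single (t.1, t.2.1) 1 + Finsupp.single (t.1, t.2.2) 1)) := by
    rw [← Set.range_comp]
    refine (congrArg (fun f => p ∈ Ideal.span (Set.range f)) ?_).mpr hp
    funext t
    simp [MvPolynomial.X, MvPolynomial.monomial_mul]
  obtain ⟨_, ⟨⟨j, a, b⟩, rfl⟩, hle⟩ :=
    MvPolynomial.mem_ideal_span_monomial_image.1 hp' _ (MvPolynomial.mem_support_iff.2 hne)
  have h0 := hle (j, a)
  have h1 := hle (j, b)
  rw [choiceExp_apply] at h0 h1
  by_cases hab : a = b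
  · subst hab; simp at h0; split_ifs at h0 <;> omega
  · simp [hab, Ne.symm hab] at h0 h1
    split_ifs at h0 h1 <;> omega

/-- The functional on the truncated ring. -/
noncomputable def siteFun (ℓ : Fin d → Fin 2 → k) : Sites k d →ₗ[k] k :=
  (Submodule.liftQ ((siteIdeal k d).restrictScalars k) (formFun k d ℓ)
    (fun _ hp => formFun_eq_zero k d ℓ hp)).comp
    (Submodule.Quotient.restrictScalarsEquiv k (siteIdeal k d)).symm.toLinearMap

theorem siteFun_mk (ℓ : Fin d → Fin 2 → k) (p : MvPolynomial (Fin d × Fin 2) k) :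
    siteFun k d ℓ (Ideal.Quotient.mk _ p) = formFun k d ℓ p := rfl

theorem siteFun_prod (ℓ : Fin d → Fin 2 → k) (χ : Fin d → Fin 2) (c : k) :
    siteFun k d ℓ ((∏ j, siteVar k d j (χ j)) * algebraMap k (Sites k d) c) =
      (∏ j, ℓ j (χ j)) * c := by
  classical
  simp only [siteVar, ← map_prod]
  rw [show algebraMap k (Sites k d) c = Ideal.Quotient.mk _ (MvPolynomial.C c) from rfl, ← map_mul,
    siteFun_mk]
  have : (∏ j, MvPolynomial.X (R := k) (j, χ j)) * MvPolynomial.C c =
      MvPolynomial.monomial (choiceExp d χ) c := by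
    rw [choiceExp, MvPolynomial.monomial_sum_index, mul_comm]
    rfl
  rw [this, formFun, LinearMap.sum_apply, Finset.sum_eq_single χ]
  · simp [MvPolynomial.lcoeff_apply]
  · intro χ' _ hne
    simp [MvPolynomial.lcoeff_apply, (choiceExp_injective d).eq_iff, Ne.symm hne]
  · simp

theorem siteFun_coeff_prod (ℓ : Fin d → Fin 2 → k) (w : Fin 2 → k[X]) (q : ℕ) :
    siteFun k d ℓ ((∏ j, ∑ a, C (siteVar k d j a) * (w a).map (algebraMap k (Sites k d))).coeff q) =
      (∏ j, ∑ a, C (ℓ j a) * w a).coeff q := by
  classical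
  have hL : (∏ j, ∑ a, C (siteVar k d j a) * (w a).map (algebraMap k (Sites k d))) =
      ∑ χ : Fin d → Fin 2, ∏ j, C (siteVar k d j (χ j)) * (w (χ j)).map (algebraMap k (Sites k d)) :=
    Fintype.prod_sum fun (j : Fin d) (a : Fin 2) =>
      C (siteVar k d j a) * (w a).map (algebraMap k (Sites k d))
  rw [hL, Fintype.prod_sum (fun j a => C (ℓ j a) * w a)]
  simp only [Finset.prod_mul_distrib, Polynomial.finsetSum_coeff, ← map_prod,
    Polynomial.coeff_C_mul, map_sum]
  refine Finset.sum_congr rfl fun χ _ => ?_
  rw [← Polynomial.map_prod, Polynomial.coeff_map, siteFun_prod]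

end target


/-- Let A be a commutative ring, M a finitely generated A-module and d ≥ 0. If the degree-d piece
Γ^d_A(M) of Γ_A(M) is spanned over A by the divided powers γ_d(m), m ∈ M, then at each prime p of A
either k(p) has d or more elements, or the localisation M_p is a cyclic A_p-module. -/
theorem result {A M : Type u} [CommRing A] [AddCommGroup M]
    [Module A M] [Module.Finite A M] (d : ℕ)
    (h : Submodule.span A (Set.range (DividedPowerAlgebra.dp A d : M → DividedPowerAlgebra A M)) =
      PolLaw.gammaPiece A M d)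
    (p : PrimeSpectrum A) :
    (d : Cardinal) ≤ Cardinal.mk p.asIdeal.ResidueField ∨
      ∃ x : LocalizedModule p.asIdeal.primeCompl M, Submodule.span (Localization.AtPrime p.asIdeal) {x} = ⊤ := by
  classical
  let Ap := Localization.AtPrime p.asIdeal
  let k := p.asIdeal.ResidueField
  let Mp := LocalizedModule p.asIdeal.primeCompl M
  by_contra hcon
  push Not at hcon
  obtain ⟨hcard, hcyc⟩ := hcon
  have : Finite k := Cardinal.lt_aleph0_iff_finite.1 (hcard.trans Cardinal.natCast_lt_aleph0)
  have := Fintype.ofFinite k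
  have hq : Fintype.card k < d := by
    rw [Cardinal.mk_fintype, Nat.cast_lt] at hcard; exact hcard
  have : Module.Finite Ap Mp := Module.Finite.of_isLocalizedModule p.asIdeal.primeCompl
    (LocalizedModule.mkLinearMap p.asIdeal.primeCompl M)
  -- two elements independent modulo `p`
  let V := k ⊗[Ap] Mp
  let ι : M →ₗ[A] V := ((TensorProduct.mk Ap k Mp 1).restrictScalars A).comp
    (LocalizedModule.mkLinearMap p.asIdeal.primeCompl M)
  have htwo : ∃ m₀ m₁ : M, LinearIndependent k ![ι m₀, ι m₁] := by
    by_contra! hall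
    have hsmall : ∃ m₀ : M, ∀ m, ι m ∈ Submodule.span k {ι m₀} := by
      by_cases h0 : ∀ m, ι m = 0
      · exact ⟨0, fun m => by simp [h0]⟩
      push Not at h0
      obtain ⟨m₀, hm₀⟩ := h0
      refine ⟨m₀, fun m => by_contra fun hm => hall m₀ m ?_⟩
      rw [LinearIndependent.pair_iff' hm₀]
      exact fun c hc => hm (Submodule.mem_span_singleton.2 ⟨c, hc⟩)
    obtain ⟨m₀, hm₀⟩ := hsmall
    apply hcyc (LocalizedModule.mkLinearMap p.asIdeal.primeCompl M m₀)
    rw [← IsLocalRing.map_tensorProduct_mk_eq_top, eq_top_iff]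
    intro z _
    let N := (Submodule.span Ap {LocalizedModule.mkLinearMap p.asIdeal.primeCompl M m₀}).map
      (TensorProduct.mk Ap k Mp 1)
    show z ∈ N
    have hk : ∀ (c : k), ∀ v ∈ N, c • v ∈ N := fun c v hv => by
      obtain ⟨t, rfl⟩ := IsLocalRing.residue_surjective c
      have := N.smul_mem t hv
      rwa [← algebraMap_smul k t v] at this
    have h1 : ∀ x : Mp, TensorProduct.mk Ap k Mp 1 x ∈ N := fun x => by
      induction x using LocalizedModule.induction_on with
      | h m s =>
        have hx : LocalizedModule.mk m s =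
            (Localization.mk 1 s : Ap) • LocalizedModule.mkLinearMap p.asIdeal.primeCompl M m := by
          rw [LocalizedModule.mkLinearMap_apply, LocalizedModule.mk_smul_mk, one_smul, mul_one]
        rw [hx, map_smul]
        refine N.smul_mem _ ?_
        obtain ⟨c', hc'⟩ := Submodule.mem_span_singleton.1 (hm₀ m)
        show ι m ∈ N
        rw [← hc']
        exact hk c' _ (Submodule.mem_map_of_mem (Submodule.mem_span_singleton_self _))
    induction z using TensorProduct.induction_on with
    | zero => exact zero_mem _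
    | add a b ha hb => exact add_mem (ha trivial) (hb trivial)
    | tmul c x =>
      have := hk c _ (h1 x)
      rwa [TensorProduct.mk_apply, TensorProduct.smul_tmul', smul_eq_mul, mul_one] at this
  obtain ⟨m₀, m₁, hli⟩ := htwo
  obtain ⟨θ, hθ⟩ := LinearMap.exists_extend (p := Submodule.span k (Set.range ![ι m₀, ι m₁]))
    (((Pi.basisFun k (Fin 2)).equivFun.symm.toLinearMap).comp
      ((Module.Basis.span hli).equivFun.toLinearMap))
  let g : M →ₗ[A] (Fin 2 → k) := (θ.restrictScalars A).comp ι
  have hg : ∀ i, θ (![ι m₀, ι m₁] i) = Pi.single i 1 := fun i => by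
    have h := LinearMap.congr_fun hθ (Module.Basis.span hli i)
    rw [LinearMap.comp_apply, Submodule.subtype_apply, Module.Basis.span_apply] at h
    rw [h]
    simp [Finsupp.single_eq_pi_single]
  -- the map to the truncated ring
  let u : M →ₗ[A] (Fin d → Sites k d) := LinearMap.pi fun j => ∑ a,
    ((Algebra.linearMap k (Sites k d)).smulRight (siteVar k d j a)).restrictScalars A ∘ₗ
      LinearMap.proj a ∘ₗ g
  have hu : ∀ m j, u m j = ∑ a, algebraMap k (Sites k d) (g m a) * siteVar k d j a := fun m j => by
    simp [u]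
  have huu : ∀ m m' j, u m j * u m' j = 0 := fun m m' j => by
    simp only [hu, Finset.sum_mul, Finset.mul_sum]
    exact Finset.sum_eq_zero fun a _ => Finset.sum_eq_zero fun b _ => by
      rw [mul_mul_mul_comm, siteVar_mul, mul_zero]
  let Φ : DividedPowerAlgebra A M →ₐ[A] Sites k d := DividedPowerAlgebra.lift'
    (f := fun nm => esym Finset.univ (u nm.2) nm.1)
    (fun m => esym_zero _ _)
    (fun n r m => by
      dsimp only
      rw [map_smul, show r • u m = (algebraMap A (Sites k d) r) • u m by
        funext j; rw [Pi.smul_apply, Pi.smul_apply, smul_eq_mul, ← Algebra.smul_def], esym_smul, Algebra.smul_def, map_pow])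
    (fun n q m => esym_mul _ _ (huu m m) _ _)
    (fun n v w => by
      dsimp only
      rw [map_add]
      exact esym_add _ _ _ (huu v w) _)
  -- linear forms through all rational lines
  let e := Fintype.equivFin k
  let ℓ : Fin d → Fin 2 → k := fun j =>
    if hj : j.1 < Fintype.card k then ![1, -e.symm ⟨j.1, hj⟩] else ![0, 1]
  have hvanish : ∀ a : Fin 2 → k, ∏ j, ∑ i, ℓ j i * a i = 0 := by
    intro a
    rw [Finset.prod_eq_zero_iff]
    by_cases hb : a 1 = 0
    · exact ⟨⟨_, hq⟩, Finset.mem_univ _, by simp [ℓ, Fin.sum_univ_two, hb]⟩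
    · refine ⟨⟨e (a 0 / a 1), (e (a 0 / a 1)).2.trans hq⟩, Finset.mem_univ _, ?_⟩
      simp [ℓ, Fin.sum_univ_two]
      rw [neg_mul, div_mul_cancel₀ _ hb, add_neg_cancel]
  let Λ := siteFun k d ℓ
  have hkill : ∀ z ∈ PolLaw.gammaPiece A M d, Λ (Φ z) = 0 := by
    rw [← h]
    intro z hz
    induction hz using Submodule.span_induction with
    | mem z hz =>
      obtain ⟨m, rfl⟩ := hz
      rw [DividedPowerAlgebra.lift'_apply_dp]
      rw [show esym Finset.univ (u m) d = ∏ j, u m j by
        simpa using esym_card (Finset.univ : Finset (Fin d)) (u m)]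
      have := siteFun_coeff_prod k d ℓ (fun a => Polynomial.C (g m a)) 0
      simp only [Polynomial.map_C, ← map_mul, ← map_sum, ← map_prod, Polynomial.coeff_C_zero] at this
      rw [hvanish] at this
      simpa only [Λ, hu, mul_comm] using this
    | zero => simp
    | add a b _ _ ha hb => rw [map_add, map_add, ha, hb, add_zero]
    | smul r a _ ha =>
      rw [map_smul, ← algebraMap_smul k r (Φ a), map_smul, ha, smul_zero]
  -- an element which is not killed
  let z := DividedPowerAlgebra.dp A (Fintype.card k) m₀ *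
    DividedPowerAlgebra.dp A (d - Fintype.card k) m₁
  have hz : z ∈ PolLaw.gammaPiece A M d :=
    Submodule.subset_span ⟨2, ![Fintype.card k, d - Fintype.card k], ![m₀, m₁],
      by simp [Fin.sum_univ_two]; omega, by simp [z, Fin.prod_univ_two]⟩
  have hg0 : g m₀ = Pi.single 0 1 := hg 0
  have hg1 : g m₁ = Pi.single 1 1 := hg 1
  have hu0 : u m₀ = fun j => siteVar k d j 0 := funext fun j => by
    simp [hu, hg0, Fin.sum_univ_two]
  have hu1 : u m₁ = fun j => siteVar k d j 1 := funext fun j => by
    simp [hu, hg1, Fin.sum_univ_two]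
  have h2 := siteFun_coeff_prod k d ℓ (![Polynomial.X, 1]) (Fintype.card k)
  simp only [Fin.sum_univ_two, Matrix.cons_val_zero, Matrix.cons_val_one, Polynomial.map_X,
    Polynomial.map_one, mul_one] at h2
  rw [coeff_prod_binary _ _ _ (fun j => siteVar_mul k d j 0 1) _ (by simpa using hq.le)] at h2
  have hone : (∏ j, (Polynomial.C (ℓ j 0) * Polynomial.X + Polynomial.C (ℓ j 1))).coeff
      (Fintype.card k) = 1 := by
    let s : Finset (Fin d) := Finset.univ.filter fun j => j.1 < Fintype.card k
    rw [← Finset.prod_mul_prod_compl s, Finset.prod_eq_one (s := sᶜ) (fun j hj => by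
      simp [s] at hj; simp [ℓ, Nat.not_lt.2 hj]), mul_one]
    have hs : s.card = Fintype.card k := by
      rw [show s = Finset.univ.map (Fin.castLEEmb hq.le) by
        ext j
        simp only [s, Finset.mem_filter, Finset.mem_univ, true_and, Finset.mem_map,
          Fin.coe_castLEEmb]
        exact ⟨fun h => ⟨⟨j, h⟩, rfl⟩, fun ⟨i, hi⟩ => hi ▸ i.2⟩]
      simp
    rw [← hs, ← mul_one s.card,
      Polynomial.coeff_prod_of_natDegree_le _ _ _ fun j _ => Polynomial.natDegree_linear_le]
    refine Finset.prod_eq_one fun j hj => ?_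
    simp [s] at hj
    simp [ℓ, hj]
  rw [hone] at h2
  have h3 := hkill z hz
  rw [map_mul, DividedPowerAlgebra.lift'_apply_dp, DividedPowerAlgebra.lift'_apply_dp, hu0, hu1] at h3
  simp only [Finset.card_univ, Fintype.card_fin] at h2
  exact one_ne_zero (h2.symm.trans h3)

end Groth.Agent.S13388
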