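import Groth.Statements.S13389
import Mathlib
-- import your own Groth.Agent.* helpers here

set_option autoImplicit false
universe u
open ZeroCyc

namespace Groth.Agent.S13389

theorem dp_mul_mem {A M : Type u} [CommRing A] [AddCommGroup M] [Module A M] (t : A) (p q : ℕ)
    (ht : ∀ j ≤ p + q, ∀ i < j, IsUnit (t ^ i - t ^ j)) (x y : M) :
    DividedPowerAlgebra.dp A p x * DividedPowerAlgebra.dp A q y ∈
      Submodule.span A (Set.range (DividedPowerAlgebra.dp A (p + q) : M → DividedPowerAlgebra A M)) := by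
  classical
  set D := p + q with hD
  let v : Fin (D + 1) → A := fun i => t ^ (i : ℕ)
  let V : Matrix (Fin (D + 1)) (Fin (D + 1)) A := Matrix.vandermonde v
  have hV : IsUnit V.det := by
    rw [Matrix.det_vandermonde, IsUnit.prod_iff]
    intro i _
    rw [IsUnit.prod_iff]
    intro j hj
    rw [← neg_sub]
    exact (ht j (Nat.lt_succ_iff.1 j.2) i (Fin.lt_def.1 (Finset.mem_Ioi.1 hj))).neg
  let E : Fin (D + 1) → DividedPowerAlgebra A M := fun i =>
    DividedPowerAlgebra.dp A (D - i) x * DividedPowerAlgebra.dp A i y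
  have hexp : ∀ l, DividedPowerAlgebra.dp A D (x + v l • y) = ∑ i, V l i • E i := by
    intro l
    rw [DividedPowerAlgebra.dp_add, Finset.Nat.sum_antidiagonal_eq_sum_range_succ_mk, ← Finset.sum_range_reflect,
      ← Fin.sum_univ_eq_sum_range]
    refine Finset.sum_congr rfl fun i _ => ?_
    rw [DividedPowerAlgebra.dp_smul, mul_smul_comm]
    simp only [Nat.add_sub_cancel, E, V, Matrix.vandermonde_apply]
    rw [show D.succ - 1 - (i : ℕ) = D - i by omega, Nat.sub_sub_self (Nat.lt_succ_iff.1 i.2)]
  have hE : ∀ i, E i = ∑ l, V⁻¹ i l • DividedPowerAlgebra.dp A D (x + v l • y) := by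
    intro i
    simp only [hexp, Finset.smul_sum, smul_smul]
    rw [Finset.sum_comm]
    simp only [← Finset.sum_smul, ← Matrix.mul_apply, Matrix.nonsing_inv_mul V hV, Matrix.one_apply, ite_smul,
      one_smul, zero_smul, Finset.sum_ite_eq, Finset.mem_univ, if_true]
  have h := hE ⟨q, by omega⟩
  simp only [E, hD, Nat.add_sub_cancel] at h
  rw [h]
  exact Submodule.sum_mem _ fun l _ => Submodule.smul_mem _ _ (Submodule.subset_span ⟨_, rfl⟩)

theorem aux {A M : Type u} [CommRing A] [AddCommGroup M] [Module A M] (t : A) (n : ℕ) (k : Fin n → ℕ) (m : Fin n → M)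
    (ht : ∀ j ≤ ∑ i, k i, ∀ i < j, IsUnit (t ^ i - t ^ j)) :
    ∏ i, DividedPowerAlgebra.dp A (k i) (m i) ∈
      Submodule.span A (Set.range (DividedPowerAlgebra.dp A (∑ i, k i) : M → DividedPowerAlgebra A M)) := by
  induction n with
  | zero =>
    refine Submodule.subset_span ⟨0, ?_⟩
    simp [DividedPowerAlgebra.dp_zero]
  | succ n ih =>
    rw [Fin.sum_univ_succ] at ht ⊢
    rw [Fin.prod_univ_succ]
    have hrest : ∏ i : Fin n, DividedPowerAlgebra.dp A (k i.succ) (m i.succ) ∈ Submodule.span A
        (Set.range (DividedPowerAlgebra.dp A (∑ i : Fin n, k i.succ) : M → DividedPowerAlgebra A M)) := by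
      exact ih (fun i => k i.succ) (fun i => m i.succ) fun j hj => ht j (by omega)
    refine Submodule.span_induction (p := fun z _ => DividedPowerAlgebra.dp A (k 0) (m 0) * z ∈ _) ?_ ?_ ?_ ?_ hrest
    · rintro _ ⟨y, rfl⟩
      exact dp_mul_mem t _ _ ht _ _
    · rw [mul_zero]; exact Submodule.zero_mem _
    · intro a b _ _ ha hb
      rw [mul_add]; exact Submodule.add_mem _ ha hb
    · intro c a _ ha
      rw [mul_smul_comm]; exact Submodule.smul_mem _ c ha

open Polynomial in
/-- Let P_d(T) = ∏_{0 ≤ i < j ≤ d} (T^i − T^j) − 1 ∈ ℤ[T]. If A is an algebra over ℤ[T]/(P_d), i.e.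
receives a ring homomorphism from it, then for every A-module M the degree-d piece Γ^d_A(M) of the
divided power algebra Γ_A(M) is spanned over A by the d-th divided powers γ_d(m), m ∈ M. (The
published statement adds that consequently every ring has a finite faithfully flat extension,
independent of M, over which this holds; that clause is not restated.) -/
theorem result {A M : Type u} [CommRing A] [AddCommGroup M]
    [Module A M] (d : ℕ)
    (φ : (ℤ[X] ⧸ Ideal.span {(∏ j ∈ Finset.range (d + 1), ∏ i ∈ Finset.range j,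
        ((X : ℤ[X]) ^ i - X ^ j)) - 1}) →+* A) :
    Submodule.span A (Set.range (DividedPowerAlgebra.dp A d : M → DividedPowerAlgebra A M)) =
      PolLaw.gammaPiece A M d := by
  classical
  let t : A := φ (Ideal.Quotient.mk _ Polynomial.X)
  have h1 : (∏ j ∈ Finset.range (d + 1), ∏ i ∈ Finset.range j, (t ^ i - t ^ j)) = 1 := by
    have h : Ideal.Quotient.mk (Ideal.span {(∏ j ∈ Finset.range (d + 1), ∏ i ∈ Finset.range j,
        ((Polynomial.X : Polynomial ℤ) ^ i - Polynomial.X ^ j)) - 1})
        (∏ j ∈ Finset.range (d + 1), ∏ i ∈ Finset.range j, ((Polynomial.X : Polynomial ℤ) ^ i - Polynomial.X ^ j)) = 1 := by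
      rw [← map_one (Ideal.Quotient.mk _), Ideal.Quotient.eq]
      exact Ideal.mem_span_singleton_self _
    have h' := congrArg φ h
    simpa [t, map_prod] using h'
  have ht : ∀ j ≤ d, ∀ i < j, IsUnit (t ^ i - t ^ j) := fun j hj i hij => by
    have h2 : IsUnit (∏ j ∈ Finset.range (d + 1), ∏ i ∈ Finset.range j, (t ^ i - t ^ j)) := h1 ▸ isUnit_one
    rw [IsUnit.prod_iff] at h2
    have h3 := h2 j (Finset.mem_range.2 (by omega))
    rw [IsUnit.prod_iff] at h3
    exact h3 i (Finset.mem_range.2 hij)
  refine le_antisymm (Submodule.span_le.2 ?_) (Submodule.span_le.2 ?_)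
  · rintro _ ⟨m, rfl⟩
    exact Submodule.subset_span ⟨1, fun _ => d, fun _ => m, by simp, by simp⟩
  · rintro _ ⟨n, k, m, hk, rfl⟩
    subst hk
    exact aux t n k m ht

end Groth.Agent.S13389
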