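import Mathlib
import Groth.Statements.S13392
import Groth.Agent.ZeroCycSym.Cover

set_option autoImplicit false
universe u
open scoped TensorProduct
open ZeroCyc

namespace Groth.Agent.S13392

/-- Let A be a commutative ring, B a graded A-algebra generated by its degree-one part B_1 with B_1 a
finitely generated A-module, and d ≥ 0. Inside the d-fold tensor power T^d_A(B) let C_k be the
A-span of the pure tensors b_1 ⊗ ⋯ ⊗ b_d with all b_i ∈ B_k, let C = Σ_k C_k (the A-subalgebra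
generated by these pure tensors; Proj C is the d-fold fibre product of X = Proj B over S = Spec A)
and let D = C ∩ TS^d_A(B) be its subring of symmetric tensors, graded by D_k = C_k ∩ TS^d_A(B), so
that Proj D is the symmetric product Sym^d(X/S). Provided each residue field of A has d or more
elements, Sym^d(X/S) is covered by the affine opens Sym^d(X_f/S) = D_+(f ⊗ ⋯ ⊗ f) with f ∈ B_1:
every t ∈ D_k with k ≥ 1 has some power t^m, m ≥ 1, in the ideal of D generated by the tensors f ⊗ ⋯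
⊗ f, f ∈ B_1. -/
theorem result {A B : Type u} [CommRing A] [CommRing B] [Algebra A B]
    (𝒜 : ℕ → Submodule A B) [GradedAlgebra 𝒜] (hgen : Algebra.adjoin A (𝒜 1 : Set B) = ⊤) (hfg : (𝒜 1).FG) (d : ℕ)
    (hres : ∀ p : PrimeSpectrum A, (d : Cardinal) ≤ Cardinal.mk p.asIdeal.ResidueField)
    (D : Subalgebra A (⨂[A] _ : Fin d, B))
    (hD : D = Algebra.adjoin A {t | ∃ (k : ℕ) (b : Fin d → B), (∀ i, b i ∈ 𝒜 k) ∧ t = PiTensorProduct.tprod A b}
      ⊓ SymTen.TS A B d)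
    (k : ℕ) (hk : 0 < k) (t : ⨂[A] _ : Fin d, B) (htD : t ∈ D)
    (htk : t ∈ Submodule.span A {s | ∃ b : Fin d → B, (∀ i, b i ∈ 𝒜 k) ∧ s = PiTensorProduct.tprod A b}) :
    ∃ m : ℕ, 0 < m ∧ (⟨t, htD⟩ : D) ^ m ∈
      Ideal.span {x : D | ∃ f : B, f ∈ 𝒜 1 ∧
        (x : ⨂[A] _ : Fin d, B) = PiTensorProduct.tprod A (fun _ : Fin d => f)} := by
  classical
  by_contra! hno
  obtain ⟨κ, _, ev, hI, hev⟩ := Groth.ZeroCycSym.exists_point 𝒜 d hD _ ⟨t, htD⟩ hno
  have htC : t ∈ Groth.ZeroCycSym.diagAlg 𝒜 d := (hD.trans_le inf_le_left) htD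
  obtain ⟨u, hu, hne⟩ := Groth.ZeroCycSym.exists_val_ne_zero 𝒜 d ev htC htk (hev htC)
  obtain ⟨w, hw, hwne⟩ := Groth.ZeroCycSym.exists_degOne_val_ne_zero 𝒜 d ev hgen hk hu hne
  obtain ⟨f, hf, hne'⟩ := Groth.ZeroCycSym.exists_linear_val_ne_zero 𝒜 d ev hres hw hwne
  have hfC : PiTensorProduct.tprod A (fun _ : Fin d => f) ∈ Groth.ZeroCycSym.diagAlg 𝒜 d :=
    Groth.ZeroCycSym.tprod_mem 𝒜 d fun _ => hf
  have hfD : PiTensorProduct.tprod A (fun _ : Fin d => f) ∈ D := by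
    rw [hD]; exact ⟨hfC, (SymTen.tpow A B d f).2⟩
  rw [Groth.ZeroCycSym.val_eq 𝒜 d ev hfC] at hne'
  exact hne' (hI ⟨_, hfD⟩ hfC (Ideal.subset_span ⟨f, hf, rfl⟩))

end Groth.Agent.S13392
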