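import Groth.Statements.S13393
import Groth.Agent.Cycles.SymMaster
import Groth.Agent.Cycles.SymTrace
import Groth.Agent.Cycles.QuotTransport
-- import your own Groth.Agent.* helpers here

set_option autoImplicit false
set_option backward.isDefEq.respectTransparency false
universe u
open CategoryTheory CategoryTheory.Limits AlgebraicGeometry
open ZeroCyc

namespace Groth.Agent.S13393

/-- Scheme case. Let f : X → S be separated and let (Y, q, g) be a d-th symmetric product of X over S: q
: (X/S)^d → Y is a quotient of the d-fold fibre product by the symmetric group permuting the factors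
and g : Y → S its structure map. Let S' → S be a morphism, let the symmetric group act on (X/S)^d
×_S S' through the first factor (this is the d-fold fibre product of X' = X ×_S S' over S' with its
permutation action), let r : (X/S)^d ×_S S' → Y' be a quotient by that action, i.e. a symmetric
product Sym^d(X'/S'), and let m : Y' → Y ×_S S' be the morphism with r ≫ m = q × id. Then m induces
an isomorphism on residue fields at every point of Y' (trivial residue field extensions); if every
positive integer is invertible in Γ(S', O_{S'}) then m is an isomorphism; and if X' → S' is flat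
then m is a closed immersion. (The published statement is for X a separated algebraic space over S,
where the symmetric products always exist as algebraic spaces; this row is the case of schemes in
which both quotients exist as schemes, taken as hypotheses, and leaves the universal-homeomorphism
clause to the general finite-group statement.) -/
theorem result {X S S' Y Y' : Scheme.{u}} (f : X ⟶ S) [IsSeparated f] (d : ℕ)
    (q : SymProd.fibPow f d ⟶ Y) (g : Y ⟶ S) (hq : SymProd.IsSymProd f d q g)
    (gS : S' ⟶ S)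
    (ρ' : ULift.{u} (Equiv.Perm (Fin d)) →* Aut (pullback (WidePullback.base fun _ : Fin d => f) gS))
    (hρ' : ∀ σ, (ρ' σ).hom ≫ pullback.fst (WidePullback.base fun _ : Fin d => f) gS =
        pullback.fst (WidePullback.base fun _ : Fin d => f) gS ≫ SymProd.permHom f d σ.down ∧
      (ρ' σ).hom ≫ pullback.snd (WidePullback.base fun _ : Fin d => f) gS =
        pullback.snd (WidePullback.base fun _ : Fin d => f) gS)
    (r : pullback (WidePullback.base fun _ : Fin d => f) gS ⟶ Y') (hr : SGA1.IsQuot ρ' r)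
    (m : Y' ⟶ pullback g gS)
    (hm : r ≫ m = pullback.map (WidePullback.base fun _ : Fin d => f) gS g gS q (𝟙 S') (𝟙 S)
      ((Category.comp_id _).trans hq.over.symm) ((Category.comp_id gS).trans (Category.id_comp gS).symm)) :
    (∀ y : Y', IsIso (m.residueFieldMap y)) ∧
    ((∀ n : ℕ, 0 < n → IsUnit ((n : ℕ) : Γ(S', ⊤))) → IsIso m) ∧
    (Flat (pullback.snd f gS) → IsClosedImmersion m) := by
  classical
  haveI := hq.isQuot.affine
  let f' := pullback.snd f gS
  let C : Groth.Cycles.SymClosed.Cmp f d :=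
    { X' := pullback f gS, S' := S', f' := f', h := pullback.fst f gS, b := gS, w := pullback.condition
      closed := by
        rw [show pullback.lift (pullback.fst f gS) f' pullback.condition = 𝟙 _ by
          apply pullback.hom_ext <;> simp [f']]
        infer_instance }
  have hsq := Groth.Misc5Sym.isPullback_fibPow f gS d C.Φ C.Φ_π C.Φ_base
  let θ : SymProd.fibPow f' d ⟶ pullback (WidePullback.base fun _ : Fin d => f) gS := hsq.isoPullback.hom
  have hθ₁ : θ ≫ pullback.fst _ _ = C.Φ := hsq.isoPullback_hom_fst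
  have hθ₂ : θ ≫ pullback.snd _ _ = WidePullback.base (fun _ : Fin d => f') := hsq.isoPullback_hom_snd
  have hθ : ∀ σ : ULift.{u} (Equiv.Perm (Fin d)),
      (SymProd.permActU f' d σ).hom ≫ θ = θ ≫ (ρ' σ).hom := fun σ => by
    apply pullback.hom_ext
    · simp only [Category.assoc, (hρ' σ).1, SymProd.permActU_hom]
      rw [hθ₁, ← Category.assoc θ, hθ₁]
      exact C.perm_Φ σ.down
    · simp only [Category.assoc, (hρ' σ).2, SymProd.permActU_hom]
      rw [hθ₂, SymProd.permHom_base]
  have hr' : SGA1.IsQuot (SymProd.permActU C.f' d) (θ ≫ r) :=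
    Groth.Cycles.QuotTransport.isQuot_iso_comp hr θ hθ
  have hσT : (θ ≫ r) ≫ m ≫ pullback.snd g gS = WidePullback.base (fun _ : Fin d => C.f') := by
    rw [Category.assoc, reassoc_of% hm, pullback.lift_snd, Category.comp_id, hθ₂]
  have htY : (θ ≫ r) ≫ m ≫ pullback.fst g gS = C.Φ ≫ q := by
    rw [Category.assoc, reassoc_of% hm, pullback.lift_fst, ← Category.assoc, hθ₁]
  have hcover : ∀ z : ↥(pullback g gS),
      ∃ c : Groth.Cycles.SymMaster.Chart C (g := g) (pullback.snd g gS) (pullback.fst g gS), z ∈ c.D := by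
    intro z
    obtain ⟨_, ⟨V, hV, rfl⟩, hzV, -⟩ := S.isBasis_affineOpens.exists_subset_of_mem_open
      (Set.mem_univ (g (pullback.fst g gS z))) isOpen_univ
    obtain ⟨_, ⟨W₀, hW₀, rfl⟩, hzW, hWV⟩ := Y.isBasis_affineOpens.exists_subset_of_mem_open
      (show pullback.fst g gS z ∈ (g ⁻¹ᵁ V : Y.Opens) from hzV) (g ⁻¹ᵁ V).2
    obtain ⟨_, ⟨V', hV', rfl⟩, hzV', hV'V⟩ := S'.isBasis_affineOpens.exists_subset_of_mem_open
      (show pullback.snd g gS z ∈ (gS ⁻¹ᵁ V : S'.Opens) by
        show gS (pullback.snd g gS z) ∈ V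
        rw [← Scheme.Hom.comp_apply, ← pullback.condition, Scheme.Hom.comp_apply]
        exact hzV) (gS ⁻¹ᵁ V).2
    refine ⟨⟨V, W₀, V', hV, hW₀, hWV, hV', hV'V, ?_⟩, hzW, hzV'⟩
    haveI : IsAffine (W₀ : Scheme.{u}) := hW₀
    haveI : IsAffine (V' : Scheme.{u}) := hV'
    haveI : IsAffine (V : Scheme.{u}) := hV
    exact .of_isIso (Scheme.Hom.isPullback_resLE (IsPullback.of_hasPullback g gS) (US := V) (UT := V') (UX := W₀)
      hV'V hWV rfl).isoPullback.hom
  refine ⟨fun y => Groth.Cycles.SymMaster.isIso_residueFieldMap (C := C) (σT := pullback.snd g gS)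
      (tY := pullback.fst g gS) hq.isQuot hq.over hr' m hσT htY hcover y,
    fun hn => ?_, fun hf => Groth.Cycles.SymMaster.isClosedImmersion (C := C) (σT := pullback.snd g gS)
      (tY := pullback.fst g gS) hq.isQuot hq.over hr' m hσT htY hcover (Or.inl hf)⟩
  refine Groth.Cycles.SymMaster.isIso (C := C) (σT := pullback.snd g gS) (tY := pullback.fst g gS)
    hq.isQuot hq.over hr' m hσT htY hcover (Or.inr hn) fun c => ?_
  obtain ⟨V, W₀, V', hV, hW₀, hWV, hV'a, hV'V, hD⟩ := c
  let D : (pullback g gS).Opens := pullback.fst g gS ⁻¹ᵁ W₀ ⊓ pullback.snd g gS ⁻¹ᵁ V'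
  let t := (θ ≫ r) ≫ m
  show Function.Injective (t.app D)
  have ht₁ : t ≫ pullback.fst g gS = C.Φ ≫ q := by rw [Category.assoc]; exact htY
  have ht₂ : t ≫ pullback.snd g gS = WidePullback.base (fun _ : Fin d => C.f') := by rw [Category.assoc]; exact hσT
  have hE : t ⁻¹ᵁ D = Groth.Cycles.SymInv.part C (q := q) W₀ V' :=
    Groth.Cycles.SymCompare.preimage_eq (C := C) (q := q) (W₀ := W₀) (V' := V') t _ _ ht₂ ht₁
  have hWb : q ⁻¹ᵁ W₀ ≤ (WidePullback.base (fun _ : Fin d => f)) ⁻¹ᵁ V := by
    rw [← hq.over, Scheme.Hom.comp_preimage]; exact q.preimage_mono hWV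
  letI := Groth.Cycles.SymTrace.algQ W₀ hWV
  letI := Groth.Cycles.SymTrace.algP (f := f) (q := q) W₀ hWb
  letI : Algebra Γ(S, V) Γ(S', V') := (gS.appLE V V' hV'V).hom.toAlgebra
  obtain ⟨eA, heA⟩ := Groth.Misc5Sym.exists_sections_tensor (IsPullback.of_hasPullback g gS) hV'V hWV hV hV'a hW₀
    (UY := D) rfl inf_le_left inf_le_right
  obtain ⟨eB, heB⟩ := Groth.Misc5Sym.exists_sections_tensor hsq hV'V hWb hV hV'a (hW₀.preimage q)
    (UY := t ⁻¹ᵁ D) hE (hE.le.trans inf_le_left) (hE.le.trans inf_le_right)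
  obtain ⟨l, hl⟩ := Groth.Cycles.SymTrace.exists_qlin W₀ hq.over hWV hWb
  have hqq : ∀ z, t.app D (eA z) = eB (l.toLinearMap.lTensor Γ(S', V') z) := by
    intro z
    induction z using TensorProduct.induction_on with
    | zero => simp
    | add z w hz hw => simp only [map_add, hz, hw]
    | tmul x a =>
      rw [heA, map_mul, LinearMap.lTensor_tmul, heB]
      congr 1
      · show ((pullback.snd g gS).appLE V' D inf_le_right ≫ t.app D) x = _
        rw [← Scheme.Hom.appLE_eq_app, Scheme.Hom.appLE_comp_appLE,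
          Groth.Pi1Quot.appLE_congr_hom ht₂ V' (t ⁻¹ᵁ D) _ (hE.le.trans inf_le_right)]
      · rw [AlgHom.toLinearMap_apply, hl]
        show ((pullback.fst g gS).appLE W₀ D inf_le_left ≫ t.app D) a =
          (q.app W₀ ≫ C.Φ.appLE (q ⁻¹ᵁ W₀) (t ⁻¹ᵁ D) (hE.le.trans inf_le_left)) a
        rw [← Scheme.Hom.appLE_eq_app, ← Scheme.Hom.appLE_eq_app, Scheme.Hom.appLE_comp_appLE,
          Scheme.Hom.appLE_comp_appLE, Groth.Pi1Quot.appLE_congr_hom ht₁ W₀ (t ⁻¹ᵁ D) _ _]
  have hu : IsUnit ((Nat.factorial d : ℕ) : Γ(S', V')) := by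
    have h1 := (hn _ (Nat.factorial_pos d)).map (S'.presheaf.map (homOfLE (le_top (a := V'))).op).hom
    rwa [map_natCast] at h1
  have hinj := Groth.Cycles.SymTrace.lTensor_injective W₀ hq.isQuot hq.over hWV hWb (N := Γ(S', V'))
    (fun n h => by rw [nsmul_eq_mul] at h; exact hu.mul_right_eq_zero.1 h)
    (fun n => by obtain ⟨v, hv⟩ := hu.exists_right_inv; exact ⟨v * n, by rw [nsmul_eq_mul, ← mul_assoc, hv, one_mul]⟩)
    l hl
  intro a b hab
  rw [← eA.apply_symm_apply a, ← eA.apply_symm_apply b, hqq, hqq] at hab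
  exact eA.symm.injective (hinj (eB.injective hab))

end Groth.Agent.S13393
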