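import Groth.Statements.S13394
import Groth.Agent.Cycles.SymMaster
import Groth.Agent.Cycles.QuotUnivHomeo
-- import your own Groth.Agent.* helpers here

set_option autoImplicit false
set_option backward.isDefEq.respectTransparency false
set_option maxHeartbeats 200000
universe u
open CategoryTheory CategoryTheory.Limits AlgebraicGeometry
open ZeroCyc

namespace Groth.Agent.S13394

/-- Scheme case. Let f : X → S be separated, let (Y, q, g) be a d-th symmetric product of X over S (q :
(X/S)^d → Y a quotient of the d-fold fibre product by the symmetric group, g : Y → S), let i : Z → X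
be a closed immersion and (W, r, g_W) a d-th symmetric product of Z over S, let q((Z/S)^d) ⊆ Y be
the scheme-theoretic image of the composite (Z/S)^d → (X/S)^d → Y, and let m : W → q((Z/S)^d) be the
morphism through which that composite factors via r. Then m induces an isomorphism on residue fields
at every point of W (trivial residue field extensions); if every positive integer is invertible in
Γ(S, O_S) then m is an isomorphism; and if Z → S is flat then m is a closed immersion. (The
published statement is for X a separated algebraic space over S; this row is the case of schemes in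
which both symmetric products exist as schemes, taken as hypotheses, and leaves the
universal-homeomorphism clause to the general finite-group statement.) -/
theorem result {X Z S Y W : Scheme.{u}} (f : X ⟶ S) [IsSeparated f] (d : ℕ)
    (q : SymProd.fibPow f d ⟶ Y) (g : Y ⟶ S) (hq : SymProd.IsSymProd f d q g)
    (i : Z ⟶ X) [IsClosedImmersion i]
    (r : SymProd.fibPow (i ≫ f) d ⟶ W) (gW : W ⟶ S) (hr : SymProd.IsSymProd (i ≫ f) d r gW)
    (m : W ⟶ (SymProd.fibPowMap (i ≫ f) d f i rfl ≫ q).ker.subscheme)
    (hm : r ≫ m ≫ (SymProd.fibPowMap (i ≫ f) d f i rfl ≫ q).ker.subschemeι =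
      SymProd.fibPowMap (i ≫ f) d f i rfl ≫ q) :
    (∀ w : W, IsIso (m.residueFieldMap w)) ∧
    ((∀ n : ℕ, 0 < n → IsUnit ((n : ℕ) : Γ(S, ⊤))) → IsIso m) ∧
    (Flat (i ≫ f) → IsClosedImmersion m) := by
  haveI := hq.isQuot.affine
  let C : Groth.Cycles.SymClosed.Cmp f d :=
    { X' := Z, S' := S, f' := i ≫ f, h := i, b := 𝟙 S, w := (Category.comp_id _).symm
      closed := by
        haveI : IsClosedImmersion (pullback.lift i (i ≫ f) (Category.comp_id _).symm ≫ pullback.fst f (𝟙 S)) := by
          rw [pullback.lift_fst]; infer_instance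
        exact IsClosedImmersion.of_comp_isClosedImmersion _ (pullback.fst f (𝟙 S)) }
  have hΦ : C.Φ = SymProd.fibPowMap (i ≫ f) d f i rfl := by
    apply WidePullback.hom_ext
    · intro j; rw [C.Φ_π, SymProd.fibPowMap_π]
    · rw [C.Φ_base, SymProd.fibPowMap_base]; exact Category.comp_id _
  let F := SymProd.fibPowMap (i ≫ f) d f i rfl ≫ q
  haveI := Groth.Cycles.SymClosed.isClosedImmersion_fibPowMap (i ≫ f) f d i rfl
  haveI : QuasiCompact F := inferInstance
  let tY := F.ker.subschemeι
  let σT := tY ≫ g
  have hσT : r ≫ m ≫ σT = WidePullback.base (fun _ : Fin d => C.f') := by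
    show r ≫ m ≫ F.ker.subschemeι ≫ g = WidePullback.base (fun _ : Fin d => i ≫ f)
    rw [reassoc_of% hm, hq.over, SymProd.fibPowMap_base]
  have htY : r ≫ m ≫ tY = C.Φ ≫ q := by rw [hΦ]; exact hm
  have hcover : ∀ z : F.ker.subscheme, ∃ c : Groth.Cycles.SymMaster.Chart C (g := g) σT tY, z ∈ c.D := by
    intro z
    obtain ⟨_, ⟨V, hV, rfl⟩, hzV, -⟩ := S.isBasis_affineOpens.exists_subset_of_mem_open
      (Set.mem_univ (g (tY z))) isOpen_univ
    obtain ⟨_, ⟨W₀, hW₀, rfl⟩, hzW, hWV⟩ := Y.isBasis_affineOpens.exists_subset_of_mem_open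
      (show tY z ∈ (g ⁻¹ᵁ V : Y.Opens) from hzV) (g ⁻¹ᵁ V).2
    refine ⟨⟨V, W₀, V, hV, hW₀, hWV, hV, le_rfl, ?_⟩, hzW, hzV⟩
    rw [inf_eq_left.2 (fun w hw => hWV hw)]
    exact (show IsAffineOpen W₀ from hW₀).preimage tY
  refine ⟨fun w => Groth.Cycles.SymMaster.isIso_residueFieldMap (C := C) (σT := σT) (tY := tY) hq.isQuot hq.over hr.isQuot m hσT htY hcover w,
    fun hn => ?_, fun hf => Groth.Cycles.SymMaster.isClosedImmersion (C := C) (σT := σT) (tY := tY) hq.isQuot hq.over hr.isQuot m hσT htY hcover (Or.inl hf)⟩
  refine Groth.Cycles.SymMaster.isIso (C := C) (σT := σT) (tY := tY) hq.isQuot hq.over hr.isQuot m hσT htY hcover (Or.inr hn) fun c => ?_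
  have he : r ≫ m = F.toImage := by
    rw [← cancel_mono F.imageι]
    exact (Category.assoc _ _ _).trans (hm.trans F.toImage_imageι.symm)
  haveI := Groth.Cycles.QuotUH.isSchemeTheoreticallyDominant_toImage F
  show Function.Injective ((r ≫ m).app c.D)
  rw [he]
  exact F.toImage.app_injective c.D

end Groth.Agent.S13394
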