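import Groth.Statements.S13395
import Groth.Agent.Cycles.SymFlat
import Groth.Agent.Cycles.SymTenInv
import Groth.Agent.Misc5Sym.BaseChangeSquare
-- import your own Groth.Agent.* helpers here

set_option autoImplicit false
set_option backward.isDefEq.respectTransparency false
universe u
open CategoryTheory CategoryTheory.Limits AlgebraicGeometry
open ZeroCyc

namespace Groth.Agent.S13395

/-- Scheme case. Let f : X → S and g : Z → S be separated morphisms and suppose that either both are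
flat or every positive integer is invertible in Γ(S, O_S) (S is a scheme over the rationals). Let
(P, q_X) be a d-th symmetric product of X over S and (Q, q_Z) an e-th symmetric product of Z over S,
i.e. quotients of the fibre powers (X/S)^d and (Z/S)^e by the symmetric groups permuting the
factors, and let S_d × S_e act on (X/S)^d ×_S (Z/S)^e factorwise. Then q_X × q_Z : (X/S)^d ×_S
(Z/S)^e → P ×_S Q is a quotient by S_d × S_e (affine, invariant, with sections of P ×_S Q the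
invariant sections): the mixed symmetric product Sym^{d,e}(X, Z) is Sym^d(X/S) ×_S Sym^e(Z/S). (The
published statement is for separated algebraic spaces, where these quotients always exist, and adds
the identification with Γ^d(X/S) ×_S Γ^e(Z/S); this row is the scheme case with the two symmetric
products taken as hypotheses.) -/
theorem result {X Z S P Q : Scheme.{u}} (f : X ⟶ S) (g : Z ⟶ S)
    [IsSeparated f] [IsSeparated g] (d e : ℕ)
    (h : (Flat f ∧ Flat g) ∨ ∀ n : ℕ, 0 < n → IsUnit ((n : ℕ) : Γ(S, ⊤)))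
    (qX : SymProd.fibPow f d ⟶ P) (pP : P ⟶ S) (hqX : SymProd.IsSymProd f d qX pP)
    (qZ : SymProd.fibPow g e ⟶ Q) (pQ : Q ⟶ S) (hqZ : SymProd.IsSymProd g e qZ pQ)
    (ρ : ULift.{u} (Equiv.Perm (Fin d) × Equiv.Perm (Fin e)) →*
      Aut (pullback (WidePullback.base fun _ : Fin d => f) (WidePullback.base fun _ : Fin e => g)))
    (hρ : ∀ σ, (ρ σ).hom ≫ pullback.fst (WidePullback.base fun _ : Fin d => f) (WidePullback.base fun _ : Fin e => g) =
        pullback.fst (WidePullback.base fun _ : Fin d => f) (WidePullback.base fun _ : Fin e => g) ≫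
          SymProd.permHom f d σ.down.1 ∧
      (ρ σ).hom ≫ pullback.snd (WidePullback.base fun _ : Fin d => f) (WidePullback.base fun _ : Fin e => g) =
        pullback.snd (WidePullback.base fun _ : Fin d => f) (WidePullback.base fun _ : Fin e => g) ≫
          SymProd.permHom g e σ.down.2) :
    SGA1.IsQuot ρ (pullback.map (WidePullback.base fun _ : Fin d => f) (WidePullback.base fun _ : Fin e => g) pP pQ
      qX qZ (𝟙 S) ((Category.comp_id _).trans hqX.over.symm) ((Category.comp_id _).trans hqZ.over.symm)) := by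
  classical
  let BX := WidePullback.base (fun _ : Fin d => f)
  let BZ := WidePullback.base (fun _ : Fin e => g)
  haveI := hqX.isQuot.affine
  haveI := hqZ.isQuot.affine
  let t := pullback.map BX BZ pP pQ qX qZ (𝟙 S) ((Category.comp_id _).trans hqX.over.symm)
    ((Category.comp_id _).trans hqZ.over.symm)
  haveI : IsAffineHom t := MorphismProperty.pullbackMap (P := @IsAffineHom)
    hqX.isQuot.affine hqZ.isQuot.affine hqX.over.symm hqZ.over.symm
  have ht₁ : t ≫ pullback.fst pP pQ = pullback.fst BX BZ ≫ qX := pullback.lift_fst _ _ _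
  have ht₂ : t ≫ pullback.snd pP pQ = pullback.snd BX BZ ≫ qZ := pullback.lift_snd _ _ _
  have hinv : ∀ σ, (ρ σ).hom ≫ t = t := fun σ => by
    apply pullback.hom_ext
    · rw [Category.assoc, ht₁, ← Category.assoc, (hρ σ).1, Category.assoc]
      exact congrArg (_ ≫ ·) (hqX.isQuot.inv ⟨σ.down.1⟩)
    · rw [Category.assoc, ht₂, ← Category.assoc, (hρ σ).2, Category.assoc]
      exact congrArg (_ ≫ ·) (hqZ.isQuot.inv ⟨σ.down.2⟩)
  refine Groth.Pi1Quot.isQuot_of_local hinv fun y => ?_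
  obtain ⟨_, ⟨V, hV, rfl⟩, hyV, -⟩ := S.isBasis_affineOpens.exists_subset_of_mem_open
    (Set.mem_univ (pP (pullback.fst pP pQ y))) isOpen_univ
  obtain ⟨_, ⟨W₀, hW₀, rfl⟩, hyW, hWV⟩ := P.isBasis_affineOpens.exists_subset_of_mem_open
    (show pullback.fst pP pQ y ∈ (pP ⁻¹ᵁ V : P.Opens) from hyV) (pP ⁻¹ᵁ V).2
  obtain ⟨_, ⟨W₁, hW₁, rfl⟩, hyW₁, hW₁V⟩ := Q.isBasis_affineOpens.exists_subset_of_mem_open
    (show pullback.snd pP pQ y ∈ (pQ ⁻¹ᵁ V : Q.Opens) by
      show pQ (pullback.snd pP pQ y) ∈ V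
      rw [← Scheme.Hom.comp_apply, ← pullback.condition, Scheme.Hom.comp_apply]
      exact hyV) (pQ ⁻¹ᵁ V).2
  let D : (pullback pP pQ).Opens := pullback.fst pP pQ ⁻¹ᵁ W₀ ⊓ pullback.snd pP pQ ⁻¹ᵁ W₁
  have hD : IsAffineOpen D := by
    haveI : IsAffine (W₀ : Scheme.{u}) := hW₀
    haveI : IsAffine (W₁ : Scheme.{u}) := hW₁
    haveI : IsAffine (V : Scheme.{u}) := hV
    exact .of_isIso (Scheme.Hom.isPullback_resLE (IsPullback.of_hasPullback pP pQ) (US := V) (UT := W₁) (UX := W₀)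
      hW₁V hWV rfl).isoPullback.hom
  refine ⟨D, hD, ⟨hyW, hyW₁⟩, ?_⟩
  have hWXb : qX ⁻¹ᵁ W₀ ≤ BX ⁻¹ᵁ V := by
    show _ ≤ (WidePullback.base (fun _ : Fin d => f)) ⁻¹ᵁ V
    rw [← hqX.over, Scheme.Hom.comp_preimage]; exact qX.preimage_mono hWV
  have hWZb : qZ ⁻¹ᵁ W₁ ≤ BZ ⁻¹ᵁ V := by
    show _ ≤ (WidePullback.base (fun _ : Fin e => g)) ⁻¹ᵁ V
    rw [← hqZ.over, Scheme.Hom.comp_preimage]; exact qZ.preimage_mono hW₁V
  letI := Groth.Cycles.SymTrace.algQ W₀ hWV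
  letI := Groth.Cycles.SymTrace.algP (f := f) (q := qX) W₀ hWXb
  letI := Groth.Cycles.SymTrace.algQ W₁ hW₁V
  letI := Groth.Cycles.SymTrace.algP (f := g) (q := qZ) W₁ hWZb
  obtain ⟨lM, τM, trM, hlM, hlMi, hτM, hfixM, htrM, htrlM⟩ :=
    Groth.Cycles.SymTrace.exists_trace W₀ hqX.isQuot hqX.over hWV hWXb
  obtain ⟨lN, τN, trN, hlN, hlNi, hτN, hfixN, htrN, htrlN⟩ :=
    Groth.Cycles.SymTrace.exists_trace W₁ hqZ.isQuot hqZ.over hW₁V hWZb
  have hE : t ⁻¹ᵁ D = pullback.fst BX BZ ⁻¹ᵁ (qX ⁻¹ᵁ W₀) ⊓ pullback.snd BX BZ ⁻¹ᵁ (qZ ⁻¹ᵁ W₁) := by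
    rw [Scheme.Hom.preimage_inf, ← Scheme.Hom.comp_preimage, ← Scheme.Hom.comp_preimage, ht₁, ht₂,
      Scheme.Hom.comp_preimage, Scheme.Hom.comp_preimage]
  obtain ⟨eA, heA⟩ := Groth.Misc5Sym.exists_sections_tensor (IsPullback.of_hasPullback pP pQ) hW₁V hWV hV hW₁ hW₀
    (UY := D) rfl inf_le_left inf_le_right
  obtain ⟨eB, heB⟩ := Groth.Misc5Sym.exists_sections_tensor (IsPullback.of_hasPullback BX BZ) hWZb hWXb hV
    (hW₁.preimage qZ) (hW₀.preimage qX) (UY := t ⁻¹ᵁ D) hE (hE.le.trans inf_le_left) (hE.le.trans inf_le_right)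
  have hqq : ∀ z, t.app D (eA z) = eB (TensorProduct.map lN lM z) := by
    intro z
    induction z using TensorProduct.induction_on with
    | zero => simp
    | add z w hz hw => simp only [map_add, hz, hw]
    | tmul x a =>
      rw [heA, map_mul, TensorProduct.map_tmul, heB, hlM, hlN]
      congr 1
      · show ((pullback.snd pP pQ).appLE W₁ D inf_le_right ≫ t.app D) x =
          (qZ.app W₁ ≫ (pullback.snd BX BZ).appLE (qZ ⁻¹ᵁ W₁) (t ⁻¹ᵁ D) (hE.le.trans inf_le_right)) x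
        rw [← Scheme.Hom.appLE_eq_app, ← Scheme.Hom.appLE_eq_app, Scheme.Hom.appLE_comp_appLE,
          Scheme.Hom.appLE_comp_appLE, Groth.Pi1Quot.appLE_congr_hom ht₂ W₁ (t ⁻¹ᵁ D) _ _]
      · show ((pullback.fst pP pQ).appLE W₀ D inf_le_left ≫ t.app D) a =
          (qX.app W₀ ≫ (pullback.fst BX BZ).appLE (qX ⁻¹ᵁ W₀) (t ⁻¹ᵁ D) (hE.le.trans inf_le_left)) a
        rw [← Scheme.Hom.appLE_eq_app, ← Scheme.Hom.appLE_eq_app, Scheme.Hom.appLE_comp_appLE,
          Scheme.Hom.appLE_comp_appLE, Groth.Pi1Quot.appLE_congr_hom ht₁ W₀ (t ⁻¹ᵁ D) _ _]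
  have hσσ : ∀ (σ : ULift.{u} (Equiv.Perm (Fin d) × Equiv.Perm (Fin e))) z,
      Groth.Pi1Quot.sectionHom hinv D σ (eB z) = eB (TensorProduct.map (τN σ.down.2) (τM σ.down.1) z) := by
    intro σ z
    induction z using TensorProduct.induction_on with
    | zero => simp
    | add z w hz hw => simp only [map_add, hz, hw]
    | tmul x a =>
      rw [heB, map_mul, TensorProduct.map_tmul, heB, hτN, hτM]
      congr 1
      · show ((pullback.snd BX BZ).appLE (qZ ⁻¹ᵁ W₁) (t ⁻¹ᵁ D) (hE.le.trans inf_le_right) ≫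
            (ρ σ⁻¹).hom.appLE (t ⁻¹ᵁ D) (t ⁻¹ᵁ D) _) x =
          ((SymProd.permHom g e σ.down.2.symm).appLE (qZ ⁻¹ᵁ W₁) (qZ ⁻¹ᵁ W₁) _ ≫
            (pullback.snd BX BZ).appLE (qZ ⁻¹ᵁ W₁) (t ⁻¹ᵁ D) (hE.le.trans inf_le_right)) x
        rw [Scheme.Hom.appLE_comp_appLE, Scheme.Hom.appLE_comp_appLE,
          Groth.Pi1Quot.appLE_congr_hom (hρ σ⁻¹).2 (qZ ⁻¹ᵁ W₁) (t ⁻¹ᵁ D) _ _]
        rfl
      · show ((pullback.fst BX BZ).appLE (qX ⁻¹ᵁ W₀) (t ⁻¹ᵁ D) (hE.le.trans inf_le_left) ≫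
            (ρ σ⁻¹).hom.appLE (t ⁻¹ᵁ D) (t ⁻¹ᵁ D) _) a =
          ((SymProd.permHom f d σ.down.1.symm).appLE (qX ⁻¹ᵁ W₀) (qX ⁻¹ᵁ W₀) _ ≫
            (pullback.fst BX BZ).appLE (qX ⁻¹ᵁ W₀) (t ⁻¹ᵁ D) (hE.le.trans inf_le_left)) a
        rw [Scheme.Hom.appLE_comp_appLE, Scheme.Hom.appLE_comp_appLE,
          Groth.Pi1Quot.appLE_congr_hom (hρ σ⁻¹).1 (qX ⁻¹ᵁ W₀) (t ⁻¹ᵁ D) _ _]
        rfl
  have hmain : Function.Injective (TensorProduct.map lN lM) ∧
      ∀ z : TensorProduct Γ(S, V) Γ(SymProd.fibPow g e, qZ ⁻¹ᵁ W₁) Γ(SymProd.fibPow f d, qX ⁻¹ᵁ W₀),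
        (∀ σ, (τM σ).lTensor _ z = z) → (∀ σ, (τN σ).rTensor _ z = z) →
          z ∈ LinearMap.range (TensorProduct.map lN lM) := by
    rcases h with ⟨hf, hg'⟩ | hn
    · haveI := hf
      haveI := hg'
      haveI := Groth.Cycles.SymFlat.flat_quot W₀ hqX.isQuot hqX.over hV hW₀ hWV
      haveI : Module.Flat Γ(S, V) Γ(SymProd.fibPow g e, qZ ⁻¹ᵁ W₁) :=
        haveI := Groth.Cycles.SymFlat.flat_base (f := g) (d := e)
        Flat.flat_appLE (WidePullback.base fun _ : Fin e => g) hV (hW₁.preimage qZ) hWZb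
      exact ⟨Groth.Cycles.SymTenInv.map_injective lN lM hlNi hlMi,
        fun z h₁ h₂ => Groth.Cycles.SymTenInv.mem_range_map lN lM τM τN hlMi hfixM hfixN h₁ h₂⟩
    · have hu : IsUnit ((Nat.factorial d * Nat.factorial e : ℕ) : Γ(S, V)) := by
        have h1 := (hn _ (Nat.mul_pos (Nat.factorial_pos d) (Nat.factorial_pos e))).map
          (S.presheaf.map (homOfLE (le_top (a := V))).op).hom
        rwa [map_natCast] at h1
      exact Groth.Cycles.SymTenInv.map_bijOn_of_unit lN lM τM τN trM trN htrM htrN htrlM htrlN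
        (by rw [Fintype.card_perm, Fintype.card_fin]) (by rw [Fintype.card_perm, Fintype.card_fin]) hu
  have hone₁ : τM 1 = LinearMap.id := by
    refine LinearMap.ext fun a => ?_
    rw [hτM]
    show (SymProd.permHom f d (Equiv.symm 1)).appLE (qX ⁻¹ᵁ W₀) (qX ⁻¹ᵁ W₀) _ a = a
    rw [Groth.Pi1Quot.appLE_congr_hom (show SymProd.permHom f d (Equiv.symm 1) = 𝟙 _ from SymProd.permHom_one f d)
      (qX ⁻¹ᵁ W₀) (qX ⁻¹ᵁ W₀) _ le_rfl]
    simp only [Scheme.Hom.appLE, Scheme.Hom.id_app, Category.id_comp]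
    rw [Subsingleton.elim (homOfLE _).op (𝟙 (Opposite.op (qX ⁻¹ᵁ W₀)))]
    erw [(SymProd.fibPow f d).presheaf.map_id]
    rfl
  have hone₂ : τN 1 = LinearMap.id := by
    refine LinearMap.ext fun a => ?_
    rw [hτN]
    show (SymProd.permHom g e (Equiv.symm 1)).appLE (qZ ⁻¹ᵁ W₁) (qZ ⁻¹ᵁ W₁) _ a = a
    rw [Groth.Pi1Quot.appLE_congr_hom (show SymProd.permHom g e (Equiv.symm 1) = 𝟙 _ from SymProd.permHom_one g e)
      (qZ ⁻¹ᵁ W₁) (qZ ⁻¹ᵁ W₁) _ le_rfl]
    simp only [Scheme.Hom.appLE, Scheme.Hom.id_app, Category.id_comp]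
    rw [Subsingleton.elim (homOfLE _).op (𝟙 (Opposite.op (qZ ⁻¹ᵁ W₁)))]
    erw [(SymProd.fibPow g e).presheaf.map_id]
    rfl
  constructor
  · intro a b hab
    rw [← eA.apply_symm_apply a, ← eA.apply_symm_apply b, hqq, hqq] at hab
    exact eA.symm.injective (hmain.1 (eB.injective hab))
  · intro s hs
    obtain ⟨z, rfl⟩ := eB.surjective s
    obtain ⟨w, hw⟩ := hmain.2 z
      (fun σ => by
        have := eB.injective ((hσσ ⟨(σ, 1)⟩ z).symm.trans (hs ⟨(σ, 1)⟩))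
        simpa [hone₂, LinearMap.lTensor] using this)
      (fun σ => by
        have := eB.injective ((hσσ ⟨(1, σ)⟩ z).symm.trans (hs ⟨(1, σ)⟩))
        simpa [hone₁, LinearMap.rTensor] using this)
    exact ⟨eA w, by rw [hqq, hw]⟩

end Groth.Agent.S13395
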