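import Groth.Statements.S13400
import Groth.Agent.Cycles.PolLawBC
import Groth.Agent.EtaleAlgebra.TraceEtale
import Mathlib.RingTheory.TotallySplit
-- import your own Groth.Agent.* helpers here

set_option autoImplicit false
universe u
open scoped TensorProduct
open ZeroCyc

namespace Groth.Agent.S13400

open Polynomial (X C)
open Groth.Cycles

variable {T : Type u} [CommRing T] {d : ℕ}

/-- The `i`-th coordinate on `S ⊗ (Fin d → T)`. -/
noncomputable def coord (T : Type u) [CommRing T] {d : ℕ} (S : Type u) [CommSemiring S] [Algebra T S] (i : Fin d) :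
    S ⊗[T] (Fin d → T) →ₐ[T] S :=
  Algebra.TensorProduct.lift (AlgHom.id T S) ((Algebra.ofId T S).comp (Pi.evalAlgHom T (fun _ : Fin d => T) i))
    (fun _ _ => Commute.all _ _)

lemma coord_tmul {S : Type u} [CommSemiring S] [Algebra T S] (i : Fin d) (s : S) (f : Fin d → T) :
    coord T S i (s ⊗ₜ[T] f) = s * algebraMap T S (f i) := by
  simp [coord]

lemma coord_smul {S : Type u} [CommSemiring S] [Algebra T S] (i : Fin d) (s : S) (x : S ⊗[T] (Fin d → T)) :
    coord T S i (s • x) = s * coord T S i x := by
  induction x using TensorProduct.induction_on with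
  | zero => simp
  | tmul a f => simp [TensorProduct.smul_tmul', coord_tmul, mul_assoc]
  | add a b ha hb => simp [smul_add, ha, hb, mul_add]

lemma coord_ext {S : Type u} [CommSemiring S] [Algebra T S] {x y : S ⊗[T] (Fin d → T)}
    (h : ∀ i, coord T S i x = coord T S i y) : x = y := by
  classical
  have key : ∀ z : S ⊗[T] (Fin d → T), z = ∑ i, coord T S i z ⊗ₜ[T] (Pi.single i 1 : Fin d → T) := by
    intro z
    induction z using TensorProduct.induction_on with
    | zero => simp
    | tmul s f =>
      conv_lhs => rw [pi_eq_sum_univ' f, TensorProduct.tmul_sum]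
      refine Finset.sum_congr rfl fun i _ => ?_
      rw [coord_tmul, mul_comm, ← Algebra.smul_def, TensorProduct.smul_tmul]
    | add a b ha hb => simp only [map_add, TensorProduct.add_tmul, Finset.sum_add_distrib, ← ha, ← hb]
  rw [key x, key y]
  exact Finset.sum_congr rfl fun i _ => by rw [h i]

/-- The element with `i`-th coordinate `s` and the others `1`. -/
noncomputable def el (T : Type u) [CommRing T] {d : ℕ} (S : Type u) [CommSemiring S] [Algebra T S] (i : Fin d) (s : S) : S ⊗[T] (Fin d → T) :=
  s • ((1 : S) ⊗ₜ[T] (Pi.single i 1 : Fin d → T)) + (1 : S) ⊗ₜ[T] (1 - Pi.single i 1 : Fin d → T)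

lemma coord_el {S : Type u} [CommSemiring S] [Algebra T S] (i j : Fin d) (s : S) :
    coord T S j (el T S i s) = if i = j then s else 1 := by
  classical
  by_cases h : i = j
  · subst h
    simp [el, map_add, coord_smul, coord_tmul]
  · simp [el, map_add, coord_smul, coord_tmul, h, Ne.symm h]

lemma prod_el {S : Type u} [CommSemiring S] [Algebra T S] (x : S ⊗[T] (Fin d → T)) :
    ∏ i, el T S i (coord T S i x) = x := by
  classical
  refine coord_ext fun j => ?_
  simp [map_prod, coord_el]

lemma el_mul {S : Type u} [CommSemiring S] [Algebra T S] (i : Fin d) (s t : S) :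
    el T S i s * el T S i t = el T S i (s * t) := by
  classical
  refine coord_ext fun j => ?_
  rw [map_mul, coord_el, coord_el, coord_el]
  split_ifs <;> simp

variable (G : PolLaw.MulLaw T (Fin d → T) T d)

/-- The polynomial giving the law on the `i`-th factor. -/
noncomputable def facPoly (i : Fin d) : Polynomial T :=
  Algebra.TensorProduct.rid T T (Polynomial T) (G.law.toFun' (Polynomial T) (el T _ i X))

lemma rid_nat {A : Type u} [CommRing A] {S S' : Type u} [CommSemiring S] [Algebra A S] [CommSemiring S']
    [Algebra A S'] (φ : S →ₐ[A] S') (w : S ⊗[A] A) :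
    φ (Algebra.TensorProduct.rid A A S w) = Algebra.TensorProduct.rid A A S' (tmap φ A w) := by
  induction w using TensorProduct.induction_on with
  | zero => simp
  | tmul q a => simp
  | add u v hu hv => simp [map_add, hu, hv]

lemma law_el {S : Type u} [CommSemiring S] [Algebra T S] (i : Fin d) (s : S) :
    Algebra.TensorProduct.rid T T S (G.law.toFun' S (el T S i s)) = Polynomial.aeval s (facPoly G i) := by
  rw [facPoly, rid_nat, law_nat]
  congr 2
  simp [el, map_add, tmap_smul]

lemma law_eq {S : Type u} [CommSemiring S] [Algebra T S] (x : S ⊗[T] (Fin d → T)) :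
    Algebra.TensorProduct.rid T T S (G.law.toFun' S x) = ∏ i, Polynomial.aeval (coord T S i x) (facPoly G i) := by
  classical
  conv_lhs => rw [← prod_el x]
  have : ∀ s : Finset (Fin d), G.law.toFun' S (∏ i ∈ s, el T S i (coord T S i x)) =
      ∏ i ∈ s, G.law.toFun' S (el T S i (coord T S i x)) := by
    intro s
    induction s using Finset.induction_on with
    | empty => simp [(G.mult S).1]
    | insert a s ha ih => rw [Finset.prod_insert ha, Finset.prod_insert ha, (G.mult S).2, ih]
  rw [this, map_prod]
  exact Finset.prod_congr rfl fun i _ => law_el G i _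

lemma facPoly_eq_X (hG : PolLaw.ker G.law ≤ nilradical (Fin d → T)) (i : Fin d) : facPoly G i = X := by
  classical
  set p := facPoly G with hp
  set b := (p i).coeff 1 with hb
  have hone : ∀ j, (p j).eval 1 = 1 := by
    intro j
    have h := law_el G j (1 : T)
    have he : el T T j (1 : T) = 1 := coord_ext fun k => by simp [coord_el]
    rw [he, (G.mult T).1, map_one] at h
    simpa [hp] using h.symm
  have hprod : ∏ j, p j = X ^ d := by
    have h := law_eq G ((X : Polynomial T) • (1 : Polynomial T ⊗[T] (Fin d → T)))
    rw [G.homog, (G.mult _).1] at h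
    simp only [coord_smul, map_one, mul_one, Polynomial.aeval_X_left_apply] at h
    rw [Algebra.TensorProduct.one_def, TensorProduct.smul_tmul', Algebra.TensorProduct.rid_tmul, one_smul,
      smul_eq_mul, mul_one] at h
    exact h.symm
  have hmul : p i * C b = C b * X := by
    have h1 := congrArg (fun z => Algebra.TensorProduct.rid T T (Polynomial (Polynomial T))
      (G.law.toFun' (Polynomial (Polynomial T)) z)) (el_mul (T := T) i (C X : Polynomial (Polynomial T)) X)
    rw [(G.mult _).2, map_mul, law_el, law_el, law_el] at h1
    have h2 := congrArg (fun q : Polynomial (Polynomial T) => q.coeff 1) h1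
    have e1 : Polynomial.aeval (C X : Polynomial (Polynomial T)) (p i) = C (p i) := by
      have := Polynomial.aeval_algHom_apply (IsScalarTower.toAlgHom T (Polynomial T) (Polynomial (Polynomial T))) X (p i)
      simpa using this
    have e2 : Polynomial.aeval (X : Polynomial (Polynomial T)) (p i) = (p i).map C := by
      rw [Polynomial.aeval_def]
      rfl
    have e3 : Polynomial.aeval (C X * X : Polynomial (Polynomial T)) (p i) = ((p i).map C).comp (C X * X) := by
      rw [Polynomial.comp, Polynomial.eval₂_map, Polynomial.aeval_def]
      rfl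
    rw [e1, e2, e3] at h2
    simp only [Polynomial.coeff_C_mul, Polynomial.coeff_map, Polynomial.comp_C_mul_X_coeff, pow_one] at h2
    rw [← hb] at h2
    exact h2
  have hmax : ∀ m : Ideal T, m.IsMaximal → b ∉ m := by
    intro m hm
    let _ : Field (T ⧸ m) := Ideal.Quotient.field m
    let K := T ⧸ m
    let q : Fin d → Polynomial K := fun j => (p j).map (algebraMap T K)
    have hq : ∏ j, q j = X ^ d := by
      simp only [q, ← Polynomial.map_prod, hprod, Polynomial.map_pow, Polynomial.map_X]
    have hq1e : ∀ j, (q j).eval 1 = 1 := fun j => by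
      simp only [q, Polynomial.eval_map, Polynomial.eval₂_at_one, hone, map_one]
    have hne : ∀ j, q j ≠ 0 := fun j h0 => by
      simpa [h0] using hq1e j
    have hpos : ∀ j, 1 ≤ (q j).natDegree := by
      intro j
      by_contra hlt
      obtain ⟨a, ha⟩ := Polynomial.natDegree_eq_zero.mp (show (q j).natDegree = 0 by omega)
      have ha1 : a = 1 := by
        have := hq1e j
        rw [← ha, Polynomial.eval_C] at this
        exact this
      have hq1 : q j = 1 := by rw [← ha, ha1, map_one]
      have hmem : ((1 : K) ⊗ₜ[T] (Pi.single j 1 : Fin d → T)) ∈ PolLaw.kerBC G.law K := by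
        intro R _ _ _ _ x w
        apply (Algebra.TensorProduct.rid T T R).injective
        rw [law_eq, law_eq]
        refine Finset.prod_congr rfl fun l _ => ?_
        by_cases hl : l = j
        · subst hl
          have hc : ∀ r : R, Polynomial.aeval r (p l) = 1 := fun r => by
            rw [← Polynomial.aeval_map_algebraMap K, show (p l).map (algebraMap T K) = 1 from hq1, map_one]
          rw [hc, hc]
        · congr 1
          simp [map_add, coord_tmul, hl]
      have h2 := Ideal.le_radical hmem
      rw [radical_kerBC_eq G] at h2
      let π := coord T K j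
      have hle : ((PolLaw.ker G.law).map (Algebra.TensorProduct.includeRight : (Fin d → T) →ₐ[T] K ⊗[T] (Fin d → T))).radical ≤
          RingHom.ker π.toRingHom := by
        refine ((RingHom.ker_isPrime π.toRingHom).isRadical.radical_le_iff).mpr ?_
        rw [Ideal.map_le_iff_le_comap]
        intro c hc
        rw [Ideal.mem_comap, RingHom.mem_ker]
        exact ((mem_nilradical.mp (hG hc)).map _ |>.map _).eq_zero
      have := hle h2
      simp [π, coord_tmul] at this
    have hsum : ∑ j, (q j).natDegree = d := by
      rw [← Polynomial.natDegree_prod _ _ fun j _ => hne j, hq, Polynomial.natDegree_X_pow]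
    have hdeg : (q i).natDegree = 1 := by
      refine le_antisymm ?_ (hpos i)
      by_contra hlt
      have : ∑ _j : Fin d, 1 < ∑ j, (q j).natDegree :=
        Finset.sum_lt_sum (fun j _ => hpos j) ⟨i, Finset.mem_univ i, by omega⟩
      rw [hsum] at this
      simp at this
    intro hbm
    have hlc := Polynomial.leadingCoeff_ne_zero.mpr (hne i)
    rw [Polynomial.leadingCoeff, hdeg] at hlc
    refine hlc ?_
    simp only [q, Polynomial.coeff_map, Ideal.Quotient.algebraMap_eq]
    exact Ideal.Quotient.eq_zero_iff_mem.mpr hbm
  have hu : IsUnit b := by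
    by_contra hnu
    obtain ⟨m, hm, hbm⟩ := exists_max_ideal_of_mem_nonunits hnu
    exact hmax m hm hbm
  exact (hu.map C).mul_right_cancel (hmul.trans (mul_comm _ _))

/-- Uniqueness for split algebras. -/
lemma split_unique (hG : PolLaw.ker G.law ≤ nilradical (Fin d → T)) {S : Type u} [CommSemiring S] [Algebra T S]
    (x : S ⊗[T] (Fin d → T)) :
    Algebra.TensorProduct.rid T T S (G.law.toFun' S x) = ∏ i, coord T S i x := by
  rw [law_eq]
  exact Finset.prod_congr rfl fun i _ => by rw [facPoly_eq_X G hG i, Polynomial.aeval_X]

variable {A B : Type u} [CommRing A] [CommRing B] [Algebra A B] [Algebra A T]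

lemma value_eq (F : PolLaw.MulLaw A B A d) (hF : PolLaw.ker F.law ≤ nilradical B)
    (e : T ⊗[A] B ≃ₐ[T] (Fin d → T)) {R : Type u} [CommSemiring R] [Algebra A R] [Algebra T R]
    [IsScalarTower A T R] (z : R ⊗[A] B) :
    Algebra.TensorProduct.rid A A R (F.law.toFun' R z) =
      ∏ i, coord T R i (e.toAlgHom.toLinearMap.lTensor R ((bcEquiv T R).symm z)) := by
  let G := (baseChange F T).precomp e.symm.toAlgHom
  have hinv : ∀ (S : Type u) [CommSemiring S] [Algebra T S] (y : S ⊗[T] (T ⊗[A] B)),
      e.symm.toAlgHom.toLinearMap.lTensor S (e.toAlgHom.toLinearMap.lTensor S y) = y := by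
    intro S _ _ y
    induction y using TensorProduct.induction_on with
    | zero => simp
    | tmul s t => simp
    | add a b ha hb => rw [map_add, map_add, ha, hb]
  have hG : PolLaw.ker G.law ≤ nilradical (Fin d → T) := by
    intro c hc
    have hmem : e.symm c ∈ PolLaw.ker (baseChange F T).law := by
      intro S _ _ x w
      have h := hc S (e.toAlgHom.toLinearMap.lTensor S x) (e.toAlgHom.toLinearMap.lTensor S w)
      change (baseChange F T).law.toFun' S (e.symm.toAlgHom.toLinearMap.lTensor S _) =
        (baseChange F T).law.toFun' S (e.symm.toAlgHom.toLinearMap.lTensor S _) at h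
      rw [map_add, PolLaw.lTensor_algHom_apply _ _ (_ * _), map_mul, ← PolLaw.lTensor_algHom_apply,
        hinv, hinv] at h
      simpa using h
    rw [ker_baseChange] at hmem
    have h2 := Ideal.le_radical hmem
    rw [radical_kerBC_eq F] at h2
    have h3 : ((PolLaw.ker F.law).map (Algebra.TensorProduct.includeRight : B →ₐ[A] T ⊗[A] B)).radical ≤
        nilradical (T ⊗[A] B) := by
      rw [nilradical, Ideal.zero_eq_bot]
      refine Ideal.radical_le_radical_iff.mpr ?_
      rw [Ideal.map_le_iff_le_comap]
      intro b hb
      exact (mem_nilradical.mp (hF hb)).map _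
    have h4 := (mem_nilradical.mp (h3 h2)).map e
    rw [AlgEquiv.apply_symm_apply] at h4
    exact mem_nilradical.mpr h4
  rw [← split_unique G hG]
  show _ = Algebra.TensorProduct.rid T T R
    ((baseChange F T).law.toFun' R (e.symm.toAlgHom.toLinearMap.lTensor R _))
  rw [hinv, baseChange_toFun, Algebra.TensorProduct.rid_tmul, one_smul, bcVal, AlgEquiv.apply_symm_apply]


/-- Let A be a commutative ring and B a finite étale A-algebra, free of rank d as an A-module, so that X
= Spec B is finite étale of constant rank d over S = Spec A, and let N : B → A be the determinant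
law: the multiplicative polynomial law of degree d which on each A-algebra S is the norm of the free
S-algebra S ⊗_A B (N is taken as data characterised by this formula; it is the canonical family N_X
: S → Γ^d(X/S)). Then the kernel of N is the zero ideal, i.e. the image of N_X is X itself, and N is
the unique multiplicative law B → A of degree d whose kernel consists of nilpotent elements, i.e.
whose support is all of X_red. (The published statement is over an arbitrary algebraic space S with
X/S finite étale of locally constant rank, phrased with morphisms to Γ^?(X/S); this row is its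
content over an affine base with X free of rank d.) -/
theorem result {A B : Type u} [CommRing A] [CommRing B] [Algebra A B]
    [Module.Free A B] [Module.Finite A B] [Algebra.Etale A B] (d : ℕ) (hd : Module.finrank A B = d)
    (N : PolLaw.MulLaw A B A d)
    (hN : ∀ (S : Type u) [CommRing S] [Algebra A S] (x : S ⊗[A] B),
      N.law.toFun' S x = Algebra.norm S x ⊗ₜ[A] (1 : A)) :
    PolLaw.ker N.law = ⊥ ∧
      ∀ F : PolLaw.MulLaw A B A d, PolLaw.ker F.law ≤ nilradical B → F = N := by
  classical
  have hker : PolLaw.ker N.law = ⊥ := by
    refine (Submodule.eq_bot_iff _).mpr fun b hb => ?_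
    have htr : ∀ c : B, Algebra.trace A B (c * b) = 0 := by
      intro c
      let β := Module.Free.chooseBasis A B
      have h := (mem_ker_iff N b).mp hb c
      rw [hN] at h
      have h1 := congrArg (Algebra.TensorProduct.rid A A (Polynomial A)) h
      rw [Algebra.TensorProduct.rid_tmul, one_smul, map_one,
        Algebra.norm_eq_matrix_det (Algebra.TensorProduct.basis (Polynomial A) β), map_add, map_one] at h1
      have hm : Algebra.leftMulMatrix (Algebra.TensorProduct.basis (Polynomial A) β) ((X : Polynomial A) ⊗ₜ[A] (c * b)) =
          (X : Polynomial A) • (Algebra.leftMulMatrix β (c * b)).map C := by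
        ext i j
        rw [Algebra.leftMulMatrix_eq_repr_mul, Algebra.TensorProduct.basis_apply,
          Algebra.TensorProduct.tmul_mul_tmul, mul_one, Algebra.TensorProduct.basis_repr_tmul, Finsupp.smul_apply,
          Finsupp.mapRange_apply, Matrix.smul_apply, Matrix.map_apply, Algebra.leftMulMatrix_eq_repr_mul]
        rfl
      rw [hm] at h1
      have h2 := congrArg (fun r : Polynomial A => r.coeff 1) h1
      rw [Algebra.trace_eq_matrix_trace β, ← Matrix.coeff_det_one_add_X_smul_one]
      simpa [Polynomial.coeff_one] using h2
    have hbij := (Groth.EtaleAlgebra.etale_iff_bijective_traceForm A B).1 inferInstance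
    refine hbij.1 (LinearMap.ext fun c => ?_)
    rw [map_zero, LinearMap.zero_apply, Algebra.traceForm_apply, mul_comm]
    exact htr c
  refine ⟨hker, fun F hF => ?_⟩
  refine PolLaw.MulLaw.ext (PolynomialLaw.ext ?_)
  funext S _ _ x
  apply (Algebra.TensorProduct.rid A A S).injective
  rcases subsingleton_or_nontrivial A with hA | hA
  · have h01 : (1 : S) = 0 := by rw [← map_one (algebraMap A S), Subsingleton.elim (1 : A) 0, map_zero]
    have := subsingleton_of_zero_eq_one h01.symm
    exact Subsingleton.elim _ _
  have hrank : Module.rankAtStalk (R := A) B = (d : ℕ) := by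
    rw [Module.rankAtStalk_eq_finrank_of_free, hd]
  obtain ⟨T, _, _, _, _, _, hT⟩ := Algebra.IsFiniteSplit.exists_tensorProduct_of_etale hrank
  obtain ⟨n, ⟨e⟩⟩ := hT.nonempty_algEquiv_fun
  have : Nontrivial T := (FaithfulSMul.algebraMap_injective A T).nontrivial
  obtain rfl : d = n := by
    have h := e.toLinearEquiv.finrank_eq
    rw [Module.finrank_baseChange, Module.finrank_fin_fun] at h
    omega
  let j : S →ₐ[A] T ⊗[A] S := Algebra.TensorProduct.includeRight
  let _ : CommRing S := { Algebra.semiringToRing A (A := S), ‹CommSemiring S› with }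
  have hj : Function.Injective j := Module.FaithfullyFlat.tensorProduct_mk_injective (A := A) (B := T) S
  apply hj
  rw [rid_nat, rid_nat, law_nat, law_nat, value_eq F hF e, value_eq N (by rw [hker]; exact bot_le) e]

end Groth.Agent.S13400
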