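import Groth.Statements.S13402
import Mathlib

set_option autoImplicit false
universe u v w
open Hopf

namespace Groth.Agent.S13402

open scoped TensorProduct Coalgebra


/-- Let k be a field and let A and B be finite-dimensional commutative and cocommutative Hopf algebras
over k (finite commutative k-group schemes G = Spec A and H = Spec B). Let f : B → A be a bialgebra
map (a homomorphism G → H) which is injective and such that the ideal of A generated by the image of
the augmentation ideal of B is the augmentation ideal of A (the homomorphism G → H has trivial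
kernel). Then f is bijective, so G → H is an isomorphism; this is what makes the category of finite
commutative k-group schemes abelian. -/
theorem result (k : Type u) [Field k] (A : Type v) (B : Type w)
    [CommRing A] [HopfAlgebra k A] [Module.Finite k A] [Coalgebra.IsCocomm k A]
    [CommRing B] [HopfAlgebra k B] [Module.Finite k B] [Coalgebra.IsCocomm k B]
    (f : B →ₐc[k] A) (hinj : Function.Injective f)
    (hker : Ideal.map f (RingHom.ker (Bialgebra.counitAlgHom k B)) = RingHom.ker (Bialgebra.counitAlgHom k A)) :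
    Function.Bijective f := by
  let : Algebra B A := (f : B →ₐ[k] A).toRingHom.toAlgebra
  have : IsScalarTower k B A := IsScalarTower.of_algebraMap_eq fun r => ((f : B →ₐ[k] A).commutes r).symm
  have : Module.Finite B A := Module.Finite.of_restrictScalars_finite k B A
  refine ⟨hinj, (Algebra.isEpi_iff_surjective_algebraMap_of_finite).mp ((Algebra.isEpi_iff_forall_one_tmul_eq B A).mpr fun a => ?_)⟩
  let inL : A →ₐ[k] A ⊗[B] A := (Algebra.TensorProduct.includeLeft : A →ₐ[k] A ⊗[B] A)
  let inR : A →ₐ[k] A ⊗[B] A :=
    (Algebra.TensorProduct.includeRight : A →ₐ[B] A ⊗[B] A).restrictScalars k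
  have hLR : ∀ b : B, inL (f b) = inR (f b) := fun b => by
    show (f b) ⊗ₜ[B] (1 : A) = (1 : A) ⊗ₜ[B] (f b)
    rw [show (f b : A) = b • (1 : A) by rw [Algebra.smul_def, mul_one]; rfl, TensorProduct.smul_tmul]
  let g : A →ₐ[k] A ⊗[B] A := ((Algebra.TensorProduct.lift (inL.comp (HopfAlgebra.antipodeAlgHom k A)) inR
    (fun _ _ => .all _ _))).comp (Bialgebra.comulAlgHom k A)
  have hg : ∀ (x : A) {ι : Type v} (r : Coalgebra.Repr k x ι),
      g x = ∑ i ∈ r.index, inL (HopfAlgebra.antipode k (r.left i)) * inR (r.right i) := fun x ι r => by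
    show Algebra.TensorProduct.lift (inL.comp (HopfAlgebra.antipodeAlgHom k A)) inR (fun _ _ => .all _ _) (Coalgebra.comul x) = _
    rw [← r.eq, map_sum]
    simp only [Algebra.TensorProduct.lift_tmul]
    rfl
  have hgf : ∀ b : B, g (f b) = algebraMap k _ (Coalgebra.counit b) := fun b => by
    let r := ℛ k b
    let h : B →ₐ[k] A ⊗[B] A := inL.comp (f : B →ₐ[k] A)
    have e1 : g (f b) = ∑ i ∈ r.index, inL (HopfAlgebra.antipode k (f (r.left i))) * inR (f (r.right i)) := by
      show Algebra.TensorProduct.lift (inL.comp (HopfAlgebra.antipodeAlgHom k A)) inR (fun _ _ => .all _ _) (Coalgebra.comul (f b)) = _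
      rw [← CoalgHomClass.map_comp_comul_apply (F := B →ₐc[k] A) f b, ← r.eq, map_sum, map_sum]
      rfl
    have e2 : ∀ y : A, Coalgebra.counit (R := k) y = Coalgebra.counit (R := k) y := fun _ => rfl
    rw [e1]
    simp only [← hLR, ← map_mul, ← map_sum]
    have hr : (∑ i ∈ r.index, HopfAlgebra.antipode k (f (r.left i)) * f (r.right i)) = algebraMap k A (Coalgebra.counit (f b)) := by
      have hc : Coalgebra.comul (R := k) (f b) = ∑ i ∈ r.index, f (r.left i) ⊗ₜ[k] f (r.right i) := by
        rw [← CoalgHomClass.map_comp_comul_apply (F := B →ₐc[k] A) f b, ← r.eq, map_sum]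
        rfl
      have := HopfAlgebra.mul_antipode_rTensor_comul_apply (R := k) (f b)
      rw [hc, map_sum, map_sum] at this
      simpa using this
    rw [hr, CoalgHomClass.counit_comp_apply]
    exact inL.commutes _
  have hg1 : ∀ x : A, g x = algebraMap k _ (Coalgebra.counit x) := by
    intro x
    have hx : x - algebraMap k A (Coalgebra.counit (R := k) x) ∈ RingHom.ker g := by
      have hle : Ideal.map f (RingHom.ker (Bialgebra.counitAlgHom k B)) ≤ RingHom.ker g := by
        rw [Ideal.map_le_iff_le_comap]
        intro b hb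
        have hb' : Coalgebra.counit (R := k) b = 0 := hb
        rw [Ideal.mem_comap, RingHom.mem_ker, hgf, hb', map_zero]
      apply hle
      rw [hker, RingHom.mem_ker, map_sub, AlgHom.commutes]
      exact sub_self _
    rw [RingHom.mem_ker, map_sub, AlgHom.commutes, sub_eq_zero] at hx
    exact hx
  -- conclude
  let r := ℛ k a
  let a₁ := fun i => ℛ k (r.left i)
  let a₂ := fun i => ℛ k (r.right i)
  let Φ : A ⊗[k] (A ⊗[k] A) →ₐ[k] A ⊗[B] A :=
    Algebra.TensorProduct.lift inL (Algebra.TensorProduct.lift (inL.comp (HopfAlgebra.antipodeAlgHom k A)) inR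
      (fun _ _ => .all _ _)) (fun _ _ => .all _ _)
  have hΦ : ∀ x y z, Φ (x ⊗ₜ (y ⊗ₜ z)) = inL x * (inL (HopfAlgebra.antipode k y) * inR z) := fun x y z => by
    simp [Φ]
  have h := congrArg Φ (Coalgebra.sum_tmul_tmul_eq r a₁ a₂)
  simp only [map_sum, hΦ] at h
  have lhs : ∀ i ∈ r.index, (∑ j ∈ (a₁ i).index, inL ((a₁ i).left j) * (inL (HopfAlgebra.antipode k ((a₁ i).right j)) * inR (r.right i)))
      = inR (Coalgebra.counit (R := k) (r.left i) • r.right i) := fun i _ => by
    simp only [← mul_assoc, ← Finset.sum_mul, ← map_mul, ← map_sum]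
    rw [HopfAlgebra.sum_mul_antipode_eq_algebraMap_counit (a₁ i), AlgHom.commutes, ← Algebra.smul_def, ← map_smul]
  have rhs : ∀ i ∈ r.index, (∑ j ∈ (a₂ i).index, inL (r.left i) * (inL (HopfAlgebra.antipode k ((a₂ i).left j)) * inR ((a₂ i).right j)))
      = inL (Coalgebra.counit (R := k) (r.right i) • r.left i) := fun i _ => by
    rw [← Finset.mul_sum, ← hg (r.right i) (a₂ i), hg1, ← Algebra.commutes, ← Algebra.smul_def, ← map_smul]
  rw [Finset.sum_congr rfl lhs, Finset.sum_congr rfl rhs, ← map_sum, ← map_sum, Coalgebra.sum_counit_smul r] at h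
  have hs : (∑ i ∈ r.index, Coalgebra.counit (R := k) (r.right i) • r.left i) = a := by
    have := congrArg (TensorProduct.rid k A) (Coalgebra.sum_tmul_counit_eq r)
    simp only [map_sum, TensorProduct.rid_tmul, one_smul] at this
    exact this
  rw [hs] at h
  exact h
end Groth.Agent.S13402
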