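import Groth.Statements.S13404
import Mathlib
import Groth.Agent.Hensel1.Finite

set_option autoImplicit false
universe u v
open Hopf

namespace Groth.Agent.S13404

open scoped TensorProduct Coalgebra
open Polynomial IsLocalRing

theorem henselianLocalRing_transfer {S : Type u} {T : Type v} [CommRing S] [CommRing T]
    [HenselianLocalRing S] (e : S ≃+* T) : HenselianLocalRing T := by
  have : IsLocalRing T := e.isLocalRing
  refine { is_henselian := fun f hf a₀ h₁ h₂ => ?_ }
  set g := f.map (e.symm : T →+* S)
  have hev : ∀ a : T, g.eval (e.symm a) = e.symm (f.eval a) := fun a => by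
    simp only [g, eval_map]; exact (hom_eval₂ f (RingHom.id T) (e.symm : T →+* S) a).symm
  have hm : ∀ a : T, a ∈ maximalIdeal T → e.symm a ∈ maximalIdeal S := fun a ha => by
    simpa [mem_maximalIdeal, mem_nonunits_iff, isUnit_map_iff] using ha
  obtain ⟨a, ha, ha'⟩ := HenselianLocalRing.is_henselian g (hf.map _) (e.symm a₀)
    (by rw [hev]; exact hm _ h₁)
    (by
      have : g.derivative.eval (e.symm a₀) = e.symm (f.derivative.eval a₀) := by
        rw [derivative_map, eval_map]; exact (hom_eval₂ _ (RingHom.id T) (e.symm : T →+* S) a₀).symm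
      rw [this]; exact h₂.map _)
  refine ⟨e a, ?_, ?_⟩
  · have h := hev (e a)
    rw [RingEquiv.symm_apply_apply, ha.eq_zero] at h
    exact e.symm.injective (by rw [← h, map_zero])
  · have : e (a - e.symm a₀) ∈ maximalIdeal T := fun hu => ha' ((isUnit_map_iff e _).mp hu)
    simpa [map_sub] using this

theorem henselianLocalRing_of_finite' (R : Type u) [CommRing R] [HenselianLocalRing R]
    (S : Type v) [CommRing S] [IsLocalRing S] [Algebra R S] [Module.Finite R S] :
    HenselianLocalRing S := by
  obtain ⟨n, φ, hφ⟩ := Module.Finite.exists_fin' R S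
  have : Small.{u} S := small_of_surjective hφ
  let e : Shrink.{u} S ≃ₐ[R] S := Shrink.algEquiv R S
  have : IsLocalRing (Shrink.{u} S) := e.symm.toRingEquiv.isLocalRing
  have : Module.Finite R (Shrink.{u} S) := Module.Finite.equiv e.symm.toLinearEquiv
  have := Groth.Hensel1.henselianLocalRing_of_finite R (Shrink.{u} S)
  exact henselianLocalRing_transfer e.toRingEquiv

/-- an idempotent of a local ring sent to `1` by a map to a nontrivial ring is `1` -/
theorem idem_eq_one {S T : Type*} [CommRing S] [IsLocalRing S] [CommRing T] [Nontrivial T]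
    (f : S →+* T) (x : S) (hx : IsIdempotentElem x) (h : f x = 1) : x = 1 := by
  rcases IsLocalRing.isUnit_or_isUnit_one_sub_self x with hu | hu
  · exact hu.mul_left_cancel (by rw [mul_one]; exact hx)
  · have : x = 0 := by
      refine hu.mul_left_cancel ?_
      rw [mul_zero, sub_mul, one_mul, show x * x = x from hx, sub_self]
    rw [this, map_zero] at h
    exact absurd h zero_ne_one


/-- Let R be a henselian local ring and G = Spec A a finite flat group scheme over R (A a commutative
Hopf algebra over R, finite and flat as an R-module; G need not be commutative). Let e be an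
idempotent of A on which the counit takes the value 1 and such that A/(1 - e) is a local ring, so
that Spec A/(1 - e) is the connected component G⁰ of G containing the unit section. Then the ideal
(1 - e) is a Hopf ideal (G⁰ is a closed subgroup scheme of G), A/(1 - e) is a henselian local ring
with the same residue field as R (the composite R → A/(1 - e) → residue field is surjective), and
A/(1 - e) is flat over R. (The published statement also asserts that G⁰ is normal in G; this row
does not state normality.) -/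
theorem result (R : Type u) [CommRing R] [HenselianLocalRing R]
    (A : Type v) [CommRing A] [HopfAlgebra R A] [Module.Finite R A] [Module.Flat R A]
    (e : A) (he : IsIdempotentElem e) (hε : Bialgebra.counitAlgHom R A e = 1)
    [IsLocalRing (A ⧸ Ideal.span ({1 - e} : Set A))] :
    (Ideal.span ({1 - e} : Set A)).IsHopfIdeal R ∧ HenselianLocalRing (A ⧸ Ideal.span ({1 - e} : Set A)) ∧
      Function.Surjective (⇑(IsLocalRing.residue (A ⧸ Ideal.span ({1 - e} : Set A))) ∘ ⇑(algebraMap R (A ⧸ Ideal.span ({1 - e} : Set A)))) ∧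
      Module.Flat R (A ⧸ Ideal.span ({1 - e} : Set A)) := by
  set I : Ideal A := Ideal.span {1 - e} with hI
  let q : A →ₐ[R] A ⧸ I := Ideal.Quotient.mkₐ R I
  have hqe : q e = 1 := by
    have : q (1 - e) = 0 := Ideal.Quotient.eq_zero_iff_mem.mpr (Ideal.subset_span rfl)
    rw [map_sub, map_one, sub_eq_zero] at this
    exact this.symm
  have hεI : ∀ a ∈ I, Bialgebra.counitAlgHom R A a = 0 := by
    intro a ha
    obtain ⟨c, rfl⟩ := Ideal.mem_span_singleton'.mp ha
    rw [map_mul, map_sub, map_one, hε, sub_self, mul_zero]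
  let ε₀ : A ⧸ I →ₐ[R] R := Ideal.Quotient.liftₐ I (Bialgebra.counitAlgHom R A) hεI
  have hεq : ∀ a : A, ε₀ (q a) = Bialgebra.counitAlgHom R A a := fun a => rfl
  have hεalg : ∀ r : R, ε₀ (algebraMap R (A ⧸ I) r) = r := fun r => ε₀.commutes r
  have hεsurj : Function.Surjective ε₀ := fun r => ⟨_, hεalg r⟩
  have hm : (maximalIdeal R).comap ε₀ = maximalIdeal (A ⧸ I) := by
    have := Ideal.comap_isMaximal_of_surjective ε₀ hεsurj (K := maximalIdeal R)
    exact IsLocalRing.eq_maximalIdeal this
  have hkey : ∀ x : A ⧸ I, x - algebraMap R (A ⧸ I) (ε₀ x) ∈ maximalIdeal (A ⧸ I) := fun x => by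
    rw [← hm, Ideal.mem_comap, map_sub, hεalg, sub_self]; exact zero_mem _
  have : Module.Finite R (A ⧸ I) := Module.Finite.of_surjective q.toLinearMap Ideal.Quotient.mk_surjective
  -- the tensor square is local
  let ε₂ : (A ⧸ I) ⊗[R] (A ⧸ I) →ₐ[R] R := Algebra.TensorProduct.lift ε₀ ε₀ (fun _ _ => .all _ _)
  have hε₂ : Function.Surjective ε₂ := fun r => ⟨algebraMap R _ r, ε₂.commutes r⟩
  have : IsLocalRing ((A ⧸ I) ⊗[R] (A ⧸ I)) := by
    refine IsLocalRing.of_unique_max_ideal ⟨(maximalIdeal R).comap ε₂,
      Ideal.comap_isMaximal_of_surjective ε₂ hε₂, fun M hM => ?_⟩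
    have : Algebra.IsIntegral R ((A ⧸ I) ⊗[R] (A ⧸ I)) := Algebra.IsIntegral.of_finite R _
    let i₁ : A ⧸ I →ₐ[R] (A ⧸ I) ⊗[R] (A ⧸ I) := Algebra.TensorProduct.includeLeft
    let i₂ : A ⧸ I →ₐ[R] (A ⧸ I) ⊗[R] (A ⧸ I) := Algebra.TensorProduct.includeRight
    have hc : ∀ i : A ⧸ I →ₐ[R] (A ⧸ I) ⊗[R] (A ⧸ I), maximalIdeal (A ⧸ I) ≤ M.comap i := by
      intro i
      have hi : i.toRingHom.IsIntegral := by
        refine RingHom.IsIntegral.tower_top (algebraMap R (A ⧸ I)) i.toRingHom ?_
        rw [AlgHom.toRingHom_eq_coe, AlgHom.comp_algebraMap]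
        exact Algebra.isIntegral_def.mp this
      have := Ideal.isMaximal_comap_of_isIntegral_of_isMaximal' i.toRingHom hi M
      exact (IsLocalRing.eq_maximalIdeal this).ge
    have key : ∀ z, z - algebraMap R _ (ε₂ z) ∈ M := by
      intro z
      induction z using TensorProduct.induction_on with
      | zero => simp
      | tmul x y =>
        have hx : i₁ x - algebraMap R _ (ε₀ x) ∈ M := by
          simpa [map_sub, AlgHom.commutes] using hc i₁ (hkey x)
        have hy : i₂ y - algebraMap R _ (ε₀ y) ∈ M := by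
          simpa [map_sub, AlgHom.commutes] using hc i₂ (hkey y)
        have h1 : x ⊗ₜ[R] y = i₁ x * i₂ y := by simp [i₁, i₂]
        have h2 : ε₂ (x ⊗ₜ y) = ε₀ x * ε₀ y := by simp [ε₂]
        rw [h1, ← h1, h2, h1, map_mul]
        have : i₁ x * i₂ y - algebraMap R _ (ε₀ x) * algebraMap R _ (ε₀ y) =
            (i₁ x - algebraMap R _ (ε₀ x)) * i₂ y + algebraMap R _ (ε₀ x) * (i₂ y - algebraMap R _ (ε₀ y)) := by
          ring
        rw [this]
        exact M.add_mem (M.mul_mem_right _ hx) (M.mul_mem_left _ hy)
      | add x y hx hy =>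
        simp only [map_add]
        convert M.add_mem hx hy using 1; ring
    have hmax : (M.comap (algebraMap R ((A ⧸ I) ⊗[R] (A ⧸ I)))) = maximalIdeal R :=
      IsLocalRing.eq_maximalIdeal (Ideal.isMaximal_comap_of_isIntegral_of_isMaximal M)
    refine hM.eq_of_le (Ideal.comap_ne_top _ (Ideal.IsPrime.ne_top inferInstance)) fun z hz => ?_
    rw [Ideal.mem_comap, ← hmax, Ideal.mem_comap]
    have := M.sub_mem hz (key z)
    rwa [sub_sub_cancel] at this
  have hcomul : ∀ a ∈ I, TensorProduct.map (I.restrictScalars R).mkQ (I.restrictScalars R).mkQ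
      (Coalgebra.comul (R := R) a) = 0 := by
    let φ : A →ₐ[R] (A ⧸ I) ⊗[R] (A ⧸ I) :=
      (Algebra.TensorProduct.map q q).comp (Bialgebra.comulAlgHom R A)
    have hφe : φ e = 1 := by
      refine idem_eq_one ε₂.toRingHom _ (he.map φ) ?_
      have : ε₂.comp φ = Bialgebra.counitAlgHom R A := by
        apply AlgHom.ext; intro a
        show ε₂ (Algebra.TensorProduct.map q q (Coalgebra.comul (R := R) a)) = Coalgebra.counit (R := R) a
        let rr := ℛ R a
        rw [← rr.eq]
        simp only [map_sum, Algebra.TensorProduct.map_tmul]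
        conv_rhs => rw [← Coalgebra.sum_counit_smul rr, map_sum]
        simp [ε₂, hεq, Bialgebra.counitAlgHom, map_smul]
      exact (DFunLike.congr_fun this e).trans hε
    intro a ha
    have h : φ a = 0 := by
      obtain ⟨c, rfl⟩ := Ideal.mem_span_singleton'.mp ha
      rw [map_mul, map_sub, map_one, hφe, sub_self, mul_zero]
    have heq : ∀ z : A ⊗[R] A, Algebra.TensorProduct.map q q z = 0 →
        TensorProduct.map (I.restrictScalars R).mkQ (I.restrictScalars R).mkQ z = 0 := fun z hz => hz
    exact heq _ h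
  have hant : ∀ ⦃a : A⦄, a ∈ I → HopfAlgebra.antipode R a ∈ I := by
    let ψ : A →ₐ[R] A ⧸ I := q.comp (HopfAlgebra.antipodeAlgHom R A)
    have hψe : ψ e = 1 := by
      refine idem_eq_one ε₀.toRingHom _ (he.map ψ) ?_
      exact (DFunLike.congr_fun (AlgHom.counitAlgHom_comp_antipodeAlgHom (R := R) (A := A)) e).trans hε
    intro a ha
    have h : ψ a = 0 := by
      obtain ⟨c, rfl⟩ := Ideal.mem_span_singleton'.mp ha
      rw [map_mul, map_sub, map_one, hψe, sub_self, mul_zero]
    exact Ideal.Quotient.eq_zero_iff_mem.mp h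
  refine ⟨{ counit_eq_zero := fun a ha => hεI a ha, map_mkQ_comul_eq_zero := fun a ha => hcomul a ha,
            antipode_mem := hant }, henselianLocalRing_of_finite' R (A ⧸ I), ?_, ?_⟩
  · intro y
    obtain ⟨x, rfl⟩ := IsLocalRing.residue_surjective y
    refine ⟨ε₀ x, ?_⟩
    have h := hkey x
    rw [← IsLocalRing.residue_eq_zero_iff, map_sub, sub_eq_zero] at h
    exact h.symm
  · let s : A ⧸ I →ₗ[R] A := Submodule.liftQ (I.restrictScalars R) (LinearMap.mulLeft R e)
      (fun a ha => by
        obtain ⟨c, rfl⟩ := Ideal.mem_span_singleton'.mp (show a ∈ I from ha)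
        rw [LinearMap.mem_ker, LinearMap.mulLeft_apply, mul_left_comm, mul_sub, mul_one,
          show e * e = e from he, sub_self, mul_zero])
    refine Module.Flat.of_retract s q.toLinearMap (LinearMap.ext fun x => ?_)
    obtain ⟨a, rfl⟩ := Ideal.Quotient.mk_surjective x
    show q (e * a) = q a
    rw [map_mul, hqe, one_mul]
end Groth.Agent.S13404
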