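import Groth.Statements.S13409
import Mathlib.Algebra.Group.Subgroup.Ker
import Mathlib.Algebra.BigOperators.Group.Finset.Piecewise
import Mathlib.Algebra.Module.BigOperators
import Mathlib.Tactic.Abel
import Mathlib.Algebra.BigOperators.Pi
import Mathlib.Algebra.Group.Submonoid.BigOperators
import Mathlib.Algebra.Group.Subgroup.Finite
-- import your own Groth.Agent.* helpers here

set_option autoImplicit false
universe u v
open CombGraph

namespace Groth.Agent.S13409

/-- Let `A` be an abelian group and `G` a finite connected simple graph on `V` that is bipartite for a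
two-colouring `c : V → Bool` (adjacent vertices get different colours). If `a : V → A` has the same
sum over the vertices of each colour, then some labelling `x` of the edges by elements of `A` has,
at every vertex `v`, the sum of `x` over the edges incident to `v` equal to `a v`. (The published
statement concerns finite bipartite graphs in general; this row treats simple graphs.) -/
theorem result {V : Type u} [Fintype V] [DecidableEq V]
    (G : SimpleGraph V) [DecidableRel G.Adj] (hconn : G.Connected) (c : V → Bool)
    (hbip : ∀ v w : V, G.Adj v w → c v ≠ c w) (A : Type v) [AddCommGroup A] (a : V → A)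
    (hsum : ∑ v ∈ Finset.univ.filter (fun v => c v = true), a v =
      ∑ v ∈ Finset.univ.filter (fun v => c v = false), a v) :
    ∃ x : Sym2 V → A, ∀ v : V, ∑ e ∈ G.incidenceFinset v, x e = a v := by
  let ε : V → ℤ := fun v => if c v then 1 else -1
  let B : (Sym2 V → A) →+ (V → A) :=
    { toFun := fun x v => ∑ e ∈ G.incidenceFinset v, x e
      map_zero' := funext fun v => Finset.sum_eq_zero fun _ _ => rfl
      map_add' := fun x y => funext fun v => Finset.sum_add_distrib }
  suffices h : a ∈ B.range by
    obtain ⟨x, hx⟩ := h
    exact ⟨x, fun v => congrFun hx v⟩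
  have hedge : ∀ u w, G.Adj u w → ∀ t : A, Pi.single u t + Pi.single w t ∈ B.range := by
    intro u w huw t
    refine ⟨Pi.single s(u, w) t, funext fun v => ?_⟩
    show ∑ e ∈ G.incidenceFinset v, Pi.single s(u, w) t e = _
    rw [Finset.sum_pi_single']
    by_cases hu : v = u
    · subst hu
      simp [huw.ne, SimpleGraph.incidenceSet, huw]
    · by_cases hw : v = w
      · subst hw
        simp [huw.ne', SimpleGraph.incidenceSet, huw]
      · simp [hu, hw, SimpleGraph.incidenceSet]
  have hwalk : ∀ u w (_ : G.Walk u w) (t : A), Pi.single u t - Pi.single w ((ε u * ε w) • t) ∈ B.range := by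
    intro u w W
    induction W with
    | nil =>
      intro t
      rename_i z
      have : ε z * ε z = 1 := by cases h : c z <;> simp [ε, h]
      rw [this, one_smul, sub_self]
      exact zero_mem _
    | @cons u v w huv W ih =>
      intro t
      have h1 := sub_mem (hedge u v huv t) (ih t)
      have hε : ε u * ε w = -(ε v * ε w) := by
        have := hbip u v huv
        cases hu : c u <;> cases hv : c v <;> cases hw : c w <;> simp_all [ε]
      rw [hε, neg_smul, Pi.single_neg]
      convert h1 using 1
      abel
  obtain ⟨r⟩ := hconn.nonempty
  have key : a = ∑ v, (Pi.single v (a v) - Pi.single r ((ε v * ε r) • a v)) := by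
    rw [Finset.sum_sub_distrib, Finset.univ_sum_single]
    have h0 : ∑ v, ε v • a v = 0 := by
      rw [← Finset.sum_filter_add_sum_filter_not Finset.univ (fun v => c v = true)]
      have h1 : ∑ v ∈ Finset.univ.filter (fun v => c v = true), ε v • a v =
          ∑ v ∈ Finset.univ.filter (fun v => c v = true), a v :=
        Finset.sum_congr rfl fun v hv => by simp [ε, (Finset.mem_filter.mp hv).2]
      have h2 : ∑ v ∈ Finset.univ.filter (fun v => ¬ c v = true), ε v • a v =
          -∑ v ∈ Finset.univ.filter (fun v => c v = false), a v := by
        rw [← Finset.sum_neg_distrib]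
        exact Finset.sum_congr (Finset.filter_congr fun v _ => Bool.not_eq_true (c v) ▸ Iff.rfl) fun v hv => by
          simp [ε, (Finset.mem_filter.mp hv).2]
      rw [h1, h2, hsum, add_neg_cancel]
    have : ∑ v, (ε v * ε r) • a v = 0 := by
      simp only [mul_comm _ (ε r), mul_smul, ← Finset.smul_sum, h0, smul_zero]
    have h3 : ∑ v, Pi.single (M := fun _ : V => A) r ((ε v * ε r) • a v) = Pi.single r (∑ v, (ε v * ε r) • a v) :=
      (map_sum (AddMonoidHom.single (fun _ : V => A) r) _ _).symm
    rw [h3, this, Pi.single_zero, sub_zero]
  rw [key]
  exact sum_mem fun v _ => hwalk v r (hconn v r).some (a v)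

end Groth.Agent.S13409
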