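import Groth.Statements.S13410
import Groth.Agent.S13409
-- import your own Groth.Agent.* helpers here

set_option autoImplicit false
universe u v
open CombGraph

namespace Groth.Agent.S13410

/-- Let `A` be an abelian group and `G` a finite connected simple graph on `V`, bipartite for a
two-colouring `c`. Consider the additive group of labellings `x : Sym2 V → A` vanishing off the edge
set and with `∑_{e ∋ v} x e = 0` at every vertex `v`. If `e₀` is an edge whose deletion leaves `G`
connected, then evaluation at `e₀` restricted to this group is surjective and split: there is an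
additive map `φ : A → (Sym2 V → A)` with values in this group and with `φ a e₀ = a` for all `a`.
(The published statement concerns finite bipartite graphs in general; this row treats simple
graphs.) -/
theorem result {V : Type u} [Fintype V]
    [DecidableEq V] (G : SimpleGraph V) [DecidableRel G.Adj] (hconn : G.Connected) (c : V → Bool)
    (hbip : ∀ v w : V, G.Adj v w → c v ≠ c w) (A : Type v) [AddCommGroup A] (e₀ : Sym2 V)
    (he₀ : e₀ ∈ G.edgeSet) (hdel : (G.deleteEdges {e₀}).Connected) :
    ∃ φ : A →+ (Sym2 V → A),
      (∀ a : A, (∀ e : Sym2 V, e ∉ G.edgeSet → φ a e = 0) ∧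
        ∀ v : V, ∑ e ∈ G.incidenceFinset v, φ a e = 0) ∧
      ∀ a : A, φ a e₀ = a := by
  obtain ⟨u, w⟩ := e₀
  have huw : G.Adj u w := he₀
  let G' := G.deleteEdges {s(u, w)}
  let b : V → ℤ := Pi.single u (-1) + Pi.single w (-1)
  have hb : ∀ z : Bool, ∑ v ∈ Finset.univ.filter (fun v => c v = z), b v = -1 := by
    intro z
    simp only [b, Pi.add_apply, Finset.sum_add_distrib, Finset.sum_pi_single', Finset.mem_filter, Finset.mem_univ, true_and]
    have := hbip u w huw
    cases hu : c u <;> cases hw : c w <;> cases z <;> simp_all
  obtain ⟨x, hx⟩ := Groth.Agent.S13409.result G' hdel c (fun v v' h => hbip v v' (G.deleteEdges_le _ h)) ℤ b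
    ((hb true).trans (hb false).symm)
  let y : Sym2 V → ℤ := fun e => if e = s(u, w) then 1 else if e ∈ G'.edgeSet then x e else 0
  refine ⟨{ toFun := fun a e => y e • a
            map_zero' := funext fun e => smul_zero _
            map_add' := fun a a' => funext fun e => smul_add _ _ _ }, fun a => ⟨fun e he => ?_, fun v => ?_⟩, fun a => ?_⟩
  · show y e • a = 0
    have h1 : e ≠ s(u, w) := fun h => he (h ▸ huw)
    have h2 : e ∉ G'.edgeSet := fun h => he (SimpleGraph.edgeSet_mono (G.deleteEdges_le _) h)
    simp [y, h1, h2]
  · show ∑ e ∈ G.incidenceFinset v, y e • a = 0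
    have h0 : ∑ e ∈ G.incidenceFinset v, y e = 0 := by
      have hmem : ∀ e, e ∈ G'.incidenceFinset v ↔ e ∈ G.incidenceFinset v ∧ e ≠ s(u, w) := by
        intro e
        simp only [G', SimpleGraph.mem_incidenceFinset, SimpleGraph.incidenceSet, SimpleGraph.edgeSet_deleteEdges,
          Set.mem_setOf_eq, Set.mem_sdiff, Set.mem_singleton_iff]
        tauto
      have hG' : ∑ e ∈ (G.incidenceFinset v).filter (fun e => e ≠ s(u, w)), y e = b v := by
        rw [← hx v]
        refine Finset.sum_congr (Finset.ext fun e => by rw [Finset.mem_filter, hmem]) fun e he => ?_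
        have hne := ((hmem e).mp he).2
        have hin : e ∈ G'.edgeSet := SimpleGraph.incidenceSet_subset _ v ((G'.mem_incidenceFinset v e).mp he)
        simp [y, hne, hin]
      rw [← Finset.sum_filter_add_sum_filter_not (G.incidenceFinset v) (fun e => e ≠ s(u, w)), hG']
      have : ∑ e ∈ (G.incidenceFinset v).filter (fun e => ¬ e ≠ s(u, w)), y e = if v = u ∨ v = w then 1 else 0 := by
        simp only [not_ne_iff, Finset.filter_eq']
        by_cases hv : v = u ∨ v = w
        · simp [y, SimpleGraph.incidenceSet, huw, hv]
        · simp [SimpleGraph.incidenceSet, huw, hv]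
      rw [this]
      simp only [b, Pi.add_apply, Pi.single_apply]
      have := huw.ne
      split_ifs <;> simp_all
    rw [← Finset.sum_smul, h0, zero_smul]
  · show y s(u, w) • a = a
    simp [y]

end Groth.Agent.S13410
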