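import Groth.Statements.S13411
import Mathlib

set_option autoImplicit false
universe u v
open CombGraph

namespace Groth.Agent.S13411

section act
variable {ι κ μ : Type*} [Fintype ι] [DecidableEq ι] [Fintype κ] [DecidableEq κ] {A : Type v} [AddCommGroup A]

/-- an integral linear map acting on vectors with entries in an abelian group -/
def act (M : (ι → ℤ) →ₗ[ℤ] (κ → ℤ)) : (ι → A) →+ (κ → A) where
  toFun x k := ∑ i, M (Pi.single i 1) k • x i
  map_zero' := by ext; simp
  map_add' x y := by ext; simp [smul_add, Finset.sum_add_distrib]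

theorem act_apply (M : (ι → ℤ) →ₗ[ℤ] (κ → ℤ)) (x : ι → A) (k : κ) : act M x k = ∑ i, M (Pi.single i 1) k • x i := rfl

theorem act_id : act (LinearMap.id : (ι → ℤ) →ₗ[ℤ] (ι → ℤ)) = AddMonoidHom.id (ι → A) := by
  ext x k
  simp [act_apply, Pi.single_apply, ite_smul]

theorem act_comp [Fintype μ] [DecidableEq μ] (N : (κ → ℤ) →ₗ[ℤ] (μ → ℤ)) (M : (ι → ℤ) →ₗ[ℤ] (κ → ℤ)) (x : ι → A) :
    act (N ∘ₗ M) x = act N (act M x) := by
  ext m
  simp only [act_apply, LinearMap.comp_apply, Finset.smul_sum, smul_smul]
  rw [Finset.sum_comm]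
  refine Finset.sum_congr rfl fun i _ => ?_
  rw [← Finset.sum_smul]
  congr 1
  conv_lhs => rw [pi_eq_sum_univ' (M (Pi.single i 1)), map_sum, Finset.sum_apply]
  refine Finset.sum_congr rfl fun k _ => ?_
  rw [map_smul, Pi.smul_apply, smul_eq_mul, mul_comm]

theorem act_sub (M N : (ι → ℤ) →ₗ[ℤ] (κ → ℤ)) (x : ι → A) : act (M - N) x = act M x - act N x := by
  ext k
  simp [act_apply, sub_smul]

theorem act_zero (x : ι → A) : act (0 : (ι → ℤ) →ₗ[ℤ] (κ → ℤ)) x = 0 := by
  ext k
  simp [act_apply]

end act


/-- Let `A` be an abelian group and `G` a finite connected simple graph on `V`, bipartite for a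
two-colouring `c`, with cyclomatic number `n` (number of edges minus number of vertices plus one).
Then the additive group of labellings `x : Sym2 V → A` vanishing off the edge set and with `∑_{e ∋
v} x e = 0` at every vertex `v` is isomorphic to `A^n`: it is the range of an injective additive map
`(Fin n → A) → (Sym2 V → A)`. (The published statement concerns finite bipartite graphs in general;
this row treats simple graphs.) -/
theorem result {V : Type u} [Fintype V]
    [DecidableEq V] (G : SimpleGraph V) [DecidableRel G.Adj] (hconn : G.Connected) (c : V → Bool)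
    (hbip : ∀ v w : V, G.Adj v w → c v ≠ c w) (A : Type v) [AddCommGroup A] (n : ℕ)
    (hn : G.edgeFinset.card + 1 = Fintype.card V + n) :
    ∃ f : (Fin n → A) →+ (Sym2 V → A), Function.Injective f ∧
      Set.range f = {x : Sym2 V → A | (∀ e : Sym2 V, e ∉ G.edgeSet → x e = 0) ∧
        ∀ v : V, ∑ e ∈ G.incidenceFinset v, x e = 0} := by
  classical
  let E := {e // e ∈ G.edgeFinset}
  let inc : (E → ℤ) →ₗ[ℤ] (V → ℤ) :=
    { toFun := fun x v => ∑ e : E, if v ∈ (e : Sym2 V) then x e else 0
      map_add' := fun x y => by ext v; simp [← Finset.sum_add_distrib, ite_add_ite]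
      map_smul' := fun a x => by ext v; simp [Finset.mul_sum] }
  obtain ⟨r⟩ := hconn.nonempty
  let σ : V → ℤ := fun v => if c v then 1 else -1
  have hσ : ∀ v, σ v * σ v = 1 := fun v => by rcases h : c v <;> simp [σ, h]
  have hσadj : ∀ u v, G.Adj u v → σ u = -σ v := fun u v h => by
    have := hbip u v h
    rcases hu : c u <;> rcases hv : c v <;> simp_all [σ]
  have hincsingle : ∀ (e : E) (v : V), inc (Pi.single e 1) v = if v ∈ (e : Sym2 V) then 1 else 0 := fun e v => by
    show (∑ e' : E, if v ∈ (e' : Sym2 V) then Pi.single e (1 : ℤ) e' else 0) = _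
    rw [Finset.sum_eq_single e (fun b _ hb => by simp [hb]) (by simp)]
    simp
  have hedge : ∀ {u v} (h : G.Adj u v), inc (Pi.single (⟨s(u, v), SimpleGraph.mem_edgeFinset.2 h⟩ : E) 1) =
      Pi.single u 1 + Pi.single v 1 := fun {u v} h => by
    ext w
    rw [hincsingle]
    have huv := h.ne
    rcases eq_or_ne w u with rfl | hu
    · simp [huv]
    · rcases eq_or_ne w v with rfl | hv
      · simp [huv.symm]
      · simp [hu, hv]
  have hpath : ∀ v, ∃ w : E → ℤ, inc w = Pi.single v 1 - (σ v * σ r) • Pi.single r 1 := by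
    intro v
    have hreach := hconn.preconnected r v
    rw [SimpleGraph.reachable_iff_reflTransGen] at hreach
    induction hreach with
    | refl => exact ⟨0, by simp [hσ]⟩
    | @tail u v _ h ih =>
      obtain ⟨w, hw⟩ := ih
      refine ⟨Pi.single (⟨s(u, v), SimpleGraph.mem_edgeFinset.2 h⟩ : E) 1 - w, ?_⟩
      rw [map_sub, hedge h, hw, hσadj u v h, neg_mul, neg_smul]
      abel
  choose w hw using hpath
  let sec : (V → ℤ) →ₗ[ℤ] (E → ℤ) := (Pi.basisFun ℤ V).constr ℤ w
  let φ : (V → ℤ) →ₗ[ℤ] ℤ := ∑ v, σ v • LinearMap.proj v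
  have hφsingle : ∀ v, φ (Pi.single v 1) = σ v := fun v => by simp [φ, Pi.single_apply]
  have hsec : ∀ y, inc (sec y) = y - (φ y * σ r) • Pi.single r 1 := by
    intro y
    have h : inc ∘ₗ sec = LinearMap.id - (σ r • φ).smulRight (Pi.single r 1) := by
      refine (Pi.basisFun ℤ V).ext fun v => ?_
      rw [LinearMap.comp_apply, Module.Basis.constr_basis, hw, Pi.basisFun_apply]
      simp [hφsingle, mul_comm]
    have := LinearMap.congr_fun h y
    simpa [mul_comm] using this
  have hφinc : ∀ x, φ (inc x) = 0 := by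
    have h : φ ∘ₗ inc = 0 := (Pi.basisFun ℤ E).ext fun e => by
      rw [LinearMap.comp_apply, Pi.basisFun_apply]
      obtain ⟨e, he⟩ := e
      induction e using Sym2.ind with
      | _ u v =>
        have h : G.Adj u v := SimpleGraph.mem_edgeFinset.1 he
        rw [hedge h, map_add, hφsingle, hφsingle, hσadj u v h]
        simp
    exact fun x => LinearMap.congr_fun h x
  have hSI : ∀ x, inc (sec (inc x)) = inc x := fun x => by rw [hsec, hφinc]; simp
  have hrange : LinearMap.range inc = LinearMap.ker φ := by
    refine le_antisymm (by rintro _ ⟨x, rfl⟩; exact hφinc x) fun y hy => ⟨sec y, ?_⟩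
    rw [hsec, LinearMap.mem_ker.1 hy]
    simp
  have hsurj : Function.Surjective φ := fun a => ⟨(a * σ r) • Pi.single r 1, by
    rw [map_smul, hφsingle, smul_eq_mul, mul_assoc, hσ, mul_one]⟩
  have hrk : Module.finrank ℤ (LinearMap.ker inc) = n := by
    have h1 := Submodule.finrank_quotient_add_finrank (R := ℤ) (LinearMap.ker inc)
    have h2 := Submodule.finrank_quotient_add_finrank (R := ℤ) (LinearMap.ker φ)
    rw [inc.quotKerEquivRange.finrank_eq] at h1
    rw [φ.quotKerEquivRange.finrank_eq] at h2
    rw [LinearMap.range_eq_top.2 hsurj, finrank_top, Module.finrank_self, Module.finrank_pi] at h2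
    rw [hrange, Module.finrank_pi, show Fintype.card E = G.edgeFinset.card from Fintype.card_coe _] at h1
    omega
  let b := Module.finBasisOfFinrankEq ℤ (LinearMap.ker inc) hrk
  let i : (Fin n → ℤ) →ₗ[ℤ] (E → ℤ) := (LinearMap.ker inc).subtype ∘ₗ b.equivFun.symm.toLinearMap
  let p : (E → ℤ) →ₗ[ℤ] (Fin n → ℤ) := b.equivFun.toLinearMap ∘ₗ
    (LinearMap.id - sec ∘ₗ inc).codRestrict (LinearMap.ker inc) (fun x => by
      simp only [LinearMap.mem_ker, LinearMap.sub_apply, LinearMap.id_apply, LinearMap.comp_apply, map_sub, hSI, sub_self])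
  have hpi : p ∘ₗ i = LinearMap.id := by
    refine LinearMap.ext fun z => ?_
    have h0 : inc (b.equivFun.symm z : E → ℤ) = 0 := (b.equivFun.symm z).2
    refine (congrArg b.equivFun ?_).trans (b.equivFun.apply_symm_apply z)
    exact Subtype.ext (by simp only [i, LinearMap.codRestrict_apply, LinearMap.sub_apply, LinearMap.id_apply,
      LinearMap.comp_apply, LinearEquiv.coe_coe, Submodule.subtype_apply, h0, map_zero, sub_zero])
  have hip : i ∘ₗ p = LinearMap.id - sec ∘ₗ inc := by
    refine LinearMap.ext fun z => ?_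
    exact congrArg Subtype.val (b.equivFun.symm_apply_apply _)
  have hinci : inc ∘ₗ i = 0 := LinearMap.ext fun z => (b.equivFun.symm z).2
  let ext0 : (E → A) →+ (Sym2 V → A) :=
    { toFun := fun x e => if h : e ∈ G.edgeFinset then x ⟨e, h⟩ else 0
      map_zero' := by ext e; simp
      map_add' := fun x y => by
        ext e
        by_cases h : e ∈ G.edgeFinset
        · simp only [Pi.add_apply, dif_pos h]
        · simp only [Pi.add_apply, dif_neg h, add_zero] }
  have hinc : ∀ (x : E → A) (v : V), ∑ e ∈ G.incidenceFinset v, ext0 x e = act inc x v := by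
    intro x v
    rw [act_apply]
    simp only [hincsingle, ite_smul, one_smul, zero_smul]
    rw [show G.incidenceFinset v = G.edgeFinset.filter (fun e => v ∈ e) by
      ext e; simp [SimpleGraph.incidenceSet, SimpleGraph.mem_incidenceFinset],
      Finset.sum_filter, ← Finset.sum_coe_sort]
    refine Finset.sum_congr rfl fun e _ => ?_
    by_cases he : v ∈ (e : Sym2 V)
    · simp only [if_pos he]; exact dif_pos e.2
    · simp only [if_neg he]
  refine ⟨ext0.comp (act i), fun x y hxy => ?_, Set.ext fun x => ⟨?_, ?_⟩⟩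
  · have h : act i x = act i y := funext fun e => by
      have := congrFun hxy e.1
      exact (dif_pos e.2).symm.trans (this.trans (dif_pos e.2))
    have h' := congrArg (act p) h
    rwa [← act_comp, ← act_comp, hpi, act_id] at h'
  · rintro ⟨z, rfl⟩
    refine ⟨fun e he => ?_, fun v => ?_⟩
    · exact dif_neg (fun h => he (SimpleGraph.mem_edgeFinset.1 h))
    · rw [AddMonoidHom.comp_apply, hinc, ← act_comp, hinci, act_zero, Pi.zero_apply]
  · rintro ⟨h0, hv⟩
    let y : E → A := fun e => x e.1
    have hy : ext0 y = x := funext fun e => by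
      by_cases he : e ∈ G.edgeFinset
      · exact dif_pos he
      · exact (dif_neg he).trans (h0 e (fun h => he (SimpleGraph.mem_edgeFinset.2 h))).symm
    have hy0 : act inc y = 0 := funext fun v => by rw [← hinc, hy]; exact hv v
    refine ⟨act p y, ?_⟩
    rw [AddMonoidHom.comp_apply, ← act_comp, hip, act_sub, act_id, act_comp, hy0, map_zero]
    simp only [AddMonoidHom.id_apply, sub_zero]
    exact hy

end Groth.Agent.S13411
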