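import Groth.Statements.S13420
import Groth.Agent.NeronArea.Mapping


set_option autoImplicit false
universe u
open CategoryTheory AlgebraicGeometry
open NeronHD

set_option backward.isDefEq.respectTransparency false
open CategoryTheory MonoidalCategory CartesianMonoidalCategory Groth.NeronArea

namespace Groth.Agent.S13420

/-- Let S be a locally Noetherian scheme over a field of characteristic 0, S₀ ⊆ S₁ ⊆ S opens with S₀
scheme-theoretically dense in S, and N a smooth S-scheme. If N has the Néron mapping property for S₀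
⊆ S and N|S₁ has the Néron mapping property for S₀ ⊆ S₁ (restriction of morphisms from smooth
schemes over the base is bijective), then N has the Néron mapping property for S₁ ⊆ S. (Case of
schemes, with smooth test schemes, of a statement about algebraic spaces.) -/
theorem result {k : Type u} [Field k] [CharZero k] {S : Scheme.{u}} (σ : S ⟶ Spec (CommRingCat.of k)) [IsLocallyNoetherian S] (S₀ S₁ : S.Opens) (h01 : S₀ ≤ S₁) (hS₀ : CInt.IsSchematicallyDense S₀)
    (N : Over S) [Smooth N.hom]
    (hN0 : ∀ Z : Over S, Smooth Z.hom → Function.Bijective (fun g : Z ⟶ N => (Over.pullback S₀.ι).map g))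
    (hN10 : ∀ Z : Over (S₁ : Scheme.{u}), Smooth Z.hom → Function.Bijective (fun g : Z ⟶ (Over.pullback S₁.ι).obj N => (Over.pullback (S₁.ι ⁻¹ᵁ S₀).ι).map g)) :
    ∀ Z : Over S, Smooth Z.hom → Function.Bijective (fun g : Z ⟶ N => (Over.pullback S₁.ι).map g) := by
  intro Z hZ
  have : Smooth Z.hom := hZ
  have hsq := isPullback_morphismRestrict S₁.ι S₀
  have key := fun W : Over S => fun hW : Smooth W.hom =>
    (bijective_baseChange_iff S₀.ι S₁.ι (S₁.ι ⁻¹ᵁ S₀).ι hsq ((Over.pullback S₁.ι).obj W) N).1
      (hN10 _ (by exact inferInstanceAs (Smooth (Limits.pullback.snd W.hom S₁.ι))))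
  have hiso := isIso_map_rstπ S₀.ι S₁.ι (S.homOfLE h01) (S.homOfLE_ι h01) Z
  let e : (Over.map S₁.ι).obj ((Over.pullback S₁.ι).obj Z) ≅ rst S₁.ι Z :=
    Over.isoMk (Iso.refl _) (by simp [Limits.pullback.condition])
  rw [bijective_map_iff, ← (e.homFromEquiv (Z := N)).symm.comp_bijective,
    ← Function.Bijective.of_comp_iff' (key Z hZ)]
  have h := (((Over.pullback S₀.ι).mapIso e).homFromEquiv (Z := (Over.pullback S₀.ι).obj N)).symm.bijective.comp
    ((asIso ((Over.pullback S₀.ι).map (rstπ S₁.ι Z))).homFromEquiv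
      (Z := (Over.pullback S₀.ι).obj N) |>.symm.bijective.comp (hN0 Z hZ))
  refine iff_of_eq (congrArg _ (funext fun f => ?_)) |>.mp h
  simp [Iso.homFromEquiv]

end Groth.Agent.S13420
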