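import Groth.Statements.S13421
import Groth.Agent.NeronArea.Mapping


set_option autoImplicit false
universe u
open CategoryTheory AlgebraicGeometry
open NeronHD

set_option backward.isDefEq.respectTransparency false
open CategoryTheory MonoidalCategory CartesianMonoidalCategory Groth.NeronArea

namespace Groth.Agent.S13421

/-- Let T be a locally Noetherian scheme over a field of characteristic 0 and T₀ ⊆ T a
scheme-theoretically dense open. Let f : S → T be étale and such that S, viewed as a T-scheme, has
the Néron mapping property for T₀ ⊆ T, and let g : N → S be smooth and such that N, viewed as an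
S-scheme, has the Néron mapping property for f⁻¹(T₀) ⊆ S (restriction of morphisms from smooth
schemes over the base is bijective). Then N → T, the composite g ≫ f, has the Néron mapping property
for T₀ ⊆ T. (Case of schemes, with smooth test schemes, of a statement about algebraic spaces.) -/
theorem result {k : Type u} [Field k] [CharZero k] {T : Scheme.{u}} (τ : T ⟶ Spec (CommRingCat.of k)) [IsLocallyNoetherian T] (T₀ : T.Opens) (hT₀ : CInt.IsSchematicallyDense T₀)
    {S N : Scheme.{u}} (f : S ⟶ T) [Etale f] (g : N ⟶ S) [Smooth g]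
    (hS : ∀ Z : Over T, Smooth Z.hom → Function.Bijective (fun g : Z ⟶ Over.mk f => (Over.pullback T₀.ι).map g))
    (hN : ∀ Z : Over S, Smooth Z.hom → Function.Bijective (fun g : Z ⟶ Over.mk g => (Over.pullback (f ⁻¹ᵁ T₀).ι).map g)) :
    ∀ Z : Over T, Smooth Z.hom → Function.Bijective (fun g : Z ⟶ Over.mk (g ≫ f) => (Over.pullback T₀.ι).map g) := by
  intro Z hZ
  rw [bijective_map_iff]
  let q : Over.mk (g ≫ f) ⟶ Over.mk f := Over.homMk g
  have hsq := isPullback_morphismRestrict f T₀
  have hw : ∀ {W : Over T} (t : Z ⟶ W), t.left ≫ W.hom = Z.hom := fun t => Over.w t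
  constructor
  · intro a b hab
    have hq : a ≫ q = b ≫ q :=
      ((bijective_map_iff T₀.ι Z (Over.mk f)).1 (hS Z hZ)).1 (by simpa using congrArg (· ≫ q) hab)
    have hs : Smooth (a.left ≫ g) :=
      have : Smooth ((a.left ≫ g) ≫ f) := by rw [Category.assoc]; exact (hw a).symm ▸ hZ
      smooth_of_comp_etale (a.left ≫ g) f
    have hb : b.left ≫ g = a.left ≫ g := (congrArg CommaMorphism.left hq).symm
    let a' : Over.mk (a.left ≫ g) ⟶ Over.mk g := Over.homMk a.left
    let b' : Over.mk (a.left ≫ g) ⟶ Over.mk g := Over.homMk b.left hb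
    suffices a' = b' by ext; exact congrArg (fun t : Over.mk (a.left ≫ g) ⟶ Over.mk g => t.left) this
    refine ((injective_map_iff _ _ _).1 (hN _ hs).1) ?_
    let w : (rst (f ⁻¹ᵁ T₀).ι (Over.mk (a.left ≫ g))).left ⟶ (rst T₀.ι Z).left :=
      Limits.pullback.lift (Limits.pullback.fst _ _) (Limits.pullback.snd _ _ ≫ (f ∣_ T₀)) (by
        simp [← hw a, morphismRestrict_ι, ← Limits.pullback.condition_assoc])
    have hab' := congrArg (fun t => w ≫ t.left) hab
    ext
    simpa [w, a', b'] using hab'
  · intro h
    obtain ⟨s, hs⟩ := ((bijective_map_iff T₀.ι Z (Over.mk f)).1 (hS Z hZ)).2 (h ≫ q)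
    simp only at hs
    have hsl : Smooth s.left :=
      have : Smooth (s.left ≫ f) := by simpa using (Over.w s).symm ▸ hZ
      smooth_of_comp_etale s.left f
    let w : (rst (f ⁻¹ᵁ T₀).ι (Over.mk s.left)).left ⟶ (rst T₀.ι Z).left :=
      Limits.pullback.lift (Limits.pullback.fst _ _) (Limits.pullback.snd _ _ ≫ (f ∣_ T₀)) (by
        simp [← hw s, morphismRestrict_ι, ← Limits.pullback.condition_assoc])
    have hs' := congrArg CommaMorphism.left hs
    obtain ⟨a, ha⟩ := ((bijective_map_iff _ _ _).1 (hN (Over.mk s.left) hsl)).2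
      (Over.homMk (w ≫ h.left) (by
        have := congrArg (w ≫ ·) hs'
        simpa [w, q] using this.symm))
    have ha' := congrArg CommaMorphism.left ha
    refine ⟨Over.homMk a.left (by have := Over.w a; simp at this; simp [reassoc_of% this]; exact Over.w s), ?_⟩
    let v : (rst T₀.ι Z).left ⟶ (rst (f ⁻¹ᵁ T₀).ι (Over.mk s.left)).left :=
      Limits.pullback.lift (Limits.pullback.fst _ _)
        (hsq.lift (Limits.pullback.snd _ _) (Limits.pullback.fst _ _ ≫ s.left)
          (by rw [← Limits.pullback.condition, Category.assoc]; exact (congrArg (_ ≫ ·) (Over.w s)).symm)) (by simp)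
    have hvw : v ≫ w = 𝟙 _ := by apply Limits.pullback.hom_ext <;> simp [v, w]
    have := congrArg (v ≫ ·) ha'
    ext
    have hvwh : v ≫ w ≫ h.left = h.left := by rw [← Category.assoc, hvw]; exact Category.id_comp _
    refine Eq.trans ?_ (this.trans hvwh)
    simp [v]

end Groth.Agent.S13421
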