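import Groth.Statements.S13422
import Groth.Agent.NeronArea.Mapping
import Groth.Agent.NeronArea.WeakUniqueness
import Mathlib.AlgebraicGeometry.Noetherian


set_option autoImplicit false
universe u
open CategoryTheory AlgebraicGeometry
open NeronHD

namespace Groth.Agent.S13422

/-- Let S be a locally Noetherian scheme over a field of characteristic 0, S₀ ⊆ S a scheme-theoretically
dense open, and N a smooth S-scheme with the weak Néron mapping property for S₀ ⊆ S: for every étale
S-scheme U, restriction to S₀ is a bijection from S-morphisms U → N onto S₀-morphisms U|S₀ → N|S₀.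
Then N has the uniqueness half of the Néron mapping property: for every smooth S-scheme Z,
restriction of S-morphisms Z → N to S₀ is injective. (Case of schemes of a statement about algebraic
spaces.) -/
theorem result {k : Type u} [Field k] [CharZero k] {S : Scheme.{u}} (σ : S ⟶ Spec (CommRingCat.of k)) [IsLocallyNoetherian S] (S₀ : S.Opens) (hS₀ : CInt.IsSchematicallyDense S₀)
    (N : Over S) [Smooth N.hom]
    (hN : ∀ U : Over S, Etale U.hom → Function.Bijective (fun g : U ⟶ N => (Over.pullback S₀.ι).map g))
    (Z : Over S) [Smooth Z.hom] :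
    Function.Injective (fun g : Z ⟶ N => (Over.pullback S₀.ι).map g) := by
  intro g₁ g₂ h
  haveI := Groth.GrpschAbsch.isSchemeTheoreticallyDominant_ι S₀ hS₀
  have hchar : ∀ s : S, CharZero (S.residueField s) := fun s =>
    charZero_of_injective_ringHom (RingHom.injective
      ((Scheme.ΓSpecIso (CommRingCat.of k)).inv ≫ σ.appTop ≫ S.Γevaluation s).hom)
  have h' := (Groth.NeronArea.map_eq_iff S₀.ι g₁ g₂).1 h
  ext : 1
  refine Groth.NeronArea.eq_of_agree_etale_sections Z.hom N.hom (Limits.pullback.fst Z.hom S₀.ι) g₁.left g₂.left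
    (Over.w g₁) (Over.w g₂) (congrArg CommaMorphism.left h') hchar fun V i hi => ?_
  let a : Over.mk (i ≫ Z.hom) ⟶ Z := Over.homMk i
  refine congrArg CommaMorphism.left ((hN (Over.mk (i ≫ Z.hom)) hi).1
    (a₁ := a ≫ g₁) (a₂ := a ≫ g₂) ?_)
  simp only [Functor.map_comp]
  exact congrArg (_ ≫ ·) h

end Groth.Agent.S13422
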