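import Groth.Statements.S13423
import Groth.Agent.EtaleBaseTwo.UnramifiedAtLocal
import Groth.Agent.Reductive.UnramFibre
import Groth.Agent.DescentBase.ClosureRange
import Groth.Agent.S4997


set_option autoImplicit false
universe u
open CategoryTheory AlgebraicGeometry
open NeronHD

namespace Groth.Agent.S13423

/-- Let S be a reduced, locally Noetherian scheme over a field of characteristic 0 whose local rings are
all geometrically unibranch, and let f : X → S be quasi-finite (locally of finite type,
quasi-compact, with finite discrete fibres), separated and dominant, with X connected and nonempty,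
such that every fibre X_s over the residue field k(s) is smooth. Then f is étale. (Case of schemes
of a statement about algebraic spaces.) -/
theorem result {k : Type u} [Field k] [CharZero k] {S : Scheme.{u}} (σ : S ⟶ Spec (CommRingCat.of k)) [IsLocallyNoetherian S] [IsReduced S]
    (hS : ∀ s : S, CAlg2.IsGeomUnibranch (S.presheaf.stalk s))
    {X : Scheme.{u}} (f : X ⟶ S) [LocallyOfFiniteType f] [QuasiCompact f] [LocallyQuasiFinite f] [IsSeparated f] [IsDominant f]
    [ConnectedSpace X]
    (hfib : ∀ s : S, Smooth (Limits.pullback.snd f (S.fromSpecResidueField s))) :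
    Etale f := by
  have hunr : FormallyUnramified f := by
    refine Groth.Reductive.formallyUnramified_of_fibres f fun s => ?_
    have : Smooth (f.fiberToSpecResidueField s) := hfib s
    have : LocallyQuasiFinite (f.fiberToSpecResidueField s) :=
      MorphismProperty.pullback_snd (P := @LocallyQuasiFinite) _ _ inferInstance
    have : Etale (f.fiberToSpecResidueField s) := (Groth.Agent.S4997.result _).2 ⟨‹_›, ‹_›⟩
    infer_instance
  have hdom : ∀ s : S, IsDomain (S.presheaf.stalk s) := fun s => by
    have h := (hS s).1.1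
    have : _root_.IsReduced (S.presheaf.stalk s) := inferInstance
    let e : S.presheaf.stalk s ≃+* S.presheaf.stalk s ⧸ nilradical (S.presheaf.stalk s) :=
      (RingEquiv.quotientBot _).symm.trans (Ideal.quotEquivOfEq (nilradical_eq_zero _).symm)
    exact e.toMulEquiv.isDomain_iff.mpr h
  let P : X → Prop := fun x => ∃ x', x' ⤳ x ∧ ∀ y : S, y ⤳ f x' → y = f x'
  have het : ∀ x, P x → ∃ U : X.Opens, x ∈ U ∧ Etale (U.ι ≫ f) := by
    rintro x ⟨x', hx', hmax⟩
    have := hdom (f x)
    refine Groth.EtaleBaseTwo.exists_etale_nhd_of_stalkMap_injective f x (hS _) ?_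
    obtain ⟨q, hq⟩ : x' ∈ Set.range (X.fromSpecStalk x) := by rw [Scheme.range_fromSpecStalk]; exact hx'
    have h₁ : S.fromSpecStalk (f x) (Spec.map (f.stalkMap x) q) = f x' := by
      rw [← Scheme.Hom.comp_apply, Scheme.SpecMap_stalkMap_fromSpecStalk, Scheme.Hom.comp_apply, hq]
    have h₂ : Spec.map (f.stalkMap x) q = ⟨⊥, Ideal.isPrime_bot⟩ := by
      apply (S.fromSpecStalk (f x)).isEmbedding.injective
      rw [h₁]
      refine (hmax _ ?_).symm
      rw [← h₁]
      refine Specializes.map ?_ (S.fromSpecStalk (f x)).continuous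
      exact (PrimeSpectrum.le_iff_specializes _ _).1 bot_le
    rw [RingHom.injective_iff_ker_eq_bot, eq_bot_iff]
    intro a ha
    have h₃ : a ∈ (Spec.map (f.stalkMap x) q).asIdeal := by
      show (f.stalkMap x) a ∈ q.asIdeal
      rw [show (f.stalkMap x) a = 0 from RingHom.mem_ker.mp ha]
      exact zero_mem _
    rwa [h₂] at h₃
  have hPopen : IsOpen {x | P x} := by
    rw [isOpen_iff_forall_mem_open]
    intro x hx
    obtain ⟨U, hxU, hU⟩ := het x hx
    refine ⟨U, fun u hu => ?_, U.isOpen, hxU⟩
    obtain ⟨w, hw, hwmax⟩ : ∃ w : S, w ⤳ f u ∧ ∀ y, y ⤳ w → y = w := by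
      have := hdom (f u)
      refine ⟨S.fromSpecStalk (f u) ⟨⊥, Ideal.isPrime_bot⟩, ?_, fun y hy => ?_⟩
      · have : S.fromSpecStalk (f u) ⟨⊥, Ideal.isPrime_bot⟩ ∈ Set.range (S.fromSpecStalk (f u)) := ⟨_, rfl⟩
        rwa [Scheme.range_fromSpecStalk] at this
      · have hw : S.fromSpecStalk (f u) ⟨⊥, Ideal.isPrime_bot⟩ ⤳ f u := by
          have : S.fromSpecStalk (f u) ⟨⊥, Ideal.isPrime_bot⟩ ∈ Set.range (S.fromSpecStalk (f u)) := ⟨_, rfl⟩
          rwa [Scheme.range_fromSpecStalk] at this
        obtain ⟨q, rfl⟩ : y ∈ Set.range (S.fromSpecStalk (f u)) := by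
          rw [Scheme.range_fromSpecStalk]; exact hy.trans hw
        have h := (S.fromSpecStalk (f u)).isEmbedding.isInducing.specializes_iff.1 hy
        exact congrArg _ (PrimeSpectrum.ext (le_bot_iff.1 ((PrimeSpectrum.le_iff_specializes _ _).2 h)))
    obtain ⟨u', hu', hfu'⟩ := Flat.generalizingMap (U.ι ≫ f) (a := ⟨u, hu⟩) hw
    refine ⟨U.ι u', hu'.map U.ι.continuous, ?_⟩
    rw [← Scheme.Hom.comp_apply, hfu']
    exact hwmax
  have : IsLocallyNoetherian X := LocallyOfFiniteType.isLocallyNoetherian f
  let E : X.Opens := ⟨{x | P x}, hPopen⟩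
  have hPclosed : IsClosed {x | P x} := by
    rw [← closure_subset_iff_isClosed]
    intro x hx
    obtain ⟨e, he⟩ := Groth.DescentBase.exists_specializes_of_mem_closure_range E.ι
      (z := x) (by rw [Scheme.Opens.range_ι]; exact hx)
    obtain ⟨x', hx', hmax⟩ := e.2
    exact ⟨x', hx'.trans he, hmax⟩
  have hne : {x | P x}.Nonempty := by
    obtain ⟨x₀⟩ : Nonempty X := inferInstance
    have := hdom (f x₀)
    let w := S.fromSpecStalk (f x₀) ⟨⊥, Ideal.isPrime_bot⟩
    obtain ⟨x₁, hx₁⟩ := Groth.DescentBase.exists_specializes_of_mem_closure_range f (z := w)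
      (by rw [f.denseRange.closure_range]; trivial)
    refine ⟨x₁, x₁, specializes_rfl, fun y hy => ?_⟩
    have hmax : ∀ z, z ⤳ w → z = w := fun z hz => by
      have hw : w ⤳ f x₀ := by
        have : w ∈ Set.range (S.fromSpecStalk (f x₀)) := ⟨_, rfl⟩
        rwa [Scheme.range_fromSpecStalk] at this
      obtain ⟨q, rfl⟩ : z ∈ Set.range (S.fromSpecStalk (f x₀)) := by
        rw [Scheme.range_fromSpecStalk]; exact hz.trans hw
      have h := (S.fromSpecStalk (f x₀)).isEmbedding.isInducing.specializes_iff.1 hz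
      exact congrArg _ (PrimeSpectrum.ext (le_bot_iff.1 ((PrimeSpectrum.le_iff_specializes _ _).2 h)))
    rw [hmax _ hx₁]
    exact hmax y (hy.trans hx₁)
  have hall : ∀ x, P x := fun x => by
    have := IsClopen.eq_univ ⟨hPclosed, hPopen⟩ hne
    exact (Set.ext_iff.1 this x).2 trivial
  choose U hxU hU using fun x => het x (hall x)
  exact (IsZariskiLocalAtSource.iff_of_openCover (P := @Etale)
    (X.openCoverOfIsOpenCover U (top_le_iff.mp fun x _ => TopologicalSpace.Opens.mem_iSup.mpr ⟨x, hxU x⟩))).mpr hU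

end Groth.Agent.S13423
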