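import Groth.Statements.S14401
import Groth.Agent.PropsBasic.Generization

set_option autoImplicit false
universe u
open CategoryTheory AlgebraicGeometry
open Props

namespace Groth.Agent.S14401

/-- Let X be a Noetherian scheme all of whose local rings are integral domains. Then each irreducible
component of X is an open subset of X, and each point of X lies on exactly one irreducible component
(so the irreducible components of X are pairwise disjoint, open and closed, and coincide with the
connected components). (The published statement assumes X regular and Noetherian; its argument uses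
only that the local rings of X are domains, which is the hypothesis taken here.) -/
theorem result (X : Scheme.{u}) [AlgebraicGeometry.IsNoetherian X]
    (hX : ∀ x : X, IsDomain (X.presheaf.stalk x)) :
    (∀ Z ∈ irreducibleComponents (X : Type u), IsOpen Z) ∧
      ∀ x : X, ∃! Z, Z ∈ irreducibleComponents (X : Type u) ∧ x ∈ Z := by
  have huniq := fun x : X => Groth.PropsBasic.existsUnique_irreducibleComponent (hX x)
  refine ⟨fun Z hZ => ?_, huniq⟩
  have hfin : (irreducibleComponents (X : Type u)).Finite :=
    TopologicalSpace.NoetherianSpace.finite_irreducibleComponents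
  have e : Z = (⋃ W ∈ irreducibleComponents (X : Type u) \ {Z}, W)ᶜ := by
    ext x
    simp only [Set.mem_compl_iff, Set.mem_iUnion, Set.mem_diff, Set.mem_singleton_iff, not_exists]
    refine ⟨fun hx W ⟨hW, hne⟩ hxW => hne ((huniq x).unique ⟨hW, hxW⟩ ⟨hZ, hx⟩), fun h => ?_⟩
    obtain ⟨W, ⟨hW, hxW⟩, -⟩ := huniq x
    by_contra hx
    exact h W ⟨hW, fun e => hx (e ▸ hxW)⟩ hxW
  rw [e, isOpen_compl_iff]
  exact (hfin.diff).isClosed_biUnion fun W hW => isClosed_of_mem_irreducibleComponents W hW.1

end Groth.Agent.S14401
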