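import Groth.Statements.S13424
import Groth.Agent.EtPbc.NormalOpenConst
import Groth.Agent.S14401

set_option autoImplicit false
universe u
open CategoryTheory AlgebraicGeometry
open GrpSch

open TopologicalSpace CategoryTheory.Limits

namespace Groth.Agent.S13424

/-- In a locally Noetherian scheme with domains as local rings closures of open sets are open. -/
theorem isOpen_closure {W : Scheme.{u}} [IsLocallyNoetherian W]
    (hW : ∀ x : W, IsDomain (W.presheaf.stalk x)) (U : W.Opens) : IsOpen (closure (U : Set W)) := by
  refine isOpen_iff_forall_mem_open.2 fun x hx => ?_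
  obtain ⟨N, hN, hxN, -⟩ := exists_isAffineOpen_mem_and_subset (X := W) (x := x) (U := ⊤) trivial
  haveI : IsAffine N.toScheme := hN
  haveI : AlgebraicGeometry.IsNoetherian N.toScheme := {}
  have hd : ∀ y : N.toScheme, IsDomain (N.toScheme.presheaf.stalk y) := fun y => by
    let e := (asIso (N.ι.stalkMap y)).commRingCatIsoToRingEquiv
    exact e.symm.toMulEquiv.isDomain_iff.mpr (hW (N.ι y))
  obtain ⟨hopen, huniq⟩ := Groth.Agent.S14401.result N.toScheme hd
  obtain ⟨C, ⟨hC, hxC⟩, -⟩ := huniq ⟨x, hxN⟩
  have hO : IsOpen (N.ι '' C) := N.ι.isOpenEmbedding.isOpenMap C (hopen C hC)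
  have hirr : IsIrreducible (N.ι '' C) := hC.1.image _ N.ι.continuous.continuousOn
  have hxO : x ∈ N.ι '' C := ⟨_, hxC, rfl⟩
  have hne : ((N.ι '' C) ∩ (U : Set W)).Nonempty := mem_closure_iff.1 hx _ hO hxO
  refine ⟨_, ?_, hO, hxO⟩
  exact (subset_closure_inter_of_isPreirreducible_of_isOpen hirr.2 U.2 hne).trans
    (closure_mono Set.inter_subset_right)


/-- Let S be a normal, locally Noetherian scheme over a field of characteristic 0. Let p : G → S and q :
H → S be smooth morphisms with sections e_G and e_H, and f : G → H an étale morphism over S with f ∘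
e_G = e_H (the case in view: an étale homomorphism of smooth group schemes and their unit sections).
Call such a pointed S-scheme aligned when the scheme-theoretic image of its section is étale over S.
If H is aligned then G is aligned. (The published statement has an arbitrary locally Noetherian
base; over the reducible curve xy = 0 the étale group scheme obtained from two copies of the base
glued along the complement of one branch maps to the trivial group by an étale homomorphism and is
not aligned, so the base is taken normal here, where the closure of the section is a union of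
connected components of the preimage of the image of e_H. Schemes only.) -/
theorem result {k : Type u} [Field k] [CharZero k] {S : Scheme.{u}} (σ : S ⟶ Spec (CommRingCat.of k)) [IsLocallyNoetherian S] (hS : Pi1.IsNormalScheme S)
    {G H : Scheme.{u}} (p : G ⟶ S) (q : H ⟶ S) [Smooth p] [Smooth q]
    (eG : S ⟶ G) (eH : S ⟶ H) (heG : eG ≫ p = 𝟙 S) (heH : eH ≫ q = 𝟙 S)
    (f : G ⟶ H) [Etale f] (hf : f ≫ q = p) (hfe : eG ≫ f = eH)
    (hH : Etale (eH.ker.subschemeι ≫ q)) :
    Etale (eG.ker.subschemeι ≫ p) := by
  classical
  haveI : IsLocallyNoetherian G := LocallyOfFiniteType.isLocallyNoetherian p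
  let Z := eH.ker.subscheme
  let ι := eH.ker.subschemeι
  haveI : Etale (ι ≫ q) := hH
  let W := pullback f ι
  let i : W ⟶ G := pullback.fst f ι
  haveI : IsClosedImmersion i := MorphismProperty.pullback_fst _ _ inferInstance
  haveI : Etale (pullback.snd f ι) := MorphismProperty.pullback_snd _ _ inferInstance
  let π : W ⟶ S := i ≫ p
  haveI hπ : Etale π := by
    rw [show π = pullback.snd f ι ≫ ι ≫ q by
      show pullback.fst f ι ≫ p = _
      rw [← hf, pullback.condition_assoc]]
    infer_instance
  haveI : IsLocallyNoetherian W := LocallyOfFiniteType.isLocallyNoetherian π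
  have hWn := Groth.EtPbc.NormalOpen.isNormalScheme_of_etale hS π
  let a : S ⟶ W := pullback.lift eG eH.toImage (by rw [hfe]; exact eH.toImage_imageι.symm)
  have ha : a ≫ i = eG := pullback.lift_fst _ _ _
  have hsec : a ≫ π = 𝟙 S := by rw [reassoc_of% ha, heG]
  haveI : Etale (a ≫ π) := by rw [hsec]; infer_instance
  haveI : Etale a := Etale.of_comp a π
  haveI : Mono a := by
    haveI : Mono (a ≫ π) := by rw [hsec]; infer_instance
    exact mono_of_mono a π
  haveI : IsOpenImmersion a := IsOpenImmersion.of_flat_of_mono a
  let V : W.Opens := ⟨closure (Set.range a), by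
    simpa using isOpen_closure (fun x => (hWn x).1) a.opensRange⟩
  haveI : IsClosedImmersion V.ι := IsClosedImmersion.of_isPreimmersion _ (by
    rw [Scheme.Opens.range_ι]; exact isClosed_closure)
  have hle : Set.range a ⊆ Set.range V.ι := by
    rw [Scheme.Opens.range_ι]; exact subset_closure
  let b : S ⟶ V.toScheme := IsOpenImmersion.lift V.ι a hle
  have hb : b ≫ V.ι = a := IsOpenImmersion.lift_fac _ _ _
  haveI : IsDominant b := ⟨by
    intro v
    rw [V.ι.isOpenEmbedding.isInducing.closure_eq_preimage_closure_image, ← Set.range_comp,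
      show (V.ι ∘ b : S → W) = a from congrArg (fun m : S ⟶ W => (m : S → W)) hb]
    exact v.2⟩
  haveI : IsReduced V.toScheme := by
    haveI : ∀ v : V.toScheme, _root_.IsReduced (V.toScheme.presheaf.stalk v) := fun v => by
      let e := (asIso (V.ι.stalkMap v)).commRingCatIsoToRingEquiv
      haveI := (hWn (V.ι v)).1
      exact isReduced_of_injective e.symm e.symm.injective
    exact isReduced_of_isReduced_stalk _
  haveI : IsSchemeTheoreticallyDominant b := .of_isDominant b
  have key : eG.ker = (V.ι ≫ i).ker := by
    rw [← ha, ← hb, Category.assoc, Scheme.Hom.ker_comp b, b.ker_eq_bot, Scheme.IdealSheafData.map_bot]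
  rw [key]
  have h : (V.ι ≫ i).toImage ≫ ((V.ι ≫ i).ker.subschemeι ≫ p) = V.ι ≫ π := by
    rw [← Category.assoc]
    exact (congrArg (· ≫ p) (V.ι ≫ i).toImage_imageι).trans (Category.assoc _ _ _)
  haveI : Etale ((V.ι ≫ i).toImage ≫ ((V.ι ≫ i).ker.subschemeι ≫ p)) := by rw [h]; infer_instance
  rw [← IsIso.inv_hom_id_assoc (V.ι ≫ i).toImage ((V.ι ≫ i).ker.subschemeι ≫ p)]
  infer_instance

end Groth.Agent.S13424
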