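import Groth.Statements.S13425
import Groth.Agent.AlgGrp1.Points
import Groth.Agent.NeronArea.WeakUniqueness
import Groth.Agent.LocImm.Birational


set_option autoImplicit false
universe u
open CategoryTheory AlgebraicGeometry
open NeronHD

namespace Groth.Agent.S13425

/-- Let k be a characteristic-zero algebraically closed field and X, Y integral schemes, separated and
of finite type over k, with Y normal, and let f : X → Y be a dominant k-morphism which is injective
on k-rational points. Then f is an open immersion. (Case of schemes of a statement about algebraic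
spaces.) -/
theorem result {k : Type u} [Field k] [IsAlgClosed k] [CharZero k]
    {X Y : Scheme.{u}} (sX : X ⟶ Spec (CommRingCat.of k)) (sY : Y ⟶ Spec (CommRingCat.of k))
    [IsIntegral X] [IsIntegral Y] [IsSeparated sX] [IsSeparated sY]
    [LocallyOfFiniteType sX] [QuasiCompact sX] [LocallyOfFiniteType sY] [QuasiCompact sY]
    (hY : Pi1.IsNormalScheme Y)
    (f : X ⟶ Y) (hf : f ≫ sY = sX) [IsDominant f]
    (hinj : ∀ a b : Spec (CommRingCat.of k) ⟶ X, a ≫ sX = 𝟙 _ → b ≫ sX = 𝟙 _ → a ≫ f = b ≫ f → a = b) :
    IsOpenImmersion f := by
  have : LocallyOfFiniteType (f ≫ sY) := by rw [hf]; infer_instance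
  have : LocallyOfFiniteType f := locallyOfFiniteType_of_comp f sY
  have : IsSeparated (f ≫ sY) := by rw [hf]; infer_instance
  have : IsSeparated f := IsSeparated.of_comp f sY
  have : QuasiCompact (f ≫ sY) := by rw [hf]; infer_instance
  have : QuasiCompact f := QuasiCompact.of_comp f sY
  have hui : UniversallyInjective f := by
    rw [UniversallyInjective.iff_diagonal, surjective_iff]
    by_contra hne
    simp only [Function.Surjective, not_forall] at hne
    obtain ⟨z, hz⟩ := hne
    let P : Over (Spec (CommRingCat.of k)) := Over.mk (Limits.pullback.fst f f ≫ sX)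
    have : LocallyOfFiniteType P.hom :=
      inferInstanceAs (LocallyOfFiniteType (Limits.pullback.fst f f ≫ sX))
    have := LocallyOfFiniteType.jacobsonSpace P.hom
    obtain ⟨p, hp, hpc⟩ := nonempty_inter_closedPoints (X := P.left)
      (Z := (Set.range (Limits.pullback.diagonal f))ᶜ) ⟨z, fun ⟨x, hx⟩ => hz ⟨x, hx⟩⟩
      (Limits.pullback.diagonal f).isClosedEmbedding.isClosed_range.isOpen_compl.isLocallyClosed
    obtain ⟨s, hs⟩ := Groth.AlgGrp1.exists_point_over_closed k P p hpc
    let s' : Spec (CommRingCat.of k) ⟶ Limits.pullback f f := s.left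
    have hw : s' ≫ Limits.pullback.fst f f ≫ sX = 𝟙 _ := (Over.w s).trans (by
      show Spec.map (CommRingCat.ofHom (algebraMap k k)) = _
      exact Spec.map_id _)
    have hw' : s' ≫ Limits.pullback.snd f f ≫ sX = 𝟙 _ := by
      rw [← hw, ← hf, Limits.pullback.condition_assoc]
    have heq := hinj (s' ≫ Limits.pullback.fst f f) (s' ≫ Limits.pullback.snd f f)
      (by rw [Category.assoc, hw]) (by rw [Category.assoc, hw'])
      (by rw [Category.assoc, Category.assoc, Limits.pullback.condition])
    have hd : s' = (s' ≫ Limits.pullback.fst f f) ≫ Limits.pullback.diagonal f := by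
      apply Limits.pullback.hom_ext <;> simp [heq]
    refine hp ⟨(s' ≫ Limits.pullback.fst f f) (IsLocalRing.closedPoint k), ?_⟩
    rw [← Scheme.Hom.comp_apply, ← hd]
    exact hs
  obtain ⟨hinjf, hpi⟩ := ((tfae_universallyInjective f).out 0 2).1 hui
  have : LocallyQuasiFinite f := LocallyQuasiFinite.of_injective hinjf
  let ξ := genericPoint X
  have hgen : f ξ = genericPoint Y := by
    have h := (genericPoint_spec X).image f.continuous
    rw [Set.image_univ, f.denseRange.closure_range] at h
    exact h.eq (genericPoint_spec Y)
  have hchar : CharZero (Y.residueField (f ξ)) := by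
    let φ : k →+* Y.residueField (f ξ) :=
      ((Y.evaluation ⊤ (f ξ) trivial).hom.comp sY.appTop.hom).comp
        (Scheme.ΓSpecIso (CommRingCat.of k)).inv.hom
    exact charZero_of_injective_ringHom φ.injective
  have hres : Function.Bijective (f.residueFieldMap ξ).hom := by
    let := (f.residueFieldMap ξ).hom.toAlgebra
    have : IsPurelyInseparable (Y.residueField (f ξ)) (X.residueField ξ) := hpi ξ
    have : Module.Finite (Y.residueField (f ξ)) (X.residueField ξ) :=
      Groth.NeronArea.finite_residueFieldMap_of_isClosed f ξ (isClosed_discrete _)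
    have : Algebra.IsAlgebraic (Y.residueField (f ξ)) (X.residueField ξ) :=
      Algebra.IsAlgebraic.of_finite _ _
    exact ⟨(f.residueFieldMap ξ).hom.injective,
      IsPurelyInseparable.surjective_algebraMap_of_isSeparable (Y.residueField (f ξ)) (X.residueField ξ)⟩
  have hbir : IsIso (f.stalkMap ξ) := by
    have hY' : IsField (Y.presheaf.stalk (f ξ)) := by
      rw [hgen]
      exact Field.toIsField Y.functionField
    have hX' : IsField (X.presheaf.stalk ξ) := Field.toIsField X.functionField
    have rX : Function.Injective (X.residue ξ) := by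
      let := hX'.toField
      exact (X.residue ξ).hom.injective
    have hsq : ∀ a, X.residue ξ (f.stalkMap ξ a) = f.residueFieldMap ξ (Y.residue (f ξ) a) := fun a => by
      rw [← CommRingCat.comp_apply, ← CommRingCat.comp_apply, Scheme.residue_residueFieldMap]
    refine (ConcreteCategory.isIso_iff_bijective _).2 ⟨?_, fun b => ?_⟩
    · intro a b h
      let := hY'.toField
      exact (Y.residue (f ξ)).hom.injective (hres.1 ((hsq a).symm.trans ((congrArg _ h).trans (hsq b))))
    · obtain ⟨c, hc⟩ := hres.2 (X.residue ξ b)
      obtain ⟨a, rfl⟩ := Y.residue_surjective (f ξ) c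
      exact ⟨a, rX ((hsq a).trans hc)⟩
  exact Groth.LocImmersion.BirationalNormal.isOpenImmersion_of_isSeparated (fun y => (hY y).2) f hgen hbir

end Groth.Agent.S13425
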