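import Groth.Statements.S13426
import Groth.Agent.GrpschAbsch.SchDense
import Groth.Agent.GitQuot.GrpdImage
import Groth.Agent.Reductive.GenGroup

set_option autoImplicit false
universe u
open CategoryTheory MonoidalCategory CartesianMonoidalCategory MonObj GrpObj AlgebraicGeometry
open GrpSch

open CategoryTheory.Limits MonObj

namespace Groth.Agent.S13426

/-- Let S be a locally Noetherian scheme over a field of characteristic 0, S₀ ⊆ S a scheme-theoretically
dense open, and G a smooth S-scheme with the weak Néron mapping property for S₀ ⊆ S: for every étale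
S-scheme U, restriction to S₀ is a bijection from S-morphisms U → G onto S₀-morphisms. Let H be a
smooth group scheme over S together with a monomorphism H → G of S-schemes (the case in view: G a
group scheme and H a subgroup scheme), and assume that H is aligned, i.e. the scheme-theoretic image
of its unit section is étale over S, and that H ×_S S₀ → S₀ is separated. Then H → S is separated.
(Case of schemes of a statement about group algebraic spaces; only the injectivity of H → G on
morphisms is used of the subgroup condition.) -/
theorem result {k : Type u} [Field k] [CharZero k] {S : Scheme.{u}} (σ : S ⟶ Spec (CommRingCat.of k)) [IsLocallyNoetherian S] (S₀ : S.Opens) (hS₀ : CInt.IsSchematicallyDense S₀)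
    (G : Over S) [Smooth G.hom]
    (hG : ∀ U : Over S, Etale U.hom → Function.Bijective (fun g : U ⟶ G => (Over.pullback S₀.ι).map g))
    (H : Over S) [GrpObj H] [Smooth H.hom] (j : H ⟶ G) [Mono j.left]
    (hal : Etale (η[H].left.ker.subschemeι ≫ H.hom))
    (h0 : IsSeparated (Limits.pullback.snd H.hom S₀.ι)) :
    IsSeparated H.hom := by
  classical
  let p := H.hom
  let e : S ⟶ H.left := η[H].left
  have hep : e ≫ p = 𝟙 S := Over.w η[H]
  let im : e.image ⟶ H.left := e.imageι
  let a : S ⟶ e.image := e.toImage
  have hai : a ≫ im = e := e.toImage_imageι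
  let π : e.image ⟶ S := im ≫ p
  haveI hπ : Etale π := hal
  have hsec : a ≫ π = 𝟙 S := by rw [show a ≫ π = (a ≫ im) ≫ p from (Category.assoc _ _ _).symm, hai, hep]
  haveI : Etale (a ≫ π) := by rw [hsec]; infer_instance
  haveI : Etale a := Etale.of_comp a π
  haveI : Mono a := by
    haveI : Mono (a ≫ π) := by rw [hsec]; infer_instance
    exact mono_of_mono a π
  haveI : IsOpenImmersion a := IsOpenImmersion.of_flat_of_mono a
  haveI : IsLocallyNoetherian e.image := LocallyOfFiniteType.isLocallyNoetherian π
  haveI : QuasiCompact a := inferInstance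
  haveI : IsSchemeTheoreticallyDominant a := Groth.GrpdImage.isSchemeTheoreticallyDominant_toImage e
  -- over the dense open the image is the section
  let c : pullback π S₀.ι ⟶ e.image := pullback.fst π S₀.ι
  haveI : Flat c := MorphismProperty.pullback_fst _ _ inferInstance
  haveI : IsSchemeTheoreticallyDominant (pullback.snd a c) := inferInstance
  have key : c ≫ im = c ≫ π ≫ e := by
    have w1 : (c ≫ im) ≫ p = pullback.snd π S₀.ι ≫ S₀.ι := by
      rw [Category.assoc]; exact pullback.condition
    have w2 : (c ≫ π ≫ e) ≫ p = pullback.snd π S₀.ι ≫ S₀.ι := by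
      rw [Category.assoc, Category.assoc, hep, Category.comp_id]; exact pullback.condition
    haveI := h0
    have hu : pullback.lift (c ≫ im) (pullback.snd π S₀.ι) w1 =
        pullback.lift (c ≫ π ≫ e) (pullback.snd π S₀.ι) w2 := by
      refine Groth.GrpschAbsch.ext_of_isSchemeTheoreticallyDominant (pullback.snd p S₀.ι)
        (by rw [pullback.lift_snd, pullback.lift_snd]) (pullback.snd a c) ?_
      apply pullback.hom_ext
      · rw [Category.assoc, Category.assoc, pullback.lift_fst, pullback.lift_fst,
          ← pullback.condition_assoc, ← pullback.condition_assoc, hai, reassoc_of% hsec]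
      · simp only [Category.assoc, pullback.lift_snd]
    simpa only [pullback.lift_fst] using congrArg (· ≫ pullback.fst p S₀.ι) hu
  -- and so everywhere, by the mapping property
  let g₁ : Over.mk π ⟶ G := Over.homMk (im ≫ j.left) (by
    show (im ≫ j.left) ≫ G.hom = π
    rw [Category.assoc, Over.w j])
  let g₂ : Over.mk π ⟶ G := Over.homMk (π ≫ e ≫ j.left) (by
    show (π ≫ e ≫ j.left) ≫ G.hom = π
    rw [show (π ≫ e ≫ j.left) ≫ G.hom = π ≫ e ≫ (j.left ≫ G.hom) by simp only [Category.assoc],
      Over.w j, hep, Category.comp_id])
  have hg : g₁ = g₂ := by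
    refine (hG (Over.mk π) hπ).1 ?_
    apply Over.OverMorphism.ext
    apply pullback.hom_ext
    · refine Eq.trans (pullback.lift_fst _ _ _) (Eq.trans ?_ (pullback.lift_fst _ _ _).symm)
      show c ≫ im ≫ j.left = c ≫ π ≫ e ≫ j.left
      rw [← Category.assoc, key, Category.assoc, Category.assoc]
    · exact (pullback.lift_snd _ _ _).trans (pullback.lift_snd _ _ _).symm
  have hι : im = π ≫ e := by
    rw [← cancel_mono j.left, Category.assoc]
    exact congrArg CommaMorphism.left hg
  have hinv : π ≫ a = 𝟙 e.image := by
    rw [← cancel_mono im, Category.assoc, hai, Category.id_comp, ← hι]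
  haveI : IsIso a := ⟨π, hsec, hinv⟩
  haveI : IsClosedImmersion η[H].left := by
    show IsClosedImmersion e
    rw [← hai]
    infer_instance
  exact Groth.Reductive.GenGroup.isSeparated_of_one H

end Groth.Agent.S13426
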