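import Groth.Statements.S13427
import Groth.Agent.NeronArea.Mapping


set_option autoImplicit false
universe u
open CategoryTheory AlgebraicGeometry
open NeronHD

set_option backward.isDefEq.respectTransparency false
open CategoryTheory MonoidalCategory CartesianMonoidalCategory Groth.NeronArea

namespace Groth.Agent.S13427

/-- Let S be a locally Noetherian scheme over a field of characteristic 0, S₀ ⊆ S a scheme-theoretically
dense open, and G, H smooth S-schemes with the Néron mapping property for S₀ ⊆ S (restriction to S₀
of S-morphisms from smooth S-schemes is bijective). Let f : G → H be an S-morphism and e : S → H a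
section of H → S, and let K = G ×_H S be the fibre of f over e (the case in view: f a homomorphism
of smooth group schemes, e the unit, K the kernel, so that 1 → K → G → H is left exact). If K → S is
smooth, then K has the Néron mapping property for S₀ ⊆ S. (Case of schemes, with smooth test
schemes, of a statement about group algebraic spaces.) -/
theorem result {k : Type u} [Field k] [CharZero k] {S : Scheme.{u}} (σ : S ⟶ Spec (CommRingCat.of k)) [IsLocallyNoetherian S] (S₀ : S.Opens) (hS₀ : CInt.IsSchematicallyDense S₀)
    (G H : Over S) [Smooth G.hom] [Smooth H.hom]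
    (hG : ∀ Z : Over S, Smooth Z.hom → Function.Bijective (fun g : Z ⟶ G => (Over.pullback S₀.ι).map g))
    (hH : ∀ Z : Over S, Smooth Z.hom → Function.Bijective (fun g : Z ⟶ H => (Over.pullback S₀.ι).map g))
    (f : G ⟶ H) (e : S ⟶ H.left) (he : e ≫ H.hom = 𝟙 S)
    [Smooth (Limits.pullback.snd f.left e)] :
    ∀ Z : Over S, Smooth Z.hom → Function.Bijective (fun g : Z ⟶ Over.mk (Limits.pullback.snd f.left e) => (Over.pullback S₀.ι).map g) := by
  intro Z hZ
  rw [bijective_map_iff]
  let i : Over.mk (Limits.pullback.snd f.left e) ⟶ G :=
    Over.homMk (Limits.pullback.fst f.left e) (by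
      have := congrArg (Limits.pullback.fst f.left e ≫ ·) (Over.w f)
      simp only [Limits.pullback.condition_assoc, he, Category.comp_id] at this
      simpa using this.symm)
  have hG' := (bijective_map_iff S₀.ι Z G).1 (hG Z hZ)
  have hH' := (bijective_map_iff S₀.ι Z H).1 (hH Z hZ)
  constructor
  · intro a b hab
    have h1 : a ≫ i = b ≫ i := hG'.1 (by simpa using congrArg (· ≫ i) hab)
    ext
    apply Limits.pullback.hom_ext
    · exact congrArg CommaMorphism.left h1
    · exact (Over.w a).trans (Over.w b).symm
  · intro h
    obtain ⟨t, ht⟩ := hG'.2 (h ≫ i)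
    simp only at ht
    let c : Z ⟶ H := Over.homMk (Z.hom ≫ e) (by simp [he])
    have hc : t ≫ f = c := hH'.1 (by
      show rstπ S₀.ι Z ≫ t ≫ f = rstπ S₀.ι Z ≫ c
      rw [reassoc_of% ht]
      ext
      have := Over.w h
      simp [i, c, Limits.pullback.condition] at this ⊢
      rw [reassoc_of% this]
      rw [← Limits.pullback.condition_assoc])
    refine ⟨Over.homMk (Limits.pullback.lift t.left Z.hom (congrArg CommaMorphism.left hc)) (Limits.pullback.lift_snd _ _ _), ?_⟩
    ext
    apply Limits.pullback.hom_ext
    · simpa [i] using congrArg CommaMorphism.left ht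
    · simpa using (Over.w h).symm

end Groth.Agent.S13427
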