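import Groth.Statements.S13428
import Groth.Agent.NeronArea.EtaleDense
import Groth.Agent.GrpschAbsch.SchDense


set_option autoImplicit false
universe u
open CategoryTheory AlgebraicGeometry
open NeronHD

open Groth.NeronArea
set_option backward.isDefEq.respectTransparency false
namespace Groth.Agent.S13428

/-- Let S be a normal Noetherian scheme over a field of characteristic 0 and S₀ ⊆ S a
scheme-theoretically dense open. Let N be a smooth, separated and quasi-compact S-scheme with the
Néron mapping property for S₀ ⊆ S (restriction to S₀ of S-morphisms from smooth S-schemes is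
bijective) such that N|S₀ → S₀ is étale, so that N is a quasi-projective Néron model of the
quasi-projective étale S₀-scheme N|S₀. If M is a separated, quasi-compact, étale S-scheme and φ : M
→ N is an S-morphism restricting to an isomorphism over S₀ (so M is another quasi-projective étale
extension of N|S₀, and φ is its canonical map to the Néron model), then φ is an open immersion.
(Case of schemes of the published statement.) -/
theorem result {k : Type u} [Field k] [CharZero k] {S : Scheme.{u}} (σ : S ⟶ Spec (CommRingCat.of k)) [IsNoetherian S] (hS : Pi1.IsNormalScheme S) (S₀ : S.Opens) (hS₀ : CInt.IsSchematicallyDense S₀)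
    (N : Over S) [Smooth N.hom] [IsSeparated N.hom] [QuasiCompact N.hom]
    (hN : ∀ Z : Over S, Smooth Z.hom → Function.Bijective (fun g : Z ⟶ N => (Over.pullback S₀.ι).map g))
    [Etale ((Over.pullback S₀.ι).obj N).hom]
    (M : Over S) [Etale M.hom] [IsSeparated M.hom] [QuasiCompact M.hom]
    (φ : M ⟶ N) [IsIso ((Over.pullback S₀.ι).map φ)] :
    IsOpenImmersion φ.left := by
  have hdense : Dense (S₀ : Set S) := by
    have := Groth.GrpschAbsch.isSchemeTheoreticallyDominant_ι S₀ hS₀
    have h : DenseRange S₀.ι := (S₀.ι).denseRange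
    rwa [DenseRange, Scheme.Opens.range_ι] at h
  have : Flat N.hom := inferInstance
  have : Etale ((N.hom ⁻¹ᵁ S₀).ι ≫ N.hom) := by
    rw [← morphismRestrict_ι]
    have : Etale (Limits.pullback.snd N.hom S₀.ι) := ‹Etale ((Over.pullback S₀.ι).obj N).hom›
    have : Etale (N.hom ∣_ S₀) := by
      rw [← (isPullback_morphismRestrict N.hom S₀).flip.isoPullback_hom_snd]
      infer_instance
    infer_instance
  have : Etale N.hom := EtaleDense.etale_of_smooth_of_dense N.hom (N.hom ⁻¹ᵁ S₀)
    (EtaleDense.dense_preimage N.hom hdense)
  have hw : φ.left ≫ N.hom = M.hom := Over.w φ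
  have : Etale (φ.left ≫ N.hom) := hw ▸ inferInstance
  have : IsSeparated (φ.left ≫ N.hom) := hw ▸ inferInstance
  have : IsIso ((Over.pullback S₀.ι).map φ).left :=
    inferInstanceAs (IsIso ((Over.forget _).map ((Over.pullback S₀.ι).map φ)))
  have : Mono (((φ.left ≫ N.hom) ⁻¹ᵁ S₀).ι ≫ φ.left) := by
    rw [hw]
    let i := (isPullback_morphismRestrict M.hom S₀).flip.isoPullback
    have hi : i.hom ≫ Limits.pullback.fst M.hom S₀.ι = (M.hom ⁻¹ᵁ S₀).ι :=
      (isPullback_morphismRestrict M.hom S₀).flip.isoPullback_hom_fst
    have h : ((Over.pullback S₀.ι).map φ).left ≫ Limits.pullback.fst N.hom S₀.ι =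
        Limits.pullback.fst M.hom S₀.ι ≫ φ.left := by simp
    rw [← hi, Category.assoc, ← h]
    infer_instance
  exact EtaleDense.isOpenImmersion_of_mono_dense φ.left N.hom S₀ hdense

end Groth.Agent.S13428
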