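import Groth.Statements.S1343
import Groth.Agent.CMMor.FibreCM

set_option autoImplicit false
universe u
open FlatMor

namespace Groth.Agent.S1343

open AlgebraicGeometry CategoryTheory Limits in
/-- (1) ⇔ (3): let f be flat and locally of finite presentation and let x be a point whose fibre has
local dimension d at x. Then f is Cohen–Macaulay at x if and only if some open neighbourhood of x
admits a flat, locally quasi-finite morphism to affine d-space over the base, compatible with the
structure morphisms. -/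
theorem result {X S : Scheme.{u}} (f : X ⟶ S) [Flat f] [LocallyOfFinitePresentation f]
    (x : X) (d : ℕ) (hd : FlatMor.fibreDimAt f x = d) :
    MoreMor.IsCMAt f x ↔ ∃ (U : X.Opens) (g : (U : Scheme.{u}) ⟶ 𝔸(ULift.{u} (Fin d); S)), x ∈ U ∧
      g ≫ (𝔸(ULift.{u} (Fin d); S) ↘ S) = U.ι ≫ f ∧ Flat g ∧ LocallyQuasiFinite g := by
  constructor
  · intro h
    obtain ⟨U, g, hxU, hg, hqf, -, hiff⟩ := Groth.CMMor.exists_cm_chart f x d hd.le
    have : LocallyOfFinitePresentation (g ≫ (𝔸(ULift.{u} (Fin d); S) ↘ S)) := hg ▸ inferInstance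
    let O : (U : Scheme.{u}).Opens := ⟨_, Groth.CMMor.isOpen_flat_stalkMap g⟩
    refine ⟨(O.ι ≫ U.ι).opensRange, (O.ι ≫ U.ι).isoOpensRange.inv ≫ O.ι ≫ g,
      ⟨⟨⟨x, hxU⟩, (hiff ⟨x, hxU⟩).2 ⟨h, hd⟩⟩, rfl⟩, ?_, ?_, inferInstance⟩
    · rw [Category.assoc, Category.assoc, hg, ← Category.assoc O.ι, ← Category.assoc]
      rw [Scheme.Hom.isoOpensRange_inv_comp]
    · have : Flat (O.ι ≫ g) := Flat.of_stalkMap _ fun o => by
        rw [Scheme.Hom.stalkMap_comp]
        exact RingHom.Flat.comp o.2 (RingHom.Flat.of_bijective (ConcreteCategory.bijective_of_isIso (O.ι.stalkMap o)))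
      infer_instance
  · rintro ⟨U, g, hx, hg, hflat, hqf⟩
    exact (Groth.CMMor.isCMAt_of_chart f U g hg ⟨x, hx⟩ (Flat.stalkMap g _)).1

end Groth.Agent.S1343
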