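import Groth.Statements.S13434
import Groth.Agent.HilbPn.Props

set_option autoImplicit false
universe u
open W4c1hilbpn

namespace Groth.Agent.S13434

open W4c1hilbpn in
/-- Let k be an infinite field, n ≥ 2, S the polynomial ring over k in n variables, I a monomial ideal
of S of finite colength and T(I) = Hom_S(I, S/I) with its grading by integer vectors. The graded
piece of T(I) in every multidegree all of whose entries are nonnegative, or all of whose entries are
negative, vanishes, and T(I) is spanned by its pieces of non-constant sign pattern (the spans, over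
the sets N of variable indices that are neither empty nor all indices, of the graded pieces whose
multidegree is negative exactly at N). -/
theorem result (k : Type u) [Field k] [Infinite k]
    (n : ℕ) (hn : 2 ≤ n) (I : Ideal (MvPolynomial (Fin n) k)) (hI : IsMonomial I)
    [Module.Finite k (MvPolynomial (Fin n) k ⧸ I)] :
    (∀ α : Fin n → ℤ, ((∀ i, 0 ≤ α i) ∨ (∀ i, α i < 0)) → tPiece I α = ⊥) ∧
      (⨆ N : {N : Set (Fin n) // N.Nonempty ∧ N ≠ Set.univ}, sigPiece I N.1) = ⊤ := by
  constructor
  · intro α hα
    refine Groth.HilbPn.tPiece_eq_bot hI α fun q hq => ?_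
    rcases hα with h | h
    · exact Groth.HilbPn.not_all_nonneg q (hq ▸ h)
    · exact Groth.HilbPn.not_all_neg hn hI q (hq ▸ h)
  · refine eq_top_iff.2 ((Groth.HilbPn.iSup_eq_top hI (fun _ => True) fun _ => trivial).ge.trans ?_)
    refine iSup_le fun α => ?_
    by_cases h : (∀ i, 0 ≤ α.1 i) ∨ (∀ i, α.1 i < 0)
    · rw [Groth.HilbPn.tPiece_eq_bot hI α.1 fun q hq => by
        rcases h with h | h
        · exact Groth.HilbPn.not_all_nonneg q (hq ▸ h)
        · exact Groth.HilbPn.not_all_neg hn hI q (hq ▸ h)]
      exact bot_le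
    · push Not at h
      obtain ⟨⟨i, hi⟩, ⟨j, hj⟩⟩ := h
      refine le_iSup_of_le (⟨{l | α.1 l < 0}, ⟨i, hi⟩, fun hu => ?_⟩ :
        {N : Set (Fin n) // N.Nonempty ∧ N ≠ Set.univ}) ?_
      · exact absurd (Set.eq_univ_iff_forall.1 hu j) (not_lt.2 hj)
      · exact le_iSup_of_le (⟨α.1, fun l => Iff.rfl⟩ : {β : Fin n → ℤ // ∀ l, β l < 0 ↔ l ∈ {l | α.1 l < 0}}) le_rfl

end Groth.Agent.S13434
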