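import Groth.Statements.S1344
import Groth.Agent.CMMor.NoethBaseChange
import Groth.Agent.FibreDim.DimStalk

set_option autoImplicit false
universe u
open FlatMor

namespace Groth.Agent.S1344

open AlgebraicGeometry CategoryTheory Limits in
/-- Let f be locally of finite type between locally Noetherian schemes and Cohen–Macaulay at every
point. Then for every point x of the source with image y, the local dimension of the source at x
equals the local dimension of the target at y plus the local dimension at x of the fibre over y. -/
theorem result {X Y : Scheme.{u}} (f : X ⟶ Y) [IsLocallyNoetherian X] [IsLocallyNoetherian Y] [LocallyOfFiniteType f]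
    (hf : ∀ x : X, MoreMor.IsCMAt f x) (x : X) :
    FlatMor.localDim ↑X x = FlatMor.localDim ↑Y (f x) + FlatMor.fibreDimAt f x := by
  haveI : Flat f := Flat.of_stalkMap f fun x => (hf x).1
  haveI : LocallyOfFinitePresentation f :=
    LocallyOfFinitePresentation.iff_locallyOfFiniteType.mpr inferInstance
  obtain ⟨d, hd⟩ := Groth.CMMor.exists_fibreDimAt_eq_nat f x
  obtain ⟨U, hxU, hU⟩ := Groth.CMMor.exists_nhd_isCMAt f x (hf x)
  have hconst : ∀ u : (U : Scheme.{u}), FlatMor.fibreDimAt (U.ι ≫ f) u = d := fun u => by
    rw [Groth.FibreDim.fibreDimAt_openImmersion_comp]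
    exact (hU u.1 u.2).2.trans hd
  have h := Groth.FibreDim.localDim_eq_add_of_flat (U.ι ≫ f) d hconst ⟨x, hxU⟩
  rw [Groth.FibreDim.localDim_eq_of_isOpenEmbedding U.ι.isOpenEmbedding] at h
  rw [hd]
  exact h

end Groth.Agent.S1344
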