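import Groth.Statements.S13450
import Groth.Agent.HilbPn.TwoBlockRows

set_option autoImplicit false
universe u
open W4c1hilbpn

namespace Groth.Agent.S13450

open W4c1hilbpn in
/-- Let k be a field and S = k[x_0, ..., x_n] with its standard grading; for an ideal I write Hom_S(I,
S/I)_0 for the degree-0 homomorphisms (for a monomial ideal: the span of the multigraded pieces
whose multidegree has entry sum 0). Let n and q satisfy n = 3 and q ≥ 4, or n ≥ 4 and q ≥ 2, and let
I = x_0·(x_0, ..., x_{n-1}) + (x_1^q). Then Hom_S(I, S/I)_0 has dimension 2n - 1 + C(n+q-1, n-1).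
(The published statement gives this as the dimension of the tangent space to the Hilbert scheme at
the point I; the row records the dimension count.) -/
theorem result (k : Type u) [Field k] (n q : ℕ)
    (hcase : (n = 3 ∧ 4 ≤ q) ∨ (4 ≤ n ∧ 2 ≤ q)) :
    Module.finrank k ↥(⨆ α : {α : Fin (n + 1) → ℤ // ∑ i, α i = 0},
      tPiece (Ideal.span ({f : MvPolynomial (Fin (n + 1)) k | ∃ i : Fin (n + 1), i.val + 1 ≤ n ∧ f = MvPolynomial.X 0 * MvPolynomial.X i} ∪ {MvPolynomial.X 1 ^ q})) α.1) =
      2 * n - 1 + Nat.choose (n + q - 1) (n - 1) := by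
  obtain ⟨p, rfl⟩ : ∃ p, q = p + 1 := ⟨q - 1, by omega⟩
  have hB := Groth.HilbPn.TwoBlock.isTwoBlock_gens (k := k) (n := n) (q := p) (m := 1) (by omega) le_rfl (by omega)
  have h := Groth.HilbPn.TwoBlock.main_principal (Groth.HilbPn.TwoBlock.isMonomial_span _) hB (by omega) (by omega) (by omega)
  rw [Groth.HilbPn.TwoBlock.image_gens 1 (by omega)] at h
  have e : {f : MvPolynomial (Fin (n + 1)) k | ∃ i : Fin (n + 1), 1 ≤ i.val ∧ i.val ≤ 1 ∧ f = MvPolynomial.X 1 ^ p * MvPolynomial.X i} =
      {MvPolynomial.X 1 ^ (p + 1)} := by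
    ext f
    constructor
    · rintro ⟨i, hi, hi1, rfl⟩
      rw [show i = 1 from Fin.ext (by rw [Fin.val_one', Nat.mod_eq_of_lt (by omega)]; omega)]
      exact (pow_succ _ _).symm
    · rintro rfl
      exact ⟨1, by rw [Fin.val_one', Nat.mod_eq_of_lt (by omega)], by rw [Fin.val_one', Nat.mod_eq_of_lt (by omega)],
        pow_succ _ _⟩
  rw [e] at h
  omega

end Groth.Agent.S13450
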