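import Groth.Statements.S13455
import Mathlib.RingTheory.MvPolynomial.Ideal

set_option autoImplicit false
universe u
open W4c1hilbpn

namespace Groth.Agent.S13455

/-- Let k be an algebraically closed field of characteristic different from 2, k0 ≥ 1 and n ≥ 2k0 - 1
natural numbers, S = k[x_0, ..., x_n], and e1 ≤ e2 ≤ k0 - 1. The ideal generated by all products x_p
x_q with e1 ≤ p, q ≤ e2 together with the products x_p x_{n-k0+1+q} for e1 ≤ p < q ≤ e2 is the
intersection, over j from e1 to e2, of the ideals generated by the variables x_i with e1 ≤ i ≤ e2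
and i ≠ j, the square x_j^2, and the variables x_{n-k0+1+q} for j < q ≤ e2 (a primary decomposition
of this monomial ideal). -/
theorem result (k : Type u) [Field k] [IsAlgClosed k] (hchar : ringChar k ≠ 2)
    (n k0 e1 e2 : ℕ) (hk : 1 ≤ k0) (hn : 2 * k0 ≤ n + 1) (he : e1 ≤ e2) (he2 : e2 + 1 ≤ k0) :
    Ideal.span ({f : MvPolynomial (Fin (n + 1)) k | ∃ p q : Fin (n + 1), e1 ≤ p.val ∧ p.val ≤ e2 ∧ e1 ≤ q.val ∧ q.val ≤ e2 ∧
        f = MvPolynomial.X p * MvPolynomial.X q} ∪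
      {f : MvPolynomial (Fin (n + 1)) k | ∃ p q m : Fin (n + 1), e1 ≤ p.val ∧ p.val < q.val ∧ q.val ≤ e2 ∧
        m.val + k0 = n + 1 + q.val ∧ f = MvPolynomial.X p * MvPolynomial.X m}) =
    ⨅ j : Fin (n + 1), ⨅ (_ : e1 ≤ j.val ∧ j.val ≤ e2),
      Ideal.span ({f : MvPolynomial (Fin (n + 1)) k | ∃ i : Fin (n + 1), e1 ≤ i.val ∧ i.val ≤ e2 ∧ i ≠ j ∧ f = MvPolynomial.X i} ∪
        {MvPolynomial.X j ^ 2} ∪
        {f : MvPolynomial (Fin (n + 1)) k | ∃ q m : Fin (n + 1), j.val < q.val ∧ q.val ≤ e2 ∧ m.val + k0 = n + 1 + q.val ∧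
          f = MvPolynomial.X m}) := by
  classical
  refine le_antisymm (le_iInf₂ fun j hj => Ideal.span_le.2 ?_) ?_
  · rintro _ (⟨p, q, hp1, hp2, hq1, hq2, rfl⟩ | ⟨p, q, m, hp1, hpq, hq2, hm, rfl⟩)
    · by_cases hpj : p = j
      · subst hpj
        by_cases hqj : q = p
        · subst hqj
          exact Ideal.subset_span (Or.inl (Or.inr (by rw [pow_two]; rfl)))
        · exact Ideal.mul_mem_left _ _ (Ideal.subset_span (Or.inl (Or.inl ⟨q, hq1, hq2, hqj, rfl⟩)))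
      · exact Ideal.mul_mem_right _ _ (Ideal.subset_span (Or.inl (Or.inl ⟨p, hp1, hp2, hpj, rfl⟩)))
    · by_cases hpj : p = j
      · subst hpj
        exact Ideal.mul_mem_left _ _ (Ideal.subset_span (Or.inr ⟨q, m, hpq, hq2, hm, rfl⟩))
      · exact Ideal.mul_mem_right _ _ (Ideal.subset_span (Or.inl (Or.inl ⟨p, hp1, by omega, hpj, rfl⟩)))
  · intro f hf
    rw [MvPolynomial.as_sum f]
    refine Ideal.sum_mem _ fun β hβ => ?_
    let S : Fin (n + 1) → Set (Fin (n + 1) →₀ ℕ) := fun j =>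
      {s | (∃ i : Fin (n + 1), e1 ≤ i.val ∧ i.val ≤ e2 ∧ i ≠ j ∧ s = Finsupp.single i 1) ∨ s = Finsupp.single j 2 ∨
        ∃ q m : Fin (n + 1), j.val < q.val ∧ q.val ≤ e2 ∧ m.val + k0 = n + 1 + q.val ∧ s = Finsupp.single m 1}
    have hS : ∀ j : Fin (n + 1), e1 ≤ j.val ∧ j.val ≤ e2 → ∃ s ∈ S j, s ≤ β := by
      intro j hj
      have h1 : f ∈ Ideal.span ((fun s => MvPolynomial.monomial s (1 : k)) '' S j) := by
        refine Ideal.span_le.2 ?_ ((Submodule.mem_iInf _).1 ((Submodule.mem_iInf _).1 hf j) hj)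
        rintro _ ((⟨i, hi1, hi2, hij, rfl⟩ | rfl) | ⟨q, m, hq, hq2, hm, rfl⟩)
        · exact Ideal.subset_span ⟨_, Or.inl ⟨i, hi1, hi2, hij, rfl⟩, rfl⟩
        · exact Ideal.subset_span ⟨_, Or.inr (Or.inl rfl), MvPolynomial.X_pow_eq_monomial.symm⟩
        · exact Ideal.subset_span ⟨_, Or.inr (Or.inr ⟨q, m, hq, hq2, hm, rfl⟩), rfl⟩
      exact MvPolynomial.mem_ideal_span_monomial_image.1 h1 β hβ
    have key : ∀ {g : MvPolynomial (Fin (n + 1)) k} {s : Fin (n + 1) →₀ ℕ}, g = MvPolynomial.monomial s 1 →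
        s ≤ β → g ∣ MvPolynomial.monomial β (MvPolynomial.coeff β f) := fun hg hle => by
      rw [hg, MvPolynomial.monomial_dvd_monomial]
      exact ⟨Or.inr hle, one_dvd _⟩
    have hXX : ∀ p q : Fin (n + 1), (MvPolynomial.X p * MvPolynomial.X q : MvPolynomial (Fin (n + 1)) k) =
        MvPolynomial.monomial (Finsupp.single p 1 + Finsupp.single q 1) 1 := fun p q => by
      rw [MvPolynomial.X, MvPolynomial.X, MvPolynomial.monomial_mul, one_mul]
    obtain ⟨p, hp1, hp2, hp⟩ : ∃ p : Fin (n + 1), e1 ≤ p.val ∧ p.val ≤ e2 ∧ 1 ≤ β p := by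
      obtain ⟨s, hs, hle⟩ := hS ⟨e2, by omega⟩ ⟨he, le_rfl⟩
      rcases hs with ⟨i, h1, h2, -, rfl⟩ | rfl | ⟨q, m, h1, h2, -, -⟩
      · exact ⟨i, h1, h2, by simpa using hle i⟩
      · refine ⟨⟨e2, by omega⟩, he, le_rfl, ?_⟩
        have := hle ⟨e2, by omega⟩
        rw [Finsupp.single_eq_same] at this
        omega
      · simp only at h1; omega
    obtain ⟨s, hs, hle⟩ := hS p ⟨hp1, hp2⟩
    have hadd : ∀ q : Fin (n + 1), q ≠ p → 1 ≤ β q → Finsupp.single p 1 + Finsupp.single q 1 ≤ β := fun q hqp hq l => by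
      simp only [Finsupp.add_apply, Finsupp.single_apply]
      split_ifs with h1 h2 h2
      · exact absurd (h2.trans h1.symm) hqp
      · subst h1; simpa using hp
      · subst h2; simpa using hq
      · simp
    rcases hs with ⟨i, h1, h2, hip, rfl⟩ | rfl | ⟨q, m, h1, h2, hm, rfl⟩
    · exact Ideal.mem_of_dvd _ (key (hXX p i) (hadd i hip (by simpa using hle i)))
        (Ideal.subset_span (Or.inl ⟨p, i, hp1, hp2, h1, h2, rfl⟩))
    · exact Ideal.mem_of_dvd _ (key (hXX p p) (by rw [← Finsupp.single_add]; exact hle))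
        (Ideal.subset_span (Or.inl ⟨p, p, hp1, hp2, hp1, hp2, rfl⟩))
    · exact Ideal.mem_of_dvd _ (key (hXX p m) (hadd m (fun h => by rw [h] at hm; omega) (by simpa using hle m)))
        (Ideal.subset_span (Or.inr ⟨p, q, m, hp1, h1, h2, hm, rfl⟩))

end Groth.Agent.S13455
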