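import Groth.Statements.S13461
import Groth.Agent.CurveBridge.SpaceCurve
import Groth.Agent.CurveBridge.BaseChange
import Groth.Agent.Curves1.RR.Numerics
import Groth.Agent.Duality.SheafHomTwist
import Groth.Agent.PlaneCurve.HypIdeal

set_option autoImplicit false
universe u
open CategoryTheory CategoryTheory.Limits AlgebraicGeometry TopologicalSpace
open Curves

namespace Groth.Agent.S13461

/-- Let k be a field and X a smooth proper geometrically connected curve over k (proper, smooth and
geometrically connected over k, of dimension one) of genus dim_k H^1(X, O_X) = 4, and let i : X →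
P^3_k be a closed immersion over k whose pullback of O(1) is isomorphic to the sheaf of
differentials Ω_{X/k} (X is canonically embedded, hence not hyperelliptic). Then X lies on a quadric
surface: there is a nonzero global section Q of O_{P^3_k}(2) whose pullback along i is the zero
section of i^*O(2). (The published statement goes on to assert that X is the complete intersection
of such a quadric with a cubic surface; this row states only the existence of the quadric.) -/
theorem result (k : Type u) [Field k] (X : Scheme.{u}) [X.Over (Spec (CommRingCat.of k))]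
    [IsProper (X ↘ (Spec (CommRingCat.of k)))] [Smooth (X ↘ (Spec (CommRingCat.of k)))] [GeometricallyConnected (X ↘ (Spec (CommRingCat.of k)))]
    (hdim : topologicalKrullDim X = 1) (hg : Curv2.genus k X = 4)
    (i : X ⟶ CohB1.ProjSpace 3 k) [IsClosedImmersion i] (hi : i ≫ CohB1.ProjSpace.toSpec 3 k = X ↘ (Spec (CommRingCat.of k)))
    (hcan : Nonempty ((Scheme.Modules.pullback i).obj (Twist.twistProjSpace 3 k 1) ≅ Omega.sheaf (X ↘ (Spec (CommRingCat.of k))))) :
    ∃ Q : Γ(Twist.twistProjSpace 3 k 2, ⊤), Q ≠ 0 ∧
      OmegaSh.pullSect i (Twist.twistProjSpace 3 k 2) ⊤ Q = 0 := by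
  haveI := Groth.CurveBridge.connectedSpace_of_geometrically X k
  haveI := Groth.CurveBridge.isIntegral_of_smooth k X
  have h0 := Groth.CurveBridge.h0_of_geometrically k X hdim
  obtain ⟨-, -, nd⟩ := Groth.CurveBridge.omega_numerics_field k X hdim h0
  have h1 := Groth.PlaneCurve.isInvertible_twistProjSpace (r := 3) (k := k) 1
  have h2 := Groth.PlaneCurve.isInvertible_twistProjSpace (r := 3) (k := k) 2
  have hi1 := Groth.PicAux.isInvertible_pullback i h1
  have hinv := Groth.PicAux.isInvertible_pullback i h2
  obtain ⟨t⟩ := Groth.Duality.Pn.nonempty_twist_tensor 3 k 1 1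
  obtain ⟨p⟩ := Groth.PicAux.pullback_tensorMod i h1 h1
  have hd := Groth.EulerDeg.deg_congr (k := k) ((Scheme.Modules.pullback i).mapIso t.symm ≪≫ p) 1
  rw [Groth.EulerDeg.deg_tensor_invertible k hdim.le hi1 hi1,
    Groth.EulerDeg.deg_congr (k := k) hcan.some, nd, hg] at hd
  have := Groth.EulerDeg.isNoetherian_of_proper k X
  rcases Groth.CurveBridge.SpaceCurve.choose_le_h0_or_exists i hi
    (fun M hM => Groth.EulerDeg.finite_HH k X (Groth.EulerDeg.isCoh_of_isInvertible hM) 0) 2 hinv
    with h | h
  · exfalso
    have h' : 10 ≤ Module.finrank k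
        (Coh.HH X ((Scheme.Modules.pullback i).obj (Twist.twistProjSpace 3 k 2)) 0) := h
    have hd' : Curv2.deg k X ((Scheme.Modules.pullback i).obj (Twist.twistProjSpace 3 k 2)) 1 = 12 := hd
    have := Groth.Curves1.RR.subsingleton_h1_of_deg_ge k hdim.le h0 hinv (by omega)
    have e := Groth.EulerDeg.euler_eq_h0_sub_h1 k X hdim.le
      ((Scheme.Modules.pullback i).obj (Twist.twistProjSpace 3 k 2))
    rw [Groth.Curves1.RR.euler_eq k hdim.le h0, Module.finrank_zero_of_subsingleton
      (M := Coh.HH X ((Scheme.Modules.pullback i).obj (Twist.twistProjSpace 3 k 2)) 1)] at e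
    omega
  · exact h

end Groth.Agent.S13461
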