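import Groth.Statements.S13470
import Groth.Agent.GrpLikeExtend.Basic
import Groth.Agent.AlgGrp2.AffinePts
import Groth.Agent.Reductive.Points
import Groth.Agent.Misc7.AffineGroupPoints

set_option autoImplicit false
universe u
open GmDual

namespace Groth.Agent.S13470

open CategoryTheory AlgebraicGeometry MonObj in
/-- Let k be an algebraically closed field and i : H → G a homomorphism of affine commutative k-group
schemes of finite type which is a closed immersion. Then the restriction map Ĝ(k) → Ĥ(k) on
characters defined over k (morphisms of abelian sheaves on the big fppf site of Spec k from the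
sheaf of points to the multiplicative group, restricted along i) is surjective. -/
theorem result (k : Type u) [Field k] [IsAlgClosed k]
    (H G : Over (Spec (CommRingCat.of k))) [GrpObj H] [IsCommMonObj H] [GrpObj G] [IsCommMonObj G]
    [IsAffine H.left] [LocallyOfFiniteType H.hom] [IsAffine G.left] [LocallyOfFiniteType G.hom]
    (i : H ⟶ G) [IsMonHom i] [IsClosedImmersion i.left] :
    Function.Surjective (Preadditive.leftComp (CGrpSh2.Gm Scheme.fppfPrecoverage (Spec (CommRingCat.of k)))
      (CGrpSh.ptsMap Scheme.fppfPrecoverage i)) := by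
  obtain ⟨A, ⟨wG⟩⟩ := Groth.Misc7.AffineGroupPoints.exists_hopf G
  obtain ⟨B, ⟨wH⟩⟩ := Groth.Misc7.AffineGroupPoints.exists_hopf H
  let jG : CoactBr.sp k A ≅ G := (Grp.forget _).mapIso wG
  let jH : CoactBr.sp k B ≅ H := (Grp.forget _).mapIso wH
  have : IsMonHom jG.hom := inferInstanceAs (IsMonHom wG.hom.hom.hom)
  have : IsMonHom jG.inv := inferInstanceAs (IsMonHom wG.inv.hom.hom)
  have : IsMonHom jH.hom := inferInstanceAs (IsMonHom wH.hom.hom.hom)
  have : IsMonHom jH.inv := inferInstanceAs (IsMonHom wH.inv.hom.hom)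
  -- the comultiplication of `A` is cocommutative
  have hcvA : ∀ {R : Type u} [CommRing R] [Algebra k R] (g h : (A : Type u) →ₐ[k] R),
      CoactBr.pt g * CoactBr.pt h = CoactBr.pt h * CoactBr.pt g := fun g h => by
    rw [← cancel_mono jG.hom, MonObj.mul_comp, MonObj.mul_comp]
    exact mul_comm _ _
  have : Coalgebra.IsCocomm k A := by
    constructor
    have h := hcvA (R := TensorProduct k A A) Algebra.TensorProduct.includeRight
      Algebra.TensorProduct.includeLeft
    rw [CoactBr.pt_mul_pt, CoactBr.pt_mul_pt] at h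
    have h' := congrArg AlgHom.toLinearMap (CoactBr.pt_injective h)
    have e1 : (Algebra.TensorProduct.lift (Algebra.TensorProduct.includeLeft : (A : Type u) →ₐ[k] _)
        (Algebra.TensorProduct.includeRight : (A : Type u) →ₐ[k] TensorProduct k A A)
        (fun _ _ => .all _ _)) = AlgHom.id k _ := by
      apply Algebra.TensorProduct.ext'
      intro p q
      simp
    have e2 : (Algebra.TensorProduct.lift (Algebra.TensorProduct.includeRight : (A : Type u) →ₐ[k] _)
        (Algebra.TensorProduct.includeLeft : (A : Type u) →ₐ[k] TensorProduct k A A)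
        (fun _ _ => .all _ _)) = (Algebra.TensorProduct.comm k A A).toAlgHom := by
      apply Algebra.TensorProduct.ext'
      intro p q
      simp
    rw [e1, e2] at h'
    exact h'
  -- the comorphism of `i`
  obtain ⟨φ, hφ⟩ := Groth.AlgGrp2.pt_surjective (jH.hom ≫ i ≫ jG.inv)
  have hsurj : Function.Surjective φ := by
    have : IsIso jH.hom.left := inferInstanceAs (IsIso ((Over.forget _).map jH.hom))
    have : IsIso jG.inv.left := inferInstanceAs (IsIso ((Over.forget _).map jG.inv))
    have : IsClosedImmersion (Spec.map (CommRingCat.ofHom φ.toRingHom)) := by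
      rw [← CoactBr.pt_left, hφ, Over.comp_left, Over.comp_left]
      have h1 : IsClosedImmersion jH.hom.left := inferInstance
      have h2 : IsClosedImmersion jG.inv.left := inferInstance
      have h3 := @IsClosedImmersion.comp _ _ _ _ _ ‹IsClosedImmersion i.left› h2
      exact @IsClosedImmersion.comp _ _ _ _ _ h1 h3
    obtain ⟨I, e, he⟩ := IsClosedImmersion.Spec_iff.1 this
    obtain ⟨e', he'⟩ := Spec.map_surjective e.hom
    have : IsIso e' := by
      have : IsIso (Spec.map e') := he' ▸ inferInstance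
      have : IsIso (Scheme.Spec.map e'.op) := this
      have := isIso_of_reflects_iso e'.op Scheme.Spec
      exact isIso_of_op e'
    rw [← he', ← Spec.map_comp, Spec.map_inj] at he
    intro z
    obtain ⟨w, hw⟩ := (ConcreteCategory.bijective_of_isIso e').2 z
    obtain ⟨v, rfl⟩ := Ideal.Quotient.mk_surjective w
    exact ⟨v, (congrArg (fun t => t v) (congrArg CommRingCat.Hom.hom he)).trans hw⟩
  have hcomul : TensorProduct.map φ.toLinearMap φ.toLinearMap ∘ₗ Coalgebra.comul =
      Coalgebra.comul ∘ₗ φ.toLinearMap := by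
    let l : (B : Type u) →ₐ[k] TensorProduct k B B := Algebra.TensorProduct.includeLeft
    let r : (B : Type u) →ₐ[k] TensorProduct k B B := Algebra.TensorProduct.includeRight
    have h : (CoactBr.pt l * CoactBr.pt r) ≫ CoactBr.pt φ =
        (CoactBr.pt l ≫ CoactBr.pt φ) * (CoactBr.pt r ≫ CoactBr.pt φ) := by
      rw [hφ, MonObj.mul_comp]
    rw [← CoactBr.pt_comp, ← CoactBr.pt_comp, CoactBr.pt_mul_pt, CoactBr.pt_mul_pt,
      ← CoactBr.pt_comp] at h
    have h' := congrArg AlgHom.toLinearMap (CoactBr.pt_injective h)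
    have e1 : (Algebra.TensorProduct.lift l r (fun _ _ => .all _ _)) = AlgHom.id k _ := by
      apply Algebra.TensorProduct.ext'
      intro p q
      simp [l, r]
    have e2 : (Algebra.TensorProduct.lift (l.comp φ) (r.comp φ) (fun _ _ => .all _ _)) =
        Algebra.TensorProduct.map φ φ := by
      apply Algebra.TensorProduct.ext'
      intro p q
      simp [l, r]
    rw [e1, e2] at h'
    exact h'.symm
  -- functions on the Hopf spectra
  let σ : ∀ (R : Type u) [CommRing R] [Algebra k R], Γ((CoactBr.sp k R).left, ⊤) ≅ CommRingCat.of R :=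
    fun R _ _ => Scheme.ΓSpecIso (CommRingCat.of R)
  have hnat : ∀ {R R' : Type u} [CommRing R] [Algebra k R] [CommRing R'] [Algebra k R']
      (g : R →ₐ[k] R') (s : Γ((CoactBr.sp k R).left, ⊤)),
      (σ R').hom ((CoactBr.pt g).left.appTop s) = g ((σ R).hom s) := by
    intro R R' _ _ _ _ g s
    exact ConcreteCategory.congr_hom (Scheme.ΓSpecIso_naturality (CommRingCat.ofHom g.toRingHom)) s
  intro χ
  -- the value of `χ` at the universal point of `H`
  let ev : ∀ {T : Over (Spec (CommRingCat.of k))}, (T ⟶ H) → (T ⟶ Red.Gm _) := fun {T} p =>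
    (χ.hom.app (Opposite.op T) (ULift.up (Additive.ofMul p))).down.toMul
  have ev_comp : ∀ {T T' : Over (Spec (CommRingCat.of k))} (q : T' ⟶ T) (p : T ⟶ H),
      ev (q ≫ p) = q ≫ ev p := fun q p =>
    congrArg (fun z => (ULift.down z).toMul)
      (ConcreteCategory.congr_hom (χ.hom.naturality q.op) (ULift.up (Additive.ofMul p)))
  have ev_mul : ∀ {T : Over (Spec (CommRingCat.of k))} (p q : T ⟶ H), ev (p * q) = ev p * ev q :=
    fun p q => congrArg (fun z => (ULift.down z).toMul)
      (map_add (χ.hom.app _).hom (ULift.up (Additive.ofMul p)) (ULift.up (Additive.ofMul q)))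
  let x : CoactBr.sp k B ⟶ Red.Gm _ := ev jH.hom
  let b : (B : Type u) := (σ B).hom (Red.gmFn x)
  have hval : ∀ {R : Type u} [CommRing R] [Algebra k R] (g : (B : Type u) →ₐ[k] R),
      (σ R).hom (Red.gmFn (CoactBr.pt g ≫ x)) = g b := fun g => by
    rw [Groth.Reductive.gmFn_comp, hnat]
  have hbg : IsGroupLikeElem k b := by
    have hmul : ∀ {R : Type u} [CommRing R] [Algebra k R] (g h : (B : Type u) →ₐ[k] R),
        (Algebra.TensorProduct.lift g h fun _ _ => .all _ _) (Coalgebra.comul b) = g b * h b := by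
      intro R _ _ g h
      rw [← hval g, ← hval h, ← map_mul, ← Groth.Reductive.gmFn_mul]
      refine Eq.trans (hval ((Algebra.TensorProduct.lift g h fun _ _ => .all _ _).comp
        (Bialgebra.comulAlgHom k B))).symm ?_
      rw [← CoactBr.pt_mul_pt]
      congr 2
      simp only [x, ← ev_comp, MonObj.mul_comp, ev_mul]
    have hunit : IsUnit b := (Groth.Reductive.isUnit_gmFn x).map (σ B).hom.hom
    refine ⟨?_, ?_⟩
    · let e : (B : Type u) →ₐ[k] k := Bialgebra.counitAlgHom k B
      have h := hval ((Algebra.ofId k k).comp e)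
      rw [← CoactBr.one_eq_pt] at h
      have h1 : ((1 : CoactBr.sp k k ⟶ CoactBr.sp k B) ≫ x) = 1 := by
        have h2 : ev (1 : CoactBr.sp k k ⟶ H) = 1 :=
          congrArg (fun z => (ULift.down z).toMul) (map_zero (χ.hom.app (Opposite.op (CoactBr.sp k k))).hom)
        simp only [x, ← ev_comp, MonObj.one_comp, h2]
      rw [h1, Groth.Reductive.gmFn_one, map_one] at h
      exact h.symm
    · have h := hmul (R := TensorProduct k B B) Algebra.TensorProduct.includeLeft
        Algebra.TensorProduct.includeRight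
      rw [show (Algebra.TensorProduct.lift (Algebra.TensorProduct.includeLeft : (B : Type u) →ₐ[k] _)
        (Algebra.TensorProduct.includeRight : (B : Type u) →ₐ[k] TensorProduct k B B)
        (fun _ _ => .all _ _)) = AlgHom.id k _ from by
          apply Algebra.TensorProduct.ext'
          intro p q
          simp] at h
      simpa using h
  obtain ⟨c, hc, hcb⟩ := Groth.Agent.GrpLikeExtend.exists_isGroupLike_lift φ.toLinearMap hcomul hsurj hbg
  have hcu : IsUnit c := IsGroupLikeElem.isUnit hc
  let y : CoactBr.sp k A ⟶ Red.Gm _ := Groth.Reductive.gmMk _ ((hcu.map (σ A).inv.hom).unit)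
  have hy : ∀ {R : Type u} [CommRing R] [Algebra k R] (g : (A : Type u) →ₐ[k] R),
      (σ R).hom (Red.gmFn (CoactBr.pt g ≫ y)) = g c := fun g => by
    rw [Groth.Reductive.gmFn_comp, hnat, Groth.Reductive.gmFn_gmMk, IsUnit.unit_spec]
    simp
  have inj : ∀ {R : Type u} [CommRing R] [Algebra k R] {p q : CoactBr.sp k R ⟶ Red.Gm _},
      (σ R).hom (Red.gmFn p) = (σ R).hom (Red.gmFn q) → p = q := fun {R} _ _ {p q} h =>
    Groth.Reductive.gmFn_injective ((σ R).commRingCatIsoToRingEquiv.injective h)
  have : IsMonHom y := by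
    refine Groth.AlgGrp2.isMonHom_of_pt y fun g' h' => ?_
    obtain ⟨g, rfl⟩ := Groth.AlgGrp2.pt_surjective g'
    obtain ⟨h, rfl⟩ := Groth.AlgGrp2.pt_surjective h'
    refine inj ?_
    rw [CoactBr.pt_mul_pt, hy, Groth.Reductive.gmFn_mul, map_mul, hy, hy, AlgHom.comp_apply,
      Bialgebra.comulAlgHom_apply, hc.comul_eq_tmul_self, Algebra.TensorProduct.lift_tmul]
  let ψ : G ⟶ Red.Gm _ := jG.inv ≫ y
  have hiψ : i ≫ ψ = jH.inv ≫ x := by
    rw [← cancel_epi jH.hom, jH.hom_inv_id_assoc]
    refine inj ?_
    have e : jH.hom ≫ i ≫ ψ = CoactBr.pt φ ≫ y := by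
      rw [hφ]
      simp [ψ]
    rw [e, hy]
    exact hcb
  refine ⟨CGrpSh.ptsMap Scheme.fppfPrecoverage ψ, ?_⟩
  refine Sheaf.hom_ext (NatTrans.ext (funext fun T => AddCommGrpCat.ext fun p => ULift.ext _ _ ?_))
  obtain ⟨p⟩ := p
  change Additive.ofMul ((p.toMul ≫ i) ≫ ψ) = Additive.ofMul (ev p.toMul)
  congr 1
  rw [Category.assoc, hiψ, ← ev_comp, ← ev_comp, jH.inv_hom_id, Category.comp_id]

end Groth.Agent.S13470
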