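import Groth.Statements.S1349
import Groth.Agent.FlatMor2.FibCrit.RegChart
import Groth.Agent.FlatMor2.FibCrit.CMSlice
import Groth.Agent.Ega4Algebra2.SchemeFibre
import Groth.Agent.Ega4Algebra2.CMEquiv

set_option autoImplicit false
universe u
open FlatMor
set_option linter.style.haveILetI false

namespace Groth.Agent.S1349

open AlgebraicGeometry CategoryTheory Limits in
/-- Let f be locally of finite presentation and Cohen–Macaulay at a point x which is closed in its
fibre. Then there are an open neighbourhood V of x and a regular closed immersion i into V whose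
image contains x, such that the composite Z ⟶ V ⟶ X ⟶ S is flat, locally of finite presentation and
locally quasi-finite, and x is the only point of (the image of) Z lying over the image of x. -/
theorem result {X S : Scheme.{u}} (f : X ⟶ S) [LocallyOfFinitePresentation f] (x : X)
    (hcm : MoreMor.IsCMAt f x) (hcl : IsClosed ({f.asFiber x} : Set ↑(f.fiber (f x)))) :
    ∃ (V : X.Opens) (Z : Scheme.{u}) (i : Z ⟶ (V : Scheme.{u})), Mor2.IsRegularClosedImmersion i ∧ x ∈ Set.range ⇑(i ≫ V.ι) ∧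
      Flat (i ≫ V.ι ≫ f) ∧ LocallyOfFinitePresentation (i ≫ V.ι ≫ f) ∧ LocallyQuasiFinite (i ≫ V.ι ≫ f) ∧
      ∀ z : Z, f (V.ι (i z)) = f x → V.ι (i z) = x := by
  classical
  obtain ⟨hflat, hcmF⟩ := hcm
  obtain ⟨V, hV, hxV, -⟩ :=
    exists_isAffineOpen_mem_and_subset (x := f x) (TopologicalSpace.Opens.mem_top (f x))
  obtain ⟨U, hU, hxU, hUV⟩ := exists_isAffineOpen_mem_and_subset (x := x) (show x ∈ f ⁻¹ᵁ V from hxV)
  have e : U ≤ f ⁻¹ᵁ V := hUV
  letI : Algebra Γ(S, V) Γ(X, U) := (f.appLE V U e).hom.toAlgebra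
  haveI : Algebra.FinitePresentation Γ(S, V) Γ(X, U) := f.finitePresentation_appLE hV hU e
  letI := S.presheaf.algebra_section_stalk ⟨f x, e hxU⟩
  letI := X.presheaf.algebra_section_stalk ⟨x, hxU⟩
  let q := (hU.primeIdealOf ⟨x, hxU⟩).asIdeal
  haveI : IsLocalization.AtPrime (X.presheaf.stalk x) q := hU.isLocalization_stalk ⟨x, hxU⟩
  haveI : IsLocalization.AtPrime (S.presheaf.stalk (f x)) (q.under Γ(S, V)) :=
    Groth.FlatMor2.FibCrit.isLocalization_stalk_under f hV hU e x hxU
  letI : Algebra (S.presheaf.stalk (f x)) (X.presheaf.stalk x) := (f.stalkMap x).hom.toAlgebra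
  letI : Algebra Γ(S, V) (X.presheaf.stalk x) :=
    ((algebraMap Γ(X, U) (X.presheaf.stalk x)).comp (algebraMap Γ(S, V) Γ(X, U))).toAlgebra
  haveI : IsScalarTower Γ(S, V) Γ(X, U) (X.presheaf.stalk x) := IsScalarTower.of_algebraMap_eq' rfl
  haveI : IsScalarTower Γ(S, V) (S.presheaf.stalk (f x)) (X.presheaf.stalk x) :=
    IsScalarTower.of_algebraMap_eq fun a =>
      (Groth.FlatMor2.FibCrit.stalkMap_germ_appLE f e x hxU a).symm
  have hmax : Ideal.map (f.stalkMap x).hom (IsLocalRing.maximalIdeal (S.presheaf.stalk (f x))) =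
      (q.under Γ(S, V)).map (algebraMap Γ(S, V) (X.presheaf.stalk x)) := by
    rw [IsScalarTower.algebraMap_eq Γ(S, V) (S.presheaf.stalk (f x)) (X.presheaf.stalk x),
      ← Ideal.map_map, IsLocalization.AtPrime.map_eq_maximalIdeal (q.under Γ(S, V))
        (S.presheaf.stalk (f x))]
    rfl
  have hcm' : LocCoh.IsCohenMacaulayLocalRing
      (X.presheaf.stalk x ⧸ (q.under Γ(S, V)).map (algebraMap Γ(S, V) (X.presheaf.stalk x))) := by
    obtain ⟨eq'⟩ := Groth.Ega4b.nonempty_fiber_stalk_equiv f (f x) (f.asFiber x) x (f.fiberι_asFiber x)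
    exact Groth.Ega4b.isCohenMacaulayLocalRing_of_ringEquiv
      (eq'.symm.trans (Ideal.quotEquivOfEq hmax)) hcmF
  obtain ⟨c, hcq, hreg, hmin⟩ :=
    Groth.FlatMor2.FibCrit.exists_regular_numerators q (X.presheaf.stalk x) hcm'
  have hmem : ∀ a ∈ c, X.presheaf.germ U x hxU a ∈ IsLocalRing.maximalIdeal (X.presheaf.stalk x) :=
    fun a ha => (IsLocalization.AtPrime.to_map_mem_maximal_iff (X.presheaf.stalk x) q a).mpr (hcq a ha)
  obtain ⟨g, hxg, hall⟩ := Groth.FlatMor2.FibCrit.exists_regular_nhd f hV hU e x hxU hflat c hmem (by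
    refine (RingTheory.Sequence.isWeaklyRegular_map_algebraMap_iff
      (X.presheaf.stalk x ⧸ Ideal.map (f.stalkMap x).hom (IsLocalRing.maximalIdeal (S.presheaf.stalk (f x))))
      _ c).mpr ?_
    rw [hmax]
    exact hreg)
  have hxx : hU.fromSpec (hU.primeIdealOf ⟨x, hxU⟩) = x := hU.fromSpec_primeIdealOf ⟨x, hxU⟩
  have hfx : hV.fromSpec (hV.primeIdealOf ⟨f x, e hxU⟩) = f x := hV.fromSpec_primeIdealOf ⟨f x, e hxU⟩
  let I := Ideal.ofList c
  have hIq : I ≤ q := Ideal.span_le.mpr hcq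
  let qb := q.map (Ideal.Quotient.mk I)
  haveI : qb.IsPrime := Ideal.map_isPrime_of_surjective Ideal.Quotient.mk_surjective (by rwa [Ideal.mk_ker])
  have hqb : qb.comap (Ideal.Quotient.mk I) = q := by
    rw [Ideal.comap_map_of_surjective _ Ideal.Quotient.mk_surjective, ← RingHom.ker_eq_comap_bot,
      Ideal.mk_ker, sup_eq_left.mpr hIq]
  have hunder : ∀ P : Ideal (Γ(X, U) ⧸ I), (P.comap (Ideal.Quotient.mk I)).under Γ(S, V) = P.under Γ(S, V) :=
    fun P => rfl
  haveI : Algebra.FiniteType Γ(S, V) (Γ(X, U) ⧸ I) := inferInstance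
  obtain ⟨d, hdq, hd⟩ := Groth.FlatMor2.FibCrit.exists_nhd_quasiFinite (A := Γ(S, V)) qb
    (by
      intro P hP hPu hle
      have hu : (P.comap (Ideal.Quotient.mk I)).under Γ(S, V) = q.under Γ(S, V) := by
        rw [hunder, hPu, ← hunder, hqb]
      have hle' : q ≤ P.comap (Ideal.Quotient.mk I) := hqb ▸ Ideal.comap_mono hle
      let y : Spec Γ(X, U) := ⟨P.comap (Ideal.Quotient.mk I), inferInstance⟩
      have hxy : x ⤳ hU.fromSpec y := by
        rw [← hxx]
        exact ((PrimeSpectrum.le_iff_specializes _ _).mp hle').map hU.fromSpec.continuous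
      have hfy : f (hU.fromSpec y) = f x := by
        rw [← Scheme.Hom.comp_apply, ← hV.SpecMap_appLE_fromSpec f hU e, Scheme.Hom.comp_apply,
          ← hfx,
          ← IsAffineOpen.comap_primeIdealOf_appLE V hV U hU e hxU]
        exact congrArg hV.fromSpec (PrimeSpectrum.ext hu)
      obtain ⟨w, hw⟩ : hU.fromSpec y ∈ Set.range (f.fiberι (f x)) := by
        rw [Scheme.Hom.range_fiberι]; exact hfy
      have hsp : f.asFiber x ⤳ w := by
        rw [← (f.fiberι (f x)).isEmbedding.toIsInducing.specializes_iff, f.fiberι_asFiber, hw]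
        exact hxy
      have hwx : w = f.asFiber x := hsp.mem_closed hcl rfl
      rw [hwx, f.fiberι_asFiber, ← hxx] at hw
      have hy : y = hU.primeIdealOf ⟨x, hxU⟩ := hU.fromSpec.isOpenEmbedding.injective hw.symm
      refine Ideal.comap_injective_of_surjective _ Ideal.Quotient.mk_surjective ?_
      rw [hqb]
      exact congrArg PrimeSpectrum.asIdeal hy)
    (by
      intro P hP hPu hle
      refine Ideal.comap_injective_of_surjective _ Ideal.Quotient.mk_surjective ?_
      rw [hqb]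
      refine hmin _ inferInstance (by rw [hunder, hPu, ← hunder, hqb]) (hqb ▸ Ideal.comap_mono hle) ?_
      calc I = RingHom.ker (Ideal.Quotient.mk I) := Ideal.mk_ker.symm
        _ ≤ _ := Ideal.ker_le_comap _)
  obtain ⟨d, rfl⟩ := Ideal.Quotient.mk_surjective d
  have hxW : x ∈ X.basicOpen (g * d) := by
    rw [Scheme.basicOpen_mul]
    exact ⟨hxg, (Groth.QCohMod.mem_basicOpen_iff_notMem_primeIdealOf hU d x hxU).mpr
      fun hd' => hdq (Ideal.mem_map_of_mem _ hd')⟩
  obtain ⟨hqf, huniq⟩ := hd (Ideal.Quotient.mk I (g * d)) (map_dvd _ (dvd_mul_left d g))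
  obtain ⟨h1, h2, h3, -⟩ := hall (g * d) (dvd_mul_right g d)
  let W := X.basicOpen (g * d)
  have hW : IsAffineOpen W := hU.basicOpen (g * d)
  let c' := c.map (X.presheaf.map (homOfLE (X.basicOpen_le (g * d))).op)
  have hc' : ∀ a ∈ c', X.presheaf.germ W x hxW a ∈ IsLocalRing.maximalIdeal (X.presheaf.stalk x) := by
    intro a ha
    obtain ⟨a, ha', rfl⟩ := List.mem_map.mp ha
    rw [X.presheaf.germ_res_apply _ x hxW a]
    exact hmem a ha'
  refine ⟨W, _, _, h1, ?_, ?_, ?_, ?_, ?_⟩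
  · rw [Category.assoc, hW.isoSpec_inv_ι]
    exact Groth.FlatMor2.FibCrit.mem_range_ofList hW c' x hxW hc'
  · rwa [Category.assoc, hW.isoSpec_inv_ι_assoc]
  · rwa [Category.assoc, hW.isoSpec_inv_ι_assoc]
  · have eW : W ≤ f ⁻¹ᵁ V := (X.basicOpen_le (g * d)).trans e
    haveI : IsLocalization.Away (g * d) Γ(X, W) := hU.isLocalization_basicOpen (g * d)
    letI : Algebra Γ(S, V) Γ(X, W) := (f.appLE V W eW).hom.toAlgebra
    haveI : IsScalarTower Γ(S, V) Γ(X, U) Γ(X, W) := IsScalarTower.of_algebraMap_eq fun a =>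
      (congr($(f.appLE_map e (homOfLE (X.basicOpen_le (g * d))).op) a)).symm
    have hq : Algebra.QuasiFinite Γ(S, V) (Γ(X, W) ⧸ Ideal.ofList c') := by
      have := Groth.FlatMor2.FibCrit.quasiFinite_quotient_away I (g * d) Γ(X, W) hqf
      rw [show I.map (algebraMap Γ(X, U) Γ(X, W)) = Ideal.ofList c' from Ideal.map_ofList _ _] at this
      exact this
    rw [Category.assoc, hW.isoSpec_inv_ι_assoc, ← hV.SpecMap_appLE_fromSpec f hW eW,
      ← Spec.map_comp_assoc]
    refine MorphismProperty.comp_mem @LocallyQuasiFinite _ _ ?_ inferInstance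
    rw [HasRingHomProperty.Spec_iff (P := @LocallyQuasiFinite)]
    exact RingHom.quasiFinite_algebraMap.mpr hq
  · intro z hz
    let φ : Γ(X, U) →+* Γ(X, W) := (X.presheaf.map (homOfLE (X.basicOpen_le (g * d))).op).hom
    let ψ : Γ(X, U) →+* Γ(X, W) ⧸ Ideal.ofList c' := (Ideal.Quotient.mk _).comp φ
    let P : PrimeSpectrum Γ(X, U) := PrimeSpectrum.comap ψ z
    have hz' : W.ι ((Spec.map (CommRingCat.ofHom (Ideal.Quotient.mk (Ideal.ofList c'))) ≫ hW.isoSpec.inv) z) =
        hU.fromSpec P := by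
      rw [← Scheme.Hom.comp_apply, Category.assoc, hW.isoSpec_inv_ι,
        ← hU.map_fromSpec hW (homOfLE (X.basicOpen_le (g * d))).op, ← Spec.map_comp_assoc,
        Scheme.Hom.comp_apply]
      rfl
    rw [hz'] at hz ⊢
    rw [← Scheme.Hom.comp_apply, ← hV.SpecMap_appLE_fromSpec f hU e, Scheme.Hom.comp_apply,
      ← hfx,
      ← IsAffineOpen.comap_primeIdealOf_appLE V hV U hU e hxU] at hz
    have hz2 := congrArg PrimeSpectrum.asIdeal (hV.fromSpec.isOpenEmbedding.injective hz)
    change P.asIdeal.under Γ(S, V) = q.under Γ(S, V) at hz2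
    have hIP : I ≤ P.asIdeal := Ideal.span_le.mpr fun a ha => by
      show Ideal.Quotient.mk _ (φ a) ∈ z.asIdeal
      rw [Ideal.Quotient.eq_zero_iff_mem.mpr (Ideal.subset_span (List.mem_map_of_mem ha) : φ a ∈ Ideal.ofList c')]
      exact zero_mem _
    haveI : (P.asIdeal.map (Ideal.Quotient.mk I)).IsPrime :=
      Ideal.map_isPrime_of_surjective Ideal.Quotient.mk_surjective (by rwa [Ideal.mk_ker])
    have hPc : (P.asIdeal.map (Ideal.Quotient.mk I)).comap (Ideal.Quotient.mk I) = P.asIdeal := by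
      rw [Ideal.comap_map_of_surjective _ Ideal.Quotient.mk_surjective, ← RingHom.ker_eq_comap_bot,
        Ideal.mk_ker, sup_eq_left.mpr hIP]
    refine Eq.trans ?_ hxx
    refine congrArg hU.fromSpec (PrimeSpectrum.ext ?_)
    by_contra hne
    have hmemP := huniq (P.asIdeal.map (Ideal.Quotient.mk I)) inferInstance
      (fun h => hne (by rw [← hPc, h, hqb]))
      (by rw [← hunder, hPc, hz2, ← hunder, hqb])
    have hgd : g * d ∈ P.asIdeal := hPc ▸ hmemP
    haveI : IsLocalization.Away (g * d) Γ(X, W) := hU.isLocalization_basicOpen (g * d)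
    have hunit : IsUnit (ψ (g * d)) :=
      ((IsLocalization.Away.algebraMap_isUnit (S := Γ(X, W)) (g * d)).map (Ideal.Quotient.mk (Ideal.ofList c')) :)
    exact z.isPrime.ne_top (Ideal.eq_top_of_isUnit_mem _ hgd hunit)

end Groth.Agent.S1349
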