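import Groth.Statements.S13499
import Groth.Agent.GaloisBrauer.FieldKill
import Mathlib.Algebra.Category.Grp.Abelian
import Groth.Agent.S7744

set_option autoImplicit false
universe u
open CategoryTheory CategoryTheory.Limits AlgebraicGeometry Opposite
open GalCoh

namespace Groth.Agent.S13499

theorem subsingleton_of_divisible (k : Type u) [Field k] (F : EtCoh.Ab (Spec (CommRingCat.of k)))
    (hdiv : ∀ n : ℕ, 0 < n → IsIso (n • 𝟙 F)) (i : ℕ) (hi : 0 < i) :
    Subsingleton (EtCoh.H (Spec (CommRingCat.of k)) F i) :=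
  Groth.Agent.S7744.result k F hdiv i hi

/-- For a field k and i ≥ 2 there is an isomorphism between H^i(Spec k, Z) and H^{i-1}(Spec k, Q/Z),
étale cohomology of Spec k with coefficients in the constant sheaves Z and Q/Z (existence of an
additive isomorphism only; the published statement is for an arbitrary profinite group with trivial
action and identifies the two groups through the boundary map of 0 → Z → Q → Q/Z → 0). -/
theorem result (k : Type u) [Field k] (i : ℕ) (hi : 2 ≤ i) :
    Nonempty (EtCoh.H (Spec (CommRingCat.of k)) (EtCoh.const (Spec (CommRingCat.of k)) ℤ) i ≃+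
      EtCoh.H (Spec (CommRingCat.of k))
        (EtCoh.const (Spec (CommRingCat.of k)) (ℚ ⧸ AddSubgroup.zmultiples (1 : ℚ))) (i - 1)) := by
  obtain ⟨j, rfl⟩ : ∃ j, i = j + 1 := ⟨i - 1, by omega⟩
  let X := Spec (CommRingCat.of k)
  let Fc := constantSheaf X.smallEtaleTopology AddCommGrpCat.{u + 1}
  haveI : PreservesFiniteLimits Fc :=
    inferInstanceAs (PreservesFiniteLimits (Functor.const _ ⋙ presheafToSheaf _ _))
  haveI : PreservesColimitsOfSize.{0, 0} Fc := (EtCore.constAdj X).leftAdjoint_preservesColimits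
  haveI : PreservesFiniteColimits Fc := PreservesColimitsOfSize.preservesFiniteColimits _
  haveI : Fc.Additive := Functor.additive_of_preserves_binary_products Fc
  let q := QuotientAddGroup.mk' (AddSubgroup.zmultiples (1 : ℚ))
  let c := Int.castAddHom ℚ
  let up : ∀ {M N : Type} [AddCommGroup M] [AddCommGroup N], (M →+ N) →
      (AddCommGrpCat.of (ULift.{u + 1} M) ⟶ AddCommGrpCat.of (ULift.{u + 1} N)) := fun g =>
    AddCommGrpCat.ofHom ((AddEquiv.ulift.symm.toAddMonoidHom.comp g).comp AddEquiv.ulift.toAddMonoidHom)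
  let S : ShortComplex AddCommGrpCat.{u + 1} := ShortComplex.mk (up c) (up q) (by
    ext ⟨n⟩
    exact (QuotientAddGroup.eq_zero_iff _).2 ⟨n, zsmul_one n⟩)
  have hS : S.ShortExact := by
    refine { exact := (ShortComplex.ab_exact_iff S).2 ?_, mono_f := ?_, epi_g := ?_ }
    · rintro ⟨x⟩ hx
      obtain ⟨n, hn⟩ := (QuotientAddGroup.eq_zero_iff x).1 (congrArg ULift.down hx)
      exact ⟨⟨n⟩, ULift.ext _ _ ((zsmul_one n).symm.trans hn)⟩
    · refine (AddCommGrpCat.mono_iff_injective _).2 fun a b h => ULift.ext _ _ ?_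
      exact Int.cast_injective (congrArg ULift.down h)
    · refine (AddCommGrpCat.epi_iff_surjective _).2 fun ⟨y⟩ => ?_
      obtain ⟨x, rfl⟩ := QuotientAddGroup.mk'_surjective _ y
      exact ⟨⟨x⟩, rfl⟩
  have hT := hS.map_of_exact Fc
  have hz : ∀ r, 0 < r → Subsingleton (EtCoh.H X (EtCoh.const X ℚ) r) := fun r hr =>
    subsingleton_of_divisible k (EtCoh.const X ℚ) (fun n hn => by
      haveI : IsIso (n • 𝟙 (AddCommGrpCat.of (ULift.{u + 1} ℚ))) := by
        refine (ConcreteCategory.isIso_iff_bijective _).2 ?_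
        have e : ∀ (d : ℕ) (a : ULift.{u + 1} ℚ),
            (d • 𝟙 (AddCommGrpCat.of (ULift.{u + 1} ℚ)) : _ ⟶ _) a = d • a := by
          intro d a
          induction d with
          | zero => simp [zero_nsmul]
          | succ d ih => rw [succ_nsmul, succ_nsmul, ← ih]; rfl
        refine ⟨fun a b h => ?_, fun b => ⟨⟨b.down / n⟩, ?_⟩⟩
        · rw [e, e] at h
          exact ULift.ext _ _ (nsmul_right_injective hn.ne' (congrArg ULift.down h))
        · rw [e]
          refine ULift.ext _ _ ?_
          show n • (b.down / n) = b.down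
          rw [nsmul_eq_mul]
          field_simp
      have := Functor.map_isIso Fc (n • 𝟙 (AddCommGrpCat.of (ULift.{u + 1} ℚ)))
      rwa [Functor.map_nsmul, CategoryTheory.Functor.map_id] at this) r hr
  refine ⟨(AddEquiv.ofBijective (hT.extClass.postcomp (EtCoh.const X ℤ) (rfl : j + 1 = j + 1))
    ⟨?_, ?_⟩).symm⟩
  · refine (injective_iff_map_eq_zero _).2 fun y hy => ?_
    obtain ⟨z, rfl⟩ := Abelian.Ext.covariant_sequence_exact₃ _ hT y rfl hy
    haveI : Subsingleton (Abelian.Ext (EtCoh.const X ℤ) (S.map Fc).X₂ j) := hz j (by omega)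
    rw [Subsingleton.elim z 0, Abelian.Ext.zero_comp]
  · intro y
    refine Abelian.Ext.covariant_sequence_exact₁ _ hT y ?_ rfl
    haveI : Subsingleton (Abelian.Ext (EtCoh.const X ℤ) (S.map Fc).X₂ (j + 1)) := hz (j + 1) (by omega)
    exact Subsingleton.elim _ _

end Groth.Agent.S13499
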