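import Groth.Statements.S13530
import Groth.Agent.ResPropQC.Deligne
import Groth.Agent.ResPropLib.AlmostAmpleGen
import Groth.Agent.FlatMorOne.FTIdeal
import Groth.Agent.OmegaSheaf.IdealMod
import Groth.Agent.QCohMod.FPColimit


set_option autoImplicit false
universe u
open CategoryTheory CategoryTheory.Limits AlgebraicGeometry
open ResProp

namespace Groth.Agent.S13530


open AlgebraicGeometry CategoryTheory CategoryTheory.Limits TopologicalSpace Opposite

set_option backward.isDefEq.respectTransparency false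
set_option backward.isDefEq.respectTransparency.types false

/-- For an affine open `U` of a qcqs scheme: a finitely presented module with a functional which
vanishes outside of `U` and takes the value one locally on `U`. -/
theorem exists_fp_functional (X : Scheme.{u}) [CompactSpace X] [QuasiSeparatedSpace X] (U : X.Opens)
    (hU : IsCompact (U : Set X)) :
    ∃ (G : X.Modules) (_ : G.IsQuasicoherent) (σ : G ⟶ Coh.structureModule X), CohB1.IsFP G ∧
      (∀ (W : X.Opens) (b : Γ(G, W)), X.basicOpen (Groth.ResPropQC.fnl σ W b) ≤ U) ∧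
      (∀ x ∈ U, ∃ (W : X.Opens) (_ : IsAffineOpen W), x ∈ W ∧ W ≤ U ∧
        ∃ b : Γ(G, W), Groth.ResPropQC.fnl σ W b = 1) := by
  obtain ⟨K, hK, hKs⟩ := Groth.FlatMorOne.exists_ftIdeal_support_eq
    (⟨(U : Set X)ᶜ, U.2.isClosed_compl⟩ : Closeds X) (by
      show IsCompact ((U : Set X)ᶜ)ᶜ
      rwa [compl_compl])
  replace hKs : (K.support : Set X) = (U : Set X)ᶜ := hKs
  haveI : (ClSub.idealMod K).IsQuasicoherent := Groth.OmegaSheaf.isQCoh_idealMod K
  have hft : CohB1.IsFT (ClSub.idealMod K) := (Groth.QCohMod.isFT_iff _).2 fun A hA => by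
    haveI : Module.Finite Γ(X, A) (K.ideal ⟨A, hA⟩) := Module.Finite.iff_fg.2 (hK ⟨A, hA⟩)
    exact Module.Finite.equiv (Groth.OmegaSheaf.idealSecEquiv K ⟨A, hA⟩).symm
  obtain ⟨G, hGq, φ, hG, hφ⟩ := Groth.QCohMod.exists_fp_epi (ClSub.idealMod K) hft
  refine ⟨G, hGq, φ ≫ ClSub.idealModι K, hG, fun W b x hx => ?_, fun x hx => ?_⟩
  · by_contra hxU
    obtain ⟨A, hA, hxA, hAW⟩ := exists_isAffineOpen_mem_and_subset (x := x) (U := W)
      (X.basicOpen_le _ hx)
    have hsupp : x ∈ (K.support : Set X) := hKs.symm ▸ hxU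
    have h0 := (Scheme.IdealSheafData.mem_support_iff_of_mem (U := ⟨A, hA⟩) hxA).1 hsupp
    rw [Scheme.mem_zeroLocus_iff] at h0
    refine h0 (Groth.QCohMod.resFun X hAW (Groth.ResPropQC.fnl (φ ≫ ClSub.idealModι K) W b)) ?_ ?_
    · rw [← Groth.ResPropQC.fnl_res]
      exact Groth.OmegaSheaf.idealSect_mem K ⟨A, hA⟩ (φ.app A _)
    · rw [Groth.QCohMod.basicOpen_resFun]
      exact ⟨hxA, hx⟩
  · obtain ⟨W, hW, hxW, hWU⟩ := exists_isAffineOpen_mem_and_subset (x := x) (U := U) hx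
    refine ⟨W, hW, hxW, hWU, ?_⟩
    have htop : K.ideal ⟨W, hW⟩ = ⊤ :=
      Groth.ResPropLib.ideal_eq_top_of_disjoint K hW fun y hy hys => (hKs ▸ hys : y ∈ (U : Set X)ᶜ) (hWU hy)
    obtain ⟨k, hk⟩ := Groth.OmegaSheaf.exists_idealSect K ⟨W, hW⟩ (x := 1) (htop ▸ trivial)
    obtain ⟨b, hb⟩ := Groth.QCohMod.app_surjective_of_epi φ hW k
    refine ⟨b, ?_⟩
    change OmegaSh.idealSect K W (φ.app W b) = 1
    rw [hb]
    exact hk

/-- On a quasi-compact quasi-separated scheme there is a finitely presented quasi-coherent module F such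
that every finitely presented quasi-coherent module is a quotient of a finite direct sum of copies
of a tensor power of F; more precisely, for all sufficiently large n and m there is an epimorphism
from the direct sum of m copies of the n-th tensor power of F. -/
theorem result (X : Scheme.{u}) [CompactSpace X] [QuasiSeparatedSpace X] :
    ∃ F : X.Modules, Coh.IsQCoh F ∧ CohB1.IsFP F ∧
      ∀ M : X.Modules, Coh.IsQCoh M → CohB1.IsFP M →
        ∃ n₀ m₀ : ℕ, ∀ n m : ℕ, n₀ ≤ n → m₀ ≤ m →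
          ∃ π : (∐ fun _ : Fin m => CohB1.tensorPow F n) ⟶ M, Epi π := by
  classical
  obtain ⟨r, V, hV, hcov, -, -⟩ := Groth.QCohMod.exists_finite_cover (X := X)
  choose G hGq σ' hG hout hin using fun i : ULift.{u} (Fin r) =>
    exists_fp_functional X (V i.down) (hV i.down).isCompact
  let P : X.Modules := ∐ G
  haveI : P.IsQuasicoherent := Groth.QCohMod.isQCoh_sigma G
  have hP : CohB1.IsFP P := Groth.QCohMod.isFP_sigma G hG
  let pr : ∀ i, P ⟶ G i := fun i =>
    Sigma.desc fun k => if h : k = i then eqToHom (congrArg G h) else 0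
  have hpr : ∀ i, Sigma.ι G i ≫ pr i = 𝟙 _ := fun i => by simp [pr]
  refine ⟨P, ‹P.IsQuasicoherent›, hP, fun M hMq hM => ?_⟩
  haveI : M.IsQuasicoherent := hMq
  have hft : CohB1.IsFT M := by
    haveI : SheafOfModules.IsFinitePresentation (R := X.ringCatSheaf) M := hM
    infer_instance
  choose S hS using fun i : ULift.{u} (Fin r) => Groth.Chow.exists_locSpan M hft (hV i.down)
  let κ : Type u := Σ i : ULift.{u} (Fin r), S i
  have hlift : ∀ j : κ, ∃ N, ∀ n, N ≤ n → ∃ φ : CohB1.tensorPow P n ⟶ M,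
      ∀ (W : X.Opens) (hW : W ≤ V j.1.down) (a : Γ(CohB1.tensorPow P n, W)), φ.app W a =
        Groth.ResPropQC.fnl (Groth.ResPropQC.chi (pr j.1 ≫ σ' j.1) n) W a •
          Groth.QCohMod.res M hW j.2.1 := fun j =>
    Groth.ResPropQC.exists_hom_lift hP (fun W b => hout j.1 W ((pr j.1).app W b))
      (hV j.1.down).isCompact
  choose N hN using hlift
  haveI : Fintype κ := Fintype.ofFinite κ
  refine ⟨Finset.univ.sup N, Fintype.card κ, fun n m hn hm => ?_⟩
  choose φ hφ using fun j => hN j n ((Finset.le_sup (Finset.mem_univ j)).trans hn)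
  let e : κ ≃ Fin (Fintype.card κ) := Fintype.equivFin κ
  let ψ : Fin m → (CohB1.tensorPow P n ⟶ M) := fun j =>
    if h : j.1 < Fintype.card κ then φ (e.symm ⟨j.1, h⟩) else 0
  refine ⟨Sigma.desc ψ, Groth.ResPropLib.epi_sigma_of_locSpan _ ψ fun x => ?_⟩
  obtain ⟨i, hi⟩ := Opens.mem_iSup.1 (hcov.ge (Opens.mem_top x))
  obtain ⟨W, hW, hxW, hWi, b, hb⟩ := hin ⟨i⟩ x hi
  refine ⟨W, Groth.PicAux.res M hWi '' (S ⟨i⟩ : Set Γ(M, V i)), hxW, ?_, ?_⟩
  · intro V0 hV0 y z hz
    obtain ⟨V', h, h', hzV', hmem⟩ := hS ⟨i⟩ V0 (hV0.trans hWi) y z hz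
    refine ⟨V', h, h.trans hV0, hzV', ?_⟩
    rwa [Set.image_image, Set.image_congr fun t _ => Groth.PicAux.res_res (M := M) hWi (h.trans hV0) t]
  rintro _ ⟨t, ht, rfl⟩
  let j : κ := ⟨⟨i⟩, t, ht⟩
  let j' : Fin m := ⟨(e j).1, (e j).2.trans_le hm⟩
  refine ⟨j', Groth.PicAux.powSec ((Sigma.ι G ⟨i⟩).app W b) n, ?_⟩
  have hψ : ψ j' = φ j := by
    simp only [ψ, j', dif_pos (e j).2]
    exact congrArg φ (e.symm_apply_apply j)
  rw [hψ, hφ j W hWi]
  have hone : ∀ k, Groth.ResPropQC.fnl (Groth.ResPropQC.chi (pr ⟨i⟩ ≫ σ' ⟨i⟩) k) W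
      (Groth.PicAux.powSec ((Sigma.ι G ⟨i⟩).app W b) k) = 1 := by
    intro k
    induction k with
    | zero => rfl
    | succ k ih =>
      change Groth.ResPropQC.fnl _ W (Groth.PicAux.tmulSec _ _) = 1
      refine (Groth.ResPropQC.chi_tmul _ k W _ _).trans ?_
      rw [ih, mul_one]
      have h1 : (pr ⟨i⟩).app W ((Sigma.ι G ⟨i⟩).app W b) = b := congr(($(hpr ⟨i⟩)).app W b)
      change Groth.ResPropQC.fnl (σ' ⟨i⟩) W ((pr ⟨i⟩).app W ((Sigma.ι G ⟨i⟩).app W b)) = 1
      rw [h1]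
      exact hb
  rw [hone, one_smul]
  rfl

end Groth.Agent.S13530
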