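import Groth.Statements.S13533
import Mathlib.RingTheory.LocalRing.Module
import Mathlib.RingTheory.Ideal.MinimalPrime.Noetherian
import Mathlib.RingTheory.Ideal.AssociatedPrime.Basic
import Mathlib.RingTheory.OrzechProperty
import Mathlib.Algebra.Module.LocalizedModule.Submodule
import Mathlib.RingTheory.Spectrum.Prime.Topology
-- import your own Groth.Agent.* helpers here

set_option autoImplicit false
universe u
open ResProp

namespace Groth.Agent.S13533

section
open TensorProduct
open scoped TensorProduct

set_option maxHeartbeats 1000000 in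
/-- The fibre dimension of a finite module is upper semicontinuous. -/
theorem exists_nhd_finrank_le {A : Type u} [CommRing A] (M : Type u) [AddCommGroup M] [Module A M]
    [Module.Finite A M] (P : Ideal A) [P.IsPrime] :
    ∃ s : A, s ∉ P ∧ ∀ (q : Ideal A) [q.IsPrime], s ∉ q →
      Module.finrank q.ResidueField (q.ResidueField ⊗[A] M) ≤
        Module.finrank P.ResidueField (P.ResidueField ⊗[A] M) := by
  classical
  let S : Set (P.ResidueField ⊗[A] M) := Set.range fun m : M => (1 : P.ResidueField) ⊗ₜ[A] m
  have hS : Submodule.span P.ResidueField S = ⊤ := by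
    rw [eq_top_iff]
    intro x _
    induction x using TensorProduct.induction_on with
    | zero => exact zero_mem _
    | tmul c m =>
      rw [show c ⊗ₜ[A] m = c • ((1 : P.ResidueField) ⊗ₜ[A] m) by rw [TensorProduct.smul_tmul', smul_eq_mul, mul_one]]
      exact Submodule.smul_mem _ _ (Submodule.subset_span ⟨m, rfl⟩)
    | add x y hx hy => exact add_mem (hx trivial) (hy trivial)
  obtain ⟨b, hbS, hbspan, hbli⟩ := exists_linearIndependent P.ResidueField S
  rw [hS] at hbspan
  have : Fintype b := @Fintype.ofFinite _ hbli.finite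
  have hcard : Fintype.card b = Module.finrank P.ResidueField (P.ResidueField ⊗[A] M) := by
    rw [← Set.toFinset_card, ← finrank_span_set_eq_card hbli, hbspan, finrank_top]
  choose m hm using fun x : b => hbS x.2
  let U : Submodule A M := Submodule.span A (Set.range m)
  have hsub : Subsingleton (P.ResidueField ⊗[A] (M ⧸ U)) := by
    refine subsingleton_of_forall_eq 0 fun y => ?_
    obtain ⟨z, rfl⟩ := LinearMap.lTensor_surjective P.ResidueField U.mkQ_surjective y
    have hz : z ∈ Submodule.span P.ResidueField b := hbspan ▸ Submodule.mem_top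
    show U.mkQ.baseChange P.ResidueField z = 0
    induction hz using Submodule.span_induction with
    | mem x hx =>
      rw [show x = (1 : P.ResidueField) ⊗ₜ[A] m ⟨x, hx⟩ from (hm ⟨x, hx⟩).symm, LinearMap.baseChange_tmul,
        Submodule.mkQ_apply, (Submodule.Quotient.mk_eq_zero U).2 (Submodule.subset_span (Set.mem_range_self _)), tmul_zero]
    | zero => exact map_zero _
    | add x y _ _ hx hy => rw [map_add, hx, hy, add_zero]
    | smul c x _ hx => rw [map_smul, hx, smul_zero]
  have hP : (⟨P, ‹_›⟩ : PrimeSpectrum A) ∉ Module.support A (M ⧸ U) := fun hmem =>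
    haveI := hsub
    not_nontrivial (P.ResidueField ⊗[A] (M ⧸ U))
      ((Module.mem_support_iff_nontrivial_residueField_tensorProduct _).1 hmem)
  rw [Module.support_eq_zeroLocus, PrimeSpectrum.mem_zeroLocus, SetLike.coe_subset_coe, SetLike.not_le_iff_exists] at hP
  obtain ⟨s, hs, hsP⟩ := hP
  refine ⟨s, hsP, fun q _ hsnq => ?_⟩
  have hsq : algebraMap A q.ResidueField s ≠ 0 := fun h0 =>
    hsnq (Ideal.algebraMap_residueField_eq_zero.1 h0)
  have hspan : Submodule.span q.ResidueField (Set.range fun x : b => (1 : q.ResidueField) ⊗ₜ[A] m x) = ⊤ := by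
    rw [eq_top_iff]
    intro x _
    induction x using TensorProduct.induction_on with
    | zero => exact zero_mem _
    | add x y hx hy => exact add_mem (hx trivial) (hy trivial)
    | tmul c y =>
      have hsy : s • y ∈ U := by
        rw [← Submodule.Quotient.mk_eq_zero, Submodule.Quotient.mk_smul]
        exact Module.mem_annihilator.1 hs _
      have h1 : c ⊗ₜ[A] y = (c * (algebraMap A q.ResidueField s)⁻¹) • ((1 : q.ResidueField) ⊗ₜ[A] (s • y)) := by
        rw [TensorProduct.tmul_smul, TensorProduct.smul_tmul', TensorProduct.smul_tmul', Algebra.smul_def s,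
          smul_eq_mul, mul_one, mul_assoc, inv_mul_cancel₀ hsq, mul_one]
      rw [h1]
      refine Submodule.smul_mem _ _ ?_
      revert hsy
      generalize s • y = w
      intro hsy
      induction hsy using Submodule.span_induction with
      | mem z hz =>
        obtain ⟨i, rfl⟩ := hz
        exact Submodule.subset_span ⟨i, rfl⟩
      | zero => simp
      | add a b _ _ ha hb => rw [tmul_add]; exact add_mem ha hb
      | smul a z _ hz => rw [tmul_smul]; exact Submodule.smul_of_tower_mem _ a hz
  rw [← hcard, ← finrank_top q.ResidueField, ← hspan]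
  exact finrank_range_le_card _


variable {A : Type u} [CommRing A] {N : Type u} [AddCommGroup N] [Module A N]

local notation "fd(" p ", " N' ")" => Module.finrank (Ideal.ResidueField p) (Ideal.ResidueField p ⊗[A] N')

theorem span_one_tmul (p : Ideal A) [p.IsPrime] :
    Submodule.span p.ResidueField (Set.range fun m : N => (1 : p.ResidueField) ⊗ₜ[A] m) = ⊤ := by
  rw [eq_top_iff]
  intro x _
  induction x with
  | zero => exact zero_mem _
  | tmul c m =>
    rw [show c ⊗ₜ[A] m = c • ((1 : p.ResidueField) ⊗ₜ[A] m) by rw [TensorProduct.smul_tmul', smul_eq_mul, mul_one]]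
    exact Submodule.smul_mem _ _ (Submodule.subset_span ⟨m, rfl⟩)
  | add x y hx hy => exact add_mem (hx trivial) (hy trivial)

theorem fd_quot [Module.Finite A N] (p : Ideal A) [p.IsPrime] {ι : Type*} (y : ι → N) :
    fd(p, N ⧸ Submodule.span A (Set.range y)) +
        Module.finrank p.ResidueField (Submodule.span p.ResidueField
          (Set.range fun i => (1 : p.ResidueField) ⊗ₜ[A] y i)) = fd(p, N) := by
  set U := Submodule.span A (Set.range y)
  have hsurj : Function.Surjective (U.mkQ.baseChange p.ResidueField) :=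
    LinearMap.lTensor_surjective _ U.mkQ_surjective
  have hker : LinearMap.ker (U.mkQ.baseChange p.ResidueField) =
      Submodule.span p.ResidueField (Set.range fun i => (1 : p.ResidueField) ⊗ₜ[A] y i) := by
    apply le_antisymm
    · intro z hz
      obtain ⟨w, rfl⟩ := (lTensor_exact p.ResidueField (LinearMap.exact_subtype_mkQ U) U.mkQ_surjective z).1 hz
      clear hz
      induction w with
      | zero => simp
      | add a b ha hb => rw [map_add]; exact add_mem ha hb
      | tmul c w =>
        rw [LinearMap.lTensor_tmul, show c ⊗ₜ[A] U.subtype w = c • ((1 : p.ResidueField) ⊗ₜ[A] (w : N)) by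
          rw [TensorProduct.smul_tmul', smul_eq_mul, mul_one]; rfl]
        refine Submodule.smul_mem _ _ ?_
        obtain ⟨w, hw⟩ := w
        change (1 : p.ResidueField) ⊗ₜ[A] w ∈ _
        induction hw using Submodule.span_induction with
        | mem z hz =>
          obtain ⟨i, rfl⟩ := hz
          exact Submodule.subset_span ⟨i, rfl⟩
        | zero => simp
        | add a b _ _ ha hb => rw [tmul_add]; exact add_mem ha hb
        | smul a z _ hz => rw [tmul_smul]; exact Submodule.smul_of_tower_mem _ a hz
    · rw [Submodule.span_le]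
      rintro _ ⟨i, rfl⟩
      show U.mkQ.baseChange p.ResidueField _ = 0
      rw [LinearMap.baseChange_tmul, Submodule.mkQ_apply,
        (Submodule.Quotient.mk_eq_zero U).2 (Submodule.subset_span (Set.mem_range_self i)), tmul_zero]
  rw [← hker, ← LinearMap.finrank_range_add_finrank_ker (U.mkQ.baseChange p.ResidueField),
    LinearMap.range_eq_top.2 hsurj, finrank_top]

theorem span_combine {K V : Type u} [Field K] [AddCommGroup V] [Module K V] {n : ℕ} (v : Fin n → V) (w : V)
    (a : Fin n → K) (c : Fin (n + 1) → K) (hc : ∑ i, c i • Fin.snoc (α := fun _ => V) v w i = 0)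
    (h : c (Fin.last n) - ∑ i, a i * c i.castSucc ≠ 0) :
    Submodule.span K (Set.range (Fin.snoc (α := fun _ => V) v w)) ≤
      Submodule.span K (Set.range fun i => v i + a i • w) := by
  set W := Submodule.span K (Set.range fun i => v i + a i • w)
  rw [Fin.sum_univ_castSucc] at hc
  simp only [Fin.snoc_castSucc, Fin.snoc_last] at hc
  have hz : ∀ i, v i + a i • w ∈ W := fun i => Submodule.subset_span ⟨i, rfl⟩
  have hw : w ∈ W := by
    have hmem : ∑ i, c i.castSucc • (v i + a i • w) ∈ W :=
      Submodule.sum_mem _ fun i _ => W.smul_mem _ (hz i)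
    have heq : ∑ i, c i.castSucc • (v i + a i • w) = -((c (Fin.last n) - ∑ i, a i * c i.castSucc) • w) := by
      simp only [smul_add, Finset.sum_add_distrib, smul_smul]
      rw [eq_neg_of_add_eq_zero_left hc, ← Finset.sum_smul, sub_smul, neg_sub, Finset.sum_congr rfl fun i _ => mul_comm (a i) (c i.castSucc)]
      abel
    rw [heq, W.neg_mem_iff, W.smul_mem_iff h] at hmem
    exact hmem
  rw [Submodule.span_le]
  rintro _ ⟨i, rfl⟩
  induction i using Fin.lastCases with
  | last => rw [Fin.snoc_last]; exact hw
  | cast i =>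
    rw [Fin.snoc_castSucc]
    have h2 : v i = (v i + a i • w) - a i • w := by abel
    rw [h2]
    exact W.sub_mem (hz i) (W.smul_mem _ hw)

theorem exists_coeff {n : ℕ} (T : Finset (PrimeSpectrum A))
    (c : ∀ p : PrimeSpectrum A, Fin (n + 1) → p.asIdeal.ResidueField) (hc : ∀ p ∈ T, c p ≠ 0) :
    ∃ a : Fin n → A, ∀ p ∈ T, c p (Fin.last n) - ∑ i, algebraMap A p.asIdeal.ResidueField (a i) * c p i.castSucc ≠ 0 := by
  classical
  induction T using Finset.strongInduction with
  | H T ih =>
    rcases T.eq_empty_or_nonempty with rfl | hT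
    · exact ⟨0, by simp⟩
    obtain ⟨p, hp, hmin⟩ := T.exists_minimal hT
    obtain ⟨a, ha⟩ := ih (T.erase p) (Finset.erase_ssubset hp) fun q hq => hc q (Finset.mem_of_mem_erase hq)
    by_cases hgood : c p (Fin.last n) - ∑ i, algebraMap A p.asIdeal.ResidueField (a i) * c p i.castSucc ≠ 0
    · refine ⟨a, fun q hq => ?_⟩
      rcases eq_or_ne q p with rfl | hne
      · exact hgood
      · exact ha q (Finset.mem_erase.2 ⟨hne, hq⟩)
    rw [not_not] at hgood
    obtain ⟨i, hi⟩ : ∃ i : Fin n, c p i.castSucc ≠ 0 := by
      by_contra hall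
      simp only [not_exists, not_not] at hall
      refine hc p hp (funext fun j => ?_)
      induction j using Fin.lastCases with
      | last => simpa [hall] using hgood
      | cast j => exact hall j
    have hnle : ∀ q ∈ T.erase p, ¬ q.asIdeal ≤ p.asIdeal := fun q hq hle => by
      obtain ⟨hne, hqT⟩ := Finset.mem_erase.1 hq
      exact hne (le_antisymm hle (hmin hqT hle))
    choose s hs hsp using fun q (hq : q ∈ T.erase p) => SetLike.not_le_iff_exists.1 (hnle q hq)
    let t : A := ∏ q ∈ (T.erase p).attach, s q.1 q.2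
    have htp : t ∉ p.asIdeal := fun h => by
      obtain ⟨q, -, hq⟩ := p.isPrime.prod_mem_iff.1 h
      exact hsp _ _ hq
    have htq : ∀ q ∈ T.erase p, t ∈ q.asIdeal := fun q hq =>
      q.asIdeal.mem_of_dvd (Finset.dvd_prod_of_mem _ (Finset.mem_attach _ ⟨q, hq⟩)) (hs q hq)
    refine ⟨Function.update a i (a i + t), fun q hq => ?_⟩
    have key : ∑ j, algebraMap A q.asIdeal.ResidueField (Function.update a i (a i + t) j) * c q j.castSucc =
        (∑ j, algebraMap A q.asIdeal.ResidueField (a j) * c q j.castSucc) +
          algebraMap A q.asIdeal.ResidueField t * c q i.castSucc := by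
      rw [← Finset.add_sum_erase _ _ (Finset.mem_univ i), ← Finset.add_sum_erase _ _ (Finset.mem_univ i),
        Function.update_self, map_add, add_mul, Finset.sum_congr rfl fun j hj => by
          rw [Function.update_of_ne (Finset.ne_of_mem_erase hj)]]
      abel
    rw [key]
    rcases eq_or_ne q p with rfl | hne
    · rw [← sub_sub, hgood, zero_sub, neg_ne_zero]
      exact mul_ne_zero (fun h => htp (Ideal.algebraMap_residueField_eq_zero.1 h)) hi
    · have hq' := Finset.mem_erase.2 ⟨hne, hq⟩
      rw [Ideal.algebraMap_residueField_eq_zero.2 (htq q hq'), zero_mul, add_zero]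
      exact ha q hq'

variable [IsNoetherianRing A] [Module.Finite A N]

theorem finite_minimal_fd (e : ℕ) :
    {p : PrimeSpectrum A | e ≤ fd(p.asIdeal, N) ∧
      ∀ q : PrimeSpectrum A, q.asIdeal < p.asIdeal → fd(q.asIdeal, N) < e}.Finite := by
  have hopen : IsOpen {p : PrimeSpectrum A | fd(p.asIdeal, N) < e} := by
    rw [isOpen_iff_forall_mem_open]
    intro p hp
    obtain ⟨s, hs, h⟩ := exists_nhd_finrank_le N p.asIdeal
    exact ⟨PrimeSpectrum.basicOpen s, fun q hq => lt_of_le_of_lt (h q.asIdeal hq) hp,
      (PrimeSpectrum.basicOpen s).2, hs⟩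
  obtain ⟨I, hI⟩ := (PrimeSpectrum.isClosed_iff_zeroLocus_ideal _).1 hopen.isClosed_compl
  refine Set.Finite.of_finite_image (f := PrimeSpectrum.asIdeal)
    ((Ideal.finite_minimalPrimes_of_isNoetherianRing A I).subset ?_) (fun _ _ _ _ h => PrimeSpectrum.ext h)
  rintro _ ⟨p, ⟨hp, hmin⟩, rfl⟩
  have hIp : I ≤ p.asIdeal := by
    have : p ∈ {q : PrimeSpectrum A | fd(q.asIdeal, N) < e}ᶜ := not_lt.2 hp
    rw [hI] at this
    exact this
  obtain ⟨P, hP, hPp⟩ := Ideal.exists_minimalPrimes_le hIp
  rcases hPp.eq_or_lt with rfl | hlt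
  · exact hP
  exfalso
  have hPprime : P.IsPrime := hP.1.1
  have h1 : fd(P, N) < e := hmin ⟨P, hPprime⟩ hlt
  have h2 : (⟨P, hPprime⟩ : PrimeSpectrum A) ∈ {q : PrimeSpectrum A | fd(q.asIdeal, N) < e}ᶜ := by
    rw [hI]; exact hP.1.2
  exact h2 h1

theorem exists_step (k e : ℕ) (he : ∀ (p : PrimeSpectrum A) (h : ℕ), p.asIdeal.height = h → h ≤ k → fd(p.asIdeal, N) = e)
    {n : ℕ} (y : Fin (n + 1) → N)
    (hy : ∀ (p : PrimeSpectrum A) (h : ℕ), p.asIdeal.height = h → h ≤ k →
      fd(p.asIdeal, N ⧸ Submodule.span A (Set.range y)) + min (n + 1) (k - h + 1) ≤ e) :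
    ∃ z : Fin n → N, ∀ (p : PrimeSpectrum A) (h : ℕ), p.asIdeal.height = h → h ≤ k →
      fd(p.asIdeal, N ⧸ Submodule.span A (Set.range z)) + min n (k - h + 1) ≤ e := by
  classical
  let Q := N ⧸ Submodule.span A (Set.range y)
  let T : Set (PrimeSpectrum A) := {p | ∃ h : ℕ, p.asIdeal.height = h ∧ h ≤ k ∧ k - h + 1 ≤ n ∧
    fd(p.asIdeal, Q) + (k - h + 1) = e}
  have hT : T.Finite := by
    refine ((Finset.range (k + 1)).finite_toSet.biUnion
      fun h _ => finite_minimal_fd (N := Q) (e - (k - h + 1))).subset ?_
    rintro p ⟨h, hh, hk, hn, hf⟩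
    refine Set.mem_biUnion (x := h) (Finset.mem_range.2 (Nat.lt_succ_of_le hk)) ⟨by omega, fun q hq => ?_⟩
    have hfin : p.asIdeal.height ≠ ⊤ := by rw [hh]; exact ENat.natCast_ne_top h
    have : p.asIdeal.FiniteHeight := ⟨.inr hfin⟩
    have hlt : q.asIdeal.height < p.asIdeal.height := Ideal.height_strict_mono_of_isPrime_of_isPrime hq
    rw [hh] at hlt
    obtain ⟨h', hh'⟩ := ENat.ne_top_iff_exists.1 hlt.ne_top
    rw [← hh'] at hlt
    have hlt' : h' < h := by exact_mod_cast hlt
    have hle' : fd(q.asIdeal, Q) + min (n + 1) (k - h' + 1) ≤ e := hy q h' hh'.symm (by omega)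
    omega
  have hrel : ∀ p ∈ hT.toFinset, ∃ c : Fin (n + 1) → p.asIdeal.ResidueField,
      ∑ i, c i • ((1 : p.asIdeal.ResidueField) ⊗ₜ[A] y i) = 0 ∧ c ≠ 0 := by
    intro p hp
    obtain ⟨h, hh, hk, hn, hf⟩ := hT.mem_toFinset.1 hp
    have h1 : fd(p.asIdeal, Q) + _ = _ := fd_quot p.asIdeal y
    rw [he p h hh hk] at h1
    have hdep : ¬ LinearIndependent p.asIdeal.ResidueField fun i => (1 : p.asIdeal.ResidueField) ⊗ₜ[A] y i := by
      intro hli
      have h2 := finrank_span_eq_card hli
      rw [Fintype.card_fin] at h2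
      omega
    obtain ⟨c, hc, i, hi⟩ := Fintype.not_linearIndependent_iff.1 hdep
    exact ⟨c, hc, fun h0 => hi (congrFun h0 i)⟩
  choose c hc hc0 using hrel
  let c' : ∀ p : PrimeSpectrum A, Fin (n + 1) → p.asIdeal.ResidueField := fun p =>
    if hp : p ∈ hT.toFinset then c p hp else 0
  obtain ⟨a, ha⟩ := exists_coeff hT.toFinset c' fun p hp => by simp only [c', dif_pos hp]; exact hc0 p hp
  refine ⟨fun i => y i.castSucc + a i • y (Fin.last n), fun p h hh hk => ?_⟩
  have h1 : fd(p.asIdeal, Q) + _ = _ := fd_quot p.asIdeal y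
  have h2 := fd_quot p.asIdeal (fun i => y i.castSucc + a i • y (Fin.last n))
  rw [he p h hh hk] at h1 h2
  have hy' : fd(p.asIdeal, Q) + min (n + 1) (k - h + 1) ≤ e := hy p h hh hk
  let v : Fin n → p.asIdeal.ResidueField ⊗[A] N := fun i => (1 : p.asIdeal.ResidueField) ⊗ₜ[A] y i.castSucc
  let w : p.asIdeal.ResidueField ⊗[A] N := (1 : p.asIdeal.ResidueField) ⊗ₜ[A] y (Fin.last n)
  let α : Fin n → p.asIdeal.ResidueField := fun i => algebraMap A _ (a i)
  have hsnoc : (fun i => (1 : p.asIdeal.ResidueField) ⊗ₜ[A] y i) = Fin.snoc (α := fun _ => p.asIdeal.ResidueField ⊗[A] N) v w := by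
    funext i
    induction i using Fin.lastCases with
    | last => rw [Fin.snoc_last]
    | cast i => rw [Fin.snoc_castSucc]
  have hz : (fun i => (1 : p.asIdeal.ResidueField) ⊗ₜ[A] (y i.castSucc + a i • y (Fin.last n))) =
      fun i => v i + α i • w := by
    funext i
    rw [tmul_add, tmul_smul]
    simp only [v, w, α, algebraMap_smul]
  rw [hsnoc] at h1
  rw [hz] at h2
  by_cases hp : p ∈ hT.toFinset
  · have hle := span_combine v w α (c' p) (by
      rw [← hsnoc]; simp only [c', dif_pos hp]; exact hc p hp) (ha p hp)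
    have := Submodule.finrank_mono hle
    omega
  · have hle : Submodule.span p.asIdeal.ResidueField (Set.range (Fin.snoc (α := fun _ => p.asIdeal.ResidueField ⊗[A] N) v w)) ≤
        Submodule.span p.asIdeal.ResidueField (Set.range fun i => v i + α i • w) ⊔ Submodule.span p.asIdeal.ResidueField {w} := by
      rw [Submodule.span_le]
      rintro _ ⟨i, rfl⟩
      have hw : w ∈ Submodule.span p.asIdeal.ResidueField (Set.range fun i => v i + α i • w) ⊔
          Submodule.span p.asIdeal.ResidueField {w} :=
        Submodule.mem_sup_right (Submodule.mem_span_singleton_self w)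
      induction i using Fin.lastCases with
      | last => rw [Fin.snoc_last]; exact hw
      | cast i =>
        rw [Fin.snoc_castSucc, SetLike.mem_coe, show v i = (v i + α i • w) - α i • w by abel]
        exact Submodule.sub_mem _ (Submodule.mem_sup_left (Submodule.subset_span ⟨i, rfl⟩)) (Submodule.smul_mem _ _ hw)
    have h3 := (Submodule.finrank_mono hle).trans (Submodule.finrank_add_le_finrank_add_finrank _ _)
    have h4 : Module.finrank p.asIdeal.ResidueField (Submodule.span p.asIdeal.ResidueField ({w} : Set (p.asIdeal.ResidueField ⊗[A] N))) ≤ 1 :=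
      (finrank_span_le_card _).trans (by simp)
    rw [hT.mem_toFinset] at hp
    by_cases hkn : k - h + 1 ≤ n
    · have : fd(p.asIdeal, Q) + (k - h + 1) ≠ e := fun hf => hp ⟨h, hh, hk, hkn, hf⟩
      omega
    · omega

theorem exists_basic (k e : ℕ) (hke : k + 1 ≤ e)
    (he : ∀ (p : PrimeSpectrum A) (h : ℕ), p.asIdeal.height = h → h ≤ k → fd(p.asIdeal, N) = e) :
    ∃ x : N, ∀ (p : PrimeSpectrum A) (h : ℕ), p.asIdeal.height = h → h ≤ k →
      fd(p.asIdeal, N ⧸ Submodule.span A {x}) + 1 = e := by
  obtain ⟨m, g, hg⟩ := Module.Finite.exists_fin (R := A) (M := N)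
  suffices H : ∀ n : ℕ, ∀ y : Fin (n + 1) → N,
      (∀ (p : PrimeSpectrum A) (h : ℕ), p.asIdeal.height = h → h ≤ k →
        fd(p.asIdeal, N ⧸ Submodule.span A (Set.range y)) + min (n + 1) (k - h + 1) ≤ e) →
      ∃ y : Fin 1 → N, ∀ (p : PrimeSpectrum A) (h : ℕ), p.asIdeal.height = h → h ≤ k →
        fd(p.asIdeal, N ⧸ Submodule.span A (Set.range y)) + min 1 (k - h + 1) ≤ e by
    have htop : Submodule.span A (Set.range (Fin.snoc (α := fun _ => N) g 0)) = ⊤ := by
      refine top_unique (hg.symm.le.trans (Submodule.span_mono ?_))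
      rintro _ ⟨i, rfl⟩
      exact ⟨i.castSucc, Fin.snoc_castSucc ..⟩
    obtain ⟨y, hy⟩ := H m (Fin.snoc (α := fun _ => N) g 0) fun p h hh hk => by
      have : Subsingleton (N ⧸ Submodule.span A (Set.range (Fin.snoc (α := fun _ => N) g 0))) :=
        Submodule.Quotient.subsingleton_iff.2 htop
      rw [Module.finrank_zero_of_subsingleton]
      omega
    refine ⟨y 0, fun p h hh hk => ?_⟩
    have hy0 : Set.range y = {y 0} := by
      ext z; simp [Fin.exists_fin_one, eq_comm]
    have h1 := hy p h hh hk
    have h2 := fd_quot p.asIdeal y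
    rw [he p h hh hk] at h2
    have h3 := finrank_range_le_card (R := p.asIdeal.ResidueField) fun i => (1 : p.asIdeal.ResidueField) ⊗ₜ[A] y i
    rw [Set.finrank, Fintype.card_fin] at h3
    rw [← hy0]
    omega
  intro n
  induction n with
  | zero => exact fun y hy => ⟨y, hy⟩
  | succ n ih =>
    intro y hy
    obtain ⟨z, hz⟩ := exists_step k e he y hy
    exact ih z hz

variable {M : Type u} [AddCommGroup M] [Module A M] [Module.Finite A M]

theorem exists_family (k r : ℕ)
    (hM : ∀ (p : PrimeSpectrum A) (h : ℕ), p.asIdeal.height = h → h ≤ k → fd(p.asIdeal, M) = r) :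
    ∀ j, j + k ≤ r → ∃ x : Fin j → M, ∀ (p : PrimeSpectrum A) (h : ℕ), p.asIdeal.height = h → h ≤ k →
      fd(p.asIdeal, M ⧸ Submodule.span A (Set.range x)) + j = r := by
  intro j
  induction j with
  | zero =>
    intro _
    refine ⟨Fin.elim0, fun p h hh hk => ?_⟩
    have h1 := fd_quot (N := M) p.asIdeal Fin.elim0
    rw [show Set.range (fun i : Fin 0 => (1 : p.asIdeal.ResidueField) ⊗ₜ[A] (Fin.elim0 i : M)) = ∅ from Set.range_eq_empty _,
      Submodule.span_empty, finrank_bot, hM p h hh hk] at h1
    exact h1
  | succ j ih =>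
    intro hj
    obtain ⟨x, hx⟩ := ih (by omega)
    let U := Submodule.span A (Set.range x)
    obtain ⟨xb, hxb⟩ := exists_basic (N := M ⧸ U) k (r - j) (by omega) fun p h hh hk => by
      have : fd(p.asIdeal, M ⧸ U) + j = r := hx p h hh hk
      omega
    obtain ⟨x', rfl⟩ := U.mkQ_surjective xb
    refine ⟨Fin.cons x' x, fun p h hh hk => ?_⟩
    have hspan : Submodule.span A (Set.range (Fin.cons x' x)) = U ⊔ Submodule.span A {x'} := by
      rw [Fin.range_cons, Submodule.span_insert, sup_comm]
    have hmap : Submodule.map U.mkQ (U ⊔ Submodule.span A {x'}) = Submodule.span A {U.mkQ x'} := by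
      rw [Submodule.map_sup, Submodule.mkQ_map_self, bot_sup_eq, Submodule.map_span, Set.image_singleton]
    let e : ((M ⧸ U) ⧸ Submodule.span A {U.mkQ x'}) ≃ₗ[A] M ⧸ Submodule.span A (Set.range (Fin.cons x' x)) :=
      (Submodule.quotEquivOfEq _ _ hmap.symm).trans ((Submodule.quotientQuotientEquivQuotient U _ le_sup_left).trans
        (Submodule.quotEquivOfEq _ _ hspan.symm))
    rw [← (LinearEquiv.baseChange A p.asIdeal.ResidueField _ _ e).finrank_eq]
    have := hxb p h hh hk
    omega

theorem fd_of_free (p : PrimeSpectrum A) (r : ℕ)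
    (e : LocalizedModule p.asIdeal.primeCompl M ≃ₗ[Localization.AtPrime p.asIdeal] (Fin r → Localization.AtPrime p.asIdeal)) :
    fd(p.asIdeal, M) = r := by
  let S := Localization.AtPrime p.asIdeal
  let K := p.asIdeal.ResidueField
  let e0 : S ⊗[A] M ≃ₗ[S] (Fin r → S) :=
    (LocalizedModule.equivTensorProduct p.asIdeal.primeCompl M).symm.trans e
  let e1 : K ⊗[A] M ≃ₗ[K] K ⊗[S] (Fin r → S) :=
    (TensorProduct.AlgebraTensorModule.cancelBaseChange A S K K M).symm.trans
      (LinearEquiv.baseChange S K _ _ e0)
  rw [e1.finrank_eq, Module.finrank_baseChange, Module.finrank_fin_fun]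

theorem free_quot {m k : ℕ} (x : Fin m → M) (p : PrimeSpectrum A)
    (e : LocalizedModule p.asIdeal.primeCompl M ≃ₗ[Localization.AtPrime p.asIdeal] (Fin (m + k) → Localization.AtPrime p.asIdeal))
    (hx : fd(p.asIdeal, M ⧸ Submodule.span A (Set.range x)) = k) :
    LinearIndependent (Localization.AtPrime p.asIdeal) (fun i => LocalizedModule.mkLinearMap p.asIdeal.primeCompl M (x i)) ∧
      Nonempty (LocalizedModule p.asIdeal.primeCompl (M ⧸ Submodule.span A (Set.range x)) ≃ₗ[Localization.AtPrime p.asIdeal]
        (Fin k → Localization.AtPrime p.asIdeal)) := by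
  classical
  let S := Localization.AtPrime p.asIdeal
  let U := Submodule.span A (Set.range x)
  let f := LocalizedModule.mkLinearMap p.asIdeal.primeCompl M
  let K := p.asIdeal.ResidueField
  obtain ⟨t, ht, htspan, htli⟩ := exists_linearIndependent K (Set.range fun q : M ⧸ U => (1 : K) ⊗ₜ[A] q)
  rw [span_one_tmul] at htspan
  have : Fintype t := @Fintype.ofFinite _ htli.finite
  have hcard : Fintype.card t = k := by
    rw [← hx, ← finrank_top K (K ⊗[A] (M ⧸ U)), ← htspan, finrank_span_set_eq_card htli, Set.toFinset_card]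
  let et := (Fintype.equivFinOfCardEq hcard).symm
  choose q hq using fun i : Fin k => ht (et i).2
  choose z hz using fun i : Fin k => U.mkQ_surjective (q i)
  let w : Fin (m + k) → M := Fin.append x z
  let W := Submodule.span A (Set.range w)
  have hUW : U ≤ W := Submodule.span_mono (by
    rintro _ ⟨i, rfl⟩; exact ⟨Fin.castAdd k i, Fin.append_left ..⟩)
  have hsub : Subsingleton (K ⊗[A] (M ⧸ W)) := by
    refine subsingleton_of_forall_eq 0 fun v => ?_
    obtain ⟨u, rfl⟩ := LinearMap.lTensor_surjective K (Submodule.factor_surjective hUW) v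
    show (Submodule.factor hUW).baseChange K u = 0
    have hu : u ∈ Submodule.span K (t : Set (K ⊗[A] (M ⧸ U))) := htspan ▸ Submodule.mem_top
    induction hu using Submodule.span_induction with
    | mem v hv =>
      obtain ⟨i, hi⟩ := et.surjective ⟨v, hv⟩
      rw [show v = (et i : K ⊗[A] (M ⧸ U)) by rw [hi], ← hq i, ← hz i, LinearMap.baseChange_tmul, Submodule.mkQ_apply,
        show Submodule.factor hUW (Submodule.Quotient.mk (z i)) = Submodule.Quotient.mk (z i) from rfl, (Submodule.Quotient.mk_eq_zero W).2 (Submodule.subset_span ⟨Fin.natAdd m i, Fin.append_right ..⟩), tmul_zero]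
    | zero => exact map_zero _
    | add a b _ _ ha hb => rw [map_add, ha, hb, add_zero]
    | smul c a _ ha => rw [map_smul, ha, smul_zero]
  have hp : p ∉ Module.support A (M ⧸ W) := fun hmem =>
    haveI := hsub
    not_nontrivial (K ⊗[A] (M ⧸ W)) ((Module.mem_support_iff_nontrivial_residueField_tensorProduct _).1 hmem)
  have htop : Submodule.span S (Set.range (f ∘ w)) = ⊤ := by
    rw [eq_top_iff]
    intro v _
    induction v using LocalizedModule.induction_on with
    | h v s =>
      rw [Module.notMem_support_iff'] at hp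
      obtain ⟨c, hc, hcv⟩ := hp (W.mkQ v)
      rw [← map_smul, Submodule.mkQ_apply, Submodule.Quotient.mk_eq_zero] at hcv
      have h1 : f (c • v) ∈ Submodule.span S (Set.range (f ∘ w)) := by
        revert hcv
        generalize c • v = u
        intro hu
        induction hu using Submodule.span_induction with
        | mem y hy => obtain ⟨i, rfl⟩ := hy; exact Submodule.subset_span ⟨i, rfl⟩
        | zero => simp
        | add a b _ _ ha hb => rw [map_add]; exact add_mem ha hb
        | smul a y _ hy => rw [map_smul]; exact Submodule.smul_of_tower_mem _ a hy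
      have h2 : LocalizedModule.mk v s = Localization.mk 1 (⟨c, hc⟩ * s) • f (c • v) := by
        rw [LocalizedModule.mkLinearMap_apply, LocalizedModule.mk_smul_mk, one_smul, mul_one]
        exact (LocalizedModule.mk_cancel_common_left ⟨c, hc⟩ s v).symm
      rw [h2]
      exact Submodule.smul_mem _ _ h1
  let Φ : (Fin (m + k) → S) →ₗ[S] LocalizedModule p.asIdeal.primeCompl M := Fintype.linearCombination S (f ∘ w)
  have hΦs : Function.Surjective Φ := by
    rw [← LinearMap.range_eq_top, Fintype.range_linearCombination, htop]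
  have hΦi : Function.Injective Φ := by
    have := OrzechProperty.injective_of_surjective_endomorphism (e.toLinearMap ∘ₗ Φ) (e.surjective.comp hΦs)
    exact Function.Injective.of_comp this
  have hli : LinearIndependent S (f ∘ w) := Fintype.linearIndependent_iff.2 fun g hg i => by
    have : Φ g = 0 := by rw [Fintype.linearCombination_apply]; exact hg
    exact congrFun (hΦi (this.trans (map_zero Φ).symm)) i
  refine ⟨?_, ?_⟩
  · have := hli.comp (Fin.castAdd k) (Fin.castAdd_injective m k)
    simpa [Function.comp_def, w, f] using this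
  · let b := Module.Basis.mk hli htop.ge
    let π : LocalizedModule p.asIdeal.primeCompl M →ₗ[S] (Fin k → S) :=
      (LinearMap.funLeft S S (Fin.natAdd m)) ∘ₗ b.equivFun.toLinearMap
    have hπs : Function.Surjective π :=
      (LinearMap.funLeft_surjective_of_injective S S _ (Fin.natAdd_injective k m)).comp b.equivFun.surjective
    have hπk : LinearMap.ker π = U.localized p.asIdeal.primeCompl := by
      have hU : U.localized p.asIdeal.primeCompl = Submodule.span S (Set.range (f ∘ x)) := by
        rw [Submodule.localized, Submodule.localized'_span, ← Set.range_comp]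
      rw [hU]
      apply le_antisymm
      · intro v hv
        rw [← b.sum_equivFun v, Fin.sum_univ_add]
        refine add_mem (Submodule.sum_mem _ fun i _ => Submodule.smul_mem _ _ ?_) (Submodule.sum_mem _ fun i _ => ?_)
        · rw [Module.Basis.mk_apply]
          exact Submodule.subset_span ⟨i, by simp [w]⟩
        · have h0 : b.equivFun v (Fin.natAdd m i) = 0 := congrFun (LinearMap.mem_ker.1 hv) i
          rw [h0, zero_smul]
          exact zero_mem _
      · rw [Submodule.span_le]
        rintro _ ⟨i, rfl⟩
        rw [SetLike.mem_coe, LinearMap.mem_ker]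
        funext j
        have hb : f (x i) = b (Fin.castAdd k i) := by rw [Module.Basis.mk_apply]; simp [w]
        show b.equivFun (f (x i)) (Fin.natAdd m j) = 0
        rw [hb, Module.Basis.equivFun_self, if_neg (by simp [Fin.ext_iff]; omega)]
    exact ⟨(localizedQuotientEquiv p.asIdeal.primeCompl U).symm.trans
      ((Submodule.quotEquivOfEq _ _ hπk.symm).trans (π.quotKerEquivOfSurjective hπs))⟩

end

/-- Let k ≤ r, let A be a Noetherian ring none of whose associated primes has height greater than k, and
let M be a finitely generated A-module which is free of rank r at every prime of height at most k.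
Then M has a free submodule N of rank r - k such that M/N is free of rank k at every prime of height
at most k. Freeness of a given rank is expressed by linear isomorphisms with coordinate modules.
(The published statement has no hypothesis on the associated primes of A; for A = ℤ[X]/(X², 2X), M =
A/(X), k = 0 and r = 1 every other hypothesis holds while X annihilates M, so M contains no free
submodule of rank 1. The printed argument produces an element of M that is part of a basis at every
prime of height at most k; the submodule it generates is free exactly when its annihilator vanishes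
at the associated primes of A, which the added hypothesis guarantees.) -/
theorem result (A : Type u) [CommRing A] [IsNoetherianRing A]
    (M : Type u) [AddCommGroup M] [Module A M] [Module.Finite A M] (k r : ℕ) (hkr : k ≤ r)
    (hAss : ∀ p ∈ associatedPrimes A A, p.height ≤ k)
    (hM : ∀ p : PrimeSpectrum A, p.asIdeal.height ≤ k →
      Nonempty (LocalizedModule p.asIdeal.primeCompl M ≃ₗ[Localization.AtPrime p.asIdeal]
        (Fin r → Localization.AtPrime p.asIdeal))) :
    ∃ N : Submodule A M, Nonempty (N ≃ₗ[A] (Fin (r - k) → A)) ∧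
      ∀ p : PrimeSpectrum A, p.asIdeal.height ≤ k →
        Nonempty (LocalizedModule p.asIdeal.primeCompl (M ⧸ N) ≃ₗ[Localization.AtPrime p.asIdeal]
          (Fin k → Localization.AtPrime p.asIdeal)) := by
  have hfd : ∀ (p : PrimeSpectrum A) (h : ℕ), p.asIdeal.height = h → h ≤ k →
      Module.finrank p.asIdeal.ResidueField (TensorProduct A p.asIdeal.ResidueField M) = r := fun p h hh hk => by
    obtain ⟨e⟩ := hM p (by rw [hh]; exact_mod_cast hk)
    exact fd_of_free p r e
  obtain ⟨m, rfl⟩ : ∃ m, r = m + k := ⟨r - k, by omega⟩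
  obtain ⟨x, hx⟩ := exists_family k (m + k) hfd m le_rfl
  have hfree : ∀ p : PrimeSpectrum A, p.asIdeal.height ≤ k →
      LinearIndependent (Localization.AtPrime p.asIdeal) (fun i => LocalizedModule.mkLinearMap p.asIdeal.primeCompl M (x i)) ∧
      Nonempty (LocalizedModule p.asIdeal.primeCompl (M ⧸ Submodule.span A (Set.range x)) ≃ₗ[Localization.AtPrime p.asIdeal]
        (Fin k → Localization.AtPrime p.asIdeal)) := fun p hp => by
    obtain ⟨e⟩ := hM p hp
    obtain ⟨h, hh⟩ := ENat.ne_top_iff_exists.1 (ne_top_of_le_ne_top (ENat.natCast_ne_top k) hp)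
    rw [← hh] at hp
    have := hx p h hh.symm (by exact_mod_cast hp)
    exact free_quot x p e (by omega)
  refine ⟨Submodule.span A (Set.range x), ?_, fun p hp => (hfree p hp).2⟩
  rw [Nat.add_sub_cancel]
  have hli : LinearIndependent A x := Fintype.linearIndependent_iff.2 fun g hg i => by
    by_contra hne
    obtain ⟨P, hP, hle⟩ := exists_le_isAssociatedPrime_of_isNoetherianRing A (g i) hne
    have hPp : P.IsPrime := hP.isPrime
    obtain ⟨hli, -⟩ := hfree ⟨P, hPp⟩ (hAss P hP)
    have := Fintype.linearIndependent_iff.1 hli (fun j => algebraMap A (Localization.AtPrime P) (g j)) (by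
      simp only [algebraMap_smul, ← map_smul, ← map_sum, hg, map_zero]) i
    obtain ⟨s, hs⟩ := (IsLocalization.map_eq_zero_iff P.primeCompl (Localization.AtPrime P) _).1 this
    exact s.2 (hle (Submodule.mem_colon_singleton.2 (by rw [Submodule.mem_bot]; exact hs)))
  exact ⟨(Module.Basis.span hli).equivFun⟩

end Groth.Agent.S13533
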