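import Groth.Statements.S13535
import Groth.Agent.ResPropLib.AffineProjection
import Groth.Agent.ResPropLib.StalkTools
import Groth.Agent.ResPropLib.TopDegree
import Groth.Agent.Cycles.SheafCyc
import Groth.Agent.CohBase.AffinePush
import Groth.Agent.RefRank.Divisor
import Groth.Agent.FlatStrata.Twist

set_option autoImplicit false
universe u
open CategoryTheory CategoryTheory.Limits AlgebraicGeometry
open ResProp Groth.ResPropLib

namespace Groth.Agent.S13535

/-- Let X and Y be proper over a Noetherian ring A and let f : Y ⟶ X be a finite A-morphism. If a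
sequence (E_n) of coherent modules on X is cohomologically d-ample (d a positive integer), meaning
that for every coherent F the groups H^i(X, F ⊗ E_n) vanish for all i ≥ d + 1 and all large n, then
so is the sequence of pullbacks (f^*E_n) on Y. -/
theorem result (A : Type u) [CommRing A] [IsNoetherianRing A]
    {X Y : Scheme.{u}} (pX : X ⟶ Spec (CommRingCat.of A)) (pY : Y ⟶ Spec (CommRingCat.of A))
    [IsProper pX] [IsProper pY] (f : Y ⟶ X) (hf : f ≫ pX = pY) [IsFinite f]
    (d : ℕ) (hd : 0 < d) (E : ℕ → X.Modules) (hE : ∀ n, Coh.IsCoh (E n))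
    (hamp : ∀ F : X.Modules, Coh.IsCoh F → ∃ n₀ : ℕ, ∀ n : ℕ, n₀ ≤ n → ∀ i : ℕ, d + 1 ≤ i →
        Subsingleton (Coh.HH X (CohB1.tensorMod F (E n)) i)) :
    ∀ F : Y.Modules, Coh.IsCoh F → ∃ n₀ : ℕ, ∀ n : ℕ, n₀ ≤ n → ∀ i : ℕ, d + 1 ≤ i →
        Subsingleton (Coh.HH Y (CohB1.tensorMod F ((Scheme.Modules.pullback f).obj (E n))) i) := by
  haveI : IsLocallyNoetherian X := LocallyOfFiniteType.isLocallyNoetherian pX
  haveI : IsLocallyNoetherian Y := LocallyOfFiniteType.isLocallyNoetherian pY
  intro F hF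
  haveI := hF.1
  obtain ⟨n₀, h⟩ := hamp _ (Groth.Cycles.isCoh_push_of_isFinite f hF)
  refine ⟨n₀, fun n hn i hi => ?_⟩
  haveI := (hE n).1
  have hc : Coh.IsCoh (CohB1.tensorMod F ((Scheme.Modules.pullback f).obj (E n))) :=
    Groth.RefRank.isCoh_tensorMod hF (Groth.FlatStrata.isCoh_pullback f (hE n))
  haveI := hc.1
  haveI := Groth.ResPropLib.isIso_pfApp_of_isAffineHom f (E n) F
  have h1 := Groth.ResPropLib.sub_of_iso (tComm _ _) (h n hn i hi)
  have h2 := Groth.ResPropLib.sub_of_iso
    (asIso (Groth.ProjFormula.pfApp f (E n) F) ≪≫ (Scheme.Modules.pushforward f).mapIso (tComm _ _)) h1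
  obtain ⟨e⟩ := Groth.CohBase.nonempty_equiv_H_push f (CohB1.tensorMod F ((Scheme.Modules.pullback f).obj (E n))) i
  exact @Equiv.subsingleton _ _ e.symm.toEquiv h2

end Groth.Agent.S13535
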