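import Groth.Statements.S13540
import Groth.Agent.ResPropLib.Birational

set_option autoImplicit false
universe u
open CategoryTheory CategoryTheory.Limits AlgebraicGeometry
open ResProp Groth.ResPropLib

namespace Groth.Agent.S13540

/-- Let f : Y ⟶ X be a proper birational morphism (an isomorphism over a dense open with dense preimage)
of d-dimensional schemes proper over a Noetherian ring A, with Y carrying an ample invertible module
L. If a coherent module F on X pulls back to a module isomorphic to L over the preimage of an open V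
of X containing all points of codimension at most 1, then F is cohomologically (d-1)-ample: for
every coherent G on X the groups H^i(X, G ⊗ F^n) (tensor powers) vanish for all i ≥ d and all large
n. Here d ≥ 1: for d = 0 the vanishing would include degree 0 and fails when X = Y is the spectrum
of a field and F = L is the structure sheaf; (d-1)-ampleness presupposes d ≥ 1. -/
theorem result (A : Type u) [CommRing A] [IsNoetherianRing A]
    {X Y : Scheme.{u}} (pX : X ⟶ Spec (CommRingCat.of A)) (pY : Y ⟶ Spec (CommRingCat.of A))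
    [IsProper pX] [IsProper pY] (f : Y ⟶ X) (hf : f ≫ pX = pY) [IsProper f]
    (U : X.Opens) (hU : Dense (U : Set X)) (hU' : Dense ((f ⁻¹ᵁ U : Y.Opens) : Set Y)) (hiso : IsIso (f ∣_ U))
    (d : ℕ) (hd : 1 ≤ d) (hX : topologicalKrullDim X = d) (hY : topologicalKrullDim Y = d)
    (L : Y.Modules) (hL : CohB1.IsAmple L)
    (V : X.Opens) (hV : ∀ y : X, ringKrullDim (X.presheaf.stalk y) ≤ 1 → y ∈ V)
    (F : X.Modules) (hF : Coh.IsCoh F)
    (hFL : Nonempty (((Scheme.Modules.pullback f).obj F).restrict (f ⁻¹ᵁ V).ι ≅ L.restrict (f ⁻¹ᵁ V).ι)) :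
    ∀ G : X.Modules, Coh.IsCoh G → ∃ n₀ : ℕ, ∀ n : ℕ, n₀ ≤ n → ∀ i : ℕ, d ≤ i →
      Subsingleton (Coh.HH X (CohB1.tensorMod G (CohB1.tensorPow F n)) i) := by
  haveI : IsLocallyNoetherian X := LocallyOfFiniteType.isLocallyNoetherian pX
  haveI : IsLocallyNoetherian Y := LocallyOfFiniteType.isLocallyNoetherian pY
  haveI : CompactSpace X := QuasiCompact.compactSpace_of_compactSpace pX
  haveI : CompactSpace Y := QuasiCompact.compactSpace_of_compactSpace pY
  haveI : IsNoetherian X := {}
  haveI : IsNoetherian Y := {}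
  haveI : X.IsSeparated := ⟨by
    rw [show terminal.from X = pX ≫ terminal.from _ from (terminal.comp_from _).symm]
    infer_instance⟩
  letI : X.Over (Spec (CommRingCat.of A)) := ⟨pX⟩
  letI : Y.Over (Spec (CommRingCat.of A)) := ⟨pY⟩
  have hfin : ∀ y ∈ U, Finite ↥(f.fiber y) := fun y hy => finite_fiber_of_isIso f U hiso y hy
  obtain ⟨Vf, hUVf, hVfc, hVfin⟩ := exists_thick_finite f U hU' hfin
  haveI := hVfin
  let O : X.Opens := V ⊓ Vf
  have hOc : (O : Set X)ᶜ ⊆ codimSet X 2 := fun x hx => by
    by_contra hxc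
    have hxVf : x ∈ Vf := by
      by_contra h
      exact hxc (hVfc h)
    rw [notMem_codimSet] at hxc
    exact hx ⟨hV x (by rw [ringKrullDim_stalk_eq_coheight]; exact WithBot.coe_le_coe.2 hxc), hxVf⟩
  have hO : ∀ x ∉ codimSet X 2, x ∈ O := fun x hx => by
    by_contra h
    exact hx (hOc h)
  intro G hG
  haveI := hG.1
  haveI := hF.1
  let G₀ := (Scheme.Modules.pushforward f).obj (Coh.structureModule Y)
  have hG₀ : Coh.IsCoh G₀ :=
    Groth.CohC3.isCoh_pushforward (A := A) (f := f) hf (Groth.QCohMod.isCoh_unit (X := Y))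
  let H := RefHull.homSh G₀ G
  have hH : Coh.IsCoh H := Groth.RefRank.isCoh_homSh hG₀ hG
  haveI := hH.1
  let M := CohB1.tensorMod ((Scheme.Modules.pullback f).obj H) (Coh.structureModule Y)
  have hM : Coh.IsCoh M := Groth.RefRank.isCoh_tensorMod
    (Groth.FlatStrata.isCoh_pullback f hH) (Groth.QCohMod.isCoh_unit (X := Y))
  haveI := hM.1
  obtain ⟨n₁, hn₁⟩ := Groth.PnCoh.exists_subsingleton_of_isAmple pY hL M hM
  obtain ⟨n₂, hn₂⟩ := exists_isZero_Rpush_twist f hL M hM
  refine ⟨max n₁ n₂, fun n hn i hi => ?_⟩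
  rcases eq_or_lt_of_le hi with rfl | hi
  swap
  · exact small_of_dim hX.le hi _ (Set.subset_univ _)
  let E := CohB1.tensorPow F n
  haveI : E.IsQuasicoherent := (isCoh_pow hF n).1
  -- the twist vanishes upstairs, hence downstairs
  have hY : Subsingleton (Coh.HH Y (CohB1.tensorMod M (CohB1.tensorPow L n)) d) :=
    hn₁ n (le_trans (le_max_left _ _) hn) d hd
  have hN : Subsingleton (Coh.HH X ((Scheme.Modules.pushforward f).obj
      (CohB1.tensorMod (CohB1.tensorPow L n) M)) d) :=
    sub_of_iso ((Scheme.Modules.pushforward f).mapIso (tComm _ _))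
      (subsingleton_push f d _ (hn₂ n (le_trans (le_max_right _ _) hn)) hY)
  -- compare with the pullback of the powers of `F` over the thick open
  let k := (f ⁻¹ᵁ O).ι
  have hFL' : Nonempty ((Scheme.Modules.pullback k).obj ((Scheme.Modules.pullback f).obj F) ≅
      (Scheme.Modules.pullback k).obj L) :=
    nonempty_pullback_of_restrict (f.preimage_mono inf_le_left) hFL
  obtain ⟨e⟩ := nonempty_twist_restrict f F L M n hFL'
  have h1 := subsingleton_push_of_iso_over (d := d) hX.le f O hOc e hN
  -- the projection formula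
  let θ := Groth.ProjFormula.pfApp f E M
  have hθ : ∀ x ∈ O, Function.Bijective ((Groth.QCohMod.stalk x).map θ) := fun x hx =>
    pfApp_stalk_bijective f E M Vf x hx.2
  have h2 := sub_source θ (small_codimSet (k := 2) (p := d) hX.le (by omega))
    (fun q hq => small_codimSet (k := 2) (p := q) hX.le (by omega))
    (support_ker_subset _ fun x hx => (hθ x (hO x hx)).1)
    (support_coker_subset _ fun x hx => (hθ x (hO x hx)).2) h1
  let θ₀ := Groth.ProjFormula.pfApp f H (Coh.structureModule Y)
  have hθ₀ : ∀ x ∈ O, Function.Bijective ((Groth.QCohMod.stalk x).map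
      ((Groth.CohTwo.SheafHomIso.tF E).map θ₀)) := fun x hx =>
    tF_map_stalk_bijective E θ₀ x (pfApp_stalk_bijective f H _ Vf x hx.2)
  have h3 := sub_source ((Groth.CohTwo.SheafHomIso.tF E).map θ₀)
    (small_codimSet (k := 2) (p := d) hX.le (by omega))
    (fun q hq => small_codimSet (k := 2) (p := q) hX.le (by omega))
    (support_ker_subset _ fun x hx => (hθ₀ x (hO x hx)).1)
    (support_coker_subset _ fun x hx => (hθ₀ x (hO x hx)).2) h2
  have h4 := sub_of_iso ((Groth.CohTwo.SheafHomIso.tF E).mapIso (tComm H G₀)) h3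
  -- evaluation reaches `G` generically
  let ev := (Groth.CohTwo.SheafHomIso.tF E).map (Groth.CohTwo.SheafHomIso.evalHom G₀ G)
  have hev : ∀ x ∉ codimSet X 1, Function.Surjective ((Groth.QCohMod.stalk x).map ev) := fun x hx =>
    tF_map_stalk_surjective E _ x (evalHom_pushUnit_surjective f hG₀ U hiso G x (by
      by_contra h
      exact hx (compl_subset_codimSet_one hU h)))
  exact sub_of_iso (tComm _ _) (sub_target ev (small_codimSet (k := 1) (p := d) hX.le (by omega))
    (support_coker_subset _ hev) (small_of_dim hX.le (by omega)) h4)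

end Groth.Agent.S13540
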