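import Groth.Statements.S13549
import Groth.Agent.DualCore.TrivBCMap

set_option autoImplicit false
universe u
open CategoryTheory
attribute [local instance] HasDerivedCategory.standard
open Dual2

namespace Groth.Agent.S13549

/-- Let R → A and R → R' be ring maps and A' = A ⊗_R R', with A perfect as an R-module and A, R' tor
independent over R (Tor_p^R(A, R') = 0 for p ≥ 1). The derived base-change functors − ⊗^L_R R' and −
⊗^L_A A' (left adjoint to restriction) and the trivial-duality functors R Hom(A, −) : D(R) ⥤ D(A), R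
Hom(A', −) : D(R') ⥤ D(A') (right adjoint to restriction) are given as adjunction data. Then for
every K in D(R), and every proof that the comparison map (K|_R) ⊗^L_R R' → (K ⊗^L_A A')|_{R'} at R
Hom(A, K) is an isomorphism, the base-change map of trivial duality R Hom(A, K) ⊗^L_A A' → R Hom(A',
K ⊗^L_R R') is an isomorphism. -/
theorem result (R A R' A' : Type u) [CommRing R] [CommRing A] [CommRing R'] [CommRing A']
    [Algebra R A] [Algebra R R'] [Algebra A A'] [Algebra R' A'] [Algebra R A'] [IsScalarTower R A A'] [IsScalarTower R R' A']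
    [Algebra.IsPushout R A R' A']
    (hperf : DRing.IsPerfectModule R A)
    (htor : ∀ p : ℕ, 1 ≤ p → Subsingleton (DRing.Tor R p A R'))
    [DRing.HasLBaseChange (algebraMap R R')] [DRing.HasLBaseChange (algebraMap A A')]
    (adjρ : DRing.LBaseChange (algebraMap R R') ⊣ DRing.restrictD (algebraMap R R'))
    (adjα : DRing.LBaseChange (algebraMap A A') ⊣ DRing.restrictD (algebraMap A A'))
    (h : (algebraMap A A').comp (algebraMap R A) = (algebraMap R' A').comp (algebraMap R R'))
    (Rφ : Dual.D R ⥤ Dual.D A) (adj : DRing.restrictD (algebraMap R A) ⊣ Rφ)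
    (Rφ' : Dual.D R' ⥤ Dual.D A') (adj' : DRing.restrictD (algebraMap R' A') ⊣ Rφ')
    (K : Dual.D R) (hc : IsIso (TrivBC.cmp adjρ adjα h (Rφ.obj K))) :
    IsIso (TrivBC.bcMap adjρ adjα h adj adj' K hc) := by
  haveI := Groth.DTenCalc.hasLBase (algebraMap R A)
  haveI := Groth.DTenCalc.hasLBase (algebraMap R R')
  haveI := Groth.DTenCalc.hasLTen (A := R)
  haveI := Groth.DTenCalc.hasLTen (A := A)
  haveI := Groth.DTenCalc.hasLTen (A := R')
  haveI := Groth.DTenCalc.hasLTen₃ (A := R)
  haveI := Groth.DTenCalc.isSymMonoidal (A := R)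
  haveI := Groth.DTenCalc.hasResTen (algebraMap R A)
  haveI := Groth.DTenCalc.hasResTen (algebraMap R R')
  haveI := Groth.DTenCalc.resLegIso (algebraMap R A)
  haveI := Groth.DTenCalc.resLegIso (algebraMap R R')
  have hN : DRing.IsPerfect R (Groth.DTenCalc.algD (algebraMap R A)) := by
    obtain ⟨e⟩ := Groth.DTenCalc.nonempty_algD_iso (R := R) (S := A)
    obtain ⟨E, a, b, h1, h2, ⟨e'⟩⟩ := hperf
    exact ⟨E, a, b, h1, h2, ⟨e' ≪≫ e.symm⟩⟩
  exact (Groth.DualCore.TrivBC.isIso_bcMap_iff adjρ adjα h adj adj'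
    (DAlg.isIso_cmp htor adjρ adjα h) K hc).2
    (Groth.DualCore.TrivBC.evMap_bijective_of_isPerfect adj hN K)

end Groth.Agent.S13549
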