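import Groth.Statements.S7591
import Groth.Agent.VarietyBC.Galois

set_option autoImplicit false
universe u
open CategoryTheory CategoryTheory.Limits AlgebraicGeometry
open Variety

namespace Groth.Agent.S7591

/-- For a scheme X over a field k, geometric connectedness of X over k holds exactly when, for each
finite separable extension field k' of k, the base change X_{k'} is a connected (so nonempty)
scheme. -/
theorem result (k : Type u) [Field k] (X : Scheme.{u}) [X.Over (Spec (CommRingCat.of k))] :
    GeometricallyConnected (X ↘ (Spec (CommRingCat.of k))) ↔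
      ∀ (k' : Type u) [Field k'] [Algebra k k'] [FiniteDimensional k k'] [Algebra.IsSeparable k k'],
        ConnectedSpace ↥(Curv2.bc k X k') := by
  refine ⟨fun h k' _ _ _ _ => Groth.VarietyBC.geometricallyConnected_iff_forall.1 h k', fun h => ?_⟩
  let S := SeparableClosure k
  have hX : ConnectedSpace X := by
    have := h k
    rw [connectedSpace_iff_univ, ← (Groth.VarietyBC.surjective_bcFst (k := k) (X := X) k).range_eq, ← Set.image_univ]
    exact isConnected_univ.image _ (Curv2.bcFst k X k).continuous.continuousOn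
  have : ConnectedSpace (Curv2.bc k X S) := by
    have hne : Nonempty (Curv2.bc k X S) := by
      obtain ⟨x⟩ := hX.toNonempty
      obtain ⟨y, -⟩ := Groth.VarietyBC.surjective_bcFst (k := k) (X := X) S x
      exact ⟨y⟩
    refine connectedSpace_iff_clopen.2 ⟨hne, fun W hW => ?_⟩
    by_contra hn
    obtain ⟨h1, h2⟩ := not_or.1 hn
    obtain ⟨x⟩ := hX.toNonempty
    obtain ⟨U, hU, hxU, -⟩ := exists_isAffineOpen_mem_and_subset (U := (⊤ : X.Opens)) (x := x) trivial
    obtain ⟨E, hE⟩ := Groth.VarietyBC.exists_finExt_sep (k := k) (X := X) S hU W Wᶜ hW.1 hW.compl.1 disjoint_compl_right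
    have := E.2
    have : Algebra.IsSeparable k E.1 := Algebra.IsSeparable.of_algHom k S E.1.val
    have := h E.1
    have key : ∀ V : Set (Curv2.bc k X S), IsClopen V → V.Nonempty →
        ∀ z : Curv2.bc k X E.1, ∃ y ∈ V, Groth.VarietyBC.bcMap E.1.val y = z := fun V hV hVne z => by
      have := Groth.VarietyBC.universallyOpen_bcMap (X := X) E.1.val
      have := Groth.VarietyBC.isIntegralHom_bcMap (X := X) E.1.val
      exact (Groth.VarietyBC.image_eq_univ_of_isClopen (Groth.VarietyBC.bcMap E.1.val).isOpenMap
        (Groth.VarietyBC.bcMap E.1.val).isClosedMap hV hVne).ge (Set.mem_univ z)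
    obtain ⟨z, hz⟩ := Groth.VarietyBC.surjective_bcFst (k := k) (X := X) E.1 x
    obtain ⟨y, hy, hy'⟩ := key W hW (Set.nonempty_iff_ne_empty.2 h1) z
    obtain ⟨w, hw, hw'⟩ := key Wᶜ hW.compl (Set.nonempty_compl.2 h2) z
    refine hE y hy w hw (hy'.trans hw'.symm) ?_
    rw [← Groth.VarietyBC.bcMap_fst_apply E.1.val y, hy', hz]
    exact hxU
  exact Groth.VarietyBC.geometricallyConnected_of_connectedSpace_bc S

end Groth.Agent.S7591
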