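import Groth.Statements.S1355
import Groth.Agent.S7591
import Groth.Agent.S9765
import Groth.Agent.S9734
import Mathlib

set_option autoImplicit false
universe u
open FlatMor

namespace Groth.Agent.S1355

open AlgebraicGeometry CategoryTheory Limits in
/-- The fibre of a base change is the base change along the residue field point. -/
theorem connectedSpace_fiber_iff {X S U : Scheme.{u}} (f : X ⟶ S) (g : U ⟶ S) (u : U) {W : Scheme.{u}}
    (p : W ⟶ S) (e : Spec (U.residueField u) ≅ W) (he : e.hom ≫ p = U.fromSpecResidueField u ≫ g) :
    ConnectedSpace ↑((pullback.snd f g).fiber u) ↔ ConnectedSpace ↑(pullback f p) := by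
  have h1 : f ≫ 𝟙 S = 𝟙 X ≫ f := by simp
  have h2 : (U.fromSpecResidueField u ≫ g) ≫ 𝟙 S = e.hom ≫ p := by simp [he]
  let m := pullback.map f (U.fromSpecResidueField u ≫ g) f p (𝟙 X) e.hom (𝟙 S) h1 h2
  haveI : IsIso m := inferInstance
  exact (pullbackLeftPullbackSndIso f g (U.fromSpecResidueField u) ≪≫ asIso m).hom.homeomorph.connectedSpace_iff

open AlgebraicGeometry CategoryTheory Limits in
/-- Let f : X → S and s a point of S. The fibre of f over s is geometrically connected if and only if
for every étale morphism U → S and every point u over s, the fibre over u of the base change of f to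
U is connected. -/
theorem result {X S : Scheme.{u}} (f : X ⟶ S) (s : S) :
    GeometricallyConnected (f.fiberToSpecResidueField s) ↔
      ∀ (U : Scheme.{u}) (g : U ⟶ S) (u : U), Etale g → g u = s → ConnectedSpace ↑((pullback.snd f g).fiber u) := by
  constructor
  · intro h U g u _ hu
    subst hu
    have hmem : u ∈ {y : ↑U | GeometricallyConnected ((pullback.snd f g).fiberToSpecResidueField y)} := by
      rw [Groth.Agent.S9765.result f g (pullback.snd f g) (pullback.fst f g) (IsPullback.of_hasPullback f g)]
      exact h
    haveI : GeometricallyConnected ((pullback.snd f g).fiberToSpecResidueField u) := hmem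
    exact GeometricallyConnected.connectedSpace_of_subsingleton (f := (pullback.snd f g).fiberToSpecResidueField u)
  · intro h
    letI : (f.fiber s).Over (Spec (CommRingCat.of (S.residueField s))) := ⟨f.fiberToSpecResidueField s⟩
    refine (Groth.Agent.S7591.result (S.residueField s) (f.fiber s)).2 ?_
    intro k' _ _ _ _
    obtain ⟨U, g, u, hu, hg, ⟨e⟩⟩ := Groth.Agent.S9734.result S s k'
    subst hu
    let p := Spec.map (CommRingCat.ofHom (algebraMap (S.residueField (g u)) k')) ≫ S.fromSpecResidueField (g u)
    letI : Algebra (S.residueField (g u)) (U.residueField u) :=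
      ((S.residueFieldCongr (rfl : g u = g u)).inv ≫ g.residueFieldMap u).hom.toAlgebra
    let E : Spec (U.residueField u) ≅ Spec (CommRingCat.of k') :=
      Scheme.Spec.mapIso (RingEquiv.toCommRingCatIso e.toRingEquiv).op
    have he : E.hom ≫ p = U.fromSpecResidueField u ≫ g := by
      show Spec.map (RingEquiv.toCommRingCatIso e.toRingEquiv).hom ≫
        Spec.map (CommRingCat.ofHom (algebraMap (S.residueField (g u)) k')) ≫ S.fromSpecResidueField (g u) = _
      rw [← Category.assoc, ← Spec.map_comp, ← Scheme.Hom.SpecMap_residueFieldMap_fromSpecResidueField]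
      congr 2
      ext x
      refine (e.commutes x).trans ?_
      simp [RingHom.algebraMap_toAlgebra]
    refine ((pullbackLeftPullbackSndIso f (S.fromSpecResidueField (g u))
      (Spec.map (CommRingCat.ofHom (algebraMap (S.residueField (g u)) k')))).hom.homeomorph.connectedSpace_iff).2 ?_
    exact (connectedSpace_fiber_iff f g u p E he).1 (h U g u hg rfl)

end Groth.Agent.S1355
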