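import Groth.Statements.S13577
import Groth.Agent.DTenCalc.Computes

set_option autoImplicit false
universe u
open CategoryTheory CategoryTheory.Limits MonoidalCategory
attribute [local instance] HasDerivedCategory.standard
open DTen

namespace Groth.Agent.S13577

/-- For a commutative ring `A` and objects `a`, `b`, `c` of `D(A)`, the two canonical morphisms from the
iterated derived tensor products `(a ⊗^L b) ⊗^L c` and `a ⊗^L (b ⊗^L c)` to the jointly derived
triple tensor product are both isomorphisms, so that the composite of the first with the inverse of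
the second is the associativity isomorphism `(a ⊗^L b) ⊗^L c ≅ a ⊗^L (b ⊗^L c)`, functorial in the
triple. (The published statement asserts only the existence of the functorial associativity
isomorphism; this row also says that each iterate agrees with the jointly derived triple product,
which is slightly stronger.) -/
theorem result (A : Type u) [CommRing A] [DTen.HasLTen A] [DTen.HasLTen₃ A]
    (a b c : Dual.D A) :
    IsIso ((DTen.assocL A).app (a, (b, c))) ∧ IsIso ((DTen.assocR A).app (a, (b, c))) := by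
  obtain ⟨P, hP, ⟨eP⟩⟩ := Groth.DTenCalc.exists_kFlat_rep a
  obtain ⟨Q, hQ, ⟨eQ⟩⟩ := Groth.DTenCalc.exists_kFlat_rep b
  obtain ⟨M, hM, ⟨eM⟩⟩ := Groth.DTenCalc.exists_kFlat_rep c
  have := Groth.DTenCalc.isIso_ε₃ (A := A) P Q M hP hQ
  have := Groth.DTenCalc.isIso_ε (A := A) P Q hP
  have := Groth.DTenCalc.isIso_ε (A := A) Q M hQ
  have := Groth.DTenCalc.isIso_ε (A := A) (P ⊗ Q) M (Groth.DTenCalc.isKFlat_tensor hP hQ)
  have := Groth.DTenCalc.isIso_ε (A := A) P (Q ⊗ M) hP
  constructor
  · refine Groth.DTenCalc.isIso_app_of_iso _ (Iso.prod eP (Iso.prod eQ eM)) ?_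
    have : IsIso ((DTen.assocL A).app ((DTen.QQQ A).obj ((P, (Q, M)) : DRing.Cx A × DRing.Cx A × DRing.Cx A)) ≫ (DTen.ε₃ A).app ((P, (Q, M)) : DRing.Cx A × DRing.Cx A × DRing.Cx A)) := by
      rw [DTen.assocL_fac]
      dsimp [DTen.βL] at *
      refine IsIso.comp_isIso' ?_ (IsIso.comp_isIso' ?_ inferInstance)
      · exact @Functor.map_isIso _ _ _ _ _ _ _ _ (@Groth.DTenCalc.isIso_mkHom _ _ _ _ _ _ _ _ _ _
          (Groth.DTenCalc.isIso_ε P Q hP) inferInstance)
      · exact Groth.DTenCalc.isIso_ε _ M (Groth.DTenCalc.isKFlat_tensor hP hQ)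
    exact (isIso_comp_right_iff _ ((DTen.ε₃ A).app ((P, (Q, M)) : DRing.Cx A × DRing.Cx A × DRing.Cx A))).1 this
  · refine Groth.DTenCalc.isIso_app_of_iso _ (Iso.prod eP (Iso.prod eQ eM)) ?_
    have : IsIso ((DTen.assocR A).app ((DTen.QQQ A).obj ((P, (Q, M)) : DRing.Cx A × DRing.Cx A × DRing.Cx A)) ≫ (DTen.ε₃ A).app ((P, (Q, M)) : DRing.Cx A × DRing.Cx A × DRing.Cx A)) := by
      rw [DTen.assocR_fac]
      dsimp [DTen.βR] at *
      infer_instance
    exact (isIso_comp_right_iff _ ((DTen.ε₃ A).app ((P, (Q, M)) : DRing.Cx A × DRing.Cx A × DRing.Cx A))).1 this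

end Groth.Agent.S13577
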