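import Groth.Statements.S13578
import Groth.Agent.DTenPro.Adic
import Groth.Agent.DTenCalc.Braided
import Groth.Agent.DTenCalc.SymMonoidal

set_option autoImplicit false
universe u
open CategoryTheory CategoryTheory.Limits MonoidalCategory
attribute [local instance] HasDerivedCategory.standard
open DTen

namespace Groth.Agent.S13578

open Groth.Agent.DTenPro Groth.DAlg.KFlatMod CategoryTheory.Pretriangulated Opposite

/-- Let `A` be a Noetherian commutative ring (the derived tensor product on `D(A)` being assumed to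
exist and to be computed by K-flat complexes), `I` an ideal and `M` a finite `A`-module. Then there
is an integer `n > 0` such that the inclusion `I^n M ⟶ M`, viewed in `D(A)` in degree `0`, factors
through the canonical morphism `I ⊗^L M ⟶ M` (the map `I ⊗^L M ⟶ A ⊗^L M` induced by `I ⊆ A`,
followed by the unit isomorphism). -/
theorem result (A : Type u) [CommRing A] [IsNoetherianRing A]
    [DTen.HasLTen A] [DTen.KFlatComputes A] (I : Ideal A) (M : Type u) [AddCommGroup M] [Module A M]
    [Module.Finite A M] :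
    ∃ (n : ℕ) (_ : 0 < n)
      (g : DerivedCategory.Q.obj ((HomologicalComplex.single (ModuleCat.{u} A) (ComplexShape.up ℤ) 0).obj
              (ModuleCat.of A ↥(I ^ n • (⊤ : Submodule A M)))) ⟶
            (DTen.LTen₂ A).obj (DerivedCategory.Q.obj ((HomologicalComplex.single (ModuleCat.{u} A) (ComplexShape.up ℤ) 0).obj
              (ModuleCat.of A ↥I)),
              DerivedCategory.Q.obj ((HomologicalComplex.single (ModuleCat.{u} A) (ComplexShape.up ℤ) 0).obj
              (ModuleCat.of A M)))),
      g ≫ (DTen.LTen₂ A).map (Prod.mkHom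
              (DerivedCategory.Q.map ((HomologicalComplex.single (ModuleCat.{u} A) (ComplexShape.up ℤ) 0).map
                (ModuleCat.ofHom I.subtype)))
              (𝟙 _)) ≫
          (DTen.unitL A).app (DerivedCategory.Q.obj ((HomologicalComplex.single (ModuleCat.{u} A) (ComplexShape.up ℤ) 0).obj
              (ModuleCat.of A M))) =
        DerivedCategory.Q.map ((HomologicalComplex.single (ModuleCat.{u} A) (ComplexShape.up ℤ) 0).map
          (ModuleCat.ofHom (I ^ n • (⊤ : Submodule A M)).subtype)) := by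
  let : SymmetricCategory (DRing.Cx A) := Groth.DTenCalc.symmetricCx
  let sgl := HomologicalComplex.single (ModuleCat.{u} A) (ComplexShape.up ℤ) 0
  let K : DRing.Cx A := sgl.obj (ModuleCat.of A M)
  let Ic : DRing.Cx A := sgl.obj (ModuleCat.of A ↥I)
  let ι : Ic ⟶ 𝟙_ (DRing.Cx A) := sgl.map (ModuleCat.ofHom I.subtype)
  obtain ⟨P, σ, hσ, hPk, hP⟩ : ∃ (P : DRing.Cx A) (σ : P ⟶ K),
      QuasiIso σ ∧ IsKFlatCx A P ∧ DRing.TermwiseFlat P :=
    ⟨_, (resAug A).app K, resAug_quasiIso K, res_isKFlat K, res_flat K⟩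
  have hK : DRing.VanishesOutside K 0 0 := fun i hi =>
    HomologicalComplex.isZero_single_obj_X (ComplexShape.up ℤ) 0 (ModuleCat.of A M) i (by omega)
  have hKf : ∀ i : ℤ, Module.Finite A (K.X i) := fun i => by
    by_cases hi : i = 0
    · subst hi
      exact Module.Finite.equiv (HomologicalComplex.singleObjXSelf (ComplexShape.up ℤ) 0
        (ModuleCat.of A M)).toLinearEquiv.symm
    · have := ModuleCat.subsingleton_of_isZero (HomologicalComplex.isZero_single_obj_X
        (ComplexShape.up ℤ) 0 (ModuleCat.of A M) i hi)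
      infer_instance
  let η := Functor.whiskerRight (tenCMap σ) DerivedCategory.Q
  obtain ⟨m, hm, b, hb, -⟩ := isProIso_adic σ hP hK hKf I 0
  refine ⟨m + 1, Nat.succ_pos m, ?_⟩
  let N : ModuleCat.{u} A := ModuleCat.of A ↥(I ^ (m + 1) • (⊤ : Submodule A M))
  let j : sgl.obj N ⟶ K := sgl.map (ModuleCat.ofHom (I ^ (m + 1) • (⊤ : Submodule A M)).subtype)
  let π := adicProj I
  have hzero : j ≫ (ρ_ K).inv ≫ (tenC K).map (π.app (op m)) = 0 := by
    let φ := K ◁ (HomologicalComplex.single (ModuleCat.{u} A) (ComplexShape.up ℤ) 0).map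
      (π.app (op m))
    refine HomologicalComplex.from_single_hom_ext ?_
    apply ModuleCat.hom_ext
    ext x
    let Q' : ModuleCat.{u} A := (CohIII.adicSystem I (ModuleCat.of A A)).obj (op m)
    have kill : ∀ r ∈ I ^ (m + 1), ∀ y : ((tenC K).obj Q').X 0, r • y = 0 := fun r hr y => by
      apply (tenCApp K 0 Q').toLinearEquiv.injective
      rw [map_smul, map_zero]
      generalize (tenCApp K 0 Q').toLinearEquiv y = z
      induction z using TensorProduct.induction_on with
      | zero => exact smul_zero r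
      | tmul p q =>
        obtain ⟨c, rfl⟩ := Submodule.mkQ_surjective _ q
        refine (TensorProduct.tmul_smul r p _).symm.trans ?_
        refine (congrArg (p ⊗ₜ[A] ·) ((map_smul _ r c).symm.trans
          ((Submodule.Quotient.mk_eq_zero _).2 ?_))).trans (TensorProduct.tmul_zero _ _)
        exact Submodule.smul_mem_smul hr trivial
      | add p q hp hq => rw [smul_add, hp, hq, add_zero]
    let f : M →ₗ[A] ((tenC K).obj Q').X 0 :=
      ((HomologicalComplex.singleObjXSelf (ComplexShape.up ℤ) 0 (ModuleCat.of A M)).inv ≫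
        ((ρ_ K).inv ≫ (tenC K).map (π.app (op m))).f 0).hom
    have hf : ∀ y ∈ I ^ (m + 1) • (⊤ : Submodule A M), f y = 0 := fun y hy => by
      refine Submodule.smul_induction_on hy (fun r hr v _ => ?_) (fun p q hp hq => ?_)
      · rw [map_smul]; exact kill r hr _
      · rw [map_add, hp, hq, add_zero]
    have e : j.f 0 ≫ ((ρ_ K).inv ≫ (tenC K).map (π.app (op m))).f 0 =
        (HomologicalComplex.singleObjXSelf (ComplexShape.up ℤ) 0 N).hom ≫
          ModuleCat.ofHom (f ∘ₗ (I ^ (m + 1) • (⊤ : Submodule A M)).subtype) := by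
      simp [j, f, sgl, HomologicalComplex.single_map_f_self]
    refine (congrArg (fun g => g.hom x) e).trans ?_
    exact hf _ (Subtype.coe_prop _)
  let S : ShortComplex (ModuleCat.{u} A) := ShortComplex.mk (ModuleCat.ofHom I.subtype) (π.app (op 0))
    (by
      apply ModuleCat.hom_ext
      refine LinearMap.ext fun x => (Submodule.Quotient.mk_eq_zero _).2 ?_
      have hx : (x : ↥I).1 ∈ I := x.2
      change (x : ↥I).1 ∈ I ^ (0 + 1) • (⊤ : Submodule A A)
      rwa [zero_add, pow_one, Ideal.smul_top_eq_map, Algebra.algebraMap_self, Ideal.map_id, Submodule.restrictScalars_self])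
  have hS : S.Exact := by
    refine (ShortComplex.moduleCat_exact_iff_range_eq_ker _).2 ?_
    change LinearMap.range I.subtype = LinearMap.ker (Submodule.mkQ _)
    simp
  have : Epi S.g := (ModuleCat.epi_iff_surjective _).2 (Submodule.mkQ_surjective _)
  have hSP : (S.map (tenC P)).ShortExact :=
    { exact := (tenC_exact P S hS).1
      epi_g := (tenC_exact P S hS).2
      mono_f := HomologicalComplex.mono_of_mono_f _ fun i => by
        have := hP i
        have h : Mono (P.X i ◁ S.f) := (ModuleCat.mono_iff_injective _).2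
          (Module.Flat.lTensor_preserves_injective_linearMap _ Subtype.val_injective)
        have h' : Mono (((tenC P).map S.f).f i ≫ (tenCApp P i S.X₂).hom) := by
          rw [tenCApp_nat]; exact mono_comp _ _
        exact mono_of_mono (((tenC P).map S.f).f i) (tenCApp P i S.X₂).hom }
  have hηA : IsIso (η.app (ModuleCat.of A A)) := isIso_tenCMap_unit σ
  let v : DerivedCategory.Q.obj (sgl.obj N) ⟶ DerivedCategory.Q.obj ((tenC P).obj (ModuleCat.of A A)) :=
    DerivedCategory.Q.map (j ≫ (ρ_ K).inv) ≫ inv (η.app (ModuleCat.of A A))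
  have hv : v ≫ DerivedCategory.Q.map ((tenC P).map (π.app (op 0))) = 0 := by
    have e₁ : π.app (op 0) =
        π.app (op m) ≫ ARSys.tr (CohIII.adicSystem I (ModuleCat.of A A)) hm := by
      have := π.naturality (homOfLE hm).op
      simpa using this
    have e₂ : DerivedCategory.Q.map ((tenC P).map (π.app (op 0))) =
        η.app (ModuleCat.of A A) ≫ DerivedCategory.Q.map ((tenC K).map (π.app (op m))) ≫ b := by
      rw [e₁, Functor.map_comp, Functor.map_comp]
      refine (congrArg (_ ≫ ·) hb.symm).trans ?_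
      refine (Category.assoc _ _ _).symm.trans ((congrArg (· ≫ b) (η.naturality (π.app (op m)))).trans ?_)
      exact Category.assoc _ _ _
    rw [e₂, show v = DerivedCategory.Q.map (j ≫ (ρ_ K).inv) ≫ inv (η.app (ModuleCat.of A A)) from rfl,
      Category.assoc, IsIso.inv_hom_id_assoc, ← Functor.map_comp_assoc, Category.assoc, hzero,
      Functor.map_zero, zero_comp]
  obtain ⟨z, hz⟩ : ∃ z : DerivedCategory.Q.obj (sgl.obj N) ⟶
      DerivedCategory.Q.obj ((tenC P).obj (ModuleCat.of A ↥I)),
      v = z ≫ DerivedCategory.Q.map ((tenC P).map S.f) :=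
    Triangle.coyoneda_exact₂ _ (DerivedCategory.triangleOfSES_distinguished hSP) v hv
  have := Groth.DTenCalc.isIso_ε_right Ic P hPk
  refine ⟨z ≫ DerivedCategory.Q.map (β_ P Ic).hom ≫ inv ((DTen.ε A).app (Ic, P)) ≫
    (DTen.LTen₂ A).map (Prod.mkHom (𝟙 (DerivedCategory.Q.obj Ic)) (DerivedCategory.Q.map σ)), ?_⟩
  rw [DTen.unitL_app]
  have nat₁ : (DTen.LTen₂ A).map (Prod.mkHom (DerivedCategory.Q.map ι) (𝟙 (DerivedCategory.Q.obj K))) ≫
      (DTen.ε A).app (𝟙_ (DRing.Cx A), K) = (DTen.ε A).app (Ic, K) ≫ DerivedCategory.Q.map (ι ▷ K) := by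
    have h := (DTen.ε A).naturality (Prod.mkHom ι (𝟙 K))
    dsimp at h
    simpa using h
  have nat₂ : (DTen.LTen₂ A).map (Prod.mkHom (𝟙 (DerivedCategory.Q.obj Ic)) (DerivedCategory.Q.map σ)) ≫
      (DTen.ε A).app (Ic, K) = (DTen.ε A).app (Ic, P) ≫ DerivedCategory.Q.map (Ic ◁ σ) := by
    have h := (DTen.ε A).naturality (Prod.mkHom (𝟙 Ic) σ)
    dsimp at h
    simpa using h
  have key : (β_ P Ic).hom ≫ (Ic ◁ σ) ≫ (ι ▷ K) ≫ (λ_ K).hom = (P ◁ ι) ≫ (σ ▷ _) ≫ (ρ_ K).hom := by
    rw [rightUnitor_naturality, ← braiding_leftUnitor, Category.assoc,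
      BraidedCategory.braiding_naturality_right_assoc, whisker_exchange_assoc, leftUnitor_naturality]
  simp only [Category.assoc]
  erw [reassoc_of% nat₁, reassoc_of% nat₂, IsIso.inv_hom_id_assoc]
  rw [← Functor.map_comp, ← Functor.map_comp, ← Functor.map_comp, key]
  rw [Functor.map_comp, Functor.map_comp, ← Category.assoc]
  change (z ≫ DerivedCategory.Q.map ((tenC P).map S.f)) ≫ η.app (ModuleCat.of A A) ≫ _ = _
  rw [← hz, show v = DerivedCategory.Q.map (j ≫ (ρ_ K).inv) ≫ inv (η.app (ModuleCat.of A A)) from rfl,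
    Category.assoc, IsIso.inv_hom_id_assoc, ← Functor.map_comp, Category.assoc, Iso.inv_hom_id,
    Category.comp_id]

end Groth.Agent.S13578
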