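import Groth.Statements.S13579
import Groth.Agent.DTenPro.Systems

set_option autoImplicit false
universe u
open CategoryTheory CategoryTheory.Limits MonoidalCategory
attribute [local instance] HasDerivedCategory.standard
open DTen

namespace Groth.Agent.S13579

open Groth.Agent.DTenPro Groth.DAlg.KFlatMod

/-- Let `A` be a Noetherian commutative ring (the derived tensor product on `D(A)` being assumed to
exist and to be computed by K-flat complexes), `I` an ideal and `K` a bounded cochain complex of
finite `A`-modules. Then the inverse system of canonical morphisms `K ⊗^L_A A/I^{n+1} ⟶ K/I^{n+1}K`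
in `D(A)` is an isomorphism of pro-objects. Here `K/I^{n+1}K` is written as the plain tensor product
complex `K ⊗_A (A/I^{n+1})[0]`, to which it is canonically isomorphic, and the morphisms are the
canonical maps from the derived to the plain tensor product. -/
theorem result (A : Type u) [CommRing A] [IsNoetherianRing A]
    [DTen.HasLTen A] [DTen.KFlatComputes A] (I : Ideal A) (K : DRing.Cx A) (a b : ℤ) (hK : DRing.VanishesOutside K a b)
    (hKf : ∀ i : ℤ, Module.Finite A (K.X i)) :
    DerCA.IsProIso (Functor.whiskerLeft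
      (CohIII.adicSystem I (ModuleCat.of A A) ⋙ HomologicalComplex.single (ModuleCat.{u} A) (ComplexShape.up ℤ) 0)
      (DTen.εLeft A K)) := by
  obtain ⟨P, σ, hσ, hPk, hP⟩ : ∃ (P : DRing.Cx A) (σ : P ⟶ K),
      QuasiIso σ ∧ IsKFlatCx A P ∧ DRing.TermwiseFlat P :=
    ⟨_, (resAug A).app K, resAug_quasiIso K, res_isKFlat K, res_flat K⟩
  let sgl := HomologicalComplex.single (ModuleCat.{u} A) (ComplexShape.up ℤ) 0
  let η := Functor.whiskerRight (tenCMap σ) DerivedCategory.Q
  have hη : IsIso (η.app (ModuleCat.of A A)) := by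
    have h : QuasiIso (σ ▷ (𝟙_ (DRing.Cx A))) := by
      rw [show σ ▷ (𝟙_ (DRing.Cx A)) = (ρ_ P).hom ≫ σ ≫ (ρ_ K).inv from by
        rw [← rightUnitor_naturality_assoc, Iso.hom_inv_id, Category.comp_id]]
      infer_instance
    exact (DerivedCategory.isIso_Q_map_iff_quasiIso _ _).2 h
  obtain ⟨l, c, hc⟩ := exists_proIso_adic I
  let S := CohIII.adicSystem I (ModuleCat.of A A)
  have h₁ : DerCA.IsProIso (Functor.whiskerLeft S η) := by
    refine isProIso_of_comp_left (a := Functor.whiskerRight c (tenC P ⋙ DerivedCategory.Q))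
      (isProIso_map hc _) ?_
    rw [show Functor.whiskerRight c (tenC P ⋙ DerivedCategory.Q) ≫ Functor.whiskerLeft S η =
        Functor.whiskerLeft (sys l) η ≫ Functor.whiskerRight c (tenC K ⋙ DerivedCategory.Q) from by
      ext a; exact η.naturality (c.app a)]
    exact isProIso_comp (isProIso_sys σ hP hK hKf hη l) (isProIso_map hc _)
  let u := Functor.whiskerLeft (S ⋙ sgl)
    (Functor.whiskerLeft DerivedCategory.Q ((DTen.LTen A).map (DerivedCategory.Q.map σ)))
  let e := Functor.whiskerLeft (S ⋙ sgl) (DTen.εLeft A P)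
  have hu : IsIso u := by
    have : IsIso (DerivedCategory.Q.map σ) := (DerivedCategory.isIso_Q_map_iff_quasiIso _ _).2 hσ
    infer_instance
  have he : IsIso e := by
    have : ∀ a, IsIso (e.app a) := fun a =>
      Groth.DTenCalc.isIso_ε P ((S ⋙ sgl).obj a) hPk
    exact NatIso.isIso_of_isIso_app e
  refine isProIso_of_comp_left (a := u) (isProIso_of_isIso u) ?_
  have key : u ≫ Functor.whiskerLeft (S ⋙ sgl) (DTen.εLeft A K) = e ≫ Functor.whiskerLeft S η := by
    ext a
    have h := (DTen.ε A).naturality (Prod.mkHom σ (𝟙 ((S ⋙ sgl).obj a)))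
    dsimp at h
    simp only [MonoidalCategory.whiskerLeft_id, Category.comp_id, CategoryTheory.Functor.map_id] at h
    exact h
  rw [key]
  exact isProIso_comp (isProIso_of_isIso e) h₁

end Groth.Agent.S13579
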