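import Groth.Statements.S13580
import Groth.Agent.LocCohZBase.SiteExcision
import Groth.Agent.EtaleBase.ExtAdj
import Groth.Agent.DAlg.ExtZeroExact
import Groth.Agent.SiteCohomology.ModulesGrothendieck

set_option autoImplicit false
universe w' w u
open CategoryTheory CategoryTheory.Limits
open ExtSupp

namespace Groth.Agent.S13580

/-- Let `U`, `V` be objects of a ringed site which together cover it, with `V` subterminal (every object
has at most one morphism to `V`, so that `V` is an open of the topos and the closed complement `Z`
of `U` is contained in it), and let `M`, `N` be sheaves of modules. Then `Ext^i_Z(M, N)` computed on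
the whole site is isomorphic to `Ext^i_{Z}(V; M|_V, N|_V)`, the Ext group with supports computed on
the localised site over `V` with support the complement of `U × V ⟶ V`. Existence of an isomorphism
of groups in each degree only. (The published statement is for a ringed space, where every open set
is subterminal, a locally closed `Z` and an isomorphism of cohomological functors; this row is the
closed case on a ringed site, degree by degree, with the subterminality of `V` made an explicit
hypothesis. Without the covering hypothesis the statement fails, e.g. for `V = U`; without the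
subterminality of `V` it fails already in degree `0`, because restricting to the localised site over
an object that receives two different morphisms from one object can enlarge the group of sections.) -/
theorem result {C : Type u} [SmallCategory C] [HasBinaryProducts C]
    {J : GrothendieckTopology C} {O : Sheaf J CommRingCat.{u}} [HasExt.{w} (ModSite.Mod O)]
    (U V : C) [HasExt.{w'} (ModSite.Mod (O.over V))]
    (hV : ∀ X : C, Subsingleton (X ⟶ V)) (hUV : J.CoversTop (fun b : Bool => cond b U V)) (M N : ModSite.Mod O)
    (i : ℕ) :
    Nonempty (ExtSupp.ExtZ U M N i ≃+ ExtSupp.ExtZover V (Over.mk (prod.snd : U ⨯ V ⟶ V)) M N i) := by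
  let Q := (ModSite.quotOn O U).obj M
  haveI := Groth.DAlg.ExtZeroExact.preservesFiniteLimits_extZero O V
  haveI := (ModSite.extZeroAdj O V).leftAdjoint_preservesColimits
  haveI : PreservesFiniteColimits (ModSite.extZero O V) := ⟨fun _ _ _ => inferInstance⟩
  have hb : Function.Bijective (Groth.EtaleBase.ExtAdj.adjExt (ModSite.extZeroAdj O V)
      ((ModSite.restr O V).obj Q) N i) := Groth.EtaleBase.ExtAdj.adjExt_bijective_of_exact _ _ N i
  have : IsIso ((ModSite.extZeroAdj O V).counit.app Q) :=
    Groth.LocCohZBase.Excision.isIso_counit_quotOn U V hV hUV M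
  let c := asIso ((ModSite.extZeroAdj O V).counit.app Q)
  obtain ⟨k⟩ := Groth.LocCohZBase.Excision.nonempty_quotOn_restr_iso (O := O) U V M
  exact ⟨(AddEquiv.ofBijective ((Abelian.Ext.mk₀ c.hom).precomp N (zero_add i))
      (Function.bijective_iff_has_inverse.2 ⟨(Abelian.Ext.mk₀ c.inv).precomp N (zero_add i),
        fun x => by simp only [Abelian.Ext.precomp, AddMonoidHom.flip_apply, Abelian.Ext.bilinearComp_apply_apply,
          Abelian.Ext.mk₀_comp_mk₀_assoc, c.inv_hom_id, Abelian.Ext.mk₀_id_comp],
        fun x => by simp only [Abelian.Ext.precomp, AddMonoidHom.flip_apply, Abelian.Ext.bilinearComp_apply_apply,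
          Abelian.Ext.mk₀_comp_mk₀_assoc, c.hom_inv_id, Abelian.Ext.mk₀_id_comp]⟩)).trans
    ((AddEquiv.ofBijective _ hb).symm.trans
      (AddEquiv.ofBijective ((Abelian.Ext.mk₀ k.hom).precomp ((ModSite.restr O V).obj N) (zero_add i))
        (Function.bijective_iff_has_inverse.2 ⟨(Abelian.Ext.mk₀ k.inv).precomp _ (zero_add i),
        fun x => by simp only [Abelian.Ext.precomp, AddMonoidHom.flip_apply, Abelian.Ext.bilinearComp_apply_apply,
          Abelian.Ext.mk₀_comp_mk₀_assoc, k.inv_hom_id, Abelian.Ext.mk₀_id_comp],
        fun x => by simp only [Abelian.Ext.precomp, AddMonoidHom.flip_apply, Abelian.Ext.bilinearComp_apply_apply,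
          Abelian.Ext.mk₀_comp_mk₀_assoc, k.hom_inv_id, Abelian.Ext.mk₀_id_comp]⟩)))⟩

end Groth.Agent.S13580
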