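import Groth.Statements.S13581
import Groth.Agent.EtaleBase.ExtAdj
import Groth.Agent.DAlg.ExtZeroExact
import Groth.Agent.DAlg.RestrPushOver
import Groth.Agent.SitesTopoi.Mod.ExtZeroFlat
import Groth.Agent.SiteCohomology.ModulesGrothendieck

set_option autoImplicit false
universe w' w u
open CategoryTheory CategoryTheory.Limits
open ExtSupp

namespace Groth.Agent.S13581

/-- On a ringed site, for an object `U` and sheaves of modules `M`, `N`, the group `Ext^i(M_U, N)`,
where `M_U = j_!(M|_U)` is the extension by zero of the restriction, is isomorphic to
`Ext^i_{O|_U}(M|_U, N|_U)` computed on the localised site over `U`; hence the long exact sequence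
`Ext^i_Z(M, N) → Ext^i(M, N) → Ext^i(M_U, N) → Ext^{i+1}_Z(M, N)` for the closed complement `Z` of
`U` has the Ext groups of the restrictions as its third terms. Existence of an isomorphism of groups
in each degree only. (The published statements give the long exact sequence itself, on a ringed
space resp. a ringed topos; its exactness over these definitions is formal and is not part of this
row.) -/
theorem result {C : Type u} [SmallCategory C]
    {J : GrothendieckTopology C} {O : Sheaf J CommRingCat.{u}} [HasExt.{w} (ModSite.Mod O)]
    (U : C) [HasExt.{w'} (ModSite.Mod (O.over U))] (M N : ModSite.Mod O) (i : ℕ) :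
    Nonempty (Abelian.Ext.{w} (ExtSupp.openMod U M) N i ≃+
      Abelian.Ext.{w'} ((ModSite.restr O U).obj M) ((ModSite.restr O U).obj N) i) := by
  haveI := Groth.DAlg.ExtZeroExact.preservesFiniteLimits_extZero O U
  haveI := (ModSite.extZeroAdj O U).leftAdjoint_preservesColimits
  haveI : PreservesFiniteColimits (ModSite.extZero O U) := ⟨fun _ _ _ => inferInstance⟩
  haveI : (ModSite.restr O U).Additive := (ModSite.extZeroAdj O U).right_adjoint_additive
  exact ⟨(AddEquiv.ofBijective _ (Groth.EtaleBase.ExtAdj.adjExt_bijective_of_exact (ModSite.extZeroAdj O U)
    ((ModSite.restr O U).obj M) N i)).symm⟩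

end Groth.Agent.S13581
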