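import Groth.Statements.S13582
import Groth.Agent.LocCohZBase.GammaHom
import Groth.Agent.LocCohZBase.QuotOnExact
import Groth.Agent.LocCohZBase.ExtDerived

set_option autoImplicit false
universe u
open CategoryTheory CategoryTheory.Limits
open ExtSupp

namespace Groth.Agent.S13582

/-- On a ringed site, for an object `U` with closed complement `Z` and a sheaf of modules `M`, the
`q`-th right derived functor of `N ↦ Γ_Z(ℋom_O(M, N))`, which is the definition of Ext with supports
`Ext^q_{O,Z}(M, -)` as a derived functor, is isomorphic as a functor of `N` to `N ↦ Ext^q_O(M ⊗ O_Z,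
N) = Ext^q_O(M/M_U, N)`. Existence of an isomorphism of functors only. The internal hom out of `M`,
the right adjoint of restriction to `U` and injective resolutions of sheaves of modules are assumed
to exist. -/
theorem result {C : Type u} [SmallCategory C]
    {J : GrothendieckTopology C} {O : Sheaf J CommRingCat.{u}} [HasExt.{u} (ModSite.Mod O)]
    (U : C) [ModSite.HasPushOver O U] (M : ModSite.Mod O) [ModSite.HasSheafHom M]
    [HasInjectiveResolutions (ModSite.Mod O)] (q : ℕ) :
    Nonempty (ExtSupp.ExtZR U M q ≅ Abelian.extFunctorObj ((ModSite.quotOn O U).obj M) q) := by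
  let e : ExtSupp.gammaZHom U M ≅ preadditiveCoyoneda.obj (Opposite.op ((ModSite.quotOn O U).obj M)) :=
    (Functor.associator _ _ _).symm ≪≫
      Functor.isoWhiskerRight (Groth.LocCohZBase.gammaHomIso U M).symm _ ≪≫ Functor.associator _ _ _ ≪≫
        Functor.isoWhiskerLeft (ModSite.sectOn O U) (Groth.LocCohZBase.homUnitIso M) ≪≫
        Groth.LocCohZBase.homSectIso U M
  let eq : (ExtSupp.gammaZHom U M).rightDerived q ≅
      (preadditiveCoyoneda.obj (Opposite.op ((ModSite.quotOn O U).obj M))).rightDerived q :=
    { hom := NatTrans.rightDerived e.hom q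
      inv := NatTrans.rightDerived e.inv q
      hom_inv_id := by rw [← NatTrans.rightDerived_comp, e.hom_inv_id, NatTrans.rightDerived_id]
      inv_hom_id := by rw [← NatTrans.rightDerived_comp, e.inv_hom_id, NatTrans.rightDerived_id] }
  exact ⟨eq ≪≫ Groth.LocCohZBase.ExtDerived.derivedIso ((ModSite.quotOn O U).obj M) q ≪≫
    NatIso.ofComponents (fun N => Iso.refl _) (fun f => (Category.comp_id _).trans (Category.id_comp _).symm)⟩

end Groth.Agent.S13582
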