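import Groth.Statements.S13585
import Groth.Agent.CanonSheaf.Basic
import Groth.Agent.OmegaSheaf.SectionConormal

set_option autoImplicit false
universe u
open CategoryTheory CategoryTheory.Limits AlgebraicGeometry
open Canon

namespace Groth.Agent.S13585

/-- Let `f : X ⟶ Y` and `g : Y ⟶ Z` be morphisms of schemes with `g` smooth of relative dimension `n`,
and let `Γ : X ⟶ X ×_Z Y` be the graph of `f`. Then `Γ` is a regular immersion of codimension `n`,
and the top exterior power of its conormal sheaf is `f^* ω_{Y/Z}`, where `ω_{Y/Z} = Λ^n Ω_{Y/Z}`;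
that is, the canonical sheaf of the immersion `Γ` is the dual of `f^* ω_{Y/Z}`. (This row takes `X`
locally Noetherian and `g` separated, so that the graph is a closed immersion and the criterion for
sections of smooth morphisms over a locally Noetherian base, through which the published proof goes,
applies; the published statement has arbitrary preschemes.) -/
theorem result {X Y Z : Scheme.{u}} [IsLocallyNoetherian X]
    (f : X ⟶ Y) (g : Y ⟶ Z) (n : ℕ) [SmoothOfRelativeDimension n g] [IsSeparated g]
    (ωY : Y.Modules) (hω : Canon.IsTopDiff g n ωY) :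
    RegImm.IsRegularImmersionOfCodim .regular n (pullback.lift (𝟙 X) f (Category.id_comp (f ≫ g))) ∧
      ExtPow.IsExtPow n (Omega.conormal (pullback.lift (𝟙 X) f (Category.id_comp (f ≫ g))))
        ((Scheme.Modules.pullback f).obj ωY) := by
  let Γ := pullback.lift (𝟙 X) f (Category.id_comp (f ≫ g))
  have hΓ : Γ ≫ pullback.fst (f ≫ g) g = 𝟙 X := pullback.lift_fst _ _ _
  have hΓf : Γ ≫ pullback.snd (f ≫ g) g = f := pullback.lift_snd _ _ _
  have sq := (IsPullback.of_hasPullback (f ≫ g) g).flip
  have : SmoothOfRelativeDimension n (pullback.fst (f ≫ g) g) :=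
    (smoothOfRelativeDimension_isStableUnderBaseChange n).of_isPullback sq ‹_›
  have : Smooth (pullback.fst (f ≫ g) g) := SmoothOfRelativeDimension.smooth n _
  have : IsLocallyNoetherian (pullback (f ≫ g) g) :=
    LocallyOfFiniteType.isLocallyNoetherian (pullback.fst (f ≫ g) g)
  have : IsClosedImmersion (Γ ≫ pullback.fst (f ≫ g) g) := by rw [hΓ]; infer_instance
  have : IsClosedImmersion Γ := IsClosedImmersion.of_comp Γ (pullback.fst (f ≫ g) g)
  refine ⟨?_, ?_⟩
  · have h := Groth.Duality.FundLocal.isRegularImmersionOfCodim (pullback.fst (f ≫ g) g) (𝟙 X) Γ n 0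
      (Groth.OmegaSheaf.isFinLocFreeOfRank_sheaf _ n) (Groth.OmegaSheaf.isFinLocFreeOfRank_sheaf _ 0) hΓ
    simpa using h
  · obtain ⟨eΩ⟩ := Groth.OmegaSheaf.nonempty_pullback_iso sq (Groth.OmegaSheaf.isUniversal_dOmega g)
      (Groth.OmegaSheaf.isUniversal_dOmega (pullback.fst (f ≫ g) g))
    obtain ⟨eC⟩ := Groth.OmegaSheaf.nonempty_conormal_iso_of_section (pullback.fst (f ≫ g) g) Γ hΓ
    let e : Omega.conormal Γ ≅ (Scheme.Modules.pullback f).obj (Omega.sheaf g) :=
      eC ≪≫ (Scheme.Modules.pullback Γ).mapIso eΩ.symm ≪≫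
        (Scheme.Modules.pullbackComp Γ (pullback.snd (f ≫ g) g)).app _ ≪≫
        (Scheme.Modules.pullbackCongr hΓf).app _
    have := Groth.KTheory.LocFree.isQCoh (Groth.LocFree.isFinLocFree_of_rank
      (Groth.LocFree.isFinLocFreeOfRank_pullback f (Groth.OmegaSheaf.isFinLocFreeOfRank_sheaf g n)))
    exact Groth.LocFree.isExtPow_of_iso_left n e.symm (Groth.LocFree.isExtPow_pullback f hω)

end Groth.Agent.S13585

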