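import Groth.Statements.S13589
import Groth.Agent.DTenPro.Invertible
import Groth.Agent.S6942
import Mathlib.Algebra.Homology.DerivedCategory.FullyFaithful

set_option autoImplicit false
universe u
open CategoryTheory CategoryTheory.Limits MonoidalCategory
attribute [local instance] HasDerivedCategory.standard
open DTen

namespace Groth.Agent.S13589

open Groth.Agent.DTenPro

/-- Maps from the unit to a complex which is zero in degree zero vanish. -/
theorem eq_zero_of_isZero_X {A : Type u} [CommRing A] {E : DRing.Cx A} (hE : IsZero (E.X 0))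
    {Z : Dual.D A} (e : DerivedCategory.Q.obj E ≅ Z) (g : DTen.unit A ⟶ Z) : g = 0 := by
  have : (𝟙_ (DRing.Cx A)).IsKProjective :=
    Groth.DAlg.isKProjective_of_bounded (b := 0)
      (fun i hi => HomologicalComplex.isZero_single_obj_X (ComplexShape.up ℤ) 0 (𝟙_ (ModuleCat.{u} A)) i
        (by omega))
      fun i => by
        by_cases hi : i = 0
        · subst hi
          have : Module.Projective A (𝟙_ (ModuleCat.{u} A) : ModuleCat.{u} A) :=
            (Module.Projective.of_free : Module.Projective A A)
          exact Module.Projective.of_equiv (HomologicalComplex.singleObjXSelf (ComplexShape.up ℤ) 0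
            (𝟙_ (ModuleCat.{u} A))).toLinearEquiv.symm
        · have := ModuleCat.subsingleton_of_isZero (HomologicalComplex.isZero_single_obj_X
            (ComplexShape.up ℤ) 0 (𝟙_ (ModuleCat.{u} A)) i hi)
          exact Module.Projective.of_free
  obtain ⟨f, hf⟩ := Groth.DTenCalc.Q_map_surjective_of_isKProjective (𝟙_ (DRing.Cx A)) E (g ≫ e.inv)
  have hf0 : f = 0 := HomologicalComplex.from_single_hom_ext (hE.eq_of_tgt _ _)
  rw [hf0, Functor.map_zero] at hf
  rw [← cancel_mono e.inv, ← hf, zero_comp]

/-- Let `A` be a Noetherian commutative ring and `F` an `A`-linear triangulated equivalence from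
`D^b_{Coh}(A)` (the full subcategory of `D(A)` of objects with bounded cohomology consisting of
finite `A`-modules, a triangulated subcategory) to itself. Then `F(A)` is an invertible object of
`D(A)`: there is an object `L` with `F(A) ⊗^L L ≅ A` and `L ⊗^L F(A) ≅ A`. The membership of `A[0]`
in `D^b_{Coh}(A)` and the fact that this subcategory is triangulated are taken as (true) hypotheses.
(The published statement asks only for an `A`-linear equivalence of categories; this row takes the
equivalence compatible with shifts and distinguished triangles, which is what the published proof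
uses and how the result is applied.) -/
theorem result (A : Type u) [CommRing A]
    [IsNoetherianRing A] [DTen.HasLTen A] [DTen.KFlatComputes A]
    (P : ObjectProperty (Dual.D A))
    (hP : ∀ K : Dual.D A, P K ↔
      ((∀ i : ℤ, Module.Finite A (Dual.HD A K i)) ∧ ∃ a b : ℤ, ∀ i : ℤ, (i < a ∨ b < i) → Subsingleton (Dual.HD A K i)))
    [P.IsTriangulated]
    (F : P.FullSubcategory ⥤ P.FullSubcategory) [F.CommShift ℤ] [F.IsTriangulated] [F.IsEquivalence]
    [F.Additive] [F.Linear A]
    (hA : P (DTen.unit A)) :
    DTen.IsInvertible A (F.obj ⟨DTen.unit A, hA⟩).obj := by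
  let U : P.FullSubcategory := ⟨DTen.unit A, hA⟩
  let K := (F.obj U).obj
  let G := F ⋙ P.ι
  have hKP := (hP K).1 (F.obj U).property
  obtain ⟨hKfin, aK, bK, hKbd⟩ := hKP
  have hpc : DRing.IsPseudoCoherent' A K :=
    Groth.DAlg.isPseudoCoherent'_iff_isPC.2 fun m =>
      Groth.DAlg.isPseudoCoherent_iff.1 ((Groth.Agent.S6942.result A m K A).1.2
        ⟨⟨bK, fun i hi => hKbd i (Or.inr hi)⟩, fun i _ => hKfin i⟩)
  have hlift : ∀ (V : P.FullSubcategory) (g : K ⟶ (F.obj V).obj),
      ∃ g₀ : U ⟶ V, (F.map g₀).hom = g := fun V g => by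
    obtain ⟨g₀, hg₀⟩ := F.map_surjective (ObjectProperty.homMk g : F.obj U ⟶ F.obj V)
    exact ⟨g₀, by rw [hg₀]; rfl⟩
  have hGzero : ∀ {V W : P.FullSubcategory} (g₀ : V ⟶ W), g₀.hom = 0 → (F.map g₀).hom = 0 :=
    fun {V W} g₀ h => by
      have : g₀ = 0 := P.ι.map_injective (h.trans (P.ι.map_zero _ _).symm)
      rw [this, F.map_zero]
      rfl
  refine isInvertible_of_end K ?_ ?_ ?_
  · refine isPerfect_of_forall_hom_residue K hpc aK (fun i hi => hKbd i (Or.inl hi)) fun m hm => ?_
    let k : ModuleCat.{u} A := ModuleCat.of A (A ⧸ m)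
    have hX : P ((DerivedCategory.singleFunctor (ModuleCat.{u} A) 0).obj k) := by
      refine (hP _).2 ⟨fun i => ?_, 0, 0, fun i hi => ?_⟩
      · by_cases hi : i = 0
        · subst hi
          have : Module.Finite A ↑((𝟭 (ModuleCat.{u} A)).obj k) :=
            inferInstanceAs (Module.Finite A (A ⧸ m))
          exact Module.Finite.equiv
            (((DerivedCategory.singleFunctorCompHomologyFunctorIso (ModuleCat.{u} A) 0).app k).symm).toLinearEquiv
        · have : Subsingleton (Dual.HD A ((DerivedCategory.singleFunctor (ModuleCat.{u} A) 0).obj k) i) :=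
            (Groth.DAlg.HDEquiv ((HomologicalComplex.single (ModuleCat.{u} A) (ComplexShape.up ℤ) 0).obj k) i).toEquiv.subsingleton_congr.2
              (ModuleCat.subsingleton_of_isZero ((HomologicalComplex.exactAt_single_obj (ComplexShape.up ℤ) 0 k i hi).isZero_homology))
          infer_instance
      · exact (Groth.DAlg.HDEquiv ((HomologicalComplex.single (ModuleCat.{u} A) (ComplexShape.up ℤ) 0).obj k) i).toEquiv.subsingleton_congr.2
          (ModuleCat.subsingleton_of_isZero ((HomologicalComplex.exactAt_single_obj (ComplexShape.up ℤ) 0 k i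
            (by omega)).isZero_homology))
    let X₀ : P.FullSubcategory := ⟨_, hX⟩
    let Y := F.objPreimage X₀
    let eY := F.objObjPreimageIso X₀
    obtain ⟨-, aY, bY, hYbd⟩ := (hP _).1 Y.property
    obtain ⟨E, hE, ⟨eE⟩⟩ := Groth.DAlg.exists_rep hYbd
    refine ⟨-bY, fun n hn g => ?_⟩
    let s := ((DerivedCategory.singleFunctors (ModuleCat.{u} A)).shiftIso n 0 n (add_zero n)).app k
    let g₁ : (F.obj (U⟦n⟧)).obj ⟶ (F.obj Y).obj :=
      (G.commShiftIso n).hom.app U ≫ g⟦n⟧' ≫ s.hom ≫ P.ι.map eY.inv
    obtain ⟨g₀, hg₀⟩ := F.map_surjective (ObjectProperty.homMk g₁ : F.obj (U⟦n⟧) ⟶ F.obj Y)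
    have h0 : g₀.hom = 0 := by
      rw [← cancel_epi ((P.ι.commShiftIso n).inv.app U), comp_zero]
      apply (shiftFunctor (Dual.D A) (-n)).map_injective
      rw [← cancel_epi ((shiftFunctorCompIsoId (Dual.D A) n (-n) (add_neg_cancel n)).inv.app U.obj),
        Functor.map_zero, comp_zero]
      exact eq_zero_of_isZero_X (E := E⟦-n⟧) (hE (0 + -n) (Or.inr (by omega)))
        ((DerivedCategory.Q.commShiftIso (-n)).app E ≪≫ (shiftFunctor (Dual.D A) (-n)).mapIso eE) _
    have h1 : g₁ = 0 := by
      have := hGzero g₀ h0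
      rw [hg₀] at this
      exact this
    apply (shiftFunctor (Dual.D A) n).map_injective
    rw [← cancel_epi ((G.commShiftIso n).hom.app U), ← cancel_mono (s.hom ≫ P.ι.map eY.inv),
      Functor.map_zero, comp_zero, zero_comp, Category.assoc]
    exact h1
  · intro n hn g
    let g₁ : (F.obj U).obj ⟶ (F.obj (U⟦n⟧)).obj := g ≫ (G.commShiftIso n).inv.app U
    obtain ⟨g₀, hg₀⟩ := hlift _ g₁
    have h0 : g₀.hom = 0 := by
      rw [← cancel_mono ((P.ι.commShiftIso n).hom.app U), zero_comp]
      exact eq_zero_of_isZero_X (E := (𝟙_ (DRing.Cx A))⟦n⟧)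
        (HomologicalComplex.isZero_single_obj_X (ComplexShape.up ℤ) 0 (𝟙_ (ModuleCat.{u} A)) (0 + n) (by omega))
        ((DerivedCategory.Q.commShiftIso n).app (𝟙_ (DRing.Cx A))) _
    have h1 : g₁ = 0 := hg₀.symm.trans (hGzero g₀ h0)
    rw [← cancel_mono ((G.commShiftIso n).inv.app U), zero_comp]
    exact h1
  · have hu : Function.Bijective fun a : A => a • 𝟙 (DTen.unit A) := by
      let S := DerivedCategory.singleFunctor (ModuleCat.{u} A) 0
      have hS : Function.Bijective fun a : A => a • 𝟙 (S.obj (ModuleCat.of A A)) := by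
        have e : (fun a : A => a • 𝟙 (S.obj (ModuleCat.of A A))) =
            S.map ∘ fun a : A => a • 𝟙 (ModuleCat.of A A) := by
          funext a
          simp [Functor.map_smul]
        rw [e]
        refine Function.Bijective.comp ⟨S.map_injective, S.map_surjective⟩ ⟨fun a b h => ?_, fun f => ?_⟩
        · simpa using congrArg (fun t : ModuleCat.of A A ⟶ ModuleCat.of A A => t.hom (1 : A)) h
        · refine ⟨f.hom (1 : A), ModuleCat.hom_ext (LinearMap.ext_ring ?_)⟩
          simp
      exact hS
    have he : (fun a : A => a • 𝟙 K) =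
        (fun f : DTen.unit A ⟶ DTen.unit A => (F.map (ObjectProperty.homMk f : U ⟶ U)).hom) ∘
          fun a : A => a • 𝟙 (DTen.unit A) := by
      funext a
      have h : (ObjectProperty.homMk (a • 𝟙 (DTen.unit A)) : U ⟶ U) = a • 𝟙 U := rfl
      simp only [Function.comp_apply, h, F.map_smul, F.map_id]
      rfl
    rw [he]
    refine Function.Bijective.comp ⟨fun f f' h => ?_, fun f => ?_⟩ hu
    · have := F.map_injective (P.ι.map_injective h)
      exact congrArg (fun t => t.hom) this
    · obtain ⟨g₀, hg₀⟩ := hlift U f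
      exact ⟨g₀.hom, hg₀⟩

end Groth.Agent.S13589
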