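import Groth.Statements.S13596
import Mathlib.AlgebraicGeometry.Morphisms.Integral
import Mathlib.Algebra.Polynomial.Lifts
import Mathlib.RingTheory.IntegralClosure.IsIntegral.Basic

set_option autoImplicit false
universe u
open CategoryTheory AlgebraicGeometry
open SGA1

namespace Groth.Agent.S13596

/-- Let a finite group G act on a scheme X and let p : X ⟶ Y be a quotient of X by G (affine,
G-invariant, and identifying the sections of O_Y over every open with the G-invariant sections of
O_X over its preimage). Then p is an integral morphism. -/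
theorem result {X Y : Scheme.{u}} {G : Type u} [Group G] [Finite G]
    (ρ : G →* Aut X) (p : X ⟶ Y) (hp : SGA1.IsQuot ρ p) :
    IsIntegralHom p := by
  have := hp.affine
  refine { toIsAffineHom := hp.affine, isIntegral_app := fun U hU b => ?_ }
  have _ : Fintype G := Fintype.ofFinite G
  let φ : G → Γ(X, p ⁻¹ᵁ U) →+* Γ(X, p ⁻¹ᵁ U) := fun g =>
    ((ρ g).hom.appLE (p ⁻¹ᵁ U) (p ⁻¹ᵁ U) (preimage_le_of_inv ρ p hp.inv g U)).hom
  have hcomp : ∀ g h : G, ∀ x, φ h (φ g x) = φ (g * h) x := by
    intro g h x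
    simp only [φ]
    rw [← CommRingCat.comp_apply, Scheme.Hom.appLE_comp_appLE]
    have : (ρ (g * h)).hom = (ρ h).hom ≫ (ρ g).hom := by rw [map_mul]; rfl
    simp only [this]
  have hone : ∀ x, φ 1 x = x := by
    intro x
    simp only [φ]
    have h1 : (ρ (1 : G)).hom = 𝟙 X := by rw [map_one]; rfl
    have hgen : ∀ (f : X ⟶ X), f = 𝟙 X → ∀ e, (f.appLE (p ⁻¹ᵁ U) (p ⁻¹ᵁ U) e).hom x = x := by
      rintro f rfl e
      have h2 : (𝟙 X : X ⟶ X).appLE (p ⁻¹ᵁ U) (p ⁻¹ᵁ U) e = 𝟙 _ := by
        simp only [Scheme.Hom.appLE, Scheme.Hom.id_app, Category.id_comp]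
        exact (congrArg X.presheaf.map (Subsingleton.elim _ (𝟙 _))).trans (X.presheaf.map_id _)
      rw [h2]; rfl
    exact hgen _ h1 _
  let P : Polynomial Γ(X, p ⁻¹ᵁ U) := ∏ g : G, (Polynomial.X - Polynomial.C (φ g b))
  have hP : P.Monic := Polynomial.monic_prod_of_monic _ _ fun g _ => Polynomial.monic_X_sub_C _
  have hroot : P.eval b = 0 := by
    simp only [P, Polynomial.eval_prod]
    exact Finset.prod_eq_zero (Finset.mem_univ (1 : G)) (by simp [hone])
  have hinv : ∀ h : G, P.map (φ h) = P := by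
    intro h
    simp only [P, Polynomial.map_prod, Polynomial.map_sub, Polynomial.map_X, Polynomial.map_C,
      hcomp]
    exact Equiv.prod_comp (Equiv.mulRight h) (fun g => Polynomial.X - Polynomial.C (φ g b))
  have hlift : P ∈ Polynomial.lifts (p.app U).hom := by
    rw [Polynomial.lifts_iff_coeff_lifts]
    intro n
    rw [hp.range_iff]
    intro g
    change φ g (P.coeff n) = P.coeff n
    rw [← Polynomial.coeff_map, hinv]
  obtain ⟨q, hq, -, hqm⟩ := Polynomial.lifts_and_natDegree_eq_and_monic hlift hP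
  refine ⟨q, hqm, ?_⟩
  rw [Polynomial.eval₂_eq_eval_map, hq, hroot]

end Groth.Agent.S13596
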