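import Groth.Statements.S13597
import Groth.Agent.Pi1Quot.Residue

set_option autoImplicit false
universe u
open CategoryTheory AlgebraicGeometry
open SGA1

namespace Groth.Agent.S13597

/-- Let a finite group G act on a scheme X and let p : X ⟶ Y be a quotient of X by G (affine,
G-invariant, sections of O_Y = G-invariant sections of O_X). For a point x of X with image y, the
residue field κ(x) is a normal algebraic extension of κ(y) through the map induced by p, and the
stabilizer of x in G maps onto the group of κ(y)-automorphisms of κ(x): every automorphism τ of κ(x)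
over κ(y) is the map on residue fields induced by some g ∈ G with g·x = x (composed with the
identification of the residue fields at g·x and x). -/
theorem result {X Y : Scheme.{u}} {G : Type u}
    [Group G] [Finite G] (ρ : G →* Aut X) (p : X ⟶ Y) (hp : SGA1.IsQuot ρ p) (x : X) :
    (letI := (p.residueFieldMap x).hom.toAlgebra
     Normal (Y.residueField (p.base x)) (X.residueField x)) ∧
    ∀ τ : X.residueField x ≅ X.residueField x,
      p.residueFieldMap x ≫ τ.hom = p.residueFieldMap x →
      ∃ (g : G) (e : (ρ g).hom.base x = x),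
        τ.hom = (X.residueFieldCongr e).inv ≫ (ρ g).hom.residueFieldMap x := by
  have key : ∀ (Ω : Type u) [Field Ω] (a b : X.residueField x ⟶ CommRingCat.of Ω),
      p.residueFieldMap x ≫ a = p.residueFieldMap x ≫ b →
      ∃ (g : G) (e : (ρ g).hom.base x = x),
        b = ((X.residueFieldCongr e).inv ≫ (ρ g).hom.residueFieldMap x) ≫ a := by
    intro Ω _ a b hab
    have hpp : (Spec.map a ≫ X.fromSpecResidueField x) ≫ p = (Spec.map b ≫ X.fromSpecResidueField x) ≫ p := by
      rw [Category.assoc, Category.assoc, ← Scheme.Hom.SpecMap_residueFieldMap_fromSpecResidueField,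
        ← Spec.map_comp_assoc, ← Spec.map_comp_assoc, hab]
    obtain ⟨g, hg⟩ := Groth.Pi1Quot.exists_fieldPoint_smul hp _ _ hpp
    have e : (ρ g).hom.base x = x := by
      have h1 := congrArg (fun f => f.base default) hg
      simp only [Category.assoc, Scheme.Hom.comp_apply, Scheme.fromSpecResidueField_apply] at h1
      exact h1
    refine ⟨g, e, ?_⟩
    have hfrom : X.fromSpecResidueField ((ρ g).hom.base x) =
        Spec.map (X.residueFieldCongr e).inv ≫ X.fromSpecResidueField x := by
      rw [← X.residueFieldCongr_fromSpecResidueField e, ← Spec.map_comp_assoc,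
        Iso.hom_inv_id, Spec.map_id, Category.id_comp]
    apply Spec.map_injective
    rw [← cancel_mono (X.fromSpecResidueField x), ← hg, Spec.map_comp, Spec.map_comp, Category.assoc,
      Category.assoc, Category.assoc, ← hfrom, Scheme.Hom.SpecMap_residueFieldMap_fromSpecResidueField]
  refine ⟨?_, fun τ hτ => ?_⟩
  · letI := (p.residueFieldMap x).hom.toAlgebra
    haveI := Groth.Pi1Quot.isAlgebraic_residueField hp x
    let K := Y.residueField (p.base x)
    let L := X.residueField x
    let Ω := AlgebraicClosure L
    let σ₀ : L →ₐ[K] Ω := IsScalarTower.toAlgHom K L Ω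
    haveI : Algebra.IsAlgebraic K Ω := Algebra.IsAlgebraic.trans K L Ω
    haveI : IsAlgClosure K Ω := ⟨inferInstance, inferInstance⟩
    haveI : Normal K Ω := IsAlgClosure.normal K Ω
    have hle : ∀ σ σ' : L →ₐ[K] Ω, σ'.fieldRange ≤ σ.fieldRange := by
      intro σ σ'
      obtain ⟨g, e, hge⟩ := key Ω (CommRingCat.ofHom σ.toRingHom) (CommRingCat.ofHom σ'.toRingHom)
        (CommRingCat.hom_ext (RingHom.ext fun z => (σ.commutes z).trans (σ'.commutes z).symm))
      rintro _ ⟨z, rfl⟩
      exact ⟨((X.residueFieldCongr e).inv ≫ (ρ g).hom.residueFieldMap x).hom z,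
        (RingHom.congr_fun (congrArg CommRingCat.Hom.hom hge) z).symm⟩
    haveI : Normal K σ₀.fieldRange := by
      refine (IntermediateField.normal_iff_forall_fieldRange_eq (L := Ω)).2 fun τ => ?_
      have := le_antisymm (hle σ₀ (τ.comp σ₀.rangeRestrict)) (hle (τ.comp σ₀.rangeRestrict) σ₀)
      refine le_antisymm ?_ (this.symm.le.trans ?_)
      · rintro _ ⟨⟨_, z, rfl⟩, rfl⟩
        exact this.le ⟨z, rfl⟩
      · rintro _ ⟨z, rfl⟩
        exact ⟨σ₀.rangeRestrict z, rfl⟩
    let e' : σ₀.fieldRange ≃ₐ[K] L := (AlgEquiv.ofInjectiveField σ₀).symm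
    exact Normal.of_algEquiv e'
  · obtain ⟨g, e, h⟩ := key (X.residueField x) (𝟙 _) τ.hom (by rw [hτ, Category.comp_id])
    exact ⟨g, e, h.trans (Category.comp_id _)⟩

end Groth.Agent.S13597
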