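import Groth.Statements.S13598
import Groth.Agent.HensPair.Basic

set_option autoImplicit false
universe u
open Hensel

namespace Groth.Agent.S13598

/-- For a local ring A, a henselization A ⟶ S of A (S a henselian local ring, the structure map local,
and initial among local homomorphisms from A to henselian local rings) and an ideal I of A inside
the maximal ideal, the quotient S/IS with its induced algebra structure over A/I is a henselization
of A/I. (The local-ring and local-homomorphism instances on the quotients hold automatically; they
are taken as hypotheses only so that the conclusion can be stated.) -/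
theorem result {A S : Type u} [CommRing A] [IsLocalRing A] [CommRing S]
    [IsLocalRing S] [Algebra A S] [IsLocalHom (algebraMap A S)] [Hensel.IsHenselization A S]
    (I : Ideal A) (hI : I ≤ IsLocalRing.maximalIdeal A)
    [IsLocalRing (A ⧸ I)] [IsLocalRing (S ⧸ I.map (algebraMap A S))]
    [IsLocalHom (algebraMap (A ⧸ I) (S ⧸ I.map (algebraMap A S)))] :
    Hensel.IsHenselization (A ⧸ I) (S ⧸ I.map (algebraMap A S)) := by
  have hS := Hensel.IsHenselization.henselian (R := A) (S := S)
  have hne : I.map (algebraMap A S) ≠ ⊤ := Ideal.Quotient.nontrivial_iff.1 inferInstance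
  refine ⟨Groth.HensPair.henselianLocalRing_quotient _ hne, fun T _ _ f hf => ?_⟩
  have : IsLocalHom (Ideal.Quotient.mk I) := .of_surjective _ Ideal.Quotient.mk_surjective
  obtain ⟨g, hg, hu⟩ := Hensel.IsHenselization.universal (R := A) (S := S) T
    (f.comp (Ideal.Quotient.mk I)) inferInstance
  have hker : ∀ a ∈ I.map (algebraMap A S), g a = 0 := by
    intro a ha
    have : I.map (algebraMap A S) ≤ RingHom.ker g := by
      rw [Ideal.map_le_iff_le_comap]
      intro x hx
      have := RingHom.congr_fun hg x
      simp only [RingHom.comp_apply] at this
      simp [RingHom.mem_ker, this, Ideal.Quotient.eq_zero_iff_mem.2 hx]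
    exact this ha
  refine ⟨Ideal.Quotient.lift _ g hker, ?_, fun g' hg' => ?_⟩
  · refine Ideal.Quotient.ringHom_ext (RingHom.ext fun x => ?_)
    exact RingHom.congr_fun hg x
  · refine Ideal.Quotient.ringHom_ext (RingHom.ext fun x => ?_)
    have := hu (g'.comp (Ideal.Quotient.mk _)) (RingHom.ext fun y =>
      RingHom.congr_fun hg' (Ideal.Quotient.mk I y))
    exact RingHom.congr_fun this x

end Groth.Agent.S13598
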