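import Groth.Statements.S13599
import Groth.Agent.Cycles.NormalFieldBC
-- import your own Groth.Agent.* helpers here

set_option autoImplicit false
universe u
open CategoryTheory AlgebraicGeometry
open CategoryTheory.Limits
open Cyc

namespace Groth.Agent.S13599

/-- Let k be a field, X a separated k-scheme of finite type, and k' a finite normal extension field of
k, with G the group of k-automorphisms of k'; put X' = X ×_k Spec k' with first projection p. The
group G acts on X' over X (σ acts through Spec σ on the second factor). If Z' is a cycle on X' (an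
integer-valued function on the points of X' with locally finite support) invariant under every σ ∈
G, then there is exactly one cycle Z on X with [k' : k]_insep · Z' = p^*Z, where [k' : k]_insep is
the inseparable degree and p^*Z is the flat pullback of cycles along p: its coefficient at x' is Z(p
x') times the length of the Artinian local ring O_{X',x'}/𝔪_{p x'}O_{X',x'} (p has discrete fibres,
so there is no dimension condition; the two auxiliary dimension functions are taken to be zero). -/
theorem result
    {k : Type u} [Field k] {k' : Type u} [Field k'] [Algebra k k'] [FiniteDimensional k k'] [Normal k k']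
    {X : Scheme.{u}} (f : X ⟶ Spec (CommRingCat.of k)) [LocallyOfFiniteType f] [QuasiCompact f]
    [IsSeparated f]
    (Z' : AlgebraicCycle (pullback f (Spec.map (CommRingCat.ofHom (algebraMap k k')))) ℤ)
    (hZ' : ∀ (σ : k' ≃ₐ[k] k')
      (t : pullback f (Spec.map (CommRingCat.ofHom (algebraMap k k'))) ⟶
        pullback f (Spec.map (CommRingCat.ofHom (algebraMap k k')))),
      t ≫ pullback.fst f _ = pullback.fst f _ →
      t ≫ pullback.snd f _ = pullback.snd f _ ≫ Spec.map (CommRingCat.ofHom σ.toAlgHom.toRingHom) →
      ∀ x', Z' (t.base x') = Z' x') :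
    ∃! Z : AlgebraicCycle X ℤ, ∀ x' : ↥(pullback f (Spec.map (CommRingCat.ofHom (algebraMap k k')))),
      (Field.finInsepDegree k k' : ℤ) * Z' x' =
        Cyc.pullFun (pullback.fst f (Spec.map (CommRingCat.ofHom (algebraMap k k'))))
          (fun _ => 0) (fun _ => 0) 0 ⇑Z x' := by
  classical
  obtain ⟨e, he, hlen, horb⟩ := Groth.Cycles.NormalBC.exists_mult k k' f
  let g := Spec.map (CommRingCat.ofHom (algebraMap k k'))
  let π := pullback.fst f g
  haveI : Surjective g := ⟨fun z => ⟨default, Subsingleton.elim _ _⟩⟩
  haveI : Surjective π := MorphismProperty.pullback_fst (P := @Surjective) _ _ inferInstance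
  haveI : IsFinite g := (IsFinite.SpecMap_iff _).2 (RingHom.finite_algebraMap.2 inferInstance)
  haveI : IsFinite π := MorphismProperty.pullback_fst (P := @IsFinite) _ _ inferInstance
  choose sec hsec using π.surjective
  have hconst : ∀ a b, π a = π b → Z' a = Z' b := fun a b hab => by
    obtain ⟨σ, t, h1, h2, rfl⟩ := horb a b hab
    exact (hZ' σ t h1 h2 a).symm
  let i := Field.finInsepDegree k k'
  let Zf : X → ℤ := fun x => ((i / e x : ℕ) : ℤ) * Z' (sec x)
  let Z : AlgebraicCycle X ℤ :=
    ⟨Zf, by simp, fun z _ => by
      obtain ⟨_, ⟨U, hU, rfl⟩, hzU, -⟩ :=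
        X.isBasis_affineOpens.exists_subset_of_mem_open (Set.mem_univ z) isOpen_univ
      refine ⟨U, U.2.mem_nhds hzU, ?_⟩
      have hfin := Z'.locallyFiniteSupport.finite_inter_support_of_isCompact (π.isCompact_preimage hU.isCompact)
      refine (hfin.image π).subset ?_
      rintro x ⟨hxU, hx⟩
      refine ⟨sec x, ⟨show π (sec x) ∈ U by rw [hsec]; exact hxU, right_ne_zero_of_mul hx⟩, hsec x⟩⟩
  have hpull : ∀ (W : X → ℤ) x', Cyc.pullFun π (fun _ => 0) (fun _ => 0) 0 W x' = W (π x') * (e (π x') : ℤ) := by
    intro W x'
    unfold Cyc.pullFun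
    rw [if_pos (by simp)]
    have h := congrArg ENat.toNat (hlen x')
    rw [Groth.FlatMor2.fibLength, ENat.toNat_natCast] at h
    rw [h]
  refine ⟨Z, fun x' => ?_, fun W hW => ?_⟩
  · show (i : ℤ) * Z' x' = Cyc.pullFun π (fun _ => 0) (fun _ => 0) 0 Zf x'
    rw [hpull, hconst x' (sec (π x')) (hsec _).symm]
    show _ = ((i / e (π x') : ℕ) : ℤ) * _ * _
    conv_lhs => rw [show i = i / e (π x') * e (π x') from (Nat.div_mul_cancel (he (π x')).2).symm, Nat.cast_mul]
    ring
  · refine DFunLike.ext _ _ fun x => ?_
    have h := hW (sec x)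
    rw [hpull, hsec] at h
    show W x = ((i / e x : ℕ) : ℤ) * Z' (sec x)
    have hne : (e x : ℤ) ≠ 0 := by exact_mod_cast (he x).1.ne'
    apply mul_right_cancel₀ hne
    rw [← h]
    conv_lhs => rw [show Field.finInsepDegree k k' = i / e x * e x from (Nat.div_mul_cancel (he x).2).symm, Nat.cast_mul]
    ring

end Groth.Agent.S13599
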