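import Groth.Statements.S13601
import Groth.Agent.Misc5Sym.Sections
import Groth.Agent.Misc8.SymOrbit
import Mathlib.AlgebraicGeometry.Morphisms.Flat

set_option autoImplicit false
universe u
open CategoryTheory AlgebraicGeometry
open SymProd

set_option backward.isDefEq.respectTransparency false

namespace Groth.Agent.S13601

/-- Let f : X ⟶ S be a flat morphism of schemes such that every finite set of points of X lying over a
single point of S is contained in an affine open of X, let n ≥ 0, and let (Y, q, g) be an n-th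
symmetric power of X over S: q : X ×_S ⋯ ×_S X ⟶ Y (n factors) is a quotient by the symmetric group
on n letters permuting the factors (affine, invariant, identifying sections of O_Y with invariant
sections) and g : Y ⟶ S satisfies q ≫ g = the structure map of the fibre power. Then g is flat. -/
theorem result {X S Y : Scheme.{u}} (f : X ⟶ S) [Flat f]
    (hAF : SymProd.IsAF f) (n : ℕ) (q : SymProd.fibPow f n ⟶ Y) (g : Y ⟶ S)
    (hq : SymProd.IsSymProd f n q g) : Flat g := by
  classical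
  have hp := hq.isQuot
  refine (HasRingHomProperty.iff_exists_appLE (P := @Flat)
    (RingHom.Flat.stableUnderComposition.stableUnderCompositionWithLocalizationAway
      RingHom.Flat.holdsForLocalizationAway).left).2 fun y => ?_
  obtain ⟨x, rfl⟩ := (Groth.Pi1Quot.surjective hp).surj y
  obtain ⟨_, ⟨V, hV, rfl⟩, hxV, -⟩ := S.isBasis_affineOpens.exists_subset_of_mem_open
    (Set.mem_univ ((Limits.WidePullback.base (fun _ : Fin n => f)).base x)) isOpen_univ
  obtain ⟨U, hU, hUV, W', hxW', hW', hpre⟩ := Groth.Misc5Sym.exists_chart_image f n hp hAF x hV hxV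
  have hmem : ∀ z, z ∈ q ⁻¹ᵁ W' ↔ (∀ i, (Limits.WidePullback.π (fun _ : Fin n => f) i).base z ∈ U) ∧
      (Limits.WidePullback.base (fun _ : Fin n => f)).base z ∈ V := fun z => by
    rw [hpre]; exact Groth.Misc5Sym.mem_chartOpen f n U V
  have e : W' ≤ g ⁻¹ᵁ V := by
    intro y hy
    obtain ⟨z, rfl⟩ := (Groth.Pi1Quot.surjective hp).surj y
    have := ((hmem z).1 hy).2
    rw [← hq.over] at this
    exact this
  have hWV : q ⁻¹ᵁ W' ≤ (Limits.WidePullback.base (fun _ : Fin n => f)) ⁻¹ᵁ V := fun z hz => ((hmem z).1 hz).2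
  have hWU : ∀ i, q ⁻¹ᵁ W' ≤ (Limits.WidePullback.π (fun _ : Fin n => f) i) ⁻¹ᵁ U := fun i z hz => ((hmem z).1 hz).1 i
  haveI := hp.affine
  have hW : IsAffineOpen (q ⁻¹ᵁ W') := hW'.preimage q
  refine ⟨⟨V, hV⟩, ⟨W', hW'⟩, hxW', e, ?_⟩
  letI := Groth.Misc5Sym.algU f hUV
  letI := Groth.Misc5Sym.algW f hWV
  haveI : Module.Flat Γ(S, V) Γ(X, U) := Flat.flat_appLE f hV hU hUV
  letI : Algebra Γ(S, V) Γ(Y, W') := (g.appLE V W' e).hom.toAlgebra
  change Module.Flat Γ(S, V) Γ(Y, W')
  obtain ⟨Φ, hΦ⟩ := Groth.Misc5Sym.exists_algEquiv_sections f hUV hWV hWU hU hV hW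
    (fun z h1 h2 => (hmem z).2 ⟨h1, h2⟩)
  let qW : Γ(Y, W') →ₐ[Γ(S, V)] Γ(SymProd.fibPow f n, q ⁻¹ᵁ W') :=
    { (q.app W').hom with
      commutes' := fun r => by
        show (g.appLE V W' e ≫ q.app W') r = _
        rw [← Scheme.Hom.appLE_eq_app, Scheme.Hom.appLE_comp_appLE,
          Groth.Pi1Quot.appLE_congr_hom hq.over V (q ⁻¹ᵁ W') _ hWV]
        rfl }
  let L : Γ(Y, W') →ₗ[Γ(S, V)] Groth.Misc8.FlatTensor.T Γ(S, V) n Γ(X, U) :=
    Φ.symm.toLinearMap ∘ₗ qW.toLinearMap
  have hL : Function.Injective L := Φ.symm.injective.comp (hp.injective W')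
  have hrange : LinearMap.range L = Groth.Misc8.SymOrbit.Sym Γ(S, V) Γ(X, U) n := by
    ext t
    have hperm := fun σ : ULift.{u} (Equiv.Perm (Fin n)) => Groth.Misc5Sym.sections_perm f hUV hWV hWU hW σ.down
      (SGA1.preimage_le_of_inv (SymProd.permActU f n) q hp.inv σ W') Φ hΦ t
    rw [Groth.Misc8.SymOrbit.mem_Sym]
    constructor
    · rintro ⟨b, rfl⟩ σ
      have h : q.app W' b = Φ (L b) := (Φ.apply_symm_apply _).symm
      have h' := (hperm ⟨σ.symm⟩).symm.trans
        (h ▸ (hp.range_iff W' _).1 ⟨b, rfl⟩ ⟨σ.symm⟩)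
      simpa using Φ.injective h'
    · intro ht
      obtain ⟨b, hb⟩ := (hp.range_iff W' (Φ t)).2 fun σ => (hperm σ).trans (congrArg Φ (ht σ.down.symm))
      exact ⟨b, show Φ.symm (qW b) = t from Φ.symm_apply_eq.2 hb⟩
  haveI := Groth.Misc8.SymOrbit.flat (R := Γ(S, V)) (M := Γ(X, U)) n
  exact Module.Flat.of_linearEquiv ((LinearEquiv.ofInjective L hL).trans (LinearEquiv.ofEq _ _ hrange))

end Groth.Agent.S13601
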