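import Groth.Statements.S13602
import Groth.Agent.Misc5Sym.Chart

set_option autoImplicit false
universe u
open CategoryTheory AlgebraicGeometry
open SymProd

namespace Groth.Agent.S13602

/-- Let f : X ⟶ S be a morphism of schemes satisfying (AF): every finite set of points of X over a
single point of S lies in an affine open of X. Then for every d ≥ 0 and every point x of the d-fold
fibre power X ×_S ⋯ ×_S X, some affine open of the fibre power contains the whole orbit of x under
the symmetric group on d letters permuting the factors. (With the existence of a quotient by a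
finite group whose orbits lie in affine opens, this is the existence of the symmetric power
Sym^d(X/S) for X/S satisfying (AF).) -/
theorem result {X S : Scheme.{u}} (f : X ⟶ S) (hAF : SymProd.IsAF f)
    (d : ℕ) (x : ↥(SymProd.fibPow f d)) :
    ∃ U : (SymProd.fibPow f d).Opens, IsAffineOpen U ∧
      ∀ σ : Equiv.Perm (Fin d), (SymProd.permHom f d σ).base x ∈ U := by
  classical
  rcases Nat.eq_zero_or_pos d with rfl | hd
  · obtain ⟨U, hU⟩ := TopologicalSpace.Opens.mem_iSup.1
      ((iSup_affineOpens_eq_top (SymProd.fibPow f 0)).symm ▸ TopologicalSpace.Opens.mem_top x)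
    refine ⟨U, U.2, fun σ => ?_⟩
    obtain rfl : σ = 1 := Subsingleton.elim _ _
    rw [SymProd.permHom_one]
    exact hU
  · obtain ⟨V, hV⟩ := TopologicalSpace.Opens.mem_iSup.1
      ((iSup_affineOpens_eq_top S).symm ▸ TopologicalSpace.Opens.mem_top ((Limits.WidePullback.base (fun _ : Fin d => f)).base x))
    obtain ⟨U, hU, hUV, hxU⟩ := Groth.Misc5Sym.exists_chart f hAF x hV
    refine ⟨Groth.Misc5Sym.powOpen f d U, Groth.Misc5Sym.isAffineOpen_powOpen f hd hU V.2 hUV, fun σ => ?_⟩
    show x ∈ SymProd.permHom f d σ ⁻¹ᵁ Groth.Misc5Sym.powOpen f d U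
    rw [Groth.Misc5Sym.perm_preimage_powOpen]
    exact hxU

end Groth.Agent.S13602
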