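import Groth.Statements.S13603
import Mathlib

set_option autoImplicit false
universe u v
open CAlg

namespace Groth.Agent.S13603

/-- Let a group G act on a commutative ring B by ring automorphisms so that every element of B has a
finite orbit, and let S ⊆ B be a multiplicative set of G-fixed elements (so each g ∈ G induces an
endomorphism of the localization S⁻¹B; the hypothesis that g maps S into S is implied by the
previous one and is only carried to name that endomorphism). Then an element of S⁻¹B is fixed by all
of G if and only if it is a fraction b/s with b fixed by G and s ∈ S: the canonical map S⁻¹(B^G) →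
(S⁻¹B)^G is onto. -/
theorem result {B : Type u} [CommRing B]
    {G : Type v} [Group G] [MulSemiringAction G B] (hfin : ∀ b : B, (MulAction.orbit G b).Finite)
    (S : Submonoid B) (hS : ∀ (g : G) (s : B), s ∈ S → g • s = s)
    (hS' : ∀ g : G, S ≤ S.comap (MulSemiringAction.toRingHom G B g)) (x : Localization S) :
    (∀ g : G, IsLocalization.map (Localization S) (MulSemiringAction.toRingHom G B g) (hS' g) x = x) ↔
      ∃ (b : B) (s : S), (∀ g : G, g • b = b) ∧ x = IsLocalization.mk' (Localization S) b s := by
  classical
  have hg : ∀ (g : G) (b : B) (s : S), IsLocalization.map (Localization S) (MulSemiringAction.toRingHom G B g) (hS' g)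
      (IsLocalization.mk' (Localization S) b s) = IsLocalization.mk' (Localization S) (g • b) s := by
    intro g b s
    rw [IsLocalization.map_mk']
    congr 1
    exact Subtype.ext (hS g s s.2)
  constructor
  · intro h
    obtain ⟨b, s, rfl⟩ := IsLocalization.exists_mk'_eq S x
    have h1 : ∀ o ∈ (hfin b).toFinset, ∃ t : S, (t : B) * o = t * b := by
      intro o ho
      obtain ⟨g, rfl⟩ := (Set.Finite.mem_toFinset _).1 ho
      have := h g
      rw [hg, IsLocalization.mk'_eq_iff_eq] at this
      obtain ⟨c, hc⟩ := (IsLocalization.eq_iff_exists S _).1 this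
      refine ⟨c * s, ?_⟩
      simpa [mul_assoc] using hc
    choose t ht using h1
    set T : S := ∏ o ∈ (hfin b).toFinset.attach, t o.1 o.2 with hT
    refine ⟨T * b, T * s, fun g => ?_, ?_⟩
    · rw [smul_mul', hS g T T.2]
      have hm : g • b ∈ (hfin b).toFinset := (Set.Finite.mem_toFinset _).2 ⟨g, rfl⟩
      rw [hT, ← Finset.mul_prod_erase _ _ (Finset.mem_attach _ ⟨_, hm⟩)]
      simp only [Submonoid.coe_mul]
      rw [mul_comm ((t _ hm : B)), mul_assoc, mul_assoc, ht _ hm]
    · rw [IsLocalization.mk'_eq_iff_eq]
      congr 1
      push_cast
      ring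
  · rintro ⟨b, s, hb, rfl⟩ g
    rw [hg, hb]

end Groth.Agent.S13603
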