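import Groth.Statements.S13608
import Mathlib

set_option autoImplicit false
universe u v
open CAlg

namespace Groth.Agent.S13608

/-- Let A be a commutative ring, I a finitely generated ideal of A and (M_n) an inverse system of
A-modules with transition maps f_n : M_(n+1) → M_n such that I^(n+1) M_n = 0 for every n. If L is an
inverse limit of the system (projections π_n compatible with the f_n, jointly injective, and such
that every compatible family of elements lifts to L), then L is complete and separated for the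
I-adic topology. No surjectivity of the transition maps is assumed. -/
theorem result
    (A : Type u) [CommRing A] (I : Ideal A) (hI : I.FG)
    (M : ℕ → Type v) [∀ n, AddCommGroup (M n)] [∀ n, Module A (M n)]
    (f : ∀ n, M (n + 1) →ₗ[A] M n)
    (hkill : ∀ n, I ^ (n + 1) • (⊤ : Submodule A (M n)) = ⊥)
    (L : Type v) [AddCommGroup L] [Module A L] (π : ∀ n, L →ₗ[A] M n)
    (hπ : ∀ n, f n ∘ₗ π (n + 1) = π n)
    (hinj : ∀ x : L, (∀ n, π n x = 0) → x = 0)
    (hlift : ∀ y : (∀ n, M n), (∀ n, f n (y (n + 1)) = y n) → ∃ x : L, ∀ n, π n x = y n) :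
    IsAdicComplete I L := by
  classical
  have hk : ∀ m k, m < k → ∀ x ∈ (I ^ k • ⊤ : Submodule A L), π m x = 0 := by
    intro m k hmk x hx
    have h := Submodule.mem_map_of_mem (f := π m) hx
    rw [Submodule.map_smul''] at h
    have h' := Submodule.smul_mono (Ideal.pow_le_pow_right (I := I) (Nat.succ_le_of_lt hmk)) le_top h
    rwa [hkill, Submodule.mem_bot] at h'
  have conv : ∀ z : ℕ → L, (∀ k, z k ∈ (I ^ k • ⊤ : Submodule A L)) →
      ∃ w : L, ∀ m, π m w = π m (∑ k ∈ Finset.range (m + 1), z k) := by
    intro z hz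
    refine hlift (fun m => π m (∑ k ∈ Finset.range (m + 1), z k)) fun m => ?_
    rw [← LinearMap.comp_apply, hπ, Finset.sum_range_succ, map_add, hk m (m+1) (Nat.lt_succ_self m) _ (hz _), add_zero]
  have decomp : ∀ (S : Finset A) (N : Submodule A L) (x : L), x ∈ Ideal.span (S : Set A) • N →
      ∃ z : A → L, (∀ g, z g ∈ N) ∧ x = ∑ g ∈ S, g • z g := by
    intro S N x hx
    induction hx using Submodule.smul_induction_on' with
    | smul r hr y hy =>
      obtain ⟨c, -, hc⟩ := Submodule.mem_span_finset.1 hr
      exact ⟨fun g => c g • y, fun g => N.smul_mem _ hy, by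
        rw [← hc, Finset.sum_smul]; exact Finset.sum_congr rfl fun g _ => by rw [smul_eq_mul, mul_comm, mul_smul]⟩
    | add x _ y _ hx hy =>
      obtain ⟨a, ha, rfl⟩ := hx; obtain ⟨b, hb, rfl⟩ := hy
      exact ⟨a + b, fun g => N.add_mem (ha g) (hb g), by simp [smul_add, Finset.sum_add_distrib]⟩
  haveI : IsHausdorff I L := ⟨fun x hx => hinj x fun m => hk m (m+1) (Nat.lt_succ_self m) x (SModEq.zero.1 (hx _))⟩
  haveI : IsPrecomplete I L := by
    refine ⟨fun F hF => ?_⟩
    have hd : ∀ n, F (n+1) - F n ∈ (I ^ n • ⊤ : Submodule A L) := fun n => by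
      simpa using neg_mem (SModEq.sub_mem.1 (hF (Nat.le_succ n)))
    obtain ⟨x, hx⟩ := hlift (fun m => π m (F (m+1))) fun m => by
      rw [← LinearMap.comp_apply, hπ, ← sub_eq_zero, ← map_sub]
      exact hk m (m+1) (Nat.lt_succ_self m) _ (hd _)
    refine ⟨x, fun n => ?_⟩
    rw [SModEq.sub_mem]
    obtain ⟨S, hS⟩ := Submodule.FG.pow hI n
    rw [← neg_mem_iff, neg_sub]
    have h1 : ∀ k, F (n + k + 1) - F (n + k) ∈ Ideal.span (S : Set A) • (I ^ k • ⊤ : Submodule A L) := fun k => by
      rw [show Ideal.span (S : Set A) = I ^ n from hS, ← Submodule.mul_smul, ← pow_add]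
      exact hd (n+k)
    choose z hz hzs using fun k => decomp S _ _ (h1 k)
    choose w hw using fun g => conv (fun k => z k g) (fun k => hz k g)
    have : x - F n = ∑ g ∈ S, g • w g := by
      rw [← sub_eq_zero]
      refine hinj _ fun m => ?_
      have e : π m (∑ g ∈ S, g • w g) = π m (F (n + (m + 1)) - F n) := by
        simp only [map_sum, LinearMap.map_smul, hw]
        simp only [← LinearMap.map_smul, ← map_sum, Finset.smul_sum]
        rw [Finset.sum_comm]
        simp only [← hzs]
        congr 1
        exact Finset.sum_range_sub (fun k => F (n + k)) (m+1)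
      have e2 : π m (F (n + (m + 1))) = π m (F (m+1)) := by
        rw [← sub_eq_zero, ← map_sub]
        exact hk m (m+1) (Nat.lt_succ_self m) _ (SModEq.sub_mem.1 (hF (show m+1 ≤ n + (m+1) by omega)).symm)
      simp [map_sub, e, hx, e2]
    rw [this, show I ^ n = Ideal.span (S : Set A) from hS.symm]
    exact Submodule.sum_mem _ fun g hg => Submodule.smul_mem_smul (Ideal.subset_span hg) trivial
  exact {}

end Groth.Agent.S13608
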