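import Groth.Statements.S13609

set_option autoImplicit false
universe u v
open CAlg

namespace Groth.Agent.S13609

/-- A direct summand of a module that is complete and separated for the I-adic topology is again
complete and separated: for a commutative ring A, an ideal I and A-modules M₁, M₂, if M₁ × M₂ is
I-adically complete then so is M₁. -/
theorem result (A : Type u) [CommRing A] (I : Ideal A)
    (M₁ M₂ : Type v) [AddCommGroup M₁] [Module A M₁] [AddCommGroup M₂] [Module A M₂]
    [IsAdicComplete I (M₁ × M₂)] : IsAdicComplete I M₁ := by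
  have hinl : ∀ n, ∀ x ∈ (I ^ n • ⊤ : Submodule A M₁), (x, (0:M₂)) ∈ (I ^ n • ⊤ : Submodule A (M₁ × M₂)) :=
    fun n x hx => (Submodule.map_smul'' (I ^ n) ⊤ (LinearMap.inl A M₁ M₂) ▸
      Submodule.smul_mono le_rfl le_top) (Submodule.mem_map_of_mem hx)
  have hfst : ∀ n, ∀ z ∈ (I ^ n • ⊤ : Submodule A (M₁ × M₂)), z.1 ∈ (I ^ n • ⊤ : Submodule A M₁) :=
    fun n z hz => (Submodule.map_smul'' (I ^ n) ⊤ (LinearMap.fst A M₁ M₂) ▸
      Submodule.smul_mono le_rfl le_top) (Submodule.mem_map_of_mem hz)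
  haveI : IsHausdorff I M₁ := ⟨fun x hx => by
    have := IsHausdorff.haus' (I := I) ((x, 0) : M₁ × M₂) fun n => SModEq.zero.2 (hinl n x (SModEq.zero.1 (hx n)))
    exact (Prod.ext_iff.1 this).1⟩
  haveI : IsPrecomplete I M₁ := ⟨fun f hf => by
    obtain ⟨L, hL⟩ := IsPrecomplete.prec' (I := I) (fun n => ((f n, 0) : M₁ × M₂)) fun {m n} h => by
      rw [SModEq.sub_mem]; simpa using hinl m _ (SModEq.sub_mem.1 (hf h))
    exact ⟨L.1, fun n => SModEq.sub_mem.2 (hfst n _ (SModEq.sub_mem.1 (hL n)))⟩⟩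
  exact {}

end Groth.Agent.S13609
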