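import Groth.Statements.S13622
import Mathlib.RingTheory.AdicCompletion.Completeness
import Mathlib.RingTheory.AdicCompletion.Algebra
import Mathlib.RingTheory.Finiteness.Basic
import Mathlib.RingTheory.Ideal.Operations
-- import your own Groth.Agent.* helpers here

set_option autoImplicit false
universe u v
open CAlg

namespace Groth.Agent.S13622

/-- Let A be a commutative ring, I a finitely generated ideal and (M_n) an inverse system of finitely
generated A-modules whose transition maps f_n : M_(n+1) → M_n are surjective with kernel I^(n+1)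
M_(n+1), and with I^(n+1) M_n = 0 for all n. If L is an inverse limit of the system (projections π_n
compatible with the f_n, jointly injective, every compatible family lifting to L), endowed with a
module structure over the I-adic completion A^ of A that is compatible with its A-module structure,
then L is finitely generated as an A^-module. No completeness of A is assumed. -/
theorem result
    (A : Type u) [CommRing A] (I : Ideal A) (hI : I.FG)
    (M : ℕ → Type v) [∀ n, AddCommGroup (M n)] [∀ n, Module A (M n)] [∀ n, Module.Finite A (M n)]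
    (f : ∀ n, M (n + 1) →ₗ[A] M n) (hf : ∀ n, Function.Surjective (f n))
    (hker : ∀ n, LinearMap.ker (f n) = I ^ (n + 1) • (⊤ : Submodule A (M (n + 1))))
    (hkill : ∀ n, I ^ (n + 1) • (⊤ : Submodule A (M n)) = ⊥)
    (L : Type v) [AddCommGroup L] [Module A L] (π : ∀ n, L →ₗ[A] M n)
    (hπ : ∀ n, f n ∘ₗ π (n + 1) = π n)
    (hinj : ∀ x : L, (∀ n, π n x = 0) → x = 0)
    (hlift : ∀ y : (∀ n, M n), (∀ n, f n (y (n + 1)) = y n) → ∃ x : L, ∀ n, π n x = y n)
    [Module (AdicCompletion I A) L] [IsScalarTower A (AdicCompletion I A) L] :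
    Module.Finite (AdicCompletion I A) L := by
  classical
  have hπ' : ∀ n x, f n (π (n + 1) x) = π n x := fun n x => LinearMap.congr_fun (hπ n) x
  have hsurj0 : ∀ y0 : M 0, ∃ x, π 0 x = y0 := by
    intro y0
    choose sec hsec using hf
    let y : ∀ n, M n := fun n => Nat.rec (motive := fun n => M n) y0 (fun n yn => sec n yn) n
    obtain ⟨x, hx⟩ := hlift y (fun n => hsec n _)
    exact ⟨x, hx 0⟩
  obtain ⟨d, m, hm⟩ := Module.Finite.exists_fin (R := A) (M := M 0)
  choose x hx using fun j => hsurj0 (m j)
  have hgen : ∀ n, Submodule.span A (Set.range fun j => π n (x j)) = ⊤ := by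
    intro n
    induction n with
    | zero => simpa [hx] using hm
    | succ n ih =>
      set S := Submodule.span A (Set.range fun j => π (n + 1) (x j)) with hS
      have h1 : S ⊔ LinearMap.ker (f n) = ⊤ := by
        rw [← Submodule.comap_map_eq, hS, Submodule.map_span, ← Set.range_comp]
        simp only [Function.comp_def, hπ', ih, Submodule.comap_top]
      rw [hker] at h1
      have h2 : I ^ (n + 1) • (⊤ : Submodule A (M (n + 1))) ≤ S := by
        conv_lhs => rw [← h1]
        rw [Submodule.smul_sup, ← Submodule.mul_smul, ← pow_add]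
        refine sup_le Submodule.smul_le_right (le_trans ?_ bot_le)
        rw [← hkill (n + 1)]
        exact Submodule.smul_mono_left (Ideal.pow_le_pow_right (by omega))
      rwa [sup_eq_left.mpr h2] at h1
  refine Module.Finite.of_fg_top ?_
  refine Submodule.fg_def.mpr ⟨Set.range x, Set.finite_range x, eq_top_iff.mpr fun z _ => ?_⟩
  have hstep : ∀ (n : ℕ) (a : Fin d → A), π n z = ∑ j, a j • π n (x j) →
      ∃ a' : Fin d → A, π (n + 1) z = ∑ j, a' j • π (n + 1) (x j) ∧
        ∀ j, a' j - a j ∈ I ^ (n + 1) := by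
    intro n a ha
    have h1 : π (n + 1) z - ∑ j, a j • π (n + 1) (x j) ∈ LinearMap.ker (f n) := by
      rw [LinearMap.mem_ker, map_sub, map_sum, hπ', ha]
      simp [hπ']
    rw [hker, ← hgen (n + 1), Submodule.mem_ideal_smul_span_iff_exists_sum] at h1
    obtain ⟨b, hb, hsum⟩ := h1
    refine ⟨fun j => a j + b j, ?_, fun j => by simpa using hb j⟩
    have h2 : ∑ j, b j • π (n + 1) (x j) = π (n + 1) z - ∑ j, a j • π (n + 1) (x j) := by
      rw [← hsum]
      exact (Finsupp.sum_fintype b (fun j c => c • π (n + 1) (x j)) (fun j => zero_smul _ _)).symm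
    simp only [add_smul, Finset.sum_add_distrib, h2]
    abel
  obtain ⟨a0, ha0⟩ : ∃ a : Fin d → A, π 0 z = ∑ j, a j • π 0 (x j) := by
    have h0 : π 0 z ∈ Submodule.span A (Set.range fun j => π 0 (x j)) := by rw [hgen]; trivial
    obtain ⟨a, ha⟩ := (Submodule.mem_span_range_iff_exists_fun A).mp h0
    exact ⟨a, ha.symm⟩
  choose nx hnx1 hnx2 using hstep
  let seq : ∀ n, { a : Fin d → A // π n z = ∑ j, a j • π n (x j) } := fun n =>
    Nat.rec (motive := fun n => { a : Fin d → A // π n z = ∑ j, a j • π n (x j) }) ⟨a0, ha0⟩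
      (fun n p => ⟨nx n p.1 p.2, hnx1 n p.1 p.2⟩) n
  have hd : ∀ n j, (seq (n + 1)).1 j - (seq n).1 j ∈ I ^ (n + 1) := fun n j =>
    hnx2 n (seq n).1 (seq n).2 j
  let c : Fin d → AdicCompletion I A := fun j =>
    AdicCompletion.mk I A (AdicCompletion.AdicCauchySequence.mk I A (fun n => (seq n).1 j)
      (fun n => SModEq.symm (SModEq.sub_mem.mpr (by
        rw [smul_eq_mul, Ideal.mul_top]
        exact Ideal.pow_le_pow_right (Nat.le_succ n) (hd n j)))))
  have hkillL : ∀ (n : ℕ) (w : AdicCompletion I A) (y : L),
      w ∈ I ^ (n + 1) • (⊤ : Submodule A (AdicCompletion I A)) → π n (w • y) = 0 := by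
    intro n w y hw
    refine Submodule.smul_induction_on hw (fun r hr w' _ => ?_) (fun p q hp hq => ?_)
    · rw [smul_assoc, map_smul]
      rw [← Submodule.mem_bot A, ← hkill n]
      exact Submodule.smul_mem_smul hr Submodule.mem_top
    · rw [add_smul, map_add, hp, hq, add_zero]
  have hz : z = ∑ j, c j • x j := by
    rw [← sub_eq_zero]
    refine hinj _ fun n => ?_
    rw [map_sub, map_sum, (seq n).2, ← Finset.sum_sub_distrib]
    refine Finset.sum_eq_zero fun j _ => ?_
    rw [← map_smul, ← map_sub, ← smul_one_smul (AdicCompletion I A) ((seq n).1 j) (x j), ← sub_smul]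
    refine hkillL n _ _ ?_
    rw [AdicCompletion.pow_smul_top_eq_ker_eval hI, LinearMap.mem_ker, map_sub, map_smul, sub_eq_zero]
    change (seq n).1 j • Submodule.Quotient.mk (1 : A) = Submodule.Quotient.mk ((seq (n + 1)).1 j)
    rw [← Submodule.Quotient.mk_smul, show (seq n).1 j • (1 : A) = (seq n).1 j from mul_one _,
      Submodule.Quotient.eq, smul_eq_mul, Ideal.mul_top, ← neg_mem_iff, neg_sub]
    exact hd n j
  rw [hz]
  exact Submodule.sum_mem _ fun j _ => Submodule.smul_mem _ _ (Submodule.subset_span ⟨j, rfl⟩)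

end Groth.Agent.S13622
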