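import Groth.Statements.S13623
import Mathlib

set_option autoImplicit false
universe u
open TensorProduct
open CAlg

namespace Groth.Agent.S13623

/-- Let A be a commutative ring and B a commutative A-algebra, graded by A-submodules B_m (m ≥ 0)
forming a graded-algebra structure, such that every B_m is a finitely generated A-module. If for
every algebraically closed field k and every A-algebra structure on k the k-algebra k ⊗_A B is
generated by the image of B_1 under b ↦ 1 ⊗ b, then its degree-one part B_1 generates the A-algebra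
B. (Algebraically closed fields are taken in the universe of A.) -/
theorem result
    (A : Type u) [CommRing A] (B : Type u) [CommRing B] [Algebra A B]
    (𝒜 : ℕ → Submodule A B) [GradedAlgebra 𝒜]
    (hfin : ∀ m : ℕ, Module.Finite A (𝒜 m))
    (hgen : ∀ (k : Type u) [Field k] [IsAlgClosed k] [Algebra A k],
      Algebra.adjoin k ((Algebra.TensorProduct.includeRight : B →ₐ[A] k ⊗[A] B) '' (𝒜 1 : Set B)) = ⊤) :
    Algebra.adjoin A (𝒜 1 : Set B) = ⊤ := by
  classical
  let B1 := 𝒜 1
  have hpow : ∀ n : ℕ, B1 ^ n ≤ 𝒜 n := by
    intro n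
    induction n with
    | zero =>
      rw [pow_zero, Submodule.one_le]
      exact SetLike.GradedOne.one_mem
    | succ n ih =>
      rw [pow_succ, Submodule.mul_le]
      intro a ha b hb
      exact SetLike.GradedMul.mul_mem (ih ha) hb
  have hcl : ∀ x ∈ Submonoid.closure (B1 : Set B), ∃ n : ℕ, x ∈ B1 ^ n := by
    intro x hx
    induction hx using Submonoid.closure_induction with
    | mem a ha => exact ⟨1, by rwa [pow_one]⟩
    | one => exact ⟨0, by rw [pow_zero]; exact Submodule.one_le.1 le_rfl⟩
    | mul a b _ _ iha ihb =>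
      obtain ⟨n, hn⟩ := iha
      obtain ⟨l, hl⟩ := ihb
      exact ⟨n + l, by rw [pow_add]; exact Submodule.mul_mem_mul hn hl⟩
  have key : ∀ m : ℕ, 𝒜 m ≤ B1 ^ m := by
    intro m
    let N : Submodule A (𝒜 m) := (B1 ^ m).comap (𝒜 m).subtype
    let pr : B →ₗ[A] 𝒜 m := DirectSum.component A ℕ (fun i => 𝒜 i) m ∘ₗ
      (DirectSum.decomposeLinearEquiv 𝒜).toLinearMap
    let ψ : B →ₗ[A] (𝒜 m ⧸ N) := N.mkQ ∘ₗ pr
    have hψs : Function.Surjective ψ := by
      refine (Submodule.mkQ_surjective N).comp fun y => ⟨(y : B), ?_⟩
      simp [pr, DirectSum.decompose_coe, DirectSum.component.of]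
    have hψ0 : ∀ x ∈ Submonoid.closure (B1 : Set B), ψ x = 0 := by
      intro x hx
      obtain ⟨n, hn⟩ := hcl x hx
      simp only [ψ, LinearMap.comp_apply, Submodule.mkQ_apply, Submodule.Quotient.mk_eq_zero]
      by_cases h : n = m
      · subst h
        change ((DirectSum.decompose 𝒜 x) n : B) ∈ B1 ^ n
        rwa [DirectSum.decompose_of_mem_same 𝒜 (hpow n hn)]
      · change ((DirectSum.decompose 𝒜 x) m : B) ∈ B1 ^ m
        rw [DirectSum.decompose_of_mem_ne 𝒜 (hpow n hn) h]
        exact zero_mem _
    haveI : Module.Finite A (𝒜 m ⧸ N) := inferInstance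
    have hsub : Subsingleton (𝒜 m ⧸ N) := by
      rw [← Module.support_eq_empty_iff (R := A), Set.eq_empty_iff_forall_notMem]
      intro p hp
      rw [Module.mem_support_iff_nontrivial_residueField_tensorProduct] at hp
      let κ := p.asIdeal.ResidueField
      let k := AlgebraicClosure κ
      have h1 : Subsingleton (k ⊗[A] (𝒜 m ⧸ N)) := by
        let Ψ := ψ.baseChange k
        have hs : Function.Surjective Ψ := LinearMap.lTensor_surjective _ hψs
        have hz : Ψ = 0 := by
          have hker : Submodule.span k ((fun b : B => (1 : k) ⊗ₜ[A] b) ''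
              (Submonoid.closure (B1 : Set B) : Set B)) ≤ LinearMap.ker Ψ := by
            rw [Submodule.span_le]
            rintro _ ⟨b, hb, rfl⟩
            simp [Ψ, hψ0 b hb]
          have htop := congr_arg Subalgebra.toSubmodule (hgen k)
          rw [Algebra.adjoin_eq_span, Algebra.top_toSubmodule] at htop
          have hm : (Submonoid.closure ((Algebra.TensorProduct.includeRight : B →ₐ[A] k ⊗[A] B) ''
              (B1 : Set B))) = (Submonoid.closure (B1 : Set B)).map
              ((Algebra.TensorProduct.includeRight : B →ₐ[A] k ⊗[A] B) : B →* k ⊗[A] B) :=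
            (MonoidHom.map_mclosure _ _).symm
          rw [hm] at htop
          refine LinearMap.ker_eq_top.1 (top_le_iff.1 (htop.ge.trans (le_trans ?_ hker)))
          refine Submodule.span_mono ?_
          rintro _ ⟨b, hb, rfl⟩
          exact ⟨b, hb, by simp⟩
        refine ⟨fun x y => ?_⟩
        obtain ⟨a, rfl⟩ := hs x
        obtain ⟨b, rfl⟩ := hs y
        simp [hz]
      have : Nontrivial (k ⊗[κ] (κ ⊗[A] (𝒜 m ⧸ N))) :=
        Module.FaithfullyFlat.lTensor_nontrivial κ k _
      exact not_nontrivial _ ((TensorProduct.AlgebraTensorModule.cancelBaseChange A κ κ k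
        (𝒜 m ⧸ N)).toEquiv.symm.nontrivial)
    intro x hx
    have := Submodule.Quotient.eq (p := N) (x := ⟨x, hx⟩) (y := 0) |>.1 (hsub.elim _ _)
    simpa [N] using this
  rw [eq_top_iff]
  rintro x -
  induction x using DirectSum.Decomposition.inductionOn 𝒜 with
  | zero => exact zero_mem _
  | @homogeneous i y =>
    have hle : ∀ n : ℕ, B1 ^ n ≤ Subalgebra.toSubmodule (Algebra.adjoin A (B1 : Set B)) := by
      intro n
      induction n with
      | zero =>
        rw [pow_zero, Submodule.one_le]
        exact Subalgebra.one_mem _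
      | succ n ih =>
        rw [pow_succ, Submodule.mul_le]
        intro u hu v hv
        exact Subalgebra.mul_mem _ (ih hu) (Algebra.subset_adjoin hv)
    exact hle i (key _ y.2)
  | add a b ha hb => exact add_mem ha hb

end Groth.Agent.S13623
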