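import Groth.Statements.S13624
import Groth.Agent.Dual3Gor.Open

set_option autoImplicit false
universe u
open CategoryTheory CategoryTheory.Limits AlgebraicGeometry Opposite
open Goren

namespace Groth.Agent.S13624

/-- Let f : X → Y be a proper, flat morphism of schemes which is locally of finite presentation. Then
the set of points y of Y whose scheme-theoretic fibre X_y = X ×_Y Spec κ(y) is a Gorenstein scheme
(every local ring of X_y is a Gorenstein local ring) is open in Y. -/
theorem result (X Y : Scheme.{u}) (f : X ⟶ Y)
    [IsProper f] [Flat f] [LocallyOfFinitePresentation f] :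
    IsOpen {y : Y | ∀ x : ↥(f.fiber y), LocCoh.IsGorensteinLocalRing ((f.fiber y).presheaf.stalk x)} := by
  have key : {y : Y | ∀ x : ↥(f.fiber y), LocCoh.IsGorensteinLocalRing ((f.fiber y).presheaf.stalk x)} =
      (f '' {x : X | Dual3.IsGorensteinAt f x}ᶜ)ᶜ := by
    ext y
    constructor
    · rintro h ⟨x, hx, rfl⟩
      exact hx ⟨Flat.stalkMap f x, h _⟩
    · intro h x
      obtain ⟨z, hz⟩ : ∃ z, f.fiberι y x = z := ⟨_, rfl⟩
      have hy : f z = y := by
        have : f.fiberι y x ∈ Set.range (f.fiberι y) := ⟨x, rfl⟩
        rw [f.range_fiberι y] at this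
        exact hz ▸ this
      subst hy
      have hxe : x = f.asFiber z := (f.fiberι (f z)).isEmbedding.injective (by rw [f.fiberι_asFiber]; exact hz)
      subst hxe
      by_contra hx
      exact h ⟨z, fun hg => hx hg.2, rfl⟩
  rw [key]
  exact ((f.isClosedMap _ (Groth.Dual3Gor.isOpen_isGorensteinAt f).isClosed_compl)).isOpen_compl

end Groth.Agent.S13624
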