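import Groth.Statements.S13626
import Groth.Agent.SiteCohomology.RpushRestrict
import Groth.Agent.SiteCohomology.PushCohomology
import Groth.Agent.CohBase.RpushAb
import Groth.Agent.PicAux.Pullback

set_option autoImplicit false
set_option backward.isDefEq.respectTransparency.types false
universe u
open CategoryTheory CategoryTheory.Limits AlgebraicGeometry
open Coh

namespace Groth.Agent.S13626

open Opposite TopologicalSpace Groth.PicAux

section Zero

variable {Y : TopCat.{u}}

/-- An abelian sheaf vanishing near every point is zero. -/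
theorem isZero_of_restr (G : CohTop.Ab Y)
    (h : ∀ y : Y, ∃ V : Opens Y, y ∈ V ∧ IsZero (CohTop.restr G V)) : IsZero G := by
  choose V hV hz using h
  have hsub : ∀ (y : Y) (W : Opens Y), W ≤ V y → ∀ a : G.obj.obj (op W), a = 0 := by
    intro y W hW a
    let W' : Opens (TopCat.of (V y)) := (Opens.map (V y).inclusion').obj W
    have he : ((V y).isOpenEmbedding.functor).obj W' = W := by
      refine Opens.ext (Set.ext fun z => ⟨?_, fun hz' => ⟨⟨z, hW hz'⟩, hz', rfl⟩⟩)
      rintro ⟨w, hw, rfl⟩
      exact hw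
    have hW' : IsZero ((CohTop.restr G (V y)).obj.obj (op W')) :=
      Functor.map_isZero (sheafToPresheaf _ _ ⋙ (evaluation _ _).obj (op W')) (hz y)
    have hW'' : IsZero (G.obj.obj (op W)) := by
      rw [← he]
      exact hW'
    have := AddCommGrpCat.subsingleton_of_isZero hW''
    exact Subsingleton.elim _ _
  refine (IsZero.iff_id_eq_zero _).2 (Sheaf.hom_ext (NatTrans.ext (funext fun U => ?_)))
  ext a
  refine TopCat.Sheaf.eq_of_locally_eq' G (fun y : U.unop => V y.1 ⊓ U.unop) U.unop
    (fun y => homOfLE inf_le_right) (fun z hz' => Opens.mem_iSup.2 ⟨⟨z, hz'⟩, hV z, hz'⟩) _ _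
    fun y => ?_
  exact (hsub y.1 _ inf_le_left _).trans (hsub y.1 _ inf_le_left _).symm

end Zero

/-- A module with a basis over `U` restricts to the structure sheaf of abelian groups. -/
theorem nonempty_restr_iso_of_gen {X : Scheme.{u}} {M : X.Modules} {U : X.Opens} {e : Γ(M, U)}
    (he : Gen M U e) :
    Nonempty (CohTop.restr (Coh.toAb (Coh.structureModule X)) U ≅ CohTop.restr (Coh.toAb M) U) := by
  have hle : ∀ W : Opens (TopCat.of U), (U.isOpenEmbedding.functor).obj W ≤ U := by
    rintro W _ ⟨w, -, rfl⟩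
    exact w.2
  refine ⟨(fullyFaithfulSheafToPresheaf _ _).preimageIso (NatIso.ofComponents (fun W =>
    (AddEquiv.ofBijective (AddMonoidHom.mk'
      (fun r : Γ(X, U.isOpenEmbedding.functor.obj W.unop) =>
        r • Groth.PicAux.res M (hle W.unop) e) fun a b => add_smul a b _)
      (he _ (hle W.unop))).toAddCommGrpIso) fun {W W'} i => ?_)⟩
  ext r
  let r' : Γ(X, U.isOpenEmbedding.functor.obj W.unop) := r
  change resX X (U.isOpenEmbedding.functor.map i.unop).le r' • Groth.PicAux.res M (hle W'.unop) e =
    Groth.PicAux.res M (U.isOpenEmbedding.functor.map i.unop).le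
      (r' • Groth.PicAux.res M (hle W.unop) e)
  rw [res_smul, res_res]

/-- The abelian sheaf underlying a direct image. -/
noncomputable def toAbPushIso {X Y : Scheme.{u}} (f : X ⟶ Y) (M : X.Modules) :
    (CohTop.push f.base).obj (Coh.toAb M) ≅ Coh.toAb ((Scheme.Modules.pushforward f).obj M) :=
  Iso.refl _

/-- Isomorphic modules have isomorphic underlying sheaves. -/
noncomputable def toAbIso {Y : Scheme.{u}} {A B : Y.Modules} (φ : A ≅ B) : Coh.toAb A ≅ Coh.toAb B :=
  (SheafOfModules.toSheaf Y.ringCatSheaf).mapIso φ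

/-- Cohomology of isomorphic sheaves. -/
noncomputable def hEquiv {Y : TopCat.{u}} {A B : CohTop.Ab Y} (φ : A ≅ B) (p : ℕ) :
    CohTop.H A p ≃+ CohTop.H B p :=
  { Sheaf.H.map φ.hom p with
    invFun := Sheaf.H.map φ.inv p
    left_inv := fun x => by
      change Sheaf.H.map φ.inv p (Sheaf.H.map φ.hom p x) = x
      rw [← Sheaf.H.map_comp_apply, Iso.hom_inv_id, Sheaf.H.map_id_apply]
    right_inv := fun x => by
      change Sheaf.H.map φ.hom p (Sheaf.H.map φ.inv p x) = x
      rw [← Sheaf.H.map_comp_apply, Iso.inv_hom_id, Sheaf.H.map_id_apply] }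

/-- Let f : X → Y be a morphism of schemes with R^i f_* O_X = 0 for every i ≥ 1 and f_* O_X ≅ O_Y. Then
for every invertible O_Y-module L and every p ≥ 0 the groups H^p(X, f^* L) and H^p(Y, L) are
isomorphic (existence of a group isomorphism; the higher direct images are the right derived
functors of f_* on O_X-modules, under the instance argument recording that O_X-modules have
injective resolutions). -/
theorem result
    {X Y : Scheme.{u}} (f : X ⟶ Y) [HasInjectiveResolutions X.Modules]
    (hR : ∀ i : ℕ, IsZero ((Coh.Rpush f (i + 1)).obj (Coh.structureModule X)))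
    (h0 : Nonempty ((Coh.push f).obj (Coh.structureModule X) ≅ Coh.structureModule Y))
    (L : Y.Modules) (hL : PicF.IsInvertible L) (p : ℕ) :
    Nonempty (Coh.HH X ((Scheme.Modules.pullback f).obj L) p ≃+ Coh.HH Y L p) := by
  obtain ⟨θ⟩ := h0
  let M := (Scheme.Modules.pullback f).obj L
  choose U e hy he using (isInvertible_iff_exists_gen L).1 hL
  -- functions downstairs are the functions upstairs
  have hbij : ∀ W : Y.Opens, Function.Bijective (f.app W) := by
    intro W
    let R := Γ(Y, W)
    let u : Γ((Coh.push f).obj (Coh.structureModule X), W) := θ.inv.app W (oneSec Y W)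
    have hgen : Gen ((Coh.push f).obj (Coh.structureModule X)) W u := (gen_oneSec W).map θ.inv
    have hb : Function.Bijective fun r : Γ(Y, W) => f.app W r * (show Γ(X, f ⁻¹ᵁ W) from u) := by
      have := hgen W le_rfl
      rw [res_self] at this
      exact this
    let v : Γ(X, f ⁻¹ᵁ W) := u
    obtain ⟨a, ha⟩ := hb.2 (1 : Γ(X, f ⁻¹ᵁ W))
    change f.app W a * v = 1 at ha
    obtain ⟨b, hb'⟩ := hb.2 (v * v)
    change f.app W b * v = v * v at hb'
    have hab : a * b = 1 := by
      apply hb.1
      change f.app W (a * b) * v = f.app W 1 * v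
      rw [map_mul, map_one, one_mul, mul_assoc, hb', ← mul_assoc, ha, one_mul]
    have hu : v = f.app W b := by
      calc v = f.app W (a * b) * v := by rw [hab, map_one, one_mul]
        _ = f.app W b * (f.app W a * v) := by rw [map_mul]; ring
        _ = f.app W b := by rw [ha, mul_one]
    refine ⟨fun r r' hrr' => hb.1 (congrArg (· * v) hrr'), fun x => ?_⟩
    obtain ⟨r, hr⟩ := hb.2 x
    change f.app W r * v = x at hr
    exact ⟨r * b, by rw [map_mul, ← hu, hr]⟩
  -- the unit is an isomorphism
  let η := (Scheme.Modules.pullbackPushforwardAdjunction f).unit.app L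
  have : IsIso η := by
    refine isIso_of_cover (U := U) (eq_top_iff.2 fun y _ => Opens.mem_iSup.2 ⟨y, hy y⟩) η
      fun y V hV => ?_
    have h1 := ((he y).res hV) V le_rfl
    have h2 := (((he y).res hV).pull f) (f ⁻¹ᵁ V) le_rfl
    rw [res_self] at h1 h2
    have hfun : (η.app V) ∘ (fun r : Γ(Y, V) => r • res L hV (e y)) =
        (fun r : Γ(X, f ⁻¹ᵁ V) => r • pullSec f L (res L hV (e y))) ∘ (f.app V) :=
      funext fun r => pullSec_smul f L r _
    exact (Function.Bijective.of_comp_iff _ h1).1 (hfun ▸ h2.comp (hbij V))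
  -- the higher direct images of the pullback vanish
  have hO : ∀ q : ℕ, IsZero ((CohTop.Rpush f.base (q + 1)).obj (Coh.toAb (Coh.structureModule X))) :=
    fun q => by
      obtain ⟨i⟩ := Groth.CohBase.nonempty_toAb_Rpush_iso f (M := Coh.structureModule X) (q + 1)
      exact IsZero.of_iso (Functor.map_isZero (SheafOfModules.toSheaf _) (hR q)) i.symm
  have hM : ∀ q : ℕ, IsZero ((CohTop.Rpush f.base (q + 1)).obj (Coh.toAb M)) := by
    intro q
    refine isZero_of_restr _ fun y => ⟨U y, hy y, ?_⟩
    obtain ⟨a⟩ := Groth.SiteCohomology.nonempty_restr_Rpush_iso f.base (U y) (Coh.toAb M) (q + 1)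
    obtain ⟨b⟩ := Groth.SiteCohomology.nonempty_restr_Rpush_iso f.base (U y)
      (Coh.toAb (Coh.structureModule X)) (q + 1)
    obtain ⟨c⟩ := nonempty_restr_iso_of_gen (U := f ⁻¹ᵁ U y) ((he y).pull f)
    exact IsZero.of_iso (Functor.map_isZero (CohTop.restrFunctor (U y)) (hO q))
      (a ≪≫ Functor.mapIso _ c.symm ≪≫ b.symm)
  obtain ⟨ε⟩ := Groth.SiteCohomology.nonempty_H_push_equiv f.base (Coh.toAb M) hM p
  let i : Coh.toAb L ≅ (CohTop.push f.base).obj (Coh.toAb M) :=
    toAbIso (B := (Scheme.Modules.pushforward f).obj M) (asIso η) ≪≫ (toAbPushIso f M).symm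
  exact ⟨ε.trans (hEquiv i.symm p)⟩

end Groth.Agent.S13626
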