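import Groth.Statements.S13628
import Mathlib.AlgebraicGeometry.Fiber
import Mathlib.FieldTheory.IsAlgClosed.AlgebraicClosure

set_option autoImplicit false
universe u
open CategoryTheory CategoryTheory.Limits AlgebraicGeometry Opposite
open FBase

namespace Groth.Agent.S13628

/-- Let P be a property of schemes over fields, invariant under isomorphisms of schemes over the base
field and invariant in both directions under every field extension k → K (Z over k has P if and only
if Z ×_k Spec K over K has P). Let f : X → T be a morphism of schemes, h : T' → T a surjective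
morphism of schemes and f' : X' → T' a base change of f along h. If for every algebraically closed
field k and every Spec k → T' the fibre X' ×_{T'} Spec k has P, then for every algebraically closed
field k and every Spec k → T the fibre X ×_T Spec k has P. (Fields are taken in the universe of the
schemes. The published statement is that families of del Pezzo surfaces form a stack for the étale
topology; this row is the step of its proof that descends the condition on geometric fibres along a
surjective base change, stated for any fibre property with the invariance above.) -/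
theorem result
    (P : ∀ (k : Type u) [Field k] (Z : Scheme.{u}), (Z ⟶ Spec (CommRingCat.of k)) → Prop)
    (hiso : ∀ (k : Type u) [Field k] (Z Z' : Scheme.{u}) (e : Z ≅ Z') (g : Z' ⟶ Spec (CommRingCat.of k)),
      P k Z' g → P k Z (e.hom ≫ g))
    (hext : ∀ (k K : Type u) [Field k] [Field K] (i : k →+* K) (Z : Scheme.{u}) (g : Z ⟶ Spec (CommRingCat.of k)),
      P k Z g ↔ P K (pullback g (Spec.map (CommRingCat.ofHom i))) (pullback.snd g (Spec.map (CommRingCat.ofHom i))))
    {X T X' T' : Scheme.{u}} (f : X ⟶ T) (h : T' ⟶ T) [Surjective h] (f' : X' ⟶ T') (h' : X' ⟶ X)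
    (sq : IsPullback h' f' f h)
    (H : ∀ (k : Type u) [Field k] [IsAlgClosed k] (σ' : Spec (CommRingCat.of k) ⟶ T'),
        P k (pullback f' σ') (pullback.snd f' σ'))
    (k : Type u) [Field k] [IsAlgClosed k] (σ : Spec (CommRingCat.of k) ⟶ T) :
    P k (pullback f σ) (pullback.snd f σ) := by
  obtain ⟨w, -⟩ := (pullback.snd h σ).surjective (Classical.arbitrary (Spec (CommRingCat.of k)))
  let P₀ := pullback h σ
  let K := AlgebraicClosure (P₀.residueField w)
  let s : Spec (CommRingCat.of K) ⟶ P₀ :=
    Spec.map (CommRingCat.ofHom (algebraMap (P₀.residueField w) K)) ≫ P₀.fromSpecResidueField w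
  obtain ⟨i, hi⟩ : ∃ i : k →+* K, Spec.map (CommRingCat.ofHom i) = s ≫ pullback.snd h σ :=
    ⟨_, Spec.map_preimage _⟩
  have hw : (s ≫ pullback.fst h σ) ≫ h = Spec.map (CommRingCat.ofHom i) ≫ σ := by
    rw [hi, Category.assoc, Category.assoc, pullback.condition]
    simp only [s, P₀, Category.assoc]
  have hsq : IsPullback (pullback.fst f' (s ≫ pullback.fst h σ) ≫ h') (pullback.snd f' (s ≫ pullback.fst h σ))
      f (Spec.map (CommRingCat.ofHom i) ≫ σ) := by
    rw [← hw]
    exact (IsPullback.of_hasPullback _ _).paste_horiz sq
  let e := (pullbackLeftPullbackSndIso f σ (Spec.map (CommRingCat.ofHom i))) ≪≫ hsq.isoPullback.symm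
  refine (hext k K i _ _).2 ?_
  have h2 := hiso K _ _ e _ (H K (s ≫ pullback.fst h σ))
  convert h2 using 1
  rw [Iso.trans_hom, Iso.symm_hom, Category.assoc, hsq.isoPullback_inv_snd,
    pullbackLeftPullbackSndIso_hom_snd]

end Groth.Agent.S13628
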