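import Groth.Statements.S13631
import Mathlib

set_option autoImplicit false
universe u v w
open CAlg

namespace Groth.Agent.S13631

/-- Let k be a field, R an integral domain which is a k-algebra of infinite dimension over k, M a finite
free R-module, σ a ring automorphism of R mapping the image of k onto itself, and φ : M → M a
σ-semilinear map. If the cokernel of φ is finite-dimensional over k, in the sense that some finitely
generated k-subspace N of M satisfies M = N + φ(M), then φ is injective. -/
theorem result
    {k : Type u} {R : Type v} {M : Type w} [Field k] [CommRing R] [IsDomain R] [Algebra k R]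
    (hR : ¬ Module.Finite k R)
    [AddCommGroup M] [Module R M] [Module k M] [IsScalarTower k R M]
    [Module.Finite R M] [Module.Free R M]
    (σ : R ≃+* R)
    (hσ : ∀ x : k, ∃ y : k, σ (algebraMap k R x) = algebraMap k R y)
    (hσ' : ∀ y : k, ∃ x : k, σ (algebraMap k R x) = algebraMap k R y)
    (φ : M →ₛₗ[(σ : R →+* R)] M)
    (hcoker : ∃ N : Submodule k M, N.FG ∧ ∀ m : M, ∃ n ∈ N, ∃ m' : M, m = n + φ m') :
    Function.Injective φ := by
  classical
  have := hσ'
  let ι := Module.Free.ChooseBasisIndex R M
  let e : Module.Basis ι R M := Module.Free.chooseBasis R M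
  let L : M →ₗ[R] M := e.constr R fun i => φ (e i)
  have hφ : ∀ x, φ x = L (∑ i, σ (e.repr x i) • e i) := fun x => by
    conv_lhs => rw [← e.sum_repr x]
    rw [map_sum, map_sum]
    refine Finset.sum_congr rfl fun i _ => ?_
    rw [LinearMap.map_smulₛₗ, map_smul, e.constr_basis]
    rfl
  obtain ⟨N, hN, hdec⟩ := hcoker
  have hrange : ∀ m, φ m ∈ LinearMap.range L := fun m => ⟨_, (hφ m).symm⟩
  haveI : Module.Finite k (M ⧸ LinearMap.range L) := by
    haveI : Module.Finite k N := Module.Finite.iff_fg.2 hN
    refine Module.Finite.of_surjective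
      ((LinearMap.range L).mkQ.restrictScalars k ∘ₗ N.subtype) fun z => ?_
    obtain ⟨m, rfl⟩ := Submodule.Quotient.mk_surjective _ z
    obtain ⟨n, hn, m', rfl⟩ := hdec m
    exact ⟨⟨n, hn⟩, (Submodule.Quotient.eq _).2 (by simpa using hrange m')⟩
  have htor : ∀ x : M, ∃ r : R, r ≠ 0 ∧ r • x ∈ LinearMap.range L := fun x => by
    by_contra! h
    refine hR (FiniteDimensional.of_injective
      (((LinearMap.toSpanSingleton R (M ⧸ LinearMap.range L) (Submodule.Quotient.mk x)).restrictScalars k)) ?_)
    rw [injective_iff_map_eq_zero]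
    intro r hr
    by_contra hr0
    exact h r hr0 ((Submodule.Quotient.mk_eq_zero _).1 (by simpa using hr))
  choose r hr hrL using fun i => htor (e i)
  choose y hy using hrL
  have hD : LinearMap.ker (L ∘ₗ e.constr R y) = ⊥ := by
    rw [LinearMap.ker_eq_bot']
    intro x hx
    refine e.repr.injective (Finsupp.ext fun i => ?_)
    have h1 : L (e.constr R y x) = ∑ j, (e.repr x j * r j) • e j := by
      conv_lhs => rw [← e.sum_repr x]
      simp [map_sum, map_smul, hy, smul_smul]
    rw [show (L ∘ₗ e.constr R y) x = L (e.constr R y x) from rfl, h1] at hx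
    have h2 := congrArg (fun z => e.repr z i) hx
    simp only [map_zero, Finsupp.coe_zero, Pi.zero_apply, e.repr_sum_self] at h2
    simpa using (mul_eq_zero.1 h2).resolve_right (hr i)
  have hL : LinearMap.ker L = ⊥ := by
    by_contra h
    have h0 := LinearMap.det_eq_zero_iff_ker_ne_bot.2 h
    exact LinearMap.det_eq_zero_iff_ker_ne_bot.1 (by rw [LinearMap.det_comp, h0, zero_mul]) hD
  rw [injective_iff_map_eq_zero]
  intro x hx
  rw [hφ] at hx
  have h2 := (LinearMap.ker_eq_bot'.1 hL) _ hx
  refine e.repr.injective (Finsupp.ext fun i => ?_)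
  have h3 := congrArg (fun z => e.repr z i) h2
  simp only [map_zero, Finsupp.coe_zero, Pi.zero_apply, e.repr_sum_self] at h3
  simpa using h3

end Groth.Agent.S13631
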