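import Groth.Statements.S13632
import Mathlib

set_option autoImplicit false
universe u
open TensorProduct
open CAlg

namespace Groth.Agent.S13632

open scoped TensorProduct

/-- Let S = Spec R, X = Spec A finite and flat over S, Y = Spec B of finite type over S, and φ : X → Y
an S-morphism given by f : B → A. If for every point s of S the fibres X_s and Y_s have the same
order (the κ(s)-dimension of their rings of global sections κ(s) ⊗ A and κ(s) ⊗ B; equivalently at
every geometric point) and φ is an isomorphism over every closed point of S (κ(m) ⊗ f bijective for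
every maximal ideal m), then φ is an isomorphism, i.e. f is bijective. (The published statement
allows an arbitrary base scheme S and Y separated of finite type over S; this row is the case of an
affine base with X and Y affine, the case its proof treats directly. Over a base with no closed
points the general statement fails: the hypothesis at closed points is then empty.) -/
theorem result
    {R A B : Type u} [CommRing R] [CommRing A] [CommRing B] [Algebra R A] [Algebra R B]
    [Module.Finite R A] [Module.Flat R A] [Algebra.FiniteType R B]
    (f : B →ₐ[R] A)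
    (hrank : ∀ p : PrimeSpectrum R,
      Module.rank p.asIdeal.ResidueField (p.asIdeal.ResidueField ⊗[R] B) =
        Module.rank p.asIdeal.ResidueField (p.asIdeal.ResidueField ⊗[R] A))
    (hmax : ∀ (m : Ideal R) [m.IsMaximal],
      Function.Bijective (LinearMap.lTensor m.ResidueField f.toLinearMap)) :
    Function.Bijective f := by
  classical
  -- surjectivity, by Nakayama on the finite module `A`
  have hsurj : Function.Surjective f.toLinearMap := by
    have hs : Subsingleton (A ⧸ LinearMap.range f.toLinearMap) := by
      rw [← Module.support_eq_empty_iff (R := R)]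
      by_contra hne
      obtain ⟨p, hp⟩ := Set.nonempty_iff_ne_empty.2 hne
      obtain ⟨m, hm, hpm⟩ := Ideal.exists_le_maximal p.asIdeal p.isPrime.ne_top
      have hm' : (⟨m, hm.isPrime⟩ : PrimeSpectrum R) ∈ Module.support R (A ⧸ LinearMap.range f.toLinearMap) :=
        Module.mem_support_mono (show p ≤ ⟨m, hm.isPrime⟩ from hpm) hp
      rw [Module.mem_support_iff_nontrivial_residueField_tensorProduct] at hm'
      apply not_subsingleton_iff_nontrivial.2 hm'
      refine subsingleton_of_forall_eq 0 fun z => ?_
      obtain ⟨w, rfl⟩ := LinearMap.lTensor_surjective _ (Submodule.mkQ_surjective _) z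
      obtain ⟨v, rfl⟩ := (hmax m).2 w
      rw [← LinearMap.comp_apply, ← LinearMap.lTensor_comp, LinearMap.range_mkQ_comp, LinearMap.lTensor_zero]
      rfl
    rw [← LinearMap.range_eq_top]
    exact Submodule.Quotient.subsingleton_iff.1 hs
  -- the kernel is nil, hence `B` is finite
  have hfib : ∀ p : PrimeSpectrum R, Function.Injective (f.toLinearMap.baseChange p.asIdeal.ResidueField) := fun p => by
    have hs' : Function.Surjective (f.toLinearMap.baseChange p.asIdeal.ResidueField) :=
      LinearMap.lTensor_surjective _ hsurj
    haveI : Module.Finite p.asIdeal.ResidueField (p.asIdeal.ResidueField ⊗[R] B) :=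
      Module.rank_lt_aleph0_iff.1 ((hrank p).trans_lt (Module.rank_lt_aleph0 _ _))
    exact (LinearMap.injective_iff_surjective_of_finrank_eq_finrank (by
      unfold Module.finrank; rw [hrank p])).2 hs'
  have hnil : RingHom.ker f.toRingHom ≤ nilradical B := by
    intro x hx
    rw [nilradical_eq_sInf, Ideal.mem_sInf]
    intro P hP
    haveI : P.IsPrime := hP
    let p : PrimeSpectrum R := ⟨P.comap (algebraMap R B), inferInstance⟩
    have h0 : (1 : p.asIdeal.ResidueField) ⊗ₜ[R] x = 0 := hfib p (by
      rw [map_zero, LinearMap.baseChange_tmul, show f.toLinearMap x = 0 from hx, TensorProduct.tmul_zero])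
    let ev : p.asIdeal.ResidueField ⊗[R] B →ₐ[R] P.ResidueField :=
      Algebra.TensorProduct.lift (Ideal.ResidueField.mapₐ p.asIdeal P (Algebra.ofId R B) rfl)
        (IsScalarTower.toAlgHom R B P.ResidueField) (fun _ _ => mul_comm _ _)
    have h1 := congrArg ev h0
    rw [Algebra.TensorProduct.lift_tmul, map_one, one_mul, map_zero] at h1
    exact Ideal.algebraMap_residueField_eq_zero.1 h1
  haveI : Algebra.IsIntegral R B := ⟨fun b => by
    obtain ⟨q, hq, hqb⟩ := Algebra.IsIntegral.isIntegral (R := R) (f b)
    have h1 : f (Polynomial.aeval b q) = 0 := by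
      rw [← Polynomial.aeval_algHom_apply]; exact hqb
    obtain ⟨N, hN⟩ := mem_nilradical.1 (hnil (show Polynomial.aeval b q ∈ RingHom.ker f.toRingHom from h1))
    exact ⟨q ^ N, hq.pow N, by rw [← Polynomial.aeval_def, map_pow, hN]⟩⟩
  haveI : Module.Finite R B := Algebra.IsIntegral.finite
  refine ⟨?_, hsurj⟩
  rw [injective_iff_map_eq_zero]
  intro x hx
  by_contra hx0
  have hann : (Ideal.torsionOf R B x) ≠ ⊤ := fun h => hx0 (by
    have := (Ideal.mem_torsionOf_iff x (1 : R)).1 (h ▸ Submodule.mem_top)
    rwa [one_smul] at this)
  obtain ⟨m, hm, hle⟩ := Ideal.exists_le_maximal _ hann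
  let Rm := Localization.AtPrime m
  haveI : Module.Free Rm (Rm ⊗[R] A) := Module.free_of_flat_of_isLocalRing
  let e : ∀ (M : Type u) [AddCommGroup M] [Module R M],
      IsLocalRing.ResidueField Rm ⊗[Rm] (Rm ⊗[R] M) ≃ₗ[IsLocalRing.ResidueField Rm] IsLocalRing.ResidueField Rm ⊗[R] M :=
    fun M _ _ => TensorProduct.AlgebraTensorModule.cancelBaseChange R Rm (IsLocalRing.ResidueField Rm) (IsLocalRing.ResidueField Rm) M
  have hinj : Function.Injective ((f.toLinearMap.baseChange Rm).lTensor (IsLocalRing.ResidueField Rm)) := by
    have hcomm : ∀ z, e A ((f.toLinearMap.baseChange Rm).lTensor (IsLocalRing.ResidueField Rm) z) =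
        f.toLinearMap.lTensor m.ResidueField (e B z) := by
      intro z
      induction z using TensorProduct.induction_on with
      | zero => simp
      | tmul c w =>
        induction w using TensorProduct.induction_on with
        | zero => simp
        | tmul r b => simp [e]
        | add a a' ha ha' => simp only [TensorProduct.tmul_add, map_add, ha, ha']
      | add a a' ha ha' => simp only [map_add, ha, ha']
    intro a a' h
    have h2 := congrArg (e A) h
    rw [hcomm, hcomm] at h2
    exact (e B).injective ((hmax m).1 h2)
  obtain ⟨l, hl⟩ := (IsLocalRing.split_injective_iff_lTensor_residueField_injective (f.toLinearMap.baseChange Rm)).2 hinj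
  have h0 : (TensorProduct.mk R Rm B 1) x = 0 := by
    have h := LinearMap.congr_fun hl ((1 : Rm) ⊗ₜ[R] x)
    rw [LinearMap.comp_apply, LinearMap.baseChange_tmul, show f.toLinearMap x = 0 from hx,
      TensorProduct.tmul_zero, map_zero] at h
    exact h.symm
  haveI : IsLocalizedModule m.primeCompl (TensorProduct.mk R Rm B 1) :=
    (isLocalizedModule_iff_isBaseChange m.primeCompl Rm _).2 (TensorProduct.isBaseChange R B Rm)
  obtain ⟨s, hs⟩ := (IsLocalizedModule.eq_zero_iff m.primeCompl (TensorProduct.mk R Rm B 1)).1 h0
  exact s.2 (hle ((Ideal.mem_torsionOf_iff x (s : R)).2 hs))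

end Groth.Agent.S13632
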