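import Groth.Statements.S13633
import Groth.Agent.Agf.SubobjGrp
import Groth.Agent.Agf.ClosedSubgroup
import Groth.Agent.AlgGrp1.FrobPow
import Groth.Agent.AlgGrp1.KPoints
import Groth.Agent.AlgGrp1.SmoothReduced
import Groth.Agent.GrpschAbsch.Cartier
import Groth.Agent.GrpschLoci.Fibres
import Groth.Agent.GrpschLoci.MonoHomLft
import Groth.Agent.AbVarMul.KernelComp
import Mathlib.AlgebraicGeometry.Morphisms.FlatMono

set_option autoImplicit false
universe u
open CategoryTheory CategoryTheory.Limits MonoidalCategory CartesianMonoidalCategory MonObj AlgebraicGeometry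
open GrpSch

namespace Groth.Agent.S13633

open Groth.AlgGrp1 Groth.AlgGrp1.FrobPow

variable {k : Type u} [Field k]

/-- An affine scheme of finite type over a field with at most one point is finite. -/
theorem isFinite_of_subsingleton (X : Over (Spec (CommRingCat.of k))) [IsAffine X.left]
    [LocallyOfFiniteType X.hom] [Subsingleton X.left] : IsFinite X.hom := by
  haveI : LocallyQuasiFinite X.hom :=
    LocallyQuasiFinite.of_finite_preimage_singleton X.hom fun _ => Set.toFinite _
  exact IsFinite.of_locallyQuasiFinite X.hom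

theorem isoSpec_inv_appTop' (X : Scheme.{u}) [IsAffine X] :
    X.isoSpec.inv.appTop ≫ (Scheme.ΓSpecIso Γ(X, ⊤)).hom = 𝟙 _ := by
  rw [← Scheme.toSpecΓ_appTop, ← Scheme.Hom.comp_appTop, ← Scheme.isoSpec_hom, Iso.hom_inv_id,
    Scheme.Hom.id_appTop]

/-- Factoring through an affine closed subscheme. -/
theorem exists_factor_of_ker {Z X T : Scheme.{u}} [IsAffine Z] [IsAffine X] (i : Z ⟶ X)
    [IsClosedImmersion i] (t : T ⟶ X)
    (h : RingHom.ker i.appTop.hom ≤ RingHom.ker t.appTop.hom) : ∃ s : T ⟶ Z, s ≫ i = t := by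
  have hsurj : Function.Surjective i.appTop.hom := (IsClosedImmersion.isAffine_surjective_of_isAffine i).2
  let φ : Γ(Z, ⊤) ⟶ Γ(T, ⊤) :=
    CommRingCat.ofHom (i.appTop.hom.liftOfSurjective hsurj ⟨t.appTop.hom, h⟩)
  refine ⟨T.toSpecΓ ≫ Spec.map φ ≫ Z.isoSpec.inv, ext_of_isAffine ?_⟩
  have hφ : i.appTop ≫ φ = t.appTop :=
    CommRingCat.hom_ext (RingHom.liftOfRightInverse_comp _ _ _ _)
  rw [Scheme.Hom.comp_appTop, Scheme.Hom.comp_appTop, Scheme.Hom.comp_appTop, Scheme.toSpecΓ_appTop,
    Category.assoc, Scheme.ΓSpecIso_naturality, reassoc_of% isoSpec_inv_appTop' Z]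
  exact hφ

/-- Powers of Frobenius on global sections. -/
theorem Fp_appTop (X : Scheme.{u}) (p : ℕ) [Fact p.Prime] [FrobSch.IsCharP X p] :
    ∀ (r : ℕ) (b : Γ(X, ⊤)), (Fp X p r).appTop b = b ^ p ^ r
  | 0, b => by simp
  | r + 1, b => by
    show (Fp X p r).appTop ((FrobSch.frob X p).appTop b) = _
    rw [FrobSch.frob_appTop, map_pow, Fp_appTop X p r, ← pow_mul, ← pow_succ]

/-- The twisted structure along a power of Frobenius. -/
noncomputable abbrev tw (p : ℕ) [Fact p.Prime] [CharP k p] (r : ℕ) (T : Over (Spec (CommRingCat.of k)))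
    [FrobSch.IsCharP T.left p] : Over (Spec (CommRingCat.of k)) :=
  Over.mk (Fp T.left p r ≫ T.hom)

/-- A homomorphism through which every finite subgroup factors is flat at the unit. -/
theorem flat_stalkMap_unit (p : ℕ) [Fact p.Prime] [CharP k p] (G H : Over (Spec (CommRingCat.of k)))
    [GrpObj G] [GrpObj H] [IsCommMonObj H] [IsAffine G.left] [IsAffine H.left]
    [LocallyOfFiniteType H.hom] (ψ : G ⟶ H) [IsMonHom ψ] [IsClosedImmersion ψ.left]
    (hsurj : ∀ (I : Over (Spec (CommRingCat.of k))) [GrpObj I] [IsCommMonObj I] [IsFinite I.hom]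
      (h : I ⟶ H) [IsMonHom h], ∃ f : I ⟶ G, IsMonHom f ∧ f ≫ ψ = h)
    (x : G.left) (hx : ψ.left x ∈ Set.range η[H].left) : (ψ.left.stalkMap x).hom.Flat := by
  have hch : ∀ T : Over (Spec (CommRingCat.of k)), FrobSch.IsCharP T.left p :=
    fun T => FrobSch.IsCharP.of_hom T.hom p
  haveI : H.left.IsSeparated := inferInstance
  let B := Γ(H.left, ⊤)
  let I : Ideal B := RingHom.ker η[H].left.appTop.hom
  let J : Ideal B := RingHom.ker ψ.left.appTop.hom
  have hker : ∀ r : ℕ, J ≤ I ^ p ^ r := by
    intro r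
    let b : H.left ⟶ H.left := H.hom ≫ η[H].left ≫ Fp H.left p r
    let a : H.left ⟶ H.left := Fp H.left p r
    let K : Over (Spec (CommRingCat.of k)) := Over.mk (equalizer.ι a b ≫ H.hom)
    let j : K ⟶ H := Over.homMk (equalizer.ι a b) rfl
    haveI : IsClosedImmersion j.left := inferInstanceAs (IsClosedImmersion (equalizer.ι a b))
    haveI : Mono j := Over.mono_of_mono_left j
    let φ : ∀ T : Over (Spec (CommRingCat.of k)), tw p r T ⟶ T := fun T =>
      Over.homMk (Fp T.left p r) rfl
    have hφ : ∀ {T : Over (Spec (CommRingCat.of k))} (g : T ⟶ H),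
        φ T ≫ g = φ T ≫ 1 ↔ g.left ≫ a = g.left ≫ b := by
      intro T g
      have h1 : (1 : T ⟶ H).left = T.hom ≫ η[H].left := by
        show (toUnit T ≫ η[H]).left = _
        rw [Over.comp_left, show (toUnit T).left = T.hom by simpa using Over.w (toUnit T)]
      have e1 : g.left ≫ a = (φ T ≫ g).left := (Fp_comp p g.left r).symm
      have e2 : g.left ≫ b = (φ T ≫ 1).left := by
        show g.left ≫ H.hom ≫ η[H].left ≫ Fp H.left p r = Fp T.left p r ≫ (1 : T ⟶ H).left
        rw [h1, Over.w_assoc g, Fp_comp p (T.hom ≫ η[H].left) r, Category.assoc]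
      rw [e1, e2]
      exact ⟨fun e => congrArg (fun z => z.left) e, fun e => Over.OverMorphism.ext e⟩
    have hK : ∀ (T : Over (Spec (CommRingCat.of k))) (g : T ⟶ H),
        (∃ z : T ⟶ K, z ≫ j = g) ↔ φ T ≫ g = φ T ≫ 1 := by
      intro T g
      rw [hφ]
      constructor
      · rintro ⟨z, rfl⟩
        show (z.left ≫ equalizer.ι a b) ≫ a = (z.left ≫ equalizer.ι a b) ≫ b
        rw [Category.assoc, equalizer.condition, Category.assoc]
      · intro h
        exact ⟨Over.homMk (equalizer.lift g.left h)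
          (show equalizer.lift g.left h ≫ equalizer.ι a b ≫ H.hom = T.hom by
            rw [equalizer.lift_ι_assoc, Over.w g]), Over.OverMorphism.ext (equalizer.lift_ι _ _)⟩
    obtain ⟨_, _⟩ := Groth.Agf.exists_grpObj_of_subgroup j (fun T g => φ T ≫ g = φ T ≫ 1) hK
      (fun T => rfl)
      (fun T u v hu hv => by
        show φ T ≫ (u * v) = φ T ≫ 1
        rw [MonObj.comp_mul, hu, hv, MonObj.comp_one, _root_.mul_one])
      (fun T u hu => by
        show φ T ≫ u⁻¹ = φ T ≫ 1
        rw [GrpObj.comp_inv, hu, MonObj.comp_one, inv_one])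
    haveI : IsCommMonObj K := Groth.AbVarMul.isCommMonObj_of_mono j
    haveI : IsAffine K.left := isAffine_of_isAffineHom j.left
    haveI : LocallyOfFiniteType K.hom := by rw [← Over.w j]; infer_instance
    haveI : Subsingleton K.left := by
      refine ⟨fun z w => j.left.isClosedEmbedding.injective ?_⟩
      have e : ∀ z : K.left, j.left z = η[H].left (H.hom (j.left z)) := fun z => by
        have h : (equalizer.ι a b ≫ a) z = (equalizer.ι a b ≫ b) z := by rw [equalizer.condition]
        simpa [a, b, j] using h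
      rw [e z, e w]
      congr 1
      exact @Subsingleton.elim _ (inferInstanceAs (Subsingleton (PrimeSpectrum k))) _ _
    haveI : IsFinite K.hom := isFinite_of_subsingleton K
    obtain ⟨f, -, hf⟩ := hsurj K j
    -- the test object
    let qm : B ⟶ CommRingCat.of (B ⧸ I ^ p ^ r) := CommRingCat.ofHom (Ideal.Quotient.mk _)
    let gl := Spec.map qm ≫ H.left.isoSpec.inv
    let Q : Over (Spec (CommRingCat.of k)) := Over.mk (gl ≫ H.hom)
    let g : Q ⟶ H := Over.homMk gl rfl
    have hgl : ∀ c : B, (Scheme.ΓSpecIso _).hom (gl.appTop c) = qm c := by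
      intro c
      have : gl.appTop ≫ (Scheme.ΓSpecIso _).hom = qm := by
        simp only [gl, Scheme.Hom.comp_appTop, Category.assoc, Scheme.ΓSpecIso_naturality]
        exact (reassoc_of% isoSpec_inv_appTop' H.left) qm
      exact congrArg (fun f => f.hom c) this
    have hg : φ Q ≫ g = φ Q ≫ 1 := by
      rw [hφ]
      refine ext_of_isAffine (CommRingCat.hom_ext (RingHom.ext fun c => ?_))
      apply (Scheme.ΓSpecIso (CommRingCat.of (B ⧸ I ^ p ^ r))).commRingCatIsoToRingEquiv.injective
      show (Scheme.ΓSpecIso _).hom (gl.appTop (a.appTop c)) =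
        (Scheme.ΓSpecIso _).hom (gl.appTop (H.hom.appTop (η[H].left.appTop ((Fp H.left p r).appTop c))))
      rw [hgl, hgl]
      have ha : a.appTop c = c ^ p ^ r := Fp_appTop H.left p r c
      set d := H.hom.appTop (η[H].left.appTop c) with hd
      have hd' : d ^ p ^ r = (Fp H.left p r).appTop d := (Fp_appTop H.left p r d).symm
      rw [ha, map_pow η[H].left.appTop.hom, map_pow H.hom.appTop.hom]
      show qm (c ^ p ^ r) = qm (d ^ p ^ r)
      refine Ideal.Quotient.eq.mpr ?_
      rw [hd', ← Fp_appTop H.left p r c, ← map_sub, Fp_appTop]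
      refine Ideal.pow_mem_pow (RingHom.mem_ker.mpr ?_) _
      rw [map_sub, sub_eq_zero, hd]
      have e : H.hom.appTop ≫ η[H].left.appTop = 𝟙 _ := by
        rw [← Scheme.Hom.comp_appTop, show η[H].left ≫ H.hom = 𝟙 _ from Over.w η[H]]
        rfl
      exact (congrArg (fun f => f.hom (η[H].left.appTop c)) e).symm
    obtain ⟨z, hz⟩ := (hK Q g).2 hg
    intro c hc
    have h1 : gl = (z ≫ f).left ≫ ψ.left := by
      rw [← Over.comp_left, Category.assoc, hf, hz]; rfl
    have h2 := hgl c
    rw [h1, Scheme.Hom.comp_appTop] at h2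
    simp only [CommRingCat.comp_apply, show ψ.left.appTop c = 0 from hc, map_zero] at h2
    exact Ideal.Quotient.eq_zero_iff_mem.mp h2.symm
  -- Krull intersection
  haveI : IsNoetherianRing B := by
    haveI := LocallyOfFiniteType.isLocallyNoetherian H.hom
    exact IsLocallyNoetherian.component_noetherian ⟨⊤, isAffineOpen_top _⟩
  classical
  obtain ⟨f, hf1, hf0⟩ : ∃ f : B, 1 - f ∈ I ∧ ∀ c ∈ J, f * c = 0 := by
    have hJ : ∀ c ∈ J, ∃ t : I, (t : B) • c = c := fun c hc => by
      refine (Ideal.mem_iInf_smul_pow_eq_bot_iff I c).mp ?_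
      simp only [Submodule.mem_iInf, smul_eq_mul, Ideal.mul_top]
      exact fun i => Ideal.pow_le_pow_right (Nat.lt_pow_self (Fact.out : p.Prime).one_lt).le (hker i hc)
    obtain ⟨s, hs⟩ := IsNoetherian.noetherian J
    choose t ht using fun c : s => hJ c (hs ▸ Submodule.subset_span c.2)
    refine ⟨∏ c : s, (1 - (t c : B)), ?_, fun c hc => ?_⟩
    · rw [← Ideal.Quotient.eq, map_one, map_prod]
      refine (Finset.prod_eq_one fun c _ => ?_).symm
      rw [map_sub, Ideal.Quotient.eq_zero_iff_mem.mpr (t c).2, map_one, sub_zero]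
    · have : J ≤ LinearMap.ker (LinearMap.mulLeft B (∏ c : s, (1 - (t c : B)))) := by
        rw [← hs, Submodule.span_le]
        intro d hd
        show (∏ c : s, (1 - (t c : B))) * d = 0
        rw [← Finset.mul_prod_erase _ _ (Finset.mem_univ (⟨d, hd⟩ : s)), mul_comm _ (Finset.prod _ _),
          _root_.mul_assoc, sub_mul, _root_.one_mul, show (t ⟨d, hd⟩ : B) * d = d from ht ⟨d, hd⟩, sub_self,
          mul_zero]
      exact this hc
  let V : H.left.Opens := H.left.basicOpen f
  have hxV : ψ.left x ∈ V := by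
    obtain ⟨o, ho⟩ := hx
    rw [← ho]
    show o ∈ η[H].left ⁻¹ᵁ H.left.basicOpen f
    rw [Scheme.preimage_basicOpen]
    have : η[H].left.appTop.hom f = 1 := by
      have := RingHom.mem_ker.mp hf1
      rwa [map_sub, map_one, sub_eq_zero, eq_comm] at this
    rw [show η[H].left.app ⊤ f = 1 from this, Scheme.basicOpen_of_isUnit _ isUnit_one]
    trivial
  obtain ⟨s, hs⟩ := exists_factor_of_ker ψ.left V.ι fun c hc => by
    have hu : IsUnit (V.ι.appTop f) := by
      have h := RingedSpace.isUnit_res_basicOpen V.toScheme.toRingedSpace (V.ι.appTop f)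
      have e : V.toScheme.basicOpen (V.ι.appTop f) = ⊤ := by
        have e := Scheme.preimage_basicOpen V.ι f
        rw [show H.left.basicOpen f = V from rfl, Scheme.Opens.ι_preimage_self] at e
        exact e.symm
      have h2 := h.map (V.toScheme.presheaf.map (eqToHom e.symm).op).hom
      convert h2 using 1
      exact (congrArg (fun m => m.hom (V.ι.appTop f))
        ((V.toScheme.presheaf.map_id _).symm.trans ((congrArg V.toScheme.presheaf.map
          (Subsingleton.elim _ _)).trans (V.toScheme.presheaf.map_comp (homOfLE le_top).op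
            (eqToHom e.symm).op))))
    refine RingHom.mem_ker.mpr (hu.mul_right_eq_zero.mp ?_)
    rw [← map_mul, hf0 c hc, map_zero]
  obtain ⟨w, hsw⟩ : ∃ w : V.toScheme, s w = x := by
    refine ⟨⟨ψ.left x, hxV⟩, ψ.left.isClosedEmbedding.injective ?_⟩
    rw [← Scheme.Hom.comp_apply, hs]; rfl
  subst hsw
  haveI : IsIso ((s ≫ ψ.left).stalkMap w) := by rw [hs]; infer_instance
  have hinj : Function.Injective (ψ.left.stalkMap (s w)).hom := fun a b hab => by
    have hi := (ConcreteCategory.bijective_of_isIso ((s ≫ ψ.left).stalkMap w)).injective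
    refine hi ?_
    rw [Scheme.Hom.stalkMap_comp]
    exact congrArg (s.stalkMap w).hom hab
  exact RingHom.Flat.of_bijective ⟨hinj, ψ.left.stalkMap_surjective (s w)⟩

/-- Let k be a field, K an algebraic closure of k, and ψ : G → H a homomorphism of commutative affine
group schemes of finite type over k. Assume that for every finite commutative group scheme I over k
the map Hom(I, G) → Hom(I, H), f ↦ f ≫ ψ, on group-scheme homomorphisms is bijective, and that ψ
induces a bijection G(K) → H(K) on K-valued points. Then ψ is an isomorphism. (All group schemes are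
commutative by the standing convention.) -/
theorem result
    {k : Type u} [Field k] (K : Type u) [Field K] [Algebra k K] [IsAlgClosure k K]
    (G H : Over (Spec (CommRingCat.of k)))
    [GrpObj G] [IsCommMonObj G] [GrpObj H] [IsCommMonObj H]
    [IsAffine G.left] [IsAffine H.left] [LocallyOfFiniteType G.hom] [LocallyOfFiniteType H.hom]
    (ψ : G ⟶ H) [IsMonHom ψ]
    (hinj : ∀ (I : Over (Spec (CommRingCat.of k))) [GrpObj I] [IsCommMonObj I] [IsFinite I.hom]
      (f g : I ⟶ G) [IsMonHom f] [IsMonHom g], f ≫ ψ = g ≫ ψ → f = g)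
    (hsurj : ∀ (I : Over (Spec (CommRingCat.of k))) [GrpObj I] [IsCommMonObj I] [IsFinite I.hom]
      (h : I ⟶ H) [IsMonHom h], ∃ f : I ⟶ G, IsMonHom f ∧ f ≫ ψ = h)
    (hpts : Function.Bijective fun x : Over.mk (Spec.map (CommRingCat.ofHom (algebraMap k K))) ⟶ G => x ≫ ψ) :
    IsIso ψ := by
  haveI : IsAlgClosed K := IsAlgClosure.isAlgClosed k
  haveI : IsAffineHom G.hom := inferInstance
  haveI : LocallyOfFiniteType ψ.left :=
    haveI : LocallyOfFiniteType (ψ.left ≫ H.hom) := by rw [Over.w]; infer_instance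
    locallyOfFiniteType_of_comp ψ.left H.hom
  -- the kernel is trivial
  obtain ⟨N, c, hc, hN⟩ := Groth.Agf.exists_preimage ψ η[H]
  have hN' : ∀ (T : Over (Spec (CommRingCat.of k))) (g : T ⟶ G),
      (∃ z : T ⟶ N, z ≫ c = g) ↔ g ≫ ψ = 1 := fun T g => by
    rw [hN T g]
    exact ⟨fun ⟨x', hx'⟩ => by rw [hx', toUnit_unique x' (toUnit T), Hom.one_def],
      fun h => ⟨toUnit T, by rw [h, Hom.one_def]⟩⟩
  haveI : Mono c := Over.mono_of_mono_left c
  obtain ⟨_, _⟩ := Groth.Agf.exists_grpObj_of_subgroup c (fun T g => g ≫ ψ = 1) hN'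
    (fun T => by rw [MonObj.one_comp])
    (fun T a b ha hb => by rw [MonObj.mul_comp, ha, hb, _root_.mul_one])
    (fun T a ha => by rw [GrpObj.inv_comp, ha, inv_one])
  haveI : IsCommMonObj N := Groth.AbVarMul.isCommMonObj_of_mono c
  haveI : IsAffine N.left := isAffine_of_isAffineHom c.left
  haveI : LocallyOfFiniteType N.hom := by rw [← Over.w c]; infer_instance
  haveI : Subsingleton N.left := by
    haveI := LocallyOfFiniteType.jacobsonSpace N.hom
    have hcl : ∀ z ∈ closedPoints N.left,
        c.left z = ptOf (1 : specAlg k K ⟶ G) := fun z hz => by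
      obtain ⟨y, hy⟩ := exists_point_over_closed K N z hz
      have h : y ≫ c = 1 := hpts.1 (by
        show (y ≫ c) ≫ ψ = (1 : specAlg k K ⟶ G) ≫ ψ
        rw [MonObj.one_comp, (hN' _ _).1 ⟨y, rfl⟩])
      rw [← hy, ← h]; rfl
    have hss : (closedPoints N.left).Subsingleton := fun a ha b hb =>
      c.left.isClosedEmbedding.injective ((hcl a ha).trans (hcl b hb).symm)
    refine ⟨fun a b => ?_⟩
    have hu := closure_closedPoints (X := N.left)
    rcases hss.eq_empty_or_singleton with h | ⟨o, h⟩
    · rw [h, closure_empty] at hu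
      exact absurd (Set.mem_univ a) (hu ▸ Set.notMem_empty a)
    · have ho : IsClosed ({o} : Set N.left) := mem_closedPoints_iff.mp (h.ge rfl)
      rw [h, ho.closure_eq] at hu
      exact (hu.ge (Set.mem_univ a)).trans (hu.ge (Set.mem_univ b)).symm
  haveI : IsFinite N.hom := isFinite_of_subsingleton N
  have hc1 : c = 1 := @hinj N _ _ _ c 1 _ (inferInstanceAs (IsMonHom (toUnit N ≫ η[G]))) (by rw [(hN' _ c).1 ⟨𝟙 _, Category.id_comp _⟩, MonObj.one_comp])
  haveI : Mono ψ := ⟨fun {T} a b hab => by
    obtain ⟨z, hz⟩ := (hN' T (a / b)).2 (by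
      rw [div_eq_mul_inv, MonObj.mul_comp, GrpObj.inv_comp, hab, mul_inv_cancel])
    rw [hc1, MonObj.comp_one] at hz
    exact div_eq_one.mp hz.symm⟩
  haveI : IsClosedImmersion ψ.left := Groth.GrpschLoci.isClosedImmersion_of_mono_lft ψ
  -- surjectivity
  haveI : Surjective ψ.left := by
    haveI := LocallyOfFiniteType.jacobsonSpace H.hom
    refine ⟨Set.range_eq_univ.mp (Set.univ_subset_iff.mp ?_)⟩
    rw [← closure_closedPoints (X := H.left)]
    refine closure_minimal (fun y hy => ?_) ψ.left.isClosedEmbedding.isClosed_range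
    obtain ⟨h, rfl⟩ := exists_point_over_closed K H y hy
    obtain ⟨g, rfl⟩ := hpts.2 h
    exact ⟨g.left (IsLocalRing.closedPoint K), rfl⟩
  suffices IsIso ψ.left from (Over.isoMk (asIso ψ.left) (Over.w ψ)).isIso_hom
  obtain ⟨p, hp⟩ := CharP.exists k
  rcases CharP.char_is_prime_or_zero k p with hprime | rfl
  · haveI := Fact.mk hprime
    let o : G.left := η[G].left (IsLocalRing.closedPoint k)
    have hflat : (ψ.left.stalkMap o).hom.Flat := flat_stalkMap_unit p G H ψ hsurj o
      ⟨IsLocalRing.closedPoint k, by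
        show _ = ψ.left (η[G].left _)
        rw [← Scheme.Hom.comp_apply, ← Over.comp_left, IsMonHom.one_hom ψ]⟩
    haveI : LocallyOfFinitePresentation G.hom :=
      haveI := LocallyOfFiniteType.isLocallyNoetherian G.hom
      inferInstance
    obtain ⟨-, hloc⟩ := Groth.GrpschLoci.flat_locus_eq ψ
    haveI : Flat ψ.left := Flat.of_stalkMap _ fun z => by
      have h1 := hloc.le (show o ∈ {x : G.left | (ψ.left.stalkMap x).hom.Flat} from hflat)
      refine hloc.ge ?_
      rw [Set.mem_preimage] at h1 ⊢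
      rwa [show G.hom.base z = G.hom.base o from Subsingleton.elim _ _]
    haveI : LocallyOfFinitePresentation ψ.left := 
      haveI : LocallyOfFinitePresentation (ψ.left ≫ H.hom) := by rw [Over.w]; infer_instance
      Groth.PropsBasic2.lfp_of_comp ψ.left H.hom
    haveI := IsOpenImmersion.of_flat_of_mono ψ.left
    exact (isIso_iff_isOpenImmersion_and_surjective _).mpr ⟨inferInstance, inferInstance⟩
  · haveI := CharP.charP_to_charZero k
    haveI := Groth.GrpschAbsch.smooth_of_charZero H
    haveI : IsReduced H.left := Groth.AlgGrp1.isReduced_of_smooth H.hom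
    exact isIso_of_isClosedImmersion_of_surjective ψ.left

end Groth.Agent.S13633
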