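import Groth.Statements.S13635
import Groth.Agent.Misc5.MultSch

set_option autoImplicit false
universe u w
open CategoryTheory CategoryTheory.Limits MonoidalCategory CartesianMonoidalCategory MonObj AlgebraicGeometry
open MultSch

namespace Groth.Agent.S13635

/-- Let M₁ → M₂ → M₃ → 0 be a sequence of R-module schemes over a scheme S, with R-linear homomorphisms
j : M₁ → M₂ and π : M₂ → M₃, exact as a sequence of fppf sheaves. For n ≥ 1 and an R-module scheme
N, the sequence 0 → Alt(M₃^n, N) → Alt(M₂^n, N) → Alt(M₁ × M₂^(n-1), N) of R-multilinear alternating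
morphisms is exact: an R-multilinear alternating φ : M₂^n → N which is trivial on all points with
first coordinate in the image of j is of the form φ' ∘ π^n for a unique morphism φ' : M₃^n → N
(unique among all morphisms), and this φ' is R-multilinear and alternating. -/
theorem result
    {S : Scheme.{u}} {R : Type w} [CommRing R] {M₁ M₂ M₃ N : Over S}
    [GrpObj M₁] [IsCommMonObj M₁] [GrpObj M₂] [IsCommMonObj M₂] [GrpObj M₃] [IsCommMonObj M₃]
    [GrpObj N] [IsCommMonObj N]
    (ρ₁ : MultSch.RMod R M₁) (ρ₂ : MultSch.RMod R M₂) (ρ₃ : MultSch.RMod R M₃) (ρN : MultSch.RMod R N)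
    (j : M₁ ⟶ M₂) (π : M₂ ⟶ M₃) [IsMonHom j] [IsMonHom π]
    (hj : ∀ a : R, j ≫ ρ₂.act a = ρ₁.act a ≫ j) (hπ : ∀ a : R, π ≫ ρ₃.act a = ρ₂.act a ≫ π)
    (w : j ≫ π = 1) (hex : (CGrpSh.seq Scheme.fppfPrecoverage j π w).Exact)
    (hepi : Epi (CGrpSh.ptsMap Scheme.fppfPrecoverage π))
    {n : ℕ} (hn : 1 ≤ n) (φ : MultSch.pow M₂ n ⟶ N)
    (hmult : MultSch.IsMultilinear φ) (hlin : MultSch.IsRLinear ρ₂ ρN φ) (halt : MultSch.IsAlternating φ)
    (hvan : ∀ (T : Over S) (y : T ⟶ M₁) (x : Fin n → (T ⟶ M₂)), x ⟨0, hn⟩ = y ≫ j →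
      MultSch.tuple x ≫ φ = 1) :
    ∃ φ' : MultSch.pow M₃ n ⟶ N,
      (∀ (T : Over S) (x : Fin n → (T ⟶ M₂)), MultSch.tuple x ≫ φ = MultSch.tuple (fun l => x l ≫ π) ≫ φ') ∧
      MultSch.IsMultilinear φ' ∧ MultSch.IsRLinear ρ₃ ρN φ' ∧ MultSch.IsAlternating φ' ∧
      ∀ φ'' : MultSch.pow M₃ n ⟶ N,
        (∀ (T : Over S) (x : Fin n → (T ⟶ M₂)), MultSch.tuple x ≫ φ = MultSch.tuple (fun l => x l ≫ π) ≫ φ'') →
          φ'' = φ' := by
  classical
  have hls := Groth.Misc5.Mult.locSurj_powMap π (Groth.Misc5.Mult.locSurj_of_epi π hepi) n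
  obtain ⟨φ', hφ'⟩ := hls.desc φ (fun T z z' hzz' => by
    rw [← Groth.Misc5.Mult.tuple_coord z, ← Groth.Misc5.Mult.tuple_coord z',
      Groth.Misc5.Mult.tuple_powMap, Groth.Misc5.Mult.tuple_powMap] at hzz'
    rw [← Groth.Misc5.Mult.tuple_coord z, ← Groth.Misc5.Mult.tuple_coord z']
    exact Groth.Misc5.Mult.eq_of_congr hn hmult halt j π w hex hvan _ _
      (congrFun (Groth.Misc5.Mult.tuple_inj hzz')))
  have hfac : ∀ (T : Over S) (x : Fin n → (T ⟶ M₂)),
      MultSch.tuple x ≫ φ = MultSch.tuple (fun l => x l ≫ π) ≫ φ' := fun T x => by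
    rw [← Groth.Misc5.Mult.tuple_powMap, Category.assoc, hφ']
  refine ⟨φ', hfac, ?_, ?_, ?_, ?_⟩
  · intro T x i y z
    obtain ⟨Q, hQ, hl⟩ := Groth.Misc5.Mult.exists_lifts_cover π hepi (κ := Option (Option (Fin n)))
      (fun o => o.elim y fun o => o.elim z x)
    refine Groth.Misc5.Mult.eq_of_cover hQ fun V g hg => ?_
    obtain ⟨t, ht⟩ := hl g hg
    let x' := fun l => t (some (some l))
    have key : ∀ (a : T ⟶ M₃) (a' : V ⟶ M₂), a' ≫ π = g ≫ a →
        g ≫ MultSch.tuple (Function.update x i a) ≫ φ' = MultSch.tuple (Function.update x' i a') ≫ φ := by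
      intro a a' ha
      rw [hfac, ← Category.assoc, Groth.Misc5.Mult.comp_tuple]
      congr 2
      funext l
      by_cases h : l = i
      · subst h; simp [ha]
      · simpa [h, x'] using (ht (some (some l))).symm
    rw [MonObj.comp_mul, key (y * z) (t none * t (some none))
      (by rw [MonObj.mul_comp, ht, ht, MonObj.comp_mul]; rfl), key y _ (ht none), key z _ (ht (some none))]
    exact hmult V x' i _ _
  · intro T x i a
    obtain ⟨Q, hQ, hl⟩ := Groth.Misc5.Mult.exists_lifts_cover π hepi x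
    refine Groth.Misc5.Mult.eq_of_cover hQ fun V g hg => ?_
    obtain ⟨t, ht⟩ := hl g hg
    have h1 : MultSch.tuple (Function.update t i (t i ≫ ρ₂.act a)) ≫ φ =
        g ≫ MultSch.tuple (Function.update x i (x i ≫ ρ₃.act a)) ≫ φ' := by
      rw [hfac, ← Category.assoc g, Groth.Misc5.Mult.comp_tuple]
      congr 2
      funext l
      by_cases h : l = i
      · subst h; simp [← hπ, reassoc_of% (ht l)]
      · simpa [h] using ht l
    have h2 : MultSch.tuple t ≫ φ = g ≫ MultSch.tuple x ≫ φ' := by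
      rw [hfac, ← Category.assoc g, Groth.Misc5.Mult.comp_tuple]
      congr 2
      exact funext ht
    rw [← h1, hlin V t i a, h2, Category.assoc]
  · refine Groth.Misc5.Mult.isAlternating_of_comp π hepi φ' fun T x i k hik hxik => ?_
    rw [← hfac]
    exact halt T x i k hik hxik
  · intro φ'' hφ''
    apply hls.cancel
    rw [hφ']
    have := hφ'' (MultSch.pow M₂ n) (Groth.Misc5.Mult.coord (𝟙 _))
    rw [← Groth.Misc5.Mult.tuple_powMap, Groth.Misc5.Mult.tuple_coord, Category.id_comp, Category.id_comp] at this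
    exact this.symm

end Groth.Agent.S13635
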