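import Groth.Statements.S13636
import Groth.Agent.Misc5.MultSch

set_option autoImplicit false
universe u w
open CategoryTheory CategoryTheory.Limits MonoidalCategory CartesianMonoidalCategory MonObj AlgebraicGeometry
open MultSch

namespace Groth.Agent.S13636

/-- Let M' → M → M'' → 0 be a sequence of R-module schemes over a scheme S, with R-linear homomorphisms
j and π, exact as fppf sheaves, and let ψ : P × M × Q → N be a morphism to an R-module scheme N
which is additive and R-linear in the coordinate M (on T-valued points) and trivial on all points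
whose M-coordinate lies in the image of j. Then ψ = ψ' ∘ (id × π × id) for a unique morphism ψ' : P
× M'' × Q → N, and ψ' is additive and R-linear in the coordinate M''. (The published statement has a
product M₁ × ⋯ × M_r of R-module schemes with the exact sequence in the i-th factor and ψ
R-multilinear; here the factors before and after the i-th are collected into single S-schemes P and
Q, and only linearity in the i-th coordinate, the one the statement is about, is carried; linearity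
in the other coordinates passes between ψ and ψ' formally.) -/
theorem result
    {S : Scheme.{u}} {R : Type w} [CommRing R] {P Q M' M M'' N : Over S}
    [GrpObj M'] [IsCommMonObj M'] [GrpObj M] [IsCommMonObj M] [GrpObj M''] [IsCommMonObj M'']
    [GrpObj N] [IsCommMonObj N]
    (ρ' : MultSch.RMod R M') (ρ : MultSch.RMod R M) (ρ'' : MultSch.RMod R M'') (ρN : MultSch.RMod R N)
    (j : M' ⟶ M) (π : M ⟶ M'') [IsMonHom j] [IsMonHom π]
    (hj : ∀ a : R, j ≫ ρ.act a = ρ'.act a ≫ j) (hπ : ∀ a : R, π ≫ ρ''.act a = ρ.act a ≫ π)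
    (w : j ≫ π = 1) (hex : (CGrpSh.seq Scheme.fppfPrecoverage j π w).Exact)
    (hepi : Epi (CGrpSh.ptsMap Scheme.fppfPrecoverage π))
    (ψ : P ⊗ (M ⊗ Q) ⟶ N)
    (hadd : ∀ (T : Over S) (p : T ⟶ P) (q : T ⟶ Q) (y z : T ⟶ M),
      lift p (lift (y * z) q) ≫ ψ = (lift p (lift y q) ≫ ψ) * (lift p (lift z q) ≫ ψ))
    (hlin : ∀ (T : Over S) (p : T ⟶ P) (q : T ⟶ Q) (y : T ⟶ M) (a : R),
      lift p (lift (y ≫ ρ.act a) q) ≫ ψ = (lift p (lift y q) ≫ ψ) ≫ ρN.act a)
    (hvan : ∀ (T : Over S) (p : T ⟶ P) (q : T ⟶ Q) (y' : T ⟶ M'), lift p (lift (y' ≫ j) q) ≫ ψ = 1) :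
    ∃ ψ' : P ⊗ (M'' ⊗ Q) ⟶ N,
      (P ◁ (π ▷ Q)) ≫ ψ' = ψ ∧
      (∀ (T : Over S) (p : T ⟶ P) (q : T ⟶ Q) (y z : T ⟶ M''),
        lift p (lift (y * z) q) ≫ ψ' = (lift p (lift y q) ≫ ψ') * (lift p (lift z q) ≫ ψ')) ∧
      (∀ (T : Over S) (p : T ⟶ P) (q : T ⟶ Q) (y : T ⟶ M'') (a : R),
        lift p (lift (y ≫ ρ''.act a) q) ≫ ψ' = (lift p (lift y q) ≫ ψ') ≫ ρN.act a) ∧
      ∀ ψ'' : P ⊗ (M'' ⊗ Q) ⟶ N, (P ◁ (π ▷ Q)) ≫ ψ'' = ψ → ψ'' = ψ' := by
  classical
  have hπl := Groth.Misc5.Mult.locSurj_of_epi π hepi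
  have hls : Groth.SGA7.Ext.LocSurj (P ◁ (π ▷ Q)) := by
    have := (Groth.SGA7.Ext.LocSurj.id P).tensor (hπl.tensor (Groth.SGA7.Ext.LocSurj.id Q))
    simpa using this
  have expand : ∀ (T : Over S) (z : T ⟶ P ⊗ (M ⊗ Q)),
      z = lift (z ≫ fst _ _) (lift ((z ≫ snd _ _) ≫ fst _ _) ((z ≫ snd _ _) ≫ snd _ _)) := by
    intro T z
    refine CartesianMonoidalCategory.hom_ext _ _ (lift_fst _ _).symm ?_
    refine ((lift_snd _ _).trans ?_).symm
    exact CartesianMonoidalCategory.hom_ext _ _ (lift_fst _ _) (lift_snd _ _)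
  have push : ∀ (T : Over S) (p : T ⟶ P) (q : T ⟶ Q) (y : T ⟶ M),
      lift p (lift y q) ≫ (P ◁ (π ▷ Q)) = lift p (lift (y ≫ π) q) := by
    intro T p q y
    rw [lift_whiskerLeft, lift_whiskerRight]
  obtain ⟨ψ', hψ'⟩ := hls.desc ψ (fun T z z' hzz' => by
    rw [expand T z, expand T z', push, push] at hzz'
    rw [expand T z, expand T z']
    generalize z ≫ fst _ _ = p, (z ≫ snd _ _) ≫ fst _ _ = y, (z ≫ snd _ _) ≫ snd _ _ = q,
      z' ≫ fst _ _ = p', (z' ≫ snd _ _) ≫ fst _ _ = y', (z' ≫ snd _ _) ≫ snd _ _ = q' at hzz' ⊢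
    have h1 := congrArg (· ≫ fst P (M'' ⊗ Q)) hzz'
    have h23 := congrArg (· ≫ snd P (M'' ⊗ Q)) hzz'
    simp only [lift_fst, lift_snd] at h1 h23
    have h2 := congrArg (· ≫ fst M'' Q) h23
    have h3 := congrArg (· ≫ snd M'' Q) h23
    simp only [lift_fst, lift_snd] at h2 h3
    subst h1 h3
    have hd : (y * y'⁻¹) ≫ π = 1 := by rw [MonObj.mul_comp, GrpObj.inv_comp, h2, mul_inv_cancel]
    obtain ⟨W, hW, hk⟩ := Groth.Misc5.Mult.exists_kernel_cover j π w hex _ hd
    have hz : lift p (lift (y * y'⁻¹) q) ≫ ψ = 1 := by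
      refine Groth.Misc5.Mult.eq_of_cover hW fun V g hg => ?_
      obtain ⟨c, hc⟩ := hk g hg
      rw [← Category.assoc, comp_lift, comp_lift, MonObj.comp_one, ← hc]
      exact hvan V _ _ c
    calc _ = lift p (lift (y * y'⁻¹ * y') q) ≫ ψ := by rw [inv_mul_cancel_right]
      _ = _ := by rw [hadd, hz, _root_.one_mul])
  have hfac : ∀ (T : Over S) (p : T ⟶ P) (q : T ⟶ Q) (y : T ⟶ M),
      lift p (lift y q) ≫ ψ = lift p (lift (y ≫ π) q) ≫ ψ' := fun T p q y => by
    rw [← push, Category.assoc, hψ']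
  refine ⟨ψ', hψ', ?_, ?_, fun ψ'' h'' => hls.cancel (h''.trans hψ'.symm)⟩
  · intro T p q y z
    obtain ⟨W, hW, hl⟩ := Groth.Misc5.Mult.exists_lifts_cover π hepi (κ := Bool) (fun b => cond b y z)
    refine Groth.Misc5.Mult.eq_of_cover hW fun V g hg => ?_
    obtain ⟨t, ht⟩ := hl g hg
    have h1 : t true ≫ π = g ≫ y := ht true
    have h2 : t false ≫ π = g ≫ z := ht false
    rw [MonObj.comp_mul, ← Category.assoc, ← Category.assoc, ← Category.assoc, comp_lift, comp_lift,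
      comp_lift, comp_lift, comp_lift, comp_lift, MonObj.comp_mul, ← h1, ← h2, ← MonObj.mul_comp,
      ← hfac, ← hfac, ← hfac, hadd]
  · intro T p q y a
    obtain ⟨W, hW, hl⟩ := Groth.Misc5.Mult.exists_lift_cover π hepi y
    refine Groth.Misc5.Mult.eq_of_cover hW fun V g hg => ?_
    obtain ⟨t, ht⟩ := hl g hg
    simp only [← Category.assoc, comp_lift]
    rw [← ht, Category.assoc t, hπ, ← Category.assoc t, ← hfac, ← hfac, hlin]

end Groth.Agent.S13636
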