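import Groth.Statements.S13640
import Groth.Agent.AdicLinTop.ProperLevels
-- import your own Groth.Agent.* helpers here

set_option autoImplicit false
open CategoryTheory CategoryTheory.Limits Opposite
universe u
open FSch

set_option backward.defeqAttrib.useBackward true
set_option backward.isDefEq.respectTransparency false
set_option backward.isDefEq.respectTransparency.types false
set_option synthInstance.maxHeartbeats 400000
set_option maxHeartbeats 2000000

namespace Groth.Agent.S13640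

open Groth.AdicLinTop Groth.AdicLinTop.ProperLevels
open CategoryTheory.Abelian (Ext)

/-- Let A be an adic Noetherian ring with ideal of definition J, 𝔜 = Spf A, 𝔛 a locally Noetherian
formal scheme, f : 𝔛 ⟶ Spf A a proper morphism and 𝔉 a coherent O_𝔛-module; write u_k : X_k ⟶ 𝔛 for
the k-th level and 𝔉_k = (u_k)_* u_k^* 𝔉 = 𝔉 / J^(k+1) 𝔉. Then for every n the inverse system of
abelian groups (H^n(𝔛, 𝔉_k))_{k ≥ 0}, with the maps induced by the transitions 𝔉_{k+1} ⟶ 𝔉_k,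
satisfies the Mittag-Leffler condition. (The published statement also asserts that each H^n(𝔛, 𝔉) is
a finite A-module and that the kernels of H^n(𝔛, 𝔉) ⟶ H^n(𝔛, 𝔉_k) form a J-good filtration; this row
states only the Mittag-Leffler clause.) -/
theorem result (A : Type u) [CommRing A] [IsNoetherianRing A] (J : Ideal A)
    [IsAdicComplete J A] (h𝔜 : (FSch.spf A J).IsLocNoethFormal) (𝔛 : FSch.Sys.{u}) (h𝔛 : 𝔛.IsLocNoethFormal)
    (f : 𝔛 ⟶ FSch.spf A J) (hf : FSch.IsProperHom f) [HasInjectiveResolutions (FSch.ModF 𝔛 h𝔛.1)]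
    (𝔉 : FSch.ModF 𝔛 h𝔛.1) (h𝔉 : FSch.IsCohF 𝔛 h𝔛.1 𝔉) (n : ℕ) :
    ARSys.IsML (Functor.ofOpSequence
      (X := fun k => AddCommGrpCat.of (FSch.HF 𝔛 h𝔛.1 ((FSch.levelMor 𝔛 h𝔛.1 k).push.obj ((FSch.levelMor 𝔛 h𝔛.1 k).pull.obj 𝔉)) n))
      (fun k => AddCommGrpCat.ofHom
        (Sheaf.H.map ((SheafOfModules.toSheaf _).map (FSch.levelTrans 𝔛 h𝔛.1 𝔉 k)) n))) := by
  have hV : AlgebraicGeometry.IsAffineOpen (⊤ : ((FSch.spf A J).X 0).Opens) := by
    haveI : AlgebraicGeometry.IsAffine ((FSch.spf A J).X 0) :=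
      inferInstanceAs (AlgebraicGeometry.IsAffine (AlgebraicGeometry.Spec _))
    exact AlgebraicGeometry.isAffineOpen_top _
  obtain ⟨π, s, hπ, hs⟩ := exists_stable f h𝔛 h𝔜 hf hV n h𝔉
  refine isML_of_tower (A := FormalAffine.RS h𝔜.1 (⊤ : ((FSch.spf A J).X 0).Opens))
    (H := fun j => HT f h𝔛 h𝔜 (V := (⊤ : ((FSch.spf A J).X 0).Opens)) 𝔉 n j) _ π
    (fun k x => ExtTower.ofExt _ (FormalTower.σU h𝔛 𝔉 (FinitePush.pre f (⊤ : ((FSch.spf A J).X 0).Opens))
      (FinitePush.shp f h𝔛 h𝔜 (⊤ : ((FSch.spf A J).X 0).Opens)) k) n (glob (T := (𝔛.X 0).toTopCat) (ModSite.toAb (FormalTower.levM h𝔛 𝔉 k)) n x))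
    (fun k => bijective_glob (T := (𝔛.X 0).toTopCat) _ n) (fun k x => ExtTower.toExt_injective _ _ n ?_) s hs
  exact (glob_map (T := (𝔛.X 0).toTopCat) ((SheafOfModules.toSheaf _).map (FSch.levelTrans 𝔛 h𝔛.1 𝔉 k)) n x).trans
    (hπ k (ExtTower.ofExt _ _ n
      (glob (T := (𝔛.X 0).toTopCat) (ModSite.toAb (FormalTower.levM h𝔛 𝔉 (k + 1))) n x))).symm

end Groth.Agent.S13640
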