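import Groth.Statements.S13641
import Groth.Agent.AdicLinTop.ProperLevels
-- import your own Groth.Agent.* helpers here

set_option autoImplicit false
open CategoryTheory CategoryTheory.Limits Opposite
universe u
open FSch

set_option backward.defeqAttrib.useBackward true
set_option backward.isDefEq.respectTransparency false
set_option backward.isDefEq.respectTransparency.types false
set_option synthInstance.maxHeartbeats 400000
set_option maxHeartbeats 2000000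

namespace Groth.Agent.S13641

open Groth.AdicLinTop Groth.AdicLinTop.ProperLevels
open CategoryTheory.Abelian (Ext)

/-- Let A be an adic Noetherian ring with ideal of definition J, 𝔛 a locally Noetherian formal scheme, f
: 𝔛 ⟶ Spf A a proper morphism and 𝔉 a coherent O_𝔛-module; with u_k : X_k ⟶ 𝔛 the k-th level, put
𝔉_k = (u_k)_* u_k^* 𝔉 = 𝔉 / J^(k+1) 𝔉. Then for every n the canonical map H^n(𝔛, 𝔉) ⟶ lim_k H^n(𝔛,
𝔉_k) is bijective: a class whose image in every H^n(𝔛, 𝔉_k) vanishes is zero, and every family of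
classes in the H^n(𝔛, 𝔉_k) compatible under the transition maps is the image of one class. (The
published statement asserts a topological isomorphism, for the J-adic topology on the first group
and the discrete topologies on the others; this row asserts bijectivity only, without topologies or
A-module structure.) -/
theorem result (A : Type u) [CommRing A] [IsNoetherianRing A] (J : Ideal A)
    [IsAdicComplete J A] (h𝔜 : (FSch.spf A J).IsLocNoethFormal) (𝔛 : FSch.Sys.{u}) (h𝔛 : 𝔛.IsLocNoethFormal)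
    (f : 𝔛 ⟶ FSch.spf A J) (hf : FSch.IsProperHom f) [HasInjectiveResolutions (FSch.ModF 𝔛 h𝔛.1)]
    (𝔉 : FSch.ModF 𝔛 h𝔛.1) (h𝔉 : FSch.IsCohF 𝔛 h𝔛.1 𝔉) (n : ℕ) :
    (∀ x : FSch.HF 𝔛 h𝔛.1 𝔉 n,
      (∀ k : ℕ, Sheaf.H.map ((SheafOfModules.toSheaf _).map ((FSch.levelMor 𝔛 h𝔛.1 k).adj.unit.app 𝔉)) n x = 0) → x = 0) ∧
    (∀ y : ∀ k : ℕ, FSch.HF 𝔛 h𝔛.1 ((FSch.levelMor 𝔛 h𝔛.1 k).push.obj ((FSch.levelMor 𝔛 h𝔛.1 k).pull.obj 𝔉)) n,
      (∀ k : ℕ, Sheaf.H.map ((SheafOfModules.toSheaf _).map (FSch.levelTrans 𝔛 h𝔛.1 𝔉 k)) n (y (k + 1)) = y k) →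
      ∃ x : FSch.HF 𝔛 h𝔛.1 𝔉 n, ∀ k : ℕ,
        Sheaf.H.map ((SheafOfModules.toSheaf _).map ((FSch.levelMor 𝔛 h𝔛.1 k).adj.unit.app 𝔉)) n x = y k) := by
  have hV : AlgebraicGeometry.IsAffineOpen (⊤ : ((FSch.spf A J).X 0).Opens) := by
    haveI : AlgebraicGeometry.IsAffine ((FSch.spf A J).X 0) :=
      inferInstanceAs (AlgebraicGeometry.IsAffine (AlgebraicGeometry.Spec _))
    exact AlgebraicGeometry.isAffineOpen_top _
  refine ⟨fun x hx => ?_, fun y hy => ?_⟩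
  · refine (bijective_glob (T := (𝔛.X 0).toTopCat) (ModSite.toAb 𝔉) n).1
      (Eq.trans ?_ (map_zero (glob (T := (𝔛.X 0).toTopCat) (ModSite.toAb 𝔉) n)).symm)
    exact eq_zero f h𝔛 h𝔜 hf hV n h𝔉 (glob (T := (𝔛.X 0).toTopCat) (ModSite.toAb 𝔉) n x) fun k =>
      (glob_map (T := (𝔛.X 0).toTopCat) ((SheafOfModules.toSheaf _).map
        ((FSch.levelMor 𝔛 h𝔛.1 k).adj.unit.app 𝔉)) n x).symm.trans
        ((congrArg (glob (T := (𝔛.X 0).toTopCat) (ModSite.toAb (FormalTower.levM h𝔛 𝔉 k)) n) (hx k)).trans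
          (map_zero _))
  · obtain ⟨w, hw⟩ := FormalLim.exists_class h𝔛 h𝔉 (⊤ : (𝔛.X 0).Opens)
      (Groth.CohBase.constZ (TopCat.of (⊤ : (𝔛.X 0).Opens))) n
      (fun k => glob (T := (𝔛.X 0).toTopCat) (ModSite.toAb (FormalTower.levM h𝔛 𝔉 k)) n (y k))
      fun k => (glob_map (T := (𝔛.X 0).toTopCat) ((SheafOfModules.toSheaf _).map
        (FSch.levelTrans 𝔛 h𝔛.1 𝔉 k)) n (y (k + 1))).symm.trans
        (congrArg (glob (T := (𝔛.X 0).toTopCat) (ModSite.toAb (FormalTower.levM h𝔛 𝔉 k)) n) (hy k))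
    obtain ⟨x, hx⟩ := (bijective_glob (T := (𝔛.X 0).toTopCat) (ModSite.toAb 𝔉) n).2 w
    refine ⟨x, fun k => (bijective_glob (T := (𝔛.X 0).toTopCat) (ModSite.toAb (FormalTower.levM h𝔛 𝔉 k)) n).1 ?_⟩
    refine ((glob_map (T := (𝔛.X 0).toTopCat) ((SheafOfModules.toSheaf _).map
      ((FSch.levelMor 𝔛 h𝔛.1 k).adj.unit.app 𝔉)) n x).trans ?_)
    exact (congrArg (fun v => v.comp (Ext.mk₀ (FormalLim.pp h𝔛 (⊤ : (𝔛.X 0).Opens) k)) (add_zero n)) hx).trans (hw k)

end Groth.Agent.S13641
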