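import Groth.Statements.S13642
-- import your own Groth.Agent.* helpers here

set_option autoImplicit false
open CategoryTheory
universe u
open FSch AlgebraicGeometry

namespace Groth.Agent.S13642

lemma isFinite_resLE {X Y : AlgebraicGeometry.Scheme.{u}} (f : X ⟶ Y) [AlgebraicGeometry.IsFinite f]
    (W : Y.Opens) (V : X.Opens) (hV : V = f ⁻¹ᵁ W) (e : V ≤ f ⁻¹ᵁ W) :
    AlgebraicGeometry.IsFinite (f.resLE W V e) := by
  subst hV
  rw [AlgebraicGeometry.Scheme.Hom.resLE_eq_morphismRestrict]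
  exact MorphismProperty.of_isPullback (AlgebraicGeometry.isPullback_morphismRestrict f W).flip ‹_›

/-- Let f : 𝔛 ⟶ 𝔜 be a finite morphism of locally Noetherian formal schemes (adic, with finite morphism
of smallest levels). Then for every open U of 𝔜 the restriction f⁻¹(U) ⟶ U of f to the induced
formal schemes on U and on its inverse image is a finite morphism. -/
theorem result (𝔛 𝔜 : FSch.Sys.{u}) (h𝔛 : 𝔛.IsLocNoethFormal) (h𝔜 : 𝔜.IsLocNoethFormal)
    (f : 𝔛 ⟶ 𝔜) (hf : FSch.IsFiniteHom f) (U : (𝔜.X 0).Opens) :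
    FSch.IsFiniteHom (FSch.Hom.restrictOpen f h𝔛.1 h𝔜.1 U) := by
  refine ⟨fun n => ?_, ?_⟩
  · exact Scheme.Hom.isPullback_resLE (hf.1 n) (𝔜.lvU_le h𝔜.1 n U)
      (FSch.Hom.lvU_preimage f h𝔛.1 h𝔜.1 (n + 1) U).ge
      (by rw [𝔛.lvU_succ h𝔛.1 n, FSch.Hom.lvU_preimage f h𝔛.1 h𝔜.1 n U, inf_idem])
  · haveI := hf.2
    exact isFinite_resLE _ _ _ (FSch.Hom.lvU_preimage f h𝔛.1 h𝔜.1 0 U).symm _

end Groth.Agent.S13642
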