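import Groth.Statements.S13650
import Groth.Agent.AdicLinTop.AlgFormalH

set_option autoImplicit false
open CategoryTheory CategoryTheory.Limits AlgebraicGeometry
universe u
open FSch

namespace Groth.Agent.S13650

theorem result (A : Type u) [CommRing A] [IsNoetherianRing A]
    (I : Ideal A) (X : Scheme.{u}) [X.Over (Spec (CommRingCat.of A))] [IsProper (X ↘ Spec (CommRingCat.of A))]
    (𝓚 : X.IdealSheafData) (h𝓚 : 𝓚 = (FSch.idealSpec A I).comap (X ↘ Spec (CommRingCat.of A)))
    (hX : (FSch.completionAlong X 𝓚).IsFormal) (F : X.Modules) (hF : Coh.IsCoh F) (n : ℕ) :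
    Nonempty (FSch.HF (FSch.completionAlong X 𝓚) hX ((FSch.toSchemeMor (FSch.completionAlong X 𝓚) hX (FSch.completionToX X 𝓚) (FSch.completionToX_comm X 𝓚)).pull.obj F) n ≃+ Formal.HHlim I F n) := by
  have := Groth.CohC3.isNoetherian_of_proper A X
  obtain ⟨e⟩ := Groth.AdicLinTop.AlgFormalH.nonempty_equiv_realMod I hF h𝓚 hX n
  have hε := Groth.AdicLinTop.ComplPull.isIso_gamma_adjunct hX hF
  let ε := @asIso _ _ _ _ _ hε
  let δ := (SheafOfModules.toSheaf _).mapIso ε
  refine ⟨AddEquiv.trans ?_ e⟩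
  exact
    { toFun := fun x => x.comp (CategoryTheory.Abelian.Ext.mk₀ δ.hom) (add_zero n)
      invFun := fun x => x.comp (CategoryTheory.Abelian.Ext.mk₀ δ.inv) (add_zero n)
      left_inv := fun x => by simp
      right_inv := fun x => by simp
      map_add' := fun x y => CategoryTheory.Abelian.Ext.add_comp _ _ _ _ }

end Groth.Agent.S13650
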