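import Groth.Statements.S13652
import Groth.Agent.FBlowLib.Glue
-- import your own Groth.Agent.* helpers here

set_option autoImplicit false
open CategoryTheory AlgebraicGeometry
universe u
open FBlow

namespace Groth.Agent.S13652

/-- Let R be a base ring of class (N) or (V) for the ideal I and X an admissible formal R-scheme,
presented I-adically: a formal system of thickenings X_0 → X_1 → ⋯ adic over Spf R = (Spec
R/I^(n+1))_n (all squares cartesian), with every level X_n locally of finite presentation over
R/I^(n+1), structure sheaf O_X = lim O_{X_n} on the common underlying space, and no I-torsion (over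
every open, a section of O_X annihilated by the kernel of O_X → O_{X_0} is zero). Let J be a
coherent open ideal of O_X. Then the formal blowing-up of J on X exists as a formal system X' → X
with the universal property that characterises an admissible formal blowing-up: the morphism is
adic, J·O_{X'} is an invertible ideal, and every adic morphism of formal systems Y → X under which J
generates an invertible ideal of O_Y factors through X' → X in exactly one way. -/
theorem result
    (R : Type u) [CommRing R] (I : Ideal R) (hR : AdicRing.IsBase R I)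
    (𝔛 : FSch.Sys.{u}) (h : 𝔛.IsFormal) (p : 𝔛 ⟶ FSch.spf R I) (hp : FSch.IsAdicHom p)
    (hfp : ∀ n, LocallyOfFinitePresentation ((p : FSch.Hom 𝔛 (FSch.spf R I)).app n))
    (htf : ∀ (U : (𝔛.X 0).Opens) (s : (𝔛.Osh h).obj.obj (Opposite.op U)),
      (∀ a ∈ (FBlow.IdealSh.ker (𝔛.OshProj h 0)).sect U, a * s = 0) → s = 0)
    (J : FBlow.IdealSh (𝔛.Osh h)) (hJ : FBlow.IsCohOpen 𝔛 h J) :
    ∃ (𝔛' : FSch.Sys.{u}) (h' : 𝔛'.IsFormal) (b : 𝔛' ⟶ 𝔛), FBlow.IsAdmBlowUp b h' h J := by
  have hIfg : I.FG := by
    rcases hR.2 with ⟨hN, -⟩ | ⟨-, -, -, t, -, rfl⟩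
    · exact (isNoetherianRing_iff_ideal_fg R).1 hN I
    · exact Submodule.fg_span_singleton t
  have hS : (FSch.spf R I).IsFormal := Groth.AdicLinTop.Thickenings.isFormal_spf I
  let o := (Groth.FBlowLib.Over.spf R I).comp hS p hp
  let D : Groth.FBlowLib.Glue.Datum 𝔛 := ⟨h, J, fun x O hx => by
    obtain ⟨U, hU, n, 𝔞, hxU, hUO, -, hpow, hJU⟩ := Groth.FBlowLib.exists_affine_centre o hIfg hJ hx
    have hU' := Groth.FBlowLib.isFormal_restrictOpen' h U
    have hJ' := o.idealMap_affine_eq hIfg hU hU' hJU
    obtain ⟨-, -, -, 𝔓, hP, -, b, -, -, -, -, hb⟩ := Groth.FBlowLib.exists_completion_blowUp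
      (hIfg.map (o.φ h U)) hpow hU' (o.affine hIfg hU)
      (o.affine_isClosedImmersion hIfg hU) (o.affine_ker hIfg hU)
    rw [← hJ'] at hb
    exact ⟨U, hxU, hUO, 𝔓, hP, _, Groth.FBlowLib.IsBlowOver.of_restrict hU' hb⟩⟩
  exact ⟨_, Groth.FBlowLib.Glue.isFormal_glued D, Groth.FBlowLib.Glue.toBase D,
    Groth.FBlowLib.Glue.isAdmBlowUp_glued D⟩

end Groth.Agent.S13652
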