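import Groth.Statements.S13658
import Groth.Agent.FBlowLib.BlowAdm
import Groth.Agent.FBlowLib.Mul
import Groth.Agent.FBlowLib.BlowOver
-- import your own Groth.Agent.* helpers here

set_option autoImplicit false
open CategoryTheory AlgebraicGeometry
universe u
open FBlow

namespace Groth.Agent.S13658

/-- Let R be a base ring of class (N) or (V) for the ideal I and X an admissible formal R-scheme,
presented I-adically: a formal system of thickenings X_0 → X_1 → ⋯ adic over Spf R = (Spec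
R/I^(n+1))_n (all squares cartesian), with every level X_n locally of finite presentation over
R/I^(n+1), structure sheaf O_X = lim O_{X_n} on the common underlying space, and no I-torsion (over
every open, a section of O_X annihilated by the kernel of O_X → O_{X_0} is zero). Let J and K be
coherent open ideals of O_X, X' → X an admissible formal blowing-up of J (universal-property sense)
and X'' → X' an admissible formal blowing-up of the ideal K·O_{X'}. Then the composite X'' → X is an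
admissible formal blowing-up of the product ideal J·K. -/
theorem result
    (R : Type u) [CommRing R] (I : Ideal R) (hR : AdicRing.IsBase R I)
    (𝔛 : FSch.Sys.{u}) (h : 𝔛.IsFormal) (p : 𝔛 ⟶ FSch.spf R I) (hp : FSch.IsAdicHom p)
    (hfp : ∀ n, LocallyOfFinitePresentation ((p : FSch.Hom 𝔛 (FSch.spf R I)).app n))
    (htf : ∀ (U : (𝔛.X 0).Opens) (s : (𝔛.Osh h).obj.obj (Opposite.op U)),
      (∀ a ∈ (FBlow.IdealSh.ker (𝔛.OshProj h 0)).sect U, a * s = 0) → s = 0)
    (J K : FBlow.IdealSh (𝔛.Osh h)) (hJ : FBlow.IsCohOpen 𝔛 h J) (hK : FBlow.IsCohOpen 𝔛 h K)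
    (𝔛' : FSch.Sys.{u}) (h' : 𝔛'.IsFormal) (b : 𝔛' ⟶ 𝔛) (hb : FBlow.IsAdmBlowUp b h' h J)
    (𝔛'' : FSch.Sys.{u}) (h'' : 𝔛''.IsFormal) (b' : 𝔛'' ⟶ 𝔛')
    (hb' : FBlow.IsAdmBlowUp b' h'' h' (FBlow.idealMap b h' h K)) :
    FBlow.IsAdmBlowUp (b' ≫ b) h'' h (FBlow.IdealSh.mul J K) := by
  have hI := Groth.TopFinType.fg_of_isBase hR
  have hp' : FSch.IsAdicHom (b ≫ p) := Groth.FBlowLib.isAdicHom_comp hb.1 hp
  have hadic : FSch.IsAdicHom (b' ≫ b) := Groth.FBlowLib.isAdicHom_comp hb'.1 hb.1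
  have hfp' := Groth.FBlowLib.locallyOfFinitePresentation_isAdmBlowUp hR p hp hfp htf hJ hb
  have htf' := Groth.FBlowLib.eq_zero_of_isAdmBlowUp hR p hp hfp htf hJ hb
  have hK' : FBlow.IsCohOpen 𝔛' h' (FBlow.idealMap b h' h K) :=
    Groth.FBlowLib.isCohOpen_idealMap (Groth.FBlowLib.baseOver p hp) hI b hb.1 hK
  have hJ' : FBlow.IsCohOpen 𝔛' h' (FBlow.idealMap b h' h J) :=
    Groth.FBlowLib.isCohOpen_idealMap (Groth.FBlowLib.baseOver p hp) hI b hb.1 hJ
  have htf'' := Groth.FBlowLib.eq_zero_of_isAdmBlowUp hR (b ≫ p) hp' hfp' htf' hK' hb'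
  refine ⟨hadic, ?_, fun 𝔜 hY g hg hinv => ?_⟩
  · rw [Groth.FBlowLib.idealMap_mul, Groth.FBlowLib.idealMap_comp (hY := h'),
      Groth.FBlowLib.idealMap_comp (hY := h')]
    exact Groth.FBlowLib.isInvertible_mul
      (Groth.FBlowLib.isInvertible_idealMap_of_torsionFree hI (Groth.FBlowLib.baseOver (b ≫ p) hp') b' hb'.1 htf''
        hJ' hb.2.1) hb'.2.1
  rw [Groth.FBlowLib.idealMap_mul] at hinv
  have hJY := Groth.FBlowLib.isInvertible_left_of_mul hinv
  rw [Groth.FBlowLib.mul_comm'] at hinv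
  have hKY := Groth.FBlowLib.isInvertible_left_of_mul hinv
  obtain ⟨k, hk, hkuniq⟩ := hb.2.2 𝔜 hY g hg hJY
  have hkadic : FSch.IsAdicHom k := Groth.FBlowLib.isAdicHom_of_comp (hk ▸ hg) hb.1
  obtain ⟨k', hk', hkuniq'⟩ := hb'.2.2 𝔜 hY k hkadic (by
    rw [← Groth.FBlowLib.idealMap_comp]
    exact hk ▸ hKY)
  refine ⟨k', ?_, fun l hl => hkuniq' l (hkuniq _ ?_)⟩
  · show k' ≫ b' ≫ b = g
    rw [← Category.assoc, hk', hk]
  · show (l ≫ b') ≫ b = g
    rw [Category.assoc]
    exact hl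

end Groth.Agent.S13658
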