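import Groth.Statements.S13655
import Groth.Agent.FBlowLib.ExtendFormal
import Groth.Agent.FBlowLib.Prod
import Groth.Agent.S13652

set_option autoImplicit false
set_option backward.isDefEq.respectTransparency false
set_option backward.isDefEq.respectTransparency.types false
open CategoryTheory AlgebraicGeometry TopologicalSpace
universe u
open FBlow

namespace Groth.Agent.S13655

/-- Let R be a base ring of class (N) or (V) for the ideal I and X an admissible formal R-scheme,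
presented I-adically: a formal system of thickenings X_0 → X_1 → ⋯ adic over Spf R = (Spec
R/I^(n+1))_n (all squares cartesian), with every level X_n locally of finite presentation over
R/I^(n+1), structure sheaf O_X = lim O_{X_n} on the common underlying space, and no I-torsion (over
every open, a section of O_X annihilated by the kernel of O_X → O_{X_0} is zero); assume the
underlying space of X is quasi-separated. Let (X_i) be a covering of finite type (each member meets
only finitely many others) by quasi-compact open subsets, each carrying the induced formal system,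
and for every i let X_i' → X_i be an admissible formal blowing-up of a coherent open ideal J_i of
O_{X_i}. Then there is an admissible formal blowing-up X' → X of some coherent open ideal of O_X
dominating all of them: for every i the restriction of X' → X over X_i factors through X_i' → X_i in
exactly one way. -/
theorem result
    (R : Type u) [CommRing R] (I : Ideal R) (hR : AdicRing.IsBase R I)
    (𝔛 : FSch.Sys.{u}) (h : 𝔛.IsFormal) (p : 𝔛 ⟶ FSch.spf R I) (hp : FSch.IsAdicHom p)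
    (hfp : ∀ n, LocallyOfFinitePresentation ((p : FSch.Hom 𝔛 (FSch.spf R I)).app n))
    (htf : ∀ (U : (𝔛.X 0).Opens) (s : (𝔛.Osh h).obj.obj (Opposite.op U)),
      (∀ a ∈ (FBlow.IdealSh.ker (𝔛.OshProj h 0)).sect U, a * s = 0) → s = 0)
    [QuasiSeparatedSpace (𝔛.X 0)]
    (ι : Type u) (V : ι → (𝔛.X 0).Opens) (hV : (⨆ i, V i) = ⊤) (hVc : ∀ i, IsCompact (V i : Set (𝔛.X 0)))
    (hVf : ∀ i, Set.Finite {j : ι | V i ⊓ V j ≠ ⊥}) (hVi : ∀ i, (𝔛.restrictOpen h (V i)).IsFormal)
    (Ji : ∀ i, FBlow.IdealSh ((𝔛.restrictOpen h (V i)).Osh (hVi i)))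
    (hJi : ∀ i, FBlow.IsCohOpen (𝔛.restrictOpen h (V i)) (hVi i) (Ji i))
    (𝔛i : ι → FSch.Sys.{u}) (hi : ∀ i, (𝔛i i).IsFormal) (bi : ∀ i, 𝔛i i ⟶ 𝔛.restrictOpen h (V i))
    (hbi : ∀ i, FBlow.IsAdmBlowUp (bi i) (hi i) (hVi i) (Ji i)) :
    ∃ (J : FBlow.IdealSh (𝔛.Osh h)) (𝔛' : FSch.Sys.{u}) (h' : 𝔛'.IsFormal) (b : 𝔛' ⟶ 𝔛),
      FBlow.IsCohOpen 𝔛 h J ∧ FBlow.IsAdmBlowUp b h' h J ∧
      ∀ i, ∃! k : 𝔛'.restrictOpen h' (((b : FSch.Hom 𝔛' 𝔛).app 0) ⁻¹ᵁ (V i)) ⟶ 𝔛i i,
        k ≫ bi i = FSch.Hom.restrictOpen b h' h (V i) := by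
  classical
  choose n ℬ hℬ hres htop using fun i => Groth.FBlowLib.exists_levelExtension hR p hp hfp
    ⟨ι, V, hV, hVc, hVf⟩ (V i) (hVc i) (hVi i) (Ji i) (hJi i)
  let F : ι → FBlow.IdealSh (𝔛.Osh h) := fun i => FBlow.ofLevel 𝔛 h (n i) (ℬ i)
  have hF : ∀ j W, V j ⊓ W = ⊥ → (F j).sect W = ⊤ := fun j W hW => htop j W (by rwa [inf_comm])
  have hJ : FBlow.IsCohOpen 𝔛 h (Groth.FBlowLib.famProd V F Set.univ) := by
    intro x
    obtain ⟨i, hxi⟩ := Opens.mem_iSup.1 (hV.ge (Opens.mem_top x))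
    obtain ⟨W, hxW, N, 𝒜, h𝒜, hW⟩ := Groth.FBlowLib.isCohOpen_famProd (Groth.FBlowLib.baseOver p hp)
      (Groth.TopFinType.fg_of_isBase hR) hF (hVf i).toFinset n ℬ hℬ (fun _ => rfl) x
    refine ⟨W ⊓ V i, ⟨hxW, hxi⟩, N, 𝒜, h𝒜, fun W' hW' => ?_⟩
    rw [Groth.FBlowLib.famProd_sect_eq (O := V i) (Set.subset_univ (↑(hVf i).toFinset))
      (fun j _ hj => ?_) W' (hW'.trans inf_le_right)]
    · exact hW W' (hW'.trans inf_le_left)
    · rw [Set.Finite.coe_toFinset] at hj
      rw [inf_comm]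
      exact not_not.1 hj
  obtain ⟨𝔛', h', b, hb⟩ := Groth.Agent.S13652.result R I hR 𝔛 h p hp hfp htf _ hJ
  refine ⟨_, 𝔛', h', b, hJ, hb, fun i => ?_⟩
  have hinv := hb.2.1
  rw [Groth.FBlowLib.famProd_eq_mul hF (Set.mem_univ i), Groth.FBlowLib.idealMap_mul] at hinv
  have hU' := Groth.FBlowLib.isFormal_restrictOpen' h' (((b : FSch.Hom 𝔛' 𝔛).app 0) ⁻¹ᵁ (V i))
  refine (hbi i).2.2 _ hU' _ (Groth.FBlowLib.isAdicHom_restrictOpen b hb.1 (V i)) ?_
  rw [← hres i, ← Groth.FBlowLib.idealMap_comp, FSch.Hom.restrictOpen_ι,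
    Groth.FBlowLib.idealMap_comp (hY := h')]
  exact Groth.FBlowLib.isInvertible_idealMap_openImmersion _ (Groth.FBlowLib.isOpenImmersion_restrictOpenι _)
    (Groth.FBlowLib.isInvertible_left_of_mul hinv)

end Groth.Agent.S13655
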