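import Groth.Statements.S13656
import Groth.Agent.FBlowLib.OpenSub
import Groth.Agent.S13653
import Groth.Agent.S13655

set_option autoImplicit false
set_option backward.isDefEq.respectTransparency false
set_option backward.isDefEq.respectTransparency.types false
open CategoryTheory AlgebraicGeometry TopologicalSpace
universe u
open FBlow

namespace Groth.Agent.S13656

/-- Let R be a base ring of class (N) or (V) for the ideal I and X an admissible formal R-scheme,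
presented I-adically: a formal system of thickenings X_0 → X_1 → ⋯ adic over Spf R = (Spec
R/I^(n+1))_n (all squares cartesian), with every level X_n locally of finite presentation over
R/I^(n+1), structure sheaf O_X = lim O_{X_n} on the common underlying space, and no I-torsion (over
every open, a section of O_X annihilated by the kernel of O_X → O_{X_0} is zero); assume that the
underlying space of X is quasi-separated and quasi-paracompact (covered by quasi-compact opens each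
of which meets only finitely many of the others). If X' → X is an admissible formal blowing-up of a
coherent open ideal of O_X and X'' → X' an admissible formal blowing-up of a coherent open ideal of
O_{X'}, then there is an admissible formal blowing-up X''' → X of some coherent open ideal of O_X
dominating the composite X'' → X, that is, factoring through it by a morphism X''' → X''. -/
theorem result
    (R : Type u) [CommRing R] (I : Ideal R) (hR : AdicRing.IsBase R I)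
    (𝔛 : FSch.Sys.{u}) (h : 𝔛.IsFormal) (p : 𝔛 ⟶ FSch.spf R I) (hp : FSch.IsAdicHom p)
    (hfp : ∀ n, LocallyOfFinitePresentation ((p : FSch.Hom 𝔛 (FSch.spf R I)).app n))
    (htf : ∀ (U : (𝔛.X 0).Opens) (s : (𝔛.Osh h).obj.obj (Opposite.op U)),
      (∀ a ∈ (FBlow.IdealSh.ker (𝔛.OshProj h 0)).sect U, a * s = 0) → s = 0)
    [QuasiSeparatedSpace (𝔛.X 0)]
    (hqp : ∃ (ι : Type u) (V : ι → (𝔛.X 0).Opens), (⨆ i, V i) = ⊤ ∧ (∀ i, IsCompact (V i : Set (𝔛.X 0))) ∧
      ∀ i, Set.Finite {j : ι | V i ⊓ V j ≠ ⊥})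
    (J : FBlow.IdealSh (𝔛.Osh h)) (hJ : FBlow.IsCohOpen 𝔛 h J)
    (𝔛' : FSch.Sys.{u}) (h' : 𝔛'.IsFormal) (b : 𝔛' ⟶ 𝔛) (hb : FBlow.IsAdmBlowUp b h' h J)
    (J' : FBlow.IdealSh (𝔛'.Osh h')) (hJ' : FBlow.IsCohOpen 𝔛' h' J')
    (𝔛'' : FSch.Sys.{u}) (h'' : 𝔛''.IsFormal) (b' : 𝔛'' ⟶ 𝔛') (hb' : FBlow.IsAdmBlowUp b' h'' h' J') :
    ∃ (J''' : FBlow.IdealSh (𝔛.Osh h)) (𝔛''' : FSch.Sys.{u}) (h''' : 𝔛'''.IsFormal) (c : 𝔛''' ⟶ 𝔛),
      FBlow.IsCohOpen 𝔛 h J''' ∧ FBlow.IsAdmBlowUp c h''' h J''' ∧ ∃ s : 𝔛''' ⟶ 𝔛'', s ≫ b' ≫ b = c := by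
  classical
  obtain ⟨ι, V, hV, hVc, hVf⟩ := hqp
  have hI := Groth.TopFinType.fg_of_isBase hR
  have hVi := fun i => Groth.FBlowLib.isFormal_restrictOpen' h (V i)
  have hopen := fun (i : ι) (n : ℕ) => Groth.FBlowLib.isOpenImmersion_restrictOpenι (h := h) (V i) n
  have hJi := fun i => Groth.FBlowLib.isCohOpen_idealMap (hY := hVi i) (Groth.FBlowLib.baseOver p hp) hI
    (𝔛.restrictOpenι h (V i)) (Groth.FBlowLib.isAdicHom_restrictOpenι h (V i)) hJ
  let V' : ι → (𝔛'.X 0).Opens := fun i => ((b : FSch.Hom 𝔛' 𝔛).app 0) ⁻¹ᵁ (V i)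
  let V'' : ι → (𝔛''.X 0).Opens := fun i => ((b' : FSch.Hom 𝔛'' 𝔛').app 0) ⁻¹ᵁ (V' i)
  have hV'i := fun i => Groth.FBlowLib.isFormal_restrictOpen' h' (V' i)
  have hV''i := fun i => Groth.FBlowLib.isFormal_restrictOpen' h'' (V'' i)
  have hbi := fun i => Groth.FBlowLib.isAdmBlowUp_restrictOpen hb (V i)
  have hb'i := fun i => Groth.FBlowLib.isAdmBlowUp_restrictOpen hb' (V' i)
  have hp' : FSch.IsAdicHom (b ≫ p) := Groth.FBlowLib.isAdicHom_comp hb.1 hp
  have hJ'i := fun i => Groth.FBlowLib.isCohOpen_idealMap (hY := hV'i i) (Groth.FBlowLib.baseOver (b ≫ p) hp') hI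
    (𝔛'.restrictOpenι h' (V' i)) (Groth.FBlowLib.isAdicHom_restrictOpenι h' (V' i)) hJ'
  have hpi : ∀ i, FSch.IsAdicHom (𝔛.restrictOpenι h (V i) ≫ p) := fun i =>
    Groth.FBlowLib.isAdicHom_comp (Groth.FBlowLib.isAdicHom_restrictOpenι h (V i)) hp
  have hfpi : ∀ i n, LocallyOfFinitePresentation
      ((𝔛.restrictOpenι h (V i) ≫ p : FSch.Hom _ (FSch.spf R I)).app n) := fun i n => by
    have := hfp n
    have := hopen i n
    exact inferInstanceAs (LocallyOfFinitePresentation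
      ((𝔛.restrictOpenι h (V i) : FSch.Hom _ 𝔛).app n ≫ (p : FSch.Hom 𝔛 (FSch.spf R I)).app n))
  have htfi := fun i => Groth.FBlowLib.eq_zero_openImmersion (hY := hVi i) (𝔛.restrictOpenι h (V i)) (hopen i) htf
  have hlvU : ∀ i, 𝔛.lvU h 0 (V i) = V i := fun i =>
    Groth.AdicLinTop.FormalLevels.toX_preimage_lvU h 0 (V i)
  have hci : ∀ i, CompactSpace ((𝔛.restrictOpen h (V i)).X 0) := fun i =>
    isCompact_iff_compactSpace.mp (show IsCompact ((𝔛.lvU h 0 (V i) : (𝔛.X 0).Opens) : Set (𝔛.X 0)) by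
      rw [hlvU i]; exact hVc i)
  have hqi : ∀ i, QuasiSeparatedSpace ((𝔛.restrictOpen h (V i)).X 0) := fun i =>
    (𝔛.lvU h 0 (V i)).ι.isOpenEmbedding.quasiSeparatedSpace
  choose Ji hJ''i hcomp using fun i =>
    @Groth.Agent.S13653.result R _ I hR _ (hVi i) _ (hpi i) (hfpi i) (htfi i) (hci i) (hqi i)
      _ (hJi i) _ (hV'i i) _ (hbi i) _ (hJ'i i) _ (hV''i i) _ (hb'i i)
  obtain ⟨J''', 𝔛''', h''', c, hJ''', hc, hdom⟩ := Groth.Agent.S13655.result R I hR 𝔛 h p hp hfp htf ι V hV hVc hVf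
    hVi Ji hJ''i (fun i => 𝔛''.restrictOpen h'' (V'' i)) hV''i _ hcomp
  choose k hk _ using hdom
  let W : ι → (𝔛'''.X 0).Opens := fun i => ((c : FSch.Hom 𝔛''' 𝔛).app 0) ⁻¹ᵁ (V i)
  have hWi := fun i => Groth.FBlowLib.isFormal_restrictOpen' h''' (W i)
  have hWopen := fun (i : ι) (n : ℕ) => Groth.FBlowLib.isOpenImmersion_restrictOpenι (h := h''') (W i) n
  have hcover : ∀ x : 𝔛'''.X 0, ∃ i, x ∈ Set.range
      ((𝔛'''.restrictOpenι h''' (W i) : FSch.Hom _ 𝔛''').app 0).base := fun x => by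
    obtain ⟨i, hi⟩ := Opens.mem_iSup.1 (hV.ge (Opens.mem_top (((c : FSch.Hom 𝔛''' 𝔛).app 0).base x)))
    exact ⟨i, (Groth.FBlowLib.range_restrictOpenι (h := h''') (W i)).ge hi⟩
  have htf''' := Groth.FBlowLib.eq_zero_of_isAdmBlowUp hR p hp hfp htf hJ''' hc
  have htfW := fun i => Groth.FBlowLib.eq_zero_openImmersion (hY := hWi i) (𝔛'''.restrictOpenι h''' (W i)) (hWopen i)
    htf'''
  -- the maps from the pieces
  let l : ∀ i, 𝔛'''.restrictOpen h''' (W i) ⟶ 𝔛'' := fun i => k i ≫ 𝔛''.restrictOpenι h'' (V'' i)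
  have hlc : ∀ i, (l i ≫ b') ≫ b = 𝔛'''.restrictOpenι h''' (W i) ≫ c := fun i => by
    rw [← FSch.Hom.restrictOpen_ι c h''' h (V i), ← hk i]
    simp only [l, Category.assoc, FSch.Hom.restrictOpen_ι b h' h (V i)]
    rw [reassoc_of% FSch.Hom.restrictOpen_ι b' h'' h' (V' i)]
  have hWadic : ∀ i, FSch.IsAdicHom (𝔛'''.restrictOpenι h''' (W i) ≫ c) := fun i =>
    Groth.FBlowLib.isAdicHom_comp (Groth.FBlowLib.isAdicHom_restrictOpenι h''' (W i)) hc.1
  have hl'adic : ∀ i, FSch.IsAdicHom (l i ≫ b') := fun i =>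
    Groth.FBlowLib.isAdicHom_of_comp (hlc i ▸ hWadic i) hb.1
  have hladic : ∀ i, FSch.IsAdicHom (l i) := fun i => Groth.FBlowLib.isAdicHom_of_comp (hl'adic i) hb'.1
  have hinvJ : ∀ i, (FBlow.idealMap (𝔛'''.restrictOpenι h''' (W i) ≫ c) (hWi i) h J).IsInvertible := fun i => by
    rw [← hlc i, Groth.FBlowLib.idealMap_comp (hY := h')]
    exact Groth.FBlowLib.isInvertible_idealMap_of_torsionFree hI (Groth.FBlowLib.baseOver (b ≫ p) hp') _ (hl'adic i)
      (htfW i) (Groth.FBlowLib.isCohOpen_idealMap (Groth.FBlowLib.baseOver p hp) hI b hb.1 hJ) hb.2.1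
  have hJc : (FBlow.idealMap c h''' h J).IsInvertible := Groth.FBlowLib.isInvertible_of_openImmersions fun x => by
    obtain ⟨i, hi⟩ := hcover x
    exact ⟨_, hWi i, _, hWopen i, hi, by rw [← Groth.FBlowLib.idealMap_comp]; exact hinvJ i⟩
  obtain ⟨v, hv, -⟩ := hb.2.2 _ h''' c hc.1 hJc
  have hvadic : FSch.IsAdicHom v := Groth.FBlowLib.isAdicHom_of_comp (hv ▸ hc.1) hb.1
  have hvl : ∀ i, l i ≫ b' = 𝔛'''.restrictOpenι h''' (W i) ≫ v := fun i => by
    obtain ⟨_, -, huniq⟩ := hb.2.2 _ (hWi i) _ (hWadic i) (hinvJ i)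
    exact (huniq _ (hlc i)).trans (huniq _ (by show (_ ≫ v) ≫ b = _; rw [Category.assoc, hv])).symm
  have hJv : (FBlow.idealMap v h''' h' J').IsInvertible := Groth.FBlowLib.isInvertible_of_openImmersions fun x => by
    obtain ⟨i, hi⟩ := hcover x
    refine ⟨_, hWi i, _, hWopen i, hi, ?_⟩
    rw [← Groth.FBlowLib.idealMap_comp, ← hvl i, Groth.FBlowLib.idealMap_comp (hY := h'')]
    exact Groth.FBlowLib.isInvertible_idealMap_of_torsionFree hI
      (Groth.FBlowLib.baseOver (b' ≫ b ≫ p) (Groth.FBlowLib.isAdicHom_comp hb'.1 hp')) _ (hladic i)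
      (htfW i) (Groth.FBlowLib.isCohOpen_idealMap (Groth.FBlowLib.baseOver (b ≫ p) hp') hI b' hb'.1 hJ') hb'.2.1
  obtain ⟨s, hs, -⟩ := hb'.2.2 _ h''' v hvadic hJv
  exact ⟨J''', 𝔛''', h''', c, hJ''', hc, s, by rw [← Category.assoc, hs, hv]⟩

end Groth.Agent.S13656
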