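import Groth.Statements.S13660
import Groth.Agent.FBlowLib.ChartSpf
import Groth.Agent.FBlowLib.ChartAlg
import Groth.Agent.S11545

set_option autoImplicit false
open CategoryTheory AlgebraicGeometry
universe u
open FBlow

namespace Groth.Agent.S13660

set_option maxHeartbeats 1600000 in
/-- Let R be a base ring of class (N) or (V) for the ideal I, A an admissible R-algebra and f_0, …, f_r
elements generating an open ideal 𝔞 of A (one containing I^k A for some k); present Spf A as the
formal system (Spec A/(IA)^(n+1))_n and let X' → Spf A be an admissible formal blowing-up of the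
ideal 𝔞·O_{Spf A} (universal-property sense). For each i let U_i be the locus of points of X' having
a neighbourhood on every open subset of which the ideals generated by 𝔞 and by f_i in O_{X'}
coincide, and let A_i be the I-adic completion of A[ζ_j ; j ≠ i]/(f_i ζ_j − f_j ; j ≠ i) divided by
its f_i-power torsion. Then the U_i cover X', and for every i there is a morphism Spf A_i → X' over
Spf A (its composite with X' → Spf A is the morphism induced by A → A_i) which is an open immersion
at every level and whose underlying image is exactly U_i. -/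
theorem result
    (R : Type u) [CommRing R] (I : Ideal R) (hR : AdicRing.IsBase R I)
    (A : Type u) [CommRing A] [Algebra R A] (hA : AdicRing.Admissible R I A)
    (r : ℕ) (f : Fin (r + 1) → A) (k : ℕ) (hopen : (I ^ k).map (algebraMap R A) ≤ Ideal.span (Set.range f))
    (hX : (FSch.spf A (I.map (algebraMap R A))).IsFormal)
    (𝔛' : FSch.Sys.{u}) (h' : 𝔛'.IsFormal) (b : 𝔛' ⟶ (FSch.spf A (I.map (algebraMap R A))))
    (hb : FBlow.IsAdmBlowUp b h' hX (FBlow.schIdealMap (FSch.spf A (I.map (algebraMap R A))) hX (FSch.spfToSpec A (I.map (algebraMap R A))) (FSch.spfToSpec_comm A (I.map (algebraMap R A))) (FBlow.IdealSh.ofData (FSch.idealSpec A (Ideal.span (Set.range f)))))) :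
    (∀ x : 𝔛'.X 0, ∃ i : Fin (r + 1), x ∈ {x : 𝔛'.X 0 | ∃ V : (𝔛'.X 0).Opens, x ∈ V ∧ ∀ V' : (𝔛'.X 0).Opens, V' ≤ V →
          (FBlow.idealMap b h' hX (FBlow.schIdealMap (FSch.spf A (I.map (algebraMap R A))) hX (FSch.spfToSpec A (I.map (algebraMap R A))) (FSch.spfToSpec_comm A (I.map (algebraMap R A))) (FBlow.IdealSh.ofData (FSch.idealSpec A (Ideal.span (Set.range f)))))).sect V' =
          (FBlow.idealMap b h' hX (FBlow.schIdealMap (FSch.spf A (I.map (algebraMap R A))) hX (FSch.spfToSpec A (I.map (algebraMap R A))) (FSch.spfToSpec_comm A (I.map (algebraMap R A))) (FBlow.IdealSh.ofData (FSch.idealSpec A (Ideal.span {f i}))))).sect V'}) ∧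
    ∀ (i : Fin (r + 1)) (hi : (FSch.spf (AdicRing.chartAdm I f i) (I.map (algebraMap R (AdicRing.chartAdm I f i)))).IsFormal)
      (hle : (I.map (algebraMap R A)) ≤ (I.map (algebraMap R (AdicRing.chartAdm I f i))).comap (algebraMap A (AdicRing.chartAdm I f i))),
      ∃ u : FSch.spf (AdicRing.chartAdm I f i) (I.map (algebraMap R (AdicRing.chartAdm I f i))) ⟶ 𝔛',
        u ≫ b = FSch.spfMap (I.map (algebraMap R (AdicRing.chartAdm I f i))) (I.map (algebraMap R A)) (algebraMap A (AdicRing.chartAdm I f i)) hle ∧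
        (∀ n, IsOpenImmersion ((u : FSch.Hom (FSch.spf (AdicRing.chartAdm I f i) (I.map (algebraMap R (AdicRing.chartAdm I f i)))) 𝔛').app n)) ∧
        Set.range ((u : FSch.Hom (FSch.spf (AdicRing.chartAdm I f i) (I.map (algebraMap R (AdicRing.chartAdm I f i)))) 𝔛').app 0).base = {x : 𝔛'.X 0 | ∃ V : (𝔛'.X 0).Opens, x ∈ V ∧ ∀ V' : (𝔛'.X 0).Opens, V' ≤ V →
          (FBlow.idealMap b h' hX (FBlow.schIdealMap (FSch.spf A (I.map (algebraMap R A))) hX (FSch.spfToSpec A (I.map (algebraMap R A))) (FSch.spfToSpec_comm A (I.map (algebraMap R A))) (FBlow.IdealSh.ofData (FSch.idealSpec A (Ideal.span (Set.range f)))))).sect V' =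
          (FBlow.idealMap b h' hX (FBlow.schIdealMap (FSch.spf A (I.map (algebraMap R A))) hX (FSch.spfToSpec A (I.map (algebraMap R A))) (FSch.spfToSpec_comm A (I.map (algebraMap R A))) (FBlow.IdealSh.ofData (FSch.idealSpec A (Ideal.span {f i}))))).sect V'} := by
  have hIfg : I.FG := by
    rcases hR.2 with ⟨hN, -⟩ | ⟨-, -, -, t, -, rfl⟩
    · exact (isNoetherianRing_iff_ideal_fg R).1 hN I
    · exact Submodule.fg_span_singleton t
  have hKfg : (I.map (algebraMap R A)).FG := hIfg.map _
  have hk : (I.map (algebraMap R A)) ^ k ≤ Ideal.span (Set.range f) := by rwa [← Ideal.map_pow]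
  let o := Groth.FBlowLib.Over.spf A (I.map (algebraMap R A))
  have hsch : ∀ 𝔟 : Ideal A, FBlow.schIdealMap (FSch.spf A (I.map (algebraMap R A))) hX (FSch.spfToSpec A (I.map (algebraMap R A))) (FSch.spfToSpec_comm A (I.map (algebraMap R A)))
      (FBlow.IdealSh.ofData (FSch.idealSpec A 𝔟)) = o.idealOf hX 𝔟 := fun 𝔟 => by
    rw [Groth.FBlowLib.idealSpec_eq_sheafOf]
    exact o.schIdealMap_eq 𝔟
  rw [hsch] at hb
  have hadic := hb.1
  have hinv := hb.2.1
  rw [o.idealMap_idealOf b hadic] at hinv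
  set o' := o.comp hX b hadic with ho'
  have hset : ∀ i (x : 𝔛'.X 0), (∃ V : (𝔛'.X 0).Opens, x ∈ V ∧ ∀ V' : (𝔛'.X 0).Opens, V' ≤ V →
      (o'.idealOf h' (Ideal.span (Set.range f))).sect V' = (o'.idealOf h' (Ideal.span {f i})).sect V') ↔
      ∃ U, x ∈ U ∧ o'.GoodAt h' (Ideal.span (Set.range f)) (f i) U := fun i x =>
    o'.goodAt_iff hKfg hk hinv (Ideal.subset_span (Set.mem_range_self i)) x
  refine ⟨fun x => ?_, fun i hi hle => ?_⟩
  · obtain ⟨i, hi⟩ := o'.exists_goodAt f hKfg hk hinv x
    refine ⟨i, ?_⟩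
    rw [Set.mem_setOf_eq, hsch, hsch, o.idealMap_idealOf b hadic, o.idealMap_idealOf b hadic]
    exact (hset i x).2 hi
  have hKC : I.map (algebraMap R (AdicRing.chartAdm I f i)) = (I.map (algebraMap R A)).map (algebraMap A (AdicRing.chartAdm I f i)) := by
    rw [Ideal.map_map, ← IsScalarTower.algebraMap_eq]
  obtain ⟨hnzd, hdvd⟩ : (algebraMap A (AdicRing.chartAdm I f i)) (f i) ∈ nonZeroDivisors (AdicRing.chartAdm I f i) ∧ ∀ j, (algebraMap A (AdicRing.chartAdm I f i)) (f i) ∣ (algebraMap A (AdicRing.chartAdm I f i)) (f j) :=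
    Groth.FBlowLib.chartAdm_gen I f i
  have hgenC : (Ideal.span (Set.range f)).map (algebraMap A (AdicRing.chartAdm I f i)) = Ideal.span {(algebraMap A (AdicRing.chartAdm I f i)) (f i)} := by
    refine le_antisymm ?_ (Ideal.span_le.2 (Set.singleton_subset_iff.2
      (Ideal.mem_map_of_mem _ (Ideal.subset_span (Set.mem_range_self i)))))
    rw [Ideal.map_le_iff_le_comap, Ideal.span_le]
    rintro _ ⟨j, rfl⟩
    rw [SetLike.mem_coe, Ideal.mem_comap, Ideal.mem_span_singleton]
    exact hdvd j
  have huniv : ∀ (B : Type u) [CommRing B] (φ : A →+* B), IsAdicComplete ((I.map (algebraMap R A)).map φ) B →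
      φ (f i) ∈ nonZeroDivisors B → (Ideal.span (Set.range f)).map φ = Ideal.span {φ (f i)} →
      ∃! χ : (AdicRing.chartAdm I f i) →+* B, χ.comp (algebraMap A (AdicRing.chartAdm I f i)) = φ := by
    intro B _ φ hcomp h1 h2
    letI : Algebra R B := (φ.comp (algebraMap R A)).toAlgebra
    haveI : IsAdicComplete (I.map (algebraMap R B)) B := by
      rw [RingHom.algebraMap_toAlgebra, ← Ideal.map_map]
      exact hcomp
    let φR : A →ₐ[R] B := { φ with commutes' := fun _ => rfl }
    obtain ⟨ψ, hψ, huniq⟩ := Groth.Agent.S11545.result R I hR A hA r f k hopen i B φR h1 h2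
    refine ⟨ψ.toRingHom, congrArg AlgHom.toRingHom hψ, fun χ hχ => ?_⟩
    have hc : ∀ x, χ (algebraMap R (AdicRing.chartAdm I f i) x) = φ (algebraMap R A x) := fun x => by
      rw [IsScalarTower.algebraMap_apply R A (AdicRing.chartAdm I f i), ← hχ, RingHom.comp_apply]
    let χR : (AdicRing.chartAdm I f i) →ₐ[R] B := { χ with commutes' := hc }
    exact congrArg AlgHom.toRingHom (huniq χR (AlgHom.coe_ringHom_injective hχ))
  obtain ⟨u, hu, hopenimm, hrange⟩ := Groth.FBlowLib.exists_chart_spf hKfg hk hX h' b hb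
    (Ideal.subset_span (Set.mem_range_self i)) (algebraMap A (AdicRing.chartAdm I f i)) hnzd hgenC huniv
    (I.map (algebraMap R (AdicRing.chartAdm I f i))) hKC hi hle
  refine ⟨u, hu, hopenimm, hrange.trans (Set.ext fun x => ?_)⟩
  refine Iff.trans (hset i x).symm ?_
  rw [Set.mem_setOf_eq, hsch, hsch, o.idealMap_idealOf b hadic, o.idealMap_idealOf b hadic]

end Groth.Agent.S13660
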