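import Groth.Statements.S13661
import Groth.Agent.FBlowLib.FlatBase
import Groth.Agent.FBlowLib.BlowOver
-- import your own Groth.Agent.* helpers here

set_option autoImplicit false
set_option backward.isDefEq.respectTransparency false
set_option backward.isDefEq.respectTransparency.types false
open CategoryTheory CategoryTheory.Limits AlgebraicGeometry
universe u
open FBlow

namespace Groth.Agent.S13661

/-- Let R be a base ring of class (N) or (V) for the ideal I and X an admissible formal R-scheme,
presented I-adically: a formal system of thickenings X_0 → X_1 → ⋯ adic over Spf R = (Spec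
R/I^(n+1))_n (all squares cartesian), with every level X_n locally of finite presentation over
R/I^(n+1), structure sheaf O_X = lim O_{X_n} on the common underlying space, and no I-torsion (over
every open, a section of O_X annihilated by the kernel of O_X → O_{X_0} is zero); let Y be a second
admissible formal R-scheme presented in the same way and Y → X an adic morphism which is flat: for
every affine open subset U of X and every affine open subset U' of Y mapped into U, the ring
homomorphism O_X(U) → O_Y(U') is flat. Let J be a coherent open ideal of O_X and X' → X an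
admissible formal blowing-up of J (universal-property sense). Then the base change X' ×_X Y → Y,
formed levelwise, is an admissible formal blowing-up of the ideal J·O_Y. (The published statement is
for a flat base change between formal schemes locally of topologically finite presentation; the
universal property asserted here is the one established for admissible formal schemes, so X and Y
are both taken admissible.) -/
theorem result
    (R : Type u) [CommRing R] (I : Ideal R) (hR : AdicRing.IsBase R I)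
    (𝔛 : FSch.Sys.{u}) (h : 𝔛.IsFormal) (p : 𝔛 ⟶ FSch.spf R I) (hp : FSch.IsAdicHom p)
    (hfp : ∀ n, LocallyOfFinitePresentation ((p : FSch.Hom 𝔛 (FSch.spf R I)).app n))
    (htf : ∀ (U : (𝔛.X 0).Opens) (s : (𝔛.Osh h).obj.obj (Opposite.op U)),
      (∀ a ∈ (FBlow.IdealSh.ker (𝔛.OshProj h 0)).sect U, a * s = 0) → s = 0)
    (𝔜 : FSch.Sys.{u}) (hY : 𝔜.IsFormal) (φ : 𝔜 ⟶ 𝔛) (hφ : FSch.IsAdicHom φ)
    (hYfp : ∀ n, LocallyOfFinitePresentation ((φ ≫ p : FSch.Hom 𝔜 (FSch.spf R I)).app n))
    (hYtf : ∀ (U : (𝔜.X 0).Opens) (s : (𝔜.Osh hY).obj.obj (Opposite.op U)),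
      (∀ a ∈ (FBlow.IdealSh.ker (𝔜.OshProj hY 0)).sect U, a * s = 0) → s = 0)
    (hflat : ∀ (U : (𝔛.X 0).affineOpens) (U' : (𝔜.X 0).affineOpens)
      (e : U'.1 ≤ ((φ : FSch.Hom 𝔜 𝔛).app 0) ⁻¹ᵁ U.1),
      RingHom.Flat (((𝔜.Osh hY).obj.map (homOfLE e).op).hom.comp
        ((FSch.Hom.sharp φ hY h).hom.app (Opposite.op U.1)).hom))
    (J : FBlow.IdealSh (𝔛.Osh h)) (hJ : FBlow.IsCohOpen 𝔛 h J)
    (𝔛' : FSch.Sys.{u}) (h' : 𝔛'.IsFormal) (b : 𝔛' ⟶ 𝔛) (hb : FBlow.IsAdmBlowUp b h' h J)
    (hP : (FSch.pullbackSys b φ).IsFormal) :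
    FBlow.IsAdmBlowUp (FSch.pullbackSnd b φ) hP hY (FBlow.idealMap φ hY h J) := by
  have hI := Groth.TopFinType.fg_of_isBase hR
  let o := Groth.FBlowLib.baseOver p hp
  have hflatn := Groth.FBlowLib.flat_levels hI o φ hφ hflat
  have hφfp := Groth.FBlowLib.locallyOfFinitePresentation_levels p φ hfp hYfp
  have hfst : FSch.IsAdicHom (FSch.pullbackFst b φ) := by
    intro n
    refine IsPullback.of_right (h₁₂ := pullback.snd _ _) (v₁₃ := (φ : FSch.Hom _ _).app (n + 1))
      (h₂₂ := (b : FSch.Hom _ _).app (n + 1)) ?_ ((FSch.pullbackFst b φ : FSch.Hom _ _).comm n).symm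
      (IsPullback.of_hasPullback _ _).flip
    have e1 : (FSch.pullbackSys b φ).ι n ≫ pullback.snd _ _ =
        pullback.snd ((b : FSch.Hom _ _).app n) ((φ : FSch.Hom _ _).app n) ≫ 𝔜.ι n :=
      ((FSch.pullbackSnd b φ : FSch.Hom _ _).comm n).symm
    erw [e1]
    rw [← (b : FSch.Hom _ _).comm n]
    exact (IsPullback.of_hasPullback _ _).flip.paste_horiz (hφ n)
  have hsq : FSch.pullbackSnd b φ ≫ φ = FSch.pullbackFst b φ ≫ b :=
    FSch.Hom.ext (funext fun n => pullback.condition.symm)
  have hfstflat : ∀ n, Flat ((FSch.pullbackFst b φ : FSch.Hom _ _).app n) := fun n => by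
    have := hflatn n
    exact MorphismProperty.pullback_fst (P := @Flat) _ _ this
  have hfstfp : ∀ n, LocallyOfFinitePresentation ((FSch.pullbackFst b φ : FSch.Hom _ _).app n) := fun n =>
    MorphismProperty.pullback_fst (P := @LocallyOfFinitePresentation) _ _ (hφfp n)
  have hp' : FSch.IsAdicHom (b ≫ p) := Groth.FBlowLib.isAdicHom_comp hb.1 hp
  have hfp' := Groth.FBlowLib.locallyOfFinitePresentation_isAdmBlowUp hR p hp hfp htf hJ hb
  have htf' := Groth.FBlowLib.eq_zero_of_isAdmBlowUp hR p hp hfp htf hJ hb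
  have hPfp : ∀ n, LocallyOfFinitePresentation
      ((FSch.pullbackFst b φ ≫ b ≫ p : FSch.Hom _ (FSch.spf R I)).app n) := fun n =>
    MorphismProperty.comp_mem (W := @LocallyOfFinitePresentation) _ _ (hfstfp n) (hfp' n)
  have htfP := Groth.FBlowLib.eq_zero_of_flat_levels (hY := hP) hR (b ≫ p) hp' hfp' htf'
    (FSch.pullbackFst b φ) hfst hPfp hfstflat
  refine ⟨Groth.AdicLinTop.Thickenings.isAdicHom_pullbackSnd b φ hb.1, ?_, fun ℨ hZ t ht hinv => ?_⟩
  · rw [← Groth.FBlowLib.idealMap_comp, hsq, Groth.FBlowLib.idealMap_comp (hY := h')]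
    exact Groth.FBlowLib.isInvertible_idealMap_of_torsionFree hI (Groth.FBlowLib.baseOver (b ≫ p) hp') _ hfst htfP
      (Groth.FBlowLib.isCohOpen_idealMap o hI b hb.1 hJ) hb.2.1
  rw [← Groth.FBlowLib.idealMap_comp] at hinv
  obtain ⟨k, hk, hkuniq⟩ := hb.2.2 ℨ hZ (t ≫ φ) (Groth.FBlowLib.isAdicHom_comp ht hφ) hinv
  let m : ℨ ⟶ FSch.pullbackSys b φ :=
    ⟨fun n => pullback.lift ((k : FSch.Hom _ _).app n) ((t : FSch.Hom _ _).app n)
      (congrArg (fun ψ => (ψ : FSch.Hom _ _).app n) hk), fun n => by
        refine pullback.hom_ext ?_ ?_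
        · erw [Category.assoc, Category.assoc, pullback.lift_fst, pullback.lift_fst_assoc, pullback.lift_fst]
          exact (k : FSch.Hom _ _).comm n
        · erw [Category.assoc, Category.assoc, pullback.lift_snd, pullback.lift_snd_assoc, pullback.lift_snd]
          exact (t : FSch.Hom _ _).comm n⟩
  refine ⟨m, FSch.Hom.ext (funext fun n => pullback.lift_snd _ _ _), fun l hl => ?_⟩
  have hl' : l ≫ FSch.pullbackSnd b φ = t := hl
  have hlk : l ≫ FSch.pullbackFst b φ = k := hkuniq _ (by
    show (l ≫ _) ≫ b = t ≫ φ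
    rw [Category.assoc, ← hsq, ← Category.assoc, hl'])
  refine FSch.Hom.ext (funext fun n => pullback.hom_ext ?_ ?_)
  · exact (congrArg (fun ψ => (ψ : FSch.Hom _ _).app n) hlk).trans (pullback.lift_fst _ _ _).symm
  · exact (congrArg (fun ψ => (ψ : FSch.Hom _ _).app n) hl').trans (pullback.lift_snd _ _ _).symm

end Groth.Agent.S13661
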