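import Groth.Statements.S13662
import Groth.Agent.FBlowLib.FiniteBlow
import Groth.Agent.TopFinType.Generic

set_option autoImplicit false
open CategoryTheory AlgebraicGeometry
open scoped TensorProduct
universe u
open FBlow

namespace Groth.Agent.S13662

/-- Let R be a complete valuation ring of height one with t a nonzero element generating an ideal of
definition and K its field of fractions, A an admissible R-algebra, f_1, …, f_n elements of A ⊗_R K
that are integral over A, c a nonzero element of R and g_1, …, g_n elements of A with g_i = c f_i in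
A ⊗_R K; put A' = A[f_1, …, f_n] ⊂ A ⊗_R K and 𝔞 = (c, g_1, …, g_n) ⊂ A, and present Spf A and Spf
A' as the formal systems (Spec A/(t)^(m+1))_m and (Spec A'/(t)^(m+1))_m. Then the morphism Spf A' →
Spf A induced by the inclusion A ⊂ A' is the admissible formal blowing-up of the ideal 𝔞·O_{Spf A}
in the sense of the universal property: it is adic, 𝔞 generates an invertible ideal of O_{Spf A'},
and every adic morphism of formal systems Y → Spf A under which 𝔞 generates an invertible ideal of
O_Y factors through Spf A' → Spf A in exactly one way. (The published hypothesis on the f_i is that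
their supremum seminorm on the affinoid algebra A ⊗_R K is at most 1; integrality over A is what is
derived from it and used, and is taken as the hypothesis here.) -/
theorem result
    (R : Type u) [CommRing R] [IsDomain R] [ValuationRing R] [Ring.KrullDimLE 1 R]
    (t : R) (ht : t ≠ 0) [IsAdicComplete (Ideal.span {t}) R]
    (A : Type u) [CommRing A] [Algebra R A] (hA : AdicRing.Admissible R (Ideal.span {t}) A)
    (n : ℕ) (f : Fin n → A ⊗[R] FractionRing R) (hf : ∀ i, IsIntegral A (f i))
    (c : R) (hc : c ≠ 0) (g : Fin n → A)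
    (hg : ∀ i, algebraMap A (A ⊗[R] FractionRing R) (g i) = c • f i)
    (hX : (FSch.spf A ((Ideal.span {t}).map (algebraMap R A))).IsFormal) (h' : (FSch.spf ↥(Algebra.adjoin A (Set.range f)) ((Ideal.span {t}).map (algebraMap R ↥(Algebra.adjoin A (Set.range f))))).IsFormal)
    (hle : ((Ideal.span {t}).map (algebraMap R A)) ≤ ((Ideal.span {t}).map (algebraMap R ↥(Algebra.adjoin A (Set.range f)))).comap (algebraMap A ↥(Algebra.adjoin A (Set.range f)))) :
    FBlow.IsAdmBlowUp (FSch.spfMap ((Ideal.span {t}).map (algebraMap R ↥(Algebra.adjoin A (Set.range f)))) ((Ideal.span {t}).map (algebraMap R A)) (algebraMap A ↥(Algebra.adjoin A (Set.range f))) hle) h' hX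
      (FBlow.schIdealMap (FSch.spf A ((Ideal.span {t}).map (algebraMap R A))) hX (FSch.spfToSpec A ((Ideal.span {t}).map (algebraMap R A))) (FSch.spfToSpec_comm A ((Ideal.span {t}).map (algebraMap R A)))
        (FBlow.IdealSh.ofData (FSch.idealSpec A (Ideal.span (insert (algebraMap R A c) (Set.range g)))))) := by
  classical
  obtain ⟨m, hm⟩ := Groth.TopFinType.exists_pow_dvd (t := t) hc
  set T := Algebra.adjoin A (Set.range f)
  set K := (Ideal.span {t}).map (algebraMap R A) with hKdef
  set 𝔞 := Ideal.span (insert (algebraMap R A c) (Set.range g)) with h𝔞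
  have hk : K ^ m ≤ 𝔞 := by
    rw [hKdef, ← Ideal.map_pow, Ideal.span_singleton_pow, Ideal.map_span, Set.image_singleton,
      Ideal.span_le, Set.singleton_subset_iff, SetLike.mem_coe]
    obtain ⟨s, hs⟩ := hm
    rw [hs, map_mul]
    exact Ideal.mul_mem_right _ _ (Ideal.subset_span (Set.mem_insert _ _))
  have hq := Groth.FBlowLib.isBlowUp_adjoin f g (c := algebraMap R A c)
    (Groth.TopFinType.injective_generic (t := t) hA.2)
    (by rw [← IsScalarTower.algebraMap_apply]; exact Groth.TopFinType.isUnit_generic hc)
    hf (fun i => by rw [hg, ← IsScalarTower.algebraMap_apply, Groth.TopFinType.gsmul_def])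
  rw [← h𝔞] at hq
  have hK' : (Ideal.span {t}).map (algebraMap R ↥T) = K.map (algebraMap A ↥T) := by
    rw [hKdef, Ideal.map_map, ← IsScalarTower.algebraMap_eq]
  let o := Groth.FBlowLib.Over.spf A K
  have key := Groth.FBlowLib.isAdmBlowUp_of_isBlowUp (K := K) (Ideal.FG.map (⟨{t}, by rw [Finset.coe_singleton]⟩ : (Ideal.span {t}).FG) (algebraMap R A)) hk hX o
    (Groth.AdicLinTop.Thickenings.isClosedImmersion_specQuot K) (fun n => Groth.FBlowLib.idealSpec_eq_sheafOf _)
    hq h' (FSch.spfToSpec ↥T _) (Groth.AdicLinTop.Thickenings.isClosedImmersion_specQuot _)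
    (FSch.spfToSpec_comm _ _) (fun n => by
      rw [Groth.BlowUpBasics.comap_sheafOf_Spec, Ideal.map_pow, ← hK', ← Groth.FBlowLib.idealSpec_eq_sheafOf]
      rfl)
    (FSch.spfMap _ K (algebraMap A ↥T) hle) (fun n => by
      rw [FSch.spfMap_app]
      show Spec.map _ ≫ Spec.map _ = Spec.map _ ≫ Spec.map _
      rw [← Spec.map_comp, ← Spec.map_comp]
      rfl)
  rw [← o.schIdealMap_eq, ← Groth.FBlowLib.idealSpec_eq_sheafOf] at key
  exact key

end Groth.Agent.S13662
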