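import Groth.Statements.S13664
import Groth.Agent.Misc3Gr.Pieces

set_option autoImplicit false
universe u
open GrRing

namespace Groth.Agent.S13664

/-- Let A be a commutative ring graded by the integers whose ideal I generated by the homogeneous
elements of positive degree has homogeneous generators f_1, …, f_p, of positive degrees d_1, …, d_p,
let d be a positive integer divisible by each d_i, and let x be an element of an A-module M. The
following are equivalent: x is annihilated by some power of I; x is annihilated by (A_d)^n for all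
sufficiently large n; there is an integer s such that A_n x = 0 for all n ≥ s. (The published
statement is for a homogeneous element of a graded module; this row drops both the grading of M and
the homogeneity of x, which play no role.) -/
theorem result {R A : Type u} [CommRing R] [CommRing A] [Algebra R A]
    (𝒜 : ℤ → Submodule R A) [GradedAlgebra 𝒜]
    {p : ℕ} (f : Fin p → A) (deg : Fin p → ℤ) (hdeg : ∀ i, 0 < deg i) (hf : ∀ i, f i ∈ 𝒜 (deg i))
    (hgen : Ideal.span {a : A | ∃ n : ℤ, 0 < n ∧ a ∈ 𝒜 n} = Ideal.span (Set.range f))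
    (d : ℤ) (hd : 0 < d) (hdvd : ∀ i, deg i ∣ d)
    {M : Type u} [AddCommGroup M] [Module A M] (x : M) :
    [x ∈ GrLC.gam (Ideal.span (Set.range f)) M,
     ∃ n₀ : ℕ, ∀ n : ℕ, n₀ ≤ n → ∀ r ∈ (𝒜 d) ^ n, r • x = 0,
     ∃ s : ℤ, ∀ n : ℤ, s ≤ n → ∀ r ∈ 𝒜 n, r • x = 0].TFAE := by
  classical
  tfae_have 1 → 2 := by
    rintro ⟨k, hk⟩
    refine ⟨k, fun n hn r hr => hk r (Ideal.pow_le_pow_right hn ?_)⟩
    revert r
    clear hn
    induction n with
    | zero => intro r _; simp
    | succ n ih =>
      intro r hr
      rw [pow_succ] at hr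
      rw [pow_succ]
      induction hr using Submodule.mul_induction_on' with
      | mem_mul_mem a ha b hb =>
        exact Ideal.mul_mem_mul (ih a ha) (hgen ▸ Ideal.subset_span ⟨d, hd, hb⟩)
      | add a _ b _ h1 h2 => exact add_mem h1 h2
  tfae_have 2 → 3 := by
    rintro ⟨n₀, hn₀⟩
    refine ⟨d * p - ∑ i, deg i + n₀ * d + 1, fun n hn r hr => ?_⟩
    have hr' := Misc3Gr.piece_le_pow_mul 𝒜 f deg hdeg hf hgen d hd hdvd n₀ n (by omega) hr
    clear hr
    induction hr' using Submodule.mul_induction_on' with
    | mem_mul_mem a ha b hb => rw [mul_comm, mul_smul, hn₀ n₀ le_rfl a ha, smul_zero]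
    | add a _ b _ h1 h2 => rw [add_smul, h1, h2, add_zero]
  tfae_have 3 → 1 := by
    rintro ⟨s, hs⟩
    have hrad : Ideal.span (Set.range f) ≤ Ideal.radical (LinearMap.ker (LinearMap.toSpanSingleton A M x)) := by
      refine Ideal.span_le.2 ?_
      rintro _ ⟨i, rfl⟩
      refine ⟨s.toNat, ?_⟩
      rw [LinearMap.mem_ker, LinearMap.toSpanSingleton_apply]
      have h := SetLike.pow_mem_graded s.toNat (hf i)
      refine hs _ ?_ _ h
      rw [nsmul_eq_mul]
      nlinarith [hdeg i, Int.self_le_toNat s, Int.natCast_nonneg s.toNat]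
    obtain ⟨k, hk⟩ := Ideal.exists_pow_le_of_le_radical_of_fg hrad
      ⟨Finset.univ.image f, by rw [Finset.coe_image, Finset.coe_univ, Set.image_univ]⟩
    refine ⟨k, fun r hr => ?_⟩
    simpa using hk hr
  tfae_finish

end Groth.Agent.S13664
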