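import Groth.Statements.S13665
import Groth.Agent.Misc3Gr.Pieces

set_option autoImplicit false
universe u
open GrRing

namespace Groth.Agent.S13665

/-- For a commutative ring A graded by the integers, with degree-zero subring A_0, the following are
equivalent: A is Noetherian; each homogeneous ideal of A has a finite generating set; A_0 is
Noetherian and the subalgebras A_{≥0}, A_{≤0} are each of finite type over A_0; A_0 is Noetherian
and A is an A_0-algebra of finite type. -/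
theorem result {R A : Type u} [CommRing R] [CommRing A] [Algebra R A]
    (𝒜 : ℤ → Submodule R A) [GradedAlgebra 𝒜] :
    [IsNoetherianRing A,
     ∀ I : Ideal A, I.IsHomogeneous 𝒜 → I.FG,
     IsNoetherianRing (𝒜 0) ∧ (Algebra.adjoin (𝒜 0) {a : A | ∃ n : ℤ, 0 ≤ n ∧ a ∈ 𝒜 n}).FG ∧
       (Algebra.adjoin (𝒜 0) {a : A | ∃ n : ℤ, n ≤ 0 ∧ a ∈ 𝒜 n}).FG,
     IsNoetherianRing (𝒜 0) ∧ Algebra.FiniteType (𝒜 0) A].TFAE := by
  classical
  have hpos : {a : A | ∃ n : ℤ, 0 ≤ n ∧ a ∈ 𝒜 n} = {a : A | ∃ n : ℕ, a ∈ 𝒜 (1 * n)} := by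
    ext a
    constructor
    · rintro ⟨n, hn, ha⟩; exact ⟨n.toNat, by rwa [one_mul, Int.toNat_of_nonneg hn]⟩
    · rintro ⟨n, ha⟩; exact ⟨_, by omega, ha⟩
  have hneg : {a : A | ∃ n : ℤ, n ≤ 0 ∧ a ∈ 𝒜 n} = {a : A | ∃ n : ℕ, a ∈ 𝒜 ((-1) * n)} := by
    ext a
    constructor
    · rintro ⟨n, hn, ha⟩; exact ⟨(-n).toNat, by rwa [Int.toNat_of_nonneg (by omega), neg_one_mul, neg_neg]⟩
    · rintro ⟨n, ha⟩; exact ⟨_, by omega, ha⟩
  tfae_have 1 → 2 := fun _ I _ => IsNoetherian.noetherian I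
  tfae_have 2 → 3 := fun h =>
    ⟨Misc3Gr.isNoetherianRing_zero 𝒜 h, hpos ▸ Misc3Gr.fg_adjoin_nonneg 𝒜 h 1,
      hneg ▸ Misc3Gr.fg_adjoin_nonneg 𝒜 h (-1)⟩
  tfae_have 3 → 4 := by
    rintro ⟨h0, h1, h2⟩
    refine ⟨h0, ⟨?_⟩⟩
    have htop : (⊤ : Subalgebra (𝒜 0) A) = Algebra.adjoin (𝒜 0) {a : A | ∃ n : ℤ, 0 ≤ n ∧ a ∈ 𝒜 n} ⊔
        Algebra.adjoin (𝒜 0) {a : A | ∃ n : ℤ, n ≤ 0 ∧ a ∈ 𝒜 n} := by
      refine (eq_top_iff.2 fun a _ => ?_).symm
      induction a using DirectSum.Decomposition.inductionOn 𝒜 with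
      | zero => exact zero_mem _
      | add a b ha hb => exact add_mem (ha (by trivial)) (hb (by trivial))
      | @homogeneous i a =>
        rcases le_total 0 i with hi | hi
        · exact Algebra.mem_sup_left (Algebra.subset_adjoin ⟨i, hi, a.2⟩)
        · exact Algebra.mem_sup_right (Algebra.subset_adjoin ⟨i, hi, a.2⟩)
    exact htop ▸ h1.sup h2
  tfae_have 4 → 1 := fun ⟨_, _⟩ => Algebra.FiniteType.isNoetherianRing (𝒜 0) A
  tfae_finish

end Groth.Agent.S13665
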