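import Groth.Statements.S1367
import Groth.Agent.Limits.TopDegreeFibre

set_option autoImplicit false
universe u
open FlatMor

namespace Groth.Agent.S1367

open AlgebraicGeometry CategoryTheory Limits in
/-- Let f : X → Y be proper and y a point whose fibre has dimension at most 1 and satisfies H^1(X_y, O)
= 0. Then there is an open neighbourhood V of y such that R^1 f_* O_X vanishes on V, in the concrete
sense that H^1 of the structure sheaf vanishes on the preimage of every affine open of V, and the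
same holds for the base change of f along any morphism to V. -/
theorem result {X Y : Scheme.{u}} (f : X ⟶ Y) [IsProper f] (y : Y)
    (hdim : topologicalKrullDim ↑(f.fiber y) ≤ 1) (hH1 : Subsingleton (Coh.HH (f.fiber y) (Coh.structureModule (f.fiber y)) 1)) :
    ∃ V : Y.Opens, y ∈ V ∧ ∀ (Y' : Scheme.{u}) (g : Y' ⟶ (V : Scheme.{u})) (U : Y'.Opens), IsAffineOpen U →
      Subsingleton (Coh.HHon (pullback f (g ≫ V.ι)) (Coh.structureModule (pullback f (g ≫ V.ι))) (pullback.snd f (g ≫ V.ι) ⁻¹ᵁ U) 1) := by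
  classical
  obtain ⟨V₀, hV₀, hy, hV₀U⟩ := exists_isAffineOpen_mem_and_subset
    (U := (⟨_, Groth.FibreDim.isOpen_dim_fiber_le f f.isClosedMap ((1 : ℕ) : WithBot ℕ∞)⟩ : Y.Opens))
    (x := y) hdim
  letI : ((f ⁻¹ᵁ V₀ : X.Opens) : Scheme.{u}).Over (Spec (CommRingCat.of Γ(Y, V₀))) :=
    ⟨Groth.CohBase.preimageToSpec f⟩
  haveI : IsProper ((f ⁻¹ᵁ V₀ : X.Opens).toScheme ↘ Spec (CommRingCat.of Γ(Y, V₀))) :=
    MorphismProperty.of_isPullback (Groth.CohBase.isPullback_preimageToSpec f hV₀) ‹IsProper f›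
  have hd : ∀ P, topologicalKrullDim
      ↥(((f ⁻¹ᵁ V₀ : X.Opens).toScheme ↘ Spec (CommRingCat.of Γ(Y, V₀))).fiber P) ≤ (1 : ℕ) :=
    fun P => by
      have hP : hV₀.fromSpec.base P ∈ V₀ := hV₀.range_fromSpec.le ⟨P, rfl⟩
      have e : hV₀.primeIdealOf ⟨_, hP⟩ = P := hV₀.fromSpec.isEmbedding.injective
        (hV₀.fromSpec_primeIdealOf ⟨_, hP⟩)
      have h := Groth.Limits.FibreVanishing.dim_fiber_preimageToSpec_le f hV₀ _ hP 1 (hV₀U hP)
      rwa [e] at h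
  have hO : Coh.IsCoh (Coh.structureModule (f ⁻¹ᵁ V₀ : X.Opens).toScheme) :=
    (Groth.QCohMod.isCoh_iff _).mpr ⟨inferInstance, fun W _ => inferInstanceAs
      (Module.Finite Γ((f ⁻¹ᵁ V₀ : X.Opens).toScheme, W) Γ((f ⁻¹ᵁ V₀ : X.Opens).toScheme, W))⟩
  haveI hfin := Groth.Limits.FibreVanishing.finite_HH_top (A := Γ(Y, V₀)) 1 hd _ hO
  obtain ⟨S, hS⟩ := hfin.fg_top
  choose s hys hs using Groth.Limits.FibreVanishing.exists_smul_eq_zero_of_fiber_H f hV₀ 1
    (fun y' hy' => hV₀U hy') y hy hH1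
  letI hdec : DecidableEq (Coh.HH (f ⁻¹ᵁ V₀ : X.Opens)
      (Coh.structureModule (f ⁻¹ᵁ V₀ : X.Opens)) 1) := Classical.decEq _
  let t : Γ(Y, V₀) := ∏ x ∈ S, s x
  have hyt : y ∈ Y.basicOpen t := by
    have key : ∀ T : Finset (Coh.HH (f ⁻¹ᵁ V₀ : X.Opens)
        (Coh.structureModule (f ⁻¹ᵁ V₀ : X.Opens)) 1), y ∈ Y.basicOpen (∏ x ∈ T, s x) := by
      intro T
      induction T using Finset.induction_on with
      | empty => simpa using hy
      | insert a T ha ih => rw [Finset.prod_insert ha, Scheme.basicOpen_mul]; exact ⟨hys a, ih⟩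
    exact key S
  have ht : ∀ h : Coh.HH (f ⁻¹ᵁ V₀ : X.Opens) (Coh.structureModule (f ⁻¹ᵁ V₀ : X.Opens)) 1,
      t • h = 0 := fun h => by
    refine Submodule.span_induction (p := fun h _ => t • h = 0) (fun x hx => ?_) (smul_zero _)
      (fun a b _ _ ha hb => by rw [smul_add, ha, hb, add_zero])
      (fun a b _ hb => by rw [smul_comm, hb, smul_zero]) (hS.ge trivial : h ∈ _)
    change (∏ x ∈ S, s x) • x = 0
    rw [← Finset.prod_erase_mul S s (Finset.mem_coe.1 hx), mul_smul, hs, smul_zero]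
  refine ⟨Y.basicOpen t, hyt, fun Y' g U hU => ?_⟩
  let h := g ≫ (Y.basicOpen t).ι
  let p := pullback.fst f h
  let q := pullback.snd f h
  have hUt : U ≤ h ⁻¹ᵁ Y.basicOpen t := fun x _ => (g x).2
  have hUV : U ≤ h ⁻¹ᵁ V₀ := fun x hx => Y.basicOpen_le t (hUt hx)
  letI : Algebra Γ(Y, V₀) Γ(Y', U) := (h.appLE V₀ U hUV).hom.toAlgebra
  letI : ((q ⁻¹ᵁ U : (pullback f h).Opens) : Scheme.{u}).Over (Spec (CommRingCat.of Γ(Y', U))) :=
    ⟨Groth.CohBase.preimageToSpec q⟩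
  have hbig : IsPullback ((q ⁻¹ᵁ U).ι ≫ p) (Groth.CohBase.preimageToSpec q) f (hU.fromSpec ≫ h) :=
    (Groth.CohBase.isPullback_preimageToSpec q hU).paste_horiz (IsPullback.of_hasPullback f h)
  let gX : ((q ⁻¹ᵁ U : (pullback f h).Opens) : Scheme.{u}) ⟶ (f ⁻¹ᵁ V₀ : X.Opens) :=
    IsOpenImmersion.lift (f ⁻¹ᵁ V₀).ι ((q ⁻¹ᵁ U).ι ≫ p) (by
      rw [Scheme.Opens.range_ι]
      rintro _ ⟨x, rfl⟩
      change f (p ((q ⁻¹ᵁ U).ι x)) ∈ V₀
      rw [← Scheme.Hom.comp_apply, show p ≫ f = q ≫ h from pullback.condition]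
      exact hUV x.2)
  have hsq : Groth.CohBase.IsBC (A := Γ(Y, V₀)) (A' := Γ(Y', U)) gX := by
    rw [← IsAffineOpen.SpecMap_appLE_fromSpec h hV₀ hU hUV,
      ← IsOpenImmersion.lift_fac (f ⁻¹ᵁ V₀).ι ((q ⁻¹ᵁ U).ι ≫ p) _] at hbig
    refine hbig.of_right ?_ (Groth.CohBase.isPullback_preimageToSpec f hV₀)
    change gX ≫ Groth.CohBase.preimageToSpec f = _
    rw [← cancel_mono hV₀.fromSpec, Category.assoc, Category.assoc,
      ← (Groth.CohBase.isPullback_preimageToSpec f hV₀).w, ← Category.assoc]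
    exact hbig.w
  have hunit : IsUnit (algebraMap Γ(Y, V₀) Γ(Y', U) t) := by
    have := (Y.toRingedSpace.isUnit_res_basicOpen t).map (h.appLE (Y.basicOpen t) U hUt).hom
    rw [RingHom.algebraMap_toAlgebra, ← Scheme.Hom.map_appLE h hUt (homOfLE (Y.basicOpen_le t)).op]
    exact this
  haveI : (Coh.structureModule (f ⁻¹ᵁ V₀ : X.Opens).toScheme).IsQuasicoherent := hO.1
  have hvan := Groth.Limits.FibreVanishing.subsingleton_HH_of_killed 1 hd
    (Coh.structureModule (f ⁻¹ᵁ V₀ : X.Opens).toScheme) hsq fun x => ⟨t, hunit, ht x⟩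
  obtain ⟨e⟩ := Groth.PicAux.pullback_structure_iso gX
  obtain ⟨e'⟩ := Groth.PicAux.pullback_structure_iso (q ⁻¹ᵁ U).ι
  let ee := e ≪≫ e'.symm ≪≫
    ((Scheme.Modules.restrictFunctorIsoPullback (q ⁻¹ᵁ U).ι).app (Coh.structureModule _)).symm
  exact (Groth.CohC3.hmap_bijective_of_isIso (A := Γ(Y', U)) ee.hom 1).2.subsingleton

end Groth.Agent.S1367
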