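import Groth.Statements.S1368
import Groth.Agent.FlatMor2.RelAssGeneric

set_option autoImplicit false
set_option linter.style.haveILetI false
set_option backward.isDefEq.respectTransparency.types false
universe u
open FlatMor

namespace Groth.Agent.S1368

open AlgebraicGeometry CategoryTheory Limits in
/-- Let f be of finite type with irreducible target, F a quasi-coherent module of finite type on the
source and U an open of the source. If the associated points of F restricted to the generic fibre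
all lie in U, then over some nonempty open of the target the associated points of F restricted to
every fibre lie in U. -/
theorem result {X Y : Scheme.{u}} (f : X ⟶ Y) [IrreducibleSpace ↑Y] [LocallyOfFiniteType f] [QuasiCompact f]
    (F : X.Modules) (hF : Coh.IsCoh F) (U : X.Opens)
    (h : ∀ x ∈ MoreMor.relAss f F, f x = genericPoint ↑Y → x ∈ U) :
    ∃ V : Y.Opens, (V : Set ↑Y).Nonempty ∧ ∀ x ∈ MoreMor.relAss f F, f x ∈ V → x ∈ U := by
  classical
  haveI := hF.1
  obtain ⟨O, hO, hηO, -⟩ :=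
    exists_isAffineOpen_mem_and_subset (U := (⊤ : Y.Opens)) (x := genericPoint ↑Y) trivial
  have hK : IsCompact ((f ⁻¹ᵁ O : X.Opens) : Set X) := f.isCompact_preimage hO.isCompact
  have hcov : ∀ x : ↥((f ⁻¹ᵁ O : X.Opens) : Set X), ∃ W : X.Opens, IsAffineOpen W ∧ x.1 ∈ W ∧ W ≤ f ⁻¹ᵁ O :=
    fun x => by
      obtain ⟨W, hW, hxW, hWO⟩ := exists_isAffineOpen_mem_and_subset (U := f ⁻¹ᵁ O) (x := x.1) x.2
      exact ⟨W, hW, hxW, hWO⟩
  choose W hW hxW hWO using hcov
  obtain ⟨s, hs⟩ := hK.elim_finite_subcover (fun x => ((W x : X.Opens) : Set X)) (fun x => (W x).2)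
    fun x hx => Set.mem_iUnion.2 ⟨⟨x, hx⟩, hxW ⟨x, hx⟩⟩
  have hloc : ∀ i, ∃ V : Y.Opens, genericPoint ↑Y ∈ V ∧ V ≤ O ∧
      ∀ x ∈ MoreMor.relAss f F, f x ∈ V → x ∈ W i → x ∈ U := by
    intro i
    have e : W i ≤ f ⁻¹ᵁ O := hWO i
    letI : Algebra Γ(Y, O) Γ(X, W i) := (f.appLE O (W i) e).hom.toAlgebra
    letI : Module Γ(Y, O) Γ(F, W i) := Module.compHom _ (algebraMap Γ(Y, O) Γ(X, W i))
    haveI : IsScalarTower Γ(Y, O) Γ(X, W i) Γ(F, W i) := .of_algebraMap_smul fun _ _ => rfl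
    haveI : Algebra.FiniteType Γ(Y, O) Γ(X, W i) := f.finiteType_appLE hO (hW i) e
    haveI : Module.Finite Γ(X, W i) Γ(F, W i) := Groth.QCohMod.finite_sections F hF.2 (hW i)
    let J : Ideal Γ(X, W i) := PrimeSpectrum.vanishingIdeal ((hW i).fromSpec ⁻¹' (U : Set X)ᶜ)
    have hJ : ∀ P : PrimeSpectrum Γ(X, W i), J ≤ P.asIdeal ↔ (hW i).fromSpec P ∉ U := by
      intro P
      rw [← SetLike.coe_subset_coe, ← PrimeSpectrum.mem_zeroLocus, PrimeSpectrum.zeroLocus_vanishingIdeal_eq_closure,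
        show closure ((hW i).fromSpec ⁻¹' (U : Set X)ᶜ : Set (PrimeSpectrum Γ(X, W i))) = _ from
          IsClosed.closure_eq (s := ((hW i).fromSpec ⁻¹' (U : Set X)ᶜ : Set (PrimeSpectrum Γ(X, W i))))
            ((U.isOpen.isClosed_compl).preimage (hW i).fromSpec.continuous)]
      rfl
    have hcomap : ∀ x (hx : x ∈ W i), ((hW i).primeIdealOf ⟨x, hx⟩).asIdeal.comap (algebraMap Γ(Y, O) Γ(X, W i)) =
        (hO.primeIdealOf ⟨f x, e hx⟩).asIdeal :=
      fun x hx => congrArg PrimeSpectrum.asIdeal (IsAffineOpen.comap_primeIdealOf_appLE O hO (W i) (hW i) e hx)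
    have hpt : ∀ P : PrimeSpectrum Γ(X, W i), ∃ hx : (hW i).fromSpec P ∈ W i,
        (hW i).primeIdealOf ⟨(hW i).fromSpec P, hx⟩ = P := fun P =>
      ⟨(hW i).range_fromSpec.le ⟨P, rfl⟩,
        (hW i).fromSpec.isEmbedding.injective ((hW i).fromSpec_primeIdealOf _)⟩
    let p := hO.primeIdealOf ⟨genericPoint ↑Y, hηO⟩
    obtain ⟨g, hg, hP⟩ := Groth.RelAssGeneric.exists_away (A := Γ(Y, O)) (B := Γ(X, W i)) Γ(F, W i) p.asIdeal J
      fun P _ hPp ht hJP => by
        obtain ⟨hx, hPx⟩ := hpt ⟨P, inferInstance⟩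
        have hfx : f ((hW i).fromSpec ⟨P, inferInstance⟩) = genericPoint ↑Y := by
          have h1 : hO.primeIdealOf ⟨_, e hx⟩ = p := PrimeSpectrum.ext (by rw [← hcomap _ hx, hPx]; exact hPp)
          have h2 := congrArg hO.fromSpec h1
          rwa [hO.fromSpec_primeIdealOf, hO.fromSpec_primeIdealOf] at h2
        refine (hJ ⟨P, inferInstance⟩).1 hJP (h _ ?_ hfx)
        refine (Groth.RaynaudGruson.RelAssWitness.mem_relAss_iff_witness f F hO (hW i) e _ hx).2 ?_
        rw [← hcomap _ hx, hPx, hPp]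
        exact ht
    refine ⟨Y.basicOpen g, (Groth.QCohMod.mem_basicOpen_iff_notMem_primeIdealOf hO g _ hηO).2 hg,
      Y.basicOpen_le g, fun x hx hfV hxW => ?_⟩
    by_contra hxU
    have hle : p.asIdeal ≤ (hO.primeIdealOf ⟨f x, e hxW⟩).asIdeal := by
      refine (PrimeSpectrum.le_iff_specializes p _).2 (hO.fromSpec.isEmbedding.toIsInducing.specializes_iff.1 ?_)
      rw [hO.fromSpec_primeIdealOf, hO.fromSpec_primeIdealOf]
      exact genericPoint_specializes _
    refine hP _ hle ((Groth.QCohMod.mem_basicOpen_iff_notMem_primeIdealOf hO g (f x) (e hxW)).1 hfV)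
      ((hW i).primeIdealOf ⟨x, hxW⟩).asIdeal (hcomap x hxW)
      ((Groth.RaynaudGruson.RelAssWitness.mem_relAss_iff_witness f F hO (hW i) e x hxW).1 hx) ?_
    refine (hJ _).2 ?_
    rwa [(hW i).fromSpec_primeIdealOf]
  choose V hV hVO hVU using hloc
  let Vt : Y.Opens := O ⊓ ⟨⋂ i ∈ s, (V i : Set Y), isOpen_biInter_finset fun i _ => (V i).2⟩
  refine ⟨Vt, ⟨genericPoint ↑Y, hηO, Set.mem_iInter₂.2 fun i _ => hV i⟩, fun x hx hfx => ?_⟩
  obtain ⟨i, hi, hxi⟩ := Set.mem_iUnion₂.1 (hs (show x ∈ ((f ⁻¹ᵁ O : X.Opens) : Set X) from hfx.1))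
  exact hVU i x hx (Set.mem_iInter₂.1 hfx.2 i hi) hxi

end Groth.Agent.S1368
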