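import Groth.Statements.S13682
import Mathlib.Algebra.Module.BigOperators

set_option autoImplicit false
universe u v w
open scoped BigOperators
open BTGrp

namespace Groth.Agent.S13682

/-- Let A be a commutative ring, α ∈ A a non-zero-divisor, M_1, …, M_r and N modules over A and φ : M_1
× ⋯ × M_r → N an A-multilinear map. Let n be a natural number and let y_{i,j} (j < n) and w_{i,j} (j
≤ n) be elements of M_i with w_{i,j+1} = w_{i,j} + α y_{i,j} for all i and all j < n. Then Σ_i
Σ_{j<n} φ(w_{1,j+1}, …, w_{i-1,j+1}, y_{i,j}, w_{i+1,j}, …, w_{r,j}) = Σ_i Σ_{j<n} φ(w_{1,n}, …,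
w_{i-1,n}, y_{i,j}, w_{i+1,0}, …, w_{r,0}). (The published statement takes n ≥ 1; for n = 0 both
sides are empty sums. The families y, w are indexed by all natural numbers here and only the indices
named above enter.) -/
theorem result {A : Type u} [CommRing A] (α : A) (hα : α ∈ nonZeroDivisors A)
    {r : ℕ} (M : Fin r → Type v) (N : Type w) [∀ i, AddCommGroup (M i)] [∀ i, Module A (M i)]
    [AddCommGroup N] [Module A N] (φ : MultilinearMap A M N) (n : ℕ)
    (y w : ∀ i, ℕ → M i) (hw : ∀ i, ∀ j < n, w i (j + 1) = w i j + α • y i j) :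
    (∑ i : Fin r, ∑ j ∈ Finset.range n,
        φ (fun k => if k < i then w k (j + 1) else if k = i then y k j else w k j)) =
      ∑ i : Fin r, ∑ j ∈ Finset.range n,
        φ (fun k => if k < i then w k n else if k = i then y k j else w k 0) := by
  classical
  let e : ℕ → ℕ → A := fun l m => if m = l then 1 else 0
  let Y : ∀ k, ℕ → M k := fun k l => if l = 0 then w k 0 else y k (l - 1)
  let w' : ℕ → ℕ → A := fun j => e 0 + α • ∑ l ∈ Finset.range j, e (l + 1)
  let g : ∀ k, (ℕ → A) → M k := fun k m => ∑ l ∈ Finset.range (n + 1), m l • Y k l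
  have gadd : ∀ k a b, g k (a + b) = g k a + g k b := fun k a b => by
    simp only [g, Pi.add_apply, add_smul, Finset.sum_add_distrib]
  have gsmul : ∀ k (c : A) a, g k (c • a) = c • g k a := fun k c a => by
    simp only [g, Pi.smul_apply, smul_eq_mul, mul_smul, Finset.smul_sum]
  have ge : ∀ k l, l < n + 1 → g k (e l) = Y k l := fun k l hl => by
    simp [g, e, hl]
  have gw : ∀ k j, j ≤ n → g k (w' j) = w k j := by
    intro k j
    induction j with
    | zero => intro _; simp [w', ge, Y]
    | succ j ih =>
      intro hj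
      rw [hw k j (by omega), ← ih (by omega)]
      have : w' (j + 1) = w' j + α • e (j + 1) := by
        simp only [w', Finset.sum_range_succ, smul_add, add_assoc]
      rw [this, gadd, gsmul, ge k (j + 1) (by omega)]
      simp [Y]
  have expand : ∀ m : Fin r → ℕ → A, φ (fun k => g k (m k)) =
      ∑ f ∈ Fintype.piFinset (fun _ : Fin r => Finset.range (n + 1)), (∏ k, m k (f k)) • φ (fun k => Y k (f k)) := by
    intro m
    simp only [g]
    rw [φ.map_sum_finset]
    exact Finset.sum_congr rfl fun f _ => φ.map_smul_univ _ _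
  have hL : ∀ i : Fin r, ∀ j ∈ Finset.range n,
      φ (fun k => if k < i then w k (j + 1) else if k = i then y k j else w k j) =
      φ (fun k => g k (if k < i then w' (j + 1) else if k = i then e (j + 1) else w' j)) := by
    intro i j hj
    rw [Finset.mem_range] at hj
    congr 1; funext k
    split_ifs <;> simp [gw k (j + 1) (by omega), gw k j (by omega), ge k (j + 1) (by omega), Y]
  have hR : ∀ i : Fin r, ∀ j ∈ Finset.range n,
      φ (fun k => if k < i then w k n else if k = i then y k j else w k 0) =
      φ (fun k => g k (if k < i then w' n else if k = i then e (j + 1) else w' 0)) := by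
    intro i j hj
    rw [Finset.mem_range] at hj
    congr 1; funext k
    split_ifs <;> simp [gw k n le_rfl, gw k 0 (by omega), ge k (j + 1) (by omega), Y]
  rw [Finset.sum_congr rfl fun i _ => Finset.sum_congr rfl (hL i),
    Finset.sum_congr rfl fun i _ => Finset.sum_congr rfl (hR i)]
  simp only [expand]
  have hswap : ∀ (c : Fin r → ℕ → (Fin r → ℕ) → A) (v : (Fin r → ℕ) → N) (s : Finset (Fin r → ℕ)),
      ∑ i, ∑ j ∈ Finset.range n, ∑ f ∈ s, c i j f • v f = ∑ f ∈ s, (∑ i, ∑ j ∈ Finset.range n, c i j f) • v f := by
    intro c v s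
    simp only [Finset.sum_smul]
    rw [Finset.sum_comm (s := s)]
    exact Finset.sum_congr rfl fun i _ => Finset.sum_comm
  rw [hswap, hswap]
  refine Finset.sum_congr rfl fun f _ => congrArg (· • _) ?_
  let ψ : MultilinearMap A (fun _ : Fin r => A) A := MultilinearMap.mkPiAlgebra A (Fin r) A
  have tel : ∀ a b d : Fin r → A, (∀ k, a k - b k = α * d k) →
      ∏ k, a k - ∏ k, b k = α * ∑ i, ∏ k, (if k < i then a k else if k = i then d k else b k) := by
    intro a b d h
    have h2 := ψ.map_piecewise_sub_map_piecewise a b b Finset.univ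
    simp only [Finset.piecewise_univ, Finset.mem_univ, if_true, ψ, MultilinearMap.mkPiAlgebra_apply] at h2
    rw [h2, Finset.mul_sum]
    refine Finset.sum_congr rfl fun i _ => ?_
    rw [← Finset.mul_prod_erase Finset.univ _ (Finset.mem_univ i),
      ← Finset.mul_prod_erase Finset.univ (fun k => if k < i then a k else if k = i then d k else b k) (Finset.mem_univ i)]
    simp only [lt_self_iff_false, if_false, if_true]
    rw [h, mul_assoc]
    congr 2
    exact Finset.prod_congr rfl fun k hk => by simp [Finset.ne_of_mem_erase hk]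
  have hstep : ∀ m j, w' (j + 1) m - w' j m = α * e (j + 1) m := fun m j => by
    simp only [w', Finset.sum_range_succ, Pi.add_apply, Pi.smul_apply, smul_eq_mul]; ring
  refine sub_eq_zero.1 (hα.1 _ ?_)
  rw [mul_sub, sub_eq_zero]
  simp only [Finset.mul_sum]
  trans (∏ k, w' n (f k) - ∏ k, w' 0 (f k))
  · rw [Finset.sum_comm, ← Finset.sum_range_sub (fun j => ∏ k, w' j (f k))]
    refine Finset.sum_congr rfl fun j _ => ?_
    rw [tel (fun k => w' (j + 1) (f k)) (fun k => w' j (f k)) (fun k => e (j + 1) (f k)) fun k => hstep _ _,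
      Finset.mul_sum]
    simp [ite_apply]
  · rw [tel (fun k => w' n (f k)) (fun k => w' 0 (f k)) (fun k => ∑ j ∈ Finset.range n, e (j + 1) (f k))
      fun k => by simp [w']]
    rw [Finset.mul_sum]
    refine Finset.sum_congr rfl fun i _ => ?_
    rw [← Finset.mul_sum]
    congr 1
    rw [← Finset.mul_prod_erase Finset.univ _ (Finset.mem_univ i)]
    simp only [lt_self_iff_false, if_false, if_true, Finset.sum_mul]
    refine Finset.sum_congr rfl fun j _ => ?_
    rw [← Finset.mul_prod_erase Finset.univ _ (Finset.mem_univ i)]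
    simp only [lt_self_iff_false, if_false, if_true]
    congr 1
    exact Finset.prod_congr rfl fun k hk => by simp [Finset.ne_of_mem_erase hk, ite_apply]

end Groth.Agent.S13682
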