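import Groth.Statements.S13685
import Groth.Agent.Misc5Disp.ExtPow

set_option autoImplicit false
universe u v w
open Disp

namespace Groth.Agent.S13685

/-- Let p be a prime, R a commutative ring, W its ring of p-typical Witt vectors, D = (P, Q, F, V⁻¹) a
3n-display over R with a normal decomposition P = L ⊕ T, Q = L + I_R T in which T is free of rank
one over W, and E the 3n-display structure on ⋀^r P whose distinguished submodule is spanned by the
wedges of elements of Q and whose V⁻¹ sends q_1 ∧ ⋯ ∧ q_r to V⁻¹q_1 ∧ ⋯ ∧ V⁻¹q_r. Then the wedge map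
λ : P^r → ⋀^r P is an alternating multilinear morphism of 3n-displays from D to E, and for every
3n-display D' = (P', Q', F', V'⁻¹) and every alternating multilinear morphism of 3n-displays φ : P^r
→ P' (W-multilinear alternating, φ(Q^r) ⊆ Q', V'⁻¹(φ(q)) = φ(V⁻¹q_1, …, V⁻¹q_r), F'(φ(q_1, …, x_i,
…, q_r)) = φ(V⁻¹q_1, …, F x_i, …, V⁻¹q_r)) there is a unique W-linear ψ : ⋀^r P → P' that is a
morphism of 3n-displays from E to D' (ψ maps E's submodule into Q' and commutes with F and V⁻¹) with
ψ ∘ λ = φ. (The published statement has T projective of rank one; this row takes T free of rank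
one.) -/
theorem result (p : ℕ) [Fact p.Prime] (R : Type u) [CommRing R]
    (P : Type v) [AddCommGroup P] [Module (WittVector p R) P] (D : W4c1extbt610.Display3n p R P)
    (hT : ∃ L T : Submodule (WittVector p R) P, IsCompl L T ∧ D.Q = L ⊔ W4c1extbt610.IV p R • T ∧
      Nonempty (T ≃ₗ[WittVector p R] WittVector p R))
    (r : ℕ) (E : W4c1extbt610.Display3n p R (⋀[WittVector p R]^r P)) (hE : W4c1extbt610.IsExtPow D r E) :
    W4c1extbt610.IsAltMult D E (exteriorPower.ιMulti (WittVector p R) r) ∧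
      ∀ (P' : Type w) [AddCommGroup P'] [Module (WittVector p R) P'] (D' : W4c1extbt610.Display3n p R P')
        (φ : P [⋀^Fin r]→ₗ[WittVector p R] P'), W4c1extbt610.IsAltMult D D' φ →
        ∃! ψ : ⋀[WittVector p R]^r P →ₗ[WittVector p R] P',
          W4c1extbt610.IsHom E D' ψ ∧ ψ.compAlternatingMap (exteriorPower.ιMulti (WittVector p R) r) = φ := by
  clear hT
  have hmem : ∀ q : Fin r → D.Q, exteriorPower.ιMulti (WittVector p R) r (fun i => (q i : P)) ∈ E.Q := fun q =>
    hE.1.symm ▸ Submodule.subset_span ⟨q, rfl⟩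
  refine ⟨⟨hmem, fun q => hE.2 q _, fun i x q => ?_⟩, ?_⟩
  · rw [Groth.Misc5Disp.F_eq_Vinv, Groth.Misc5Disp.F_eq_Vinv D x]
    let q' : Fin r → D.Q := Function.update q i
      ⟨WittVector.verschiebung 1 • x, D.IV_smul_le (Groth.Misc5Disp.V_smul_mem 1 x)⟩
    have h1 : (fun j => (q' j : P)) = Function.update (fun j => (q j : P)) i (WittVector.verschiebung 1 • x) :=
      funext fun j => Function.apply_update (fun _ => Subtype.val) q i _ j
    have h2 : (fun j => D.Vinv (q' j)) = Function.update (fun j => D.Vinv (q j)) i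
        (D.Vinv ⟨WittVector.verschiebung 1 • x, D.IV_smul_le (Groth.Misc5Disp.V_smul_mem 1 x)⟩) :=
      funext fun j => Function.apply_update (fun _ => D.Vinv) q i _ j
    rw [← h2, ← hE.2 q' (hmem q')]
    refine congrArg _ (Subtype.ext ?_)
    show WittVector.verschiebung (1 : WittVector p R) • _ = exteriorPower.ιMulti (WittVector p R) r (fun j => (q' j : P))
    rw [h1, AlternatingMap.map_update_smul]
  · intro P' _ _ D' φ hφ
    refine ⟨exteriorPower.alternatingMapLinearEquiv φ, ⟨?_, exteriorPower.alternatingMapLinearEquiv_comp_ιMulti φ⟩, ?_⟩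
    swap
    · rintro ψ ⟨-, hψ⟩
      exact exteriorPower.linearMap_ext (hψ.trans (exteriorPower.alternatingMapLinearEquiv_comp_ιMulti φ).symm)
    set ψ := exteriorPower.alternatingMapLinearEquiv φ with hψdef
    have hψ : ∀ x, ψ (exteriorPower.ιMulti (WittVector p R) r x) = φ x :=
      exteriorPower.alternatingMapLinearEquiv_apply_ιMulti φ
    have key : ∀ z ∈ Submodule.span (WittVector p R)
        (Set.range fun q : Fin r → D.Q => exteriorPower.ιMulti (WittVector p R) r fun i => (q i : P)),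
        ∀ h : z ∈ E.Q, ∃ h' : ψ z ∈ D'.Q, ψ (E.Vinv ⟨z, h⟩) = D'.Vinv ⟨ψ z, h'⟩ := by
      intro z hz
      induction hz using Submodule.span_induction with
      | mem y hy =>
        obtain ⟨q, rfl⟩ := hy
        intro h
        have h' : ψ (exteriorPower.ιMulti (WittVector p R) r fun i => (q i : P)) ∈ D'.Q := hψ _ ▸ hφ.mapsTo q
        refine ⟨h', ?_⟩
        rw [hE.2 q h, hψ, ← hφ.vCond q]
        exact congrArg _ (Subtype.ext (hψ _).symm)
      | zero =>
        intro h
        refine ⟨by rw [map_zero]; exact zero_mem _, ?_⟩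
        exact ((congrArg ψ (map_zero E.Vinv)).trans (map_zero ψ)).trans
          ((map_zero D'.Vinv).symm.trans (congrArg _ (Subtype.ext (map_zero ψ).symm)))
      | add a b ha hb iha ihb =>
        intro h
        obtain ⟨ha', hav⟩ := iha (hE.1.symm ▸ ha)
        obtain ⟨hb', hbv⟩ := ihb (hE.1.symm ▸ hb)
        refine ⟨by rw [map_add]; exact add_mem ha' hb', ?_⟩
        rw [show (⟨a + b, h⟩ : E.Q) = ⟨a, hE.1.symm ▸ ha⟩ + ⟨b, hE.1.symm ▸ hb⟩ from rfl, map_add, map_add,
          hav, hbv, ← map_add]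
        exact congrArg _ (Subtype.ext (map_add ψ a b).symm)
      | smul c a ha iha =>
        intro h
        obtain ⟨ha', hav⟩ := iha (hE.1.symm ▸ ha)
        refine ⟨by rw [map_smul]; exact Submodule.smul_mem _ c ha', ?_⟩
        rw [show (⟨c • a, h⟩ : E.Q) = c • ⟨a, hE.1.symm ▸ ha⟩ from rfl, map_smulₛₗ, map_smul, hav, ← map_smulₛₗ]
        exact congrArg _ (Subtype.ext (map_smul ψ c a).symm)
    have hmaps : ∀ q, q ∈ E.Q → ψ q ∈ D'.Q := fun q hq => (key q (hE.1 ▸ hq) hq).1
    refine ⟨hmaps, fun x => ?_, fun q => (key q (hE.1 ▸ q.2) q.2).2⟩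
    have hx : WittVector.verschiebung 1 • x ∈ E.Q := E.IV_smul_le (Groth.Misc5Disp.V_smul_mem 1 x)
    obtain ⟨_, h⟩ := key _ (hE.1 ▸ hx) hx
    rw [Groth.Misc5Disp.F_eq_Vinv E, Groth.Misc5Disp.F_eq_Vinv D']
    exact h.trans (congrArg _ (Subtype.ext (map_smul ψ _ x)))

end Groth.Agent.S13685
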