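import Groth.Statements.S13686
import Groth.Agent.Misc5Disp.ExtPow

set_option autoImplicit false
universe u v
open Disp

namespace Groth.Agent.S13686

/-- Let p be a prime, R a nontrivial commutative ring, W its ring of p-typical Witt vectors and D = (P,
Q, F, V⁻¹) a 3n-display over R with a normal decomposition P = L ⊕ T, Q = L + I_R T in which L is
free of rank m and T is free of rank one over W (so P is free of rank m + 1, the height). For r ≥ 1
let E be the 3n-display structure on ⋀^r P whose distinguished submodule is spanned by the wedges of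
elements of Q and whose V⁻¹ acts factorwise on them. Then E admits a normal decomposition ⋀^r P = L'
⊕ T', with distinguished submodule L' + I_R T', in which T' is free of rank (m choose r−1) over W:
with h = m + 1 the height, the tangent module of the exterior power has rank (h−1 choose r−1). (The
published statement has T projective of rank one and P of height h; this row takes L and T free, R
nontrivial and r ≥ 1.) -/
theorem result (p : ℕ) [Fact p.Prime] (R : Type u) [CommRing R] [Nontrivial R]
    (P : Type v) [AddCommGroup P] [Module (WittVector p R) P] (D : W4c1extbt610.Display3n p R P) (m : ℕ)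
    (L T : Submodule (WittVector p R) P) (hLT : IsCompl L T) (hQ : D.Q = L ⊔ W4c1extbt610.IV p R • T)
    (hL : Module.Free (WittVector p R) L) (hLr : Module.finrank (WittVector p R) L = m)
    (hT : Nonempty (T ≃ₗ[WittVector p R] WittVector p R))
    (r : ℕ) (hr : 1 ≤ r) (E : W4c1extbt610.Display3n p R (⋀[WittVector p R]^r P)) (hE : W4c1extbt610.IsExtPow D r E) :
    ∃ L' T' : Submodule (WittVector p R) (⋀[WittVector p R]^r P), IsCompl L' T' ∧
      E.Q = L' ⊔ W4c1extbt610.IV p R • T' ∧ Module.Free (WittVector p R) T' ∧
      Module.finrank (WittVector p R) T' = m.choose (r - 1) := by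
  classical
  obtain ⟨e⟩ := hT
  have := D.finite
  have := D.projective
  obtain ⟨π, hπ, Φ, hΦ, hrange, hker, hE₀⟩ := Groth.Misc5Disp.exists_extMk D L T hLT hQ e
  haveI := Groth.Misc5Disp.exteriorPower_projective (A := WittVector p R) (M := P) r
  have hEeq := Groth.Misc5Disp.isExtPow_unique (hE₀ r) hE
  let πr := exteriorPower.map r π
  have hπr : ∀ z, πr (πr z) = πr z := Groth.Misc5Disp.map_idem hπ r
  have hcompl : IsCompl (LinearMap.range πr) (LinearMap.ker πr) :=
    (LinearMap.IsIdempotentElem.isCompl (f := πr) (LinearMap.ext hπr))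
  refine ⟨LinearMap.range πr, LinearMap.ker πr, hcompl, ?_, ?_⟩
  · rw [hEeq]
    exact Groth.Misc5Disp.qOf_eq_sup hπr
  haveI : Module.Finite (WittVector p R) L :=
    Module.Finite.of_surjective (L.projectionOnto T hLT) (Submodule.projectionOnto_surjective hLT)
  haveI := hL
  let bL := Module.finBasisOfFinrankEq (WittVector p R) L hLr
  let b1 : Module.Basis (Fin 1) (WittVector p R) T :=
    (Module.Basis.singleton (Fin 1) (WittVector p R)).map e.symm
  let b : Module.Basis (Fin (m + 1)) (WittVector p R) P :=
    ((bL.prod b1).map (Submodule.prodEquivOfIsCompl L T hLT)).reindex finSumFinEquiv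
  have hbi : ∀ i, π (b i) = b i ∨ π (b i) = 0 := by
    intro i
    obtain ⟨j, rfl⟩ := finSumFinEquiv.surjective i
    rcases j with j | j
    · left
      have hj : b (finSumFinEquiv (Sum.inl j)) = bL j := by simp [b]
      have : (bL j : P) ∈ LinearMap.range π := hrange ▸ (bL j).2
      obtain ⟨y, hy⟩ := this
      rw [hj, ← hy, hπ]
    · right
      have hj : b (finSumFinEquiv (Sum.inr j)) = b1 j := by simp [b]
      rw [hj]
      exact LinearMap.mem_ker.1 (hker ▸ (b1 j).2)
  let B := b.exteriorPower r
  have hB : ∀ s, πr (B s) = B s ∨ πr (B s) = 0 := by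
    intro s
    rw [exteriorPower.coe_basis, exteriorPower.ιMulti_family, Groth.Misc5Disp.map_ιMulti]
    by_cases h : ∀ i, π (b (Set.powersetCard.ofFinEmbEquiv.symm s i)) = b (Set.powersetCard.ofFinEmbEquiv.symm s i)
    · left
      simp only [Function.comp_apply, h]
      rfl
    · right
      push Not at h
      obtain ⟨i, hi⟩ := h
      exact (exteriorPower.ιMulti (WittVector p R) r).map_coord_zero i ((hbi _).resolve_left hi)
  let K := {s // πr (B s) = 0}
  have hli : LinearIndependent (WittVector p R) (fun s : K => B s.1) :=
    B.linearIndependent.comp _ Subtype.val_injective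
  have hspan : LinearMap.ker πr = Submodule.span (WittVector p R) (Set.range fun s : K => B s.1) := by
    refine le_antisymm (fun z hz => ?_) (Submodule.span_le.2 ?_)
    · have h1 : z = (LinearMap.id - πr : _ →ₗ[WittVector p R] _) z := by
        simp [LinearMap.mem_ker.1 hz]
      rw [h1, ← B.sum_repr z, map_sum]
      refine Submodule.sum_mem _ fun s _ => ?_
      rw [map_smul]
      refine Submodule.smul_mem _ _ ?_
      rcases hB s with h | h
      · simp [h]
      · rw [LinearMap.sub_apply, h, sub_zero]
        exact Submodule.subset_span ⟨⟨s, h⟩, rfl⟩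
    · rintro _ ⟨s, rfl⟩
      exact s.2
  have hfree : Module.Free (WittVector p R) (LinearMap.ker πr) := by
    rw [hspan]
    exact Module.Free.of_basis (Module.Basis.span hli)
  refine ⟨hfree, ?_⟩
  haveI : Module.Finite (WittVector p R) (LinearMap.ker πr) := by
    rw [hspan]
    exact Module.Finite.of_basis (Module.Basis.span hli)
  -- the complement is the exterior power of `L`
  let i := exteriorPower.map r L.subtype
  let q := exteriorPower.map r (L.projectionOnto T hLT)
  have hqi : q ∘ₗ i = LinearMap.id := by
    rw [← exteriorPower.map_comp, ← exteriorPower.map_id]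
    congr 1
    exact LinearMap.ext fun x => Submodule.projectionOnto_apply_left hLT x
  have hiq : i ∘ₗ q = πr := by
    rw [← exteriorPower.map_comp]
    show exteriorPower.map r _ = exteriorPower.map r π
    congr 1
    refine LinearMap.ext fun x => ?_
    obtain ⟨l, hl, t, ht, rfl⟩ := Submodule.mem_sup.1 (hLT.sup_eq_top.symm ▸ Submodule.mem_top : x ∈ L ⊔ T)
    have h1 : π l = l := by
      obtain ⟨y, hy⟩ : l ∈ LinearMap.range π := hrange ▸ hl
      rw [← hy, hπ]
    have h2 : π t = 0 := LinearMap.mem_ker.1 (hker ▸ ht)
    simp [h1, h2, Submodule.projectionOnto_apply_right hLT ⟨t, ht⟩, Submodule.projectionOnto_apply_left hLT ⟨l, hl⟩]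
  have hrr : LinearMap.range πr = LinearMap.range i := by
    rw [← hiq]
    exact LinearMap.range_comp_of_range_eq_top _
      (LinearMap.range_eq_top.2 fun z => ⟨i z, LinearMap.congr_fun hqi z⟩)
  let el : ⋀[WittVector p R]^r L ≃ₗ[WittVector p R] LinearMap.range πr :=
    (LinearEquiv.ofInjective i (Function.LeftInverse.injective (g := q) (LinearMap.congr_fun hqi))).trans
      (LinearEquiv.ofEq _ _ hrr.symm)
  haveI : Module.Free (WittVector p R) (LinearMap.range πr) := Module.Free.of_equiv el
  haveI : Module.Finite (WittVector p R) (LinearMap.range πr) := Module.Finite.equiv el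
  have htot := (Submodule.prodEquivOfIsCompl _ _ hcompl).finrank_eq
  haveI : Module.Free (WittVector p R) P := Module.Free.of_basis b
  rw [Module.finrank_prod, ← el.finrank_eq, exteriorPower.finrank_eq, exteriorPower.finrank_eq, hLr,
    Module.finrank_eq_card_basis b, Fintype.card_fin] at htot
  obtain ⟨s, rfl⟩ : ∃ s, r = s + 1 := ⟨r - 1, by omega⟩
  rw [Nat.choose_succ_succ] at htot
  rw [Nat.add_sub_cancel]
  simp only [Nat.succ_eq_add_one] at htot
  omega

end Groth.Agent.S13686
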