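import Groth.Statements.S1369
import Groth.Agent.FlatMor2.FibreGenericAss.Main
import Groth.Agent.FibreDim.GenericImage

set_option autoImplicit false
set_option backward.isDefEq.respectTransparency.types false
universe u
open FlatMor

namespace Groth.Agent.S1369

open AlgebraicGeometry CategoryTheory Limits in
/-- Let f be of finite type with irreducible target, F a quasi-coherent module of finite type on the
source and U an open of the source. If some associated point of F restricted to the generic fibre is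
not in U, then over some nonempty open of the target every fibre carries an associated point of F
(restricted to that fibre) outside U. -/
theorem result {X Y : Scheme.{u}} (f : X ⟶ Y) [IrreducibleSpace ↑Y] [LocallyOfFiniteType f] [QuasiCompact f]
    (F : X.Modules) (hF : Coh.IsCoh F) (U : X.Opens)
    (h : ∃ x ∈ MoreMor.relAss f F, f x = genericPoint ↑Y ∧ x ∉ U) :
    ∃ V : Y.Opens, (V : Set ↑Y).Nonempty ∧ ∀ y ∈ V, ∃ x ∈ MoreMor.relAss f F, f x = y ∧ x ∉ U := by
  obtain ⟨ξ, hξ, hfξ, hξU⟩ := h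
  obtain ⟨V, hVsub, hVo, hVne, hV⟩ := Groth.FlatMor2.FibreGenericAss.exists_nhd f F hF ξ hξ
  obtain ⟨O, hO, hOV⟩ := isOpen_induced_iff.1 hVo
  have hVeq : ∀ x, x ∈ V ↔ x ∈ closure ({ξ} : Set X) ∧ x ∈ O := fun x =>
    ⟨fun hx => ⟨hVsub hx, ((Set.ext_iff.1 hOV) ⟨x, hVsub hx⟩).2 hx⟩,
      fun hx => ((Set.ext_iff.1 hOV) ⟨x, hx.1⟩).1 hx.2⟩
  have hξV : ξ ∈ V := by
    obtain ⟨v, hv⟩ := hVne
    exact (hVeq ξ).2 ⟨subset_closure rfl,
      (specializes_iff_mem_closure.2 (hVsub hv)).mem_open hO ((hVeq v).1 hv).2⟩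
  let I := Scheme.IdealSheafData.vanishingIdeal (⟨closure ({ξ} : Set X), isClosed_closure⟩ : TopologicalSpace.Closeds X)
  let W : I.subscheme.Opens := ⟨I.subschemeι ⁻¹' O, hO.preimage I.subschemeι.continuous⟩
  let j := W.ι ≫ I.subschemeι
  have hjr : Set.range j = V := by
    ext x
    rw [hVeq, Scheme.Hom.comp_base, TopCat.coe_comp, Set.range_comp, Scheme.Opens.range_ι]
    have hr : Set.range I.subschemeι = closure ({ξ} : Set X) := by
      rw [Scheme.IdealSheafData.range_subschemeι, Scheme.IdealSheafData.coe_support_vanishingIdeal]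
      rfl
    constructor
    · rintro ⟨w, hw, rfl⟩
      exact ⟨hr.le ⟨w, rfl⟩, hw⟩
    · rintro ⟨hx, hxO⟩
      obtain ⟨w, rfl⟩ := hr.ge hx
      exact ⟨w, hxO, rfl⟩
  let g := j ≫ f
  obtain ⟨N, hN, hNsub⟩ := Groth.FibreDim.exists_open_subset_range g (by
    obtain ⟨w, hw⟩ := hjr.ge hξV
    exact ⟨w, (Scheme.Hom.comp_apply _ _ _).trans ((congrArg f hw).trans hfξ)⟩)
  refine ⟨N, hN, fun y hy => ?_⟩
  obtain ⟨w, hw⟩ := hNsub hy
  let e : ↥(g.base ⁻¹' {y}) → ↥(V ∩ f ⁻¹' {y}) := fun z => ⟨j z.1, hjr.le ⟨z.1, rfl⟩, z.2⟩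
  have he : Function.Bijective e := by
    refine ⟨fun a b hab => ?_, fun v => ?_⟩
    · have h0 := congrArg Subtype.val hab
      have h1 : I.subschemeι (W.ι a.1) = I.subschemeι (W.ι b.1) := h0
      exact Subtype.ext (W.ι.isEmbedding.injective (I.subschemeι.isEmbedding.injective h1))
    obtain ⟨z, hz⟩ := hjr.ge v.2.1
    exact ⟨⟨z, (congrArg f hz).trans v.2.2⟩, Subtype.ext hz⟩
  have hind : Topology.IsInducing e := by
    refine Topology.IsInducing.of_comp (by fun_prop) continuous_subtype_val ?_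
    exact j.isEmbedding.isInducing.comp Topology.IsInducing.subtypeVal
  let Φ := (g.fiberHomeo y).trans ((Equiv.ofBijective e he).toHomeomorphOfIsInducing hind)
  let z₀ : g.fiber y := (g.fiberHomeo y).symm ⟨w, hw⟩
  have hgen := isIrreducible_irreducibleComponent.isGenericPoint_genericPoint
    (isClosed_irreducibleComponent (x := z₀))
  let p := (isIrreducible_irreducibleComponent (x := z₀)).genericPoint
  refine ⟨(Φ p).1, ?_, (Φ p).2.2, fun hU => hξU ?_⟩
  · obtain ⟨hx, hy'⟩ := (Φ p).2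
    have h1 : IsGenericPoint (Φ p) (Φ '' irreducibleComponent z₀) :=
      (hgen.image Φ.continuous).trans (Φ.isClosedMap _ isClosed_irreducibleComponent).closure_eq
    have h2 : Φ '' irreducibleComponent z₀ ∈ irreducibleComponents ↑(V ∩ f ⁻¹' {y}) := by
      refine ⟨(isIrreducible_irreducibleComponent (x := z₀)).image Φ Φ.continuous.continuousOn, fun s hs hle => ?_⟩
      intro v hv
      have h3 : irreducibleComponent z₀ ⊆ Φ.symm '' s := fun u hu =>
        ⟨Φ u, hle ⟨u, hu, rfl⟩, Φ.symm_apply_apply u⟩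
      have h4 := (irreducibleComponent_property z₀).2.2 (Φ.symm '' s)
        (hs.image Φ.symm Φ.symm.continuous.continuousOn).2 h3
      exact ⟨Φ.symm v, h4.le ⟨v, hv, rfl⟩, Φ.apply_symm_apply v⟩
    have key : ∀ (y' : Y) (v : ↑(V ∩ f ⁻¹' {y'})), (∃ C ∈ irreducibleComponents ↑(V ∩ f ⁻¹' {y'}),
        IsGenericPoint v C) → v.1 ∈ MoreMor.relAss f F := by
      rintro y' ⟨x, hxV, hxy⟩ hC
      subst hxy
      exact hV x hxV hC
    exact key y _ ⟨_, h2, h1⟩
  · exact (specializes_iff_mem_closure.2 ((hVeq _).1 (Φ p).2.1).1).mem_open U.isOpen hU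

end Groth.Agent.S1369
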