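import Groth.Statements.S13692
import Groth.Agent.GaloisBrauer.Descent
import Groth.Agent.GaloisBrauer.Cancel
import Groth.Agent.CSA.SkolemNoether
-- import your own Groth.Agent.* helpers here

set_option autoImplicit false
universe u v w
open scoped TensorProduct
attribute [local instance] CSAGal.tensorAction GpH1.unitsAction
open GalCoh

namespace Groth.Agent.S13692

/-- Let K be a finite Galois extension of a field k with Galois group G = Aut_k(K), and A a
finite-dimensional associative unital k-algebra, not assumed simple or central. Then H¹(G, (K ⊗_k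
A)ˣ) is trivial, G acting on K ⊗_k A through the first factor. (The published statement allows any
Galois extension and reduces to the finite case by a direct limit; the finite case is stated.) -/
theorem result (k : Type u) [Field k] (K : Type v)
    [Field K] [Algebra k K] [FiniteDimensional k K] [IsGalois k K]
    (A : Type w) [Ring A] [Algebra k A] [FiniteDimensional k A] :
    GpH1.H1.IsTrivial (K ≃ₐ[k] K) (K ⊗[k] A)ˣ := by
  intro x
  obtain ⟨u, rfl⟩ := GpH1.OneCocycle.cl_surjective x
  have hu : ∀ σ τ : K ≃ₐ[k] K, ((u (σ * τ) : (K ⊗[k] A)ˣ) : K ⊗[k] A) = (u σ : K ⊗[k] A) * σ • (u τ : K ⊗[k] A) :=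
    fun σ τ => congrArg Units.val (u.2 σ τ)
  have hu1 : ((u 1 : (K ⊗[k] A)ˣ) : K ⊗[k] A) = 1 := by
    have h := u.2 1 1
    rw [one_mul, one_smul, left_eq_mul] at h
    rw [h]; rfl
  let T : (K ≃ₐ[k] K) → K ⊗[k] A →+ K ⊗[k] A := fun σ =>
    { toFun := fun y => (u σ : K ⊗[k] A) * σ • y
      map_zero' := by rw [smul_zero, mul_zero]
      map_add' := fun y z => by rw [smul_add, mul_add] }
  have h1 : ∀ y, T 1 y = y := fun y => by
    show (u 1 : K ⊗[k] A) * (1 : K ≃ₐ[k] K) • y = y
    rw [one_smul, hu1, one_mul]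
  have hmul : ∀ σ τ y, T (σ * τ) y = T σ (T τ y) := fun σ τ y => by
    show (u (σ * τ) : K ⊗[k] A) * (σ * τ) • y = (u σ : K ⊗[k] A) * σ • ((u τ : K ⊗[k] A) * τ • y)
    rw [hu, smul_mul', mul_smul, mul_assoc]
  have hsemi : ∀ σ (c : K) y, T σ (c • y) = σ c • T σ y := fun σ c y => by
    show (u σ : K ⊗[k] A) * σ • c • y = σ c • ((u σ : K ⊗[k] A) * σ • y)
    rw [smul_distrib_smul σ c y, AlgEquiv.smul_def, mul_smul_comm]
  letI : Module Aᵐᵒᵖ (K ⊗[k] A) := Module.compHom _
    (AlgHom.op (Algebra.TensorProduct.includeRight : A →ₐ[k] K ⊗[k] A)).toRingHom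
  have hop : ∀ (a : Aᵐᵒᵖ) (y : K ⊗[k] A), a • y = y * ((1 : K) ⊗ₜ[k] a.unop) := fun a y => rfl
  have : IsScalarTower k Aᵐᵒᵖ (K ⊗[k] A) := ⟨fun r a y => by
    rw [hop, hop, MulOpposite.unop_smul, TensorProduct.tmul_smul, mul_smul_comm]⟩
  have : SMulCommClass Aᵐᵒᵖ K (K ⊗[k] A) := ⟨fun a c y => by rw [hop, hop, smul_mul_assoc]⟩
  let W : Submodule Aᵐᵒᵖ (K ⊗[k] A) :=
    { carrier := {y | ∀ σ, T σ y = y}
      zero_mem' := fun σ => map_zero _
      add_mem' := fun hv hw σ => by rw [map_add, hv σ, hw σ]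
      smul_mem' := fun a y hy σ => by
        show (u σ : K ⊗[k] A) * σ • (a • y) = a • y
        rw [hop, smul_mul', TensorProduct.smul_tmul', smul_one, ← mul_assoc]
        exact congrArg (· * _) (hy σ) }
  have hbij := Groth.GaloisBrauer.liftBaseChange_bijective T h1 hmul hsemi (W.subtype.restrictScalars k)
    W.injective_subtype fun y => ⟨by rintro ⟨z, rfl⟩; exact z.2, fun h => ⟨⟨y, h⟩, rfl⟩⟩
  let L := LinearEquiv.ofBijective _ hbij
  have : FiniteDimensional k (K ⊗[k] A) := inferInstance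
  have : FiniteDimensional k W :=
    FiniteDimensional.of_injective (W.subtype.restrictScalars k) Subtype.val_injective
  have hW : Module.finrank k W = Module.finrank k A := by
    have h := L.finrank_eq
    rwa [Module.finrank_baseChange, Module.finrank_baseChange] at h
  let e := Module.finBasis k K
  let P₁ : (Fin (Module.finrank k K) → W) →ₗ[Aᵐᵒᵖ] K ⊗[k] A :=
    { toFun := fun w => ∑ i, e i • (w i : K ⊗[k] A)
      map_add' := fun v w => by simp [Finset.sum_add_distrib]
      map_smul' := fun a w => by simp [Finset.smul_sum, smul_comm] }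
  let P₂ : (Fin (Module.finrank k K) → Aᵐᵒᵖ) →ₗ[Aᵐᵒᵖ] K ⊗[k] A :=
    { toFun := fun w => ∑ i, e i ⊗ₜ[k] (w i).unop
      map_add' := fun v w => by simp [Finset.sum_add_distrib, TensorProduct.tmul_add]
      map_smul' := fun a w => by simp [hop, Finset.sum_mul] }
  have hs₁ : Function.Surjective (P₁.restrictScalars k) := by
    intro y
    obtain ⟨z, rfl⟩ := L.surjective y
    induction z using TensorProduct.induction_on with
    | zero => exact ⟨0, by simp [P₁]⟩
    | tmul c w =>
      refine ⟨fun i => e.repr c i • w, ?_⟩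
      show (∑ i, e i • ((e.repr c i • w : W) : K ⊗[k] A)) = _
      simp only [L, LinearEquiv.ofBijective_apply, LinearMap.liftBaseChange_tmul, Submodule.coe_smul_of_tower,
        LinearMap.coe_restrictScalars, Submodule.coe_subtype]
      conv_rhs => rw [← e.sum_repr c, Finset.sum_smul]
      exact Finset.sum_congr rfl fun i _ => by rw [smul_assoc, smul_comm]
    | add p q hp hq =>
      obtain ⟨v, hv⟩ := hp
      obtain ⟨w, hw⟩ := hq
      exact ⟨v + w, by rw [map_add, hv, hw, map_add]⟩
  have hs₂ : Function.Surjective (P₂.restrictScalars k) := by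
    intro y
    induction y using TensorProduct.induction_on with
    | zero => exact ⟨0, by simp [P₂]⟩
    | tmul c a =>
      refine ⟨fun i => MulOpposite.op (e.repr c i • a), ?_⟩
      show (∑ i, e i ⊗ₜ[k] (e.repr c i • a)) = _
      conv_rhs => rw [← e.sum_repr c, TensorProduct.sum_tmul]
      exact Finset.sum_congr rfl fun i _ => (TensorProduct.smul_tmul _ _ _).symm
    | add p q hp hq =>
      obtain ⟨v, hv⟩ := hp
      obtain ⟨w, hw⟩ := hq
      exact ⟨v + w, by rw [map_add, hv, hw]⟩
  have hd₁ : Module.finrank k (Fin (Module.finrank k K) → W) = Module.finrank k (K ⊗[k] A) := by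
    rw [Module.finrank_tensorProduct, Module.finrank_pi_fintype]
    simp [hW]
  have hd₂ : Module.finrank k (Fin (Module.finrank k K) → Aᵐᵒᵖ) = Module.finrank k (K ⊗[k] A) := by
    rw [Module.finrank_tensorProduct, Module.finrank_pi_fintype]
    simp [← (MulOpposite.opLinearEquiv k (M := A)).finrank_eq]
  have hi₁ := (LinearMap.injective_iff_surjective_of_finrank_eq_finrank hd₁).2 hs₁
  have hi₂ := (LinearMap.injective_iff_surjective_of_finrank_eq_finrank hd₂).2 hs₂
  have : Nonempty (Fin (Module.finrank k K)) := ⟨⟨0, Module.finrank_pos⟩⟩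
  obtain ⟨g⟩ := Groth.GaloisBrauer.nonempty_linearEquiv_self_of_pi k
    ((LinearEquiv.ofBijective P₁ ⟨hi₁, hs₁⟩).trans (LinearEquiv.ofBijective P₂ ⟨hi₂, hs₂⟩).symm)
  let w : W := g.symm 1
  have hsurj : Function.Surjective ((LinearMap.mulLeft K ((w : K ⊗[k] A)))) := by
    intro y
    obtain ⟨z, rfl⟩ := L.surjective y
    induction z using TensorProduct.induction_on with
    | zero => exact ⟨0, by simp⟩
    | tmul c v =>
      have hv : v = g v • w := by
        rw [← map_smul g.symm, smul_eq_mul, mul_one, g.symm_apply_apply]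
      refine ⟨c ⊗ₜ[k] (g v).unop, ?_⟩
      show (w : K ⊗[k] A) * (c ⊗ₜ[k] (g v).unop) = c • (v : K ⊗[k] A)
      rw [show c ⊗ₜ[k] (g v).unop = c • ((1 : K) ⊗ₜ[k] (g v).unop) by
        rw [TensorProduct.smul_tmul', smul_eq_mul, mul_one], mul_smul_comm]
      exact congrArg (c • ·) (congrArg Subtype.val hv).symm
    | add p q hp hq =>
      obtain ⟨a, ha⟩ := hp
      obtain ⟨b, hb⟩ := hq
      exact ⟨a + b, by rw [map_add, ha, hb, map_add]⟩
  obtain ⟨v, hv⟩ := hsurj 1
  have : IsArtinianRing (K ⊗[k] A) := IsArtinianRing.of_finite K _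
  let wu : (K ⊗[k] A)ˣ := ⟨w, v, hv, mul_eq_one_symm hv⟩
  refine (GpH1.OneCocycle.cl_eq_cl_iff _ _).2 ⟨wu⁻¹, fun σ => ?_⟩
  have h : u σ * σ • wu = wu := Units.ext (w.2 σ)
  show u σ = wu⁻¹⁻¹ * 1 * σ • wu⁻¹
  rw [mul_one, inv_inv, smul_inv', eq_mul_inv_iff_mul_eq, h]

end Groth.Agent.S13692
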