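import Groth.Statements.S13693
import Groth.Agent.VBCurves.KrullSchmidt

set_option autoImplicit false
universe u
open CategoryTheory CategoryTheory.Limits AlgebraicGeometry
open ASBun

open Groth.VBCurves

namespace Groth.Agent.S13693

open W4c1astiltbs12 in
/-- Let X be a scheme proper over a field k. Every coherent O_X-module F (quasi-coherent of finite type;
X is Noetherian) is isomorphic to a finite direct sum of indecomposable O_X-modules (nonzero, and in
any decomposition as a direct sum one summand is zero; the zero module is the empty sum), and such a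
decomposition is unique: if F ≅ F_1 ⊕ ⋯ ⊕ F_n ≅ G_1 ⊕ ⋯ ⊕ G_m with all F_i and G_j indecomposable,
then there is a bijection e between the index sets with F_i ≅ G_{e(i)} for every i. -/
theorem result (k : Type u) [Field k] {X : Scheme.{u}}
    (p : X ⟶ Spec (CommRingCat.of k)) [IsProper p] (F : X.Modules) (hF : Coh.IsCoh F) :
    (∃ (n : ℕ) (Fs : Fin n → X.Modules),
      (∀ i, (¬ IsZero (Fs i) ∧ ∀ A B : X.Modules, Nonempty ((Fs i) ≅ A ⊞ B) → IsZero A ∨ IsZero B)) ∧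
      Nonempty (F ≅ ∐ Fs)) ∧
    (∀ (n m : ℕ) (Fs : Fin n → X.Modules) (Gs : Fin m → X.Modules),
      (∀ i, (¬ IsZero (Fs i) ∧ ∀ A B : X.Modules, Nonempty ((Fs i) ≅ A ⊞ B) → IsZero A ∨ IsZero B)) →
      (∀ j, (¬ IsZero (Gs j) ∧ ∀ A B : X.Modules, Nonempty ((Gs j) ≅ A ⊞ B) → IsZero A ∨ IsZero B)) →
      Nonempty (F ≅ ∐ Fs) → Nonempty (F ≅ ∐ Gs) →
      ∃ e : Fin n ≃ Fin m, ∀ i, Nonempty (Fs i ≅ Gs (e i))) := by
  let _ : X.Over (Spec (CommRingCat.of k)) := ⟨p⟩
  have : IsProper (X ↘ Spec (CommRingCat.of k)) := ‹IsProper p›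
  have : IsLocallyNoetherian X := LocallyOfFiniteType.isLocallyNoetherian p
  have hfin : Module.Finite k (End F) := Groth.VBCurves.KS.finite_hom k hF hF
  obtain ⟨n₀, F₀, hF₀, ⟨e₀⟩⟩ := Groth.VBCurves.KS.exists_decomp (k := k) _ F le_rfl
  refine ⟨⟨n₀, F₀, hF₀, ⟨e₀⟩⟩, fun n m Fs Gs hFs hGs ⟨a⟩ ⟨b⟩ => ?_⟩
  refine Groth.VBCurves.KS.unique_decomp (k := k) n m Fs Gs (fun i => ?_) hFs hGs ⟨a.symm ≪≫ b⟩
  rcases n with _ | n
  · exact i.elim0
  · exact (Groth.VBCurves.KS.finite_end_left (k := k) (a ≪≫ (Groth.VBCurves.KS.splitAt i Fs).symm)).1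

end Groth.Agent.S13693
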