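import Groth.Statements.S13694
import Groth.Agent.Misc12.NDeuring.FieldHom

set_option autoImplicit false
universe u
open CategoryTheory CategoryTheory.Limits AlgebraicGeometry
open ASBun

namespace Groth.Agent.S13694

open W4c1astiltbs12 in
/-- Let X be a proper, geometrically integral scheme over a field k, K an algebraic closure of k with
projection π : X_K → X, and E an indecomposable finite locally free O_X-module (nonzero, and in any
decomposition as a direct sum one summand is zero) which is absolutely rank-one-isotypical: π^*E ≅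
L^{⊕r} for some invertible O_{X_K}-module L and some r. Then the endomorphism ring of E is a
division ring: every nonzero endomorphism of E is an isomorphism. (The published statement says more
precisely that this ring is a central division algebra over k; only the division-ring property is
stated here.) -/
theorem result (k : Type u) [Field k]
    {X : Scheme.{u}} (p : X ⟶ Spec (CommRingCat.of k)) [IsProper p] [GeometricallyIntegral p]
    (K : Type u) [Field K] [Algebra k K] [IsAlgClosure k K]
    (E : X.Modules) (hE : FlatMod.IsFinLocFree E)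
    (hEi : (¬ IsZero E ∧ ∀ A B : X.Modules, Nonempty (E ≅ A ⊞ B) → IsZero A ∨ IsZero B))
    (L : (W4bk4gw11416.baseChange p K).Modules) (hL : PicF.IsInvertible L) (r : ℕ)
    (e : Nonempty (bcMod p K E ≅ pow L r)) (f : E ⟶ E) (hf : f ≠ 0) : IsIso f := by
  classical
  obtain ⟨e⟩ := e
  haveI : IsAlgClosed K := IsAlgClosure.isAlgClosed k
  have hEc := Groth.KTheory.LocFree.isCoh hE
  haveI hs := Groth.Misc12.NDeuring.isSimpleRing_end p K hEc hEi.1 hL e
  let _ : X.Over (Spec (CommRingCat.of k)) := ⟨p⟩
  have : IsProper (X ↘ Spec (CommRingCat.of k)) := ‹IsProper p›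
  haveI : Module.Finite k (End E) := Groth.VBCurves.KS.finite_hom k hEc hEc
  haveI : Nontrivial (End E) := ⟨⟨𝟙 E, 0, fun h => hEi.1 ((IsZero.iff_id_eq_zero E).2 h)⟩⟩
  have hfit := Groth.VBCurves.KS.fitting (k := k) E hEi
  have hmul : ∀ x y : End E, IsNilpotent y → IsNilpotent (x * y) ∧ IsNilpotent (y * x) := by
    intro x y hy
    constructor
    · rcases hfit (x * y) with h | h
      · obtain ⟨u, hu⟩ := h
        obtain ⟨n, hn⟩ := hy
        have h1 : ∀ m, (↑u⁻¹ * x * y) * y ^ m = y ^ m := fun m => by rw [mul_assoc (↑u⁻¹ : End E) x y, ← hu, Units.inv_mul, one_mul]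
        induction n with
        | zero => exact absurd ((pow_zero y).symm.trans hn) one_ne_zero
        | succ n ih => exact ih (by rw [← h1 n, mul_assoc, ← pow_succ', hn, mul_zero])
      · exact h
    · rcases hfit (y * x) with h | h
      · obtain ⟨u, hu⟩ := h
        obtain ⟨n, hn⟩ := hy
        have h1 : ∀ m, y ^ m * (y * (x * ↑u⁻¹)) = y ^ m := fun m => by rw [← mul_assoc y x, ← hu, Units.mul_inv, mul_one]
        induction n with
        | zero => exact absurd ((pow_zero y).symm.trans hn) one_ne_zero
        | succ n ih => exact ih (by rw [← h1 n, ← mul_assoc, ← pow_succ, hn, zero_mul])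
      · exact h
  have hadd : ∀ {x y : End E}, IsNilpotent x → IsNilpotent y → IsNilpotent (x + y) := by
    intro x y hx hy
    rcases hfit (x + y) with h | h
    · obtain ⟨u, hu⟩ := h
      have h1 : ↑u⁻¹ * y = 1 - ↑u⁻¹ * x := by
        rw [eq_sub_iff_add_eq, ← mul_add, add_comm, ← hu, Units.inv_mul]
      exact absurd (hmul ↑u⁻¹ y hy).1 (h1 ▸ ((hmul ↑u⁻¹ x hx).1.isUnit_one_sub.not_isNilpotent))
    · exact h
  let N : TwoSidedIdeal (End E) := TwoSidedIdeal.mk' {x | IsNilpotent x} IsNilpotent.zero hadd
    (fun h => h.neg) (fun hy => (hmul _ _ hy).1) (fun hx => (hmul _ _ hx).2)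
  rcases hfit f with h | h
  · exact (CategoryTheory.isUnit_iff_isIso _).1 h
  · exfalso
    rcases eq_bot_or_eq_top N with hN | hN
    · refine hf ?_
      let f' : End E := f
      have hmem : f' ∈ N := (TwoSidedIdeal.mem_mk' {x : End E | IsNilpotent x} _ _ _ _ _ _).2 h
      rw [hN] at hmem
      exact (TwoSidedIdeal.mem_bot _).1 hmem
    · have h1 : (1 : End E) ∈ N := hN ▸ (show (1 : End E) ∈ (⊤ : TwoSidedIdeal (End E)) from trivial)
      exact not_isNilpotent_one ((TwoSidedIdeal.mem_mk' {x : End E | IsNilpotent x} _ _ _ _ _ _).1 h1)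

end Groth.Agent.S13694
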