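import Groth.Statements.S13699
import Groth.Agent.Cycles.PolLawBC
import Mathlib.LinearAlgebra.TensorProduct.Finiteness
import Mathlib.Algebra.Polynomial.Basis

set_option autoImplicit false
universe u
open scoped TensorProduct
open ZeroCyc

namespace Groth.Agent.S13699

/-- Let F : B → A be a multiplicative polynomial law homogeneous of degree d over the commutative ring
A. Then the kernel of the base change of F to the polynomial ring A[X] is the ideal of A[X] ⊗_A B
generated by the kernel of F. -/
theorem result {A : Type u} [CommRing A] {B : Type u} [CommRing B] [Algebra A B]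
    {d : ℕ} (F : PolLaw.MulLaw A B A d) :
    (PolLaw.ker F.law).map (Algebra.TensorProduct.includeRight : B →ₐ[A] Polynomial A ⊗[A] B) =
      PolLaw.kerBC F.law (Polynomial A) := by
  classical
  refine le_antisymm (Groth.Cycles.map_ker_le_kerBC F) fun z hz => ?_
  obtain ⟨c, hc⟩ := (TensorProduct.equivFinsuppOfBasisLeft (N := B) (Polynomial.basisMonomials A)).symm.surjective z
  rw [TensorProduct.equivFinsuppOfBasisLeft_symm_apply, Finsupp.sum] at hc
  set N := c.support.sup id + 1
  have hz' : z = ∑ k ∈ Finset.range N, ((Polynomial.X : Polynomial A) ^ k) ⊗ₜ[A] c k := by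
    rw [← hc]
    refine Finset.sum_subset_zero_on_sdiff ?_ ?_ ?_
    · exact fun k hk => Finset.mem_range.mpr (Nat.lt_succ_of_le (Finset.le_sup (f := id) hk))
    · intro k hk
      rw [Finsupp.notMem_support_iff.mp (Finset.mem_sdiff.mp hk).2, TensorProduct.tmul_zero]
    · intro k _
      simp [Polynomial.coe_basisMonomials, ← Polynomial.monomial_one_right_eq_X_pow]
  rw [hz'] at hz ⊢
  refine sum_mem fun k hk => ?_
  rw [show ((Polynomial.X : Polynomial A) ^ k) ⊗ₜ[A] c k =
    (((Polynomial.X : Polynomial A) ^ k) ⊗ₜ[A] (1 : B)) * ((1 : Polynomial A) ⊗ₜ[A] c k) by simp]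
  exact Ideal.mul_mem_left _ _ (Ideal.mem_map_of_mem _
    (Groth.Cycles.coeff_mem_ker F N _ hz k (Finset.mem_range.mp hk)))

end Groth.Agent.S13699
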