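import Groth.Statements.S13702
import Mathlib.FieldTheory.Separable
import Mathlib.RingTheory.Nakayama
import Mathlib.FieldTheory.IsAlgClosed.AlgebraicClosure
import Mathlib.RingTheory.FiniteType

set_option autoImplicit false
universe u
open ZeroCyc

namespace Groth.Agent.S13702

/-- Let A be a local ring with residue field of characteristic p > 0, let g ∈ A[X] be monic and
separable of degree n, so that A' = A[X]/(g) is an étale A-algebra, and let q = p^s with s ≥ 0. Then
the powers 1, t^q, t^{2q}, …, t^{(n-1)q} of the class t of X form a basis of A' as an A-module. -/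
theorem result {A : Type u} [CommRing A] [IsLocalRing A] (p : ℕ) [Fact p.Prime]
    [CharP (IsLocalRing.ResidueField A) p] (g : Polynomial A) (hg : g.Monic) (hsep : g.Separable) (s : ℕ) :
    ∃ b : Module.Basis (Fin g.natDegree) A (AdjoinRoot g),
      ∀ i : Fin g.natDegree, b i = AdjoinRoot.root g ^ (p ^ s * (i : ℕ)) := by
  classical
  let k := IsLocalRing.ResidueField A
  let Ω := AlgebraicClosure k
  have : CharP Ω p := charP_of_injective_algebraMap (algebraMap k Ω).injective p
  set n := g.natDegree with hn
  let gk : Polynomial k := g.map (IsLocalRing.residue A)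
  let gΩ : Polynomial Ω := gk.map (algebraMap k Ω)
  have hgΩ : gΩ.natDegree = n := by
    simp only [gΩ, gk, Polynomial.map_map, hg.natDegree_map, hn]
  have hsepΩ : gΩ.Separable := (hsep.map).map
  let q := p ^ s
  have hq : 0 < q := pow_pos (Fact.out : p.Prime).pos s
  have hindep : LinearIndependent k fun i : Fin n => AdjoinRoot.root gk ^ (q * (i : ℕ)) := by
    rw [Fintype.linearIndependent_iff]
    intro c hc i
    let h : Polynomial k := ∑ j : Fin n, Polynomial.C (c j) * Polynomial.X ^ (j : ℕ)
    have hcoef : h.coeff i = c i := by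
      simp [h, Polynomial.coeff_C_mul, Polynomial.coeff_X_pow, Fin.val_inj]
    have hdvd : gk ∣ Polynomial.expand k q h := by
      rw [← AdjoinRoot.mk_eq_zero, ← hc]
      simp only [h, map_sum, map_mul, Polynomial.expand_C, map_pow, Polynomial.expand_X,
        AdjoinRoot.mk_C, AdjoinRoot.mk_X, ← pow_mul]
      refine Finset.sum_congr rfl fun j _ => ?_
      rw [Algebra.smul_def, AdjoinRoot.algebraMap_eq]
    have hinjF : Function.Injective (iterateFrobenius Ω p s) := (iterateFrobenius Ω p s).injective
    have hroots : ((gΩ.roots.toFinset).image (· ^ q)).card = n := by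
      rw [Finset.card_image_of_injective _ (fun a b hab => hinjF (by simpa [iterateFrobenius_def] using hab)),
        Multiset.toFinset_card_of_nodup (Polynomial.nodup_roots hsepΩ),
        IsAlgClosed.card_roots_eq_natDegree, hgΩ]
    have h0 : h.map (algebraMap k Ω) = 0 := by
      refine Polynomial.eq_zero_of_natDegree_lt_card_of_eval_eq_zero' _ ((gΩ.roots.toFinset).image (· ^ q)) ?_ ?_
      · intro z hz
        obtain ⟨a, ha, rfl⟩ := Finset.mem_image.mp hz
        rw [← Polynomial.expand_eval, ← Polynomial.map_expand]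
        refine Polynomial.eval_eq_zero_of_dvd_of_eval_eq_zero (Polynomial.map_dvd _ hdvd) ?_
        exact (Polynomial.mem_roots'.mp (Multiset.mem_toFinset.mp ha)).2
      · rw [hroots, Polynomial.natDegree_map]
        rcases Nat.eq_zero_or_pos n with hn0 | hn0
        · exact absurd i.2 (by omega)
        · refine lt_of_le_of_lt (Polynomial.natDegree_sum_le_of_forall_le _ _ fun j _ => ?_) (Nat.sub_lt hn0 one_pos)
          exact (Polynomial.natDegree_C_mul_X_pow_le _ _).trans (by omega)
    rw [← hcoef, (Polynomial.map_eq_zero_iff (algebraMap k Ω).injective).mp h0, Polynomial.coeff_zero]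
  let pb := AdjoinRoot.powerBasis' hg
  let v : Fin n → AdjoinRoot g := fun i => AdjoinRoot.root g ^ (q * (i : ℕ))
  have : Module.Finite A (AdjoinRoot g) := pb.finite
  have hgk : gk.Monic := hg.map _
  have hspan : Submodule.span A (Set.range v) = ⊤ := by
    have hfr : Fintype.card (Fin n) = Module.finrank k (AdjoinRoot gk) := by
      rw [Fintype.card_fin, (AdjoinRoot.powerBasis' hgk).finrank, AdjoinRoot.powerBasis'_dim]
      exact (hg.natDegree_map _).symm
    have hsp : Submodule.span k (Set.range fun i : Fin n => AdjoinRoot.root gk ^ (q * (i : ℕ))) = ⊤ := by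
      have : Module.Finite k (AdjoinRoot gk) := (AdjoinRoot.powerBasis' hgk).finite
      exact hindep.span_eq_top_of_card_eq_finrank' hfr
    rw [eq_top_iff]
    refine Submodule.le_of_le_smul_of_le_jacobson_bot Module.Finite.fg_top
      (IsLocalRing.jacobson_eq_maximalIdeal ⊥ bot_ne_top).ge ?_
    intro y _
    obtain ⟨P, rfl⟩ := AdjoinRoot.mk_surjective y
    obtain ⟨c, hc⟩ := Submodule.mem_span_range_iff_exists_fun k |>.mp
      (hsp ▸ Submodule.mem_top : AdjoinRoot.mk gk (P.map (IsLocalRing.residue A)) ∈ _)
    choose c' hc' using fun i => (show ∃ a, IsLocalRing.residue A a = c i from Ideal.Quotient.mk_surjective _)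
    let Q : Polynomial A := ∑ i : Fin n, Polynomial.C (c' i) * Polynomial.X ^ (q * (i : ℕ))
    have hPQ : gk ∣ (P - Q).map (IsLocalRing.residue A) := by
      rw [← AdjoinRoot.mk_eq_zero, Polynomial.map_sub, map_sub, sub_eq_zero, ← hc]
      simp only [Q, Polynomial.map_sum, Polynomial.map_mul, Polynomial.map_C, hc', Polynomial.map_pow,
        Polynomial.map_X, map_sum, map_mul, map_pow, AdjoinRoot.mk_C, AdjoinRoot.mk_X]
      refine Finset.sum_congr rfl fun j _ => ?_
      rw [Algebra.smul_def, AdjoinRoot.algebraMap_eq]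
    obtain ⟨U, hU⟩ := hPQ
    obtain ⟨U', rfl⟩ := Polynomial.map_surjective (IsLocalRing.residue A) Ideal.Quotient.mk_surjective U
    have hdiff : ∀ i, (P - Q - g * U').coeff i ∈ IsLocalRing.maximalIdeal A := by
      intro i
      rw [← Ideal.Quotient.eq_zero_iff_mem]
      show IsLocalRing.residue A _ = 0
      rw [← Polynomial.coeff_map, Polynomial.map_sub, Polynomial.map_mul, hU, sub_self,
        Polynomial.coeff_zero]
    have hdecomp : AdjoinRoot.mk g P = AdjoinRoot.mk g Q + AdjoinRoot.mk g (P - Q - g * U') := by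
      simp [map_sub, map_mul, AdjoinRoot.mk_self]
    rw [hdecomp]
    refine Submodule.add_mem_sup ?_ ?_
    · simp only [Q, map_sum, map_mul, map_pow, AdjoinRoot.mk_C, AdjoinRoot.mk_X]
      refine Submodule.sum_mem _ fun i _ => ?_
      rw [← AdjoinRoot.algebraMap_eq, ← Algebra.smul_def]
      exact Submodule.smul_mem _ _ (Submodule.subset_span ⟨i, rfl⟩)
    · rw [(P - Q - g * U').as_sum_range_C_mul_X_pow, map_sum]
      refine Submodule.sum_mem _ fun i _ => ?_
      rw [map_mul, AdjoinRoot.mk_C, ← AdjoinRoot.algebraMap_eq, ← Algebra.smul_def]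
      exact Submodule.smul_mem_smul (hdiff i) Submodule.mem_top
  let e : (Fin n → A) ≃ₗ[A] AdjoinRoot g :=
    ((pb.basis.reindex (finCongr (AdjoinRoot.powerBasis'_dim hg))).equivFun).symm
  let Φ : (Fin n → A) →ₗ[A] AdjoinRoot g := Fintype.linearCombination A v
  have hΦ : Function.Surjective Φ := by
    rw [← LinearMap.range_eq_top, Fintype.range_linearCombination, hspan]
  have hbij : Function.Bijective Φ := by
    refine ⟨?_, hΦ⟩
    have h1 := OrzechProperty.injective_of_surjective_endomorphism (e.symm.toLinearMap ∘ₗ Φ)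
      (e.symm.surjective.comp hΦ)
    intro a b hab
    exact h1 (congrArg e.symm hab)
  refine ⟨Module.Basis.ofEquivFun (LinearEquiv.ofBijective Φ hbij).symm, fun i => ?_⟩
  rw [Module.Basis.coe_ofEquivFun, LinearEquiv.symm_symm]
  show Φ (Pi.single i 1) = _
  rw [Fintype.linearCombination_apply_single, one_smul]

end Groth.Agent.S13702
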