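import Groth.Statements.S13703
import Groth.Agent.Cycles.PolLawField
import Mathlib.RingTheory.Ideal.MinimalPrime.Localization
import Mathlib.RingTheory.Ideal.GoingUp

set_option autoImplicit false
universe u
open scoped TensorProduct
open ZeroCyc

namespace Groth.Agent.S13703

/-- Let A be an integral domain, B a commutative A-algebra and F : B → A a multiplicative polynomial law
homogeneous of degree d. For every prime ideal P of B minimal among those containing the kernel of
F, the contraction of P to A is zero and every prime of A is the contraction of a prime of B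
containing P. Geometrically: every irreducible component of the support of the family of zero-cycles
on Spec B defined by F maps onto Spec A. (The published statement is over an arbitrary algebraic
space S, every irreducible component of the support mapping onto an irreducible component of S, and
its proof reduces to an integral affine base; this row is that case.) -/
theorem result {A : Type u} [CommRing A] [IsDomain A] {B : Type u} [CommRing B] [Algebra A B]
    {d : ℕ} (F : PolLaw.MulLaw A B A d) {P : Ideal B} (hP : P ∈ (PolLaw.ker F.law).minimalPrimes) :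
    P.comap (algebraMap A B) = ⊥ ∧
      ∀ q : Ideal A, q.IsPrime → ∃ Q : Ideal B, Q.IsPrime ∧ P ≤ Q ∧ Q.comap (algebraMap A B) = q := by
  let π : B →+* PolLaw.image F.law := Ideal.Quotient.mk _
  have hle : PolLaw.ker F.law ≤ P := hP.1.2
  have hprime : P.IsPrime := hP.1.1
  have hPmin : P.map π ∈ minimalPrimes (PolLaw.image F.law) := by
    rw [minimalPrimes_eq_minimals, Set.mem_setOf_eq]
    refine ⟨Ideal.map_isPrime_of_surjective Ideal.Quotient.mk_surjective (by rwa [Ideal.mk_ker]), ?_⟩
    intro Q hQ hQle
    have h1 : PolLaw.ker F.law ≤ Q.comap π := fun b hb => by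
      rw [Ideal.mem_comap, Ideal.Quotient.eq_zero_iff_mem.mpr hb]
      exact Q.zero_mem
    have h2 : Q.comap π ≤ P := by
      refine (Ideal.comap_mono hQle).trans ?_
      rw [Ideal.comap_map_of_surjective π Ideal.Quotient.mk_surjective, ← RingHom.ker_eq_comap_bot, Ideal.mk_ker,
        sup_eq_left.mpr hle]
    exact Ideal.map_le_iff_le_comap.mpr (hP.2 ⟨Ideal.IsPrime.comap π (hK := hQ), h1⟩ h2)
  have hbot : P.comap (algebraMap A B) = ⊥ := by
    rw [eq_bot_iff]
    intro a ha
    by_contra hne
    rw [Ideal.mem_bot] at hne
    have hreg : π (algebraMap A B a) ∈ nonZeroDivisors (PolLaw.image F.law) := by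
      rw [mem_nonZeroDivisors_iff_right]
      intro z hz
      obtain ⟨x, rfl⟩ := Ideal.Quotient.mk_surjective z
      rw [← map_mul, Ideal.Quotient.eq_zero_iff_mem, mul_comm, ← Algebra.smul_def] at hz
      exact Ideal.Quotient.eq_zero_iff_mem.mpr (Groth.Cycles.torsionfree_image F hne hz)
    exact Set.disjoint_left.mp (Ideal.disjoint_nonZeroDivisors_of_mem_minimalPrimes hPmin)
      (Ideal.mem_map_of_mem π ha) hreg
  refine ⟨hbot, fun q hq => ?_⟩
  have := Groth.Cycles.isIntegral_image F
  have : Algebra.IsIntegral A (B ⧸ P) :=
    Algebra.IsIntegral.of_surjective (Ideal.Quotient.factorₐ A hle) (Ideal.Quotient.factor_surjective hle)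
  have hinj : RingHom.ker (algebraMap A (B ⧸ P)) ≤ q := by
    intro a ha
    rw [RingHom.mem_ker, IsScalarTower.algebraMap_apply A B (B ⧸ P), Ideal.Quotient.algebraMap_eq,
      Ideal.Quotient.eq_zero_iff_mem] at ha
    have : a ∈ P.comap (algebraMap A B) := ha
    rw [hbot, Ideal.mem_bot] at this
    simp [this]
  obtain ⟨Q, -, hQ, hQq⟩ := Ideal.exists_ideal_over_prime_of_isIntegral q (⊥ : Ideal (B ⧸ P)) (by
    rwa [← RingHom.ker_eq_comap_bot])
  refine ⟨Q.comap (Ideal.Quotient.mk P), Ideal.IsPrime.comap _, fun x hx => ?_, ?_⟩
  · rw [Ideal.mem_comap, Ideal.Quotient.eq_zero_iff_mem.mpr hx]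
    exact Q.zero_mem
  · rw [Ideal.comap_comap]
    exact hQq

end Groth.Agent.S13703
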