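import Groth.Statements.S13704
import Groth.Agent.Cycles.PolLawOpen
import Groth.Agent.S13703
-- import your own Groth.Agent.* helpers here

set_option autoImplicit false
universe u
open scoped TensorProduct
open ZeroCyc

namespace Groth.Agent.S13704

/-- Let F : B → A be a multiplicative polynomial law homogeneous of degree d over the commutative ring A
and let Z = Spec(B/ker F) be the image of the corresponding family of zero-cycles on Spec B over
Spec A. Then Z → Spec A is universally generizing: for every commutative A-algebra A', along the map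
Spec(A' ⊗_A (B/ker F)) → Spec A' every generization of the image of a point lifts to a generization
of the point. (The published statement is for X affine over an algebraic space S and for the support
of the family; this row is the case of an affine base, stated for the image, which has the same
underlying space as the support since generizing is a topological property.) -/
theorem result {A : Type u} [CommRing A] {B : Type u} [CommRing B] [Algebra A B]
    {d : ℕ} (F : PolLaw.MulLaw A B A d) (A' : Type u) [CommRing A'] [Algebra A A'] :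
    GeneralizingMap (PrimeSpectrum.comap (algebraMap A' (A' ⊗[A] PolLaw.image F.law))) := by
  intro Q p hp
  let φA : A' →+* A' ⊗[A] PolLaw.image F.law := algebraMap A' _
  let A'' := A' ⧸ p.asIdeal
  let mkp : A' →ₐ[A] A'' := Ideal.Quotient.mkₐ A p.asIdeal
  let G := Groth.Cycles.baseChange F A''
  have hpQ : p.asIdeal ≤ Q.asIdeal.comap φA := (PrimeSpectrum.le_iff_specializes p _).mpr hp
  haveI := Q.isPrime
  let qbar : A'' →+* (A' ⊗[A] PolLaw.image F.law) ⧸ Q.asIdeal :=
    Ideal.Quotient.lift p.asIdeal ((Ideal.Quotient.mk Q.asIdeal).comp φA)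
      fun a ha => Ideal.Quotient.eq_zero_iff_mem.mpr (hpQ ha)
  let qA : A'' →ₐ[A] (A' ⊗[A] PolLaw.image F.law) ⧸ Q.asIdeal :=
    { qbar with
      commutes' := fun a => by
        show qbar (algebraMap A A'' a) = _
        rw [IsScalarTower.algebraMap_apply A A' A'']
        show Ideal.Quotient.mk Q.asIdeal (φA (algebraMap A A' a)) = _
        rw [show φA (algebraMap A A' a) = algebraMap A (A' ⊗[A] PolLaw.image F.law) a from
          (IsScalarTower.algebraMap_apply A A' (A' ⊗[A] PolLaw.image F.law) a).symm]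
        rfl }
  let incl : B →ₐ[A] (A' ⊗[A] PolLaw.image F.law) ⧸ Q.asIdeal :=
    (Ideal.Quotient.mkₐ A Q.asIdeal).comp
      ((Algebra.TensorProduct.includeRight : PolLaw.image F.law →ₐ[A] A' ⊗[A] PolLaw.image F.law).comp
        (Ideal.Quotient.mkₐ A _))
  let h : A'' ⊗[A] B →ₐ[A] (A' ⊗[A] PolLaw.image F.law) ⧸ Q.asIdeal :=
    Algebra.TensorProduct.lift qA incl (fun a b => by
      obtain ⟨x, hx⟩ := Ideal.Quotient.mk_surjective (qA a)
      obtain ⟨y, hy⟩ := Ideal.Quotient.mk_surjective (incl b)
      show qA a * incl b = incl b * qA a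
      rw [← hx, ← hy, ← map_mul, ← map_mul, mul_comm])
  let Q'' : Ideal (A'' ⊗[A] B) := RingHom.ker h.toRingHom
  haveI : Q''.IsPrime := RingHom.ker_isPrime _
  have hle : PolLaw.ker G.law ≤ Q'' := by
    rw [Groth.Cycles.ker_baseChange]
    refine Ideal.le_radical.trans ?_
    rw [Groth.Cycles.radical_kerBC_eq F]
    refine (show Q''.IsPrime from inferInstance).isRadical.radical_le_iff.mpr ?_
    rw [Ideal.map_le_iff_le_comap]
    intro b hb
    simp [Q'', h, incl, Ideal.Quotient.eq_zero_iff_mem.mpr hb]
  obtain ⟨P, hPmin, hPQ⟩ := Ideal.exists_minimalPrimes_le hle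
  obtain ⟨hPbot, -⟩ := Groth.Agent.S13703.result G hPmin
  haveI : P.IsPrime := hPmin.1.1
  have hkerP : ∀ b ∈ PolLaw.ker F.law, (1 : A'') ⊗ₜ[A] b ∈ P := fun b hb => hPmin.1.2 (by
    rw [Groth.Cycles.ker_baseChange]
    exact Groth.Cycles.map_ker_le_kerBC F (Ideal.mem_map_of_mem _ hb))
  let j : PolLaw.image F.law →ₐ[A] (A'' ⊗[A] B) ⧸ P :=
    Ideal.Quotient.liftₐ _ ((Ideal.Quotient.mkₐ A P).comp Algebra.TensorProduct.includeRight)
      fun b hb => Ideal.Quotient.eq_zero_iff_mem.mpr (hkerP b hb)
  let k : A' ⊗[A] PolLaw.image F.law →ₐ[A] (A'' ⊗[A] B) ⧸ P :=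
    Algebra.TensorProduct.lift
      ((Ideal.Quotient.mkₐ A P).comp ((Algebra.TensorProduct.includeLeft : A'' →ₐ[A] A'' ⊗[A] B).comp mkp)) j
      (fun _ _ => Commute.all _ _)
  refine ⟨⟨RingHom.ker k.toRingHom, RingHom.ker_isPrime _⟩, (PrimeSpectrum.le_iff_specializes _ _).mp ?_,
    PrimeSpectrum.ext ?_⟩
  · intro w hw
    have key : ∀ w, ∃ y, Ideal.Quotient.mk P y = k w ∧ Ideal.Quotient.mk Q.asIdeal w = h y := by
      intro w
      induction w using TensorProduct.induction_on with
      | zero => exact ⟨0, by simp, by simp⟩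
      | tmul a c =>
        obtain ⟨b, rfl⟩ := Ideal.Quotient.mk_surjective c
        refine ⟨mkp a ⊗ₜ[A] b, ?_, ?_⟩
        · simp only [k, j, Algebra.TensorProduct.lift_tmul]
          erw [Ideal.Quotient.lift_mk]
          simp [← map_mul, mkp]
        · simp only [h, Algebra.TensorProduct.lift_tmul, incl]
          show _ = Ideal.Quotient.mk Q.asIdeal (φA a) *
            Ideal.Quotient.mk Q.asIdeal ((1 : A') ⊗ₜ[A] Ideal.Quotient.mk _ b)
          rw [← map_mul]
          simp [φA]
      | add x y hx hy =>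
        obtain ⟨u, hu, hu'⟩ := hx
        obtain ⟨v, hv, hv'⟩ := hy
        exact ⟨u + v, by rw [map_add, map_add, hu, hv], by rw [map_add, map_add, hu', hv']⟩
    obtain ⟨y, hy, hy'⟩ := key w
    rw [RingHom.mem_ker] at hw
    have hyP : y ∈ P := Ideal.Quotient.eq_zero_iff_mem.mp (hy.trans hw)
    exact Ideal.Quotient.eq_zero_iff_mem.mp (hy'.trans (hPQ hyP))
  · ext a
    show k (φA a) = 0 ↔ a ∈ p.asIdeal
    have : k (φA a) = Ideal.Quotient.mk P (algebraMap A'' (A'' ⊗[A] B) (mkp a)) := by
      show k (a ⊗ₜ[A] 1) = _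
      simp [k, j]
      rfl
    rw [this, Ideal.Quotient.eq_zero_iff_mem, ← Ideal.mem_comap, hPbot, Ideal.mem_bot]
    exact Ideal.Quotient.eq_zero_iff_mem

end Groth.Agent.S13704
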