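import Groth.Statements.S13706
import Groth.Agent.Cycles.PolLawBC
import Mathlib.RingTheory.IntegralClosure.Algebra.Basic

set_option autoImplicit false
universe u
open scoped TensorProduct
open ZeroCyc

namespace Groth.Agent.S13706

/-- Let A be a commutative ring, B an A-algebra of finite type and F : B → A a multiplicative polynomial
law homogeneous of degree d. Then there is a finitely generated ideal J of B, contained in the
kernel of F and with the same radical; thus the support of the family of zero-cycles defined by F is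
carried by a bijective closed immersion into Spec(B/J), a scheme of finite presentation over A. -/
theorem result {A : Type u} [CommRing A] {B : Type u} [CommRing B] [Algebra A B]
    [Algebra.FiniteType A B] {d : ℕ} (F : PolLaw.MulLaw A B A d) :
    ∃ J : Ideal B, J.FG ∧ J ≤ PolLaw.ker F.law ∧ J.radical = (PolLaw.ker F.law).radical := by
  classical
  obtain ⟨gens, hgens⟩ := (inferInstance : Algebra.FiniteType A B).out
  let J₀ : Ideal B := Ideal.span ((fun x => Polynomial.aeval x (Groth.Cycles.chi F x)) '' (gens : Set B))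
  have hJ₀ : J₀ ≤ PolLaw.ker F.law := Ideal.span_le.mpr (by
    rintro _ ⟨x, -, rfl⟩
    exact Groth.Cycles.aeval_chi_mem_ker F x)
  let π : B →ₐ[A] B ⧸ J₀ := Ideal.Quotient.mkₐ A J₀
  have hfin : (⊤ : Submodule A (B ⧸ J₀)).FG := by
    have htop : Algebra.adjoin A ((gens.image π : Finset (B ⧸ J₀)) : Set (B ⧸ J₀)) = ⊤ := by
      rw [Finset.coe_image, ← AlgHom.map_adjoin, hgens, Algebra.map_top, AlgHom.range_eq_top]
      exact Ideal.Quotient.mk_surjective
    rw [← Algebra.top_toSubmodule, ← htop]
    refine fg_adjoin_of_finite (Finset.finite_toSet _) fun y hy => ?_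
    obtain ⟨x, hx, rfl⟩ := Finset.mem_image.mp hy
    refine ⟨(-1) ^ d * Groth.Cycles.chi F x, Groth.Cycles.chi_monic F x, ?_⟩
    have h0 : π (Polynomial.aeval x (Groth.Cycles.chi F x)) = 0 :=
      Ideal.Quotient.eq_zero_iff_mem.mpr (Ideal.subset_span ⟨x, hx, rfl⟩)
    rw [← Polynomial.aeval_def, Polynomial.aeval_algHom_apply, map_mul, map_mul, h0, mul_zero]
  obtain ⟨t, ht⟩ := hfin
  choose lift hlift using fun y : B ⧸ J₀ => Ideal.Quotient.mk_surjective y
  set n := t.card
  let e : Fin n → B := fun i => lift (t.equivFin.symm i).1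
  let P := MvPolynomial (Fin n) A
  let zg : P ⊗[A] B := ∑ i, MvPolynomial.X i ⊗ₜ[A] e i
  let w : P ⊗[A] B := Polynomial.aeval zg (Groth.Cycles.chi (Groth.Cycles.baseChange F P) zg)
  obtain ⟨c, hc⟩ := (TensorProduct.equivFinsuppOfBasisLeft (N := B) (MvPolynomial.basisMonomials (Fin n) A)).symm.surjective w
  rw [TensorProduct.equivFinsuppOfBasisLeft_symm_apply, Finsupp.sum] at hc
  simp only [MvPolynomial.coe_basisMonomials] at hc
  have hw : w ∈ PolLaw.kerBC F.law P := by
    rw [← Groth.Cycles.ker_baseChange]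
    exact Groth.Cycles.aeval_chi_mem_ker _ zg
  have hcker : ∀ m ∈ c.support, c m ∈ PolLaw.ker F.law := fun m hm =>
    Groth.Cycles.mv_coef_mem_ker F c.support c (hc.symm ▸ hw) hm
  let J : Ideal B := J₀ ⊔ Ideal.span ((c.support.image c : Finset B) : Set B)
  have hJ : J ≤ PolLaw.ker F.law := sup_le hJ₀ (Ideal.span_le.mpr (by
    intro y hy
    obtain ⟨m, hm, rfl⟩ := Finset.mem_image.mp hy
    exact hcker m hm))
  refine ⟨J, ?_, hJ, le_antisymm (Ideal.radical_mono hJ) (Ideal.radical_le_radical_iff.mpr fun b hb => ?_)⟩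
  · refine Submodule.FG.sup ?_ ⟨_, rfl⟩
    exact ⟨gens.image fun x => Polynomial.aeval x (Groth.Cycles.chi F x), by
      simp only [J₀, Finset.coe_image]⟩
  have hmem : π b ∈ Submodule.span A (Set.range fun i : Fin n => ((t.equivFin.symm i).1 : B ⧸ J₀)) := by
    have : (Set.range fun i : Fin n => ((t.equivFin.symm i).1 : B ⧸ J₀)) = (t : Set (B ⧸ J₀)) := by
      ext y
      exact ⟨fun ⟨i, hi⟩ => hi ▸ (t.equivFin.symm i).2, fun hy => ⟨t.equivFin ⟨y, hy⟩, by simp⟩⟩
    rw [this, ht]
    exact Submodule.mem_top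
  obtain ⟨a, ha⟩ := (Submodule.mem_span_range_iff_exists_fun A).mp hmem
  let b' : B := ∑ i, a i • e i
  have hbb : b - b' ∈ J₀ := by
    rw [← Ideal.Quotient.eq]
    show π b = π b'
    rw [← ha, map_sum]
    exact Finset.sum_congr rfl fun i _ => by rw [map_smul]; exact congrArg _ (hlift _).symm
  let φ : P →ₐ[A] A := MvPolynomial.aeval a
  let lid := Algebra.TensorProduct.lid A B
  have hlidle : ∀ y, y ∈ PolLaw.ker F.law → (1 : A) ⊗ₜ[A] y ∈ PolLaw.kerBC F.law A :=
    fun y hy => Groth.Cycles.map_ker_le_kerBC F (Ideal.mem_map_of_mem _ hy)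
  have hzg : Groth.Cycles.tmap φ B zg = (1 : A) ⊗ₜ[A] b' := by
    simp only [zg, b', map_sum, Algebra.TensorProduct.map_tmul, TensorProduct.tmul_sum, AlgHom.id_apply]
    refine Finset.sum_congr rfl fun i _ => ?_
    rw [show φ (MvPolynomial.X i) = a i from MvPolynomial.aeval_X _ _, ← TensorProduct.smul_tmul, smul_eq_mul, mul_one]
  have hb' : (1 : A) ⊗ₜ[A] b' ∈ PolLaw.ker (Groth.Cycles.baseChange F A).law := by
    rw [Groth.Cycles.ker_baseChange]
    refine hlidle _ ?_
    simpa using (PolLaw.ker F.law).sub_mem hb (hJ₀ hbb)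
  have hchi := (Groth.Cycles.chi_baseChange_map F φ zg).symm
  rw [hzg, Groth.Cycles.chi_of_mem_ker _ hb'] at hchi
  have e1 : ∀ p : Polynomial P, Groth.Cycles.tmap φ B (Polynomial.aeval zg p) =
      Polynomial.aeval (Groth.Cycles.tmap φ B zg) (p.map φ.toRingHom) := by
    intro p
    induction p using Polynomial.induction_on' with
    | add p q hp hq => simp [map_add, Polynomial.map_add, hp, hq]
    | monomial k r =>
      simp only [Polynomial.map_monomial, Polynomial.aeval_monomial, map_mul, map_pow]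
      congr 1
  have h1 : lid (Groth.Cycles.tmap φ B w) ∈ J := by
    rw [← hc, map_sum, map_sum]
    refine sum_mem fun m hm => ?_
    rw [Algebra.TensorProduct.map_tmul]
    simp only [lid, Algebra.TensorProduct.lid_tmul, AlgHom.id_apply]
    exact Submodule.smul_of_tower_mem J _ (le_sup_right (a := J₀) (Ideal.subset_span (Finset.mem_image_of_mem c hm)))
  rw [show Groth.Cycles.tmap φ B w = _ from e1 _, hchi, hzg, map_pow, map_neg, Polynomial.aeval_X, map_pow, map_neg] at h1
  have h2 : b' ^ d ∈ J := by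
    simp only [lid, Algebra.TensorProduct.lid_tmul, one_smul] at h1
    rw [neg_pow] at h1
    have := Ideal.mul_mem_left _ ((-1 : B) ^ d) h1
    rwa [← mul_assoc, ← mul_pow, neg_one_mul, neg_neg, one_pow, one_mul] at this
  have : b' + (b - b') ∈ J.radical := add_mem ⟨d, h2⟩ (Ideal.le_radical (le_sup_left (b := Ideal.span ((c.support.image c : Finset B) : Set B)) hbb))
  simpa using this

end Groth.Agent.S13706
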