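import Groth.Statements.S13707
import Groth.Agent.Cycles.PolLawField

set_option autoImplicit false
universe u
open scoped TensorProduct
open ZeroCyc

namespace Groth.Agent.S13707

/-- Let k be a field, B a commutative k-algebra and F : B → k a multiplicative polynomial law
homogeneous of degree d. Then the spectrum of B/ker F (the image of the family of zero-cycles of
degree d on Spec B defined by F) is a finite set of at most d closed points, and the residue field
at each of them has finite separable degree over k. -/
theorem result {k : Type u} [Field k] {B : Type u} [CommRing B] [Algebra k B]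
    {d : ℕ} (F : PolLaw.MulLaw k B k d) :
    Finite (PrimeSpectrum (PolLaw.image F.law)) ∧ Nat.card (PrimeSpectrum (PolLaw.image F.law)) ≤ d ∧
      ∀ P : PrimeSpectrum (PolLaw.image F.law), P.asIdeal.IsMaximal ∧
        Finite (Field.Emb k P.asIdeal.ResidueField) := by
  obtain ⟨h1, h2⟩ := Groth.Cycles.finite_primeSpectrum_image F
  refine ⟨h1, h2, fun P => ?_⟩
  let π : B →ₐ[k] PolLaw.image F.law := Ideal.Quotient.mkₐ k _
  have hint := Groth.Cycles.isIntegral_image F
  have hmax : P.asIdeal.IsMaximal := Ideal.Quotient.maximal_of_isField _ (by
    have : Algebra.IsIntegral k (PolLaw.image F.law ⧸ P.asIdeal) :=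
      Algebra.IsIntegral.of_surjective (Ideal.Quotient.mkₐ k P.asIdeal) Ideal.Quotient.mk_surjective
    exact isField_of_isIntegral_of_isField' (R := k) (Field.toIsField k))
  refine ⟨hmax, ?_⟩
  let L := P.asIdeal.ResidueField
  let ρ : B →ₐ[k] L := (IsScalarTower.toAlgHom k (PolLaw.image F.law) L).comp π
  have hρ : Function.Surjective ρ :=
    (Ideal.algebraMap_residueField_surjective P.asIdeal).comp Ideal.Quotient.mk_surjective
  refine (Groth.Cycles.finite_and_natCard_le_of_finset (n := d) fun s => ?_).1
  have := Groth.Cycles.card_homs_le F (AlgebraicClosure L) (ι := Fin s.card)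
    (fun i => ((s.equivFin.symm i : Field.Emb k L) : L →ₐ[k] AlgebraicClosure L).comp ρ)
    (fun i b hb => by
      have : π b = 0 := Ideal.Quotient.eq_zero_iff_mem.mpr hb
      rw [RingHom.mem_ker]
      simp [ρ, this])
    (fun i j hij => by
      refine s.equivFin.symm.injective (Subtype.ext (AlgHom.ext fun y => ?_))
      obtain ⟨b, rfl⟩ := hρ y
      exact congrArg (fun f => f b) hij)
  simpa using this

end Groth.Agent.S13707
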