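import Groth.Statements.S13708
import Mathlib.AlgebraicGeometry.Morphisms.Immersion
-- import your own Groth.Agent.* helpers here

set_option autoImplicit false
universe u
open CategoryTheory CategoryTheory.Limits AlgebraicGeometry
open ZeroCyc

namespace Groth.Agent.S13708

/-- Let X be a scheme over S such that every finite set of points of X over a common point of S lies in
some affine open subscheme of X (the condition (AF)). Then X is separated over S. (The published
condition (AF) asks for an open U with U → S quasi-affine rather than U affine; with U affine, as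
here, the same argument applies verbatim, and the two conditions agree over a quasi-separated base.) -/
theorem result {X S : Scheme.{u}} (f : X ⟶ S) (hX : SymProd.IsAF f) :
    IsSeparated f := by
  classical
  refine ⟨.of_isPreimmersion _ ?_⟩
  rw [← isOpen_compl_iff, isOpen_iff_forall_mem_open]
  intro p hp
  obtain ⟨U, hU, hmem⟩ := hX (f (pullback.fst f f p)) {pullback.fst f f p, pullback.snd f f p} (by
    intro x hx
    rcases Finset.mem_insert.mp hx with rfl | hx
    · rfl
    · rw [Finset.mem_singleton] at hx
      subst hx
      rw [← Scheme.Hom.comp_apply, ← pullback.condition, Scheme.Hom.comp_apply])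
  have : IsAffine U.toScheme := hU
  let g := U.ι ≫ f
  let m : pullback g g ⟶ pullback f f :=
    pullback.map g g f f U.ι U.ι (𝟙 S) (by simp [g]) (by simp [g])
  have hdiag : pullback.diagonal g ≫ m = U.ι ≫ pullback.diagonal f := by
    apply pullback.hom_ext
    · rw [Category.assoc, Category.assoc, pullback.lift_fst, ← Category.assoc, pullback.diagonal_fst,
        Category.id_comp]
      erw [pullback.diagonal_fst, Category.comp_id]
    · rw [Category.assoc, Category.assoc, pullback.lift_snd, ← Category.assoc, pullback.diagonal_snd,
        Category.id_comp]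
      erw [pullback.diagonal_snd, Category.comp_id]
  have hsep : IsSeparated g := by
    have : IsSeparated (g ≫ Limits.terminal.from S) := by
      rw [Limits.terminal.comp_from]
      infer_instance
    exact IsSeparated.of_comp g (Limits.terminal.from S)
  have hcl : IsClosed (Set.range (pullback.diagonal g)) := (pullback.diagonal g).isClosedEmbedding.isClosed_range
  have hm : Set.range m = pullback.fst f f ⁻¹' (U : Set X) ∩ pullback.snd f f ⁻¹' (U : Set X) := by
    rw [Scheme.Pullback.range_map]
    simp
  refine ⟨m '' (Set.range (pullback.diagonal g))ᶜ, ?_, m.isOpenEmbedding.isOpenMap _ hcl.isOpen_compl, ?_⟩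
  · rintro _ ⟨q, hq, rfl⟩ ⟨x, hx⟩
    have hxU : x ∈ U := by
      have : m q ∈ Set.range m := ⟨q, rfl⟩
      rw [hm] at this
      have h1 := this.1
      rw [← hx, Set.mem_preimage, ← Scheme.Hom.comp_apply, pullback.diagonal_fst] at h1
      exact h1
    refine hq ⟨⟨x, hxU⟩, m.isOpenEmbedding.injective ?_⟩
    refine Eq.trans ?_ hx
    exact congrArg (fun φ : U.toScheme ⟶ _ => φ ⟨x, hxU⟩) hdiag
  · have : p ∈ Set.range m := by
      rw [hm]
      exact ⟨hmem _ (by simp), hmem _ (by simp)⟩
    obtain ⟨q, rfl⟩ := this
    refine ⟨q, fun ⟨x, hx⟩ => hp ⟨U.ι x, ?_⟩, rfl⟩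
    rw [← hx]
    exact (congrArg (fun φ : U.toScheme ⟶ _ => φ x) hdiag).symm

end Groth.Agent.S13708
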