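import Groth.Statements.S1371
import Mathlib
import Groth.Agent.GenericFree.Presentation
import Groth.Agent.Calg6.FlatAdic

set_option autoImplicit false
universe u
open FlatMor

namespace Groth.Agent.S1371

section
open TensorProduct Groth.GenericFree
open scoped Polynomial

variable {R : Type u} [CommRing R]

theorem flat_tensor_of_gf [IsDomain R] {M : Type u} [AddCommGroup M] [Module R M] (h : GF R M) :
    ∃ f : R, f ≠ 0 ∧ ∀ g : R, g ≠ 0 → f ∣ g →
      Module.Flat (Localization.Away g) (Localization.Away g ⊗[R] M) := by
  obtain ⟨f, hf, hfree, -⟩ := h.exists_free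
  refine ⟨f, hf, fun g hg hfg => ?_⟩
  haveI := hfree g hg hfg
  exact Module.Flat.of_linearEquiv (LocalizedModule.equivTensorProduct (Submonoid.powers g) M).symm

theorem flat_tensor_of_retract {T : Type u} [CommRing T] [Algebra R T] {D G : Type u} [AddCommGroup D]
    [Module R D] [AddCommGroup G] [Module R G] (i : D →ₗ[R] G) (p : G →ₗ[R] D)
    (h : ∀ x, p (i x) = x) [Module.Flat T (T ⊗[R] G)] : Module.Flat T (T ⊗[R] D) :=
  Module.Flat.of_retract (i.baseChange T) (p.baseChange T) (LinearMap.ext fun z => by
    rw [LinearMap.comp_apply, LinearMap.id_apply]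
    induction z using TensorProduct.induction_on with
    | zero => simp
    | tmul t x => simp [h]
    | add a b ha hb => simp [ha, hb])

theorem flat_tensor_of_extension {T : Type u} [CommRing T] [Algebra R T] [Module.Flat R T]
    {Q : Type u} [AddCommGroup Q] [Module R Q] (V V' : Submodule R Q) (hVV : V ≤ V')
    [Module.Flat T (T ⊗[R] V)] [Module.Flat T (T ⊗[R] (↥V' ⧸ LinearMap.range (Submodule.inclusion hVV)))] :
    Module.Flat T (T ⊗[R] V') :=
  Groth.Calg6.flat_of_extension ((Submodule.inclusion hVV).baseChange T)
    ((LinearMap.range (Submodule.inclusion hVV)).mkQ.baseChange T)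
    (Module.Flat.lTensor_preserves_injective_linearMap _ (Submodule.inclusion_injective hVV))
    (lTensor_exact T (LinearMap.exact_map_mkQ_range _) (Submodule.mkQ_surjective _))
    (LinearMap.lTensor_surjective T (Submodule.mkQ_surjective _))

theorem flat_tensor_of_union {T : Type u} [CommRing T] [Algebra R T] [Module.Flat R T] {Q : Type u}
    [AddCommGroup Q] [Module R Q] (V : ℕ → Submodule R Q) (hmono : Monotone V)
    (htop : ∀ x, ∃ k, x ∈ V k) (h : ∀ k, Module.Flat T (T ⊗[R] V k)) :
    Module.Flat T (T ⊗[R] Q) := by
  classical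
  have hstage : ∀ z : T ⊗[R] Q, ∃ k, z ∈ LinearMap.range ((V k).subtype.baseChange T) := by
    intro z
    induction z using TensorProduct.induction_on with
    | zero => exact ⟨0, zero_mem _⟩
    | tmul t x =>
      obtain ⟨k, hk⟩ := htop x
      exact ⟨k, t ⊗ₜ ⟨x, hk⟩, rfl⟩
    | add a b ha hb =>
      obtain ⟨k, hk⟩ := ha
      obtain ⟨l, hl⟩ := hb
      have key : ∀ {i j : ℕ}, i ≤ j →
          LinearMap.range ((V i).subtype.baseChange T) ≤ LinearMap.range ((V j).subtype.baseChange T) := by
        intro i j hij
        rw [← Submodule.subtype_comp_inclusion (V i) (V j) (hmono hij), LinearMap.baseChange_comp]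
        exact LinearMap.range_comp_le_range _ _
      exact ⟨max k l, add_mem (key (le_max_left k l) hk) (key (le_max_right k l) hl)⟩
  refine Module.Flat.of_forall_isTrivialRelation fun {l c x} hcx => ?_
  choose k hk using fun i => hstage (x i)
  have key : ∀ {i j : ℕ}, i ≤ j →
      LinearMap.range ((V i).subtype.baseChange T) ≤ LinearMap.range ((V j).subtype.baseChange T) := by
    intro i j hij
    rw [← Submodule.subtype_comp_inclusion (V i) (V j) (hmono hij), LinearMap.baseChange_comp]
    exact LinearMap.range_comp_le_range _ _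
  obtain ⟨K, hK⟩ : ∃ K, ∀ i, k i ≤ K := ⟨Finset.univ.sup k, fun i => Finset.le_sup (Finset.mem_univ i)⟩
  choose y hy using fun i => LinearMap.mem_range.mp (key (hK i) (hk i))
  have hzero : ∑ i, c i • y i = 0 := by
    apply Module.Flat.lTensor_preserves_injective_linearMap (M := T) (V K).subtype Subtype.val_injective
    show (V K).subtype.baseChange T (∑ i, c i • y i) = (V K).subtype.baseChange T 0
    simp only [map_sum, map_smul, hy, hcx, map_zero]
  haveI := h K
  obtain ⟨m, a, w, hw, ha⟩ := Module.Flat.isTrivialRelation_of_sum_smul_eq_zero hzero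
  refine ⟨m, a, fun j => (V K).subtype.baseChange T (w j), fun i => ?_, ha⟩
  rw [← hy, hw, map_sum]
  simp only [map_smul]

variable {A B N : Type u} [CommRing A] [Algebra R A] [CommRing B] [Algebra A B] [Algebra R B]
  [IsScalarTower R A B] [AddCommGroup N] [Module B N] [Module A N] [Module R N]
  [IsScalarTower A B N] [IsScalarTower R A N] [IsScalarTower R B N]

/-- Elements of degree at most `k` in the generators `s` applied to `g`. -/
def filt (s : Finset B) (g : Set N) : ℕ → Submodule A N
  | 0 => Submodule.span A g
  | k + 1 => filt s g k ⊔ ⨆ x ∈ s, (filt s g k).map (DistribSMul.toLinearMap A N x)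

theorem filt_mono (s : Finset B) (g : Set N) : Monotone (filt (A := A) s g) :=
  monotone_nat_of_le_succ fun _ => le_sup_left

theorem filt_top (s : Finset B) (g : Set N) (hs : Algebra.adjoin A (s : Set B) = ⊤)
    (hg : Submodule.span B g = ⊤) (y : N) : ∃ k, y ∈ filt (A := A) s g k := by
  have hstable : ∀ b : B, ∀ z, (∃ k, z ∈ filt (A := A) s g k) → ∃ k, b • z ∈ filt (A := A) s g k := by
    intro b
    have hb : b ∈ Algebra.adjoin A (s : Set B) := hs ▸ trivial
    induction hb using Algebra.adjoin_induction with
    | mem x hx =>
      rintro z ⟨k, hk⟩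
      refine ⟨k + 1, Submodule.mem_sup_right ?_⟩
      exact Submodule.mem_iSup_of_mem x (Submodule.mem_iSup_of_mem hx ⟨z, hk, rfl⟩)
    | algebraMap a =>
      rintro z ⟨k, hk⟩
      exact ⟨k, by rw [algebraMap_smul]; exact Submodule.smul_mem _ a hk⟩
    | add x x' _ _ hx hx' =>
      intro z hz
      obtain ⟨k, hk⟩ := hx z hz
      obtain ⟨l, hl⟩ := hx' z hz
      refine ⟨max k l, ?_⟩
      rw [add_smul]
      exact add_mem (filt_mono s g (le_max_left k l) hk) (filt_mono s g (le_max_right k l) hl)
    | mul x x' _ _ hx hx' =>
      intro z hz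
      simpa only [mul_smul] using hx _ (hx' z hz)
  have hy : y ∈ Submodule.span B g := hg ▸ trivial
  induction hy using Submodule.span_induction with
  | mem z hz => exact ⟨0, Submodule.subset_span hz⟩
  | zero => exact ⟨0, zero_mem _⟩
  | add z z' _ _ hz hz' =>
    obtain ⟨k, hk⟩ := hz
    obtain ⟨l, hl⟩ := hz'
    exact ⟨max k l, add_mem (filt_mono s g (le_max_left k l) hk) (filt_mono s g (le_max_right k l) hl)⟩
  | smul b z _ hz => exact hstable b z hz

/-- The abstract core: retracts of `W / t₀W` become flat after inverting one element. -/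
theorem exists_core [IsDomain R] (S W : Type u) [CommRing S] [Algebra R S] [Algebra.FiniteType R S]
    [AddCommGroup W] [Module R W] [Module S W] [IsScalarTower R S W] [Module.Finite S W] (t₀ : S) :
    ∃ f : R, f ≠ 0 ∧ ∀ t : R, t ≠ 0 → f ∣ t → ∀ (X D : Type u) [AddCommGroup X] [Module R X]
      [AddCommGroup D] [Module R D] (q : X →ₗ[R] D) (j0 : X →ₗ[R] W) (p0 : W →ₗ[R] D),
      Function.Surjective q → (∀ w, p0 (t₀ • w) = 0) → (∀ x, p0 (j0 x) = q x) →
      (∀ x, q x = 0 → ∃ w, t₀ • w = j0 x) →
      Module.Flat (Localization.Away t) (Localization.Away t ⊗[R] D) := by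
  let U' : Submodule S W := LinearMap.range (LinearMap.lsmul S W t₀)
  obtain ⟨f, hf, hflat⟩ := flat_tensor_of_gf (gf_of_finiteType S (W ⧸ U') : GF R (W ⧸ U'))
  refine ⟨f, hf, fun t ht hft X D _ _ _ _ q j0 p0 hq hp0 hpj hker => ?_⟩
  have hpc : U'.restrictScalars R ≤ LinearMap.ker p0 := by
    rintro _ ⟨w, rfl⟩
    exact hp0 w
  let p : (W ⧸ U') →ₗ[R] D :=
    (U'.restrictScalars R).liftQ p0 hpc ∘ₗ (Submodule.Quotient.restrictScalarsEquiv R U').symm.toLinearMap
  have hj : LinearMap.ker q ≤ LinearMap.ker ((U'.mkQ.restrictScalars R) ∘ₗ j0) := fun x hx =>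
    LinearMap.mem_ker.mpr ((Submodule.Quotient.mk_eq_zero U').mpr (hker x hx))
  let i : D →ₗ[R] W ⧸ U' := (LinearMap.ker q).liftQ ((U'.mkQ.restrictScalars R) ∘ₗ j0) hj ∘ₗ
    (q.quotKerEquivOfSurjective hq).symm.toLinearMap
  haveI := hflat t ht hft
  refine flat_tensor_of_retract i p fun x => ?_
  obtain ⟨y, rfl⟩ := hq x
  have h1 : i (q y) = U'.mkQ (j0 y) := by
    show (LinearMap.ker q).liftQ _ hj ((q.quotKerEquivOfSurjective hq).symm (q y)) = _
    rw [show (q.quotKerEquivOfSurjective hq).symm (q y) = Submodule.Quotient.mk y from
      (LinearEquiv.symm_apply_eq _).mpr rfl]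
    rfl
  rw [h1]
  exact hpj y

open Polynomial in
set_option maxHeartbeats 1000000 in
/-- One element of the base makes all the graded pieces flat. -/
theorem exists_pieces_flat [IsDomain R] [Algebra.FiniteType R A] (s : Finset B) (g : Finset N) :
    ∃ f : R, f ≠ 0 ∧ ∀ t : R, t ≠ 0 → f ∣ t → ∀ (k : ℕ) (D : Type u) [AddCommGroup D] [Module R D]
      (q : ((filt (A := A) s (g : Set N) (k + 1)).restrictScalars R) →ₗ[R] D),
      Function.Surjective q → (∀ y, q y = 0 ↔ (y : N) ∈ filt (A := A) s (g : Set N) k) →
      Module.Flat (Localization.Away t) (Localization.Away t ⊗[R] D) := by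
  classical
  let S' : Subalgebra A B[X] := Algebra.adjoin A (insert X ((fun x => C x * X) '' (s : Set B)))
  haveI : Algebra.FiniteType A S' :=
    Algebra.FiniteType.adjoin_of_finite ((s.finite_toSet.image _).insert X)
  haveI : Algebra.FiniteType R S' := Algebra.FiniteType.trans (S := A) inferInstance inferInstance
  let T0 : S' := ⟨X, Algebra.subset_adjoin (Set.mem_insert _ _)⟩
  let W : Submodule S' (PolynomialModule B N) :=
    Submodule.span S' ((fun y => PolynomialModule.single B 0 y) '' (g : Set N))
  haveI : Module.Finite S' W := Module.Finite.iff_fg.mpr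
    (Submodule.fg_span (g.finite_toSet.image _))
  obtain ⟨f, hf, hcore⟩ := exists_core (R := R) S' W T0
  have hgood : ∀ w ∈ W, ∀ j, w.coeff j ∈ filt (A := A) s (g : Set N) j := by
    intro w hw
    induction hw using Submodule.span_induction with
    | mem z hz =>
      obtain ⟨y, hy, rfl⟩ := hz
      intro j
      rw [PolynomialModule.coeff_single, Finsupp.single_apply]
      split_ifs with h
      · subst h; exact Submodule.subset_span hy
      · exact zero_mem _
    | zero => intro j; simp
    | add z z' _ _ hz hz' => intro j; simpa using add_mem (hz j) (hz' j)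
    | smul a z hzW hz =>
      obtain ⟨a, ha⟩ := a
      intro j
      show (a • z).coeff j ∈ _
      clear hzW
      induction ha using Algebra.adjoin_induction generalizing z j with
      | mem x hx =>
        rcases hx with rfl | ⟨b, hb, rfl⟩
        on_goal 2 => simp only []
        · rw [← monomial_one_one_eq_X, PolynomialModule.monomial_smul_apply]
          split_ifs with h
          · rw [one_smul]
            exact filt_mono s _ (Nat.sub_le j 1) (hz (j - 1))
          · exact zero_mem _
        · rw [← monomial_one_one_eq_X, C_mul_monomial, mul_one, PolynomialModule.monomial_smul_apply]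
          split_ifs with h
          · obtain ⟨j', rfl⟩ := Nat.exists_eq_add_of_le' h
            rw [Nat.add_sub_cancel]
            exact Submodule.mem_sup_right
              (Submodule.mem_iSup_of_mem b (Submodule.mem_iSup_of_mem hb ⟨_, hz j', rfl⟩))
          · exact zero_mem _
      | algebraMap a =>
        rw [Polynomial.algebraMap_apply, ← monomial_zero_left, PolynomialModule.monomial_smul_apply]
        simp only [Nat.zero_le, if_true, Nat.sub_zero, algebraMap_smul]
        exact Submodule.smul_mem _ a (hz j)
      | add x x' _ _ hx hx' =>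
        rw [add_smul, PolynomialModule.coeff_add]
        exact add_mem (hx z hz j) (hx' z hz j)
      | mul x x' _ _ hx hx' =>
        rw [mul_smul]
        exact hx (x' • z) (fun i => hx' z hz i) j
  have hsingle : ∀ k, ∀ y ∈ filt (A := A) s (g : Set N) k, PolynomialModule.single B k y ∈ W := by
    intro k
    induction k with
    | zero =>
      intro y hy
      induction hy using Submodule.span_induction with
      | mem z hz => exact Submodule.subset_span ⟨z, hz, rfl⟩
      | zero => simp
      | add z z' _ _ hz hz' => rw [PolynomialModule.single_add]; exact add_mem hz hz'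
      | smul a z _ hz =>
        have : PolynomialModule.single B 0 (a • z) = (algebraMap A S' a) • PolynomialModule.single B 0 z := by
          show _ = (algebraMap A B[X] a) • PolynomialModule.single B 0 z
          rw [Polynomial.algebraMap_apply, ← monomial_zero_left, PolynomialModule.monomial_smul_single,
            algebraMap_smul]
        rw [this]
        exact W.smul_mem _ hz
    | succ k ih =>
      let P : Submodule A N :=
        { carrier := {y | PolynomialModule.single B (k + 1) y ∈ W}
          add_mem' := fun {a b} ha hb => by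
            show PolynomialModule.single B (k + 1) (a + b) ∈ W
            rw [PolynomialModule.single_add]; exact add_mem ha hb
          zero_mem' := by simp
          smul_mem' := fun a y hy => by
            have : PolynomialModule.single B (k + 1) (a • y) = (algebraMap A S' a) • PolynomialModule.single B (k + 1) y := by
              show _ = (algebraMap A B[X] a) • PolynomialModule.single B (k + 1) y
              rw [Polynomial.algebraMap_apply, ← monomial_zero_left, PolynomialModule.monomial_smul_single,
                algebraMap_smul, zero_add]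
            show PolynomialModule.single B (k + 1) (a • y) ∈ W
            rw [this]
            exact W.smul_mem _ hy }
      intro y hy
      have hle : filt (A := A) s (g : Set N) (k + 1) ≤ P := by
        refine sup_le (fun y hy => ?_) (iSup₂_le fun x hx => ?_)
        · have := W.smul_mem T0 (ih y hy)
          show PolynomialModule.single B (k + 1) y ∈ W
          convert this using 1
          show _ = (X : B[X]) • PolynomialModule.single B k y
          rw [← monomial_one_one_eq_X, PolynomialModule.monomial_smul_single, one_smul, add_comm]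
        · rintro _ ⟨y, hy, rfl⟩
          have := W.smul_mem (⟨C x * X, Algebra.subset_adjoin (Set.mem_insert_of_mem _ ⟨x, hx, rfl⟩)⟩ : S') (ih y hy)
          show PolynomialModule.single B (k + 1) (x • y) ∈ W
          convert this using 1
          show _ = (C x * X : B[X]) • PolynomialModule.single B k y
          rw [← monomial_one_one_eq_X, C_mul_monomial, mul_one, PolynomialModule.monomial_smul_single, add_comm]
      exact hle hy
  refine ⟨f, hf, fun t ht hft k D _ _ q hq hker => ?_⟩
  let cf : W →ₗ[R] (filt (A := A) s (g : Set N) (k + 1)).restrictScalars R :=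
    { toFun := fun w => ⟨w.1.coeff (k + 1), hgood w.1 w.2 (k + 1)⟩
      map_add' := fun w w' => Subtype.ext (by simp)
      map_smul' := fun r w => Subtype.ext rfl }
  let j0 : (filt (A := A) s (g : Set N) (k + 1)).restrictScalars R →ₗ[R] W :=
    { toFun := fun y => ⟨PolynomialModule.single B (k + 1) y.1, hsingle (k + 1) y.1 y.2⟩
      map_add' := fun y y' => Subtype.ext (PolynomialModule.single_add _ _ _)
      map_smul' := fun r y => Subtype.ext (by
        ext i
        show (PolynomialModule.single B (k + 1) (r • y.1)).coeff i =
          r • (PolynomialModule.single B (k + 1) y.1).coeff i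
        rw [PolynomialModule.coeff_single, PolynomialModule.coeff_single, ← Finsupp.smul_single,
          Finsupp.smul_apply]) }
  refine hcore t ht hft _ D q j0 (q ∘ₗ cf) hq (fun w => (hker _).mpr ?_) (fun y => ?_) (fun y hy => ?_)
  · show ((X : B[X]) • w.1).coeff (k + 1) ∈ _
    rw [← monomial_one_one_eq_X, PolynomialModule.monomial_smul_apply, if_pos (Nat.le_add_left 1 k), one_smul]
    exact hgood w.1 w.2 k
  · show q ⟨(PolynomialModule.single B (k + 1) y.1).coeff (k + 1), _⟩ = q y
    congr 1
    ext
    simp
  · refine ⟨⟨PolynomialModule.single B k y.1, hsingle k y.1 ((hker y).mp hy)⟩, Subtype.ext ?_⟩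
    show (X : B[X]) • PolynomialModule.single B k y.1 = _
    rw [← monomial_one_one_eq_X, PolynomialModule.monomial_smul_single, one_smul, add_comm]
    rfl

end

/-- Let R be a Noetherian domain, R → A → B ring maps of finite type, M a finite A-module, N a finite
B-module and u : M → N an A-linear map. Then there is a nonzero f in R such that the cokernel of u,
localized at f, is a flat module over R[1/f]. -/
theorem result {R A B : Type u} [CommRing R] [IsDomain R] [IsNoetherianRing R] [CommRing A] [CommRing B]
    [Algebra R A] [Algebra A B] [Algebra R B] [IsScalarTower R A B] [Algebra.FiniteType R A] [Algebra.FiniteType A B]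
    {M N : Type u} [AddCommGroup M] [Module A M] [Module R M] [IsScalarTower R A M] [Module.Finite A M]
    [AddCommGroup N] [Module B N] [Module A N] [Module R N] [IsScalarTower A B N] [IsScalarTower R A N] [Module.Finite B N]
    (u : M →ₗ[A] N) :
    ∃ f : R, f ≠ 0 ∧ Module.Flat (Localization.Away f)
      (LocalizedModule (Submonoid.powers f) (N ⧸ (LinearMap.range u).restrictScalars R)) := by
  classical
  haveI : IsScalarTower R B N := IsScalarTower.of_algebraMap_smul fun r n => by
    rw [IsScalarTower.algebraMap_apply R A B, algebraMap_smul, algebraMap_smul]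
  obtain ⟨s, hs⟩ := (Algebra.FiniteType.out : (⊤ : Subalgebra A B).FG)
  obtain ⟨g₁, hg₁⟩ := (Module.Finite.fg_top : (⊤ : Submodule B N).FG)
  obtain ⟨g₂, hg₂⟩ := (Module.Finite.fg_top : (⊤ : Submodule A M).FG)
  let g : Finset N := g₁ ∪ g₂.image u
  have hspan : Submodule.span B (g : Set N) = ⊤ := top_unique (hg₁ ▸ Submodule.span_mono (by simp [g]))
  have hu : LinearMap.range u ≤ filt (A := A) s (g : Set N) 0 := by
    rw [LinearMap.range_eq_map, ← hg₂, Submodule.map_span]
    exact Submodule.span_mono (by simp [g])
  let V : ℕ → Submodule A (N ⧸ LinearMap.range u) := fun k => (filt (A := A) s (g : Set N) k).map (LinearMap.range u).mkQ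
  haveI : Module.Finite A (V 0) :=
    Module.Finite.iff_fg.mpr ((Submodule.fg_span g.finite_toSet).map _)
  obtain ⟨f₁, hf₁, hflat₁⟩ := flat_tensor_of_gf (Groth.GenericFree.gf_of_finiteType A (V 0) : Groth.GenericFree.GF R (V 0))
  obtain ⟨f₂, hf₂, hflat₂⟩ := exists_pieces_flat (R := R) (A := A) s g
  refine ⟨f₁ * f₂, mul_ne_zero hf₁ hf₂, ?_⟩
  let t := f₁ * f₂
  have ht : t ≠ 0 := mul_ne_zero hf₁ hf₂
  haveI : Module.Flat R (Localization.Away t) := IsLocalization.flat _ (Submonoid.powers t)
  let VR : ℕ → Submodule R (N ⧸ LinearMap.range u) := fun k => (V k).restrictScalars R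
  have hmono : Monotone VR := fun i j hij => Submodule.map_mono (filt_mono s (g : Set N) hij)
  have hflatV : ∀ k, Module.Flat (Localization.Away t) (TensorProduct R (Localization.Away t) (VR k)) := by
    intro k
    induction k with
    | zero => exact hflat₁ t ht (dvd_mul_right _ _)
    | succ k ih =>
      haveI := ih
      have hle : VR k ≤ VR (k + 1) := hmono (Nat.le_succ k)
      let q : (filt (A := A) s (g : Set N) (k + 1)).restrictScalars R →ₗ[R]
          (↥(VR (k + 1)) ⧸ LinearMap.range (Submodule.inclusion hle)) :=
        (LinearMap.range (Submodule.inclusion hle)).mkQ ∘ₗ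
          { toFun := fun y => ⟨(LinearMap.range u).mkQ y.1, y.1, y.2, rfl⟩
            map_add' := fun _ _ => rfl
            map_smul' := fun _ _ => rfl }
      haveI := hflat₂ t ht (dvd_mul_left _ _) k _ q (by
        intro z
        obtain ⟨⟨_, y, hy, rfl⟩, rfl⟩ := Submodule.Quotient.mk_surjective _ z
        exact ⟨⟨y, hy⟩, rfl⟩) (by
        intro y
        refine (Submodule.Quotient.mk_eq_zero _).trans ?_
        constructor
        · rintro ⟨⟨_, z, hz, rfl⟩, hzy⟩
          have h1 : (LinearMap.range u).mkQ z = (LinearMap.range u).mkQ y.1 := congrArg Subtype.val hzy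
          have h2 : y.1 - z ∈ LinearMap.range u := (Submodule.Quotient.eq _).mp h1.symm
          have := add_mem (filt_mono s (g : Set N) (Nat.zero_le k) (hu h2)) hz
          rwa [sub_add_cancel] at this
        · intro hy
          exact ⟨⟨_, y.1, hy, rfl⟩, rfl⟩)
      exact flat_tensor_of_extension (VR k) (VR (k + 1)) hle
  haveI := flat_tensor_of_union (T := Localization.Away t) VR hmono (fun x => by
    obtain ⟨y, rfl⟩ := Submodule.Quotient.mk_surjective _ x
    obtain ⟨k, hk⟩ := filt_top (A := A) s (g : Set N) hs hspan y
    exact ⟨k, y, hk, rfl⟩) hflatV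
  let e : (N ⧸ (LinearMap.range u).restrictScalars R) ≃ₗ[R] (N ⧸ LinearMap.range u) :=
    Submodule.Quotient.restrictScalarsEquiv R (LinearMap.range u)
  haveI : Module.Flat (Localization.Away t)
      (TensorProduct R (Localization.Away t) (N ⧸ (LinearMap.range u).restrictScalars R)) :=
    Module.Flat.of_linearEquiv (e.baseChange R (Localization.Away t) _ _)
  exact Module.Flat.of_linearEquiv (LocalizedModule.equivTensorProduct (Submonoid.powers t) _)
end Groth.Agent.S1371
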