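import Groth.Statements.S13712
import Groth.Agent.Cycles.IntegralImage
-- import your own Groth.Agent.* helpers here

set_option autoImplicit false
universe u
open CategoryTheory CategoryTheory.Limits AlgebraicGeometry
open ZeroCyc

namespace Groth.Agent.S13712

set_option backward.isDefEq.respectTransparency false in
set_option backward.isDefEq.respectTransparency.types false in
/-- Let f : X → Y and g : Y → S be morphisms of schemes with g separated, such that the composite X → S
is integral with topologically finite fibres (every fibre is a finite set). Then the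
scheme-theoretic image Y' of f, with its closed immersion Y' → Y, is integral over S, and Y' → S
again has topologically finite fibres. (The published statement is for algebraic spaces; this row is
the case of schemes.) -/
theorem result {X Y S : Scheme.{u}} (f : X ⟶ Y) (g : Y ⟶ S)
    [IsSeparated g] [IsIntegralHom (f ≫ g)] (hfin : ∀ s : S, Set.Finite ((f ≫ g).base ⁻¹' {s})) :
    IsIntegralHom (f.imageι ≫ g) ∧ ∀ s : S, Set.Finite ((f.imageι ≫ g).base ⁻¹' {s}) := by
  haveI : IsIntegralHom f := IsIntegralHom.of_comp f g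
  have hfac : f.toImage ≫ f.imageι = f := f.toImage_imageι
  haveI : Surjective f.toImage := by
    have hcl : IsClosed (Set.range f.toImage) := by
      have : IsIntegralHom (f.toImage ≫ f.imageι) := by rw [hfac]; infer_instance
      haveI : IsIntegralHom f.toImage := IsIntegralHom.of_comp f.toImage f.imageι
      exact f.toImage.isClosedMap.isClosed_range
    rw [surjective_iff]
    exact Set.range_eq_univ.mp (hcl.closure_eq ▸ f.toImage.denseRange.closure_range)
  have hcomp : f.toImage ≫ f.imageι ≫ g = f ≫ g := by rw [← Category.assoc, hfac]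
  haveI : IsIntegralHom (f.toImage ≫ f.imageι ≫ g) := by rw [hcomp]; infer_instance
  have hfin' : ∀ s : S, Set.Finite ((f.imageι ≫ g).base ⁻¹' {s}) := fun s => by
    refine ((hfin s).image f.toImage).subset fun y hy => ?_
    obtain ⟨x, rfl⟩ := f.toImage.surjective y
    refine ⟨x, ?_, rfl⟩
    show (f ≫ g) x = s
    rw [← hcomp]
    exact hy
  refine ⟨?_, hfin'⟩
  haveI : UniversallyClosed (f.toImage ≫ f.imageι ≫ g) := inferInstance
  haveI : UniversallyClosed (f.imageι ≫ g) := UniversallyClosed.of_comp_surjective f.toImage _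
  refine (IsIntegralHom.iff_universallyClosed_and_isAffineHom).mpr ⟨inferInstance, ⟨fun U hU => ?_⟩⟩
  let g' := f.imageι ≫ g
  let W := g' ⁻¹ᵁ U
  haveI : IsAffine (f.toImage ⁻¹ᵁ W).toScheme := by
    have := hU.preimage (f.toImage ≫ g')
    exact this
  let B := Γ((f.toImage ⁻¹ᵁ W).toScheme, ⊤)
  let A := Γ(S, U)
  let q : Spec B ⟶ W.toScheme := (f.toImage ⁻¹ᵁ W).toScheme.isoSpec.inv ≫ (f.toImage ∣_ W)
  let h : W.toScheme ⟶ Spec A := (g' ∣_ U) ≫ hU.isoSpec.hom
  haveI : IsSeparated (g' ∣_ U) := IsZariskiLocalAtTarget.restrict (P := @IsSeparated) (f := g') (show IsSeparated g' from inferInstance) U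
  haveI : IsSeparated h := inferInstance
  haveI : Surjective (f.toImage ∣_ W) := IsZariskiLocalAtTarget.restrict (P := @Surjective) (f := f.toImage) (show Surjective f.toImage from inferInstance) W
  haveI : Surjective q := inferInstance
  haveI : IsIntegralHom ((f.toImage ≫ g') ∣_ U) := IsZariskiLocalAtTarget.restrict (P := @IsIntegralHom) (f := f.toImage ≫ g') (show IsIntegralHom (f.toImage ≫ g') from inferInstance) U
  have hqh : q ≫ h = (f.toImage ⁻¹ᵁ W).toScheme.isoSpec.inv ≫ ((f.toImage ≫ g') ∣_ U) ≫ hU.isoSpec.hom := by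
    simp only [q, h, morphismRestrict_comp, Category.assoc]
    rfl
  obtain ⟨φ, hφ⟩ := Spec.map_surjective (q ≫ h)
  letI : Algebra A B := φ.hom.toAlgebra
  haveI : IsIntegralHom (q ≫ h) := by rw [hqh]; infer_instance
  haveI : Algebra.IsIntegral A B := by
    rw [← algebraMap_isIntegral_iff]
    have h1 : IsIntegralHom (Spec.map φ) := hφ.symm ▸ inferInstance
    exact IsIntegralHom.SpecMap_iff.mp h1
  haveI : CompactSpace W.toScheme := (f.toImage ∣_ W).surjective.compactSpace (f.toImage ∣_ W).continuous
  haveI : QuasiCompact h := by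
    rw [quasiCompact_iff_compactSpace]
    infer_instance
  refine Groth.Cycles.IntImg.isAffine_of_surjective (A := A) (B := B) h q ?_ ?_
  · exact hφ.symm
  · intro p hp
    let sA : S := hU.fromSpec ⟨p, hp⟩
    let e : Spec B ⟶ X := (f.toImage ⁻¹ᵁ W).toScheme.isoSpec.inv ≫ (f.toImage ⁻¹ᵁ W).ι
    have he : e ≫ (f ≫ g) = Spec.map φ ≫ hU.fromSpec := by
      rw [hφ, ← hcomp]
      simp only [e, q, h, Category.assoc]
      congr 1
      rw [← hU.isoSpec_inv_ι, Iso.hom_inv_id_assoc, morphismRestrict_ι, morphismRestrict_ι_assoc]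
    let S' : Set (PrimeSpectrum B) := e ⁻¹' ((f ≫ g).base ⁻¹' {sA})
    have hS' : S'.Finite := Set.Finite.preimage e.isOpenEmbedding.injective.injOn (hfin sA)
    refine (hS'.image PrimeSpectrum.asIdeal).subset ?_
    rintro Q ⟨hQ, hQp⟩
    refine ⟨⟨Q, hQ⟩, ?_, rfl⟩
    show (f ≫ g) (e ⟨Q, hQ⟩) = sA
    rw [← Scheme.Hom.comp_apply, he, Scheme.Hom.comp_apply]
    show hU.fromSpec _ = hU.fromSpec _
    congr 1
    exact PrimeSpectrum.ext hQp

end Groth.Agent.S13712
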