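import Groth.Statements.S13718
import Groth.Agent.Cycles.PolLawCH

set_option autoImplicit false
universe u
open scoped TensorProduct
open ZeroCyc

namespace Groth.Agent.S13718

/-- Let φ : B' → B be a map of commutative algebras over the commutative ring A and F : B → A a
multiplicative polynomial law homogeneous of degree d, with push-forward the law F ∘ φ : B' → A.
Then the radical of the kernel of F ∘ φ equals the radical of the inverse image under φ of the
kernel of F: the support of the pushed-forward family of zero-cycles on Spec B' is the image of the
support of the family on Spec B. (The published statement is for affine morphisms X → Y → S of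
algebraic spaces; this row is the case of an affine base.) -/
theorem result {A : Type u} [CommRing A] {B : Type u} [CommRing B] [Algebra A B]
    {B' : Type u} [CommRing B'] [Algebra A B'] {d : ℕ} (F : PolLaw.MulLaw A B A d) (φ : B' →ₐ[A] B) :
    (PolLaw.ker (F.precomp φ).law).radical = ((PolLaw.ker F.law).comap φ).radical := by
  refine le_antisymm (Ideal.radical_le_radical_iff.mpr fun b hb => ⟨d, ?_⟩) (Ideal.radical_mono fun b hb => ?_)
  · rw [Ideal.mem_comap, map_pow]
    have h1 : Groth.Cycles.chi F (φ b) = Groth.Cycles.chi (F.precomp φ) b := by
      show _ = TensorProduct.rid A (Polynomial A) (F.law.toFun' (Polynomial A) (φ.toLinearMap.lTensor (Polynomial A) _))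
      rw [PolLaw.lTensor_algHom_apply, map_sub]
      simp [Groth.Cycles.chi]
    have h2 := Groth.Cycles.aeval_chi_mem_ker F (φ b)
    rw [h1, Groth.Cycles.chi_of_mem_ker _ hb, map_pow, map_neg, Polynomial.aeval_X, neg_pow] at h2
    have := Ideal.mul_mem_left _ ((-1 : B) ^ d) h2
    rwa [← mul_assoc, ← mul_pow, neg_one_mul, neg_neg, one_pow, one_mul] at this
  · intro S _ _ x w
    show F.law.toFun' S (φ.toLinearMap.lTensor S _) = F.law.toFun' S (φ.toLinearMap.lTensor S _)
    rw [PolLaw.lTensor_algHom_apply, PolLaw.lTensor_algHom_apply, map_add, map_mul,
      Algebra.TensorProduct.map_tmul, AlgHom.id_apply]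
    exact hb S _ _

end Groth.Agent.S13718
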