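import Groth.Statements.S13722
import Groth.Agent.Cycles.PolLawKer
import Mathlib.RingTheory.PolynomialAlgebra
import Mathlib.RingTheory.Polynomial.Nilpotent

set_option autoImplicit false
universe u
open scoped TensorProduct
open ZeroCyc

namespace Groth.Agent.S13722

/-- Let B and C be commutative algebras over the commutative ring A and F : B → C a multiplicative
polynomial law homogeneous of degree d. If C is reduced, then the quotient of B by the kernel of F
is reduced. In particular the image of a family of zero-cycles parametrised by a reduced base is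
reduced. -/
theorem result {A : Type u} [CommRing A] {B : Type u} [CommRing B] [Algebra A B]
    {C : Type u} [CommRing C] [Algebra A C] [IsReduced C] {d : ℕ} (F : PolLaw.MulLaw A B C d) :
    IsReduced (PolLaw.image F.law) := by
  refine ⟨fun q hq => ?_⟩
  obtain ⟨b, rfl⟩ := Ideal.Quotient.mk_surjective q
  obtain ⟨n, hn⟩ := hq
  rw [← map_pow, Ideal.Quotient.eq_zero_iff_mem] at hn
  rw [Ideal.Quotient.eq_zero_iff_mem, Groth.Cycles.mem_ker_iff]
  intro c
  let y : Polynomial A ⊗[A] B := (Polynomial.X : Polynomial A) ⊗ₜ[A] (c * b)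
  set P := F.law.toFun' (Polynomial A) (1 + y) with hP
  show P = 1
  have hyn : (-y) ^ n = (((-(Polynomial.X : Polynomial A)) ^ n) ⊗ₜ[A] (c ^ n)) * ((1 : Polynomial A) ⊗ₜ[A] (b ^ n)) := by
    rw [← TensorProduct.neg_tmul, Algebra.TensorProduct.tmul_pow, Algebra.TensorProduct.tmul_mul_tmul,
      mul_one, mul_pow]
  have hu : IsUnit P := by
    refine IsUnit.of_mul_eq_one (F.law.toFun' (Polynomial A) (∑ i ∈ Finset.range n, (-y) ^ i)) ?_
    rw [hP, ← (F.mult _).2]
    have : (1 + y) * ∑ i ∈ Finset.range n, (-y) ^ i = 1 - (-y) ^ n := by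
      rw [← mul_neg_geom_sum]
      simp [sub_neg_eq_add]
    rw [this, sub_eq_add_neg, hyn]
    have h2 := (hn (Polynomial A) 1 (-(((-(Polynomial.X : Polynomial A)) ^ n) ⊗ₜ[A] (c ^ n)))).trans (F.mult _).1
    refine Eq.trans (congrArg _ ?_) h2
    simp only [Algebra.TensorProduct.tmul_mul_tmul, mul_one, ← TensorProduct.neg_tmul]
  let e : Polynomial A ⊗[A] C →ₐ[A] (Polynomial C) :=
    ((polyEquivTensor A C).symm.toAlgHom).comp (Algebra.TensorProduct.comm A (Polynomial A) C).toAlgHom
  have heinj : Function.Injective e :=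
    (polyEquivTensor A C).symm.injective.comp (Algebra.TensorProduct.comm A (Polynomial A) C).injective
  have hd : ∀ i, i ≠ 0 → (e P).coeff i = 0 := fun i hi =>
    ((Polynomial.coeff_isUnit_isNilpotent_of_isUnit (hu.map e)).2 i hi).eq_zero
  apply heinj
  rw [map_one]
  have h0 : Groth.Cycles.tmap (Polynomial.aeval (0 : A)) C P = 1 := by
    rw [hP, Groth.Cycles.law_nat]
    simp [y, (F.mult A).1]
  have h1 : ∀ Q : Polynomial A ⊗[A] C, (e Q).coeff 0 =
      Algebra.TensorProduct.lid A C (Groth.Cycles.tmap (Polynomial.aeval (0 : A)) C Q) := by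
    intro Q
    induction Q using TensorProduct.induction_on with
    | zero => simp
    | tmul p x =>
      simp [e, polyEquivTensor_symm_apply_tmul_eq_smul, Polynomial.coeff_zero_eq_eval_zero,
        Algebra.smul_def, mul_comm]
      rw [Polynomial.aeval_def, Polynomial.eval₂_at_zero, ← Polynomial.coeff_zero_eq_eval_zero]
    | add a b ha hb => simp [ha, hb]
  ext i
  rcases eq_or_ne i 0 with rfl | hi
  · rw [h1, h0, map_one, Polynomial.coeff_one_zero]
  · rw [hd i hi, Polynomial.coeff_one, if_neg hi]

end Groth.Agent.S13722
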