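import Groth.Statements.S13723
import Groth.Agent.Cycles.PolLawField
import Mathlib.LinearAlgebra.TensorProduct.RightExactness

set_option autoImplicit false
universe u
open scoped TensorProduct
open ZeroCyc

namespace Groth.Agent.S13723

/-- Let F : B → A be a multiplicative polynomial law homogeneous of degree d over the commutative ring A
and let Z = Spec(B/ker F) be the image of the family of zero-cycles it defines. For every field K
and ring map A → K, the fibre Spec(K ⊗_A (B/ker F)) has finitely many points, at most d of them. In
particular every geometric fibre of Z → Spec A has at most d points and Z → Spec A has universally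
topologically finite fibres. -/
theorem result {A : Type u} [CommRing A] {B : Type u} [CommRing B] [Algebra A B]
    {d : ℕ} (F : PolLaw.MulLaw A B A d) (K : Type u) [Field K] [Algebra A K] :
    Finite (PrimeSpectrum (K ⊗[A] PolLaw.image F.law)) ∧
      Nat.card (PrimeSpectrum (K ⊗[A] PolLaw.image F.law)) ≤ d := by
  let π : B →ₐ[A] PolLaw.image F.law := Ideal.Quotient.mkₐ A _
  let q : K ⊗[A] B →ₐ[A] K ⊗[A] PolLaw.image F.law := Algebra.TensorProduct.map (AlgHom.id A K) π
  have hq : Function.Surjective q :=
    Algebra.TensorProduct.map_surjective _ _ Function.surjective_id Ideal.Quotient.mk_surjective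
  refine Groth.Cycles.finite_and_natCard_le_of_finset fun s => ?_
  have := Groth.Cycles.card_primes_le (Groth.Cycles.baseChange F K) (ι := Fin s.card)
    (fun i => ((s.equivFin.symm i : PrimeSpectrum (K ⊗[A] PolLaw.image F.law)).asIdeal).comap q)
    (hprime := fun i => Ideal.IsPrime.comap _)
    (fun i => by
      rw [Groth.Cycles.ker_baseChange]
      refine Ideal.le_radical.trans ?_
      rw [Groth.Cycles.radical_kerBC_eq F]
      refine ((Ideal.IsPrime.comap q (hK := (s.equivFin.symm i).1.2)).isRadical.radical_le_iff).mpr ?_
      rw [Ideal.map_le_iff_le_comap]
      intro b hb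
      have h0 : π b = 0 := Ideal.Quotient.eq_zero_iff_mem.mpr hb
      rw [Ideal.mem_comap, Ideal.mem_comap]
      simp [q, h0])
    (fun i j hij => by
      refine s.equivFin.symm.injective (Subtype.ext (PrimeSpectrum.ext ?_))
      exact Ideal.comap_injective_of_surjective q hq hij)
  simpa using this

end Groth.Agent.S13723
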