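import Groth.Statements.S13724
import Groth.Agent.Cycles.PolLawConn
-- import your own Groth.Agent.* helpers here

set_option autoImplicit false
universe u
open scoped TensorProduct
open ZeroCyc

namespace Groth.Agent.S13724

/-- Let A be a commutative ring with finitely many maximal ideals, B a commutative A-algebra and F : B →
A a multiplicative polynomial law homogeneous of degree d. Then B/ker F, the coordinate ring of the
image of the family of zero-cycles defined by F, has finitely many maximal ideals. -/
theorem result {A : Type u} [CommRing A] [Finite (MaximalSpectrum A)] {B : Type u} [CommRing B] [Algebra A B]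
    {d : ℕ} (F : PolLaw.MulLaw A B A d) :
    Finite (MaximalSpectrum (PolLaw.image F.law)) := by
  haveI := Groth.Cycles.isIntegral_image F
  let f : MaximalSpectrum (PolLaw.image F.law) → MaximalSpectrum A := fun M =>
    ⟨M.asIdeal.comap (algebraMap A _), Ideal.isMaximal_comap_of_isIntegral_of_isMaximal (hI := M.isMaximal) _⟩
  have hfib : ∀ m, Finite {M // f M = m} := fun m => by
    haveI := (Groth.Cycles.finite_fibre_image F m.toPrimeSpectrum).1
    refine Finite.of_injective (fun M : {M // f M = m} =>
      (⟨M.1.toPrimeSpectrum, PrimeSpectrum.ext (congrArg MaximalSpectrum.asIdeal M.2)⟩ :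
        {P : PrimeSpectrum (PolLaw.image F.law) //
          PrimeSpectrum.comap (algebraMap A _) P = m.toPrimeSpectrum})) ?_
    intro M M' h
    exact Subtype.ext (MaximalSpectrum.toPrimeSpectrum_injective (congrArg Subtype.val h))
  exact Finite.of_equiv _ (Equiv.sigmaFiberEquiv f)

end Groth.Agent.S13724
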