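import Groth.Statements.S13725
import Mathlib.Algebra.CharP.Algebra
import Mathlib.RingTheory.AdjoinRoot

set_option autoImplicit false
universe u
open scoped TensorProduct
open ZeroCyc

namespace Groth.Agent.S13725

/-- Let k be a field of characteristic p > 0 and let F : k → k be the law x ↦ x^p, multiplicative and
homogeneous of degree p over k. The kernel of F is the zero ideal, but after the flat base change k
→ A' = k[X]/(X^p) the kernel of the base-changed law on A' ⊗_k k is not zero (the class of X lies in
it). So in characteristic p, forming the kernel of a multiplicative law is not compatible with flat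
base change. -/
theorem result {k : Type u} [Field k] (p : ℕ) [Fact p.Prime] [CharP k p] :
    PolLaw.ker (PolLaw.MulLaw.pow k k p).law = ⊥ ∧
      PolLaw.kerBC (PolLaw.MulLaw.pow k k p).law (AdjoinRoot ((Polynomial.X : Polynomial k) ^ p)) ≠ ⊥ := by
  constructor
  · rw [eq_bot_iff]
    intro b hb
    have h := hb k 0 1
    change (0 + 1 * ((1 : k) ⊗ₜ[k] b)) ^ p = 0 ^ p at h
    rw [zero_add, one_mul, zero_pow (Fact.out : p.Prime).ne_zero, Algebra.TensorProduct.tmul_pow,
      one_pow] at h
    have h2 := congrArg (Algebra.TensorProduct.lid k k) h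
    simp at h2
    exact h2.1
  · intro hbot
    set A' := AdjoinRoot ((Polynomial.X : Polynomial k) ^ p)
    let z : A' ⊗[k] k := AdjoinRoot.root _ ⊗ₜ[k] 1
    have hroot : AdjoinRoot.root ((Polynomial.X : Polynomial k) ^ p) ^ p = 0 := by
      rw [← AdjoinRoot.mk_X, ← map_pow, AdjoinRoot.mk_self]
    have hz : z ∈ PolLaw.kerBC (PolLaw.MulLaw.pow k k p).law A' := by
      intro R _ _ _ _ x w
      show (x + w * _) ^ p = x ^ p
      rcases subsingleton_or_nontrivial (R ⊗[k] k) with h | h
      · exact Subsingleton.elim _ _
      haveI : CharP (R ⊗[k] k) p := charP_of_injective_algebraMap (algebraMap k (R ⊗[k] k)).injective p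
      rw [add_pow_char, mul_pow, ← map_pow]
      simp [z, hroot]
    rw [hbot, Ideal.mem_bot] at hz
    have h2 : AdjoinRoot.root ((Polynomial.X : Polynomial k) ^ p) = 0 := by
      have := congrArg (Algebra.TensorProduct.rid k k A') hz
      simpa [z] using this
    rw [AdjoinRoot.root, AdjoinRoot.mk_eq_zero, Polynomial.X_pow_dvd_iff] at h2
    have := h2 1 (Fact.out : p.Prime).one_lt
    simp at this

end Groth.Agent.S13725
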