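import Groth.Statements.S13726
import Groth.Agent.Cycles.PolLawKer
import Mathlib.Algebra.CharP.Algebra
import Mathlib.Algebra.CharP.Lemmas
import Mathlib.RingTheory.MvPolynomial.Ideal

set_option autoImplicit false
universe u
open scoped TensorProduct
open ZeroCyc

namespace Groth.Agent.S13726

/-- Let k be a field of characteristic p > 0 and A = k[t_i : i ∈ ℕ]/(t_i^p : i ∈ ℕ). The law x ↦ x^p
from A to A is multiplicative and homogeneous of degree p over A; its kernel is the ideal generated
by the classes of the variables t_i, and this ideal is not finitely generated. Hence the image of a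
family of zero-cycles need not be of finite presentation over the base even when X → S is. -/
theorem result {k : Type u} [Field k] (p : ℕ) [Fact p.Prime] [CharP k p] :
    PolLaw.ker (PolLaw.MulLaw.pow
        (MvPolynomial ℕ k ⧸ Ideal.span (Set.range fun i : ℕ => (MvPolynomial.X i : MvPolynomial ℕ k) ^ p))
        (MvPolynomial ℕ k ⧸ Ideal.span (Set.range fun i : ℕ => (MvPolynomial.X i : MvPolynomial ℕ k) ^ p)) p).law =
      (Ideal.span (Set.range fun i : ℕ => (MvPolynomial.X i : MvPolynomial ℕ k))).map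
        (Ideal.Quotient.mk (Ideal.span (Set.range fun i : ℕ => (MvPolynomial.X i : MvPolynomial ℕ k) ^ p))) ∧
    ¬ (PolLaw.ker (PolLaw.MulLaw.pow
        (MvPolynomial ℕ k ⧸ Ideal.span (Set.range fun i : ℕ => (MvPolynomial.X i : MvPolynomial ℕ k) ^ p))
        (MvPolynomial ℕ k ⧸ Ideal.span (Set.range fun i : ℕ => (MvPolynomial.X i : MvPolynomial ℕ k) ^ p)) p).law).FG := by
  classical
  set I : Ideal (MvPolynomial ℕ k) := Ideal.span (Set.range fun i : ℕ => MvPolynomial.X i ^ p) with hI
  let Q := MvPolynomial ℕ k ⧸ I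
  let q : MvPolynomial ℕ k →+* Q := Ideal.Quotient.mk I
  set J : Ideal (MvPolynomial ℕ k) := Ideal.span (Set.range fun i : ℕ => MvPolynomial.X i) with hJ
  have hIJ : I ≤ J := by
    rw [hI, Ideal.span_le]
    rintro _ ⟨i, rfl⟩
    exact Ideal.pow_mem_of_mem _ (Ideal.subset_span (Set.mem_range_self i)) _ (Fact.out : p.Prime).pos
  have hker : PolLaw.ker (PolLaw.MulLaw.pow Q Q p).law = J.map q := by
    apply le_antisymm
    · intro b hb
      obtain ⟨P, rfl⟩ := Ideal.Quotient.mk_surjective b
      have h := hb Q 0 1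
      change (0 + 1 * ((1 : Q) ⊗ₜ[Q] q P)) ^ p = 0 ^ p at h
      simp only [zero_add, one_mul, zero_pow (Fact.out : p.Prime).ne_zero, Algebra.TensorProduct.tmul_pow,
        one_pow, Algebra.TensorProduct.one_def, Algebra.TensorProduct.tmul_mul_tmul] at h
      have h2 : q (P ^ p) = 0 := by
        have := congrArg (Algebra.TensorProduct.lid Q Q) h
        simpa [zero_pow (Fact.out : p.Prime).ne_zero] using this
      have h3 : P ^ p ∈ J := hIJ (Ideal.Quotient.eq_zero_iff_mem.mp h2)
      refine Ideal.mem_map_of_mem q ?_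
      have hJker : J = RingHom.ker (MvPolynomial.aeval (fun _ : ℕ => (0 : k))).toRingHom := by
        rw [hJ, ← Set.image_univ]
        ext f
        rw [MvPolynomial.mem_ideal_span_X_image, RingHom.mem_ker]
        simp only [AlgHom.toRingHom_eq_coe, RingHom.coe_coe, MvPolynomial.aeval_zero']
        rw [FaithfulSMul.algebraMap_eq_zero_iff, MvPolynomial.constantCoeff_eq, ← MvPolynomial.notMem_support_iff]
        constructor
        · intro hh h0
          obtain ⟨i, _, hi⟩ := hh 0 h0
          exact hi rfl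
        · intro hh m hm
          by_contra hc
          push Not at hc
          apply hh
          rwa [show (0 : ℕ →₀ ℕ) = m from Finsupp.ext fun i => (hc i (Set.mem_univ i)).symm]
      rw [hJker, RingHom.mem_ker, map_pow] at h3
      rw [hJker, RingHom.mem_ker]
      exact eq_zero_of_pow_eq_zero h3
    · rw [Ideal.map_le_iff_le_comap, hJ, Ideal.span_le]
      rintro _ ⟨i, rfl⟩ S _ _ x w
      show (x + w * _) ^ p = x ^ p
      letI : CommRing S := { Algebra.semiringToRing Q (A := S), ‹CommSemiring S› with }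
      rcases subsingleton_or_nontrivial (S ⊗[Q] Q) with h | h
      · exact Subsingleton.elim _ _
      letI : Algebra k (S ⊗[Q] Q) := ((algebraMap Q (S ⊗[Q] Q)).comp (q.comp MvPolynomial.C)).toAlgebra
      haveI : CharP (S ⊗[Q] Q) p := charP_of_injective_algebraMap (algebraMap k (S ⊗[Q] Q)).injective p
      rw [add_pow_char, mul_pow, Algebra.TensorProduct.tmul_pow, ← map_pow]
      rw [show q (MvPolynomial.X i ^ p) = 0 from Ideal.Quotient.eq_zero_iff_mem.mpr (Ideal.subset_span (Set.mem_range_self i))]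
      simp
  refine ⟨hker, ?_⟩
  rw [hker]
  rintro ⟨s, hs⟩
  choose rep hrep using fun b : Q => Ideal.Quotient.mk_surjective b
  obtain ⟨n, hn⟩ : ∃ n, ∀ b ∈ s, ∀ i ∈ (rep b).vars, i < n :=
    ⟨(s.biUnion fun b => (rep b).vars).sup id + 1, fun b hb i hi =>
      Nat.lt_succ_of_le (Finset.le_sup (f := id) (Finset.mem_biUnion.mpr ⟨b, hb, hi⟩))⟩
  let T := Polynomial k ⧸ Ideal.span {(Polynomial.X : Polynomial k) ^ p}
  let ev : MvPolynomial ℕ k →ₐ[k] T :=
    MvPolynomial.aeval fun i => if i = n then Ideal.Quotient.mk _ Polynomial.X else 0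
  have hevI : I ≤ RingHom.ker ev.toRingHom := by
    rw [hI, Ideal.span_le]
    rintro _ ⟨i, rfl⟩
    simp only [SetLike.mem_coe, RingHom.mem_ker, AlgHom.toRingHom_eq_coe, RingHom.coe_coe, map_pow, ev, MvPolynomial.aeval_X]
    split_ifs
    · rw [← map_pow, Ideal.Quotient.eq_zero_iff_mem]
      exact Ideal.mem_span_singleton_self _
    · exact zero_pow (Fact.out : p.Prime).ne_zero
  let evQ : Q →+* T := Ideal.Quotient.lift I ev.toRingHom hevI
  have hXn : evQ (q (MvPolynomial.X n)) ≠ 0 := by
    show ev (MvPolynomial.X n) ≠ 0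
    rw [show ev (MvPolynomial.X n) = Ideal.Quotient.mk _ Polynomial.X by simp [ev], Ne,
      Ideal.Quotient.eq_zero_iff_mem, Ideal.mem_span_singleton, Polynomial.X_pow_dvd_iff]
    intro h
    have := h 1 (Fact.out : p.Prime).one_lt
    simp at this
  apply hXn
  have hmem : q (MvPolynomial.X n) ∈ J.map q := Ideal.mem_map_of_mem q (Ideal.subset_span (Set.mem_range_self n))
  suffices h : J.map q ≤ RingHom.ker evQ from h hmem
  rw [← hs]
  refine Ideal.span_le.mpr ?_
  intro b hb
  have hbJ : b ∈ J.map q := by rw [← hs]; exact Submodule.subset_span hb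
  have hrJ : rep b ∈ J := by
    obtain ⟨P, hP, hPb⟩ := (Ideal.mem_map_iff_of_surjective q Ideal.Quotient.mk_surjective).mp hbJ
    have : rep b - P ∈ I := Ideal.Quotient.eq.mp ((hrep b).trans hPb.symm)
    simpa using J.add_mem (hIJ this) hP
  rw [SetLike.mem_coe, RingHom.mem_ker, ← hrep b]
  show ev (rep b) = 0
  rw [hJ, ← Set.image_univ] at hrJ
  rw [MvPolynomial.aeval_def, MvPolynomial.eval₂_eq]
  refine Finset.sum_eq_zero fun m hm => ?_
  obtain ⟨i, _, hi⟩ := (MvPolynomial.mem_ideal_span_X_image.mp hrJ) m hm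
  have hisupp : i ∈ m.support := Finsupp.mem_support_iff.mpr hi
  have hne : i ≠ n := (hn b hb i ((MvPolynomial.mem_vars i).mpr ⟨m, hm, hisupp⟩)).ne
  rw [Finset.prod_eq_zero hisupp (by simp [hne, zero_pow hi]), mul_zero]

end Groth.Agent.S13726
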