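import Groth.Statements.S13729
import Groth.Agent.Cycles.PolLawTau
-- import your own Groth.Agent.* helpers here

set_option autoImplicit false
universe u
open scoped TensorProduct
open ZeroCyc

namespace Groth.Agent.S13729

/-- Let (C, γ) be the algebra of divided powers Γ^d_A(B) of a commutative A-algebra B with its universal
multiplicative law γ : B → C homogeneous of degree d (every multiplicative law B → C' homogeneous of
degree d factors uniquely through γ by an algebra map C → C'). If B is flat over A then C = Γ^d_A(B)
is flat over A. (The published statement is that Γ^d(X/S) → S inherits flatness from X → S for any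
separated algebraic space X over S; this row is the case X and S affine, where Γ^d(X/S) = Spec
Γ^d_A(B).) -/
theorem result {A : Type u} [CommRing A] {B : Type u} [CommRing B] [Algebra A B] {C : Type u} [CommRing C] [Algebra A C]
    {d : ℕ} (γ : PolLaw.MulLaw A B C d) (hγ : PolLaw.IsGammaD γ) [Module.Flat A B] :
    Module.Flat A C := by
  have hτ : PolLaw.IsGammaD (Groth.Cycles.Sym.tau A d B) :=
    Groth.Cycles.Sym.isGammaD_tau Groth.Cycles.Sym.TSmap_surjective_of_flat Groth.Cycles.Sym.ker_le_of_flat
  obtain ⟨f, hf, -⟩ := hγ (SymTen.TS A B d) (Groth.Cycles.Sym.tau A d B)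
  obtain ⟨g, hg, -⟩ := hτ C γ
  have hgf : g.comp f = AlgHom.id A C := by
    obtain ⟨e, -, he⟩ := hγ C γ
    rw [he (g.comp f) ?_, he (AlgHom.id A C) ?_]
    · refine PolynomialLaw.ext (funext fun S => funext fun _ => funext fun _ => funext fun x => ?_)
      show LinearMap.lTensor S LinearMap.id _ = _
      rw [LinearMap.lTensor_id, LinearMap.id_apply]
    · refine PolynomialLaw.ext (funext fun S => funext fun _ => funext fun _ => funext fun x => ?_)
      show (g.toLinearMap ∘ₗ f.toLinearMap).lTensor S (γ.law.toFun' S x) = γ.law.toFun' S x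
      rw [← Groth.Cycles.Sym.lT_comp]
      refine (congrArg (g.toLinearMap.lTensor S) (congrArg (fun G : B →ₚₗ[A] SymTen.TS A B d => G.toFun' S x) hf)).trans ?_
      exact congrArg (fun G : B →ₚₗ[A] C => G.toFun' S x) hg
  have e : Groth.Misc8.SymOrbit.Sym A B d = Subalgebra.toSubmodule (SymTen.TS A B d) := by
    ext t
    rw [Groth.Misc8.SymOrbit.mem_Sym, Subalgebra.mem_toSubmodule, SymTen.mem_TS_iff]
    rfl
  haveI : Module.Flat A (Groth.Misc8.SymOrbit.Sym A B d) := Groth.Misc8.SymOrbit.flat d
  haveI : Module.Flat A (SymTen.TS A B d) :=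
    Module.Flat.of_linearEquiv (LinearEquiv.ofEq _ _ e).symm
  exact Module.Flat.of_retract f.toLinearMap g.toLinearMap (LinearMap.ext fun c => AlgHom.congr_fun hgf c)

end Groth.Agent.S13729
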