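import Mathlib
import Groth.Statements.S13730
import Groth.Agent.ZeroCycSym.GeomReduced
import Groth.Agent.Cycles.PolLawTau

set_option autoImplicit false
universe u
open scoped TensorProduct
open ZeroCyc

namespace Groth.Agent.S13730

/-- Let (C, γ) be the algebra of divided powers Γ^d_A(B) of a commutative A-algebra B with its universal
multiplicative law γ : B → C homogeneous of degree d (every multiplicative law B → C' homogeneous of
degree d factors uniquely through γ by an algebra map C → C'). If B is flat over A and K ⊗_A B is
reduced for every field K receiving a ring map from A (X = Spec B → S = Spec A is flat with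
geometrically reduced fibres), then K ⊗_A C is reduced for every such K: Γ^d_A(B) again has
geometrically reduced fibres over A. (The published statement is for a flat morphism of algebraic
spaces X → S with geometrically reduced fibres and also records that Γ^d(X/S) → S is flat; this row
is the affine case and states only the reducedness of the fibres, flatness of Γ^d_A(B) for flat B
being a separate statement.) -/
theorem result {A : Type u} [CommRing A] {B : Type u} [CommRing B] [Algebra A B] {C : Type u} [CommRing C] [Algebra A C]
    {d : ℕ} (γ : PolLaw.MulLaw A B C d) (hγ : PolLaw.IsGammaD γ) [Module.Flat A B]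
    (hred : ∀ (K : Type u) [Field K] [Algebra A K], IsReduced (K ⊗[A] B)) :
    ∀ (K : Type u) [Field K] [Algebra A K], IsReduced (K ⊗[A] C) := by
  classical
  intro K _ _
  have hτ : PolLaw.IsGammaD (Groth.Cycles.Sym.tau A d B) :=
    Groth.Cycles.Sym.isGammaD_tau Groth.Cycles.Sym.TSmap_surjective_of_flat Groth.Cycles.Sym.ker_le_of_flat
  obtain ⟨f, hf, -⟩ := hγ (SymTen.TS A B d) (Groth.Cycles.Sym.tau A d B)
  obtain ⟨g, hg, -⟩ := hτ C γ
  have hgf : g.comp f = AlgHom.id A C := by
    obtain ⟨e, -, he⟩ := hγ C γ
    rw [he (g.comp f) ?_, he (AlgHom.id A C) ?_]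
    · refine PolynomialLaw.ext (funext fun S => funext fun _ => funext fun _ => funext fun x => ?_)
      show LinearMap.lTensor S LinearMap.id _ = _
      rw [LinearMap.lTensor_id, LinearMap.id_apply]
    · refine PolynomialLaw.ext (funext fun S => funext fun _ => funext fun _ => funext fun x => ?_)
      show (g.toLinearMap ∘ₗ f.toLinearMap).lTensor S (γ.law.toFun' S x) = γ.law.toFun' S x
      rw [← Groth.Cycles.Sym.lT_comp]
      refine (congrArg (g.toLinearMap.lTensor S) (congrArg (fun G : B →ₚₗ[A] SymTen.TS A B d => G.toFun' S x) hf)).trans ?_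
      exact congrArg (fun G : B →ₚₗ[A] C => G.toFun' S x) hg
  have heq : Groth.Misc8.SymOrbit.Sym A B d = Subalgebra.toSubmodule (SymTen.TS A B d) := by
    ext t
    rw [Groth.Misc8.SymOrbit.mem_Sym, Subalgebra.mem_toSubmodule, SymTen.mem_TS_iff]
    rfl
  have hval : Function.Injective ((SymTen.TS A B d).val.toLinearMap.lTensor K) := by
    have h := Groth.ZeroCycSym.GeomReduced.injective_lTensor_sym (A := A) B d K
    have he : (SymTen.TS A B d).val.toLinearMap =
        (Groth.Misc8.SymOrbit.Sym A B d).subtype ∘ₗ (LinearEquiv.ofEq _ _ heq.symm).toLinearMap := LinearMap.ext fun _ => rfl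
    rw [he, LinearMap.lTensor_comp, LinearMap.coe_comp]
    exact h.comp (LinearEquiv.lTensor K (LinearEquiv.ofEq _ _ heq.symm)).injective
  have hf' : Function.Injective (f.toLinearMap.lTensor K) := by
    refine Function.LeftInverse.injective (g := g.toLinearMap.lTensor K) fun x => ?_
    rw [← LinearMap.comp_apply, ← LinearMap.lTensor_comp,
      show g.toLinearMap ∘ₗ f.toLinearMap = LinearMap.id from LinearMap.ext fun c => AlgHom.congr_fun hgf c,
      LinearMap.lTensor_id, LinearMap.id_apply]
  haveI := Groth.ZeroCycSym.GeomReduced.isReduced_tensorPower hred K d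
  refine isReduced_of_injective
    ((Algebra.TensorProduct.map (AlgHom.id A K) (SymTen.TS A B d).val).comp
      (Algebra.TensorProduct.map (AlgHom.id A K) f)).toRingHom ?_
  exact hval.comp hf'

end Groth.Agent.S13730
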