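import Groth.Statements.S13731
import Groth.Agent.HTopHyper.DvrLiftGeom

set_option autoImplicit false
universe u
open HTop

namespace Groth.Agent.S13731

open CategoryTheory CategoryTheory.Limits AlgebraicGeometry in
/-- Let X be a separated Noetherian scheme and {p_i : U_i → X} a finite family of separated morphisms of
finite type whose induced morphism from the disjoint union of the U_i to X is universally submersive
(an h-covering). Then every point x of X is p_i(u) for some i and some point u of U_i admitting a
generization ξ in U_i whose image p_i(ξ) is a generic point of an irreducible component of X.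
Equivalently, the irreducible components of the U_i dominating an irreducible component of X jointly
cover X. -/
theorem result {X : Scheme.{u}} [IsNoetherian X] [X.IsSeparated] (E : PreZeroHypercover.{u} X) [Finite E.I₀] [∀ i, LocallyOfFiniteType (E.f i)] [∀ i, QuasiCompact (E.f i)] [∀ i, IsSeparated (E.f i)] (hE : SGA1.UnivSubmersive (Sigma.desc E.f)) (x : X) : ∃ (i : E.I₀) (ξ u : E.X i), ξ ⤳ u ∧ E.f i u = x ∧ closure {E.f i ξ} ∈ irreducibleComponents ↥X := by
  have hv := Groth.HTopHyper.hasValLift_of_univSubmersive E hE
  obtain ⟨η, hη, hηx⟩ : ∃ η : X, closure {η} ∈ irreducibleComponents X ∧ η ⤳ x := by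
    obtain ⟨η, hη⟩ := QuasiSober.sober isIrreducible_irreducibleComponent
      (isClosed_irreducibleComponent (x := x))
    refine ⟨η, ?_, ?_⟩
    · rw [show closure {η} = irreducibleComponent x from hη]
      exact irreducibleComponent_mem_irreducibleComponents x
    · exact hη.specializes mem_irreducibleComponent
  obtain ⟨V, _, _, l, hl', hl⟩ := Groth.HTopHyper.exists_valRing hηx
  obtain ⟨W, _, _, φ, ⟨hinj, hloc⟩, i, g, hg⟩ := hv V l
  refine ⟨i, g (Groth.HTopHyper.genPt W), g (Groth.HTopHyper.clPt W),
    (Groth.HTopHyper.genPt_specializes _).map g.continuous, ?_, ?_⟩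
  · rw [← Scheme.Hom.comp_apply, hg, Scheme.Hom.comp_apply,
      (Groth.HTopHyper.specMap_closedPoint_iff φ).mpr hloc, hl]
  · rwa [← Scheme.Hom.comp_apply, hg, Scheme.Hom.comp_apply,
      (Groth.HTopHyper.specMap_genPt_iff φ).mpr hinj, hl']

end Groth.Agent.S13731
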