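import Groth.Statements.S13736
import Groth.Agent.EGA43Topo.UnibranchGeneralScheme
import Groth.Agent.FibreDim.Smooth
import Groth.Agent.HTopHyper.DvrLiftGeom
import Groth.Agent.Limits.DVRPoints

set_option backward.isDefEq.respectTransparency false
-- import your own Groth.Agent.* helpers here

set_option autoImplicit false
universe u
open HTop

namespace Groth.Agent.S13736

open CategoryTheory CategoryTheory.Limits AlgebraicGeometry

/-- A universally open surjective morphism is universally submersive. -/
theorem univSubmersive_of_universallyOpen {P Q : Scheme.{u}} (f : P ⟶ Q) [UniversallyOpen f]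
    [Surjective f] : SGA1.UnivSubmersive f := by
  intro P' Q' i₁ i₂ f' H
  have : Surjective f' := MorphismProperty.of_isPullback H.flip ‹Surjective f›
  have ho : IsOpenMap f' := UniversallyOpen.out _ _ _ H
  exact (⟨f'.surjective, f'.continuous, ho⟩ : IsOpenQuotientMap f').isQuotientMap

/-- A dominant quasi-finite morphism of irreducible schemes to a geometrically unibranch scheme is
universally open. -/
theorem universallyOpen_of_dominant {X U : Scheme.{u}} [IrreducibleSpace ↥X] [IrreducibleSpace ↥U]
    (hX : ∀ x : X, CAlg2.IsGeomUnibranch (X.presheaf.stalk x)) (p : U ⟶ X) [LocallyOfFiniteType p]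
    [LocallyQuasiFinite p] [IsDominant p] : UniversallyOpen p := by
  refine Groth.EGA43Topo.universallyOpen_of_irreducible hX p ?_ fun x => ?_
  · refine ((genericPoint_spec U).image p.continuous).eq ?_
    rw [Set.image_univ, p.denseRange.closure_range]
    exact genericPoint_spec X
  · rw [Groth.FibreDim.fibreDimAt_eq_zero_of_locallyQuasiFinite,
      Groth.FibreDim.fibreDimAt_eq_zero_of_locallyQuasiFinite]

open Groth.HTopHyper in
/-- Over an irreducible Noetherian base the dominant members of a covering family are jointly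
surjective. -/
theorem exists_dominant_of_univSubmersive {X : Scheme.{u}} [IsNoetherian X] [IrreducibleSpace ↥X]
    (E : PreZeroHypercover.{u} X) [Finite E.I₀] [∀ i, QuasiCompact (E.f i)]
    (hE : SGA1.UnivSubmersive (Sigma.desc E.f)) (x : X) :
    ∃ (i : E.I₀) (u : E.X i), IsDominant (E.f i) ∧ E.f i u = x := by
  have := quasiCompact_sigmaDesc E
  have hdom : ∀ (i : E.I₀) (u : E.X i), E.f i u = genericPoint X → IsDominant (E.f i) := fun i u hu =>
    ⟨dense_iff_closure_eq.2 (Set.eq_univ_of_univ_subset
      ((genericPoint_spec X).symm.subset.trans (closure_mono (Set.singleton_subset_iff.2 ⟨u, hu⟩))))⟩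
  by_cases hx : x = genericPoint X
  · have hs : Function.Surjective (Sigma.desc E.f) :=
      (hE (𝟙 _) (𝟙 _) _ IsPullback.of_id_snd : Topology.IsQuotientMap (Sigma.desc E.f)).surjective
    obtain ⟨z, hz⟩ := hs x
    obtain ⟨j, u, hu⟩ := (sigmaOpenCover E.X).exists_eq z
    have hu' : E.f j u = x := by
      rw [← hz, ← hu]
      exact (congrArg (fun h : E.X j ⟶ X => h u) (Sigma.ι_desc E.f j)).symm
    exact ⟨j, u, hdom j u (hu'.trans hx), hu'⟩
  · have hsp : (𝟙 X : X ⟶ X) (genericPoint X) ⤳ x := genericPoint_specializes x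
    obtain ⟨A, _, _, _, e, _, g, hcl, hgen⟩ :=
      Groth.Limits.exists_dvr_square (𝟙 X) (genericPoint X) x hsp hx
    obtain ⟨z', z, hzz, hz', hz⟩ :=
      exists_specializes_of_univSubmersive _ hE (CommRingCat.of A) g
    obtain ⟨j, u, hu⟩ := (sigmaOpenCover E.X).exists_eq (pullback.snd g (Sigma.desc E.f) z)
    have hsp' : pullback.snd g (Sigma.desc E.f) z' ⤳ pullback.snd g (Sigma.desc E.f) z :=
      hzz.map (pullback.snd g (Sigma.desc E.f)).continuous
    obtain ⟨u', hu'⟩ : pullback.snd g (Sigma.desc E.f) z' ∈ Set.range (Sigma.ι E.X j) :=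
      hsp'.mem_open (Sigma.ι E.X j).isOpenEmbedding.isOpen_range ⟨u, hu⟩
    have hcomp : ∀ (w : E.X j) (z : ↑(pullback g (Sigma.desc E.f))),
        Sigma.ι E.X j w = pullback.snd g (Sigma.desc E.f) z →
        E.f j w = g (pullback.fst g (Sigma.desc E.f) z) := fun w z h => by
      rw [← Scheme.Hom.comp_apply, pullback.condition, Scheme.Hom.comp_apply, ← h,
        ← Scheme.Hom.comp_apply, Sigma.ι_desc]
    have hgp : g (genPt (CommRingCat.of A)) = genericPoint X := by
      have h1 : Groth.Limits.genericPointMap A (IsLocalRing.closedPoint _) = genPt (CommRingCat.of A) := by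
        refine PrimeSpectrum.ext (Ideal.ext fun a => ?_)
        show algebraMap A (FractionRing A) a ∈ IsLocalRing.maximalIdeal (FractionRing A) ↔ a ∈ (⊥ : Ideal A)
        rw [Ideal.mem_bot, IsLocalRing.mem_maximalIdeal, mem_nonunits_iff, isUnit_iff_ne_zero, not_not,
          map_eq_zero_iff _ (IsFractionRing.injective A (FractionRing A))]
      rw [← h1, ← Scheme.Hom.comp_apply, hgen, Scheme.Hom.comp_apply, Scheme.Hom.comp_apply,
        Scheme.fromSpecResidueField_apply]
      rfl
    exact ⟨j, u, hdom j u' (by rw [hcomp u' z' hu', hz', hgp]), by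
      rw [hcomp u z hu, hz]; exact hcl⟩

end Groth.Agent.S13736

namespace Groth.Agent.S13736

open CategoryTheory CategoryTheory.Limits AlgebraicGeometry in
/-- Let X be a separated irreducible Noetherian scheme whose local rings are all geometrically
unibranch, and {p_i : U_i → X} a finite family of separated quasi-finite morphisms of finite type
with every U_i irreducible. Then the induced morphism from the disjoint union of the U_i to X is
universally submersive (a qfh-covering) if and only if the dominant members p_i are jointly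
surjective onto X; in that case the induced morphism from the disjoint union of the dominant members
alone is already universally submersive. (The published statement does not require the U_i
irreducible; for the affine line X over a field and the single member U = (X minus a closed point) ⊔
(that point) → X, which is dominant and surjective, the quotient property fails, and the published
proof uses that every irreducible component of a dominant member dominates X, so the members are
taken irreducible here.) -/
theorem result {X : Scheme.{u}} [IsNoetherian X] [X.IsSeparated] [IrreducibleSpace ↥X] (hX : ∀ x : X, CAlg2.IsGeomUnibranch (X.presheaf.stalk x)) (E : PreZeroHypercover.{u} X) [Finite E.I₀] [∀ i, LocallyOfFiniteType (E.f i)] [∀ i, QuasiCompact (E.f i)] [∀ i, LocallyQuasiFinite (E.f i)] [∀ i, IsSeparated (E.f i)] [∀ i, IrreducibleSpace ↥(E.X i)] : (SGA1.UnivSubmersive (Sigma.desc E.f) ↔ ∀ x : X, ∃ (i : E.I₀) (u : E.X i), IsDominant (E.f i) ∧ E.f i u = x) ∧ ((∀ x : X, ∃ (i : E.I₀) (u : E.X i), IsDominant (E.f i) ∧ E.f i u = x) → SGA1.UnivSubmersive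 (Sigma.desc fun j : {i : E.I₀ // IsDominant (E.f i)} => E.f j.1)) := by
  have hsub : (∀ x : X, ∃ (i : E.I₀) (u : E.X i), IsDominant (E.f i) ∧ E.f i u = x) →
      SGA1.UnivSubmersive (Sigma.desc fun j : {i : E.I₀ // IsDominant (E.f i)} => E.f j.1) := by
    intro h
    have : ∀ j : {i : E.I₀ // IsDominant (E.f i)}, UniversallyOpen (E.f j.1) := fun j => by
      haveI := j.2
      exact universallyOpen_of_dominant hX _
    haveI : UniversallyOpen (Sigma.desc fun j : {i : E.I₀ // IsDominant (E.f i)} => E.f j.1) :=
      IsZariskiLocalAtSource.sigmaDesc this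
    haveI : Surjective (Sigma.desc fun j : {i : E.I₀ // IsDominant (E.f i)} => E.f j.1) := by
      refine Surjective.sigmaDesc_of_union_range_eq_univ (Set.eq_univ_iff_forall.2 fun x => ?_)
      obtain ⟨i, u, hd, hu⟩ := h x
      exact Set.mem_iUnion.2 ⟨⟨i, hd⟩, u, hu⟩
    exact univSubmersive_of_universallyOpen _
  refine ⟨⟨fun hE x => exists_dominant_of_univSubmersive E hE x, fun h => ?_⟩, hsub⟩
  let E' : PreZeroHypercover.{u} X := ⟨{i : E.I₀ // IsDominant (E.f i)}, fun j => E.X j.1, fun j => E.f j.1⟩
  haveI : Finite E'.I₀ := inferInstanceAs (Finite {i : E.I₀ // IsDominant (E.f i)})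
  haveI : ∀ i, QuasiCompact (E'.f i) := fun i => inferInstanceAs (QuasiCompact (E.f i.1))
  haveI := Groth.HTopHyper.quasiCompact_sigmaDesc E
  haveI := Groth.HTopHyper.quasiCompact_sigmaDesc E'
  haveI : LocallyOfFiniteType (Sigma.desc E.f) := IsZariskiLocalAtSource.sigmaDesc fun i => ‹∀ i, LocallyOfFiniteType (E.f i)› i
  haveI : LocallyOfFiniteType (Sigma.desc E'.f) :=
    IsZariskiLocalAtSource.sigmaDesc fun i => inferInstanceAs (LocallyOfFiniteType (E.f i.1))
  refine (Groth.HTopHyper.univSubmersive_iff_dvr_lift _).mpr fun R _ _ _ g => ?_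
  obtain ⟨R', i1, i2, i3, φ, l, hφ, hl⟩ :=
    (Groth.HTopHyper.univSubmersive_iff_dvr_lift (Sigma.desc E'.f)).mp (hsub h) R g
  refine ⟨R', i1, i2, i3, φ, l ≫ Sigma.desc fun j : E'.I₀ => Sigma.ι E.X j.1, hφ, ?_⟩
  rw [Category.assoc, ← hl]
  congr 1
  refine Sigma.hom_ext _ _ fun j => ?_
  simp [E']

end Groth.Agent.S13736
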