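import Groth.Statements.S13737
import Groth.Agent.HTopHyper.DvrLiftGeom
import Groth.Agent.BlowUpBasics.Universal

set_option autoImplicit false
universe u
open HTop

namespace Groth.Agent.S13737

open CategoryTheory CategoryTheory.Limits AlgebraicGeometry in
/-- Let X be a separated integral Noetherian scheme, b : X' → X a blow-up of X in a quasi-coherent sheaf
of ideals (characterised by the universal property of blowing up), with X' separated and b of finite
type, and let U be an open subscheme of X' whose composite U → X' → X is universally submersive (an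
h-covering). Then U = X'. (The published statement takes X only integral; its proof applies the
surjectivity of dominating components for Noetherian schemes, so this row takes X Noetherian.) -/
theorem result {X X' : Scheme.{u}} [IsNoetherian X] [X.IsSeparated] [IsIntegral X] [X'.IsSeparated] (𝓘 : X.IdealSheafData) (b : X' ⟶ X) [LocallyOfFiniteType b] [QuasiCompact b] (hb : BlowUp.IsBlowUp b 𝓘) (U : X'.Opens) (hU : SGA1.UnivSubmersive (U.ι ≫ b)) : U = ⊤ := by
  classical
  have : IsLocallyNoetherian X' := LocallyOfFiniteType.isLocallyNoetherian b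
  have : CompactSpace X' := QuasiCompact.compactSpace_of_compactSpace b
  have : IsNoetherian X' := {}
  have : QuasiCompact U.ι := inferInstance
  let E : PreZeroHypercover.{u} X := PreZeroHypercover.singleton.{u} (U.ι ≫ b)
  have hd : Groth.HTopHyper.HasDvrLift E := by
    intro D _ _ g
    obtain ⟨x', x, h, h', h₀⟩ := Groth.HTopHyper.exists_specializes_of_univSubmersive _ hU D g
    obtain ⟨W, hW, hW', φ, hφ, l, hl, -, -⟩ :=
      Groth.HTopHyper.exists_ext_of_specializes _ h h' h₀
    exact ⟨W, hW, hW', φ, hφ, PUnit.unit, l ≫ pullback.snd _ _, by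
      refine (Category.assoc _ _ _).trans ?_
      exact (congrArg (l ≫ ·) pullback.condition.symm).trans
        ((Category.assoc _ _ _).symm.trans (congrArg (· ≫ g) hl))⟩
  have : Finite E.I₀ := inferInstanceAs (Finite PUnit)
  have hv : HTop.HasValLift E := Groth.HTopHyper.hasValLift_of_hasDvrLift E
    (fun _ => inferInstanceAs (LocallyOfFiniteType (U.ι ≫ b)))
    (fun _ => inferInstanceAs (QuasiCompact (U.ι ≫ b))) hd
  let D : X'.Opens := (𝓘.comap b).support.compl
  have := Groth.BlowUpBasics.isSchemeTheoreticallyDominant_compl hb.1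
  have hD : Dense (D : Set X') := by
    have h : DenseRange (Scheme.Opens.ι (X := X') (𝓘.comap b).support.compl) :=
      Scheme.Hom.denseRange _
    rwa [DenseRange, Scheme.Opens.range_ι] at h
  refine top_le_iff.mp fun x' _ => ?_
  have hZ : irreducibleComponent x' ∈ irreducibleComponents X' :=
    irreducibleComponent_mem_irreducibleComponents x'
  obtain ⟨o, ho, hne, hoZ⟩ :=
    TopologicalSpace.NoetherianSpace.exists_isOpen_nonempty_subset_irreducibleComponent _ hZ
  have hirr : IsIrreducible (irreducibleComponent x') := isIrreducible_irreducibleComponent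
  let η : X' := hirr.genericPoint
  have hcl : closure (irreducibleComponent x') = irreducibleComponent x' :=
    isClosed_irreducibleComponent.closure_eq
  have hη : ∀ z ∈ irreducibleComponent x', η ⤳ z := fun z hz => by
    rw [specializes_iff_mem_closure, hirr.closure_genericPoint isClosed_irreducibleComponent]
    exact hz
  obtain ⟨z, hzo, hzD⟩ := hD.inter_open_nonempty o ho hne
  have hηD : η ∈ D := (hη z (hoZ hzo)).mem_open D.isOpen hzD
  obtain ⟨V, _, _, l, hl₁, hl₂⟩ := Groth.HTopHyper.exists_valRing (hη x' mem_irreducibleComponent)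
  obtain ⟨W, _, _, φ, hφ, -, (g' : Spec W ⟶ (U : Scheme.{u})),
    (hg' : g' ≫ U.ι ≫ b = Spec.map φ ≫ l ≫ b)⟩ := hv V (l ≫ b)
  have hgen : Spec.map φ (Groth.HTopHyper.genPt W) = Groth.HTopHyper.genPt V :=
    (Groth.HTopHyper.specMap_genPt_iff φ).mpr hφ.1
  have hclo : Spec.map φ (Groth.HTopHyper.clPt W) = Groth.HTopHyper.clPt V :=
    (Groth.HTopHyper.specMap_closedPoint_iff φ).mpr hφ.2
  have he : g' ≫ U.ι = Spec.map φ ≫ l := by
    let j : Spec (CommRingCat.of (FractionRing W)) ⟶ Spec W :=
      Spec.map (CommRingCat.ofHom (algebraMap W (FractionRing W)))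
    have hj : ∀ p, j p = Groth.HTopHyper.genPt W := fun p => by
      refine PrimeSpectrum.ext ?_
      show p.asIdeal.comap (algebraMap W (FractionRing W)) = ⊥
      have hp : p.asIdeal = ⊥ := (Ideal.eq_bot_or_top p.asIdeal).resolve_right p.2.ne_top
      rw [hp, ← RingHom.ker_eq_comap_bot,
        (RingHom.injective_iff_ker_eq_bot _).mp (IsFractionRing.injective W (FractionRing W))]
    have : IsDominant j := ⟨by
      rw [DenseRange, dense_iff_closure_eq]
      refine Set.eq_univ_of_forall fun q => ?_
      have h0 : Groth.HTopHyper.genPt W ∈ Set.range j := ⟨⟨⊥, Ideal.isPrime_bot⟩, hj _⟩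
      exact (Groth.HTopHyper.genPt_specializes q).mem_closed isClosed_closure (subset_closure h0)⟩
    refine ext_of_isDominant j (Groth.BlowUpBasics.hom_ext_isBlowUp hb ?_ ?_)
    · simp only [Category.assoc, hg']
    · rw [Groth.BlowUpBasics.comap_eq_top_of_range_subset _ _ (by
        rintro _ ⟨p, rfl⟩
        have h1 : ((j ≫ g' ≫ U.ι) ≫ b) p = b η := by
          simp only [Category.assoc]
          rw [hg', Scheme.Hom.comp_apply, hj, Scheme.Hom.comp_apply, hgen, Scheme.Hom.comp_apply, hl₁]
        rw [h1]
        intro hmem
        apply hηD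
        show η ∈ (𝓘.comap b).support
        rw [Scheme.IdealSheafData.support_comap]
        exact hmem)]
      exact Groth.BlowUpBasics.isEffCartierIdeal_top
  have h1 := congrArg (fun a => a (Groth.HTopHyper.clPt W)) he
  simp only [Scheme.Hom.comp_apply, hclo, hl₂] at h1
  exact h1 ▸ (g' (Groth.HTopHyper.clPt W)).2

end Groth.Agent.S13737
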