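import Groth.Statements.S13738
import Mathlib.AlgebraicGeometry.PullbackCarrier
import Mathlib.AlgebraicGeometry.Morphisms.Finite
import Mathlib.AlgebraicGeometry.Properties
import Mathlib.FieldTheory.IsAlgClosed.AlgebraicClosure

set_option autoImplicit false
set_option backward.isDefEq.respectTransparency false
universe u
open SGA1

namespace Groth.Agent.S13738

open CategoryTheory CategoryTheory.Limits AlgebraicGeometry in
/-- Let S be a separated irreducible Noetherian scheme, q : X → S finite and surjective with X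
separated, and G a finite group acting on X by S-automorphisms, transitively on the geometric points
of X over every geometric point of S. Then every irreducible component of X maps onto S and G acts
transitively on the set of irreducible components of X. -/
theorem result {X S : Scheme.{u}} [IsNoetherian S] [S.IsSeparated] [X.IsSeparated] [IrreducibleSpace ↥S] (q : X ⟶ S) [IsFinite q] [Surjective q] {G : Type u} [Group G] [Finite G] (ρ : G →* Aut X) (hρ : ∀ g : G, (ρ g).hom ≫ q = q) (htrans : ∀ (Ω : Type u) [Field Ω] [IsAlgClosed Ω] (τ₁ τ₂ : Spec (CommRingCat.of Ω) ⟶ X), τ₁ ≫ q = τ₂ ≫ q → ∃ g : G, τ₁ ≫ (ρ g).hom = τ₂) : (∀ T ∈ irreducibleComponents ↥X, Set.image (fun x => q x) T = Set.univ) ∧ ∀ T₁ ∈ irreducibleComponents ↥X, ∀ T₂ ∈ irreducibleComponents ↥X, ∃ g : G, Set.image (fun x => (ρ g).hom x) T₁ = T₂ := by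
  classical
  cases nonempty_fintype G
  have hpts : ∀ x y : X, q x = q y → ∃ g : G, (ρ g).hom x = y := by
    intro x y hxy
    obtain ⟨z, hz₁, hz₂⟩ := Scheme.Pullback.exists_preimage_pullback x y hxy
    let ζ : Spec (CommRingCat.of (AlgebraicClosure ((pullback q q).residueField z))) ⟶ pullback q q :=
      Spec.map (show (pullback q q).residueField z ⟶ CommRingCat.of (AlgebraicClosure ((pullback q q).residueField z)) from
        CommRingCat.ofHom (algebraMap ((pullback q q).residueField z : Type u) _)) ≫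
        (pullback q q).fromSpecResidueField z
    obtain ⟨g, hg⟩ := htrans _ (ζ ≫ pullback.fst q q) (ζ ≫ pullback.snd q q) (by
      simp only [Category.assoc, pullback.condition])
    have h := congrArg (fun f => f.base (IsLocalRing.closedPoint _)) hg
    simp only [ζ, Scheme.Hom.comp_apply, Scheme.fromSpecResidueField_apply, Category.assoc] at h
    rw [hz₁, hz₂] at h
    exact ⟨g, h⟩
  obtain ⟨η, hη⟩ : ∃ η : S, IsGenericPoint η Set.univ := ⟨genericPoint S, genericPoint_spec S⟩
  obtain ⟨x₀, hx₀⟩ := q.surjective η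
  let T₀ := irreducibleComponent x₀
  have hT₀ : q '' T₀ = Set.univ := by
    refine Set.eq_univ_of_univ_subset ?_
    have h := (q.isClosedMap _ (isClosed_irreducibleComponent (x := x₀))).closure_subset_iff.2
      (Set.singleton_subset_iff.2 ⟨x₀, mem_irreducibleComponent, hx₀⟩)
    rwa [hη.def] at h
  have hcov : ∀ x : X, ∃ g : G, x ∈ (fun z => (ρ g).hom z) '' T₀ := fun x => by
    obtain ⟨w, hw, hwx⟩ := hT₀.ge (Set.mem_univ (q x))
    obtain ⟨g, hg⟩ := hpts w x hwx
    exact ⟨g, w, hw, hg⟩
  have hcomp : ∀ T ∈ irreducibleComponents ↥X, ∃ g : G, (fun z => (ρ g).hom z) '' T₀ = T := by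
    intro T hT
    let Z : Finset (Set X) := Finset.univ.image fun g : G => (fun z => (ρ g).hom z) '' T₀
    obtain ⟨_, hzZ, hTz⟩ := isIrreducible_iff_sUnion_isClosed.1 hT.1 Z
      (fun z hz => by
        obtain ⟨g, -, rfl⟩ := Finset.mem_image.1 hz
        exact (ρ g).hom.homeomorph.isClosedMap _ isClosed_irreducibleComponent)
      (fun x _ => by
        obtain ⟨g, hg⟩ := hcov x
        exact Set.mem_sUnion_of_mem hg (Finset.mem_image_of_mem _ (Finset.mem_univ g)))
    obtain ⟨g, -, rfl⟩ := Finset.mem_image.1 hzZ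
    refine ⟨g, subset_antisymm (hT.2 ?_ hTz) hTz⟩
    exact isIrreducible_irreducibleComponent.image _ (ρ g).hom.continuous.continuousOn
  refine ⟨fun T hT => ?_, fun T₁ hT₁ T₂ hT₂ => ?_⟩
  · obtain ⟨g, rfl⟩ := hcomp T hT
    have : ∀ z, q ((ρ g).hom z) = q z := fun z => by rw [← Scheme.Hom.comp_apply, hρ]
    rw [Set.image_image]
    simpa only [this] using hT₀
  · obtain ⟨g₁, rfl⟩ := hcomp T₁ hT₁
    obtain ⟨g₂, rfl⟩ := hcomp T₂ hT₂
    refine ⟨g₂ * g₁⁻¹, ?_⟩
    rw [Set.image_image]
    congr 1
    funext z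
    rw [← Scheme.Hom.comp_apply]
    congr 1
    rw [map_mul, map_inv, Aut.Aut_mul_def, Aut.Aut_inv_def, Iso.trans_hom, Iso.symm_hom,
      Iso.hom_inv_id_assoc]

end Groth.Agent.S13738
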