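import Groth.Statements.S13739
import Groth.Agent.Pi1Quot.SigmaFinite
import Mathlib.AlgebraicGeometry.ResidueField
import Mathlib.FieldTheory.IsAlgClosed.AlgebraicClosure

set_option autoImplicit false
set_option backward.isDefEq.respectTransparency false
universe u
open SGA1

namespace Groth.Agent.S13739

open CategoryTheory CategoryTheory.Limits AlgebraicGeometry in
/-- Let S be a separated Noetherian scheme, q : X → S finite surjective with X separated, G a finite
group acting on X by S-automorphisms and transitively on the geometric points of X over every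
geometric point of S, and r : Y → X a morphism with Y separated. If υ is the morphism from the
disjoint union of G copies of Y to Y ×_S X (Y over S through r ≫ q) whose σ-th component is (id_Y, r
≫ σ), then υ is finite and surjective. -/
theorem result {X S Y : Scheme.{u}} [IsNoetherian S] [S.IsSeparated] [X.IsSeparated] [Y.IsSeparated] (q : X ⟶ S) [IsFinite q] [Surjective q] {G : Type u} [Group G] [Finite G] (ρ : G →* Aut X) (hρ : ∀ g : G, (ρ g).hom ≫ q = q) (htrans : ∀ (Ω : Type u) [Field Ω] [IsAlgClosed Ω] (τ₁ τ₂ : Spec (CommRingCat.of Ω) ⟶ X), τ₁ ≫ q = τ₂ ≫ q → ∃ g : G, τ₁ ≫ (ρ g).hom = τ₂) (r : Y ⟶ X) (υ : (∐ fun _ : G => Y) ⟶ pullback (r ≫ q) q) (hυ₁ : ∀ σ : G, Sigma.ι (fun _ : G => Y) σ ≫ υ ≫ pullback.fst (r ≫ q) q = 𝟙 Y) (hυ₂ : ∀ σ : G, Sigma.ι (fun _ : G => Y) σ ≫ υ ≫ pullback.snd (r ≫ q) q = r ≫ (ρ σ).hom) : IsFinite υ ∧ Surjective υ := by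
  have hfold : υ ≫ pullback.fst (r ≫ q) q = Sigma.desc fun _ : G => 𝟙 Y :=
    Sigma.hom_ext _ _ fun σ => by rw [hυ₁, colimit.ι_desc]; rfl
  haveI : IsFinite (υ ≫ pullback.fst (r ≫ q) q) := hfold ▸ Groth.Pi1Quot.isFinite_sigmaDesc _
  refine ⟨IsFinite.of_comp υ (pullback.fst (r ≫ q) q), ⟨fun z => ?_⟩⟩
  let Ω := AlgebraicClosure ((pullback (r ≫ q) q).residueField z)
  let ζ : Spec (CommRingCat.of Ω) ⟶ pullback (r ≫ q) q :=
    Spec.map (show (pullback (r ≫ q) q).residueField z ⟶ CommRingCat.of Ω from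
      CommRingCat.ofHom (algebraMap ((pullback (r ≫ q) q).residueField z : Type u) Ω)) ≫ (pullback (r ≫ q) q).fromSpecResidueField z
  obtain ⟨σ, hσ⟩ := htrans Ω (ζ ≫ pullback.fst _ _ ≫ r) (ζ ≫ pullback.snd _ _) (by
    simp only [Category.assoc, pullback.condition])
  have hζ : ζ ≫ pullback.fst _ _ ≫ Sigma.ι (fun _ : G => Y) σ ≫ υ = ζ := by
    apply pullback.hom_ext
    · simp only [Category.assoc, hυ₁, Category.comp_id]
    · simp only [Category.assoc] at hσ
      simp only [Category.assoc, hυ₂, hσ]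
  refine ⟨(Sigma.ι (fun _ : G => Y) σ) ((pullback.fst (r ≫ q) q).base (ζ.base (IsLocalRing.closedPoint Ω))), ?_⟩
  rw [← Scheme.Hom.comp_apply, ← Scheme.Hom.comp_apply, ← Scheme.Hom.comp_apply, hζ]
  exact Scheme.fromSpecResidueField_apply z _

end Groth.Agent.S13739
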