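import Groth.Statements.S13740
import Groth.Agent.S13739
import Mathlib.AlgebraicGeometry.Morphisms.QuasiFinite
import Mathlib.CategoryTheory.Sites.Hypercover.Zero

set_option autoImplicit false
set_option backward.isDefEq.respectTransparency false
universe w u
open SGA1

namespace Groth.Agent.S13740

open CategoryTheory CategoryTheory.Limits AlgebraicGeometry in
/-- Let S be a separated Noetherian scheme, π : X → S finite and surjective with X separated, G a finite
group acting on X by S-automorphisms and transitively on the geometric points of X over every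
geometric point of S, and F a presheaf of sets on schemes satisfying the sheaf condition for every
finite family of quasi-finite morphisms of finite type whose induced morphism from the disjoint
union is universally submersive (a qfh-sheaf). Then pulling back along π identifies F(S) with the
G-invariant elements of F(X): F(π) is injective with image the invariants. (The published statement
takes F a qfh-sheaf on Noetherian schemes over S; this row takes a presheaf on all schemes with the
sheaf property for every such family, a stronger hypothesis.) -/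
theorem result {X S : Scheme.{u}} [IsNoetherian S] [S.IsSeparated] [X.IsSeparated] (q : X ⟶ S) [IsFinite q] [Surjective q] {G : Type u} [Group G] [Finite G] (ρ : G →* Aut X) (hρ : ∀ g : G, (ρ g).hom ≫ q = q) (htrans : ∀ (Ω : Type u) [Field Ω] [IsAlgClosed Ω] (τ₁ τ₂ : Spec (CommRingCat.of Ω) ⟶ X), τ₁ ≫ q = τ₂ ≫ q → ∃ g : G, τ₁ ≫ (ρ g).hom = τ₂) (F : Scheme.{u}ᵒᵖ ⥤ Type w) (hF : ∀ ⦃T : Scheme.{u}⦄ (E : PreZeroHypercover.{u} T), Finite E.I₀ → (∀ i, LocallyOfFiniteType (E.f i)) → (∀ i, QuasiCompact (E.f i)) → (∀ i, LocallyQuasiFinite (E.f i)) → SGA1.UnivSubmersive (Sigma.desc E.f) → Presieve.IsSheafFor F E.presieve₀) : Function.Injective (F.map q.op) ∧ Set.range (F.map q.op) = {f : F.obj (Opposite.op X) | ∀ g : G, F.map (ρ g).hom.op f = f} := by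
  have hus : ∀ {A B : Scheme.{u}} (f : A ⟶ B) [IsFinite f] [Surjective f], SGA1.UnivSubmersive f := by
    intro A B f _ _ A' B' i₁ i₂ f' h
    haveI : IsFinite f' := MorphismProperty.of_isPullback h.flip ‹IsFinite f›
    haveI : Surjective f' := MorphismProperty.of_isPullback h.flip ‹Surjective f›
    exact IsClosedMap.isQuotientMap f'.isClosedMap f'.continuous f'.surjective
  have hdesc1 : SGA1.UnivSubmersive (Sigma.desc (PreZeroHypercover.singleton.{u} q).f) := by
    haveI : ∀ i, IsFinite ((PreZeroHypercover.singleton.{u} q).f i) := fun _ => ‹IsFinite q›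
    haveI : Finite (PreZeroHypercover.singleton.{u} q).I₀ := inferInstanceAs (Finite PUnit.{u+1})
    haveI := Groth.Pi1Quot.isFinite_sigmaDesc (PreZeroHypercover.singleton.{u} q).f
    haveI : Surjective (Sigma.desc (PreZeroHypercover.singleton.{u} q).f) := ⟨fun s => by
      obtain ⟨x, rfl⟩ := q.surjective s
      refine ⟨Sigma.ι (PreZeroHypercover.singleton.{u} q).X PUnit.unit x, ?_⟩
      rw [← Scheme.Hom.comp_apply]
      erw [colimit.ι_desc]
      rfl⟩
    exact hus _
  have hsheaf := hF (PreZeroHypercover.singleton.{u} q) (inferInstanceAs (Finite PUnit.{u+1}))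
    (fun _ => inferInstanceAs (LocallyOfFiniteType q)) (fun _ => inferInstanceAs (QuasiCompact q))
    (fun _ => inferInstanceAs (LocallyQuasiFinite q)) hdesc1
  rw [PreZeroHypercover.presieve₀, Presieve.isSheafFor_arrows_iff] at hsheaf
  let P := pullback q q
  let c : G → (X ⟶ P) := fun σ => pullback.lift (𝟙 X) (ρ σ).hom (by rw [Category.id_comp, hρ])
  let E : PreZeroHypercover.{u} P := ⟨G, fun _ => X, c⟩
  haveI hcfin : ∀ σ, IsFinite (E.f σ) := fun σ => by
    haveI : IsFinite (c σ ≫ pullback.fst q q) := by
      rw [pullback.lift_fst]; infer_instance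
    exact IsFinite.of_comp (c σ) (pullback.fst q q)
  haveI : Finite E.I₀ := ‹Finite G›
  haveI := Groth.Pi1Quot.isFinite_sigmaDesc E.f
  haveI : Surjective (Sigma.desc E.f) := by
    have h := (Groth.Agent.S13739.result q ρ hρ htrans (𝟙 X)
      ((Sigma.desc c : (∐ fun _ : G => X) ⟶ P) ≫ (pullback.congrHom (Category.id_comp q).symm rfl).hom)
      (fun σ => by simp [c]) (fun σ => by simp [c])).2
    have h2 : Surjective (Sigma.desc c : (∐ fun _ : G => X) ⟶ P) := by
      have h3 : Sigma.desc c = ((Sigma.desc c : (∐ fun _ : G => X) ⟶ P) ≫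
          (pullback.congrHom (Category.id_comp q).symm rfl).hom) ≫
          (pullback.congrHom (Category.id_comp q).symm rfl).inv := by
        rw [Category.assoc, Iso.hom_inv_id, Category.comp_id]
      rw [h3]
      haveI := h
      infer_instance
    exact h2
  have hsep : ∀ a b : F.obj (Opposite.op P), (∀ σ, F.map (c σ).op a = F.map (c σ).op b) → a = b := by
    intro a b hab
    exact (hF E inferInstance (fun i => by haveI := hcfin i; infer_instance)
      (fun i => by haveI := hcfin i; infer_instance) (fun i => by haveI := hcfin i; infer_instance)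
      (hus _)).isSeparatedFor.ext fun Z f ⟨σ⟩ => hab σ
  have cmp : ∀ {A B C : Scheme.{u}} (a : A ⟶ B) (b : B ⟶ C) (x : F.obj (Opposite.op C)),
      F.map a.op (F.map b.op x) = F.map (a ≫ b).op x := fun a b x => by simp
  have hinj : Function.Injective (F.map q.op) := fun a b hab => by
    obtain ⟨t, -, ht⟩ := hsheaf (fun _ => F.map q.op a) (fun _ _ Z gi gj h => by
      exact (cmp gi q a).trans ((congrArg (fun f => F.map (Quiver.Hom.op f) a) h).trans (cmp gj q a).symm))
    exact (ht a fun _ => rfl).trans (ht b fun _ => hab.symm).symm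
  refine ⟨hinj, Set.ext fun f => ⟨?_, fun hf => ?_⟩⟩
  · rintro ⟨t, rfl⟩ g
    exact (cmp (ρ g).hom q t).trans (congrArg (fun f => F.map (Quiver.Hom.op f) t) (hρ g))
  · have h12 : F.map (pullback.fst q q).op f = F.map (pullback.snd q q).op f := hsep _ _ fun σ => by
      rw [cmp, cmp, pullback.lift_fst, pullback.lift_snd, hf σ]
      simp
    obtain ⟨t, ht, -⟩ := hsheaf (fun _ => f) (fun _ _ Z gi gj h => by
      have h' : gi ≫ q = gj ≫ q := h
      have h1 := congrArg (F.map (pullback.lift gi gj h').op) h12
      rw [cmp, cmp, pullback.lift_fst, pullback.lift_snd] at h1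
      exact h1)
    exact ⟨t, ht PUnit.unit⟩

end Groth.Agent.S13740
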