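import Groth.Statements.S13741
import Mathlib.AlgebraicGeometry.ResidueField
import Mathlib.FieldTheory.Normal.Basic

set_option autoImplicit false
universe u
open SGA1

namespace Groth.Agent.S13741

open CategoryTheory CategoryTheory.Limits AlgebraicGeometry in
/-- Let S be a separated Noetherian scheme, q : X → S finite and surjective with X separated, and G a
finite group acting on X by S-automorphisms. Assume that G acts transitively on every fibre of q,
that each residue field extension k(x)/k(q x) is normal, and that for each x every k(q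
x)-automorphism of k(x) is induced by an element of G fixing x. Then for every algebraically closed
field Ω, any two Ω-points of X with the same composite to S are conjugate under G. -/
theorem result {X S : Scheme.{u}} [IsNoetherian S] [S.IsSeparated] [X.IsSeparated] (q : X ⟶ S) [IsFinite q] [Surjective q] {G : Type u} [Group G] [Finite G] (ρ : G →* Aut X) (hρ : ∀ g : G, (ρ g).hom ≫ q = q) (h1 : ∀ x y : X, q x = q y → ∃ g : G, (ρ g).hom x = y) (h2 : ∀ x : X, @Normal (S.residueField (q x)) (X.residueField x) _ _ (q.residueFieldMap x).hom.toAlgebra) (h3 : ∀ (x : X) (σ : X.residueField x ≅ X.residueField x), q.residueFieldMap x ≫ σ.hom = q.residueFieldMap x → ∃ g : G, X.fromSpecResidueField x ≫ (ρ g).hom = Spec.map σ.hom ≫ X.fromSpecResidueField x) (Ω : Type u) [Field Ω] [IsAlgClosed Ω] (τ₁ τ₂ : Spec (CommRingCat.of Ω) ⟶ X) (hτ : τ₁ ≫ q = τ₂ ≫ q) : ∃ g : G, τ₁ ≫ (ρ g).hom = τ₂ := by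
  classical
  have hfac : ∀ τ : Spec (CommRingCat.of Ω) ⟶ X, ∃ (x : X) (φ : X.residueField x ⟶ CommRingCat.of Ω),
      Spec.map φ ≫ X.fromSpecResidueField x = τ := fun τ =>
    ⟨_, _, Scheme.descResidueField_stalkClosedPointTo_fromSpecResidueField Ω X τ⟩
  obtain ⟨x₁, φ₀, hφ₀⟩ := hfac τ₁
  obtain ⟨x, ψ, hψ⟩ := hfac τ₂
  have hpt : q x₁ = q x := by
    have := congrArg (fun f => f.base (IsLocalRing.closedPoint Ω)) hτ
    simp only [← hφ₀, ← hψ, Category.assoc] at this
    simp only [Scheme.Hom.comp_apply, Scheme.fromSpecResidueField_apply] at this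
    exact this
  obtain ⟨g₀, hg₀⟩ := h1 x₁ x hpt
  obtain ⟨y, φ, hφ⟩ := hfac (τ₁ ≫ (ρ g₀).hom)
  obtain rfl : y = x := by
    have := congrArg (fun f => f.base (IsLocalRing.closedPoint Ω)) hφ
    simp only [← hφ₀, Category.assoc] at this
    simp only [Scheme.Hom.comp_apply, Scheme.fromSpecResidueField_apply] at this
    exact this.trans hg₀
  have hk : q.residueFieldMap y ≫ φ = q.residueFieldMap y ≫ ψ := by
    apply Spec.map_injective
    rw [← cancel_mono (S.fromSpecResidueField (q y)), Spec.map_comp, Spec.map_comp, Category.assoc,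
      Category.assoc, Scheme.Hom.SpecMap_residueFieldMap_fromSpecResidueField, reassoc_of% hφ,
      reassoc_of% hψ, hρ, hτ]
  let k := S.residueField (q y)
  let E := X.residueField y
  letI : Algebra k E := (q.residueFieldMap y).hom.toAlgebra
  letI : Algebra E Ω := φ.hom.toAlgebra
  letI : Algebra k Ω := (q.residueFieldMap y ≫ φ).hom.toAlgebra
  haveI : IsScalarTower k E Ω := IsScalarTower.of_algebraMap_eq' rfl
  haveI : Normal k E := h2 y
  let ψ' : E →ₐ[k] Ω := AlgHom.mk ψ.hom fun a =>
    (RingHom.congr_fun (congrArg CommRingCat.Hom.hom hk) a).symm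
  let σ : E ≃ₐ[k] E := AlgHom.restrictNormal' ψ' E
  have hσ : ∀ a, φ.hom (σ a) = ψ.hom a := fun a => AlgHom.restrictNormal_commutes ψ' E a
  let σ' : E ≅ E := σ.toRingEquiv.toCommRingCatIso
  obtain ⟨g, hg⟩ := h3 y σ' (CommRingCat.hom_ext (RingHom.ext fun a => σ.commutes a))
  refine ⟨g * g₀, ?_⟩
  rw [map_mul, Aut.Aut_mul_def, Iso.trans_hom, ← Category.assoc, ← hφ, Category.assoc, hg, ← Category.assoc,
    ← Spec.map_comp, ← hψ]
  congr 2
  exact CommRingCat.hom_ext (RingHom.ext hσ)

end Groth.Agent.S13741
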