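import Groth.Statements.S13742
import Groth.Agent.PropsBasic2.StalkFlat
-- import your own Groth.Agent.* helpers here

set_option autoImplicit false
universe u
open Cyc

namespace Groth.Agent.S13742

open CategoryTheory CategoryTheory.Limits AlgebraicGeometry in
/-- Let S be a separated Noetherian scheme, f : X → S separated of finite type, z a point of X mapping
to a generic point of an irreducible component of S, and ι : Z → X a closed immersion from a reduced
scheme with image the closure of z (the closure of z with its reduced structure). Then Z ×_S Spec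
k(f z) is an integral scheme, and its image in the fibre X ×_S Spec k(f z) is the closure of the
unique point w of that fibre lying over z: Z ×_S Spec k(f z) is the closure of z in its fibre, with
reduced structure. -/
theorem result {X S Z : Scheme.{u}} [IsNoetherian S] [S.IsSeparated] [X.IsSeparated] (f : X ⟶ S) [LocallyOfFiniteType f] [QuasiCompact f] (z : X) (hz : closure {f z} ∈ irreducibleComponents ↥S) (ι : Z ⟶ X) [IsClosedImmersion ι] [IsReduced Z] (hZ : Set.range ι = closure {z}) : IsIntegral (pullback (ι ≫ f) (S.fromSpecResidueField (f z))) ∧ ∃ w : ↥(pullback f (S.fromSpecResidueField (f z))), pullback.fst f (S.fromSpecResidueField (f z)) w = z ∧ Set.range (pullback.map (ι ≫ f) (S.fromSpecResidueField (f z)) f (S.fromSpecResidueField (f z)) ι (𝟙 _) (𝟙 S) (Category.comp_id _) ((Category.comp_id _).trans (Category.id_comp _).symm)) = closure {w} := by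
  classical
  let η := f z
  let p := ι ≫ f
  obtain ⟨z', hz'⟩ : z ∈ Set.range ι := hZ ▸ subset_closure rfl
  have hzall : ∀ x : Z, z' ⤳ x := fun x => by
    rw [← ι.isEmbedding.isInducing.specializes_iff, specializes_iff_mem_closure, hz', ← hZ]
    exact Set.mem_range_self x
  have hgen : ∀ y : S, y ⤳ η → y = η := by
    intro y hy
    have h1 : closure {η} ⊆ closure {y} :=
      closure_minimal (Set.singleton_subset_iff.2 (specializes_iff_mem_closure.1 hy)) isClosed_closure
    have h2 : closure {y} ⊆ closure {η} := hz.2 isIrreducible_singleton.closure h1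
    exact (hy.antisymm (specializes_iff_mem_closure.2 (h2 (subset_closure rfl)))).eq
  haveI : Subsingleton (Spec (S.presheaf.stalk η)) := ⟨fun a b => by
    have h : ∀ c, S.fromSpecStalk η c = η := fun c => hgen _ (Scheme.range_fromSpecStalk.le ⟨c, rfl⟩)
    exact (S.fromSpecStalk η).isEmbedding.injective ((h a).trans (h b).symm)⟩
  haveI : IsClosedImmersion (Spec.map (S.residue η)) :=
    IsClosedImmersion.spec_of_surjective _ (Ideal.Quotient.mk_surjective)
  haveI : Surjective (Spec.map (S.residue η)) := ⟨fun c => ⟨default, Subsingleton.elim _ _⟩⟩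
  haveI := Groth.PropsBasic2.flat_fromSpecStalk (X := S) η
  let P₀ := pullback p (S.fromSpecStalk η)
  haveI : IsPreimmersion (pullback.fst p (S.fromSpecStalk η)) :=
    MorphismProperty.pullback_fst (P := @IsPreimmersion) _ _ inferInstance
  haveI : ∀ w : P₀, _root_.IsReduced (P₀.presheaf.stalk w) := fun w => by
    let π := pullback.fst p (S.fromSpecStalk η)
    haveI : Flat π := inferInstance
    have hinj : Function.Injective (π.stalkMap w) := by
      algebraize [(π.stalkMap w).hom]
      have : Module.Flat (Z.presheaf.stalk (π w)) (P₀.presheaf.stalk w) := Flat.stalkMap _ w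
      have : IsLocalHom (algebraMap (Z.presheaf.stalk (π w)) (P₀.presheaf.stalk w)) :=
        inferInstanceAs (IsLocalHom (π.stalkMap w).hom)
      have := Module.FaithfullyFlat.of_flat_of_isLocalHom
        (A := Z.presheaf.stalk (π w)) (B := P₀.presheaf.stalk w)
      exact FaithfulSMul.algebraMap_injective _ _
    exact isReduced_of_injective (RingEquiv.ofBijective (π.stalkMap w).hom ⟨hinj, π.stalkMap_surjective w⟩).symm
      (RingEquiv.injective _)
  haveI : IsReduced P₀ := isReduced_of_isReduced_stalk P₀
  let F := pullback p (S.fromSpecResidueField η)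
  let j : F ⟶ P₀ := pullback.lift (pullback.fst p (S.fromSpecResidueField η))
    (pullback.snd p (S.fromSpecResidueField η) ≫ Spec.map (S.residue η))
    (by rw [pullback.condition, Category.assoc]; rfl)
  have hj : IsPullback j (pullback.snd p (S.fromSpecResidueField η)) (pullback.snd p (S.fromSpecStalk η))
      (Spec.map (S.residue η)) := by
    refine IsPullback.of_right (h₁₂ := pullback.fst p (S.fromSpecStalk η)) (v₁₃ := p) (h₂₂ := S.fromSpecStalk η) ?_
      (pullback.lift_snd _ _ _) (IsPullback.of_hasPullback p (S.fromSpecStalk η))
    rw [pullback.lift_fst]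
    exact IsPullback.of_hasPullback p (S.fromSpecResidueField η)
  haveI : IsClosedImmersion j := MorphismProperty.of_isPullback (P := @IsClosedImmersion) hj.flip inferInstance
  haveI : Surjective j := MorphismProperty.of_isPullback (P := @Surjective) hj.flip inferInstance
  haveI := isIso_of_isClosedImmersion_of_surjective j
  haveI : IsReduced F := isReduced_of_isOpenImmersion j
  obtain ⟨w', hw'⟩ : z' ∈ Set.range (pullback.fst p (S.fromSpecResidueField η)) := by
    rw [Scheme.Pullback.range_fst, Scheme.range_fromSpecResidueField]
    show p z' = η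
    rw [Scheme.Hom.comp_apply, hz']
  have hwall : ∀ x : F, w' ⤳ x := fun x => by
    rw [← (pullback.fst p (S.fromSpecResidueField η)).isEmbedding.isInducing.specializes_iff, hw']
    exact hzall _
  haveI : IrreducibleSpace F :=
    { isPreirreducible_univ :=
        (show IsGenericPoint w' (Set.univ : Set F) from Set.eq_univ_of_forall fun x => (hwall x).mem_closure).isIrreducible.isPreirreducible
      toNonempty := ⟨w'⟩ }
  refine ⟨isIntegral_of_irreducibleSpace_of_isReduced F, ?_⟩
  let M := pullback.map p (S.fromSpecResidueField η) f (S.fromSpecResidueField η) ι (𝟙 _) (𝟙 S)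
    (Category.comp_id _) ((Category.comp_id _).trans (Category.id_comp _).symm)
  haveI : IsClosedImmersion M := MorphismProperty.pullbackMap (P := @IsClosedImmersion) inferInstance inferInstance
    rfl (Category.id_comp _).symm
  refine ⟨M w', ?_, Set.Subset.antisymm ?_ ?_⟩
  · rw [← Scheme.Hom.comp_apply, pullback.lift_fst, Scheme.Hom.comp_apply]
    exact (congrArg ι hw').trans hz'
  · rintro _ ⟨x, rfl⟩
    exact ((hwall x).map M.continuous).mem_closure
  · exact closure_minimal (Set.singleton_subset_iff.2 ⟨w', rfl⟩) M.isClosedEmbedding.isClosed_range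

end Groth.Agent.S13742
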