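import Groth.Statements.S13746
import Groth.Agent.FlatMorOne.DVRFibre
import Mathlib.AlgebraicGeometry.Morphisms.Proper
import Mathlib.RingTheory.Polynomial.ScaleRoots
-- import your own Groth.Agent.* helpers here

set_option autoImplicit false
universe u
open CategoryTheory AlgebraicGeometry
open SemiFact

namespace Groth.Agent.S13746
open CategoryTheory.Limits

section aux
variable {R : Type u} [CommRing R]

/-- the pullback of a scalar to an open of an `R`-scheme -/
noncomputable def tVal {Z : Scheme.{u}} (h : Z ⟶ Spec (CommRingCat.of R)) (ϖ : R) (U : Z.Opens) : Γ(Z, U) :=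
  h.appLE ⊤ U (show U ≤ h ⁻¹ᵁ ⊤ from fun _ _ => trivial) ((Scheme.ΓSpecIso (CommRingCat.of R)).inv ϖ)

lemma tVal_res {Z : Scheme.{u}} (h : Z ⟶ Spec (CommRingCat.of R)) (ϖ : R) {U V : Z.Opens} (i : V ≤ U) :
    Z.presheaf.map (homOfLE i).op (tVal h ϖ U) = tVal h ϖ V := by
  rw [tVal, ← CommRingCat.comp_apply, Scheme.Hom.appLE_map]
  rfl

lemma basicOpen_tVal {Z : Scheme.{u}} (h : Z ⟶ Spec (CommRingCat.of R)) (ϖ : R) (U : Z.Opens) :
    Z.basicOpen (tVal h ϖ U) = U ⊓ h ⁻¹ᵁ (Spec (CommRingCat.of R)).basicOpen ((Scheme.ΓSpecIso (CommRingCat.of R)).inv ϖ) := by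
  rw [show tVal h ϖ U = Z.presheaf.map (homOfLE (show U ≤ h ⁻¹ᵁ ⊤ from fun _ _ => trivial)).op (h.app ⊤ ((Scheme.ΓSpecIso (CommRingCat.of R)).inv ϖ)) from rfl]
  refine (Z.basicOpen_res _ _).trans ?_
  rw [Scheme.preimage_basicOpen]

variable [IsDomain R]

lemma tVal_regular {Z : Scheme.{u}} (h : Z ⟶ Spec (CommRingCat.of R)) [Flat h] {ϖ : R} (hϖ : ϖ ≠ 0) {W : Z.Opens}
    (hW : IsAffineOpen W) {a : Γ(Z, W)} (ha : tVal h ϖ W * a = 0) : a = 0 := by
  have h1 : RingHom.Flat ((Scheme.ΓSpecIso (CommRingCat.of R)).inv ≫ h.appLE ⊤ W (show W ≤ h ⁻¹ᵁ ⊤ from fun _ _ => trivial)).hom :=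
    RingHom.Flat.comp (RingHom.Flat.of_bijective (Scheme.ΓSpecIso (CommRingCat.of R)).symm.commRingCatIsoToRingEquiv.bijective)
      (HasRingHomProperty.appLE @Flat h inferInstance ⟨⊤, isAffineOpen_top _⟩ ⟨W, hW⟩ (show W ≤ h ⁻¹ᵁ ⊤ from fun _ _ => trivial))
  algebraize [((Scheme.ΓSpecIso (CommRingCat.of R)).inv ≫ h.appLE ⊤ W (show W ≤ h ⁻¹ᵁ ⊤ from fun _ _ => trivial)).hom]
  have h2 : Module.Flat R Γ(Z, W) := h1
  exact ((Module.Flat.isSMulRegular_of_nonZeroDivisors (M := Γ(Z, W)) (mem_nonZeroDivisors_iff_ne_zero.mpr hϖ))).right_eq_zero_of_smul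
    (by rw [Algebra.smul_def]; exact ha)

lemma eq_zero_of_res {Z : Scheme.{u}} (h : Z ⟶ Spec (CommRingCat.of R)) [Flat h] {ϖ : R} (hϖ : ϖ ≠ 0) {U : Z.Opens}
    (s : Γ(Z, U)) (hs : Z.presheaf.map (homOfLE (inf_le_left : U ⊓ h ⁻¹ᵁ (Spec (CommRingCat.of R)).basicOpen ((Scheme.ΓSpecIso (CommRingCat.of R)).inv ϖ) ≤ U)).op s = 0) :
    s = 0 := by
  refine TopCat.Presheaf.section_ext Z.sheaf U s 0 fun z hz => ?_
  obtain ⟨_, ⟨W, hW, rfl⟩, hzW, hWU'⟩ :=
    Z.isBasis_affineOpens.exists_subset_of_mem_open hz U.2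
  have hWU : W ≤ U := hWU'
  have hle : Z.basicOpen (tVal h ϖ W) ≤ U ⊓ h ⁻¹ᵁ (Spec (CommRingCat.of R)).basicOpen ((Scheme.ΓSpecIso (CommRingCat.of R)).inv ϖ) :=
    (basicOpen_tVal h ϖ W).le.trans (inf_le_inf_right _ hWU)
  have h0 : Z.presheaf.map (homOfLE (Z.basicOpen_le (tVal h ϖ W))).op (Z.presheaf.map (homOfLE hWU).op s) = 0 := by
    have := congrArg (Z.presheaf.map (homOfLE hle).op) hs
    rw [map_zero, ← CommRingCat.comp_apply, ← Functor.map_comp] at this
    rw [← CommRingCat.comp_apply, ← Functor.map_comp]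
    exact this
  obtain ⟨n, hn⟩ := exists_pow_mul_eq_zero_of_res_basicOpen_eq_zero_of_isCompact Z hW.isCompact
    (Z.presheaf.map (homOfLE hWU).op s) (tVal h ϖ W) h0
  have h1 : Z.presheaf.map (homOfLE hWU).op s = 0 := by
    induction n with
    | zero => rwa [pow_zero, one_mul] at hn
    | succ n ih => exact ih (tVal_regular h hϖ hW (by rw [← mul_assoc, ← pow_succ']; exact hn))
  refine (TopCat.Presheaf.germ_res_apply Z.presheaf (homOfLE hWU) z hzW s).symm.trans ?_
  exact (congrArg _ h1).trans ((map_zero _).trans (map_zero _).symm)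

end aux

/-- Let R be a discrete valuation ring with fraction field K, let X and Y be schemes flat over Spec R
and let π : Y → X be a proper morphism over Spec R whose base change along Spec K → Spec R is an
isomorphism. If the fibre of X over the closed point of Spec R is reduced, then the canonical map
O_X → π_* O_Y is an isomorphism: for every open V ⊆ X the ring map O_X(V) → O_Y(π⁻¹ V) is bijective. -/
theorem result
    (R : Type u) [CommRing R] [IsDomain R] [IsDiscreteValuationRing R]
    (X Y : Over (Spec (CommRingCat.of R))) [Flat X.hom] [Flat Y.hom]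
    (π : Y ⟶ X) [IsProper π.left]
    (hgen : IsIso ((Neron.genericFibre R).map π))
    [IsReduced (X.hom.fiber (IsLocalRing.closedPoint R))] :
    ∀ V : X.left.Opens, IsIso (π.left.app V) := by
  obtain ⟨ϖ, hϖ⟩ := IsDiscreteValuationRing.exists_irreducible R
  let f := X.hom
  let g := Y.hom
  have w : π.left ≫ f = g := Over.w π
  let E : X.left.Opens := f ⁻¹ᵁ (Spec (CommRingCat.of R)).basicOpen ((Scheme.ΓSpecIso (CommRingCat.of R)).inv ϖ)
  have hEg : π.left ⁻¹ᵁ E = g ⁻¹ᵁ (Spec (CommRingCat.of R)).basicOpen ((Scheme.ΓSpecIso (CommRingCat.of R)).inv ϖ) := by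
    rw [← w]; rfl
  have hEiso : IsIso (π.left ∣_ E) := by
    have hAway : IsLocalization.Away ϖ (FractionRing R) := by
      have hu : IsUnit (algebraMap R (FractionRing R) ϖ) := IsUnit.mk0 _ (by simpa using hϖ.ne_zero)
      refine IsLocalization.Away.mk ϖ hu (fun z => ?_) (fun a b hab => ⟨0, by simpa using IsFractionRing.injective R _ hab⟩)
      obtain ⟨a, b, hb, rfl⟩ := IsFractionRing.div_surjective (A := R) z
      obtain ⟨n, v, rfl⟩ := IsDiscreteValuationRing.eq_unit_mul_pow_irreducible (nonZeroDivisors.ne_zero hb) hϖ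
      refine ⟨n, a * (↑v⁻¹ : R), ?_⟩
      have h2 := hu.ne_zero
      have hw : algebraMap R (FractionRing R) ↑v⁻¹ = (algebraMap R (FractionRing R) ↑v)⁻¹ :=
        map_units_inv (algebraMap R _) v
      rw [map_mul, map_mul, map_pow, hw, div_mul_eq_mul_div, mul_div_mul_right _ _ (pow_ne_zero n h2), div_eq_mul_inv]
    have : IsOpenImmersion (Neron.genPt R) := IsOpenImmersion.of_isLocalization ϖ
    have hr : (Neron.genPt R).opensRange = (Spec (CommRingCat.of R)).basicOpen ((Scheme.ΓSpecIso (CommRingCat.of R)).inv ϖ) := by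
      rw [basicOpen_eq_of_affine]
      exact TopologicalSpace.Opens.ext (PrimeSpectrum.localization_away_comap_range (FractionRing R) ϖ)
    let q := pullback.fst f (Neron.genPt R)
    have hq : q.opensRange = E := by rw [Scheme.Hom.opensRange_pullbackFst, hr]
    have hsnd : IsIso (pullback.snd π.left q) := by
      have hK : IsIso ((Neron.genericFibre R).map π).left :=
        inferInstanceAs (IsIso ((Over.forget _).map ((Neron.genericFibre R).map π)))
      let e := pullbackRightPullbackFstIso f (Neron.genPt R) π.left ≪≫ pullback.congrHom w rfl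
      have : pullback.snd π.left q = e.hom ≫ ((Neron.genericFibre R).map π).left := by
        apply pullback.hom_ext
        · simp only [e, q, f, g, Iso.trans_hom, pullback.congrHom_hom, Category.assoc]
          erw [pullback.lift_fst, pullback.lift_fst_assoc]
          simp only [Category.comp_id, Category.assoc]
          erw [pullbackRightPullbackFstIso_hom_fst_assoc]
          exact pullback.condition.symm
        · simp only [e, q, f, g, Iso.trans_hom, pullback.congrHom_hom, Category.assoc]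
          erw [pullback.lift_snd, pullback.lift_snd]
          simp only [Category.comp_id]
          erw [pullbackRightPullbackFstIso_hom_snd]
      rw [this]
      infer_instance
    have := ((MorphismProperty.isomorphisms Scheme.{u}).arrow_mk_iso_iff (morphismRestrictOpensRange π.left q)).mpr hsnd
    rw [hq] at this
    exact this
  have hsmall : ∀ U : X.left.Opens, U ≤ E → IsIso (π.left.app U) := by
    intro U hU
    have h1 : E.ι ''ᵁ E.ι ⁻¹ᵁ U = U := by
      rw [Scheme.Hom.image_preimage_eq_opensRange_inf, Scheme.Opens.opensRange_ι, inf_eq_right.mpr hU]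
    have h2 : IsIso ((π.left ∣_ E).app (E.ι ⁻¹ᵁ U)) := inferInstance
    rw [morphismRestrict_app] at h2
    have h3 : IsIso (π.left.app (E.ι ''ᵁ E.ι ⁻¹ᵁ U)) := @IsIso.of_isIso_comp_right _ _ _ _ _ _
      (Y.left.presheaf.map (eqToHom (image_morphismRestrict_preimage π.left E (E.ι ⁻¹ᵁ U))).op) inferInstance h2
    rwa [h1] at h3
  have hinj : ∀ U : X.left.Opens, Function.Injective (π.left.app U) := by
    intro U
    refine (injective_iff_map_eq_zero _).mpr fun a ha => eq_zero_of_res f hϖ.ne_zero a ?_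
    have := hsmall (U ⊓ E) inf_le_right
    refine ((ConcreteCategory.isIso_iff_bijective (π.left.app (U ⊓ E))).mp this).1 ?_
    rw [map_zero, ← CommRingCat.comp_apply, π.left.naturality, CommRingCat.comp_apply, ha, map_zero]
  have haff : ∀ V : X.left.Opens, IsAffineOpen V → Function.Surjective (π.left.app V) := by
    intro V hV b
    obtain ⟨φ, hφ, hreg, hrad⟩ := Groth.FlatMorOne.exists_algebra_of_affine f inferInstance hV.fromSpec hϖ
    have hφe : φ = (Scheme.ΓSpecIso (CommRingCat.of R)).inv ≫ f.appLE ⊤ V (show V ≤ f ⁻¹ᵁ ⊤ from fun _ _ => trivial) := by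
      refine Spec.map_injective ?_
      rw [← hφ, Spec.map_comp, ← (isAffineOpen_top (Spec (CommRingCat.of R))).SpecMap_appLE_fromSpec f hV (show V ≤ f ⁻¹ᵁ ⊤ from fun _ _ => trivial), IsAffineOpen.fromSpec_top,
        Scheme.isoSpec_Spec_inv]
    have ht : φ ϖ = tVal f ϖ V := by rw [hφe]; rfl
    let t := tVal f ϖ V
    have htB : π.left.app V t = tVal g ϖ (π.left ⁻¹ᵁ V) := by
      simp only [t, tVal, ← CommRingCat.comp_apply]
      congr 2
      simp only [← w]
      rw [Scheme.Hom.app_eq_appLE, Scheme.Hom.appLE_comp_appLE]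
    have hD : X.left.basicOpen t ≤ E := (basicOpen_tVal f ϖ V).le.trans inf_le_right
    obtain ⟨a', ha'⟩ := ((ConcreteCategory.isIso_iff_bijective _).mp (hsmall _ hD)).2
      (Y.left.presheaf.map (homOfLE (π.left.preimage_mono (X.left.basicOpen_le t))).op b)
    have := hV.isLocalization_basicOpen t
    obtain ⟨a, ⟨_, n, rfl⟩, rfl⟩ := IsLocalization.exists_mk'_eq (Submonoid.powers t) a'
    have key : π.left.app V a = π.left.app V t ^ n * b := by
      refine sub_eq_zero.mp (eq_zero_of_res g hϖ.ne_zero _ ?_)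
      have hle : π.left ⁻¹ᵁ V ⊓ g ⁻¹ᵁ (Spec (CommRingCat.of R)).basicOpen ((Scheme.ΓSpecIso (CommRingCat.of R)).inv ϖ) ≤
          π.left ⁻¹ᵁ X.left.basicOpen t := by
        rw [← hEg, basicOpen_tVal, Scheme.Hom.preimage_inf]
      have h1 : Y.left.presheaf.map (homOfLE (π.left.preimage_mono (X.left.basicOpen_le t))).op (π.left.app V a) =
          Y.left.presheaf.map (homOfLE (π.left.preimage_mono (X.left.basicOpen_le t))).op (π.left.app V t ^ n * b) := by
        rw [map_mul, map_pow, ← ha']
        have hn : ∀ c, Y.left.presheaf.map (homOfLE (π.left.preimage_mono (X.left.basicOpen_le t))).op (π.left.app V c) =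
            π.left.app (X.left.basicOpen t) (X.left.presheaf.map (homOfLE (X.left.basicOpen_le t)).op c) := fun c => by
          rw [← CommRingCat.comp_apply, ← CommRingCat.comp_apply]
          exact congr($((π.left.naturality (homOfLE (X.left.basicOpen_le t)).op).symm) c)
        rw [hn, hn, ← map_pow, ← map_mul, ← map_pow]
        congr 1
        exact (IsLocalization.mk'_spec' _ a (⟨t ^ n, n, rfl⟩ : Submonoid.powers t)).symm
      have hrr : ∀ x, Y.left.presheaf.map (homOfLE hle).op
          (Y.left.presheaf.map (homOfLE (π.left.preimage_mono (X.left.basicOpen_le t))).op x) =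
            Y.left.presheaf.map (homOfLE inf_le_left).op x := fun x => by
        rw [← CommRingCat.comp_apply, ← Functor.map_comp]
        rfl
      rw [map_sub, sub_eq_zero]
      exact (hrr _).symm.trans ((congrArg _ h1).trans (hrr _))
    have hint : (π.left.app V).hom.IsIntegralElem b := by
      have : IsAffine (V : Scheme.{u}) := hV
      have h1 := isIntegral_appTop_of_universallyClosed (π.left ∣_ V)
      rw [morphismRestrict_appTop] at h1
      have h2 : RingHom.IsIntegral (π.left.app (V.ι ''ᵁ ⊤)).hom := by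
        let e := (asIso (Y.left.presheaf.map (eqToHom (image_morphismRestrict_preimage π.left V ⊤)).op)).commRingCatIsoToRingEquiv
        intro x
        obtain ⟨p, hp, hp0⟩ := h1 (e x)
        exact ⟨p, hp, e.injective ((Polynomial.hom_eval₂ p _ e.toRingHom x).trans (hp0.trans (map_zero e).symm))⟩
      rw [Scheme.Opens.ι_image_top] at h2
      exact h2 b
    clear ha'
    induction n generalizing a with
    | zero => exact ⟨a, by rw [key, pow_zero, one_mul]⟩
    | succ n ih =>
      obtain ⟨p, hp, hp0⟩ := hint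
      let q := p.scaleRoots (t ^ (n + 1))
      have hq : q.eval a = 0 := by
        refine hinj V ?_
        rw [map_zero, ← Polynomial.eval₂_at_apply, key, ← map_pow, Polynomial.scaleRoots_eval₂_mul, hp0, mul_zero]
      have hdvd : t ∣ a ^ p.natDegree := by
        rw [Polynomial.eval_eq_sum_range, Polynomial.natDegree_scaleRoots, Finset.sum_range_succ] at hq
        have hlast : q.coeff p.natDegree = 1 := by simp [q, Polynomial.coeff_scaleRoots, hp.coeff_natDegree]
        rw [hlast, one_mul] at hq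
        rw [eq_neg_of_add_eq_zero_right hq]
        refine (Finset.dvd_sum fun i hi => Dvd.dvd.mul_right ?_ _).neg_right
        rw [Polynomial.coeff_scaleRoots]
        refine Dvd.dvd.mul_left ?_ _
        rw [← pow_mul]
        exact dvd_pow_self t (Nat.mul_ne_zero (Nat.succ_ne_zero n) (by have := Finset.mem_range.mp hi; omega))
      obtain ⟨a₁, rfl⟩ : t ∣ a := by
        have := hrad a p.natDegree
        rw [ht] at this
        exact this hdvd
      refine ih a₁ ?_
      refine sub_eq_zero.mp (eq_zero_of_res g hϖ.ne_zero _ ?_)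
      rw [map_mul, pow_succ', mul_assoc] at key
      have hunit : IsUnit (Y.left.presheaf.map (homOfLE (inf_le_left : π.left ⁻¹ᵁ V ⊓ g ⁻¹ᵁ (Spec (CommRingCat.of R)).basicOpen ((Scheme.ΓSpecIso (CommRingCat.of R)).inv ϖ) ≤ _)).op (π.left.app V t)) := by
        rw [htB, tVal_res]
        refine RingedSpace.isUnit_of_isUnit_germ _ _ _ fun z hz => ?_
        have hzb : z ∈ Y.left.basicOpen (tVal g ϖ (π.left ⁻¹ᵁ V ⊓ g ⁻¹ᵁ (Spec (CommRingCat.of R)).basicOpen ((Scheme.ΓSpecIso (CommRingCat.of R)).inv ϖ))) := by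
          rw [basicOpen_tVal]; exact ⟨hz, hz.2⟩
        exact (Scheme.mem_basicOpen Y.left _ z hz).mp hzb
      have h6 := congrArg (Y.left.presheaf.map (homOfLE (inf_le_left : π.left ⁻¹ᵁ V ⊓ g ⁻¹ᵁ (Spec (CommRingCat.of R)).basicOpen ((Scheme.ΓSpecIso (CommRingCat.of R)).inv ϖ) ≤ _)).op) key
      rw [map_mul, map_mul] at h6
      rw [map_sub, sub_eq_zero]
      exact hunit.mul_left_cancel h6
  intro V
  refine (ConcreteCategory.isIso_iff_bijective _).mpr ⟨hinj V, fun b => ?_⟩
  let W := fun W : {W : X.left.affineOpens // W.1 ≤ V} => W.1.1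
  choose c hc using fun W : {W : X.left.affineOpens // W.1 ≤ V} =>
    haff W.1.1 W.1.2 (Y.left.presheaf.map (homOfLE (π.left.preimage_mono W.2)).op b)
  have hnat : ∀ {U U' : X.left.Opens} (i : U' ≤ U) (a : Γ(X.left, U)),
      π.left.app U' (X.left.presheaf.map (homOfLE i).op a) =
        Y.left.presheaf.map (homOfLE (π.left.preimage_mono i)).op (π.left.app U a) := fun i a => by
    rw [← CommRingCat.comp_apply, ← CommRingCat.comp_apply]
    exact congr($(π.left.naturality (homOfLE i).op) a)
  have hcover : V ≤ ⨆ W' : {W : X.left.affineOpens // W.1 ≤ V}, W'.1.1 := by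
    intro x hx
    obtain ⟨_, ⟨W', hW', rfl⟩, hxW, hsub⟩ := X.left.isBasis_affineOpens.exists_subset_of_mem_open hx V.2
    exact TopologicalSpace.Opens.mem_iSup.mpr ⟨⟨⟨W', hW'⟩, hsub⟩, hxW⟩
  obtain ⟨a, ha, -⟩ := TopCat.Sheaf.existsUnique_gluing' X.left.sheaf W V (fun W => homOfLE W.2) hcover c
    (fun i j => hinj _ (by
      erw [hnat, hnat, hc, hc]
      rw [← CommRingCat.comp_apply, ← CommRingCat.comp_apply, ← Functor.map_comp, ← Functor.map_comp]
      rfl))
  refine ⟨a, TopCat.Sheaf.eq_of_locally_eq' Y.left.sheaf (fun W' => π.left ⁻¹ᵁ (W W')) _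
    (fun W' => homOfLE (π.left.preimage_mono W'.2)) ?_ _ _ fun W' => ?_⟩
  · intro y hy
    obtain ⟨W', hW'⟩ := TopologicalSpace.Opens.mem_iSup.mp (hcover hy)
    exact TopologicalSpace.Opens.mem_iSup.mpr ⟨W', hW'⟩
  · exact ((hnat W'.2 a).symm.trans (congrArg (π.left.app W'.1.1) (ha W'))).trans (hc W')

end Groth.Agent.S13746
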