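import Groth.Statements.S13749
import Groth.Agent.NeronArea.StalkGlue
import Groth.Agent.NeronArea.GenericDense
import Groth.Agent.NeronArea.MappingDescent


set_option autoImplicit false
universe u
open CategoryTheory AlgebraicGeometry
open Neron

namespace Groth.Agent.S13749

/-- Let S be a locally Noetherian scheme, U ⊆ S a schematically dense open subscheme, N → S a smooth
separated morphism of finite type and g : S' → S a flat surjective morphism, and put U' = g⁻¹(U).
Suppose the base change N ×_S S' → S' has the Néron mapping property with respect to U': for every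
smooth S'-scheme Y', sending an S'-morphism Y' → N ×_S S' to its restriction over U' is a bijection
onto the U'-morphisms Y' ×_{S'} U' → (N ×_S S') ×_{S'} U'. Then N → S has the Néron mapping property
with respect to U: for every smooth S-scheme Y, restriction to U is a bijection from S-morphisms Y →
N onto U-morphisms Y ×_S U → N ×_S U. (The published statement is for an arbitrary base S and open
U, with N an algebraic space which is a model of an abelian scheme over U, tested against smooth
schemes; this row takes N a scheme, drops the abelian-scheme hypothesis, and assumes S locally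
Noetherian with U schematically dense, the setting in which schematic closures of U-sections commute
with flat base change and fill S'.) -/
theorem result
    {S S' : Scheme.{u}} [IsLocallyNoetherian S] (g : S' ⟶ S) [Flat g] [Surjective g]
    (U : S.Opens) (hU : CInt.IsSchematicallyDense U)
    (N : Over S) [Smooth N.hom] [IsSeparated N.hom] [QuasiCompact N.hom]
    (hN' : ∀ Y' : Over S', Smooth Y'.hom →
      Function.Bijective (fun f : Y' ⟶ (Over.pullback g).obj N => (Over.pullback (g ⁻¹ᵁ U).ι).map f))
    (Y : Over S) [Smooth Y.hom] :
    Function.Bijective (fun f : Y ⟶ N => (Over.pullback U.ι).map f) := by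
  open CategoryTheory.Limits in
  haveI : IsSchemeTheoreticallyDominant U.ι := Groth.GrpschAbsch.isSchemeTheoreticallyDominant_ι U hU
  refine ⟨Groth.NeronArea.map_injective_of_flat U.ι Y N, ?_⟩
  refine ((Groth.NeronArea.bijective_map_iff U.ι Y N).2 ⟨?_, fun u => ?_⟩).2
  · intro a b hab
    exact Groth.NeronArea.map_injective_of_flat U.ι Y N ((Groth.NeronArea.map_eq_iff U.ι a b).2 hab)
  let Y' : Over S' := (Over.pullback g).obj Y
  let Z : Over S := (Over.map g).obj Y'
  haveI : Smooth Y'.hom := inferInstanceAs (Smooth (pullback.snd Y.hom g))
  let π : Z ⟶ Y := Over.homMk (pullback.fst Y.hom g) pullback.condition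
  have hZ := (Groth.NeronArea.bijective_map_iff U.ι Z N).1
    ((Groth.NeronArea.bijective_baseChange_iff U.ι g (g ⁻¹ᵁ U).ι
      (isPullback_morphismRestrict g U) Y' N).1 (hN' Y' inferInstance))
  obtain ⟨f', hf'⟩ := hZ.2 (Groth.NeronArea.rstMap U.ι π ≫ u)
  have hf'l : pullback.fst Z.hom U.ι ≫ f'.left = (Groth.NeronArea.rstMap U.ι π).left ≫ u.left :=
    congrArg CommaMorphism.left hf'
  obtain ⟨G, hG, hGu⟩ := Groth.NeronArea.exists_extension_of_flat_surjective U.ι Y.hom N.hom
    (IsPullback.of_hasPullback Y.hom U.ι) (pullback.fst Y.hom g)
    (by
      have e : pullback.fst Y.hom g ≫ Y.hom = Z.hom := pullback.condition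
      rw [e]
      exact IsPullback.of_hasPullback Z.hom U.ι)
    u.left (Over.w u) f'.left ((Over.w f').trans pullback.condition.symm) (fun t w htw => by
      rw [hf'l, ← Category.assoc]
      congr 1
      rw [← cancel_mono (pullback.fst Y.hom U.ι), Category.assoc,
        show (Groth.NeronArea.rstMap U.ι π).left ≫ pullback.fst Y.hom U.ι = pullback.fst Z.hom U.ι ≫ π.left
          from pullback.lift_fst _ _ _]
      exact htw)
  exact ⟨Over.homMk G hG, Over.OverMorphism.ext hGu⟩

end Groth.Agent.S13749
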