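import Groth.Statements.S1375
import Groth.Agent.LocImm.FppfDominate

set_option autoImplicit false
universe u
open FlatMor

namespace Groth.Agent.S1375

open AlgebraicGeometry CategoryTheory Limits in
/-- Let S' → S be flat, locally of finite presentation and surjective (an fppf cover by one morphism).
Then there is a flat, locally of finite presentation, locally quasi-finite and surjective T → S
which factors through S' locally on T. -/
theorem result {S' S : Scheme.{u}} (g : S' ⟶ S) [Flat g] [LocallyOfFinitePresentation g] [Surjective g] :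
    ∃ (T : Scheme.{u}) (h : T ⟶ S), Flat h ∧ LocallyOfFinitePresentation h ∧ LocallyQuasiFinite h ∧ Surjective h ∧
      ∀ t : ↑T, ∃ (V : T.Opens) (r : ↑V ⟶ S'), t ∈ V ∧ r ≫ g = V.ι ≫ h := by
  choose T e a t hag _ hfl hfp hqf het using fun s => Groth.LocImmersion.FppfDominate.exists_slice g s
  refine ⟨∐ T, Limits.Sigma.desc e, IsZariskiLocalAtSource.sigmaDesc hfl,
    IsZariskiLocalAtSource.sigmaDesc hfp, IsZariskiLocalAtSource.sigmaDesc hqf,
    ⟨fun s => ⟨(Limits.Sigma.ι T s) (t s), ?_⟩⟩, fun z => ?_⟩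
  · rw [← Scheme.Hom.comp_apply, Limits.Sigma.ι_desc]
    exact het s
  · obtain ⟨s, y, rfl⟩ : ∃ s y, (Limits.Sigma.ι T s) y = z :=
      (sigmaOpenCover T).exists_eq z
    refine ⟨(Limits.Sigma.ι T s).opensRange, (Limits.Sigma.ι T s).isoOpensRange.inv ≫ a s,
      ⟨y, rfl⟩, ?_⟩
    rw [Category.assoc, hag, ← Limits.Sigma.ι_desc e s, ← Category.assoc,
      Scheme.Hom.isoOpensRange_inv_comp]

end Groth.Agent.S1375
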