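import Groth.Statements.S13750
import Groth.Agent.NeronArea.Mapping
import Groth.Agent.NeronArea.LocalisationNMP


set_option autoImplicit false
universe u
open CategoryTheory AlgebraicGeometry
open Neron

namespace Groth.Agent.S13750

/-- Let S be a locally Noetherian scheme, U ⊆ S an open subscheme and N → S a smooth separated morphism
of finite type having the Néron mapping property with respect to U: for every smooth S-scheme Y,
restriction to U is a bijection from S-morphisms Y → N onto U-morphisms Y ×_S U → N ×_S U. Let s be
a point of S and S̃ = Spec O_{S,s} → S the canonical morphism. Then N ×_S S̃ → S̃ has the Néron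
mapping property with respect to the preimage Ũ of U: for every smooth S̃-scheme Ỹ, restriction to Ũ
is a bijection from S̃-morphisms Ỹ → N ×_S S̃ onto Ũ-morphisms. (The published statement is for N an
algebraic space which is a Néron model of an abelian scheme over U and also covers the strict
henselisation at a geometric point; this row is the localisation case for a scheme N, with no
abelian-scheme hypothesis.) -/
theorem result
    {S : Scheme.{u}} [IsLocallyNoetherian S] (U : S.Opens)
    (N : Over S) [Smooth N.hom] [IsSeparated N.hom] [QuasiCompact N.hom]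
    (hN : ∀ Y : Over S, Smooth Y.hom →
      Function.Bijective (fun f : Y ⟶ N => (Over.pullback U.ι).map f))
    (s : S) (Y' : Over (Spec (S.presheaf.stalk s))) [Smooth Y'.hom] :
    Function.Bijective (fun f : Y' ⟶ (Over.pullback (S.fromSpecStalk s)).obj N =>
      (Over.pullback ((S.fromSpecStalk s) ⁻¹ᵁ U).ι).map f) := by
  have hN' : Groth.NeronArea.HasOpenNMP U N.hom := fun {Y} pY hpY => by
    have h := (Groth.NeronArea.bijective_map_iff U.ι (Over.mk pY) N).1 (hN (Over.mk pY) hpY)
    let e := pullbackRestrictIsoRestrict pY U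
    have he : e.hom ≫ (pY ⁻¹ᵁ U).ι = Limits.pullback.fst pY U.ι := pullbackRestrictIsoRestrict_hom_ι pY U
    refine ⟨fun a b ha hb hab => ?_, fun u hu => ?_⟩
    · refine congrArg CommaMorphism.left (h.1 (a₁ := Over.homMk a ha) (a₂ := Over.homMk b hb) ?_)
      ext : 1
      show Limits.pullback.fst pY U.ι ≫ a = Limits.pullback.fst pY U.ι ≫ b
      rw [← he, Category.assoc, Category.assoc, hab]
    · obtain ⟨g, hg⟩ := h.2 (Over.homMk (e.hom ≫ u) (by
        show (e.hom ≫ u) ≫ N.hom = Limits.pullback.fst pY U.ι ≫ pY
        rw [Category.assoc, hu, ← he, Category.assoc]))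
      refine ⟨g.left, Over.w g, ?_⟩
      rw [← cancel_epi e.hom, ← Category.assoc, he]
      exact congrArg CommaMorphism.left hg
  let gs := S.fromSpecStalk s
  rw [Groth.NeronArea.bijective_baseChange_iff U.ι gs (gs ⁻¹ᵁ U).ι (isPullback_morphismRestrict gs U),
    Groth.NeronArea.bijective_map_iff]
  obtain ⟨huniq, hex⟩ := Groth.NeronArea.existsUnique_localisation hN' s Y'.hom
  let Z := (Over.map gs).obj Y'
  let e := pullbackRestrictIsoRestrict Z.hom U
  have he : e.hom ≫ (Z.hom ⁻¹ᵁ U).ι = Limits.pullback.fst Z.hom U.ι := pullbackRestrictIsoRestrict_hom_ι Z.hom U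
  refine ⟨fun a b hab => ?_, fun u => ?_⟩
  · ext : 1
    refine huniq a.left b.left (Over.w a) (Over.w b) ?_
    refine (cancel_epi e.hom).1 ?_
    erw [reassoc_of% he, reassoc_of% he]
    exact congrArg CommaMorphism.left hab
  · obtain ⟨g, hg, hgu⟩ := hex (e.inv ≫ u.left) (by
      rw [Category.assoc, Over.w u, Iso.inv_comp_eq]
      exact (reassoc_of% he) Z.hom |>.symm)
    refine ⟨Over.homMk g hg, ?_⟩
    ext : 1
    show Limits.pullback.fst Z.hom U.ι ≫ g = u.left
    rw [← he, Category.assoc]
    exact (congrArg (e.hom ≫ ·) hgu).trans (e.hom_inv_id_assoc _)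

end Groth.Agent.S13750
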