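import Groth.Statements.S13751
import Groth.Agent.NeronArea.AbelianGlobal
import Groth.Agent.NeronArea.Mapping
import Mathlib.AlgebraicGeometry.Restrict


set_option autoImplicit false
universe u
open CategoryTheory CategoryTheory.Limits AlgebraicGeometry MonObj
open Neron

namespace Groth.Agent.S13751

/-- Let S be a locally Noetherian scheme all of whose local rings are regular, let U ⊆ S be a dense open
subscheme and let A → S be an abelian scheme: a proper smooth group scheme over S whose geometric
fibres are connected. Then A is a Néron model of its restriction A ×_S U over S, in the sense that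
for every smooth S-scheme Y the restriction map from S-morphisms Y → A to U-morphisms Y ×_S U → A
×_S U is a bijection. (The published statement is for an abelian algebraic space over a regular base
and does not ask U to be dense; for U empty and A of positive relative dimension the identity and
the zero map of A both restrict to the empty morphism, so uniqueness fails, and the published
uniqueness argument uses density — this row takes A a scheme and U dense.) -/
theorem result
    {S : Scheme.{u}} [IsLocallyNoetherian S] (hreg : ∀ s : S, IsRegularLocalRing (S.presheaf.stalk s))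
    (U : S.Opens) (hU : Dense (U : Set S))
    (A : Over S) [GrpObj A] [IsProper A.hom] [Smooth A.hom]
    (hconn : ∀ (L : Type u) [Field L] (t : Spec (CommRingCat.of L) ⟶ S), ConnectedSpace ↑(pullback A.hom t))
    (Y : Over S) [Smooth Y.hom] :
    Function.Bijective (fun f : Y ⟶ A => (Over.pullback U.ι).map f) := by
  haveI : GeometricallyConnected A.hom :=
    ⟨(geometrically_iff_of_isClosedUnderIsomorphisms (P := fun X : Scheme => ConnectedSpace X)).mpr
      fun L _ y => hconn L y⟩
  haveI : IsLocallyNoetherian Y.left := LocallyOfFiniteType.isLocallyNoetherian Y.hom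
  have hY : ∀ y : Y.left, IsRegularLocalRing (Y.left.presheaf.stalk y) := fun y =>
    Groth.NeronArea.Weil.isRegularLocalRing_of_smooth Y.hom y (hreg _)
  let UY : Y.left.Opens := Y.hom ⁻¹ᵁ U
  have hUY : Dense (UY : Set Y.left) := hU.preimage Y.hom.isOpenMap
  let e := pullbackRestrictIsoRestrict Y.hom U
  have he : e.inv ≫ Limits.pullback.fst Y.hom U.ι = UY.ι := by
    rw [Iso.inv_comp_eq]; exact (pullbackRestrictIsoRestrict_hom_ι Y.hom U).symm
  rw [Groth.NeronArea.bijective_map_iff]
  refine ⟨fun a b hab => ?_, fun u => ?_⟩
  · haveI := Groth.NeronArea.Weil.isReduced_of_regular hY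
    haveI : IsDominant UY.ι := ⟨by rw [DenseRange, Scheme.Opens.range_ι]; exact hUY⟩
    ext : 1
    refine ext_of_isDominant_of_isSeparated A.hom ((Over.w a).trans (Over.w b).symm) UY.ι ?_
    rw [← he, Category.assoc, Category.assoc]
    exact congrArg (e.inv ≫ ·) (congrArg CommaMorphism.left hab)
  · obtain ⟨g, ⟨hg1, hg2⟩, -⟩ := Groth.NeronArea.existsUnique_extension_of_regular A Y.left Y.hom hY UY hUY
      (e.inv ≫ u.left) (by
        rw [Category.assoc, Over.w u, ← he, Category.assoc]
        rfl)
    refine ⟨Over.homMk g hg1, ?_⟩
    ext : 1
    rw [← cancel_epi e.inv, ← hg2, ← he, Category.assoc]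
    rfl

end Groth.Agent.S13751
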