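import Groth.Statements.S13771
import Groth.Agent.PLieAlg.Basic

set_option autoImplicit false
universe u v w
open PLie

namespace Groth.Agent.S13771

/-- Let R be a commutative ring of prime characteristic p, L₁ and L₂ Lie algebras over R, φ a p-mapping
on L₁ and f : L₁ → L₂ a morphism of Lie algebras whose kernel is stable under φ (a p-ideal). Then
the image f(L₁), a Lie subalgebra of L₂, carries exactly one p-mapping ψ for which the corestriction
of f to its image is a morphism of p-Lie algebras, i.e. ψ (f x) = f (φ x) for all x. -/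
theorem result (R : Type u) [CommRing R] (p : ℕ) [Fact p.Prime] [CharP R p]
    (L₁ : Type v) [LieRing L₁] [LieAlgebra R L₁] (L₂ : Type w) [LieRing L₂] [LieAlgebra R L₂]
    (φ : PLie.PMap R p L₁) (f : L₁ →ₗ⁅R⁆ L₂) (hker : ∀ x : L₁, f x = 0 → f (φ x) = 0) :
    ∃! ψ : PLie.PMap R p f.range, PLie.IsPHom φ ψ f.rangeRestrict := by
  have hwd : ∀ x x' : L₁, f x = f x' → f (φ.toFun x) = f (φ.toFun x') := fun x x' h ↦ by
    have hz : f (x - x') = 0 := by rw [map_sub, h, sub_self]
    have e : φ.toFun x = φ.toFun x' + φ.toFun (x - x') - PLie.jacobson R p x' (x - x') := by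
      rw [← φ.map_add, add_sub_cancel]
    rw [e, map_sub, map_add, Groth.PLieAlg.map_jacobson, hz, hker _ hz, add_zero,
      Groth.PLieAlg.jacobson_eq_zero (lie_zero _), sub_zero]
  choose s hs using fun y : f.range ↦ f.surjective_rangeRestrict y
  have hs' : ∀ y, f (s y) = (y : L₂) := fun y ↦ congrArg Subtype.val (hs y)
  let ψ : f.range → f.range := fun y ↦ f.rangeRestrict (φ.toFun (s y))
  have hψ : ∀ x, f.rangeRestrict (φ.toFun x) = ψ (f.rangeRestrict x) := fun x ↦
    Subtype.ext (hwd _ _ (hs' (f.rangeRestrict x)).symm)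
  refine ⟨{ toFun := ψ, map_smul := fun c y ↦ ?_, ad_map := fun y ↦ ?_, map_add := fun y y' ↦ ?_ }, hψ, fun ψ' h' ↦ ?_⟩
  · rw [← hs y, ← map_smul, ← hψ, ← hψ, φ.map_smul, map_smul]
  · rw [← hs y, ← hψ]
    refine LinearMap.ext fun w ↦ ?_
    rw [LieAlgebra.ad_apply, ← hs w, ← LieHom.map_lie, Groth.PLieAlg.lie_pmap]
    have key : ∀ n, f.rangeRestrict ((LieAlgebra.ad R L₁ (s y) ^ n) (s w)) =
        (LieAlgebra.ad R f.range (f.rangeRestrict (s y)) ^ n) (f.rangeRestrict (s w)) := by
      intro n
      induction n with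
      | zero => rfl
      | succ n ih =>
        rw [pow_succ', pow_succ', Module.End.mul_apply, Module.End.mul_apply, LieAlgebra.ad_apply, LieAlgebra.ad_apply,
          LieHom.map_lie, ih]
    exact key p
  · rw [← hs y, ← hs y', ← map_add, ← hψ, ← hψ, ← hψ, φ.map_add, map_sub, map_add, Groth.PLieAlg.map_jacobson]
  · cases ψ' with
    | mk toFun _ _ _ =>
      simp only [PLie.PMap.mk.injEq]
      funext y
      rw [← hs y]
      exact ((h' (s y)).symm.trans (hψ (s y)))

end Groth.Agent.S13771
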