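import Groth.Statements.S13772
import Groth.Agent.PLieAlg.Basic

set_option autoImplicit false
universe u v
open PLie

namespace Groth.Agent.S13772

/-- Let R be a commutative ring of prime characteristic p and L a Lie algebra over R with a p-mapping γ.
For a map g : L → L, there is a p-mapping γ' on L with γ' x = γ x + g x for every x if and only if g
is additive, g (c • x) = c ^ p • g x for all scalars c, and every value g x lies in the centre of L.
(Both parts of the published statement at once: the difference of two p-mappings is a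
Frobenius-semilinear map into the centre, and adding such a map to a p-mapping gives a p-mapping.) -/
theorem result (R : Type u) [CommRing R] (p : ℕ) [Fact p.Prime] [CharP R p]
    (L : Type v) [LieRing L] [LieAlgebra R L] (γ : PLie.PMap R p L) (g : L → L) :
    (∃ γ' : PLie.PMap R p L, ∀ x : L, γ' x = γ x + g x) ↔
      ((∀ x y : L, g (x + y) = g x + g y) ∧ (∀ (c : R) (x : L), g (c • x) = c ^ p • g x) ∧
        ∀ x : L, g x ∈ LieAlgebra.center R L) := by
  constructor
  · rintro ⟨γ', h⟩
    have hg : ∀ x, g x = γ'.toFun x - γ.toFun x := fun x ↦ (sub_eq_of_eq_add' (h x)).symm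
    refine ⟨fun x y ↦ ?_, fun c x ↦ ?_, fun x y ↦ ?_⟩
    · rw [hg, hg, hg, γ'.map_add, γ.map_add]; abel
    · rw [hg, hg, γ'.map_smul, γ.map_smul, smul_sub]
    · rw [hg, lie_sub, ← lie_skew y, ← lie_skew y (γ.toFun x), Groth.PLieAlg.lie_pmap, Groth.PLieAlg.lie_pmap, sub_self]
  · rintro ⟨hadd, hsmul, hc⟩
    refine ⟨{ toFun := fun x ↦ γ x + g x, map_smul := fun c x ↦ ?_, ad_map := fun x ↦ ?_, map_add := fun x y ↦ ?_ }, fun x ↦ rfl⟩
    · change γ.toFun (c • x) + g (c • x) = c ^ p • (γ.toFun x + g x)
      rw [γ.map_smul, hsmul, smul_add]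
    · rw [map_add, γ.ad_map, add_eq_left]
      refine LinearMap.ext fun y ↦ ?_
      rw [LieAlgebra.ad_apply, ← lie_skew, hc x y, neg_zero]
      rfl
    · change γ.toFun (x + y) + g (x + y) = γ.toFun x + g x + (γ.toFun y + g y) - PLie.jacobson R p x y
      rw [γ.map_add, hadd]; abel

end Groth.Agent.S13772
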