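import Groth.Statements.S13776
import Groth.Agent.PLieAlg.Exist

set_option autoImplicit false
universe u v
open PLie

namespace Groth.Agent.S13776

/-- Let R be a commutative ring of prime characteristic p, t ∈ R, and L a Lie algebra over R, free as a
module with basis x = bs 0, y = bs 1, z = bs 2 and brackets [x,y] = y, [x,z] = t • z, [y,z] = 0.
Then L carries a p-mapping if and only if t ^ p = t. (The published statement is the corresponding
entry of the classification table over an algebraically closed field of characteristic p, where the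
condition reads: t lies in the prime field; this row states it over every commutative ring of
characteristic p.) -/
theorem result (R : Type u) [CommRing R] (p : ℕ) [Fact p.Prime] [CharP R p] (t : R)
    (L : Type v) [LieRing L] [LieAlgebra R L] (bs : Module.Basis (Fin 3) R L)
    (hxy : ⁅bs 0, bs 1⁆ = bs 1) (hxz : ⁅bs 0, bs 2⁆ = t • bs 2) (hyz : ⁅bs 1, bs 2⁆ = 0) :
    Nonempty (PLie.PMap R p L) ↔ t ^ p = t := by
  constructor
  · rintro ⟨φ⟩
    have hy : ∀ n : ℕ, (LieAlgebra.ad R L (bs 0) ^ n) (bs 1) = bs 1 := by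
      intro n
      induction n with
      | zero => rfl
      | succ n ih => rw [pow_succ', Module.End.mul_apply, ih, LieAlgebra.ad_apply, hxy]
    have hz : ∀ n : ℕ, (LieAlgebra.ad R L (bs 0) ^ n) (bs 2) = t ^ n • bs 2 := by
      intro n
      induction n with
      | zero => simp
      | succ n ih => rw [pow_succ', Module.End.mul_apply, ih, map_smul, LieAlgebra.ad_apply, hxz, smul_smul, pow_succ]
    have e1 := Groth.PLieAlg.lie_pmap φ (bs 0) (bs 1)
    have e2 := Groth.PLieAlg.lie_pmap φ (bs 0) (bs 2)
    rw [hy p, ← bs.sum_repr (φ.toFun (bs 0)), Fin.sum_univ_three, add_lie, add_lie, smul_lie, smul_lie, smul_lie,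
      hxy, lie_self, ← lie_skew (bs 2), hyz, neg_zero, smul_zero, smul_zero, add_zero, add_zero] at e1
    rw [hz p, ← bs.sum_repr (φ.toFun (bs 0)), Fin.sum_univ_three, add_lie, add_lie, smul_lie, smul_lie, smul_lie,
      hxz, lie_self, hyz, smul_zero, smul_zero, add_zero, add_zero, smul_smul] at e2
    have h1 := congrArg (fun w ↦ bs.repr w 1) e1
    have h2 := congrArg (fun w ↦ bs.repr w 2) e2
    simp at h1 h2
    rw [← h2, h1, one_mul]
  · intro ht
    obtain ⟨q, hq⟩ : ∃ q, p = q + 2 := ⟨p - 2, by have := (Fact.out : p.Prime).two_le; omega⟩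
    have sq : ∀ i : Fin 3, i ≠ 0 → (LieAlgebra.ad R L (bs i)) ^ p = 0 := fun i hi ↦ by
      have h2 : (LieAlgebra.ad R L (bs i)) ^ 2 = 0 := by
        refine bs.ext fun j ↦ ?_
        rw [pow_two, Module.End.mul_apply, LieAlgebra.ad_apply, LieAlgebra.ad_apply, LinearMap.zero_apply]
        fin_cases i <;> fin_cases j <;> simp_all [← lie_skew (bs 1) (bs 0), ← lie_skew (bs 2) (bs 0), ← lie_skew (bs 2) (bs 1)]
      rw [hq, pow_add, h2, mul_zero]
    obtain ⟨φ, -, -⟩ := Groth.PLieAlg.existsUnique_pmap bs ![bs 0, 0, 0] fun i ↦ by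
      fin_cases i
      · refine bs.ext fun j ↦ ?_
        have hpow : ∀ n : ℕ, (LieAlgebra.ad R L (bs 0) ^ (n + 1)) (bs 0) = 0 ∧
            (LieAlgebra.ad R L (bs 0) ^ (n + 1)) (bs 1) = bs 1 ∧
            (LieAlgebra.ad R L (bs 0) ^ (n + 1)) (bs 2) = t ^ (n + 1) • bs 2 := by
          intro n
          induction n with
          | zero => simp [hxy, hxz]
          | succ n ih =>
            obtain ⟨a, b, c⟩ := ih
            simp only [pow_succ' (LieAlgebra.ad R L (bs 0)) (n + 1), Module.End.mul_apply, a, b, c, map_zero, map_smul,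
              LieAlgebra.ad_apply, hxy, hxz, smul_smul, ← pow_succ, and_self]
        obtain ⟨a, b, c⟩ := hpow (q + 1)
        rw [show q + 1 + 1 = p by omega] at a b c
        rw [ht] at c
        fin_cases j <;> simp [a, b, c, hxy, hxz]
      · simpa using sq 1 (by simp)
      · simpa using sq 2 (by simp)
    exact ⟨φ⟩

end Groth.Agent.S13776
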