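import Groth.Statements.S13778
import Groth.Agent.PLieAlg.Dual

set_option autoImplicit false
open Groth.PLieAlg in
/-- The powers of the adjoint maps of the three basis vectors. -/
lemma powers {K : Type*} [Field K] {t a b c d e f g h i : K} {L : Type*} [LieRing L] [LieAlgebra (DualNumber K) L]
    (bs : Module.Basis (Fin 3) (DualNumber K) L)
    (hW : ∀ α β γ α' β' γ', ⁅vec3 bs α β γ, vec3 bs α' β' γ'⁆ = vec3 bs
      ((α * β' - β * α') * dual 0 a + (α * γ' - γ * α') * dual 0 d + (β * γ' - γ * β') * dual 0 g)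
      ((α * β' - β * α') * dual 1 b + (α * γ' - γ * α') * dual 0 e + (β * γ' - γ * β') * dual 0 h)
      ((α * β' - β * α') * dual 0 c + (α * γ' - γ * α') * dual t f + (β * γ' - γ * β') * dual 0 i)) :
    let X := LieAlgebra.ad (DualNumber K) L (bs 0)
    let Y := LieAlgebra.ad (DualNumber K) L (bs 1)
    let Z := LieAlgebra.ad (DualNumber K) L (bs 2)
    (∀ n : ℕ, (X ^ (n + 1)) (bs 0) = 0) ∧
    (∀ n : ℕ, (X ^ (n + 1)) (bs 1) =
      vec3 bs (dual 0 a) (dual 1 ((n + 1) * b)) (dual 0 (c * ∑ j ∈ Finset.range (n + 1), t ^ j))) ∧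
    (∀ n : ℕ, (X ^ (n + 1)) (bs 2) =
      vec3 bs (dual 0 (t ^ n * d)) (dual 0 (e * ∑ j ∈ Finset.range (n + 1), t ^ j))
        (dual (t ^ (n + 1)) ((n + 1) * t ^ n * f))) ∧
    ((Y ^ 2) (bs 0) = vec3 bs 0 (dual 0 a) 0 ∧ (Y ^ 2) (bs 1) = 0 ∧ (Y ^ 2) (bs 2) = vec3 bs 0 (dual 0 (-g)) 0) ∧
    ((Z ^ 2) (bs 0) = vec3 bs 0 0 (dual 0 (d * t)) ∧ (Z ^ 2) (bs 1) = vec3 bs 0 0 (dual 0 (g * t)) ∧ (Z ^ 2) (bs 2) = 0) := by
  obtain ⟨b0, b1, b2⟩ := vec3_basis bs
  have hX : ∀ w, LieAlgebra.ad (DualNumber K) L (bs 0) w = ⁅vec3 bs 1 0 0, w⁆ := fun w ↦ by rw [b0]; rfl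
  have hY : ∀ w, LieAlgebra.ad (DualNumber K) L (bs 1) w = ⁅vec3 bs 0 1 0, w⁆ := fun w ↦ by rw [b1]; rfl
  have hZ : ∀ w, LieAlgebra.ad (DualNumber K) L (bs 2) w = ⁅vec3 bs 0 0 1, w⁆ := fun w ↦ by rw [b2]; rfl
  refine ⟨fun n ↦ ?_, fun n ↦ ?_, fun n ↦ ?_, ?_, ?_⟩
  · rw [pow_succ, Module.End.mul_apply, LieAlgebra.ad_apply, lie_self, map_zero]
  · induction n with
    | zero =>
      rw [zero_add, pow_one, hX, ← b1, hW, vec3_inj]
      simp [dual_ext_iff]
    | succ n ih =>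
      rw [pow_succ', Module.End.mul_apply, ih, hX, hW, vec3_inj]
      simp only [dual_ext_iff, TrivSqZeroExt.fst_add, TrivSqZeroExt.snd_add, TrivSqZeroExt.fst_mul, DualNumber.snd_mul,
        TrivSqZeroExt.fst_sub, TrivSqZeroExt.snd_sub, fst_dual, snd_dual, TrivSqZeroExt.fst_zero, TrivSqZeroExt.snd_zero,
        TrivSqZeroExt.fst_one, TrivSqZeroExt.snd_one, Nat.cast_succ, geom_sum_succ (n := n + 1)]
      refine ⟨⟨?_, ?_⟩, ⟨?_, ?_⟩, ?_, ?_⟩ <;> ring
  · induction n with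
    | zero =>
      rw [zero_add, pow_one, hX, ← b2, hW, vec3_inj]
      simp [dual_ext_iff]
    | succ n ih =>
      rw [pow_succ', Module.End.mul_apply, ih, hX, hW, vec3_inj]
      simp only [dual_ext_iff, TrivSqZeroExt.fst_add, TrivSqZeroExt.snd_add, TrivSqZeroExt.fst_mul, DualNumber.snd_mul,
        TrivSqZeroExt.fst_sub, TrivSqZeroExt.snd_sub, fst_dual, snd_dual, TrivSqZeroExt.fst_zero, TrivSqZeroExt.snd_zero,
        TrivSqZeroExt.fst_one, TrivSqZeroExt.snd_one, Nat.cast_succ, Finset.sum_range_succ _ (n + 1)]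
      refine ⟨⟨?_, ?_⟩, ⟨?_, ?_⟩, ?_, ?_⟩ <;> ring
  · refine ⟨?_, ?_, ?_⟩
    · rw [pow_two, Module.End.mul_apply, hY, hY, ← b0, hW, hW, vec3_inj]
      simp [dual_ext_iff] <;> ring_nf <;> simp
    · rw [pow_two, Module.End.mul_apply, hY, hY, ← b1, hW, hW, ← vec3_zero bs, vec3_inj]
      simp [dual_ext_iff] <;> ring_nf <;> simp
    · rw [pow_two, Module.End.mul_apply, hY, hY, ← b2, hW, hW, vec3_inj]
      simp [dual_ext_iff] <;> ring_nf <;> simp
  · refine ⟨?_, ?_, ?_⟩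
    · rw [pow_two, Module.End.mul_apply, hZ, hZ, ← b0, hW, hW, vec3_inj]
      simp [dual_ext_iff] <;> ring_nf <;> simp
    · rw [pow_two, Module.End.mul_apply, hZ, hZ, ← b1, hW, hW, vec3_inj]
      simp [dual_ext_iff] <;> ring_nf <;> simp
    · rw [pow_two, Module.End.mul_apply, hZ, hZ, ← b2, hW, hW, ← vec3_zero bs, vec3_inj]
      simp [dual_ext_iff] <;> ring_nf <;> simp

universe u v
open PLie

namespace Groth.Agent.S13778

open DualNumber in
/-- Let K be a field of prime characteristic p, K[ε] the ring of dual numbers (taken with its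
characteristic-p structure), t ∈ K with t ^ p = t (an element of the prime field), and a, …, i ∈ K.
Let L be a Lie algebra over K[ε], free as a module with basis x = bs 0, y = bs 1, z = bs 2 and
brackets [x,y] = aε x + (1 + bε) y + cε z, [x,z] = dε x + eε y + (t + fε) z, [y,z] = gε x + hε y +
iε z. Then L carries a p-mapping over K[ε] if and only if b t = f, c = e = 0 when t = 1, and g = 0
when p = 2. (The published statement determines the singular locus of the restrictable locus in the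
centreless stratum of the moduli scheme of based three-dimensional Lie algebras, for t non-zero, and
the rank-one-centre stratum treats t = 0; this row states the restrictability criterion for the
first-order deformations of l_t that the proofs compute, over any field of characteristic p in place
of the prime field and for every t in the prime field.) -/
theorem result (K : Type u) [Field K] (p : ℕ) [Fact p.Prime] [CharP K p]
    [CharP (DualNumber K) p] (t a b c d e f g h i : K) (ht : t ^ p = t)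
    (L : Type v) [LieRing L] [LieAlgebra (DualNumber K) L] (bs : Module.Basis (Fin 3) (DualNumber K) L)
    (hxy : ⁅bs 0, bs 1⁆ = (a • ε : DualNumber K) • bs 0 + (1 + b • ε : DualNumber K) • bs 1 + (c • ε : DualNumber K) • bs 2)
    (hxz : ⁅bs 0, bs 2⁆ = (d • ε : DualNumber K) • bs 0 + (e • ε : DualNumber K) • bs 1 +
      (algebraMap K (DualNumber K) t + f • ε) • bs 2)
    (hyz : ⁅bs 1, bs 2⁆ = (g • ε : DualNumber K) • bs 0 + (h • ε : DualNumber K) • bs 1 + (i • ε : DualNumber K) • bs 2) :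
    Nonempty (PLie.PMap (DualNumber K) p L) ↔ (b * t = f ∧ (t = 1 → c = 0 ∧ e = 0) ∧ (p = 2 → g = 0)) := by
  have hp := (Fact.out : p.Prime)
  have hA : ∀ k : K, (k • ε : DualNumber K) = Groth.PLieAlg.dual 0 k := fun k ↦ by simp [Groth.PLieAlg.dual]
  have hB : (1 + b • ε : DualNumber K) = Groth.PLieAlg.dual 1 b := by simp [Groth.PLieAlg.dual]
  have hT : algebraMap K (DualNumber K) t + f • ε = Groth.PLieAlg.dual t f := rfl
  rw [hB, hA, hA] at hxy
  rw [hT, hA, hA] at hxz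
  rw [hA, hA, hA] at hyz
  have hW := Groth.PLieAlg.lie_vec3 bs hxy hxz hyz
  obtain ⟨X0, X1, X2, ⟨Y0, Y1, Y2⟩, Z0, Z1, Z2⟩ := powers bs hW
  obtain ⟨b0, b1, b2⟩ := Groth.PLieAlg.vec3_basis bs
  -- the Jacobi identity
  have hd : d = t * h := by
    have hj := leibniz_lie (bs 0) (bs 1) (bs 2)
    simp only [← b0, ← b1, ← b2, hW] at hj
    have hadd : ∀ α β γ α' β' γ', Groth.PLieAlg.vec3 bs α β γ + Groth.PLieAlg.vec3 bs α' β' γ' =
        Groth.PLieAlg.vec3 bs (α + α') (β + β') (γ + γ') := fun α β γ α' β' γ' ↦ by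
      simp only [Groth.PLieAlg.vec3]; module
    rw [hadd, Groth.PLieAlg.vec3_inj] at hj
    obtain ⟨-, hj, -⟩ := hj
    have := congrArg TrivSqZeroExt.snd hj
    simp [DualNumber.snd_mul] at this
    linear_combination (exp := 1) -this
  obtain ⟨q, hq⟩ : ∃ q, p = q + 1 := ⟨p - 1, by have := hp.one_le; omega⟩
  have hcast : ((q : K) + 1) = 0 := by rw [← Nat.cast_succ, Nat.succ_eq_add_one, ← hq, CharP.cast_eq_zero]
  have hSt : (t = 1 ∧ ∑ j ∈ Finset.range p, t ^ j = 0) ∨ ∑ j ∈ Finset.range p, t ^ j = 1 := by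
    by_cases h1 : t = 1
    · exact .inl ⟨h1, by simp [h1]⟩
    · refine .inr (mul_right_cancel₀ (sub_ne_zero.mpr h1) ?_)
      rw [geom_sum_mul, ht, one_mul]
  have htd : t ^ q * d = d := by rw [hd, ← mul_assoc, ← pow_succ, ← hq, ht]
  have X0' := X0 q
  have X1' := X1 q
  have X2' := X2 q
  rw [← hq] at X0' X1' X2'
  rw [hcast, zero_mul] at X1'
  rw [hcast, zero_mul, zero_mul, ht, htd] at X2'
  constructor
  · rintro ⟨φ⟩
    obtain ⟨α, β, γ, hw⟩ := Groth.PLieAlg.exists_vec3 bs (φ.toFun (bs 0))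
    have e0 := Groth.PLieAlg.lie_pmap φ (bs 0) (bs 0)
    have e1 := Groth.PLieAlg.lie_pmap φ (bs 0) (bs 1)
    have e2 := Groth.PLieAlg.lie_pmap φ (bs 0) (bs 2)
    rw [X0', hw, ← b0, hW, ← Groth.PLieAlg.vec3_zero bs, Groth.PLieAlg.vec3_inj] at e0
    rw [X1', hw, ← b1, hW, Groth.PLieAlg.vec3_inj] at e1
    rw [X2', hw, ← b2, hW, Groth.PLieAlg.vec3_inj] at e2
    simp [Groth.PLieAlg.dual_ext_iff, DualNumber.snd_mul] at e0 e1 e2
    refine ⟨?_, ?_, fun h2 ↦ ?_⟩
    · grind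
    · intro h1
      subst h1
      simp [CharP.cast_eq_zero] at e0 e1 e2
      grind
    · subst h2
      obtain ⟨α', β', γ', hw'⟩ := Groth.PLieAlg.exists_vec3 bs (φ.toFun (bs 1))
      have f0 := Groth.PLieAlg.lie_pmap φ (bs 1) (bs 0)
      have f1 := Groth.PLieAlg.lie_pmap φ (bs 1) (bs 1)
      have f2 := Groth.PLieAlg.lie_pmap φ (bs 1) (bs 2)
      rw [Y0, hw', ← b0, hW, Groth.PLieAlg.vec3_inj] at f0
      rw [Y1, hw', ← b1, hW, ← Groth.PLieAlg.vec3_zero bs, Groth.PLieAlg.vec3_inj] at f1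
      rw [Y2, hw', ← b2, hW, Groth.PLieAlg.vec3_inj] at f2
      simp [Groth.PLieAlg.dual_ext_iff, DualNumber.snd_mul] at f0 f1 f2
      grind
  · rintro ⟨hf, h1, h2⟩
    have hS : c * ∑ j ∈ Finset.range p, t ^ j = c ∧ e * ∑ j ∈ Finset.range p, t ^ j = e := by
      rcases hSt with ⟨h, hS⟩ | hS
      · obtain ⟨hc, he⟩ := h1 h; simp [hc, he]
      · simp [hS]
    rw [hS.1] at X1'
    rw [hS.2] at X2'
    have hXp : LieAlgebra.ad (DualNumber K) L (bs 0) ^ p = LieAlgebra.ad (DualNumber K) L (Groth.PLieAlg.vec3 bs (Groth.PLieAlg.dual 1 (-b)) 0 0) := by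
      refine bs.ext fun j ↦ ?_
      match j with
      | 0 => rw [X0', LieAlgebra.ad_apply, ← b0, hW, ← Groth.PLieAlg.vec3_zero bs, Groth.PLieAlg.vec3_inj]; simp
      | 1 => rw [X1']; rw [LieAlgebra.ad_apply, ← b1, hW, Groth.PLieAlg.vec3_inj]; simp [Groth.PLieAlg.dual_ext_iff, DualNumber.snd_mul]
      | 2 =>
        rw [X2']; rw [LieAlgebra.ad_apply, ← b2, hW, Groth.PLieAlg.vec3_inj]; simp [Groth.PLieAlg.dual_ext_iff, DualNumber.snd_mul]
        linear_combination hf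
    have hsq : ∀ v, p ≠ 2 → LieAlgebra.ad (DualNumber K) L (bs 1) (( LieAlgebra.ad (DualNumber K) L (bs 1) ^ 2) v) = 0 → (LieAlgebra.ad (DualNumber K) L (bs 1) ^ p) v = 0 := fun v hp2 hv ↦ by
      rw [show LieAlgebra.ad (DualNumber K) L (bs 1) ^ p = LieAlgebra.ad (DualNumber K) L (bs 1) ^ (p - 3) * (LieAlgebra.ad (DualNumber K) L (bs 1) * LieAlgebra.ad (DualNumber K) L (bs 1) ^ 2) by
        rw [← pow_succ', ← pow_add]; congr 1; have := hp.two_le; omega,
        Module.End.mul_apply, Module.End.mul_apply, hv, map_zero]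
    have hsz : ∀ v, p ≠ 2 → LieAlgebra.ad (DualNumber K) L (bs 2) (( LieAlgebra.ad (DualNumber K) L (bs 2) ^ 2) v) = 0 → (LieAlgebra.ad (DualNumber K) L (bs 2) ^ p) v = 0 := fun v hp2 hv ↦ by
      rw [show LieAlgebra.ad (DualNumber K) L (bs 2) ^ p = LieAlgebra.ad (DualNumber K) L (bs 2) ^ (p - 3) * (LieAlgebra.ad (DualNumber K) L (bs 2) * LieAlgebra.ad (DualNumber K) L (bs 2) ^ 2) by
        rw [← pow_succ', ← pow_add]; congr 1; have := hp.two_le; omega,
        Module.End.mul_apply, Module.End.mul_apply, hv, map_zero]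
    have hYp : LieAlgebra.ad (DualNumber K) L (bs 1) ^ p = LieAlgebra.ad (DualNumber K) L
        (if p = 2 then Groth.PLieAlg.vec3 bs 0 (Groth.PLieAlg.dual 0 (-a)) 0 else 0) := by
      refine bs.ext fun j ↦ ?_
      split_ifs with hp2
      · subst hp2
        obtain rfl := h2 rfl
        match j with
        | 0 => rw [Y0]; rw [LieAlgebra.ad_apply, ← b0, hW, Groth.PLieAlg.vec3_inj]; simp [Groth.PLieAlg.dual_ext_iff, DualNumber.snd_mul]
        | 1 => rw [Y1, LieAlgebra.ad_apply, ← b1, hW, ← Groth.PLieAlg.vec3_zero bs, Groth.PLieAlg.vec3_inj]; simp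
        | 2 => rw [Y2]; rw [LieAlgebra.ad_apply, ← b2, hW, Groth.PLieAlg.vec3_inj]; simp [Groth.PLieAlg.dual_ext_iff, DualNumber.snd_mul]
      · rw [map_zero, LinearMap.zero_apply]
        refine hsq _ hp2 ?_
        match j with
        | 0 => rw [Y0, LieAlgebra.ad_apply, ← b1, hW]; simp [Groth.PLieAlg.vec3_zero]
        | 1 => rw [Y1, map_zero]
        | 2 => rw [Y2, LieAlgebra.ad_apply, ← b1, hW]; simp [Groth.PLieAlg.vec3_zero]
    have hZp : LieAlgebra.ad (DualNumber K) L (bs 2) ^ p = LieAlgebra.ad (DualNumber K) L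
        (if p = 2 then Groth.PLieAlg.vec3 bs 0 0 (Groth.PLieAlg.dual 0 (-d)) else 0) := by
      refine bs.ext fun j ↦ ?_
      split_ifs with hp2
      · subst hp2
        obtain rfl := h2 rfl
        match j with
        | 0 => rw [Z0]; rw [LieAlgebra.ad_apply, ← b0, hW, Groth.PLieAlg.vec3_inj]; simp [Groth.PLieAlg.dual_ext_iff, DualNumber.snd_mul]
        | 1 => rw [Z1]; rw [LieAlgebra.ad_apply, ← b1, hW, Groth.PLieAlg.vec3_inj]; simp [Groth.PLieAlg.dual_ext_iff, DualNumber.snd_mul]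
        | 2 => rw [Z2, LieAlgebra.ad_apply, ← b2, hW, ← Groth.PLieAlg.vec3_zero bs, Groth.PLieAlg.vec3_inj]; simp
      · rw [map_zero, LinearMap.zero_apply]
        refine hsz _ hp2 ?_
        match j with
        | 0 => rw [Z0, LieAlgebra.ad_apply, ← b2, hW]; simp [Groth.PLieAlg.vec3_zero]
        | 1 => rw [Z1, LieAlgebra.ad_apply, ← b2, hW]; simp [Groth.PLieAlg.vec3_zero]
        | 2 => rw [Z2, map_zero]
    obtain ⟨φ, -, -⟩ := Groth.PLieAlg.existsUnique_pmap bs ![_, _, _] (Fin.forall_fin_succ.mpr ⟨hXp, Fin.forall_fin_two.mpr ⟨hYp, hZp⟩⟩)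
    exact ⟨φ⟩

end Groth.Agent.S13778
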