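import Groth.Statements.S13779
import Groth.Agent.PLieAlg.Exist

set_option autoImplicit false
universe u v
open PLie

namespace Groth.Agent.S13779

/-- Let p be an odd prime, R a commutative ring of characteristic p, t ∈ R, and L a Lie algebra over R,
free as a module with basis x = bs 0, y = bs 1, z = bs 2 and brackets [x,y] = z, [x,z] = t • y,
[y,z] = 0. Then L carries a p-mapping φ with φ x = t ^ ((p - 1) / 2) • x, φ y = 0 and φ z = 0. (The
published statement concerns the Lie algebra with these brackets over a field of Laurent series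
k((t)), k algebraically closed of odd characteristic, t the variable; this row states its
restrictability over every commutative ring of odd prime characteristic and every t.) -/
theorem result (R : Type u) [CommRing R] (p : ℕ) [Fact p.Prime] [CharP R p] (hp : p ≠ 2)
    (t : R) (L : Type v) [LieRing L] [LieAlgebra R L] (bs : Module.Basis (Fin 3) R L)
    (hxy : ⁅bs 0, bs 1⁆ = bs 2) (hxz : ⁅bs 0, bs 2⁆ = t • bs 1) (hyz : ⁅bs 1, bs 2⁆ = 0) :
    ∃ φ : PLie.PMap R p L, φ (bs 0) = t ^ ((p - 1) / 2) • bs 0 ∧ φ (bs 1) = 0 ∧ φ (bs 2) = 0 := by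
  obtain ⟨m, hm⟩ : ∃ m, p = 2 * m + 1 := (Fact.out : p.Prime).odd_of_ne_two hp
  have hm2 : (p - 1) / 2 = m := by omega
  have hm1 : 1 ≤ m := by have := (Fact.out : p.Prime).two_le; omega
  obtain ⟨φ, hφ, -⟩ := Groth.PLieAlg.existsUnique_pmap bs ![t ^ ((p - 1) / 2) • bs 0, 0, 0] fun i ↦ by
    fin_cases i
    · refine bs.ext fun j ↦ ?_
      have hpow : ∀ n : ℕ, (LieAlgebra.ad R L (bs 0) ^ (2 * n + 1)) (bs 0) = 0 ∧
          (LieAlgebra.ad R L (bs 0) ^ (2 * n + 1)) (bs 1) = t ^ n • bs 2 ∧
          (LieAlgebra.ad R L (bs 0) ^ (2 * n + 1)) (bs 2) = t ^ (n + 1) • bs 1 := by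
        intro n
        induction n with
        | zero => simp [hxy, hxz]
        | succ n ih =>
          obtain ⟨a, b, c⟩ := ih
          simp only [show 2 * (n + 1) + 1 = 2 + (2 * n + 1) by omega, pow_add (LieAlgebra.ad R L (bs 0)) 2, pow_two,
            Module.End.mul_apply, a, b, c, map_zero, map_smul, LieAlgebra.ad_apply, hxy, hxz, smul_smul, ← pow_succ,
            and_self]
      obtain ⟨a, b, c⟩ := hpow m
      rw [← hm] at a b c
      fin_cases j <;> simp [a, b, c, hm2, hxy, hxz, smul_smul, pow_succ]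
    all_goals
      refine bs.ext fun j ↦ ?_
      rw [hm, show 2 * m + 1 = (2 * m - 1) + 2 by omega, pow_add, pow_two, Module.End.mul_apply, Module.End.mul_apply]
      fin_cases j <;> simp [hxy, hxz, hyz, ← lie_skew (bs 1) (bs 0), ← lie_skew (bs 2) (bs 0), ← lie_skew (bs 2) (bs 1)]
  exact ⟨φ, by simpa using hφ 0, by simpa using hφ 1, by simpa using hφ 2⟩

end Groth.Agent.S13779
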