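import Groth.Statements.S1378
import Groth.Agent.LocImm.FppfDominate
import Groth.Agent.LocImm.AICCover
-- import your own Groth.Agent.* helpers here

set_option autoImplicit false
universe u
open FlatMor

namespace Groth.Agent.S1378

open AlgebraicGeometry CategoryTheory Limits Groth.LocImmersion in
theorem lifts_id {S' : Scheme.{u}} {C : CommRingCat.{u}} (g : S' ⟶ Spec C) [Flat g] [LocallyOfFinitePresentation g]
    [Surjective g]
    (hroot : ∀ P : Polynomial C, P.Monic → P.natDegree ≠ 0 → ∃ c, P.eval c = 0)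
    (hdom : ∀ a b : C, a * b = 0 → ∃ e : C, e * e = e ∧ e * a = a ∧ e * b = 0) (q : Spec C) :
    EtaleDominate.Lifts g (𝟙 (Spec C)) q := by
  obtain ⟨Y, π, hs, hf, hfp, hl⟩ := FppfDominate.exists_dominating_fppf g
  have : IsAffine Y := isAffine_of_isAffineHom π
  obtain ⟨φ, hφ⟩ := Spec.map_surjective (Y.isoSpec.inv ≫ π)
  have h1 : IsFinite (Spec.map φ) := hφ ▸ inferInstance
  have h2 : LocallyOfFinitePresentation (Spec.map φ) := hφ ▸ inferInstance
  have h3 : Surjective (Spec.map φ) := hφ ▸ inferInstance
  let D := Γ(Y, ⊤)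
  algebraize [φ.hom]
  have : Module.Finite C D := (IsFinite.SpecMap_iff φ).mp h1
  have : Algebra.FinitePresentation C D := (LocallyOfFinitePresentation.SpecMap_iff φ).mp h2
  obtain ⟨c, hc, ⟨σ⟩⟩ := AICAlgebra.exists_section (D := D) hroot hdom h3.surj q.asIdeal
  let loc : C ⟶ CommRingCat.of (Localization.Away c) := CommRingCat.ofHom (algebraMap C (Localization.Away c))
  have : IsOpenImmersion (Spec.map loc) := IsOpenImmersion.of_isLocalization c
  obtain ⟨z, hz⟩ : q ∈ Set.range (Spec.map loc) :=
    (PrimeSpectrum.localization_away_comap_range (Localization.Away c) c).ge hc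
  let b : Spec (CommRingCat.of (Localization.Away c)) ⟶ Y :=
    Spec.map (CommRingCat.ofHom (σ : D →+* Localization.Away c)) ≫ Y.isoSpec.inv
  have hb : b ≫ π = Spec.map loc := by
    rw [Category.assoc, ← hφ, ← Spec.map_comp]
    congr 1
    ext r
    exact σ.commutes r
  have h4 := EtaleDominate.lifts_comp g b π z (hl (b z))
  rw [hb, ← Category.comp_id (Spec.map loc)] at h4
  rw [← hz]
  exact EtaleDominate.lifts_of_isOpenImmersion g (Spec.map loc) (𝟙 _) z h4


open AlgebraicGeometry CategoryTheory Limits in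
/-- Let S' → S be flat, locally of finite presentation and surjective (an fppf cover by one morphism).
Then there is a surjective integral morphism T → S which factors through S' Zariski locally on T. -/
theorem result {S' S : Scheme.{u}} (g : S' ⟶ S) [Flat g] [LocallyOfFinitePresentation g] [Surjective g] :
    ∃ (T : Scheme.{u}) (π : T ⟶ S), Surjective π ∧ IsIntegralHom π ∧
      ∀ t : ↑T, ∃ (V : T.Opens) (r : ↑V ⟶ S'), t ∈ V ∧ r ≫ g = V.ι ≫ π := by
  refine ⟨Groth.LocImmersion.AICCover.cover S, Groth.LocImmersion.AICCover.π S,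
    Groth.LocImmersion.AICCover.surjective_π, Groth.LocImmersion.AICCover.isIntegralHom_π, fun t => ?_⟩
  obtain ⟨U, hU, q, rfl⟩ := Groth.LocImmersion.AICCover.exists_chart t
  let p := Groth.LocImmersion.AICCover.ι hU ≫ Groth.LocImmersion.AICCover.π S
  obtain ⟨V, h, hq, hh⟩ := lifts_id (pullback.snd g p)
    Groth.LocImmersion.AICCover.exists_root Groth.LocImmersion.AICCover.exists_idempotent q
  refine Groth.LocImmersion.EtaleDominate.lifts_of_isOpenImmersion g (Groth.LocImmersion.AICCover.ι hU)
    (Groth.LocImmersion.AICCover.π S) q ⟨V, h ≫ pullback.fst g p, hq, ?_⟩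
  rw [Category.assoc, pullback.condition, reassoc_of% hh]

end Groth.Agent.S1378
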