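import Groth.Statements.S13781
import Mathlib
import Groth.Agent.Ega4Algebra1.RegularLocal
import Groth.Agent.S9246

set_option autoImplicit false
universe u
open CAlg

namespace Groth.Agent.S13781
theorem regular_localization_of_quotient {B : Type u} [CommRing B] [IsNoetherianRing B] (t : B) (ht : t ∈ nonZeroDivisors B)
    [IsRegularRing (B ⧸ Ideal.span {t})] (Q : Ideal B) [Q.IsPrime] (htQ : t ∈ Q) :
    IsRegularLocalRing (Localization.AtPrime Q) := by
  let R := Localization.AtPrime Q
  let mk := Ideal.Quotient.mk (Ideal.span {t})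
  set T := Ideal.span {algebraMap B R t} with hT
  let g : R →+* R ⧸ T := Ideal.Quotient.mk T
  let φ : B ⧸ Ideal.span {t} →+* R ⧸ T := Ideal.Quotient.lift _ (g.comp (algebraMap B R)) (fun a ha => by
    obtain ⟨r, rfl⟩ := Ideal.mem_span_singleton'.1 ha
    have h0 : g (algebraMap B R t) = 0 := Ideal.Quotient.eq_zero_iff_mem.2 (Ideal.mem_span_singleton_self (algebraMap B R t))
    rw [RingHom.comp_apply, map_mul, map_mul, h0, mul_zero])
  letI := φ.toAlgebra
  haveI hloc : IsLocalization (Q.primeCompl.map mk) (R ⧸ T) := by
    refine IsLocalization.of_surjective (R := B) (S := R) Q.primeCompl mk Ideal.Quotient.mk_surjective g Ideal.Quotient.mk_surjective ?_ ?_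
    · ext x; rfl
    · rw [Ideal.mk_ker, Ideal.mk_ker, Ideal.map_span, Set.image_singleton]
  have hQ : (Q.map mk).comap mk = Q := by
    rw [Ideal.comap_map_of_surjective _ Ideal.Quotient.mk_surjective, ← RingHom.ker_eq_comap_bot, Ideal.mk_ker]
    exact sup_eq_left.2 ((Ideal.span_singleton_le_iff_mem _).2 htQ)
  haveI hp : (Q.map mk).IsPrime :=
    Ideal.map_isPrime_of_surjective Ideal.Quotient.mk_surjective (by rw [Ideal.mk_ker]; exact (Ideal.span_singleton_le_iff_mem _).2 htQ)
  haveI hloc2 : IsLocalization.AtPrime (R ⧸ T) (Q.map mk) := by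
    have he : Q.primeCompl.map mk = (Q.map mk).primeCompl := by
      ext y
      obtain ⟨x, rfl⟩ := Ideal.Quotient.mk_surjective y
      constructor
      · rintro ⟨z, hz, hzx⟩ hx
        change mk z = mk x at hzx
        exact hz (hQ ▸ Ideal.mem_comap.2 (hzx ▸ hx))
      · intro hx
        exact ⟨x, fun h => hx (Ideal.mem_map_of_mem mk h), rfl⟩
    show IsLocalization (Q.map mk).primeCompl (R ⧸ T)
    rw [← he]
    exact hloc
  haveI : IsRegularLocalRing (Localization.AtPrime (Q.map mk)) := IsRegularRing.isRegularLocalRing_localization _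
  haveI hr : IsRegularLocalRing (R ⧸ T) :=
    IsRegularLocalRing.of_ringEquiv (IsLocalization.algEquiv (Q.map mk).primeCompl (Localization.AtPrime (Q.map mk)) (R ⧸ T)).toRingEquiv
  have hmem : algebraMap B R t ∈ IsLocalRing.maximalIdeal R := by
    rw [← Localization.AtPrime.map_eq_maximalIdeal]; exact Ideal.mem_map_of_mem _ htQ
  have hreg : algebraMap B R t ∈ nonZeroDivisors R := IsLocalization.map_nonZeroDivisors_le Q.primeCompl R ⟨t, ht, rfl⟩
  exact Groth.Ega4Algebra1.isRegularLocalRing_of_quotient_span_singleton hmem hreg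

theorem regular_localization_of_etale {A B : Type u} [CommRing A] [CommRing B] [Algebra A B] [IsRegularRing A]
    (t : B) [Algebra.Etale A (Localization.Away t)] (Q : Ideal B) [Q.IsPrime] (htQ : t ∉ Q) :
    IsRegularLocalRing (Localization.AtPrime Q) := by
  let L := Localization.Away t
  have hd : Disjoint (Submonoid.powers t : Set B) Q := Set.disjoint_left.2 (fun x ⟨n, hn⟩ hx => htQ (Ideal.IsPrime.mem_of_pow_mem inferInstance n (by rw [show t ^ n = x from hn]; exact hx)))
  haveI hq : (Q.map (algebraMap B L)).IsPrime := IsLocalization.isPrime_of_isPrime_disjoint (Submonoid.powers t) L Q inferInstance hd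
  have h := (Groth.Agent.S9246.result A L (Q.map (algebraMap B L))).1 (IsRegularRing.isRegularLocalRing_localization _)
  have e : (Q.map (algebraMap B L)).comap (algebraMap B L) = Q :=
    IsLocalization.comap_map_of_isPrime_disjoint (Submonoid.powers t) L inferInstance hd
  have key : ∀ (q : Ideal B) [q.IsPrime], (Q.map (algebraMap B L)).comap (algebraMap B L) = q →
      IsRegularLocalRing (Localization.AtPrime q) := by
    rintro q _ rfl
    exact @IsRegularLocalRing.of_ringEquiv _ _ h _ _
      (IsLocalization.localizationLocalizationAtPrimeIsoLocalization (Submonoid.powers t) (Q.map (algebraMap B L))).toRingEquiv.symm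
  exact key Q e

open Polynomial in
theorem cover_regular {A : Type u} [CommRing A] [IsLocalRing A] [IsRegularRing A] [IsDomain A] (s : A) (hs : s ≠ 0)
    (hreg : IsRegularRing (A ⧸ Ideal.span {s})) (e : ℕ) (he : 0 < e) (heu : IsUnit (e : A)) :
    IsRegularRing (AdjoinRoot (X ^ e - C s)) := by
  set f : A[X] := X ^ e - C s with hf
  have hfm : f.Monic := monic_X_pow_sub_C s he.ne'
  haveI : IsNoetherianRing (AdjoinRoot f) := inferInstance
  let t := AdjoinRoot.root f
  have hte : t ^ e = algebraMap A _ s := by
    rw [← sub_eq_zero]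
    have h := AdjoinRoot.eval₂_root f
    rwa [hf, eval₂_sub, eval₂_X_pow, eval₂_C] at h
  refine @IsRegularRing.mk _ _ _ fun Q hQ => ?_
  by_cases htQ : t ∈ Q
  · have ht : t ∈ nonZeroDivisors (AdjoinRoot f) := by
      rw [mem_nonZeroDivisors_iff_right]
      intro z hz
      haveI : Module.Free A (AdjoinRoot f) := hfm.free_adjoinRoot
      have h2 : s • z = 0 := by
        rw [Algebra.smul_def, ← hte, ← Nat.succ_pred_eq_of_pos he, pow_succ, mul_assoc, mul_comm t, hz, mul_zero]
      exact (smul_eq_zero.1 h2).resolve_left hs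
    let φ : AdjoinRoot f →+* A ⧸ Ideal.span {s} :=
      AdjoinRoot.lift (Ideal.Quotient.mk _) 0 (by
        simp [hf, zero_pow he.ne', Ideal.Quotient.eq_zero_iff_mem, Ideal.mem_span_singleton_self])
    have hφ : Function.Surjective φ := fun y => by
      obtain ⟨a, rfl⟩ := Ideal.Quotient.mk_surjective y
      exact ⟨AdjoinRoot.of f a, AdjoinRoot.lift_of _⟩
    have hker : RingHom.ker φ = Ideal.span {t} := by
      refine le_antisymm (fun x hx => ?_) ((Ideal.span_singleton_le_iff_mem _).2 (AdjoinRoot.lift_root _))
      obtain ⟨p, rfl⟩ := AdjoinRoot.mk_surjective x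
      rw [RingHom.mem_ker, AdjoinRoot.lift_mk, eval₂_at_zero, Ideal.Quotient.eq_zero_iff_mem, Ideal.mem_span_singleton'] at hx
      obtain ⟨c, hc⟩ := hx
      rw [Ideal.mem_span_singleton']
      refine ⟨AdjoinRoot.mk f p.divX + algebraMap A _ c * t ^ (e - 1), ?_⟩
      conv_rhs => rw [← p.X_mul_divX_add, ← hc]
      rw [map_add, map_mul, AdjoinRoot.mk_X, AdjoinRoot.mk_C, map_mul, add_mul, mul_assoc, ← pow_succ, Nat.sub_add_cancel he, hte, mul_comm t]
      rfl
    haveI : IsRegularRing (AdjoinRoot f ⧸ Ideal.span {t}) :=
      IsRegularRing.of_ringEquiv ((Ideal.quotEquivOfEq hker.symm).trans (RingHom.quotientKerEquivOfSurjective hφ)).symm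
    exact regular_localization_of_quotient t ht Q htQ
  · let P : StandardEtalePair A :=
      { f := f, monic_f := hfm, g := X,
        cond := ⟨C (↑heu.unit⁻¹ : A) * X, 0, e, by
          rw [mul_zero, add_zero, hf, derivative_sub, derivative_X_pow, derivative_C, sub_zero]
          rw [mul_mul_mul_comm, ← C_mul, IsUnit.mul_val_inv, C_1, one_mul, ← pow_succ, Nat.sub_add_cancel he]⟩ }
    haveI : Algebra.Etale A (Localization.Away (AdjoinRoot.mk P.f P.g)) := Algebra.Etale.of_equiv P.equivAwayAdjoinRoot
    haveI : Algebra.Etale A (Localization.Away t) := by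
      have hh : t = AdjoinRoot.mk P.f P.g := (AdjoinRoot.mk_X (f := f)).symm
      rw [hh]; infer_instance
    exact regular_localization_of_etale (A := A) t Q htQ


/-- Let A be a regular local ring, s a non-zero element of A such that A/(s) is regular, and e a
positive integer invertible in A. Then A[t]/(t^e - s) is regular. (Regularity of a ring is taken
throughout as: Noetherian, with every localization at a prime ideal a regular local ring; the
hypotheses on A and on A/(s) and the conclusion on A[t]/(t^e - s) are all read this way, which for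
the local rings A and A/(s) is the usual notion once localizations of regular local rings are known
to be regular.) -/
theorem result (A : Type u) [CommRing A] [IsLocalRing A]
    [IsRegularRing A] (s : A) (hs : s ≠ 0) (hreg : IsRegularRing (A ⧸ Ideal.span {s}))
    (e : ℕ) (he : 0 < e) (heu : IsUnit (e : A)) :
    IsRegularRing (AdjoinRoot (Polynomial.X ^ e - Polynomial.C s)) := by
  haveI : IsRegularLocalRing A := IsRegularLocalRing.of_ringEquiv
    (IsLocalization.atUnits A (IsLocalRing.maximalIdeal A).primeCompl (S := Localization.AtPrime (IsLocalRing.maximalIdeal A))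
      (fun x hx => not_not.1 fun h => hx ((IsLocalRing.mem_maximalIdeal x).2 h))).toRingEquiv.symm
  haveI : IsDomain A := Groth.Ega4Algebra1.isDomain_of_isRegularLocalRing A
  exact cover_regular s hs hreg e he heu

end Groth.Agent.S13781
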