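import Groth.Statements.S13782
import Mathlib
import Groth.Agent.Calg4.SmoothRegularField

set_option autoImplicit false
universe u
open CAlg

namespace Groth.Agent.S13782
open scoped TensorProduct
theorem exists_derivation_of_smooth {k P : Type u} [CommRing k] [CommRing P] [Algebra k P] [Algebra.Smooth k P] (f : P)
    (hf : f ∈ nonZeroDivisors P) [Algebra.Smooth k (P ⧸ Ideal.span {f})] :
    ∃ D : Derivation k P (P ⧸ Ideal.span {f}), D f = 1 := by
  classical
  set B := P ⧸ Ideal.span {f}
  set I := RingHom.ker (algebraMap P B) with hI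
  have hIeq : I = Ideal.span {f} := Ideal.mk_ker
  obtain ⟨l, hl⟩ := (Algebra.FormallySmooth.iff_split_injection (R := k) (P := P) (A := B) Ideal.Quotient.mk_surjective).1 inferInstance
  let φ : I.Cotangent := I.toCotangent ⟨f, hIeq.symm.le (Ideal.mem_span_singleton_self f)⟩
  have hex : ∀ z : I.Cotangent, ∃ c : P, z = c • φ := by
    intro z
    obtain ⟨⟨y, hy⟩, rfl⟩ := I.toCotangent_surjective z
    obtain ⟨c, rfl⟩ := Ideal.mem_span_singleton'.1 (hIeq.le hy)
    exact ⟨c, by rw [← LinearMap.map_smul]; rfl⟩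
  choose c hc using hex
  have huniq : ∀ p q : P, p • φ = q • φ → Ideal.Quotient.mk (Ideal.span {f}) p = Ideal.Quotient.mk _ q := by
    intro p q h
    rw [← LinearMap.map_smul, ← LinearMap.map_smul, Ideal.toCotangent_eq] at h
    replace h := Ideal.pow_right_mono hIeq.le 2 h
    rw [Ideal.span_singleton_pow] at h
    obtain ⟨r, hr⟩ := Ideal.mem_span_singleton'.1 h
    rw [Ideal.Quotient.eq, Ideal.mem_span_singleton']
    refine ⟨r, (mul_cancel_right_mem_nonZeroDivisors hf).1 ?_⟩
    rw [mul_assoc, ← pow_two, hr]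
    show p * f - q * f = _
    ring
  let μ : I.Cotangent →ₗ[P] B :=
    { toFun := fun z => Ideal.Quotient.mk _ (c z)
      map_add' := fun z w => by
        rw [← map_add]; exact huniq _ _ (by rw [add_smul, ← hc, ← hc, ← hc])
      map_smul' := fun r z => by
        rw [RingHom.id_apply, Algebra.smul_def, Ideal.Quotient.algebraMap_eq, ← map_mul]
        exact huniq _ _ (by rw [mul_smul, ← hc, ← hc]) }
  refine ⟨((μ.comp l).comp ((TensorProduct.mk P B (Ω[P⁄k])) 1)).compDer (KaehlerDifferential.D k P), ?_⟩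
  show μ (l ((1 : B) ⊗ₜ[P] KaehlerDifferential.D k P f)) = 1
  rw [show (1 : B) ⊗ₜ[P] KaehlerDifferential.D k P f = KaehlerDifferential.kerCotangentToTensor k P B φ from rfl,
    ← LinearMap.comp_apply l, hl, LinearMap.id_apply]
  show Ideal.Quotient.mk _ (c φ) = 1
  rw [← map_one (Ideal.Quotient.mk _)]
  exact huniq _ _ (by rw [← hc, one_smul])

theorem smooth_of_derivation {k P : Type u} [CommRing k] [CommRing P] [Algebra k P] [Algebra.Smooth k P] (f : P)
    (D : Derivation k P (P ⧸ Ideal.span {f})) (hD : D f = 1) : Algebra.Smooth k (P ⧸ Ideal.span {f}) := by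
  set B := P ⧸ Ideal.span {f}
  set I := RingHom.ker (algebraMap P B) with hI
  have hIeq : I = Ideal.span {f} := Ideal.mk_ker
  let φ : I.Cotangent := I.toCotangent ⟨f, hIeq.symm.le (Ideal.mem_span_singleton_self f)⟩
  let ν : B →ₗ[P] I.Cotangent := (Ideal.span {f}).liftQ ((LinearMap.id : P →ₗ[P] P).smulRight φ) (by
    intro a ha
    rw [LinearMap.mem_ker, LinearMap.smulRight_apply, LinearMap.id_apply, ← LinearMap.map_smul, Ideal.toCotangent_eq_zero, pow_two]
    exact Ideal.mul_mem_mul (hIeq.symm.le ha) (hIeq.symm.le (Ideal.mem_span_singleton_self f)))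
  let ψ : B ⊗[P] Ω[P⁄k] →ₗ[P] B := (D.liftKaehlerDifferential.liftBaseChange B).restrictScalars P
  have hfs : Algebra.FormallySmooth k B := by
    refine (Algebra.FormallySmooth.iff_split_injection (R := k) (P := P) (A := B) Ideal.Quotient.mk_surjective).2 ⟨ν.comp ψ, ?_⟩
    refine LinearMap.ext fun z => ?_
    obtain ⟨⟨y, hy⟩, rfl⟩ := I.toCotangent_surjective z
    obtain ⟨c, rfl⟩ := Ideal.mem_span_singleton'.1 (hIeq.le hy)
    show ν (ψ ((1 : B) ⊗ₜ[P] KaehlerDifferential.D k P (c * f))) = I.toCotangent ⟨c * f, hy⟩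
    have h : ψ ((1 : B) ⊗ₜ[P] KaehlerDifferential.D k P (c * f)) = Ideal.Quotient.mk (Ideal.span {f}) c := by
      show (1 : B) • D.liftKaehlerDifferential (KaehlerDifferential.D k P (c * f)) = _
      rw [one_smul, Derivation.liftKaehlerDifferential_comp_D, Derivation.leibniz, hD, Algebra.smul_def, Algebra.smul_def,
        Ideal.Quotient.algebraMap_eq, Ideal.Quotient.eq_zero_iff_mem.2 (Ideal.mem_span_singleton_self f), zero_mul, add_zero, mul_one]
    rw [h]
    show ((LinearMap.id : P →ₗ[P] P).smulRight φ) c = _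
    rw [LinearMap.smulRight_apply, LinearMap.id_apply, ← LinearMap.map_smul]
    rfl
  haveI : Algebra.FinitePresentation k B := Algebra.FinitePresentation.quotient (Submodule.fg_span_singleton f)
  exact { formallySmooth := hfs }

theorem mem_nonZeroDivisors_of_irreducible (k A : Type u) [Field k] [CommRing A] [Algebra k A] [Algebra.Smooth k A]
    (s : A) (hs : Irreducible s) : s ∈ nonZeroDivisors A := by
  rw [mem_nonZeroDivisors_iff_right]
  intro z hz
  have htop : (Submodule.span A {s}).annihilator ⊔ (Submodule.span A {z}).annihilator = ⊤ := by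
    by_contra hne
    obtain ⟨M, hM, hle⟩ := Ideal.exists_le_maximal _ hne
    haveI := Groth.Calg4.isRegularLocalRing_of_isSmoothAt (k := k) M
    haveI := Groth.Ega4Algebra1.isDomain_of_isRegularLocalRing (Localization.AtPrime M)
    have h : algebraMap A (Localization.AtPrime M) z * algebraMap A _ s = 0 := by rw [← map_mul, hz, map_zero]
    rcases mul_eq_zero.1 h with h | h <;>
      rw [IsLocalization.map_eq_zero_iff M.primeCompl] at h <;> obtain ⟨⟨c, hc⟩, hcs⟩ := h <;> refine hc (hle ?_)
    · exact Ideal.mem_sup_right ((Submodule.mem_annihilator_span_singleton _ _).2 hcs)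
    · exact Ideal.mem_sup_left ((Submodule.mem_annihilator_span_singleton _ _).2 hcs)
  obtain ⟨u, hu, v, hv, huv⟩ := Submodule.mem_sup.1 (htop ▸ Submodule.mem_top : (1 : A) ∈ _)
  rw [Submodule.mem_annihilator_span_singleton, smul_eq_mul] at hu hv
  have h2 : s = v * s := by
    conv_lhs => rw [← one_mul s, ← huv, add_mul, hu, zero_add]
  rcases hs.isUnit_or_isUnit h2 with h | h
  · exact h.mul_right_eq_zero.1 hv
  · exact absurd h hs.not_isUnit

open Polynomial in
theorem main (k A : Type u) [Field k] [CommRing A] [Algebra k A] [Algebra.Smooth k A] (s : A) (hs : s ∈ nonZeroDivisors A)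
    (e : ℕ) (he : 2 ≤ e) (hek : (e : k) ≠ 0) :
    Algebra.Smooth k (A[X] ⧸ Ideal.span {X ^ e - C s}) ↔ Algebra.Smooth k (A ⧸ Ideal.span {s}) := by
  haveI : Algebra.Smooth A A[X] := { }
  haveI : Algebra.Smooth k A[X] := Algebra.Smooth.comp k A A[X]
  set f : A[X] := X ^ e - C s with hf
  set B := A[X] ⧸ Ideal.span {f}
  set C' := A ⧸ Ideal.span {s}
  let mk := Ideal.Quotient.mk (Ideal.span {f})
  let φ : A[X] →ₐ[k] C' := (Ideal.Quotient.mkₐ k (Ideal.span {s})).comp ((Polynomial.aeval (0 : A)).restrictScalars k)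
  have hφ : ∀ p : A[X], φ p = Ideal.Quotient.mk _ (p.eval 0) := fun p => by
    show Ideal.Quotient.mk _ (Polynomial.aeval (0 : A) p) = _
    rw [Polynomial.coe_aeval_eq_eval]
  letI := φ.toRingHom.toAlgebra
  haveI : IsScalarTower k A[X] C' := IsScalarTower.of_algebraMap_eq fun r => (φ.commutes r).symm
  let ρ : B →ₗ[A[X]] C' := (Ideal.span {f}).liftQ (Algebra.linearMap A[X] C') (by
    intro a ha
    obtain ⟨c, rfl⟩ := Ideal.mem_span_singleton'.1 ha
    show φ (c * f) = 0
    rw [map_mul, hφ f, show f.eval 0 = -s by simp [hf, zero_pow (by omega : e ≠ 0)], map_neg,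
      Ideal.Quotient.eq_zero_iff_mem.2 (Ideal.mem_span_singleton_self s), neg_zero, mul_zero])
  have hρ : ∀ p, ρ (mk p) = Ideal.Quotient.mk _ (p.eval 0) := hφ
  have hρs : Function.Surjective ρ := fun y => by
    obtain ⟨a, rfl⟩ := Ideal.Quotient.mk_surjective y
    exact ⟨mk (C a), by rw [hρ, eval_C]⟩
  constructor
  · intro _
    have hfm : f.Monic := monic_X_pow_sub_C s (by omega)
    obtain ⟨D, hD⟩ := exists_derivation_of_smooth (k := k) f hfm.mem_nonZeroDivisors
    have hsmul : ∀ (a : A) (b : B), ρ ((C a : A[X]) • b) = a • ρ b := fun a b => by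
      rw [LinearMap.map_smul, Algebra.smul_def, Algebra.smul_def]
      congr 1
      show φ (C a) = _
      rw [hφ, eval_C]; rfl
    let DA : Derivation k A C' := Derivation.mk'
      (((ρ.restrictScalars k).comp D.toLinearMap).comp (IsScalarTower.toAlgHom k A A[X]).toLinearMap)
      (fun a b => by
        show ρ (D (C (a * b))) = a • ρ (D (C b)) + b • ρ (D (C a))
        rw [C_mul, D.leibniz, map_add, hsmul, hsmul])
    refine smooth_of_derivation s (-DA) ?_
    show - ρ (D (C s)) = 1
    have h := congrArg ρ hD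
    have hDf : D f = e • (X ^ (e - 1) : A[X]) • D X - D (C s) := by
      show D (X ^ e - C s) = _
      rw [map_sub, D.leibniz_pow]
    rw [hDf, map_sub, map_nsmul, LinearMap.map_smul,
      show ρ (1 : B) = 1 by rw [show (1 : B) = mk 1 from rfl, hρ, eval_one, map_one]] at h
    rw [← h]
    have h0 : (X ^ (e - 1) : A[X]) • ρ (D X) = 0 := by
      rw [Algebra.smul_def, show algebraMap A[X] C' (X ^ (e - 1)) = φ (X ^ (e - 1)) from rfl, hφ]
      simp [zero_pow (by omega : e - 1 ≠ 0)]
    rw [h0, smul_zero, zero_sub]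
  · intro _
    obtain ⟨DA, hDA⟩ := exists_derivation_of_smooth (k := k) s hs
    let D1 : Derivation k A[X] C' := Derivation.mk'
      (DA.toLinearMap.comp ((Polynomial.aeval (0 : A)).restrictScalars k).toLinearMap)
      (fun p q => by
        show DA (Polynomial.aeval (0 : A) (p * q)) = p • DA (Polynomial.aeval (0 : A) q) + q • DA (Polynomial.aeval (0 : A) p)
        rw [map_mul, DA.leibniz, Algebra.smul_def, Algebra.smul_def, Algebra.smul_def, Algebra.smul_def]
        rfl)
    obtain ⟨L, hL⟩ := Module.projective_lifting_property ρ D1.liftKaehlerDifferential hρs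
    let D2 : Derivation k A[X] B := L.compDer (KaehlerDifferential.D k A[X])
    have hD2 : ρ (D2 f) = -1 := by
      show ρ (L (KaehlerDifferential.D k A[X] f)) = -1
      rw [← LinearMap.comp_apply, hL, Derivation.liftKaehlerDifferential_comp_D]
      show DA (Polynomial.aeval (0 : A) f) = -1
      rw [show Polynomial.aeval (0 : A) f = -s by simp [hf, zero_pow (by omega : e ≠ 0)], map_neg, hDA]
    obtain ⟨p, hp⟩ := Ideal.Quotient.mk_surjective (1 + D2 f)
    have hp0 : p.eval 0 ∈ Ideal.span {s} := by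
      rw [← Ideal.Quotient.eq_zero_iff_mem, ← hρ, hp, map_add, hD2,
        show ρ (1 : B) = 1 by rw [show (1 : B) = mk 1 from rfl, hρ, eval_one, map_one], add_neg_cancel]
    obtain ⟨r, hr⟩ := Ideal.mem_span_singleton'.1 hp0
    -- `1 + D2 f` is a multiple of `t`
    obtain ⟨w, hw⟩ : ∃ w : B, 1 + D2 f = mk X * w := by
      refine ⟨mk p.divX + mk (C r) * mk X ^ (e - 1), ?_⟩
      rw [← hp]
      conv_lhs => rw [← p.X_mul_divX_add, coeff_zero_eq_eval_zero, ← hr]
      rw [map_add, map_mul, mul_add, mul_left_comm, ← pow_succ', Nat.sub_add_cancel (by omega : 1 ≤ e), C_mul, map_mul]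
      congr 2
      rw [← map_pow, Ideal.Quotient.eq, ← neg_mem_iff, neg_sub]
      exact Ideal.mem_span_singleton_self f
    let D3 : Derivation k A[X] B := ((Ideal.span {f}).mkQ).compDer ((Polynomial.derivative' (R := A)).restrictScalars k)
    have hD3 : D3 f = (e : B) * mk X ^ (e - 1) := by
      have hfd : derivative f = C (e : A) * X ^ (e - 1) := by simp [hf, derivative_X_pow]
      show mk (derivative f) = _
      rw [hfd, map_mul, map_pow, ← map_natCast (C : A →+* A[X]) e |>.symm, map_natCast]
    have hunit : IsUnit ((e : k)) := isUnit_iff_ne_zero.2 hek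
    let ei : B := algebraMap k B (↑hunit.unit⁻¹ : k)
    have hei : ei * (e : B) = 1 := by
      rw [← map_natCast (algebraMap k B) e, ← map_mul, IsUnit.val_inv_mul, map_one]
    let α : B := ∑ i ∈ Finset.range (e - 1), (mk X * w) ^ i
    have hα : α * (mk X * w - 1) = (mk X * w) ^ (e - 1) - 1 := geom_sum_mul _ _
    refine smooth_of_derivation f ((-α) • D2 + (w ^ (e - 1) * ei) • D3) ?_
    rw [Derivation.add_apply, Derivation.smul_apply, Derivation.smul_apply, hD3, smul_eq_mul, smul_eq_mul,
      show D2 f = mk X * w - 1 by rw [← hw, add_sub_cancel_left]]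
    rw [mul_pow] at hα
    linear_combination (w ^ (e - 1) * mk X ^ (e - 1)) * hei - hα


/-- Let k be a field, A a smooth k-algebra, s an irreducible element of A and e an integer, at least 2,
that is invertible in k. Then the k-algebra A[t]/(t^e - s) is smooth exactly when the quotient ring
A/(s) is a smooth k-algebra. (Smooth over k means formally smooth and of finite presentation over
k.) -/
theorem result (k A : Type u) [Field k] [CommRing A] [Algebra k A]
    [Algebra.Smooth k A] (s : A) (hs : Irreducible s) (e : ℕ) (he : 2 ≤ e) (hek : (e : k) ≠ 0) :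
    Algebra.Smooth k (AdjoinRoot (Polynomial.X ^ e - Polynomial.C s)) ↔
      Algebra.Smooth k (A ⧸ Ideal.span {s}) := by
  have hs0 := mem_nonZeroDivisors_of_irreducible k A s hs
  have e1 : (Polynomial A ⧸ Ideal.span {Polynomial.X ^ e - Polynomial.C s}) ≃ₐ[k] AdjoinRoot (Polynomial.X ^ e - Polynomial.C s) :=
    { RingEquiv.refl _ with commutes' := fun _ => rfl }
  rw [← main k A s hs0 e he hek]
  exact ⟨fun h => Algebra.Smooth.of_equiv e1.symm, fun h => Algebra.Smooth.of_equiv e1⟩

end Groth.Agent.S13782
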