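import Groth.Statements.S13783
import Mathlib

set_option autoImplicit false
universe u
open Curves

namespace Groth.Agent.S13783


section helpers

variable {k K : Type u} [Field k] [Field K] [Algebra k K]

local notation "P1" K => Projectivization K (Fin 2 → K)

noncomputable def act (g : Matrix.GeneralLinearGroup (Fin 2) K) (x : P1 K) : P1 K :=
  (Matrix.GeneralLinearGroup.toLin g) • x

theorem mulVec_ne_zero (g : Matrix.GeneralLinearGroup (Fin 2) K) {v : Fin 2 → K} (hv : v ≠ 0) :
    (g : Matrix (Fin 2) (Fin 2) K).mulVec v ≠ 0 := fun h => hv <|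
  Matrix.mulVec_injective_iff_isUnit.mpr g.isUnit (h.trans (Matrix.mulVec_zero _).symm)

theorem act_mk (g : Matrix.GeneralLinearGroup (Fin 2) K) {v : Fin 2 → K} (hv : v ≠ 0) :
    act g (Projectivization.mk K v hv) =
      Projectivization.mk K ((g : Matrix (Fin 2) (Fin 2) K).mulVec v) (mulVec_ne_zero g hv) := by
  rfl

theorem act_mul (g h : Matrix.GeneralLinearGroup (Fin 2) K) (x : P1 K) :
    act (g * h) x = act g (act h x) := by
  simp only [act, map_mul, mul_smul]

theorem act_one (x : P1 K) : act (1 : Matrix.GeneralLinearGroup (Fin 2) K) x = x := by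
  simp only [act, map_one, one_smul]

theorem e0_ne : (![1, 0] : Fin 2 → K) ≠ 0 := fun h => one_ne_zero (congrFun h 0)
theorem e1_ne : (![0, 1] : Fin 2 → K) ≠ 0 := fun h => one_ne_zero (congrFun h 1)
theorem e2_ne : (![1, 1] : Fin 2 → K) ≠ 0 := fun h => one_ne_zero (congrFun h 0)

theorem det_ne_of_ne {a b : Fin 2 → K} {ha : a ≠ 0} {hb : b ≠ 0}
    (h : Projectivization.mk K a ha ≠ Projectivization.mk K b hb) :
    a 0 * b 1 - a 1 * b 0 ≠ 0 := by
  intro h0
  apply h
  rw [Projectivization.mk_eq_mk_iff']
  by_cases hb0 : b 0 = 0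
  · have hb1 : b 1 ≠ 0 := fun h1 => hb (funext fun i => by fin_cases i <;> simp [hb0, h1])
    refine ⟨a 1 / b 1, funext fun i => ?_⟩
    fin_cases i
    · have : a 0 = 0 := (mul_eq_zero.mp (by linear_combination h0 + a 1 * hb0)).resolve_right hb1
      simp [this, hb0]
    · simp [div_mul_cancel₀ _ hb1]
  · refine ⟨a 0 / b 0, funext (Fin.forall_fin_two.mpr ⟨?_, ?_⟩)⟩
    · simp [div_mul_cancel₀ _ hb0]
    · simp only [Pi.smul_apply, smul_eq_mul]
      field_simp
      linear_combination h0

/-- Three distinct points are the images of the three standard ones. -/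
theorem exists_frame {x y z : P1 K} (hxy : x ≠ y) (hxz : x ≠ z) (hyz : y ≠ z) :
    ∃ g : Matrix.GeneralLinearGroup (Fin 2) K,
      act g (Projectivization.mk K _ e0_ne) = x ∧ act g (Projectivization.mk K _ e1_ne) = y ∧
        act g (Projectivization.mk K _ e2_ne) = z := by
  induction x using Projectivization.ind with | _ a ha =>
  induction y using Projectivization.ind with | _ b hb =>
  induction z using Projectivization.ind with | _ c hc =>
  have hab := det_ne_of_ne hxy
  have hac := det_ne_of_ne hxz
  have hbc := det_ne_of_ne hyz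
  set D := a 0 * b 1 - a 1 * b 0 with hD
  set α := (c 0 * b 1 - c 1 * b 0) / D with hα
  set β := (a 0 * c 1 - a 1 * c 0) / D with hβ
  have hα0 : α ≠ 0 := div_ne_zero (fun h => hbc (by linear_combination -h)) hab
  have hβ0 : β ≠ 0 := div_ne_zero hac hab
  let M : Matrix (Fin 2) (Fin 2) K := !![α * a 0, β * b 0; α * a 1, β * b 1]
  have hM : M.det ≠ 0 := by
    simp only [M, Matrix.det_fin_two_of]
    intro h
    exact mul_ne_zero (mul_ne_zero hα0 hβ0) hab (by linear_combination h + (α * β) * hD)
  refine ⟨Matrix.GeneralLinearGroup.mkOfDetNeZero M hM, ?_, ?_, ?_⟩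
  · rw [act_mk, Projectivization.mk_eq_mk_iff']
    exact ⟨α, funext fun i => by fin_cases i <;> simp [M, Matrix.mulVec, dotProduct]⟩
  · rw [act_mk, Projectivization.mk_eq_mk_iff']
    exact ⟨β, funext fun i => by fin_cases i <;> simp [M, Matrix.mulVec, dotProduct]⟩
  · rw [act_mk, Projectivization.mk_eq_mk_iff']
    refine ⟨1, funext fun i => ?_⟩
    fin_cases i
    · simp [M, Matrix.mulVec, dotProduct, hα, hβ]
      field_simp
      linear_combination (c 0) * hD
    · simp [M, Matrix.mulVec, dotProduct, hα, hβ]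
      field_simp
      linear_combination (c 1) * hD

/-- Fixing the three standard points forces a scalar. -/
theorem scalar_of_fix (g : Matrix.GeneralLinearGroup (Fin 2) K)
    (h0 : act g (Projectivization.mk K _ e0_ne) = Projectivization.mk K _ e0_ne)
    (h1 : act g (Projectivization.mk K _ e1_ne) = Projectivization.mk K _ e1_ne)
    (h2 : act g (Projectivization.mk K _ e2_ne) = Projectivization.mk K _ e2_ne) :
    (g : Matrix (Fin 2) (Fin 2) K) = (g : Matrix (Fin 2) (Fin 2) K) 0 0 • 1 := by
  rw [act_mk, Projectivization.mk_eq_mk_iff'] at h0 h1 h2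
  obtain ⟨c0, h0⟩ := h0
  obtain ⟨c1, h1⟩ := h1
  obtain ⟨c2, h2⟩ := h2
  have p0 := congrFun h0 1
  have p1 := congrFun h1 0
  have p2 := congrFun h2 0
  have p3 := congrFun h2 1
  simp [Matrix.mulVec, dotProduct] at p0 p1 p2 p3
  ext i j
  fin_cases i <;> fin_cases j <;> simp <;> first | exact p0.symm | exact p1.symm | skip
  rw [← p0, ← p1] at *
  simp at p2 p3
  rw [← p3, p2]

/-- Uniqueness up to a scalar of the element with three prescribed values. -/
theorem unique_up_to_scalar {T T' : Matrix.GeneralLinearGroup (Fin 2) K} {x y z : P1 K}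
    (hxy : x ≠ y) (hxz : x ≠ z) (hyz : y ≠ z) (hx : act T x = act T' x) (hy : act T y = act T' y)
    (hz : act T z = act T' z) :
    ∃ c : K, (T' : Matrix (Fin 2) (Fin 2) K) = c • (T : Matrix (Fin 2) (Fin 2) K) := by
  obtain ⟨P, rfl, rfl, rfl⟩ := exists_frame hxy hxz hyz
  have key : ∀ e, act T (act P e) = act T' (act P e) → act (P⁻¹ * T⁻¹ * T' * P) e = e := by
    intro e he
    rw [act_mul, act_mul, act_mul, ← he, ← act_mul T⁻¹ T, inv_mul_cancel, act_one, ← act_mul,
      inv_mul_cancel, act_one]
  have := scalar_of_fix _ (key _ hx) (key _ hy) (key _ hz)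
  set c := (↑(P⁻¹ * T⁻¹ * T' * P) : Matrix (Fin 2) (Fin 2) K) 0 0
  refine ⟨c, ?_⟩
  have h2 : T' = T * (P * (P⁻¹ * T⁻¹ * T' * P) * P⁻¹) := by group
  conv_lhs => rw [h2]
  rw [Units.val_mul, Units.val_mul, Units.val_mul, this]
  simp

theorem galP_act (σ : K ≃ₐ[k] K) (T : Matrix.GeneralLinearGroup (Fin 2) K) (x : P1 K) :
    W4c1stackycurves.galP σ (act T x) =
      act (Matrix.GeneralLinearGroup.map (σ : K →+* K) T) (W4c1stackycurves.galP σ x) := by
  induction x using Projectivization.ind with | _ a ha =>
  show Projectivization.mk K _ _ = Projectivization.mk K _ _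
  congr 1
  funext i
  exact RingHom.map_mulVec (σ : K →+* K) (T : Matrix (Fin 2) (Fin 2) K) a i

theorem galP_galP_symm (σ : K ≃ₐ[k] K) (x : P1 K) :
    W4c1stackycurves.galP σ (W4c1stackycurves.galP σ.symm x) = x := by
  induction x using Projectivization.ind with | _ a ha =>
  show Projectivization.mk K _ _ = Projectivization.mk K _ _
  congr 1
  funext i
  exact σ.apply_symm_apply (a i)

theorem galP_rat (σ : K ≃ₐ[k] K) {v : Fin 2 → K} (hv : v ≠ 0) (h : ∀ i, σ (v i) = v i) :
    W4c1stackycurves.galP σ (Projectivization.mk K v hv) = Projectivization.mk K v hv := by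
  show Projectivization.mk K _ _ = Projectivization.mk K _ _
  congr 1
  funext i
  exact h i

theorem exists_rat_notMem (T : Set (P1 K)) (hT : T.Finite) (hT3 : T.ncard < 3) :
    ∃ a ∉ T, ∀ σ : K ≃ₐ[k] K, W4c1stackycurves.galP σ a = a := by
  let E : Set (P1 K) := {Projectivization.mk K _ e0_ne, Projectivization.mk K _ e1_ne,
    Projectivization.mk K _ e2_ne}
  have hE : E.ncard = 3 := by
    refine Set.ncard_eq_three.mpr ⟨_, _, _, ?_, ?_, ?_, rfl⟩ <;>
    · intro h
      rw [Projectivization.mk_eq_mk_iff'] at h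
      obtain ⟨c, hc⟩ := h
      have h0 := congrFun hc 0
      have h1 := congrFun hc 1
      simp at h0 h1
      try simp_all
  obtain ⟨a, haE, haT⟩ := Set.exists_mem_notMem_of_ncard_lt_ncard (hE ▸ hT3) hT
  refine ⟨a, haT, fun σ => ?_⟩
  rcases haE with rfl | rfl | rfl <;> refine galP_rat σ _ fun i => ?_ <;>
    fin_cases i <;> simp

theorem exists_gl [FiniteDimensional k K] [IsGalois k K] (m : ℕ) :
    ∀ (S : Set (P1 K)) (B : (P1 K) → P1 K), S.Finite → S.ncard + m = 3 → Set.InjOn B S →
      (∀ (σ : K ≃ₐ[k] K), ∀ x ∈ S, W4c1stackycurves.galP σ x ∈ S) →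
      (∀ (σ : K ≃ₐ[k] K), ∀ x ∈ S, B (W4c1stackycurves.galP σ x) = W4c1stackycurves.galP σ (B x)) →
      ∃ g : Matrix.GeneralLinearGroup (Fin 2) k,
        ∀ x ∈ S, act (Matrix.GeneralLinearGroup.map (algebraMap k K) g) x = B x := by
  classical
  induction m with
  | zero =>
    intro S B _ h3 hinj hst heq
    obtain ⟨x, y, z, hxy, hxz, hyz, rfl⟩ := Set.ncard_eq_three.mp h3
    obtain ⟨P, hP0, hP1, hP2⟩ := exists_frame hxy hxz hyz
    have hB : ∀ {p q}, p ∈ ({x, y, z} : Set (P1 K)) → q ∈ ({x, y, z} : Set (P1 K)) → p ≠ q →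
        B p ≠ B q := fun hp hq hpq h => hpq (hinj hp hq h)
    obtain ⟨Q, hQ0, hQ1, hQ2⟩ := exists_frame (hB (by simp) (by simp) hxy) (hB (by simp) (by simp) hxz)
      (hB (by simp) (by simp) hyz)
    set T := Q * P⁻¹ with hTdef
    have hT : ∀ p ∈ ({x, y, z} : Set (P1 K)), act T p = B p := by
      have key : ∀ e p, act P e = p → act Q e = B p → act T p = B p := fun e p h h' => by
        rw [hTdef, act_mul, ← h, ← act_mul P⁻¹, inv_mul_cancel, act_one, h', h]
      rintro p (rfl | rfl | rfl)
      exacts [key _ _ hP0 hQ0, key _ _ hP1 hQ1, key _ _ hP2 hQ2]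
    have hσ : ∀ σ : K ≃ₐ[k] K, ∃ c : K,
        (T : Matrix (Fin 2) (Fin 2) K).map σ = c • (T : Matrix (Fin 2) (Fin 2) K) := by
      intro σ
      have hq : ∀ p ∈ ({x, y, z} : Set (P1 K)),
          act T p = act (Matrix.GeneralLinearGroup.map (σ : K →+* K) T) p := by
        intro p hp
        have hp' := hst σ.symm p hp
        conv_rhs => rw [← galP_galP_symm σ p, ← galP_act, hT _ hp', ← heq σ _ hp', galP_galP_symm]
        exact hT p hp
      exact unique_up_to_scalar hxy hxz hyz (hq x (by simp)) (hq y (by simp)) (hq z (by simp))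
    obtain ⟨i, j, hij⟩ : ∃ i j, (T : Matrix (Fin 2) (Fin 2) K) i j ≠ 0 := by
      by_contra h
      push Not at h
      have hd := (Matrix.GeneralLinearGroup.det T).ne_zero
      exact hd (by simp [Matrix.det_fin_two, h])
    set t := (T : Matrix (Fin 2) (Fin 2) K) i j
    have hfix : ∀ a b, (T : Matrix (Fin 2) (Fin 2) K) a b / t ∈ Set.range (algebraMap k K) := by
      intro a b
      rw [IsGalois.mem_range_algebraMap_iff_fixed]
      intro σ
      obtain ⟨c, hc⟩ := hσ σ
      have h1 := congrFun (congrFun hc i) j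
      have h2 := congrFun (congrFun hc a) b
      simp only [Matrix.map_apply, Matrix.smul_apply, smul_eq_mul] at h1 h2
      have hc0 : c ≠ 0 := fun h0 => hij (by rw [h0, zero_mul, map_eq_zero] at h1; exact h1)
      rw [map_div₀, h1, h2, mul_div_mul_left _ _ hc0]
    choose G hG using hfix
    have hdet : (Matrix.of G).det ≠ 0 := by
      intro h0
      have h1 := congrArg (algebraMap k K) h0
      rw [map_zero, Matrix.det_fin_two, map_sub, map_mul, map_mul] at h1
      simp only [Matrix.of_apply, hG] at h1
      have hd := (Matrix.GeneralLinearGroup.det T).ne_zero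
      simp only [Matrix.GeneralLinearGroup.val_det_apply, Matrix.det_fin_two] at hd
      apply hd
      field_simp at h1
      linear_combination h1
    refine ⟨Matrix.GeneralLinearGroup.mkOfDetNeZero (Matrix.of G) hdet, fun p hp => ?_⟩
    rw [← hT p hp]
    induction p using Projectivization.ind with | _ v hv =>
    rw [act_mk, act_mk, Projectivization.mk_eq_mk_iff']
    refine ⟨t⁻¹, funext fun a => ?_⟩
    fin_cases a <;> simp [Matrix.mulVec, dotProduct, hG] <;> ring
  | succ m ih =>
    intro S B hfin h3 hinj hst heq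
    have himg : (B '' S).ncard = S.ncard := hinj.ncard_image
    obtain ⟨a, ha, hafix⟩ := exists_rat_notMem (k := k) S hfin (by omega)
    obtain ⟨a', ha', ha'fix⟩ := exists_rat_notMem (k := k) (B '' S) (hfin.image B) (by omega)
    have hB : ∀ p ∈ S, Function.update B a a' p = B p := fun p hp =>
      Function.update_of_ne (by rintro rfl; exact ha hp) _ _
    obtain ⟨g, hg⟩ := ih (insert a S) (Function.update B a a') (hfin.insert a)
      (by rw [Set.ncard_insert_of_notMem ha hfin]; omega)
      (by
        rintro p (rfl | hp) q (rfl | hq) h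
        · rfl
        · rw [Function.update_self, hB q hq] at h
          exact absurd ⟨q, hq, h.symm⟩ ha'
        · rw [Function.update_self, hB p hp] at h
          exact absurd ⟨p, hp, h⟩ ha'
        · rw [hB p hp, hB q hq] at h
          exact hinj hp hq h)
      (by
        rintro σ p (rfl | hp)
        · exact Or.inl (hafix σ)
        · exact Or.inr (hst σ p hp))
      (by
        rintro σ p (rfl | hp)
        · rw [hafix σ, Function.update_self, ha'fix σ]
        · rw [hB p hp, hB _ (hst σ p hp), heq σ p hp])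
    exact ⟨g, fun p hp => by rw [hg p (Set.mem_insert_of_mem a hp), hB p hp]⟩

end helpers

/-- Let k be a field and K a finite Galois extension of k. Let S be a finite set of at most three
K-points of the projective line that is stable under the Galois group of K over k, and let b be a
Galois-equivariant bijection from S onto another set S' of K-points. Then some element of GL_2(k)
maps S onto S'. (This is the statement that two closed subschemes of the projective line over k
which are etale over k of the same degree at most 3 and have isomorphic k-algebras of functions are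
exchanged by a k-automorphism of the line, written for their sets of points over a finite Galois
extension K of k splitting both; an isomorphism of the function algebras is the same as a
Galois-equivariant bijection of these point sets.) -/
theorem result (k K : Type u) [Field k] [Field K]
    [Algebra k K] [FiniteDimensional k K] [IsGalois k K]
    (S S' : Set (Projectivization K (Fin 2 → K))) (hfin : S.Finite) (h3 : S.ncard ≤ 3)
    (hS : ∀ (σ : K ≃ₐ[k] K) (x : Projectivization K (Fin 2 → K)), x ∈ S → W4c1stackycurves.galP σ x ∈ S)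
    (b : S ≃ S')
    (hb : ∀ (σ : K ≃ₐ[k] K) (x : S),
      (b ⟨W4c1stackycurves.galP σ x.1, hS σ x.1 x.2⟩ : Projectivization K (Fin 2 → K)) =
        W4c1stackycurves.galP σ (b x).1) :
    ∃ g : Matrix.GeneralLinearGroup (Fin 2) k,
      (fun x => (Matrix.GeneralLinearGroup.toLin ((Matrix.GeneralLinearGroup.map (algebraMap k K)) g)) • x) '' S = S' := by
  classical
  let B : Projectivization K (Fin 2 → K) → Projectivization K (Fin 2 → K) :=
    fun x => if h : x ∈ S then (b ⟨x, h⟩ : Projectivization K (Fin 2 → K)) else x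
  obtain ⟨g, hg⟩ := exists_gl (k := k) (3 - S.ncard) S B hfin (by omega)
    (fun x hx y hy h => by
      simp only [B, dif_pos hx, dif_pos hy] at h
      exact congrArg Subtype.val (b.injective (Subtype.ext h)))
    hS (fun σ x hx => by
      simp only [B, dif_pos hx, dif_pos (hS σ x hx)]
      exact hb σ ⟨x, hx⟩)
  refine ⟨g, Set.ext fun y => ⟨?_, fun hy => ?_⟩⟩
  · rintro ⟨x, hx, rfl⟩
    show act _ x ∈ S'
    rw [hg x hx]
    simp only [B, dif_pos hx]
    exact (b ⟨x, hx⟩).2
  · refine ⟨(b.symm ⟨y, hy⟩).1, (b.symm ⟨y, hy⟩).2, ?_⟩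
    show act _ _ = y
    rw [hg _ (b.symm ⟨y, hy⟩).2]
    simp [B]

end Groth.Agent.S13783
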