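import Groth.Statements.S13784
import Mathlib

set_option autoImplicit false
universe u
open CAlg

namespace Groth.Agent.S13784

/-- Let A be a commutative local ring and G a finite subgroup of Aˣ. If the order of G is invertible in
A, then G is cyclic. -/
theorem result {A : Type u} [CommRing A] [IsLocalRing A]
    (G : Subgroup Aˣ) [Finite G] (hG : IsUnit ((Nat.card G : ℕ) : A)) : IsCyclic G := by
  classical
  cases nonempty_fintype G
  let k := IsLocalRing.ResidueField A
  have hcard : ∀ g : G, ((g : Aˣ) : A) ^ Nat.card G = 1 := fun g => by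
    rw [← Units.val_pow_eq_pow_val, ← SubmonoidClass.coe_pow, pow_card_eq_one', OneMemClass.coe_one, Units.val_one]
  let ρ : G →* k := ((IsLocalRing.residue A).toMonoidHom.comp (Units.coeHom A)).comp G.subtype
  refine isCyclic_of_subgroup_isDomain ρ fun g h hgh => ?_
  set c : G := g * h⁻¹
  have hc : IsLocalRing.residue A ((c : Aˣ) : A) = 1 := by
    have : ρ c = 1 := by
      rw [map_mul, hgh, ← map_mul, mul_inv_cancel, map_one]
    exact this
  suffices ((c : Aˣ) : A) = 1 from mul_inv_eq_one.1 (Subtype.ext (Units.ext this))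
  obtain ⟨u, hu⟩ := hG
  set x := ((c : Aˣ) : A)
  have hgeom : (∑ i ∈ Finset.range (Nat.card G), x ^ i) * (x - 1) = 0 := by
    rw [geom_sum_mul, hcard c, sub_self]
  have hunit : IsUnit (∑ i ∈ Finset.range (Nat.card G), x ^ i) := by
    rw [← IsLocalRing.notMem_maximalIdeal, ← IsLocalRing.residue_eq_zero_iff, map_sum]
    simp only [map_pow, hc, one_pow, Finset.sum_const, Finset.card_range, nsmul_one]
    intro h0
    have : IsUnit ((Nat.card G : A)) := ⟨u, hu⟩
    rw [← IsLocalRing.notMem_maximalIdeal, ← IsLocalRing.residue_eq_zero_iff, map_natCast] at this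
    exact this h0
  exact sub_eq_zero.1 (hunit.mul_right_eq_zero.1 hgeom)

end Groth.Agent.S13784
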