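import Groth.Statements.S13785
import Mathlib

set_option autoImplicit false
universe u
open CAlg

namespace Groth.Agent.S13785

/-- For any commutative ring A, the determinant of the generic n × n matrix is a nonzerodivisor of the
polynomial ring over A in the n² matrix entries. -/
theorem result (A : Type u) [CommRing A] (n : ℕ) :
    (Matrix.mvPolynomialX (Fin n) (Fin n) A).det ∈ nonZeroDivisors (MvPolynomial (Fin n × Fin n) A) := by
  classical
  let A' := MvPolynomial (Fin n × Fin n) A
  let w : Fin n × Fin n → ℕ := fun _ => 1
  rw [mem_nonZeroDivisors_iff_right]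
  intro g hg
  by_contra hne
  let ψ : MvPolynomial (Fin n × Fin n) A →ₐ[A] Polynomial (MvPolynomial (Fin n × Fin n) A) :=
    MvPolynomial.aeval (fun ij => Polynomial.C (MvPolynomial.X ij) + (if ij.1 = ij.2 then Polynomial.X else 0))
  have hψ : ψ (Matrix.mvPolynomialX (Fin n) (Fin n) A).det = (-(Matrix.mvPolynomialX (Fin n) (Fin n) A)).charpoly := by
    rw [AlgHom.map_det]
    congr 1
    refine Matrix.ext fun i j => ?_
    by_cases h : i = j <;> simp [ψ, Matrix.charmatrix, h, Matrix.mvPolynomialX, add_comm]
  have hinj : Function.Injective ψ := by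
    let back : Polynomial (MvPolynomial (Fin n × Fin n) A) →+* MvPolynomial (Fin n × Fin n) A :=
      Polynomial.evalRingHom 0
    have : back.comp ψ.toRingHom = RingHom.id _ := by
      refine MvPolynomial.ringHom_ext (fun a => ?_) (fun ij => ?_)
      · simp [back, ψ]
      · by_cases h : ij.1 = ij.2 <;> simp [back, ψ, h]
    exact Function.LeftInverse.injective (g := back) (fun x => RingHom.congr_fun this x)
  have := congrArg ψ hg
  rw [map_mul, hψ, map_zero] at this
  exact hne (hinj (by rw [map_zero]; exact (Matrix.charpoly_monic _).mul_left_eq_zero_iff.1 this))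

end Groth.Agent.S13785
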