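import Groth.Statements.S13786
import Mathlib
-- import your own Groth.Agent.* helpers here

set_option autoImplicit false
universe u
open CAlg

namespace Groth.Agent.S13786

/-- For a commutative ring A and n ≥ 1, with det the determinant of the generic n × n matrix in the
polynomial ring A[X] in n² indeterminates, the A-algebra A[X]/(det) is faithfully flat over A. (For
n = 0 the determinant is 1 and the quotient is the zero ring, so n ≥ 1 is required.) -/
theorem result (A : Type u) [CommRing A] (n : ℕ) (hn : 0 < n) :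
    Module.FaithfullyFlat A
      (MvPolynomial (Fin n × Fin n) A ⧸ Ideal.span {(Matrix.mvPolynomialX (Fin n) (Fin n) A).det}) := by
  classical
  let z : Fin n × Fin n := (⟨0, hn⟩, ⟨0, hn⟩)
  let σ := {ij : Fin n × Fin n // ij ≠ z}
  let R' := MvPolynomial σ A
  let X' : Matrix (Fin n) (Fin n) R' := Matrix.of fun i j => if h : (i, j) ≠ z then MvPolynomial.X ⟨(i, j), h⟩ else 0
  let F : MvPolynomial (Fin n × Fin n) A →ₐ[A] Polynomial R' :=
    MvPolynomial.aeval fun ij => Polynomial.C (X' ij.1 ij.2) + (if ij.1 = ij.2 then Polynomial.X else 0)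
  let g : R' →ₐ[A] MvPolynomial (Fin n × Fin n) A :=
    MvPolynomial.aeval fun s => MvPolynomial.X s.1 - (if s.1.1 = s.1.2 then MvPolynomial.X z else 0)
  let G : Polynomial R' →ₐ[A] MvPolynomial (Fin n × Fin n) A :=
    { Polynomial.eval₂RingHom g.toRingHom (MvPolynomial.X z) with
      commutes' := fun a => by
        show Polynomial.eval₂ g.toRingHom (MvPolynomial.X z) (algebraMap A (Polynomial R') a) = _
        rw [Polynomial.algebraMap_apply, Polynomial.eval₂_C]
        exact g.commutes a }
  have hGC : ∀ r, G (Polynomial.C r) = g r := fun r => Polynomial.eval₂_C _ _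
  have hGX : G Polynomial.X = MvPolynomial.X z := Polynomial.eval₂_X _ _
  have hX'z : X' z.1 z.2 = 0 := by simp [X', z]
  have hX' : ∀ s : σ, X' s.1.1 s.1.2 = MvPolynomial.X s := fun s => by
    simp only [X', Matrix.of_apply, Prod.mk.eta]
    rw [dif_pos s.2]
  have hFz : F (MvPolynomial.X z) = Polynomial.X := by
    simp only [F, MvPolynomial.aeval_X]
    rw [hX'z, map_zero, zero_add, if_pos rfl]
  have hg0 : ∀ s : σ, g (MvPolynomial.X s) = MvPolynomial.X s.1 - (if s.1.1 = s.1.2 then MvPolynomial.X z else 0) := fun s => MvPolynomial.aeval_X _ s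
  have h1 : G.comp F = AlgHom.id A _ := by
    refine MvPolynomial.algHom_ext fun ij => ?_
    by_cases h : ij = z
    · subst h
      rw [AlgHom.comp_apply, hFz, hGX]; rfl
    · rw [AlgHom.comp_apply, AlgHom.id_apply]
      simp only [F, MvPolynomial.aeval_X]
      rw [map_add, hX' ⟨ij, h⟩, hGC, hg0]
      split_ifs with h2
      · rw [hGX, sub_add_cancel]
      · rw [map_zero, sub_zero, add_zero]
  have h2 : ∀ p, F (G p) = p := by
    have hg : ∀ r, F (g r) = Polynomial.C r := by
      have : F.comp g = (Polynomial.CAlgHom (R := A) (A := R')) := by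
        refine MvPolynomial.algHom_ext fun s => ?_
        rw [AlgHom.comp_apply, hg0, map_sub]
        split_ifs with h2
        · rw [hFz]; simp only [F, MvPolynomial.aeval_X]; rw [hX', if_pos h2, add_sub_cancel_right]; rfl
        · rw [map_zero]; simp only [F, MvPolynomial.aeval_X]; rw [hX', if_neg h2, add_zero, sub_zero]; rfl
      exact fun r => AlgHom.congr_fun this r
    intro p
    induction p using Polynomial.induction_on' with
    | add a b ha hb => rw [map_add, map_add, ha, hb]
    | monomial k r => rw [← Polynomial.C_mul_X_pow_eq_monomial, map_mul, map_pow, hGC, hGX, map_mul, map_pow, hg, hFz]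
  let e : MvPolynomial (Fin n × Fin n) A ≃ₐ[A] Polynomial R' :=
    AlgEquiv.ofAlgHom F G (AlgHom.ext h2) h1
  have hd : e (Matrix.mvPolynomialX (Fin n) (Fin n) A).det = (-X').charpoly := by
    show F _ = _
    rw [AlgHom.map_det]
    congr 1
    refine Matrix.ext fun i j => ?_
    by_cases h : i = j <;> simp [F, Matrix.charmatrix, h, Matrix.mvPolynomialX, add_comm]
  let q := (-X').charpoly
  let eq' : (MvPolynomial (Fin n × Fin n) A ⧸ Ideal.span {(Matrix.mvPolynomialX (Fin n) (Fin n) A).det}) ≃ₐ[A] (Polynomial R' ⧸ Ideal.span {q}) :=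
    Ideal.quotientEquivAlg _ _ e (by rw [Ideal.map_span, Set.image_singleton]; exact congrArg (fun x => Ideal.span {x}) hd.symm)
  haveI : Module.Free A (Polynomial R' ⧸ Ideal.span {q}) :=
    haveI : Module.Free R' (AdjoinRoot q) := Module.Free.of_basis (AdjoinRoot.powerBasis' (Matrix.charpoly_monic _)).basis
    (Module.Free.trans (R := A) (S := R') (M := AdjoinRoot q) : Module.Free A (AdjoinRoot q))
  haveI : Module.Free A (MvPolynomial (Fin n × Fin n) A ⧸ Ideal.span {(Matrix.mvPolynomialX (Fin n) (Fin n) A).det}) :=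
    Module.Free.of_equiv eq'.symm.toLinearEquiv
  rcases subsingleton_or_nontrivial A with hA | hA
  · haveI : Module.Flat A (MvPolynomial (Fin n × Fin n) A ⧸ Ideal.span {(Matrix.mvPolynomialX (Fin n) (Fin n) A).det}) := inferInstance
    exact ⟨fun m hm => absurd (Subsingleton.elim m ⊤) hm.ne_top⟩
  · haveI : Nontrivial (Polynomial R' ⧸ Ideal.span {q}) := Ideal.Quotient.nontrivial_iff.2 (by
      rw [Ne, Ideal.span_singleton_eq_top]
      intro hu
      have h3 := (Matrix.charpoly_monic (-X')).eq_one_of_isUnit hu
      have h4 : (-X').charpoly.natDegree = Fintype.card (Fin n) := Matrix.charpoly_natDegree_eq_dim _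
      rw [h3, Polynomial.natDegree_one, Fintype.card_fin] at h4
      omega)
    haveI : Nontrivial (MvPolynomial (Fin n × Fin n) A ⧸ Ideal.span {(Matrix.mvPolynomialX (Fin n) (Fin n) A).det}) :=
      eq'.toEquiv.nontrivial
    infer_instance

end Groth.Agent.S13786
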