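import Groth.Statements.S13787
import Mathlib

set_option autoImplicit false
universe u
open CAlg

namespace Groth.Agent.S13787

/-- Let A be a nonzero commutative ring and n ≥ 1, let det be the determinant of the generic n × n
matrix in the polynomial ring A[X] in its n² entries, and let A[X, 1/det] be the localization at det
(the coordinate ring of GL_n over A). The homomorphism Aˣ × ℤ → (A[X, 1/det])ˣ sending (a, e) to a ·
det^e is injective. (The published statement takes the exponent in the group of locally constant
ℤ-valued functions on Spec A, which also covers A = 0; with integer exponents as here, A must be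
nonzero and n ≥ 1.) -/
theorem result (A : Type u) [CommRing A] [Nontrivial A] (n : ℕ) (hn : 0 < n) :
    Function.Injective (fun p : Aˣ × ℤ =>
        Units.map (algebraMap A (Localization.Away (Matrix.mvPolynomialX (Fin n) (Fin n) A).det)).toMonoidHom p.1 *
          (IsLocalization.Away.algebraMap_isUnit (S := Localization.Away (Matrix.mvPolynomialX (Fin n) (Fin n) A).det)
            (Matrix.mvPolynomialX (Fin n) (Fin n) A).det).unit ^ p.2) := by
  classical
  intro p q hpq
  set d := (Matrix.mvPolynomialX (Fin n) (Fin n) A).det with hd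
  set L := Localization.Away d
  haveI : Nonempty (Fin n) := ⟨⟨0, hn⟩⟩
  let t : Polynomial A := Polynomial.X
  let M0 : Matrix (Fin n) (Fin n) (Polynomial A) := Matrix.diagonal (Function.update (fun _ => 1) ⟨0, hn⟩ t)
  let T := LaurentPolynomial A
  let ev : MvPolynomial (Fin n × Fin n) A →+* T :=
    Polynomial.toLaurent.comp (MvPolynomial.aeval (fun ij : Fin n × Fin n => M0 ij.1 ij.2)).toRingHom
  have hevd : ev d = LaurentPolynomial.T 1 := by
    show Polynomial.toLaurent ((MvPolynomial.aeval (fun ij : Fin n × Fin n => M0 ij.1 ij.2)) d) = _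
    rw [hd, AlgHom.map_det]
    have : (MvPolynomial.aeval (fun ij : Fin n × Fin n => M0 ij.1 ij.2)).mapMatrix (Matrix.mvPolynomialX (Fin n) (Fin n) A) = M0 := by
      refine Matrix.ext fun i j => ?_
      simp [Matrix.mvPolynomialX]
    rw [this, Matrix.det_diagonal, Finset.prod_update_of_mem (Finset.mem_univ _)]
    simp [t]
  have hu : IsUnit (ev d) := by rw [hevd]; exact LaurentPolynomial.isUnit_T 1
  let φ : L →+* T := IsLocalization.Away.lift d hu
  have hφC : ∀ a : A, φ (algebraMap A L a) = LaurentPolynomial.C a := fun a => by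
    rw [IsScalarTower.algebraMap_apply A (MvPolynomial (Fin n × Fin n) A) L, IsLocalization.Away.lift_eq]
    simp [ev]
  let du := (IsLocalization.Away.algebraMap_isUnit (S := L) d).unit
  let Tu : Tˣ := (LaurentPolynomial.isUnit_T (R := A) 1).unit
  have hdu : Units.map φ.toMonoidHom du = Tu := Units.ext (by
    show φ (algebraMap _ L d) = LaurentPolynomial.T 1
    rw [IsLocalization.Away.lift_eq, hevd])
  have hTu : ∀ e : ℤ, ((Tu ^ e : Tˣ) : T) = LaurentPolynomial.T e := by
    intro e
    induction e using Int.induction_on with
    | zero => simp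
    | succ i ih => rw [zpow_add_one, Units.val_mul, ih, LaurentPolynomial.T_add]; rfl
    | pred i ih =>
      have : ((Tu⁻¹ : Tˣ) : T) = LaurentPolynomial.T (-1) := by
        refine Units.inv_eq_of_mul_eq_one_right ?_
        show LaurentPolynomial.T 1 * _ = _
        rw [← LaurentPolynomial.T_add]; simp
      rw [zpow_sub_one, Units.val_mul, ih, this, ← LaurentPolynomial.T_add]; rfl
  have key : ∀ r : Aˣ × ℤ, ((Units.map φ.toMonoidHom (Units.map (algebraMap A L).toMonoidHom r.1 * du ^ r.2) : Tˣ) : T) =
      LaurentPolynomial.C (r.1 : A) * LaurentPolynomial.T r.2 := by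
    intro r
    rw [map_mul, map_zpow, hdu, Units.val_mul, hTu]
    congr 1
    exact hφC _
  have h' := (key p).symm.trans ((congrArg (fun z => ((Units.map φ.toMonoidHom z : Tˣ) : T)) hpq).trans (key q))
  rw [← LaurentPolynomial.single_eq_C_mul_T, ← LaurentPolynomial.single_eq_C_mul_T] at h'
  rcases AddMonoidAlgebra.single_inj.1 h' with ⟨he, ha⟩ | ⟨ha, -⟩
  · exact Prod.ext (Units.ext ha) he
  · exact absurd ha p.1.ne_zero

end Groth.Agent.S13787
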