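import Groth.Statements.S13788
import Mathlib
import Groth.Agent.Calg6.GenericDet

set_option autoImplicit false
universe u
open CAlg

namespace Groth.Agent.S13788
open MvPolynomial Groth.Calg6.GenericDet in
theorem exists_eq_C_mul_pow (A : Type u) [CommRing A] [Nontrivial A] [IsReduced A]
    (hconn : ∀ e : A, IsIdempotentElem e → e = 0 ∨ e = 1) (n : ℕ) (hn : 0 < n) (P : MvPolynomial (Fin n × Fin n) A) (N : ℕ)
    (h : P ∣ gdet n A ^ N) : ∃ (a : Aˣ) (j : ℕ), P = C (a : A) * gdet n A ^ j := by
  classical
  let q := scalarLine n A P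
  let a : ℕ → A := fun i => q.coeff (n * i)
  -- the picture over each prime
  have loc : ∀ p : Ideal A, p.IsPrime → ∃ j ≤ N, a j ∉ p ∧ (∀ i, i ≠ j → a i ∈ p) ∧
      ∀ d, (P - C (a j) * gdet n A ^ j).coeff d ∈ p := by
    intro p hp
    let k := FractionRing (A ⧸ p)
    let ρ : A →+* k := (algebraMap (A ⧸ p) k).comp (Ideal.Quotient.mk p)
    have hρ : ∀ x, ρ x = 0 ↔ x ∈ p := fun x => by
      simp [ρ, Ideal.Quotient.eq_zero_iff_mem]
    have hd : MvPolynomial.map ρ P ∣ gdet n k ^ N := by
      have := map_dvd (MvPolynomial.map ρ) h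
      rwa [map_pow, map_gdet] at this
    obtain ⟨c, j, hc, hj, hcP⟩ := eq_C_mul_pow_of_dvd_pow k n hn hd
    have hco : ∀ m, ρ (q.coeff m) = if m = n * j then c else 0 := by
      intro m
      have hcomm : ∀ R : MvPolynomial (Fin n × Fin n) A, scalarLine n k (MvPolynomial.map ρ R) = (scalarLine n A R).map ρ := by
        intro R
        induction R using MvPolynomial.induction_on with
        | C x => simp [scalarLine]
        | add x y hx hy => simp only [map_add, Polynomial.map_add, hx, hy]
        | mul_X x i hx =>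
          rw [map_mul, map_mul, map_mul, Polynomial.map_mul, hx]
          congr 1
          simp only [map_X, scalarLine, aeval_X]
          split_ifs <;> simp
      rw [← Polynomial.coeff_map, ← hcomm, hcP, map_mul, map_pow, scalarLine_gdet, ← pow_mul]
      simp only [scalarLine, aeval_C, Polynomial.algebraMap_eq, Polynomial.coeff_C_mul_X_pow]
    have haj : ρ (a j) = c := by rw [hco, if_pos rfl]
    refine ⟨j, hj, fun hmem => hc (haj.symm.trans ((hρ _).2 hmem)), fun i hi => (hρ _).1 ?_, fun d => (hρ _).1 ?_⟩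
    · rw [hco, if_neg (fun e => hi (Nat.eq_of_mul_eq_mul_left hn e))]
    · rw [← coeff_map, map_sub, map_mul, map_pow, map_gdet, map_C, haj, hcP, sub_self, coeff_zero]
  have hnil : ∀ x : A, (∀ p : Ideal A, p.IsPrime → x ∈ p) → x = 0 := fun x hx => by
    have h2 : x ∈ nilradical A := by rw [nilradical_eq_sInf, Ideal.mem_sInf]; exact fun {p} hp => hx p hp
    rwa [nilradical_eq_zero] at h2
  have hspan : Ideal.span (a '' (Finset.range (N + 1) : Set ℕ)) = ⊤ := by
    by_contra hne
    obtain ⟨M, hM, hle⟩ := Ideal.exists_le_maximal _ hne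
    obtain ⟨j, hj, haj, -⟩ := loc M hM.isPrime
    exact haj (hle (Ideal.subset_span ⟨j, Finset.mem_coe.2 (Finset.mem_range.2 (by omega)), rfl⟩))
  have horth : ∀ i j, i ≠ j → a i * a j = 0 := fun i j hij => hnil _ fun p hp => by
    obtain ⟨l, -, -, hl, -⟩ := loc p hp
    by_cases h1 : i = l
    · exact p.mul_mem_left _ (hl j (fun e => hij (h1.trans e.symm)))
    · exact p.mul_mem_right _ (hl i h1)
  obtain ⟨r, hr⟩ : ∃ r : ℕ → A, ∑ i ∈ Finset.range (N + 1), r i * a i = 1 := by
    have h1 : (1 : A) ∈ Ideal.span (a '' (Finset.range (N + 1) : Set ℕ)) := hspan ▸ Submodule.mem_top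
    rw [← Finset.coe_image, Submodule.mem_span_finset] at h1
    obtain ⟨f, -, hf⟩ := h1
    have h2 : (1 : A) ∈ Ideal.span (a '' (Finset.range (N + 1) : Set ℕ)) := hspan ▸ Submodule.mem_top
    rw [Submodule.mem_span_image_finset_iff_exists_fun] at h2
    obtain ⟨g, hg⟩ := h2
    refine ⟨fun i => if hi : i ∈ Finset.range (N + 1) then g ⟨i, hi⟩ else 0, ?_⟩
    rw [← hg, ← Finset.sum_coe_sort]
    exact Finset.sum_congr rfl fun i _ => by simp [i.2]
  have hidem : ∀ i ∈ Finset.range (N + 1), IsIdempotentElem (r i * a i) := by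
    intro i hi
    have h1 : r i * a i * 1 = r i * a i * (r i * a i) := by
      conv_lhs => rw [← hr, Finset.mul_sum]
      refine Finset.sum_eq_single_of_mem i hi fun j _ hj => ?_
      rw [mul_mul_mul_comm, horth i j (Ne.symm hj), mul_zero]
    rw [mul_one] at h1
    exact h1.symm
  obtain ⟨i, hi, hi1⟩ : ∃ i ∈ Finset.range (N + 1), r i * a i = 1 := by
    by_contra hcon
    simp only [not_exists, not_and] at hcon
    refine one_ne_zero (hr.symm.trans (Finset.sum_eq_zero fun i hi => ?_))
    exact (hconn _ (hidem i hi)).resolve_right (hcon i hi)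
  have hu : IsUnit (a i) := .of_mul_eq_one (r i) (by rw [mul_comm]; exact hi1)
  refine ⟨hu.unit, i, sub_eq_zero.1 (MvPolynomial.ext _ _ fun d => ?_)⟩
  rw [coeff_zero, IsUnit.unit_spec]
  refine hnil _ fun p hp => ?_
  obtain ⟨l, -, -, hl, hd⟩ := loc p hp
  have : i = l := by
    by_contra hne
    exact hp.ne_top (Ideal.eq_top_of_isUnit_mem _ (hl i hne) hu)
  exact this ▸ hd d


/-- Units of GL_n: let A be a nonzero commutative ring whose only idempotents are 0 and 1, let n ≥ 1,
let det be the determinant of the generic n × n matrix in the polynomial ring A[X] in its n²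
entries, and let A[X, 1/det] be the coordinate ring of GL_n over A. The homomorphism Aˣ × ℤ → (A[X,
1/det])ˣ, (a, e) ↦ a · det^e, is bijective if and only if A is reduced. (The published statement
allows Spec A disconnected, with exponents locally constant ℤ-valued functions on Spec A; this row
is the connected case, to which the published proof reduces.) -/
theorem result (A : Type u) [CommRing A] [Nontrivial A]
    (hconn : ∀ e : A, IsIdempotentElem e → e = 0 ∨ e = 1) (n : ℕ) (hn : 0 < n) :
    Function.Bijective (fun p : Aˣ × ℤ =>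
        Units.map (algebraMap A (Localization.Away (Matrix.mvPolynomialX (Fin n) (Fin n) A).det)).toMonoidHom p.1 *
          (IsLocalization.Away.algebraMap_isUnit (S := Localization.Away (Matrix.mvPolynomialX (Fin n) (Fin n) A).det)
            (Matrix.mvPolynomialX (Fin n) (Fin n) A).det).unit ^ p.2) ↔ IsReduced A := by
  classical
  let D := Groth.Calg6.GenericDet.gdet n A
  let L := Localization.Away D
  let P := MvPolynomial (Fin n × Fin n) A
  have hinj : Function.Injective (algebraMap P L) :=
    IsLocalization.injective L (Submonoid.powers_le.2 Groth.Calg6.GenericDet.gdet_mem_nonZeroDivisors)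
  let δ : Lˣ := (IsLocalization.Away.algebraMap_isUnit (S := L) D).unit
  have hval : ∀ (a : Aˣ) (i j : ℕ), ((Units.map (algebraMap A L).toMonoidHom a * δ ^ ((i : ℤ) - j) : Lˣ) : L) * algebraMap P L (D ^ j) = algebraMap P L (MvPolynomial.C (a : A) * D ^ i) := by
    intro a i j
    have h1 : (δ ^ ((i : ℤ) - j) : Lˣ) * δ ^ j = δ ^ i := by
      rw [← zpow_natCast δ j, ← zpow_add, sub_add_cancel, zpow_natCast]
    have h2 := congrArg Units.val h1
    simp only [Units.val_mul, Units.val_pow_eq_pow_val] at h2
    rw [Units.val_mul, mul_assoc, map_pow, show algebraMap P L D = (δ : L) from rfl, h2, map_mul, map_pow]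
    rfl
  constructor
  · intro hbij
    refine ⟨fun ε hε => ?_⟩
    have hXn : IsNilpotent (MvPolynomial.C ε * MvPolynomial.X ((⟨0, hn⟩ : Fin n), (⟨0, hn⟩ : Fin n)) : P) :=
      (Commute.all _ _).isNilpotent_mul_right (hε.map MvPolynomial.C)
    obtain ⟨⟨a, z⟩, hz⟩ := hbij.2 ((hXn.isUnit_one_add.map (algebraMap P L)).unit)
    obtain ⟨i, j, rfl⟩ : ∃ i j : ℕ, z = (i : ℤ) - j := ⟨z.toNat, (-z).toNat, by omega⟩
    have h := hval a i j
    have hz' := congrArg Units.val hz
    simp only [IsUnit.unit_spec] at hz'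
    rw [show ((Units.map (algebraMap A L).toMonoidHom a * δ ^ ((i : ℤ) - j) : Lˣ) : L) = _ from hz', ← map_mul] at h
    have h2 := congrArg (Groth.Calg6.GenericDet.scalarLine n A) (hinj h)
    simp only [map_mul, map_add, map_one, map_pow, Groth.Calg6.GenericDet.scalarLine_gdet, D, ← pow_mul] at h2
    simp only [Groth.Calg6.GenericDet.scalarLine, MvPolynomial.aeval_C, MvPolynomial.aeval_X, if_true, Polynomial.algebraMap_eq] at h2
    have e1 := congrArg (fun p => Polynomial.coeff p (n * j)) h2
    have e2 := congrArg (fun p => Polynomial.coeff p (n * j + 1)) h2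
    simp only [add_mul, one_mul, mul_assoc, ← pow_succ', Polynomial.coeff_add, Polynomial.coeff_X_pow, Polynomial.coeff_C_mul,
      if_true, Nat.succ_ne_self, Nat.left_eq_add, one_ne_zero, if_false, mul_zero, add_zero, mul_one, zero_add,
      Nat.add_eq_left] at e1 e2
    by_cases hij : n * i = n * j
    · rw [e2]; simp [hij]
    · rw [if_neg (Ne.symm hij), mul_zero] at e1
      exact absurd e1 one_ne_zero
  · intro hred
    constructor
    · have key : ∀ (a : Aˣ) (z : ℤ), Units.map (algebraMap A L).toMonoidHom a * δ ^ z = 1 → a = 1 ∧ z = 0 := by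
        intro a z h1
        obtain ⟨i, j, rfl⟩ : ∃ i j : ℕ, z = (i : ℤ) - j := ⟨z.toNat, (-z).toNat, by omega⟩
        have h := hval a i j
        rw [h1, Units.val_one, one_mul] at h
        have h2 := congrArg (Groth.Calg6.GenericDet.scalarLine n A) (hinj h)
        simp only [map_mul, map_pow, Groth.Calg6.GenericDet.scalarLine_gdet, D, ← pow_mul] at h2
        simp only [Groth.Calg6.GenericDet.scalarLine, MvPolynomial.aeval_C, Polynomial.algebraMap_eq] at h2
        have e1 := congrArg (fun p => Polynomial.coeff p (n * i)) h2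
        simp only [Polynomial.coeff_X_pow, Polynomial.coeff_C_mul, if_true, mul_one] at e1
        by_cases hij : n * i = n * j
        · rw [if_pos hij] at e1
          have : i = j := Nat.eq_of_mul_eq_mul_left hn hij
          exact ⟨Units.ext e1.symm, by omega⟩
        · rw [if_neg hij] at e1
          exact absurd e1.symm a.ne_zero
      rintro ⟨a, z⟩ ⟨b, w⟩ h
      have h1 : Units.map (algebraMap A L).toMonoidHom (a * b⁻¹) * δ ^ (z - w) = 1 := by
        rw [map_mul, map_inv, zpow_sub]
        have h' : Units.map (algebraMap A L).toMonoidHom a * δ ^ z = Units.map (algebraMap A L).toMonoidHom b * δ ^ w := h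
        rw [mul_mul_mul_comm, ← mul_inv, h', mul_inv_cancel]
      obtain ⟨h2, h3⟩ := key _ _ h1
      exact Prod.ext (mul_inv_eq_one.1 h2) (sub_eq_zero.1 h3)
    · intro u
      obtain ⟨⟨p, ⟨_, N, rfl⟩⟩, hp⟩ := IsLocalization.surj (Submonoid.powers D) (u : L)
      obtain ⟨⟨q, ⟨_, M, rfl⟩⟩, hq⟩ := IsLocalization.surj (Submonoid.powers D) ((u⁻¹ : Lˣ) : L)
      have hpq : p * q = D ^ (N + M) := by
        apply hinj
        simp only at hp hq
        rw [map_mul, ← hp, ← hq, mul_mul_mul_comm, ← Units.val_mul, mul_inv_cancel, Units.val_one, one_mul, pow_add, map_mul]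
      obtain ⟨a, i, hpi⟩ := exists_eq_C_mul_pow A hconn n hn p (N + M) ⟨q, hpq.symm⟩
      refine ⟨(a, (i : ℤ) - N), Units.ext ?_⟩
      have h := hval a i N
      rw [← hpi] at h
      simp only at hp
      rw [← hp] at h
      exact ((IsLocalization.Away.algebraMap_isUnit (S := L) D).pow N).mul_left_injective (by
        simpa only [map_pow] using h)

end Groth.Agent.S13788
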