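import Groth.Statements.S13789

set_option autoImplicit false
universe u
open CAlg

namespace Groth.Agent.S13789

/-- Let A be a commutative ring with total ring of fractions Q and let B be a ring with A ⊆ B ⊆ Q. Then
the inclusion A ⊆ B carries nonzerodivisors of A to nonzerodivisors of B, and every nonzerodivisor
of B has the form r/u with r and u nonzerodivisors of A. -/
theorem result {A Q : Type u} [CommRing A] [CommRing Q] [Algebra A Q] [IsFractionRing A Q] (B : Subalgebra A Q) :
    (∀ a : A, a ∈ nonZeroDivisors A → algebraMap A B a ∈ nonZeroDivisors B) ∧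
    (∀ b : B, b ∈ nonZeroDivisors B → ∃ r u : A, r ∈ nonZeroDivisors A ∧ u ∈ nonZeroDivisors A ∧
      (b : Q) * algebraMap A Q u = algebraMap A Q r) := by
  have key : ∀ a : A, a ∈ nonZeroDivisors A → ∀ x : Q, x * algebraMap A Q a = 0 → x = 0 := fun a ha x h =>
    (IsLocalization.map_units Q (⟨a, ha⟩ : nonZeroDivisors A)).mul_left_eq_zero.1 h
  refine ⟨fun a ha => mem_nonZeroDivisors_iff_right.2 fun x hx => Subtype.ext (key a ha _ (congrArg Subtype.val hx)), fun b hb => ?_⟩
  obtain ⟨⟨r, u⟩, h⟩ := IsLocalization.surj (nonZeroDivisors A) (b : Q)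
  refine ⟨r, u, mem_nonZeroDivisors_iff_right.2 fun a ha => ?_, u.2, h⟩
  have h2 : algebraMap A B (a * u) = 0 := by
    refine mem_nonZeroDivisors_iff_right.1 hb _ (Subtype.ext ?_)
    show algebraMap A Q (a * u) * (b : Q) = 0
    rw [map_mul, mul_assoc, mul_comm (algebraMap A Q (u : A)), h, ← map_mul, ha, map_zero]
  exact mem_nonZeroDivisors_iff_right.1 u.2 a (IsFractionRing.injective A Q (by
    rw [map_zero]; exact congrArg Subtype.val h2))

end Groth.Agent.S13789
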