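import Groth.Statements.S13790
import Mathlib

set_option autoImplicit false
universe u
open CAlg

namespace Groth.Agent.S13790

/-- Let A be a commutative ring with total ring of fractions Q and let B be a ring with A ⊆ B ⊆ Q. Then
Q, with the inclusion B ⊆ Q, is the total ring of fractions of B. -/
theorem result {A Q : Type u} [CommRing A] [CommRing Q] [Algebra A Q] [IsFractionRing A Q] (B : Subalgebra A Q) :
    IsFractionRing B Q := by
  have key : ∀ a : A, a ∈ nonZeroDivisors A → algebraMap A B a ∈ nonZeroDivisors B := fun a ha =>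
    mem_nonZeroDivisors_iff_right.2 fun x hx => Subtype.ext
      ((IsLocalization.map_units Q (⟨a, ha⟩ : nonZeroDivisors A)).mul_left_eq_zero.1 (congrArg Subtype.val hx))
  constructor
  constructor
  · rintro ⟨b, hb⟩
    obtain ⟨⟨r, u⟩, h⟩ := IsLocalization.surj (nonZeroDivisors A) (b : Q)
    have hr : r ∈ nonZeroDivisors A := by
      refine mem_nonZeroDivisors_iff_right.2 fun a ha => ?_
      have h2 : algebraMap A B (a * u) = 0 := by
        refine mem_nonZeroDivisors_iff_right.1 hb _ (Subtype.ext ?_)
        show algebraMap A Q (a * u) * (b : Q) = 0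
        rw [map_mul, mul_assoc, mul_comm (algebraMap A Q (u : A)), h, ← map_mul, ha, map_zero]
      exact mem_nonZeroDivisors_iff_right.1 u.2 a (IsFractionRing.injective A Q (by
        rw [map_zero]; exact congrArg Subtype.val h2))
    have := IsLocalization.map_units Q (⟨r, hr⟩ : nonZeroDivisors A)
    rw [← h] at this
    exact isUnit_of_mul_isUnit_left this
  · intro z
    obtain ⟨⟨r, u⟩, h⟩ := IsLocalization.surj (nonZeroDivisors A) z
    exact ⟨(algebraMap A B r, ⟨algebraMap A B u, key u u.2⟩), h⟩
  · intro x y h
    exact ⟨1, by simpa using Subtype.ext h⟩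

end Groth.Agent.S13790
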