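import Groth.Statements.S13792
import Mathlib
import Groth.Agent.Curves1.DimOne

set_option autoImplicit false
universe u
open CategoryTheory AlgebraicGeometry
open Curves

namespace Groth.Agent.S13792

/-- Let k be a field and E an integral k-scheme of finite type whose underlying space has dimension 1,
and let ι : G → E be a closed immersion. Then either ι is an isomorphism or G is finite over k. (The
published statement is about a closed subgroup scheme of an elliptic curve and its proof states this
fact for E geometrically integral; this row assumes only that E is integral.) -/
theorem result {k : Type u} [Field k]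
    {E G : Scheme.{u}} (f : E ⟶ Spec (CommRingCat.of k)) [LocallyOfFiniteType f] [QuasiCompact f]
    [IsIntegral E] (hdim : topologicalKrullDim ↥E = 1) (ι : G ⟶ E) [IsClosedImmersion ι] :
    IsIso ι ∨ IsFinite (ι ≫ f) := by
  by_cases hs : Function.Surjective ι
  · have : Surjective ι := ⟨hs⟩
    exact Or.inl (isIso_of_isClosedImmersion_of_surjective ι)
  · right
    have : IsLocallyNoetherian E := LocallyOfFiniteType.isLocallyNoetherian f
    have : CompactSpace E := QuasiCompact.compactSpace_of_compactSpace f
    have : IsNoetherian E := ⟨⟩
    obtain ⟨hfin, hcl⟩ := Groth.Curves1.finite_of_isClosed hdim.le ι.isClosedEmbedding.isClosed_range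
      (fun e => hs (Set.range_eq_univ.mp e))
    have : Finite (Set.range ι) := hfin.to_subtype
    have : Finite G := .of_injective (Set.rangeFactorization ι)
      (fun a b h => ι.isClosedEmbedding.injective (congrArg Subtype.val h))
    have : T1Space G := ⟨fun x => by
      rw [ι.isClosedEmbedding.isClosed_iff_image_isClosed, Set.image_singleton]
      exact hcl _ ⟨x, rfl⟩⟩
    exact Groth.Curves1.isFinite_of_finite_of_discreteTopology (ι ≫ f)

end Groth.Agent.S13792
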