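import Groth.Statements.S13794
import Mathlib

set_option autoImplicit false
universe u
open Polynomial
open Curves

namespace Groth.Agent.S13794

/-- Let k be a field of characteristic not 3 and β ∈ k. If a line ax + by + c = 0 with a³ ≠ b³ is the
tangent line at a flex point of the affine cubic x³ + y³ + β = 3xy, then β is a cube in k. Here the
line is normalised to b ≠ 0 (the roles of x and y are symmetric) and the flex-tangency is expressed
by the restriction of the cubic to the line being λ (x − x₀)³. -/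
theorem result {k : Type u} [Field k] (h3 : (3 : k) ≠ 0)
    (β a b c : k) (hb : b ≠ 0) (hab : a ^ 3 ≠ b ^ 3) (lam x₀ : k)
    (hflex : (X : k[X]) ^ 3 + (C (-a / b) * X + C (-c / b)) ^ 3 + C β - 3 * X * (C (-a / b) * X + C (-c / b)) =
      C lam * (X - C x₀) ^ 3) :
    ∃ γ : k, β = γ ^ 3 := by
  have hp1 : 1 + (-a / b) ^ 3 ≠ 0 := by
    intro h
    apply hab
    field_simp at h
    linear_combination -h
  generalize -a / b = p at hflex hp1
  generalize -c / b = q at hflex
  have e : (X : k[X]) ^ 3 + (C p * X + C q) ^ 3 + C β - 3 * X * (C p * X + C q) =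
      C (1 + p ^ 3) * X ^ 3 + C (3 * p ^ 2 * q - 3 * p) * X ^ 2 +
        C (3 * p * q ^ 2 - 3 * q) * X + C (q ^ 3 + β) := by
    simp only [map_add, map_sub, map_mul, map_pow, map_one, map_ofNat]
    ring
  have e' : C lam * ((X : k[X]) - C x₀) ^ 3 =
      C lam * X ^ 3 + C (-3 * lam * x₀) * X ^ 2 + C (3 * lam * x₀ ^ 2) * X + C (-lam * x₀ ^ 3) := by
    simp only [map_mul, map_pow, map_neg, map_ofNat]
    ring
  rw [e, e'] at hflex
  have h0 := congrArg (fun r : k[X] => r.coeff 0) hflex
  have h1 := congrArg (fun r : k[X] => r.coeff 1) hflex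
  have h2 := congrArg (fun r : k[X] => r.coeff 2) hflex
  have h3' := congrArg (fun r : k[X] => r.coeff 3) hflex
  simp only [coeff_add, coeff_C_mul_X_pow, coeff_C_mul_X, coeff_C, Nat.reduceEqDiff, ↓reduceIte,
    one_ne_zero, OfNat.ofNat_ne_zero, OfNat.zero_ne_ofNat, OfNat.one_ne_ofNat, OfNat.ofNat_ne_one,
    zero_ne_one, add_zero, zero_add] at h0 h1 h2 h3'
  subst h3'
  have h2' : p * (p * q - 1) = -(1 + p ^ 3) * x₀ := mul_left_cancel₀ h3 (by linear_combination h2)
  have h1' : q * (p * q - 1) = (1 + p ^ 3) * x₀ ^ 2 :=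
    mul_left_cancel₀ h3 (by linear_combination h1)
  by_cases hx : x₀ = 0
  · exact ⟨-q, by rw [hx] at h0; linear_combination h0⟩
  · have hpq : p * q - 1 ≠ 0 := by
      intro h
      rw [h, mul_zero] at h2'
      rcases mul_eq_zero.mp h2'.symm with h' | h'
      · exact hp1 (neg_eq_zero.mp h')
      · exact hx h'
    have hq : q = -p * x₀ := by
      apply mul_right_cancel₀ hpq
      linear_combination h1' + x₀ * h2'
    subst hq
    exact ⟨-x₀, by linear_combination h0⟩

end Groth.Agent.S13794
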