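import Groth.Statements.S13797
import Groth.Agent.AzMorita.Basic
import Mathlib.LinearAlgebra.Matrix.ToLin
-- import your own Groth.Agent.* helpers here

set_option autoImplicit false
universe u
open scoped TensorProduct
open Brauer

namespace Groth.Agent.S13797

/-- In the case of an affine scheme — let A be a commutative ring, n ≥ 1 and α an A-algebra automorphism
of the n × n matrix algebra over A. The A-module L of matrices M with M N = α(N) M for every matrix
N (the module of sections of the line bundle attached to the torsor of liftings of α to GL_n) is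
invertible, and its class in the Picard group of A is n-torsion: the n-fold tensor power of L is
isomorphic to A (existence of an isomorphism only). (The published statement is for an automorphism
of End(O^n) on any locally ringed site, in the form: the sheaf of liftings is a 𝔾_m-torsor whose
class in Pic is n-torsion; this row is the affine case.) -/
theorem result (A : Type u) [CommRing A] (n : ℕ) (hn : 0 < n)
    (α : Matrix (Fin n) (Fin n) A ≃ₐ[A] Matrix (Fin n) (Fin n) A) :
    Module.Invertible A
        (LinearMap.ker (LinearMap.mul A (Matrix (Fin n) (Fin n) A) -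
          (LinearMap.lcomp A (Matrix (Fin n) (Fin n) A) α.toLinearMap).comp (LinearMap.mul A (Matrix (Fin n) (Fin n) A)).flip)) ∧
      Nonempty ((⨂[A] _ : Fin n,
          LinearMap.ker (LinearMap.mul A (Matrix (Fin n) (Fin n) A) -
            (LinearMap.lcomp A (Matrix (Fin n) (Fin n) A) α.toLinearMap).comp (LinearMap.mul A (Matrix (Fin n) (Fin n) A)).flip)) ≃ₗ[A] A) := by
  classical
  let M := Matrix (Fin n) (Fin n) A
  set L := LinearMap.ker (LinearMap.mul A M - (LinearMap.lcomp A M α.toLinearMap).comp (LinearMap.mul A M).flip) with hL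
  have hmem : ∀ X : M, X ∈ L ↔ ∀ N : M, X * N = α N * X := fun X => by
    rw [hL, LinearMap.mem_ker, LinearMap.ext_iff]
    refine forall_congr' fun N => ?_
    simp [sub_eq_zero]
  let E : M ≃ₐ[A] Module.End A (Fin n → A) := Matrix.toLinAlgEquiv'
  let ψ : Module.End A (Fin n → A) ≃ₐ[A] Module.End A (Fin n → A) := E.symm.trans (α.trans E)
  have : Nonempty (Fin n) := ⟨⟨0, hn⟩⟩
  rcases subsingleton_or_nontrivial A with hA | hA
  · have : Subsingleton L := inferInstance
    have : Subsingleton (⨂[A] _ : Fin n, L) := Module.subsingleton A _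
    refine ⟨Module.Invertible.congr (LinearEquiv.ofSubsingleton A L), ⟨LinearEquiv.ofSubsingleton _ _⟩⟩
  have hiff : ∀ X : M, X ∈ L ↔ (E X : (Fin n → A) →ₗ[A] (Fin n → A)) ∈ Groth.AzMorita.homEq ψ.toAlgHom := by
    intro X
    rw [hmem, Groth.AzMorita.mem_homEq]
    constructor
    · intro h f y
      obtain ⟨N, rfl⟩ := E.surjective f
      show (E X * E N) y = (ψ (E N) * E X) y
      simp only [ψ, AlgEquiv.trans_apply, AlgEquiv.symm_apply_apply, ← map_mul, h]
    · intro h N
      refine E.injective (LinearMap.ext fun y => ?_)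
      have := h (E N) y
      simp only [AlgEquiv.toAlgHom_eq_coe, AlgHom.coe_coe, ψ, AlgEquiv.trans_apply, AlgEquiv.symm_apply_apply] at this
      rw [map_mul, map_mul]
      refine this.trans ?_
      show ψ (E N) ((E X) y) = _
      simp [ψ]
  let eL : L ≃ₗ[A] Groth.AzMorita.homEq ψ.toAlgHom :=
    E.toLinearEquiv.ofSubmodules L _ (by
      ext g
      rw [Submodule.mem_map]
      constructor
      · rintro ⟨X, hX, rfl⟩
        exact (hiff X).1 hX
      · intro hg
        exact ⟨E.symm g, (hiff _).2 (by rwa [AlgEquiv.apply_symm_apply]), E.apply_symm_apply g⟩)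
  have := Groth.AzMorita.invertible_homEq ψ
  have hinv : Module.Invertible A L := Module.Invertible.congr eL.symm
  refine ⟨hinv, ?_⟩
  have := Groth.AzMorita.invertible_piTensor (A := A) L n
  let μ : MultilinearMap A (fun _ : Fin n => L) A :=
    (Matrix.detRowAlternating (R := A) (n := Fin n)).toMultilinearMap.compLinearMap
      fun j => (LinearMap.proj j : (Fin n → Fin n → A) →ₗ[A] Fin n → A) ∘ₗ (Matrix.ofLinearEquiv A).symm.toLinearMap ∘ₗ L.subtype
  have hμ : ∀ X : L, μ (fun _ => X) = (X : M).det := fun X => rfl
  have hsurj : Function.Surjective (PiTensorProduct.lift μ) := by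
    rw [← LinearMap.range_eq_top]
    set I : Ideal A := LinearMap.range (PiTensorProduct.lift μ) with hI
    have hdet : ∀ X : L, (X : M).det ∈ I := fun X =>
      ⟨PiTensorProduct.tprod A fun _ => X, by rw [PiTensorProduct.lift.tprod, hμ]⟩
    obtain ⟨T, hT⟩ := Groth.AzMorita.exists_trivialization ψ
    obtain ⟨z, hz⟩ := T.surjective 1
    let S : Set A := {a | ∃ h h', T (h ⊗ₜ h') = a}
    have hspan : Ideal.span S = ⊤ := by
      rw [Ideal.eq_top_iff_one, ← hz]
      clear hz
      induction z using TensorProduct.induction_on with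
      | zero => simp
      | add a b ha hb => rw [map_add]; exact add_mem ha hb
      | tmul h h' => exact Ideal.subset_span ⟨h, h', rfl⟩
    rw [eq_top_iff, ← Ideal.span_pow_eq_top S hspan n, Ideal.span_le]
    rintro _ ⟨a, ⟨h, h', rfl⟩, rfl⟩
    have hXY : E.symm (h' : (Fin n → A) →ₗ[A] Fin n → A) * (eL.symm h : M) = T (h ⊗ₜ h') • (1 : M) := by
      apply E.injective
      rw [map_mul, AlgEquiv.apply_symm_apply, map_smul, map_one]
      refine LinearMap.ext fun y => ?_
      have h1 : E (eL.symm h : M) = (h : (Fin n → A) →ₗ[A] Fin n → A) := congrArg Subtype.val (eL.apply_symm_apply h)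
      rw [h1]
      exact hT h h' y
    have h2 : T (h ⊗ₜ h') ^ n = (E.symm (h' : (Fin n → A) →ₗ[A] Fin n → A)).det * ((eL.symm h : L) : M).det := by
      rw [← Matrix.det_mul, hXY, Matrix.det_smul, Matrix.det_one, mul_one, Fintype.card_fin]
    show T (h ⊗ₜ h') ^ n ∈ I
    rw [h2]
    exact I.mul_mem_left _ (hdet _)
  exact ⟨LinearEquiv.ofBijective _ (Module.Invertible.bijective_of_surjective hsurj)⟩

end Groth.Agent.S13797
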