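import Groth.Statements.S1380
import Mathlib
import Groth.Agent.IntSplit.Points

set_option autoImplicit false
universe u
open FlatMor

namespace Groth.Agent.S1380

open TensorProduct in
/-- Let R → S be integral and p a prime of R with only finitely many primes of S above it, such that for
each of them the separable closure of κ(p) in its residue field is finite over κ(p). Then there are
an étale R-algebra R' and a prime p' of R' over p such that R' ⊗ S is a finite product of
R'-algebras, each integral over R' with exactly one prime over p', whose residue field is purely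
inseparable over κ(p'). -/
theorem result {R S : Type u} [CommRing R] [CommRing S] [Algebra R S] [Algebra.IsIntegral R S]
    (p : Ideal R) [p.IsPrime] (hfin : {q : PrimeSpectrum S | q.asIdeal.comap (algebraMap R S) = p}.Finite)
    (hsep : ∀ (q : PrimeSpectrum S) (hq : q.asIdeal.comap (algebraMap R S) = p),
      letI := (Ideal.ResidueField.map p q.asIdeal (algebraMap R S) hq.symm).toAlgebra
      Module.Finite p.ResidueField (separableClosure p.ResidueField q.asIdeal.ResidueField)) :
    ∃ (R' : Type u) (_ : CommRing R') (_ : Algebra R R') (p' : PrimeSpectrum R'), Algebra.Etale R R' ∧ p'.asIdeal.comap (algebraMap R R') = p ∧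
      ∃ (m : ℕ) (A : Fin m → Type u) (_ : ∀ j, CommRing (A j)) (_ : ∀ j, Algebra R' (A j)) (e : R' ⊗[R] S ≃ₐ[R'] (Π j, A j)),
        ∀ j, Algebra.IsIntegral R' (A j) ∧ ∃ (r : PrimeSpectrum (A j)) (hr : r.asIdeal.comap (algebraMap R' (A j)) = p'.asIdeal),
          (∀ r' : PrimeSpectrum (A j), r'.asIdeal.comap (algebraMap R' (A j)) = p'.asIdeal → r' = r) ∧
          letI := (Ideal.ResidueField.map p'.asIdeal r.asIdeal (algebraMap R' (A j)) hr.symm).toAlgebra
          IsPurelyInseparable p'.asIdeal.ResidueField r.asIdeal.ResidueField := by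
  classical
  let Ω := AlgebraicClosure p.ResidueField
  haveI : Finite (S →ₐ[R] Ω) := Groth.IntSplit.finite_points p hfin hsep
  have hkerR : RingHom.ker (algebraMap R Ω) = p := Ideal.ext fun x => by
    rw [RingHom.mem_ker, IsScalarTower.algebraMap_apply R p.ResidueField Ω, map_eq_zero,
      Ideal.algebraMap_residueField_eq_zero]
  rcases isEmpty_or_nonempty (S →ₐ[R] Ω) with hemp | hne
  · -- no prime over `p`
    obtain ⟨a, ha, ha0⟩ := Groth.EtaleBase.IntegralAlg.exists_algebraMap_eq_zero (A := R) (Ω := Ω)
      (D := S) fun χ => hemp.false χ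
    haveI : Algebra.Etale R (Localization.Away a) := Algebra.Etale.of_isLocalizationAway a
    let pt : Localization.Away a →ₐ[R] Ω :=
      IsLocalization.Away.liftAlgHom a (f := Algebra.ofId R Ω) (IsUnit.mk0 _ ha)
    haveI : Subsingleton (Localization.Away a ⊗[R] S) := by
      refine subsingleton_of_zero_eq_one ?_
      have h1 : algebraMap R (Localization.Away a ⊗[R] S) a = 0 := by
        rw [show algebraMap R (Localization.Away a ⊗[R] S) a = (1 : Localization.Away a) ⊗ₜ[R] algebraMap R S a
          from (Algebra.TensorProduct.includeRight.commutes a).symm, ha0, TensorProduct.tmul_zero]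
      have h2 : IsUnit (algebraMap R (Localization.Away a ⊗[R] S) a) := by
        rw [IsScalarTower.algebraMap_apply R (Localization.Away a) (Localization.Away a ⊗[R] S)]
        exact (IsLocalization.Away.algebraMap_isUnit a).map _
      rw [h1] at h2
      exact isUnit_zero_iff.1 h2
    refine ⟨Localization.Away a, inferInstance, inferInstance,
      ⟨RingHom.ker pt, RingHom.ker_isPrime pt⟩, inferInstance, ?_, 0, fun _ => Localization.Away a,
      fun _ => inferInstance, fun _ => inferInstance, ?_, fun j => j.elim0⟩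
    · exact (Ideal.ext fun x => by simp [← hkerR])
    · exact AlgEquiv.ofBijective
        (Pi.algHom _ (fun _ : Fin 0 => Localization.Away a) fun j => j.elim0)
        ⟨fun x y _ => Subsingleton.elim x y, fun y => ⟨0, funext fun j => j.elim0⟩⟩
  · obtain ⟨m, ⟨χ⟩⟩ : ∃ m, Nonempty (Fin (m + 1) ≃ (S →ₐ[R] Ω)) := by
      obtain ⟨n, ⟨e⟩⟩ := Finite.exists_equiv_fin (S →ₐ[R] Ω)
      rcases n with _ | n
      · exact (e hne.some).elim0
      · exact ⟨n, ⟨e.symm⟩⟩
    obtain ⟨N, f, hf, hev⟩ := Groth.IntSplit.exists_idempotents χ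
    letI : Algebra N.R Ω := N.pt.toAlgebra
    let p' : PrimeSpectrum N.R := ⟨RingHom.ker N.pt, RingHom.ker_isPrime N.pt⟩
    let A : Fin (m + 1) → Type u := fun j => (N.R ⊗[R] S) ⧸ Ideal.span {1 - f j}
    let π : (N.R ⊗[R] S) →ₐ[N.R] (Π j, A j) :=
      Pi.algHom N.R A fun j => Ideal.Quotient.mkₐ N.R (Ideal.span {1 - f j})
    refine ⟨N.R, inferInstance, inferInstance, p', inferInstance,
      Ideal.ext fun x => by simp [p', ← hkerR], m + 1, A, fun j => inferInstanceAs (CommRing (_ ⧸ _)),
      fun j => inferInstanceAs (Algebra N.R (_ ⧸ _)), AlgEquiv.ofBijective π hf.bijective_pi, fun j => ?_⟩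
    haveI hint : Algebra.IsIntegral N.R (A j) :=
      Algebra.IsIntegral.of_surjective (Ideal.Quotient.mkₐ N.R _) Ideal.Quotient.mk_surjective
    refine ⟨hint, ?_⟩
    let ev' : N.R ⊗[R] S →ₐ[N.R] Ω :=
      { N.ev (χ j) with
        commutes' := fun r => by
          change N.ev (χ j) (algebraMap N.R (N.R ⊗[R] S) r) = N.pt r
          simp [Algebra.TensorProduct.algebraMap_apply] }
    let ψ : A j →ₐ[N.R] Ω := Ideal.Quotient.liftₐ _ ev' fun x hx => by
      obtain ⟨y, rfl⟩ := Ideal.mem_span_singleton'.1 hx
      change N.ev (χ j) (y * (1 - f j)) = 0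
      rw [map_mul, map_sub, map_one, hev, if_pos rfl, sub_self, mul_zero]
    refine Groth.IntSplit.exists_unique_prime p' rfl ψ fun ψ' => ?_
    let φ : N.R ⊗[R] S →ₐ[N.R] Ω := ψ'.comp (Ideal.Quotient.mkₐ N.R _)
    obtain ⟨i, hi⟩ := χ.surjective ((φ.restrictScalars R).comp Algebra.TensorProduct.includeRight)
    have hφ : ∀ x, φ x = N.ev (χ i) x := by
      intro x
      induction x using TensorProduct.induction_on with
      | zero => simp
      | tmul r s =>
        rw [Groth.EtaleBase.IntegralAlg.Nbhd.ev_tmul, hi,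
          show r ⊗ₜ[R] s = algebraMap N.R (N.R ⊗[R] S) r * ((1 : N.R) ⊗ₜ[R] s) by
            simp [Algebra.TensorProduct.algebraMap_apply], map_mul, AlgHom.commutes]
        rfl
      | add a b ha hb => simp only [map_add, ha, hb]
    have hij : j = i := by
      by_contra hne
      have h1 : φ (1 - f j) = 0 := by
        change ψ' (Ideal.Quotient.mk _ (1 - f j)) = 0
        rw [Ideal.Quotient.eq_zero_iff_mem.2 (Ideal.subset_span (Set.mem_singleton (1 - f j))), map_zero]
      rw [hφ, map_sub, map_one, hev, if_neg hne, sub_zero] at h1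
      exact one_ne_zero h1
    refine Ideal.Quotient.algHom_ext N.R (AlgHom.ext fun x => ?_)
    exact (hφ x).trans (by rw [← hij]; rfl)

end Groth.Agent.S1380
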