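import Groth.Statements.S13801
-- import your own Groth.Agent.* helpers here

set_option autoImplicit false
open ChowMon

namespace Groth.Agent.S13801

/-- For a prime p and positive natural numbers a_1, ..., a_k with sum n one has v_p(a_1!) + ... +
v_p(a_k!) ≤ v_p(n!), and the inequality is strict whenever some a_i is not divisible by p^(v_p(n)). -/
theorem result {k : ℕ} (p : ℕ) [Fact p.Prime]
    (a : Fin k → ℕ) (ha : ∀ i, 0 < a i) :
    (∑ i, padicValNat p (a i).factorial ≤ padicValNat p (∑ i, a i).factorial) ∧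
      ((∃ i, ¬ p ^ padicValNat p (∑ j, a j) ∣ a i) →
        ∑ i, padicValNat p (a i).factorial < padicValNat p (∑ i, a i).factorial) := by
  have hp := Fact.out (p := p.Prime)
  set n := ∑ i, a i with hn
  obtain ⟨b, hb⟩ : ∃ b, Nat.log p n < b := ⟨_, Nat.lt_succ_self _⟩
  have hai : ∀ i, a i ≤ n := fun i => Finset.single_le_sum (fun j _ => Nat.zero_le (a j)) (Finset.mem_univ i)
  have key : ∀ i, padicValNat p (a i).factorial = ∑ j ∈ Finset.Ico 1 b, a i / p ^ j := fun i =>
    padicValNat_factorial (lt_of_le_of_lt (Nat.log_mono_right (hai i)) hb)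
  simp only [key, padicValNat_factorial hb]
  rw [Finset.sum_comm]
  have hle : ∀ j, ∑ i, a i / p ^ j ≤ n / p ^ j := fun j => by
    rw [Nat.le_div_iff_mul_le (pow_pos hp.pos j), Finset.sum_mul]
    exact Finset.sum_le_sum fun i _ => Nat.div_mul_le_self _ _
  refine ⟨Finset.sum_le_sum fun j _ => hle j, ?_⟩
  rintro ⟨i, hi⟩
  set v := padicValNat p n with hv
  have hv1 : 1 ≤ v := by
    rcases Nat.eq_zero_or_pos v with h | h
    · exact absurd (by simp [h]) hi
    · exact h
  have hn0 : n ≠ 0 := fun h => by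
    have := ha i; have := hai i; omega
  have hdvd : p ^ v ∣ n := pow_padicValNat_dvd
  have hvb : v < b := lt_of_le_of_lt (Nat.le_log_of_pow_le hp.one_lt (Nat.le_of_dvd (Nat.pos_of_ne_zero hn0) hdvd)) hb
  refine Finset.sum_lt_sum (fun j _ => hle j) ⟨v, Finset.mem_Ico.mpr ⟨hv1, hvb⟩, ?_⟩
  have : (∑ i, a i / p ^ v) * p ^ v < n / p ^ v * p ^ v := by
    rw [Nat.div_mul_cancel hdvd, Finset.sum_mul]
    refine Finset.sum_lt_sum (fun k _ => Nat.div_mul_le_self _ _) ⟨i, Finset.mem_univ _, ?_⟩
    rcases lt_or_eq_of_le (Nat.div_mul_le_self (a i) (p ^ v)) with h | h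
    · exact h
    · exact absurd ⟨a i / p ^ v, by rw [mul_comm]; exact h.symm⟩ hi
  exact Nat.lt_of_mul_lt_mul_right this

end Groth.Agent.S13801
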