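import Groth.Statements.S13831
import Mathlib.AlgebraicGeometry.Morphisms.UniversallyInjective
import Mathlib.AlgebraicGeometry.Morphisms.Finite
import Mathlib.FieldTheory.PurelyInseparable.Basic
import Mathlib.RingTheory.Algebraic.Basic
import Mathlib.LinearAlgebra.Dimension.Constructions

set_option autoImplicit false
universe u
open AlgebraicGeometry
open ChowMon

namespace Groth.Agent.S13831

/-- For a finite universal homeomorphism p : T' → T of Noetherian schemes there is an integer d ≥ 1 such
that for every point t' of T' over t the residue field degree [k(t') : k(t)] is a power of the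
exponential characteristic of k(t) dividing d. -/
theorem result {T' T : Scheme.{u}} (p : T' ⟶ T) [IsFinite p] (hp : FlatMor.IsUnivHomeo p)
    [IsNoetherian T] [IsNoetherian T'] [T.IsSeparated] [T'.IsSeparated] :
    ∃ d : ℕ, 0 < d ∧ ∀ t' : T', ∃ e : ℕ,
      @Module.finrank (T.residueField (p t')) (T'.residueField t') _ _
          (p.residueFieldMap t').hom.toAlgebra.toModule =
        ringExpChar (T.residueField (p t')) ^ e ∧
      ringExpChar (T.residueField (p t')) ^ e ∣ d := by
  classical
  have hui : UniversallyInjective p := by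
    have hu := hp
    refine ⟨fun X' Y' i₁ i₂ f' h => ?_⟩
    exact (hu i₁ i₂ f' h).injective
  have hins : ∀ x, (p.residueFieldMap x).hom.IsPurelyInseparable := by
    have h := ((tfae_universallyInjective p).out 0 2).mp hui
    exact h.2
  -- uniform bound on an affine open
  have hloc : ∀ U : T.affineOpens, ∃ N : ℕ, ∀ t' : T', p t' ∈ (U : T.Opens) →
      @Module.Finite (T.residueField (p t')) (T'.residueField t') _ _ (p.residueFieldMap t').hom.toAlgebra.toModule ∧
      @Module.finrank (T.residueField (p t')) (T'.residueField t') _ _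
          (p.residueFieldMap t').hom.toAlgebra.toModule ≤ N := by
    intro U
    have hV : IsAffineOpen (p ⁻¹ᵁ (U : T.Opens)) := U.2.preimage p
    have hfin : (p.app (U : T.Opens)).hom.Finite := IsFinite.finite_app p (U : T.Opens) U.2
    algebraize [(p.app (U : T.Opens)).hom]
    obtain ⟨N, b, hb⟩ := Submodule.fg_iff_exists_fin_generating_family.1
      (Module.Finite.fg_top (R := Γ(T, (U : T.Opens))) (M := Γ(T', p ⁻¹ᵁ (U : T.Opens))))
    refine ⟨N, fun t' ht => ?_⟩
    let K := T.residueField (p t')
    let L := T'.residueField t'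
    letI : Algebra K L := (p.residueFieldMap t').hom.toAlgebra
    let ev : Γ(T', p ⁻¹ᵁ (U : T.Opens)) →+* L := (T'.evaluation (p ⁻¹ᵁ (U : T.Opens)) t' ht).hom
    let S := Algebra.adjoin K (Set.range ev)
    let v : Fin N → L := fun j => ev (b j)
    have hSle : Subalgebra.toSubmodule S ≤ Submodule.span K (Set.range v) := by
      have hcl : (Submonoid.closure (Set.range ev) : Set L) = Set.range ev := by
        have he : Set.range ev = (MonoidHom.mrange ev.toMonoidHom : Set L) := rfl
        rw [he, Submonoid.closure_eq]
      rw [Algebra.adjoin_eq_span, hcl, Submodule.span_le]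
      rintro _ ⟨x, rfl⟩
      have hx : x ∈ Submodule.span Γ(T, (U : T.Opens)) (Set.range b) := by rw [hb]; trivial
      induction hx using Submodule.span_induction with
      | mem y hy => obtain ⟨j, rfl⟩ := hy; exact Submodule.subset_span ⟨j, rfl⟩
      | zero => rw [map_zero]; exact zero_mem _
      | add y z _ _ hy hz => rw [map_add]; exact add_mem hy hz
      | smul a y _ hy =>
        have e : ev (a • y) = (T.evaluation (U : T.Opens) (p t') ht a : K) • ev y := by
          rw [Algebra.smul_def a y, map_mul, Algebra.smul_def]
          congr 1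
          exact (Scheme.evaluation_naturality_apply p t' ht a).symm
        rw [e]
        exact Submodule.smul_mem _ _ hy
    haveI : Module.Finite K (Submodule.span K (Set.range v)) := Module.Finite.span_of_finite K (Set.finite_range v)
    have hint : ∀ y ∈ S, IsAlgebraic K y := by
      intro y hy
      haveI : Module.Finite K (Subalgebra.toSubmodule S) := Submodule.finiteDimensional_of_le hSle
      haveI : Module.Finite K S := ‹Module.Finite K (Subalgebra.toSubmodule S)›
      exact ((Algebra.IsIntegral.isIntegral (⟨y, hy⟩ : S)).map S.val).isAlgebraic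
    have htop : Submodule.span K (Set.range v) = ⊤ := by
      refine eq_top_iff.2 fun z _ => hSle ?_
      obtain ⟨w, rfl⟩ : ∃ w, T'.residue t' w = z := IsLocalRing.residue_surjective z
      letI : Algebra Γ(T', p ⁻¹ᵁ (U : T.Opens)) (T'.presheaf.stalk t') :=
        TopCat.Presheaf.algebra_section_stalk T'.presheaf ⟨t', ht⟩
      haveI : IsLocalization.AtPrime (T'.presheaf.stalk t') (hV.primeIdealOf ⟨t', ht⟩).asIdeal :=
        hV.isLocalization_stalk ⟨t', ht⟩
      obtain ⟨⟨c, s⟩, hcs⟩ := IsLocalization.surj (hV.primeIdealOf ⟨t', ht⟩).asIdeal.primeCompl w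
      have hs : ev s ≠ 0 := by
        have hu := IsLocalization.map_units (T'.presheaf.stalk t') s
        exact (hu.map (T'.residue t').hom).ne_zero
      have h2 : T'.residue t' w * ev s = ev c := by
        have := congrArg (T'.residue t') hcs
        rw [map_mul] at this
        exact this
      show T'.residue t' w ∈ S
      rw [(eq_mul_inv_iff_mul_eq₀ hs).2 h2]
      exact mul_mem (Algebra.subset_adjoin ⟨c, rfl⟩)
        (S.inv_mem_of_algebraic (x := ⟨ev s, Algebra.subset_adjoin ⟨_, rfl⟩⟩) (hint _ (Algebra.subset_adjoin ⟨_, rfl⟩)))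
    have hfinL : Module.Finite K L := ⟨htop ▸ Submodule.fg_span (Set.finite_range v)⟩
    refine ⟨hfinL, ?_⟩
    show Module.finrank K L ≤ N
    calc Module.finrank K L = (Set.range v).finrank K := by
          rw [Set.finrank, htop, finrank_top]
      _ ≤ Fintype.card (Fin N) := finrank_range_le_card v
      _ = N := Fintype.card_fin N
  choose N hN using hloc
  obtain ⟨s, hs⟩ := isCompact_univ.elim_finite_subcover (fun U : T.affineOpens => ((U : T.Opens) : Set T))
    (fun U => (U : T.Opens).2) (fun x _ => by
      obtain ⟨U, hU⟩ := TopologicalSpace.Opens.mem_iSup.1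
        ((iSup_affineOpens_eq_top T).symm ▸ TopologicalSpace.Opens.mem_top x)
      exact Set.mem_iUnion.2 ⟨U, hU⟩)
  refine ⟨Nat.factorial (s.sup N), Nat.factorial_pos _, fun t' => ?_⟩
  obtain ⟨U, hUs, hU⟩ : ∃ U ∈ s, p t' ∈ (U : T.Opens) := by simpa using hs (Set.mem_univ (p t'))
  obtain ⟨hfd, hle⟩ := hN U t' hU
  letI : Algebra (T.residueField (p t')) (T'.residueField t') := (p.residueFieldMap t').hom.toAlgebra
  haveI : IsPurelyInseparable (T.residueField (p t')) (T'.residueField t') := hins t'
  haveI : FiniteDimensional (T.residueField (p t')) (T'.residueField t') := hfd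
  obtain ⟨e, he⟩ := IsPurelyInseparable.finrank_eq_pow (T.residueField (p t')) (T'.residueField t')
    (ringExpChar (T.residueField (p t')))
  refine ⟨e, he, Nat.dvd_factorial ?_ ?_⟩
  · rw [← he]; exact Module.finrank_pos
  · rw [← he]; exact hle.trans (Finset.le_sup hUs)

end Groth.Agent.S13831
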