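import Groth.Statements.S13835
import Mathlib.AlgebraicGeometry.Morphisms.Separated
import Mathlib.AlgebraicGeometry.Morphisms.UnderlyingMap

set_option autoImplicit false
universe u
open AlgebraicGeometry CategoryTheory
open ChowMon

namespace Groth.Agent.S13835

/-- Let p : T' → T be a universal homeomorphism of separated schemes with T reduced and f' : T' → Y a
morphism (Y separated); if T has an open cover by affine opens U_i such that each restriction of f'
to p⁻¹(U_i) factors through p⁻¹(U_i) → U_i, then f' factors through p. -/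
theorem result {T' T Y : Scheme.{u}} (p : T' ⟶ T) (hp : FlatMor.IsUnivHomeo p) [IsReduced T]
    [T.IsSeparated] [T'.IsSeparated] [Y.IsSeparated] (f' : T' ⟶ Y)
    {ι : Type u} (U : ι → T.affineOpens) (hU : ⨆ i, (U i : T.Opens) = ⊤)
    (hloc : ∀ i, ∃ fi : ((U i : T.Opens) : Scheme.{u}) ⟶ Y, (p ⁻¹ᵁ (U i : T.Opens)).ι ≫ f' = (p ∣_ (U i : T.Opens)) ≫ fi) :
    ∃ f : T ⟶ Y, p ≫ f = f' := by
  classical
  choose fi hfi using hloc
  have hcov : TopologicalSpace.IsOpenCover (fun i => (U i : T.Opens)) := hU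
  let 𝒰 := T.openCoverOfIsOpenCover (fun i => (U i : T.Opens)) hcov
  have hsurj : ∀ {W Z : Scheme.{u}} (g : Z ⟶ T) (a : W ⟶ T') (b : W ⟶ Z), CategoryTheory.IsPullback a b p g →
      Surjective b := by
    intro W Z g a b h
    exact ⟨((hp _ _ _ h.flip : IsHomeomorph b.base)).surjective⟩
  have hcomp : ∀ i j, Limits.pullback.fst (U i : T.Opens).ι (U j : T.Opens).ι ≫ fi i =
      Limits.pullback.snd (U i : T.Opens).ι (U j : T.Opens).ι ≫ fi j := by
    intro i j
    let Z := Limits.pullback (U i : T.Opens).ι (U j : T.Opens).ι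
    let z : Z ⟶ T := Limits.pullback.fst (U i : T.Opens).ι (U j : T.Opens).ι ≫ (U i : T.Opens).ι
    have hz : z = Limits.pullback.snd (U i : T.Opens).ι (U j : T.Opens).ι ≫ (U j : T.Opens).ι := Limits.pullback.condition
    have : IsReduced Z := isReduced_of_isOpenImmersion z
    let a : Limits.pullback p z ⟶ T' := Limits.pullback.fst p z
    let b : Limits.pullback p z ⟶ Z := Limits.pullback.snd p z
    have hb : Surjective b := hsurj z a b (IsPullback.of_hasPullback p z)
    have key : ∀ (k : ι) (c : Z ⟶ ((U k : T.Opens) : Scheme.{u})), c ≫ (U k : T.Opens).ι = z → b ≫ c ≫ fi k = a ≫ f' := by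
      intro k c hc
      have e : (b ≫ c) ≫ (U k : T.Opens).ι = a ≫ p := by
        rw [Category.assoc, hc]; exact Limits.pullback.condition.symm
      obtain ⟨l, hl1, hl2⟩ : ∃ l : Limits.pullback p z ⟶ ((p ⁻¹ᵁ (U k : T.Opens) : T'.Opens) : Scheme.{u}),
          l ≫ (p ∣_ (U k : T.Opens)) = b ≫ c ∧ l ≫ (p ⁻¹ᵁ (U k : T.Opens)).ι = a :=
        ⟨(isPullback_morphismRestrict p (U k : T.Opens)).lift (b ≫ c) a e,
          (isPullback_morphismRestrict p (U k : T.Opens)).lift_fst _ _ _,
          (isPullback_morphismRestrict p (U k : T.Opens)).lift_snd _ _ _⟩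
      rw [← Category.assoc, ← hl1, Category.assoc, ← hfi k, ← Category.assoc, hl2]
    exact ext_of_isDominant b ((key i _ rfl).trans (key j _ hz.symm).symm)
  refine ⟨𝒰.glueMorphisms fi hcomp, ?_⟩
  let 𝒱 := T'.openCoverOfIsOpenCover (fun i => p ⁻¹ᵁ (U i : T.Opens))
    (TopologicalSpace.IsOpenCover.comap hcov p.base.hom)
  refine Scheme.Cover.hom_ext 𝒱 _ _ fun i => ?_
  show (p ⁻¹ᵁ (U i : T.Opens)).ι ≫ p ≫ _ = (p ⁻¹ᵁ (U i : T.Opens)).ι ≫ f'
  rw [hfi i, ← morphismRestrict_ι_assoc]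
  congr 1
  exact Scheme.Cover.ι_glueMorphisms 𝒰 fi hcomp i

end Groth.Agent.S13835
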