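import Groth.Statements.S13836
import Groth.Agent.CurveNorm.Main
import Groth.Agent.HTopHyper.RingCore
import Groth.Agent.EGA43Topo.NormalOpen

set_option backward.isDefEq.respectTransparency false

set_option autoImplicit false
universe u
open AlgebraicGeometry CategoryTheory
open HTop

namespace Groth.Agent.S13836

open Groth.HTopHyper in
/-- Over a domain with geometrically unibranch local rings, the normalization in a purely inseparable
extension of the fraction field is injective on field valued points. -/
theorem pointsInj_integralClosure (R K L : Type u) [CommRing R] [IsDomain R] [Field K] [Algebra R K]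
    [IsFractionRing R K] [Field L] [Algebra R L] [Algebra K L] [IsScalarTower R K L]
    [IsPurelyInseparable K L]
    (hR : ∀ (p : Ideal R) [p.IsPrime], ∃ (A : Type u) (_ : CommRing A) (_ : IsLocalRing A)
      (_ : Algebra R A), IsLocalization.AtPrime A p ∧ CAlg2.IsGeomUnibranch A) :
    PointsInj (algebraMap R (integralClosure R L)) := by
  intro Ω _ d₁ d₂ h
  have hbot : (⊥ : Ideal R) ∈ minimalPrimes R := by
    rw [IsDomain.minimalPrimes_eq_singleton_bot]; rfl
  have hRL : Function.Injective (algebraMap R L) := by
    rw [IsScalarTower.algebraMap_eq R K L]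
    exact (algebraMap K L).injective.comp (IsFractionRing.injective R K)
  let φ : R ⧸ (⊥ : Ideal R) →+* L :=
    (algebraMap R L).comp (RingEquiv.quotientBot R).toRingHom
  have hφ : Function.Injective φ := hRL.comp (RingEquiv.quotientBot R).injective
  let j : FractionRing (R ⧸ (⊥ : Ideal R)) →+* L := IsFractionRing.lift hφ
  have hjR : ∀ a, j (algebraMap R _ a) = algebraMap R L a := fun a => by
    rw [IsScalarTower.algebraMap_apply R (R ⧸ (⊥ : Ideal R)) (FractionRing (R ⧸ (⊥ : Ideal R))),
      IsFractionRing.lift_algebraMap]
    exact congrArg (algebraMap R L) (RingEquiv.quotientBot_mk _)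
  let σ : FractionRing (R ⧸ (⊥ : Ideal R)) →ₐ[R] L := { j with commutes' := hjR }
  let τ := σ.mapIntegralClosure
  have hτ : ∀ z, d₁ (τ z) = d₂ (τ z) := RingHom.congr_fun
    (Groth.EGA43Topo.pointsInj_normalization ⊥ hbot (fun p _ _ => hR p)
      (d₁.comp τ.toRingHom) (d₂.comp τ.toRingHom) (fun a => by
        simp only [RingHom.comp_apply, AlgHom.toRingHom_eq_coe, RingHom.coe_coe, AlgHom.commutes]
        exact RingHom.congr_fun h a))
  have hK : ∀ c : integralClosure R L, (c : L) ∈ (algebraMap K L).range → d₁ c = d₂ c := by
    intro c hc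
    obtain ⟨k, hk⟩ := hc
    obtain ⟨a, b, -, rfl⟩ := IsFractionRing.div_surjective (A := R) k
    rw [map_div₀, ← IsScalarTower.algebraMap_apply, ← IsScalarTower.algebraMap_apply] at hk
    let w : FractionRing (R ⧸ (⊥ : Ideal R)) := algebraMap R _ a / algebraMap R _ b
    have hw : σ w = (c : L) := by rw [← hk, map_div₀, AlgHom.commutes, AlgHom.commutes]
    have hwi : IsIntegral R w := (isIntegral_algHom_iff σ σ.toRingHom.injective).1 (hw ▸ c.2)
    have e : τ ⟨w, hwi⟩ = c := Subtype.ext hw
    rw [← e, hτ]
  ext c
  obtain ⟨q, hq⟩ := ExpChar.exists K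
  obtain ⟨n, hn⟩ := IsPurelyInseparable.pow_mem K q (c : L)
  have hpow := hK (c ^ q ^ n) (by simpa using hn)
  rw [map_pow, map_pow] at hpow
  cases hq with
  | zero => simpa using hpow
  | prime hp =>
    haveI : Fact q.Prime := ⟨hp⟩
    haveI : CharP Ω q := (CharP.charP_iff_prime_eq_zero hp).2 (by
      have h0 : ((q : ℕ) : R) = 0 := IsFractionRing.injective R K (by simp)
      have := congrArg (d₁.comp (algebraMap R (integralClosure R L))) h0
      simpa using this)
    exact Groth.EGA43Topo.pow_expChar_inj q n hpow

end Groth.Agent.S13836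

namespace Groth.Agent.S13836

/-- Let Y be a separated Noetherian integral scheme whose local rings are geometrically unibranch and
whose affine coordinate rings are Nagata, K its function field and L a finite purely inseparable
extension of K; then the normalization of Y in L, i.e. the normalization of Y relative to Spec L →
Spec K → Y, maps to Y by a universal homeomorphism. (The instance binders on Spec L → Y always hold;
they are only needed to form the normalization.) -/
theorem result (Y : Scheme.{u}) [IsIntegral Y] [IsNoetherian Y] [Y.IsSeparated]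
    (hY : ∀ y : Y, CAlg2.IsGeomUnibranch (Y.presheaf.stalk y))
    (hN : ∀ U : Y.affineOpens, CAlg.IsNagata Γ(Y, U))
    (L : Type u) [Field L] [Algebra Y.functionField L] [FiniteDimensional Y.functionField L]
    [IsPurelyInseparable Y.functionField L]
    [QuasiCompact (Spec.map (CommRingCat.ofHom (algebraMap Y.functionField L)) ≫ Y.fromSpecStalk (genericPoint Y))]
    [QuasiSeparated (Spec.map (CommRingCat.ofHom (algebraMap Y.functionField L)) ≫ Y.fromSpecStalk (genericPoint Y))] :
    FlatMor.IsUnivHomeo
      (Spec.map (CommRingCat.ofHom (algebraMap Y.functionField L)) ≫ Y.fromSpecStalk (genericPoint Y)).fromNormalization := by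
  have key : ∀ (g : Spec (CommRingCat.of L) ⟶ Y) [QuasiCompact g] [QuasiSeparated g],
      g = Spec.map (CommRingCat.ofHom (algebraMap Y.functionField L)) ≫ Y.fromSpecStalk (genericPoint Y) →
      FlatMor.IsUnivHomeo g.fromNormalization := by
    intro g _ _ hg
    refine Groth.HTopHyper.isUnivHomeo_iff.mpr ⟨inferInstance, ?_, ?_⟩
    · refine ((tfae_universallyInjective g.fromNormalization).out 0 1).mpr ?_
      intro F iF g₁ g₂ h
      change g₁ ≫ g.fromNormalization = g₂ ≫ g.fromNormalization at h
      obtain ⟨U, hU, hyU, -⟩ := exists_isAffineOpen_mem_and_subset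
        (x := (g₁ ≫ g.fromNormalization) (IsLocalRing.closedPoint F)) (U := ⊤) trivial
      have hW := hU.preimage g.fromNormalization
      have hlift : ∀ g' : Spec (CommRingCat.of F) ⟶ g.normalization,
          g' ≫ g.fromNormalization = g₁ ≫ g.fromNormalization → ∃ d, g' = Spec.map d ≫ hW.fromSpec := by
        intro g' hg'
        have hr : Set.range g' ⊆ Set.range hW.fromSpec := by
          rintro _ ⟨z, rfl⟩
          rw [hW.range_fromSpec, Subsingleton.elim (α := PrimeSpectrum F) z (IsLocalRing.closedPoint F)]
          show (g' ≫ g.fromNormalization) (IsLocalRing.closedPoint F) ∈ U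
          rw [hg']
          exact hyU
        obtain ⟨d, hd⟩ := Spec.map_surjective (IsOpenImmersion.lift hW.fromSpec g' hr)
        exact ⟨d, by rw [hd, IsOpenImmersion.lift_fac]⟩
      obtain ⟨d₁, rfl⟩ := hlift g₁ rfl
      obtain ⟨d₂, rfl⟩ := hlift g₂ h.symm
      haveI hne : Nonempty (U : Scheme.{u}) := ⟨⟨_, hyU⟩⟩
      have hξ : genericPoint Y ∈ U := Groth.CurveNorm.genericPoint_mem Y U hne
      letI aA : Algebra Γ(Y, U) L :=
        ((algebraMap Y.functionField L).comp (Y.presheaf.germ U (genericPoint Y) hξ).hom).toAlgebra
      haveI : IsScalarTower Γ(Y, U) Y.functionField L := IsScalarTower.of_algebraMap_eq fun _ => rfl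
      haveI := functionField_isFractionRing_of_isAffineOpen Y U hU
      obtain ⟨e, he⟩ := Groth.CurveNorm.exists_equiv_integralClosure Y L
        (algebraMap Y.functionField L) g hg hU hξ
      have hP := pointsInj_integralClosure Γ(Y, U) Y.functionField L (fun p hp => by
        have hp' : hU.fromSpec ⟨p, hp⟩ ∈ U := hU.range_fromSpec.le ⟨_, rfl⟩
        letI := TopCat.Presheaf.algebra_section_stalk Y.presheaf (⟨_, hp'⟩ : U)
        exact ⟨Y.presheaf.stalk (hU.fromSpec ⟨p, hp⟩), inferInstance, inferInstance, inferInstance,
          hU.isLocalization_stalk' ⟨p, hp⟩ hp', hY _⟩)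
      have hap := hU.SpecMap_appLE_fromSpec g.fromNormalization hW le_rfl
      rw [← g.fromNormalization.app_eq_appLE] at hap
      rw [Category.assoc, Category.assoc, ← hap, ← Category.assoc, ← Category.assoc,
        cancel_mono hU.fromSpec, ← Spec.map_comp, ← Spec.map_comp] at h
      have h' := Spec.map_injective h
      have := hP F (d₁.hom.comp e.symm.toRingHom) (d₂.hom.comp e.symm.toRingHom) (RingHom.ext fun a => by
        have hea : e.symm (algebraMap Γ(Y, U) _ a) = (g.fromNormalization.app U).hom a :=
          e.symm_apply_eq.2 (he a).symm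
        simp only [RingHom.comp_apply, RingEquiv.toRingHom_eq_coe, RingHom.coe_coe, hea]
        exact congr($h' a))
      have hd : d₁ = d₂ := CommRingCat.hom_ext (RingHom.ext fun z => by
        simpa using RingHom.congr_fun this (e z))
      rw [hd]
    · refine ⟨?_⟩
      rw [← Set.range_eq_univ, Set.eq_univ_iff_forall]
      intro y
      have hcl : IsClosed (Set.range g.fromNormalization) := g.fromNormalization.isClosedMap.isClosed_range
      exact ((genericPoint_spec Y).specializes trivial).mem_closed hcl
        ⟨_, Groth.Ega2Proj.fromNormalization_toNormalization_closedPoint Y L _ g hg⟩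
  exact key _ rfl

end Groth.Agent.S13836
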