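import Groth.Statements.S13837
import Groth.Agent.HTopHyper.Local
import Groth.Agent.HTopHyper.NilTensor

set_option autoImplicit false
universe u
open AlgebraicGeometry
open scoped TensorProduct
open HTop

namespace Groth.Agent.S13837

/-- Let A ⊆ B be an integral ring extension where A and B have finitely many minimal prime ideals; then
the weak normalization of A in B is the equaliser of the two maps B ⇉ (B ⊗_A B)_red: the
A-subalgebra E of elements b with b ⊗ 1 − 1 ⊗ b nilpotent in B ⊗_A B has Spec E → Spec A a universal
homeomorphism, and every A-subalgebra C of B with Spec C → Spec A a universal homeomorphism is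
contained in E. -/
theorem result (A B : Type u) [CommRing A] [CommRing B] [Algebra A B] (hinj : Function.Injective (algebraMap A B))
    [Algebra.IsIntegral A B] (hA : (minimalPrimes A).Finite) (hB : (minimalPrimes B).Finite) :
    ∃ E : Subalgebra A B, (∀ b : B, b ∈ E ↔ IsNilpotent (b ⊗ₜ[A] (1 : B) - (1 : B) ⊗ₜ[A] b)) ∧
      FlatMor.IsUnivHomeo (Spec.map (CommRingCat.ofHom (algebraMap A E))) ∧
      ∀ C : Subalgebra A B, FlatMor.IsUnivHomeo (Spec.map (CommRingCat.ofHom (algebraMap A C))) → C ≤ E := by
  open CategoryTheory in
  refine ⟨Groth.HTopHyper.eqLocusPoints A B, fun b => Groth.HTopHyper.mem_eqLocusPoints, ?_, fun C hC c hc => ?_⟩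
  · refine (Groth.HTopHyper.specUnivHomeo_iff _).mpr ⟨fun x => ?_, ?_, Groth.HTopHyper.pointsInj_eqLocusPoints⟩
    · exact (isIntegral_algHom_iff (Groth.HTopHyper.eqLocusPoints A B).val Subtype.val_injective).mp
        (Algebra.IsIntegral.isIntegral _)
    · intro x hx
      rw [hinj ((congrArg Subtype.val (RingHom.mem_ker.mp hx)).trans (map_zero _).symm)]
      exact zero_mem _
  · have hUI := ((Groth.HTopHyper.specUnivHomeo_iff _).mp hC).2.2
    rw [Groth.HTopHyper.mem_eqLocusPoints, ← mem_nilradical, nilradical_eq_sInf, Submodule.mem_sInf]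
    intro J hJ
    have : Ideal.IsPrime J := hJ
    let π : B ⊗[A] B →+* Ideal.ResidueField J := algebraMap _ _
    have key := hUI (Ideal.ResidueField J)
      (π.comp ((Algebra.TensorProduct.includeLeft (R := A) (S := A) (A := B) (B := B)).toRingHom.comp C.val.toRingHom))
      (π.comp ((Algebra.TensorProduct.includeRight (R := A) (A := B) (B := B)).toRingHom.comp C.val.toRingHom))
      (RingHom.ext fun a => congrArg π (((Algebra.TensorProduct.includeLeft (R := A) (S := A) (A := B) (B := B)).commutes a).trans
        ((Algebra.TensorProduct.includeRight (R := A) (A := B) (B := B)).commutes a).symm))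
    rw [← Ideal.algebraMap_residueField_eq_zero, map_sub, sub_eq_zero]
    exact RingHom.congr_fun key ⟨c, hc⟩

end Groth.Agent.S13837
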