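import Groth.Statements.S13838
import Groth.Agent.HTopHyper.Local

set_option autoImplicit false
universe u
open AlgebraicGeometry
open HTop

namespace Groth.Agent.S13838

/-- Let A ⊆ B be an integral ring extension where A and B have finitely many minimal prime ideals, such
that every prime p of A has a prime q of B above it for which k(p) is closed under extracting
p-power roots inside k(q) (the purely inseparable closure of k(p) in k(q) is k(p)); then the semi-
and weak normalizations of A in B coincide: every A-subalgebra C of B with Spec C → Spec A a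
universal homeomorphism already induces isomorphisms on residue fields. -/
theorem result (A B : Type u) [CommRing A] [CommRing B] [Algebra A B] (hinj : Function.Injective (algebraMap A B))
    [Algebra.IsIntegral A B] (hA : (minimalPrimes A).Finite) (hB : (minimalPrimes B).Finite)
    (hpi : ∀ p : PrimeSpectrum A, ∃ q : PrimeSpectrum B, ∃ hq : p.asIdeal = Ideal.comap (algebraMap A B) q.asIdeal,
      ∀ x : q.asIdeal.ResidueField,
        (∃ n : ℕ, x ^ ringExpChar p.asIdeal.ResidueField ^ n ∈
            Set.range (Ideal.ResidueField.map p.asIdeal q.asIdeal (algebraMap A B) hq)) →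
        x ∈ Set.range (Ideal.ResidueField.map p.asIdeal q.asIdeal (algebraMap A B) hq)) :
    ∀ C : Subalgebra A B, FlatMor.IsUnivHomeo (Spec.map (CommRingCat.ofHom (algebraMap A C))) →
      HTop.ResidueFieldsIso (Spec.map (CommRingCat.ofHom (algebraMap A C))) := by
  open CategoryTheory in
  intro C hC
  obtain ⟨hint, -, hUI⟩ := (Groth.HTopHyper.specUnivHomeo_iff _).mp hC
  rw [Groth.HTopHyper.residueFieldsIso_SpecMap_iff]
  intro r hr c
  let p : PrimeSpectrum A := ⟨r.comap (algebraMap A C), inferInstance⟩
  obtain ⟨q, hq, hclosed⟩ := hpi p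
  have hr' : Ideal.comap C.val.toRingHom q.asIdeal = r :=
    hUI.eq_of_comap_eq hint (by rw [Ideal.comap_comap]; exact hq.symm)
  obtain ⟨n, a, s, hs, hmem⟩ := hUI.pow_mem r c
  let ι := Ideal.ResidueField.map p.asIdeal q.asIdeal (algebraMap A B) hq
  have hι : ∀ a, ι (algebraMap A _ a) = algebraMap B _ (algebraMap A B a) :=
    Ideal.ResidueField.map_algebraMap _ _ _ hq
  obtain ⟨z, hz⟩ := hclosed (algebraMap B q.asIdeal.ResidueField c.1) ⟨n,
    algebraMap A _ a / algebraMap A _ s, by
      have hm : C.val.toRingHom (algebraMap A C s * c ^ (ringExpChar p.asIdeal.ResidueField) ^ n - algebraMap A C a) ∈ q.asIdeal := by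
        rw [← Ideal.mem_comap, hr']; exact hmem
      rw [← Ideal.algebraMap_residueField_eq_zero, map_sub, map_sub, map_mul, map_mul, map_pow, map_pow, sub_eq_zero] at hm
      have hs' : ι (algebraMap A _ s) ≠ 0 := by
        rw [hι, Ne, Ideal.algebraMap_residueField_eq_zero]
        exact fun h => hs (hr' ▸ (show algebraMap A C s ∈ q.asIdeal.comap C.val.toRingHom from h))
      change ι _ = _
      rw [map_div₀, div_eq_iff hs', hι, hι, mul_comm]
      exact hm.symm⟩
  obtain ⟨⟨a', s', hs'⟩, hz'⟩ := IsLocalization.surj (nonZeroDivisors (A ⧸ p.asIdeal)) z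
  obtain ⟨a', rfl⟩ := Ideal.Quotient.mk_surjective a'
  obtain ⟨s', rfl⟩ := Ideal.Quotient.mk_surjective s'
  rw [Ideal.algebraMap_quotient_residueField_mk, Ideal.algebraMap_quotient_residueField_mk] at hz'
  refine ⟨a', s', fun h => nonZeroDivisors.ne_zero hs' (Ideal.Quotient.eq_zero_iff_mem.mpr h), ?_⟩
  rw [← hr', Ideal.mem_comap, ← Ideal.algebraMap_residueField_eq_zero, map_sub, map_sub, map_mul, map_mul, sub_eq_zero]
  have := congrArg ι hz'
  rw [map_mul, hι, hι] at this
  rw [mul_comm]
  exact (congrArg (fun t => t * _) hz).symm.trans this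

end Groth.Agent.S13838
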