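import Groth.Statements.S13839
import Groth.Agent.Misc5.SeminormalTS
import Groth.Agent.Misc8.SymGen

set_option autoImplicit false
universe u
open AlgebraicGeometry
open scoped TensorProduct
open ChowMon

namespace Groth.Agent.S13839

/-- Let C be a Noetherian seminormal A-algebra, g : C → C' an A-algebra map with C' reduced such that
Spec C' → Spec C is a finite universal homeomorphism, and d ≥ 1 an integer divisible by every
residue degree [k(q) : k(g⁻¹q)]; let B be a flat A-algebra and φ : B → C' an A-algebra map. Then for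
every symmetric tensor x ∈ TS^d_A(B) the element φ(m_d(x)) of C', m_d : B^{⊗d} → B the
multiplication, lies in the image of C. (The published statement does not assume C' reduced and is
false without it: take A = C = k a field, C' = k[ε]/(ε²), d = 1, B = k[t] and φ(t) = ε; then ε is
not in k.) -/
theorem result (A C C' B : Type u) [CommRing A] [CommRing C] [CommRing C'] [CommRing B]
    [Algebra A C] [Algebra A C'] [Algebra A B] [IsNoetherianRing C] (hC : HTop.IsSeminormalRing C)
    (g : C →ₐ[A] C') [IsReduced C'] (hfin : g.toRingHom.Finite)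
    (hg : FlatMor.IsUnivHomeo (Spec.map (CommRingCat.ofHom g.toRingHom)))
    (d : ℕ) (hd : 0 < d)
    (hdeg : ∀ q : PrimeSpectrum C',
      @Module.finrank (PrimeSpectrum.comap g.toRingHom q).asIdeal.ResidueField q.asIdeal.ResidueField _ _
          (Ideal.ResidueField.map (PrimeSpectrum.comap g.toRingHom q).asIdeal q.asIdeal g.toRingHom
            rfl).toAlgebra.toModule ∣ d)
    [Module.Flat A B] (φ : B →ₐ[A] C') (x : ⨂[A] _ : Fin d, B) (hx : x ∈ SymTen.TS A B d) :
    φ (PiTensorProduct.lift (MultilinearMap.mkPiAlgebra A (Fin d) B) x) ∈ g.range := by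
  classical
  let m : (⨂[A] _ : Fin d, B) →ₐ[A] B := PiTensorProduct.liftAlgHom (MultilinearMap.mkPiAlgebra A (Fin d) B)
    (by simp) (fun x y => by simp [Finset.prod_mul_distrib])
  show (φ.comp m) x ∈ g.range
  rw [Groth.Misc8.SymGen.TS_eq_adjoin] at hx
  refine Algebra.adjoin_le (S := g.range.comap (φ.comp m)) ?_ hx
  rintro _ ⟨b, j, rfl⟩
  show (φ.comp m) _ ∈ g.range
  have hval : (φ.comp m) (∑ I ∈ (Finset.univ : Finset (Fin d)).powersetCard j,
      PiTensorProduct.tprod A (fun i : Fin d => if i ∈ I then b else (1 : B))) = (d.choose j : C') * φ b ^ j := by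
    rw [map_sum]
    have h1 : ∀ I ∈ (Finset.univ : Finset (Fin d)).powersetCard j,
        (φ.comp m) (PiTensorProduct.tprod A (fun i : Fin d => if i ∈ I then b else (1 : B))) = φ b ^ j := by
      intro I hI
      have hm : m (PiTensorProduct.tprod A (fun i : Fin d => if i ∈ I then b else (1 : B))) =
          ∏ i : Fin d, (if i ∈ I then b else (1 : B)) := by
        refine (PiTensorProduct.lift.tprod (φ := MultilinearMap.mkPiAlgebra A (Fin d) B) _).trans ?_
        exact MultilinearMap.mkPiAlgebra_apply _
      rw [AlgHom.comp_apply, hm, Finset.prod_ite_mem, Finset.univ_inter, Finset.prod_const,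
        (Finset.mem_powersetCard.1 hI).2, map_pow]
    rw [Finset.sum_congr rfl h1, Finset.sum_const, Finset.card_powersetCard, Finset.card_univ, Fintype.card_fin,
      nsmul_eq_mul]
  rw [hval]
  obtain ⟨c, hc⟩ := RingHom.mem_range.1 (Groth.Misc5SemTS.mem_range_of_residually g.toRingHom hC hg
    ((d.choose j : C') * φ b ^ j) fun Q _ =>
      Groth.Misc5SemTS.residually_choose_mul_pow g.toRingHom hg Q hd (hdeg ⟨Q, inferInstance⟩) j (φ b))
  exact ⟨c, hc⟩

end Groth.Agent.S13839
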