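import Groth.Statements.S13840
import Groth.Agent.CSA.Index
-- import your own Groth.Agent.* helpers here

set_option autoImplicit false
universe u v
open scoped TensorProduct
open Brauer

namespace Groth.Agent.S13840

/-- Let κ be a field, L a finite field extension of κ of degree d, A a finite-dimensional central simple
κ-algebra and n a positive integer coprime to d such that the n-fold tensor power of A over κ is
split over κ (the period of A divides n). Then the index of A divides n if and only if the index of
the L-algebra L ⊗_κ A divides n. (The published statement is for a finite locally free morphism of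
schemes Y → X of degree d, a class in H²(X, G_m), a point p of X and the fibre of Y over p, and its
proof uses that the period of the class divides n without stating it; without that hypothesis the
backward implication fails. This row is the case of a point with Y the spectrum of a field, with the
period hypothesis made explicit.) -/
theorem result (κ : Type u) [Field κ] (L : Type u) [Field L] [Algebra κ L]
    [FiniteDimensional κ L] (A : Type v) [Ring A] [Algebra κ A] [Algebra.IsCentral κ A] [IsSimpleRing A]
    [FiniteDimensional κ A] (n : ℕ) (hn : 0 < n) (hcop : Nat.Coprime n (Module.finrank κ L))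
    (hper : Curves.Splits κ (CSAGal.tpow κ A n) κ) :
    (∃ d : ℕ, CSAGal.IsIndex κ A d ∧ d ∣ n) ↔ (∃ d' : ℕ, CSAGal.IsIndex L (L ⊗[κ] A) d' ∧ d' ∣ n) := by
  obtain ⟨_, _, _⟩ := Groth.CSA.csa_baseChange (k := κ) (A := A) L
  constructor
  · rintro ⟨d, hd, hdn⟩
    obtain ⟨D, _, _, _, _, hd0, hdD, hs⟩ := Groth.CSA.isIndex_data hd
    obtain ⟨_, _, _⟩ := Groth.CSA.csa_baseChange (k := κ) (A := D) L
    obtain ⟨D', _, _, d', _, _, -, hd', hs'⟩ := Groth.CSA.exists_division_sim (k := L) (L ⊗[κ] A)
    exact ⟨d', Groth.CSA.isIndex_of_sim hs' hd',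
      (Groth.CSA.dvd_of_sim hd' (hs'.symm.trans hs.baseChange) (by rw [Module.finrank_baseChange, hdD])).trans hdn⟩
  · rintro ⟨d', hd', hdn⟩
    obtain ⟨D, _, _, d, _, _, hd0, hdD, hs⟩ := Groth.CSA.exists_division_sim (k := κ) A
    obtain ⟨D', _, _, _, _, -, hdD', hs'⟩ := Groth.CSA.isIndex_data hd'
    obtain ⟨M, _, _, _, -, hdim, hM, -⟩ := Groth.CSA.exists_degree_splitting_field hdD'
    letI : Algebra κ M := ((algebraMap L M).comp (algebraMap κ L)).toAlgebra
    have : IsScalarTower κ L M := IsScalarTower.of_algebraMap_eq' rfl
    have : FiniteDimensional κ M := Module.Finite.trans L M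
    have h' : Curves.Splits κ D M := hs.splits ((Groth.CSA.splits_baseChange_iff (L := L) M).1 (hs'.symm.splits hM))
    have hdvd := Groth.CSA.dvd_finrank_of_splits hdD h'
    rw [← Module.finrank_mul_finrank κ L M, hdim] at hdvd
    refine ⟨d, Groth.CSA.isIndex_of_sim hs hdD, ?_⟩
    have hk : Groth.CSA.Sim κ (CSAGal.tpow κ D n) κ := (hs.symm.tpow n).trans ((Groth.CSA.splits_tpow_iff n).1 hper)
    have hc : Nat.Coprime d (Module.finrank κ L) := by
      refine Nat.coprime_of_dvd fun p hp h1 h2 => ?_
      exact hp.not_dvd_one (hcop ▸ Nat.dvd_gcd (Groth.CSA.prime_dvd_of_sim_tpow hdD hk hp h1) h2)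
    exact (hc.dvd_of_dvd_mul_left hdvd).trans hdn

end Groth.Agent.S13840
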