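import Groth.Statements.S13841
import Groth.Agent.CSA.Index
import Groth.Agent.S13840
-- import your own Groth.Agent.* helpers here

set_option autoImplicit false
universe u v
open scoped TensorProduct
open Brauer

namespace Groth.Agent.S13841

/-- Let k be a field and A a finite-dimensional central simple k-algebra of period n. Then A has index n
if and only if there is a finite field extension k' of k of degree coprime to n such that the index
of the k'-algebra k' ⊗_k A divides n. (The published statement is for a class of period n in H²(X,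
G_m) on a scheme X over k; this row is the case where X is the spectrum of k.) -/
theorem result (k : Type u) [Field k] (A : Type v) [Ring A] [Algebra k A]
    [Algebra.IsCentral k A] [IsSimpleRing A] [FiniteDimensional k A] (n : ℕ) (hper : CSAGal.IsPeriod k A n) :
    CSAGal.IsIndex k A n ↔
      ∃ (k' : Type u) (_ : Field k') (_ : Algebra k k') (_ : FiniteDimensional k k'),
        Nat.Coprime n (Module.finrank k k') ∧ ∃ d' : ℕ, CSAGal.IsIndex k' (k' ⊗[k] A) d' ∧ d' ∣ n := by
  constructor
  · intro h
    obtain ⟨D, _, _, _, _, -, hdD, hs⟩ := Groth.CSA.isIndex_data h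
    obtain ⟨_, _, _⟩ := Groth.CSA.csa_baseChange (k := k) (A := A) k
    refine ⟨k, inferInstance, inferInstance, inferInstance, by simp, n, ?_, dvd_rfl⟩
    exact Groth.CSA.isIndex_of_sim ((Groth.CSA.Sim.of_algEquiv (Algebra.TensorProduct.lid k A)).trans hs) hdD
  · rintro ⟨k', _, _, _, hcop, d', hd', hdn⟩
    obtain ⟨d, hd, hdn⟩ := (Groth.Agent.S13840.result k k' A n hper.1 hcop hper.2.1).2 ⟨d', hd', hdn⟩
    obtain ⟨D, _, _, _, _, hd0, hdD, hs⟩ := Groth.CSA.isIndex_data hd
    rwa [← Nat.dvd_antisymm hdn (Groth.CSA.isPeriod_dvd hper (Groth.CSA.sim_tpow_of_sim hs hd0 hdD))]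

end Groth.Agent.S13841
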