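import Groth.Statements.S13843
import Groth.Agent.GaloisBrauer.FieldTower

set_option autoImplicit false
universe u
open CategoryTheory CategoryTheory.Limits AlgebraicGeometry
open GalCoh

namespace Groth.Agent.S13843

/-- Let K be a field, F an abelian sheaf on the small étale site of Spec K, i > 0 and α a class in
H^i(Spec K, F) which pulls back to zero over some finite separable field extension L of K. If p is a
prime not dividing the order of α, then there is a finite separable field extension L' of K whose
degree is not divisible by p and over which α pulls back to zero. Hence the period and the index of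
α have the same prime factors. (Exactness of pullback of abelian sheaves, which always holds, is
carried as an instance hypothesis, in the conclusion for every such instance.) -/
theorem result (K : Type u) [Field K] (F : EtCoh.Ab (Spec (CommRingCat.of K))) (i : ℕ)
    (hi : 0 < i) (α : EtCoh.H (Spec (CommRingCat.of K)) F i) (L : Type u) [Field L] [Algebra K L] [FiniteDimensional K L]
    [Algebra.IsSeparable K L] [PreservesFiniteLimits (EtCoh.pull (Spec.map (CommRingCat.ofHom (algebraMap K L))))]
    (hα : EtCore.Hpull (Spec.map (CommRingCat.ofHom (algebraMap K L))) F i α = 0) (p : ℕ) (hp : p.Prime) (hpα : ¬ p ∣ addOrderOf α) :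
    ∃ (L' : Type u) (_ : Field L') (_ : Algebra K L') (_ : FiniteDimensional K L') (_ : Algebra.IsSeparable K L'),
      ¬ p ∣ Module.finrank K L' ∧
        ∀ [PreservesFiniteLimits (EtCoh.pull (Spec.map (CommRingCat.ofHom (algebraMap K L'))))],
          EtCore.Hpull (Spec.map (CommRingCat.ofHom (algebraMap K L'))) F i α = 0 := by
  obtain ⟨M, _, _, _, _, ⟨ι⟩⟩ := Groth.GaloisBrauer.FieldTrace.exists_galois K L
  letI : Algebra L M := ι.toRingHom.toAlgebra
  haveI : IsScalarTower K L M := IsScalarTower.of_algebraMap_eq fun r => (ι.commutes r).symm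
  haveI := Fact.mk hp
  have hM : EtCore.Hpull (Groth.GaloisBrauer.FieldTrace.mor K M) F i α = 0 :=
    (Groth.GaloisBrauer.FieldTrace.Hpull_tower K L M α).1
      ((congrArg (fun z => EtCore.Hpull (Groth.GaloisBrauer.FieldTrace.mor L M) _ i z) hα).trans (map_zero _))
  obtain ⟨P⟩ := (Sylow.nonempty : Nonempty (Sylow p (M ≃ₐ[K] M)))
  let L' := IntermediateField.fixedField (P : Subgroup (M ≃ₐ[K] M))
  have hdeg : Module.finrank K L' = (P : Subgroup (M ≃ₐ[K] M)).index := by
    rw [IntermediateField.finrank_eq_fixingSubgroup_index, IntermediateField.fixingSubgroup_fixedField]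
  refine ⟨L', inferInstance, inferInstance, inferInstance, inferInstance, ?_, fun {_} => ?_⟩
  · rw [hdeg]; exact P.not_dvd_index
  · have hp' := Groth.GaloisBrauer.FieldTrace.finrank_nsmul_eq_zero L' M _ i _
      ((Groth.GaloisBrauer.FieldTrace.Hpull_tower K L' M α).2 hM)
    obtain ⟨m, hm⟩ := P.2.exists_card_eq
    rw [IntermediateField.finrank_fixedField_eq_card, hm] at hp'
    have h1 := addOrderOf_dvd_of_nsmul_eq_zero hp'
    have h2 := addOrderOf_map_dvd (EtCore.Hpull (Groth.GaloisBrauer.FieldTrace.mor K L') F i) α
    have hco : Nat.Coprime (addOrderOf α) (p ^ m) :=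
      Nat.Coprime.pow_right m (Nat.Coprime.symm ((Nat.Prime.coprime_iff_not_dvd hp).2 hpα))
    exact AddMonoid.addOrderOf_eq_one_iff.1 (Nat.eq_one_of_dvd_coprimes hco h2 h1)

end Groth.Agent.S13843
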