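import Groth.Statements.S13846
import Mathlib.LinearAlgebra.GeneralLinearGroup.AlgEquiv
import Mathlib.LinearAlgebra.Center
import Mathlib.LinearAlgebra.Dual.Lemmas

set_option autoImplicit false
universe u v
open TwSh

namespace Groth.Agent.S13846

/-- Let k be a field and V, W finite-dimensional ℤ-graded k-vector spaces, V = ⊕ V_i with V ≠ 0 and W =
⊕ W_i. Let φ : End_k(V) ≃ End_k(W) be a k-algebra isomorphism which sends every endomorphism
homogeneous of degree d (one mapping V_i into V_{i+d} for all i) to an endomorphism homogeneous of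
degree d. Then there are an integer n and a k-linear isomorphism g : V ≅ W with g(V_i) = W_{i+n} for
every i such that φ(f) = g ∘ f ∘ g⁻¹ for all f; moreover n is unique and g is unique up to a nonzero
scalar: if g' : V ≅ W satisfies g'(V_i) = W_{i+n'} for all i and φ(f) = g' ∘ f ∘ g'⁻¹ for all f,
then n' = n and g' = c·g for some c ∈ kˣ. (The published statement is about non-zero perfect
complexes over k: an isomorphism of their derived endomorphism algebras, as algebra objects of the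
derived category, is induced by an isomorphism from the first complex to a shift of the second, for
a unique shift and up to a unit; this row is its form for finite-dimensional ℤ-graded vector spaces,
to which the bounded derived category of a field is equivalent by taking cohomology.) -/
theorem result (k : Type u) [Field k] (V W : Type v) [AddCommGroup V] [Module k V] [FiniteDimensional k V] [Nontrivial V] [AddCommGroup W] [Module k W] [FiniteDimensional k W] (𝒱 : ℤ → Submodule k V) (h𝒱 : DirectSum.IsInternal 𝒱) (𝒲 : ℤ → Submodule k W) (h𝒲 : DirectSum.IsInternal 𝒲) (φ : Module.End k V ≃ₐ[k] Module.End k W) (hφ : ∀ (d : ℤ) (f : Module.End k V), (∀ (i : ℤ) (x : V), x ∈ 𝒱 i → f x ∈ 𝒱 (i + d)) → ∀ (i : ℤ) (y : W), y ∈ 𝒲 i → φ f y ∈ 𝒲 (i + d)) : ∃ (n : ℤ) (g : V ≃ₗ[k] W), (∀ i : ℤ, Submodule.map (g : V →ₗ[k] W) (𝒱 i) = 𝒲 (i + n)) ∧ (∀ f : Module.End k V, φ f = (g : V →ₗ[k] W) ∘ₗ f ∘ₗ (g.symm : W →ₗ[k] V)) ∧ ∀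 (n' : ℤ) (g' : V ≃ₗ[k] W), (∀ i : ℤ, Submodule.map (g' : V →ₗ[k] W) (𝒱 i) = 𝒲 (i + n')) → (∀ f : Module.End k V, φ f = (g' : V →ₗ[k] W) ∘ₗ f ∘ₗ (g'.symm : W →ₗ[k] V)) → n' = n ∧ ∃ c : kˣ, ∀ x : V, g' x = c • g x := by
  classical
  obtain ⟨g, hg⟩ := φ.eq_linearEquivConjAlgEquiv
  have hφg : ∀ (f : Module.End k V) (y : W), φ f y = g (f (g.symm y)) := fun f y => by
    rw [hg]; rfl
  have htop := h𝒱.submodule_iSup_eq_top
  obtain ⟨i₀, hi₀⟩ : ∃ i, 𝒱 i ≠ ⊥ := by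
    by_contra h
    push Not at h
    rw [show 𝒱 = fun _ => ⊥ from funext h, iSup_bot] at htop
    exact bot_ne_top htop
  obtain ⟨x₀, hx₀, hx₀0⟩ := Submodule.exists_mem_ne_zero_of_ne_bot hi₀
  obtain ⟨ℓ, hℓ0, hℓ⟩ : ∃ ℓ : V →ₗ[k] k, ℓ x₀ = 1 ∧ ∀ j, j ≠ i₀ → ∀ z ∈ 𝒱 j, ℓ z = 0 := by
    have hnot : x₀ ∉ ⨆ (j) (_ : j ≠ i₀), 𝒱 j := fun h =>
      hx₀0 (Submodule.disjoint_def.1 (h𝒱.submodule_iSupIndep i₀) x₀ hx₀ h)
    obtain ⟨l, hl, hl'⟩ := Submodule.exists_le_ker_of_notMem hnot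
    refine ⟨(l x₀)⁻¹ • l, by simp [hl], fun j hj z hz => ?_⟩
    have : l z = 0 := hl' (Submodule.mem_iSup_of_mem j (Submodule.mem_iSup_of_mem hj hz))
    simp [this]
  obtain ⟨j₀, y₀, hy₀, hy₀1⟩ : ∃ j, ∃ y ∈ 𝒲 j, ℓ (g.symm y) ≠ 0 := by
    by_contra h
    push Not at h
    have : ℓ (g.symm (g x₀)) = 0 := by
      refine Submodule.iSup_induction 𝒲 (motive := fun y => ℓ (g.symm y) = 0) (by rw [h𝒲.submodule_iSup_eq_top]; trivial) h (by simp) (fun a b ha hb => by simp [ha, hb])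
    simp [hℓ0] at this
  have hle : ∀ i, Submodule.map (g : V →ₗ[k] W) (𝒱 i) ≤ 𝒲 (i + (j₀ - i₀)) := by
    rintro i _ ⟨x, hx, rfl⟩
    let f : Module.End k V := (LinearMap.toSpanSingleton k V x) ∘ₗ ℓ
    have hf : ∀ (j : ℤ) (z : V), z ∈ 𝒱 j → f z ∈ 𝒱 (j + (i - i₀)) := by
      intro j z hz
      by_cases hj : j = i₀
      · subst hj
        rw [show j + (i - j) = i by ring]
        exact Submodule.smul_mem _ _ hx
      · simp [f, hℓ j hj z hz]
    have h1 := hφ (i - i₀) f hf j₀ y₀ hy₀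
    rw [hφg, show j₀ + (i - i₀) = i + (j₀ - i₀) by ring] at h1
    simp only [f, LinearMap.comp_apply, LinearMap.toSpanSingleton_apply, map_smul] at h1
    simpa [Submodule.smul_mem_iff _ hy₀1] using h1
  have heq : ∀ i, Submodule.map (g : V →ₗ[k] W) (𝒱 i) = 𝒲 (i + (j₀ - i₀)) := by
    intro i
    refine le_antisymm (hle i) ?_
    have ht : Submodule.map (g : V →ₗ[k] W) (𝒱 i) ⊔ (⨆ (j) (_ : j ≠ i + (j₀ - i₀)), 𝒲 j) = ⊤ := by
      rw [eq_top_iff]
      calc (⊤ : Submodule k W) = Submodule.map (g : V →ₗ[k] W) (⨆ i, 𝒱 i) := by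
            rw [htop, Submodule.map_top, LinearEquiv.range]
        _ ≤ _ := by
            rw [Submodule.map_iSup]
            refine iSup_le fun l => ?_
            by_cases hl : l = i
            · subst hl; exact le_sup_left
            · exact le_sup_of_le_right ((hle l).trans (le_iSup₂_of_le (l + (j₀ - i₀)) (by omega) le_rfl))
    calc 𝒲 (i + (j₀ - i₀)) = (Submodule.map (g : V →ₗ[k] W) (𝒱 i) ⊔ ⨆ (j) (_ : j ≠ i + (j₀ - i₀)), 𝒲 j) ⊓ 𝒲 (i + (j₀ - i₀)) := by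
          rw [ht, top_inf_eq]
      _ = Submodule.map (g : V →ₗ[k] W) (𝒱 i) ⊔ (⨆ (j) (_ : j ≠ i + (j₀ - i₀)), 𝒲 j) ⊓ 𝒲 (i + (j₀ - i₀)) :=
          sup_inf_assoc_of_le _ (hle i)
      _ ≤ _ := by rw [inf_comm, (h𝒲.submodule_iSupIndep (i + (j₀ - i₀))).eq_bot, sup_bot_eq]
  refine ⟨j₀ - i₀, g, heq, fun f => LinearMap.ext fun y => hφg f y, fun n' g' hn' hg' => ?_⟩
  let u : Module.End k V := (g.symm : W →ₗ[k] V) ∘ₗ (g' : V →ₗ[k] W)
  have hu : ∀ (f : Module.End k V) x, u (f x) = f (u x) := fun f x => by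
    have h1 := LinearMap.congr_fun (hg' f) (g' x)
    simp only [hφg, LinearMap.comp_apply, LinearEquiv.coe_coe, LinearEquiv.symm_apply_apply] at h1
    simp [u, ← h1]
  have hcx : ∀ z, u z = ℓ (u x₀) • z := fun z => by
    have := hu ((LinearMap.toSpanSingleton k V z) ∘ₗ ℓ) x₀
    simpa [hℓ0] using this
  obtain ⟨c, hg'c⟩ : ∃ c : k, ∀ x, g' x = c • g x := ⟨ℓ (u x₀), fun x => by
    have := congrArg g (hcx x)
    simpa [u] using this⟩
  have hc : c ≠ 0 := fun h0 => hx₀0 (g'.injective (by simp [hg'c, h0]))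
  refine ⟨?_, Units.mk0 c hc, fun x => by rw [hg'c]; rfl⟩
  by_contra hne
  have h2 : g' x₀ ∈ 𝒲 (i₀ + n') := hn' i₀ ▸ Submodule.mem_map_of_mem hx₀
  have h3 : g' x₀ ∈ 𝒲 (i₀ + (j₀ - i₀)) := by
    rw [hg'c]; exact Submodule.smul_mem _ _ (heq i₀ ▸ Submodule.mem_map_of_mem hx₀)
  exact hx₀0 (g'.injective (by
    simpa using Submodule.disjoint_def.1 (h𝒲.submodule_iSupIndep.pairwiseDisjoint (show i₀ + n' ≠ i₀ + (j₀ - i₀) by omega)) _ h2 h3))

end Groth.Agent.S13846
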