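import Groth.Statements.S13860
-- import your own Groth.Agent.* helpers here

set_option autoImplicit false
universe u v w
open ModRep

namespace Groth.Agent.S13860

/-- For k a field of characteristic p > 0, G a finite group and P a Sylow p-subgroup of G, a short exact
sequence of k[G]-modules has a k[G]-linear splitting exactly when it has a k[P]-linear one. Stated
here for the surjection of the sequence: a G-equivariant k-linear map g : B → C between k-linear
representations of G admits a G-equivariant k-linear section if and only if it admits a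
P-equivariant k-linear section. -/
theorem result {k : Type u} [Field k] (p : ℕ) [Fact p.Prime]
    [CharP k p] {G : Type v} [Group G] [Finite G] (P : Sylow p G)
    {B C : Type w} [AddCommGroup B] [Module k B] [AddCommGroup C] [Module k C]
    (ρB : Representation k G B) (ρC : Representation k G C)
    (g : B →ₗ[k] C) (hg : ∀ x : G, g ∘ₗ ρB x = ρC x ∘ₗ g) :
    (∃ s : C →ₗ[k] B, g ∘ₗ s = LinearMap.id ∧ ∀ x : G, s ∘ₗ ρC x = ρB x ∘ₗ s) ↔
      (∃ s : C →ₗ[k] B, g ∘ₗ s = LinearMap.id ∧ ∀ x : G, x ∈ P → s ∘ₗ ρC x = ρB x ∘ₗ s) := by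
  classical
  constructor
  · rintro ⟨s, h1, h2⟩; exact ⟨s, h1, fun x _ => h2 x⟩
  rintro ⟨s, h1, h2⟩
  let H : Subgroup G := (P : Subgroup G)
  have : Fintype (G ⧸ H) := Fintype.ofFinite _
  let f : G → (C →ₗ[k] B) := fun x => ρB x ∘ₗ s ∘ₗ ρC x⁻¹
  have hf : ∀ x, ∀ h ∈ H, f (x * h) = f x := by
    intro x h hh
    ext c
    have := LinearMap.congr_fun (h2 h hh) (ρC (h⁻¹ * x⁻¹) c)
    simp only [f, LinearMap.comp_apply, mul_inv_rev] at this ⊢
    rw [map_mul ρB, Module.End.mul_apply, ← this, ← Module.End.mul_apply, ← map_mul, mul_inv_cancel_left]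
  have hnd : (H.index : k) ≠ 0 := by
    rw [Ne, CharP.cast_eq_zero_iff k p]
    exact P.not_dvd_index
  refine ⟨(H.index : k)⁻¹ • ∑ q : G ⧸ H, f q.out, ?_, ?_⟩
  · ext c
    have e : ∀ x : G, g (f x c) = c := by
      intro x
      have := LinearMap.congr_fun (hg x) (s (ρC x⁻¹ c))
      simp only [LinearMap.comp_apply] at this
      have h' := LinearMap.congr_fun h1 (ρC x⁻¹ c)
      simp only [LinearMap.comp_apply, LinearMap.id_apply] at h'
      simp only [f, LinearMap.comp_apply, this, h']
      rw [← Module.End.mul_apply, ← map_mul, mul_inv_cancel, map_one, Module.End.one_apply]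
    simp only [LinearMap.comp_apply, LinearMap.smul_apply, LinearMap.sum_apply, map_smul, map_sum, e,
      LinearMap.id_apply]
    rw [Finset.sum_const, Finset.card_univ, ← Nat.card_eq_fintype_card, ← Subgroup.index_eq_card,
      ← Nat.cast_smul_eq_nsmul k, smul_smul, inv_mul_cancel₀ hnd, one_smul]
  · intro y
    rw [LinearMap.smul_comp, LinearMap.comp_smul]
    congr 1
    ext c
    simp only [LinearMap.comp_apply, LinearMap.sum_apply, map_sum]
    rw [← Equiv.sum_comp (MulAction.toPerm y) (fun q : G ⧸ H => f q.out (ρC y c))]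
    refine Finset.sum_congr rfl fun q _ => ?_
    obtain ⟨h, hh⟩ : ∃ h : H, (y • q).out = y * q.out * h := by
      have : y • q = ((y * q.out : G) : G ⧸ H) := by
        conv_lhs => rw [← Quotient.out_eq' q]
        rfl
      rw [this]
      exact QuotientGroup.mk_out_eq_mul H (y * q.out)
    show f (y • q).out (ρC y c) = _
    rw [hh, hf _ _ h.2]
    simp only [f, LinearMap.comp_apply, mul_inv_rev]
    rw [map_mul ρB, Module.End.mul_apply, ← Module.End.mul_apply (ρC _) (ρC y), ← map_mul,
      inv_mul_cancel_right]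

end Groth.Agent.S13860
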