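import Groth.Statements.S13863
import Mathlib
import Groth.Agent.Misc6.ASAuto

set_option autoImplicit false
universe u
open ASCover

namespace Groth.Agent.S13863

/-- For k an algebraically closed field of characteristic p > 0, n ≥ 1 an integer prime to p, and u ∈
k[[t]] the power series with constant term 1 and u^n · (1 + t^n) = 1, the substitution σ(t) = t·u is
a k-automorphism of k((t)) of order p and, for an integer a, σ acts on the fractional ideal I =
t^a·k[[t]]; transported to B = k[[t]] along h ↦ t^a·h this action is h ↦ u^a · h(t·u). For an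
integer i with a − n ≤ i ≤ a − 1 the element σ(t^i) − t^i lies in I, so t^i defines a class in
H^1(⟨σ⟩, I); the classes with p ∤ i form a basis of this H^1, and when p divides i the class
vanishes, i.e. σ(t^i) − t^i = σ(w) − w for some w ∈ I. (The published statement of this vanishing is
printed with the condition p ∤ i, which contradicts the basis assertion of the same lemma; its proof
treats p | i, and this row states that case.) In transported form, with m = a − i ∈ [1, n] and c ∈
k[[t]] defined by t^m · c = u^i − 1: there is h ∈ k[[t]] with u^a · h(t·u) − h = c. -/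
theorem result {k : Type u} [Field k] [IsAlgClosed k] (p : ℕ)
    [Fact p.Prime] [CharP k p] (n : ℕ) (hn : 0 < n) (hpn : ¬ p ∣ n)
    (u : PowerSeries k) (hu1 : PowerSeries.constantCoeff u = 1)
    (hun : u ^ n * (1 + PowerSeries.X ^ n) = 1) (hu : IsUnit u) (a : ℤ) (m : ℕ)
    (hm1 : 1 ≤ m) (hmn : m ≤ n) (hdvd : (p : ℤ) ∣ a - m) (c : PowerSeries k)
    (hc : PowerSeries.X ^ m * c = ((hu.unit ^ (a - m) : (PowerSeries k)ˣ) : PowerSeries k) - 1) :
    ∃ h : PowerSeries k,
      ((hu.unit ^ a : (PowerSeries k)ˣ) : PowerSeries k) * PowerSeries.subst (PowerSeries.X * u) h - h = c := by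
  have hnk : (n : k) ≠ 0 := fun h => hpn ((CharP.cast_eq_zero_iff k p n).1 h)
  have hs := Groth.Misc6.AS.hasSubst_mul u
  obtain ⟨r, hr0, hr1, hr2⟩ := Groth.Misc6.AS.exists_sigma_eq_pow_mul n u hu1 hun hnk p hn
  have hru : IsUnit r := PowerSeries.isUnit_iff_constantCoeff.2 (by simp [hr0])
  set σ := Groth.Misc6.AS.sig u
  obtain ⟨j, hj⟩ := hdvd
  have hσu : Units.map σ.toMonoidHom hru.unit = hru.unit * hu.unit ^ p :=
    Units.ext (by simpa using hr2)
  set R := hru.unit ^ (-j) with hR
  have hσR : σ (R : PowerSeries k) = (R : PowerSeries k) * ((hu.unit ^ (-(a - m)) : (PowerSeries k)ˣ) : PowerSeries k) := by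
    have h1 : Units.map σ.toMonoidHom R = R * hu.unit ^ (-(a - m)) := by
      rw [hR, map_zpow, hσu, mul_zpow, ← zpow_natCast hu.unit p, ← zpow_mul, hj, mul_neg]
    simpa using congrArg Units.val h1
  have hdR : PowerSeries.X ^ m ∣ 1 - (R : PowerSeries k) := by
    let q := Ideal.Quotient.mk (Ideal.span {(PowerSeries.X : PowerSeries k) ^ m})
    have h1 : Units.map q.toMonoidHom hru.unit = 1 := Units.ext (by
      simp only [Units.coe_map, Units.val_one, IsUnit.unit_spec]
      show q r = 1
      rw [← map_one q, Ideal.Quotient.eq, Ideal.mem_span_singleton]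
      exact (pow_dvd_pow _ hmn).trans hr1)
    have h2 : Units.map q.toMonoidHom R = 1 := by rw [hR, map_zpow, h1, one_zpow]
    rw [← Ideal.mem_span_singleton, ← Ideal.Quotient.eq_zero_iff_mem, map_sub, map_one, sub_eq_zero]
    exact (congrArg Units.val h2).symm
  obtain ⟨h, hh⟩ := hdR
  refine ⟨h, mul_left_cancel₀ (pow_ne_zero m PowerSeries.X_ne_zero) ?_⟩
  have hσh : (PowerSeries.X * u) ^ m * PowerSeries.subst (PowerSeries.X * u) h = 1 - σ (R : PowerSeries k) := by
    rw [← PowerSeries.coe_substAlgHom hs, ← map_one σ, ← map_sub, hh, map_mul, map_pow, PowerSeries.substAlgHom_X]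
  have hua : ((hu.unit ^ a : (PowerSeries k)ˣ) : PowerSeries k) =
      u ^ m * ((hu.unit ^ (a - m) : (PowerSeries k)ˣ) : PowerSeries k) := by
    have h1 : hu.unit ^ a = hu.unit ^ (m : ℤ) * hu.unit ^ (a - m) := by rw [← zpow_add, add_sub_cancel]
    simpa using congrArg Units.val h1
  have hinv : ((hu.unit ^ (a - m) : (PowerSeries k)ˣ) : PowerSeries k) *
      ((hu.unit ^ (-(a - m)) : (PowerSeries k)ˣ) : PowerSeries k) = 1 := by
    rw [zpow_neg, Units.mul_inv]
  rw [hσR] at hσh
  rw [hc, hua]
  linear_combination ((hu.unit ^ (a - m) : (PowerSeries k)ˣ) : PowerSeries k) * hσh - (R : PowerSeries k) * hinv + hh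

end Groth.Agent.S13863
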