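import Groth.Statements.S13862
import Mathlib
import Groth.Agent.Misc6.ASH1
import Groth.Agent.S13863

set_option autoImplicit false
universe u
open ASCover

namespace Groth.Agent.S13862

/-- For k an algebraically closed field of characteristic p > 0, n ≥ 1 an integer prime to p, u ∈ k[[t]]
the power series with constant term 1 and u^n · (1 + t^n) = 1, and G a group of order p generated by
g, consider two k-linear actions of G on B = k[[t]]: ρ₀(g) h = h(t·u), i.e. B with its order-p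
automorphism σ(t) = t·u, and ρ₁(g) h = u^(n+1) · h(t·u), which is the σ-module B·dt identified with
B through h·dt ↦ h (because d(σ t) = u^(n+1) dt). The derivative d/dt : (B, ρ₀) → (B, ρ₁) is
G-equivariant, and the image of the map it induces on first group cohomology, H^1(G, (B, ρ₀)) →
H^1(G, (B, ρ₁)), is finite-dimensional over k of dimension ⌊(n+1)(p−1)/p⌋ − 1 − ⌊(n−1)/p⌋. This is
the dimension of the image of H^1(G, O) → H^1(G, Ω) at a ramified point with break n of a ℤ/p-cover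
of smooth curves, computed in the completed local ring; the published statement is phrased for the
stalks, at a point of the quotient curve, of the direct images of the structure sheaf and of the
sheaf of differentials, and its proof passes to this completed form. -/
theorem result {k : Type u} [Field k] [IsAlgClosed k] (p : ℕ)
    [Fact p.Prime] [CharP k p] (n : ℕ) (hn : 0 < n) (hpn : ¬ p ∣ n)
    (u : PowerSeries k) (hu1 : PowerSeries.constantCoeff u = 1)
    (hun : u ^ n * (1 + PowerSeries.X ^ n) = 1)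
    {G : Type u} [Group G] [Finite G] (g : G) (hG : Nat.card G = p)
    (hg : ∀ x : G, x ∈ Subgroup.zpowers g)
    (ρ₀ ρ₁ : Representation k G (PowerSeries k))
    (hρ₀ : ∀ h : PowerSeries k, ρ₀ g h = PowerSeries.subst (PowerSeries.X * u) h)
    (hρ₁ : ∀ h : PowerSeries k, ρ₁ g h = u ^ (n + 1) * PowerSeries.subst (PowerSeries.X * u) h)
    (φ : Rep.of ρ₀ ⟶ Rep.of ρ₁) (hφ : ∀ h : PowerSeries k, φ.hom h = PowerSeries.derivative k h) :
    Module.Finite k (LinearMap.range ((groupCohomology.functor k G 1).map φ).hom) ∧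
      (Module.finrank k (LinearMap.range ((groupCohomology.functor k G 1).map φ).hom) : ℤ) =
        ((n + 1) * (p - 1) : ℤ) / p - 1 - (n - 1 : ℤ) / p := by
  have hnk : (n : k) ≠ 0 := fun h => hpn ((CharP.cast_eq_zero_iff k p n).1 h)
  have hs := Groth.Misc6.AS.hasSubst_mul u
  classical
  have hu : IsUnit u := PowerSeries.isUnit_iff_constantCoeff.2 (by simp [hu1])
  set U := Groth.Misc6.AS.U u hu
  set T : Finset ℕ := (Finset.Icc 1 n).filter
    (fun m : ℕ => ¬ (p : ℤ) ∣ (m : ℤ) ∧ ¬ (p : ℤ) ∣ (n : ℤ) - (m : ℤ)) with hT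
  have hρ0' : ρ₀ g = Groth.Misc6.AS.tau u hu 0 := LinearMap.ext fun h => by
    rw [hρ₀, Groth.Misc6.AS.tau_apply, Groth.Misc6.AS.U_zero, one_mul, PowerSeries.coe_substAlgHom]
  have hρ1' : ρ₁ g = Groth.Misc6.AS.tau u hu ((n + 1 : ℕ) : ℤ) := LinearMap.ext fun h => by
    rw [hρ₁, Groth.Misc6.AS.tau_apply, Groth.Misc6.AS.U_natCast, PowerSeries.coe_substAlgHom]
  obtain ⟨Ψ₀, hΨ₀, hΨ₀', -⟩ := Groth.Misc6.AS.exists_H1_equiv n u hu p hu1 hun hnk hn g hG hg 0 ρ₀ hρ0'
  obtain ⟨Ψ₁, hΨ₁, hΨ₁', hzero⟩ :=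
    Groth.Misc6.AS.exists_H1_equiv n u hu p hu1 hun hnk hn g hG hg ((n + 1 : ℕ) : ℤ) ρ₁ hρ1'
  let F : groupCohomology.H1 (Rep.of ρ₀) →ₗ[k] groupCohomology.H1 (Rep.of ρ₁) :=
    (groupCohomology.map (MonoidHom.id G) φ 1).hom
  suffices hgoal : Module.Finite k (LinearMap.range F) ∧
      (Module.finrank k (LinearMap.range F) : ℤ) = ((n + 1) * (p - 1) : ℤ) / p - 1 - (n - 1 : ℤ) / p from hgoal
  have hTlt : ∀ m ∈ T, (1 ≤ m ∧ m < n) ∧ ¬ (p : ℤ) ∣ (m : ℤ) ∧ ¬ (p : ℤ) ∣ (n : ℤ) - (m : ℤ) := by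
    intro m hm
    rw [hT, Finset.mem_filter, Finset.mem_Icc] at hm
    refine ⟨⟨hm.1.1, lt_of_le_of_ne hm.1.2 ?_⟩, hm.2⟩
    rintro rfl
    exact hm.2.2 (by simp)
  have hT1 : ∀ m ∈ T, m + 1 ∈ Groth.Misc6.AS.idx n p ((n + 1 : ℕ) : ℤ) := fun m hm => by
    rw [Groth.Misc6.AS.mem_idx]
    refine ⟨⟨by omega, (hTlt m hm).1.2⟩, ?_⟩
    push_cast
    simpa using (hTlt m hm).2.2
  let v : T → groupCohomology.H1 (Rep.of ρ₁) := fun m => Ψ₁ (Pi.single ⟨(m : ℕ) + 1, hT1 m m.2⟩ 1)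
  have hv : LinearIndependent k v := by
    refine LinearIndependent.map' (v := fun m : T =>
      (Pi.single ⟨(m : ℕ) + 1, hT1 m m.2⟩ 1 : Groth.Misc6.AS.idx n p ((n + 1 : ℕ) : ℤ) → k))
      ?_ Ψ₁ (LinearMap.ker_eq_bot.2 hΨ₁.1)
    have h := (Pi.basisFun k (Groth.Misc6.AS.idx n p ((n + 1 : ℕ) : ℤ))).linearIndependent.comp
      (fun m : T => (⟨(m : ℕ) + 1, hT1 m m.2⟩ : Groth.Misc6.AS.idx n p ((n + 1 : ℕ) : ℤ)))
      (fun a b h => Subtype.ext (Nat.succ_injective (congrArg Subtype.val h)))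
    simpa [Function.comp_def] using h
  -- the derivative on the classes
  let cl := Groth.Misc6.AS.cls n u hu p
  have hderiv : ∀ m, 1 ≤ m → m ≤ n →
      (m < n → PowerSeries.derivative k (cl 0 m) = (-(m : k)) • cl ((n + 1 : ℕ) : ℤ) (m + 1)) ∧
      (m = n → PowerSeries.derivative k (cl 0 m) = 0) := by
    intro m h1 h2
    set c0 := cl 0 m with hc0
    have hc0' : PowerSeries.X ^ m * c0 = U (0 - (m : ℤ)) - 1 :=
      (Groth.Misc6.AS.cls_spec n u hu p hu1 hun hnk hn 0 m h2).1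
    have hmul : U (0 - (m : ℤ)) * u ^ m = 1 := by
      rw [← Groth.Misc6.AS.U_natCast u hu, ← Groth.Misc6.AS.U_add, sub_add_cancel, Groth.Misc6.AS.U_zero]
    obtain ⟨m', rfl⟩ : ∃ m', m = m' + 1 := ⟨m - 1, by omega⟩
    obtain ⟨n', hn'⟩ : ∃ n', n = n' + 1 := ⟨n - 1, by omega⟩
    -- `X u' = u^(n+1) - u`
    have hu' : PowerSeries.X * PowerSeries.derivative k u = u ^ (n + 1) - u := by
      have e := congrArg (PowerSeries.derivative k) hun
      simp only [Derivation.leibniz, Derivation.leibniz_pow, map_add, Derivation.map_one_eq_zero,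
        PowerSeries.derivative_X, smul_eq_mul, zero_add, mul_one, nsmul_eq_mul] at e
      have hne : (n : PowerSeries k) * u ^ n' ≠ 0 := mul_ne_zero
        (fun h => hnk (by simpa using congrArg PowerSeries.constantCoeff h))
        (pow_ne_zero _ hu.ne_zero)
      rw [hn'] at e hun ⊢
      simp only [Nat.add_sub_cancel] at e
      rw [hn'] at hne
      have h5 : (1 + PowerSeries.X ^ (n' + 1) : PowerSeries k) * (PowerSeries.X * PowerSeries.derivative k u) =
          -(u * PowerSeries.X ^ (n' + 1)) := by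
        refine mul_left_cancel₀ hne ?_
        linear_combination PowerSeries.X * e
      linear_combination u ^ (n' + 1) * h5 - (PowerSeries.X * PowerSeries.derivative k u + u) * hun
    have e1 := congrArg (PowerSeries.derivative k) hc0'
    simp only [Derivation.leibniz, Derivation.leibniz_pow, map_sub, Derivation.map_one_eq_zero,
      PowerSeries.derivative_X, smul_eq_mul, mul_one, nsmul_eq_mul, sub_zero, Nat.add_sub_cancel] at e1
    have e2 := congrArg (PowerSeries.derivative k) hmul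
    simp only [Derivation.leibniz, Derivation.leibniz_pow, Derivation.map_one_eq_zero, smul_eq_mul,
      nsmul_eq_mul, Nat.add_sub_cancel] at e2
    have hkey : PowerSeries.X ^ (m' + 1 + 1) * PowerSeries.derivative k c0 =
        -((m' + 1 : ℕ) : PowerSeries k) * (U (0 - ((m' + 1 : ℕ) : ℤ)) * u ^ n - 1) := by
      have hcancel : u ^ (m' + 1) * (PowerSeries.X * PowerSeries.derivative k (U (0 - ((m' + 1 : ℕ) : ℤ)))) =
          -((m' + 1 : ℕ) : PowerSeries k) * (U (0 - ((m' + 1 : ℕ) : ℤ)) * u ^ m') * (u ^ (n + 1) - u) := by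
        linear_combination PowerSeries.X * e2 -
          ((m' + 1 : ℕ) : PowerSeries k) * (U (0 - ((m' + 1 : ℕ) : ℤ)) * u ^ m') * hu'
      refine mul_left_cancel₀ (pow_ne_zero (m' + 1) hu.ne_zero) ?_
      linear_combination (PowerSeries.X * u ^ (m' + 1)) * e1 + hcancel -
        ((m' + 1 : ℕ) : PowerSeries k) * u ^ (m' + 1) * hc0'
    refine ⟨fun hlt => mul_left_cancel₀ (pow_ne_zero (m' + 1 + 1) PowerSeries.X_ne_zero) ?_,
      fun heq => mul_left_cancel₀ (pow_ne_zero (m' + 1 + 1) PowerSeries.X_ne_zero) ?_⟩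
    · have hc1 := (Groth.Misc6.AS.cls_spec n u hu p hu1 hun hnk hn ((n + 1 : ℕ) : ℤ) (m' + 1 + 1) hlt).1
      have e3 : Groth.Misc6.AS.U u hu (((n + 1 : ℕ) : ℤ) - ((m' + 1 + 1 : ℕ) : ℤ)) =
          U (0 - ((m' + 1 : ℕ) : ℤ)) * u ^ n := by
        rw [← Groth.Misc6.AS.U_natCast u hu n, ← Groth.Misc6.AS.U_add]
        congr 1
        push_cast; ring
      rw [e3] at hc1
      rw [hkey, mul_smul_comm, hc1, neg_smul, Nat.cast_smul_eq_nsmul, nsmul_eq_mul, neg_mul]
    · rw [hkey, mul_zero]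
      have : U (0 - ((m' + 1 : ℕ) : ℤ)) * u ^ n = 1 := by rw [← heq]; exact hmul
      rw [this, sub_self, mul_zero]
  have hFapply : ∀ (m : Groth.Misc6.AS.idx n p 0) (f' : groupCohomology.cocycles₁ (Rep.of ρ₁)),
      f' g = PowerSeries.derivative k (cl 0 m) → F (Ψ₀ (Pi.single m 1)) = groupCohomology.H1π (Rep.of ρ₁) f' := by
    intro m f' hf'
    obtain ⟨f, hf⟩ := Groth.Misc6.CyclicH1.exists_cocycle (Rep.of ρ₀) g hg (cl 0 m) (by
      rw [Groth.Misc6.AS.part_eq_nrm u hu p g hG hg 0 ρ₀ hρ0']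
      exact (Groth.Misc6.AS.cls_spec n u hu p hu1 hun hnk hn 0 m ((Groth.Misc6.AS.mem_idx n p).1 m.2).1.2).2.2.2)
    rw [hΨ₀' _ f (by rw [hf, Groth.Misc6.AS.comb, Fintype.linearCombination_apply_single, one_smul])]
    have h := groupCohomology.H1π_comp_map_apply (MonoidHom.id G) φ f
    refine h.trans ?_
    congr 1
    refine Groth.Misc6.CyclicH1.cocycle_ext_of_finite (Rep.of ρ₁) g hg ?_
    rw [hf']
    show φ.hom (f g) = _
    rw [hf, hφ]
  have hrange : LinearMap.range F = Submodule.span k (Set.range v) := by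
    have hsurj : LinearMap.range Ψ₀ = ⊤ := LinearMap.range_eq_top.2 hΨ₀.2
    rw [LinearMap.range_eq_map, ← hsurj, LinearMap.range_eq_map Ψ₀, ← Submodule.map_comp,
      ← (Pi.basisFun k _).span_eq, Submodule.map_span, ← Set.range_comp]
    refine le_antisymm (Submodule.span_le.2 ?_) (Submodule.span_le.2 ?_)
    · rintro _ ⟨m, rfl⟩
      obtain ⟨⟨h1, h2⟩, h3⟩ := (Groth.Misc6.AS.mem_idx n p).1 m.2
      simp only [Function.comp_apply, LinearMap.comp_apply, Pi.basisFun_apply, SetLike.mem_coe]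
      obtain ⟨f', hf'⟩ : ∃ f' : groupCohomology.cocycles₁ (Rep.of ρ₁),
          f' g = PowerSeries.derivative k (cl 0 m) := by
        refine Groth.Misc6.CyclicH1.exists_cocycle (Rep.of ρ₁) g hg _ ?_
        rw [Groth.Misc6.AS.part_eq_nrm u hu p g hG hg _ ρ₁ hρ1']
        rcases lt_or_eq_of_le h2 with hlt | heq
        · rw [(hderiv m h1 h2).1 hlt, map_smul,
            (Groth.Misc6.AS.cls_spec n u hu p hu1 hun hnk hn _ ((m : ℕ) + 1) hlt).2.2.2, smul_zero]
        · rw [(hderiv m h1 h2).2 heq, map_zero]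
      rw [hFapply m f' hf']
      rcases lt_or_eq_of_le h2 with hlt | heq
      · by_cases hdvd : (p : ℤ) ∣ (n : ℤ) - ((m : ℕ) : ℤ)
        · obtain ⟨h, hh⟩ := Groth.Agent.S13863.result p n hn hpn u hu1 hun hu ((n + 1 : ℕ) : ℤ) ((m : ℕ) + 1)
            (by omega) hlt (by push_cast; simpa using hdvd) (cl ((n + 1 : ℕ) : ℤ) ((m : ℕ) + 1))
            (Groth.Misc6.AS.cls_spec n u hu p hu1 hun hnk hn _ _ hlt).1
          rw [hzero f' ⟨(-((m : ℕ) : k)) • h, ?_⟩]
          · exact Submodule.zero_mem _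
          rw [map_smul, hf', (hderiv m h1 h2).1 hlt, Groth.Misc6.AS.dif_apply, PowerSeries.coe_substAlgHom]
          exact congrArg _ hh.symm
        · have hmT : (m : ℕ) ∈ T := by
            rw [hT, Finset.mem_filter, Finset.mem_Icc]
            refine ⟨⟨h1, h2⟩, ?_, hdvd⟩
            intro h; exact h3 (by simpa using h)
          rw [← hΨ₁' (Pi.single ⟨(m : ℕ) + 1, hT1 m hmT⟩ (-((m : ℕ) : k))) f' (by
            rw [hf', (hderiv m h1 h2).1 hlt, Groth.Misc6.AS.comb, Fintype.linearCombination_apply_single])]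
          have e : (Pi.single ⟨(m : ℕ) + 1, hT1 m hmT⟩ (-((m : ℕ) : k)) : Groth.Misc6.AS.idx n p ((n + 1 : ℕ) : ℤ) → k) =
              (-((m : ℕ) : k)) • Pi.single ⟨(m : ℕ) + 1, hT1 m hmT⟩ 1 := by
            rw [← Pi.single_smul, smul_eq_mul, mul_one]
          rw [e, map_smul]
          exact Submodule.smul_mem _ _ (Submodule.subset_span ⟨⟨m, hmT⟩, rfl⟩)
      · rw [hzero f' ⟨0, by rw [hf', (hderiv m h1 h2).2 heq, map_zero]⟩]
        exact Submodule.zero_mem _
    · rintro _ ⟨⟨m, hm⟩, rfl⟩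
      obtain ⟨⟨h1, h2⟩, h3, h4⟩ := hTlt m hm
      have hm0 : m ∈ Groth.Misc6.AS.idx n p 0 := by
        rw [Groth.Misc6.AS.mem_idx]; exact ⟨⟨h1, h2.le⟩, by simpa using h3⟩
      have hmk : (m : k) ≠ 0 := fun h => h3 (by
        exact_mod_cast (CharP.cast_eq_zero_iff k p m).1 h)
      obtain ⟨f', hf'⟩ := Groth.Misc6.CyclicH1.exists_cocycle (Rep.of ρ₁) g hg
        (PowerSeries.derivative k (cl 0 m)) (by
          rw [Groth.Misc6.AS.part_eq_nrm u hu p g hG hg _ ρ₁ hρ1', (hderiv m h1 h2.le).1 h2, map_smul,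
            (Groth.Misc6.AS.cls_spec n u hu p hu1 hun hnk hn _ (m + 1) h2).2.2.2, smul_zero])
      have e := hFapply ⟨m, hm0⟩ f' hf'
      rw [← hΨ₁' (Pi.single ⟨m + 1, hT1 m hm⟩ (-(m : k))) f' (by
        rw [hf', (hderiv m h1 h2.le).1 h2, Groth.Misc6.AS.comb, Fintype.linearCombination_apply_single])] at e
      have e' : v ⟨m, hm⟩ = (-(m : k))⁻¹ • F (Ψ₀ (Pi.single ⟨m, hm0⟩ 1)) := by
        rw [e, ← map_smul, ← Pi.single_smul, smul_eq_mul, inv_mul_cancel₀ (neg_ne_zero.2 hmk)]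
      rw [SetLike.mem_coe, e']
      refine Submodule.smul_mem _ _ (Submodule.subset_span ⟨⟨m, hm0⟩, ?_⟩)
      simp [Pi.basisFun_apply]
  rw [hrange]
  refine ⟨Module.Finite.span_of_finite k (Set.finite_range v), ?_⟩
  rw [finrank_span_eq_card hv, Fintype.card_coe]
  -- the count
  have hp := (Fact.out (p := p.Prime)).pos
  have h0 := Groth.Misc6.AS.card_filter_dvd p hp 0 n
  have h1 := Groth.Misc6.AS.card_filter_dvd p hp (n : ℤ) n
  have hpart : T.card + ((Finset.Icc 1 n).filter (fun i : ℕ => (p : ℤ) ∣ (0 : ℤ) - (i : ℤ))).card +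
      ((Finset.Icc 1 n).filter (fun i : ℕ => (p : ℤ) ∣ (n : ℤ) - (i : ℤ))).card = n := by
    have hd : Disjoint ((Finset.Icc 1 n).filter (fun i : ℕ => (p : ℤ) ∣ (0 : ℤ) - (i : ℤ)))
        ((Finset.Icc 1 n).filter (fun i : ℕ => (p : ℤ) ∣ (n : ℤ) - (i : ℤ))) := by
      rw [Finset.disjoint_filter]
      intro i _ hi hj
      have := dvd_sub hj hi
      simp at this
      exact hpn (by exact_mod_cast this)
    have e := Finset.card_filter_add_card_filter_not (s := Finset.Icc 1 n)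
      (fun i : ℕ => (p : ℤ) ∣ (0 : ℤ) - (i : ℤ) ∨ (p : ℤ) ∣ (n : ℤ) - (i : ℤ))
    rw [Nat.card_Icc, Nat.add_sub_cancel, Finset.filter_or, Finset.card_union_of_disjoint hd] at e
    have : T = (Finset.Icc 1 n).filter
        (fun i : ℕ => ¬ ((p : ℤ) ∣ (0 : ℤ) - (i : ℤ) ∨ (p : ℤ) ∣ (n : ℤ) - (i : ℤ))) := by
      rw [hT]; ext i; simp
    rw [this]; omega
  -- arithmetic
  obtain ⟨q, r, hr, hr', hqr⟩ : ∃ q r : ℤ, 1 ≤ r ∧ r < p ∧ (n : ℤ) = p * q + r := by
    refine ⟨(n : ℤ) / p, (n : ℤ) % p, ?_, Int.emod_lt_of_pos _ (by omega), (Int.mul_ediv_add_emod _ _).symm⟩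
    have := Int.emod_nonneg (n : ℤ) (show (p : ℤ) ≠ 0 by omega)
    have hne : (n : ℤ) % p ≠ 0 := fun h => hpn (by exact_mod_cast Int.dvd_of_emod_eq_zero h)
    omega
  have a1 : ((0 : ℤ) - 1) / (p : ℤ) = -1 := by
    rw [show (0 : ℤ) - 1 = ((p : ℤ) - 1) + p * (-1) by ring, Int.add_mul_ediv_left _ _ (by omega),
      Int.ediv_eq_zero_of_lt (by omega) (by omega), zero_add]
  have a2 : ((0 : ℤ) - 1 - n) / (p : ℤ) = -q - 1 := by
    rw [show (0 : ℤ) - 1 - n = ((p : ℤ) - 1 - r) + p * (-q - 1) by linear_combination -hqr,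
      Int.add_mul_ediv_left _ _ (by omega), Int.ediv_eq_zero_of_lt (by omega) (by omega), zero_add]
  have a3 : ((n : ℤ) - 1) / (p : ℤ) = q := by
    rw [show (n : ℤ) - 1 = (r - 1) + p * q by linear_combination hqr,
      Int.add_mul_ediv_left _ _ (by omega), Int.ediv_eq_zero_of_lt (by omega) (by omega), zero_add]
  have a4 : ((n : ℤ) - 1 - n) / (p : ℤ) = -1 := by
    rw [show (n : ℤ) - 1 - n = ((p : ℤ) - 1) + p * (-1) by ring, Int.add_mul_ediv_left _ _ (by omega),
      Int.ediv_eq_zero_of_lt (by omega) (by omega), zero_add]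
  have a5 : (((n : ℤ) + 1) * ((p : ℤ) - 1)) / (p : ℤ) = (n : ℤ) - q := by
    rw [show ((n : ℤ) + 1) * ((p : ℤ) - 1) = ((p : ℤ) - r - 1) + p * ((n : ℤ) - q) by linear_combination -hqr,
      Int.add_mul_ediv_left _ _ (by omega), Int.ediv_eq_zero_of_lt (by omega) (by omega), zero_add]
  rw [a1, a2] at h0
  rw [a3, a4] at h1
  rw [a5, a3]
  omega

end Groth.Agent.S13862
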