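import Groth.Statements.S13864
import Mathlib
import Groth.Agent.Misc6.ASAuto

set_option autoImplicit false
universe u
open ASCover

namespace Groth.Agent.S13864

/-- Let k be an algebraically closed field of characteristic p > 0, n ≥ 1 an integer prime to p, u ∈
k[[t]] the power series with constant term 1 and u^n · (1 + t^n) = 1 (so σ(t) = t·u is a
k-automorphism of k((t)) of order p), and a an integer; σ acts on I = t^a·k[[t]], and transported to
B = k[[t]] along h ↦ t^a·h the action is h ↦ u^a · h(t·u). For 1 ≤ m ≤ n let c_m ∈ B be determined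
by t^m · c_m = u^(a−m) − 1; this is the cocycle value σ(t^i) − t^i ∈ I of the element t^i, i = a −
m, divided by t^a. The published lemma says that the classes of the t^i with a − n ≤ i ≤ a − 1 and p
∤ i form a basis of H^1(⟨σ⟩, I); this row states their linear independence: if Σ λ_m c_m, summed
over 1 ≤ m ≤ n with p ∤ a − m, equals u^a · h(t·u) − h for some h ∈ B, then every such λ_m is 0.
(Together with the dimension of this H^1, namely n − ⌊(a−1)/p⌋ + ⌊(a−1−n)/p⌋, this gives the basis
statement.) -/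
theorem result {k : Type u} [Field k] [IsAlgClosed k] (p : ℕ)
    [Fact p.Prime] [CharP k p] (n : ℕ) (hn : 0 < n) (hpn : ¬ p ∣ n)
    (u : PowerSeries k) (hu1 : PowerSeries.constantCoeff u = 1)
    (hun : u ^ n * (1 + PowerSeries.X ^ n) = 1) (hu : IsUnit u) (a : ℤ)
    (c : ℕ → PowerSeries k)
    (hc : ∀ m : ℕ, 1 ≤ m → m ≤ n →
      PowerSeries.X ^ m * c m = ((hu.unit ^ (a - m) : (PowerSeries k)ˣ) : PowerSeries k) - 1)
    (coef : ℕ → k) (h : PowerSeries k)
    (hh : ((hu.unit ^ a : (PowerSeries k)ˣ) : PowerSeries k) * PowerSeries.subst (PowerSeries.X * u) h - h =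
      ∑ m ∈ (Finset.Icc 1 n).filter (fun m : ℕ => ¬ (p : ℤ) ∣ a - (m : ℤ)), coef m • c m) :
    ∀ m ∈ (Finset.Icc 1 n).filter (fun m : ℕ => ¬ (p : ℤ) ∣ a - (m : ℤ)), coef m = 0 := by
  have hnk : (n : k) ≠ 0 := fun h => hpn ((CharP.cast_eq_zero_iff k p n).1 h)
  have hs := Groth.Misc6.AS.hasSubst_mul u
  classical
  obtain ⟨w, hw0, hexp⟩ := Groth.Misc6.AS.zpow_expansion n u hu1 hun hnk hn hu
  set σ := Groth.Misc6.AS.sig u
  set S := (Finset.Icc 1 n).filter (fun m : ℕ => ¬ (p : ℤ) ∣ a - (m : ℤ)) with hS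
  have hS' : ∀ m ∈ S, 1 ≤ m ∧ m ≤ n ∧ ¬ (p : ℤ) ∣ a - (m : ℤ) := fun m hm => by
    rw [hS, Finset.mem_filter, Finset.mem_Icc] at hm; exact ⟨hm.1.1, hm.1.2, hm.2⟩
  by_contra hne
  push Not at hne
  obtain ⟨m₁, hm₁, hm₁0⟩ := hne
  set F : PowerSeries k := (∑ m ∈ S, coef m • PowerSeries.X ^ (n - m)) - PowerSeries.X ^ n * h with hF
  let U : ℤ → PowerSeries k := fun z => ((hu.unit ^ z : (PowerSeries k)ˣ) : PowerSeries k)
  have hUadd : ∀ x y, U (x + y) = U x * U y := fun x y => by simp only [U, zpow_add, Units.val_mul]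
  have hUnat : ∀ x : ℕ, U x = u ^ x := fun x => by simp [U]
  have hσX : σ PowerSeries.X = PowerSeries.X * u := PowerSeries.substAlgHom_X _
  have hinv : U (a - n) * σ F = F := by
    have e1 : ∀ m ∈ S, U (a - n) * σ (coef m • PowerSeries.X ^ (n - m)) =
        coef m • PowerSeries.X ^ (n - m) + PowerSeries.X ^ n * (coef m • c m) := fun m hm => by
      obtain ⟨h1, h2, -⟩ := hS' m hm
      rw [map_smul, map_pow, hσX, mul_pow, mul_smul_comm, mul_smul_comm, ← smul_add]
      congr 1
      have e : U (a - n) * u ^ (n - m) = U (a - m) := by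
        rw [← hUnat, ← hUadd]; congr 1; omega
      have e2 : PowerSeries.X ^ (n - m) * PowerSeries.X ^ m = (PowerSeries.X ^ n : PowerSeries k) := by
        rw [← pow_add]; congr 1; omega
      have := hc m h1 h2
      change PowerSeries.X ^ m * c m = U (a - m) - 1 at this
      linear_combination PowerSeries.X ^ (n - m) * e - PowerSeries.X ^ (n - m) * this + e2 * c m
    have e3 : U (a - n) * σ (PowerSeries.X ^ n * h) =
        PowerSeries.X ^ n * (h + ∑ m ∈ S, coef m • c m) := by
      rw [map_mul, map_pow, hσX, mul_pow]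
      have e : U (a - n) * u ^ n = U a := by rw [← hUnat, ← hUadd, sub_add_cancel]
      have hh' : U a * σ h - h = ∑ m ∈ S, coef m • c m := by
        rw [← hh]; simp [U, σ, PowerSeries.coe_substAlgHom]
      linear_combination (PowerSeries.X ^ n * σ h) * e + PowerSeries.X ^ n * hh'
    rw [hF, map_sub, map_sum, mul_sub, Finset.mul_sum, Finset.sum_congr rfl e1, e3, Finset.sum_add_distrib,
      ← Finset.mul_sum]
    ring
  have hco : ∀ m ∈ S, PowerSeries.coeff (n - m) F = coef m := fun m hm => by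
    obtain ⟨h1, h2, -⟩ := hS' m hm
    rw [hF, map_sub, map_sum, PowerSeries.coeff_X_pow_mul', if_neg (by omega), sub_zero,
      Finset.sum_eq_single_of_mem m hm]
    · simp
    · intro b hb hbm
      obtain ⟨h3, h4, -⟩ := hS' b hb
      rw [map_smul, PowerSeries.coeff_X_pow, if_neg (by omega), smul_zero]
  have hex : ∃ d, PowerSeries.coeff d F ≠ 0 := ⟨n - m₁, by rw [hco m₁ hm₁]; exact hm₁0⟩
  set d := Nat.find hex with hd
  have hdle : d ≤ n - m₁ := Nat.find_min' hex (by rw [hco m₁ hm₁]; exact hm₁0)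
  have hdn : d < n := by have := (hS' m₁ hm₁).1; omega
  have hdm : n - d ∈ S := by
    by_contra hnS
    refine Nat.find_spec hex ?_
    rw [← hd, hF, map_sub, map_sum, PowerSeries.coeff_X_pow_mul', if_neg (by omega), sub_zero]
    refine Finset.sum_eq_zero fun b hb => ?_
    obtain ⟨h3, h4, -⟩ := hS' b hb
    rw [map_smul, PowerSeries.coeff_X_pow, if_neg ?_, smul_zero]
    intro e
    exact hnS (by rwa [show n - d = b by omega])
  obtain ⟨G, hG⟩ : PowerSeries.X ^ d ∣ F := PowerSeries.X_pow_dvd_iff.2 fun i hi => by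
    simpa using Nat.find_min hex hi
  have hG0 : PowerSeries.constantCoeff G ≠ 0 := by
    have := Nat.find_spec hex
    rw [← hd, hG, PowerSeries.coeff_X_pow_mul', if_pos le_rfl, Nat.sub_self] at this
    simpa using this
  have hGinv : U (a - n + d) * σ G = G := by
    refine mul_left_cancel₀ (pow_ne_zero d PowerSeries.X_ne_zero) ?_
    rw [hG, map_mul, map_pow, hσX, mul_pow] at hinv
    rw [hUadd, hUnat]
    linear_combination hinv
  obtain ⟨b, hb⟩ := Groth.Misc6.AS.pow_succ_dvd_sigma_sub n u hu1 hun hnk hn G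
  obtain ⟨e, he⟩ := hexp (a - n + d)
  have key : PowerSeries.X ^ n * (((a - n + d : ℤ) : PowerSeries k) * w * G +
      PowerSeries.X * (e * σ G + b + ((a - n + d : ℤ) : PowerSeries k) * (PowerSeries.X ^ n * w) * b)) = 0 := by
    change U (a - n + d) - _ = _ at he
    change σ G - G = _ at hb
    linear_combination hGinv - σ G * he - (1 + ((a - n + d : ℤ) : PowerSeries k) * (PowerSeries.X ^ n * w)) * hb
  have h0 := congrArg PowerSeries.constantCoeff ((mul_eq_zero.1 key).resolve_left (pow_ne_zero n PowerSeries.X_ne_zero))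
  simp only [map_add, map_mul, map_intCast, PowerSeries.constantCoeff_X, zero_mul, add_zero, map_zero,
    mul_eq_zero, hw0, hG0, or_false] at h0
  rw [CharP.intCast_eq_zero_iff k p] at h0
  refine (hS' _ hdm).2.2 ?_
  convert h0 using 1
  omega

end Groth.Agent.S13864
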