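import Groth.Statements.S13874
import Groth.Agent.Cycles.PolLawResidue
import Groth.Agent.PropsBasic.UnivHomeo
-- import your own Groth.Agent.* helpers here

set_option autoImplicit false
universe u
open scoped TensorProduct
open AlgebraicGeometry
open ZeroCyc

namespace Groth.Agent.S13874

/-- Affine form. Let A be a commutative ring, B an A-algebra and d ≥ 1; let (C, γ) be the degree-d
divided power algebra Γ^d_A(B) with its universal multiplicative law γ : B → C of degree d (every
multiplicative law of degree d out of B factors uniquely through γ), and let φ : Γ^d_A(B) →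
TS^d_A(B) be the canonical homomorphism to the symmetric tensors, taken as data characterised by:
after any base change S, φ ∘ γ sends Σ_j s_j ⊗ b_j to Σ_{c : [d] → [n]} (∏_i s_{c(i)}) ⊗ (b_{c(1)} ⊗
⋯ ⊗ b_{c(d)}), i.e. φ corresponds to the law x ↦ x ⊗ ⋯ ⊗ x. Then the morphism Spec TS^d_A(B) → Spec
Γ^d_A(B) induced by φ (the comparison map from the d-th symmetric product of Spec B over Spec A to
the scheme of degree-d divided powers) is a universal homeomorphism inducing an isomorphism on every
residue field. (The published statement is for a separated algebraic space X over an algebraic space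
S; this row is its content for X = Spec B over S = Spec A. The second assertion of the published
statement, that the map is an isomorphism when B is flat over A or A contains the rationals, is not
part of this row.) -/
theorem result {A B C : Type u} [CommRing A] [CommRing B] [Algebra A B] [CommRing C] [Algebra A C] (d : ℕ) (hd : 0 < d)
    (γ : PolLaw.MulLaw A B C d) (hγ : PolLaw.IsGammaD γ) (φ : C →ₐ[A] SymTen.TS A B d)
    (hφ : ∀ (S : Type u) [CommSemiring S] [Algebra A S] (n : ℕ) (s : Fin n → S) (b : Fin n → B),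
      ((SymTen.TS A B d).val.comp φ).toLinearMap.lTensor S (γ.law.toFun' S (∑ j, s j ⊗ₜ[A] b j)) =
        ∑ c : Fin d → Fin n, (∏ i, s (c i)) ⊗ₜ[A] PiTensorProduct.tprod A (fun i => b (c i))) :
    FlatMor.IsUnivHomeo (Spec.map (CommRingCat.ofHom φ.toRingHom)) ∧
      ∀ x : ↥(Spec (CommRingCat.of (SymTen.TS A B d))),
        Function.Surjective ((Spec.map (CommRingCat.ofHom φ.toRingHom)).residueFieldMap x).hom := by
  have hRT : Groth.PropsBasic.UH.RT φ.toRingHom := fun q hq y => by
    haveI := hq
    exact Groth.Cycles.Sym.exists_frac_mem γ φ hφ q y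
  refine ⟨(Groth.PropsBasic.UH.spec_isUnivHomeo_iff _).mpr ⟨?_, ?_, ?_⟩,
    (Groth.PropsBasic.UH.rt_iff_residueFieldMap_surjective _).mpr hRT⟩
  · intro y
    obtain ⟨c, hc⟩ : ∃ c, φ c = y ^ d.factorial := ⟨_, Groth.Cycles.Sym.phi_pow_eq γ φ hφ y⟩
    refine ⟨Polynomial.X ^ d.factorial - Polynomial.C c,
      Polynomial.monic_X_pow_sub_C _ (Nat.factorial_ne_zero d), ?_⟩
    simp [hc]
  · intro K _ g₁ g₂ e
    have hker : RingHom.ker g₁ = RingHom.ker g₂ := by
      ext y
      obtain ⟨c, hc⟩ : ∃ c, φ c = y ^ d.factorial := ⟨_, Groth.Cycles.Sym.phi_pow_eq γ φ hφ y⟩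
      have h1 : g₁ (φ c) = g₂ (φ c) := RingHom.congr_fun e c
      rw [hc, map_pow, map_pow] at h1
      rw [RingHom.mem_ker, RingHom.mem_ker, ← pow_eq_zero_iff (Nat.factorial_ne_zero d), h1,
        pow_eq_zero_iff (Nat.factorial_ne_zero d)]
    ext y
    obtain ⟨c, s, hs, hm⟩ := hRT (RingHom.ker g₁) (RingHom.ker_isPrime g₁) y
    have hm₂ := hm
    rw [hker] at hm₂
    simp only [RingHom.mem_ker, map_sub, map_mul, sub_eq_zero] at hs hm hm₂
    have hs2 : g₁ (φ.toRingHom s) = g₂ (φ.toRingHom s) := RingHom.congr_fun e s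
    have hc2 : g₁ (φ.toRingHom c) = g₂ (φ.toRingHom c) := RingHom.congr_fun e c
    rw [← hs2, ← hc2, ← hm] at hm₂
    exact (mul_left_cancel₀ hs hm₂).symm
  · refine Groth.PropsBasic.UH.comap_surjective_of_isIntegral ?_ fun x hx => ⟨d.factorial, ?_⟩
    · intro y
      obtain ⟨c, hc⟩ : ∃ c, φ c = y ^ d.factorial := ⟨_, Groth.Cycles.Sym.phi_pow_eq γ φ hφ y⟩
      refine ⟨Polynomial.X ^ d.factorial - Polynomial.C c,
        Polynomial.monic_X_pow_sub_C _ (Nat.factorial_ne_zero d), ?_⟩
      simp [hc]
    · rw [← Groth.Cycles.Sym.pow_eq_bigLaw γ φ hφ hγ x, show φ x = 0 from hx]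
      exact Groth.Cycles.Sym.bigLaw_ground_zero γ

end Groth.Agent.S13874
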