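import Groth.Statements.S13877
import Mathlib
import Groth.Agent.Misc6.QuadOrder
-- import your own Groth.Agent.* helpers here

set_option autoImplicit false
universe u v
open Crimp Matrix

namespace Groth.Agent.S13877

/-- Over R = k⟦t⟧ with k an algebraically closed field of characteristic zero, let S' be a commutative
R-algebra with an R-basis of size d whose discriminant generates the ideal (t ^ a) (a finite cover
of the formal disk of degree d, unramified over the punctured disk, with branch divisor (t ^ a)),
and let S be an R-subalgebra of S' with an R-basis of size d whose discriminant generates (t ^ b) (a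
crimp with branch divisor (t ^ b)). Then t ^ b annihilates S' / S and twice the R-length of S' / S
plus a equals b. (The published statement is for a family of such subalgebras over a k-scheme T and
also asserts T-flatness of the quotient; this row is its restriction to T a point.) -/
theorem result {k : Type u} [Field k] [IsAlgClosed k] [CharZero k]
    {St : Type v} [CommRing St] [Algebra (PowerSeries k) St] (d a b : ℕ)
    (bt : Module.Basis (Fin d) (PowerSeries k) St)
    (ha : Ideal.span {Algebra.discr (PowerSeries k) ⇑bt} = Ideal.span {(PowerSeries.X : PowerSeries k) ^ a})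
    (S : Subalgebra (PowerSeries k) St) (bS : Module.Basis (Fin d) (PowerSeries k) S)
    (hb : Ideal.span {Algebra.discr (PowerSeries k) ⇑bS} = Ideal.span {(PowerSeries.X : PowerSeries k) ^ b}) :
    (∀ q : St ⧸ Subalgebra.toSubmodule S, ((PowerSeries.X : PowerSeries k) ^ b) • q = 0) ∧
    2 * Module.length (PowerSeries k) (St ⧸ Subalgebra.toSubmodule S) + (a : ℕ∞) = (b : ℕ∞) := by
  obtain ⟨bM, bN, e, h⟩ := Groth.Misc6.disk_smith bt (N := Subalgebra.toSubmodule S) bS
  let bN' : Module.Basis (Fin d) (PowerSeries k) S := bN
  have hN : ∀ i, ((bN' i : S) : St) = (PowerSeries.X : PowerSeries k) ^ e i • bM i := h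
  have htr : ∀ x : S, Algebra.trace (PowerSeries k) S x = Algebra.trace (PowerSeries k) St (x : St) := by
    intro x
    rw [Algebra.trace_eq_matrix_trace bN', Algebra.trace_eq_matrix_trace bM]
    refine Finset.sum_congr rfl fun i _ => ?_
    simp only [Matrix.diag_apply, Algebra.leftMulMatrix_eq_repr_mul]
    have hx := congrArg (fun w : S => bM.repr (w : St) i) (bN'.sum_repr (x * bN' i))
    simp only [AddSubmonoidClass.coe_finsetSum, Subalgebra.coe_smul, hN, smul_smul, bM.repr_sum_self,
      Subalgebra.coe_mul, mul_smul_comm, map_smul, Finsupp.smul_apply, smul_eq_mul] at hx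
    rw [mul_comm] at hx
    exact mul_left_cancel₀ (pow_ne_zero _ PowerSeries.X_ne_zero) hx
  have hunit : ∀ {M : Type v} [CommRing M] [Algebra (PowerSeries k) M] (b₁ b₂ : Module.Basis (Fin d) (PowerSeries k) M),
      Ideal.span {Algebra.discr (PowerSeries k) ⇑b₁} = Ideal.span {Algebra.discr (PowerSeries k) ⇑b₂} := by
    intro M _ _ b₁ b₂
    rw [Ideal.span_singleton_eq_span_singleton,
      show (⇑b₁ : Fin d → M) = ⇑b₂ ᵥ* (b₂.toMatrix b₁).map (algebraMap (PowerSeries k) M) from (b₂.toMatrix_map_vecMul _).symm,
      Algebra.discr_of_matrix_vecMul]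
    refine associated_unit_mul_left _ _ (IsUnit.pow 2 (IsUnit.of_mul_eq_one (b₁.toMatrix b₂).det ?_))
    rw [← Matrix.det_mul, b₂.toMatrix_mul_toMatrix_flip, Matrix.det_one]
  have hdis : Algebra.discr (PowerSeries k) ⇑bN' = ((PowerSeries.X : PowerSeries k) ^ (∑ i, e i)) ^ 2 * Algebra.discr (PowerSeries k) ⇑bM := by
    have h1 : Algebra.discr (PowerSeries k) ⇑bN' = Algebra.discr (PowerSeries k) (fun i => ((bN' i : S) : St)) := by
      rw [Algebra.discr_def, Algebra.discr_def]
      congr 1
      ext i j
      simp only [Algebra.traceMatrix_apply, Algebra.traceForm_apply, htr, Subalgebra.coe_mul]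
    rw [h1, show (fun i => ((bN' i : S) : St)) = ⇑bM ᵥ* (Matrix.diagonal fun i => (PowerSeries.X : PowerSeries k) ^ e i).map (algebraMap (PowerSeries k) St) by
        funext i
        rw [Matrix.diagonal_map (map_zero _), Matrix.vecMul_diagonal, hN, Algebra.smul_def, mul_comm],
      Algebra.discr_of_matrix_vecMul, Matrix.det_diagonal, Finset.prod_pow_eq_pow_sum]
  have hab : b = 2 * (∑ i, e i) + a := by
    apply Groth.Misc6.disk_span_inj (k := k)
    rw [← hb, hunit bS bN', hdis, pow_add, ← pow_mul, mul_comm (∑ i, e i) 2]
    rw [← Ideal.span_singleton_mul_span_singleton, ← Ideal.span_singleton_mul_span_singleton, hunit bM bt, ha]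
  refine ⟨fun q => ?_, ?_⟩
  · obtain ⟨m, rfl⟩ := Submodule.mkQ_surjective _ q
    rw [← map_smul]
    exact (Submodule.Quotient.mk_eq_zero _).2 (Groth.Misc6.disk_kill bM bN e h
      (fun i => le_trans (Finset.single_le_sum (fun j _ => Nat.zero_le (e j)) (Finset.mem_univ i)) (by omega)) m)
  · rw [Groth.Misc6.disk_length bM bN e h, hab]
    push_cast
    ring

end Groth.Agent.S13877
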