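import Groth.Statements.S13878
import Mathlib
import Groth.Agent.Misc6.QuadOrder
-- import your own Groth.Agent.* helpers here

set_option autoImplicit false
universe u
open Crimp

namespace Groth.Agent.S13878

/-- coordinates on `R ^ 3 / R · 1` -/
def proj (R : Type*) [CommRing R] : (Fin 3 → R) →ₗ[R] (Fin 2 → R) where
  toFun x := ![x 1 - x 0, x 2 - x 0]
  map_add' x y := by
    funext i; fin_cases i <;> simp <;> ring
  map_smul' c x := by
    funext i; fin_cases i <;> simp <;> ring

theorem projFacts (R : Type*) [CommRing R] :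
    LinearMap.ker (proj R) = Submodule.span R {(1 : Fin 3 → R)} ∧
    (∀ x : Fin 2 → R, proj R ![0, x 0, x 1] = x) ∧ Function.Surjective (proj R) := by
  have hdec : ∀ x : Fin 2 → R, proj R ![0, x 0, x 1] = x := by
    intro x; funext i; fin_cases i <;> simp [proj]
  refine ⟨?_, hdec, fun x => ⟨_, hdec x⟩⟩
  ext x
  rw [LinearMap.mem_ker, Submodule.mem_span_singleton]
  constructor
  · intro h
    have h0 := congrFun h 0
    have h1 := congrFun h 1
    simp [proj, sub_eq_zero] at h0 h1
    refine ⟨x 0, ?_⟩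
    funext i; fin_cases i <;> simp [h0, h1]
  · rintro ⟨a, rfl⟩
    funext i; fin_cases i <;> simp [proj]

/-- Over R = k⟦t⟧ with k an algebraically closed field of characteristic zero, let S' = R × R × R (the
unramified triple cover of the formal disk) and let S be an R-submodule of S' containing 1 such that
S' / S is isomorphic to R / (t ^ m) ⊕ R / (t ^ n) with m ≤ n. Then t ^ n S' is contained in S, and
there is f in S', not lying in R·1 + t S', such that S = R·1 + R·(t ^ m f) + t ^ n S'. -/
theorem result {k : Type u} [Field k] [IsAlgClosed k] [CharZero k] (m n : ℕ) (hmn : m ≤ n)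
    (S : Submodule (PowerSeries k) (Fin 3 → PowerSeries k))
    (h1 : (1 : (Fin 3 → PowerSeries k)) ∈ S)
    (e : ((Fin 3 → PowerSeries k) ⧸ S) ≃ₗ[PowerSeries k]
      ((PowerSeries k ⧸ Ideal.span {(PowerSeries.X : PowerSeries k) ^ m}) × (PowerSeries k ⧸ Ideal.span {(PowerSeries.X : PowerSeries k) ^ n}))) :
    Ideal.span {(PowerSeries.X : PowerSeries k) ^ n} • (⊤ : Submodule (PowerSeries k) (Fin 3 → PowerSeries k)) ≤ S ∧
    ∃ f : (Fin 3 → PowerSeries k),
      f ∉ Submodule.span (PowerSeries k) {(1 : (Fin 3 → PowerSeries k))} ⊔ Ideal.span {(PowerSeries.X : PowerSeries k)} • (⊤ : Submodule (PowerSeries k) (Fin 3 → PowerSeries k)) ∧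
      S = Submodule.span (PowerSeries k) {(1 : (Fin 3 → PowerSeries k)), ((PowerSeries.X : PowerSeries k) ^ m) • f} ⊔
        Ideal.span {(PowerSeries.X : PowerSeries k) ^ n} • (⊤ : Submodule (PowerSeries k) (Fin 3 → PowerSeries k)) := by
  obtain ⟨hker, hdec, hsurj⟩ := projFacts (PowerSeries k)
  have hS : S = (S.map (proj (PowerSeries k))).comap (proj (PowerSeries k)) := by
    rw [Submodule.comap_map_eq, left_eq_sup, hker]
    simpa using h1
  set N := S.map (proj (PowerSeries k)) with hN
  let E : ((Fin 2 → PowerSeries k) ⧸ N) ≃ₗ[PowerSeries k]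
      ((PowerSeries k ⧸ Ideal.span {(PowerSeries.X : PowerSeries k) ^ m}) × (PowerSeries k ⧸ Ideal.span {(PowerSeries.X : PowerSeries k) ^ n})) :=
    ((Submodule.quotEquivOfEq _ _ (show LinearMap.ker (N.mkQ ∘ₗ proj (PowerSeries k)) = S by
        rw [LinearMap.ker_comp, Submodule.ker_mkQ]; exact hS.symm)).symm.trans
      ((N.mkQ ∘ₗ proj (PowerSeries k)).quotKerEquivOfSurjective ((N.mkQ_surjective).comp hsurj))).symm.trans e
  have hkill : ∀ w : Fin 2 → PowerSeries k, (PowerSeries.X : PowerSeries k) ^ n • w ∈ N := by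
    intro w
    rw [← Submodule.Quotient.mk_eq_zero, Submodule.Quotient.mk_smul]
    apply E.injective
    rw [map_smul, map_zero]
    ext : 1
    all_goals
      simp only [Prod.smul_fst, Prod.smul_snd, Prod.fst_zero, Prod.snd_zero]
    · obtain ⟨c, hc⟩ := Submodule.mkQ_surjective _ (E (Submodule.Quotient.mk w)).1
      rw [← hc, ← map_smul]
      exact (Submodule.Quotient.mk_eq_zero _).2 (Ideal.mem_span_singleton.2 ((pow_dvd_pow _ hmn).mul_right _))
    · obtain ⟨c, hc⟩ := Submodule.mkQ_surjective _ (E (Submodule.Quotient.mk w)).2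
      rw [← hc, ← map_smul]
      exact (Submodule.Quotient.mk_eq_zero _).2 (Ideal.mem_span_singleton.2 (dvd_mul_right _ _))
  have bN : Nonempty (Module.Basis (Fin 2) (PowerSeries k) N) := by
    obtain ⟨r, bb⟩ := N.basisOfPid (Pi.basisFun (PowerSeries k) (Fin 2))
    have hr : r = 2 := by
      have h1 := Module.finrank_eq_card_basis bb
      let φ : (Fin 2 → PowerSeries k) →ₗ[PowerSeries k] N :=
        LinearMap.codRestrict N ((PowerSeries.X : PowerSeries k) ^ n • LinearMap.id) (fun w => hkill w)
      have hφ : Function.Injective φ := fun x y h => by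
        have := congrArg Subtype.val h
        exact smul_right_injective (Fin 2 → PowerSeries k) (pow_ne_zero n (PowerSeries.X_ne_zero (R := k))) this
      have h2 := LinearMap.finrank_le_finrank_of_injective hφ
      have h3 := Submodule.finrank_le N
      rw [Module.finrank_fin_fun] at h2 h3
      simp at h1
      omega
    subst hr
    exact ⟨bb⟩
  obtain ⟨bN⟩ := bN
  obtain ⟨bM, bN, ee, he⟩ := Groth.Misc6.disk_smith (Pi.basisFun (PowerSeries k) (Fin 2)) bN
  obtain ⟨i0, i1, hne, hle⟩ : ∃ i0 i1 : Fin 2, i0 ≠ i1 ∧ ee i0 ≤ ee i1 := by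
    rcases le_total (ee 0) (ee 1) with h | h
    · exact ⟨0, 1, by decide, h⟩
    · exact ⟨1, 0, by decide, h⟩
  have huniv : ∀ i : Fin 2, i = i0 ∨ i = i1 := by
    intro i; omega
  have hpair : (i0 = 0 ∧ i1 = 1) ∨ (i0 = 1 ∧ i1 = 0) := by omega
  have hle1 : ∀ i, ee i ≤ ee i1 := fun i => by rcases huniv i with rfl | rfl <;> omega
  have hsum : m + n = ee i0 + ee i1 := by
    have h := E.length_eq
    rw [Groth.Misc6.disk_length bM bN ee he, Module.length_prod, Groth.Misc6.disk_length_quot, Groth.Misc6.disk_length_quot] at h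
    have : ∑ i, ee i = ee i0 + ee i1 := by
      rw [Fin.sum_univ_two]
      rcases hpair with ⟨rfl, rfl⟩ | ⟨rfl, rfl⟩
      · rfl
      · exact add_comm _ _
    rw [this] at h
    exact_mod_cast h.symm
  have hn : ee i1 = n := by
    refine le_antisymm ?_ ?_
    · have := (Groth.Misc6.disk_mem_iff bM bN ee he _).1 (hkill (bM i1)) i1
      simpa [Groth.Misc6.disk_pow_dvd_pow] using this
    · have h0 : E (Submodule.Quotient.mk (p := N) 0) = 0 := by simp
      obtain ⟨w, hw⟩ := E.surjective (0, 1)
      obtain ⟨w, rfl⟩ := Submodule.mkQ_surjective _ w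
      have hz : (PowerSeries.X : PowerSeries k) ^ ee i1 • (Submodule.mkQ N w) = 0 := by
        rw [← map_smul]; exact (Submodule.Quotient.mk_eq_zero _).2 (Groth.Misc6.disk_kill bM bN ee he hle1 w)
      have := congrArg E hz
      rw [map_smul, hw, map_zero] at this
      have h2 := congrArg Prod.snd this
      have h3 : (PowerSeries.X : PowerSeries k) ^ ee i1 * 1 ∈ Ideal.span {(PowerSeries.X : PowerSeries k) ^ n} :=
        (Submodule.Quotient.mk_eq_zero _).1 h2
      rw [mul_one, Ideal.mem_span_singleton] at h3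
      exact Groth.Misc6.disk_pow_dvd_pow.1 h3
  have hm : ee i0 = m := by omega
  obtain ⟨f, hf⟩ := hsurj (bM i0)
  have hXn : Ideal.span {(PowerSeries.X : PowerSeries k) ^ n} • (⊤ : Submodule (PowerSeries k) (Fin 3 → PowerSeries k)) ≤ S := by
    rw [Submodule.ideal_span_singleton_smul, hS]
    intro x hx
    obtain ⟨z, -, rfl⟩ := (Submodule.mem_smul_pointwise_iff_exists _ _ _).1 hx
    rw [Submodule.mem_comap, map_smul]
    exact hkill _
  refine ⟨hXn, f, fun hf' => ?_, le_antisymm ?_ (sup_le ?_ hXn)⟩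
  · rw [Submodule.ideal_span_singleton_smul] at hf'
    obtain ⟨u, hu, v, hv, hfuv⟩ := Submodule.mem_sup.1 hf'
    obtain ⟨z, -, rfl⟩ := (Submodule.mem_smul_pointwise_iff_exists _ _ _).1 hv
    have hu0 : proj (PowerSeries k) u = 0 := LinearMap.mem_ker.1 (hker ▸ hu)
    have := congrArg (fun w => bM.repr (proj (PowerSeries k) w) i0) hfuv
    simp [map_add, hu0, hf] at this
    exact PowerSeries.X_irreducible.not_isUnit (IsUnit.of_mul_eq_one _ this)
  · intro x hx
    have hx' : proj (PowerSeries k) x ∈ N := by rwa [hS] at hx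
    have hd := (Groth.Misc6.disk_mem_iff bM bN ee he _).1 hx'
    obtain ⟨c0, hc0⟩ := hd i0
    obtain ⟨c1, hc1⟩ := hd i1
    obtain ⟨g, hg⟩ := hsurj (bM i1)
    rw [hm] at hc0
    rw [hn] at hc1
    have hmem : x - c0 • ((PowerSeries.X : PowerSeries k) ^ m • f) - (PowerSeries.X : PowerSeries k) ^ n • (c1 • g) ∈
        Submodule.span (PowerSeries k) {(1 : Fin 3 → PowerSeries k)} := by
      rw [← hker, LinearMap.mem_ker, map_sub, map_sub, map_smul, map_smul, map_smul, map_smul, hf, hg]
      rw [smul_smul, smul_smul, mul_comm c0, ← hc0, ← hc1, sub_sub, sub_eq_zero]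
      conv_lhs => rw [← bM.sum_repr (proj (PowerSeries k) x)]
      rw [Fin.sum_univ_two]
      rcases hpair with ⟨rfl, rfl⟩ | ⟨rfl, rfl⟩
      · rfl
      · exact add_comm _ _
    rw [← sub_add_cancel x (c0 • ((PowerSeries.X : PowerSeries k) ^ m • f) + (PowerSeries.X : PowerSeries k) ^ n • (c1 • g))]
    rw [← sub_sub]
    refine add_mem (Submodule.mem_sup_left (Submodule.span_mono (by simp) hmem)) (add_mem (Submodule.mem_sup_left ?_) (Submodule.mem_sup_right ?_))
    · exact Submodule.smul_mem _ _ (Submodule.subset_span (by simp))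
    · rw [Submodule.ideal_span_singleton_smul]
      exact Submodule.smul_mem_pointwise_smul _ _ _ trivial
  · rw [Submodule.span_le]
    rintro x (rfl | rfl)
    · exact h1
    · rw [SetLike.mem_coe, hS, Submodule.mem_comap, map_smul, hf, Groth.Misc6.disk_mem_iff bM bN ee he]
      intro i
      rw [map_smul, Finsupp.smul_apply, smul_eq_mul]
      rcases huniv i with rfl | rfl
      · rw [hm]; exact dvd_mul_right _ _
      · simp [Ne.symm hne]

end Groth.Agent.S13878
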