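import Groth.Statements.S13879
-- import your own Groth.Agent.* helpers here

set_option autoImplicit false
universe u
open Crimp

namespace Groth.Agent.S13879

/-- Over (PowerSeries k) = k⟦t⟧ with k an algebraically closed field of characteristic zero, let S' = (PowerSeries k) × (PowerSeries k) × (PowerSeries k) and
let S be the R-submodule R·1 + R·(t ^ m f) + t ^ n S' of S' for some f in S' and natural numbers m,
n. Then S is closed under multiplication (equivalently, is an R-subalgebra of S') if and only if t ^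
(2m) f ^ 2 lies in S. (The published statement has m ≤ n and S' / S isomorphic to (PowerSeries k) / (t ^ m) ⊕ (PowerSeries k) /
(t ^ n), under which S has this shape; this row states the criterion for every submodule of this
shape.) -/
theorem result {k : Type u} [Field k] [IsAlgClosed k] [CharZero k] (m n : ℕ) (f : (Fin 3 → PowerSeries k))
    (S : Submodule (PowerSeries k) (Fin 3 → PowerSeries k))
    (hS : S = Submodule.span (PowerSeries k) {(1 : (Fin 3 → PowerSeries k)), ((PowerSeries.X : PowerSeries k) ^ m) • f} ⊔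
        Ideal.span {(PowerSeries.X : PowerSeries k) ^ n} • (⊤ : Submodule (PowerSeries k) (Fin 3 → PowerSeries k))) :
    (∀ x ∈ S, ∀ y ∈ S, x * y ∈ S) ↔ ((PowerSeries.X : PowerSeries k) ^ (2 * m)) • (f * f) ∈ S := by
  subst hS
  generalize ht : (PowerSeries.X : PowerSeries k) ^ m = t
  generalize hN : Ideal.span {(PowerSeries.X : PowerSeries k) ^ n} • (⊤ : Submodule (PowerSeries k) (Fin 3 → PowerSeries k)) = N
  have hNid : ∀ x ∈ N, ∀ y, x * y ∈ N := by
    intro x hx y
    rw [← hN, Submodule.ideal_span_singleton_smul] at hx ⊢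
    obtain ⟨z, -, rfl⟩ := Submodule.mem_smul_pointwise_iff_exists _ _ _ |>.1 hx
    exact Submodule.mem_smul_pointwise_iff_exists _ _ _ |>.2 ⟨z * y, trivial, (smul_mul_assoc _ _ _).symm⟩
  constructor
  · intro h
    have hm' : t • f ∈ Submodule.span (PowerSeries k) {(1 : Fin 3 → (PowerSeries k)), t • f} ⊔ N :=
      Submodule.mem_sup_left (Submodule.subset_span (by simp))
    have := h _ hm' _ hm'
    rwa [smul_mul_smul_comm, show t * t = (PowerSeries.X : PowerSeries k) ^ (2 * m) by rw [← ht, ← pow_add, two_mul]] at this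
  · intro h x hx y hy
    obtain ⟨a, ha, c, hc, rfl⟩ := Submodule.mem_sup.1 hx
    obtain ⟨b, hb, d, hd, rfl⟩ := Submodule.mem_sup.1 hy
    obtain ⟨a1, a2, rfl⟩ := Submodule.mem_span_pair.1 ha
    obtain ⟨b1, b2, rfl⟩ := Submodule.mem_span_pair.1 hb
    rw [mul_add]
    refine add_mem ?_ (Submodule.mem_sup_right (mul_comm d _ ▸ hNid d hd _))
    rw [add_mul]
    refine add_mem ?_ (Submodule.mem_sup_right (hNid c hc _))
    have hpar : (a1 • (1 : Fin 3 → (PowerSeries k)) + a2 • (t • f)) * (b1 • (1 : Fin 3 → (PowerSeries k)) + b2 • (t • f)) =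
        (a1 * b1) • (1 : Fin 3 → (PowerSeries k)) + (a1 * b2 + a2 * b1) • (t • f) + (a2 * b2) • ((PowerSeries.X : (PowerSeries k)) ^ (2 * m) • (f * f)) := by
      funext i
      simp [← ht, two_mul, pow_add]
      ring
    rw [hpar]
    refine add_mem (Submodule.mem_sup_left (Submodule.mem_span_pair.2 ⟨_, _, rfl⟩)) ?_
    exact Submodule.smul_mem _ _ h

end Groth.Agent.S13879
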