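import Groth.Statements.S13880
import Mathlib
import Groth.Agent.Misc6.QuadOrder
-- import your own Groth.Agent.* helpers here

set_option autoImplicit false
universe u
open Crimp

namespace Groth.Agent.S13880

/-- Over R = k⟦t⟧ with k an algebraically closed field of characteristic zero, let S' = R × R, the
trivial double cover of the formal disk (branch divisor (t ^ 0)). An R-subalgebra S of S' admits an
R-basis of size 2 whose discriminant generates (t ^ b), that is, S is a crimp with branch divisor (t
^ b), if and only if b = 2n for some n and S = R·1 + t ^ n S'. So there is exactly one such crimp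
when b is even and none when b is odd; moreover the subalgebra R·1 + t ^ n S' is isomorphic as an
R-algebra to R[y] / (y ^ 2 - t ^ (2n)) (existence of an isomorphism; y ↦ (t ^ n, -t ^ n)). (The
published statement also gives the space of crimps its reduced one-point scheme structure; this row
classifies its k-points.) -/
theorem result {k : Type u} [Field k] [IsAlgClosed k] [CharZero k] (b : ℕ) (S : Subalgebra (PowerSeries k) (Fin 2 → PowerSeries k)) :
    ((∃ bS : Module.Basis (Fin 2) (PowerSeries k) S,
      Ideal.span {Algebra.discr (PowerSeries k) ⇑bS} = Ideal.span {(PowerSeries.X : PowerSeries k) ^ b}) ↔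
    ∃ n : ℕ, b = 2 * n ∧
      Subalgebra.toSubmodule S = Submodule.span (PowerSeries k) {(1 : (Fin 2 → PowerSeries k))} ⊔
        Ideal.span {(PowerSeries.X : PowerSeries k) ^ n} • (⊤ : Submodule (PowerSeries k) (Fin 2 → PowerSeries k))) ∧
    (∀ n : ℕ, Subalgebra.toSubmodule S = Submodule.span (PowerSeries k) {(1 : (Fin 2 → PowerSeries k))} ⊔
        Ideal.span {(PowerSeries.X : PowerSeries k) ^ n} • (⊤ : Submodule (PowerSeries k) (Fin 2 → PowerSeries k)) →
      Nonempty (S ≃ₐ[PowerSeries k] AdjoinRoot (Polynomial.X ^ 2 - Polynomial.C ((PowerSeries.X : PowerSeries k) ^ (2 * n))))) := by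
  have h2 : (2 : k) ≠ 0 := two_ne_zero
  have h2u : IsUnit (2 : PowerSeries k) := PowerSeries.isUnit_iff_constantCoeff.2 (by rw [map_ofNat]; exact h2.isUnit)
  have hl : LinearIndependent (PowerSeries k) (![1, ![1, -1]] : Fin 2 → Fin 2 → PowerSeries k) := by
    rw [Fintype.linearIndependent_iff]
    intro g hg
    rw [Fin.sum_univ_two] at hg
    have e0 := congrFun hg 0
    have e1 := congrFun hg 1
    simp at e0 e1
    have g0 : g 0 = 0 := by
      apply h2u.mul_right_eq_zero.1
      linear_combination e0 + e1
    have g1 : g 1 = 0 := by simpa [g0] using e0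
    intro i; fin_cases i <;> assumption
  have hs : ⊤ ≤ Submodule.span (PowerSeries k) (Set.range (![1, ![1, -1]] : Fin 2 → Fin 2 → PowerSeries k)) := by
    rintro v -
    rw [Submodule.mem_span_range_iff_exists_fun]
    obtain ⟨w, hw⟩ := h2u
    refine ⟨![↑w⁻¹ * (v 0 + v 1), ↑w⁻¹ * (v 0 - v 1)], ?_⟩
    have : (↑w⁻¹ : PowerSeries k) * 2 = 1 := by rw [← hw, Units.inv_mul]
    funext i
    fin_cases i <;> simp [Fin.sum_univ_two]
    · linear_combination (v 0) * this
    · linear_combination (v 1) * this
  let B := Module.Basis.mk hl hs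
  have hb0 : B 0 = 1 := by simp [B]
  have hz : B 1 * B 1 = algebraMap (PowerSeries k) (Fin 2 → PowerSeries k) (PowerSeries.X ^ 0) := by
    funext i; fin_cases i <;> simp [B]
  have h := Groth.Misc6.quad_classify (S := S) B h2 hb0 0 hz b
  simpa using h

end Groth.Agent.S13880
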