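import Groth.Statements.S13882
import Mathlib
-- import your own Groth.Agent.* helpers here

set_option autoImplicit false
universe u
open FinCov

namespace Groth.Agent.S13882

/-- Over a field K of characteristic zero, the functor that sends a K-scheme S to the set of isomorphism
classes of pairs (A, τ) of an O_S-algebra A and an O_S-module isomorphism τ from A to the free
module of rank d, equivalently to the set of commutative unital algebra structures on the rank-d
free module with its standard basis, is represented by an affine K-scheme of finite type. Stated on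
affine K-schemes in one universe: there is a finitely generated commutative K-algebra B with
bijections between K-algebra maps B → A and based algebra structures of rank d over A, natural in
the commutative K-algebra A. -/
theorem result (K : Type u) [Field K] [CharZero K] (d : ℕ) :
    ∃ (B : Type u) (_ : CommRing B) (_ : Algebra K B) (_ : Algebra.FiniteType K B)
      (η : ∀ (A : Type u) [CommRing A] [Algebra K A], (B →ₐ[K] A) ≃ W4c1hurwitzcpt.BasedAlg d A),
      ∀ (A A' : Type u) [CommRing A] [Algebra K A] [CommRing A'] [Algebra K A']
        (f : A →ₐ[K] A') (g : B →ₐ[K] A),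
        η A' (f.comp g) = (η A g).map f.toRingHom := by
  let ι := (Fin d × Fin d × Fin d) ⊕ Fin d
  let c : Fin d → Fin d → Fin d → MvPolynomial ι K := fun i j l => MvPolynomial.X (Sum.inl (i, j, l))
  let u : Fin d → MvPolynomial ι K := fun i => MvPolynomial.X (Sum.inr i)
  let rel : Ideal (MvPolynomial ι K) := Ideal.span
    ((Set.range fun q : Fin d × Fin d × Fin d => c q.1 q.2.1 q.2.2 - c q.2.1 q.1 q.2.2) ∪
     (Set.range fun q : Fin d × Fin d × Fin d × Fin d =>
        (∑ l, c q.1 q.2.1 l * c l q.2.2.1 q.2.2.2) - ∑ l, c q.2.1 q.2.2.1 l * c q.1 l q.2.2.2) ∪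
     (Set.range fun q : Fin d × Fin d => (∑ i, u i * c i q.1 q.2) - if q.1 = q.2 then 1 else 0))
  have univ : ∀ (A : Type u) [CommRing A] [Algebra K A] (v : ι → A),
      rel ≤ RingHom.ker (MvPolynomial.aeval (R := K) v).toRingHom ↔
      (∀ i j l, v (.inl (i, j, l)) = v (.inl (j, i, l))) ∧
      (∀ i j l m, (∑ q, v (.inl (i, j, q)) * v (.inl (q, l, m))) = ∑ q, v (.inl (j, l, q)) * v (.inl (i, q, m))) ∧
      (∀ j m, (∑ i, v (.inr i) * v (.inl (i, j, m))) = if j = m then 1 else 0) := by
    intro A _ _ v
    simp only [rel, Ideal.span_le, Set.union_subset_iff, Set.range_subset_iff, SetLike.mem_coe, RingHom.mem_ker,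
      AlgHom.toRingHom_eq_coe, RingHom.coe_coe, map_sub, sub_eq_zero, map_sum, map_mul, c, u, MvPolynomial.aeval_X,
      Prod.forall, and_assoc]
    refine and_congr_right fun _ => and_congr_right fun _ => forall₂_congr fun j m => ?_
    split_ifs <;> simp
  let η : ∀ (A : Type u) [CommRing A] [Algebra K A], ((MvPolynomial ι K ⧸ rel) →ₐ[K] A) ≃ W4c1hurwitzcpt.BasedAlg d A := fun A _ _ =>
    { toFun := fun φ => { c := fun i j l => φ (Ideal.Quotient.mk rel (c i j l))
                          u := fun i => φ (Ideal.Quotient.mk rel (u i))
                          comm := ((univ A _).1 ?h).1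
                          assoc := ((univ A (fun x => φ (Ideal.Quotient.mk rel (MvPolynomial.X x)))).1 ?h).2.1
                          unit := ((univ A (fun x => φ (Ideal.Quotient.mk rel (MvPolynomial.X x)))).1 ?h).2.2 }
      invFun := fun s => Ideal.Quotient.liftₐ rel
        (MvPolynomial.aeval (Sum.elim (fun q => s.c q.1 q.2.1 q.2.2) s.u))
        (fun a ha => (univ A _).2 ⟨s.comm, s.assoc, s.unit⟩ ha)
      left_inv := fun φ => by
        refine Ideal.Quotient.algHom_ext _ (MvPolynomial.algHom_ext fun x => ?_)
        rcases x with x | x <;> simp [c, u] <;> erw [Ideal.Quotient.lift_mk] <;> simp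
      right_inv := fun s => by ext <;> simp [c, u] <;> erw [Ideal.Quotient.lift_mk] <;> simp }
  case h =>
    have : MvPolynomial.aeval (R := K) (fun x => φ (Ideal.Quotient.mk rel (MvPolynomial.X x))) = φ.comp (Ideal.Quotient.mkₐ K rel) := by
      apply MvPolynomial.algHom_ext; simp
    intro a ha
    simp [this, Ideal.Quotient.eq_zero_iff_mem.2 ha]
  exact ⟨_, inferInstance, inferInstance, inferInstance, @η, fun A A' _ _ _ _ f g => rfl⟩

end Groth.Agent.S13882
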