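import Groth.Statements.S13884
import Mathlib
import Groth.Agent.Misc6.QuadOrder
-- import your own Groth.Agent.* helpers here

set_option autoImplicit false
universe u
open Crimp

namespace Groth.Agent.S13884

/-- Over R = k⟦t⟧ with k an algebraically closed field of characteristic zero, let S' = k⟦x⟧ regarded as
an R-algebra through t ↦ x ^ 3, that is S' = R[x] / (x ^ 3 - t), the smooth totally ramified triple
cover of the formal disk. If M is an R-submodule of S' which is free of rank 3, then M has an
R-basis consisting of three power series whose x-adic valuations are pairwise distinct modulo 3.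
(Items (2) and (3) of the published proposition, on the base change of M to R[s] / (s ^ 3 - t), are
not restated.) -/
theorem result {k : Type u} [Field k] [IsAlgClosed k] [CharZero k]
    (M : Submodule (PowerSeries k) (W4c1hurwitzcpt.RootDisk 3 k))
    (bM : Module.Basis (Fin 3) (PowerSeries k) M) :
    ∃ g : Module.Basis (Fin 3) (PowerSeries k) M, ∀ i j : Fin 3, i ≠ j →
      ¬ Nat.ModEq 3 (PowerSeries.order (W4c1hurwitzcpt.RootDisk.val (((g i : M) : (W4c1hurwitzcpt.RootDisk 3 k)) : W4c1hurwitzcpt.RootDisk 3 k))).toNat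
        (PowerSeries.order (W4c1hurwitzcpt.RootDisk.val (((g j : M) : (W4c1hurwitzcpt.RootDisk 3 k)) : W4c1hurwitzcpt.RootDisk 3 k))).toNat := by
  obtain ⟨b⟩ := Groth.Misc6.rootDisk_basis (k := k) (p := 3)
  obtain ⟨bM', bN, e, h⟩ := Groth.Misc6.disk_smith b bM
  have hfg : M.FG := Module.Finite.iff_fg.1 (Module.Finite.of_basis bM)
  obtain ⟨g, hg, hspan⟩ := Groth.Misc6.rootDisk_generators M hfg
    ⟨_, Groth.Misc6.disk_kill bM' bN e h (E := ∑ i, e i) (fun i => Finset.single_le_sum (fun j _ => Nat.zero_le (e j)) (Finset.mem_univ i))⟩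
  let w : Fin 3 → M := fun i => ⟨g i, hspan ▸ Submodule.subset_span ⟨i, rfl⟩⟩
  have hw : ⊤ ≤ Submodule.span (PowerSeries k) (Set.range w) := by
    rintro ⟨x, hx⟩ -
    rw [← hspan, Submodule.mem_span_range_iff_exists_fun] at hx
    obtain ⟨c, hc⟩ := hx
    rw [Submodule.mem_span_range_iff_exists_fun]
    exact ⟨c, Subtype.ext (by simpa [w] using hc)⟩
  refine ⟨Module.Basis.mk (Groth.Misc6.indep_of_span bM w hw) hw, fun i j hij hmod => hij ?_⟩
  obtain ⟨oi, hi, hi'⟩ := hg i
  obtain ⟨oj, hj, hj'⟩ := hg j
  simp only [Module.Basis.mk_apply, w, hi, hj, ENat.toNat_natCast] at hmod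
  exact Fin.ext (by rw [← hi', ← hj']; exact hmod)

end Groth.Agent.S13884
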