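import Groth.Statements.S13885
import Mathlib
import Groth.Agent.Misc6.QuadOrder
-- import your own Groth.Agent.* helpers here

set_option autoImplicit false
universe u
open Crimp

namespace Groth.Agent.S13885

/-- Over R = k⟦t⟧ with k an algebraically closed field of characteristic zero, let S' = k⟦x⟧ × R, where
k⟦x⟧ is regarded as an R-algebra through t ↦ x ^ 2, that is S' = R[x] / (x ^ 2 - t) ⊕ R, the smooth
simply ramified triple cover of the formal disk, with R embedded diagonally. If M is an R-submodule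
of S' containing 1 which is free of rank 3, then M is spanned by 1, (f₁, 0) and (f₂, 0) for some
power series f₁, f₂ whose x-adic valuations are distinct modulo 2. (Items (2) and (3) of the
published proposition, on the base change of M to R[s] / (s ^ 2 - t), are not restated.) -/
theorem result {k : Type u} [Field k] [IsAlgClosed k] [CharZero k]
    (M : Submodule (PowerSeries k) (W4c1hurwitzcpt.RootDisk 2 k × PowerSeries k))
    (h1 : (1 : (W4c1hurwitzcpt.RootDisk 2 k × PowerSeries k)) ∈ M)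
    (bM : Module.Basis (Fin 3) (PowerSeries k) M) :
    ∃ f₁ f₂ : W4c1hurwitzcpt.RootDisk 2 k,
      ¬ Nat.ModEq 2 (PowerSeries.order (W4c1hurwitzcpt.RootDisk.val (f₁ : W4c1hurwitzcpt.RootDisk 2 k))).toNat (PowerSeries.order (W4c1hurwitzcpt.RootDisk.val (f₂ : W4c1hurwitzcpt.RootDisk 2 k))).toNat ∧
      M = Submodule.span (PowerSeries k) {(1 : (W4c1hurwitzcpt.RootDisk 2 k × PowerSeries k)), (f₁, 0), (f₂, 0)} := by
  obtain ⟨b⟩ := Groth.Misc6.rootDisk_basis (k := k) (p := 2)
  let bP : Module.Basis (Fin 3) (PowerSeries k) (W4c1hurwitzcpt.RootDisk 2 k × PowerSeries k) :=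
    (b.prod (Module.Basis.singleton (Fin 1) (PowerSeries k))).reindex finSumFinEquiv
  obtain ⟨bM', bN, e, h⟩ := Groth.Misc6.disk_smith bP bM
  let π : (W4c1hurwitzcpt.RootDisk 2 k × PowerSeries k) →ₗ[PowerSeries k] W4c1hurwitzcpt.RootDisk 2 k :=
    LinearMap.fst _ _ _ - (Algebra.linearMap (PowerSeries k) (W4c1hurwitzcpt.RootDisk 2 k)) ∘ₗ LinearMap.snd _ _ _
  have hdec : ∀ x : W4c1hurwitzcpt.RootDisk 2 k × PowerSeries k, x = x.2 • (1 : W4c1hurwitzcpt.RootDisk 2 k × PowerSeries k) + (π x, 0) := by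
    rintro ⟨f, r⟩
    refine Prod.ext ?_ ?_
    · simp [π, Algebra.smul_def]
    · simp
  have hfg : (M.map π).FG := (Module.Finite.iff_fg.1 (Module.Finite.of_basis bM)).map π
  have hfull : ∀ s, (PowerSeries.X : PowerSeries k) ^ (∑ i, e i) • s ∈ M.map π := fun s =>
    ⟨_, Groth.Misc6.disk_kill bM' bN e h (fun i => Finset.single_le_sum (fun j _ => Nat.zero_le (e j)) (Finset.mem_univ i)) (s, 0), by simp [π]⟩
  obtain ⟨g, hg, hspan⟩ := Groth.Misc6.rootDisk_generators (M.map π) hfg ⟨_, hfull⟩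
  refine ⟨g 0, g 1, fun hmod => ?_, le_antisymm (fun x hx => ?_) ?_⟩
  · obtain ⟨o, ho, ho'⟩ := hg 0
    obtain ⟨o1, ho1, ho1'⟩ := hg 1
    rw [ho, ho1, ENat.toNat_natCast, ENat.toNat_natCast] at hmod
    unfold Nat.ModEq at hmod
    simp [ho', ho1'] at hmod
  · have hπ : π x ∈ M.map π := Submodule.mem_map_of_mem hx
    rw [← hspan, Submodule.mem_span_range_iff_exists_fun] at hπ
    obtain ⟨c, hc⟩ := hπ
    rw [hdec x, ← hc, Fin.sum_univ_two]
    have : ((c 0 • g 0 + c 1 • g 1, 0) : W4c1hurwitzcpt.RootDisk 2 k × PowerSeries k) = c 0 • (g 0, 0) + c 1 • (g 1, 0) := by simp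
    rw [this]
    exact add_mem (Submodule.smul_mem _ _ (Submodule.subset_span (by simp)))
      (add_mem (Submodule.smul_mem _ _ (Submodule.subset_span (by simp))) (Submodule.smul_mem _ _ (Submodule.subset_span (by simp))))
  · have hgM : ∀ i, ((g i, 0) : W4c1hurwitzcpt.RootDisk 2 k × PowerSeries k) ∈ M := by
      intro i
      obtain ⟨y, hy, hyg⟩ : g i ∈ M.map π := hspan ▸ Submodule.subset_span ⟨i, rfl⟩
      have : ((g i, 0) : W4c1hurwitzcpt.RootDisk 2 k × PowerSeries k) = y - y.2 • 1 := by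
        rw [← hyg]; exact eq_sub_of_add_eq' (hdec y).symm
      rw [this]
      exact M.sub_mem hy (M.smul_mem _ h1)
    rw [Submodule.span_le]
    rintro x (rfl | rfl | rfl)
    exacts [h1, hgM 0, hgM 1]

end Groth.Agent.S13885
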