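import Groth.Statements.S13886
import Mathlib
import Groth.Agent.S13878
import Groth.Agent.S13879
import Groth.Agent.Misc6.QuadOrder
-- import your own Groth.Agent.* helpers here

set_option autoImplicit false
universe u
open Crimp

namespace Groth.Agent.S13886

/-- Over R = k⟦t⟧ with k an algebraically closed field of characteristic zero, let S' = R × R × R be the
unramified triple cover of the formal disk and let m ≤ n ≤ 2m be natural numbers. For every f in S'
not lying in R·1 + t S', the R-submodule S = R·1 + R·(t ^ m f) + t ^ n S' is closed under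
multiplication, hence an R-subalgebra (a crimp), and S' / S is isomorphic to R / (t ^ m) ⊕ R / (t ^
n) (so the crimp has μ-invariant n - m and branch divisor (t ^ (2(m+n)))). Together with the
structure result for submodules with this quotient, this identifies the k-points of the space of
crimps of splitting type (m, n), 2m ≥ n, with the submodules of this shape. (The published statement
moreover asserts that this stratum is an irreducible variety of dimension n - m; that part is not
restated.) -/
theorem result {k : Type u} [Field k] [IsAlgClosed k] [CharZero k]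
    (m n : ℕ) (hmn : m ≤ n) (hn : n ≤ 2 * m)
    (f : (Fin 3 → PowerSeries k)) (hf : f ∉ Submodule.span (PowerSeries k) {(1 : (Fin 3 → PowerSeries k))} ⊔ Ideal.span {(PowerSeries.X : PowerSeries k)} • (⊤ : Submodule (PowerSeries k) (Fin 3 → PowerSeries k)))
    (S : Submodule (PowerSeries k) (Fin 3 → PowerSeries k))
    (hS : S = Submodule.span (PowerSeries k) {(1 : (Fin 3 → PowerSeries k)), ((PowerSeries.X : PowerSeries k) ^ m) • f} ⊔
        Ideal.span {(PowerSeries.X : PowerSeries k) ^ n} • (⊤ : Submodule (PowerSeries k) (Fin 3 → PowerSeries k))) :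
    (∀ x ∈ S, ∀ y ∈ S, x * y ∈ S) ∧
    Nonempty (((Fin 3 → PowerSeries k) ⧸ S) ≃ₗ[PowerSeries k]
      ((PowerSeries k ⧸ Ideal.span {(PowerSeries.X : PowerSeries k) ^ m}) × (PowerSeries k ⧸ Ideal.span {(PowerSeries.X : PowerSeries k) ^ n}))) := by
  obtain ⟨hker, hdec, hsurj⟩ := Groth.Agent.S13878.projFacts (PowerSeries k)
  refine ⟨(Groth.Agent.S13879.result m n f S hS).2 ?_, ?_⟩
  · rw [hS, Submodule.ideal_span_singleton_smul]
    refine Submodule.mem_sup_right ((Submodule.mem_smul_pointwise_iff_exists _ _ _).2 ⟨(PowerSeries.X : PowerSeries k) ^ (2 * m - n) • (f * f), trivial, ?_⟩)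
    rw [smul_smul, ← pow_add, Nat.add_sub_cancel' hn]
  set P := Groth.Agent.S13878.proj (PowerSeries k) with hP
  obtain ⟨T, hTf, hTs⟩ : ∃ T : (Fin 2 → PowerSeries k) →ₗ[PowerSeries k] (Fin 2 → PowerSeries k),
      T (P f) = ![1, 0] ∧ Function.Bijective T := by
    have hu : IsUnit (P f 0) ∨ IsUnit (P f 1) := by
      by_contra h
      rw [not_or, PowerSeries.isUnit_iff_constantCoeff, PowerSeries.isUnit_iff_constantCoeff, isUnit_iff_ne_zero, isUnit_iff_ne_zero, not_not, not_not] at h
      obtain ⟨a, ha⟩ := PowerSeries.X_dvd_iff.2 h.1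
      obtain ⟨b, hb⟩ := PowerSeries.X_dvd_iff.2 h.2
      apply hf
      rw [← sub_add_cancel f ((PowerSeries.X : PowerSeries k) • ![0, a, b]), Submodule.ideal_span_singleton_smul]
      refine add_mem (Submodule.mem_sup_left ?_) (Submodule.mem_sup_right (Submodule.smul_mem_pointwise_smul _ _ _ trivial))
      rw [← hker, LinearMap.mem_ker, map_sub, map_smul]
      have : P ![0, a, b] = ![a, b] := by simpa using hdec ![a, b]
      rw [this]
      funext i; fin_cases i <;> simp [ha, hb]
    rcases hu with ⟨w, hw⟩ | ⟨w, hw⟩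
    · refine ⟨LinearMap.pi ![(↑w⁻¹ : PowerSeries k) • LinearMap.proj 0,
          LinearMap.proj 1 - (↑w⁻¹ * P f 1) • LinearMap.proj 0], ?_, ?_⟩
      · funext i; fin_cases i <;> simp [← hw, mul_comm, mul_left_comm]
      · refine ⟨fun y z h => ?_, fun y => ⟨![↑w * y 0, y 1 + P f 1 * y 0], ?_⟩⟩
        · have h0 := congrFun h 0
          have h1 := congrFun h 1
          simp at h0 h1
          funext i; fin_cases i
          · exact h0
          · simpa [h0] using h1
        · funext i
          fin_cases i <;> simp
          linear_combination (-(P f 1 * y 0)) * w.inv_mul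
    · refine ⟨LinearMap.pi ![(↑w⁻¹ : PowerSeries k) • LinearMap.proj 1,
          LinearMap.proj 0 - (↑w⁻¹ * P f 0) • LinearMap.proj 1], ?_, ?_⟩
      · funext i; fin_cases i <;> simp [← hw, mul_comm, mul_left_comm]
      · refine ⟨fun y z h => ?_, fun y => ⟨![y 1 + P f 0 * y 0, ↑w * y 0], ?_⟩⟩
        · have h0 := congrFun h 0
          have h1 := congrFun h 1
          simp at h0 h1
          funext i; fin_cases i
          · simpa [h0] using h1
          · exact h0
        · funext i
          fin_cases i <;> simp
          linear_combination (-(P f 0 * y 0)) * w.inv_mul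
  let φ : (Fin 3 → PowerSeries k) →ₗ[PowerSeries k]
      ((PowerSeries k ⧸ Ideal.span {(PowerSeries.X : PowerSeries k) ^ m}) × (PowerSeries k ⧸ Ideal.span {(PowerSeries.X : PowerSeries k) ^ n})) :=
    ((Submodule.mkQ _ ∘ₗ LinearMap.proj 0).prod (Submodule.mkQ _ ∘ₗ LinearMap.proj 1)) ∘ₗ T ∘ₗ P
  have hφ : Function.Surjective φ := by
    rintro ⟨p, q⟩
    obtain ⟨a, rfl⟩ := Submodule.mkQ_surjective _ p
    obtain ⟨b, rfl⟩ := Submodule.mkQ_surjective _ q
    obtain ⟨z, hz⟩ := hTs.2 ![a, b]
    obtain ⟨x, rfl⟩ := hsurj z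
    exact ⟨x, by simp [φ, hz]⟩
  have hk : LinearMap.ker φ = S := by
    rw [hS]
    apply le_antisymm
    · intro x hx
      have e := LinearMap.mem_ker.1 hx
      have e0 := (Submodule.Quotient.mk_eq_zero _).1 (congrArg Prod.fst e)
      have e1 := (Submodule.Quotient.mk_eq_zero _).1 (congrArg Prod.snd e)
      obtain ⟨a, ha⟩ := Ideal.mem_span_singleton.1 e0
      obtain ⟨b, hb⟩ := Ideal.mem_span_singleton.1 e1
      simp at ha hb
      obtain ⟨z, hz⟩ := hTs.2 ![0, 1]
      obtain ⟨g, rfl⟩ := hsurj z
      have hmem : x - a • ((PowerSeries.X : PowerSeries k) ^ m • f) - (PowerSeries.X : PowerSeries k) ^ n • (b • g) ∈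
          Submodule.span (PowerSeries k) {(1 : Fin 3 → PowerSeries k)} := by
        rw [← hker, LinearMap.mem_ker]
        apply hTs.1
        simp only [map_sub, map_smul, map_zero, hTf, hz]
        funext i; fin_cases i <;> simp [Matrix.vecHead, Matrix.vecTail, ha, hb, mul_comm, mul_left_comm]
      rw [← sub_add_cancel x (a • ((PowerSeries.X : PowerSeries k) ^ m • f) + (PowerSeries.X : PowerSeries k) ^ n • (b • g)), ← sub_sub]
      refine add_mem (Submodule.mem_sup_left (Submodule.span_mono (by simp) hmem)) (add_mem (Submodule.mem_sup_left ?_) (Submodule.mem_sup_right ?_))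
      · exact Submodule.smul_mem _ _ (Submodule.subset_span (by simp))
      · rw [Submodule.ideal_span_singleton_smul]
        exact Submodule.smul_mem_pointwise_smul _ _ _ trivial
    · refine sup_le ?_ ?_
      · rw [Submodule.span_le]
        rintro x (rfl | rfl)
        · have h0 : P 1 = 0 := LinearMap.mem_ker.1 (hker ▸ Submodule.mem_span_singleton_self (1 : Fin 3 → PowerSeries k))
          simp [φ, h0]
        · simp [φ, hTf, Submodule.Quotient.mk_eq_zero, Ideal.mem_span_singleton]
          exact (Submodule.Quotient.mk_eq_zero _).2 (Ideal.mul_mem_right _ _ (Ideal.mem_span_singleton_self _))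
      · rw [Submodule.ideal_span_singleton_smul]
        intro x hx
        obtain ⟨z, -, rfl⟩ := (Submodule.mem_smul_pointwise_iff_exists _ _ _).1 hx
        rw [LinearMap.mem_ker, map_smul]
        obtain ⟨a, ha⟩ := Submodule.mkQ_surjective _ (φ z).1
        obtain ⟨b, hb⟩ := Submodule.mkQ_surjective _ (φ z).2
        refine Prod.ext ?_ ?_
        · rw [Prod.smul_fst, ← ha, ← map_smul]
          exact (Submodule.Quotient.mk_eq_zero _).2 (Ideal.mem_span_singleton.2 ((pow_dvd_pow _ hmn).mul_right _))
        · rw [Prod.smul_snd, ← hb, ← map_smul]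
          exact (Submodule.Quotient.mk_eq_zero _).2 (Ideal.mem_span_singleton.2 (dvd_mul_right _ _))
  exact ⟨(Submodule.quotEquivOfEq _ _ hk.symm).trans (φ.quotKerEquivOfSurjective hφ)⟩

end Groth.Agent.S13886
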