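import Groth.Statements.S1389

set_option autoImplicit false
universe u
open FlatMor

namespace Groth.Agent.S1389

open AlgebraicGeometry CategoryTheory Limits in
/-- Let (U, u) and (U', u') be étale neighbourhoods of a point s of S and h₁, h₂ two S-morphisms U → U'
sending u to u' which induce the same map of residue fields κ(u') → κ(u). Then there is an étale
neighbourhood (U'', u'') of s with an S-morphism h : U'' → U sending u'' to u and with h followed by
h₁ equal to h followed by h₂. -/
theorem result {S U U' : Scheme.{u}} (s : S) (g : U ⟶ S) (g' : U' ⟶ S) [Etale g] [Etale g'] (u : U) (u' : U')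
    (hu : g u = s) (hu' : g' u' = s) (h₁ h₂ : U ⟶ U') (w₁ : h₁ ≫ g' = g) (w₂ : h₂ ≫ g' = g) (e₁ : h₁ u = u') (e₂ : h₂ u = u')
    (hres : (U'.residueFieldCongr e₁).inv ≫ h₁.residueFieldMap u = (U'.residueFieldCongr e₂).inv ≫ h₂.residueFieldMap u) :
    ∃ (U'' : Scheme.{u}) (g'' : U'' ⟶ S) (u'' : U'') (h : U'' ⟶ U), Etale g'' ∧ g'' u'' = s ∧ h ≫ g = g'' ∧ h u'' = u ∧ h ≫ h₁ = h ≫ h₂ := by
  have h12 : h₁ ≫ g' = h₂ ≫ g' := by rw [w₁, w₂]
  let l : U ⟶ pullback g' g' := pullback.lift h₁ h₂ h12
  have : IsOpenImmersion (pullback.diagonal g') := inferInstance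
  let a : Spec (U.residueField u) ⟶ U' :=
    Spec.map ((U'.residueFieldCongr e₁).inv ≫ h₁.residueFieldMap u) ≫ U'.fromSpecResidueField u'
  have ha₁ : U.fromSpecResidueField u ≫ h₁ = a := by
    simp [a, ← Scheme.Hom.SpecMap_residueFieldMap_fromSpecResidueField, Scheme.residueFieldCongr_inv,
      Scheme.residueFieldCongr_fromSpecResidueField]
  have ha₂ : U.fromSpecResidueField u ≫ h₂ = a := by
    simp only [a, hres]
    simp [← Scheme.Hom.SpecMap_residueFieldMap_fromSpecResidueField, Scheme.residueFieldCongr_inv,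
      Scheme.residueFieldCongr_fromSpecResidueField]
  have hc : U.fromSpecResidueField u ≫ l = a ≫ pullback.diagonal g' := by
    apply pullback.hom_ext
    · simp only [Category.assoc, l, pullback.lift_fst, pullback.diagonal_fst, Category.comp_id, ha₁]
    · simp only [Category.assoc, l, pullback.lift_snd, pullback.diagonal_snd, Category.comp_id, ha₂]
  let V : U.Opens := l ⁻¹ᵁ (pullback.diagonal g').opensRange
  have hu'' : u ∈ V := by
    refine ⟨a (IsLocalRing.closedPoint (U.residueField u)), ?_⟩
    exact (congr(($hc : Spec (U.residueField u) ⟶ pullback g' g') (IsLocalRing.closedPoint (U.residueField u))) |>.symm.trans (congrArg l (Scheme.fromSpecResidueField_apply u _)))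
  refine ⟨V, V.ι ≫ g, ⟨u, hu''⟩, V.ι, inferInstance, ?_, rfl, rfl, ?_⟩
  · show (V.ι ≫ g) _ = s
    exact hu
  · have hr : Set.range (V.ι ≫ l) ⊆ Set.range (pullback.diagonal g') := by
      rintro _ ⟨v, rfl⟩
      exact v.2
    have e := IsOpenImmersion.lift_fac _ _ hr
    have e1 := congr($e ≫ pullback.fst g' g')
    have e2 := congr($e ≫ pullback.snd g' g')
    simp only [Category.assoc, l, pullback.lift_fst, pullback.lift_snd, pullback.diagonal_fst,
      pullback.diagonal_snd, Category.comp_id] at e1 e2
    rw [← e1, ← e2]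

end Groth.Agent.S1389
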