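import Groth.Statements.S13890
import Groth.Agent.DTenCalc.EvalPC
import Mathlib.Algebra.Homology.DerivedCategory.TStructure
import Mathlib.Algebra.Category.ModuleCat.Injective
import Mathlib.Algebra.Category.ModuleCat.Projective

set_option autoImplicit false
universe u
open CategoryTheory CategoryTheory.Limits MonoidalCategory
attribute [local instance] HasDerivedCategory.standard
open DTen

namespace Groth.Agent.S13890

open Groth.DTenCalc Groth.DTenCalc.InternalHom Groth.DTenCalc.EvalPC
set_option backward.isDefEq.respectTransparency false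

/-- For a commutative ring `A` (assuming the derived tensor product on `D(A)` with its triple version
exists, that its symmetry, unit and associativity maps are isomorphisms, and that every `- ⊗^L L`
has a right adjoint `RHom(L, -)`) and objects `K`, `L`, `M` of `D(A)` with `K` pseudo-coherent, `L`
in `D^+(A)` and `M` of finite injective dimension, the canonical evaluation morphism `RHom(L, M) ⊗^L
K ⟶ RHom(RHom(K, L), M)` is an isomorphism. -/
theorem result (A : Type u) [CommRing A] [DTen.HasLTen A] [DTen.HasLTen₃ A]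
    [DTen.IsSymMonoidal A] [DTen.HasRHom A]
    (K L M : Dual.D A) (hK : DRing.IsPseudoCoherent' A K) (n : ℤ) (hL : DerivedCategory.IsGE L n)
    (hM : DRing.HasFiniteInjDim A M) :
    IsIso (DTen.evalHom K L M) := by
  obtain ⟨E, b, hEb, hEf, ⟨eK⟩⟩ := hK
  obtain ⟨a, c, I, hIv, hIi, ⟨eM⟩⟩ := hM
  obtain ⟨Y, _, ⟨eL'⟩⟩ := DerivedCategory.exists_iso_Q_obj_of_isGE L n
  let eL : DerivedCategory.Q.obj Y ≅ L := eL'.symm
  have hE : E.IsKProjective := by
    have : CochainComplex.IsStrictlyLE E b :=
      (CochainComplex.isStrictlyLE_iff E b).2 fun i hi => hEb i hi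
    have : ∀ i, Projective (E.X i) := fun i =>
      have := (hEf i).2
      (IsProjective.iff_projective (R := A) (E.X i)).1 inferInstance
    exact CochainComplex.isKProjective_of_projective E b
  have hI : I.IsKInjective := by
    have : CochainComplex.IsStrictlyGE I a :=
      (CochainComplex.isStrictlyGE_iff I a).2 fun i hi => hIv i (Or.inl hi)
    have : ∀ i, Injective (I.X i) := fun i =>
      (Module.injective_iff_injective_object A (I.X i)).1 (hIi i)
    exact CochainComplex.isKInjective_of_injective I a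
  let H1 := DRing.homCx Y I
  let H2 := DRing.homCx E Y
  let H3 := DRing.homCx H2 I
  let R1 := (RHomR A L).obj M
  let R2 := (RHomR A K).obj L
  let ρ1 := toRHom eL eM
  let ρ2 := toRHom eK eL
  have h1 : IsIso ρ1 := isIso_toRHom eL eM (Or.inr hI)
  have h2 : IsIso ρ2 := isIso_toRHom eK eL (Or.inl hE)
  let ρ3 := toRHom (asIso ρ2) eM
  have h3 : IsIso ρ3 := isIso_toRHom (asIso ρ2) eM (Or.inr hI)
  have hψ : IsIso (psi E Y I) := isIso_psi (n := n) (b := b) (a := a) (c := c) hEb
    (fun j => ⟨(hEf j).1, have := (hEf j).2; inferInstance⟩)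
    (fun i hi => CochainComplex.isZero_of_isStrictlyGE Y n i hi) hIv
  have hcmp : IsIso (cmp H1 E) :=
    isIso_cmp_right H1 (Groth.DAlg.isKFlatCx_of_isKProjective E)
  let α := (LTen₂ A).map (Prod.mkHom ρ1 eK.hom)
  have hα : IsIso α := by
    have e : α = wr ρ1 _ ≫ wl _ eK.hom := by
      rw [← Functor.map_comp, prod_comp]
      simp [α]
    rw [e]
    infer_instance
  suffices key : α ≫ evalHom K L M = cmp H1 E ≫ DerivedCategory.Q.map (psi E Y I) ≫ ρ3 by
    have : IsIso (α ≫ evalHom K L M) := by rw [key]; infer_instance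
    exact IsIso.of_isIso_comp_left α _
  apply ((rhomAdj A R2).homEquiv _ _).symm.injective
  simp only [Adjunction.homEquiv_counit]
  change wr (α ≫ evalHom K L M) R2 ≫ ev R2 M =
    wr (cmp H1 E ≫ DerivedCategory.Q.map (psi E Y I) ≫ ρ3) R2 ≫ ev R2 M
  rw [← cancel_epi (wl (ten (DerivedCategory.Q.obj H1) (DerivedCategory.Q.obj E)) ρ2)]
  -- right hand side
  have hR : wl (ten (DerivedCategory.Q.obj H1) (DerivedCategory.Q.obj E)) ρ2 ≫
      wr (cmp H1 E ≫ DerivedCategory.Q.map (psi E Y I) ≫ ρ3) R2 ≫ ev R2 M =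
      wr (cmp H1 E) (DerivedCategory.Q.obj H2) ≫ cmp (H1 ⊗ E) H2 ≫
        DerivedCategory.Q.map (aux E Y I) ≫ eM.hom := by
    rw [← reassoc_of% (exchange (cmp H1 E ≫ DerivedCategory.Q.map (psi E Y I) ≫ ρ3) ρ2),
      wr_comp_assoc', wr_comp_assoc']
    have h := map_toRHom_ev (asIso ρ2) eM
    rw [show (LTen₂ A).map (Prod.mkHom ρ3 (asIso ρ2).hom) = wr ρ3 _ ≫ wl _ ρ2 by
      rw [← Functor.map_comp, prod_comp]; simp [ρ3], Category.assoc] at h
    erw [h]
    rw [reassoc_of% (wr_evQ (psi E Y I)), psi_ev]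
  -- left hand side
  have hL : wl (ten (DerivedCategory.Q.obj H1) (DerivedCategory.Q.obj E)) ρ2 ≫
      wr (α ≫ evalHom K L M) R2 ≫ ev R2 M =
      (associator (DerivedCategory.Q.obj H1) (DerivedCategory.Q.obj E) (DerivedCategory.Q.obj H2)).hom ≫
        wl (DerivedCategory.Q.obj H1) (cmp E H2) ≫ cmp H1 (E ⊗ H2) ≫
        DerivedCategory.Q.map (H1 ◁ ((braidCx E H2).hom ≫ evC E Y) ≫ evC Y I) ≫ eM.hom := by
    rw [wr_comp_assoc', evalHom_fac, evalHomAux]
    rw [← reassoc_of% (exchange α ρ2), ← Functor.map_comp_assoc, prod_comp]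
    simp only [Category.id_comp, Category.comp_id]
    erw [reassoc_of% (associator_naturality' ρ1 eK.hom ρ2)]
    congr 1
    erw [← Functor.map_comp_assoc, prod_comp]
    simp only [Category.comp_id]
    have h := map_toRHom_ev eK eL
    have hs : (LTen₂ A).map (Prod.mkHom eK.hom ρ2) ≫ (symm A).app (R2, K) ≫ ev K L =
        cmp E H2 ≫ DerivedCategory.Q.map ((braidCx E H2).hom ≫ evC E Y) ≫ eL.hom := by
      have hn := (symm A).naturality (Prod.mkHom ρ2 eK.hom)
      simp only [Functor.comp_map] at hn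
      change (LTen₂ A).map (Prod.mkHom eK.hom ρ2) ≫ _ = _ at hn
      erw [reassoc_of% hn]
      erw [h]
      rw [evQ, Category.assoc]
      erw [reassoc_of% (symm_cmp H2 E)]
      rw [← Functor.map_comp_assoc]
    erw [hs]
    rw [← Category.assoc (cmp E H2)]
    have hsplit : (LTen₂ A).map (Prod.mkHom ρ1
          ((cmp E H2 ≫ DerivedCategory.Q.map ((braidCx E H2).hom ≫ evC E Y)) ≫ eL.hom)) =
        wl (DerivedCategory.Q.obj H1) (cmp E H2 ≫ DerivedCategory.Q.map ((braidCx E H2).hom ≫ evC E Y)) ≫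
          (LTen₂ A).map (Prod.mkHom ρ1 eL.hom) := by
      rw [← Functor.map_comp, prod_comp]
      simp
    erw [hsplit]
    rw [Category.assoc, wl_comp_assoc', map_toRHom_ev eL eM, evQ, Category.assoc,
      reassoc_of% (wl_cmp H1 ((braidCx E H2).hom ≫ evC E Y)), ← Functor.map_comp_assoc]
  rw [hR, hL, aux]
  simp only [Functor.map_comp, Category.assoc]
  erw [← reassoc_of% (assoc_cmp H1 E H2)]


end Groth.Agent.S13890
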