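import Groth.Statements.S13896
import Groth.Agent.DTenCalc.Surjective

set_option autoImplicit false
universe u
open CategoryTheory CategoryTheory.Limits MonoidalCategory
attribute [local instance] HasDerivedCategory.standard
open scoped TensorProduct
open DTen

namespace Groth.Agent.S13896

/-- Let `R → A` be a surjective map of commutative rings whose kernel `I` is an invertible `R`-module,
and let `N` be an inverse of the invertible `A`-module `A ⊗_R I` (an `A`-module with `(A ⊗_R I) ⊗_A
N ≅ A`). Then the right adjoint `RHom(A, -) : D(R) ⥤ D(A)` of restriction is isomorphic, as a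
functor, to `K ↦ K ⊗^L_R N[-1]` (mixed derived tensor product with the module `N` placed in degree
`1`). Existence of an isomorphism of functors only. (Existence of the right adjoint and of the mixed
derived tensor product is assumed as hypotheses.) -/
theorem result (R A : Type u)
    [CommRing R] [CommRing A] [Algebra R A] (hφ : Function.Surjective (algebraMap R A))
    [Module.Invertible R (RingHom.ker (algebraMap R A))]
    (N : Type u) [AddCommGroup N] [Module A N]
    (e : (A ⊗[R] (RingHom.ker (algebraMap R A))) ⊗[A] N ≃ₗ[A] A)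
    [DTen.HasRHomRel (algebraMap R A)] [DTen.HasLTenMix (algebraMap R A)] :
    Nonempty (DTen.RHomRel (algebraMap R A) ≅
      (Functor.curry.obj (DTen.LTenMix (algebraMap R A))).flip.obj ((Dual.inD A N)⟦(-1 : ℤ)⟧)) := by
  have := Groth.DTenCalc.hasLTen (A := R)
  have := Groth.DTenCalc.hasLTen (A := A)
  have := Groth.DTenCalc.hasLTen₃ (A := R)
  have := Groth.DTenCalc.hasLTen₃ (A := A)
  have := Groth.DTenCalc.isSymMonoidal (A := R)
  have := Groth.DTenCalc.isSymMonoidal (A := A)
  have := Groth.DTenCalc.hasLBase (algebraMap R A)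
  have := Groth.DTenCalc.hasResTen (algebraMap R A)
  have := Groth.DTenCalc.resLegIso (algebraMap R A)
  obtain ⟨eN⟩ := Groth.DTenCalc.nonempty_resP_iso (R := R) (A := A) hφ
  have hA : DRing.IsPerfect R (Groth.DTenCalc.algD (algebraMap R A)) :=
    ⟨Groth.DTenCalc.resP R A, -1, 0,
      fun i hi => Groth.DTenCalc.resP_isZero i (by omega) (by omega),
      fun i => Groth.DTenCalc.resP_proj i, ⟨eN⟩⟩
  obtain ⟨e₁⟩ := Groth.DTenCalc.nonempty_RHomRel_iso (algebraMap R A) hA
  obtain ⟨e₂⟩ := Groth.DTenCalc.nonempty_RHomRel_unit_iso hφ N e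
  exact ⟨e₁ ≪≫ (Functor.curry.obj (DTen.LTenMix (algebraMap R A))).flip.mapIso
    (e₂ ≪≫ (((DerivedCategory.singleFunctors (ModuleCat.{u} A)).shiftIso (-1) 1 0 (by omega)).app
      (ModuleCat.of A N)).symm)⟩

end Groth.Agent.S13896
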