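import Groth.Statements.S13903
import Groth.Agent.EtaleAlgebra.PrimitiveAvoid
-- import your own Groth.Agent.* helpers here

set_option autoImplicit false
universe u
open EtAlg

namespace Groth.Agent.S13903

/-- Let K be a field and L a finite-dimensional reduced commutative K-algebra of dimension d all of
whose elements are separable over K, generated as a K-algebra by z and t. In any finite set of at
least d^(4d) elements of K there is an element c such that c • z + t generates L as a K-algebra.
(The published statement does not require separability; for K of characteristic p and L obtained by
adjoining p-th roots of two independent indeterminates, L is a reduced finite K-algebra generated by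
two elements with no single generator, so separability over K is assumed here, as the counting in
the published proof requires.) -/
theorem result (K L : Type u) [Field K] [CommRing L]
    [Algebra K L] [Module.Finite K L] [IsReduced L] [Algebra.IsSeparable K L] (z t : L)
    (hgen : Algebra.adjoin K ({z, t} : Set L) = ⊤) (S : Finset K)
    (hS : Module.finrank K L ^ (4 * Module.finrank K L) ≤ S.card) :
    ∃ c ∈ S, Algebra.adjoin K ({c • z + t} : Set L) = ⊤ := by
  refine Groth.EtaleAlgebra.exists_adjoin_smul_add K L z t hgen S (lt_of_lt_of_le ?_ hS)
  rcases Nat.eq_zero_or_pos (Module.finrank K L) with h | h
  · simp [h]
  · calc Module.finrank K L * (Module.finrank K L - 1)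
        < Module.finrank K L * Module.finrank K L := Nat.mul_lt_mul_of_pos_left (by omega) h
      _ = Module.finrank K L ^ 2 := by ring
      _ ≤ Module.finrank K L ^ (4 * Module.finrank K L) := Nat.pow_le_pow_right h (by omega)

end Groth.Agent.S13903
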