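import Groth.Statements.S13904
import Mathlib

set_option autoImplicit false
universe u
open CAlg

namespace Groth.Agent.S13904

/-- Let k be a field, A a commutative k-algebra and φ : k[x_1, …, x_r] → A a finite k-algebra map such
that A/p has Krull dimension r for every minimal prime p of A (an equidimensional affine scheme of
dimension r, finite over affine r-space). Then for every minimal prime p of A and every prime q of
k[x_1, …, x_r] there is a prime P ⊇ p of A with φ⁻¹(P) = q: the finite map restricted to each
irreducible component of Spec A is surjective onto affine r-space. (The published statement is over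
an algebraically closed field with φ a Noether normalisation; this row allows any field and any
finite k-algebra map φ.) -/
theorem result (k : Type u) [Field k] (r : ℕ)
    (A : Type u) [CommRing A] [Algebra k A] (φ : MvPolynomial (Fin r) k →ₐ[k] A)
    (hφ : φ.toRingHom.Finite)
    (hdim : ∀ p ∈ minimalPrimes A, ringKrullDim (A ⧸ p) = r)
    (p : Ideal A) (hp : p ∈ minimalPrimes A)
    (q : Ideal (MvPolynomial (Fin r) k)) [q.IsPrime] :
    ∃ P : Ideal A, P.IsPrime ∧ p ≤ P ∧ P.comap φ.toRingHom = q := by
  classical
  haveI hpp : p.IsPrime := Ideal.minimalPrimes_isPrime hp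
  set P := MvPolynomial (Fin r) k
  letI : Algebra P A := φ.toRingHom.toAlgebra
  haveI : Module.Finite P A := hφ
  set K := p.comap (algebraMap P A)
  have hK : K = ⊥ := by
    by_contra hne
    obtain ⟨g, hg, hg0⟩ := Submodule.exists_mem_ne_zero_of_ne_bot hne
    have h1 : ringKrullDim (P ⧸ Ideal.span {g}) + 1 ≤ ringKrullDim P :=
      ringKrullDim_quotient_succ_le_of_nonZeroDivisor (mem_nonZeroDivisors_of_ne_zero hg0)
    have h2 : ringKrullDim (A ⧸ p) ≤ ringKrullDim (P ⧸ Ideal.span {g}) := by
      let ψ : P ⧸ Ideal.span {g} →+* A ⧸ p := Ideal.Quotient.lift _ ((Ideal.Quotient.mk p).comp (algebraMap P A))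
        (fun a ha => by
          obtain ⟨b, rfl⟩ := Ideal.mem_span_singleton.1 ha
          rw [RingHom.comp_apply, Ideal.Quotient.eq_zero_iff_mem, map_mul]
          exact p.mul_mem_right _ hg)
      letI : Algebra (P ⧸ Ideal.span {g}) (A ⧸ p) := ψ.toAlgebra
      haveI : Algebra.IsIntegral (P ⧸ Ideal.span {g}) (A ⧸ p) := by
        refine ⟨RingHom.IsIntegral.tower_top (Ideal.Quotient.mk (Ideal.span {g})) ψ ?_⟩
        rw [Ideal.Quotient.lift_comp_mk]
        intro x
        exact (Algebra.IsIntegral.of_finite P (A ⧸ p)).isIntegral x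
      refine Order.krullDim_le_of_strictMono (PrimeSpectrum.comap (algebraMap (P ⧸ Ideal.span {g}) (A ⧸ p))) ?_
      intro a b hab
      exact Ideal.IsIntegral.comap_lt_comap (R := P ⧸ Ideal.span {g}) (I := a.asIdeal) (J := b.asIdeal) hab
    rw [hdim p hp] at h2
    rw [MvPolynomial.ringKrullDim_of_isNoetherianRing, ringKrullDim_eq_zero_of_field k] at h1
    have := (add_le_add_left h2 1).trans h1
    norm_cast at this
    simp at this
  haveI : Algebra.IsIntegral P A := Algebra.IsIntegral.of_finite P A
  obtain ⟨Q, hQ, hQp, hQc⟩ := Ideal.exists_ideal_over_prime_of_isIntegral_of_isPrime q p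
    (by show K ≤ q; rw [hK]; exact bot_le)
  exact ⟨Q, hQp, hQ, hQc⟩

end Groth.Agent.S13904
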