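import Groth.Statements.S13905
import Mathlib
-- import your own Groth.Agent.* helpers here

set_option autoImplicit false
universe u
open ProjGeom

namespace Groth.Agent.S13905

open W4c1etcurveeff3b in
/-- Hyperplanes of projective n-space in general position, in linear-algebra form (V of dimension n + 1
over a field k, hyperplanes as n-dimensional subspaces, points as nonzero vectors): if S is a finite
set of hyperplanes in general position with at least n members and H is a hyperplane containing none
of the lines cut out by n members of S, then S with H added is again in general position. (The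
published statement is for hyperplanes of P^n_k and closed points; a closed point lying on n + 1
members is automatically one of the rational points cut out by n of them, so the condition on
nonzero vectors of V is the same condition.) -/
theorem result (k V : Type u) [Field k]
    [AddCommGroup V] [Module k V] [DecidableEq (Submodule k V)] (n : ℕ) (S : Finset (Submodule k V))
    (hS : InGeneralPosition k V n S) (hn : n ≤ S.card) (H : Submodule k V)
    (hH : Module.finrank k H = n)
    (havoid : ∀ T ⊆ S, T.card = n → ¬ (T.inf id ≤ H)) :
    InGeneralPosition k V n (insert H S) := by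
  obtain ⟨hV, h1, h2, h3⟩ := hS
  have : FiniteDimensional k V := Module.finite_of_finrank_pos (by omega)
  have key : ∀ T ⊆ S, T.card ≤ n → ¬ T.inf id ≤ H := by
    intro T hT hc hle
    obtain ⟨T', hTT', hT'S, hc'⟩ := Finset.exists_subsuperset_card_eq hT hc hn
    exact havoid T' hT'S hc' ((Finset.inf_mono hTT').trans hle)
  refine ⟨hV, fun K hK => ?_, fun T hT hc => ?_, fun v hv T hT hmem => ?_⟩
  · rcases Finset.mem_insert.1 hK with rfl | hK
    · exact hH
    · exact h1 K hK
  · by_cases hHT : H ∈ T
    · have hT0 : T.erase H ⊆ S := fun x hx => by
        rcases Finset.mem_insert.1 (hT (Finset.mem_of_mem_erase hx)) with rfl | h'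
        · exact absurd rfl (Finset.ne_of_mem_erase hx)
        · exact h'
      have hcard := Finset.card_erase_of_mem hHT
      have hpos := Finset.card_pos.2 ⟨H, hHT⟩
      have d0 := h2 _ hT0 (by omega)
      have hn0 := key _ hT0 (by omega)
      rw [show T.inf id = H ⊓ (T.erase H).inf id by
        conv_lhs => rw [← Finset.insert_erase hHT]
        rw [Finset.inf_insert]; rfl]
      have hlt : H < H ⊔ (T.erase H).inf id := left_lt_sup.2 hn0
      have e1 := Submodule.finrank_lt_finrank_of_lt hlt
      have e2 := Submodule.finrank_le (H ⊔ (T.erase H).inf id)
      have e3 := Submodule.finrank_sup_add_finrank_inf_eq H ((T.erase H).inf id)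
      omega
    · exact h2 T ((Finset.subset_insert_iff_of_notMem hHT).1 hT) hc
  · by_cases hHT : H ∈ T
    · have hT0 : T.erase H ⊆ S := fun x hx => by
        rcases Finset.mem_insert.1 (hT (Finset.mem_of_mem_erase hx)) with rfl | h'
        · exact absurd rfl (Finset.ne_of_mem_erase hx)
        · exact h'
      have hc0 := h3 v hv _ hT0 (fun K hK => hmem K (Finset.mem_of_mem_erase hK))
      by_contra hbig
      have hcard := Finset.card_erase_of_mem hHT
      have d0 := h2 _ hT0 hc0
      have hvI : v ∈ (T.erase H).inf id := by
        rw [Submodule.mem_finsetInf]; exact fun K hK => hmem K (Finset.mem_of_mem_erase hK)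
      apply key _ hT0 hc0
      have hsub : Submodule.span k {v} ≤ (T.erase H).inf id := (Submodule.span_singleton_le_iff_mem _ _).2 hvI
      rw [← Submodule.eq_of_le_of_finrank_le hsub (by rw [finrank_span_singleton hv]; omega)]
      exact (Submodule.span_singleton_le_iff_mem _ _).2 (hmem H hHT)
    · exact h3 v hv T ((Finset.subset_insert_iff_of_notMem hHT).1 hT) hmem

end Groth.Agent.S13905
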