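import Groth.Statements.S13907
import Mathlib
-- import your own Groth.Agent.* helpers here

set_option autoImplicit false
universe u
open ProjGeom

namespace Groth.Agent.S13907

open MvPolynomial

variable {k : Type u} [Field k] {n : ℕ}

local notation "R'" => MvPolynomial (Fin (n + 1)) k
local notation "Gr" => CohB1.polyGrading n k
local notation "m₀" => RingHom.ker (MvPolynomial.constantCoeff : MvPolynomial (Fin (n + 1)) k →+* k)

theorem isHomogeneous_of_minimal {J M : Ideal R'} (hJ : J.IsHomogeneous Gr) (hM : M ∈ J.minimalPrimes) :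
    M.IsHomogeneous Gr := by
  have h1 : (M.homogeneousCore Gr).toIdeal ≤ M := Ideal.toIdeal_homogeneousCore_le _ M
  have hJle : J ≤ (M.homogeneousCore Gr).toIdeal := by
    rw [← hJ.toIdeal_homogeneousCore_eq_self]
    exact Ideal.homogeneousCore_mono _ hM.1.2
  have h2 := hM.2 ⟨hM.1.1.homogeneousCore, hJle⟩ h1
  rw [le_antisymm h2 h1]
  exact (M.homogeneousCore _).isHomogeneous

theorem proj_zero (f : R') :
    ((DirectSum.decompose Gr f 0 : Gr 0) : R') = C (constantCoeff f) := by
  rw [show ((DirectSum.decompose Gr f 0 : Gr 0) : R') =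
      homogeneousComponent 0 f from MvPolynomial.decomposition.decompose'_apply f 0,
    homogeneousComponent_zero]
  rfl

theorem le_m0 {Q : Ideal R'} (hQ : Q.IsHomogeneous Gr) (hne : Q ≠ ⊤) : Q ≤ m₀ := by
  intro f hf
  have hmem := hQ 0 hf
  rw [proj_zero] at hmem
  rw [RingHom.mem_ker]
  by_contra h
  exact hne (Ideal.eq_top_of_isUnit_mem _ hmem ((isUnit_iff_ne_zero.2 h).map C))

theorem m0_le_of_irrelevant {Q : Ideal R'} (h : (HomogeneousIdeal.irrelevant Gr).toIdeal ≤ Q) : m₀ ≤ Q :=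
  fun f hf => h (by
    rw [HomogeneousIdeal.mem_iff, HomogeneousIdeal.mem_irrelevant_iff, GradedRing.proj_apply, proj_zero,
      RingHom.mem_ker.1 hf, map_zero])

theorem m0_le_of_X {Q : Ideal R'} (h : ∀ j, (X j : R') ∈ Q) : m₀ ≤ Q := by
  intro f hf
  have : f - C (constantCoeff f) ∈ Q := by
    clear hf
    induction f using MvPolynomial.induction_on with
    | C a => simp
    | add p q hp hq => simpa [add_sub_add_comm] using Q.add_mem hp hq
    | mul_X p j _ => simpa using Q.mul_mem_left p (h j)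
  rwa [RingHom.mem_ker.1 hf, map_zero, sub_zero] at this

theorem irrelevant_le_m0 : (HomogeneousIdeal.irrelevant Gr).toIdeal ≤ m₀ := by
  intro f hf
  rw [HomogeneousIdeal.mem_iff, HomogeneousIdeal.mem_irrelevant_iff, GradedRing.proj_apply, proj_zero] at hf
  exact RingHom.mem_ker.2 (C_injective _ k (by rw [hf, map_zero]))

/-- No chain avoiding a coordinate hyperplane in a closed set. -/
theorem eq_of_le {S : Set R'} {j : Fin (n + 1)}
    (havoid : ∀ y ∈ ProjectiveSpectrum.zeroLocus Gr S, (X j : R') ∉ y.asHomogeneousIdeal.toIdeal)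
    {x y : ProjectiveSpectrum Gr} (hx : x ∈ ProjectiveSpectrum.zeroLocus Gr S) (hxy : x ≤ y) : x = y := by
  by_contra hne
  set P₀ := x.asHomogeneousIdeal.toIdeal
  set P₁ := y.asHomogeneousIdeal.toIdeal
  haveI hP₀ : P₀.IsPrime := x.isPrime
  haveI hP₁ : P₁.IsPrime := y.isPrime
  have hlt : P₀ < P₁ := lt_of_le_of_ne hxy fun e => hne (ProjectiveSpectrum.ext (HomogeneousIdeal.ext e))
  have hP₁m : P₁ < m₀ := lt_of_le_of_ne (le_m0 y.asHomogeneousIdeal.isHomogeneous hP₁.ne_top)
    fun e => y.not_irrelevant_le fun f hf => (e ▸ irrelevant_le_m0 hf : f ∈ P₁)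
  haveI : (m₀).IsPrime := RingHom.ker_isPrime _
  set J := P₀ ⊔ Ideal.span {(X j : R')}
  have hJm : J ≤ m₀ := sup_le (le_m0 x.asHomogeneousIdeal.isHomogeneous hP₀.ne_top) (by simp [Ideal.span_le])
  have hnmin : m₀ ∉ J.minimalPrimes := by
    intro hmin
    let π := Ideal.Quotient.mk P₀
    have hπ : Function.Surjective π := Ideal.Quotient.mk_surjective
    have hk : ∀ {Q : Ideal R'}, P₀ ≤ Q → RingHom.ker π ≤ Q := fun h => by rwa [Ideal.mk_ker]
    have hcm : ∀ {Q : Ideal R'}, P₀ ≤ Q → (Q.map π).comap π = Q := fun h => by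
      rw [Ideal.comap_map_of_surjective' π hπ, sup_eq_left.2 (hk h)]
    haveI := Ideal.map_isPrime_of_surjective (f := π) hπ (I := m₀) (hk (le_sup_left.trans hJm))
    haveI := Ideal.map_isPrime_of_surjective (f := π) hπ (I := P₁) (hk hlt.le)
    have hm' : (m₀).map π ∈ (Ideal.span {π (X j)}).minimalPrimes := by
      refine ⟨⟨inferInstance, ?_⟩, fun Q hQ hQle => ?_⟩
      · rw [Ideal.span_singleton_le_iff_mem]
        exact Ideal.mem_map_of_mem π (hJm (Ideal.mem_sup_right (Ideal.mem_span_singleton_self _)))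
      · haveI := hQ.1
        have hle : J ≤ Q.comap π := sup_le
          (fun a ha => by rw [Ideal.mem_comap, Ideal.Quotient.eq_zero_iff_mem.2 ha]; exact zero_mem _)
          ((Ideal.span_singleton_le_iff_mem _).2 (hQ.2 (Ideal.mem_span_singleton_self _)))
        have := hmin.2 ⟨Ideal.IsPrime.comap π, hle⟩ (by
          rw [← hcm (le_sup_left.trans hJm)]; exact Ideal.comap_mono hQle)
        rw [Ideal.map_le_iff_le_comap]
        exact this
    have h1 := Ideal.height_le_one_of_isPrincipal_of_mem_minimalPrimes _ _ hm'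
    have hlt1 : P₁.map π < (m₀).map π := lt_of_le_of_ne (Ideal.map_mono hP₁m.le) fun e => hP₁m.ne (by
      rw [← hcm hlt.le, e, hcm (le_sup_left.trans hJm)])
    have hlt0 : (⊥ : Ideal (R' ⧸ P₀)) < P₁.map π := bot_lt_iff_ne_bot.2 fun e => hlt.ne' (by
      rw [← hcm hlt.le, e, ← RingHom.ker_eq_comap_bot, Ideal.mk_ker])
    have h2 := Ideal.height_add_one_le_of_lt_of_isPrime hlt1
    have h3 := Ideal.height_add_one_le_of_lt_of_isPrime hlt0
    have h4 : (P₁.map π).height + 1 ≤ 1 := h2.trans h1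
    have h5 : (1 : ℕ∞) + 1 ≤ 1 := le_trans (add_le_add (le_trans le_add_self h3) le_rfl) h4
    exact absurd h5 (by decide)
  obtain ⟨Q, hQ, hQm⟩ := Ideal.exists_minimalPrimes_le hJm
  have hQne : Q ≠ m₀ := fun e => hnmin (e ▸ hQ)
  have hJh : J.IsHomogeneous Gr := Ideal.IsHomogeneous.sup x.asHomogeneousIdeal.isHomogeneous
    (Ideal.homogeneous_span Gr _ (by rintro a rfl; exact ⟨1, isHomogeneous_X k j⟩))
  let q : ProjectiveSpectrum Gr := ⟨⟨Q, isHomogeneous_of_minimal hJh hQ⟩, hQ.1.1,
    fun h => hQne (le_antisymm hQm (m0_le_of_irrelevant h))⟩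
  refine havoid q (fun a ha => ?_) (hQ.1.2 (Ideal.mem_sup_right (Ideal.mem_span_singleton_self _)))
  exact hQ.1.2 (Ideal.mem_sup_left (hx ha))

/-- Over an algebraically closed field k, let C be a nonempty irreducible closed subset of the
underlying space of projective n-space with homogeneous coordinates x_0, …, x_n, and for i ≤ n let
L_i be the linear subspace where x_1, …, x_i vanish. Then there is an index i ≤ n with C ∩ L_i
nonempty and of topological Krull dimension zero. -/
theorem result (k : Type u) [Field k]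
    [IsAlgClosed k] (n : ℕ) (C : Set (ProjectiveSpectrum (CohB1.polyGrading n k)))
    (hC : IsClosed C) (hirr : IsIrreducible C) :
    ∃ i : ℕ, i ≤ n ∧
      (C ∩ ProjectiveSpectrum.zeroLocus (CohB1.polyGrading n k)
          ((fun j : Fin (n + 1) => (MvPolynomial.X j : MvPolynomial (Fin (n + 1)) k)) ''
            {j : Fin (n + 1) | 1 ≤ j.val ∧ j.val ≤ i})).Nonempty ∧
      topologicalKrullDim ↥(C ∩ ProjectiveSpectrum.zeroLocus (CohB1.polyGrading n k)
          ((fun j : Fin (n + 1) => (MvPolynomial.X j : MvPolynomial (Fin (n + 1)) k)) ''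
            {j : Fin (n + 1) | 1 ≤ j.val ∧ j.val ≤ i})) = 0 := by
  classical
  let L : ℕ → Set (MvPolynomial (Fin (n + 1)) k) := fun i =>
    (fun j : Fin (n + 1) => (MvPolynomial.X j : MvPolynomial (Fin (n + 1)) k)) '' {j : Fin (n + 1) | 1 ≤ j.val ∧ j.val ≤ i}
  let Z : ℕ → Set (ProjectiveSpectrum (CohB1.polyGrading n k)) := fun i =>
    C ∩ ProjectiveSpectrum.zeroLocus (CohB1.polyGrading n k) (L i)
  have h0 : (Z 0).Nonempty := by
    have e : L 0 = ∅ := by
      rw [Set.eq_empty_iff_forall_notMem]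
      rintro _ ⟨j, hj, rfl⟩
      exact absurd hj.1 (by have := hj.2; omega)
    simp only [Z, e, ProjectiveSpectrum.zeroLocus_empty, Set.inter_univ]
    exact hirr.nonempty
  let i := Nat.findGreatest (fun i => (Z i).Nonempty) n
  have hi : (Z i).Nonempty := Nat.findGreatest_spec (P := fun i => (Z i).Nonempty) (Nat.zero_le n) h0
  have hin : i ≤ n := Nat.findGreatest_le n
  refine ⟨i, hin, hi, ?_⟩
  obtain ⟨Sc, hSc⟩ := (ProjectiveSpectrum.isClosed_iff_zeroLocus _ C).1 hC
  have hZ : Z i = ProjectiveSpectrum.zeroLocus (CohB1.polyGrading n k) (Sc ∪ L i) := by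
    simp only [Z, hSc, ProjectiveSpectrum.zeroLocus_union]
  obtain ⟨j, havoid⟩ : ∃ j : Fin (n + 1), ∀ y ∈ Z i,
      (MvPolynomial.X j : MvPolynomial (Fin (n + 1)) k) ∉ y.asHomogeneousIdeal.toIdeal := by
    rcases Nat.lt_or_ge i n with hlt | hge
    · refine ⟨⟨i + 1, by omega⟩, fun y hy hX => ?_⟩
      refine Nat.findGreatest_is_greatest (P := fun i => (Z i).Nonempty) (lt_add_one i) (by omega) ⟨y, hy.1, ?_⟩
      rintro _ ⟨l, hl, rfl⟩
      by_cases h : l.val ≤ i
      · exact hy.2 ⟨l, ⟨hl.1, h⟩, rfl⟩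
      · rw [show l = (⟨i + 1, by omega⟩ : Fin (n + 1)) from Fin.ext (by have := hl.2; simp only; omega)]
        exact hX
    · refine ⟨0, fun y hy hX => y.not_irrelevant_le fun f hf => ?_⟩
      refine m0_le_of_X (Q := y.asHomogeneousIdeal.toIdeal) (fun l => ?_) (irrelevant_le_m0 hf)
      by_cases h : l = 0
      · rw [h]; exact hX
      · exact hy.2 ⟨l, ⟨Nat.one_le_iff_ne_zero.2 (fun e => h (Fin.ext e)), by omega⟩, rfl⟩
  have hT1 : ∀ x ∈ Z i, closure ({x} : Set (ProjectiveSpectrum (CohB1.polyGrading n k))) = {x} := by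
    intro x hx
    refine Set.Subset.antisymm (fun y hy => ?_) subset_closure
    rw [← ProjectiveSpectrum.le_iff_mem_closure] at hy
    exact (eq_of_le (S := Sc ∪ L i) (fun z hz => havoid z (hZ ▸ hz)) (hZ ▸ hx) hy).symm
  have hclosed : IsClosed (Z i) := hC.inter (ProjectiveSpectrum.isClosed_zeroLocus _ _)
  haveI : QuasiSober (ProjectiveSpectrum (CohB1.polyGrading n k)) :=
    inferInstanceAs (QuasiSober ↥(AlgebraicGeometry.Proj (CohB1.polyGrading n k)))
  haveI : QuasiSober ↥(Z i) := (hclosed.isClosedEmbedding_subtypeVal).quasiSober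
  haveI : Nonempty ↥(Z i) := hi.to_subtype
  show topologicalKrullDim ↥(Z i) = 0
  have hmin : ∀ T : TopologicalSpace.IrreducibleCloseds ↥(Z i), ∃ x, (T : Set ↥(Z i)) = {x} := by
    intro T
    obtain ⟨g, hg⟩ := QuasiSober.sober T.isIrreducible T.isClosed
    refine ⟨g, ?_⟩
    rw [← hg.def]
    apply Set.Subset.antisymm _ subset_closure
    intro y hy
    have h2 := closure_mono (Set.image_singleton.le) (image_closure_subset_closure_image continuous_subtype_val ⟨y, hy, rfl⟩)
    rw [hT1 g.1 g.2] at h2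
    exact Subtype.ext h2
  obtain ⟨x0⟩ := (inferInstance : Nonempty ↥(Z i))
  haveI : Nonempty (TopologicalSpace.IrreducibleCloseds ↥(Z i)) :=
    ⟨⟨closure {x0}, isIrreducible_singleton.closure, isClosed_closure⟩⟩
  refine le_antisymm (Order.krullDim_nonpos_iff_forall_isMax.2 fun a b hab => ?_) Order.krullDim_nonneg
  obtain ⟨x, hx⟩ := hmin a
  obtain ⟨y, hy⟩ := hmin b
  have h1 : (a : Set ↥(Z i)) ⊆ b := hab
  rw [hx, hy, Set.singleton_subset_singleton] at h1
  exact le_of_eq (SetLike.coe_injective (by rw [hx, hy, h1]))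

end Groth.Agent.S13907
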