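import Groth.Statements.S13908
import Groth.Agent.BlowUpVanish.Inverse

set_option autoImplicit false
universe u
open CategoryTheory CategoryTheory.Limits AlgebraicGeometry
open BlowUp

namespace Groth.Agent.S13908

/-- For the blowing up σ : X ⟶ Y of a smooth separated finite-type scheme over a characteristic-zero
algebraically closed field along a closed subscheme S regularly immersed of constant codimension d ≥
2, with inverse image ideal J and exceptional divisor j : D ⟶ X, one has R^p σ_*(O_D(n)) = 0 for all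
p ≥ 1 and n ≥ 0, where O_D(n) is written j_* j^*(J^n), and R^p σ_*(O_D(-1)) = 0 for all p ≥ 1, where
O_D(-1) is written j_* j^* L for any O_X-module L with L ⊗ J ≅ O_X. Higher direct images are taken
of the underlying abelian sheaves. -/
theorem result (k : Type u) [Field k] [IsAlgClosed k] [CharZero k]
    {S Y X : Scheme.{u}} [Y.Over (Spec (CommRingCat.of k))] [Smooth (Y ↘ Spec (CommRingCat.of k))]
    [IsSeparated (Y ↘ Spec (CommRingCat.of k))] [QuasiCompact (Y ↘ Spec (CommRingCat.of k))]
    (i : S ⟶ Y) [IsClosedImmersion i] (d : ℕ) (hd : 2 ≤ d) (hi : RegImm.IsRegularImmersionOfCodim .regular d i)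
    (σ : X ⟶ Y) (hσ : BlowUp.IsBlowUp σ i.ker) :
    (∀ n p : ℕ, 1 ≤ p →
      IsZero ((Coh.RpushAb σ p).obj (Coh.toAb
        ((Scheme.Modules.pushforward (BlowUp.exceptional σ i.ker).subschemeι).obj
          ((Scheme.Modules.pullback (BlowUp.exceptional σ i.ker).subschemeι).obj
            (ClSub.idealMod ((BlowUp.exceptional σ i.ker) ^ n))))))) ∧
    (∀ L : X.Modules, ClSub.IsInverseOf L (ClSub.idealMod (BlowUp.exceptional σ i.ker)) → ∀ p : ℕ, 1 ≤ p →
      IsZero ((Coh.RpushAb σ p).obj (Coh.toAb
        ((Scheme.Modules.pushforward (BlowUp.exceptional σ i.ker).subschemeι).obj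
          ((Scheme.Modules.pullback (BlowUp.exceptional σ i.ker).subschemeι).obj L))))) := by
  haveI : IsLocallyNoetherian Y :=
    LocallyOfFiniteType.isLocallyNoetherian (Y ↘ Spec (CommRingCat.of k))
  haveI : IsProper σ := HTopHyper.isProper_of_isBlowUp hσ fun U => by
    haveI := IsLocallyNoetherian.component_noetherian U
    exact IsNoetherian.noetherian _
  have hn := Groth.BlowUpVanish.nice_of_regImm i (d := d) (by omega) hi
  refine ⟨fun n p hp => Groth.BlowUpVanish.isZero_RpushAb_exceptional_pow σ hn hσ n hp,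
    fun L hL p hp => Groth.BlowUpVanish.isZero_RpushAb_exceptional_inv σ hn hσ hL hp fun y => ?_⟩
  have hLi : PicF.IsInvertible L := Groth.PicAux.isInvertible_of_isInverseOf
    (Groth.PicAux.isInvertible_idealMod (show BlowUp.IsEffCartierIdeal (BlowUp.exceptional σ i.ker) from hσ.1))
    (Groth.PicAux.isInverseOf_symm hL)
  haveI := Groth.PicAux.isQCoh_of_isInvertible hLi
  by_cases hy : y ∈ Set.range i
  · obtain ⟨z, rfl⟩ := hy
    obtain ⟨U, hz, -, rs, hlen, hrs, hker⟩ := hi.2 z
    have hid : i.ker.ideal U = Ideal.ofList rs := by rw [Scheme.Hom.ker_apply, hker]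
    exact ⟨U, hz, Or.inl ⟨rs, List.ne_nil_of_length_pos (by omega),
      RingTheory.Sequence.IsRegular.toIsWeaklyRegular hrs, hid⟩,
      fun q => Groth.BlowUpVanish.subsingleton_HH_inv_preimage σ hσ hL rs (by omega)
        (RingTheory.Sequence.IsRegular.toIsWeaklyRegular hrs) hid q⟩
  · obtain ⟨_, ⟨V, hV, rfl⟩, hyV, hVU⟩ := Y.isBasis_affineOpens.exists_subset_of_mem_open hy
      i.isClosedEmbedding.isClosed_range.isOpen_compl
    have hd' : Disjoint (i.ker.support : Set Y) ((⟨V, hV⟩ : Y.affineOpens).1 : Set Y) := by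
      rw [Scheme.Hom.support_ker, i.isClosedEmbedding.isClosed_range.closure_eq]
      exact Set.disjoint_left.2 fun w hw hwV => hVU hwV hw
    exact ⟨⟨V, hV⟩, hyV, Or.inr hd',
      fun q => Groth.BlowUpVanish.subsingleton_HH_preimage_disjoint σ hσ L hd' q⟩

end Groth.Agent.S13908
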