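import Groth.Statements.S13911
import Mathlib
import Groth.Agent.Misc6.Conic
-- import your own Groth.Agent.* helpers here

set_option autoImplicit false
universe u
open PlaneConic Matrix

namespace Groth.Agent.S13911

/-- For an algebraically closed field k of characteristic zero, a nonzero symmetric 3 × 3 matrix Q over
k and the ternary quadratic form f = Σ Q_ij X_i X_j in k[X_0, X_1, X_2] (the equation of a plane
conic): (1) f is irreducible iff det Q ≠ 0; (2) the conic has a singular point, that is a nonzero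
vector at which all partial derivatives of f vanish, iff det Q = 0 (so smooth conics are exactly the
irreducible ones); (3) f is the product of two linearly independent linear forms (two distinct
lines) iff rank Q = 2; (4) f is the square of a linear form (a double line) iff rank Q = 1. -/
theorem result (k : Type u) [Field k] [IsAlgClosed k] [CharZero k]
    (Q : Matrix (Fin 3) (Fin 3) k) (hQ : Q.IsSymm) (hQ0 : Q ≠ 0) (f : MvPolynomial (Fin 3) k)
    (hf : f = ∑ i : Fin 3, ∑ j : Fin 3, Q i j • (MvPolynomial.X i * MvPolynomial.X j)) :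
    (Irreducible f ↔ Q.det ≠ 0) ∧
    ((∃ u : Fin 3 → k, u ≠ 0 ∧ ∀ i : Fin 3, MvPolynomial.eval u (MvPolynomial.pderiv i f) = 0) ↔ Q.det = 0) ∧
    ((∃ a b : Fin 3 → k, LinearIndependent k ![a, b] ∧
        f = (∑ i : Fin 3, a i • MvPolynomial.X i) * (∑ i : Fin 3, b i • MvPolynomial.X i)) ↔ Q.rank = 2) ∧
    ((∃ a : Fin 3 → k, f = (∑ i : Fin 3, a i • MvPolynomial.X i) ^ 2) ↔ Q.rank = 1) := by
  have h2 : (2 : k) ≠ 0 := two_ne_zero
  have heval : ∀ v : Fin 3 → k, MvPolynomial.eval v f = v ⬝ᵥ Q *ᵥ v := by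
    intro v
    simp [hf, dotProduct, Matrix.mulVec, Finset.mul_sum]
    exact Finset.sum_congr rfl fun i _ => Finset.sum_congr rfl fun j _ => by ring
  let L : (Fin 3 → k) → MvPolynomial (Fin 3) k := fun a => ∑ i : Fin 3, a i • MvPolynomial.X i
  have hL : ∀ a, (L a).IsHomogeneous 1 := fun a => by
    refine MvPolynomial.IsHomogeneous.sum _ _ _ fun i _ => ?_
    rw [MvPolynomial.smul_eq_C_mul]; exact MvPolynomial.isHomogeneous_C_mul_X _ _
  have hLL : ∀ a b, f = L a * L b ↔ ∀ r s, 2 * Q r s = a r * b s + a s * b r := by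
    intro a b
    constructor
    · intro h r s
      have e : ∀ v, v ⬝ᵥ Q *ᵥ v = (a ⬝ᵥ v) * (b ⬝ᵥ v) := fun v => by
        rw [← heval, h, map_mul, Groth.Misc6.linForm_eval, Groth.Misc6.linForm_eval]
      have e1 := e (Pi.single r 1)
      have e2 := e (Pi.single s 1)
      have e3 := e (Pi.single r 1 + Pi.single s 1)
      simp [Matrix.mulVec_add, dotProduct_add, add_dotProduct] at e1 e2 e3
      linear_combination e3 - e1 - e2 - hQ.apply r s
    · intro h
      apply MvPolynomial.funext
      intro v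
      rw [heval, map_mul, Groth.Misc6.linForm_eval, Groth.Misc6.linForm_eval]
      apply mul_left_cancel₀ h2
      simp only [dotProduct, Matrix.mulVec, Fin.sum_univ_three]
      linear_combination (v 0 * v 0) * h 0 0 + (v 0 * v 1) * h 0 1 + (v 0 * v 2) * h 0 2 + (v 1 * v 0) * h 1 0 +
        (v 1 * v 1) * h 1 1 + (v 1 * v 2) * h 1 2 + (v 2 * v 0) * h 2 0 + (v 2 * v 1) * h 2 1 + (v 2 * v 2) * h 2 2
  have hmul : ∀ a b v : Fin 3 → k, (∀ r s, 2 * Q r s = a r * b s + a s * b r) → (2 : k) • Q *ᵥ v = (b ⬝ᵥ v) • a + (a ⬝ᵥ v) • b := by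
    intro a b v h
    funext r
    simp only [Pi.smul_apply, Pi.add_apply, smul_eq_mul, Matrix.mulVec, dotProduct, Fin.sum_univ_three]
    linear_combination (v 0) * h r 0 + (v 1) * h r 1 + (v 2) * h r 2
  have hrange : ∀ a b : Fin 3 → k, (∀ r s, 2 * Q r s = a r * b s + a s * b r) →
      LinearMap.range Q.mulVecLin ≤ Submodule.span k {a, b} := by
    rintro a b h _ ⟨v, rfl⟩
    rw [Matrix.mulVecLin_apply, Submodule.mem_span_pair]
    refine ⟨(2 : k)⁻¹ * (b ⬝ᵥ v), (2 : k)⁻¹ * (a ⬝ᵥ v), ?_⟩
    rw [mul_smul, mul_smul, ← smul_add, ← hmul a b v h, smul_smul, inv_mul_cancel₀ h2, one_smul]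
  have hrk2 : ∀ a b : Fin 3 → k, (∀ r s, 2 * Q r s = a r * b s + a s * b r) → LinearIndependent k ![a, b] → Q.rank = 2 := by
    intro a b h hind
    have hge : Submodule.span k {a, b} ≤ LinearMap.range Q.mulVecLin := by
      have hsurj : Function.Surjective (Matrix.of ![a, b]).mulVecLin := by
        rw [← LinearMap.range_eq_top]
        apply Submodule.eq_top_of_finrank_eq
        rw [Module.finrank_fin_fun]
        have := (Matrix.of ![a, b]).rank_transpose
        have h' : LinearIndependent k (Matrix.of ![a, b]).row := hind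
        exact (LinearIndependent.rank_matrix h').trans (Fintype.card_fin 2)
      rw [Submodule.span_le]
      rintro x (rfl | rfl)
      · obtain ⟨v, hv⟩ := hsurj ![0, 1]
        have va : x ⬝ᵥ v = 0 := by simpa [Matrix.mulVec] using congrFun hv 0
        have vb : b ⬝ᵥ v = 1 := by simpa [Matrix.mulVec] using congrFun hv 1
        refine ⟨(2 : k) • v, ?_⟩
        rw [Matrix.mulVecLin_apply, Matrix.mulVec_smul, hmul _ b v h, va, vb]; simp
      · obtain ⟨v, hv⟩ := hsurj ![1, 0]
        have va : a ⬝ᵥ v = 1 := by simpa [Matrix.mulVec] using congrFun hv 0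
        have vb : x ⬝ᵥ v = 0 := by simpa [Matrix.mulVec] using congrFun hv 1
        refine ⟨(2 : k) • v, ?_⟩
        rw [Matrix.mulVecLin_apply, Matrix.mulVec_smul, hmul a _ v h, va, vb]; simp
    rw [Matrix.rank, le_antisymm (hrange a b h) hge]
    have := finrank_span_eq_card hind
    rw [Matrix.range_cons_cons_empty] at this
    simpa using this
  have hrk1 : ∀ a b : Fin 3 → k, (∀ r s, 2 * Q r s = a r * b s + a s * b r) → ¬ LinearIndependent k ![a, b] →
      Q.rank = 1 ∧ ∃ c, f = L c ^ 2 := by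
    intro a b h hdep
    obtain ⟨w, t1, t2, rfl, rfl⟩ : ∃ (w : Fin 3 → k) (t1 t2 : k), a = t1 • w ∧ b = t2 • w := by
      by_cases ha : a = 0
      · exact ⟨b, 0, 1, by simp [ha], by simp⟩
      · rw [LinearIndependent.pair_iff' ha] at hdep
        push_neg at hdep
        obtain ⟨t, ht⟩ := hdep
        exact ⟨a, 1, t, by simp, ht.symm⟩
    constructor
    · apply le_antisymm
      · rw [Matrix.rank]
        refine (Submodule.finrank_mono ((hrange _ _ h).trans (?_ : _ ≤ Submodule.span k ({w} : Set (Fin 3 → k))))).trans ?_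
        · rw [Submodule.span_le]
          rintro x (rfl | rfl) <;> exact Submodule.smul_mem _ _ (Submodule.mem_span_singleton_self _)
        · refine (finrank_span_le_card _).trans ?_; simp
      · rw [Nat.one_le_iff_ne_zero, Ne, Matrix.rank, Submodule.finrank_eq_zero, LinearMap.range_eq_bot]
        intro h0
        exact hQ0 (Matrix.ext_of_mulVec_single fun i => by rw [Matrix.zero_mulVec]; exact LinearMap.congr_fun h0 (Pi.single i 1))
    · obtain ⟨s, hs⟩ := IsAlgClosed.exists_eq_mul_self (t1 * t2)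
      refine ⟨s • w, ?_⟩
      rw [sq, hLL]
      intro r q
      rw [h r q]
      simp only [Pi.smul_apply, smul_eq_mul]
      linear_combination (2 * w r * w q) * hs
  have hrk3 : Q.det ≠ 0 → Q.rank = 3 := fun h => by
    rw [Matrix.rank_of_isUnit]; simp; exact (Matrix.isUnit_iff_isUnit_det _).2 h.isUnit
  have hsplit : Q.det = 0 → ∃ a b : Fin 3 → k, ∀ r s, 2 * Q r s = a r * b s + a s * b r :=
    Groth.Misc6.conic_split h2 Q hQ
  have hdet0 : ∀ a b : Fin 3 → k, (∀ r s, 2 * Q r s = a r * b s + a s * b r) → Q.det = 0 := by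
    intro a b h
    by_contra hd
    by_cases hi : LinearIndependent k ![a, b]
    · have := hrk2 a b h hi; rw [hrk3 hd] at this; omega
    · have := (hrk1 a b h hi).1; rw [hrk3 hd] at this; omega
  refine ⟨⟨fun hirr hd => ?_, fun hd => ?_⟩, ?_, ⟨?_, fun hr => ?_⟩, ⟨?_, fun hr => ?_⟩⟩
  · obtain ⟨a, b, h⟩ := hsplit hd
    have hfe := (hLL a b).2 h
    have hnu : ∀ c, ¬ IsUnit (L c) := fun c hu => by
      have := hu.map (MvPolynomial.eval (0 : Fin 3 → k))
      simp [L] at this
    rcases hirr.isUnit_or_isUnit hfe with h' | h' <;> exact hnu _ h'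
  · have hf2 : f.IsHomogeneous 2 := by
      rw [hf]
      refine MvPolynomial.IsHomogeneous.sum _ _ _ fun i _ => MvPolynomial.IsHomogeneous.sum _ _ _ fun j _ => ?_
      rw [MvPolynomial.smul_eq_C_mul]
      exact ((MvPolynomial.isHomogeneous_X k i).mul (MvPolynomial.isHomogeneous_X k j)).C_mul _
    have hf0 : f ≠ 0 := by
      intro h0
      have h00 : f = L 0 * L 0 := by simp [h0, L]
      exact hd (hdet0 0 0 ((hLL 0 0).1 h00))
    refine ⟨fun hu => ?_, fun g h hgh => ?_⟩
    · have := hu.map (MvPolynomial.eval (0 : Fin 3 → k))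
      simp [hf] at this
    by_contra! hnu
    have hg0 : g ≠ 0 := by rintro rfl; simp at hgh; exact hf0 hgh
    have hh0 : h ≠ 0 := by rintro rfl; simp at hgh; exact hf0 hgh
    have hdeg : g.totalDegree + h.totalDegree = 2 := by
      rw [← MvPolynomial.totalDegree_mul_of_isDomain hg0 hh0, ← hgh, hf2.totalDegree hf0]
    have hpos : ∀ p : MvPolynomial (Fin 3) k, p ≠ 0 → ¬ IsUnit p → p.totalDegree ≠ 0 := by
      intro p hp hpu h0
      rw [MvPolynomial.totalDegree_eq_zero_iff_eq_C.1 h0] at hpu hp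
      exact hpu (IsUnit.map MvPolynomial.C (isUnit_iff_ne_zero.2 fun hz => hp (by rw [hz, map_zero])))
    have hg1 : g.totalDegree = 1 := by have := hpos g hg0 hnu.1; have := hpos h hh0 hnu.2; omega
    have hh1 : h.totalDegree = 1 := by omega
    have dec : ∀ p : MvPolynomial (Fin 3) k, p.totalDegree = 1 →
        ∃ c q, p = MvPolynomial.C c + q ∧ q.IsHomogeneous 1 ∧ q ≠ 0 := by
      intro p hp
      have := MvPolynomial.sum_homogeneousComponent p
      rw [hp, Finset.sum_range_succ, Finset.sum_range_one, MvPolynomial.homogeneousComponent_zero] at this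
      refine ⟨_, _, this.symm, MvPolynomial.homogeneousComponent_isHomogeneous _ _, fun hz => ?_⟩
      rw [hz, add_zero] at this
      rw [← this, MvPolynomial.totalDegree_C] at hp
      omega
    obtain ⟨c, q, hgq, hq, hq0⟩ := dec g hg1
    obtain ⟨c', q', hhq, hq', hq0'⟩ := dec h hh1
    have e : f = MvPolynomial.C (c * c') + (MvPolynomial.C c * q' + MvPolynomial.C c' * q) + q * q' := by
      rw [hgh, hgq, hhq, map_mul]; ring
    have m0 : MvPolynomial.C (c * c') ∈ MvPolynomial.homogeneousSubmodule (Fin 3) k 0 := MvPolynomial.isHomogeneous_C _ _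
    have m1 : (MvPolynomial.C c * q' + MvPolynomial.C c' * q) ∈ MvPolynomial.homogeneousSubmodule (Fin 3) k 1 := (hq'.C_mul c).add (hq.C_mul c')
    have m2 : q * q' ∈ MvPolynomial.homogeneousSubmodule (Fin 3) k 2 := hq.mul hq'
    have mf : f ∈ MvPolynomial.homogeneousSubmodule (Fin 3) k 2 := hf2
    have e0 := congrArg (MvPolynomial.homogeneousComponent 0) e
    have e1 := congrArg (MvPolynomial.homogeneousComponent 1) e
    rw [map_add, map_add, MvPolynomial.homogeneousComponent_of_mem mf, MvPolynomial.homogeneousComponent_of_mem m0,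
      MvPolynomial.homogeneousComponent_of_mem m1, MvPolynomial.homogeneousComponent_of_mem m2] at e0 e1
    simp at e0 e1
    have hcc : c = 0 ∧ c' = 0 := by
      rcases e0 with h' | h' <;> subst h' <;> simp at e1 <;> simp_all
    rw [hgq, hhq, hcc.1, hcc.2, map_zero, zero_add, zero_add] at hgh
    obtain ⟨a, ha⟩ := Groth.Misc6.linForm_of_homogeneous hq
    obtain ⟨b, hb⟩ := Groth.Misc6.linForm_of_homogeneous hq'
    rw [ha, hb] at hgh
    exact hd (hdet0 a b ((hLL a b).1 hgh))
  · have hp : ∀ u i, MvPolynomial.eval u (MvPolynomial.pderiv i f) = 2 * (Q *ᵥ u) i := by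
      intro u i
      simp only [hf, map_sum, Derivation.map_smul, MvPolynomial.smul_eval, MvPolynomial.pderiv_mul,
        MvPolynomial.pderiv_X, map_add, map_mul, MvPolynomial.eval_X, Fin.sum_univ_three, Matrix.mulVec, dotProduct]
      fin_cases i <;> simp [hQ.apply 0 1, hQ.apply 0 2, hQ.apply 1 2] <;> ring
    rw [← Matrix.exists_mulVec_eq_zero_iff]
    simp [hp, funext_iff]
  · rintro ⟨a, b, hi, h⟩
    exact hrk2 a b ((hLL a b).1 h) hi
  · obtain ⟨a, b, h⟩ := hsplit (by by_contra hd; rw [hrk3 hd] at hr; omega)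
    exact ⟨a, b, by by_contra hi; have := (hrk1 a b h hi).1; omega, (hLL a b).2 h⟩
  · rintro ⟨a, h⟩
    refine (hrk1 a a ((hLL a a).1 (by rw [h, sq])) fun hi => ?_).1
    have := hi.injective (show ![a, a] 0 = ![a, a] 1 from rfl)
    simp at this
  · obtain ⟨a, b, h⟩ := hsplit (by by_contra hd; rw [hrk3 hd] at hr; omega)
    obtain ⟨c, hc⟩ := (hrk1 a b h fun hi => by have := hrk2 a b h hi; omega).2
    exact ⟨c, hc⟩

end Groth.Agent.S13911
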