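import Groth.Statements.S13912
import Mathlib
import Groth.Agent.Misc6.Conic
-- import your own Groth.Agent.* helpers here

set_option autoImplicit false
universe u
open PlaneConic Matrix

namespace Groth.Agent.S13912

/-- Over an algebraically closed field k of characteristic zero, for a 2 × 2 matrix M of linear forms in
k[X_0, X_1, X_2] (entries homogeneous of degree 1, zero allowed), det M is a product of two linear
forms if and only if M can be brought by invertible scalar row and column operations g M h, with g,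
h in GL_2(k), to a matrix with zero upper-right entry. (The published statement concerns matrices
with nonzero determinant; this row also allows determinant zero, where both sides hold.) -/
theorem result (k : Type u) [Field k] [IsAlgClosed k] [CharZero k]
    (M : Matrix (Fin 2) (Fin 2) (MvPolynomial (Fin 3) k)) (hM : ∀ a b : Fin 2, (M a b).IsHomogeneous 1) :
    (∃ l₁ l₂ : MvPolynomial (Fin 3) k, l₁.IsHomogeneous 1 ∧ l₂.IsHomogeneous 1 ∧ M.det = l₁ * l₂) ↔
    ∃ g h : GL (Fin 2) k,
      ((MvPolynomial.C : k →+* MvPolynomial (Fin 3) k).mapMatrix g.val * M *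
        (MvPolynomial.C : k →+* MvPolynomial (Fin 3) k).mapMatrix h.val) 0 1 = 0 := by
  classical
  have h2 : (2 : k) ≠ 0 := two_ne_zero
  choose c hc using fun a b => Groth.Misc6.linForm_of_homogeneous (hM a b)
  have hentry : ∀ g h : Matrix (Fin 2) (Fin 2) k,
      ((MvPolynomial.C : k →+* MvPolynomial (Fin 3) k).mapMatrix g * M *
        (MvPolynomial.C : k →+* MvPolynomial (Fin 3) k).mapMatrix h) 0 1 =
      ∑ a, ∑ b, MvPolynomial.C (g 0 a * h b 1) * M a b := by
    intro g h
    simp [Matrix.mul_apply, Fin.sum_univ_two]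
    ring
  constructor
  · rintro ⟨l₁, l₂, hl₁, hl₂, hdet⟩
    obtain ⟨p, hp⟩ := Groth.Misc6.linForm_of_homogeneous hl₁
    obtain ⟨q, hq⟩ := Groth.Misc6.linForm_of_homogeneous hl₂
    suffices hxy : ∃ x y : Fin 2 → k, x ≠ 0 ∧ y ≠ 0 ∧ ∀ i, ∑ a, ∑ b, x a * y b * c a b i = 0 by
      obtain ⟨x, y, hx, hy, h⟩ := hxy
      obtain ⟨g, hg⟩ : ∃ g : GL (Fin 2) k, g.val 0 = x := by
        by_cases h0 : x 0 = 0
        · have h1 : x 1 ≠ 0 := fun h1 => hx (funext fun i => by fin_cases i <;> assumption)
          exact ⟨Matrix.GeneralLinearGroup.mkOfDetNeZero !![0, x 1; 1, 0] (by simp [Matrix.det_fin_two, h1]),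
            funext fun i => by fin_cases i <;> simp [Matrix.GeneralLinearGroup.mkOfDetNeZero, h0]⟩
        · exact ⟨Matrix.GeneralLinearGroup.mkOfDetNeZero !![x 0, x 1; 0, 1] (by simp [Matrix.det_fin_two, h0]),
            funext fun i => by fin_cases i <;> simp [Matrix.GeneralLinearGroup.mkOfDetNeZero]⟩
      obtain ⟨h', hh'⟩ : ∃ h' : GL (Fin 2) k, ∀ b, h'.val b 1 = y b := by
        by_cases h0 : y 1 = 0
        · have h1 : y 0 ≠ 0 := fun h1 => hy (funext fun i => by fin_cases i <;> assumption)
          exact ⟨Matrix.GeneralLinearGroup.mkOfDetNeZero !![0, y 0; 1, 0] (by simp [Matrix.det_fin_two, h1]),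
            fun i => by fin_cases i <;> simp [Matrix.GeneralLinearGroup.mkOfDetNeZero, h0]⟩
        · exact ⟨Matrix.GeneralLinearGroup.mkOfDetNeZero !![1, y 0; 0, y 1] (by simp [Matrix.det_fin_two, h0]),
            fun i => by fin_cases i <;> simp [Matrix.GeneralLinearGroup.mkOfDetNeZero]⟩
      refine ⟨g, h', ?_⟩
      rw [hentry]
      simp only [hc, hh', hg, Finset.mul_sum, ← MvPolynomial.smul_eq_C_mul, smul_smul]
      rw [Finset.sum_congr rfl fun a _ => Finset.sum_comm, Finset.sum_comm]
      refine Finset.sum_eq_zero fun i _ => ?_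
      simp only [← Finset.sum_smul, h i, zero_smul]
    -- the linear map `N ↦ ∑ N a b • M a b`, and its transpose
    let Φ : Matrix (Fin 2) (Fin 2) k →ₗ[k] (Fin 3 → k) :=
      { toFun := fun N i => ∑ a, ∑ b, N a b * c a b i
        map_add' := fun N N' => by funext i; simp [add_mul, Finset.sum_add_distrib]
        map_smul' := fun t N => by funext i; simp [Fin.sum_univ_two]; ring }
    obtain ⟨N, hNker, hN0⟩ : ∃ N ∈ LinearMap.ker Φ, N ≠ 0 := by
      apply Submodule.exists_mem_ne_zero_of_ne_bot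
      intro h
      have := LinearMap.finrank_le_finrank_of_injective (LinearMap.ker_eq_bot.1 h)
      simp [Module.finrank_matrix] at this
    have hsing : ∀ N' ∈ LinearMap.ker Φ, N' ≠ 0 → N'.det = 0 →
        ∃ x y : Fin 2 → k, x ≠ 0 ∧ y ≠ 0 ∧ ∀ i, ∑ a, ∑ b, x a * y b * c a b i = 0 := by
      intro N' hk hne hd
      rw [Matrix.det_fin_two, sub_eq_zero] at hd
      obtain ⟨a₀, b₀, hab⟩ : ∃ a b, N' a b ≠ 0 := by
        by_contra! h; exact hne (Matrix.ext h)
      have hprod : ∀ a b, N' a b₀ * (N' a₀ b / N' a₀ b₀) = N' a b := by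
        intro a b
        rw [← mul_div_assoc, div_eq_iff hab]
        fin_cases a <;> fin_cases b <;> fin_cases a₀ <;> fin_cases b₀ <;>
          simp at hd ⊢ <;> grind
      refine ⟨fun a => N' a b₀, fun b => N' a₀ b / N' a₀ b₀, fun h => hab (congrFun h a₀),
        fun h => hab (by simpa [hab] using congrFun h b₀), fun i => ?_⟩
      simp only [hprod]
      exact congrFun (LinearMap.mem_ker.1 hk) i
    by_cases hdN : N.det = 0
    · exact hsing N hNker hN0 hdN
    by_cases hline : LinearMap.ker Φ ≤ k ∙ N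
    swap
    · obtain ⟨N', hN', hnot⟩ := SetLike.not_le_iff_exists.1 hline
      obtain ⟨t, ht⟩ : ∃ t : k, (N' - t • N).det = 0 := by
        obtain ⟨s, hs⟩ := IsAlgClosed.exists_eq_mul_self
          (discrim N.det (-(N' 0 0 * N 1 1 + N 0 0 * N' 1 1 - N' 0 1 * N 1 0 - N 0 1 * N' 1 0)) N'.det)
        obtain ⟨t, ht⟩ := exists_quadratic_eq_zero hdN ⟨s, hs⟩
        refine ⟨t, ?_⟩
        rw [← ht]
        simp [Matrix.det_fin_two]
        ring
      refine hsing _ (sub_mem hN' (Submodule.smul_mem _ t hNker)) (fun h => hnot ?_) ht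
      rw [sub_eq_zero.1 h]; exact Submodule.smul_mem _ t (Submodule.mem_span_singleton_self N)
    exfalso
    let Ψ : (Fin 3 → k) →ₗ[k] Matrix (Fin 2) (Fin 2) k :=
      { toFun := fun v => Matrix.of fun a b => c a b ⬝ᵥ v
        map_add' := fun v v' => by ext a b; simp [dotProduct_add]
        map_smul' := fun t v => by ext a b; simp [dotProduct_smul] }
    have hΦsurj : Function.Surjective Φ := by
      rw [← LinearMap.range_eq_top]
      apply Submodule.eq_top_of_finrank_eq
      have e := Φ.finrank_range_add_finrank_ker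
      have e2 : Module.finrank k (LinearMap.ker Φ) ≤ 1 :=
        (Submodule.finrank_mono hline).trans (finrank_span_singleton hN0).le
      have e3 := Submodule.finrank_le (LinearMap.range Φ)
      simp [Module.finrank_matrix] at e e3 ⊢
      omega
    have hpair : ∀ (N : Matrix (Fin 2) (Fin 2) k) v, Φ N ⬝ᵥ v = ∑ a, ∑ b, N a b * Ψ v a b := by
      intro N v
      simp [Φ, Ψ, dotProduct, Fin.sum_univ_two, Fin.sum_univ_three]
      ring
    have hΨinj : Function.Injective Ψ := by
      rw [injective_iff_map_eq_zero]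
      intro v hv
      funext i
      obtain ⟨B, hB⟩ := hΦsurj (Pi.single i 1)
      have := hpair B v
      simp [hB, hv] at this
      exact this
    let τ : Matrix (Fin 2) (Fin 2) k →ₗ[k] k :=
      { toFun := fun B => ∑ a, ∑ b, N a b * B a b
        map_add' := fun B B' => by simp [mul_add, Finset.sum_add_distrib]
        map_smul' := fun t B => by simp [Fin.sum_univ_two]; ring }
    have hW : LinearMap.range Ψ = LinearMap.ker τ := by
      have hle : LinearMap.range Ψ ≤ LinearMap.ker τ := by
        rintro _ ⟨v, rfl⟩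
        rw [LinearMap.mem_ker]
        show ∑ a, ∑ b, N a b * Ψ v a b = 0
        rw [← hpair, LinearMap.mem_ker.1 hNker, zero_dotProduct]
      refine Submodule.eq_of_le_of_finrank_le hle ?_
      have e := τ.finrank_range_add_finrank_ker
      have e1 : LinearMap.range τ ≠ ⊥ := by
        rw [Ne, LinearMap.range_eq_bot]
        intro h
        exact hN0 (Matrix.ext fun a b => by
          have := LinearMap.congr_fun h (Matrix.single a b 1)
          fin_cases a <;> fin_cases b <;> simpa [τ, Fin.sum_univ_two, Matrix.single] using this)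
      have e2 := Submodule.one_le_finrank_iff.2 e1
      rw [LinearMap.finrank_range_of_inj hΨinj, Module.finrank_fin_fun]
      simp [Module.finrank_matrix] at e
      omega
    have hdetv : ∀ v, (Ψ v).det = (p ⬝ᵥ v) * (q ⬝ᵥ v) := by
      intro v
      rw [← Groth.Misc6.linForm_eval, ← Groth.Misc6.linForm_eval q v, ← map_mul, ← hp, ← hq, ← hdet, RingHom.map_det]
      congr 1
      ext a b
      simp only [RingHom.mapMatrix_apply, Matrix.map_apply]
      rw [hc, Groth.Misc6.linForm_eval]
      rfl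
    obtain ⟨u, hu, hu0⟩ : ∃ u ∈ LinearMap.ker (Matrix.of ![p, q]).mulVecLin, u ≠ 0 := by
      apply Submodule.exists_mem_ne_zero_of_ne_bot
      intro h
      have := LinearMap.finrank_le_finrank_of_injective (LinearMap.ker_eq_bot.1 h)
      simp at this
    have hpu : p ⬝ᵥ u = 0 := by simpa [Matrix.mulVec] using congrFun (LinearMap.mem_ker.1 hu) 0
    have hqu : q ⬝ᵥ u = 0 := by simpa [Matrix.mulVec] using congrFun (LinearMap.mem_ker.1 hu) 1
    set A := Ψ u with hA
    have hpolar : ∀ B ∈ LinearMap.ker τ, A 0 0 * B 1 1 + A 1 1 * B 0 0 - A 0 1 * B 1 0 - A 1 0 * B 0 1 = 0 := by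
      intro B hB
      rw [← hW] at hB
      obtain ⟨v, rfl⟩ := hB
      have e1 := hdetv (u + v)
      have e2 := hdetv v
      have e3 := hdetv u
      rw [map_add, dotProduct_add, dotProduct_add, hpu, hqu] at e1
      rw [hpu, hqu] at e3
      rw [Matrix.det_fin_two] at e1 e2 e3
      simp only [← hA, Matrix.add_apply] at e1 e2 e3
      linear_combination e1 - e2 - e3
    have hτA : N 0 0 * A 0 0 + N 0 1 * A 0 1 + (N 1 0 * A 1 0 + N 1 1 * A 1 1) = 0 := by
      have hm : A ∈ LinearMap.ker τ := hW ▸ LinearMap.mem_range_self Ψ u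
      simpa [τ, Fin.sum_univ_two] using LinearMap.mem_ker.1 hm
    have hcross : ∀ a b a' b' : Fin 2, Matrix.single a b (N a' b') - Matrix.single a' b' (N a b) ∈ LinearMap.ker τ := by
      intro a b a' b'
      show ∑ i, ∑ j, N i j * _ = (0 : k)
      fin_cases a <;> fin_cases b <;> fin_cases a' <;> fin_cases b' <;> simp [Fin.sum_univ_two, Matrix.single] <;> ring
    have c1 := hpolar _ (hcross 0 0 0 1)
    have c2 := hpolar _ (hcross 0 0 1 0)
    have c3 := hpolar _ (hcross 0 0 1 1)
    have c4 := hpolar _ (hcross 0 1 1 0)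
    have c5 := hpolar _ (hcross 0 1 1 1)
    have c6 := hpolar _ (hcross 1 0 1 1)
    simp [Matrix.single] at c1 c2 c3 c4 c5 c6
    rw [Matrix.det_fin_two] at hdN
    have hdN2 : 2 * (N 0 0 * N 1 1 - N 0 1 * N 1 0) ≠ 0 := mul_ne_zero h2 hdN
    apply hu0
    apply hΨinj
    rw [map_zero, ← hA]
    -- `A` is proportional to `(N 1 1, -N 1 0; -N 0 1, N 0 0)` and orthogonal to `N`
    have z00 : A 0 0 = 0 := (mul_eq_zero.1 (show (2 * (N 0 0 * N 1 1 - N 0 1 * N 1 0)) * A 0 0 = 0 by
      linear_combination (N 1 1) * hτA + (-N 1 1) * c3 + (N 1 0) * c5 + (N 0 1) * c6)).resolve_left hdN2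
    have z11 : A 1 1 = 0 := (mul_eq_zero.1 (show (2 * (N 0 0 * N 1 1 - N 0 1 * N 1 0)) * A 1 1 = 0 by
      linear_combination (N 0 0) * hτA + (N 0 0) * c3 + (-N 1 0) * c1 + (-N 0 1) * c2)).resolve_left hdN2
    have z01 : A 0 1 = 0 := (mul_eq_zero.1 (show (2 * (N 0 0 * N 1 1 - N 0 1 * N 1 0)) * A 0 1 = 0 by
      linear_combination (-N 1 0) * hτA + (N 1 1) * c2 + (-N 1 0) * c4 + (-N 0 0) * c6)).resolve_left hdN2
    have z10 : A 1 0 = 0 := (mul_eq_zero.1 (show (2 * (N 0 0 * N 1 1 - N 0 1 * N 1 0)) * A 1 0 = 0 by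
      linear_combination (-N 0 1) * hτA + (N 1 1) * c1 + (N 0 1) * c4 + (-N 0 0) * c5)).resolve_left hdN2
    ext a b
    fin_cases a <;> fin_cases b <;> assumption
  · rintro ⟨g, h, e⟩
    set Cm := ((MvPolynomial.C : k →+* MvPolynomial (Fin 3) k).mapMatrix : Matrix (Fin 2) (Fin 2) k →+* _) with hCm
    set M' := Cm g.val * M * Cm h.val with hM'
    have hh : ∀ a b, (M' a b).IsHomogeneous 1 := by
      intro a b
      simp only [hM', hCm, Matrix.mul_apply, RingHom.mapMatrix_apply, Matrix.map_apply]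
      refine MvPolynomial.IsHomogeneous.sum _ _ _ fun j _ => ?_
      rw [mul_comm]
      exact (MvPolynomial.IsHomogeneous.sum _ _ _ fun i _ => (hM i j).C_mul _).C_mul _
    have hd : M'.det = MvPolynomial.C (g.val.det * h.val.det) * M.det := by
      rw [hM', Matrix.det_mul, Matrix.det_mul, hCm, ← RingHom.map_det, ← RingHom.map_det, map_mul]; ring
    have hne : g.val.det * h.val.det ≠ 0 := mul_ne_zero g.det_ne_zero h.det_ne_zero
    refine ⟨MvPolynomial.C (g.val.det * h.val.det)⁻¹ * M' 0 0, M' 1 1, (hh 0 0).C_mul _, hh 1 1, ?_⟩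
    have hdet' : M'.det = M' 0 0 * M' 1 1 := by rw [Matrix.det_fin_two, e]; ring
    rw [mul_assoc, ← hdet', hd, ← mul_assoc, ← map_mul, inv_mul_cancel₀ hne, map_one, one_mul]

end Groth.Agent.S13912
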