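import Groth.Statements.S13914
-- import your own Groth.Agent.* helpers here

set_option autoImplicit false
universe u
open PlaneConic

namespace Groth.Agent.S13914

/-- Over an algebraically closed field of characteristic zero, an invertible 3 × 3 matrix g, acting on
row vectors and so on the projective plane, fixes every point of the line u_0 = 0 if and only if g
is a nonzero scalar multiple of a matrix with rows (α, β, γ), (0, 1, 0), (0, 0, 1). -/
theorem result (k : Type u) [Field k] [IsAlgClosed k] [CharZero k]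
    (g : Matrix (Fin 3) (Fin 3) k) (hg : IsUnit g.det) :
    (∀ v : Fin 3 → k, v 0 = 0 → ∃ c : k, Matrix.vecMul v g = c • v) ↔
      ∃ c α β γ : k, c ≠ 0 ∧ g = c • !![α, β, γ; 0, 1, 0; 0, 0, 1] := by
  constructor
  · intro h
    obtain ⟨a, ha⟩ := h ![0, 1, 0] rfl
    obtain ⟨b, hb⟩ := h ![0, 0, 1] rfl
    obtain ⟨c, hc⟩ := h ![0, 1, 1] rfl
    have e := fun (v : Fin 3 → k) i => show Matrix.vecMul v g i = v 0 * g 0 i + v 1 * g 1 i + v 2 * g 2 i by
      simp [Matrix.vecMul, dotProduct, Fin.sum_univ_three]
    have a0 := congrFun ha 0; have a1 := congrFun ha 1; have a2 := congrFun ha 2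
    have b0 := congrFun hb 0; have b1 := congrFun hb 1; have b2 := congrFun hb 2
    have c1 := congrFun hc 1; have c2 := congrFun hc 2
    simp [e] at a0 a1 a2 b0 b1 b2 c1 c2
    have hab : b = a := by
      have hca : c = a := by rw [← c1, a1, b1, add_zero]
      rw [← hca, ← c2, a2, b2, zero_add]
    subst hab
    have hb0 : b ≠ 0 := by
      intro hb0
      apply hg.ne_zero
      rw [Matrix.det_fin_three, a0, a1, a2, b0, b1, b2, hb0]
      ring
    refine ⟨b, g 0 0 / b, g 0 1 / b, g 0 2 / b, hb0, ?_⟩
    ext i j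
    fin_cases i <;> fin_cases j <;> simp [a0, a1, a2, b0, b1, b2, mul_div_cancel₀ _ hb0]
  · rintro ⟨c, α, β, γ, -, rfl⟩ v hv
    refine ⟨c, ?_⟩
    funext i
    fin_cases i <;> simp [Matrix.vecMul, dotProduct, Fin.sum_univ_three, hv, mul_comm]

end Groth.Agent.S13914
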