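import Groth.Statements.S13915
import Groth.Agent.BlowUpVanish.SurfaceEuler
import Groth.Agent.PnCoh.Euler
import Groth.Agent.Duality.PnStalk
import Groth.Agent.CohTwo.ProjHilbert
import Groth.Agent.PlaneCurve.HypIdeal

set_option autoImplicit false
universe u
open CategoryTheory CategoryTheory.Limits AlgebraicGeometry
open BlowUp

namespace Groth.Agent.S13915

/-- On the blowing up σ : X ⟶ P²_k of the projective plane over an algebraically closed field k of
characteristic zero at a closed point, with E the ideal of the exceptional line and H the pull-back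
of O(1), one has χ(X, σ^*O(a) ⊗ E^b) = (a² + 3a)/2 − (b² + b)/2 + 1 for all integers a and natural
numbers b (the line bundle written aH − bL; the k-structure on X is the composite through σ). -/
theorem result (k : Type u) [Field k] [IsAlgClosed k] [CharZero k]
    (p : ↥(CohB1.ProjSpace 2 k)) (hp : IsClosed ({p} : Set ↥(CohB1.ProjSpace 2 k)))
    {X : Scheme.{u}} [X.Over (Spec (CommRingCat.of k))] (σ : X ⟶ CohB1.ProjSpace 2 k)
    (hσk : σ ≫ CohB1.ProjSpace.toSpec 2 k = X ↘ Spec (CommRingCat.of k))
    (hσ : BlowUp.IsBlowUp σ (Scheme.IdealSheafData.vanishingIdeal ⟨{p}, hp⟩)) (a : ℤ) (b : ℕ) :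
    Curv2.euler k X (CohB1.tensorMod ((Scheme.Modules.pullback σ).obj (Twist.twistProjSpace 2 k a))
      (ClSub.idealMod ((BlowUp.exceptional σ (Scheme.IdealSheafData.vanishingIdeal ⟨{p}, hp⟩)) ^ b))) =
      (a * a + 3 * a) / 2 - ((b : ℤ) * b + b) / 2 + 1 := by
  haveI : IsProper ((CohB1.ProjSpace 2 k) ↘ Spec (CommRingCat.of k)) :=
    Groth.Variety2.isProper_projSpace_toSpec 2 k
  haveI := Groth.Duality.Pn.isRegularLocalRing_stalk 2 k p
  have hdim : ringKrullDim ((CohB1.ProjSpace 2 k).presheaf.stalk p) = 2 := by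
    exact_mod_cast Groth.Duality.Pn.ringKrullDim_stalk 2 k hp
  rw [Groth.BlowUpVanish.euler_pullback_twist p hp hdim σ hσk hσ
    (Groth.PlaneCurve.isInvertible_twistProjSpace a) b]
  have hP : Curv2.euler k (CohB1.ProjSpace 2 k) (Twist.twistProjSpace 2 k a) = Ring.choose (a + 2) 2 := by
    have h1 := Groth.PnCoh.euler_twist k 2 a
    unfold Curv2.euler
    rw [finsum_eq_sum_of_support_subset (s := Finset.range 3) _ fun i hi => ?_]
    · exact_mod_cast h1
    · simp only [Function.mem_support] at hi
      by_contra h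
      simp only [Finset.coe_range, Set.mem_Iio, not_lt] at h
      refine hi ?_
      rw [Groth.PnCoh.finrank_eq_zero k 2 a i (by omega) (by omega), Nat.cast_zero, mul_zero]
  rw [hP]
  have h2 : 2 * Ring.choose (a + 2) 2 = (a + 2) * (a + 1) := by
    have h := Ring.descPochhammer_eq_factorial_smul_choose (a + 2) 2
    simp [descPochhammer_succ_right, Polynomial.smeval_mul, Polynomial.smeval_sub, Polynomial.smeval_X,
      Polynomial.smeval_one, Polynomial.smeval_natCast, Nat.factorial] at h
    linarith
  have h3 : 2 * ((b + 1).choose 2 : ℤ) = ((b : ℤ) + 1) * b := by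
    rw [← Ring.choose_natCast]
    have h := Ring.descPochhammer_eq_factorial_smul_choose ((b + 1 : ℕ) : ℤ) 2
    simp [descPochhammer_succ_right, Polynomial.smeval_mul, Polynomial.smeval_sub, Polynomial.smeval_X,
      Polynomial.smeval_one, Polynomial.smeval_natCast, Nat.factorial] at h
    push_cast
    linarith
  have ha : a * a + 3 * a = 2 * (Ring.choose (a + 2) 2 - 1) := by linear_combination -h2
  have hb' : (b : ℤ) * b + b = 2 * ((b + 1).choose 2 : ℤ) := by linear_combination -h3
  rw [ha, hb', Int.mul_ediv_cancel_left _ (by norm_num), Int.mul_ediv_cancel_left _ (by norm_num)]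
  ring

end Groth.Agent.S13915
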