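import Groth.Statements.S13916
import Mathlib
-- import your own Groth.Agent.* helpers here

set_option autoImplicit false
universe u
open PlaneConic

namespace Groth.Agent.S13916

/-- Over an algebraically closed field k of characteristic zero, with u_0, u_1, u_2 the coordinate
linear forms of k[X_0, X_1, X_2] and 2 × 2 matrices of linear forms compared up to M ↦ g M h with g,
h invertible scalar matrices: (1) the matrices with rows (u_1, 0), (u_0, u_2) and (u_2, 0), (u_0,
u_1) are not equivalent; (2) for α ≠ 0 the matrix with rows (u_1, 0), (αu_0 + βu_1 + γu_2, u_2) is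
equivalent to the one with rows (u_1, 0), (u_0, u_2). -/
theorem result (k : Type u) [Field k] [IsAlgClosed k] [CharZero k] :
    (¬ ∃ g h : GL (Fin 2) k,
      (MvPolynomial.C : k →+* MvPolynomial (Fin 3) k).mapMatrix g.val *
          !![MvPolynomial.X 1, 0; MvPolynomial.X 0, MvPolynomial.X 2] *
        (MvPolynomial.C : k →+* MvPolynomial (Fin 3) k).mapMatrix h.val =
      !![MvPolynomial.X 2, 0; MvPolynomial.X 0, MvPolynomial.X 1]) ∧
    (∀ α β γ : k, α ≠ 0 → ∃ g h : GL (Fin 2) k,
      (MvPolynomial.C : k →+* MvPolynomial (Fin 3) k).mapMatrix g.val *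
          !![MvPolynomial.X 1, 0;
             MvPolynomial.C α * MvPolynomial.X 0 + MvPolynomial.C β * MvPolynomial.X 1 + MvPolynomial.C γ * MvPolynomial.X 2,
             MvPolynomial.X 2] *
        (MvPolynomial.C : k →+* MvPolynomial (Fin 3) k).mapMatrix h.val =
      !![MvPolynomial.X 1, 0; MvPolynomial.X 0, MvPolynomial.X 2]) := by
  refine ⟨?_, fun α β γ hα => ?_⟩
  · rintro ⟨g, h, he⟩
    have hg : g.val.det ≠ 0 := g.det_ne_zero
    have hh : h.val.det ≠ 0 := h.det_ne_zero
    have e01 := congrFun (congrFun he 0) 1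
    simp [Matrix.mul_apply, Fin.sum_univ_two] at e01
    have x0 := congrArg (MvPolynomial.eval ![1, 0, 0]) e01
    have x1 := congrArg (MvPolynomial.eval ![0, 1, 0]) e01
    have x2 := congrArg (MvPolynomial.eval ![0, 0, 1]) e01
    simp at x0 x1 x2
    rw [Matrix.det_fin_two] at hg hh
    have h01 : h.val 0 1 = 0 := by
      by_contra hne
      have a := x1.resolve_right hne
      have b := x0.resolve_right hne
      exact hg (by rw [a, b]; ring)
    have h11 : h.val 1 1 ≠ 0 := fun h11 => hh (by rw [h01, h11]; ring)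
    have g01 : g.val 0 1 = 0 := x2.resolve_right h11
    have e00 := congrArg (MvPolynomial.eval ![0, 0, 1]) (congrFun (congrFun he 0) 0)
    simp [Matrix.mul_apply, Fin.sum_univ_two, g01] at e00
  · refine ⟨Matrix.GeneralLinearGroup.mkOfDetNeZero !![1, 0; -β / α, 1 / α] (by simp [Matrix.det_fin_two, hα]),
      Matrix.GeneralLinearGroup.mkOfDetNeZero !![1, 0; -γ, α] (by simp [Matrix.det_fin_two, hα]), ?_⟩
    have hC : MvPolynomial.C α⁻¹ * MvPolynomial.C α = (1 : MvPolynomial (Fin 3) k) := by
      rw [← map_mul, inv_mul_cancel₀ hα, map_one]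
    ext i j : 1
    fin_cases i <;> fin_cases j <;>
      simp [Matrix.mul_apply, Fin.sum_univ_two, Matrix.GeneralLinearGroup.mkOfDetNeZero, div_eq_mul_inv]
    · linear_combination (MvPolynomial.X 0) * hC
    · linear_combination (MvPolynomial.X 2) * hC

end Groth.Agent.S13916
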