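import Groth.Statements.S13919
import Mathlib
import Groth.Agent.Misc6.Pencil3

set_option autoImplicit false
universe u
open W4c1limliniiii

namespace Groth.Agent.S13919

open Polynomial in
/-- Over an algebraically closed field of characteristic p (zero allowed), fix three distinct points of
the affine line and indices 2 ≤ e_i ≤ d prime to p with ∑ (e_i − 1) = 2d − 2, and encode self-maps
of the projective line up to automorphisms of the target as base-point-free separable pencils of
polynomials of degree at most d. If p is positive, the first two indices are less than p and p ≤ d,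
then there is no separable degree-d self-map of the projective line with ramification index exactly
e_i at the i-th point; if p = 0 or d < p there is exactly one up to automorphisms of the target.
(The first clause includes the case d = p; with it, when all e_i are less than p, the three-point
count is one map if p = 0 or p > d and none otherwise.) -/
theorem result (k : Type u) [Field k] [IsAlgClosed k]
    (p : ℕ) [CharP k p] (d : ℕ) (P : Fin 3 → k) (hP : Function.Injective P)
    (e : Fin 3 → ℕ) (he : W4c1limliniiii.Admissible p d e) :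
    (p ≠ 0 → e 0 < p → e 1 < p → p ≤ d → W4c1limliniiii.ramMaps d P e = ∅) ∧
      (p = 0 ∨ d < p → ∃ V : Submodule k k[X], W4c1limliniiii.ramMaps d P e = {V}) := by
  obtain ⟨hed, hsum⟩ := he
  have hd : ∀ i, 2 ≤ e i ∧ e i ≤ d := fun i => ⟨(hed i).1, (hed i).2.1⟩
  classical
  obtain ⟨hsub, hiff⟩ := Groth.Misc6.Pencil.subsingleton_and_iff P e hP hd hsum
  constructor
  · intro hp0 h0 h1 hpd
    have hp : p.Prime := (CharP.char_is_prime_or_zero k p).resolve_right hp0
    have : Fact p.Prime := ⟨hp⟩
    set Q : k[X] := (X - C (P 2)) ^ (e 2 - p) with hQ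
    have hQ0 : Q ≠ 0 := pow_ne_zero _ (X_sub_C_ne_zero _)
    set V := Submodule.span k {Q * X ^ p, Q}
    have hQd : Q.natDegree + p ≤ d := by
      rw [hQ, natDegree_pow, natDegree_X_sub_C, mul_one]; have := (hd 2).2; omega
    have hdeg : (Q * X ^ p).natDegree = Q.natDegree + p := by
      rw [natDegree_mul hQ0 (pow_ne_zero _ X_ne_zero), natDegree_X_pow]
    have hmem : ∀ a : k, Q * (X - C a) ^ p ∈ V := fun a => by
      refine Submodule.mem_span_pair.2 ⟨1, -(a ^ p), ?_⟩
      rw [sub_pow_char, ← map_pow, one_smul, smul_eq_C_mul, map_neg]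
      ring
    rw [hiff]
    refine ⟨V, ⟨Submodule.span_le.2 ?_, ?_, fun i => ?_⟩, ?_⟩
    · intro s hs
      rcases hs with rfl | rfl <;> refine Groth.Misc6.Pencil.mem_of_natDegree_le ?_ <;> omega
    · have hli : LinearIndependent k ![Q * X ^ p, Q] := by
        rw [LinearIndependent.pair_iff' (mul_ne_zero hQ0 (pow_ne_zero _ X_ne_zero))]
        intro c hc
        by_cases hc0 : c = 0
        · exact hQ0 (by rw [← hc, hc0, zero_smul])
        · have := congrArg natDegree hc
          rw [natDegree_smul _ hc0, hdeg] at this
          have := hp.pos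
          omega
      show Module.finrank k (Submodule.span k {Q * X ^ p, Q}) = 2
      rw [← Matrix.range_cons_cons_empty (Q * X ^ p) Q ![], finrank_span_eq_card hli]; simp
    · refine ⟨_, hmem (P i), mul_ne_zero hQ0 (pow_ne_zero _ (X_sub_C_ne_zero _)), ?_⟩
      fin_cases i
      · exact (pow_dvd_pow _ h0.le).trans (dvd_mul_left _ _)
      · exact (pow_dvd_pow _ h1.le).trans (dvd_mul_left _ _)
      · show (X - C (P 2)) ^ e 2 ∣ Q * (X - C (P 2)) ^ p
        rw [hQ, ← pow_add]
        exact pow_dvd_pow _ (by omega)
    · rw [Groth.Misc6.Pencil.isSeparable_span_pair]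
      simp [Polynomial.wronskian, derivative_mul, derivative_X_pow]
      ring
  · intro hp
    suffices hne : W4c1limliniiii.ramMaps d P e ≠ ∅ by
      obtain ⟨V, hV⟩ := Set.nonempty_iff_ne_empty.2 hne
      exact ⟨V, hsub.eq_singleton_of_mem hV⟩
    rw [Ne, hiff]
    rintro ⟨V, hV, hns⟩
    obtain ⟨v, hv, hv0, rfl⟩ := Groth.Misc6.Pencil.exists_of_sch P e hP hd hsum hV
    obtain ⟨d1, d2, -⟩ := (Groth.Misc6.Pencil.mem_L P e).1 hv
    obtain ⟨h1, h2, -, hli⟩ := Groth.Misc6.Pencil.indep P e hP hd hsum hv hv0
    rw [Groth.Misc6.Pencil.isSeparable_span_pair, not_not] at hns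
    have hcast : ∀ m l : ℕ, m ≤ d → l ≤ d → (m : k) = (l : k) → m = l := by
      intro m l hm hl h
      rcases hp with rfl | hp
      · have := CharP.charP_to_charZero k
        exact_mod_cast h
      · exact CharP.natCast_injOn_Iio k p (Set.mem_Iio.2 (by omega)) (Set.mem_Iio.2 (by omega)) h
    by_cases hd12 : v.1.natDegree = v.2.natDegree
    · set c := v.2.leadingCoeff / v.1.leadingCoeff
      set G := v.2 - c • v.1 with hG
      have hG0 : G ≠ 0 := by
        rw [LinearIndependent.pair_iff' h1] at hli
        exact fun h => hli c (sub_eq_zero.1 h).symm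
      have hc : c * v.1.leadingCoeff = v.2.leadingCoeff := div_mul_cancel₀ _ (leadingCoeff_ne_zero.2 h1)
      have hlt : G.natDegree ≠ v.1.natDegree := by
        intro he'
        refine hG0 (leadingCoeff_eq_zero.1 ?_)
        rw [leadingCoeff, he', hG, coeff_sub, coeff_smul, coeff_natDegree, smul_eq_mul, hc, hd12, coeff_natDegree,
          sub_self]
      have hle : G.natDegree ≤ d := (natDegree_sub_le _ _).trans (max_le d2 ((natDegree_smul_le _ _).trans d1))
      refine Groth.Misc6.Pencil.wronskian_ne_zero_of_natDegree h1 hG0 (fun h => hlt (hcast _ _ hle d1 h)) ?_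
      rw [hG]
      simp only [Polynomial.wronskian, smul_eq_C_mul, derivative_sub, derivative_mul, derivative_C, zero_mul,
        zero_add] at hns ⊢
      linear_combination hns
    · exact Groth.Misc6.Pencil.wronskian_ne_zero_of_natDegree h1 h2 (fun h => hd12 (hcast _ _ d2 d1 h).symm) hns

end Groth.Agent.S13919
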