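import Groth.Statements.S13920
import Mathlib
import Groth.Agent.Misc6.Pencil3
import Groth.Agent.S19560

set_option autoImplicit false
universe u
open W4c1limliniiii

namespace Groth.Agent.S13920

open Polynomial in
/-- Over an algebraically closed field of prime characteristic p, fix n points of the affine line with
ramification indices e_i < p, and at infinity an index E with p < E and E prime to p, the datum (E,
e_1, …, e_n) being admissible for degree d (each index between 2 and d, ∑ (index − 1) = 2d − 2). If
one separable degree-d self-map of the projective line (up to automorphisms of the target, encoded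
as a base-point-free separable pencil of polynomials of degree at most d) has ramification index
exactly e_i at the i-th point and exactly E at infinity, then infinitely many do: the set of such
pencils is empty or infinite. (The consequence for general points, that no such map exists, is not
restated.) -/
theorem result
    (k : Type u) [Field k] [IsAlgClosed k] (p : ℕ) [Fact p.Prime] [CharP k p]
    (d n : ℕ) (P : Fin n → k) (e : Fin n → ℕ) (E : ℕ)
    (he : W4c1limliniiii.Admissible p d (Fin.cons E e : Fin (n + 1) → ℕ))
    (hlt : ∀ i, e i < p) (hE : p < E) :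
    {V : Submodule k k[X] | V ∈ W4c1limliniiii.ramMaps d P e ∧ W4c1limliniiii.HasRamIdxInf d V E} = ∅ ∨
      {V : Submodule k k[X] | V ∈ W4c1limliniiii.ramMaps d P e ∧
        W4c1limliniiii.HasRamIdxInf d V E}.Infinite := by
  classical
  refine or_iff_not_imp_left.2 fun hne => ?_
  obtain ⟨V, ⟨⟨hle, h2, ⟨F₀, hF₀, hF₀d⟩, hbp⟩, hsep, hidx⟩, ⟨G, hG, hG0, hGd⟩, hinf⟩ :=
    Set.nonempty_iff_ne_empty.2 hne
  have hEd : E ≤ d := by simpa using (he.1 0).2.1
  have hp : 0 < p := (Fact.out (p := p.Prime)).pos
  have hGdeg : G.natDegree = d - E := by have := hinf G hG hG0; omega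
  have hF₀0 : F₀ ≠ 0 := by rintro rfl; simp at hF₀d; omega
  have hli : LinearIndependent k ![F₀, G] := by
    rw [LinearIndependent.pair_iff' hF₀0]
    intro c hc
    by_cases hc0 : c = 0
    · exact hG0 (by rw [← hc, hc0, zero_smul])
    · have := congrArg natDegree hc
      rw [natDegree_smul _ hc0] at this
      omega
  haveI : Module.Finite k V := Module.finite_of_finrank_eq_succ h2
  have hspan : Submodule.span k {F₀, G} = V := by
    refine Submodule.eq_of_le_of_finrank_le (Submodule.span_le.2 ?_) ?_
    · intro t ht
      rcases ht with rfl | rfl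
      · exact hF₀
      · exact hG
    · rw [h2, ← Matrix.range_cons_cons_empty F₀ G ![], finrank_span_eq_card hli]; simp
  subst hspan
  let F : k → k[X] := fun t => F₀ + t • (X ^ p * G)
  have hXG : (X ^ p * G).natDegree = p + (d - E) := by
    rw [natDegree_mul (pow_ne_zero _ X_ne_zero) hG0, natDegree_X_pow, hGdeg]
  have hFd : ∀ t, (F t).natDegree = d := fun t => by
    show (F₀ + t • (X ^ p * G)).natDegree = d
    rw [natDegree_add_eq_left_of_natDegree_lt, hF₀d]
    exact lt_of_le_of_lt (natDegree_smul_le _ _) (by omega)
  have hF0 : ∀ t, F t ≠ 0 := fun t h => by have := hFd t; rw [h] at this; simp at this; omega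
  have hliT : ∀ t, LinearIndependent k ![F t, G] := by
    intro t
    rw [LinearIndependent.pair_iff' (hF0 t)]
    intro c hc
    by_cases hc0 : c = 0
    · exact hG0 (by rw [← hc, hc0, zero_smul])
    · have := congrArg natDegree hc
      rw [natDegree_smul _ hc0, hFd] at this
      omega
  have hW : ∀ t, Polynomial.wronskian (F t) G = Polynomial.wronskian F₀ G := fun t => by
    simp [F, Polynomial.wronskian, derivative_mul, derivative_X_pow, smul_eq_C_mul]
    ring
  have hW0 : Polynomial.wronskian F₀ G ≠ 0 := (Groth.Misc6.Pencil.isSeparable_span_pair _ _).1 hsep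
  have hpen : ∀ t, W4c1limliniiii.IsPencil d (Submodule.span k {F t, G}) := fun t => by
    refine ⟨Submodule.span_le.2 ?_, ?_, ⟨F t, Submodule.subset_span (by simp), hFd t⟩, fun a => ?_⟩
    · intro s hs
      rcases hs with rfl | rfl <;> refine Groth.Misc6.Pencil.mem_of_natDegree_le ?_
      · exact (hFd t).le
      · omega
    · rw [← Matrix.range_cons_cons_empty (F t) G ![], finrank_span_eq_card (hliT t)]; simp
    · by_contra h
      push Not at h
      have hG' : G.eval a = 0 := h G (Submodule.subset_span (by simp))
      have hF' : F₀.eval a = 0 := by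
        have h' := h (F t) (Submodule.subset_span (by simp))
        simpa [F, hG'] using h'
      obtain ⟨s, hs, hs'⟩ := hbp a
      obtain ⟨x, y, rfl⟩ := Submodule.mem_span_pair.1 hs
      simp [hF', hG'] at hs'
  have hmem : ∀ t, Submodule.span k {F t, G} ∈ W4c1limliniiii.ramMaps d P e ∧
      W4c1limliniiii.HasRamIdxInf d (Submodule.span k {F t, G}) E := by
    intro t
    refine ⟨⟨hpen t, (Groth.Misc6.Pencil.isSeparable_span_pair _ _).2 (by rw [hW]; exact hW0), fun i => ?_⟩, ?_⟩
    · obtain ⟨⟨S, hS, hS0, hSr⟩, hmax⟩ := hidx i
      have hord : (Polynomial.wronskian F₀ G).rootMultiplicity (P i) + 1 = e i := by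
        have hpd : ¬ p ∣ e i := by simpa using (he.1 i.succ).2.2
        have h2e : 2 ≤ e i := by simpa using (he.1 i.succ).1
        -- from the tame ramification of the given map
        have hge : e i - 1 ≤ (Polynomial.wronskian F₀ G).rootMultiplicity (P i) := by
          obtain ⟨x, y, rfl⟩ := Submodule.mem_span_pair.1 hS
          have hd' := (le_rootMultiplicity_iff hS0).1 hSr
          rw [le_rootMultiplicity_iff hW0]
          by_cases hx : x = 0
          · have hy : y ≠ 0 := fun hy => hS0 (by simp [hx, hy])
            have h := Groth.Misc6.Pencil.pow_sub_one_dvd_wronskian F₀ hd'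
            rw [show Polynomial.wronskian (x • F₀ + y • G) F₀ = C (-y) * Polynomial.wronskian F₀ G by
              simp [hx, Polynomial.wronskian, smul_eq_C_mul, derivative_mul]; ring] at h
            exact (isUnit_C.2 (neg_ne_zero.2 hy).isUnit).dvd_mul_left.1 h
          · have h := Groth.Misc6.Pencil.pow_sub_one_dvd_wronskian G hd'
            rw [show Polynomial.wronskian (x • F₀ + y • G) G = C x * Polynomial.wronskian F₀ G by
              simp [Polynomial.wronskian, smul_eq_C_mul, derivative_mul]; ring] at h
            exact (isUnit_C.2 (Ne.isUnit hx)).dvd_mul_left.1 h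
        by_contra hne'
        have hgt : e i ≤ (Polynomial.wronskian F₀ G).rootMultiplicity (P i) := by omega
        -- a member with exact order and a partner not vanishing at the point
        obtain ⟨U, hU, hU0⟩ := hbp (P i)
        obtain ⟨c, hc⟩ : ∃ c, Polynomial.wronskian S U = C c * Polynomial.wronskian F₀ G := by
          obtain ⟨x, y, rfl⟩ := Submodule.mem_span_pair.1 hS
          obtain ⟨z, w, rfl⟩ := Submodule.mem_span_pair.1 hU
          exact ⟨_, Groth.Misc6.Pencil.wronskian_smul_add _ _ _ _ _ _⟩
        have hSe : S.rootMultiplicity (P i) = e i := le_antisymm (hmax S hS hS0) hSr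
        obtain ⟨q, hq, hqa⟩ := Polynomial.exists_eq_pow_rootMultiplicity_mul_and_not_dvd S hS0 (P i)
        rw [hSe] at hq
        rw [Polynomial.dvd_iff_isRoot] at hqa
        obtain ⟨j, hj⟩ := Nat.exists_eq_add_of_le' (show 1 ≤ e i by omega)
        have hd' : (X - C (P i)) ^ (j + 1) ∣ Polynomial.wronskian S U := by
          rw [hc]
          exact (hj ▸ (le_rootMultiplicity_iff hW0).1 hgt).mul_left _
        rw [hq, hj, Polynomial.wronskian, derivative_mul, derivative_X_sub_C_pow, Nat.add_sub_cancel, pow_succ] at hd'
        have e1 : (X - C (P i)) ^ j * (X - C (P i)) * q * derivative U -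
            (C ((j + 1 : ℕ) : k) * (X - C (P i)) ^ j * q + (X - C (P i)) ^ j * (X - C (P i)) * derivative q) * U =
            (X - C (P i)) ^ j * ((X - C (P i)) * (q * derivative U - derivative q * U) - C ((j + 1 : ℕ) : k) * q * U) := by
          ring
        rw [e1, mul_dvd_mul_iff_left (pow_ne_zero _ (X_sub_C_ne_zero _)), dvd_iff_isRoot, IsRoot] at hd'
        simp only [eval_sub, eval_mul, eval_X, eval_C, sub_self, zero_mul, zero_sub, neg_eq_zero, mul_eq_zero] at hd'
        rcases hd' with (h' | h') | h'
        · exact hpd (hj ▸ (CharP.cast_eq_zero_iff k p (j + 1)).1 h')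
        · exact hqa h'
        · exact hU0 h'
      exact (Groth.Agent.S19560.result k p d (F t) G (hpen t) (by rw [hW]; exact hW0) (P i) (e i)
        (by rw [hW]; exact hord) (Or.inr (by have := hlt i; omega))).1
    · refine ⟨⟨G, Submodule.subset_span (by simp), hG0, hGd⟩, fun s hs hs0 => ?_⟩
      obtain ⟨x, y, rfl⟩ := Submodule.mem_span_pair.1 hs
      by_cases hx : x = 0
      · have hy : y ≠ 0 := fun hy => hs0 (by simp [hx, hy])
        rw [hx, zero_smul, zero_add, natDegree_smul _ hy]; omega
      · rw [natDegree_add_eq_left_of_natDegree_lt, natDegree_smul _ hx, hFd]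
        · omega
        · rw [natDegree_smul _ hx, hFd]; exact lt_of_le_of_lt (natDegree_smul_le _ _) (by omega)
  refine Set.infinite_of_injective_forall_mem (f := fun t : k => Submodule.span k {F t, G}) ?_ hmem
  intro t s hts
  have h1 : F s ∈ Submodule.span k {F t, G} := by
    simp only at hts
    rw [hts]; exact Submodule.subset_span (by simp)
  obtain ⟨x, y, hxy⟩ := Submodule.mem_span_pair.1 h1
  have hEG : ∀ j, d - E < j → G.coeff j = 0 := fun j hj => coeff_eq_zero_of_natDegree_lt (by omega)
  have e1 := congrArg (fun f => Polynomial.coeff f d) hxy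
  have e2 := congrArg (fun f => Polynomial.coeff f (p + (d - E))) hxy
  have hXd : (X ^ p * G).coeff d = 0 := coeff_eq_zero_of_natDegree_lt (by omega)
  simp only [F, coeff_add, coeff_smul, smul_eq_mul, hXd, hEG d (by omega), mul_zero, add_zero] at e1
  have hlc : F₀.coeff d ≠ 0 := by rw [← hF₀d, coeff_natDegree]; exact leadingCoeff_ne_zero.2 hF₀0
  have hx1 : x = 1 := mul_right_cancel₀ hlc (by rw [one_mul]; exact e1)
  simp only [F, hx1, coeff_add, coeff_smul, smul_eq_mul, hEG (p + (d - E)) (by omega), mul_zero, add_zero, one_mul] at e2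
  have hne3 : (X ^ p * G).coeff (p + (d - E)) ≠ 0 := by
    rw [← hXG, coeff_natDegree]; exact leadingCoeff_ne_zero.2 (mul_ne_zero (pow_ne_zero _ X_ne_zero) hG0)
  exact mul_right_cancel₀ hne3 (add_left_cancel e2)

end Groth.Agent.S13920
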