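import Groth.Statements.S13923
import Mathlib
import Groth.Agent.FourPt.Count

set_option autoImplicit false
universe u
open W4c1limliniiii

namespace Groth.Agent.S13923

/-- The least of the indices and their complements. -/
noncomputable def M4 (d : ℕ) (e : Fin 4 → ℕ) : ℕ :=
  Finset.univ.inf' Finset.univ_nonempty (fun i => min (e i) (d + 1 - e i))

theorem M4_comp (d : ℕ) (e : Fin 4 → ℕ) (τ : Equiv.Perm (Fin 4)) : M4 d (e ∘ τ) = M4 d e := by
  refine le_antisymm (Finset.le_inf' _ _ fun i _ => ?_) (Finset.le_inf' _ _ fun i _ => ?_)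
  · refine (Finset.inf'_le _ (Finset.mem_univ (τ.symm i))).trans ?_
    simp
  · exact Finset.inf'_le (f := fun i => min (e i) (d + 1 - e i)) (Finset.mem_univ (τ i))

theorem M4_sorted (d : ℕ) (f : Fin 4 → ℕ) (h01 : f 1 ≤ f 0) (h12 : f 2 ≤ f 1) (h23 : f 3 ≤ f 2) :
    M4 d f = min (d + 1 - f 0) (f 3) := by
  refine le_antisymm (le_min ?_ ?_) (Finset.le_inf' _ _ fun i _ => ?_)
  · exact (Finset.inf'_le _ (Finset.mem_univ 0)).trans (min_le_right _ _)
  · exact (Finset.inf'_le _ (Finset.mem_univ 3)).trans (min_le_left _ _)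
  · fin_cases i <;> simp only [Fin.zero_eta, Fin.mk_one, Fin.reduceFinMk] <;> omega

theorem exists_sorted (e : Fin 4 → ℕ) : ∃ τ : Equiv.Perm (Fin 4),
    e (τ 1) ≤ e (τ 0) ∧ e (τ 2) ≤ e (τ 1) ∧ e (τ 3) ≤ e (τ 2) := by
  refine ⟨Fin.revPerm.trans (Tuple.sort e), ?_, ?_, ?_⟩ <;>
    exact Tuple.monotone_sort e (by decide)

theorem ramMaps_comp {k : Type u} [Field k] (d : ℕ) (P : Fin 4 → k) (e : Fin 4 → ℕ) (τ : Equiv.Perm (Fin 4)) :
    W4c1limliniiii.ramMaps d (P ∘ τ) (e ∘ τ) = W4c1limliniiii.ramMaps d P e := by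
  ext V
  exact ⟨fun h => ⟨h.1, h.2.1, fun i => by simpa using h.2.2 (τ.symm i)⟩,
    fun h => ⟨h.1, h.2.1, fun i => h.2.2 (τ i)⟩⟩

theorem count_small {k : Type u} [Field k] [IsAlgClosed k] (p : ℕ) [CharP k p] (d : ℕ) (hd : p = 0 ∨ d < p)
    (f : Fin 4 → ℕ) (h1 : ∀ i, 1 ≤ f i) (h2 : ∀ i, f i ≤ d) (hsum : (∑ i, f i) + 2 = 2 * d + 4) :
    ∃ Φ : MvPolynomial (Fin 4) k, Φ ≠ 0 ∧ ∀ P : Fin 4 → k, MvPolynomial.eval P Φ ≠ 0 →
      (W4c1limliniiii.ramMaps d P f).Finite ∧ Nat.card (W4c1limliniiii.ramMaps d P f) = M4 d f := by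
  obtain ⟨τ, t1, t2, t3⟩ := exists_sorted f
  rw [← Equiv.sum_comp τ, Fin.sum_univ_four] at hsum
  let D : Groth.FourPt.Dat := ⟨d, f ∘ τ, fun i => h1 _, fun i => h2 _, t1, t2, t3, by
    simp only [Function.comp_apply]; omega⟩
  obtain ⟨Φ, hΦ, h⟩ := Groth.FourPt.count (k := k) (D := D) (p := p) hd
  refine ⟨MvPolynomial.rename τ Φ,
    (map_ne_zero_iff _ (MvPolynomial.rename_injective _ τ.injective)).2 hΦ, fun P hP => ?_⟩
  rw [MvPolynomial.eval_rename] at hP
  have h' := h (P ∘ τ) hP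
  rw [← ramMaps_comp d P f τ, ← M4_comp d f τ, M4_sorted d (f ∘ τ) t1 t2 t3]
  exact h'

theorem count_all {k : Type u} [Field k] [IsAlgClosed k] (p : ℕ) [CharP k p] (d : ℕ) (e : Fin 4 → ℕ)
    (he : W4c1limliniiii.Admissible p d e) (hlt : ∀ i, p = 0 ∨ e i < p) :
    ∃ Φ : MvPolynomial (Fin 4) k, Φ ≠ 0 ∧ ∀ P : Fin 4 → k, MvPolynomial.eval P Φ ≠ 0 →
      (W4c1limliniiii.ramMaps d P e).Finite ∧
        Nat.card (W4c1limliniiii.ramMaps d P e) = if p = 0 then M4 d e else M4 d e - (d + 1 - p) := by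
  have he1 : ∀ i, 1 ≤ e i := fun i => by have := (he.1 i).1; omega
  by_cases hsmall : p = 0 ∨ d < p
  · obtain ⟨Φ, hΦ, h⟩ := count_small (k := k) p d hsmall e he1 (fun i => (he.1 i).2.1) he.2
    refine ⟨Φ, hΦ, fun P hP => ⟨(h P hP).1, ?_⟩⟩
    rw [(h P hP).2]
    split_ifs with h0
    · rfl
    · have := hsmall.resolve_left h0
      omega
  rw [not_or, not_lt] at hsmall
  obtain ⟨hp0, hpd⟩ := hsmall
  rw [if_neg hp0]
  have hp : p.Prime := (CharP.char_is_prime_or_zero k p).resolve_right hp0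
  obtain ⟨τ, t1, t2, t3⟩ := exists_sorted e
  set f : Fin 4 → ℕ := e ∘ τ with hf
  have hadm : W4c1limliniiii.Admissible p d f := ⟨fun i => he.1 (τ i), by
    rw [hf, Function.comp_def, Equiv.sum_comp τ]; exact he.2⟩
  have hflt : ∀ i, f i < p := fun i => (hlt (τ i)).resolve_left hp0
  obtain ⟨Φ₁, hΦ₁, hflip⟩ := Groth.RamGeneric.flip_generic (k := k) p hp f hadm hflt 0 1 (by decide)
  have hsum := hadm.2
  rw [Fin.sum_univ_four] at hsum
  set g := Groth.RamGeneric.flipE p f 0 1 with hg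
  have g0 : g 0 = p - f 0 := by simp [hg, Groth.RamGeneric.flipE]
  have g1 : g 1 = p - f 1 := by simp [hg, Groth.RamGeneric.flipE]
  have g2 : g 2 = f 2 := by simp [hg, Groth.RamGeneric.flipE]
  have g3 : g 3 = f 3 := by simp [hg, Groth.RamGeneric.flipE]
  have b0 := hflt 0; have b1 := hflt 1
  have c0 := (hadm.1 0).2.1; have c1 := (hadm.1 1).2.1
  have a2 := (hadm.1 2).1; have a3 := (hadm.1 3).1
  have hM : M4 d e = min (d + 1 - f 0) (f 3) := by rw [← M4_comp d e τ, M4_sorted d f t1 t2 t3]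
  have hf01 : f 1 ≤ f 0 := t1
  have hf12 : f 2 ≤ f 1 := t2
  have hf23 : f 3 ≤ f 2 := t3
  have hkey : ∃ Φ : MvPolynomial (Fin 4) k, Φ ≠ 0 ∧ ∀ P : Fin 4 → k, MvPolynomial.eval P Φ ≠ 0 →
      Nat.card (W4c1limliniiii.ramMaps (d + p - f 0 - f 1) P g) = M4 d e - (d + 1 - p) := by
    by_cases hsm : d + p - f 0 - f 1 < f 2
    · refine ⟨1, one_ne_zero, fun P _ => ?_⟩
      haveI : IsEmpty (W4c1limliniiii.ramMaps (d + p - f 0 - f 1) P g) := ⟨fun ⟨V, hV⟩ => by
        obtain ⟨A, hA, -, hA0⟩ := Groth.RamGeneric.exists_of_mem hV 2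
        have h1 := Groth.Misc6.Pencil.natDegree_le_of_mem (hV.1.1 hA)
        rw [Groth.FourPt.natDegree_pow_X_sub_C_mul _ _ hA0] at h1
        omega⟩
      rw [Nat.card_of_isEmpty, hM]
      omega
    · obtain ⟨Φ, hΦ, h⟩ := count_small (k := k) p (d + p - f 0 - f 1) (.inr (by omega)) g
        (fun i => by fin_cases i <;> simp only [Fin.zero_eta, Fin.mk_one, Fin.reduceFinMk] <;> omega)
        (fun i => by fin_cases i <;> simp only [Fin.zero_eta, Fin.mk_one, Fin.reduceFinMk] <;> omega)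
        (by rw [Fin.sum_univ_four]; omega)
      refine ⟨Φ, hΦ, fun P hP => ?_⟩
      rw [(h P hP).2, hM]
      refine le_antisymm ?_ (Finset.le_inf' _ _ fun i _ => ?_)
      · have i0 : M4 (d + p - f 0 - f 1) g ≤ min (g 0) (d + p - f 0 - f 1 + 1 - g 0) :=
          Finset.inf'_le _ (Finset.mem_univ (0 : Fin 4))
        have i2 : M4 (d + p - f 0 - f 1) g ≤ min (g 2) (d + p - f 0 - f 1 + 1 - g 2) :=
          Finset.inf'_le _ (Finset.mem_univ (2 : Fin 4))
        omega
      · fin_cases i <;> simp only [Fin.zero_eta, Fin.mk_one, Fin.reduceFinMk] <;> omega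
  obtain ⟨Φ₂, hΦ₂, hcnt⟩ := hkey
  refine ⟨MvPolynomial.rename τ (Φ₁ * Φ₂),
    (map_ne_zero_iff _ (MvPolynomial.rename_injective _ τ.injective)).2 (mul_ne_zero hΦ₁ hΦ₂), fun P hP => ?_⟩
  rw [MvPolynomial.eval_rename, map_mul, mul_ne_zero_iff] at hP
  obtain ⟨hfin, -, hc⟩ := hflip (P ∘ τ) hP.1
  rw [← ramMaps_comp d P e τ]
  exact ⟨hfin, hc.trans (hcnt (P ∘ τ) hP.2)⟩

open Polynomial in
/-- Over an algebraically closed field of characteristic p (zero allowed), let (d; e_1, …, e_4) be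
admissible (2 ≤ e_i ≤ d, e_i prime to p, ∑ (e_i − 1) = 2d − 2) with every e_i < p when p is
positive. Then the number of separable self-maps of the projective line of degree d ramified to
order exactly e_i at four general points (configurations of the affine line off the zero set of a
non-zero polynomial), counted up to automorphisms of the target as base-point-free separable pencils
of polynomials, equals min over i of min (e_i, d + 1 − e_i), less max (0, d + 1 − p) when p is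
positive. (Subtraction here is that of the natural numbers, truncated at zero: read over the
integers the closed form is negative for some admissible data, for instance indices 6, 6, 6, 2 in
characteristic 7, where the count is 0; the assertion that the maps have no non-trivial deformations
is not restated.) -/
theorem result (k : Type u) [Field k] [IsAlgClosed k]
    (p : ℕ) [CharP k p] (d : ℕ) (e : Fin 4 → ℕ) (he : W4c1limliniiii.Admissible p d e)
    (hlt : ∀ i, p = 0 ∨ e i < p) :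
    (p ≠ 0 → W4c1limliniiii.HasGenericCount (k := k) d e
      (Finset.univ.inf' Finset.univ_nonempty (fun i => min (e i) (d + 1 - e i)) - (d + 1 - p))) ∧
    (p = 0 → W4c1limliniiii.HasGenericCount (k := k) d e
      (Finset.univ.inf' Finset.univ_nonempty (fun i => min (e i) (d + 1 - e i)))) := by
  obtain ⟨Φ, hΦ, h⟩ := count_all (k := k) p d e he hlt
  refine ⟨fun hp => ⟨Φ, hΦ, fun P hP => ⟨(h P hP).1, ?_⟩⟩, fun hp => ⟨Φ, hΦ, fun P hP => ⟨(h P hP).1, ?_⟩⟩⟩
  · rw [(h P hP).2, if_neg hp]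
    rfl
  · rw [(h P hP).2, if_pos hp]
    rfl

end Groth.Agent.S13923
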