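import Groth.Statements.S13925
-- import your own Groth.Agent.* helpers here

set_option autoImplicit false
universe u v w x
open W4c1limliniiii

namespace Groth.Agent.S13925

/-- Let k be a field and U, E, W vector spaces over k with linear maps f : U → E, g' : E → U, f₂ : E → W
and g : W → E such that g' ∘ f = 0, the kernel of f₂ is contained in the image of g, and the image
of g meets the kernel of g' only in 0 — the conditions holding at a point of a linked Grassmannian
at which the linking scalar vanishes. Let V₁ ≤ U and V₂ ≤ E be subspaces and let C' ≤ V₂ be a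
subspace contained in the kernel of g' and meeting f(V₁) only in 0. Then the subspaces f(V₁), ker f₂
∩ V₂ and C' of E are independent: their sum is direct. (The published statement is for two
consecutive members V_{i-1}, V_i of a point of a linked Grassmannian at which the linking scalar
vanishes and adds the decomposition V_i = f(V_{i-1}) ⊕ (ker f_i ∩ V_i) ⊕ C with C ⊇ C'; this row
states the independence, with only the three conditions the argument uses.) -/
theorem result (k : Type u) [Field k]
    (U : Type v) (E : Type w) (W : Type x) [AddCommGroup U] [Module k U] [AddCommGroup E]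
    [Module k E] [AddCommGroup W] [Module k W]
    (f : U →ₗ[k] E) (g' : E →ₗ[k] U) (f₂ : E →ₗ[k] W) (g : W →ₗ[k] E)
    (hgf : g'.comp f = 0) (hII : LinearMap.ker f₂ ≤ LinearMap.range g)
    (hIII : LinearMap.range g ⊓ LinearMap.ker g' = ⊥)
    (V₁ : Submodule k U) (V₂ : Submodule k E) (C' : Submodule k E) (hC : C' ≤ V₂)
    (hCg : C' ≤ LinearMap.ker g') (hCf : Submodule.map f V₁ ⊓ C' = ⊥) :
    iSupIndep ![Submodule.map f V₁, LinearMap.ker f₂ ⊓ V₂, C'] := by
  have hgK : Submodule.map f V₁ ≤ LinearMap.ker g' :=
    (LinearMap.map_le_range).trans (LinearMap.range_le_ker_iff.2 hgf)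
  have hd : Disjoint (LinearMap.ker f₂ ⊓ V₂) (Submodule.map f V₁ ⊔ C') := by
    rw [disjoint_iff, eq_bot_iff, ← hIII]
    exact inf_le_inf (inf_le_left.trans hII) (sup_le hgK hCg)
  have h1 : Disjoint (Submodule.map f V₁) C' := disjoint_iff.2 hCf
  intro i
  have key : ∀ (a : Submodule k E), (∀ j, j ≠ i → ![Submodule.map f V₁, LinearMap.ker f₂ ⊓ V₂, C'] j ≤ a) →
      Disjoint (![Submodule.map f V₁, LinearMap.ker f₂ ⊓ V₂, C'] i) a →
      Disjoint (![Submodule.map f V₁, LinearMap.ker f₂ ⊓ V₂, C'] i)
        (⨆ j, ⨆ (_ : j ≠ i), ![Submodule.map f V₁, LinearMap.ker f₂ ⊓ V₂, C'] j) :=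
    fun a ha hd' => hd'.mono_right (iSup₂_le ha)
  fin_cases i
  · apply key ((LinearMap.ker f₂ ⊓ V₂) ⊔ C')
    · intro j hj; fin_cases j <;> simp at hj ⊢
    · simpa [sup_comm] using h1.disjoint_sup_right_of_disjoint_sup_left (by simpa using hd.symm)
  · apply key (Submodule.map f V₁ ⊔ C')
    · intro j hj; fin_cases j <;> simp at hj ⊢
    · simpa using hd
  · apply key (Submodule.map f V₁ ⊔ (LinearMap.ker f₂ ⊓ V₂))
    · intro j hj; fin_cases j <;> simp at hj ⊢
    · simpa using h1.symm.disjoint_sup_right_of_disjoint_sup_left (by simpa [sup_comm] using hd.symm)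

end Groth.Agent.S13925
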