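import Groth.Statements.S13926
import Mathlib.LinearAlgebra.FiniteDimensional.Lemmas
-- import your own Groth.Agent.* helpers here

set_option autoImplicit false
universe u v w
open W4c1limliniiii

namespace Groth.Agent.S13926

/-- Let k be a field, E₁ and E₂ finite-dimensional vector spaces over k of the same dimension, f : E₁ →
E₂ and g : E₂ → E₁ linear maps whose composite g ∘ f is multiplication by a scalar s, and V₁ a
subspace of E₁. Then there is a subspace V₂ of E₂ of the same dimension as V₁ with f(V₁) ≤ V₂ and
g(V₂) ≤ V₁. (The published statement is the surjectivity of the truncation morphisms of a linked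
Grassmannian, with a further assertion on lifting families; this row is the lifting step over a
field — over a point the chain of linked subspaces V_1, …, V_{n'} extends one index at a time — and
assumes only g ∘ f = s.) -/
theorem result (k : Type u) [Field k]
    (E₁ : Type v) (E₂ : Type w) [AddCommGroup E₁] [Module k E₁] [FiniteDimensional k E₁]
    [AddCommGroup E₂] [Module k E₂] [FiniteDimensional k E₂]
    (hdim : Module.finrank k E₁ = Module.finrank k E₂)
    (f : E₁ →ₗ[k] E₂) (g : E₂ →ₗ[k] E₁) (s : k) (hgf : g.comp f = s • LinearMap.id)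
    (V₁ : Submodule k E₁) :
    ∃ V₂ : Submodule k E₂, Module.finrank k V₂ = Module.finrank k V₁ ∧
      Submodule.map f V₁ ≤ V₂ ∧ Submodule.map g V₂ ≤ V₁ := by
  have hW : Submodule.map f V₁ ≤ Submodule.comap g V₁ := by
    rintro _ ⟨x, hx, rfl⟩
    have := LinearMap.congr_fun hgf x
    simp only [LinearMap.comp_apply, LinearMap.smul_apply, LinearMap.id_apply] at this
    show g (f x) ∈ V₁
    rw [this]; exact V₁.smul_mem s hx
  have h1 : Module.finrank k (Submodule.map f V₁) ≤ Module.finrank k V₁ := Submodule.finrank_map_le f V₁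
  have h2 : Module.finrank k V₁ ≤ Module.finrank k (Submodule.comap g V₁) := by
    have e := LinearMap.finrank_range_add_finrank_ker (V₁.mkQ ∘ₗ g)
    have e' := V₁.finrank_quotient_add_finrank
    have h3 := Submodule.finrank_le (LinearMap.range (V₁.mkQ ∘ₗ g))
    rw [LinearMap.ker_comp, Submodule.ker_mkQ] at e
    omega
  suffices H : ∀ j ≤ Module.finrank k (Submodule.comap g V₁), Module.finrank k (Submodule.map f V₁) ≤ j →
      ∃ W : Submodule k E₂, Module.finrank k W = j ∧ Submodule.map f V₁ ≤ W ∧ W ≤ Submodule.comap g V₁ by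
    obtain ⟨W, a, b, c⟩ := H _ h2 h1
    exact ⟨W, a, b, Submodule.map_le_iff_le_comap.2 c⟩
  intro j hj hj'
  induction j, hj' using Nat.le_induction with
  | base => exact ⟨_, rfl, le_rfl, hW⟩
  | succ i _ ih =>
    obtain ⟨W, a, b, c⟩ := ih (by omega)
    obtain ⟨w, hw, hw'⟩ := SetLike.exists_of_lt
      (lt_of_le_of_ne c fun h => by rw [h] at a; omega)
    refine ⟨W ⊔ Submodule.span k {w}, ?_, b.trans le_sup_left, sup_le c (by simpa using hw)⟩
    rw [Submodule.finrank_sup_span_singleton hw', a]

end Groth.Agent.S13926
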