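import Groth.Statements.S13929
import Mathlib
import Groth.Agent.Misc6.Pencil3
import Groth.Agent.Misc6.FiniteFibre

set_option autoImplicit false
universe u
open W4c1limliniiii

namespace Groth.Agent.S13929

open Polynomial in
/-- Over an algebraically closed field of characteristic p with p = 0 or d < p, fix n distinct points of
the affine line and admissible ramification indices (2 ≤ e_i ≤ d, e_i prime to p, ∑ (e_i − 1) = 2d −
2). Then there are only finitely many separable self-maps of the projective line of degree d, up to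
automorphisms of the target, with ramification index exactly e_i at the i-th point: the set of
base-point-free separable pencils of polynomials of degree at most d with this ramification is
finite. (This is the case of a fully specified ramification divisor; the points are arbitrary
distinct points, not only general ones.) -/
theorem result (k : Type u) [Field k] [IsAlgClosed k]
    (p : ℕ) [CharP k p] (d n : ℕ) (P : Fin n → k) (hP : Function.Injective P)
    (e : Fin n → ℕ) (he : W4c1limliniiii.Admissible p d e) (hp : p = 0 ∨ d < p) :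
    (W4c1limliniiii.ramMaps d P e).Finite := by
  classical
  obtain ⟨hed, hsum⟩ := he
  -- the Wronskian of independent polynomials of degree at most `d` is non-zero
  have hcast : ∀ m l : ℕ, m ≤ d → l ≤ d → (m : k) = (l : k) → m = l := by
    intro m l hm hl h
    rcases hp with rfl | hp
    · have := CharP.charP_to_charZero k
      exact_mod_cast h
    · exact CharP.natCast_injOn_Iio k p (Set.mem_Iio.2 (by omega)) (Set.mem_Iio.2 (by omega)) h
  have hwr : ∀ F G : k[X], F.natDegree ≤ d → G.natDegree ≤ d → LinearIndependent k ![F, G] →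
      Polynomial.wronskian F G ≠ 0 := by
    intro F G hF hG hli hns
    have h1 : F ≠ 0 := by simpa using hli.ne_zero 0
    have h2 : G ≠ 0 := by simpa using hli.ne_zero 1
    by_cases hd12 : F.natDegree = G.natDegree
    · set c := G.leadingCoeff / F.leadingCoeff
      set G' := G - c • F with hG'
      have hG0 : G' ≠ 0 := by
        rw [LinearIndependent.pair_iff' h1] at hli
        exact fun h => hli c (sub_eq_zero.1 h).symm
      have hc : c * F.leadingCoeff = G.leadingCoeff := div_mul_cancel₀ _ (leadingCoeff_ne_zero.2 h1)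
      have hlt : G'.natDegree ≠ F.natDegree := by
        intro he'
        refine hG0 (leadingCoeff_eq_zero.1 ?_)
        rw [leadingCoeff, he', hG', coeff_sub, coeff_smul, coeff_natDegree, smul_eq_mul, hc, hd12, coeff_natDegree,
          sub_self]
      have hle : G'.natDegree ≤ d := (natDegree_sub_le _ _).trans (max_le hG ((natDegree_smul_le _ _).trans hF))
      refine Groth.Misc6.Pencil.wronskian_ne_zero_of_natDegree h1 hG0 (fun h => hlt (hcast _ _ hle hF h)) ?_
      rw [hG']
      simp only [Polynomial.wronskian, smul_eq_C_mul, derivative_sub, derivative_mul, derivative_C, zero_mul,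
        zero_add] at hns ⊢
      linear_combination hns
    · exact Groth.Misc6.Pencil.wronskian_ne_zero_of_natDegree h1 h2 (fun h => hd12 (hcast _ _ hG hF h).symm) hns
  -- the prescribed Wronskian
  set Φ : k[X] := ∏ i, (X - C (P i)) ^ (e i - 1) with hΦ
  have hΦ0 : Φ ≠ 0 := Finset.prod_ne_zero_iff.2 fun i _ => pow_ne_zero _ (X_sub_C_ne_zero _)
  have hΦdeg : Φ.natDegree = 2 * d - 2 := by
    rw [hΦ, natDegree_prod _ _ fun i _ => pow_ne_zero _ (X_sub_C_ne_zero _)]
    simp only [natDegree_pow, natDegree_X_sub_C, mul_one]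
    have e1 : ∑ i, e i = (∑ i, (e i - 1)) + n := by
      rw [← Finset.sum_congr rfl (fun i _ => Nat.sub_add_cancel (le_trans one_le_two (hed i).1)),
        Finset.sum_add_distrib]
      simp
    omega
  let ι := Fin (d + 1) × Fin (d + 1)
  let pol : ι → k[X] := fun q => C ((q.2 : ℕ) : k) * X ^ ((q.1 : ℕ) + (q.2 : ℕ))
  -- the equations: skew-symmetry, Plücker relations, coefficients of the Wronskian
  let g : (ι ⊕ Fin (d + 1)) ⊕ ((ι × ι) ⊕ Fin (2 * d + 1)) → MvPolynomial ι k :=
    Sum.elim (Sum.elim (fun q => MvPolynomial.X q + MvPolynomial.X (q.2, q.1)) (fun i => MvPolynomial.X (i, i)))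
      (Sum.elim (fun t => MvPolynomial.X t.1 * MvPolynomial.X t.2 -
          MvPolynomial.X (t.1.1, t.2.1) * MvPolynomial.X (t.1.2, t.2.2) +
          MvPolynomial.X (t.1.1, t.2.2) * MvPolynomial.X (t.1.2, t.2.1))
        (fun l => ∑ q, MvPolynomial.C ((pol q).coeff l) * MvPolynomial.X q))
  let deg : (ι ⊕ Fin (d + 1)) ⊕ ((ι × ι) ⊕ Fin (2 * d + 1)) → ℕ :=
    Sum.elim (Sum.elim (fun _ => 1) (fun _ => 1)) (Sum.elim (fun _ => 2) (fun _ => 1))
  let v : (ι ⊕ Fin (d + 1)) ⊕ ((ι × ι) ⊕ Fin (2 * d + 1)) → k :=
    Sum.elim (Sum.elim (fun _ => 0) (fun _ => 0)) (Sum.elim (fun _ => 0) (fun l => (X * Φ).coeff l))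
  have hpol : ∀ F G : k[X], F.natDegree ≤ d → G.natDegree ≤ d →
      X * Polynomial.wronskian F G = ∑ q : ι, C (F.coeff q.1 * G.coeff q.2 - F.coeff q.2 * G.coeff q.1) * pol q := by
    intro F G hF hG
    have hexp : ∀ H : k[X], H.natDegree ≤ d → H = ∑ i : Fin (d + 1), C (H.coeff i) * X ^ (i : ℕ) := fun H hH => by
      conv_lhs => rw [as_sum_range_C_mul_X_pow' H (n := d + 1) (by omega)]
      exact (Fin.sum_univ_eq_sum_range (fun i => C (H.coeff i) * X ^ i) (d + 1)).symm
    have hder : ∀ H : k[X], H.natDegree ≤ d →
        X * derivative H = ∑ i : Fin (d + 1), C (((i : ℕ) : k) * H.coeff i) * X ^ (i : ℕ) := fun H hH => by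
      conv_lhs => rw [hexp H hH, derivative_sum, Finset.mul_sum]
      refine Finset.sum_congr rfl fun i _ => ?_
      rw [derivative_C_mul, derivative_X_pow, map_mul]
      rcases Nat.eq_zero_or_pos (i : ℕ) with h | h
      · simp [h]
      · have : (X : k[X]) ^ (i : ℕ) = X ^ ((i : ℕ) - 1) * X := by rw [← pow_succ]; congr 1; omega
        rw [this]; ring
    have : X * Polynomial.wronskian F G = F * (X * derivative G) - (X * derivative F) * G := by
      rw [Polynomial.wronskian]; ring
    rw [this, hder G hG, hder F hF]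
    conv_lhs => rw [hexp F hF]; arg 2; rw [hexp G hG]
    rw [Finset.sum_mul_sum, Finset.sum_mul_sum, Fintype.sum_prod_type, ← Finset.sum_sub_distrib]
    simp only [map_sub, map_mul, pol, sub_mul, Finset.sum_sub_distrib]
    congr 1
    · refine Finset.sum_congr rfl fun i _ => Finset.sum_congr rfl fun j _ => ?_
      simp only [coeff_sum, coeff_C_mul, coeff_X_pow, pow_add]
      simp [Fin.val_inj]
      ring
    · conv_rhs => rw [Finset.sum_comm]
      refine Finset.sum_congr rfl fun i _ => Finset.sum_congr rfl fun j _ => ?_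
      simp only [coeff_sum, coeff_C_mul, coeff_X_pow, pow_add]
      simp [Fin.val_inj]
      ring
  let col : (ι → k) → Fin (d + 1) → k[X] := fun π a => ∑ i : Fin (d + 1), C (π (i, a)) * X ^ (i : ℕ)
  have hcol : ∀ π a (i : Fin (d + 1)), (col π a).coeff i = π (i, a) := fun π a i => by
    simp [col, Polynomial.finset_sum_coeff, Fin.val_inj]
  have hcoldeg : ∀ π a, (col π a).natDegree ≤ d := fun π a =>
    natDegree_sum_le_of_forall_le _ _ fun i _ => (natDegree_C_mul_X_pow_le _ _).trans (Nat.lt_succ_iff.1 i.2)
  have hsol := Groth.Misc6.finite_fibre_of_homogeneous g deg ?_ ?_ ?_ v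
  rotate_left
  · rintro ((_ | _) | (_ | _)) <;> simp [deg]
  · rintro ((q | i) | (t | l))
    · exact (MvPolynomial.isHomogeneous_X k q).add (MvPolynomial.isHomogeneous_X k _)
    · exact MvPolynomial.isHomogeneous_X k _
    · exact ((((MvPolynomial.isHomogeneous_X k _).mul (MvPolynomial.isHomogeneous_X k _)).sub
        ((MvPolynomial.isHomogeneous_X k _).mul (MvPolynomial.isHomogeneous_X k _)))).add
        ((MvPolynomial.isHomogeneous_X k _).mul (MvPolynomial.isHomogeneous_X k _))
    · exact MvPolynomial.IsHomogeneous.sum _ _ _ fun q _ => (MvPolynomial.isHomogeneous_X k q).C_mul _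
  · intro π hπ
    by_contra hne
    obtain ⟨⟨a, b⟩, hab⟩ := Function.ne_iff.1 hne
    have hskew : ∀ i j, π (i, j) = -π (j, i) := fun i j => by
      have := hπ (Sum.inl (Sum.inl (i, j)))
      simp [g] at this
      linear_combination this
    have hdiag : ∀ i, π (i, i) = 0 := fun i => by simpa [g] using hπ (Sum.inl (Sum.inr i))
    have hpl : ∀ i j, π (i, j) * π (a, b) = π (i, a) * π (j, b) - π (i, b) * π (j, a) := fun i j => by
      have := hπ (Sum.inr (Sum.inl ((i, j), (a, b))))
      simp [g] at this
      linear_combination this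
    simp only [Pi.zero_apply] at hab
    have hli : LinearIndependent k ![col π a, col π b] := by
      rw [LinearIndependent.pair_iff]
      intro x y hxy
      have ha := congrArg (fun f => f.coeff (a : ℕ)) hxy
      have hb := congrArg (fun f => f.coeff (b : ℕ)) hxy
      simp only [coeff_add, coeff_smul, hcol, hdiag, smul_eq_mul, mul_zero, zero_add, add_zero, coeff_zero] at ha hb
      rw [hskew b a] at hb
      exact ⟨by simpa [hab] using hb, by simpa [hab] using ha⟩
    refine hwr _ _ (hcoldeg π a) (hcoldeg π b) hli (mul_left_cancel₀ X_ne_zero (b := _) ?_)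
    rw [mul_zero, hpol _ _ (hcoldeg π a) (hcoldeg π b)]
    simp only [hcol]
    have e : ∀ q : ι, π (q.1, a) * π (q.2, b) - π (q.2, a) * π (q.1, b) = π q * π (a, b) := fun q => by
      rw [hpl q.1 q.2]; ring
    simp only [e]
    ext l
    rw [finset_sum_coeff, coeff_zero]
    simp only [coeff_C_mul]
    by_cases hl : l < 2 * d + 1
    · have := hπ (Sum.inr (Sum.inr ⟨l, hl⟩))
      simp [g] at this
      calc ∑ q, π q * π (a, b) * (pol q).coeff l = π (a, b) * ∑ q, (pol q).coeff l * π q := by
            rw [Finset.mul_sum]; exact Finset.sum_congr rfl fun q _ => by ring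
        _ = 0 := by rw [this, mul_zero]
    · refine Finset.sum_eq_zero fun q _ => ?_
      have : (pol q).coeff l = 0 := by
        simp only [pol, coeff_C_mul, coeff_X_pow]
        rw [if_neg (by have := q.1.2; have := q.2.2; omega), mul_zero]
      rw [this, mul_zero]
  -- normalised Plücker coordinates of a pencil
  have hex : ∀ V ∈ W4c1limliniiii.ramMaps d P e, ∃ F G : k[X], F.natDegree ≤ d ∧ G.natDegree ≤ d ∧
      LinearIndependent k ![F, G] ∧ Submodule.span k {F, G} = V ∧ Polynomial.wronskian F G = Φ := by
    intro V hV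
    obtain ⟨⟨hle, h2, -, -⟩, hsep, hidx⟩ := hV
    haveI : Module.Finite k V := Module.finite_of_finrank_eq_succ h2
    let bas := Module.finBasisOfFinrankEq k V h2
    set F : k[X] := (bas 0 : k[X])
    set G : k[X] := (bas 1 : k[X])
    have hF : F.natDegree ≤ d := Groth.Misc6.Pencil.natDegree_le_of_mem (hle (bas 0).2)
    have hG : G.natDegree ≤ d := Groth.Misc6.Pencil.natDegree_le_of_mem (hle (bas 1).2)
    have hspan : Submodule.span k {F, G} = V := by
      have h := congrArg (Submodule.map V.subtype) bas.span_eq
      rw [Submodule.map_span, Submodule.map_top, Submodule.range_subtype, ← Set.range_comp] at h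
      rw [← h]; congr 1; ext f; simp [F, G, Fin.exists_fin_two, eq_comm]
    have hli : LinearIndependent k ![F, G] := by
      have h := bas.linearIndependent.map' V.subtype V.ker_subtype
      rw [show ![F, G] = (V.subtype : V → k[X]) ∘ bas by funext i; fin_cases i <;> rfl]
      exact h
    have hW0 := hwr F G hF hG hli
    have hdvd : Φ ∣ Polynomial.wronskian F G := by
      refine Finset.prod_dvd_of_coprime (fun i _ j _ hij => ((pairwise_coprime_X_sub_C hP) hij).pow) fun i _ => ?_
      obtain ⟨⟨s, hs, hs0, hsr⟩, -⟩ := hidx i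
      rw [← hspan] at hs
      obtain ⟨x, y, rfl⟩ := Submodule.mem_span_pair.1 hs
      have hd' := (le_rootMultiplicity_iff hs0).1 hsr
      by_cases hx : x = 0
      · have hy : y ≠ 0 := fun hy => hs0 (by simp [hx, hy])
        have h := Groth.Misc6.Pencil.pow_sub_one_dvd_wronskian F hd'
        rw [show Polynomial.wronskian (x • F + y • G) F = C (-y) * Polynomial.wronskian F G by
          simp [hx, Polynomial.wronskian, smul_eq_C_mul, derivative_mul]; ring] at h
        exact (isUnit_C.2 (neg_ne_zero.2 hy).isUnit).dvd_mul_left.1 h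
      · have h := Groth.Misc6.Pencil.pow_sub_one_dvd_wronskian G hd'
        rw [show Polynomial.wronskian (x • F + y • G) G = C x * Polynomial.wronskian F G by
          simp [Polynomial.wronskian, smul_eq_C_mul, derivative_mul]; ring] at h
        exact (isUnit_C.2 (Ne.isUnit hx)).dvd_mul_left.1 h
    obtain ⟨r, hr⟩ := hdvd
    have hr0 : r ≠ 0 := by rintro rfl; exact hW0 (by rw [hr, mul_zero])
    have hrdeg : r.natDegree = 0 := by
      have h := Groth.Misc6.Pencil.natDegree_wronskian_le hF hG
      rw [hr, natDegree_mul hΦ0 hr0] at h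
      omega
    obtain ⟨c, rfl⟩ := natDegree_eq_zero.1 hrdeg
    have hc : c ≠ 0 := fun hc => hr0 (by simp [hc])
    refine ⟨c⁻¹ • F, G, (natDegree_smul_le _ _).trans hF, hG, ?_, ?_, ?_⟩
    · rw [LinearIndependent.pair_iff] at hli ⊢
      intro x y hxy
      obtain ⟨hx, hy⟩ := hli (x * c⁻¹) y (by rw [← hxy, smul_smul])
      exact ⟨(mul_eq_zero.1 hx).resolve_right (inv_ne_zero hc), hy⟩
    · rw [← hspan, Submodule.span_insert, Submodule.span_insert, Submodule.span_singleton_smul_eq (inv_ne_zero hc).isUnit]
    · rw [show Polynomial.wronskian (c⁻¹ • F) G = C c⁻¹ * Polynomial.wronskian F G by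
        simp [Polynomial.wronskian, smul_eq_C_mul, derivative_mul]; ring, hr, mul_comm Φ, ← mul_assoc, ← map_mul,
        inv_mul_cancel₀ hc, map_one, one_mul]
  choose F G hF hG hli hspan hW using hex
  let Pl : W4c1limliniiii.ramMaps d P e → (ι → k) := fun V q =>
    (F V.1 V.2).coeff q.1 * (G V.1 V.2).coeff q.2 - (F V.1 V.2).coeff q.2 * (G V.1 V.2).coeff q.1
  have hmem : ∀ V, Pl V ∈ {x : ι → k | ∀ j, MvPolynomial.eval x (g j) = v j} := by
    intro V j
    rcases j with ((q | i) | (t | l))
    · simp [g, v, Pl]
    · simp [g, v, Pl] <;> ring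
    · simp [g, v, Pl] <;> ring
    · simp only [g, v, Sum.elim_inr, map_sum, map_mul, MvPolynomial.eval_C, MvPolynomial.eval_X]
      rw [← hW V.1 V.2, hpol _ _ (hF V.1 V.2) (hG V.1 V.2), finset_sum_coeff]
      simp only [coeff_C_mul]
      exact Finset.sum_congr rfl fun q _ => mul_comm _ _
  have hinj : Function.Injective Pl := by
    intro V V' h
    suffices key : ∀ U : W4c1limliniiii.ramMaps d P e,
        Submodule.span k (Set.range (col (Pl U))) = U.1 by
      exact Subtype.ext (by rw [← key V, ← key V', h])
    intro U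
    have hexp : ∀ H : k[X], H.natDegree ≤ d → H = ∑ i : Fin (d + 1), C (H.coeff i) * X ^ (i : ℕ) := fun H hH => by
      conv_lhs => rw [as_sum_range_C_mul_X_pow' H (n := d + 1) (by omega)]
      exact (Fin.sum_univ_eq_sum_range (fun i => C (H.coeff i) * X ^ i) (d + 1)).symm
    set f := F U.1 U.2 with hf
    set g' := G U.1 U.2 with hg
    have hcoleq : ∀ a, col (Pl U) a = g'.coeff a • f - f.coeff a • g' := by
      intro a
      conv_rhs => rw [hexp f (hF U.1 U.2), hexp g' (hG U.1 U.2), Finset.smul_sum, Finset.smul_sum, ← Finset.sum_sub_distrib]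
      refine Finset.sum_congr rfl fun i _ => ?_
      simp only [Pl, ← hf, ← hg, finset_sum_coeff, coeff_C_mul_X_pow, smul_eq_C_mul, map_sub, map_mul]
      simp [Fin.val_inj]
      ring
    apply le_antisymm
    · rw [Submodule.span_le]
      rintro _ ⟨a, rfl⟩
      rw [SetLike.mem_coe, hcoleq, ← hspan U.1 U.2]
      exact sub_mem (Submodule.smul_mem _ _ (Submodule.subset_span (by simp [hf])))
        (Submodule.smul_mem _ _ (Submodule.subset_span (by simp [hg])))
    · -- two independent columns
      obtain ⟨a, b, hab⟩ : ∃ a b, Pl U (a, b) ≠ 0 := by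
        by_contra! h0
        have := hW U.1 U.2
        refine mul_ne_zero X_ne_zero hΦ0 ?_
        rw [← this, hpol _ _ (hF U.1 U.2) (hG U.1 U.2)]
        exact Finset.sum_eq_zero fun q _ => by
          have := h0 q.1 q.2
          simp only [Pl] at this
          rw [this, map_zero, zero_mul]
      have hdet : f.coeff a * g'.coeff b - f.coeff b * g'.coeff a ≠ 0 := hab
      set D := f.coeff a * g'.coeff b - f.coeff b * g'.coeff a
      have hD : C D⁻¹ * C D = (1 : k[X]) := by rw [← map_mul, inv_mul_cancel₀ hdet, map_one]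
      have hfa : f = (D⁻¹ * f.coeff a) • col (Pl U) b - (D⁻¹ * f.coeff b) • col (Pl U) a := by
        rw [hcoleq, hcoleq]
        simp only [smul_eq_C_mul, map_mul]
        have : C D = C (f.coeff a) * C (g'.coeff b) - C (f.coeff b) * C (g'.coeff a) := by
          simp only [D, map_sub, map_mul]
        linear_combination f * C D⁻¹ * this - f * hD
      have hga : g' = (D⁻¹ * g'.coeff a) • col (Pl U) b - (D⁻¹ * g'.coeff b) • col (Pl U) a := by
        rw [hcoleq, hcoleq]
        simp only [smul_eq_C_mul, map_mul]
        have : C D = C (f.coeff a) * C (g'.coeff b) - C (f.coeff b) * C (g'.coeff a) := by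
          simp only [D, map_sub, map_mul]
        linear_combination g' * C D⁻¹ * this - g' * hD
      have hmem' : ∀ x y : k, x • col (Pl U) b - y • col (Pl U) a ∈ Submodule.span k (Set.range (col (Pl U))) :=
        fun x y => sub_mem (Submodule.smul_mem _ _ (Submodule.subset_span ⟨b, rfl⟩))
          (Submodule.smul_mem _ _ (Submodule.subset_span ⟨a, rfl⟩))
      rw [← hspan U.1 U.2, Submodule.span_le]
      intro s hs
      rcases hs with rfl | rfl
      · rw [SetLike.mem_coe, ← hf, hfa]; exact hmem' _ _
      · rw [SetLike.mem_coe, ← hg, hga]; exact hmem' _ _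
  have hfin : Finite (W4c1limliniiii.ramMaps d P e) := by
    haveI := hsol.to_subtype
    exact Finite.of_injective (fun V => (⟨Pl V, hmem V⟩ : {x : ι → k | ∀ j, MvPolynomial.eval x (g j) = v j}))
      fun V V' h => hinj (congrArg Subtype.val h)
  exact Set.toFinite _

end Groth.Agent.S13929
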