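import Groth.Statements.S13934
import Groth.Agent.EulerDeg.LineBundle
import Groth.Agent.EulerDeg.Coherent

set_option autoImplicit false
universe u
open CategoryTheory CategoryTheory.Limits AlgebraicGeometry
open W4c1limliniiii

namespace Groth.Agent.S13934

/-- On a smooth proper integral curve over an algebraically closed field (any characteristic), let 0 → L
→ E → M → 0 be a short exact sequence of O_X-modules with E finite locally free of rank 2 and degree
0, L and M invertible and deg L > 0 (so M is det E ⊗ L⁻¹). Then: every invertible sheaf N admitting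
a non-zero map N → E has deg N ≤ deg L, so L is the line bundle of maximal degree in E; every
invertible subsheaf N of E of positive degree with invertible quotient E/N coincides with L (some
isomorphism N ≅ L commutes with the inclusions); and E is not an extension of two invertible sheaves
of degree 0. Degrees are χ(−) minus rank times χ(O_X). (The published lemma is stated on a curve of
genus 2 in characteristic p; its argument uses neither, and this row assumes neither.) -/
theorem result (k : Type u) [Field k] [IsAlgClosed k] (X : Scheme.{u}) [X.Over (Spec (CommRingCat.of k))]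
    [IsIntegral X] [IsProper (X ↘ Spec (CommRingCat.of k))] [Smooth (X ↘ Spec (CommRingCat.of k))]
    (hdim : topologicalKrullDim X = 1)
    (S : ShortComplex X.Modules) (hS : S.ShortExact)
    (hE : FlatMod.IsFinLocFreeOfRank 2 S.X₂) (hE0 : Curv2.deg k X S.X₂ 2 = 0)
    (hL : PicF.IsInvertible S.X₁) (hM : PicF.IsInvertible S.X₃) (hpos : 0 < Curv2.deg k X S.X₁ 1) :
    (∀ (N : X.Modules), PicF.IsInvertible N → ∀ j : N ⟶ S.X₂, j ≠ 0 →
        Curv2.deg k X N 1 ≤ Curv2.deg k X S.X₁ 1) ∧
    (∀ (N : X.Modules), PicF.IsInvertible N → ∀ (j : N ⟶ S.X₂), Mono j →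
        PicF.IsInvertible (cokernel j) → 0 < Curv2.deg k X N 1 → ∃ φ : N ≅ S.X₁, φ.hom ≫ S.f = j) ∧
    (∀ (N N' : X.Modules), PicF.IsInvertible N → PicF.IsInvertible N' →
        Curv2.deg k X N 1 = 0 → Curv2.deg k X N' 1 = 0 →
        ∀ (a : N ⟶ S.X₂) (b : S.X₂ ⟶ N') (w : a ≫ b = 0), ¬ (ShortComplex.mk a b w).ShortExact) := by
  have hd : topologicalKrullDim X ≤ 1 := hdim.le
  have hfin : ∀ {M : X.Modules}, PicF.IsInvertible M → Groth.EulerDeg.FinCoh k M :=
    fun h => Groth.EulerDeg.finCoh k X (Groth.EulerDeg.isCoh_of_isInvertible h)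
  have hle : ∀ {N L : X.Modules}, PicF.IsInvertible N → PicF.IsInvertible L → ∀ φ : N ⟶ L, φ ≠ 0 →
      Curv2.deg k X N 1 ≤ Curv2.deg k X L 1 :=
    fun hN hL φ hφ => (Groth.EulerDeg.deg_le_and_isIso hN hL hφ k hd).1
  have hadd := Groth.EulerDeg.deg_add (k := k) hS (hfin hL) (hfin hM) 1 1
  have hMneg : Curv2.deg k X S.X₃ 1 < 0 := by
    change Curv2.deg k X S.X₂ 2 = _ at hadd
    omega
  have := hS.mono_f
  have hne : ∀ {N : X.Modules}, PicF.IsInvertible N → (𝟙 N : N ⟶ N) ≠ 0 := by
    intro N hN h0
    obtain ⟨W, g, hW, hmem, hg⟩ := Groth.PicAux.exists_gen_cover hN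
    obtain ⟨x⟩ := (inferInstance : Nonempty X)
    obtain ⟨i, hi⟩ : ∃ i, x ∈ W i := TopologicalSpace.Opens.mem_iSup.1 (hW ▸ trivial)
    have h1 : (1 : Γ(X, W i)) = 0 := by
      refine (hg i).smul_inj le_rfl ?_
      have h2 := congrArg (fun φ : N ⟶ N => φ.app (W i) (g i)) h0
      simp only [one_smul, zero_smul, Groth.PicAux.res_self]
      exact h2
    have := congrArg (X.presheaf.germ (W i) x hi) h1
    rw [map_one, map_zero] at this
    exact one_ne_zero this
  refine ⟨fun N hN j hj => ?_, fun N hN j hmono hQ hpos' => ?_, fun N N' hN hN' hdN hdN' a b w hab => ?_⟩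
  · by_cases h : j ≫ S.g = 0
    · refine hle hN hL (hS.exact.lift j h) fun h0 => hj ?_
      rw [← hS.exact.lift_f j h, h0, zero_comp]
    · have := hle hN hM _ h
      omega
  · have h : j ≫ S.g = 0 := by
      by_contra h
      have := hle hN hM _ h
      omega
    have hT : (ShortComplex.mk j (cokernel.π j) (cokernel.condition j)).ShortExact :=
      { exact := ShortComplex.exact_cokernel j }
    have hQadd := Groth.EulerDeg.deg_add (k := k) hT (hfin hN) (hfin hQ) 1 1
    change Curv2.deg k X S.X₂ 2 = _ at hQadd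
    have h' : S.f ≫ cokernel.π j = 0 := by
      by_contra h'
      have := hle hL hQ _ h'
      change Curv2.deg k X S.X₂ 2 = Curv2.deg k X N 1 + Curv2.deg k X (cokernel j) 1 at hQadd
      omega
    let l := hS.exact.lift j h
    have hl : l ≫ S.f = j := hS.exact.lift_f j h
    obtain ⟨m, hm⟩ : ∃ m : S.X₁ ⟶ N, m ≫ j = S.f := ⟨hT.exact.lift S.f h', hT.exact.lift_f S.f h'⟩
    exact ⟨⟨l, m, by rw [← cancel_mono j, Category.assoc, hm, hl, Category.id_comp],
      by rw [← cancel_mono S.f, Category.assoc, hl, hm, Category.id_comp]⟩, hl⟩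
  · have := hab.mono_f
    have h : S.f ≫ b = 0 := by
      by_contra h
      have := hle hL hN' _ h
      omega
    have hm : hab.exact.lift S.f h ≠ 0 := fun h0 => hne hL (by
      have h1 : S.f = 0 := by rw [← hab.exact.lift_f S.f h, h0, zero_comp]
      rw [← cancel_mono S.f, h1, comp_zero, comp_zero])
    have := hle hL hN _ hm
    omega

end Groth.Agent.S13934
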