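import Groth.Statements.S13935
import Groth.Agent.Misc6.PencilLimit.Special

set_option autoImplicit false
universe u
open W4c1limliniiii

namespace Groth.Agent.S13935

open Polynomial in
/-- Let A be a discrete valuation ring of prime characteristic p containing a coefficient field — a
subfield k₀ ⊆ A mapping isomorphically onto the residue field k, which is algebraically closed —
with fraction field K. Let F, G ∈ A[x] have degree at most d and k-linearly independent reductions,
so that ⟨F, G⟩ is a family of pencils over Spec A; suppose F and G are coprime over K and the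
generic member ⟨F, G⟩ ⊗ K is a base-point-free separable pencil of degree d with ramification index
exactly e_i at points P_1, …, P_n ∈ A of the affine line (admissible data: 2 ≤ e_i ≤ d, ∑ (e_i − 1)
= 2d − 2, and every e_i < p), while its special member ⟨F̄, Ḡ⟩ over k is inseparable. If the
reductions P̄_i ∈ k are pairwise distinct, then they are in special position in the following sense:
for some integer m ≥ 1 with mp ≤ d and some ε ∈ {0, 1} there is a base-point-free separable pencil
over k of degree d + mp − 1 + ε with ramification index exactly e_i at P̄_i for each i and exactly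
2mp − 1 + 2ε at infinity. (The companion case in which two of the sections meet in the special fibre
is not restated.) -/
theorem result
    (p : ℕ) [Fact p.Prime] (k₀ : Type u) [Field k₀]
    (A : Type u) [CommRing A] [IsDomain A] [IsDiscreteValuationRing A] [CharP A p] [Algebra k₀ A]
    (hcoef : Function.Bijective (algebraMap k₀ (IsLocalRing.ResidueField A)))
    [IsAlgClosed (IsLocalRing.ResidueField A)]
    (K : Type u) [Field K] [Algebra A K] [IsFractionRing A K]
    (d n : ℕ) (e : Fin n → ℕ) (he : W4c1limliniiii.Admissible p d e) (hlt : ∀ i, e i < p)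
    (P : Fin n → A) (F G : A[X]) (hF : F.natDegree ≤ d) (hG : G.natDegree ≤ d)
    (hind : LinearIndependent (IsLocalRing.ResidueField A)
      ![F.map (IsLocalRing.residue A), G.map (IsLocalRing.residue A)])
    (hcop : IsCoprime (F.map (algebraMap A K)) (G.map (algebraMap A K)))
    (hgen : Submodule.span K {F.map (algebraMap A K), G.map (algebraMap A K)} ∈
      W4c1limliniiii.ramMaps d (fun i => algebraMap A K (P i)) e)
    (hinsep : ¬ W4c1limliniiii.IsSeparable
      (Submodule.span (IsLocalRing.ResidueField A)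
        {F.map (IsLocalRing.residue A), G.map (IsLocalRing.residue A)}))
    (hdist : Function.Injective (fun i => IsLocalRing.residue A (P i))) :
    ∃ m ε : ℕ, 1 ≤ m ∧ m * p ≤ d ∧ ε ≤ 1 ∧
      ∃ V ∈ W4c1limliniiii.ramMaps (d + m * p - 1 + ε) (fun i => IsLocalRing.residue A (P i)) e,
        W4c1limliniiii.HasRamIdxInf (d + m * p - 1 + ε) V (2 * m * p - 1 + 2 * ε) := by
  classical
  have hp : p.Prime := Fact.out
  haveI : CharP (IsLocalRing.ResidueField A) p :=
    CharP.charP_iff_prime_eq_zero hp |>.2 (by rw [← map_natCast (IsLocalRing.residue A), CharP.cast_eq_zero, map_zero])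
  obtain ⟨t, ht⟩ := IsDiscreteValuationRing.exists_irreducible A
  have htr : (IsLocalRing.residue A) t = 0 := (IsLocalRing.residue_eq_zero_iff t).2
    ((IsLocalRing.mem_maximalIdeal t).2 ht.not_isUnit)
  have hPinj : Function.Injective P := fun i j h => hdist (congrArg (IsLocalRing.residue A) h)
  obtain ⟨w, hw, hW⟩ := Groth.Misc6.PencilLimit.wronskian_eq he P hPinj hF hG hgen
  obtain ⟨hFG0, hFG1⟩ : F.map (IsLocalRing.residue A) ≠ 0 ∧ ∀ x : IsLocalRing.ResidueField A, G.map (IsLocalRing.residue A) + C x * F.map (IsLocalRing.residue A) ≠ 0 := by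
    refine ⟨hind.ne_zero 0, fun x h => ?_⟩
    have h2 := LinearIndependent.pair_iff.1 hind x 1 (by rw [one_smul, smul_eq_C_mul, add_comm]; exact h)
    exact one_ne_zero h2.2
  have hWbar : wronskian (F.map (IsLocalRing.residue A)) (G.map (IsLocalRing.residue A)) = 0 := by
    by_contra h
    exact hinsep ((Groth.Misc6.Pencil.isSeparable_span_pair _ _).2 h)
  obtain ⟨β, c₀, hLd, hLP, hc0P, hFc0, hLc0⟩ :=
    Groth.Misc6.PencilLimit.exists_good_member htr ht.ne_zero P F G hF hG hFG0 hgen.1
  obtain ⟨L, hL⟩ : ∃ L : A[X], L = G + C β * F := ⟨_, rfl⟩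
  rw [← hL] at hLd hLP hLc0
  have hWL : wronskian F L = C w * ∏ i, (X - C (P i)) ^ (e i - 1) := by
    rw [← hW, hL, wronskian, wronskian, derivative_add, derivative_C_mul]; ring
  have hLbar : L.map (IsLocalRing.residue A) ≠ 0 := by
    rw [hL, Polynomial.map_add, Polynomial.map_mul, map_C]; exact hFG1 _
  have hder : (derivative (L.map (IsLocalRing.residue A))).IsRoot c₀ := by
    have h1 : wronskian (F.map (IsLocalRing.residue A)) (L.map (IsLocalRing.residue A)) = 0 := by
      rw [← hWbar, hL, Polynomial.map_add, Polynomial.map_mul, map_C, wronskian, wronskian, derivative_add,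
        derivative_C_mul]
      ring
    have h2 := congrArg (eval c₀) h1
    simp only [wronskian, eval_sub, eval_mul, hLc0, mul_zero, sub_zero, eval_zero] at h2
    exact (mul_eq_zero.1 h2).resolve_left hFc0
  have hq0 : 2 ≤ (L.map (IsLocalRing.residue A)).rootMultiplicity c₀ :=
    (Polynomial.one_lt_rootMultiplicity_iff_isRoot hLbar).2 ⟨hLc0, hder⟩
  obtain ⟨cP, cOff, cInf⟩ := Groth.Misc6.PencilLimit.special_member_congr p he hlt P hdist F L hLbar hLd hw hWL hLP
  obtain ⟨h, Q, hh, hQ, hdec, hmult, hdeg, hdiv⟩ := Groth.Misc6.PencilLimit.split_mod p hLbar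
  have hM : 1 ≤ Q.natDegree := by
    refine le_trans (Nat.div_pos ?_ hp.pos) (hdiv c₀)
    by_contra hlt'
    have h1 := cOff c₀ hc0P
    rw [Nat.mod_eq_of_lt (not_le.1 hlt')] at h1
    omega
  have hDd : (L.map (IsLocalRing.residue A)).natDegree ≤ d := hLd ▸ natDegree_map_le
  obtain ⟨a, ha⟩ : ∃ a, a = (d - (L.map (IsLocalRing.residue A)).natDegree) / p := ⟨_, rfl⟩
  obtain ⟨ε, hε⟩ : ∃ ε, ε = (d - (L.map (IsLocalRing.residue A)).natDegree) % p := ⟨_, rfl⟩
  have hsplit := Nat.mod_add_div (d - (L.map (IsLocalRing.residue A)).natDegree) p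
  rw [← ha, ← hε] at hsplit
  have hmp : (Q.natDegree + a) * p = p * Q.natDegree + p * a := by ring
  have hmp1 : 1 ≤ p * Q.natDegree := Nat.mul_pos hp.pos hM
  refine ⟨Q.natDegree + a, ε, by omega, by omega, hε ▸ cInf, ?_⟩
  have hPi : (∏ i, (X - C (P i)) ^ (e i - 1)).map (IsLocalRing.residue A) = ∏ i, (X - C ((IsLocalRing.residue A) (P i))) ^ (e i - 1) := by
    simp only [Polynomial.map_prod, Polynomial.map_pow, Polynomial.map_sub, map_X, map_C]
  have hPine : (∏ i, (X - C ((IsLocalRing.residue A) (P i))) ^ (e i - 1)) ≠ 0 :=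
    Finset.prod_ne_zero_iff.2 fun i _ => pow_ne_zero _ (X_sub_C_ne_zero _)
  have hex : derivative^[p - 1] ((∏ i, (X - C ((IsLocalRing.residue A) (P i))) ^ (e i - 1)) * h ^ (p - 2)) = 0 := by
    have h1 := congrArg (Polynomial.map (IsLocalRing.residue A)) (Groth.Misc6.PencilLimit.exact_form p hw hWL)
    rw [← iterate_derivative_map, Polynomial.map_zero, Polynomial.map_mul, Polynomial.map_pow, hPi, hdec,
      mul_pow, mul_pow, ← map_pow, ← map_pow] at h1
    rw [mul_left_comm, iterate_derivative_C_mul, ← mul_assoc (∏ i, _),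
      Groth.Misc6.PencilLimit.iterate_derivative_mul_expand, mul_eq_zero, C_eq_zero,
      or_iff_right (pow_ne_zero _ (leadingCoeff_ne_zero.2 hLbar)), mul_eq_zero,
      or_iff_left ((expand_ne_zero hp.pos).2 (pow_ne_zero _ hQ))] at h1
    exact h1
  have hroot : ∀ c, h.IsRoot c → rootMultiplicity c (∏ i, (X - C ((IsLocalRing.residue A) (P i))) ^ (e i - 1)) + 1 =
      rootMultiplicity c h := by
    intro c hc
    have hpos : 0 < rootMultiplicity c h := (rootMultiplicity_pos hh).2 hc
    rw [Groth.Misc6.PencilLimit.rootMultiplicity_prod_X_sub_C_pow, hmult] at *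
    by_cases hcP : ∃ i, c = (IsLocalRing.residue A) (P i)
    · obtain ⟨i, rfl⟩ := hcP
      rw [Finset.sum_eq_single i (fun j _ hj => if_neg (hdist.ne hj)) (fun h => absurd (Finset.mem_univ i) h),
        if_pos rfl]
      rcases cP i with h1 | h1
      · omega
      · have := (he.1 i).1
        omega
    · push Not at hcP
      rw [Finset.sum_eq_zero fun i _ => if_neg (Ne.symm (hcP i))]
      have := cOff c hcP
      omega
  have hsum := Groth.Misc6.PencilLimit.sum_sub_one he
  obtain ⟨E, hEdeg, hEW⟩ := Groth.Misc6.PencilLimit.exists_partner p d hh hPine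
    (by rw [Groth.Misc6.PencilLimit.natDegree_prod_X_sub_C_pow]; omega) (by omega) hex hroot
  obtain ⟨hV, hVinf⟩ := Groth.Misc6.PencilLimit.special_pencil p (fun i => (IsLocalRing.residue A) (P i)) hdist e
    (fun i => ⟨(he.1 i).1, hlt i⟩) (D := d + (Q.natDegree + a) * p - 1 + ε)
    (l := 2 * (Q.natDegree + a) * p - 1 + 2 * ε) hh (by omega)
    (by rw [mul_assoc]; omega) (by rw [mul_assoc]; omega) hEW hroot
  exact ⟨_, hV, hVinf⟩

end Groth.Agent.S13935
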