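import Groth.Statements.S13936
import Mathlib
open TensorProduct

set_option autoImplicit false
universe u
open W4c1limliniiii

namespace Groth.Agent.S13936

/-- Let R be a commutative ring, S_Y → S_X a homomorphism of R-algebras (an affine piece of a morphism f
: X → Y of schemes over Spec R) and σ : S_X → R an R-algebra retraction (a section of X over the
base) with kernel I. For e ≥ 1 write T^{e−1} for the augmentation ideal of the ring of principal
parts of order e − 1 (the kernel of P^{e−1} → the algebra; for e = 2 this is the module of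
differentials). Then the natural map T^{e−1}(S_Y/R) → T^{e−1}(S_X/R) takes values in I ·
T^{e−1}(S_X/R) — that is, the induced map f^*T^{e−1}_Y → T^{e−1}_X vanishes at the section σ — if
and only if every element of S_Y whose image in S_X lies in I has image in I^e, which says that the
fibre of f through σ contains the e-th order thickening of σ. (The published statement is for a
morphism of separated schemes over a base and sections over an arbitrary base change; this row is
the affine computation it reduces to.) -/
theorem result (R SY SX : Type u)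
    [CommRing R] [CommRing SY] [CommRing SX] [Algebra R SY] [Algebra R SX] [Algebra SY SX]
    [IsScalarTower R SY SX] (σ : SX →ₐ[R] R) (e : ℕ) (he : 1 ≤ e) :
    (∀ y ∈ PP16.augIdeal (e - 1) R SY,
        PP16.map (e - 1) R SY R SX y ∈
          RingHom.ker σ.toRingHom • (PP16.augIdeal (e - 1) R SX).restrictScalars SX) ↔
      (∀ b : SY, algebraMap SY SX b ∈ RingHom.ker σ.toRingHom →
        algebraMap SY SX b ∈ RingHom.ker σ.toRingHom ^ e) := by
  classical
  obtain ⟨n, rfl⟩ : ∃ n, e = n + 1 := ⟨e - 1, by omega⟩
  simp only [Nat.add_sub_cancel, add_tsub_cancel_right, Nat.add_one_sub_one]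
  set I := RingHom.ker σ.toRingHom with hI
  set D := KaehlerDifferential.ideal R SX with hD
  let T := SX ⊗[R] SX
  let φ : T →ₐ[R] SX := Algebra.TensorProduct.lift ((Algebra.ofId R SX).comp σ) (AlgHom.id R SX)
    (fun _ _ => Commute.all _ _)
  have hφ : ∀ a c, φ (a ⊗ₜ c) = algebraMap R SX (σ a) * c := fun a c => rfl
  have hσI : ∀ a, a - algebraMap R SX (σ a) ∈ I := fun a => by
    simp [hI, RingHom.mem_ker]
  have hφker : ∀ a ∈ I, ∀ x : T, φ (a • x) = 0 := fun a ha x => by
    rw [Algebra.smul_def, map_mul, Algebra.TensorProduct.algebraMap_apply, hφ]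
    simp [show σ a = 0 from ha]
  have hφD : D.map φ = I := by
    apply le_antisymm
    · rw [hD, ← KaehlerDifferential.span_range_eq_ideal, Ideal.map_span, Ideal.span_le]
      rintro _ ⟨_, ⟨s, rfl⟩, rfl⟩
      simpa [hφ] using hσI s
    · intro a ha
      have h := Ideal.mem_map_of_mem φ (KaehlerDifferential.one_smul_sub_smul_one_mem_ideal R (S := SX) a)
      simpa [hφ, show σ a = 0 from ha] using h
  have hφs : Function.Surjective φ := fun c => ⟨1 ⊗ₜ c, by simp [hφ]⟩
  let mkL : T →ₗ[SX] PP16.P n R SX := (Ideal.Quotient.mkₐ SX (D ^ (n + 1))).toLinearMap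
  -- the key membership criterion
  have key : ∀ x ∈ D, mkL x ∈ I • (PP16.augIdeal n R SX).restrictScalars SX ↔ φ x ∈ I ^ (n + 1) := by
    intro x hx
    have haug : (PP16.augIdeal n R SX).restrictScalars SX = (D.restrictScalars SX).map mkL := by
      ext z
      rw [Submodule.restrictScalars_mem, PP16.augIdeal,
        Ideal.mem_map_iff_of_surjective _ Ideal.Quotient.mk_surjective]
      rfl
    rw [haug, ← Submodule.map_smul'']
    constructor
    · rintro ⟨w, hw, e⟩
      have e' : x - w ∈ D ^ (n + 1) := Ideal.Quotient.eq.1 e.symm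
      have h1 : φ w = 0 := by
        refine Submodule.smul_induction_on hw (fun a ha y _ => hφker a ha y) fun y z hy hz => ?_
        rw [map_add, hy, hz, add_zero]
      have h2 := Ideal.mem_map_of_mem φ e'
      rwa [Ideal.map_pow, hφD, map_sub, h1, sub_zero] at h2
    · intro h
      rw [← hφD, ← Ideal.map_pow, Ideal.mem_map_iff_of_surjective φ hφs] at h
      obtain ⟨z, hz, hzx⟩ := h
      have hzD : z ∈ D := Ideal.pow_le_self (Nat.succ_ne_zero n) hz
      have hker : ∀ y : T, y - 1 ⊗ₜ φ y ∈ I • (⊤ : Submodule SX T) := by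
        intro y
        induction y using TensorProduct.induction_on with
        | zero => simp
        | tmul a c =>
          have e : a ⊗ₜ[R] c - 1 ⊗ₜ φ (a ⊗ₜ c) = (a - algebraMap R SX (σ a)) • ((1 : SX) ⊗ₜ[R] c) := by
            rw [sub_smul, smul_tmul', smul_eq_mul, mul_one, hφ, ← Algebra.smul_def, tmul_smul,
              algebraMap_smul]
          rw [e]
          exact Submodule.smul_mem_smul (hσI a) Submodule.mem_top
        | add y₁ y₂ h₁ h₂ =>
          rw [map_add, tmul_add, add_sub_add_comm]
          exact add_mem h₁ h₂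
      let μ := Algebra.TensorProduct.lmul' R (S := SX)
      have hμD : ∀ y, y ∈ D ↔ μ y = 0 := fun y => Iff.rfl
      have hsplit : ∀ y ∈ I • (⊤ : Submodule SX T), y - μ y • (1 : T) ∈ I • D.restrictScalars SX := by
        intro y hy
        refine Submodule.smul_induction_on hy (fun a ha w _ => ?_) fun y₁ y₂ h₁ h₂ => ?_
        · have e : μ (a • w) = a * μ w := by
            rw [Algebra.smul_def, map_mul, Algebra.TensorProduct.algebraMap_apply]; simp [μ]
          rw [e, mul_smul, ← smul_sub]
          refine Submodule.smul_mem_smul ha ?_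
          rw [Submodule.restrictScalars_mem, hμD, map_sub, sub_eq_zero, Algebra.smul_def, mul_one,
            Algebra.TensorProduct.algebraMap_apply]
          simp [μ]
        · rw [map_add, add_smul, add_sub_add_comm]
          exact add_mem h₁ h₂
      have h1 := hker (x - z)
      rw [map_sub, hzx, sub_self, tmul_zero, sub_zero] at h1
      have h2 := hsplit _ h1
      rw [(hμD _).1 (sub_mem hx hzD), zero_smul, sub_zero] at h2
      exact ⟨x - z, h2, Ideal.Quotient.eq.2 (by rw [sub_sub_cancel_left]; exact neg_mem hz)⟩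
  have hgen : ∀ b : SY, PP16.tensorMap R SY R SX (1 ⊗ₜ b - b ⊗ₜ 1) =
      1 ⊗ₜ algebraMap SY SX b - algebraMap SY SX b ⊗ₜ 1 := fun b => by
    rw [map_sub, PP16.tensorMap_tmul, PP16.tensorMap_tmul, map_one]
  constructor
  · intro H b hb
    have h1 := H (Ideal.Quotient.mk _ (1 ⊗ₜ b - b ⊗ₜ 1))
      (Ideal.mem_map_of_mem _ (KaehlerDifferential.one_smul_sub_smul_one_mem_ideal R b))
    rw [PP16.map_mk, hgen] at h1
    have h2 := (key _ (KaehlerDifferential.one_smul_sub_smul_one_mem_ideal R _)).1 h1
    simpa [hφ, show σ (algebraMap SY SX b) = 0 from hb] using h2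
  · intro H y hy
    rw [PP16.augIdeal, Ideal.mem_map_iff_of_surjective _ Ideal.Quotient.mk_surjective] at hy
    obtain ⟨x, hx, rfl⟩ := hy
    rw [PP16.map_mk]
    refine (key _ (PP16.ideal_map_tensorMap_le R SY R SX (Ideal.mem_map_of_mem _ hx))).2 ?_
    have hle : (KaehlerDifferential.ideal R SY).map ((φ.comp (PP16.tensorMap R SY R SX)).toRingHom) ≤
        I ^ (n + 1) := by
      rw [← KaehlerDifferential.span_range_eq_ideal, Ideal.map_span, Ideal.span_le]
      rintro _ ⟨_, ⟨b, rfl⟩, rfl⟩
      have h2 := H (b - algebraMap R SY (σ (algebraMap SY SX b))) (by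
        rw [map_sub, ← IsScalarTower.algebraMap_apply]; exact hσI _)
      rw [map_sub, ← IsScalarTower.algebraMap_apply] at h2
      change φ (PP16.tensorMap R SY R SX (1 ⊗ₜ b - b ⊗ₜ 1)) ∈ I ^ (n + 1)
      rw [hgen, map_sub, hφ, hφ]
      simpa using h2
    exact hle (Ideal.mem_map_of_mem _ hx)

end Groth.Agent.S13936
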