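import Groth.Statements.S1395
import Groth.Agent.Misc12.ValTrivial.Core
import Groth.Agent.Misc12.ValTrivial.Closed
import Groth.Agent.PicAux.Powers
import Groth.Agent.PicAux.PicLaw

set_option autoImplicit false
universe u
open FlatMor

namespace Groth.Agent.S1395

open AlgebraicGeometry CategoryTheory Limits in
/-- Over a valuation ring A consider a proper, flat morphism of finite presentation f : X → Spec A and
an invertible O_X-module L. If L is trivial on the generic fibre, the closed fibre is integral, and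
the global functions of the generic fibre are just the fraction field (the residue field of the
generic point), then L is trivial. -/
theorem result {A : Type u} [CommRing A] [IsDomain A] [ValuationRing A] {X : Scheme.{u}}
    (f : X ⟶ Spec (CommRingCat.of A)) [IsProper f] [Flat f] [LocallyOfFinitePresentation f] (L : X.Modules) (hL : PicF.IsInvertible L)
    (htriv : Nonempty ((Scheme.Modules.pullback (f.fiberι (genericPoint ↑(Spec (CommRingCat.of A))))).obj L ≅
      Coh.structureModule (f.fiber (genericPoint ↑(Spec (CommRingCat.of A))))))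
    (hint : IsIntegral (f.fiber (IsLocalRing.closedPoint A)))
    (h0 : Function.Bijective ((f.fiberToSpecResidueField (genericPoint ↑(Spec (CommRingCat.of A)))).appTop)) :
    Nonempty (L ≅ Coh.structureModule X) := by
  classical
  haveI hred : AlgebraicGeometry.IsReduced (f.fiber (IsLocalRing.closedPoint A)) := inferInstance
  set η : ↥(Spec (CommRingCat.of A)) := genericPoint ↑(Spec (CommRingCat.of A)) with hη
  have hη0 : η.asIdeal = ⊥ := congrArg PrimeSpectrum.asIdeal (genericPoint_eq_bot_of_affine (CommRingCat.of A))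
  let K := η.asIdeal.ResidueField
  haveI : FaithfulSMul A K := by
    rw [faithfulSMul_iff_algebraMap_injective, injective_iff_map_eq_zero]
    intro a ha
    rw [Ideal.algebraMap_residueField_eq_zero, hη0] at ha
    exact ha
  haveI : IsFractionRing A K := IsFractionRing.of_field A K fun z => by
    obtain ⟨x, y, -, rfl⟩ := IsFractionRing.div_surjective (A ⧸ η.asIdeal) z
    obtain ⟨x, rfl⟩ := Ideal.Quotient.mk_surjective x
    obtain ⟨y, rfl⟩ := Ideal.Quotient.mk_surjective y
    exact ⟨x, y, rfl⟩
  let g := f.fiberι η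
  let ι := Scheme.Spec.residueFieldIso (CommRingCat.of A) η
  let f' : f.fiber η ⟶ Spec (CommRingCat.of K) := f.fiberToSpecResidueField η ≫ Spec.map ι.inv
  have hp : IsPullback g f' f (Spec.map (CommRingCat.ofHom (algebraMap A K))) := by
    refine (IsPullback.of_hasPullback f ((Spec (CommRingCat.of A)).fromSpecResidueField η)).of_iso
      (Iso.refl _) (Iso.refl _) (asIso (Spec.map ι.inv)) (Iso.refl _) ?_ ?_ ?_ ?_
    · simp only [g, Scheme.Hom.fiberι, Iso.refl_hom]
      exact (Category.comp_id _).trans (Category.id_comp _).symm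
    · simp only [f', Scheme.Hom.fiberToSpecResidueField, Iso.refl_hom, asIso_hom]
      exact (Category.id_comp _).symm
    · simp
    · simp [ι]
      exact (Scheme.Spec.map_residueFieldIso_inv_eq_fromSpecResidueField (CommRingCat.of A) η).symm
  have h0' : Function.Bijective (Coh.toGlobal f') := by
    have h1 : Function.Bijective ((Scheme.ΓSpecIso (CommRingCat.of K)).inv) :=
      ConcreteCategory.bijective_of_isIso _
    haveI : IsIso (Spec.map ι.inv).appTop :=
      inferInstanceAs (IsIso (Scheme.Γ.map (Spec.map ι.inv).op))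
    have h2 : Function.Bijective ((Spec.map ι.inv).appTop) :=
      ConcreteCategory.bijective_of_isIso _
    exact h0.comp (h2.comp h1)
  obtain ⟨N, hN, ⟨φ⟩⟩ := Groth.PicAux.exists_isInverseOf hL
  obtain ⟨trivL⟩ := htriv
  obtain ⟨trivO⟩ := Groth.PicAux.pullback_structure_iso g
  have hO : PicF.IsInvertible (Coh.structureModule X) := (Groth.PicAux.isInvertible_iff_exists_gen _).2
    fun x => ⟨⊤, _, trivial, Groth.PicAux.gen_oneSec ⊤⟩
  obtain ⟨trivN⟩ : Nonempty ((Scheme.Modules.pullback g).obj N ≅ Coh.structureModule (f.fiber η)) := by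
    obtain ⟨e1⟩ := Groth.PicAux.pullback_tensorMod g hL hN
    obtain ⟨e2⟩ := Groth.PicAux.tensorMod_iso_structure_of_iso (Groth.PicAux.isInvertible_pullback g hN) trivL
    exact ⟨e2.symm ≪≫ e1.symm ≪≫ (Scheme.Modules.pullback g).mapIso φ ≪≫ trivO⟩
  obtain ⟨s, hs, hsgen, -⟩ := Groth.Misc12.ValTrivial.exists_generator f hL K g f' hp trivL h0'
  obtain ⟨t, ht, htgen, -⟩ := Groth.Misc12.ValTrivial.exists_generator f hN K g f' hp trivN h0'
  obtain ⟨o, -, hogen, -⟩ := Groth.Misc12.ValTrivial.exists_generator f hO K g f' hp trivO h0'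
  have hsurj : Function.Surjective (Coh.toGlobal f) := by
    show ∀ r : Γ(X, ⊤), ∃ a, (Coh.toGlobal f a : Γ(X, ⊤)) = r
    intro r
    obtain ⟨c, hc⟩ := hogen (Groth.PicAux.oneSec X ⊤)
    obtain ⟨d, hd⟩ := hogen (Groth.PicAux.toFun o • o)
    obtain ⟨b, hb⟩ := hogen (r • Groth.PicAux.oneSec X ⊤)
    have hc' := congrArg Groth.PicAux.toFun hc
    have hd' := congrArg Groth.PicAux.toFun hd
    have hb' := congrArg Groth.PicAux.toFun hb
    simp only [Groth.PicAux.toFun_smul, Groth.PicAux.toFun_oneSec, mul_one] at hc' hd' hb'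
    refine ⟨b * d, ?_⟩
    rw [← Groth.Misc12.ValTrivial.secMap_top, map_mul, hb']
    change @Eq Γ(X, ⊤) _ _
    linear_combination (Groth.Misc12.ValTrivial.secMap f ⊤ b * Groth.Misc12.ValTrivial.secMap f ⊤ d - Groth.Misc12.ValTrivial.secMap f ⊤ b * Groth.PicAux.toFun o) * hc' -
      Groth.Misc12.ValTrivial.secMap f ⊤ b * Groth.Misc12.ValTrivial.secMap f ⊤ c * hd'
  obtain ⟨a, ha⟩ := hsurj (Groth.PicAux.pairing φ.hom s t)
  obtain ⟨x, hx, hxs⟩ := Groth.Misc12.ValTrivial.exists_closed_mem_genLocus f hred hL s hs hsgen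
  obtain ⟨y, hy, hyt⟩ := Groth.Misc12.ValTrivial.exists_closed_mem_genLocus f hred hN t ht htgen
  let i := f.fiberι (IsLocalRing.closedPoint A)
  have hr : ∀ z, f.base z = IsLocalRing.closedPoint A → ∃ w, i.base w = z := fun z hz =>
    (f.range_fiberι (IsLocalRing.closedPoint A)).ge hz
  obtain ⟨w, hw⟩ := hr x hx
  obtain ⟨w', hw'⟩ := hr y hy
  obtain ⟨v, hv, hv'⟩ := nonempty_preirreducible_inter
    (i ⁻¹ᵁ CohB1.genLocus L (Groth.PicAux.homOfSection s)).2
    (i ⁻¹ᵁ CohB1.genLocus N (Groth.PicAux.homOfSection t)).2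
    ⟨w, show i.base w ∈ _ by rw [hw]; exact hxs⟩ ⟨w', show i.base w' ∈ _ by rw [hw']; exact hyt⟩
  exact Groth.Misc12.ValTrivial.exists_iso_of_pairing f φ s t a ha
    (show i.base v ∈ f.base ⁻¹' {IsLocalRing.closedPoint A} from f.range_fiberι _ ▸ ⟨v, rfl⟩) hv hv'

end Groth.Agent.S1395
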