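import Groth.Statements.S13951
import Groth.Agent.AlgSp2.FppfProps

set_option autoImplicit false
universe u
open TateLoc

namespace Groth.Agent.S13951

open CategoryTheory AlgebraicGeometry CategoryTheory.Limits MonObj MonoidalCategory CartesianMonoidalCategory in
/-- A finite flat commutative group scheme with connected fibres has only the unit point with values in
a reduced scheme. -/
theorem eq_one {S : Scheme.{u}} (I : Over S) [GrpObj I] [IsFinite I.hom]
    (hconn : ∀ s : S, ConnectedSpace ↥(I.hom.fiber s)) (T : Over S) [IsReduced T.left]
    (x : T ⟶ I) : x = 1 := by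
  set e : 𝟙_ (Over S) ⟶ I := η[I] with he
  have hw : e.left ≫ I.hom = 𝟙 S := Over.w e
  have hsec : IsClosedImmersion e.left := by
    haveI : IsClosedImmersion (e.left ≫ I.hom) := by
      rw [hw]; haveI : IsIso (𝟙 S : S ⟶ S) := IsIso.id S
      exact MorphismProperty.of_isIso @IsClosedImmersion _
    exact IsClosedImmersion.of_comp e.left I.hom
  have hsurj : Surjective e.left := by
    refine ⟨fun p => ⟨I.hom p, ?_⟩⟩
    haveI := hconn (I.hom p)
    have hq : I.hom (e.left (I.hom p)) = I.hom p := by
      rw [← Scheme.Hom.comp_apply, hw]; rfl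
    haveI : DiscreteTopology (I.hom ⁻¹' {I.hom p}) :=
      isDiscrete_iff_discreteTopology.mp (I.hom.isDiscrete_preimage_singleton (I.hom p))
    haveI : PreconnectedSpace (I.hom ⁻¹' {I.hom p}) :=
      (I.hom.fiberHomeo (I.hom p)).surjective.denseRange.preconnectedSpace (I.hom.fiberHomeo (I.hom p)).continuous
    haveI : Subsingleton (I.hom ⁻¹' {I.hom p}) := PreconnectedSpace.trivial_of_discrete
    exact congrArg Subtype.val (Subsingleton.elim (⟨e.left (I.hom p), hq⟩ : I.hom ⁻¹' {I.hom p}) ⟨p, rfl⟩)
  haveI : IsClosedImmersion (pullback.fst x.left e.left) := inferInstance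
  haveI : Surjective (pullback.fst x.left e.left) := inferInstance
  haveI : IsIso (pullback.fst x.left e.left) := isIso_of_isClosedImmersion_of_surjective _
  have key : x.left = inv (pullback.fst x.left e.left) ≫ pullback.snd x.left e.left ≫ e.left := by
    rw [← pullback.condition, IsIso.inv_hom_id_assoc]
  have hy : inv (pullback.fst x.left e.left) ≫ pullback.snd x.left e.left = T.hom := by
    have h := Over.w x
    rw [key, Category.assoc, Category.assoc, hw] at h
    exact (congrArg (_ ≫ ·) (Category.comp_id _)).symm.trans h
  have h1 : x.left = T.hom ≫ e.left := by rw [key, ← Category.assoc, hy]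
  exact Over.OverMorphism.ext h1

open CategoryTheory AlgebraicGeometry CategoryTheory.Limits in
/-- Let S be a reduced scheme and I a finite locally free commutative S-group scheme (finite, flat, of
finite presentation) whose fibres over all points of S are connected. Then the restriction of the
sheaf of points of I from the big fppf site of S to the small etale site of S is the zero sheaf. -/
theorem result (S : Scheme.{u}) [IsReduced S]
    (I : Over S) [GrpObj I] [IsCommMonObj I] [IsFinite I.hom] [Flat I.hom] [LocallyOfFinitePresentation I.hom]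
    (hconn : ∀ s : S, ConnectedSpace ↥(I.hom.fiber s)) :
    IsZero ((BigSite.resEt Scheme.fppfPrecoverage S).obj (CGrpSh.pts Scheme.fppfPrecoverage I)) := by
  refine IsZero.of_full_of_faithful_of_isZero (sheafToPresheaf _ _) _ (Functor.isZero _ fun U => ?_)
  refine @AddCommGrpCat.isZero_of_subsingleton _ ⟨fun a b => ?_⟩
  haveI : IsReduced ((EtFppf.a S).op.obj U).unop.left := by
    show IsReduced ((EtFppf.a S).obj U.unop).left
    haveI : Etale ((EtFppf.a S).obj U.unop).hom := U.unop.prop
    exact Groth.AlgSp2.isReduced_of_smooth_morphism ((EtFppf.a S).obj U.unop).hom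
  apply ULift.ext
  exact congrArg Additive.ofMul ((eq_one I hconn _ a.down.toMul).trans (eq_one I hconn _ b.down.toMul).symm)

end Groth.Agent.S13951
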