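import Groth.Statements.S13953
import Mathlib
-- import your own Groth.Agent.* helpers here

set_option autoImplicit false
universe u
open TateLoc

namespace Groth.Agent.S13953

/-- Let (R_i) be a family of local commutative rings and R = ∏ R_i. Any open cover of Spec R can be
refined by one coming from a finite partition of the index set: there is a map c from the index set
to a finite set such that, for each value m, the basic open subset of Spec R defined by the
idempotent which is 1 at the indices with c i = m and 0 elsewhere (this open is the spectrum of the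
product of the R_i over that class) is contained in some member of the cover. -/
theorem result {ι : Type u} (R : ι → Type u)
    [∀ i, CommRing (R i)] [∀ i, IsLocalRing (R i)] {J : Type u}
    (U : J → TopologicalSpace.Opens (PrimeSpectrum (∀ i, R i))) (hU : ⨆ j, U j = ⊤) :
    ∃ (n : ℕ) (c : ι → Fin n), ∀ m : Fin n, ∃ j : J,
      PrimeSpectrum.basicOpen (fun i => if c i = m then (1 : R i) else 0) ≤ U j := by
  classical
  let good : Set ι → Prop := fun E => ∃ j, PrimeSpectrum.basicOpen (fun i => if i ∈ E then (1 : R i) else 0) ≤ U j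
  have hmul : ∀ (a : ∀ i, R i) (E : Set ι), (∀ i ∈ E, IsUnit (a i)) →
      PrimeSpectrum.basicOpen (fun i => if i ∈ E then (1 : R i) else 0) ≤ PrimeSpectrum.basicOpen a := by
    intro a E hE
    have : (fun i => if i ∈ E then (1 : R i) else 0) =
        a * fun i => if h : i ∈ E then (↑((hE i h).unit⁻¹) : R i) else 0 := by
      funext i
      by_cases h : i ∈ E <;> simp [h]
    rw [this]
    exact PrimeSpectrum.basicOpen_mul_le_left _ _
  have hF : ∀ F : Ultrafilter ι, ∃ E, good E ∧ E ∈ F := by
    intro F
    let p : Ideal (∀ i, R i) :=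
      { carrier := {a | {i | ¬ IsUnit (a i)} ∈ F}
        zero_mem' := Filter.mem_of_superset Filter.univ_mem fun i _ => by simp
        add_mem' := fun {a b} ha hb => Filter.mem_of_superset (Filter.inter_mem ha hb) fun i hi =>
          IsLocalRing.nonunits_add hi.1 hi.2
        smul_mem' := fun r a ha => Filter.mem_of_superset ha fun i hi => fun h => hi (by
          simp only [smul_eq_mul, Pi.mul_apply] at h; exact (IsUnit.mul_iff.1 h).2) }
    have hp : p.IsPrime := by
      refine ⟨fun h => ?_, ?_⟩
      · have : (1 : ∀ i, R i) ∈ p := h ▸ trivial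
        change {i | ¬ IsUnit ((1 : ∀ i, R i) i)} ∈ F at this
        simp at this
      · intro a b hab
        change {i | ¬ IsUnit ((a * b) i)} ∈ F at hab
        simp only [Pi.mul_apply, IsUnit.mul_iff, not_and_or] at hab
        exact Ultrafilter.union_mem_iff.1 hab
    have hmem : (⟨p, hp⟩ : PrimeSpectrum (∀ i, R i)) ∈ ⨆ j, U j := by rw [hU]; trivial
    obtain ⟨j, hj⟩ := TopologicalSpace.Opens.mem_iSup.1 hmem
    obtain ⟨-, ⟨a, rfl⟩, hpa, hsub⟩ :=
      PrimeSpectrum.isTopologicalBasis_basic_opens.exists_subset_of_mem_open hj (U j).2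
    refine ⟨{i | IsUnit (a i)}, ⟨j, (hmul a _ fun i hi => hi).trans hsub⟩, ?_⟩
    have h1 : {i | ¬ IsUnit (a i)} ∉ F := hpa
    exact Ultrafilter.compl_mem_iff_notMem.not_left.1 h1
  choose E hE hEF using hF
  obtain ⟨t, ht⟩ := isCompact_univ.elim_finite_subcover (fun F => {G : Ultrafilter ι | E F ∈ G})
    (fun F => ultrafilter_isOpen_basic _) (fun F _ => Set.mem_iUnion.2 ⟨F, hEF F⟩)
  have hc : ∀ i : ι, ∃ m : Fin t.card, i ∈ E (t.equivFin.symm m) := by
    intro i
    obtain ⟨F, hFt, hi⟩ : ∃ F, F ∈ t ∧ i ∈ E F := by simpa using ht (Set.mem_univ (pure i))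
    exact ⟨t.equivFin ⟨F, hFt⟩, by simpa using hi⟩
  choose c hc using hc
  refine ⟨t.card, c, fun m => ?_⟩
  obtain ⟨j, hj⟩ := hE (t.equivFin.symm m)
  refine ⟨j, le_trans ?_ hj⟩
  have : (fun i => if c i = m then (1 : R i) else 0) =
      (fun i => if i ∈ E (t.equivFin.symm m) then (1 : R i) else 0) * (fun i => if c i = m then (1 : R i) else 0) := by
    funext i
    by_cases h : c i = m
    · simp [h, show i ∈ E (t.equivFin.symm m) from h ▸ hc i]
    · simp [h]
  rw [this]
  exact PrimeSpectrum.basicOpen_mul_le_left _ _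

end Groth.Agent.S13953
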