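import Groth.Statements.S13954
import Groth.Agent.Misc6.PicAffine.Sheaf

set_option autoImplicit false
universe u
open TateLoc

namespace Groth.Agent.S13954

open Groth.PicAux

open CategoryTheory AlgebraicGeometry in
/-- Let X be a reduced scheme whose invertible modules are all trivial (Pic X = 0), and n a natural
number. If for every point x of X all invertible modules on affine n-space over Spec of the local
ring of X at x are trivial, then all invertible modules on affine n-space over X are trivial. -/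
theorem result (X : Scheme.{u}) [IsReduced X] (n : ℕ)
    (hX : (∀ L : (X).Modules, PicF.IsInvertible L → Nonempty (L ≅ Coh.structureModule (X))))
    (hloc : ∀ x : X, (∀ L : (AffineSpace (ULift.{u} (Fin n)) (Spec (X.presheaf.stalk x))).Modules, PicF.IsInvertible L → Nonempty (L ≅ Coh.structureModule (AffineSpace (ULift.{u} (Fin n)) (Spec (X.presheaf.stalk x)))))) :
    (∀ L : (AffineSpace (ULift.{u} (Fin n)) X).Modules, PicF.IsInvertible L → Nonempty (L ≅ Coh.structureModule (AffineSpace (ULift.{u} (Fin n)) X))) := by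
  intro L hL
  refine nonempty_iso_structure_iff.2 ?_
  let π := AffineSpace (ULift.{u} (Fin n)) X ↘ X
  obtain ⟨z, hz⟩ : ∃ z : X ⟶ AffineSpace (ULift.{u} (Fin n)) X, z ≫ π = 𝟙 X :=
    ⟨AffineSpace.homOfVector (𝟙 X) 0, AffineSpace.homOfVector_over _ _⟩
  obtain ⟨σ₀, hσ₀⟩ := nonempty_iso_structure_iff.1 (hX _ (isInvertible_pullback z hL))
  have hzle : ∀ V : X.Opens, V ≤ z ⁻¹ᵁ π ⁻¹ᵁ V := fun V => by
    rw [← Scheme.Hom.comp_preimage, hz]; exact le_rfl
  have hzapp : ∀ (V : X.Opens) (r : Γ(X, V)), resX X (hzle V) (z.app (π ⁻¹ᵁ V) (π.app V r)) = r := by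
    intro V r
    have h := Scheme.Hom.appLE_comp_appLE z π V (π ⁻¹ᵁ V) V le_rfl (hzle V)
    have h2 : (z ≫ π).appLE V V ((hzle V).trans (z.preimage_mono le_rfl)) = 𝟙 _ := by
      have h3 : (𝟙 X : X ⟶ X).appLE V V le_rfl = 𝟙 _ := by
        rw [Scheme.Hom.appLE, Scheme.Hom.id_app]
        exact (Category.id_comp _).trans (X.presheaf.map_id _)
      convert h3 using 2
    rw [h2, ← Scheme.Hom.app_eq_appLE, Scheme.Hom.appLE] at h
    exact (congr($h r) : _)
  have hgen : ∀ x : X, ∃ (V : X.Opens) (s : Γ(L, π ⁻¹ᵁ V)), x ∈ V ∧ Gen L (π ⁻¹ᵁ V) s ∧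
      res ((Scheme.Modules.pullback z).obj L) (hzle V) (pullSec z L s) = res ((Scheme.Modules.pullback z).obj L) (le_top : V ≤ ⊤) σ₀ := by
    intro x
    obtain ⟨V, s, hxV, hs⟩ := Groth.Misc6.PicAffine.exists_local_gen L hL x (hloc x)
    obtain ⟨a, ha⟩ := ((hs.pull z).res (hzle V)).exists_unit (hσ₀.res (le_top : V ≤ ⊤))
    refine ⟨V, π.app V (a : Γ(X, V)) • s, hxV, hs.smul_unit (a.isUnit.map _), ?_⟩
    rw [pullSec_smul, res_smul, hzapp]
    exact ha.symm
  choose V s hxV hs hnorm using hgen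
  have hcov : (⊤ : (AffineSpace (ULift.{u} (Fin n)) X).Opens) ≤ iSup fun x => π ⁻¹ᵁ V x :=
    fun y _ => TopologicalSpace.Opens.mem_iSup.2 ⟨π y, hxV (π y)⟩
  have hcompat : ∀ x y : X, res L (inf_le_left : π ⁻¹ᵁ V x ⊓ π ⁻¹ᵁ V y ≤ π ⁻¹ᵁ V x) (s x) =
      res L (inf_le_right : π ⁻¹ᵁ V x ⊓ π ⁻¹ᵁ V y ≤ π ⁻¹ᵁ V y) (s y) := by
    intro x y
    refine res_ext (fun W : {W : X.Opens // IsAffineOpen W ∧ W ≤ V x ⊓ V y} => π ⁻¹ᵁ W.1)
      (fun W => le_inf (π.preimage_mono (W.2.2.trans inf_le_left)) (π.preimage_mono (W.2.2.trans inf_le_right)))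
      (fun a ha => ?_) fun W => ?_
    · obtain ⟨W, hW, haW, hle⟩ := exists_isAffineOpen_mem_and_subset (x := π a) (U := V x ⊓ V y) ha
      exact TopologicalSpace.Opens.mem_iSup.2 ⟨⟨W, hW, hle⟩, haW⟩
    · simp only [res_res]
      have hx' : π ⁻¹ᵁ W.1 ≤ π ⁻¹ᵁ V x := π.preimage_mono (W.2.2.trans inf_le_left)
      have hy' : π ⁻¹ᵁ W.1 ≤ π ⁻¹ᵁ V y := π.preimage_mono (W.2.2.trans inf_le_right)
      have hn : ∀ (w : X) (h : W.1 ≤ V w), res ((Scheme.Modules.pullback z).obj L) (hzle W.1) (pullSec z L (res L (π.preimage_mono h) (s w))) =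
          res ((Scheme.Modules.pullback z).obj L) (le_top : W.1 ≤ ⊤) σ₀ := by
        intro w h
        have h1 := congrArg (res ((Scheme.Modules.pullback z).obj L) h) (hnorm w)
        rw [← res_pullSec]
        simp only [res_res] at h1 ⊢
        exact h1
      obtain ⟨u, hu⟩ := ((hs x).res hx').exists_unit ((hs y).res hy')
      obtain ⟨r, hr⟩ := Groth.Misc6.PicAffine.exists_app_eq_of_isUnit W.2.1 u.isUnit
      have h1 := hn y (W.2.2.trans inf_le_right)
      rw [hu, pullSec_smul, res_smul, hn x (W.2.2.trans inf_le_left), ← hr, hzapp] at h1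
      have hr1 : r = 1 := hσ₀.smul_inj (le_top : W.1 ≤ ⊤) (by rw [one_smul]; exact h1)
      rw [hu, ← hr, hr1, map_one, one_smul]
  obtain ⟨g, hg, -⟩ := res_glue (fun x => π ⁻¹ᵁ V x) (fun _ => le_top) hcov s hcompat
  exact ⟨g, Gen.of_cover _ (fun _ => le_top) hcov fun x => by rw [hg x]; exact hs x⟩

end Groth.Agent.S13954
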