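import Groth.Statements.S13955
import Groth.Agent.Agf.GradedPic
import Groth.Agent.FlatMor2.FibreDense

set_option autoImplicit false
universe u
open TateLoc

namespace Groth.Agent.S13955

open TensorProduct in
theorem subsingleton_pic_mvPolynomial (V : Type u) [CommRing V] [IsDomain V] [IsIntegrallyClosed V]
    [Subsingleton (CommRing.Pic V)] (n : ℕ) : Subsingleton (CommRing.Pic (MvPolynomial (Fin n) V)) := by
  haveI := Groth.FlatMor2.isIntegrallyClosed_mvPolynomial V n
  refine CommRing.Pic.subsingleton_iff.2 fun M _ _ _ => ?_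
  let A := MvPolynomial (Fin n) V
  let ψ : A →+* Polynomial A := MvPolynomial.eval₂Hom
    ((Polynomial.C).comp MvPolynomial.C) fun v => Polynomial.X * Polynomial.C (MvPolynomial.X v)
  refine Groth.Agf.GradedPic.free_of_homotopy ψ (MvPolynomial.C : V →+* A) MvPolynomial.constantCoeff ?_ ?_ M
  · exact MvPolynomial.ringHom_ext (fun c => by simp [ψ, A]) fun v => by simp [ψ, A]
  · exact MvPolynomial.ringHom_ext (fun c => by simp [ψ, A]) fun v => by simp [ψ, A]

theorem exists_glue {ι : Type u} {R : ι → Type u} [∀ i, CommRing (R i)] {n D : ℕ}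
    (g : ∀ i, MvPolynomial (Fin n) (R i)) (hg : ∀ i, (g i).totalDegree ≤ D) :
    ∃ G : MvPolynomial (Fin n) (∀ i, R i), ∀ i, MvPolynomial.map (Pi.evalRingHom R i) G = g i := by
  classical
  let S : Finset (Fin n →₀ ℕ) := Finset.Iic (Finsupp.equivFunOnFinite.symm fun _ => D)
  refine ⟨∑ m ∈ S, MvPolynomial.monomial m fun i => (g i).coeff m, fun i => ?_⟩
  ext m
  rw [map_sum, MvPolynomial.coeff_sum]
  simp only [MvPolynomial.map_monomial, Pi.evalRingHom_apply, MvPolynomial.coeff_monomial]
  rw [Finset.sum_ite_eq']
  split_ifs with h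
  · rfl
  · by_contra hne
    refine h (Finset.mem_Iic.2 fun v => ?_)
    have h1 : m.degree ≤ D := (MvPolynomial.le_totalDegree (MvPolynomial.mem_support_iff.2 (Ne.symm hne))).trans (hg i)
    exact le_trans (Finsupp.le_degree v m) h1


/-- For a family (R_i) of valuation rings with product A = ∏ R_i and any n, the Picard group of the
polynomial ring in n variables over A is trivial. -/
theorem result {ι : Type u} (R : ι → Type u)
    [∀ i, CommRing (R i)] [∀ i, IsDomain (R i)] [∀ i, ValuationRing (R i)]
    (n : ℕ) : Subsingleton (CommRing.Pic (MvPolynomial (Fin n) (∀ i, R i))) := by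
  classical
  let A := ∀ i, R i
  let B := MvPolynomial (Fin n) A
  refine CommRing.Pic.subsingleton_iff.2 fun M _ _ _ => ?_
  obtain ⟨m, f, s, -, -, hfs⟩ := Module.Finite.exists_comp_eq_id_of_projective B M
  let e : Fin m → M := fun j => f (Pi.single j 1)
  let φ : Fin m → M →ₗ[B] B := fun j => (LinearMap.proj j).comp s
  have hbasis : ∀ x : M, x = ∑ j, φ j x • e j := fun x => by
    conv_lhs => rw [show x = f (s x) from (DFunLike.congr_fun hfs x).symm, pi_eq_sum_univ' (s x)]
    simp [φ, e]
  let D : ℕ := (Finset.univ : Finset (Fin m × Fin m)).sup fun p => (φ p.1 (e p.2)).totalDegree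
  have hpt : ∀ i, ∃ g c : Fin m → MvPolynomial (Fin n) (R i), (∑ j, g j * c j = 1) ∧
      (∀ j l, MvPolynomial.map (Pi.evalRingHom R i) (φ j (e l)) = g j * c l) ∧
      ∀ j, (g j).totalDegree ≤ D ∧ (c j).totalDegree ≤ D := by
    intro i
    let Bi := MvPolynomial (Fin n) (R i)
    let π : B →+* Bi := MvPolynomial.map (Pi.evalRingHom R i)
    letI : Algebra B Bi := π.toAlgebra
    haveI : Subsingleton (CommRing.Pic Bi) := subsingleton_pic_mvPolynomial (R i) n
    haveI hinv : Module.Invertible Bi (TensorProduct B Bi M) := inferInstance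
    obtain ⟨u⟩ := Module.Invertible.free_iff_linearEquiv.1
      (CommRing.Pic.subsingleton_iff.1 (inferInstance : Subsingleton (CommRing.Pic Bi)) (TensorProduct B Bi M) hinv)
    let z : TensorProduct B Bi M := u.symm 1
    let Φ : Fin m → TensorProduct B Bi M →ₗ[Bi] Bi := fun j =>
      (TensorProduct.AlgebraTensorModule.rid B Bi Bi).toLinearMap.comp ((φ j).baseChange Bi)
    have hΦ : ∀ j (x : M), Φ j (1 ⊗ₜ[B] x) = π (φ j x) := fun j x => by
      show TensorProduct.AlgebraTensorModule.rid B Bi Bi ((1 : Bi) ⊗ₜ[B] φ j x) = _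
      rw [TensorProduct.AlgebraTensorModule.rid_tmul, Algebra.smul_def, mul_one]
      rfl
    refine ⟨fun j => Φ j z, fun l => u (1 ⊗ₜ[B] e l), ?_, fun j l => ?_, ?_⟩
    · have hz : z = ∑ j, Φ j z • ((1 : Bi) ⊗ₜ[B] e j) := by
        clear_value z
        induction z with
        | zero => simp
        | tmul b x =>
          conv_lhs => rw [hbasis x, TensorProduct.tmul_sum]
          refine Finset.sum_congr rfl fun j _ => ?_
          show b ⊗ₜ[B] (φ j x • e j) = (TensorProduct.AlgebraTensorModule.rid B Bi Bi (b ⊗ₜ[B] φ j x)) • _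
          rw [TensorProduct.AlgebraTensorModule.rid_tmul, TensorProduct.tmul_smul, TensorProduct.smul_tmul',
            TensorProduct.smul_tmul', smul_eq_mul (φ j x • b) 1, mul_one]
        | add a b ha hb => simp only [map_add, add_smul, Finset.sum_add_distrib, ← ha, ← hb]
      have := congrArg u hz
      simp only [z, u.apply_symm_apply, map_sum, map_smul, smul_eq_mul] at this
      exact this.symm
    · show π (φ j (e l)) = _
      rw [← hΦ]
      have : (1 : Bi) ⊗ₜ[B] e l = u (1 ⊗ₜ[B] e l) • z := u.injective (by simp [z])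
      conv_lhs => rw [this, map_smul, smul_eq_mul, mul_comm]
    · have hone : ∑ j, Φ j z * u (1 ⊗ₜ[B] e j) = 1 := by
        have hz : z = ∑ j, Φ j z • ((1 : Bi) ⊗ₜ[B] e j) := by
          clear_value z
          induction z with
          | zero => simp
          | tmul b x =>
            conv_lhs => rw [hbasis x, TensorProduct.tmul_sum]
            refine Finset.sum_congr rfl fun j _ => ?_
            show b ⊗ₜ[B] (φ j x • e j) = (TensorProduct.AlgebraTensorModule.rid B Bi Bi (b ⊗ₜ[B] φ j x)) • _
            rw [TensorProduct.AlgebraTensorModule.rid_tmul, TensorProduct.tmul_smul, TensorProduct.smul_tmul',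
              TensorProduct.smul_tmul', smul_eq_mul (φ j x • b) 1, mul_one]
          | add a b ha hb => simp only [map_add, add_smul, Finset.sum_add_distrib, ← ha, ← hb]
        have := congrArg u hz
        simp only [z, u.apply_symm_apply, map_sum, map_smul, smul_eq_mul] at this
        exact this.symm
      obtain ⟨j0, -, hj0⟩ := Finset.exists_ne_zero_of_sum_ne_zero (hone.trans_ne one_ne_zero)
      have hprod : ∀ j l, (Φ j z * u (1 ⊗ₜ[B] e l)).totalDegree ≤ D := fun j l => by
        have h1 : π (φ j (e l)) = Φ j z * u (1 ⊗ₜ[B] e l) := by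
          rw [← hΦ]
          have : (1 : Bi) ⊗ₜ[B] e l = u (1 ⊗ₜ[B] e l) • z := u.injective (by simp [z])
          conv_lhs => rw [this, map_smul, smul_eq_mul, mul_comm]
        rw [← h1]
        refine le_trans (Finset.sup_mono (MvPolynomial.support_map_subset _ _)) ?_
        exact Finset.le_sup (f := fun p : Fin m × Fin m => (φ p.1 (e p.2)).totalDegree) (Finset.mem_univ (j, l))
      intro j
      obtain ⟨hg0, hc0⟩ := mul_ne_zero_iff.1 hj0
      constructor
      · by_cases h : Φ j z = 0
        · simp [h]
        · have := hprod j j0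
          rw [MvPolynomial.totalDegree_mul_of_isDomain h hc0] at this
          exact le_trans (Nat.le_add_right _ _) this
      · by_cases h : u (1 ⊗ₜ[B] e j) = 0
        · simp [h]
        · have := hprod j0 j
          rw [MvPolynomial.totalDegree_mul_of_isDomain hg0 h] at this
          exact le_trans (Nat.le_add_left _ _) this
  choose g c hsum hP hdeg using hpt
  choose G hG using fun j => exists_glue (fun i => g i j) fun i => (hdeg i j).1
  choose C hC using fun j => exists_glue (fun i => c i j) fun i => (hdeg i j).2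
  have hext : ∀ p q : B, (∀ i, MvPolynomial.map (Pi.evalRingHom R i) p = MvPolynomial.map (Pi.evalRingHom R i) q) →
      p = q := fun p q h => by
    ext mm i
    have := congrArg (MvPolynomial.coeff mm) (h i)
    simpa [MvPolynomial.coeff_map] using this
  have h1 : ∑ j, G j * C j = 1 := hext _ _ fun i => by
    simp only [map_sum, map_mul, map_one, hG, hC]
    exact hsum i
  have h2 : ∀ j l, φ j (e l) = G j * C l := fun j l => hext _ _ fun i => by
    rw [map_mul, hG, hC]; exact hP i j l
  let Θ : M →ₗ[B] B := ∑ j, C j • φ j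
  have hΘ : ∀ x, Θ x = ∑ j, C j * φ j x := fun x => by simp [Θ, LinearMap.sum_apply]
  let z : M := ∑ j, G j • e j
  have hΘe : ∀ l, Θ (e l) = C l := fun l => by
    rw [hΘ]
    simp only [h2]
    calc ∑ j, C j * (G j * C l) = (∑ j, G j * C j) * C l := by
          rw [Finset.sum_mul]; exact Finset.sum_congr rfl fun j _ => by ring
      _ = C l := by rw [h1, one_mul]
  have hz1 : Θ z = 1 := by
    simp only [z, map_sum, map_smul, smul_eq_mul, hΘe, h1]
  have hrec : ∀ x, x = Θ x • z := fun x => by
    rw [hΘ]
    conv_lhs => rw [hbasis x]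
    have hφz : ∀ j, φ j z = G j := fun j => by
      simp only [z, map_sum, map_smul, smul_eq_mul, h2]
      calc ∑ l, G l * (G j * C l) = (∑ l, G l * C l) * G j := by
            rw [Finset.sum_mul]; exact Finset.sum_congr rfl fun l _ => by ring
        _ = G j := by rw [h1, one_mul]
    conv_rhs => rw [hbasis z, Finset.smul_sum]
    refine Finset.sum_congr rfl fun j _ => ?_
    rw [hφz, smul_smul]
    congr 1
    conv_lhs => rw [hbasis x, map_sum]
    rw [Finset.sum_mul]
    simp only [map_smul, smul_eq_mul, h2]
    exact Finset.sum_congr rfl fun l _ => by ring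
  exact Module.Free.of_equiv (LinearEquiv.ofBijective Θ
    ⟨fun a b h => by rw [hrec a, hrec b, h], fun b => ⟨b • z, by rw [map_smul, hz1, smul_eq_mul, mul_one]⟩⟩).symm

end Groth.Agent.S13955
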