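import Groth.Statements.S13958
import Mathlib
-- import your own Groth.Agent.* helpers here

set_option autoImplicit false
universe u
open TateLoc

namespace Groth.Agent.S13958

open CategoryTheory in
/-- Let A' be a finitely generated abelian group (written multiplicatively, discrete) and A a subgroup.
If the image of x ∈ A' in the profinite completion of A' lies in the image of the profinite
completion of A under the map induced by the inclusion, then x ∈ A. (The published statement says
that the square formed by the two completion maps and the two inclusions is Cartesian; given the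
injectivity of the induced map on completions, which holds here, that amounts to this membership
criterion.) -/
theorem result (A' : Type u) [CommGroup A'] [Group.FG A']
    (A : Subgroup A') (x : A')
    (hx : ProfiniteGrp.ProfiniteCompletion.etaFn (GrpCat.of A') x ∈
      Set.range ⇑(ProfiniteGrp.profiniteCompletion.map (GrpCat.ofHom A.subtype)).hom) :
    x ∈ A := by
  classical
  by_contra hxA
  let Q := Additive (A' ⧸ A)
  have hne : Additive.ofMul (QuotientGroup.mk x : A' ⧸ A) ≠ 0 := fun h =>
    hxA ((QuotientGroup.eq_one_iff x).1 h)
  obtain ⟨c, hc⟩ := CharacterModule.exists_character_apply_ne_zero_of_ne_zero hne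
  let ψ : A' →* Multiplicative (AddCircle (1 : ℚ)) :=
    ((c : Q →+ AddCircle (1 : ℚ)).toMultiplicativeRight).comp (QuotientGroup.mk' A)
  have hψx : ψ x ≠ 1 := hc
  have : Finite ψ.range := by
    apply CommGroup.finite_of_fg_torsion
    rintro ⟨z, hz⟩
    rw [← Submonoid.isOfFinOrder_coe]
    show IsOfFinOrder z
    obtain ⟨q, hq⟩ := QuotientAddGroup.mk_surjective (Multiplicative.toAdd z)
    rw [isOfFinOrder_iff_pow_eq_one]
    refine ⟨q.den, q.den_pos, Multiplicative.toAdd.injective ?_⟩
    rw [toAdd_pow, toAdd_one, ← hq, ← QuotientAddGroup.mk_nsmul, QuotientAddGroup.eq_zero_iff]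
    exact ⟨q.num, by simp [Rat.den_mul_eq_num]⟩
  have hfi : ψ.ker.FiniteIndex := Subgroup.finiteIndex_ker ψ
  let N : FiniteIndexNormalSubgroup (GrpCat.of A') := { toSubgroup := ψ.ker }
  obtain ⟨y, hy⟩ := hx
  have key : ∀ z, ((ProfiniteGrp.profiniteCompletion.map (GrpCat.ofHom A.subtype)).hom z).1 N =
      (1 : A' ⧸ ψ.ker) := by
    intro z
    have hcont : Continuous fun z => ((ProfiniteGrp.profiniteCompletion.map (GrpCat.ofHom A.subtype)).hom z).1 N :=
      ((continuous_apply N).comp continuous_subtype_val).comp (map_continuous _)
    refine congrFun ((ProfiniteGrp.ProfiniteCompletion.denseRange (G := GrpCat.of A)).equalizer hcont continuous_const ?_) z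
    funext a
    have h1 := ConcreteCategory.congr_hom (ProfiniteGrp.ProfiniteCompletion.lift_eta (GrpCat.ofHom A.subtype ≫ ProfiniteGrp.ProfiniteCompletion.eta (GrpCat.of A'))) a
    have h2 := congrArg (fun w => w.1 N) h1
    refine h2.trans ?_
    exact (QuotientGroup.eq_one_iff _).2 (MonoidHom.mem_ker.2 (by
      show (c (Additive.ofMul (QuotientGroup.mk (a : A') : A' ⧸ A))) = 0
      rw [(QuotientGroup.eq_one_iff _).2 a.2]
      exact map_zero c))
  have := key y
  rw [hy] at this
  exact hψx ((QuotientGroup.eq_one_iff x).1 this)

end Groth.Agent.S13958
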