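import Groth.Statements.S13959
import Groth.Agent.Variety2.DimTrdeg

set_option autoImplicit false
universe u
open TateLoc
open CategoryTheory AlgebraicGeometry CategoryTheory.Limits
open scoped TensorProduct

namespace Groth.Agent.S13959

open CategoryTheory AlgebraicGeometry in
/-- Let k be a field, L an extension field of k which is separable over k in the sense that L ⊗_k L is
reduced (not necessarily algebraic), and I an infinitesimal k-group scheme (finite over k with
one-point underlying space). If a k-scheme E with an action of I is an fppf torsor under I and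
acquires a point over L, then E already has a k-point. (The published statement is the injectivity
of H^1(k, I) → H^1(L, I); this row is its torsor form.) -/
theorem result (k : Type u) [Field k] (L : Type u) [Field L] [Algebra k L]
    [IsReduced (TensorProduct k L L)]
    (I E : Over (Spec (CommRingCat.of k))) [GrpObj I] [IsFinite I.hom] [Subsingleton ↥(I.left)]
    (a : AlgGrp.Action I E) (hE : NonAbH1.IsTorsorFor Scheme.fppfPrecoverage a)
    (hL : NonAbH1.HasSectionOver E (Spec.map (CommRingCat.ofHom (algebraMap k L)))) :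
    NonAbH1.HasSectionOver E (𝟙 (Spec (CommRingCat.of k))) := by
  -- the infinitesimal group is universally injective
  have hI : UniversallyInjective I.hom := by
    refine ((tfae_universallyInjective (f := I.hom)).out 3 0).1 ((surjective_iff _).2 fun z => ?_)
    let e : Spec (CommRingCat.of k) ⟶ I.left := (MonObj.one (X := I)).left
    have he : e ≫ I.hom = 𝟙 _ := Over.w (MonObj.one (X := I))
    have hsur : Function.Surjective e.base := fun i => ⟨IsLocalRing.closedPoint k, Subsingleton.elim _ _⟩
    let m := pullback.map (𝟙 (Spec (CommRingCat.of k))) (𝟙 _) I.hom I.hom e e (𝟙 _)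
      (by rw [he, Category.id_comp]) (by rw [he, Category.id_comp])
    obtain ⟨z₀, hz₀⟩ : z ∈ Set.range m.base := by
      rw [Scheme.Pullback.range_map]
      exact ⟨hsur _, hsur _⟩
    refine ⟨e.base ((pullback.fst (𝟙 (Spec (CommRingCat.of k))) (𝟙 (Spec (CommRingCat.of k)))).base z₀), ?_⟩
    rw [← hz₀, ← Scheme.Hom.comp_apply, ← Scheme.Hom.comp_apply]
    refine congrArg (fun φ : _ ⟶ pullback.diagonalObj I.hom => φ.base z₀) ?_
    apply pullback.hom_ext
    · simp only [Category.assoc, pullback.diagonal_fst, Category.comp_id]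
      exact (pullback.lift_fst _ _ _).symm
    · have h := pullback.condition (f := 𝟙 (Spec (CommRingCat.of k))) (g := 𝟙 _)
      simp only [Category.comp_id] at h
      simp only [Category.assoc, pullback.diagonal_snd, Category.comp_id]
      rw [h]
      exact (pullback.lift_snd _ _ _).symm
  have hmonoI : ∀ (K : Type u) [Field K] (g₁ g₂ : Spec (CommRingCat.of K) ⟶ I.left),
      g₁ ≫ I.hom = g₂ ≫ I.hom → g₁ = g₂ := fun K _ g₁ g₂ h => by
    have h01 : UniversallyInjective I.hom ↔
        ∀ (K : Type u) [Field K], Function.Injective (fun g : Spec (CommRingCat.of K) ⟶ I.left => g ≫ I.hom) :=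
      (tfae_universallyInjective I.hom).out 0 1
    exact h01.1 hI K h
  -- so is a pseudo-torsor under it
  have hE' : ∀ (K : Type u) [Field K] (g₁ g₂ : Spec (CommRingCat.of K) ⟶ E.left),
      g₁ ≫ E.hom = g₂ ≫ E.hom → g₁ = g₂ := by
    intro K _ g₁ g₂ h
    open CartesianMonoidalCategory MonoidalCategory MonObj in
    haveI : IsIso (lift a.act (snd I E)) := hE.1
    open CartesianMonoidalCategory MonoidalCategory MonObj in
    exact (by
      let T : Over (Spec (CommRingCat.of k)) := Over.mk (g₁ ≫ E.hom)
      let x : T ⟶ E := Over.homMk g₁ rfl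
      let y : T ⟶ E := Over.homMk g₂ h.symm
      let p : T ⟶ I ⊗ E := lift y x ≫ inv (lift a.act (snd I E))
      have hp : p ≫ lift a.act (snd I E) = lift y x :=
        (Category.assoc _ _ _).trans (by rw [IsIso.inv_hom_id, Category.comp_id])
      have hp1 : p ≫ a.act = y := by
        have := congrArg (· ≫ fst E E) hp
        simpa using this
      have hp2 : p ≫ snd I E = x := by
        have := congrArg (· ≫ snd E E) hp
        simpa using this
      have hγ : p ≫ fst I E = toUnit T ≫ η[I] := by
        apply Over.OverMorphism.ext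
        apply hmonoI K
        rw [Over.w, Over.w]
      have hp' : p = lift (toUnit T) x ≫ (η[I] ▷ E) := by
        apply CartesianMonoidalCategory.hom_ext
        · rw [hγ]; simp
        · rw [hp2]; simp
      have : y = x := by
        rw [← hp1, hp', Category.assoc, a.one_act]
        simp
      exact (congrArg CommaMorphism.left this).symm)
  obtain ⟨s, hs⟩ := hL
  let e₀ := s.base (IsLocalRing.closedPoint L)
  obtain ⟨ψ, hψ⟩ : ∃ ψ : E.left.residueField e₀ ⟶ CommRingCat.of L,
      Spec.map ψ ≫ E.left.fromSpecResidueField e₀ = s :=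
    ⟨_, Scheme.descResidueField_stalkClosedPointTo_fromSpecResidueField L E.left s⟩
  obtain ⟨ρ, hρ⟩ := Spec.map_surjective (E.left.fromSpecResidueField e₀ ≫ E.hom)
  have hψρ : ρ ≫ ψ = CommRingCat.ofHom (algebraMap k L) := by
    apply Spec.map_injective
    rw [Spec.map_comp, hρ, ← hs, ← hψ, Category.assoc]
  have hsurj : Function.Surjective ρ.hom := by
    intro c
    by_contra hc
    push_neg at hc
    let d : TensorProduct k L L := ψ.hom c ⊗ₜ 1 - 1 ⊗ₜ ψ.hom c
    have hd : d ≠ 0 := by
      intro hd
      have hnot : ψ.hom c ∉ Submodule.span k {(1 : L)} := by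
        rw [Submodule.mem_span_singleton]
        rintro ⟨t, ht⟩
        refine hc t (ψ.hom.injective ?_)
        have := congr($(congrArg CommRingCat.Hom.hom hψρ) t)
        rw [← ht, Algebra.smul_def, mul_one]
        exact this
      obtain ⟨l, hl, hl0⟩ := Submodule.exists_dual_map_eq_bot_of_notMem hnot inferInstance
      have hl1 : l 1 = 0 := by
        rw [← Submodule.mem_bot k, ← hl0]
        exact Submodule.mem_map_of_mem (Submodule.mem_span_singleton_self _)
      have h1 := congrArg (fun z => TensorProduct.lid k L (LinearMap.rTensor L l z)) hd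
      simp [d, map_sub, hl1] at h1
      exact hl h1
    obtain ⟨P, hP, hdP⟩ : ∃ P : Ideal (TensorProduct k L L), P.IsPrime ∧ d ∉ P := by
      by_contra h
      push_neg at h
      exact hd ((nilpotent_iff_mem_prime.2 fun P hP => h P hP).eq_zero)
    let Ω := FractionRing (TensorProduct k L L ⧸ P)
    let π : TensorProduct k L L →+* Ω := (algebraMap _ Ω).comp (Ideal.Quotient.mk P)
    let σ₁ : E.left.residueField e₀ ⟶ CommRingCat.of Ω :=
      CommRingCat.ofHom ((π.comp Algebra.TensorProduct.includeLeftRingHom).comp ψ.hom)
    let σ₂ : E.left.residueField e₀ ⟶ CommRingCat.of Ω :=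
      CommRingCat.ofHom ((π.comp Algebra.TensorProduct.includeRight.toRingHom).comp ψ.hom)
    have h12 : ρ ≫ σ₁ = ρ ≫ σ₂ := by
      ext t
      have ht := congr($(congrArg CommRingCat.Hom.hom hψρ) t)
      show π (ψ.hom (ρ.hom t) ⊗ₜ 1) = π (1 ⊗ₜ ψ.hom (ρ.hom t))
      rw [show ψ.hom (ρ.hom t) = algebraMap k L t from ht, Algebra.algebraMap_eq_smul_one,
        TensorProduct.smul_tmul]
    have := hE' Ω (Spec.map σ₁ ≫ E.left.fromSpecResidueField e₀) (Spec.map σ₂ ≫ E.left.fromSpecResidueField e₀)
      (by rw [Category.assoc, Category.assoc, ← hρ, ← Spec.map_comp, ← Spec.map_comp, h12])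
    rw [cancel_mono] at this
    have h3 := congr($(congrArg CommRingCat.Hom.hom (Spec.map_injective this)) c)
    refine hdP ((Ideal.Quotient.eq_zero_iff_mem).1 (IsFractionRing.injective (TensorProduct k L L ⧸ P) Ω ?_))
    rw [map_zero]
    show π d = 0
    rw [map_sub, sub_eq_zero]
    exact h3
  have : IsIso ρ := (ConcreteCategory.isIso_iff_bijective ρ).2 ⟨ρ.hom.injective, hsurj⟩
  refine ⟨Spec.map (inv ρ) ≫ E.left.fromSpecResidueField e₀, ?_⟩
  rw [Category.assoc, ← hρ, ← Spec.map_comp, IsIso.hom_inv_id, Spec.map_id]

end Groth.Agent.S13959
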