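import Groth.Statements.S13963
import Mathlib
-- import your own Groth.Agent.* helpers here

set_option autoImplicit false
universe u
open TateLoc

namespace Groth.Agent.S13963

/-- Let A' → A → A'' be continuous homomorphisms of locally compact, second-countable, Hausdorff abelian
topological groups which form a short exact sequence of abstract groups (the first injective, the
second surjective, image equal to kernel). If A' and A'' are compact, then A is compact. -/
theorem result (A' A A'' : Type u)
    [AddCommGroup A'] [TopologicalSpace A'] [IsTopologicalAddGroup A'] [SecondCountableTopology A'] [T2Space A']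
    [CompactSpace A']
    [AddCommGroup A] [TopologicalSpace A] [IsTopologicalAddGroup A] [LocallyCompactSpace A]
    [SecondCountableTopology A] [T2Space A]
    [AddCommGroup A''] [TopologicalSpace A''] [IsTopologicalAddGroup A''] [SecondCountableTopology A''] [T2Space A'']
    [CompactSpace A'']
    (f : A' →+ A) (g : A →+ A'') (hf : Continuous f) (hg : Continuous g)
    (hinj : Function.Injective f) (hsurj : Function.Surjective g) (hex : g.ker = f.range) :
    CompactSpace A := by
  have : SigmaCompactSpace A := inferInstance
  have hopen : IsOpenMap g := g.isOpenMap_of_sigmaCompact hsurj hg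
  have hcov : ∀ q : A'', ∃ K : Set A, IsCompact K ∧ q ∈ g '' interior K := by
    intro q
    obtain ⟨a, rfl⟩ := hsurj q
    obtain ⟨K, hK, hmem⟩ := exists_compact_mem_nhds a
    exact ⟨K, hK, a, mem_interior_iff_mem_nhds.2 hmem, rfl⟩
  choose K hK hmem using hcov
  obtain ⟨t, ht⟩ := isCompact_univ.elim_finite_subcover (fun q => g '' interior (K q))
    (fun q => hopen _ isOpen_interior) (fun q _ => Set.mem_iUnion.2 ⟨q, hmem q⟩)
  have hc : IsCompact ((fun p : A × A => p.1 + p.2) '' ((⋃ q ∈ t, K q) ×ˢ Set.range f)) :=
    ((t.isCompact_biUnion fun q _ => hK q).prod (isCompact_range hf)).image continuous_add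
  refine ⟨hc.of_isClosed_subset isClosed_univ ?_⟩
  intro a _
  obtain ⟨q, hq, x, hx, hxa⟩ : ∃ q, q ∈ t ∧ ∃ x ∈ interior (K q), g x = g a := by
    simpa using ht (Set.mem_univ (g a))
  refine ⟨(x, a - x), ⟨Set.mem_biUnion hq (interior_subset hx), ?_⟩, add_sub_cancel x a⟩
  rw [← AddMonoidHom.coe_range, SetLike.mem_coe, ← hex, AddMonoidHom.mem_ker, map_sub, hxa, sub_self]

end Groth.Agent.S13963
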