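import Groth.Statements.S13971
import Groth.Agent.ArtfunDeform.CharZeroLift
import Groth.Agent.ArtfunDeform.Prorep
import Mathlib.RingTheory.Finiteness.Prod
import Mathlib.RingTheory.Artinian.Module

set_option autoImplicit false
universe u v
open CategoryTheory
open ArtFun

namespace Groth.Agent.S13971

/-- Let k be a field of characteristic zero and F a deformation functor on Artinian local k-algebras
with residue field k — F(k) is a point and the comparison map F(A₁ ×_A A₂) → F(A₁) ×_{F(A)} F(A₂) is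
bijective whenever A₂ → A is surjective — whose tangent space F(k[ε]) is finite-dimensional. Suppose
that for every object A and every surjective morphism q : A'' → A' between split square-zero
extensions of A (A' and A'' come with retractions onto A whose kernels have square zero and with
sections from A, and q commutes with the retractions and the sections), the map F(q) : F(A'') →
F(A') is surjective. Then F is unobstructed: F(B) → F(A) is surjective for every surjective B → A.
(The published statement is for deformation categories, with the hypothesis that, for every object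
over A, the functor M ↦ {isomorphism classes of its liftings to A ⊕ M} on finite A-modules carries
surjections to surjections; this row is the case of a category fibred in sets, for which a split
square-zero extension of A is A ⊕ M with M the kernel, a finite A-module, and that hypothesis is the
displayed surjectivity.) -/
theorem result {k : Type u} [Field k] [CharZero k]
    (F : ArtFun.Art k k ⥤ Type v) [ArtFun.TangentStr F]
    (h0 : ArtFun.H0 F)
    (hRS : (∀ ⦃B A A' A'' : ArtFun.Art k k⦄ (p' : B ⟶ A') (p'' : B ⟶ A'') (f' : A' ⟶ A) (f'' : A'' ⟶ A)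
        (h : ArtFun.Art.IsFibreProd p' p'' f' f''), Function.Surjective f'' → Function.Bijective (ArtFun.cmp F h)))
    (hfin : ArtFun.Hfin F)
    (hT1 : ∀ ⦃A A' A'' : ArtFun.Art k k⦄ (π' : A' ⟶ A) (i' : A ⟶ A') (π'' : A'' ⟶ A) (i'' : A ⟶ A'')
        (q : A'' ⟶ A'), i' ≫ π' = 𝟙 A → i'' ≫ π'' = 𝟙 A →
        RingHom.ker π'.toAlgHom * RingHom.ker π'.toAlgHom = ⊥ →
        RingHom.ker π''.toAlgHom * RingHom.ker π''.toAlgHom = ⊥ →
        q ≫ π' = π'' → i'' ≫ q = i' → Function.Surjective q → Function.Surjective (F.map q)) :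
    ArtFun.IsSmoothFunctor F := by
  classical
  have hk : Function.Surjective (algebraMap k k) := fun c => ⟨c, rfl⟩
  have hpro : ArtFun.IsProrepresentable F :=
    Groth.ArtfunDeform.isProrepresentable_of h0
      (fun _ _ _ _ p' p'' f' f'' h hf => (hRS p' p'' f' f'' h hf.1).2)
      (fun _ _ p' p'' h => hRS p' p'' _ _ h (ArtFun.Art.dual k k).res_surjective)
      hfin
      (fun _ _ _ p₁ p₂ f h hf => hRS p₁ p₂ f f h hf.1)
      (fun _ => @Function.injective_of_subsingleton _ _ (Groth.ArtfunDeform.subsingleton_base_dual_of_surjective hk) _)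
  obtain ⟨⟨R, ξ, hξ⟩⟩ := hpro
  haveI : IsAdicComplete (IsLocalRing.maximalIdeal k) k := by rw [IsLocalRing.maximalIdeal_eq_bot]; infer_instance
  have hR : ArtFun.IsSmoothFunctor (ArtFun.hR R.carrier R.res) := by
    refine (Groth.ArtfunDeform.isSmoothFunctor_iff_ps hk R).2 ⟨_, Groth.ArtfunDeform.CharZeroLift.nonempty_algEquiv_of_lifts R fun l φ hφ => ?_⟩
    let A := R.trunc l
    let M' := Fin (Module.finrank (IsLocalRing.ResidueField R.carrier) (IsLocalRing.CotangentSpace R.carrier)) → ↥A
    let N : Submodule A M' := IsLocalRing.maximalIdeal A • ⊤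
    haveI : Module.Finite k A := Groth.ArtfunDeform.finite_art A
    -- the two split extensions
    have hloc : ∀ (M : Type u) [AddCommGroup M] [Module A M] [Module (↥A)ᵐᵒᵖ M] [IsCentralScalar A M], IsLocalRing (TrivSqZeroExt A M) := by
      intro M _ _ _ _
      refine IsLocalRing.of_isUnit_or_isUnit_one_sub_self fun a => ?_
      simp only [TrivSqZeroExt.isUnit_iff_isUnit_fst, TrivSqZeroExt.fst_sub, TrivSqZeroExt.fst_one]
      exact IsLocalRing.isUnit_or_isUnit_one_sub_self a.fst
    haveI : Module.Finite k (TrivSqZeroExt A M') := inferInstanceAs (Module.Finite k (↥A × M'))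
    haveI : Module.Finite A (M' ⧸ N) := Module.Finite.of_surjective N.mkQ N.mkQ_surjective
    haveI : Module.Finite k (M' ⧸ N) := Module.Finite.trans A _
    haveI : Module.Finite k (TrivSqZeroExt A (M' ⧸ N)) := inferInstanceAs (Module.Finite k (↥A × (M' ⧸ N)))
    haveI := hloc M'
    haveI := hloc (M' ⧸ N)
    haveI : IsArtinianRing (TrivSqZeroExt A M') := IsArtinianRing.of_finite k _
    haveI : IsArtinianRing (TrivSqZeroExt A (M' ⧸ N)) :=
      Function.Surjective.isArtinianRing (f := (TrivSqZeroExt.map N.mkQ).toRingHom) fun z => by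
        obtain ⟨m, hm⟩ := N.mkQ_surjective z.snd
        exact ⟨TrivSqZeroExt.inl z.fst + TrivSqZeroExt.inr m, TrivSqZeroExt.ext (by simp) (by simp [← hm])⟩
    have hnil : ∀ (M : Type u) [AddCommGroup M] [Module A M] [Module (↥A)ᵐᵒᵖ M] [IsCentralScalar A M]
        (a b : TrivSqZeroExt A M), a.fst = 0 → b.fst = 0 → a * b = 0 := fun M _ _ _ _ a b ha hb =>
      TrivSqZeroExt.ext (by simp [ha]) (by simp [ha, hb])
    let E1 : ArtFun.Art k k := ArtFun.Art.of (TrivSqZeroExt A M') (A.res.comp (TrivSqZeroExt.fstHom k A M'))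
      fun c => (A.res_surjective c).elim fun a ha => ⟨TrivSqZeroExt.inl a, ha⟩
    let E0 : ArtFun.Art k k := ArtFun.Art.of (TrivSqZeroExt A (M' ⧸ N)) (A.res.comp (TrivSqZeroExt.fstHom k A (M' ⧸ N)))
      fun c => (A.res_surjective c).elim fun a ha => ⟨TrivSqZeroExt.inl a, ha⟩
    let q : E1 ⟶ E0 := ⟨(TrivSqZeroExt.map N.mkQ).restrictScalars k, AlgHom.ext fun a => by
      change A.res (TrivSqZeroExt.map N.mkQ a).fst = A.res a.fst
      rw [TrivSqZeroExt.fst_map]⟩
    let π1 : E1 ⟶ A := ⟨TrivSqZeroExt.fstHom k A M', rfl⟩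
    let π0 : E0 ⟶ A := ⟨TrivSqZeroExt.fstHom k A (M' ⧸ N), rfl⟩
    let i1 : A ⟶ E1 := ⟨TrivSqZeroExt.inlAlgHom k A M', AlgHom.ext fun a => rfl⟩
    let i0 : A ⟶ E0 := ⟨TrivSqZeroExt.inlAlgHom k A (M' ⧸ N), AlgHom.ext fun a => rfl⟩
    have hsq1 : RingHom.ker π1.toAlgHom * RingHom.ker π1.toAlgHom = ⊥ := by
      rw [eq_bot_iff, Ideal.mul_le]
      intro a (ha : a.fst = 0) b (hb : b.fst = 0)
      exact (Submodule.mem_bot _).2 (hnil _ a b ha hb)
    have hsq0 : RingHom.ker π0.toAlgHom * RingHom.ker π0.toAlgHom = ⊥ := by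
      rw [eq_bot_iff, Ideal.mul_le]
      intro a (ha : a.fst = 0) b (hb : b.fst = 0)
      exact (Submodule.mem_bot _).2 (hnil _ a b ha hb)
    have hqs : Function.Surjective q := fun z => by
      have : ∀ z : TrivSqZeroExt A (M' ⧸ N), ∃ w, TrivSqZeroExt.map N.mkQ w = z := fun z => by
        obtain ⟨m, hm⟩ := N.mkQ_surjective z.snd
        exact ⟨TrivSqZeroExt.inl z.fst + TrivSqZeroExt.inr m, TrivSqZeroExt.ext (by simp) (by simp [← hm])⟩
      exact this z
    have hsurj : Function.Surjective (F.map q) := hT1 π0 i0 π1 i1 q (ArtFun.Art.hom_ext (AlgHom.ext fun a => rfl))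
      (ArtFun.Art.hom_ext (AlgHom.ext fun a => rfl)) hsq0 hsq1
      (ArtFun.Art.hom_ext (AlgHom.ext fun a => TrivSqZeroExt.fst_map N.mkQ a))
      (ArtFun.Art.hom_ext (AlgHom.ext fun a => TrivSqZeroExt.ext (TrivSqZeroExt.fst_map N.mkQ _)
        ((TrivSqZeroExt.snd_map N.mkQ _).trans (map_zero N.mkQ)))) hqs
    let φ' : ArtFun.HomSet R.carrier R.res E0 := ⟨φ, Groth.ArtfunDeform.CharZeroLift.res_unique R E0 φ⟩
    obtain ⟨y, hy⟩ := hsurj (ξ.app E0 φ')
    obtain ⟨ψ, rfl⟩ := (hξ E1).2 y
    rw [← ξ.natural] at hy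
    have heq := congrArg Subtype.val ((hξ E0).1 hy)
    have hψ : ∀ r, TrivSqZeroExt.map N.mkQ (ψ.1 r) = φ r := fun r => congrArg (fun t : R.carrier →ₐ[k] E0 => t r) heq
    have hfst : ∀ r, (ψ.1 r : TrivSqZeroExt A M').fst = (R.truncHom l).1 r := fun r => by
      rw [← hφ r, ← hψ r, TrivSqZeroExt.fst_map]
    let ψ' : R.carrier →ₐ[k] TrivSqZeroExt A M' := ψ.1
    refine ⟨fun r => (ψ' r).snd, fun a b => by simp, fun a b => ?_, fun c => by simp [TrivSqZeroExt.algebraMap_eq_inl'], fun r => ?_⟩
    · show (ψ' (a * b)).snd = _ • (ψ' b).snd + _ • (ψ' a).snd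
      rw [map_mul, TrivSqZeroExt.snd_mul, show (ψ' a).fst = _ from hfst a, show (ψ' b).fst = _ from hfst b, op_smul_eq_smul]
    · rw [← hψ r, TrivSqZeroExt.snd_map]
      rfl
  intro B A μ hμ y
  obtain ⟨φ, rfl⟩ := (hξ A).2 y
  obtain ⟨ψ, hψ⟩ := hR μ hμ φ
  refine ⟨ξ.app B ψ, ?_⟩
  rw [← ξ.natural]
  exact congrArg _ hψ

end Groth.Agent.S13971
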