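import Groth.Statements.S13972
import Groth.Agent.Calg5.KoszulLifts

set_option autoImplicit false
universe u
open LCI

namespace Groth.Agent.S13972

/-- Let A' be an Artinian local ring, I a proper ideal of A', A = A'/I, R' a Noetherian A'-algebra flat
over A' and R = R'/IR'. Let f₁, …, f_r ∈ R be a Koszul-regular sequence (its Koszul complex is
acyclic in nonzero degrees) such that R/(f₁, …, f_r) is flat over A. Then: (1) for every choice of
lifts f'₁, …, f'_r ∈ R' of the f_i, the quotient R'/(f'₁, …, f'_r) is flat over A' and f'₁, …, f'_r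
is a Koszul-regular sequence in R'; (2) if J' ⊆ R' is an ideal with R'/J' flat over A' whose image
in R is the ideal (f₁, …, f_r), then J' is generated by any lifts f'₁, …, f'_r ∈ J' of the f_i. (The
published statement takes R' = R₀ ⊗_Λ A' for a flat Λ-algebra R₀ and a surjection A' → A of Artinian
local Λ-algebras; this row assumes only that R' is Noetherian and flat over A' and that I is a
proper ideal, which is what its proof uses. Regularity of a sequence is taken there in every
localization at a prime containing the ideal it generates, which over a Noetherian ring is the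
Koszul-acyclicity used in the proof and stated here.) -/
theorem result
    {A' : Type u} [CommRing A'] [IsLocalRing A'] [IsArtinianRing A'] (I : Ideal A') (hI : I ≠ ⊤)
    {R' : Type u} [CommRing R'] [Algebra A' R'] [IsNoetherianRing R'] [Module.Flat A' R']
    (r : ℕ) (f : Fin r → R' ⧸ I.map (algebraMap A' R'))
    (hf : LCI.IsKoszulRegularSeq (R' ⧸ I.map (algebraMap A' R')) (List.ofFn f))
    [Module.Flat (A' ⧸ I) ((R' ⧸ I.map (algebraMap A' R')) ⧸ Ideal.span (Set.range f))] :
    (∀ f' : Fin r → R', (∀ i, Ideal.Quotient.mk (I.map (algebraMap A' R')) (f' i) = f i) →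
        Module.Flat A' (R' ⧸ Ideal.span (Set.range f')) ∧ LCI.IsKoszulRegularSeq R' (List.ofFn f')) ∧
    (∀ (J' : Ideal R'), Module.Flat A' (R' ⧸ J') →
        J'.map (Ideal.Quotient.mk (I.map (algebraMap A' R'))) = Ideal.span (Set.range f) →
        ∀ f' : Fin r → R', (∀ i, f' i ∈ J') →
          (∀ i, Ideal.Quotient.mk (I.map (algebraMap A' R')) (f' i) = f i) →
          J' = Ideal.span (Set.range f')) := by
  refine ⟨fun f' hf' => ?_, fun J' hflat hJ' f' hmem hf' => ?_⟩
  · obtain rfl : f = Ideal.Quotient.mk (I.map (algebraMap A' R')) ∘ f' := funext fun i => (hf' i).symm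
    have hH : CAlgX.IsH1Regular (Ideal.Quotient.mk (I.map (algebraMap A' R')) ∘ f') := by
      have h := Groth.KoszulLCI.cast_transfer (fun c g => CAlgX.IsH1Regular (c := c) g)
        (List.length_ofFn (f := Ideal.Quotient.mk (I.map (algebraMap A' R')) ∘ f')).symm _
        (Groth.KoszulLCI.isH1Regular_of_isKoszulRegularSeq hf)
      convert h using 1
      funext i
      simp
    exact Groth.Calg5.KoszulLifts.regular_flat f' (Groth.Calg5.KoszulLifts.isH1Regular_fibre I hI f' hH)
  · have hle : Ideal.span (Set.range f') ≤ J' := Ideal.span_le.mpr (Set.range_subset_iff.mpr hmem)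
    have h1 : J' ≤ Ideal.span (Set.range f') ⊔ (I.map (algebraMap A' R')) * J' := by
      intro x hx
      have h2 : Ideal.Quotient.mk (I.map (algebraMap A' R')) x ∈ (Ideal.span (Set.range f')).map (Ideal.Quotient.mk (I.map (algebraMap A' R'))) := by
        rw [Ideal.map_span, ← Set.range_comp, show Ideal.Quotient.mk (I.map (algebraMap A' R')) ∘ f' = f from funext hf', ← hJ']
        exact Ideal.mem_map_of_mem _ hx
      obtain ⟨y, hy, hxy⟩ := (Ideal.mem_map_iff_of_surjective _ Ideal.Quotient.mk_surjective).mp h2
      rw [Submodule.mem_sup]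
      refine ⟨y, hy, x - y, ?_, by ring⟩
      exact Groth.KoszulLCI.inf_le_mul_of_flat (A := A') J' I ⟨sub_mem hx (hle hy), Ideal.Quotient.eq.mp hxy.symm⟩
    have hn : ∀ n : ℕ, J' ≤ Ideal.span (Set.range f') ⊔ (I.map (algebraMap A' R')) ^ n * J' := by
      intro n
      induction n with
      | zero => simp
      | succ n ih =>
        refine ih.trans (sup_le le_sup_left ?_)
        refine (Ideal.mul_mono_right h1).trans ?_
        rw [Ideal.mul_sup, ← mul_assoc, ← pow_succ]
        exact sup_le_sup_right Ideal.mul_le_right _
    obtain ⟨n, hnil⟩ : IsNilpotent (IsLocalRing.maximalIdeal A') := by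
      have := IsArtinianRing.isNilpotent_jacobson_bot (R := A')
      rwa [IsLocalRing.jacobson_eq_maximalIdeal _ bot_ne_top] at this
    refine le_antisymm ((hn n).trans (sup_le le_rfl ?_)) hle
    have h0 : (I.map (algebraMap A' R')) ^ n = ⊥ := by
      rw [← Ideal.map_pow]
      have : I ^ n = ⊥ := le_bot_iff.mp ((Ideal.pow_right_mono (IsLocalRing.le_maximalIdeal hI) n).trans hnil.le)
      rw [this, Ideal.map_bot]
    simp [h0]

end Groth.Agent.S13972
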