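import Groth.Statements.S13978
import Groth.Agent.ArtfunDeform.ObsBound

set_option autoImplicit false
universe u v
open CategoryTheory
open scoped TensorProduct
open ArtFun ArtFun.ObsTheory

namespace Groth.Agent.S13978

/-- For obstruction theories of functors in the vector-space form, let k be a field, F a functor on
Artinian local k-algebras with residue field k and (V, ω) an obstruction theory for F — for each
surjection p : C' → C whose kernel J is killed by the maximal ideal and each u ∈ F(C) an obstruction
ω(p, u) ∈ V ⊗_k J, zero exactly when u lifts, and compatible with replacing C' → C by C'/K → C for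
ideals K ≤ J. Let Ω ⊆ V be the subspace spanned by the obstructions along tiny extensions (those p
whose kernel is one-dimensional), transported into V by the isomorphisms V ⊗ J ≅ V coming from
linear isomorphisms J ≅ k. Then for every p and u the obstruction ω(p, u) lies in the image of Ω ⊗_k
J → V ⊗_k J. (The published statement is for deformation categories and obstruction theories
functorial along all morphisms of extensions; this row assumes functoriality along quotients C'/K
only, which is all its proof uses, and no condition on F.) -/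
theorem result {k : Type u} [Field k]
    {F : ArtFun.Art k k ⥤ Type v} {V : Type u} [AddCommGroup V] [Module k V]
    (T : ArtFun.ObsTheory F V) {C' C : ArtFun.Art k k} (p : C' ⟶ C) (hp : ArtFun.Art.IsSemismallExt p)
    (u : F.obj C) :
    T.obs p hp u ∈ LinearMap.range (LinearMap.rTensor (↥(RingHom.ker p.toAlgHom))
      (Submodule.span k {v : V | ∃ (B' B : ArtFun.Art k k) (t : B' ⟶ B) (ht : ArtFun.Art.IsSmallExt t)
          (w : F.obj B) (φ : ↥(RingHom.ker t.toAlgHom) ≃ₗ[k] k),
          v = TensorProduct.rid k V (LinearMap.lTensor V φ.toLinearMap (T.obs t ht.isSemismallExt w))}).subtype) := by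
  classical
  have hkill : ∀ m ∈ IsLocalRing.maximalIdeal C', ∀ x ∈ RingHom.ker p.toAlgHom, m * x = 0 := fun m hm x hx => by
    have := Ideal.mul_mem_mul hm hx
    rwa [hp.2, Ideal.mem_bot] at this
  let J := RingHom.ker p.toAlgHom
  haveI : Module.Finite k ↥J := by
    obtain ⟨s, hs⟩ := (inferInstance : Module.Finite C' ↥J).fg_top
    refine ⟨⟨s, top_le_iff.1 ?_⟩⟩
    rintro x -
    have hx : x ∈ Submodule.span C' (s : Set ↥J) := hs.ge trivial
    induction hx using Submodule.span_induction with
    | mem y hy => exact Submodule.subset_span hy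
    | zero => exact zero_mem _
    | add a b _ _ ha hb => exact add_mem ha hb
    | smul c a _ ha =>
      have hca : c • a = C'.res c • a := by
        refine Subtype.ext ?_
        have h := hkill (c - algebraMap k C' (C'.res c)) (by
          rw [ArtFun.Art.mem_maximalIdeal_iff, map_sub, AlgHom.commutes]
          exact sub_self _) a a.2
        rw [sub_mul, sub_eq_zero] at h
        rw [Submodule.coe_smul, smul_eq_mul, h, Submodule.coe_smul_of_tower, Algebra.smul_def]
      rw [hca]
      exact Submodule.smul_mem _ _ ha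
  let ω := T.obs p hp u
  let Ω := Submodule.span k {v : V | ∃ (B' B : ArtFun.Art k k) (t : B' ⟶ B) (ht : ArtFun.Art.IsSmallExt t)
          (w : F.obj B) (φ : ↥(RingHom.ker t.toAlgHom) ≃ₗ[k] k),
          v = TensorProduct.rid k V (LinearMap.lTensor V φ.toLinearMap (T.obs t ht.isSemismallExt w))}
  have key : ∀ l : ↥J →ₗ[k] k, TensorProduct.rid k V (LinearMap.lTensor V l ω) ∈ Ω := by
    intro l
    rcases eq_or_ne l 0 with hl | hl
    · rw [hl, LinearMap.lTensor_zero, LinearMap.zero_apply, map_zero]
      exact zero_mem _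
    obtain ⟨K, hK, hKl⟩ := Groth.ArtfunDeform.exists_ideal_of_submodule (C := C') C'.res hkill (LinearMap.ker l)
    have hKm : K ≤ IsLocalRing.maximalIdeal C' := fun x hx => by
      rw [ArtFun.Art.mem_maximalIdeal_iff, ← ArtFun.Art.res_app p x, show p x = 0 from hK hx, map_zero]
    let t := ArtFun.Art.quotFactor hKm p hK
    let ψ : ↥J →ₗ[k] ↥(RingHom.ker t.toAlgHom) := (ArtFun.Art.kerToQuot hKm p hK).restrictScalars k
    have hψs : Function.Surjective ψ := by
      rintro ⟨y, hy⟩
      obtain ⟨x, rfl⟩ := Ideal.Quotient.mk_surjective y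
      exact ⟨⟨x, hy⟩, rfl⟩
    have hψk : LinearMap.ker ψ = LinearMap.ker l := Submodule.ext fun x => by
      rw [← hKl x]
      exact ⟨fun h => Ideal.Quotient.eq_zero_iff_mem.1 (congrArg Subtype.val h),
        fun h => Subtype.ext (Ideal.Quotient.eq_zero_iff_mem.2 h)⟩
    have hls : Function.Surjective l := LinearMap.surjective hl
    let φ : ↥(RingHom.ker t.toAlgHom) ≃ₗ[k] k :=
      (ψ.quotKerEquivOfSurjective hψs).symm ≪≫ₗ
        (Submodule.quotEquivOfEq _ _ hψk ≪≫ₗ l.quotKerEquivOfSurjective hls)
    have hφ : φ.toLinearMap ∘ₗ ψ = l := LinearMap.ext fun x => by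
      have h : (ψ.quotKerEquivOfSurjective hψs).symm (ψ x) = Submodule.Quotient.mk x :=
        (LinearEquiv.symm_apply_eq _).2 rfl
      change l.quotKerEquivOfSurjective hls (Submodule.quotEquivOfEq _ _ hψk ((ψ.quotKerEquivOfSurjective hψs).symm (ψ x))) = l x
      rw [h]
      rfl
    obtain ⟨x₀, hx₀⟩ := hls 1
    have hne : ψ x₀ ≠ 0 := fun h => by
      have : x₀ ∈ LinearMap.ker l := hψk ▸ (show x₀ ∈ LinearMap.ker ψ from h)
      rw [LinearMap.mem_ker, hx₀] at this
      exact one_ne_zero this
    have ht : ArtFun.Art.IsSmallExt t := by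
      refine ⟨fun a => ?_, fun h => hne ?_, ⟨((ψ x₀ : _) : ArtFun.Art.quot C' K hKm), le_antisymm ?_ ?_⟩, ?_⟩
      · obtain ⟨x, rfl⟩ := hp.1 a
        exact ⟨Ideal.Quotient.mk K x, rfl⟩
      · exact Subtype.ext ((Submodule.mem_bot _).1 (h.le (ψ x₀).2))
      · intro y hy
        obtain ⟨c, hc⟩ : ∃ c : k, (⟨y, hy⟩ : ↥(RingHom.ker t.toAlgHom)) = c • ψ x₀ := by
          refine ⟨φ ⟨y, hy⟩, φ.injective ?_⟩
          rw [map_smul, show φ (ψ x₀) = l x₀ from LinearMap.congr_fun hφ x₀, hx₀, smul_eq_mul, mul_one]
        rw [show y = c • ((ψ x₀ : _) : ArtFun.Art.quot C' K hKm) from congrArg Subtype.val hc, Algebra.smul_def]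
        exact Ideal.mul_mem_left _ _ (Submodule.mem_span_singleton_self _)
      · exact (Ideal.span_singleton_le_iff_mem _).2 (ψ x₀).2
      · rw [eq_bot_iff, Ideal.mul_le]
        intro m hm y hy
        obtain ⟨m, rfl⟩ := Ideal.Quotient.mk_surjective m
        obtain ⟨y, rfl⟩ := Ideal.Quotient.mk_surjective y
        have hm' : m ∈ IsLocalRing.maximalIdeal C' := (IsLocalRing.mem_maximalIdeal _).2 fun hu =>
          (IsLocalRing.mem_maximalIdeal _).1 hm (hu.map (Ideal.Quotient.mk K))
        rw [Ideal.mem_bot]
        exact (map_mul (Ideal.Quotient.mk K) m y).symm.trans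
          ((congrArg (Ideal.Quotient.mk K) (hkill m hm' y hy)).trans (map_zero _))
    refine Submodule.subset_span ⟨_, _, t, ht, u, φ, ?_⟩
    have hq : T.obs t ht.isSemismallExt u = LinearMap.lTensor V ψ ω := T.obs_quot p hp K hKm hK ht.isSemismallExt u
    rw [hq, ← LinearMap.comp_apply (LinearMap.lTensor V φ.toLinearMap), ← LinearMap.lTensor_comp, hφ]
  let b := Module.finBasis k ↥J
  have hsum : ω = ∑ j, TensorProduct.rid k V (LinearMap.lTensor V (b.coord j) ω) ⊗ₜ[k] b j := by
    generalize ω = z
    induction z using TensorProduct.induction_on with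
    | zero => simp
    | tmul v x =>
      conv_lhs => rw [← b.sum_repr x, TensorProduct.tmul_sum]
      simp [TensorProduct.smul_tmul]
    | add x y hx hy =>
      conv_lhs => rw [hx, hy]
      simp only [map_add, TensorProduct.add_tmul, Finset.sum_add_distrib]
  change ω ∈ _
  rw [hsum]
  exact Submodule.sum_mem _ fun j _ => ⟨(⟨_, key (b.coord j)⟩ : Ω) ⊗ₜ b j, rfl⟩

end Groth.Agent.S13978
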