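import Groth.Statements.S13980
import Groth.Agent.ArtfunDeform.HilbObs.Theory

set_option autoImplicit false
universe u
open CategoryTheory CategoryTheory.Limits AlgebraicGeometry
open ArtFun

namespace Groth.Agent.S13980

/-- Let k be a field, X a locally Noetherian separated k-scheme and Z₀ ⊆ X the closed subscheme defined
by a quasi-coherent ideal sheaf I₀ which is a local complete intersection in X: around every point
of Z₀ the ideal is generated by a Koszul-regular sequence. Let N₀ = Hom_{O_{Z₀}}(I₀/I₀², O_{Z₀}) be
the normal sheaf (the sheaf Hom of the conormal sheaf, assumed to exist as the right adjoint of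
tensoring with it). Then the local Hilbert functor of Z₀ — over a local Artinian k-algebra A with
residue field k, the closed subschemes of X ×_k Spec A flat over Spec A whose restriction to the
closed fibre is Z₀ — has an obstruction theory with values in H¹(Z₀, N₀): obstructions in H¹(Z₀, N₀)
⊗_k J for surjections with kernel J killed by the maximal ideal, vanishing exactly when the
subscheme lifts, compatible with quotients C'/K. (The published statement allows a base ring Λ with
X flat over Λ and gives the finer functoriality along all morphisms of small extensions; this row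
takes Λ = k. Regular sequences are taken there in the local sense, which over Noetherian rings is
the Koszul-regularity used in its proof.) -/
theorem result {k : Type u} [Field k]
    (X : Scheme.{u}) [IsLocallyNoetherian X] (x : X ⟶ Spec (CommRingCat.of k)) [IsSeparated x]
    (I₀ : X.IdealSheafData) (hlci : RegImm.IsRegularIdeal RegImm.Kind.koszul I₀)
    [DCoh.HasSheafHom (Omega.conormal I₀.subschemeι)] :
    @ArtFun.HasObsTheory k _ (ArtFun.localHilb X x I₀)
      (Coh.HH I₀.subscheme ((DCoh.sheafHom (Omega.conormal I₀.subschemeι)).obj
        (Coh.structureModule I₀.subscheme)) 1) _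
      (@Coh.moduleOver k _ I₀.subscheme ⟨I₀.subschemeι ≫ x⟩ _ 1) := by
  let _ : X.Over (Spec (CommRingCat.of k)) := ⟨x⟩
  let _ : I₀.subscheme.Over (Spec (CommRingCat.of k)) := ⟨I₀.subschemeι ≫ x⟩
  have : I₀.subschemeι.IsOver (Spec (CommRingCat.of k)) := ⟨rfl⟩
  have : HasExt.{u} I₀.subscheme.Modules := inferInstance
  have hk : RegImm.IsRegularImmersion .koszul I₀.subschemeι :=
    ⟨inferInstance, fun z => by
      obtain ⟨U, hz, rs, hrs, hI⟩ := hlci (I₀.subschemeι z) (SetLike.mem_coe.1 (I₀.range_subschemeι.le ⟨z, rfl⟩))
      exact ⟨U, hz, inferInstance, rs, hrs, (I₀.ker_subschemeι_app U).trans hI⟩⟩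
  have hreg : Mor2.IsRegularClosedImmersion I₀.subschemeι :=
    ⟨inferInstance, fun z => by
      obtain ⟨U, hz, -, rs, hrs, hI⟩ :=
        ((Groth.KoszulLCI.isRegularImmersion_kind_iff _ _).1 hk).2 z
      exact ⟨U.1, U.2, hz, rs, hrs, (Scheme.Hom.ker_apply _ U).trans hI⟩⟩
  exact Groth.ArtfunDeform.HilbObs.hasObsTheory_normal (X := X) rfl (fun P => P.locallyLiftable_of_regular hreg) hreg

end Groth.Agent.S13980
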