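import Groth.Statements.S13981
import Groth.Agent.ArtfunDeform.Formal
import Groth.Agent.ArtfunDeform.SmoothPS

set_option autoImplicit false
universe u v
open CategoryTheory
open ArtFun

namespace Groth.Agent.S13981

/-- Let F be a functor on Artinian local Λ-algebras with residue field k (Λ Noetherian, Λ → k finite and
surjective) satisfying (RS) — the comparison map for A₁ ×_A A₂ is bijective whenever A₂ → A is
surjective — and let ξ be a versal family of F over a complete local Noetherian Λ-algebra R with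
residue field k. Then the lifting property defining versality also holds along surjections of
complete local Noetherian algebras: if g : A' → A is such a surjection, η' is a formal element of F
over A' (a compatible system over the truncations A'/m^(n+1)) and φ : R → A is a map under which the
formal element of ξ becomes the pushforward of η' along g, then φ lifts to ψ : R → A' with g ∘ ψ = φ
and with ξ inducing η' along ψ. (The published statement takes Λ complete local Noetherian with
residue field k; its proof does not use completeness of Λ, and this row assumes only Λ Noetherian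
with Λ → k surjective.) -/
theorem result {Λ : Type u} {k : Type u} [CommRing Λ] [Field k]
    [Algebra Λ k] [IsNoetherianRing Λ] [Module.Finite Λ k] (hΛ : Function.Surjective (algebraMap Λ k))
    {F : ArtFun.Art Λ k ⥤ Type v}
    (hRS : ∀ ⦃B A A₁ A₂ : ArtFun.Art Λ k⦄ (p₁ : B ⟶ A₁) (p₂ : B ⟶ A₂) (f₁ : A₁ ⟶ A) (f₂ : A₂ ⟶ A)
        (h : ArtFun.Art.IsFibreProd p₁ p₂ f₁ f₂), Function.Surjective f₂ → Function.Bijective (ArtFun.cmp F h))
    (R : ArtFun.CRing Λ k) (ξ : ArtFun.Family R.carrier R.res F) (hξ : ArtFun.IsVersal ξ)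
    (A' A : ArtFun.CRing Λ k) (g : A'.carrier →ₐ[Λ] A.carrier) (hg : A.res.comp g = A'.res)
    (hgs : Function.Surjective g) (η' : ArtFun.FormalElt F A')
    (φ : R.carrier →ₐ[Λ] A.carrier) (hφ : A.res.comp φ = R.res)
    (hsq : (ξ.along φ hφ).toFormalElt = η'.push g hg) :
    ∃ (ψ : R.carrier →ₐ[Λ] A'.carrier) (hψ : A'.res.comp ψ = R.res),
      g.comp ψ = φ ∧ (ξ.along ψ hψ).toFormalElt = η' := by
  classical
  let G : ∀ n, A'.trunc n ⟶ A.trunc n := fun n => ArtFun.CRing.truncMapOfHom g hg n
  have hG : ∀ n x, G n ((A'.truncHom n).1 x) = (A.truncHom n).1 (g x) := fun n x => rfl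
  let Φ : ∀ n, ArtFun.HomSet R.carrier R.res (A.trunc n) := fun n => Groth.ArtfunDeform.truncOfHom φ hφ n
  have hΦ : ∀ n, ArtFun.HomSet.map (A.truncMap n) (Φ (n + 1)) = Φ n := fun n => Subtype.ext (AlgHom.ext fun r => rfl)
  have helt : ∀ n, ξ.app _ (Φ n) = F.map (G n) (η'.elt n) := fun n => congrArg (fun u : ArtFun.FormalElt F A => u.elt n) hsq
  let P : ∀ n, ArtFun.HomSet R.carrier R.res (A'.trunc n) → Prop := fun n ψ =>
    ArtFun.HomSet.map (G n) ψ = Φ n ∧ ξ.app _ ψ = η'.elt n
  haveI := Groth.ArtfunDeform.isIso_toBase_trunc_zero A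
  haveI := Groth.ArtfunDeform.isIso_toBase_trunc_zero A'
  have base' : ∃ ψ, P 0 ψ := by
    let ψ0 : ArtFun.HomSet R.carrier R.res (A'.trunc 0) :=
      ArtFun.HomSet.map (inv (ArtFun.Art.toBase (A'.trunc 0))) Groth.ArtfunDeform.homSetBase
    have h1 : ArtFun.HomSet.map (G 0) ψ0 = Φ 0 := by
      refine Groth.ArtfunDeform.homSet_ext fun r => ?_
      refine (Groth.ArtfunDeform.bijective_of_isIso (ArtFun.Art.toBase (A.trunc 0))).1 ?_
      exact (Groth.ArtfunDeform.homSet_res (ArtFun.HomSet.map (G 0) ψ0) r).trans (Groth.ArtfunDeform.homSet_res (Φ 0) r).symm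
    refine ⟨ψ0, h1, ?_⟩
    haveI : IsIso (G 0) := by
      have e : G 0 = ArtFun.Art.toBase (A'.trunc 0) ≫ inv (ArtFun.Art.toBase (A.trunc 0)) := by
        rw [IsIso.eq_comp_inv]; exact ArtFun.Art.eq_toBase _
      rw [e]; infer_instance
    refine (Groth.ArtfunDeform.bijective_map_of_isIso F (G 0)).1 ?_
    rw [← ξ.natural, h1, helt]
  have step : ∀ n ψ, P n ψ → ∃ ψ', ArtFun.HomSet.map (A'.truncMap n) ψ' = ψ ∧ P (n + 1) ψ' := by
    rintro n ψ ⟨h1, h2⟩
    obtain ⟨B, p', p'', hB⟩ := Groth.ArtfunDeform.exists_isFibreProd (G n) (A.truncMap n) (Groth.ArtfunDeform.truncMap_surjective A n)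
    have hcomm : A'.truncMap n ≫ G n = G (n + 1) ≫ A.truncMap n := Groth.ArtfunDeform.truncHom_cancel A' (by
      apply Groth.ArtfunDeform.homSet_ext
      intro x
      rfl)
    let c : A'.trunc (n + 1) ⟶ B := Groth.ArtfunDeform.fpLift hB (A'.truncMap n) (G (n + 1)) hcomm
    have hc1 : c ≫ p' = A'.truncMap n := Groth.ArtfunDeform.fpLift_fst _ _ _ _
    have hc2 : c ≫ p'' = G (n + 1) := Groth.ArtfunDeform.fpLift_snd _ _ _ _
    have hcs : Function.Surjective c := by
      intro b
      obtain ⟨a', ha'⟩ := Groth.ArtfunDeform.truncHom_surjective A' n (p' b)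
      obtain ⟨a, ha⟩ := Groth.ArtfunDeform.truncHom_surjective A (n + 1) (p'' b)
      have hw := hB.w_apply b
      rw [← ha', ← ha] at hw
      have hd : a - g a' ∈ ArtFun.CRing.mpow A n := by
        refine (Groth.ArtfunDeform.truncHom_eq_zero_iff A n _).1 ?_
        rw [map_sub, sub_eq_zero]
        exact ((hG n a').symm.trans hw).symm
      have hmap : (IsLocalRing.maximalIdeal A'.carrier).map g.toRingHom = IsLocalRing.maximalIdeal A.carrier := by
        refine le_antisymm (Groth.ArtfunDeform.cring_map_le g hg) fun y hy => ?_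
        obtain ⟨x, rfl⟩ := hgs y
        refine Ideal.mem_map_of_mem g.toRingHom ?_
        rw [ArtFun.CRing.mem_maximalIdeal_iff] at hy ⊢
        rw [← hy, ← hg]
        rfl
      have hd' : a - g a' ∈ (ArtFun.CRing.mpow A' n).map g.toRingHom := by
        rw [ArtFun.CRing.mpow, Ideal.map_pow, hmap]
        exact hd
      obtain ⟨d, hd1, hd2⟩ := (Ideal.mem_map_iff_of_surjective g.toRingHom hgs).1 hd'
      refine ⟨(A'.truncHom (n + 1)).1 (a' + d), hB.inj _ _ ?_ ?_⟩
      · change (c ≫ p') ((A'.truncHom (n + 1)).1 (a' + d)) = _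
        rw [hc1, ← ha']
        change (A'.truncHom n).1 (a' + d) = _
        rw [map_add, (Groth.ArtfunDeform.truncHom_eq_zero_iff A' n d).2 hd1, add_zero]
      · change (c ≫ p'') ((A'.truncHom (n + 1)).1 (a' + d)) = _
        rw [hc2, hG, ← ha]
        congr 1
        rw [map_add]
        exact (congrArg (g a' + ·) hd2).trans (add_sub_cancel _ _)
    obtain ⟨ψB, hb1, hb2⟩ := Groth.ArtfunDeform.homSet_lift hB ψ (Φ (n + 1)) (h1.trans (hΦ n).symm)
    have hy : F.map c (η'.elt (n + 1)) = ξ.app B ψB := by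
      refine (hRS p' p'' (G n) (A.truncMap n) hB (Groth.ArtfunDeform.truncMap_surjective A n)).1 ?_
      refine Subtype.ext (Prod.ext ?_ ?_)
      · change F.map p' (F.map c _) = F.map p' _
        rw [Groth.ArtfunDeform.map_map, hc1, η'.compat, ← ξ.natural, hb1, h2]
      · change F.map p'' (F.map c _) = F.map p'' _
        rw [Groth.ArtfunDeform.map_map, hc2, ← helt, ← ξ.natural, hb2]
    obtain ⟨ψ', h3, h4⟩ := hξ c hcs ψB (η'.elt (n + 1)) hy
    refine ⟨ψ', ?_, ?_, h4⟩
    · rw [← hc1, ← Groth.ArtfunDeform.homSet_map_map, h3, hb1]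
    · rw [← hc2, ← Groth.ArtfunDeform.homSet_map_map, h3, hb2]
  let seq : ∀ n, {ψ : ArtFun.HomSet R.carrier R.res (A'.trunc n) // P n ψ} := fun n =>
    Nat.rec ⟨base'.choose, base'.choose_spec⟩ (fun n p => ⟨(step n p.1 p.2).choose, (step n p.1 p.2).choose_spec.2⟩) n
  obtain ⟨ψ, hψ, hψn⟩ := Groth.ArtfunDeform.exists_hom_of_truncs (fun n => (seq n).1)
    (fun n => (step n (seq n).1 (seq n).2).choose_spec.1)
  refine ⟨ψ, hψ, Groth.ArtfunDeform.hom_ext_trunc fun n => AlgHom.ext fun r => ?_, ArtFun.FormalElt.ext' fun n => ?_⟩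
  · have := congrArg (fun t : ArtFun.HomSet R.carrier R.res (A.trunc n) => t.1 r) (seq n).2.1
    rw [← hψn] at this
    exact this
  · rw [Groth.ArtfunDeform.along_toFormalElt, hψn]
    exact (seq n).2.2

end Groth.Agent.S13981
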