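import Groth.Statements.S13988
import Groth.Agent.S9515
import Groth.Agent.CohTwo.IdealMulPow
import Groth.Agent.CohTwo.HomNhd
-- import your own Groth.Agent.* helpers here

set_option autoImplicit false
universe u
open CategoryTheory AlgebraicGeometry
open CohGab

namespace Groth.Agent.S13988

open Groth.CohTwo TopologicalSpace Opposite

/-- A sheaf morphism applied to a multiple of the restricted global section `1`. -/
theorem app_unit_eq_mul {X : Scheme.{u}} (f : Coh.structureModule X ⟶ Coh.structureModule X)
    (V : X.Opens) (s : Γ(X, V)) :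
    (f.app V) s = resR X (le_top : V ≤ ⊤) (f.app ⊤ (1 : Γ(X, (⊤ : X.Opens)))) * s := by
  have h1 : f.app V (1 : Γ(X, V)) =
      resR X (le_top : V ≤ ⊤) (f.app ⊤ (1 : Γ(X, (⊤ : X.Opens)))) := by
    have h := app_res f (le_top : V ≤ ⊤) (1 : Γ(X, (⊤ : X.Opens)))
    have e : res (Coh.structureModule X) (le_top : V ≤ ⊤) (1 : Γ(X, (⊤ : X.Opens))) =
        (1 : Γ(X, V)) := map_one (resR X (le_top : V ≤ ⊤))
    rw [e] at h
    exact h
  have h2 := f.app_smul s (1 : Γ(X, V))
  have e2 : s • (show Γ(Coh.structureModule X, V) from (1 : Γ(X, V))) = s := mul_one s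
  rw [e2, h1] at h2
  exact h2.trans (mul_comm (G := Γ(X, V)) _ _)

abbrev P (X : Scheme.{u}) : ObjectProperty X.Modules := fun M => Coh.IsCoh M

/-- The natural endomorphism is multiplication by its value at `1` on sections over affine opens. -/
theorem app_eq_smul {X : Scheme.{u}} [IsNoetherian X]
    (φ : 𝟭 (ObjectProperty.FullSubcategory (fun M : X.Modules => Coh.IsCoh M)) ⟶
      𝟭 (ObjectProperty.FullSubcategory (fun M : X.Modules => Coh.IsCoh M)))
    (hO : Coh.IsCoh (Coh.structureModule X))
    (M : X.Modules) (hM : Coh.IsCoh M) {V : X.Opens} (hV : IsAffineOpen V) (m : Γ(M, V)) :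
    (φ.app ⟨M, hM⟩).hom.app V m =
      resR X (le_top : V ≤ ⊤) ((φ.app ⟨Coh.structureModule X, hO⟩).hom.app ⊤
        (1 : Γ(X, (⊤ : X.Opens)))) • m := by
  haveI := hM.1
  haveI := hO.1
  let O := Coh.structureModule X
  let g : Γ(O, V) →ₗ[Γ(X, V)] Γ(M, V) :=
    { toFun := fun a => (show Γ(X, V) from a) • m
      map_add' := fun a b => add_smul (show Γ(X, V) from a) b m
      map_smul' := fun a b => mul_smul a (show Γ(X, V) from b) m }
  obtain ⟨θ, hθ⟩ := exists_hom_of_sections O M hV g
  let I := Scheme.IdealSheafData.vanishingIdeal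
    (⟨(V : Set X)ᶜ, V.2.isClosed_compl⟩ : TopologicalSpace.Closeds X)
  obtain ⟨n, ψ, hψ⟩ := Groth.Agent.S9515.result X M O hM.1 hO I V
    (by simp [I]) θ
  let J := (Dual3.idealMul (I ^ n)).obj O
  let ι : J ⟶ O := Dual3.idealMulι (I ^ n) O
  have hJ : Coh.IsCoh J := isCoh_idealMul (I ^ n) O hO
  have hI : I.ideal ⟨V, hV⟩ = ⊤ := by
    rw [Scheme.IdealSheafData.vanishingIdeal_ideal]
    refine (congrArg PrimeSpectrum.vanishingIdeal ?_).trans PrimeSpectrum.vanishingIdeal_empty
    refine Set.eq_empty_of_forall_notMem fun y hy => hy ?_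
    have h : hV.fromSpec y ∈ Set.range hV.fromSpec := ⟨y, rfl⟩
    rw [hV.range_fromSpec] at h
    exact h
  obtain ⟨w, hw⟩ := (range_idealMulι_pow I n O hV (show Γ(O, V) from (1 : Γ(X, V)))).2
    (by rw [hI, Ideal.top_pow, Submodule.top_smul]; trivial)
  have hψw : ψ.app V w = m := by
    have e1 := congrArg (fun f => appOn f (le_refl V) w) hψ
    have e2 : ∀ {G F : X.Modules} (f : G ⟶ F) (a : Γ(G, V)),
        appOn ((Scheme.Modules.restrictFunctor V.ι).map f) (le_refl V) a = f.app V a := by
      intro G F f a
      unfold appOn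
      change res F _ (f.app _ (res G _ a)) = _
      rw [app_res, res_res, res_rfl]
    have e3 : appOn ((Scheme.Modules.restrictFunctor V.ι).map ι ≫ θ) (le_refl V) w =
        appOn θ (le_refl V) (ι.app V w) := by
      unfold appOn
      change res M _ (θ.app _ (ι.app _ (res J _ w))) = _
      rw [app_res]
      rfl
    have e4 : g (ι.app V w) = m := by
      rw [hw]
      exact one_smul _ m
    exact (e2 ψ w).symm.trans (e1.trans (e3.trans ((hθ _).trans e4)))
  let A : ObjectProperty.FullSubcategory (fun M : X.Modules => Coh.IsCoh M) := ⟨J, hJ⟩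
  have nO : (φ.app ⟨O, hO⟩).hom.app V (ι.app V w) = ι.app V ((φ.app A).hom.app V w) :=
    congr(($(φ.naturality (ObjectProperty.homMk ι : A ⟶ ⟨O, hO⟩))).hom.app V w)
  have nM : (φ.app ⟨M, hM⟩).hom.app V (ψ.app V w) = ψ.app V ((φ.app A).hom.app V w) :=
    congr(($(φ.naturality (ObjectProperty.homMk ψ : A ⟶ ⟨M, hM⟩))).hom.app V w)
  rw [app_unit_eq_mul] at nO
  have hJw : (φ.app A).hom.app V w =
      resR X (le_top : V ≤ ⊤) ((φ.app ⟨O, hO⟩).hom.app ⊤ (1 : Γ(X, (⊤ : X.Opens)))) • w := by
    haveI : Mono ι := inferInstanceAs (Mono (Dual3.idealMulι (I ^ n) O))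
    apply app_injective ι V
    rw [← nO, Scheme.Modules.Hom.app_smul]
    rfl
  rw [← hψw, nM, hJw, Scheme.Modules.Hom.app_smul]

/-- Let X be a Noetherian scheme. The canonical ring map from the global functions Γ(X, O_X) to the
centre of the category of coherent O_X-modules (the endomorphisms of its identity functor), sending
r to multiplication by r, is bijective: for every natural endomorphism φ of the identity functor of
Coh(X) there is a unique global function r such that, for every coherent module M, φ_M is
multiplication by r (compared as maps of the underlying abelian sheaves). (The published result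
builds a ringed space from Coh(X) — irreducible Serre subcategories of finite type, with the centres
of the categories Coh(U) as structure sheaf — and proves it isomorphic to X, for coherent sheaves
twisted by a class in the cohomological Brauer group and with X over a field, a hypothesis its proof
does not use; this row is the ring-theoretic content of that isomorphism on global sections, for the
trivial class; applied to the open subschemes of X it gives the statement on every open.) -/
theorem result (X : Scheme.{u}) [IsNoetherian X]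
    (φ : 𝟭 (ObjectProperty.FullSubcategory (fun M : X.Modules => Coh.IsCoh M)) ⟶ 𝟭 (ObjectProperty.FullSubcategory (fun M : X.Modules => Coh.IsCoh M))) :
    ∃! r : Coh.Γtop X, ∀ M : ObjectProperty.FullSubcategory (fun M : X.Modules => Coh.IsCoh M),
      (SheafOfModules.toSheaf X.ringCatSheaf).map (φ.app M).hom = Coh.smulAb M.obj r := by
  haveI : (Coh.structureModule X).IsQuasicoherent := Groth.QCohMod.isCoh_unit.1
  have hO : Coh.IsCoh (Coh.structureModule X) := Groth.QCohMod.isCoh_unit
  refine ⟨(φ.app ⟨Coh.structureModule X, hO⟩).hom.app ⊤ (1 : Γ(X, (⊤ : X.Opens))),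
    fun M => ?_, fun r hr => ?_⟩
  · ext W m
    induction W using Opposite.rec with | op W => ?_
    change (φ.app M).hom.app W m = resR X (le_top : W ≤ ⊤) _ • (show Γ(M.obj, W) from m)
    apply eq_of_local M.obj
    intro x hx
    obtain ⟨V, hV, hxV, hVW⟩ :=
      TopologicalSpace.Opens.isBasis_iff_nbhd.1 X.isBasis_affineOpens hx
    refine ⟨V, hVW, hxV, ?_⟩
    rw [res_smul, ← app_res]
    have h := app_eq_smul φ hO M.obj M.property hV (res M.obj hVW m)
    refine h.trans ?_
    congr 1
    exact (congr($(X.presheaf.map_comp _ _) _)).trans rfl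
  · have h := congr(($(hr ⟨Coh.structureModule X, hO⟩)).hom.app (op ⊤) (1 : Γ(X, (⊤ : X.Opens))))
    refine Eq.trans ?_ h.symm
    change r = (show Γ(X, (⊤ : X.Opens)) from _) * (1 : Γ(X, (⊤ : X.Opens)))
    rw [mul_one]
    exact (congr($(X.presheaf.map_id _) r)).symm

end Groth.Agent.S13988
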