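import Groth.Statements.S13989
import Mathlib.CategoryTheory.Abelian.SerreClass.Localization

set_option autoImplicit false
universe v u v' u' v'' u''
open CategoryTheory CategoryTheory.Limits
open CohGab

namespace Groth.Agent.S13989

/-- Let A be an abelian category, A' a full abelian subcategory (given as a fully faithful exact functor
i : A' ⥤ A) and J a Serre subcategory of A, with J' = J ∩ A' (the preimage of J under i, a Serre
subcategory of A'). Assume that every subobject and every quotient object, in A, of an object of A'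
which belongs to J belongs to A' (lies in the essential image of i). Then the functor A'/J' ⥤ A/J
induced between the quotient categories is fully faithful: for L : A ⥤ Q and L' : A' ⥤ Q'
localization functors at the morphisms whose kernel and cokernel lie in J, resp. J', every functor Φ
: Q' ⥤ Q with L' ⋙ Φ ≅ i ⋙ L is full and faithful. -/
theorem result
    {A A' : Type u} [Category.{v} A] [Abelian A] [Category.{v} A'] [Abelian A']
    (i : A' ⥤ A) [i.Full] [i.Faithful] [PreservesFiniteLimits i] [PreservesFiniteColimits i]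
    (J : ObjectProperty A) [J.IsSerreClass] [(J.inverseImage i).IsSerreClass]
    (hsub : ∀ (M : A') (N : A) (f : N ⟶ i.obj M), Mono f → J N → i.essImage N)
    (hquot : ∀ (M : A') (N : A) (p : i.obj M ⟶ N), Epi p → J N → i.essImage N)
    {Q : Type u'} [Category.{v'} Q] (L : A ⥤ Q) [L.IsLocalization J.isoModSerre]
    {Q' : Type u''} [Category.{v''} Q'] (L' : A' ⥤ Q') [L'.IsLocalization (J.inverseImage i).isoModSerre]
    (Φ : Q' ⥤ Q) (e : L' ⋙ Φ ≅ i ⋙ L) : Φ.Full ∧ Φ.Faithful := by
  let J' := J.inverseImage i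
  have : i.Additive := Functor.additive_of_preserves_binary_products i
  have hW : ∀ {M N : A'} (s : M ⟶ N), J'.isoModSerre s ↔ J.isoModSerre (i.map s) := by
    intro M N s
    rw [ObjectProperty.isoModSerre_iff, ObjectProperty.isoModSerre_iff, ObjectProperty.monoModSerre_iff,
      ObjectProperty.monoModSerre_iff, ObjectProperty.epiModSerre_iff, ObjectProperty.epiModSerre_iff]
    exact and_congr (J.prop_iff_of_iso (PreservesKernel.iso i s)) (J.prop_iff_of_iso (PreservesCokernel.iso i s))
  have himg : ∀ {M N : A'} (d : M ⟶ N), J (Abelian.image (i.map d)) → J' (Abelian.image d) := by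
    intro M N d h
    show J (i.obj (Abelian.image d))
    have : Epi (i.map (Abelian.factorThruImage d)) := inferInstance
    have : Mono (i.map (Abelian.image.ι d)) := inferInstance
    have := strongEpi_of_epi (i.map (Abelian.factorThruImage d))
    have e := image.isoStrongEpiMono (i.map (Abelian.factorThruImage d)) (i.map (Abelian.image.ι d))
      (f := i.map d) (by rw [← i.map_comp, Abelian.image.fac])
    exact J.prop_of_iso ((Abelian.imageIsoImage (i.map d)) ≪≫ e.symm) h
  -- morphisms in the image
  have hfaith₀ : ∀ {M N : A'} (f g : M ⟶ N), Φ.map (L'.map f) = Φ.map (L'.map g) → L'.map f = L'.map g := by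
    intro M N f g h
    have h1 : L.map (i.map f) = L.map (i.map g) := by
      have n1 := e.hom.naturality f
      have n2 := e.hom.naturality g
      simp only [Functor.comp_map] at n1 n2
      rw [h, n2] at n1
      exact ((cancel_epi (e.hom.app M)).1 n1).symm
    obtain ⟨Y, s, hs, hsf⟩ := (MorphismProperty.map_eq_iff_precomp L J.isoModSerre _ _).1 h1
    have h2 : J (Abelian.image (i.map (f - g))) := (J.exists_isoModSerre_comp_eq_zero_iff _).1
      ⟨Y, s, hs, by rw [i.map_sub, Preadditive.comp_sub, hsf, sub_self]⟩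
    obtain ⟨Z, t, ht, htd⟩ := (J'.exists_isoModSerre_comp_eq_zero_iff (f - g)).2 (himg _ h2)
    rw [Preadditive.comp_sub, sub_eq_zero] at htd
    exact (MorphismProperty.map_eq_iff_precomp L' J'.isoModSerre _ _).2 ⟨Z, t, ht, htd⟩
  have hess : L'.EssSurj := Localization.essSurj L' J'.isoModSerre
  have hfaith₁ : ∀ {M N : A'} (f g : L'.obj M ⟶ L'.obj N), Φ.map f = Φ.map g → f = g := by
    intro M N f g h
    obtain ⟨φ, hφ⟩ := Localization.exists_rightFraction L' J'.isoModSerre f
    obtain ⟨ψ, hψ⟩ := Localization.exists_rightFraction L' J'.isoModSerre g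
    have := Localization.inverts L' J'.isoModSerre _ φ.hs
    have := Localization.inverts L' J'.isoModSerre _ ψ.hs
    let ρ : J'.isoModSerre.LeftFraction φ.X' ψ.X' := MorphismProperty.LeftFraction.mk φ.s ψ.s ψ.hs
    obtain ⟨τ, hτ⟩ := ρ.exists_rightFraction
    have := Localization.inverts L' J'.isoModSerre _ τ.hs
    rw [← cancel_epi (L'.map τ.s ≫ L'.map φ.s)]
    have hτ' : τ.s ≫ φ.s = τ.f ≫ ψ.s := hτ
    have e1 : (L'.map τ.s ≫ L'.map φ.s) ≫ f = L'.map (τ.s ≫ φ.f) := by
      rw [hφ, Category.assoc, MorphismProperty.RightFraction.map_s_comp_map, ← L'.map_comp]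
    have e2 : (L'.map τ.s ≫ L'.map φ.s) ≫ g = L'.map (τ.f ≫ ψ.f) := by
      rw [← L'.map_comp, hτ', L'.map_comp, hψ, Category.assoc, MorphismProperty.RightFraction.map_s_comp_map, ← L'.map_comp]
    rw [e1, e2]
    refine hfaith₀ _ _ ?_
    rw [← e1, ← e2, Φ.map_comp _ f, Φ.map_comp _ g, h]
  have hfull₀ : ∀ (M N : A') (φ : L.obj (i.obj M) ⟶ L.obj (i.obj N)),
      ∃ ψ : L'.obj M ⟶ L'.obj N, Φ.map ψ = e.hom.app M ≫ φ ≫ e.inv.app N := by
    intro M N φ
    obtain ⟨ρ, hρ⟩ := Localization.exists_rightFraction L J.isoModSerre φ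
    have hρs := ρ.hs
    -- the image of the denominator comes from `A'`
    obtain ⟨C, ⟨γ⟩⟩ := hquot M _ (cokernel.π ρ.s) inferInstance hρs.2
    let p : M ⟶ C := i.preimage (cokernel.π ρ.s ≫ γ.inv)
    have hsp : ρ.s ≫ i.map p = 0 := by simp [p]
    have hmono : Mono (i.map (kernel.ι p)) := inferInstance
    let ε : ρ.X' ⟶ i.obj (kernel p) := kernel.lift (i.map p) ρ.s hsp ≫ (PreservesKernel.iso i p).inv
    have hε : ε ≫ i.map (kernel.ι p) = ρ.s := by
      simp only [ε, Category.assoc, PreservesKernel.iso_inv_ι, kernel.lift_ι]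
    have hεepi : Epi ε := by
      let θ : Abelian.image ρ.s ≅ kernel (i.map p) :=
        (kernelCompMono (cokernel.π ρ.s) γ.inv).symm ≪≫ kernelIsoOfEq (by simp [p])
      have : kernel.lift (i.map p) ρ.s hsp = Abelian.factorThruImage ρ.s ≫ θ.hom := by
        apply equalizer.hom_ext
        simp [θ]
      show Epi (kernel.lift (i.map p) ρ.s hsp ≫ _)
      rw [this]
      infer_instance
    have hkerε : J (kernel ε) := by
      refine J.prop_of_iso ?_ hρs.1
      exact (kernelIsoOfEq hε.symm) ≪≫ kernelCompMono ε _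
    have hj : J'.isoModSerre (kernel.ι p) := by
      rw [hW, ObjectProperty.isoModSerre_iff_of_mono, ObjectProperty.epiModSerre_iff]
      refine J.prop_of_iso ?_ hρs.2
      exact cokernelIsoOfEq hε.symm ≪≫ cokernelEpiComp ε _
    -- the obstruction to factor the numerator comes from `A'`
    let d : kernel ε ⟶ i.obj N := kernel.ι ε ≫ ρ.f
    have hd : J (Abelian.image d) := J.prop_of_epi (Abelian.factorThruImage d) hkerε
    obtain ⟨N'', ⟨δ⟩⟩ := hsub N _ (Abelian.image.ι d) inferInstance hd
    let v : N'' ⟶ N := i.preimage (δ.hom ≫ Abelian.image.ι d)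
    have hv : i.map v = δ.hom ≫ Abelian.image.ι d := i.map_preimage _
    have hvmono : Mono v := i.mono_of_mono_map (by rw [hv]; infer_instance)
    let q : N ⟶ cokernel v := cokernel.π v
    have hq : J'.isoModSerre q := by
      rw [ObjectProperty.isoModSerre_iff_of_epi, ObjectProperty.monoModSerre_iff]
      have hiso : N'' ≅ kernel (cokernel.π v) :=
        (Abelian.monoIsKernelOfCokernel (CokernelCofork.ofπ (cokernel.π v) (cokernel.condition v))
          (cokernelIsCokernel v)).conePointUniqueUpToIso (limit.isLimit _)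
      exact J'.prop_of_iso hiso (J.prop_of_iso δ.symm hd)
    have hdq : d ≫ i.map q = 0 := by
      have h1 : i.map v ≫ i.map q = 0 := by rw [← i.map_comp, cokernel.condition, i.map_zero]
      rw [hv, Category.assoc] at h1
      rw [← Abelian.image.fac d, Category.assoc, (cancel_epi δ.hom).1 (h1.trans comp_zero.symm), comp_zero]
    have hdq' : kernel.ι ε ≫ ρ.f ≫ i.map q = 0 := by rw [← Category.assoc]; exact hdq
    let h : i.obj (kernel p) ⟶ i.obj (cokernel v) :=
      (Abelian.epiIsCokernelOfKernel (KernelFork.ofι (kernel.ι ε) (kernel.condition ε)) (kernelIsKernel ε)).desc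
        (CokernelCofork.ofπ _ hdq')
    have hh : ε ≫ h = ρ.f ≫ i.map q :=
      (Abelian.epiIsCokernelOfKernel (KernelFork.ofι (kernel.ι ε) (kernel.condition ε)) (kernelIsKernel ε)).fac
        (CokernelCofork.ofπ _ hdq') WalkingParallelPair.one
    have := Localization.inverts L' J'.isoModSerre _ hj
    have := Localization.inverts L' J'.isoModSerre _ hq
    have := Localization.inverts L J.isoModSerre _ ρ.hs
    have := Localization.inverts L J.isoModSerre _ ((hW _).1 hq)
    have hεW : IsIso (L.map ε) := by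
      refine Localization.inverts L J.isoModSerre _ ?_
      rw [ObjectProperty.isoModSerre_iff_of_epi]
      exact hkerε
    refine ⟨inv (L'.map (kernel.ι p)) ≫ L'.map (i.preimage h) ≫ inv (L'.map q), ?_⟩
    have key : L.map (i.map (kernel.ι p)) ≫ φ ≫ L.map (i.map q) = L.map h := by
      rw [← cancel_epi (L.map ε), ← L.map_comp_assoc, hε, hρ, MorphismProperty.RightFraction.map_s_comp_map_assoc,
        ← L.map_comp, ← L.map_comp, hh]
    rw [← cancel_epi (Φ.map (L'.map (kernel.ι p))), ← cancel_mono (Φ.map (L'.map q))]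
    simp only [Functor.map_comp, Functor.map_inv, Category.assoc, IsIso.inv_hom_id, Category.comp_id, IsIso.hom_inv_id_assoc]
    have n1 := e.hom.naturality (kernel.ι p)
    have n2 := e.hom.naturality (i.preimage h)
    have n3 := e.hom.naturality q
    simp only [Functor.comp_map, i.map_preimage] at n1 n2 n3
    rw [reassoc_of% n1]
    have n3' : e.inv.app N ≫ Φ.map (L'.map q) = L.map (i.map q) ≫ e.inv.app (cokernel v) := e.inv.naturality q |>.symm
    rw [n3', reassoc_of% key, ← Category.assoc, ← n2, Category.assoc, e.hom_inv_id_app, Category.comp_id]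
  constructor
  · constructor
    intro a b φ
    obtain ⟨M, ⟨α⟩⟩ := hess.mem_essImage a
    obtain ⟨N, ⟨β⟩⟩ := hess.mem_essImage b
    obtain ⟨ψ, hψ⟩ := hfull₀ M N (e.inv.app M ≫ Φ.map α.hom ≫ φ ≫ Φ.map β.inv ≫ e.hom.app N)
    have hψ' : Φ.map ψ = Φ.map α.hom ≫ φ ≫ Φ.map β.inv := by
      rw [hψ]
      simp
    refine ⟨α.inv ≫ ψ ≫ β.hom, ?_⟩
    rw [Φ.map_comp, Φ.map_comp, hψ']
    simp
  · constructor
    intro a b f g h
    obtain ⟨M, ⟨α⟩⟩ := hess.mem_essImage a
    obtain ⟨N, ⟨β⟩⟩ := hess.mem_essImage b
    have := hfaith₁ (α.hom ≫ f ≫ β.inv) (α.hom ≫ g ≫ β.inv) (by simp [h])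
    simpa using this

end Groth.Agent.S13989
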