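import Groth.Statements.S13991
import Groth.Agent.Misc6.CohGab

set_option autoImplicit false
universe u
open CategoryTheory AlgebraicGeometry
open CohGab

namespace Groth.Agent.S13991

/-- Let X be a Noetherian scheme and Z ⊆ X a closed subset. Then Z is irreducible (or empty) if and only
if Coh_Z(X), the coherent O_X-modules supported in Z, is an irreducible Serre subcategory of Coh(X),
i.e. it is not generated as a Serre subcategory by two Serre subcategories properly contained in it:
whenever J₁, J₂ are Serre classes on coherent modules (middle term of a short exact sequence of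
coherent modules belongs iff both outer terms do), both contained in Coh_Z, such that every Serre
class on coherent modules containing J₁ and J₂ contains Coh_Z, then J₁ or J₂ contains Coh_Z.
Consequently the points of X correspond to the irreducible Serre subcategories of finite type other
than the zero subcategory. (The published statement says 'Z is irreducible iff Coh_Z is irreducible'
and deduces a bijection between the points of X and all irreducible Serre subcategories of finite
type; the zero subcategory Coh_∅ is irreducible in this sense while ∅ is not an irreducible space,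
so irreducibility of Z is read here as 'irreducible or empty'. The published statement is also about
coherent sheaves twisted by a class in the second etale cohomology group of the units of the
structure sheaf; this row is its case of the trivial class.) -/
theorem result (X : Scheme.{u}) [IsNoetherian X]
    (Z : TopologicalSpace.Closeds X) :
    IsPreirreducible (↑Z : Set X) ↔
    ∀ J₁ J₂ : ObjectProperty X.Modules, (∀ S : ShortComplex X.Modules, S.ShortExact → Coh.IsCoh S.X₁ → Coh.IsCoh S.X₂ →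
        Coh.IsCoh S.X₃ → (J₁ S.X₂ ↔ J₁ S.X₁ ∧ J₁ S.X₃)) → (∀ S : ShortComplex X.Modules, S.ShortExact → Coh.IsCoh S.X₁ → Coh.IsCoh S.X₂ →
        Coh.IsCoh S.X₃ → (J₂ S.X₂ ↔ J₂ S.X₁ ∧ J₂ S.X₃)) →
      (∀ M : X.Modules, Coh.IsCoh M → J₁ M → CohB1.support M ⊆ (↑Z : Set X)) →
      (∀ M : X.Modules, Coh.IsCoh M → J₂ M → CohB1.support M ⊆ (↑Z : Set X)) →
      (∀ Q : ObjectProperty X.Modules, (∀ S : ShortComplex X.Modules, S.ShortExact → Coh.IsCoh S.X₁ → Coh.IsCoh S.X₂ →
        Coh.IsCoh S.X₃ → (Q S.X₂ ↔ Q S.X₁ ∧ Q S.X₃)) →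
        (∀ M : X.Modules, Coh.IsCoh M → J₁ M → Q M) → (∀ M : X.Modules, Coh.IsCoh M → J₂ M → Q M) →
        ∀ M : X.Modules, Coh.IsCoh M → CohB1.support M ⊆ (↑Z : Set X) → Q M) →
      (∀ M : X.Modules, Coh.IsCoh M → CohB1.support M ⊆ (↑Z : Set X) → J₁ M) ∨
        (∀ M : X.Modules, Coh.IsCoh M → CohB1.support M ⊆ (↑Z : Set X) → J₂ M) := by
  constructor
  · intro hZirr J₁ J₂ h1 h2 hJ1 hJ2 hgen
    obtain ⟨F, hF, hFZ⟩ := Groth.Misc6.CohGab.exists_support_eq Z
    rcases Set.eq_empty_or_nonempty (↑Z : Set X) with hZ0 | hZne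
    · -- only zero objects
      by_cases hne : ∃ M : X.Modules, Coh.IsCoh M ∧ (J₁ M ∨ J₂ M)
      · obtain ⟨G, hG, hG1 | hG2⟩ := hne
        · exact Or.inl fun M hM hMZ => Groth.Misc6.CohGab.IsSerre.zero (P := J₁) h1 hG hG1
            ((Groth.QCohMod.isZero_iff_support_eq_empty M).2 (Set.subset_eq_empty hMZ hZ0))
        · exact Or.inr fun M hM hMZ => Groth.Misc6.CohGab.IsSerre.zero (P := J₂) h2 hG hG2
            ((Groth.QCohMod.isZero_iff_support_eq_empty M).2 (Set.subset_eq_empty hMZ hZ0))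
      · push_neg at hne
        exact (hgen (fun _ => False) (fun S _ _ _ _ => by simp) (fun M hM h => (hne M hM).1 h)
          (fun M hM h => (hne M hM).2 h) F hF hFZ.le).elim
    · obtain ⟨ξ, hξ⟩ := QuasiSober.sober ⟨hZne, hZirr⟩ Z.isClosed
      have hex : ∃ M : X.Modules, Coh.IsCoh M ∧ ξ ∈ CohB1.support M ∧ (J₁ M ∨ J₂ M) := by
        by_contra hne
        push_neg at hne
        have hξF : ξ ∈ CohB1.support F := hFZ.symm ▸ hξ.mem
        refine (hgen (fun M => CohB1.support M ⊆ {ξ}ᶜ) (Groth.Misc6.CohGab.serre_supported {ξ}ᶜ)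
          (fun M hM h => ?_) (fun M hM h => ?_) F hF hFZ.le) hξF rfl
        · rintro y hy (rfl : y = ξ); exact (hne M hM hy).1 h
        · rintro y hy (rfl : y = ξ); exact (hne M hM hy).2 h
      obtain ⟨G, hG, hξG, hJ⟩ := hex
      have hsub : (↑Z : Set X) ⊆ CohB1.support G := by
        rw [← hξ.def]
        exact closure_minimal (Set.singleton_subset_iff.2 hξG) (Groth.CohTwo.isClosed_support G hG)
      rcases hJ with hJ | hJ
      · exact Or.inl fun M hM hMZ => Groth.Misc6.CohGab.IsSerre.of_support (P := J₁) h1 hG hJ hM (hMZ.trans hsub)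
      · exact Or.inr fun M hM hMZ => Groth.Misc6.CohGab.IsSerre.of_support (P := J₂) h2 hG hJ hM (hMZ.trans hsub)
  · intro h
    rw [isPreirreducible_iff_isClosed_union_isClosed]
    intro Z₁ Z₂ hZ₁ hZ₂ hZ
    let C₁ : TopologicalSpace.Closeds X := ⟨(↑Z : Set X) ∩ Z₁, Z.isClosed.inter hZ₁⟩
    let C₂ : TopologicalSpace.Closeds X := ⟨(↑Z : Set X) ∩ Z₂, Z.isClosed.inter hZ₂⟩
    obtain ⟨F₁, hF₁, hFC₁⟩ := Groth.Misc6.CohGab.exists_support_eq C₁
    obtain ⟨F₂, hF₂, hFC₂⟩ := Groth.Misc6.CohGab.exists_support_eq C₂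
    obtain ⟨F, hF, hFZ⟩ := Groth.Misc6.CohGab.exists_support_eq Z
    rcases h (fun M => CohB1.support M ⊆ (↑C₁ : Set X)) (fun M => CohB1.support M ⊆ (↑C₂ : Set X))
      (Groth.Misc6.CohGab.serre_supported _) (Groth.Misc6.CohGab.serre_supported _)
      (fun M _ hM => hM.trans Set.inter_subset_left) (fun M _ hM => hM.trans Set.inter_subset_left) (by
        intro Q hQ h1 h2 M hM hMZ
        refine Groth.Misc6.CohGab.IsSerre.of_points (P := Q) hQ hF₁ (h1 _ hF₁ hFC₁.le) Z.isClosed (fun ξ hξ => ?_) hM hMZ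
        rcases hZ hξ with hξ' | hξ'
        · exact ⟨F₁, hF₁, h1 _ hF₁ hFC₁.le, hFC₁.ge ⟨hξ, hξ'⟩⟩
        · exact ⟨F₂, hF₂, h2 _ hF₂ hFC₂.le, hFC₂.ge ⟨hξ, hξ'⟩⟩) with h' | h'
    · exact Or.inl fun y hy => ((h' F hF hFZ.le) (hFZ.ge hy)).2
    · exact Or.inr fun y hy => ((h' F hF hFZ.le) (hFZ.ge hy)).2

end Groth.Agent.S13991
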