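import Groth.Statements.S13993
import Mathlib
import Groth.Agent.Calg6.PowerSeries

set_option autoImplicit false
universe u
open CategoryTheory
open CAlg

namespace Groth.Agent.S13993
section
open CategoryTheory Abelian

theorem ext_one_finrank (k A : Type u) [Field k] [CommRing A] [Algebra k A] (y : A) (N : Type u) [AddCommGroup N] [Module A N]
    (ε : N → k) (hε_add : ∀ a b, ε (a + b) = ε a + ε b) (hε_smul : ∀ (r : k) n, ε (algebraMap k A r • n) = r * ε n)
    (hann : ∀ n : N, ∀ a : A, a * y = 0 → a • n = 0) (hε0 : ∀ n : N, ε n = 0 ↔ ∃ m, y • m = n)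
    (hε_surj : ∃ n, ε n = 1) :
    Module.finrank k (Ext (ModuleCat.of A (A ⧸ Ideal.span {y})) (ModuleCat.of A N) 1) = 1 := by
  classical
  let Y := Ideal.span {y}
  let S : ShortComplex (ModuleCat.{u} A) := ShortComplex.mk
    (ModuleCat.ofHom Y.subtype) (ModuleCat.ofHom Y.mkQ)
    (ModuleCat.hom_ext (LinearMap.ext fun x => (Submodule.Quotient.mk_eq_zero _).2 x.2))
  have hS : S.ShortExact :=
    { exact := (ShortComplex.ShortExact.moduleCat_exact_iff_function_exact S).mpr (LinearMap.exact_subtype_mkQ Y)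
      mono_f := (ModuleCat.mono_iff_injective _).mpr Subtype.val_injective
      epi_g := (ModuleCat.epi_iff_surjective _).mpr (Submodule.mkQ_surjective _) }
  let Z := ModuleCat.of A N
  haveI : Projective S.X₂ := (IsProjective.iff_projective (R := A) (P := A)).1 inferInstance
  let Φ : (S.X₁ ⟶ Z) →ₗ[k] Ext S.X₃ Z 1 :=
    (Ext.precompOfLinear hS.extClass k Z (by omega : 1 + 0 = 1)).comp (Ext.linearEquiv₀ (R := k)).symm.toLinearMap
  have hΦ : ∀ f, Φ f = hS.extClass.comp (Ext.mk₀ f) (by omega : 1 + 0 = 1) := fun f => rfl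
  let y0 : Y := ⟨y, Ideal.mem_span_singleton_self y⟩
  let Ψ : (S.X₁ ⟶ Z) →ₗ[k] k :=
    { toFun := fun f => ε (f.hom y0)
      map_add' := fun f g => hε_add _ _
      map_smul' := fun r f => hε_smul r _ }
  have hsurj : Function.Surjective Φ := by
    intro e
    haveI := Ext.subsingleton_of_projective S.X₂ Z 0
    obtain ⟨x, hx⟩ := Ext.contravariant_sequence_exact₃ hS Z e (Subsingleton.elim (α := Ext S.X₂ Z 1) _ _) (by omega : 1 + 0 = 1)
    obtain ⟨f, rfl⟩ := (Ext.linearEquiv₀ (R := k)).symm.surjective x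
    exact ⟨f, (hΦ f).trans hx⟩
  have hΨsurj : Function.Surjective Ψ := by
    intro r
    obtain ⟨n, hn⟩ := hε_surj
    have hex : ∀ z : Y, ∃ a : A, a * y = z := fun z => Ideal.mem_span_singleton'.1 z.2
    choose c hc using hex
    have hwd : ∀ (z : Y) (a : A), a * y = z → c z • (algebraMap k A r • n) = a • (algebraMap k A r • n) := fun z a ha => by
      rw [← sub_eq_zero, ← sub_smul]
      exact hann _ _ (by rw [sub_mul, hc, ha, sub_self])
    let g : Y →ₗ[A] N :=
      { toFun := fun z => c z • (algebraMap k A r • n)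
        map_add' := fun z w => by
          rw [hwd (z + w) (c z + c w) (by rw [add_mul, hc, hc]; rfl), add_smul]
        map_smul' := fun a z => by
          rw [hwd (a • z) (a * c z) (by rw [mul_assoc, hc]; rfl), mul_smul]; rfl }
    refine ⟨ModuleCat.ofHom g, ?_⟩
    show ε (c y0 • (algebraMap k A r • n)) = r
    rw [hwd y0 1 (one_mul _), one_smul, hε_smul, hn, mul_one]
  have hker : LinearMap.ker Φ = LinearMap.ker Ψ := by
    ext f
    rw [LinearMap.mem_ker, LinearMap.mem_ker, hΦ]
    constructor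
    · intro h
      obtain ⟨x₂, hx₂⟩ := Ext.contravariant_sequence_exact₁ hS Z (Ext.mk₀ f) (by omega : 1 + 0 = 1) h
      obtain ⟨g, rfl⟩ := (Ext.linearEquiv₀ (R := k)).symm.surjective x₂
      rw [Ext.linearEquiv₀_symm_apply, Ext.mk₀_comp_mk₀] at hx₂
      have hfg : S.f ≫ g = f := (Ext.linearEquiv₀ (R := k)).symm.injective (by simpa [Ext.linearEquiv₀_symm_apply] using hx₂)
      show ε (f.hom y0) = 0
      rw [← hfg, hε0]
      refine ⟨g.hom (1 : A), ?_⟩
      show y • g.hom (1 : A) = g.hom y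
      rw [← LinearMap.map_smul, smul_eq_mul, mul_one]
    · intro h
      obtain ⟨m, hm⟩ := (hε0 (f.hom y0)).1 h
      have hfg : S.f ≫ ModuleCat.ofHom (LinearMap.toSpanSingleton A N m) = f := by
        refine ModuleCat.hom_ext (LinearMap.ext fun z => ?_)
        obtain ⟨a, ha⟩ := Ideal.mem_span_singleton'.1 z.2
        have hz : z = a • y0 := Subtype.ext ha.symm
        show (z : A) • m = f.hom z
        conv_rhs => rw [hz, LinearMap.map_smul, ← hm, smul_smul, ha]
      rw [← hfg, ← Ext.mk₀_comp_mk₀, ← Ext.comp_assoc (a₁₂ := 1) _ _ _ (by omega) (by omega) (by omega), hS.extClass_comp,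
        Ext.zero_comp]
  have e1 := Φ.quotKerEquivOfSurjective hsurj
  have e2 := Ψ.quotKerEquivOfSurjective hΨsurj
  rw [show Module.finrank k (Ext (ModuleCat.of A (A ⧸ Ideal.span {y})) (ModuleCat.of A N) 1) = Module.finrank k (Ext S.X₃ Z 1) from rfl,
    ← (e1.symm.trans ((Submodule.quotEquivOfEq _ _ hker).trans e2)).symm.finrank_eq, Module.finrank_self]

end

/-- Let k be a field and A = k[[x,y]]/(xy) the complete local ring of a node, with branch rings A/(y)
and A/(x) viewed as A-modules. Then the first Ext group Ext¹_A(A/(y), A/(x)) has dimension one over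
k. (The published statement is for the local ring at a node of a reduced curve over an algebraically
closed field of characteristic zero, a node being a point whose complete local ring is A; this row
states the case of the complete local ring A itself, over an arbitrary field.) -/
theorem result (k : Type u) [Field k] : Module.finrank k (Abelian.Ext (ModuleCat.of (MvPowerSeries (Fin 2) k ⧸ Ideal.span {(MvPowerSeries.X (0 : Fin 2) : MvPowerSeries (Fin 2) k) * MvPowerSeries.X (1 : Fin 2)}) ((MvPowerSeries (Fin 2) k ⧸ Ideal.span {(MvPowerSeries.X (0 : Fin 2) : MvPowerSeries (Fin 2) k) * MvPowerSeries.X (1 : Fin 2)}) ⧸ Ideal.span {Ideal.Quotient.mk (Ideal.span {(MvPowerSeries.X (0 : Fin 2) : MvPowerSeries (Fin 2) k) * MvPowerSeries.X (1 : Fin 2)}) (MvPowerSeries.X (1 : Fin 2))})) (ModuleCat.of (MvPowerSeries (Fin 2) k ⧸ Ideal.span {(MvPowerSeries.X (0 : Fin 2) : MvPowerSeries (Fin 2) k) * MvPowerSeries.X (1 : Fin 2)}) ((MvPowerSeries (Fin 2) k ⧸ Ideal.span {(MvPowerSeries.X (0 :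 Fin 2) : MvPowerSeries (Fin 2) k) * MvPowerSeries.X (1 : Fin 2)}) ⧸ Ideal.span {Ideal.Quotient.mk (Ideal.span {(MvPowerSeries.X (0 : Fin 2) : MvPowerSeries (Fin 2) k) * MvPowerSeries.X (1 : Fin 2)}) (MvPowerSeries.X (0 : Fin 2))})) 1) = 1 := by
  set I := Ideal.span {(MvPowerSeries.X (0 : Fin 2) : MvPowerSeries (Fin 2) k) * MvPowerSeries.X (1 : Fin 2)} with hI
  set x := Ideal.Quotient.mk I (MvPowerSeries.X (0 : Fin 2)) with hx
  set y := Ideal.Quotient.mk I (MvPowerSeries.X (1 : Fin 2)) with hy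
  have hxy : x * y = 0 := by
    rw [hx, hy, ← map_mul, Ideal.Quotient.eq_zero_iff_mem]
    exact Ideal.mem_span_singleton_self _
  let ε0 : (MvPowerSeries (Fin 2) k ⧸ I) →+* k := Ideal.Quotient.lift I MvPowerSeries.constantCoeff (fun a ha => by
    obtain ⟨b, rfl⟩ := Ideal.mem_span_singleton'.1 ha
    simp)
  let ε : ((MvPowerSeries (Fin 2) k ⧸ I) ⧸ Ideal.span {x}) →+* k := Ideal.Quotient.lift _ ε0 (fun a ha => by
    obtain ⟨b, rfl⟩ := Ideal.mem_span_singleton'.1 ha
    simp [ε0, hx])
  refine ext_one_finrank k _ y _ ε (map_add ε) (fun r n => ?_) (fun n a ha => ?_) (fun n => ?_) ⟨1, map_one ε⟩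
  · obtain ⟨n, rfl⟩ := Ideal.Quotient.mk_surjective n
    show ε (Ideal.Quotient.mk _ (algebraMap k _ r * n)) = _
    simp only [ε, Ideal.Quotient.lift_mk, map_mul]
    congr 1
  · obtain ⟨n, rfl⟩ := Ideal.Quotient.mk_surjective n
    show Ideal.Quotient.mk _ (a * n) = 0
    rw [Ideal.Quotient.eq_zero_iff_mem]
    refine Ideal.mul_mem_right _ _ ?_
    obtain ⟨a, rfl⟩ := Ideal.Quotient.mk_surjective a
    rw [hy, ← map_mul, Ideal.Quotient.eq_zero_iff_mem, Ideal.mem_span_singleton'] at ha
    obtain ⟨b, hb⟩ := ha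
    rw [Ideal.mem_span_singleton']
    refine ⟨Ideal.Quotient.mk I b, ?_⟩
    rw [hx, ← map_mul]
    congr 1
    have hX : (MvPowerSeries.X (1 : Fin 2) : MvPowerSeries (Fin 2) k) ≠ 0 := fun h => by
      have := congrArg (MvPowerSeries.coeff (Finsupp.single (1 : Fin 2) 1)) h
      rw [MvPowerSeries.coeff_index_single_self_X, map_zero] at this
      exact one_ne_zero this
    refine mul_right_cancel₀ hX ?_
    rw [mul_assoc, hb]
  · obtain ⟨n, rfl⟩ := Ideal.Quotient.mk_surjective n
    obtain ⟨p, rfl⟩ := Ideal.Quotient.mk_surjective n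
    show MvPowerSeries.constantCoeff p = 0 ↔ _
    constructor
    · intro h
      have hp := (Groth.SGA7.PS.mem_varIdeal_iff p).2 h
      rw [Groth.SGA7.PS.varIdeal, Ideal.mem_span_range_iff_exists_fun] at hp
      obtain ⟨c, hc⟩ := hp
      rw [Fin.sum_univ_two] at hc
      refine ⟨Ideal.Quotient.mk _ (Ideal.Quotient.mk I (c 1)), ?_⟩
      show Ideal.Quotient.mk _ (y * Ideal.Quotient.mk I (c 1)) = _
      rw [Ideal.Quotient.eq, Ideal.mem_span_singleton']
      refine ⟨- Ideal.Quotient.mk I (c 0), ?_⟩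
      rw [← hc, hx, hy, map_add, map_mul, map_mul]
      ring
    · rintro ⟨m, hm⟩
      obtain ⟨m, rfl⟩ := Ideal.Quotient.mk_surjective m
      have h : ε (Ideal.Quotient.mk _ (y * m)) = ε (Ideal.Quotient.mk _ (Ideal.Quotient.mk I p)) := congrArg ε hm
      simp only [ε, Ideal.Quotient.lift_mk, map_mul] at h
      show ε0 (Ideal.Quotient.mk I p) = 0
      rw [← h]
      simp [ε0, hy]

end Groth.Agent.S13993
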