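import Groth.Statements.S13994
import Groth.Agent.Calg6.Planar

set_option autoImplicit false
universe u
open CategoryTheory
open CAlg

namespace Groth.Agent.S13994

/-- Let S be a regular local ring of Krull dimension two, f a non-zero element of S and R the quotient
of S by f, assumed reduced. Let M and N be finitely generated R-modules, each admitting a
non-zero-divisor in the maximal ideal of R, annihilated by ideals I and J respectively, where I + J
contains a power of the maximal ideal. Then Tor₁^R(M, Hom_R(N, R)) = 0. (The published claim is made
for the stalks at a common point of two subcurves without common component of a reduced projective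
curve over a characteristic-zero algebraically closed field, the point being a planar singularity,
and the stalks of torsion-free sheaves supported on them; this row states it over an arbitrary
two-dimensional regular local ring. Tor is computed by resolving the second argument.) -/
theorem result (S : Type u) [CommRing S] [IsRegularLocalRing S] (hS : ringKrullDim S = 2) (f : S) (hf : f ≠ 0) (R : Type u) [CommRing R] [IsLocalRing R] [IsReduced R] (π : S →+* R) (hπ : Function.Surjective π) (hker : RingHom.ker π = Ideal.span {f}) (I J : Ideal R) (n : ℕ) (hIJ : IsLocalRing.maximalIdeal R ^ n ≤ I ⊔ J) (M N : Type u) [AddCommGroup M] [Module R M] [Module.Finite R M] [AddCommGroup N] [Module R N] [Module.Finite R N] (hI : I ≤ Module.annihilator R M) (hJ : J ≤ Module.annihilator R N) (x : R) (hx : x ∈ IsLocalRing.maximalIdeal R) (hxM : IsSMulRegular M x) (y : R) (hy : y ∈ IsLocalRing.maximalIdeal R) (hyN : IsSMulRegular N y) : Limits.IsZero (((Tor (ModuleCat.{u} R) 1).obj (ModuleCat.of R M)).obj (ModuleCat.of R (Module.Dual R N))) := by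
  haveI : IsNoetherianRing R := isNoetherianRing_of_surjective S R π hπ
  haveI := Groth.Ega4Algebra1.isDomain_of_isRegularLocalRing S
  have hnf : ¬ IsField R := fun hF => by
    haveI : (Ideal.span {f}).IsMaximal := by
      rw [← hker]
      exact Ideal.Quotient.maximal_of_isField _
        ((RingHom.quotientKerEquivOfSurjective hπ).toMulEquiv.isField hF)
    have hle : (Ideal.span {f}).height ≤ 1 :=
      Ideal.height_le_one_of_isPrincipal_of_mem_minimalPrimes (Ideal.span {f}) (Ideal.span {f})
        ⟨⟨Ideal.IsMaximal.isPrime inferInstance, le_rfl⟩, fun _ h _ => h.2⟩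
    have h2 := IsLocalRing.maximalIdeal_height_eq_ringKrullDim (R := S)
    rw [← IsLocalRing.eq_maximalIdeal (inferInstance : (Ideal.span {f}).IsMaximal), hS] at h2
    have : ((Ideal.span {f}).height : WithBot ℕ∞) ≤ 1 := by exact_mod_cast hle
    rw [h2] at this
    norm_num at this
  obtain ⟨z, hz, hz0⟩ := Groth.Calg6.Planar.exists_regular R hnf
  haveI : Module.Finite R (Module.Dual R N) := by
    obtain ⟨m, p, hp⟩ := Module.Finite.exists_fin' R N
    exact Module.Finite.of_injective (LinearMap.lcomp R R p) fun a b hab => LinearMap.ext fun v => by
      obtain ⟨w, rfl⟩ := hp v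
      exact LinearMap.congr_fun hab w
  have hzN : IsSMulRegular (Module.Dual R N) z := fun a b hab => LinearMap.ext fun v =>
    mul_cancel_left_mem_nonZeroDivisors hz0 |>.mp (LinearMap.congr_fun hab v)
  have hJ' : J ≤ Module.annihilator R (Module.Dual R N) := fun r hr =>
    Module.mem_annihilator.mpr fun φ => LinearMap.ext fun v => by
      rw [LinearMap.smul_apply, ← map_smul, Module.mem_annihilator.mp (hJ hr), map_zero, LinearMap.zero_apply]
  obtain ⟨k, A, g, hg, hex⟩ :=
    Groth.Calg6.Planar.exists_square_presentation hS hf π hπ hker (Module.Dual R N) z hz hzN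
  exact (Groth.Calg6.isZero_tor_one_iff M (Module.Dual R N)).mpr
    (Groth.Calg6.Planar.torZero I J n hIJ M (Module.Dual R N) hI hJ' x hx hxM A g hg hex)

end Groth.Agent.S13994
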