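import Groth.Statements.S13995
import Mathlib.RingTheory.Ideal.AssociatedPrime.Basic
import Mathlib.RingTheory.Support
import Mathlib.RingTheory.Spectrum.Prime.Basic
import Mathlib.LinearAlgebra.Dimension.Finrank
import Mathlib.LinearAlgebra.FiniteDimensional.Basic
import Mathlib.RingTheory.LocalRing.Basic
import Mathlib.RingTheory.Localization.AtPrime.Basic
import Mathlib.RingTheory.Ideal.MinimalPrime.Localization
import Mathlib.Algebra.Module.LocalizedModule.Exact
import Mathlib.RingTheory.KrullDimension.Zero
import Mathlib.RingTheory.LocalProperties.Reduced
-- import your own Groth.Agent.* helpers here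

set_option autoImplicit false
universe u
open CAlg

namespace Groth.Agent.S13995

/-- Let R be a reduced Noetherian ring, M a finitely generated R-module all of whose associated primes
are minimal primes of R and whose localization at each minimal prime p is one-dimensional over the
field R_p, and let g : M → Q be a surjection onto a finitely generated R-module Q all of whose
associated primes are minimal primes of R. Then the kernel of g is the intersection, over the
minimal primes p of R lying in the support of Q, of the kernels of the localization maps M → M_p.
(The published statement is for a torsion-free coherent sheaf F of uniform rank one on a reduced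
connected projective curve over a characteristic-zero algebraically closed field: its non-zero
torsion-free quotients are exactly the maximal torsion-free quotients F_D of the restrictions of F
to subcurves D; this row is the corresponding statement for modules over a reduced Noetherian ring,
a subcurve being a set of minimal primes, and identifies each torsion-free quotient with F_D for D
the set of generic points of its support.) -/
theorem result (R : Type u) [CommRing R] [IsNoetherianRing R] [IsReduced R] (M : Type u) [AddCommGroup M] [Module R M] [Module.Finite R M] (hM : associatedPrimes R M ⊆ minimalPrimes R) (hrk : ∀ p : PrimeSpectrum R, p.asIdeal ∈ minimalPrimes R → Module.finrank (Localization.AtPrime p.asIdeal) (LocalizedModule p.asIdeal.primeCompl M) = 1) (Q : Type u) [AddCommGroup Q] [Module R Q] [Module.Finite R Q] (hQ : associatedPrimes R Q ⊆ minimalPrimes R) (g : M →ₗ[R] Q) (hg : Function.Surjective g) : LinearMap.ker g = ⨅ p ∈ {p : PrimeSpectrum R | p.asIdeal ∈ minimalPrimes R ∧ p ∈ Module.support R Q}, LinearMap.ker (LocalizedModule.mkLinearMap p.asIdeal.primeCompl M) := by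
  classical
  refine le_antisymm ?_ ?_
  · refine le_iInf₂ fun p hp => ?_
    obtain ⟨hmin, hsupp⟩ := hp
    intro x hx
    rw [LinearMap.mem_ker] at hx ⊢
    let S := p.asIdeal.primeCompl
    let Rp := Localization.AtPrime p.asIdeal
    haveI : Ring.KrullDimLE 0 Rp := .of_isLocalization _ hmin _
    letI : Field Rp := Ring.KrullDimLE.isField_of_isReduced.toField
    haveI hnt : Nontrivial (LocalizedModule S Q) := hsupp
    let G := IsLocalizedModule.mapExtendScalars S (LocalizedModule.mkLinearMap S M)
      (LocalizedModule.mkLinearMap S Q) Rp g
    have hGs : Function.Surjective G :=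
      IsLocalizedModule.map_surjective S (LocalizedModule.mkLinearMap S M)
        (LocalizedModule.mkLinearMap S Q) g hg
    by_contra hne
    have hGx : G (LocalizedModule.mkLinearMap S M x) = 0 := by
      refine (IsLocalizedModule.map_apply S (LocalizedModule.mkLinearMap S M)
        (LocalizedModule.mkLinearMap S Q) g x).trans ?_
      rw [hx, map_zero]
    obtain ⟨y, hy⟩ := exists_ne (0 : LocalizedModule S Q)
    obtain ⟨z, rfl⟩ := hGs y
    obtain ⟨c, rfl⟩ := exists_smul_eq_of_finrank_eq_one (hrk p hmin) hne z
    exact hy (by rw [map_smul, hGx, smul_zero])
  · intro x hx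
    by_contra hne
    rw [LinearMap.mem_ker] at hne
    obtain ⟨q, hq, hle⟩ := exists_le_isAssociatedPrime_of_isNoetherianRing R (g x) hne
    have hqp : q.IsPrime := hq.isPrime
    let p : PrimeSpectrum R := ⟨q, hqp⟩
    have hsupp : p ∈ Module.support R Q := by
      rw [Module.mem_support_iff_exists_annihilator]
      refine ⟨g x, fun r hr => hle ?_⟩
      rw [Submodule.mem_colon_singleton, Submodule.mem_bot]
      exact (Submodule.mem_annihilator_span_singleton _ _).mp hr
    have h1 := (Submodule.mem_iInf _).mp ((Submodule.mem_iInf _).mp hx p) ⟨hQ hq, hsupp⟩
    rw [LinearMap.mem_ker, IsLocalizedModule.eq_zero_iff p.asIdeal.primeCompl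
      (LocalizedModule.mkLinearMap p.asIdeal.primeCompl M)] at h1
    obtain ⟨s, hs⟩ := h1
    refine s.2 (hle ?_)
    simp only [LinearMap.mem_ker, LinearMap.toSpanSingleton_apply, Submonoid.smul_def] at hs ⊢
    rw [Submodule.mem_colon_singleton, Submodule.mem_bot, ← map_smul, hs, map_zero]

end Groth.Agent.S13995
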