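import Groth.Statements.S13996
import Mathlib

set_option autoImplicit false
universe u
open CAlg

namespace Groth.Agent.S13996

/-- Let R be a reduced Noetherian local ring of Krull dimension one with maximal ideal m, and M a
non-zero finitely generated R-module. Then M is torsion-free in the sense that no element of m which
is a non-zero-divisor on R is a zero-divisor on M, if and only if M has depth one, i.e. some element
of m is a non-zero-divisor on M. (The published statement is for a non-zero coherent sheaf F on a
connected reduced projective curve over a characteristic-zero algebraically closed field and asserts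
the equivalence of: F torsion-free in the above sense at every closed point; F pure of dimension
one; depth of F_p equal to one at every closed point p. This row is the equivalence of the first and
third conditions at a single closed point p with F_p ≠ 0; at points outside the support the third
condition as published cannot hold, so the row assumes the stalk non-zero.) -/
theorem result (R : Type u) [CommRing R] [IsLocalRing R] [IsNoetherianRing R] [IsReduced R] (hdim : ringKrullDim R = 1) (M : Type u) [AddCommGroup M] [Module R M] [Module.Finite R M] [Nontrivial M] : (∀ r : R, r ∈ IsLocalRing.maximalIdeal R → IsSMulRegular R r → IsSMulRegular M r) ↔ (∃ x : R, x ∈ IsLocalRing.maximalIdeal R ∧ IsSMulRegular M x) := by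
  classical
  set m := IsLocalRing.maximalIdeal R
  haveI : Ring.KrullDimLE 1 R := Ring.krullDimLE_iff.2 hdim.le
  have hm : m ∉ minimalPrimes R := fun h => by
    have h0 := Ideal.height_eq_zero_iff.2 h
    have := IsLocalRing.maximalIdeal_height_eq_ringKrullDim (R := R)
    rw [h0, hdim] at this
    norm_num at this
  constructor
  · intro h
    suffices ∃ x ∈ m, IsSMulRegular R x from
      let ⟨x, hx, hxr⟩ := this; ⟨x, hx, h x hx hxr⟩
    by_contra hne
    push Not at hne
    have hsub : (m : Set R) ⊆ ⋃ q ∈ minimalPrimes R, (q : Set R) := by
      intro x hx
      have : x ∉ nonZeroDivisors R := fun h' => hne x hx (fun a b hab => by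
        exact sub_eq_zero.1 (mem_nonZeroDivisors_iff_right.1 h' (a - b) (by
          simp only [smul_eq_mul] at hab; rw [sub_mul, mul_comm a, mul_comm b, hab, sub_self])))
      simp only [Set.mem_iUnion, SetLike.mem_coe, exists_prop]
      by_contra hc
      push Not at hc
      refine this (mem_nonZeroDivisors_iff_right.2 fun a ha => ?_)
      have : a ∈ sInf (minimalPrimes R) := Submodule.mem_sInf.2 fun q hq =>
        (Ideal.IsPrime.mem_or_mem (Ideal.minimalPrimes_isPrime hq) (show a * x ∈ q by rw [ha]; exact q.zero_mem)).resolve_right (hc q hq)
      rw [show sInf (minimalPrimes R) = nilradical R from Ideal.sInf_minimalPrimes, nilradical_eq_zero] at this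
      exact this
    have hfin := minimalPrimes.finite_of_isNoetherianRing R
    obtain ⟨q, hq, hle⟩ := (Ideal.subset_union_prime_finite hfin ⊥ ⊥ (fun q hq _ _ => Ideal.minimalPrimes_isPrime hq)).1 hsub
    haveI := Ideal.minimalPrimes_isPrime hq
    have : m = q := ((IsLocalRing.maximalIdeal.isMaximal R).eq_of_le (Ideal.IsPrime.ne_top inferInstance) hle)
    exact hm (this ▸ hq)
  · rintro ⟨x, hx, hxM⟩ r hr hrR
    by_contra hnr
    rw [isSMulRegular_iff_right_eq_zero_of_smul] at hnr
    push Not at hnr
    obtain ⟨z, hz, hz0⟩ := hnr
    obtain ⟨P, hP, hle⟩ := exists_le_isAssociatedPrime_of_isNoetherianRing R z hz0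
    have hrP : r ∈ P := hle (by simp [hz])
    haveI := hP.isPrime
    have hP' : P ∉ minimalPrimes R := fun h => Set.disjoint_iff.1
      (Ideal.disjoint_nonZeroDivisors_of_mem_minimalPrimes h)
      ⟨hrP, mem_nonZeroDivisors_iff_right.2 fun a ha => hrR (show r • a = r • 0 by rw [smul_zero, smul_eq_mul, mul_comm, ha])⟩
    have hPm : P = m := by
      have := (Ring.krullDimLE_one_iff.1 inferInstance P inferInstance).resolve_left hP'
      exact IsLocalRing.eq_maximalIdeal this
    rw [isAssociatedPrime_iff] at hP
    obtain ⟨-, w, hw⟩ := hP
    have : x • w = 0 := by
      have : x ∈ P := hPm ▸ hx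
      simpa [hw] using this
    have hw0 : w = 0 := hxM (show x • w = x • 0 by rw [this, smul_zero])
    subst hw0
    exact ‹P.IsPrime›.ne_top (hw.trans (by ext; simp))

end Groth.Agent.S13996
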