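import Groth.Statements.S14000
import Groth.Agent.KTheory.EulerLocal
import Mathlib

set_option autoImplicit false
universe u
open Perf

namespace Groth.Agent.S14000

open CategoryTheory CategoryTheory.Limits in
/-- Let A be a commutative ring and P a strictly perfect complex over A, that is a cochain complex of
finitely generated projective A-modules which is zero outside a finite set s of degrees. Suppose the
cohomological support of P has positive codimension: for every minimal prime q of A and every degree
i the localization at q of the cohomology module H^i(P) is zero. Then the Euler characteristic of P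
vanishes identically: at every prime of A the alternating sum over i ∈ s of the ranks of the P^i is
zero. -/
theorem result {A : Type u} [CommRing A]
    (P : CochainComplex (ModuleCat.{u} A) ℤ) (s : Finset ℤ)
    (hP : ∀ i : ℤ, Module.Finite A (P.X i) ∧ Module.Projective A (P.X i))
    (hs : ∀ i : ℤ, i ∉ s → IsZero (P.X i))
    (hsupp : ∀ q : PrimeSpectrum A, q.asIdeal ∈ minimalPrimes A →
      ∀ i : ℤ, Subsingleton (LocalizedModule q.asIdeal.primeCompl (P.homology i))) :
    ∀ x : PrimeSpectrum A,
      (s.sum fun i => ((i.negOnePow : ℤˣ) : ℤ) * (Module.rankAtStalk (R := A) (P.X i) x : ℤ)) = 0 := by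
  intro x
  obtain ⟨q, hq, hqx⟩ := Ideal.exists_minimalPrimes_le (I := (⊥ : Ideal A)) (J := x.asIdeal) bot_le
  have : q.IsPrime := hq.1.1
  let Q : PrimeSpectrum A := ⟨q, this⟩
  have hcl : ∀ i, Module.rankAtStalk (R := A) (P.X i) x = Module.rankAtStalk (R := A) (P.X i) Q := fun i => by
    have := (hP i).1
    have := (hP i).2
    have : Module.FinitePresentation A (P.X i) := Module.finitePresentation_of_projective A (P.X i)
    have hlc := Module.isLocallyConstant_rankAtStalk (R := A) (M := P.X i)
    have hsp : Q ⤳ x := (PrimeSpectrum.le_iff_specializes Q x).1 hqx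
    exact (hsp.mem_open (hlc.isOpen_fiber (Module.rankAtStalk (R := A) (P.X i) x)) rfl).symm
  simp only [hcl]
  let S := Q.asIdeal.primeCompl
  let R := Localization.AtPrime Q.asIdeal
  let M : ℤ → Type u := fun i => LocalizedModule S (P.X i)
  let D : ∀ i, M i →ₗ[R] M (i + 1) := fun i => LocalizedModule.map S (P.d i (i + 1)).hom
  have hfin : ∀ i, Module.Finite R (M i) := fun i => by
    have := (hP i).1
    exact Module.Finite.of_isLocalizedModule S (LocalizedModule.mkLinearMap S (P.X i))
  have hfree : ∀ i, Module.Free R (M i) := fun i => by
    have := (hP i).2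
    have : Module.Flat R (M i) := inferInstance
    exact Module.free_of_flat_of_isLocalRing
  have hD : ∀ i (m : P.X i) (c : S), D i (LocalizedModule.mk m c) = LocalizedModule.mk ((P.d i (i + 1)) m) c :=
    fun i m c => LocalizedModule.map_mk S (P.d i (i + 1)).hom m c
  have hex : ∀ i, Function.Exact (D i) (D (i + 1)) := fun i z => by
    induction z using LocalizedModule.induction_on with
    | _ m c =>
      constructor
      · intro h
        rw [hD, ← LocalizedModule.zero_mk (1 : S), LocalizedModule.mk_eq] at h
        obtain ⟨t, ht⟩ := h
        simp only [smul_zero, one_smul] at ht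
        have hcyc : P.d (i + 1) (i + 1 + 1) ((t : A) • m) = 0 := by
          rw [map_smul]; exact ht
        let z : ↑(P.cycles (i + 1)) := P.cyclesMk ((t : A) • m) (i + 1 + 1) (by simp) hcyc
        have hsub := hsupp Q hq (i + 1)
        have h0 : LocalizedModule.mk (S := S) (P.homologyπ (i + 1) z) 1 = 0 := hsub.elim _ _
        rw [← LocalizedModule.zero_mk (1 : S), LocalizedModule.mk_eq] at h0
        obtain ⟨v, hv⟩ := h0
        simp only [smul_zero, one_smul] at hv
        have hker : P.homologyπ (i + 1) ((v : A) • z) = 0 := by rw [map_smul]; exact hv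
        have hS := CategoryTheory.ShortComplex.exact_of_g_is_cokernel
          (CategoryTheory.ShortComplex.mk (P.toCycles i (i + 1)) (P.homologyπ (i + 1)) (P.toCycles_comp_homologyπ _ _))
          (P.homologyIsCokernel i (i + 1) (by simp))
        rw [CategoryTheory.ShortComplex.moduleCat_exact_iff] at hS
        obtain ⟨w, hw⟩ := hS ((v : A) • z) hker
        refine ⟨LocalizedModule.mk w (c * t * v), ?_⟩
        rw [hD, LocalizedModule.mk_eq]
        refine ⟨1, ?_⟩
        have hw' : P.d i (i + 1) w = (v : A) • (t : A) • m := by
          have h1 := congrArg (fun y => P.iCycles (i + 1) y) hw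
          simp only [map_smul] at h1
          have h2 : P.iCycles (i + 1) z = (t : A) • m := P.i_cyclesMk _ _ _ hcyc
          rw [h2] at h1
          rw [← h1]
          exact (LinearMap.congr_fun (congrArg ModuleCat.Hom.hom (P.toCycles_i i (i + 1))) w).symm
        rw [hw']
        simp only [one_smul, Submonoid.smul_def, Submonoid.coe_mul, smul_smul]
        congr 1
        ring
      · rintro ⟨y, hy⟩
        rw [← hy]
        induction y using LocalizedModule.induction_on with
        | _ n e =>
          have hdd : P.d (i + 1) (i + 1 + 1) (P.d i (i + 1) n) = 0 :=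
            LinearMap.congr_fun (congrArg ModuleCat.Hom.hom (P.d_comp_d i (i + 1) (i + 1 + 1))) n
          rw [hD, hD, hdd, LocalizedModule.zero_mk]
  exact Groth.Agent.EulerLocal.sum_eq_zero_local M D hex s fun i hi => by
    have : Subsingleton (P.X i) := ModuleCat.subsingleton_of_isZero (hs i hi)
    exact LocalizedModule.subsingleton_iff.2 fun m => ⟨1, S.one_mem, Subsingleton.elim _ _⟩

end Groth.Agent.S14000
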