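import Groth.Statements.S14004
import Groth.Agent.Flatmor4.ThickFT
import Mathlib.AlgebraicGeometry.Morphisms.SmoothFiber

set_option autoImplicit false
universe u
open CategoryTheory AlgebraicGeometry
open FSch

namespace Groth.Agent.S14004

/-- Formal schemes are modelled as ℕ-indexed systems of thickenings. Let 𝔛 and 𝔜 be locally Noetherian
adic formal systems and f : 𝔛 ⟶ 𝔜 an adic morphism (every square X_n → X_{n+1}, Y_n → Y_{n+1}
cartesian) all of whose levels f_n : X_n ⟶ Y_n are flat. Then f is smooth, in the sense that every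
level f_n is smooth, if and only if the bottom level f_0 is smooth. -/
theorem result (𝔛 𝔜 : FSch.Sys.{u})
    (h𝔛 : 𝔛.IsLocNoethFormal) (h𝔜 : 𝔜.IsLocNoethFormal) (f : 𝔛 ⟶ 𝔜) (hf : FSch.IsAdicHom f)
    (hflat : ∀ n : ℕ, Flat ((f : FSch.Hom 𝔛 𝔜).app n)) :
    (∀ n : ℕ, AlgebraicGeometry.Smooth ((f : FSch.Hom 𝔛 𝔜).app n)) ↔
      AlgebraicGeometry.Smooth ((f : FSch.Hom 𝔛 𝔜).app 0) := by
  refine ⟨fun h => h 0, fun h0 n => ?_⟩
  induction n with
  | zero => exact h0
  | succ n ih =>
    have sq := hf n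
    haveI := (h𝔜.1 n).1
    haveI : AlgebraicGeometry.Surjective (𝔜.ι n) := ⟨(h𝔜.1 n).2⟩
    haveI := (h𝔛.1 n).1
    haveI : AlgebraicGeometry.Surjective (𝔛.ι n) := ⟨(h𝔛.1 n).2⟩
    haveI := h𝔛.2.2 (n + 1)
    haveI := h𝔜.2.2 (n + 1)
    haveI := ih
    haveI : LocallyOfFiniteType (𝔛.ι n ≫ (f : FSch.Hom 𝔛 𝔜).app (n + 1)) := by
      rw [sq.w]; infer_instance
    haveI : LocallyOfFiniteType ((f : FSch.Hom 𝔛 𝔜).app (n + 1)) :=
      Groth.Flatmor4.locallyOfFiniteType_of_comp_thickening (𝔛.ι n)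
        (fun U => by
          haveI : IsNoetherianRing Γ(𝔛.X (n + 1), U.1) := IsLocallyNoetherian.component_noetherian U
          refine (Ideal.FG.isNilpotent_iff_le_nilradical (IsNoetherian.noetherian _)).2 fun a ha => ?_
          rw [Scheme.Hom.ker_apply, RingHom.mem_ker] at ha
          refine (Scheme.isNilpotent_iff_basicOpen_eq_bot_of_isCompact U.2.isCompact a).2 ?_
          refine eq_bot_iff.2 fun x hx => ?_
          obtain ⟨z, rfl⟩ := (𝔛.ι n).surjective x
          have : z ∈ 𝔛.ι n ⁻¹ᵁ (𝔛.X (n + 1)).basicOpen a := hx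
          rw [Scheme.preimage_basicOpen] at this
          replace ha : (𝔛.ι n).app U.1 a = 0 := ha
          rw [ha, Scheme.basicOpen_zero] at this
          exact this)
        (fun U => by
          haveI := U.2
          haveI : IsNoetherianRing Γ(𝔛.X (n + 1), U.1) := IsLocallyNoetherian.component_noetherian U
          exact IsNoetherian.noetherian _) _
    haveI := hflat (n + 1)
    haveI : LocallyOfFinitePresentation ((f : FSch.Hom 𝔛 𝔜).app (n + 1)) := inferInstance
    refine AlgebraicGeometry.Smooth.of_smooth_fiberToSpecResidueField _ fun y => ?_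
    obtain ⟨y₀, rfl⟩ := (𝔜.ι n).surjective y
    have hsq := isPullback_fiberToSpecResidueField_of_isPullback sq y₀
    haveI : IsIso ((𝔜.ι n).residueFieldMap y₀) := by
      rw [ConcreteCategory.isIso_iff_bijective]
      refine ⟨((𝔜.ι n).residueFieldMap y₀).hom.injective, fun r => ?_⟩
      obtain ⟨t, rfl⟩ := (𝔜.X n).residue_surjective y₀ r
      obtain ⟨t', rfl⟩ := (𝔜.ι n).stalkMap_surjective y₀ t
      exact ⟨(𝔜.X (n + 1)).residue _ t', congr($(Scheme.residue_residueFieldMap (𝔜.ι n) y₀) t')⟩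
    have hiso := hsq.isIso_fst_of_isIso
    have h1 : AlgebraicGeometry.Smooth
        (((f : FSch.Hom 𝔛 𝔜).app n).fiberToSpecResidueField y₀) :=
      MorphismProperty.of_isPullback (IsPullback.of_hasPullback _ _) ih
    have h2 := (MorphismProperty.cancel_right_of_respectsIso @AlgebraicGeometry.Smooth
      (((f : FSch.Hom 𝔛 𝔜).app n).fiberToSpecResidueField y₀)
      (Spec.map ((𝔜.ι n).residueFieldMap y₀))).mpr h1
    exact (@MorphismProperty.cancel_left_of_respectsIso _ _ @AlgebraicGeometry.Smooth _ _ _ _ _ _ hiso).mp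
      ((congrArg (fun m : _ ⟶ _ => AlgebraicGeometry.Smooth m) hsq.w).mpr h2)

end Groth.Agent.S14004
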