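import Groth.Statements.S14006
import Groth.Agent.SmoothExt.AffineLift
import Groth.Agent.AdicLinTop.SysExamples

set_option autoImplicit false
universe u
open CategoryTheory AlgebraicGeometry
open FSch

namespace Groth.Agent.S14006.Aux

variable (𝔖 : FSch.Sys.{u})

/-- A smooth affine scheme over one level of a system. -/
structure Lvl (n : ℕ) where
  X : Scheme.{u}
  f : X ⟶ 𝔖.X n
  smooth : Smooth f
  affine : IsAffine X

variable (hs : ∀ n, IsClosedImmersion (𝔖.ι n) ∧ Surjective (𝔖.ι n)) (hn : ∀ n, IsLocallyNoetherian (𝔖.X n))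

include hs hn in
theorem exists_next (n : ℕ) (L : Lvl 𝔖 n) :
    ∃ (M : Lvl 𝔖 (n + 1)) (j : L.X ⟶ M.X), IsPullback j L.f M.f (𝔖.ι n) := by
  haveI := L.smooth
  haveI := L.affine
  haveI := (hs n).1
  haveI := (hs n).2
  haveI := hn (n + 1)
  obtain ⟨X, f, j, hf, hX, hc⟩ := Groth.SmoothExt.exists_affine_lift (𝔖.ι n) L.f
  exact ⟨⟨X, f, hf, hX⟩, j, hc⟩

/-- The tower of smooth affine lifts. -/
noncomputable def tower (L : Lvl 𝔖 0) : ∀ n, Lvl 𝔖 n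
  | 0 => L
  | n + 1 => (exists_next 𝔖 hs hn n (tower L n)).choose

/-- The system of smooth affine lifts. -/
noncomputable def lift (L : Lvl 𝔖 0) : FSch.Sys.{u} where
  X n := (tower 𝔖 hs hn L n).X
  ι n := (exists_next 𝔖 hs hn n (tower 𝔖 hs hn L n)).choose_spec.choose

/-- The structure morphism of the system of smooth affine lifts. -/
noncomputable def proj (L : Lvl 𝔖 0) : lift 𝔖 hs hn L ⟶ 𝔖 :=
  { app := fun n => (tower 𝔖 hs hn L n).f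
    comm := fun n => ((exists_next 𝔖 hs hn n (tower 𝔖 hs hn L n)).choose_spec.choose_spec.w).symm }

theorem isAdicHom_proj (L : Lvl 𝔖 0) : FSch.IsAdicHom (proj 𝔖 hs hn L) := fun n =>
  (exists_next 𝔖 hs hn n (tower 𝔖 hs hn L n)).choose_spec.choose_spec

include hs hn in
/-- Morphisms of the bottom levels extend to morphisms of smooth systems. -/
theorem exists_hom {𝔘 𝔙 : FSch.Sys.{u}} (p : 𝔘 ⟶ 𝔖) (q : 𝔙 ⟶ 𝔖) (hp : FSch.IsAdicHom p)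
    (hps : ∀ n, Smooth ((p : FSch.Hom 𝔘 𝔖).app n)) (hqs : ∀ n, Smooth ((q : FSch.Hom 𝔙 𝔖).app n))
    (hA : ∀ n, IsAffine (𝔘.X n))
    (φ₀ : 𝔘.X 0 ⟶ 𝔙.X 0) (h₀ : φ₀ ≫ (q : FSch.Hom 𝔙 𝔖).app 0 = (p : FSch.Hom 𝔘 𝔖).app 0) :
    ∃ Φ : 𝔘 ⟶ 𝔙, Φ ≫ q = p ∧ (Φ : FSch.Hom 𝔘 𝔙).app 0 = φ₀ := by
  have hnext : ∀ n (φ : {φ : 𝔘.X n ⟶ 𝔙.X n // φ ≫ (q : FSch.Hom 𝔙 𝔖).app n = (p : FSch.Hom 𝔘 𝔖).app n}),
      ∃ ψ : {φ : 𝔘.X (n + 1) ⟶ 𝔙.X (n + 1) //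
          φ ≫ (q : FSch.Hom 𝔙 𝔖).app (n + 1) = (p : FSch.Hom 𝔘 𝔖).app (n + 1)},
        φ.1 ≫ 𝔙.ι n = 𝔘.ι n ≫ ψ.1 := by
    intro n φ
    haveI := hA (n + 1)
    haveI := hn (n + 1)
    haveI := hps (n + 1)
    haveI := hqs (n + 1)
    haveI : IsLocallyNoetherian (𝔘.X (n + 1)) :=
      LocallyOfFiniteType.isLocallyNoetherian ((p : FSch.Hom 𝔘 𝔖).app (n + 1))
    haveI : IsClosedImmersion (𝔘.ι n) := MorphismProperty.of_isPullback (hp n).flip (hs n).1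
    haveI : Surjective (𝔘.ι n) := MorphismProperty.of_isPullback (hp n).flip (hs n).2
    obtain ⟨ψ, h1, h2⟩ := Groth.SmoothExt.exists_extend_affine (𝔘.ι n) ((q : FSch.Hom 𝔙 𝔖).app (n + 1))
      (φ.1 ≫ 𝔙.ι n) ((p : FSch.Hom 𝔘 𝔖).app (n + 1))
      (by rw [Category.assoc, ← (q : FSch.Hom 𝔙 𝔖).comm n, ← Category.assoc, φ.2, (p : FSch.Hom 𝔘 𝔖).comm n])
    exact ⟨⟨ψ, h2⟩, h1.symm⟩
  choose next hcomm using hnext
  let φ : ∀ n, {φ : 𝔘.X n ⟶ 𝔙.X n // φ ≫ (q : FSch.Hom 𝔙 𝔖).app n = (p : FSch.Hom 𝔘 𝔖).app n} :=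
    fun n => Nat.rec ⟨φ₀, h₀⟩ next n
  exact ⟨({ app := fun n => (φ n).1, comm := fun n => hcomm n (φ n) } : FSch.Hom 𝔘 𝔙),
    FSch.Hom.ext (funext fun n => (φ n).2), rfl⟩

end Groth.Agent.S14006.Aux

namespace Groth.Agent.S14006

/-- Formal schemes are modelled as ℕ-indexed systems of thickenings. Let S be a locally Noetherian
scheme, 𝒥 a quasi-coherent ideal of O_S, 𝔖 the completion of S along 𝒥 (the system of the closed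
subschemes defined by the powers 𝒥^{n+1}) and S₀ its bottom level. Let X₀ and Y₀ be schemes smooth
over S₀ via a and b, f : X₀ ⟶ Y₀ a morphism with f ≫ b = a, and x a point of X₀. Then there are an
open neighbourhood U₀ of x and an open V₀ of Y₀ with f(U₀) ⊆ V₀, systems 𝔘 and 𝔙 with adic morphisms
p : 𝔘 ⟶ 𝔖 and q : 𝔙 ⟶ 𝔖 (all squares cartesian) all of whose levels are smooth, a morphism Φ : 𝔘 ⟶ 𝔙
with Φ ≫ q = p, and isomorphisms of the bottom levels of 𝔘 and 𝔙 with U₀ and V₀, compatible with the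
maps to S₀, under which the bottom level of Φ is the restriction U₀ ⟶ V₀ of f. In words: locally on
X₀ the morphism f has a smooth formal lifting over 𝔖. -/
theorem result (S : Scheme.{u}) [IsLocallyNoetherian S]
    (𝒥 : S.IdealSheafData) {X₀ Y₀ : Scheme.{u}}
    (a : X₀ ⟶ (FSch.completionAlong S 𝒥).X 0) (b : Y₀ ⟶ (FSch.completionAlong S 𝒥).X 0)
    [AlgebraicGeometry.Smooth a] [AlgebraicGeometry.Smooth b] (f : X₀ ⟶ Y₀) (w : f ≫ b = a) (x : X₀) :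
    ∃ (U₀ : X₀.Opens) (V₀ : Y₀.Opens) (hU : x ∈ U₀) (hUV : U₀ ≤ f ⁻¹ᵁ V₀)
      (𝔘 𝔙 : FSch.Sys.{u}) (p : 𝔘 ⟶ FSch.completionAlong S 𝒥) (q : 𝔙 ⟶ FSch.completionAlong S 𝒥)
      (Φ : 𝔘 ⟶ 𝔙) (eU : 𝔘.X 0 ≅ U₀.toScheme) (eV : 𝔙.X 0 ≅ V₀.toScheme),
      Φ ≫ q = p ∧ FSch.IsAdicHom p ∧ FSch.IsAdicHom q ∧
      (∀ n : ℕ, AlgebraicGeometry.Smooth ((p : FSch.Hom 𝔘 _).app n)) ∧
      (∀ n : ℕ, AlgebraicGeometry.Smooth ((q : FSch.Hom 𝔙 _).app n)) ∧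
      eU.hom ≫ U₀.ι ≫ a = (p : FSch.Hom 𝔘 _).app 0 ∧
      eV.hom ≫ V₀.ι ≫ b = (q : FSch.Hom 𝔙 _).app 0 ∧
      (Φ : FSch.Hom 𝔘 𝔙).app 0 ≫ eV.hom = eU.hom ≫ f.resLE V₀ U₀ hUV := by
  obtain ⟨V₀, hV, hfx, -⟩ := exists_isAffineOpen_mem_and_subset (x := f x) (U := (⊤ : Y₀.Opens)) trivial
  obtain ⟨U₀, hU', hx, hUV⟩ := exists_isAffineOpen_mem_and_subset (x := x) (U := f ⁻¹ᵁ V₀) hfx
  have hF := Groth.AdicLinTop.Thickenings.isFormal_completionAlong (X := S) (𝓘 := 𝒥)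
  have hs : ∀ n, IsClosedImmersion ((FSch.completionAlong S 𝒥).ι n) ∧ Surjective ((FSch.completionAlong S 𝒥).ι n) :=
    fun n => ⟨(hF n).1, ⟨(hF n).2⟩⟩
  have hn : ∀ n, IsLocallyNoetherian ((FSch.completionAlong S 𝒥).X n) :=
    fun n => LocallyOfFiniteType.isLocallyNoetherian (FSch.completionToX S 𝒥 n)
  let LU : Aux.Lvl (FSch.completionAlong S 𝒥) 0 := ⟨U₀.toScheme, U₀.ι ≫ a, inferInstance, hU'⟩
  let LV : Aux.Lvl (FSch.completionAlong S 𝒥) 0 := ⟨V₀.toScheme, V₀.ι ≫ b, inferInstance, hV⟩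
  obtain ⟨Φ, hΦ, hΦ₀⟩ := Aux.exists_hom _ hs hn (Aux.proj _ hs hn LU) (Aux.proj _ hs hn LV)
    (Aux.isAdicHom_proj _ hs hn LU) (fun n => (Aux.tower _ hs hn LU n).smooth)
    (fun n => (Aux.tower _ hs hn LV n).smooth) (fun n => (Aux.tower _ hs hn LU n).affine)
    (f.resLE V₀ U₀ hUV) (by
      change f.resLE V₀ U₀ hUV ≫ V₀.ι ≫ b = U₀.ι ≫ a
      rw [Scheme.Hom.resLE_comp_ι_assoc, w])
  refine ⟨U₀, V₀, hx, hUV, _, _, Aux.proj _ hs hn LU, Aux.proj _ hs hn LV, Φ, Iso.refl _, Iso.refl _, hΦ,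
    Aux.isAdicHom_proj _ hs hn LU, Aux.isAdicHom_proj _ hs hn LV, fun n => (Aux.tower _ hs hn LU n).smooth,
    fun n => (Aux.tower _ hs hn LV n).smooth, Category.id_comp _, Category.id_comp _, ?_⟩
  rw [hΦ₀]
  exact (Category.comp_id _).trans (Category.id_comp _).symm

end Groth.Agent.S14006
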