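import Groth.Statements.S14007
import Groth.Agent.KTheory.PerfCoh
import Groth.Agent.KTheory.DbEuler

set_option autoImplicit false
universe u
open CategoryTheory AlgebraicGeometry
attribute [local instance] HasDerivedCategory.standard
open KZero

namespace Groth.Agent.S14007

/-- Let X be a Noetherian scheme and Y' ⊆ X a closed subset, and suppose that every coherent O_X-module
with support in Y', viewed in degree 0, is a perfect object of D(O_X). Write K_0(C) for the
Grothendieck group of the abelian category C of coherent O_X-modules supported in Y' (objects modulo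
short exact sequences) and K_0(D) for that of the full triangulated subcategory D of D(O_X) on the
perfect complexes all of whose cohomology sheaves are supported in Y' (objects modulo distinguished
triangles with vertices in D). Then the homomorphism K_0(C) → K_0(D) induced by G ↦ G[0] is an
isomorphism: there is an isomorphism of groups carrying the class of every G in C to the class of
G[0]. -/
theorem result (X : Scheme.{u}) [IsNoetherian X]
    (Y' : Set X) (hY' : IsClosed Y')
    (hperf : ∀ G : X.Modules, Coh.IsCoh G → CohB1.support G ⊆ Y' → DCoh.IsPerfect (DCoh.inD X G)) :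
    ∃ φ : KZero.K0sub (fun G : X.Modules => Coh.IsCoh G ∧ CohB1.support G ⊆ Y') ≃+
        KZero.K0tr (fun K : DCoh.D X => DCoh.IsPerfect K ∧ ∀ i : ℤ, CohB1.support (DCoh.HD K i) ⊆ Y'),
      ∀ G : X.Modules, Coh.IsCoh G → CohB1.support G ⊆ Y' →
        φ (KZero.clSub (fun G : X.Modules => Coh.IsCoh G ∧ CohB1.support G ⊆ Y') G) =
          KZero.clTr (fun K : DCoh.D X => DCoh.IsPerfect K ∧ ∀ i : ℤ, CohB1.support (DCoh.HD K i) ⊆ Y')
            (DCoh.inD X G) := by
  let P : ObjectProperty X.Modules := fun G => Coh.IsCoh G ∧ CohB1.support G ⊆ Y'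
  have hmono : ∀ {A B : X.Modules} (f : A ⟶ B), Mono f → CohB1.support A ⊆ CohB1.support B := by
    intro A B f hf x hx hB
    apply hx
    have := (Groth.QCohMod.mono_iff_stalk f).1 hf x
    have hinj : Function.Injective ((Groth.QCohMod.stalk x).map f) :=
      this
    exact @Function.Injective.subsingleton _ _ _ hinj hB
  have hsupp : ∀ {A B : X.Modules}, (A ≅ B) → CohB1.support A = CohB1.support B := fun e =>
    Set.Subset.antisymm (hmono e.hom inferInstance) (hmono e.inv inferInstance)
  have : P.IsClosedUnderIsomorphisms :=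
    ⟨fun e h => ⟨Groth.QCohMod.isCoh_of_iso e h.1, (hsupp e).symm.subset.trans h.2⟩⟩
  have : P.ContainsZero :=
    ⟨⟨_, Limits.isZero_zero X.Modules, Groth.KTheory.isCoh_of_isZero (Limits.isZero_zero _), by
      rw [(Groth.QCohMod.isZero_iff_support_eq_empty _).1 (Limits.isZero_zero _)]
      exact Set.empty_subset _⟩⟩
  have : P.IsClosedUnderKernels := by
    constructor
    rintro K h
    obtain ⟨f, k, hf, hA, hB⟩ := h
    let e := (Limits.kernelIsKernel f).conePointUniqueUpToIso hf
    exact ⟨Groth.QCohMod.isCoh_of_iso e (@Groth.QCohMod.isCoh_kernel X _ _ _ _ hB.1.1 hA.1),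
      (hsupp e).symm.subset.trans ((hmono (Limits.kernel.ι f) inferInstance).trans hA.2)⟩
  have heq : Groth.KTheory.dbProp P =
      (fun K : DCoh.D X => DCoh.IsPerfect K ∧ ∀ i : ℤ, CohB1.support (DCoh.HD K i) ⊆ Y') := by
    funext K
    apply propext
    constructor
    · rintro ⟨h, a, b, ha, hb⟩
      exact ⟨Groth.KTheory.Perf.isPerfect_of_hd K a b ha hb fun i => hperf _ (h i).1 (h i).2,
        fun i => (h i).2⟩
    · rintro ⟨h, h'⟩
      exact ⟨fun i => ⟨Groth.KTheory.Perf.isCoh_hd_of_isPerfect h i, h' i⟩,
        Groth.KTheory.Perf.exists_bounds_of_isPerfect h⟩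
  obtain ⟨φ, hφ⟩ := Groth.KTheory.exists_k0sub_equiv_dbProp P
  rw [← heq]
  exact ⟨φ, fun G h₁ h₂ => hφ G ⟨h₁, h₂⟩⟩

end Groth.Agent.S14007
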