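import Groth.Statements.S14025
import Groth.Agent.EtaleDeep.AdicP.EssImage
-- import your own Groth.Agent.* helpers here

set_option autoImplicit false
set_option backward.isDefEq.respectTransparency.types false
open CategoryTheory CategoryTheory.Limits AlgebraicGeometry Opposite
universe u
open EtModW

namespace Groth.Agent.S14025

/-- Let X be a scheme, Λ a Noetherian commutative ring and F a sheaf of Λ-modules on the small pro-étale
site of X. Then F is constructible — isomorphic to the pro-étale pullback ε⁻¹E of a constructible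
sheaf E of Λ-modules on the small étale site — exactly when each affine open U ⊆ X can be split into
finitely many constructible locally closed strata, the images of immersions g_i : T_i ⟶ X, such that
for each i the pullback of F to the small pro-étale site of T_i is isomorphic to the pro-étale
pullback of a finite-type locally constant sheaf of Λ-modules on the small étale site of T_i.
(Continuity of the inclusions of étale into pro-étale sites and of the base-change functors between
pro-étale sites is carried as binders.) -/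
theorem result
    (Λ : Type (u + 1)) [CommRing Λ] [IsNoetherianRing Λ]
    (X : Scheme.{u}) [∀ T : Scheme.{u}, ProEtS.EpsCont T]
    [∀ (T : Scheme.{u}) (g : T ⟶ X), ProEtS.PCont g]
    (F : EtModW.ModP Λ X) :
    (∃ E : EtModW.Mod Λ X, EtModW.IsConstructible Λ E ∧ Nonempty ((EtModW.epsPullMod Λ X).obj E ≅ F)) ↔
      ∀ U : X.Opens, IsAffineOpen U →
        ∃ (m : ℕ) (T : Fin m → Scheme.{u}) (g : ∀ i, T i ⟶ X),
          (∀ i, IsImmersion (g i)) ∧
          (∀ i, Topology.IsConstructible ((Subtype.val : ↥(U : Set X) → X) ⁻¹' Set.range (fun t => (g i).base t))) ∧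
          Pairwise (fun i j => Disjoint (Set.range (fun t => (g i).base t)) (Set.range (fun t => (g j).base t))) ∧
          (⋃ i, Set.range (fun t => (g i).base t)) = (U : Set X) ∧
          ∀ i, ∃ E : EtModW.Mod Λ (T i), EtModW.IsFTLocConst Λ E ∧
            Nonempty ((EtModW.epsPullMod Λ (T i)).obj E ≅ (((ProEtS.bcP (g i)).sheafPullback (ModuleCat.{u + 1} Λ) (Scheme.ProEt.topology X) (Scheme.ProEt.topology (T i)))).obj F) := by
  classical
  have hcomp : ∀ {T : Scheme.{u}} (g : T ⟶ X) (E : EtModW.Mod Λ X),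
      Nonempty (((ProEtS.bcP g).sheafPullback (ModuleCat.{u + 1} Λ) (Scheme.ProEt.topology X)
        (Scheme.ProEt.topology T)).obj ((EtModW.epsPullMod Λ X).obj E) ≅
        (EtModW.epsPullMod Λ T).obj ((EtModW.pull Λ g).obj E)) := fun g E =>
    (Groth.EtaleDeep.AdicP.nonempty_epsPullMod_comp_pull Λ g).map fun e => e.app E
  constructor
  · rintro ⟨E, hE, ⟨e⟩⟩ U hU
    obtain ⟨m, T, g, hg, hc, hd, hu, hFT⟩ := hE U hU
    exact ⟨m, T, g, hg, hc, hd, hu, fun i => ⟨_, hFT i,
      (hcomp (g i) E).map fun e' => e'.symm ≪≫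
        ((ProEtS.bcP (g i)).sheafPullback (ModuleCat.{u + 1} Λ) (Scheme.ProEt.topology X)
          (Scheme.ProEt.topology (T i))).mapIso e⟩⟩
  · intro h
    have hF : (EtModW.epsPullMod Λ X).essImage F :=
      Groth.EtaleDeep.AdicP.classical_of_adapted Λ (F := F) fun U hU => by
        obtain ⟨m, T, g, hg, hc, hd, hu, hFT⟩ := h U hU
        exact ⟨m, T, g, hg, hc, hd, hu, fun i => ⟨(hFT i).choose, (hFT i).choose_spec.2⟩⟩
    refine ⟨hF.witness, fun U hU => ?_, ⟨hF.getIso⟩⟩
    obtain ⟨m, T, g, hg, hc, hd, hu, hFT⟩ := h U hU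
    refine ⟨m, T, g, hg, hc, hd, hu, fun i => ?_⟩
    obtain ⟨E, hE, ⟨e⟩⟩ := hFT i
    obtain ⟨e'⟩ := hcomp (g i) hF.witness
    let adj := Groth.EtaleDeep.Eps.epsAdjMod Λ (X := T i)
    have : ∀ G, IsIso (adj.unit.app G) := Groth.EtaleDeep.Eps.isIso_unitMod Λ
    have : IsIso adj.unit := NatIso.isIso_of_isIso_app _
    exact Groth.EtaleDeep.Cons.isFT_of_iso (adj.fullyFaithfulLOfIsIsoUnit.preimageIso
      (e ≪≫ ((ProEtS.bcP (g i)).sheafPullback (ModuleCat.{u + 1} Λ) (Scheme.ProEt.topology X)
          (Scheme.ProEt.topology (T i))).mapIso hF.getIso.symm ≪≫ e')) hE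

end Groth.Agent.S14025
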