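import Groth.Statements.S14029
import Groth.Agent.SiteCohomology.FullyFaithfulShriek

set_option autoImplicit false
open CategoryTheory CategoryTheory.Limits Opposite
universe v u
open CohSite

namespace Groth.Agent.S14029

/-- Let (C, J) be a site and U an object such that every object has at most one morphism to U; assume
extension by the empty set j_! from sheaves of sets on the localized site C/U to sheaves of sets on
C exists (through sheafification on C and left Kan extensions along C/U → C). If V is weakly
contractible in C — every epimorphism of sheaves of sets on C is surjective on sections over V —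
then for any morphism a : V ⟶ U the object V → U of C/U is weakly contractible in C/U: every
epimorphism of sheaves of sets on C/U is surjective on sections over it. Hence C/U has enough weakly
contractible objects when C does. -/
theorem result
    {C : Type u} [Category.{v} C] (J : GrothendieckTopology C) (U : C)
    (hU : ∀ W : C, Subsingleton (W ⟶ U))
    [HasWeakSheafify J (Type (max u v))]
    [∀ (P : (Over U)ᵒᵖ ⥤ Type (max u v)), (Over.forget U).op.HasLeftKanExtension P]
    (V : C) (hV : (∀ (A B : Sheaf J (Type (max u v))) (ψ : A ⟶ B), Epi ψ → Function.Surjective (ψ.hom.app (op V)))) (a : V ⟶ U) :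
    ∀ (A B : Sheaf (J.over U) (Type (max u v))) (ψ : A ⟶ B), Epi ψ →
      Function.Surjective (ψ.hom.app (op (Over.mk a))) := by
  intro A B ψ hψ y
  haveI := Groth.SiteCohomology.full_overForget_of_subsingleton U hU
  let adj := (Over.forget U).sheafAdjunctionContinuous (Type (max u v)) (J.over U) J
  haveI : ((Over.forget U).sheafPullback (Type (max u v)) (J.over U) J).IsLeftAdjoint :=
    adj.isLeftAdjoint
  haveI := hψ
  have e : ∀ F, IsIso (adj.unit.app F) := fun F =>
    Groth.SiteCohomology.isIso_sheafAdjunctionContinuous_unit_app _ _ _ _ F
  haveI : Epi (((Over.forget U).sheafPullback (Type (max u v)) (J.over U) J).map ψ) := inferInstance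
  obtain ⟨x, hx⟩ := hV _ _ _ this ((adj.unit.app B).hom.app (op (Over.mk a)) y)
  haveI := e A
  haveI := e B
  refine ⟨(inv (adj.unit.app A)).hom.app (op (Over.mk a)) x, ?_⟩
  have hn : inv (adj.unit.app A) ≫ ψ =
      ((Over.forget U).sheafPushforwardContinuous (Type (max u v)) (J.over U) J).map
        (((Over.forget U).sheafPullback (Type (max u v)) (J.over U) J).map ψ) ≫ inv (adj.unit.app B) := by
    rw [IsIso.inv_comp_eq, ← Category.assoc, IsIso.eq_comp_inv]
    exact adj.unit.naturality ψ
  refine (congrArg (fun k => k.hom.app (op (Over.mk a)) x) hn).trans ?_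
  refine (congrArg ((inv (adj.unit.app B)).hom.app (op (Over.mk a))) hx).trans ?_
  exact congrArg (fun k => k.hom.app (op (Over.mk a)) y) (IsIso.hom_inv_id (adj.unit.app B))

end Groth.Agent.S14029
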