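import Groth.Statements.S14032
import Mathlib
-- import your own Groth.Agent.* helpers here

set_option autoImplicit false
universe u v
open W4c1frobunstiva

namespace Groth.Agent.S14032

open TensorProduct in
/-- Let R be a commutative Noetherian ring with nilradical n, M an R-module and r a natural number. Then
M is NR-free of rank r — generated by r elements such that every linear relation among them has
nilpotent coefficients — if and only if (R/n) ⊗_R M is free of rank r over R/n, in the sense of
admitting a basis indexed by r elements. (The published statement assumes M finitely generated and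
also gives the converse when R is local; over a Noetherian ring the nilradical is nilpotent, the
case used here, and finite generation is not needed.) -/
theorem result (R : Type u) [CommRing R]
    [IsNoetherianRing R] (M : Type v) [AddCommGroup M] [Module R M] (r : ℕ) :
    W4c1frobunstiva.IsNRFree R M r ↔
      Nonempty (Module.Basis (Fin r) (R ⧸ nilradical R) ((R ⧸ nilradical R) ⊗[R] M)) := by
  generalize hN : nilradical R = N
  obtain ⟨q, hq⟩ : ∃ q : M →ₗ[R] (R ⧸ N) ⊗[R] M, q = TensorProduct.mk R (R ⧸ N) M 1 := ⟨_, rfl⟩
  have hq' : Function.Surjective q := hq ▸ TensorProduct.mk_surjective R M (R ⧸ N) Ideal.Quotient.mk_surjective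
  have hker : LinearMap.ker q = N • (⊤ : Submodule R M) := by
    ext x
    rw [LinearMap.mem_ker, ← (TensorProduct.quotTensorEquivQuotSMul M N).map_eq_zero_iff]
    rw [hq, TensorProduct.mk_apply, ← map_one (Ideal.Quotient.mk N), TensorProduct.quotTensorEquivQuotSMul_mk_tmul, one_smul, Submodule.Quotient.mk_eq_zero]
  have hlin : ∀ (a : Fin r → R) (m : Fin r → M),
      ∑ i, (Ideal.Quotient.mk N (a i)) • q (m i) = q (∑ i, a i • m i) := by
    intro a m
    rw [map_sum]
    refine Finset.sum_congr rfl fun i _ => ?_
    rw [map_smul, ← Ideal.Quotient.algebraMap_eq, algebraMap_smul]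
  constructor
  · rintro ⟨m, hs, hr⟩
    refine ⟨Module.Basis.mk (v := fun i => q (m i)) ?_ ?_⟩
    · rw [Fintype.linearIndependent_iff]
      intro c hc i
      choose a ha using fun i => Ideal.Quotient.mk_surjective (I := N) (c i)
      simp only [← ha, hlin] at hc
      rw [← LinearMap.mem_ker, hker] at hc
      rw [← hs, Submodule.mem_ideal_smul_span_iff_exists_sum] at hc
      obtain ⟨b, hb, hsum⟩ := hc
      have h0 := hr (fun i => a i - b i) (by
        simp only [sub_smul, Finset.sum_sub_distrib]
        rw [sub_eq_zero, ← hsum, b.sum_fintype _ (fun i => zero_smul R (m i))]) i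
      rw [← ha, Ideal.Quotient.eq_zero_iff_mem, ← sub_add_cancel (a i) (b i)]
      exact add_mem (hN ▸ mem_nilradical.2 h0) (hb i)
    · rintro z -
      obtain ⟨x, rfl⟩ := hq' z
      obtain ⟨a, rfl⟩ := Submodule.mem_span_range_iff_exists_fun R |>.1 (hs ▸ Submodule.mem_top (x := x))
      rw [← hlin]
      exact Submodule.sum_mem _ fun i _ => Submodule.smul_mem _ _ (Submodule.subset_span ⟨i, rfl⟩)
  · rintro ⟨b⟩
    choose m hm using fun i => hq' (b i)
    refine ⟨m, ?_, fun a ha i => ?_⟩
    · rw [eq_top_iff]
      have hfg : N.FG := IsNoetherian.noetherian _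
      obtain ⟨e, he⟩ : IsNilpotent N := hN ▸ IsNoetherianRing.isNilpotent_nilradical R
      have key : ∀ x : M, x ∈ Submodule.span R (Set.range m) ⊔ N • (⊤ : Submodule R M) := by
        intro x
        choose a ha using fun i => Ideal.Quotient.mk_surjective (I := N) (b.repr (q x) i)
        have : x - ∑ i, a i • m i ∈ N • (⊤ : Submodule R M) := by
          rw [← hker, LinearMap.mem_ker, map_sub, ← hlin, sub_eq_zero]
          simp [ha, hm, b.sum_repr]
        rw [← sub_add_cancel x (∑ i, a i • m i)]
        exact add_mem (Submodule.mem_sup_right this) (Submodule.mem_sup_left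
          (Submodule.sum_mem _ fun i _ => Submodule.smul_mem _ _ (Submodule.subset_span ⟨i, rfl⟩)))
      have key2 : ∀ j : ℕ, (⊤ : Submodule R M) ≤ Submodule.span R (Set.range m) ⊔ (N ^ j) • (⊤ : Submodule R M) := by
        intro j
        induction j with
        | zero => simp
        | succ j ih =>
          refine ih.trans (sup_le le_sup_left ?_)
          refine (Submodule.smul_mono le_rfl (fun x _ => key x)).trans ?_
          rw [Submodule.smul_sup, ← Submodule.mul_smul, ← pow_succ]
          exact sup_le_sup_right Submodule.smul_le_right _
      simpa [he] using key2 e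
    · have := hlin a m
      rw [ha, map_zero] at this
      simp only [hm] at this
      have h0 := Fintype.linearIndependent_iff.1 b.linearIndependent _ this i
      rwa [Ideal.Quotient.eq_zero_iff_mem, ← hN, mem_nilradical] at h0

end Groth.Agent.S14032
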