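import Groth.Statements.S14033
import Mathlib
-- import your own Groth.Agent.* helpers here

set_option autoImplicit false
universe u v
open W4c1frobunstiva

namespace Groth.Agent.S14033

open DualNumber Pointwise in
/-- Let R be a commutative ring, R[ε] its ring of dual numbers (ε² = 0), M an R[ε]-module and r a
natural number. Then M is free of rank r over R[ε] (admits a basis of r elements) if and only if the
R-modules M/εM and εM are both free of rank r. (The published statement concerns a coherent sheaf on
the product of a scheme S with Spec ℤ[ε] and local freeness of rank r; that assertion is local, and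
this row is its form over one ring, with no finiteness assumption on M and no hypothesis on R.) -/
theorem result (R : Type u) [CommRing R] (M : Type v)
    [AddCommGroup M] [Module R[ε] M] [Module R M] [IsScalarTower R R[ε] M] (r : ℕ) :
    Nonempty (Module.Basis (Fin r) R[ε] M) ↔
      (Nonempty (Module.Basis (Fin r) R (M ⧸ ((ε : R[ε]) • (⊤ : Submodule R[ε] M)))) ∧
        Nonempty (Module.Basis (Fin r) R (((ε : R[ε]) • (⊤ : Submodule R[ε] M)).restrictScalars R))) := by
  set eM : Submodule R[ε] M := (ε : R[ε]) • (⊤ : Submodule R[ε] M) with heM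
  have mem_eM : ∀ x, x ∈ eM ↔ ∃ y, (ε : R[ε]) • y = x := fun x => by
    simp [heM, Submodule.mem_smul_pointwise_iff_exists]
  have decomp : ∀ (c : R[ε]) (y : M), c • y = TrivSqZeroExt.fst c • y + TrivSqZeroExt.snd c • ((ε : R[ε]) • y) := by
    intro c y
    rw [← algebraMap_smul R[ε] (TrivSqZeroExt.fst c) y, ← algebraMap_smul R[ε] (TrivSqZeroExt.snd c) ((ε : R[ε]) • y),
      smul_smul, ← add_smul]
    congr 1
    ext <;> simp [TrivSqZeroExt.algebraMap_eq_inl]
  have eps2 : ∀ y : M, (ε : R[ε]) • (ε : R[ε]) • y = 0 := fun y => by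
    rw [smul_smul, DualNumber.eps_mul_eps, zero_smul]
  let q : M →ₗ[R] (M ⧸ eM) := eM.mkQ.restrictScalars R
  constructor
  · rintro ⟨b⟩
    have hspan : ∀ x, ∃ c : Fin r → R[ε], ∑ i, c i • b i = x := fun x => ⟨b.repr x, b.sum_repr x⟩
    refine ⟨⟨Module.Basis.mk (v := fun i => q (b i)) ?_ ?_⟩,
      ⟨Module.Basis.mk (v := fun i => (⟨(ε : R[ε]) • b i, (mem_eM _).2 ⟨_, rfl⟩⟩ : eM.restrictScalars R)) ?_ ?_⟩⟩
    · rw [Fintype.linearIndependent_iff]
      intro c hc i
      simp only [← map_smul, ← map_sum] at hc
      obtain ⟨y, hy⟩ := (mem_eM _).1 ((Submodule.Quotient.mk_eq_zero eM).1 hc)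
      obtain ⟨d, rfl⟩ := hspan y
      rw [Finset.smul_sum] at hy
      have := Fintype.linearIndependent_iff.1 b.linearIndependent
        (fun i => algebraMap R R[ε] (c i) - ε * d i) (by
          simp [sub_smul, Finset.sum_sub_distrib, mul_smul, hy, algebraMap_smul]) i
      simpa [TrivSqZeroExt.algebraMap_eq_inl] using congrArg TrivSqZeroExt.fst this
    · rintro z -
      obtain ⟨x, rfl⟩ := eM.mkQ_surjective z
      obtain ⟨c, rfl⟩ := hspan x
      show q (∑ i, c i • b i) ∈ _
      rw [map_sum]
      refine Submodule.sum_mem _ fun i _ => ?_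
      rw [decomp, map_add, map_smul, map_smul,
        show q ((ε : R[ε]) • b i) = 0 from (Submodule.Quotient.mk_eq_zero eM).2 ((mem_eM _).2 ⟨_, rfl⟩),
        smul_zero, add_zero]
      exact Submodule.smul_mem _ _ (Submodule.subset_span ⟨i, rfl⟩)
    · rw [Fintype.linearIndependent_iff]
      intro c hc i
      have hc' := congrArg Subtype.val hc
      simp only [Submodule.coe_sum, Submodule.coe_smul, ZeroMemClass.coe_zero] at hc'
      have := Fintype.linearIndependent_iff.1 b.linearIndependent
        (fun i => algebraMap R R[ε] (c i) * ε) (by simpa [mul_smul, algebraMap_smul] using hc') i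
      simpa [TrivSqZeroExt.algebraMap_eq_inl] using congrArg TrivSqZeroExt.snd this
    · rintro ⟨x, hx⟩ -
      obtain ⟨y, rfl⟩ := (mem_eM _).1 hx
      obtain ⟨c, rfl⟩ := hspan y
      rw [Submodule.mem_span_range_iff_exists_fun]
      refine ⟨fun i => TrivSqZeroExt.fst (c i), Subtype.ext ?_⟩
      simp only [Submodule.coe_sum, Submodule.coe_smul, Finset.smul_sum]
      refine Finset.sum_congr rfl fun i _ => ?_
      rw [decomp (c i), smul_add, smul_comm (ε : R[ε]) (TrivSqZeroExt.snd (c i)), eps2, smul_zero, add_zero,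
        smul_comm]
  · rintro ⟨⟨b⟩, ⟨b'⟩⟩
    choose m hm using fun i => eM.mkQ_surjective (b i)
    have hm' : ∀ i, q (m i) = b i := hm
    have key : ∀ x, ∃ c : Fin r → R, x - ∑ i, c i • m i ∈ eM := by
      intro x
      refine ⟨b.repr (q x), (Submodule.Quotient.mk_eq_zero eM).1 ?_⟩
      show q _ = 0
      simp [hm', b.sum_repr]
    let w : Fin r → eM.restrictScalars R := fun i => ⟨(ε : R[ε]) • m i, (mem_eM _).2 ⟨_, rfl⟩⟩
    have hw : ⊤ ≤ Submodule.span R (Set.range w) := by
      rintro ⟨x, hx⟩ -
      obtain ⟨y, rfl⟩ := (mem_eM _).1 hx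
      obtain ⟨c, hc⟩ := key y
      obtain ⟨z, hz⟩ := (mem_eM _).1 hc
      rw [Submodule.mem_span_range_iff_exists_fun]
      refine ⟨c, Subtype.ext ?_⟩
      have := congrArg (fun t => (ε : R[ε]) • t) hz
      simp only [eps2, smul_sub, Finset.smul_sum] at this
      rw [eq_comm, sub_eq_zero] at this
      simp [w, this, smul_comm (ε : R[ε])]
    have hwi : LinearIndependent R w := by
      have hs : Function.Surjective (b'.equivFun.toLinearMap ∘ₗ Fintype.linearCombination R w) :=
        b'.equivFun.surjective.comp (LinearMap.range_eq_top.1 (by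
          rw [Fintype.range_linearCombination]; exact top_le_iff.1 hw))
      have hi := OrzechProperty.injective_of_surjective_endomorphism _ hs
      rw [Fintype.linearIndependent_iff]
      intro g hg
      have : g = 0 := hi (by simp [Fintype.linearCombination_apply, hg])
      simp [this]
    refine ⟨Module.Basis.mk (v := m) ?_ ?_⟩
    · rw [Fintype.linearIndependent_iff]
      intro c hc i
      rw [Finset.sum_congr rfl (fun i _ => decomp (c i) (m i)), Finset.sum_add_distrib] at hc
      have h1 : ∀ i, TrivSqZeroExt.fst (c i) = 0 := Fintype.linearIndependent_iff.1 b.linearIndependent _ (by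
        have := congrArg q hc
        simpa [hm', show ∀ i, q ((ε : R[ε]) • m i) = 0 from fun i => (Submodule.Quotient.mk_eq_zero eM).2 ((mem_eM _).2 ⟨_, rfl⟩)] using this)
      have h2 : ∀ i, TrivSqZeroExt.snd (c i) = 0 := Fintype.linearIndependent_iff.1 hwi _ (by
        apply Subtype.ext
        simpa [w, h1] using hc)
      exact TrivSqZeroExt.ext (h1 i) (h2 i)
    · rintro x -
      obtain ⟨c, hc⟩ := key x
      obtain ⟨y, hy⟩ := (mem_eM _).1 hc
      obtain ⟨d, hd⟩ := key y
      obtain ⟨z, hz⟩ := (mem_eM _).1 hd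
      rw [Submodule.mem_span_range_iff_exists_fun]
      refine ⟨fun i => algebraMap R R[ε] (c i) + ε * algebraMap R R[ε] (d i), ?_⟩
      have e2 := congrArg (fun t => (ε : R[ε]) • t) hz
      simp only [eps2, smul_sub] at e2
      simp only [add_smul, mul_smul, algebraMap_smul, Finset.sum_add_distrib, ← Finset.smul_sum]
      rw [← sub_eq_zero.1 e2.symm, hy, add_sub_cancel]

end Groth.Agent.S14033
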