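import Groth.Statements.S14034
import Mathlib.RingTheory.LocalRing.Module
import Mathlib.LinearAlgebra.Dimension.Constructions
import Mathlib.RingTheory.Flat.Basic
import Mathlib.RingTheory.Nilpotent.Basic
-- import your own Groth.Agent.* helpers here

set_option autoImplicit false
universe u
open W4c1frobunstiva

namespace Groth.Agent.S14034

/-- Let R be a Noetherian local ring and f an element of R whose annihilator consists of nilpotent
elements (a f = 0 forces a nilpotent), r, s and l ≤ s natural numbers, N the quotient of the free
module R^s by the submodule spanned by f e_1, …, f e_l (e_i the standard basis vectors), and φ : R^r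
→ N a surjective linear map. Then the kernel of φ is NR-free of rank r + l − s: it is generated by r
+ l − s elements every linear relation among which has nilpotent coefficients; and when l = 0 the
kernel is free of rank r − s. (The published statement takes R Noetherian with irreducible spectrum
and R_red a domain, not necessarily local, and f arbitrary. Over the coordinate ring of the real
2-sphere the kernel of (x, y, z) : R³ → R is not free, and over k[x, y]/(y², xy) localised at (x, y)
with f = y the kernel of R → R/(y) is spanned by y with the non-nilpotent relation x·y = 0. The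
published argument uses that the kernel of a surjection of free modules is free, true over a local
ring, and that a f = 0 forces a nilpotent, which is the hypothesis taken here; it holds when R_red
is a domain and f is not nilpotent, and also for f = ε in A[ε] with A a domain, so primality of the
nilradical is not assumed.) -/
theorem result (R : Type u)
    [CommRing R] [IsNoetherianRing R] [IsLocalRing R] (f : R)
    (hann : ∀ a : R, a * f = 0 → IsNilpotent a) (r s l : ℕ) (hls : l ≤ s)
    (φ : (Fin r → R) →ₗ[R]
      ((Fin s → R) ⧸ Submodule.span R (Set.range fun i : Fin l => (Pi.single (Fin.castLE hls i) f : Fin s → R))))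
    (hφ : Function.Surjective φ) :
    W4c1frobunstiva.IsNRFree R (LinearMap.ker φ) (r + l - s) ∧
      (l = 0 → Nonempty (Module.Basis (Fin (r - s)) R (LinearMap.ker φ))) := by
  classical
  let ψ : (Fin r → R) →ₗ[R] (Fin s → R) :=
    Classical.choose (Module.projective_lifting_property (Submodule.mkQ _) φ (Submodule.mkQ_surjective _))
  have hψ : (Submodule.mkQ _).comp ψ = φ :=
    Classical.choose_spec (Module.projective_lifting_property (Submodule.mkQ _) φ (Submodule.mkQ_surjective _))
  let T : (Fin l → R) →ₗ[R] (Fin s → R) :=
    Fintype.linearCombination R (fun i => (Pi.single (Fin.castLE hls i) f : Fin s → R))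
  have hT : LinearMap.range T = Submodule.span R (Set.range fun i : Fin l =>
      (Pi.single (Fin.castLE hls i) f : Fin s → R)) := Fintype.range_linearCombination _ _
  let Φ : (Fin r → R) × (Fin l → R) →ₗ[R] (Fin s → R) := ψ.coprod T
  have hψ' : ∀ x, φ x = Submodule.Quotient.mk (ψ x) := fun x => (LinearMap.congr_fun hψ x).symm
  have hΦ : Function.Surjective Φ := fun y => by
    obtain ⟨x, hx⟩ := hφ (Submodule.Quotient.mk y)
    rw [hψ', Submodule.Quotient.eq, ← hT] at hx
    obtain ⟨b, hb⟩ := hx
    exact ⟨(x, -b), by simp [Φ, hb]⟩
  obtain ⟨g, hg⟩ := Module.projective_lifting_property Φ LinearMap.id hΦ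
  let p : (Fin r → R) × (Fin l → R) →ₗ[R] LinearMap.ker Φ :=
    (LinearMap.id - g.comp Φ).codRestrict _ fun w => by
      rw [LinearMap.mem_ker, LinearMap.sub_apply, map_sub, LinearMap.id_apply, LinearMap.comp_apply,
        show Φ (g (Φ w)) = Φ w from LinearMap.congr_fun hg _, sub_self]
  haveI : Module.Finite R (LinearMap.ker Φ) :=
    Module.Finite.of_surjective p fun v => ⟨v.1, Subtype.ext (by
      simp [p, LinearMap.mem_ker.1 v.2])⟩
  haveI : Module.Projective R (LinearMap.ker Φ) := Module.Projective.of_split (LinearMap.ker Φ).subtype p
    (LinearMap.ext fun v => Subtype.ext (by simp [p, LinearMap.mem_ker.1 v.2]))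
  haveI : Module.Free R (LinearMap.ker Φ) := Module.free_of_flat_of_isLocalRing
  have hrank : Module.finrank R (LinearMap.ker Φ) + s = r + l := by
    let e : ((Fin r → R) × (Fin l → R)) ≃ₗ[R] (LinearMap.ker Φ × (Fin s → R)) :=
      LinearEquiv.ofLinear (p.prod Φ) ((LinearMap.ker Φ).subtype.coprod g)
        (LinearMap.ext fun ⟨v, y⟩ => by
          have h1 : Φ (g y) = y := LinearMap.congr_fun hg y
          refine Prod.ext (Subtype.ext ?_) ?_
          · simp [p, LinearMap.mem_ker.1 v.2, h1]
          · simp [LinearMap.mem_ker.1 v.2, h1])
        (LinearMap.ext fun w => by simp [p])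
    have := e.finrank_eq
    rw [Module.finrank_prod, Module.finrank_prod, Module.finrank_fin_fun, Module.finrank_fin_fun,
      Module.finrank_fin_fun] at this
    omega
  let q : LinearMap.ker Φ →ₗ[R] LinearMap.ker φ :=
    ((LinearMap.fst R (Fin r → R) (Fin l → R)).comp (LinearMap.ker Φ).subtype).codRestrict _ fun v => by
      have h : ψ v.1.1 + T v.1.2 = 0 := v.2
      rw [LinearMap.mem_ker]
      change φ v.1.1 = 0
      rw [hψ', Submodule.Quotient.mk_eq_zero, ← hT, eq_neg_of_add_eq_zero_left h]
      exact neg_mem ⟨_, rfl⟩
  have hq : Function.Surjective q := fun x => by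
    have h := LinearMap.mem_ker.1 x.2
    rw [hψ', Submodule.Quotient.mk_eq_zero] at h
    replace h : ψ x.1 ∈ LinearMap.range T := hT.ge h
    obtain ⟨b, hb⟩ := h
    exact ⟨⟨(x.1, -b), by simp [Φ, hb]⟩, rfl⟩
  let B := Module.finBasisOfFinrankEq R (LinearMap.ker Φ) (show _ = r + l - s by omega)
  refine ⟨⟨fun j => q (B j), ?_, fun a ha j => ?_⟩, fun hl => ?_⟩
  · rw [show (fun j => q (B j)) = q ∘ B from rfl, Set.range_comp, Submodule.span_image, B.span_eq,
      Submodule.map_top, LinearMap.range_eq_top.2 hq]
  · let v := ∑ i, a i • B i
    have hv : v.1.1 = 0 := by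
      have h : q v = 0 := by simpa only [v, map_sum, map_smul] using ha
      exact congrArg Subtype.val h
    have hb : ∀ i, IsNilpotent (v.1.2 i) := fun i => by
      have h : ψ v.1.1 + T v.1.2 = 0 := v.2
      rw [hv, map_zero, zero_add] at h
      refine hann _ ?_
      have h2 := congrFun h (Fin.castLE hls i)
      simp only [T, Fintype.linearCombination_apply, Finset.sum_apply, Pi.smul_apply, Pi.zero_apply,
        smul_eq_mul] at h2
      rwa [Finset.sum_eq_single i (fun c _ hc => by
        rw [Pi.single_eq_of_ne (fun e => hc ((Fin.castLE_injective hls e).symm)), mul_zero])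
        (fun hh => absurd (Finset.mem_univ i) hh), Pi.single_eq_same] at h2
    have haj : a j = B.coord j (p v.1) := by
      have hpv : p v.1 = v := Subtype.ext (by simp [p, LinearMap.mem_ker.1 v.2])
      rw [hpv]
      simp [v, Finsupp.single_apply]
    rw [haj]
    have hdec : v.1 = ∑ i, v.1.2 i • ((0, Pi.single i 1) : (Fin r → R) × (Fin l → R)) := by
      refine Prod.ext (by simpa [Prod.fst_sum] using hv) ?_
      funext i
      simp [Prod.snd_sum, Finset.sum_apply, Pi.single_apply]
    rw [hdec, map_sum, map_sum]
    refine Commute.isNilpotent_sum (fun i _ => ?_) (fun _ _ _ _ => Commute.all _ _)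
    rw [map_smul, map_smul, smul_eq_mul]
    exact Commute.isNilpotent_mul_right (Commute.all _ _) (hb i)
  · subst hl
    refine ⟨(B.map (LinearEquiv.ofBijective q ⟨fun v w h => ?_, hq⟩)).reindex (finCongr (by omega))⟩
    exact Subtype.ext (Prod.ext (congrArg Subtype.val h) (Subsingleton.elim _ _))

end Groth.Agent.S14034
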