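import Groth.Statements.S14035
import Mathlib
import Groth.Agent.Misc6.FlatInj
-- import your own Groth.Agent.* helpers here

set_option autoImplicit false
universe u v
open W4c1frobunstiva

namespace Groth.Agent.S14035

open TensorProduct in
/-- Let A → B be a ring homomorphism with B Noetherian. If B modulo its nilradical is flat over A and
every fibre ring κ(p) ⊗_A B, p a prime of A, is reduced, then B is reduced. (This is the affine form
of the statement for a morphism of schemes X → Y all of whose fibres are reduced and whose
restriction to the reduced closed subscheme X_red is flat. The published statement does not say X is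
locally Noetherian, but its proof applies Nakayama's lemma to the nilradical as a finitely generated
ideal; without it the square-zero extension of a discrete valuation ring A by Frac(A)/A is a
counterexample.) -/
theorem result (A : Type u) (B : Type v)
    [CommRing A] [CommRing B] [Algebra A B] [IsNoetherianRing B]
    [Module.Flat A (B ⧸ nilradical B)]
    (hfib : ∀ p : PrimeSpectrum A, IsReduced (p.asIdeal.ResidueField ⊗[A] B)) :
    IsReduced B := by
  set N : Submodule B B := nilradical B with hN
  obtain ⟨e, he⟩ : IsNilpotent (nilradical B) := IsNoetherianRing.isNilpotent_nilradical B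
  have hdis : ∀ P : PrimeSpectrum B, P ∉ Module.support B ↥N := by
    intro P hP
    rw [Module.mem_support_iff_nontrivial_residueField_tensorProduct] at hP
    let p : PrimeSpectrum A := PrimeSpectrum.comap (algebraMap A B) P
    have hinj : Function.Injective ((N.subtype.restrictScalars A).lTensor p.asIdeal.ResidueField) := by
      apply Groth.Misc6.flatInj p.asIdeal.ResidueField (N.subtype.restrictScalars A)
        ((Submodule.mkQ N).restrictScalars A) Subtype.val_injective (LinearMap.exact_subtype_mkQ N)
        (Submodule.mkQ_surjective N)
    have hzero : ∀ (c : p.asIdeal.ResidueField) (x : N), c ⊗ₜ[A] x = 0 := by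
      intro c x
      apply hinj
      rw [map_zero, LinearMap.lTensor_tmul]
      have hred := hfib p
      apply IsNilpotent.eq_zero
      obtain ⟨m, hm⟩ := mem_nilradical.1 x.2
      refine ⟨m + 1, ?_⟩
      rw [Algebra.TensorProduct.tmul_pow, pow_succ' (N.subtype.restrictScalars A x),
        show (N.subtype.restrictScalars A x) ^ m = 0 from hm, mul_zero, TensorProduct.tmul_zero]
    let φ : p.asIdeal.ResidueField →ₐ[A] P.asIdeal.ResidueField :=
      Ideal.ResidueField.mapₐ p.asIdeal P.asIdeal (Algebra.ofId A B) rfl
    let bil : p.asIdeal.ResidueField →ₗ[A] N →ₗ[A] (P.asIdeal.ResidueField ⊗[B] N) :=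
      LinearMap.mk₂ A (fun c x => φ c ⊗ₜ[B] x) (by simp [TensorProduct.add_tmul])
        (by intro a c x; rw [map_smul, TensorProduct.smul_tmul'])
        (by simp [TensorProduct.tmul_add])
        (by intro a c x; simp [TensorProduct.tmul_smul])
    have h1 : ∀ x : N, (1 : P.asIdeal.ResidueField) ⊗ₜ[B] x = 0 := by
      intro x
      have := congrArg (TensorProduct.lift bil) (hzero 1 x)
      rw [TensorProduct.lift.tmul, map_zero] at this
      simpa [bil] using this
    refine not_subsingleton _ (subsingleton_of_forall_eq (0 : P.asIdeal.ResidueField ⊗[B] N) fun z => ?_)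
    induction z with
    | zero => rfl
    | add a b ha hb => rw [ha, hb, add_zero]
    | tmul c x =>
      have : c ⊗ₜ[B] x = c • ((1 : P.asIdeal.ResidueField) ⊗ₜ[B] x) := by
        rw [TensorProduct.smul_tmul', smul_eq_mul, mul_one]
      rw [this, h1, smul_zero]
  have hsub : Subsingleton ↥N := Module.support_eq_empty_iff.1 (Set.eq_empty_of_forall_notMem hdis)
  refine ⟨fun x hx => ?_⟩
  have := congrArg Subtype.val (Subsingleton.elim (⟨x, mem_nilradical.2 hx⟩ : ↥N) 0)
  simpa using this

end Groth.Agent.S14035
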