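import Groth.Statements.S14036
import Groth.Agent.Misc6.RelFrobFlat
-- import your own Groth.Agent.* helpers here

set_option autoImplicit false
universe u v
open W4c1frobunstiva

namespace Groth.Agent.S14036

/-- Let p be a prime number, A a commutative ring of characteristic p and B a smooth A-algebra of
characteristic p. Then the relative Frobenius homomorphism from the Frobenius twist B ⊗_A A (right
factor A through its p-th power map) to B, sending b ⊗ a to b^p a, is flat. (Affine form of the
statement that the relative Frobenius X → X^(p) of a smooth S-scheme in characteristic p is flat;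
flatness and the relative Frobenius are both local on affine opens.) -/
theorem result (p : ℕ) [Fact p.Prime] (A : Type u) [CommRing A]
    [CharP A p] (B : Type v) [CommRing B] [Algebra A B] [CharP B p] [Algebra.Smooth A B] :
    (FrobAlg.relFrob p A B).Flat := by
  obtain ⟨n, f, hf, -⟩ := Algebra.FinitePresentation.out (R := A) (A := B)
  let B' := MvPolynomial (Fin n) A ⧸ RingHom.ker f
  let e : B' ≃ₐ[A] B := Ideal.quotientKerAlgEquivOfSurjective hf
  haveI : Algebra.Smooth A B' := Algebra.Smooth.of_equiv e.symm
  haveI : CharP B' p := charP_of_injective_ringHom (f := e.symm.toRingEquiv.toRingHom) e.symm.injective p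
  have h := Groth.Misc6.RelFrobFlat.flat_of_smooth p A B'
  have hbc : Function.Bijective (Groth.Misc6.RelFrobFlat.bcMap p A e.symm.toAlgHom) :=
    (Algebra.TensorProduct.congr e.symm (AlgEquiv.refl : FrobAlg.Twist p A ≃ₐ[A] FrobAlg.Twist p A)).bijective
  have he : FrobAlg.relFrob p A B = (e.toAlgHom.toRingHom.comp (FrobAlg.relFrob p A B')).comp
      (Groth.Misc6.RelFrobFlat.bcMap p A e.symm.toAlgHom) := by
    rw [RingHom.comp_assoc, Groth.Misc6.RelFrobFlat.relFrob_natural]
    refine RingHom.ext fun x => ?_
    exact (e.apply_symm_apply _).symm
  rw [he]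
  exact RingHom.Flat.comp (RingHom.Flat.of_bijective hbc)
    (RingHom.Flat.comp h (RingHom.Flat.of_bijective e.bijective))

end Groth.Agent.S14036
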