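import Groth.Statements.S14037
import Groth.Agent.Misc6.GeomConnectedProper.Stein
import Groth.Agent.NagComp.DenseComp
import Groth.Agent.CohFin.ProjFinite

set_option autoImplicit false
universe u
open CategoryTheory CategoryTheory.Limits AlgebraicGeometry
open W4c1frobunstiva

namespace Groth.Agent.S14037

/-- Let f : X → Y be separated and of finite type, with X and Y integral, Y Noetherian and normal.
Suppose that every geometric fibre of f — the base change of X along any morphism from the spectrum
of an algebraically closed field to Y — is proper over that field and connected (so non-empty). Then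
f is proper. -/
theorem result {X Y : Scheme.{u}}
    (f : X ⟶ Y) [IsSeparated f] [LocallyOfFiniteType f] [QuasiCompact f]
    [IsIntegral X] [IsIntegral Y] [IsNoetherian Y] (hY : Pi1.IsNormalScheme Y)
    (hfib : ∀ (Ω : Type u) [Field Ω] [IsAlgClosed Ω] (y : Spec (CommRingCat.of Ω) ⟶ Y),
      IsProper (pullback.snd f y) ∧ ConnectedSpace ↥(pullback f y)) :
    IsProper f := by
  obtain ⟨Xc, j, g, φ, hj, hjqc, hsd, hjd, hg, hjg, -, -⟩ :=
    Groth.NagComp.exists_compactification_over f (𝟙 Y) f (Category.comp_id f)
  haveI : IrreducibleSpace Xc := by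
    have h : IsIrreducible (closure (Set.range j)) := by
      rw [← Set.image_univ]
      exact ((IrreducibleSpace.isIrreducible_univ X).image _ j.continuous.continuousOn).closure
    rw [j.denseRange.closure_range] at h
    exact (irreducibleSpace_def _).2 h
  haveI : IsReduced Xc := IsSchemeTheoreticallyDominant.isReduced j
  haveI : IsIntegral Xc := isIntegral_of_irreducibleSpace_of_isReduced Xc
  -- the generic point of `X` lies over the generic point of `Y`
  have hsurj : ∀ y : Y, ∃ x : X, f x = y := by
    intro y
    obtain ⟨p, hp⟩ : ∃ p : Spec (CommRingCat.of (AlgebraicClosure (Y.residueField y))) ⟶ Y, ∀ z, p z = y :=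
      ⟨Spec.map (CommRingCat.ofHom (algebraMap (Y.residueField y) (AlgebraicClosure (Y.residueField y)))) ≫
        Y.fromSpecResidueField y,
        fun z => (Scheme.Hom.comp_apply _ _ z).trans (Scheme.fromSpecResidueField_apply _ _)⟩
    obtain ⟨w⟩ := (hfib _ p).2.toNonempty
    refine ⟨pullback.fst f p w, ?_⟩
    rw [← Scheme.Hom.comp_apply, pullback.condition, Scheme.Hom.comp_apply]
    exact hp _
  have hdom : f.base (genericPoint X) ⤳ genericPoint Y := by
    have hd : IsDominant f := ⟨fun y => subset_closure (hsurj y)⟩
    rw [Groth.HensPair.apply_genericPoint f]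
  have hdom' : g.base (genericPoint Xc) ⤳ genericPoint Y := by
    have h : g (j (genericPoint X)) ⤳ genericPoint Y := by
      rw [← Scheme.Hom.comp_apply, hjg]; exact hdom
    rwa [Groth.HensPair.apply_genericPoint j] at h
  subst hjg
  have hrad : Groth.Misc6.GeomConnectedProper.FunRadicial g hdom' :=
    Groth.Misc6.GeomConnectedProper.funRadicial_of_comp j g hdom hdom' fun U hη hξ b hb =>
      Groth.Misc6.GeomConnectedProper.exists_pow_mem_range (j ≫ g) hdom (fun Ω _ _ y => (hfib Ω y).2) U hη hξ b hb
  have hjs : Surjective j := by
    refine ⟨fun c => ?_⟩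
    let y := g c
    have hub : CAlg2.IsUnibranch (Y.presheaf.stalk y) := by
      obtain ⟨h1, h2⟩ := hY y
      exact Groth.HensPair.isUnibranch_of_isIntegrallyClosed _
    haveI := Groth.Misc6.GeomConnectedProper.connectedSpace_fiber g Groth.CohFin.projFinite hdom' hrad y hub
    let Ω := AlgebraicClosure (Y.residueField y)
    let s : Spec (CommRingCat.of Ω) ⟶ Spec (Y.residueField y) :=
      Spec.map (CommRingCat.ofHom (algebraMap (Y.residueField y) Ω))
    let p : Spec (CommRingCat.of Ω) ⟶ Y := s ≫ Y.fromSpecResidueField y
    haveI : IsProper (pullback.snd (j ≫ g) p) := (hfib Ω p).1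
    haveI : IsIntegralHom s := IsIntegralHom.SpecMap_iff.2 (algebraMap_isIntegral_iff.2 inferInstance)
    let q : pullback (j ≫ g) p ⟶ g.fiber y :=
      pullback.lift (pullback.fst _ _ ≫ j) (pullback.snd _ _ ≫ s)
        (by rw [Category.assoc, pullback.condition, Category.assoc])
    have hq1 : q ≫ g.fiberι y = pullback.fst _ _ ≫ j := pullback.lift_fst _ _ _
    haveI : UniversallyClosed q := by
      have h : q ≫ g.fiberToSpecResidueField y = pullback.snd _ _ ≫ s := pullback.lift_snd _ _ _
      haveI : UniversallyClosed (q ≫ g.fiberToSpecResidueField y) := by rw [h]; infer_instance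
      haveI : IsSeparated (g.fiberToSpecResidueField y) := MorphismProperty.pullback_snd _ _ inferInstance
      exact UniversallyClosed.of_comp_of_isSeparated q (g.fiberToSpecResidueField y)
    have hrange : Set.range q = (g.fiberι y) ⁻¹' Set.range j := by
      ext t
      constructor
      · rintro ⟨w, rfl⟩
        refine ⟨(pullback.fst (j ≫ g) p) w, ?_⟩
        rw [← Scheme.Hom.comp_apply, ← Scheme.Hom.comp_apply, hq1]
      · rintro ⟨x, hx⟩
        have hgy : g (g.fiberι y t) = y := by
          have := Set.mem_range_self (f := g.fiberι y) t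
          rw [g.range_fiberι] at this
          exact this
        obtain ⟨w, hw1, -⟩ := Scheme.Pullback.exists_preimage_pullback (f := j ≫ g) (g := p) x
          (IsLocalRing.closedPoint Ω) (by
            rw [Scheme.Hom.comp_apply, hx, hgy]
            exact (Scheme.fromSpecResidueField_apply _ _).symm)
        refine ⟨w, (g.fiberι y).isEmbedding.injective ?_⟩
        rw [← Scheme.Hom.comp_apply, hq1, Scheme.Hom.comp_apply, hw1, hx]
    have hclopen : IsClopen (Set.range q) :=
      ⟨q.isClosedMap.isClosed_range, by
        rw [hrange]; exact j.isOpenEmbedding.isOpen_range.preimage (g.fiberι y).continuous⟩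
    have hne : (Set.range q).Nonempty := by
      obtain ⟨w⟩ := (hfib Ω p).2.toNonempty
      exact ⟨q w, Set.mem_range_self w⟩
    have huniv := hclopen.eq_univ hne
    rw [hrange] at huniv
    obtain ⟨t, ht⟩ : c ∈ Set.range (g.fiberι y) := by rw [g.range_fiberι]; rfl
    rw [← ht]
    exact Set.eq_univ_iff_forall.1 huniv t
  haveI : Epi j.base := (TopCat.epi_iff_surjective _).2 hjs.1
  haveI : IsIso j := IsOpenImmersion.isIso j
  infer_instance

end Groth.Agent.S14037
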