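import Groth.Statements.S14038
import Groth.Agent.Misc6.HermitePS
-- import your own Groth.Agent.* helpers here

set_option autoImplicit false
universe u
open W4c1frobunstiva

namespace Groth.Agent.S14038

/-- Let k be a field and M a square matrix of size r over the formal power series ring k[[t]] with
non-zero determinant. Call a matrix H over k[[t]] row-reduced when it is upper triangular, each
diagonal entry is a power t^{e_i} of the variable, and every entry above the diagonal in column j is
a polynomial of degree less than e_j (all its coefficients in degrees ≥ e_j vanish). Then there is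
exactly one row-reduced H obtainable from M by left multiplication with an invertible matrix over
k[[t]]. (The published statement takes k algebraically closed; the row-reduction argument needs only
a field.) -/
theorem result (k : Type u) [Field k] (r : ℕ)
    (M : Matrix (Fin r) (Fin r) (PowerSeries k)) (hM : M.det ≠ 0) :
    ∃! H : Matrix (Fin r) (Fin r) (PowerSeries k),
      (∃ e : Fin r → ℕ, (∀ i, H i i = PowerSeries.X ^ e i) ∧ (∀ i j, j < i → H i j = 0) ∧
        (∀ i j, i < j → ∀ n, e j ≤ n → PowerSeries.coeff n (H i j) = 0)) ∧
      ∃ N : Matrix (Fin r) (Fin r) (PowerSeries k), IsUnit N ∧ N * M = H := by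
  obtain ⟨N, e, hN, htri, hred⟩ := Groth.Misc6.Hermite.exists_red M hM
  refine ⟨N * M, ⟨⟨e, htri.1, htri.2, hred⟩, N, hN, rfl⟩, ?_⟩
  rintro H ⟨⟨e', h1, h2, h3⟩, N', hN', rfl⟩
  obtain ⟨u, rfl⟩ := hN
  obtain ⟨u', rfl⟩ := hN'
  exact (Groth.Misc6.Hermite.red_unique (e := e) (e' := e') htri hred ⟨h1, h2⟩ h3
    (A := (↑(u' * u⁻¹) : Matrix (Fin r) (Fin r) (PowerSeries k)))
    (B := (↑(u * u'⁻¹) : Matrix (Fin r) (Fin r) (PowerSeries k)))
    (by rw [Units.val_mul, mul_assoc, Units.inv_mul_cancel_left])
    (by rw [Units.val_mul, mul_assoc, Units.inv_mul_cancel_left])).symm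

end Groth.Agent.S14038
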