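import Groth.Statements.S14039
import Mathlib
-- import your own Groth.Agent.* helpers here

set_option autoImplicit false
open W4c1frobunstiva

namespace Groth.Agent.S14039

/-- For natural numbers p, n ≥ 1 and s, the number of monomials of degree s in n variables in which
every variable occurs with a positive exponent strictly less than p — that is, of exponent vectors
(e_1, …, e_n) with sum s and 1 ≤ e_i ≤ p − 1 — equals the inclusion–exclusion sum over i from 0 to n
of (−1)^i · C(n, i) · C(s − i(p − 1) − 1, n − 1), the last factor counting monomials of degree s −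
i(p − 1) − n in n variables and read as 0 when s < i(p − 1) + n. (A companion count, by how many
exponents lie below p/2, and a remark on polynomiality in s and p are not part of this row.) -/
theorem result (p n s : ℕ)
    (hn : 1 ≤ n) :
    (Fintype.card {e : Fin n → Fin p // (∀ i, 1 ≤ (e i : ℕ)) ∧ ∑ i, (e i : ℕ) = s} : ℤ) =
      ∑ i ∈ Finset.range (n + 1),
        (-1 : ℤ) ^ i * (n.choose i : ℤ) *
          (if i * (p - 1) + n ≤ s then (((s - i * (p - 1) - 1).choose (n - 1) : ℕ) : ℤ) else 0) := by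
  classical
  have hcard : (Fintype.card {e : Fin n → Fin p // (∀ i, 1 ≤ (e i : ℕ)) ∧ ∑ i, (e i : ℕ) = s} : ℤ) =
      PowerSeries.coeff s ((∑ x ∈ Finset.univ.filter (fun x : Fin p => 1 ≤ (x : ℕ)), (PowerSeries.X : PowerSeries ℤ) ^ (x : ℕ)) ^ n) := by
    rw [Finset.sum_pow', map_sum]
    simp only [Finset.prod_pow_eq_pow_sum, PowerSeries.coeff_X_pow]
    rw [Finset.sum_boole, Fintype.card_subtype]
    congr 2
    ext e
    simp [eq_comm]
  rw [hcard]
  have hsum : ∀ q : ℕ, q ≤ p → (∑ x ∈ Finset.univ.filter (fun x : Fin p => 1 ≤ (x : ℕ) ∧ (x : ℕ) < q), (PowerSeries.X : PowerSeries ℤ) ^ (x : ℕ)) * (1 - PowerSeries.X) =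
      PowerSeries.X * (1 - PowerSeries.X ^ (q - 1)) := by
    intro q
    induction q with
    | zero => intro; simp
    | succ q ih =>
      intro hq
      rcases Nat.eq_zero_or_pos q with rfl | hq0
      · rw [Finset.filter_false_of_mem (by omega)]; simp
      · have : Finset.univ.filter (fun x : Fin p => 1 ≤ (x : ℕ) ∧ (x : ℕ) < q + 1) =
            insert ⟨q, hq⟩ (Finset.univ.filter (fun x : Fin p => 1 ≤ (x : ℕ) ∧ (x : ℕ) < q)) := by
          ext x; simp [Fin.ext_iff]; omega
        rw [this, Finset.sum_insert (by simp), add_mul, ih (by omega)]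
        obtain ⟨j, rfl⟩ := Nat.exists_eq_add_of_le' hq0
        simp [pow_succ]
        ring
  have hsum' : (∑ x ∈ Finset.univ.filter (fun x : Fin p => 1 ≤ (x : ℕ)), (PowerSeries.X : PowerSeries ℤ) ^ (x : ℕ)) * (1 - PowerSeries.X) =
      PowerSeries.X * (1 - PowerSeries.X ^ (p - 1)) := by
    rw [← hsum p le_rfl]; congr 2; ext x; simp [x.isLt]
  obtain ⟨d, rfl⟩ : ∃ d, n = d + 1 := ⟨n - 1, by omega⟩
  have hinv : (1 - PowerSeries.X : PowerSeries ℤ) ^ (d + 1) * (PowerSeries.mk fun j => ((d + j).choose d : ℤ)) = 1 := by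
    rw [mul_comm]; exact PowerSeries.mk_add_choose_mul_one_sub_pow_eq_one ℤ d
  have key : (∑ x ∈ Finset.univ.filter (fun x : Fin p => 1 ≤ (x : ℕ)), (PowerSeries.X : PowerSeries ℤ) ^ (x : ℕ)) ^ (d + 1) =
      (PowerSeries.mk fun j => ((d + j).choose d : ℤ)) * (PowerSeries.X ^ (d + 1) * (-(PowerSeries.X ^ (p - 1)) + 1) ^ (d + 1)) := by
    rw [neg_add_eq_sub, ← mul_pow, ← hsum', mul_pow]
    linear_combination (-(∑ x ∈ Finset.univ.filter (fun x : Fin p => 1 ≤ (x : ℕ)), (PowerSeries.X : PowerSeries ℤ) ^ (x : ℕ)) ^ (d + 1)) * hinv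
  rw [key, add_pow, Finset.mul_sum, Finset.mul_sum, map_sum]
  refine Finset.sum_congr rfl fun i _ => ?_
  rw [show (PowerSeries.mk fun j => ((d + j).choose d : ℤ)) * (PowerSeries.X ^ (d + 1) * ((-(PowerSeries.X ^ (p - 1))) ^ i * 1 ^ (d + 1 - i) * (((d + 1).choose i : ℕ) : PowerSeries ℤ))) =
      PowerSeries.C ((-1 : ℤ) ^ i * ((d + 1).choose i : ℤ)) * (PowerSeries.X ^ (i * (p - 1) + (d + 1)) * (PowerSeries.mk fun j => ((d + j).choose d : ℤ))) by
    rw [map_mul, map_pow, map_neg, map_one, map_natCast]; ring]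
  rw [PowerSeries.coeff_C_mul, PowerSeries.coeff_X_pow_mul', PowerSeries.coeff_mk]
  congr 1
  split_ifs with h
  · congr 1
    rw [show d + 1 - 1 = d by omega, show d + (s - (i * (p - 1) + (d + 1))) = s - i * (p - 1) - 1 by omega]
  · rfl

end Groth.Agent.S14039
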