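import Groth.Statements.S14041
import Groth.Agent.Misc6.GenericDegree
-- import your own Groth.Agent.* helpers here

set_option autoImplicit false
universe u
open CategoryTheory CategoryTheory.Limits AlgebraicGeometry
open W4c1frobunstiva

namespace Groth.Agent.S14041

/-- Let k be a field, X and Y integral schemes of finite type over k of the same (topological Krull)
dimension, and f : X → Y a dominant k-morphism, so that f sends the generic point ξ of X to the
generic point of Y. Then κ(ξ) is a finite extension of the residue field at f(ξ), say of degree d,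
and there is a non-empty open subset U of Y such that for every point y of U the fibre X_y = X ×_Y
Spec κ(y) is finite over κ(y) and its ring of global sections has dimension exactly d over κ(y).
(The published statement speaks of the length of X_y; the κ(y)-dimension of Γ(X_y, O) is the
invariant for which the equality holds on U, including at the generic point.) -/
theorem result (k : Type u) [Field k] {X Y : Scheme.{u}}
    [X.Over (Spec (CommRingCat.of k))] [Y.Over (Spec (CommRingCat.of k))]
    [LocallyOfFiniteType (X ↘ Spec (CommRingCat.of k))] [QuasiCompact (X ↘ Spec (CommRingCat.of k))]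
    [LocallyOfFiniteType (Y ↘ Spec (CommRingCat.of k))] [QuasiCompact (Y ↘ Spec (CommRingCat.of k))]
    [IsIntegral X] [IsIntegral Y] (f : X ⟶ Y) [IsDominant f]
    (hf : f ≫ (Y ↘ Spec (CommRingCat.of k)) = X ↘ Spec (CommRingCat.of k))
    (hdim : topologicalKrullDim ↥X = topologicalKrullDim ↥Y) :
    (letI := (f.residueFieldMap (genericPoint ↥X)).hom.toAlgebra;
      Module.Finite (Y.residueField (f.base (genericPoint ↥X))) (X.residueField (genericPoint ↥X))) ∧
    ∃ U : Y.Opens, Nonempty ↥U ∧ ∀ y : Y, y ∈ U →
      IsFinite (pullback.snd f (Y.fromSpecResidueField y)) ∧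
        (letI := ((Scheme.ΓSpecIso (CommRingCat.of (Y.residueField y))).inv ≫
            (pullback.snd f (Y.fromSpecResidueField y)).appTop).hom.toAlgebra;
          Module.finrank (Y.residueField y) ↑(Γ(pullback f (Y.fromSpecResidueField y), ⊤))) =
        (letI := (f.residueFieldMap (genericPoint ↥X)).hom.toAlgebra;
          Module.finrank (Y.residueField (f.base (genericPoint ↥X))) (X.residueField (genericPoint ↥X))) := by
  let fX := X ↘ Spec (CommRingCat.of k)
  let fY := Y ↘ Spec (CommRingCat.of k)
  haveI : IsLocallyNoetherian Y := LocallyOfFiniteType.isLocallyNoetherian fY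
  haveI : LocallyOfFiniteType f := by
    haveI : LocallyOfFiniteType (f ≫ fY) := hf ▸ inferInstance
    exact locallyOfFiniteType_of_comp f fY
  haveI : QuasiCompact f := by
    haveI : QuasiCompact (f ≫ fY) := hf ▸ inferInstance
    haveI : QuasiSeparated fY := inferInstance
    exact QuasiCompact.of_comp f fY
  let ξ := genericPoint ↥X
  have hξ : f.base ξ = genericPoint ↥Y := by
    have h := (genericPoint_spec ↥X).image f.continuous
    rw [Set.image_univ, (Scheme.Hom.denseRange f).closure_range] at h
    exact h.eq (genericPoint_spec _)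
  have hgen : ∀ x : X, f.base x = genericPoint ↥Y → x = ξ := by
    intro x hx
    obtain ⟨n, hn, hn'⟩ := Groth.Variety2.Dim.exists_trdegAt_eq_height fX x
    obtain ⟨m, hm, hm'⟩ := Groth.Variety2.Dim.exists_trdegAt_eq_height fY (f.base x)
    have hadd := Groth.Variety2.Dim.trdegAt_eq_add fX fY f hf x
    have hmn : m ≤ n := by
      have h : (m : Cardinal) ≤ n := by
        rw [← hn, ← hm, hadd]
        exact le_self_add
      exact_mod_cast h
    have hd : (m : ℕ∞) = Order.height ξ := by
      rw [Groth.Variety2.Dim.dim_eq_height_genericPoint,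
        Groth.Variety2.Dim.dim_eq_height_genericPoint] at hdim
      rw [WithBot.coe_inj.1 hdim, ← hm', hx]
    by_contra hne
    have hle : x ≤ ξ := genericPoint_specializes x
    have hlt := Groth.Variety2.Dim.height_toNat_lt fX (lt_iff_le_not_ge.2 ⟨hle, fun h =>
      hne ((show x ⤳ ξ from h).antisymm (show ξ ⤳ x from hle)).eq⟩)
    rw [hn', ← hd, Nat.cast_lt] at hlt
    omega
  have hcomp : ∀ {Z : Scheme.{u}} [IsIntegral Z] (z : Z),
      closure {z} ∈ irreducibleComponents (Z : Type u) ↔ z = genericPoint ↥Z := by
    intro Z _ z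
    rw [irreducibleComponents_eq_singleton, Set.mem_singleton_iff]
    exact ⟨fun h => (show IsGenericPoint z Set.univ from h).eq (genericPoint_spec _),
      fun h => h ▸ genericPoint_spec _⟩
  obtain ⟨V, hV, hVfin⟩ := Groth.Agent.S2081.result f
    (by rw [irreducibleComponents_eq_singleton]; exact Set.finite_singleton _)
    (by rw [irreducibleComponents_eq_singleton]; exact Set.finite_singleton _)
    (fun x => by
      rw [hcomp, hcomp]
      exact ⟨fun h => h ▸ hξ, hgen x⟩)
  obtain ⟨U₁, hU₁, hflat, -⟩ := Groth.FlatMorOne.exists_dense_flat_finitePresentation f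
  have hmem : ∀ O : Y.Opens, Dense (O : Set Y) → genericPoint ↥Y ∈ O := fun O hO =>
    ((genericPoint_spec ↥Y).mem_open_set_iff O.2).2 (by
      have := hO.nonempty
      simpa using this)
  obtain ⟨U', hU', hηU', hUle'⟩ := TopologicalSpace.Opens.isBasis_iff_nbhd.1 Y.isBasis_affineOpens
    (show genericPoint ↥Y ∈ V ⊓ U₁ from ⟨hmem V hV, hmem U₁ hU₁⟩)
  let U : Y.Opens := U'
  have hU : IsAffineOpen U := hU'
  have hηU : genericPoint ↥Y ∈ U := hηU'
  have hUle : U ≤ V ⊓ U₁ := hUle'
  haveI hUfin : IsFinite (f ∣_ U) :=
    Groth.PropsBasic.GenericFinite.isFinite_restrict_of_le f (hUle.trans inf_le_left) hVfin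
  haveI hUflat : Flat (f ∣_ U) := by
    have hsq : X.homOfLE (f.preimage_mono (hUle.trans inf_le_right)) ≫ f ∣_ U₁ =
        (f ∣_ U) ≫ Y.homOfLE (hUle.trans inf_le_right) := by
      rw [← cancel_mono U₁.ι]; simp
    have hout : IsPullback (X.homOfLE (f.preimage_mono (hUle.trans inf_le_right)) ≫ (f ⁻¹ᵁ U₁).ι)
        (f ∣_ U) f (Y.homOfLE (hUle.trans inf_le_right) ≫ U₁.ι) := by
      simpa using (isPullback_morphismRestrict f U).flip
    exact MorphismProperty.of_isPullback (IsPullback.of_right hout hsq
      (isPullback_morphismRestrict f U₁).flip) hflat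
  haveI : IsLocallyNoetherian (U : Scheme.{u}) := inferInstance
  haveI : LocallyOfFinitePresentation (f ∣_ U) := inferInstance
  obtain ⟨h1, z₀, hz₀⟩ := Groth.Misc6.GenericDegree.finrank_eq_residueFieldMap f hU hξ
    (show f.base ξ ∈ U from hξ ▸ hηU)
  refine ⟨h1, U, ⟨⟨_, hηU⟩⟩, fun y hy => ?_⟩
  let i : Spec (Y.residueField y) ⟶ (U : Scheme.{u}) :=
    IsOpenImmersion.lift U.ι (Y.fromSpecResidueField y) (by
      rw [Scheme.range_fromSpecResidueField, Scheme.Opens.range_ι]
      simpa using hy)
  have hi : i ≫ U.ι = Y.fromSpecResidueField y := IsOpenImmersion.lift_fac _ _ _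
  have hP : IsPullback (pullback.fst (f ∣_ U) i ≫ (f ⁻¹ᵁ U).ι) (pullback.snd (f ∣_ U) i) f
      (Y.fromSpecResidueField y) := by
    rw [← hi]
    exact (IsPullback.of_hasPullback (f ∣_ U) i).paste_horiz (isPullback_morphismRestrict f U).flip
  have hsnd : pullback.snd f (Y.fromSpecResidueField y) =
      hP.isoPullback.inv ≫ pullback.snd (f ∣_ U) i := (hP.isoPullback_inv_snd).symm
  have hfinP : IsFinite (pullback.snd f (Y.fromSpecResidueField y)) := by
    rw [hsnd]
    haveI : IsFinite (pullback.snd (f ∣_ U) i) := MorphismProperty.pullback_snd _ _ hUfin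
    infer_instance
  refine ⟨hfinP, ?_⟩
  let pt : Spec (Y.residueField y) := IsLocalRing.closedPoint (Y.residueField y)
  refine (Groth.Misc6.GenericDegree.finrank_eq_appTop (Y.residueField y)
    (pullback.snd f (Y.fromSpecResidueField y)) pt).symm.trans ?_
  haveI : Flat (pullback.snd (f ∣_ U) i) := MorphismProperty.pullback_snd _ _ hUflat
  haveI : IsFinite (pullback.snd (f ∣_ U) i) := MorphismProperty.pullback_snd _ _ hUfin
  rw [hsnd, Scheme.Hom.finrank_comp_left_of_isIso, Scheme.Hom.finrank_pullback_snd, ← hz₀]
  haveI : PreconnectedSpace ↥(U : Scheme.{u}) :=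
    Subtype.preconnectedSpace ((IsPreirreducible.open_subset
      PreirreducibleSpace.isPreirreducible_univ U.2 (Set.subset_univ _)).isPreconnected)
  exact ((f ∣_ U).isLocallyConstant_finrank).apply_eq_of_preconnectedSpace _ _

end Groth.Agent.S14041
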