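import Groth.Statements.S14042
import Groth.Agent.S14041
import Groth.Agent.AlgSp2.FlatFibreScheme
import Groth.Agent.FlatMor2.Weighting.FibreDegree
import Groth.Agent.Calg1.MiracleFlatness
import Groth.Agent.Calg4.RegularAscent

set_option autoImplicit false
universe u
open CategoryTheory CategoryTheory.Limits AlgebraicGeometry
open W4c1frobunstiva

namespace Groth.Agent.S14042

/-- A finite scheme over a field is discrete. -/
theorem discreteTopology_of_isFinite {K : Type u} [Field K] {Z : Scheme.{u}}
    (g : Z ⟶ Spec (CommRingCat.of K)) [IsFinite g] : DiscreteTopology Z := by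
  haveI : IsLocallyArtinian (Spec (CommRingCat.of K)) :=
    IsLocallyArtinian.iff_isLocallyNoetherian_and_discreteTopology.mpr ⟨inferInstance, inferInstance⟩
  haveI : IsLocallyArtinian Z := .of_locallyQuasiFinite g
  exact (IsLocallyArtinian.iff_isLocallyNoetherian_and_discreteTopology.mp ‹_›).2

/-- A quasi-finite local homomorphism has zero-dimensional closed fibre. -/
theorem ringKrullDim_closedFibre {R S : Type u} [CommRing R] [CommRing S] [IsLocalRing R]
    [IsLocalRing S] [Algebra R S] [IsLocalHom (algebraMap R S)] [Algebra.QuasiFinite R S] :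
    ringKrullDim (S ⧸ (IsLocalRing.maximalIdeal R).map (algebraMap R S)) = 0 := by
  let I := (IsLocalRing.maximalIdeal R).map (algebraMap R S)
  haveI : Nontrivial (S ⧸ I) := Ideal.Quotient.nontrivial_iff.2
    (ne_top_of_le_ne_top (IsLocalRing.maximalIdeal.isMaximal S).ne_top (IsLocalRing.map_maximalIdeal_le _))
  haveI : IsArtinianRing (R ⧸ IsLocalRing.maximalIdeal R) :=
    letI := Ideal.Quotient.field (IsLocalRing.maximalIdeal R); inferInstance
  haveI : Algebra.QuasiFinite (R ⧸ IsLocalRing.maximalIdeal R) (S ⧸ I) :=
    Algebra.QuasiFinite.of_restrictScalars R _ _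
  haveI : Module.Finite (R ⧸ IsLocalRing.maximalIdeal R) (S ⧸ I) := Module.Finite.of_quasiFinite
  haveI : IsArtinianRing (S ⧸ I) :=
    IsArtinianRing.of_finite (R ⧸ IsLocalRing.maximalIdeal R) (S ⧸ I)
  exact ringKrullDimZero_iff_ringKrullDim_eq_zero.1 inferInstance

open Groth.Variety2.Dim in
/-- Between regular varieties of the same dimension, a morphism is flat and quasi-finite at every point
of a finite fibre. -/
theorem flat_and_quasiFiniteAt (k : Type u) [Field k] {X Y : Scheme.{u}}
    (fX : X ⟶ Spec (CommRingCat.of k)) (fY : Y ⟶ Spec (CommRingCat.of k))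
    [LocallyOfFiniteType fX] [LocallyOfFiniteType fY] [IsIntegral X] [IsIntegral Y] (f : X ⟶ Y)
    [LocallyOfFiniteType f] (hf : f ≫ fY = fX)
    (hdim : topologicalKrullDim ↥X = topologicalKrullDim ↥Y)
    (hX : ∀ x : X, IsRegularLocalRing (X.presheaf.stalk x))
    (hY : ∀ y : Y, IsRegularLocalRing (Y.presheaf.stalk y)) (x : X) (y : Y) (hxy : f x = y)
    (hy : IsFinite (pullback.snd f (Y.fromSpecResidueField y))) :
    (f.stalkMap x).hom.Flat ∧ f.QuasiFiniteAt x := by
  subst hxy
  haveI : IsFinite (f.fiberToSpecResidueField (f x)) := hy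
  haveI : DiscreteTopology (f.fiber (f x)) :=
    discreteTopology_of_isFinite (K := Y.residueField (f x)) (f.fiberToSpecResidueField (f x))
  have hq : f.QuasiFiniteAt x :=
    Scheme.Hom.quasiFiniteAt_iff_isOpen_singleton_asFiber.2 (isOpen_discrete _)
  refine ⟨?_, hq⟩
  have hz : Order.height (f.asFiber x) = 0 := by
    rw [Order.height_eq_zero]
    intro w hw
    exact (show f.asFiber x ⤳ w from hw).eq.le
  have hh : Order.height (f x) = Order.height x := by
    have h := height_fiber_add fX fY f hf (f x) (f.asFiber x)
    rwa [hz, zero_add, Scheme.Hom.fiberι_asFiber] at h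
  have hd : ringKrullDim (X.presheaf.stalk x) = ringKrullDim (Y.presheaf.stalk (f x)) := by
    have h1 := ringKrullDim_stalk_add_height fX x
    have h2 := ringKrullDim_stalk_add_height fY (f x)
    obtain ⟨n, hn⟩ := exists_height_eq fX x
    rw [hh, ← hdim, ← h1, hn] at h2
    exact ((ENat.WithBot.add_natCast_cancel).1 h2).symm
  letI := (f.stalkMap x).hom.toAlgebra
  haveI : IsLocalHom (algebraMap (Y.presheaf.stalk (f x)) (X.presheaf.stalk x)) :=
    inferInstanceAs (IsLocalHom (f.stalkMap x).hom)
  haveI : Algebra.QuasiFinite (Y.presheaf.stalk (f x)) (X.presheaf.stalk x) := hq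
  haveI := hX x
  haveI := hY (f x)
  haveI := Groth.Calg4.isCohenMacaulayLocalRing_of_isRegularLocalRing (X.presheaf.stalk x)
  exact Groth.Calg1.flat_of_isRegularLocalRing_of_isCohenMacaulay _ _
    (by rw [ringKrullDim_closedFibre, add_zero, hd])

/-- The degree of a finite fibre is read on an open subscheme containing it. -/
theorem finrank_eq_fibDeg {X Y : Scheme.{u}} (f : X ⟶ Y) (U : X.Opens) (y : Y)
    (hy : IsFinite (pullback.snd f (Y.fromSpecResidueField y))) (hU : ∀ x : X, f x = y → x ∈ U) (pt : Spec (Y.residueField y)) :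
    (pullback.snd f (Y.fromSpecResidueField y)).finrank pt =
      Groth.FlatMor2.fibDeg (U.ι ≫ f) y := by
  let i := Y.fromSpecResidueField y
  let m : pullback (U.ι ≫ f) i ⟶ pullback f i :=
    pullback.map _ _ _ _ U.ι (𝟙 _) (𝟙 _) (by simp) (by simp)
  have hsq : IsPullback m (pullback.fst (U.ι ≫ f) i) (pullback.fst f i) U.ι := by
    refine IsPullback.of_right ?_ (pullback.lift_fst ..) (IsPullback.of_hasPullback f i).flip
    have h2 : m ≫ pullback.snd f i = pullback.snd (U.ι ≫ f) i :=
      (pullback.lift_snd ..).trans (Category.comp_id _)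
    rw [h2]
    exact (IsPullback.of_hasPullback _ i).flip
  haveI : IsOpenImmersion m := MorphismProperty.of_isPullback hsq.flip inferInstance
  haveI : Surjective m := ⟨fun p => by
    have hm : f (pullback.fst f i p) = y := by
      rw [← Scheme.Hom.comp_apply, pullback.condition, Scheme.Hom.comp_apply]
      exact Y.fromSpecResidueField_apply y _
    have hp : pullback.fst f i p ∈ U := hU _ hm
    obtain ⟨q, hq, -⟩ := Scheme.exists_preimage_of_isPullback hsq p ⟨_, hp⟩ rfl
    exact ⟨q, hq⟩⟩
  haveI : Epi m.base := (TopCat.epi_iff_surjective _).2 m.surjective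
  haveI : IsIso m := IsOpenImmersion.isIso m
  have hms : pullback.snd f i = inv m ≫ pullback.snd (U.ι ≫ f) i := by
    rw [IsIso.eq_inv_comp]
    exact (pullback.lift_snd ..).trans (Category.comp_id _)
  haveI : IsFinite (pullback.snd (U.ι ≫ f) i) := by
    rw [← (IsIso.eq_inv_comp m).1 hms]
    haveI : IsFinite (pullback.snd f i) := hy
    exact MorphismProperty.comp_mem @IsFinite _ _ inferInstance ‹_›
  haveI : Flat (pullback.snd (U.ι ≫ f) i) := Misc3Fib.flat_of_field (k := Y.residueField y) _
  rw [hms, Scheme.Hom.finrank_comp_left_of_isIso]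
  exact congrArg (pullback.snd (U.ι ≫ f) i).finrank
    (Subsingleton.elim (α := PrimeSpectrum (Y.residueField y)) _ _)

/-- Let k be a field, X and Y integral schemes of finite type over k of the same dimension whose local
rings are all regular, and f : X → Y a dominant and separated k-morphism; let d be the degree of the
residue field of the generic point of X over that of the generic point of Y, a finite extension.
Then for every point y of Y, either the fibre X_y has positive dimension — it is not finite over
κ(y) — or its ring of global sections has dimension at most d over κ(y). (The published statement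
speaks of length; the κ(y)-rank used here is at least the length, so this form implies the printed
one. The published statement does not mention separatedness: for the affine line with doubled origin
mapping to the affine line — regular, dominant, degree 1 — the fibre over the origin is two reduced
points, of rank 2; the étale-local splitting of a quasi-finite morphism used in the published proof
needs f separated, so f is taken separated here.) -/
theorem result (k : Type u) [Field k] {X Y : Scheme.{u}}
    [X.Over (Spec (CommRingCat.of k))] [Y.Over (Spec (CommRingCat.of k))]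
    [LocallyOfFiniteType (X ↘ Spec (CommRingCat.of k))] [QuasiCompact (X ↘ Spec (CommRingCat.of k))]
    [LocallyOfFiniteType (Y ↘ Spec (CommRingCat.of k))] [QuasiCompact (Y ↘ Spec (CommRingCat.of k))]
    [IsIntegral X] [IsIntegral Y] (f : X ⟶ Y) [IsDominant f]
    (hf : f ≫ (Y ↘ Spec (CommRingCat.of k)) = X ↘ Spec (CommRingCat.of k))
    (hdim : topologicalKrullDim ↥X = topologicalKrullDim ↥Y)
    [IsSeparated f] (hX : ∀ x : X, IsRegularLocalRing (X.presheaf.stalk x))
    (hY : ∀ y : Y, IsRegularLocalRing (Y.presheaf.stalk y)) (y : Y)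
    (hy : IsFinite (pullback.snd f (Y.fromSpecResidueField y))) :
    (letI := ((Scheme.ΓSpecIso (CommRingCat.of (Y.residueField y))).inv ≫
            (pullback.snd f (Y.fromSpecResidueField y)).appTop).hom.toAlgebra;
          Module.finrank (Y.residueField y) ↑(Γ(pullback f (Y.fromSpecResidueField y), ⊤))) ≤
      (letI := (f.residueFieldMap (genericPoint ↥X)).hom.toAlgebra;
          Module.finrank (Y.residueField (f.base (genericPoint ↥X))) (X.residueField (genericPoint ↥X))) := by
  let fX := X ↘ Spec (CommRingCat.of k)
  let fY := Y ↘ Spec (CommRingCat.of k)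
  haveI : IsLocallyNoetherian Y := LocallyOfFiniteType.isLocallyNoetherian fY
  haveI : IsLocallyNoetherian X := LocallyOfFiniteType.isLocallyNoetherian fX
  haveI : LocallyOfFiniteType f := by
    haveI : LocallyOfFiniteType (f ≫ fY) := hf ▸ inferInstance
    exact locallyOfFiniteType_of_comp f fY
  haveI : QuasiCompact f := by
    haveI : QuasiCompact (f ≫ fY) := hf ▸ inferInstance
    haveI : QuasiSeparated fY := inferInstance
    exact QuasiCompact.of_comp f fY
  haveI : Flat (f ≫ fY) := Misc3Fib.flat_of_field (k := k) _
  haveI : LocallyOfFinitePresentation (f ≫ fY) := inferInstance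
  let U : X.Opens := ⟨_, Groth.AlgSp2.FlatFib.isOpen_flatLocus f fY⟩ ⊓ f.quasiFiniteLocus
  let g : (U : Scheme.{u}) ⟶ Y := U.ι ≫ f
  have hmem : ∀ (y : Y), IsFinite (pullback.snd f (Y.fromSpecResidueField y)) →
      ∀ x : X, f x = y → x ∈ U := fun y hy x hx =>
    flat_and_quasiFiniteAt k fX fY f hf hdim hX hY x y hx hy
  haveI : Flat g := by
    refine (Flat.iff_flat_stalkMap _).2 fun x => ?_
    have h : ((U.ι ≫ f).stalkMap x).hom.Flat := by
      rw [Scheme.Hom.stalkMap_comp]
      exact RingHom.Flat.comp x.2.1 (Flat.stalkMap U.ι x)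
    exact h
  haveI : LocallyQuasiFinite g := by
    rw [← Scheme.Hom.quasiFiniteLocus_eq_top_iff]
    ext x
    simp only [TopologicalSpace.Opens.coe_top, Set.mem_univ, iff_true, SetLike.mem_coe,
      Scheme.Hom.mem_quasiFiniteLocus]
    exact Scheme.Hom.quasiFiniteAt_comp_iff_of_isOpenImmersion.2 x.2.2
  have hfin : ∀ z : Y, (g ⁻¹' {z}).Finite := fun z => g.finite_preimage_singleton z
  obtain ⟨-, V, ⟨⟨v, hv⟩⟩, hV⟩ := Groth.Agent.S14041.result k f hf hdim
  have hη : genericPoint ↥Y ∈ V := ((genericPoint_spec ↥Y).mem_open_set_iff V.2).2 ⟨v, trivial, hv⟩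
  obtain ⟨hηfin, hηd⟩ := hV _ hη
  have key : ∀ (z : Y) (hz : IsFinite (pullback.snd f (Y.fromSpecResidueField z))),
      (letI := ((Scheme.ΓSpecIso (CommRingCat.of (Y.residueField z))).inv ≫
            (pullback.snd f (Y.fromSpecResidueField z)).appTop).hom.toAlgebra;
          Module.finrank (Y.residueField z) ↑(Γ(pullback f (Y.fromSpecResidueField z), ⊤))) =
        Groth.FlatMor2.fibDeg g z := fun z hz => by
    rw [← finrank_eq_fibDeg f U z hz (hmem z hz) (IsLocalRing.closedPoint (Y.residueField z))]
    exact (Groth.Misc6.GenericDegree.finrank_eq_appTop (Y.residueField z)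
      (pullback.snd f (Y.fromSpecResidueField z)) _).symm
  rw [key y hy, ← hηd, key _ hηfin]
  have hcl := Groth.FlatMor2.isClosed_fibDeg_le g hfin (Groth.FlatMor2.fibDeg g (genericPoint ↥Y))
  exact (genericPoint_specializes y).mem_closed hcl (show Groth.FlatMor2.fibDeg g _ ≤ _ from le_rfl)

end Groth.Agent.S14042
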