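import Groth.Statements.S14043
import Mathlib
-- import your own Groth.Agent.* helpers here

set_option autoImplicit false
universe u v
open W4c1frobunstiva

namespace Groth.Agent.S14043

/-- Let R be a commutative Noetherian ring, M an R-module that is NR-free of rank r — generated by some
r elements all of whose linear relations have nilpotent coefficients — and m, m' two generating
families of M, each indexed by the same finite set of size r. Then some invertible r × r matrix T
over R expresses m' in terms of m, m'_j = Σ_i T_{ji} m_i; reducing modulo the nilradical n, such a T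
induces the change-of-basis matrix between the bases of M/nM given by the images of m and m' (an
r-element generating family of M is itself an NR-basis), so only the existence of an invertible T is
asserted here. (T is not unique.) -/
theorem result (R : Type u) [CommRing R]
    [IsNoetherianRing R] (M : Type v) [AddCommGroup M] [Module R M] (r : ℕ)
    (hM : W4c1frobunstiva.IsNRFree R M r) (m m' : Fin r → M)
    (hm : Submodule.span R (Set.range m) = ⊤) (hm' : Submodule.span R (Set.range m') = ⊤) :
    ∃ T : Matrix (Fin r) (Fin r) R, IsUnit T ∧ ∀ j, m' j = ∑ i, T j i • m i := by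
  obtain ⟨b, hb, hrel⟩ := hM
  have key : ∀ v : Fin r → M, Submodule.span R (Set.range v) = ⊤ →
      ∃ T S : Matrix (Fin r) (Fin r) R, (∀ j, v j = ∑ i, T j i • b i) ∧ IsUnit T ∧ (∀ j, b j = ∑ i, S j i • v i) := by
    intro v hv
    choose T hT using fun j => Submodule.mem_span_range_iff_exists_fun R |>.1 (hb ▸ Submodule.mem_top (x := v j))
    choose S hS using fun j => Submodule.mem_span_range_iff_exists_fun R |>.1 (hv ▸ Submodule.mem_top (x := b j))
    refine ⟨Matrix.of T, Matrix.of S, fun j => (hT j).symm, ?_, fun j => (hS j).symm⟩
    have hn : ∀ j i, IsNilpotent ((Matrix.of S * Matrix.of T - 1) j i) := by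
      intro j
      apply hrel
      simp only [Matrix.sub_apply, sub_smul, Finset.sum_sub_distrib, Matrix.mul_apply, Finset.sum_smul, mul_smul]
      rw [Finset.sum_comm]
      simp [← Finset.smul_sum, hT, hS, Matrix.one_apply, ite_smul]
    have : IsUnit (Matrix.of S * Matrix.of T).det := by
      have hloc : IsLocalHom (Ideal.Quotient.mk (nilradical R)) := ⟨?_⟩
      refine (isUnit_map_iff (Ideal.Quotient.mk (nilradical R)) _).1 ?_
      rotate_left
      · intro a ha
        obtain ⟨c, hc⟩ := ha
        obtain ⟨d, hd⟩ := Ideal.Quotient.mk_surjective (c⁻¹ : (R ⧸ nilradical R)ˣ).1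
        have : IsNilpotent (a * d - 1) := by
          rw [← mem_nilradical, ← Ideal.Quotient.eq, map_mul, hd, ← hc, map_one, Units.mul_inv]
        have h2 := this.isUnit_one_add
        rw [add_sub_cancel] at h2
        exact isUnit_of_mul_isUnit_left h2
      · rw [RingHom.map_det]
        have : (Ideal.Quotient.mk (nilradical R)).mapMatrix (Matrix.of S * Matrix.of T) = 1 := by
          rw [← (Ideal.Quotient.mk (nilradical R)).mapMatrix.map_one]
          ext j i
          exact Ideal.Quotient.eq.2 (mem_nilradical.2 (hn j i))
        rw [this, Matrix.det_one]; exact isUnit_one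
    rw [Matrix.det_mul] at this
    exact (Matrix.isUnit_iff_isUnit_det _).2 (isUnit_of_mul_isUnit_right this)
  obtain ⟨T, -, hT, hTu, -⟩ := key m hm
  obtain ⟨T', -, hT', hTu', -⟩ := key m' hm'
  have hdet := (Matrix.isUnit_iff_isUnit_det _).1 hTu
  have hb' : ∀ j, b j = ∑ i, T⁻¹ j i • m i := by
    intro j
    simp only [hT, Finset.smul_sum, smul_smul]
    rw [Finset.sum_comm]
    simp only [← Finset.sum_smul, ← Matrix.mul_apply, Matrix.nonsing_inv_mul T hdet, Matrix.one_apply, ite_smul,
      one_smul, zero_smul, Finset.sum_ite_eq, Finset.mem_univ, if_true]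
  refine ⟨T' * T⁻¹, hTu'.mul (Matrix.isUnit_nonsing_inv_iff.2 hTu), fun j => ?_⟩
  rw [hT' j]
  simp only [hb', Finset.smul_sum, smul_smul, Matrix.mul_apply, Finset.sum_smul]
  exact Finset.sum_comm

end Groth.Agent.S14043
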