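import Groth.Statements.S14046
import Mathlib
-- import your own Groth.Agent.* helpers here

set_option autoImplicit false
universe u v w
open W4c1frobunstiva

namespace Groth.Agent.S14046

open TensorProduct in
theorem flatInjAux {R : Type*} [CommRing R] {P F K : Type*} [AddCommGroup P] [Module R P]
    [AddCommGroup F] [Module R F] [Module.Flat R F] [AddCommGroup K] [Module R K] {M N Q : Type*}
    [AddCommGroup M] [Module R M] [AddCommGroup N] [Module R N] [AddCommGroup Q] [Module R Q] [Module.Flat R Q]
    (j : K →ₗ[R] F) (π : F →ₗ[R] P) (hji : Function.Injective j) (hj : Function.Exact j π)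
    (hπ : Function.Surjective π)
    (f : M →ₗ[R] N) (g : N →ₗ[R] Q) (hf : Function.Injective f) (hfg : Function.Exact f g)
    (hg : Function.Surjective g) : Function.Injective (f.lTensor P) := by
  rw [injective_iff_map_eq_zero]
  intro x hx
  obtain ⟨x₁, rfl⟩ := LinearMap.rTensor_surjective M hπ x
  have c1 : ∀ y, π.rTensor N (f.lTensor F y) = f.lTensor P (π.rTensor M y) := fun y => by
    rw [← LinearMap.comp_apply, LinearMap.rTensor_comp_lTensor, ← LinearMap.lTensor_comp_rTensor]; rfl
  have hjN : Function.Exact (LinearMap.rTensor N j) (LinearMap.rTensor N π) := rTensor_exact N (f := j) (g := π) hj hπ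
  obtain ⟨z, hz⟩ := (hjN _).1 ((c1 x₁).trans hx)
  have c2 : ∀ y, j.rTensor Q (g.lTensor _ y) = g.lTensor F (j.rTensor N y) := fun y => by
    rw [← LinearMap.comp_apply, LinearMap.rTensor_comp_lTensor, ← LinearMap.lTensor_comp_rTensor]; rfl
  have hz0 : g.lTensor _ z = 0 := by
    apply Module.Flat.rTensor_preserves_injective_linearMap j hji (M := Q)
    rw [map_zero, c2, hz]
    exact (lTensor_exact F hfg hg).apply_apply_eq_zero x₁
  obtain ⟨w, rfl⟩ := (lTensor_exact _ hfg hg _).1 hz0
  have c3 : j.rTensor N (f.lTensor _ w) = f.lTensor F (j.rTensor M w) := by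
    rw [← LinearMap.comp_apply, LinearMap.rTensor_comp_lTensor, ← LinearMap.lTensor_comp_rTensor]; rfl
  rw [c3] at hz
  rw [← Module.Flat.lTensor_preserves_injective_linearMap f hf (M := F) hz]
  exact (rTensor_exact M hj hπ).apply_apply_eq_zero w

open TensorProduct in
theorem flatInjKer {R : Type*} [CommRing R] {P F : Type*} [AddCommGroup P] [Module R P]
    [AddCommGroup F] [Module R F] [Module.Flat R F] {M N Q : Type*}
    [AddCommGroup M] [Module R M] [AddCommGroup N] [Module R N] [AddCommGroup Q] [Module R Q] [Module.Flat R Q]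
    (π : F →ₗ[R] P) (hπ : Function.Surjective π)
    (f : M →ₗ[R] N) (g : N →ₗ[R] Q) (hf : Function.Injective f) (hfg : Function.Exact f g)
    (hg : Function.Surjective g) : Function.Injective (f.lTensor P) :=
  flatInjAux (LinearMap.ker π).subtype π Subtype.val_injective (LinearMap.exact_subtype_ker_map π) hπ f g hf hfg hg

open TensorProduct in
theorem flatInj {R : Type*} [CommRing R] (P : Type*) [AddCommGroup P] [Module R P] {M N Q : Type*}
    [AddCommGroup M] [Module R M] [AddCommGroup N] [Module R N] [AddCommGroup Q] [Module R Q] [Module.Flat R Q]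
    (f : M →ₗ[R] N) (g : N →ₗ[R] Q) (hf : Function.Injective f) (hfg : Function.Exact f g)
    (hg : Function.Surjective g) : Function.Injective (f.lTensor P) :=
  flatInjKer (Finsupp.linearCombination R id) (Finsupp.linearCombination_id_surjective R P) f g hf hfg hg

open TensorProduct in
/-- Let R → A be a homomorphism of commutative rings and I, J ideals of A with I ∩ J = 0 — so that A is
the fibre product of A/I and A/J over A/(I + J), i.e. Spec A is the union of the two closed
subschemes in the strong sense — and suppose A/(I + J) is flat over R. Then this persists under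
every base change: for every commutative R-algebra R', the ideals generated by I and J in R' ⊗_R A
again meet in 0. (This is the ideal-theoretic, affine form of the base-change step; the exact
sequence of unit sheaves deduced from it in the published statement — restriction of units to a
closed subscheme being surjective locally — is not restated. Without flatness of A/(I + J) the
conclusion fails: for A = k[x, y]/(xy) over R = k[u] with u ↦ x + y, I = (x) and J = (y), the base
change to R/(u) gives k[x]/(x²), in which both ideals become (x).) -/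
theorem result (R : Type u) (A : Type v)
    [CommRing R] [CommRing A] [Algebra R A] (I J : Ideal A) (hIJ : I ⊓ J = ⊥)
    [Module.Flat R (A ⧸ (I ⊔ J))] (R' : Type w) [CommRing R'] [Algebra R R'] :
    I.map (Algebra.TensorProduct.includeRight : A →ₐ[R] R' ⊗[R] A) ⊓
      J.map (Algebra.TensorProduct.includeRight : A →ₐ[R] R' ⊗[R] A) = ⊥ := by
  set π : A →ₗ[R] (A ⧸ (I ⊔ J)) := (Ideal.Quotient.mkₐ R (I ⊔ J)).toLinearMap with hπ
  let ι' : A →ₗ[R] (A ⧸ I) × (A ⧸ J) :=
    (Ideal.Quotient.mkₐ R I).toLinearMap.prod (Ideal.Quotient.mkₐ R J).toLinearMap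
  let d : (A ⧸ I) × (A ⧸ J) →ₗ[R] (A ⧸ (I ⊔ J)) :=
    (Ideal.Quotient.factorₐ R le_sup_left).toLinearMap ∘ₗ LinearMap.fst R _ _ -
      (Ideal.Quotient.factorₐ R le_sup_right).toLinearMap ∘ₗ LinearMap.snd R _ _
  have hinj : Function.Injective ι' := by
    rw [injective_iff_map_eq_zero]
    intro a ha
    have h1 : a ∈ I := Ideal.Quotient.eq_zero_iff_mem.1 (congrArg Prod.fst ha)
    have h2 : a ∈ J := Ideal.Quotient.eq_zero_iff_mem.1 (congrArg Prod.snd ha)
    have h3 : a ∈ I ⊓ J := ⟨h1, h2⟩
    simpa [hIJ] using h3
  have hd : Function.Surjective d := by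
    intro z
    obtain ⟨a, rfl⟩ := Ideal.Quotient.mk_surjective z
    refine ⟨(Ideal.Quotient.mk I a, 0), ?_⟩
    simp [d]
  have hex : Function.Exact ι' d := by
    rintro ⟨p, q⟩
    obtain ⟨a, rfl⟩ := Ideal.Quotient.mk_surjective p
    obtain ⟨b, rfl⟩ := Ideal.Quotient.mk_surjective q
    constructor
    · intro h
      have hab : a - b ∈ I ⊔ J := by
        rw [← Ideal.Quotient.eq]; simpa [d, sub_eq_zero] using h
      obtain ⟨i, hi, j, hj, hij⟩ := Submodule.mem_sup.1 hab
      refine ⟨a - i, ?_⟩
      refine Prod.ext ?_ ?_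
      · exact Ideal.Quotient.eq.2 (by rw [sub_sub_cancel_left]; exact neg_mem hi)
      · exact Ideal.Quotient.eq.2 (by rw [show a - i - b = j by linear_combination -hij]; exact hj)
    · rintro ⟨c, hc⟩
      rw [← hc]
      simp [d, ι']
  have key := flatInj (R := R) R' ι' d hinj hex hd
  rw [Submodule.eq_bot_iff]
  rintro x ⟨hxI, hxJ⟩
  apply key
  rw [map_zero]
  have hz : ∀ (K : Ideal A), x ∈ K.map (Algebra.TensorProduct.includeRight : A →ₐ[R] R' ⊗[R] A) →
      LinearMap.lTensor R' (Ideal.Quotient.mkₐ R K).toLinearMap x = 0 := by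
    intro K hK
    have : x ∈ RingHom.ker (Algebra.TensorProduct.map (AlgHom.id R R') (Ideal.Quotient.mkₐ R K)) := by
      rwa [Algebra.TensorProduct.lTensor_ker _ Ideal.Quotient.mk_surjective, AlgHom.ker_coe, Ideal.Quotient.mkₐ_ker]
    exact this
  apply (TensorProduct.prodRight R R R' (A ⧸ I) (A ⧸ J)).injective
  rw [map_zero]
  have e : (TensorProduct.prodRight R R R' (A ⧸ I) (A ⧸ J)).toLinearMap ∘ₗ LinearMap.lTensor R' ι' =
      (LinearMap.lTensor R' (Ideal.Quotient.mkₐ R I).toLinearMap).prod
        (LinearMap.lTensor R' (Ideal.Quotient.mkₐ R J).toLinearMap) := by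
    ext r a <;> simp [ι']
  refine (LinearMap.congr_fun e x).trans ?_
  simp [hz I hxI, hz J hxJ]

end Groth.Agent.S14046
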