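import Groth.Statements.S14048
import Mathlib

set_option autoImplicit false
universe u
open TensorProduct
open CAlg

namespace Groth.Agent.S14048
def Vp (p : ℕ) (hp : p.Prime) : Subring ℚ where
  carrier := {q | ¬ p ∣ q.den}
  mul_mem' := fun {a b} ha hb h => (hp.dvd_mul.1 (h.trans (Rat.mul_den_dvd a b))).elim ha hb
  one_mem' := by simpa using hp.not_dvd_one
  add_mem' := fun {a b} ha hb h => (hp.dvd_mul.1 (h.trans (Rat.add_den_dvd a b))).elim ha hb
  zero_mem' := by simpa using hp.not_dvd_one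
  neg_mem' := fun {a} ha => by simpa using ha

theorem coeff_mem {A : Type*} [CommRing A] (V : Subring ℚ) (φ : A →+* Polynomial ℚ)
    (G : Finset A) (hG : ∀ g ∈ G, (φ g).coeff 0 = 0 ∧ ∀ n, (φ g).coeff n ∈ V)
    (hdec : ∀ a : A, ∃ r ∈ V, ∃ c : A → A, φ a = Polynomial.C r + ∑ g ∈ G, φ (c g) * φ g) :
    ∀ (n : ℕ) (a : A), (φ a).coeff n ∈ V := by
  intro n
  induction n using Nat.strong_induction_on with
  | _ n ih =>
    intro a
    obtain ⟨r, hr, c, e⟩ := hdec a
    rw [e, Polynomial.coeff_add, Polynomial.finsetSum_coeff]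
    refine add_mem ?_ (sum_mem fun g hg => ?_)
    · rw [Polynomial.coeff_C]; split_ifs
      · exact hr
      · exact zero_mem _
    · rw [Polynomial.coeff_mul]
      refine sum_mem fun x hx => ?_
      rw [Finset.HasAntidiagonal.mem_antidiagonal] at hx
      rcases Nat.eq_zero_or_pos x.2 with h | h
      · rw [h, (hG g hg).1, mul_zero]; exact zero_mem _
      · exact mul_mem (ih _ (by omega) _) ((hG g hg).2 _)


/-- Let A be an integral domain in which 2 is invertible and let t be an element of A, so that Spec A is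
a scheme over the affine line Spec ℤ[1/2][t]. Assume that (1) the ℚ-algebra map ℚ[X] → ℚ ⊗_ℤ A
sending X to 1 ⊗ t is bijective (the map Spec A → Spec ℤ[1/2][t] becomes an isomorphism after base
change to ℚ); (2) every prime number is invertible in A/(t) (the fibre over t = 0 is of pure
characteristic zero); and (3) there is a ring homomorphism s : A → ℤ[1/2] with s(t) = 1 (the fibre
over t = 1 admits a section). Then A is not Noetherian. -/
theorem result (A : Type u) [CommRing A]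
    [IsDomain A] (h2 : IsUnit (2 : A)) (t : A)
    (h1 : Function.Bijective (Polynomial.aeval (R := ℚ) ((1 : ℚ) ⊗ₜ[ℤ] t : ℚ ⊗[ℤ] A)))
    (h0 : ∀ p : ℕ, p.Prime → IsUnit ((p : ℕ) : A ⧸ Ideal.span ({t} : Set A)))
    (s : A →+* Localization.Away (2 : ℤ)) (hs : s t = 1) :
    ¬ IsNoetherianRing A := by
  classical
  intro hN
  let L := Localization.Away (2 : ℤ)
  have u2 : IsUnit (algebraMap ℤ ℚ 2) := (isUnit_iff_ne_zero).2 (by norm_num)
  have u2A : IsUnit (algebraMap ℤ A 2) := by simpa using h2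
  let q : L →+* ℚ := IsLocalization.Away.lift (2 : ℤ) u2
  let j : L →+* A := IsLocalization.Away.lift (2 : ℤ) u2A
  have hsj : ∀ x, s (j x) = x := fun x =>
    RingHom.congr_fun (IsLocalization.ringHom_ext (Submonoid.powers (2 : ℤ))
      (show (s.comp j).comp (algebraMap ℤ L) = (RingHom.id L).comp (algebraMap ℤ L) from RingHom.ext_int _ _)) x
  let e := AlgEquiv.ofBijective (Polynomial.aeval (R := ℚ) ((1 : ℚ) ⊗ₜ[ℤ] t : ℚ ⊗[ℤ] A)) h1
  let φ₀ : A →+* Polynomial ℚ := e.symm.toRingHom.comp (Algebra.TensorProduct.includeRight : A →ₐ[ℤ] ℚ ⊗[ℤ] A).toRingHom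
  let tr : Polynomial ℚ →ₐ[ℚ] Polynomial ℚ := Polynomial.aeval (Polynomial.X + 1)
  let φ : A →+* Polynomial ℚ := tr.toRingHom.comp φ₀
  have hφ₀t : φ₀ t = Polynomial.X := by
    show e.symm ((1 : ℚ) ⊗ₜ[ℤ] t) = Polynomial.X
    rw [AlgEquiv.symm_apply_eq]
    exact (Polynomial.aeval_X _).symm
  have hφt : φ t = Polynomial.X + 1 := by
    show tr (φ₀ t) = _
    rw [hφ₀t]; exact Polynomial.aeval_X _
  let s' : A →ₐ[ℤ] ℚ := (q.comp s).toIntAlgHom
  let lam : ℚ ⊗[ℤ] A →ₐ[ℚ] ℚ := Algebra.TensorProduct.lift (AlgHom.id ℚ ℚ) s' (fun _ _ => Commute.all _ _)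
  have hlam : lam.comp e.toAlgHom = Polynomial.aeval (1 : ℚ) := by
    refine Polynomial.algHom_ext ?_
    show lam (Polynomial.aeval ((1 : ℚ) ⊗ₜ[ℤ] t : ℚ ⊗[ℤ] A) Polynomial.X) = Polynomial.aeval (1 : ℚ) Polynomial.X
    rw [Polynomial.aeval_X, Polynomial.aeval_X]
    simp [lam, s', hs]
  have hc0 : ∀ a, (φ a).coeff 0 = q (s a) := by
    intro a
    rw [Polynomial.coeff_zero_eq_eval_zero]
    have h : Polynomial.eval 0 (φ a) = Polynomial.aeval (1 : ℚ) (φ₀ a) := by
      have : ((Polynomial.aeval (0 : ℚ)).comp tr) = Polynomial.aeval (1 : ℚ) := Polynomial.algHom_ext (by simp [tr])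
      rw [← this]
      rfl
    rw [h, ← hlam]
    show lam (e (e.symm ((1 : ℚ) ⊗ₜ[ℤ] a))) = _
    rw [AlgEquiv.apply_symm_apply]
    simp [lam, s']
  have hφj : ∀ x, φ (j x) = Polynomial.C (q x) := fun x =>
    RingHom.congr_fun (IsLocalization.ringHom_ext (Submonoid.powers (2 : ℤ))
      (show (φ.comp j).comp (algebraMap ℤ L) = (Polynomial.C.comp q).comp (algebraMap ℤ L) from RingHom.ext_int _ _)) x
  obtain ⟨G, hG⟩ := (hN.noetherian (RingHom.ker s))
  -- a prime not dividing the denominators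
  let D : ℕ := 2 * ∏ g ∈ G, ∏ n ∈ (φ g).support, ((φ g).coeff n).den
  have hD : D ≠ 0 := by
    simp only [D, mul_ne_zero_iff, Finset.prod_ne_zero_iff]
    exact ⟨by norm_num, fun g _ n _ => Rat.den_nz _⟩
  obtain ⟨p, hpD, hp⟩ := Nat.exists_infinite_primes (D + 1)
  have hpD' : ¬ p ∣ D := fun h => by
    have := Nat.le_of_dvd (Nat.pos_of_ne_zero hD) h
    omega
  let V := Vp p hp
  have hqV : ∀ x, q x ∈ V := by
    intro x
    obtain ⟨⟨m, y⟩, hy⟩ := IsLocalization.surj (Submonoid.powers (2 : ℤ)) x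
    obtain ⟨n, hn⟩ := y.2
    have h := congrArg q hy
    simp only [map_mul, ← hn, map_pow, q, IsLocalization.Away.lift_eq] at h
    have hp2 : ¬ p ∣ 2 := fun h => hpD' (h.trans (Dvd.intro _ rfl))
    have hhalf : ((2 : ℚ)⁻¹) ∈ V := by
      show ¬ p ∣ ((2 : ℚ)⁻¹).den
      norm_num
      exact hp2
    have hx : q x = (m : ℚ) * ((2 : ℚ)⁻¹) ^ n := by
      simp only [algebraMap_int_eq, eq_intCast, Int.cast_ofNat, Int.cast_pow] at h
      rw [inv_pow, ← h]
      show _ = q x * (2 : ℚ) ^ n * ((2 : ℚ) ^ n)⁻¹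
      rw [mul_inv_cancel_right₀ (pow_ne_zero _ two_ne_zero)]
    rw [hx]
    exact mul_mem (intCast_mem _ _) (pow_mem hhalf _)
  have key := coeff_mem V φ G (fun g hg => ?_) (fun a => ?_)
  rotate_left
  · refine ⟨?_, fun n => ?_⟩
    · have : g ∈ RingHom.ker s := hG ▸ Submodule.subset_span hg
      rw [hc0, RingHom.mem_ker.1 this, map_zero]
    · by_cases hn : n ∈ (φ g).support
      · show ¬ p ∣ _
        intro h
        refine hpD' (h.trans ?_)
        exact dvd_mul_of_dvd_right ((Finset.dvd_prod_of_mem _ hn).trans (Finset.dvd_prod_of_mem (fun g => ∏ n ∈ (φ g).support, ((φ g).coeff n).den) hg)) _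
      · rw [Polynomial.notMem_support_iff.1 hn]; exact zero_mem _
  · have h : a - j (s a) ∈ RingHom.ker s := by simp [hsj]
    rw [← hG, Submodule.mem_span_finset] at h
    obtain ⟨c, -, hc⟩ := h
    refine ⟨q (s a), hqV _, c, ?_⟩
    have : φ (∑ g ∈ G, c g • g) = φ a - φ (j (s a)) := by rw [hc, map_sub]
    rw [map_sum, hφj] at this
    simp only [smul_eq_mul, map_mul] at this
    rw [this]; ring
  -- contradiction
  obtain ⟨b, hb⟩ := (h0 p hp).exists_right_inv
  obtain ⟨a, rfl⟩ := Ideal.Quotient.mk_surjective b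
  rw [← map_natCast (Ideal.Quotient.mk _), ← map_mul, ← map_one (Ideal.Quotient.mk _), Ideal.Quotient.eq, Ideal.mem_span_singleton'] at hb
  obtain ⟨c, hc⟩ := hb
  have h := congrArg (fun y => (φ y).eval (-1 : ℚ)) hc
  simp only [map_mul, map_sub, map_one, map_natCast, hφt, Polynomial.eval_mul, Polynomial.eval_sub, Polynomial.eval_add,
    Polynomial.eval_X, Polynomial.eval_one, Polynomial.eval_natCast, neg_add_cancel, mul_zero] at h
  have hv : (φ a).eval (-1 : ℚ) ∈ V := by
    rw [Polynomial.eval_eq_sum, Polynomial.sum]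
    exact sum_mem fun n _ => mul_mem (key n a) (pow_mem (neg_mem (one_mem _)) _)
  have hval : (φ a).eval (-1 : ℚ) = (p : ℚ)⁻¹ := eq_inv_of_mul_eq_one_right (sub_eq_zero.1 h.symm)
  rw [hval] at hv
  refine hv ?_
  rw [Rat.inv_natCast_den_of_pos hp.pos]

end Groth.Agent.S14048
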