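import Groth.Statements.S14049
import Groth.Agent.Ega4Algebra2.RegularImmersion
import Mathlib

set_option autoImplicit false
universe u
open CategoryTheory AlgebraicGeometry
open LocStr

namespace Groth.Agent.S14049

/-- a subring is everything if it is so modulo the square of a nilpotent ideal -/
theorem surjective_of_sq {B A : Type*} [CommRing B] [CommRing A] (φ : B →+* A) (J : Ideal A) (hJ : IsNilpotent J)
    (h : ∀ a, ∃ b, a - φ b ∈ J ^ 2) : Function.Surjective φ := by
  have hlift : ∀ x ∈ J, ∃ b, φ b ∈ J ∧ x - φ b ∈ J ^ 2 := fun x hx => by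
    obtain ⟨b, hb⟩ := h x
    refine ⟨b, ?_, hb⟩
    have h2 : x - φ b ∈ J := Ideal.pow_le_self two_ne_zero hb
    have := J.sub_mem hx h2
    rwa [sub_sub_cancel] at this
  have hpow : ∀ j, ∀ x ∈ J ^ j, ∃ b, φ b ∈ J ^ j ∧ x - φ b ∈ J ^ (j + 1) := by
    intro j
    induction j with
    | zero =>
      intro x _
      obtain ⟨b, hb⟩ := h x
      exact ⟨b, by simp, by simpa using Ideal.pow_le_self two_ne_zero hb⟩
    | succ j ih =>
      intro x hx
      rw [pow_succ] at hx
      induction hx using Submodule.mul_induction_on' with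
      | mem_mul_mem u hu v hv =>
        obtain ⟨b, hb, hub⟩ := ih u hu
        obtain ⟨c, hc, hvc⟩ := hlift v hv
        refine ⟨b * c, ?_, ?_⟩
        · rw [map_mul, pow_succ]; exact Ideal.mul_mem_mul hb hc
        · rw [map_mul, show u * v - φ b * φ c = (u - φ b) * v + φ b * (v - φ c) by ring]
          refine add_mem ?_ ?_
          · rw [pow_succ]; exact Ideal.mul_mem_mul hub hv
          · rw [show j + 1 + 1 = j + 2 by ring, pow_add]; exact Ideal.mul_mem_mul hb hvc
      | add u _ v _ hu hv =>
        obtain ⟨b, hb, hub⟩ := hu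
        obtain ⟨c, hc, hvc⟩ := hv
        exact ⟨b + c, by rw [map_add]; exact add_mem hb hc, by
          rw [map_add, add_sub_add_comm]; exact add_mem hub hvc⟩
  intro a
  have key : ∀ j, ∃ b, a - φ b ∈ J ^ j := by
    intro j
    induction j with
    | zero => exact ⟨0, by simp⟩
    | succ j ih =>
      obtain ⟨b, hb⟩ := ih
      obtain ⟨c, -, hc⟩ := hpow j _ hb
      exact ⟨b + c, by rwa [map_add, ← sub_sub]⟩
  obtain ⟨m, hm⟩ := hJ
  obtain ⟨b, hb⟩ := key m
  rw [hm, Ideal.zero_eq_bot, Ideal.mem_bot, sub_eq_zero] at hb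
  exact ⟨b, hb.symm⟩


/-- For schemes. Let f : X → Y be a morphism of schemes and let I be a quasi-coherent sheaf of ideals on
X which is nilpotent (some power of I is zero). Let X₁ ⊆ X be the closed subscheme defined by I².
Then f is a closed immersion as soon as the composite X₁ → X → Y is one. (The published statement is
the same assertion for a morphism of algebraic stacks; it is stated here for schemes.) -/
theorem result (X Y : Scheme.{u}) (f : X ⟶ Y)
    (I : X.IdealSheafData) (hI : IsNilpotent I)
    (h : IsClosedImmersion ((I ^ 2).subschemeι ≫ f)) :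
    IsClosedImmersion f := by
  obtain ⟨m, hm⟩ := hI
  have hnilU : ∀ U : X.affineOpens, I.ideal U ^ m = ⊥ := fun U => by
    have := congrFun (congrArg Scheme.IdealSheafData.ideal hm) U
    simpa using this
  have hrange : ∀ x : X, ∃ z, (I ^ 2).subschemeι z = x := fun x => by
    have hx : x ∈ (I ^ 2).support := by
      rw [Scheme.IdealSheafData.support_pow _ 2 two_ne_zero]
      obtain ⟨U, hU, hxU, -⟩ := AlgebraicGeometry.exists_isAffineOpen_mem_and_subset (x := x) (U := ⊤) trivial
      rw [Scheme.IdealSheafData.mem_support_iff_of_mem (U := ⟨U, hU⟩) hxU, Scheme.mem_zeroLocus_iff]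
      intro a ha hmem
      have ha0 : a ^ m = 0 := Ideal.mem_bot.1 (hnilU ⟨U, hU⟩ ▸ Ideal.pow_mem_pow ha m)
      have h1 := (X.mem_basicOpen a x hxU).1 hmem
      have h2 := h1.pow m
      rw [← map_pow, ha0, map_zero] at h2
      exact not_isUnit_zero h2
    have hx' : x ∈ Set.range (I ^ 2).subschemeι := by
      rw [Scheme.IdealSheafData.range_subschemeι]; exact hx
    exact hx'
  rw [IsClosedImmersion.iff_isPreimmersion, isPreimmersion_iff]
  have hg := IsClosedImmersion.iff_isPreimmersion.1 h
  have hgs := hg.1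
  have hsurj : Function.Surjective (I ^ 2).subschemeι := hrange
  refine ⟨⟨⟨fun x => ?_⟩, ?_⟩, ?_⟩
  · obtain ⟨z, rfl⟩ := hrange x
    obtain ⟨U, hU, hxU, -⟩ :=
      AlgebraicGeometry.exists_isAffineOpen_mem_and_subset (x := (I ^ 2).subschemeι z) (U := ⊤) trivial
    let J : Ideal (X.presheaf.stalk ((I ^ 2).subschemeι z)) :=
      (I.ideal ⟨U, hU⟩).map (X.presheaf.germ U _ hxU).hom
    refine surjective_of_sq _ J ⟨m, ?_⟩ fun a => ?_
    · rw [← Ideal.map_pow, hnilU, Ideal.map_bot]; rfl
    · obtain ⟨b, hb⟩ := ((I ^ 2).subschemeι ≫ f).stalkMap_surjective z ((I ^ 2).subschemeι.stalkMap z a)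
      refine ⟨b, ?_⟩
      have hker : a - (f.stalkMap ((I ^ 2).subschemeι z)).hom b ∈
          RingHom.ker ((I ^ 2).subschemeι.stalkMap z).hom := by
        rw [RingHom.mem_ker, map_sub, sub_eq_zero]
        rw [Scheme.Hom.stalkMap_comp] at hb
        exact hb.symm
      rw [Groth.Ega4b.ker_stalkMap_eq_map (I ^ 2).subschemeι hU z hxU, Scheme.IdealSheafData.ker_subschemeι,
        Scheme.IdealSheafData.ideal_pow, Pi.pow_apply, Ideal.map_pow] at hker
      exact hker
  · have he : Topology.IsEmbedding ((I ^ 2).subschemeι ≫ f) := ((I ^ 2).subschemeι ≫ f).isEmbedding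
    let e := ((I ^ 2).subschemeι.isEmbedding.toHomeomorphOfSurjective hsurj)
    have : (f : X → Y) = ((I ^ 2).subschemeι ≫ f) ∘ e.symm := funext fun x => by
      show f x = f ((I ^ 2).subschemeι (e.symm x))
      exact congrArg f (e.apply_symm_apply x).symm
    rw [this]
    exact he.comp e.symm.isEmbedding
  · have : Set.range f = Set.range ((I ^ 2).subschemeι ≫ f) := by
      show _ = Set.range (f ∘ (I ^ 2).subschemeι)
      rw [Set.range_comp, hsurj.range_eq, Set.image_univ]
    rw [this]
    exact hg.2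

end Groth.Agent.S14049
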