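import Groth.Statements.S14051
import Mathlib.RingTheory.GradedAlgebra.Basic
import Mathlib.Algebra.Algebra.Operations
-- import your own Groth.Agent.* helpers here

set_option autoImplicit false
universe u
open CAlg

namespace Groth.Agent.S14051

/-- Let A be a commutative ℕ-graded algebra over a base ring R which is generated by A_1 as an
A_0-algebra, written as A_{n+1} = A_1 · A_n for every n, and let M be a graded A-module: an A-module
with R-submodules M_n giving a direct-sum decomposition and A_i · M_j ⊆ M_{i+j}. If M is spanned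
over A by a set of homogeneous elements all of degree at most n₀, then for every n ≥ n₀ and every k
≥ 0 the degree-(n+k) part of M is A_k · M_n. -/
theorem result
    (R : Type u) [CommRing R] (A : Type u) [CommRing A] [Algebra R A]
    (𝒜 : ℕ → Submodule R A) [GradedAlgebra 𝒜]
    (hA : ∀ n : ℕ, 𝒜 (n + 1) = 𝒜 1 * 𝒜 n)
    (M : Type u) [AddCommGroup M] [Module R M] [Module A M] [IsScalarTower R A M]
    (ℳ : ℕ → Submodule R M) [DirectSum.Decomposition ℳ] [SetLike.GradedSMul 𝒜 ℳ]
    (s : Set M) (n₀ : ℕ) (hs : ∀ y ∈ s, ∃ d : ℕ, d ≤ n₀ ∧ y ∈ ℳ d)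
    (hspan : Submodule.span A s = ⊤)
    (n k : ℕ) (hn : n₀ ≤ n) :
    ℳ (n + k) = 𝒜 k • ℳ n := by
  classical
  have hle : ∀ i j, 𝒜 i • ℳ j ≤ ℳ (i + j) := fun i j =>
    Submodule.smul_le.mpr fun a ha y hy => SetLike.GradedSMul.smul_mem (A := 𝒜) (B := ℳ) ha hy
  have key : ∀ N, n₀ ≤ N → ℳ (N + 1) ≤ 𝒜 1 • ℳ N := by
    intro N hN x hx
    suffices H : ∀ z ∈ Submodule.span A s, ∀ a : A,
        ((DirectSum.decompose ℳ (a • z) (N + 1) : ℳ (N + 1)) : M) ∈ 𝒜 1 • ℳ N by
      have h1 := H x (by rw [hspan]; trivial) 1
      rwa [one_smul, DirectSum.decompose_of_mem_same ℳ hx] at h1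
    intro z hz
    induction hz using Submodule.span_induction with
    | mem y hy =>
      obtain ⟨d, hd, hyd⟩ := hs y hy
      intro a
      induction a using DirectSum.Decomposition.inductionOn 𝒜 with
      | zero => simp
      | @homogeneous i a =>
        have hm : (a : A) • y ∈ ℳ (i + d) := hle i d (Submodule.smul_mem_smul a.2 hyd)
        by_cases h : i + d = N + 1
        · rw [DirectSum.decompose_of_mem_same ℳ (h ▸ hm)]
          obtain ⟨j, rfl⟩ : ∃ j, i = j + 1 := ⟨i - 1, by omega⟩
          have hj : j + d = N := by omega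
          have h2 : (a : A) ∈ 𝒜 1 * 𝒜 j := hA j ▸ a.2
          refine Submodule.mul_induction_on h2 (fun b hb c hc => ?_) (fun u v hu hv => ?_)
          · rw [mul_smul]
            exact Submodule.smul_mem_smul hb (hj ▸ hle j d (Submodule.smul_mem_smul hc hyd))
          · rw [add_smul]; exact add_mem hu hv
        · rw [DirectSum.decompose_of_mem_ne ℳ hm h]
          exact zero_mem _
      | add a b ha hb =>
        rw [add_smul, DirectSum.decompose_add, DirectSum.add_apply, Submodule.coe_add]
        exact add_mem ha hb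
    | zero => intro a; simp
    | add u v _ _ hu hv =>
      intro a
      rw [smul_add, DirectSum.decompose_add, DirectSum.add_apply, Submodule.coe_add]
      exact add_mem (hu a) (hv a)
    | smul b u _ hu =>
      intro a
      rw [smul_smul]
      exact hu _
  induction k with
  | zero =>
    refine le_antisymm ?_ ((hle 0 n).trans (by simp))
    intro x hx
    have h1 : (1 : A) ∈ 𝒜 0 := SetLike.GradedOne.one_mem
    have h2 := Submodule.smul_mem_smul h1 hx
    simpa using h2
  | succ k ih =>
    refine le_antisymm ?_ ((hle (k + 1) n).trans (by rw [add_comm]))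
    rw [← add_assoc]
    refine (key (n + k) (by omega)).trans ?_
    rw [ih, hA k, ← Submodule.smul_assoc, smul_eq_mul]

end Groth.Agent.S14051
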