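import Groth.Statements.S14053
import Mathlib

set_option autoImplicit false
universe u
open CAlg

namespace Groth.Agent.S14053
open scoped Pointwise

theorem exists_le_sum {ι : Type*} [Fintype ι] (b : ι → ℕ) : ∀ t : ℕ, t ≤ ∑ i, b i → ∃ β : ι → ℕ, (∀ i, β i ≤ b i) ∧ ∑ i, β i = t := by
  classical
  intro t
  induction t with
  | zero => exact fun _ => ⟨0, fun _ => Nat.zero_le _, by simp⟩
  | succ t ih =>
    intro ht
    obtain ⟨β, h1, h2⟩ := ih (Nat.le_of_succ_le ht)
    obtain ⟨j, hj⟩ : ∃ j, β j < b j := by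
      by_contra h
      push Not at h
      have := Finset.sum_le_sum (fun i (_ : i ∈ Finset.univ) => h i)
      omega
    refine ⟨Function.update β j (β j + 1), fun i => ?_, ?_⟩
    · rw [Function.update_apply]; split_ifs with h
      · subst h; omega
      · exact h1 i
    · rw [Finset.sum_update_of_mem (Finset.mem_univ j)]
      have := Finset.add_sum_erase Finset.univ β (Finset.mem_univ j)
      rw [Finset.sdiff_singleton_eq_erase]
      omega

theorem split_weight {ι : Type*} [Fintype ι] (w : ι → ℕ) (hw : ∀ i, w i = 1 ∨ w i = 2 ∨ w i = 3)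
    (e M : ℕ) (he : ∑ i, (6 - w i) ≤ e) (s : ι → ℕ) (hs : ∑ i, s i * w i = (M + 1) * (6 * e)) :
    ∃ s' : ι → ℕ, (∀ i, s' i ≤ s i) ∧ ∑ i, s' i * w i = 6 * e ∧ ∑ i, (s i - s' i) * w i = M * (6 * e) := by
  let k : ι → ℕ := fun i => 6 / w i
  have hk : ∀ i, k i * w i = 6 := fun i => by rcases hw i with h | h | h <;> simp [k, h]
  let b : ι → ℕ := fun i => s i / k i
  let r : ι → ℕ := fun i => s i % k i
  have hbr : ∀ i, s i * w i = 6 * b i + r i * w i := fun i => by
    conv_lhs => rw [← Nat.div_add_mod (s i) (k i)]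
    rw [add_mul, mul_comm (k i), mul_assoc, hk, mul_comm]
  have hr : ∀ i, r i * w i ≤ 6 - w i := fun i => by
    have h1 : r i < k i := Nat.mod_lt _ (by rcases hw i with h | h | h <;> simp [k, h])
    have h2 : (r i + 1) * w i ≤ 6 := (hk i) ▸ Nat.mul_le_mul_right _ h1
    rw [add_mul, one_mul] at h2
    omega
  have hL : ∑ i, r i * w i ≤ e := (Finset.sum_le_sum fun i _ => hr i).trans he
  have hW : 6 * ∑ i, b i + ∑ i, r i * w i = (M + 1) * (6 * e) := by
    rw [← hs, Finset.mul_sum, ← Finset.sum_add_distrib]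
    exact Finset.sum_congr rfl fun i _ => (hbr i).symm
  have hME : (M + 1) * (6 * e) = 6 * (M * e + e) := by ring
  obtain ⟨β, hβ, hβs⟩ := exists_le_sum b (e - (∑ i, r i * w i) / 6) (by omega)
  refine ⟨fun i => k i * β i + r i, fun i => ?_, ?_, ?_⟩
  · calc k i * β i + r i ≤ k i * b i + r i := Nat.add_le_add_right (Nat.mul_le_mul_left _ (hβ i)) _
      _ = s i := Nat.div_add_mod _ _
  · have : ∀ i, (k i * β i + r i) * w i = 6 * β i + r i * w i := fun i => by
      rw [add_mul, mul_right_comm, hk]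
    simp only [this, Finset.sum_add_distrib, ← Finset.mul_sum, hβs]
    omega
  · have : ∀ i, (s i - (k i * β i + r i)) * w i = 6 * b i - 6 * β i := fun i => by
      rw [Nat.sub_mul, hbr, add_mul, mul_right_comm, hk]
      omega
    simp only [this]
    rw [Finset.sum_tsub_distrib _ (fun i _ => Nat.mul_le_mul_left _ (hβ i)), ← Finset.mul_sum, ← Finset.mul_sum, hβs]
    rw [show M * (6 * e) = 6 * (M * e) by ring]
    omega


/-- Let k be a field and R a commutative ℕ-graded k-algebra with R_0 = k · 1 which is generated as a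
k-algebra by R_1, R_2 and R_3, each a finite-dimensional k-vector space, of dimensions d_1, d_2,
d_3. Then for every natural number e ≥ 5 d_1 + 4 d_2 + 3 d_3 the (6e)-th Veronese subring of R is
generated in degree one over k: R_{6em} = (R_{6e})^m for every m > 0. -/
theorem result
    (k : Type u) [Field k] (R : Type u) [CommRing R] [Algebra k R]
    (ℛ : ℕ → Submodule k R) [GradedAlgebra ℛ]
    (h0 : ℛ 0 = 1)
    (hgen : Algebra.adjoin k ((ℛ 1 : Set R) ∪ (ℛ 2 : Set R) ∪ (ℛ 3 : Set R)) = ⊤)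
    [Module.Finite k (ℛ 1)] [Module.Finite k (ℛ 2)] [Module.Finite k (ℛ 3)]
    (e : ℕ) (he : 5 * Module.finrank k (ℛ 1) + 4 * Module.finrank k (ℛ 2) + 3 * Module.finrank k (ℛ 3) ≤ e)
    (m : ℕ) (hm : 0 < m) :
    ℛ (m * (6 * e)) = ℛ (6 * e) ^ m := by
  classical
  set ι := Fin (Module.finrank k (ℛ 1)) ⊕ Fin (Module.finrank k (ℛ 2)) ⊕ Fin (Module.finrank k (ℛ 3)) with hι
  let g : ι → R := fun
    | .inl i => (Module.finBasis k (ℛ 1) i : R)
    | .inr (.inl i) => (Module.finBasis k (ℛ 2) i : R)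
    | .inr (.inr i) => (Module.finBasis k (ℛ 3) i : R)
  let w : ι → ℕ := fun
    | .inl _ => 1
    | .inr (.inl _) => 2
    | .inr (.inr _) => 3
  have hg : ∀ i, g i ∈ ℛ (w i) := by rintro (i | i | i) <;> exact Subtype.coe_prop _
  have hw : ∀ i, w i = 1 ∨ w i = 2 ∨ w i = 3 := by rintro (i | i | i) <;> simp [w]
  have hadj : Algebra.adjoin k (Set.range g) = ⊤ := by
    refine top_unique (hgen ▸ Algebra.adjoin_le ?_)
    intro x hx
    have hsum : ∀ {n : ℕ} (hy : x ∈ ℛ n) [Module.Finite k (ℛ n)] (φ : Fin (Module.finrank k (ℛ n)) → ι),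
        (∀ i, g (φ i) = (Module.finBasis k (ℛ n) i : R)) → x ∈ Algebra.adjoin k (Set.range g) := by
      intro n hy _ φ hφ
      rw [← show ((⟨x, hy⟩ : ℛ n) : R) = x from rfl, ← (Module.finBasis k (ℛ n)).sum_repr ⟨x, hy⟩, AddSubmonoidClass.coe_finsetSum]
      exact sum_mem fun i _ => Subalgebra.smul_mem _ (Algebra.subset_adjoin (Set.mem_range.2 ⟨φ i, hφ i⟩)) _
    rcases hx with (hx | hx) | hx
    · exact hsum hx (fun i => .inl i) (fun _ => rfl)
    · exact hsum hx (fun i => .inr (.inl i)) (fun _ => rfl)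
    · exact hsum hx (fun i => .inr (.inr i)) (fun _ => rfl)
  have hmono : ∀ s : ι → ℕ, (∏ i, g i ^ s i) ∈ ℛ (∑ i, s i * w i) := fun s =>
    SetLike.prod_mem_graded _ _ _ fun i _ => by
      simpa using SetLike.pow_mem_graded (s i) (hg i)
  -- the pieces are spanned by monomials
  have hspan : ∀ N, ℛ N ≤ Submodule.span k {x | ∃ s : ι → ℕ, ∑ i, s i * w i = N ∧ ∏ i, g i ^ s i = x} := by
    intro N x hx
    obtain ⟨P, rfl⟩ : ∃ P : MvPolynomial ι k, MvPolynomial.aeval g P = x := by
      have h : x ∈ Algebra.adjoin k (Set.range g) := hadj ▸ Algebra.mem_top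
      rwa [Algebra.adjoin_range_eq_range_aeval] at h
    rw [← DirectSum.decompose_of_mem_same ℛ hx]
    conv =>
      arg 2
      rw [P.as_sum, map_sum]
    rw [DirectSum.decompose_sum, DFinsupp.finsetSum_apply, AddSubmonoidClass.coe_finsetSum]
    refine sum_mem fun s _ => ?_
    have hval : MvPolynomial.aeval g (MvPolynomial.monomial s (P.coeff s)) = P.coeff s • ∏ i, g i ^ s i := by
      rw [MvPolynomial.aeval_monomial, Algebra.smul_def, Finsupp.prod_fintype _ _ (fun _ => pow_zero _)]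
    rw [hval]
    have hmem := Submodule.smul_mem _ (P.coeff s) (hmono s)
    by_cases hN : ∑ i, s i * w i = N
    · subst hN
      rw [DirectSum.decompose_of_mem_same ℛ hmem]
      exact Submodule.smul_mem _ _ (Submodule.subset_span ⟨s, rfl, rfl⟩)
    · rw [DirectSum.decompose_of_mem_ne ℛ hmem hN]
      exact zero_mem _
  have hewt : ∑ i, (6 - w i) ≤ e := by
    rw [Fintype.sum_sum_type, Fintype.sum_sum_type]
    simp [w]
    omega
  have hstep : ∀ M : ℕ, ℛ ((M + 1) * (6 * e)) = ℛ (6 * e) * ℛ (M * (6 * e)) := by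
    intro M
    refine le_antisymm ((hspan _).trans (Submodule.span_le.2 ?_)) ?_
    · rintro _ ⟨s, hs, rfl⟩
      obtain ⟨s', h1, h2, h3⟩ := split_weight w hw e M hewt s hs
      have : ∏ i, g i ^ s i = (∏ i, g i ^ s' i) * ∏ i, g i ^ (s i - s' i) := by
        rw [← Finset.prod_mul_distrib]
        exact Finset.prod_congr rfl fun i _ => by rw [← pow_add, Nat.add_sub_cancel' (h1 i)]
      rw [this]
      exact Submodule.mul_mem_mul (h2 ▸ hmono s') (h3 ▸ hmono _)
    · rw [Submodule.mul_le]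
      intro a ha b hb
      rw [show (M + 1) * (6 * e) = 6 * e + M * (6 * e) by ring]
      exact SetLike.mul_mem_graded ha hb
  clear hm
  induction m with
  | zero => rw [zero_mul, pow_zero, h0]
  | succ M ih => rw [hstep, ih, pow_succ']

end Groth.Agent.S14053
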