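import Groth.Statements.S14054
import Groth.Agent.Limits.GGKoszul
import Groth.Agent.VarietyBC.NegTwist
import Groth.Agent.EulerDeg.Coherent

set_option autoImplicit false
universe u
open CategoryTheory CategoryTheory.Limits AlgebraicGeometry TopologicalSpace
open Variety

namespace Groth.Agent.S14054

/-- Let X be a proper scheme over a field k, L a globally generated invertible O_X-module with tensor
inverse M, r = dim_k H⁰(X, L), and b ≥ 1 an integer such that H^q(X, L^{⊗(b−q)}) = 0 whenever 1 ≤ q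
≤ r − 1, where for q > b the module L^{⊗(b−q)} is the tensor power M^{⊗(q−b)}. Then the
multiplication map H⁰(X, L^{⊗b}) ⊗ H⁰(X, L) → H⁰(X, L^{⊗(b+1)}) is surjective. The map is written as
the canonical map from the global sections of the sectionwise tensor product presheaf of L^{⊗b} and
L (these are H⁰(L^{⊗b}) ⊗ H⁰(L), tensor over the global functions) to the global sections of its
sheafification L^{⊗b} ⊗ L = L^{⊗(b+1)}. The base field is arbitrary. -/
theorem result (k : Type u) [Field k]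
    (X : Scheme.{u}) [X.Over (Spec (CommRingCat.of k))] [IsProper (X ↘ (Spec (CommRingCat.of k)))]
    (L : X.Modules) (hL : PicF.IsInvertible L) (hgg : Curv2.IsGloballyGenerated L)
    (M : X.Modules) (hM : ClSub.IsInverseOf M L)
    (b : ℕ) (hb : 1 ≤ b)
    (hvan₁ : ∀ q : ℕ, 1 ≤ q → q ≤ b → q < Module.finrank k (Coh.HH X L 0) →
      Subsingleton (Coh.HH X (CohB1.tensorPow L (b - q)) q))
    (hvan₂ : ∀ q : ℕ, b < q → q < Module.finrank k (Coh.HH X L 0) →
      Subsingleton (Coh.HH X (CohB1.tensorPow M (q - b)) q)) :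
    Function.Surjective
      ((toSheafify (Opens.grothendieckTopology X) (CohB1.tensorPre (CohB1.tensorPow L b) L).presheaf).app
        (Opposite.op ⊤)) := by
  classical
  obtain ⟨e⟩ := hM
  have hMi : PicF.IsInvertible M :=
    Groth.PicAux.isInvertible_of_isInverseOf hL (Groth.PicAux.isInverseOf_symm ⟨e⟩)
  haveI : Module.Finite k (Coh.HH X L 0) :=
    Groth.EulerDeg.finite_HH k X (Groth.VarietyBC.CurveGG.isCoh_of_isInvertible hL) 0
  obtain ⟨h0e, h0c⟩ := Groth.VarietyBC.NegTwist.exists_h0Equiv k L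
  let r := Module.finrank k (Coh.HH X L 0)
  let B := Module.finBasis k (Coh.HH X L 0)
  let σ : ℕ → Γ(L, ⊤) := fun i => if h : i < r then h0e (B ⟨i, h⟩) else 0
  have hσ : ∀ x : X, ∃ i < r, x ∈ Groth.PropsBasic.Ample.gloc (σ i) := by
    intro x
    obtain ⟨U, g, hxU, hg⟩ := (Groth.PicAux.isInvertible_iff_exists_gen L).1 hL x
    choose c hc using fun i : Fin r => hg.exists_coeff le_rfl (Groth.PicAux.res L le_top (σ i))
    obtain ⟨t, ht⟩ := Groth.VarietyBC.GGen.exists_mem_gloc hL hgg x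
    obtain ⟨d, hd⟩ := hg.exists_coeff le_rfl (Groth.PicAux.res L le_top t)
    rw [Groth.PicAux.res_self] at hd
    have hxd : IsUnit (X.presheaf.germ U x hxU d) :=
      (Scheme.mem_basicOpen _ _ _ hxU).1 ((Groth.PropsBasic.Ample.gloc_inf_eq_basicOpen hg hd).le ⟨ht, hxU⟩)
    have ht' : t = ∑ i, Groth.VarietyBC.NegTwist.const k X (B.repr (h0e.symm t) i) • σ i := by
      have h1 := congrArg h0e (B.sum_repr (h0e.symm t))
      rw [map_sum, AddEquiv.apply_symm_apply] at h1
      refine h1.symm.trans (Finset.sum_congr rfl fun i _ => ?_)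
      rw [h0c]
      simp [σ, r]
    have hd' : d = ∑ i, Groth.PicAux.resX X le_top
        (Groth.VarietyBC.NegTwist.const k X (B.repr (h0e.symm t) i)) * c i := by
      refine hg.smul_inj le_rfl ?_
      rw [Groth.PicAux.res_self, ← hd, Finset.sum_smul]
      refine (congrArg (Groth.PicAux.res L (le_top : U ≤ ⊤)) ht').trans ?_
      refine (map_sum ((L.presheaf.map (homOfLE (le_top : U ≤ ⊤)).op).hom) _ _).trans
        (Finset.sum_congr rfl fun i _ => ?_)
      refine (Groth.PicAux.res_smul (le_top : U ≤ ⊤) _ (σ i)).trans ?_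
      rw [hc i, Groth.PicAux.res_self, smul_smul]
    by_contra hno
    push Not at hno
    refine ((IsLocalRing.mem_maximalIdeal _).1 ?_) hxd
    rw [hd', map_sum]
    refine Ideal.sum_mem _ fun i _ => ?_
    rw [map_mul]
    refine Ideal.mul_mem_left _ _ ((IsLocalRing.mem_maximalIdeal _).2 fun hu => hno i i.2 ?_)
    have hci := hc i
    rw [Groth.PicAux.res_self] at hci
    exact ((Groth.PropsBasic.Ample.gloc_inf_eq_basicOpen hg hci).ge
      ((Scheme.mem_basicOpen _ _ _ hxU).2 hu)).1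
  let P : Γ(CohB1.tensorMod (CohB1.tensorPow L b) L, ⊤) → Prop := fun z =>
    z ∈ (Groth.PicAux.ptenUnit (CohB1.tensorPow L b) L ⊤).range
  intro z
  refine Groth.LimKoszul.exists_sum_of_kosz' (Groth.LimKoszul.zop e hL hMi σ) r
    (Groth.LimKoszul.zop_comm e hL hMi σ) (Groth.LimKoszul.zop_iso e hL hMi σ r hσ) k
    (((b + 1 : ℕ) : ℤ)) (fun j hj1 hjr => ?_) P (zero_mem _) (fun _ _ => add_mem) (fun t ht v => ?_) z
  · rcases le_or_gt j b with h | h
    · rw [show ((b + 1 : ℕ) : ℤ) - 1 - (j : ℤ) = Int.ofNat (b - j) by simp; omega]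
      exact hvan₁ j hj1 h hjr
    · obtain ⟨m, rfl⟩ : ∃ m, j = b + (m + 1) := ⟨j - b - 1, by omega⟩
      rw [show ((b + 1 : ℕ) : ℤ) - 1 - ((b + (m + 1) : ℕ) : ℤ) = Int.negSucc m by
        rw [Int.negSucc_eq]; push_cast; ring]
      have := hvan₂ (b + (m + 1)) h hjr
      rwa [Nat.add_sub_cancel_left] at this
  · revert v
    suffices H : ∀ (a : ℤ) (h : ((b + 1 : ℕ) : ℤ) = a + 1) (v : Γ(Groth.LimKoszul.zG L M a, ⊤)),
        P ((Groth.LimKoszul.zop e hL hMi σ t a _ h).app ⊤ v) from fun v => H _ (by omega) v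
    intro a h v
    obtain rfl : a = Int.ofNat b := by simp at h ⊢; omega
    refine ⟨v ⊗ₜ[Γ(X, ⊤)] Groth.PicAux.res L le_top (σ t), ?_⟩
    have h2 : Groth.LimKoszul.zop e hL hMi σ t (Int.ofNat b) _ h =
        Groth.LimKoszul.op₀ e hL hMi (σ t) (Int.ofNat b) :=
      Groth.LimKoszul.zop_self e hL hMi σ t (Int.ofNat b)
    refine Eq.trans ?_ (congrArg (fun φ => (Scheme.Modules.Hom.app φ ⊤) v) h2).symm
    exact (Groth.LimKoszul.mulS_app (Groth.PicAux.isInvertible_tensorPow hL b) (σ t) ⊤ v).symm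

end Groth.Agent.S14054
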