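import Groth.Statements.S14055
import Groth.Agent.SurfRR.Numerics
-- import your own Groth.Agent.* helpers here

set_option autoImplicit false
universe u
open CategoryTheory CategoryTheory.Limits AlgebraicGeometry TopologicalSpace
open Surf

namespace Groth.Agent.S14055

/-- Let k be an algebraically closed field and X a smooth surface over k: an integral scheme, proper and
smooth over k, of dimension 2; let W be its canonical module, a second exterior power of Ω_{X/k}.
For an invertible module L and an integral closed one-dimensional subscheme C ⊆ X write (L·C) =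
χ(O_C ⊗ L) − χ(O_C). If W is nef, that is (W·C) ≥ 0 for every such C, then X is minimal: it contains
no (−1)-curve, where a (−1)-curve is taken, through its numerical characterization, to be an
integral closed one-dimensional subscheme E with H¹(E, O_E) = 0 and (O_X(E)·E) = −1, O_X(E) being a
tensor inverse of the ideal sheaf of E. -/
theorem result (k : Type u) [Field k] [IsAlgClosed k] (X : Scheme.{u})
    [X.Over (Spec (CommRingCat.of k))] [IsProper (X ↘ (Spec (CommRingCat.of k)))] [Smooth (X ↘ (Spec (CommRingCat.of k)))]
    [IsIntegral X] (hdim : topologicalKrullDim X = 2)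
    (W : X.Modules) (hW : ExtPow.IsExtPow 2 (Omega.sheaf (X ↘ (Spec (CommRingCat.of k)))) W)
    (hnef : (∀ C : X.IdealSheafData, IsIntegral C.subscheme → topologicalKrullDim (C.support : Set X) = 1 →
      0 ≤ Curv2.euler k X (CohB1.tensorMod (ClSub.quotMod C) W) - Curv2.euler k X (ClSub.quotMod C))) :
    (∀ (E : X.IdealSheafData) (N : X.Modules), IsIntegral E.subscheme →
      topologicalKrullDim (E.support : Set X) = 1 → ClSub.IsInverseOf N (ClSub.idealMod E) →
      Subsingleton (Coh.HH E.subscheme (Coh.structureModule E.subscheme) 1) →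
      Curv2.euler k X (CohB1.tensorMod (ClSub.quotMod E) N) - Curv2.euler k X (ClSub.quotMod E) ≠ -1) := by
  obtain ⟨hWi, hDD⟩ := Groth.SurfRR.dualDim_topForms' k hdim hW
  have hD2 := Groth.SurfRR.dualEuler_of_dualDim k hdim.le hDD
  have hreg := Groth.SurfRR.isRegularLocalRing_stalk k (X := X)
  intro E N hE hE1 hN h1 heq
  have hIc : Groth.SurfNum.IsCurve E := ⟨hE, hE1⟩
  have hI := hIc.isInvertible k hdim hreg
  have hadj := Groth.SurfRR.adjunction_quot k hdim hWi hD2 hI
  have hone := (Groth.SurfRR.euler_curve_eq_one_iff k hIc).2 h1
  have hN' := Groth.PicAux.isInvertible_of_isInverseOf hI (Groth.PicAux.isInverseOf_symm hN)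
  have hcar := hIc.isEffCartier k hdim hreg
  rw [Groth.SurfNum.deg_eq k hcar hN', Groth.Inter.pair_comm k,
    Groth.Inter.pair_inverse k hdim.le hI (Groth.PicAux.isInverseOf_symm hN) hI] at heq
  have hn := hnef E hE hE1
  rw [Groth.SurfNum.deg_eq k hcar hWi] at hn
  omega

end Groth.Agent.S14055
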