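import Groth.Statements.S14056
import Groth.Agent.SurfRR.Numerics
-- import your own Groth.Agent.* helpers here

set_option autoImplicit false
universe u
open CategoryTheory CategoryTheory.Limits AlgebraicGeometry TopologicalSpace
open Surf

namespace Groth.Agent.S14056

/-- Let k be an algebraically closed field and X a smooth surface over k: an integral scheme, proper and
smooth over k, of dimension 2; let W be its canonical module, a second exterior power of Ω_{X/k}.
For an invertible module L and an integral closed one-dimensional subscheme C ⊆ X write (L·C) =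
χ(O_C ⊗ L) − χ(O_C). Suppose that X has non-negative Kodaira dimension, that is some tensor power
W^{⊗m} with m > 0 has a nonzero global section, and that X is minimal: it contains no (−1)-curve,
where a (−1)-curve is taken, through its numerical characterization, to be an integral closed
one-dimensional subscheme E with H¹(E, O_E) = 0 and (O_X(E)·E) = −1, O_X(E) being a tensor inverse
of the ideal sheaf of E. Then W is nef: (W·C) ≥ 0 for every integral closed one-dimensional C ⊆ X.
(Together with the first assertion: under non-negative Kodaira dimension, X is minimal if and only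
if W is nef.) -/
theorem result (k : Type u) [Field k] [IsAlgClosed k] (X : Scheme.{u})
    [X.Over (Spec (CommRingCat.of k))] [IsProper (X ↘ (Spec (CommRingCat.of k)))] [Smooth (X ↘ (Spec (CommRingCat.of k)))]
    [IsIntegral X] (hdim : topologicalKrullDim X = 2)
    (W : X.Modules) (hW : ExtPow.IsExtPow 2 (Omega.sheaf (X ↘ (Spec (CommRingCat.of k)))) W)
    (m : ℕ) (hm : 0 < m) (hsec : Nontrivial (Coh.HH X (CohB1.tensorPow W m) 0))
    (hmin : (∀ (E : X.IdealSheafData) (N : X.Modules), IsIntegral E.subscheme →
      topologicalKrullDim (E.support : Set X) = 1 → ClSub.IsInverseOf N (ClSub.idealMod E) →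
      Subsingleton (Coh.HH E.subscheme (Coh.structureModule E.subscheme) 1) →
      Curv2.euler k X (CohB1.tensorMod (ClSub.quotMod E) N) - Curv2.euler k X (ClSub.quotMod E) ≠ -1)) :
    (∀ C : X.IdealSheafData, IsIntegral C.subscheme → topologicalKrullDim (C.support : Set X) = 1 →
      0 ≤ Curv2.euler k X (CohB1.tensorMod (ClSub.quotMod C) W) - Curv2.euler k X (ClSub.quotMod C)) := by
  obtain ⟨hWi, hDD⟩ := Groth.SurfRR.dualDim_topForms' k hdim hW
  have hD2 := Groth.SurfRR.dualEuler_of_dualDim k hdim.le hDD
  have hreg := Groth.SurfRR.isRegularLocalRing_stalk k (X := X)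
  intro C hC hC1
  have hIc : Groth.SurfNum.IsCurve C := ⟨hC, hC1⟩
  have hI := hIc.isInvertible k hdim hreg
  have hcar := hIc.isEffCartier k hdim hreg
  rw [Groth.SurfNum.deg_eq k hcar hWi]
  by_contra hcon
  have hpos : 0 < Groth.Inter.pair k (ClSub.idealMod C) W := by omega
  have hL := Groth.PicAux.isInvertible_tensorPow hWi m
  obtain ⟨φ, hφ⟩ := (Groth.Inter.nontrivial_h0_iff k _).1 hsec
  have hreg' := Groth.PicAux.regularSection_of_ne_zero hL hφ
  have hD := Groth.PicAux.isEffCartierIdeal_zeroScheme hL hreg'
  have hDL := Groth.PicAux.isInverseOf_zeroScheme hL hreg'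
  obtain ⟨s, mult, hs, hsum⟩ := Groth.SurfNum.exists_pair_eq_sum k hdim hD
  have h1 : Groth.Inter.pair k (ClSub.idealMod (PicF2.zeroScheme (CohB1.tensorPow W m) φ)) (ClSub.idealMod C) < 0 := by
    rw [Groth.Inter.pair_inverse k hdim.le hL hDL hI, Groth.Inter.pair_pow k hdim.le hWi hI,
      Groth.Inter.pair_comm k W]
    have : (0 : ℤ) < m := by exact_mod_cast hm
    nlinarith
  rw [hsum _ hI] at h1
  obtain ⟨y, hy, hy'⟩ := Finset.exists_lt_of_sum_lt (f := fun y => (mult y : ℤ) *
    Groth.Inter.delta k [ClSub.idealMod C] (ClSub.quotMod (IntMult.ptIdeal y))) (g := fun _ => (0 : ℤ))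
    (s := s) (by simpa using h1)
  have hyc := (hs y hy).1
  rw [← Groth.SurfNum.pair_idealMod k (hyc.isEffCartier k hdim hreg) hI] at hy'
  have hyC : IntMult.ptIdeal y = C := by
    by_contra hne
    have := Groth.SurfNum.pair_nonneg_of_ne k hdim hreg hyc hIc hne
    nlinarith [Int.natCast_nonneg (mult y)]
  rw [hyC] at hy'
  have hneg : Groth.Inter.pair k (ClSub.idealMod C) (ClSub.idealMod C) < 0 := by
    nlinarith [Int.natCast_nonneg (mult y)]
  have hadj := Groth.SurfRR.adjunction_quot k hdim hWi hD2 hI
  have hle := Groth.SurfRR.euler_curve_le k hIc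
  obtain ⟨N, -, hN⟩ := Groth.PicAux.exists_isInverseOf hI
  have hN' := Groth.PicAux.isInvertible_of_isInverseOf hI hN
  refine hmin C N hC hC1 (Groth.PicAux.isInverseOf_symm hN)
    ((Groth.SurfRR.euler_curve_eq_one_iff k hIc).1 (by omega)) ?_
  rw [Groth.SurfNum.deg_eq k hcar hN', Groth.Inter.pair_comm k,
    Groth.Inter.pair_inverse k hdim.le hI hN hI]
  omega

end Groth.Agent.S14056
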