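import Groth.Statements.S14057
import Groth.Agent.SurfRR.Numerics
-- import your own Groth.Agent.* helpers here

set_option autoImplicit false
universe u
open CategoryTheory CategoryTheory.Limits AlgebraicGeometry TopologicalSpace
open Surf

namespace Groth.Agent.S14057

/-- Let k be an algebraically closed field and X a smooth surface over k: an integral scheme, proper and
smooth over k, of dimension 2; let W be its canonical module, a second exterior power of Ω_{X/k}.
For an invertible module L and an integral closed one-dimensional subscheme C ⊆ X write (L·C) =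
χ(O_C ⊗ L) − χ(O_C), and (W·W) for the self-intersection number of W (the alternating sum χ(O_X) −
2χ(W) + χ(W ⊗ W)). Suppose W is nef and (W·W) > 0. Then W is ample if and only if X contains no
(−2)-curve, where a (−2)-curve is taken, through its numerical characterization, to be an integral
closed one-dimensional subscheme E with H¹(E, O_E) = 0 and (O_X(E)·E) = −2, O_X(E) being a tensor
inverse of the ideal sheaf of E. (The published statement is for a minimal surface of general type;
its proof uses exactly that the canonical module is nef with positive self-intersection, which is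
how the hypothesis is written here.) -/
theorem result (k : Type u) [Field k] [IsAlgClosed k] (X : Scheme.{u})
    [X.Over (Spec (CommRingCat.of k))] [IsProper (X ↘ (Spec (CommRingCat.of k)))] [Smooth (X ↘ (Spec (CommRingCat.of k)))]
    [IsIntegral X] (hdim : topologicalKrullDim X = 2)
    (W : X.Modules) (hW : ExtPow.IsExtPow 2 (Omega.sheaf (X ↘ (Spec (CommRingCat.of k)))) W)
    (hnef : (∀ C : X.IdealSheafData, IsIntegral C.subscheme → topologicalKrullDim (C.support : Set X) = 1 →
      0 ≤ Curv2.euler k X (CohB1.tensorMod (ClSub.quotMod C) W) - Curv2.euler k X (ClSub.quotMod C)))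
    (hpos : 0 < FGA.intNum k X 2 ![W, W] (Coh.structureModule X)) :
    CohB1.IsAmple W ↔
    (∀ (E : X.IdealSheafData) (N : X.Modules), IsIntegral E.subscheme →
      topologicalKrullDim (E.support : Set X) = 1 → ClSub.IsInverseOf N (ClSub.idealMod E) →
      Subsingleton (Coh.HH E.subscheme (Coh.structureModule E.subscheme) 1) →
      Curv2.euler k X (CohB1.tensorMod (ClSub.quotMod E) N) - Curv2.euler k X (ClSub.quotMod E) ≠ -2) := by
  obtain ⟨hWi, hDD⟩ := Groth.SurfRR.dualDim_topForms' k hdim hW
  have hD2 := Groth.SurfRR.dualEuler_of_dualDim k hdim.le hDD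
  have hreg := Groth.SurfRR.isRegularLocalRing_stalk k (X := X)
  rw [Groth.Inter.intNum_eq_pair k hdim.le] at hpos
  have hself : ∀ (E : X.IdealSheafData) (hE : Groth.SurfNum.IsCurve E) (N : X.Modules),
      ClSub.IsInverseOf N (ClSub.idealMod E) →
      Curv2.euler k X (CohB1.tensorMod (ClSub.quotMod E) N) - Curv2.euler k X (ClSub.quotMod E) =
        Groth.Inter.pair k (ClSub.idealMod E) (ClSub.idealMod E) := fun E hE N hN => by
    have hI := hE.isInvertible k hdim hreg
    have hN' := Groth.PicAux.isInvertible_of_isInverseOf hI (Groth.PicAux.isInverseOf_symm hN)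
    rw [Groth.SurfNum.deg_eq k (hE.isEffCartier k hdim hreg) hN', Groth.Inter.pair_comm k,
      Groth.Inter.pair_inverse k hdim.le hI (Groth.PicAux.isInverseOf_symm hN) hI, neg_neg]
  constructor
  · intro hamp E N hE hE1 hN h1 heq
    have hIc : Groth.SurfNum.IsCurve E := ⟨hE, hE1⟩
    rw [hself E hIc N hN] at heq
    have hadj := Groth.SurfRR.adjunction_quot k hdim hWi hD2 (hIc.isInvertible k hdim hreg)
    have hone := (Groth.SurfRR.euler_curve_eq_one_iff k hIc).2 h1
    have hneg := hIc.pair_neg k hdim hreg hamp
    omega
  · intro hno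
    obtain ⟨N₀, ι, hc, hι⟩ := Groth.SurfRR.exists_embedding k hdim hreg
    obtain ⟨U, hU, hx, -⟩ := exists_isAffineOpen_mem_and_subset
      (U := (⊤ : X.Opens)) (x := genericPoint X) trivial
    obtain ⟨D, hD, -, hamp⟩ := Groth.AffineDiv.exists_ample_divisor k hdim hreg hU ⟨_, hx⟩
    obtain ⟨A, -, hDA⟩ := Groth.PicAux.exists_isInverseOf (Groth.PicAux.isInvertible_idealMod hD)
    have hA := hamp A (Groth.PicAux.isInvertible_of_isInverseOf (Groth.PicAux.isInvertible_idealMod hD) hDA)
      (Groth.PicAux.isInverseOf_symm hDA)
    refine Groth.SurfNum.isAmple_of_pair_pos k hdim hreg hWi hpos fun E hIc => ?_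
    have hI := hIc.isInvertible k hdim hreg
    have hn := hnef E hIc.1 hIc.2
    rw [Groth.SurfNum.deg_eq k (hIc.isEffCartier k hdim hreg) hWi] at hn
    refine lt_of_le_of_ne (by omega) fun h0 => ?_
    have hneg := Groth.SurfRR.pair_self_neg_of_orth k hdim hWi hI hA hpos
      (by rw [Groth.Inter.pair_comm k]; exact h0) (hIc.pair_neg k hdim hreg hA)
    have hadj := Groth.SurfRR.adjunction_quot k hdim hWi hD2 hI
    have hle := Groth.SurfRR.euler_curve_le k hIc
    obtain ⟨N, -, hN⟩ := Groth.PicAux.exists_isInverseOf hI
    have hone : Curv2.euler k X (ClSub.quotMod E) = 1 := by omega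
    refine hno E N hIc.1 hIc.2 (Groth.PicAux.isInverseOf_symm hN)
      ((Groth.SurfRR.euler_curve_eq_one_iff k hIc).1 hone) ?_
    rw [hself E hIc N (Groth.PicAux.isInverseOf_symm hN)]
    omega

end Groth.Agent.S14057
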