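import Groth.Statements.S14059
import Groth.Agent.S7822
import Groth.Agent.GrpschAbsch.GrpDim
import Groth.Agent.GrpschAbsch.SmoothPoint
import Groth.Agent.GrpschAbsch.Cartier
import Groth.Agent.SpectralTopology.Dim
import Groth.Agent.VarietyBC.BC

set_option autoImplicit false
universe u
open CategoryTheory MonoidalCategory CartesianMonoidalCategory MonObj GrpObj AlgebraicGeometry
open GrpSch

namespace Groth.Agent.S14059

/-- Let k be an algebraically closed field and G a group scheme of finite type over k, with unit point e
(the image of the unit section). Then the tangent space of G at e is zero, that is the cotangent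
space m_e/m_e² of the local ring O_{G,e} vanishes, if and only if G is isomorphic over k to a finite
disjoint union of copies of Spec k, stated as: the underlying space of G is finite and discrete and
the structure map k → O_{G,g} is bijective for every point g. (The published statement is over an
arbitrary field; the group scheme of cube roots of unity over the rationals has zero tangent space
at the unit but a point with residue field larger than the base field, and the printed argument
translates by rational points, so the base field is taken algebraically closed here.) -/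
theorem result (k : Type u) [Field k] [IsAlgClosed k]
    (G : Over (Spec (CommRingCat.of k))) [GrpObj G] [LocallyOfFiniteType G.hom] [QuasiCompact G.hom]
    (e : G.left) (he : e ∈ Set.range (η[G]).left.base) :
    letI : G.left.Over (Spec (CommRingCat.of k)) := ⟨G.hom⟩
    Subsingleton (IsLocalRing.CotangentSpace (G.left.presheaf.stalk e)) ↔
      (Finite G.left ∧ DiscreteTopology G.left ∧
        ∀ g : G.left, Function.Bijective (Curv2.stalkMap k G.left g)) := by
  let : G.left.Over (Spec (CommRingCat.of k)) := ⟨G.hom⟩
  obtain ⟨t, rfl⟩ := he
  rw [@Subsingleton.elim _ (inferInstanceAs (Subsingleton ↥(Spec (CommRingCat.of k)))) t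
    (IsLocalRing.closedPoint k)]
  have := LocallyOfFiniteType.isLocallyNoetherian G.hom
  have hinst : LocallyOfFiniteType (G.left ↘ Spec (CommRingCat.of k)) := ‹LocallyOfFiniteType G.hom›
  constructor
  · intro hsub
    obtain ⟨hle, hsm, -⟩ := S7822.result k G
    have h0 : Module.finrank (IsLocalRing.ResidueField (G.left.presheaf.stalk (η[G].left (IsLocalRing.closedPoint k))))
        (IsLocalRing.CotangentSpace (G.left.presheaf.stalk (η[G].left (IsLocalRing.closedPoint k)))) = 0 :=
      Module.finrank_zero_of_subsingleton
    rw [h0] at hle hsm
    have hd : topologicalKrullDim G.left ≤ 0 := by simpa using hle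
    have : CompactSpace G.left := (quasiCompact_iff_compactSpace G.hom).mp inferInstance
    have : IsNoetherian G.left := ⟨⟩
    obtain ⟨hfin, hdis⟩ := SpectralTopology.finite_discrete_of_dim_nonpos hd
    have : Nonempty G.left := ⟨η[G].left (IsLocalRing.closedPoint k)⟩
    have hd0 : topologicalKrullDim G.left = 0 := le_antisymm hd SpectralTopology.topologicalKrullDim_nonneg
    have : Smooth G.hom := hsm.mpr (by simpa using hd0)
    refine ⟨hfin, hdis, fun g ↦ ?_⟩
    have hg : IsClosed ({g} : Set G.left) := isClosed_discrete _
    let s := (pointEquivClosedPoint G.hom).symm ⟨g, hg⟩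
    have hsg : ∀ t, s.1 t = g := fun t ↦ pointOfClosedPoint_apply G.hom g hg t
    have hreg : IsRegularLocalRing (G.left.presheaf.stalk g) := by
      rw [← hsg (IsLocalRing.closedPoint k)]
      exact (GrpschAbsch.mem_smoothLocus_iff_isRegularLocalRing G.hom s.1 s.2 _).mp
        (by rw [Scheme.Hom.smoothLocus_eq_top]; trivial)
    have hm : IsLocalRing.maximalIdeal (G.left.presheaf.stalk g) = ⊥ := by
      have h := (isRegularLocalRing_iff _).mp hreg
      rw [GrpschAbsch.ringKrullDim_stalk_closedPoint G hg, hd0] at h
      exact (Submodule.spanFinrank_eq_zero_iff_eq_bot (IsNoetherian.noetherian _)).mp (by exact_mod_cast h)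
    obtain ⟨ε, hε⟩ := GrpschAbsch.exists_factor_stalk (R := CommRingCat.of k) s.1 (x := g) (hsg _)
    have hid : CommRingCat.ofHom (Curv2.stalkMap k G.left g) ≫ ε = 𝟙 _ := by
      apply Spec.map_injective
      rw [Spec.map_comp, ← VarietyBC.fromSpecStalk_str, ← Category.assoc, hε, Spec.map_id]
      exact s.2
    refine ⟨(Curv2.stalkMap k G.left g).injective, fun a ↦ ⟨ε a, ?_⟩⟩
    have hinj : Function.Injective ε.hom := by
      rw [RingHom.injective_iff_ker_eq_bot, ← le_bot_iff, ← hm]
      exact IsLocalRing.le_maximalIdeal (RingHom.ker_ne_top _)
    exact hinj congr($hid (ε a))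
  · rintro ⟨-, -, hb⟩
    have hf := MulEquiv.isField (Field.toIsField k)
      (RingEquiv.ofBijective _ (hb (η[G].left (IsLocalRing.closedPoint k)))).symm.toMulEquiv
    let := hf.toField
    exact IsLocalRing.subsingleton_cotangentSpace_iff.mpr hf

end Groth.Agent.S14059
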