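import Groth.Statements.S14064
import Groth.Agent.PicAux.Integral
import Groth.Agent.PicAux.Tensor
import Groth.Agent.PicAux.Powers

set_option autoImplicit false
universe u
open CategoryTheory CategoryTheory.Limits AlgebraicGeometry TopologicalSpace
open Surf

namespace Groth.Agent.S14064

open Groth.PicAux

/-- Global sections as degree zero cohomology. -/
noncomputable def sec₀ {X : Scheme.{u}} (M : X.Modules) : Coh.HH X M 0 ≃+ Γ(M, ⊤) :=
  Sheaf.H.equiv₀ (Coh.toAb M) (Preorder.isTerminalTop X.Opens)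

theorem iso_of_two_sections (k : Type u) [Field k] (X : Scheme.{u}) [X.Over (Spec (CommRingCat.of k))]
    [IsIntegral X] [IsProper (X ↘ (Spec (CommRingCat.of k)))]
    (L M : X.Modules) (hL : PicF.IsInvertible L) (hM : PicF.IsInvertible M) (hLM : ClSub.IsInverseOf L M)
    (s : Coh.structureModule X ⟶ L) (hs : s ≠ 0) (t : Coh.structureModule X ⟶ M) (ht : t ≠ 0) :
    Nonempty (L ≅ Coh.structureModule X) := by
  have hfield : IsField (Γ(X, ⊤) : Type u) :=
    isField_of_universallyClosed k (X ↘ Spec (CommRingCat.of k))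
  obtain ⟨e⟩ := hLM
  set τ : Γ(M, ⊤) := t.app ⊤ (oneSec X ⊤) with hτ
  obtain ⟨φ, hφ⟩ := exists_hom_of_cover (U := fun _ : Unit => (⊤ : X.Opens)) (L := L)
    (M := Coh.structureModule X) (by simp)
    (fun _ V _ m => e.hom.app V (tmulSec m (res M le_top τ)))
    (fun _ V _ m m' => by
      have : tmulSec (m + m') (res M (le_top : V ≤ ⊤) τ) =
          tmulSec m (res M le_top τ) + tmulSec m' (res M le_top τ) := by
        simp only [tmulSec, TensorProduct.add_tmul, map_add]
      rw [this, map_add])
    (fun _ V _ r m => by rw [tmulSec_smul_left, Scheme.Modules.Hom.app_smul])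
    (fun _ V W _ h m => by
      rw [← app_res, res_tmulSec, res_res])
    (fun _ _ V _ _ m => rfl)
  refine iso_structure_of_section_cosection hfield hL s hs φ fun h0 => ?_
  obtain ⟨U, a, hU, hmem, ha⟩ := exists_gen_cover hL
  obtain ⟨x⟩ : Nonempty X := inferInstance
  obtain ⟨V, b, hxV, hb⟩ := (isInvertible_iff_exists_gen M).1 hM x
  have hab := ((ha x).res (inf_le_left : U x ⊓ V ≤ U x)).tensor
    (hb.res (inf_le_right : U x ⊓ V ≤ V))
  obtain ⟨d, hd⟩ := hb.exists_coeff (inf_le_right : U x ⊓ V ≤ V) (res M le_top τ)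
  have h1 : e.hom.app (U x ⊓ V) (tmulSec (res L inf_le_left (a x)) (res M le_top τ)) = 0 := by
    rw [← hφ () (U x ⊓ V) le_top, h0]
    rfl
  rw [hd, tmulSec_smul_right, Scheme.Modules.Hom.app_smul] at h1
  have hd0 : d = 0 := (hab.map e.hom).smul_inj le_rfl (by simpa using h1)
  refine hom_structure_section_ne_zero ht ?_
  exact inv_sec_eq_zero hM (le_top : U x ⊓ V ≤ ⊤) ⟨⟨x, hmem x, hxV⟩⟩ τ (by rw [hd, hd0, zero_smul])

theorem powSec_ne_zero {X : Scheme.{u}} [IsIntegral X] {L : X.Modules} (hL : PicF.IsInvertible L)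
    (s : Γ(L, ⊤)) (hs : s ≠ 0) (n : ℕ) : powSec s n ≠ 0 := by
  obtain ⟨U, g, hU, hmem, hg⟩ := exists_gen_cover hL
  obtain ⟨x⟩ : Nonempty X := inferInstance
  have hne : Nonempty (U x) := ⟨⟨x, hmem x⟩⟩
  obtain ⟨r, hr⟩ := (hg x).exists_coeff le_rfl (res L le_top s)
  rw [res_self] at hr
  intro h0
  have h1 : res _ (le_top : U x ≤ ⊤) (powSec s n) = 0 := by rw [h0, res_zero]
  rw [res_powSec, hr, powSec_smul] at h1
  have h2 : r ^ n = 0 := ((hg x).pow n).smul_inj le_rfl (by simpa using h1)
  refine hs (inv_sec_eq_zero hL le_top hne s ?_)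
  rw [hr, eq_zero_of_pow_eq_zero h2, zero_smul]


/-- Fix a field k, an integral proper k-scheme X, and an invertible O_X-module L with tensor inverse M.
Suppose that L^{⊗j} has a nonzero global section for every j ≥ 4 and that no tensor power L^{⊗j}
with j ≥ 1 is isomorphic to O_X. Then H⁰(X, M^{⊗i}) = 0 for every i ≥ 1: the negative powers of L
have no nonzero global sections. (The published statement is for the canonical module of a minimal
surface of general type over an algebraically closed field, where the fourth and higher powers are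
globally generated by a deep result quoted without proof, and non-triviality of the positive powers
comes from bigness; the published deduction of this part uses exactly the two hypotheses carried
here, on an integral proper X.) -/
theorem result (k : Type u) [Field k]
    (X : Scheme.{u}) [X.Over (Spec (CommRingCat.of k))] [IsProper (X ↘ (Spec (CommRingCat.of k)))] [IsIntegral X]
    (L M : X.Modules) (hL : PicF.IsInvertible L) (hM : ClSub.IsInverseOf M L)
    (hsec : ∀ j : ℕ, 4 ≤ j → Nontrivial (Coh.HH X (CohB1.tensorPow L j) 0))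
    (hnt : ∀ j : ℕ, 1 ≤ j → IsEmpty (CohB1.tensorPow L j ≅ Coh.structureModule X))
    (i : ℕ) (hi : 1 ≤ i) :
    Subsingleton (Coh.HH X (CohB1.tensorPow M i) 0) := by
  refine not_nontrivial_iff_subsingleton.1 fun hN => ?_
  obtain ⟨z, hz⟩ := exists_ne (0 : Coh.HH X (CohB1.tensorPow M i) 0)
  have hMinv : PicF.IsInvertible M := isInvertible_of_isInverseOf hL (isInverseOf_symm hM)
  have hMi := isInvertible_tensorPow hMinv i
  have hσ : sec₀ _ z ≠ 0 := fun h => hz ((sec₀ _).injective (by rw [h, map_zero]))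
  have h4 := powSec_ne_zero hMi (sec₀ _ z) hσ 4
  obtain ⟨e⟩ := tensorPow_mul M i 4
  have hτ : e.inv.app ⊤ (powSec (sec₀ _ z) 4) ≠ 0 := fun h => h4 (by
    have h' := congrArg (e.hom.app ⊤) h
    rw [map_zero] at h'
    exact (congrArg (fun f => Scheme.Modules.Hom.app f ⊤ (powSec (sec₀ _ z) 4)) e.inv_hom_id).symm.trans h')
  have := hsec (i * 4) (by omega)
  obtain ⟨w, hw⟩ := exists_ne (0 : Coh.HH X (CohB1.tensorPow L (i * 4)) 0)
  have hw' : sec₀ _ w ≠ 0 := fun h => hw ((sec₀ _).injective (by rw [h, map_zero]))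
  obtain ⟨f⟩ := iso_of_two_sections k X (CohB1.tensorPow L (i * 4)) (CohB1.tensorPow M (i * 4))
    (isInvertible_tensorPow hL _) (isInvertible_tensorPow hMinv _)
    (isInverseOf_tensorPow (isInverseOf_symm hM) _)
    (homOfSection (sec₀ _ w)) (fun h => hw' (by rw [← homOfSection_one (sec₀ _ w), h]; rfl))
    (homOfSection (e.inv.app ⊤ (powSec (sec₀ _ z) 4)))
    (fun h => hτ (by rw [← homOfSection_one (e.inv.app ⊤ (powSec (sec₀ _ z) 4)), h]; rfl))
  exact (hnt (i * 4) (by omega)).false f

end Groth.Agent.S14064
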