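import Groth.Statements.S14065
import Groth.Agent.CurveBridge.TensorNumerics
import Groth.Agent.CurveBridge.SmoothCurve
import Groth.Agent.PicAux.Powers

set_option autoImplicit false
universe u
open CategoryTheory CategoryTheory.Limits AlgebraicGeometry TopologicalSpace
open Curves Groth.CurveBridge

namespace Groth.Agent.S14065

/-- Let k be an algebraically closed field and C a smooth projective connected curve over k — an
integral scheme, proper and smooth over k, of dimension 1 — of genus g = dim_k H¹(C, O_C) with g ≥
2, and let T be the tangent module of C, a tensor inverse of the module of differentials Ω_{C/k}.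
Then dim_k H¹(C, T) = 3g − 3. (The published proof makes this computation, together with the
vanishing of H⁰(C, T), to find the dimension of the tangent space of the moduli stack of genus-g
curves at C; only the dimension of H¹(C, T) is stated here.) -/
theorem result (k : Type u) [Field k] [IsAlgClosed k]
    (C : Scheme.{u}) [C.Over (Spec (CommRingCat.of k))] [IsProper (C ↘ (Spec (CommRingCat.of k)))] [Smooth (C ↘ (Spec (CommRingCat.of k)))] [IsIntegral C]
    (hdim : topologicalKrullDim C = 1) (g : ℕ) (hg : Curv2.genus k C = g) (h2 : 2 ≤ g)
    (T : C.Modules) (hT : ClSub.IsInverseOf T (Omega.sheaf (C ↘ (Spec (CommRingCat.of k))))) :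
    Module.finrank k (Coh.HH C T 1) = 3 * g - 3 := by
  have h := isRegCurve_of_smooth k C hdim
  have hK := isFunctionField (k := k) (X := C) hdim
  have hΩ := isInvertible_omega (X := C) hK
  have hTi : PicF.IsInvertible T :=
    Groth.PicAux.isInvertible_of_isInverseOf hΩ (Groth.PicAux.isInverseOf_symm hT)
  obtain ⟨hO0, -, hOd⟩ := omega_numerics (k := k) (X := C) h
  have hd := deg_tensor_add h hK hTi hΩ
  have hzero : Curv2.deg k C (Coh.structureModule C) 1 = 0 := by
    unfold Curv2.deg
    rw [euler_structure h hK]; simp
  rw [Groth.EulerDeg.deg_congr (k := k) hT.some 1, hzero, hOd, hg] at hd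
  obtain ⟨φ, D, -, -, hdD, h1⟩ := exists_divEmb h hK hTi
  have hl : FunFld.ell D = 0 :=
    (Groth.FunFld1.IsFF.of_isFunctionField hK).ell_eq_zero_of_deg_neg (by omega)
  rw [hl, hg] at h1
  omega

end Groth.Agent.S14065
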