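import Groth.Statements.S14066
import Groth.Agent.Chow.LinEmb
import Groth.Agent.PnCoh.OverAffine

set_option autoImplicit false
universe u
open CategoryTheory CategoryTheory.Limits AlgebraicGeometry TopologicalSpace
open Variety

namespace Groth.Agent.S14066

theorem isClosedImmersion_coprodDesc_of_disjoint {X X' Y : Scheme.{u}} (f : X ⟶ Y) (f' : X' ⟶ Y)
    [IsClosedImmersion f] [IsClosedImmersion f'] (h : Disjoint (Set.range f.base) (Set.range f'.base)) :
    IsClosedImmersion (coprod.desc f f') := by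
  set d := coprod.desc f f'
  have el : ∀ a, d.base ((coprod.inl : X ⟶ X ⨿ X').base a) = f.base a := fun a =>
    congr($(coprod.inl_desc f f').base a)
  have er : ∀ a, d.base ((coprod.inr : X' ⟶ X ⨿ X').base a) = f'.base a := fun a =>
    congr($(coprod.inr_desc f f').base a)
  have hcases : ∀ z : ↥(X ⨿ X'), (∃ a, (coprod.inl : X ⟶ X ⨿ X').base a = z) ∨
      ∃ a, (coprod.inr : X' ⟶ X ⨿ X').base a = z := fun z =>
    ((isCompl_range_inl_inr X X').sup_eq_top.ge (Set.mem_univ z))
  have hinj : Function.Injective d.base := by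
    intro z w hzw
    rcases hcases z with ⟨a, rfl⟩ | ⟨a, rfl⟩ <;> rcases hcases w with ⟨b, rfl⟩ | ⟨b, rfl⟩ <;>
      simp only [el, er] at hzw
    · exact congrArg _ (f.isClosedEmbedding.injective hzw)
    · exact (Set.disjoint_left.mp h ⟨a, rfl⟩ ⟨b, hzw.symm⟩).elim
    · exact (Set.disjoint_left.mp h ⟨b, rfl⟩ ⟨a, hzw⟩).elim
    · exact congrArg _ (f'.isClosedEmbedding.injective hzw)
  have hclosed : IsClosedMap d.base := by
    intro K hK
    have e : d.base '' K = f.base '' ((coprod.inl : X ⟶ X ⨿ X').base ⁻¹' K) ∪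
        f'.base '' ((coprod.inr : X' ⟶ X ⨿ X').base ⁻¹' K) := by
      ext y
      constructor
      · rintro ⟨z, hz, rfl⟩
        rcases hcases z with ⟨a, rfl⟩ | ⟨a, rfl⟩
        · exact Or.inl ⟨a, hz, (el a).symm⟩
        · exact Or.inr ⟨a, hz, (er a).symm⟩
      · rintro (⟨a, ha, rfl⟩ | ⟨a, ha, rfl⟩)
        · exact ⟨_, ha, el a⟩
        · exact ⟨_, ha, er a⟩
    rw [e]
    exact (f.isClosedEmbedding.isClosedMap _ (hK.preimage (coprod.inl : X ⟶ X ⨿ X').continuous)).union
      (f'.isClosedEmbedding.isClosedMap _ (hK.preimage (coprod.inr : X' ⟶ X ⨿ X').continuous))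
  have hsurj : SurjectiveOnStalks d := by
    refine ⟨fun z => ?_⟩
    rcases hcases z with ⟨a, rfl⟩ | ⟨a, rfl⟩
    · have hc : Function.Surjective ((coprod.inl ≫ d).stalkMap a) := by
        rw [coprod.inl_desc]; exact Scheme.Hom.stalkMap_surjective f a
      rw [Scheme.Hom.stalkMap_comp] at hc
      intro x
      obtain ⟨y, hy⟩ := hc (((coprod.inl : X ⟶ X ⨿ X').stalkMap a) x)
      exact ⟨y, (ConcreteCategory.bijective_of_isIso ((coprod.inl : X ⟶ X ⨿ X').stalkMap a)).1 hy⟩
    · have hc : Function.Surjective ((coprod.inr ≫ d).stalkMap a) := by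
        rw [coprod.inr_desc]; exact Scheme.Hom.stalkMap_surjective f' a
      rw [Scheme.Hom.stalkMap_comp] at hc
      intro x
      obtain ⟨y, hy⟩ := hc (((coprod.inr : X' ⟶ X ⨿ X').stalkMap a) x)
      exact ⟨y, (ConcreteCategory.bijective_of_isIso ((coprod.inr : X' ⟶ X ⨿ X').stalkMap a)).1 hy⟩
  exact ⟨.of_continuous_injective_isClosedMap d.continuous hinj hclosed⟩


/-- Let k be a field, and let X₁ and X₂ be k-schemes with closed immersions i₁ : X₁ → P^n_k and i₂ : X₂
→ P^m_k over k. Then there is a closed immersion of the disjoint union X₁ ⨿ X₂ into P^{n+m+1}_k over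
k, that is, compatible with the structure morphism of the coproduct induced by those of X₁ and X₂.
(Stated as the step of the published proof showing that a disjoint union of two projective k-schemes
is projective.) -/
theorem result (k : Type u) [Field k] (n m : ℕ)
    (X₁ X₂ : Scheme.{u}) [X₁.Over (Spec (CommRingCat.of k))] [X₂.Over (Spec (CommRingCat.of k))]
    (i₁ : X₁ ⟶ CohB1.ProjSpace n k) [IsClosedImmersion i₁] (h₁ : i₁ ≫ CohB1.ProjSpace.toSpec n k = X₁ ↘ (Spec (CommRingCat.of k)))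
    (i₂ : X₂ ⟶ CohB1.ProjSpace m k) [IsClosedImmersion i₂] (h₂ : i₂ ≫ CohB1.ProjSpace.toSpec m k = X₂ ↘ (Spec (CommRingCat.of k))) :
    ∃ j : X₁ ⨿ X₂ ⟶ CohB1.ProjSpace (n + m + 1) k, IsClosedImmersion j ∧
      j ≫ CohB1.ProjSpace.toSpec (n + m + 1) k = coprod.desc (X₁ ↘ (Spec (CommRingCat.of k))) (X₂ ↘ (Spec (CommRingCat.of k))) := by
  let b : Fin (n + 1) → Fin (n + m + 1 + 1) := fun j => ⟨j, by omega⟩
  let b' : Fin (m + 1) → Fin (n + m + 1 + 1) := fun j => ⟨n + 1 + j, by omega⟩
  have hb : Function.Injective b := fun i j h => Fin.ext (by simpa [b] using h)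
  have hb' : Function.Injective b' := fun i j h => Fin.ext (by simpa [b'] using h)
  have hd : Disjoint (Set.range b) (Set.range b') := by
    rw [Set.disjoint_left]
    rintro _ ⟨i, rfl⟩ ⟨j, h⟩
    have := congrArg Fin.val h
    simp [b, b'] at this
    omega
  let S : Scheme.{u} := Spec (CommRingCat.of k)
  have hl := Groth.Chow.isClosedImmersion_linS b hb S
  have hl' := Groth.Chow.isClosedImmersion_linS b' hb' S
  let P := Groth.PnCoh.overIso (n + m + 1) k
  let f : X₁ ⟶ CohB1.ProjSpace (n + m + 1) k :=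
    i₁ ≫ (Groth.PnCoh.overIso n k).hom ≫ Groth.Chow.linS b hb S ≫ P.inv
  let f' : X₂ ⟶ CohB1.ProjSpace (n + m + 1) k :=
    i₂ ≫ (Groth.PnCoh.overIso m k).hom ≫ Groth.Chow.linS b' hb' S ≫ P.inv
  have hdis : Disjoint (Set.range f.base) (Set.range f'.base) := by
    rw [Set.disjoint_left]
    rintro _ ⟨x, rfl⟩ ⟨y, h⟩
    have hP : Function.Injective P.inv.base := P.inv.isClosedEmbedding.injective
    simp only [f, f', Scheme.Hom.comp_apply] at h
    exact Set.disjoint_left.1 (Groth.Chow.disjoint_range_linS b hb b' hb' hd S)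
      ⟨_, rfl⟩ ⟨_, hP h⟩
  refine ⟨coprod.desc f f', isClosedImmersion_coprodDesc_of_disjoint f f' hdis, ?_⟩
  refine coprod.hom_ext ?_ ?_
  · rw [coprod.inl_desc_assoc, coprod.inl_desc, ← h₁]
    simp only [f, P, Category.assoc]
    congr 1
    rw [← Groth.PnCoh.overIso_hom_toBase (n + m + 1) k, Iso.inv_hom_id_assoc,
      Groth.Chow.linS_toBase, Groth.PnCoh.overIso_hom_toBase]
  · rw [coprod.inr_desc_assoc, coprod.inr_desc, ← h₂]
    simp only [f', P, Category.assoc]
    congr 1
    rw [← Groth.PnCoh.overIso_hom_toBase (n + m + 1) k, Iso.inv_hom_id_assoc,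
      Groth.Chow.linS_toBase, Groth.PnCoh.overIso_hom_toBase]

end Groth.Agent.S14066
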