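import Groth.Statements.S14069
import Groth.Agent.Misc6.EtaleFactor
import Mathlib.AlgebraicGeometry.Morphisms.Etale
import Mathlib.AlgebraicGeometry.Morphisms.ClosedImmersion

set_option autoImplicit false
universe u
open CategoryTheory CategoryTheory.Limits AlgebraicGeometry
open scoped TensorProduct
open FamCyc

namespace Groth.Agent.S14069

/-- Let i : S₀ ⟶ S be a closed immersion, p : X ⟶ S a scheme over S, q : Y ⟶ S a smooth morphism, X₀ = X
×_S S₀, x₀ a point of X₀ and f₀ : X₀ ⟶ Y a morphism over S. Then there are a scheme U, an étale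
morphism e : U ⟶ X whose base change U ×_X X₀ ⟶ X₀ is an open immersion whose image contains x₀, and
a morphism f : U ⟶ Y over S whose restriction to U ×_X X₀ equals the restriction of f₀. -/
theorem result {S S₀ X Y : Scheme.{u}} (i : S₀ ⟶ S) [IsClosedImmersion i]
    (p : X ⟶ S) (q : Y ⟶ S) [Smooth q] (f₀ : Limits.pullback p i ⟶ Y)
    (hf₀ : f₀ ≫ q = Limits.pullback.fst p i ≫ p) (x₀ : ↥(Limits.pullback p i)) :
    ∃ (U : Scheme.{u}) (e : U ⟶ X) (f : U ⟶ Y), Etale e ∧ f ≫ q = e ≫ p ∧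
      IsOpenImmersion (Limits.pullback.snd e (Limits.pullback.fst p i)) ∧
      x₀ ∈ Set.range (Limits.pullback.snd e (Limits.pullback.fst p i)).base ∧
      Limits.pullback.snd e (Limits.pullback.fst p i) ≫ f₀ =
        Limits.pullback.fst e (Limits.pullback.fst p i) ≫ f := by
  let j : pullback p i ⟶ X := pullback.fst p i
  haveI : IsClosedImmersion j := inferInstance
  obtain ⟨_, ⟨V, hV, rfl⟩, hyV, -⟩ := S.isBasis_affineOpens.exists_subset_of_mem_open
    (Set.mem_univ (q (f₀ x₀))) isOpen_univ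
  obtain ⟨_, ⟨W, hW, rfl⟩, hyW, hWV⟩ := Y.isBasis_affineOpens.exists_subset_of_mem_open
    (show f₀ x₀ ∈ q ⁻¹ᵁ V from hyV) (q ⁻¹ᵁ V).2
  replace hWV : W ≤ q ⁻¹ᵁ V := hWV
  obtain ⟨O, hO, hOW⟩ := j.isClosedEmbedding.isInducing.isOpen_iff.mp (f₀ ⁻¹ᵁ W).2
  have hpq : p (j x₀) = q (f₀ x₀) := by
    have := congr(($hf₀) x₀)
    simpa [j] using this.symm
  obtain ⟨_, ⟨U', hU', rfl⟩, hxU, hUle⟩ := X.isBasis_affineOpens.exists_subset_of_mem_open
    (show j x₀ ∈ O ∩ (p ⁻¹ᵁ V : X.Opens) from ⟨(Set.ext_iff.mp hOW x₀).mpr hyW, show p (j x₀) ∈ V by rw [hpq]; exact hyV⟩)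
    (hO.inter (p ⁻¹ᵁ V).2)
  have hpV : U' ≤ p ⁻¹ᵁ V := fun z hz => (hUle hz).2
  have hfW : j ⁻¹ᵁ U' ≤ f₀ ⁻¹ᵁ W := fun z hz => (Set.ext_iff.mp hOW z).mp (hUle hz).1
  have hD : IsAffineOpen (j ⁻¹ᵁ U') := hU'.preimage j
  let A : Type u := Γ(X, U')
  let T₀ : Type u := Γ(Y, W)
  let D : Type u := Γ(pullback p i, j ⁻¹ᵁ U')
  let pA := p.appLE V U' hpV
  let qT := q.appLE V W hWV
  let φ := j.app U'
  let fD := f₀.appLE W (j ⁻¹ᵁ U') hfW
  letI := pA.hom.toAlgebra
  letI := qT.hom.toAlgebra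
  letI := φ.hom.toAlgebra
  letI : Algebra Γ(S, V) D := (φ.hom.comp pA.hom).toAlgebra
  haveI : IsScalarTower Γ(S, V) A D := IsScalarTower.of_algebraMap_eq' rfl
  haveI : Algebra.Smooth Γ(S, V) T₀ :=
    RingHom.smooth_algebraMap.mp (Scheme.Hom.smooth_appLE q hV hW hWV)
  have hfD : ∀ r : Γ(S, V), fD (qT r) = φ (pA r) := fun r => by
    have e : qT ≫ fD = pA ≫ φ := by
      simp only [qT, fD, pA, φ, Scheme.Hom.app_eq_appLE]
      rw [Scheme.Hom.appLE_comp_appLE, Scheme.Hom.appLE_comp_appLE]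
      simp only [hf₀, j]
    exact congr($e r)
  let fDa : T₀ →ₐ[Γ(S, V)] D := { fD.hom with commutes' := hfD }
  obtain ⟨E, _, _, τ, ρ, _, hρs, hρk, hτ⟩ :=
    Groth.Misc6.exists_etale_factor_iso (T := TensorProduct Γ(S, V) A T₀) (D := D)
      ((j.app_surjective U' hU'))
      (Algebra.TensorProduct.lift (Algebra.ofId A D) fDa fun _ _ => Commute.all _ _)
  let eE : A →+* E := algebraMap A E
  let e : Spec (CommRingCat.of E) ⟶ X := Spec.map (CommRingCat.ofHom eE) ≫ hU'.fromSpec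
  let g : Γ(Y, W) ⟶ CommRingCat.of E := CommRingCat.ofHom
    ((τ.toRingHom).comp (Algebra.TensorProduct.includeRight (R := Γ(S, V)) (A := A) (B := T₀)).toRingHom)
  let f : Spec (CommRingCat.of E) ⟶ Y := Spec.map g ≫ hW.fromSpec
  let ρh : CommRingCat.of E ⟶ Γ(pullback p i, j ⁻¹ᵁ U') := CommRingCat.ofHom ρ.toRingHom
  have hg1 : qT ≫ g = pA ≫ CommRingCat.ofHom eE := by
    ext r
    change τ ((1 : A) ⊗ₜ[Γ(S, V)] (algebraMap Γ(S, V) T₀ r)) = algebraMap A E (algebraMap Γ(S, V) A r)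
    rw [← AlgHom.commutes τ, Algebra.TensorProduct.algebraMap_apply, Algebra.algebraMap_self_apply,
      Algebra.algebraMap_eq_smul_one r, Algebra.algebraMap_eq_smul_one (A := A) r,
      TensorProduct.tmul_smul, TensorProduct.smul_tmul']
  have hg2 : g ≫ ρh = fD := by
    ext t
    change ρ (τ ((1 : A) ⊗ₜ[Γ(S, V)] t)) = fD t
    rw [← AlgHom.comp_apply, hτ]
    simp [fDa]
  have hφρ : CommRingCat.ofHom eE ≫ ρh = φ := by ext a; exact ρ.commutes a
  have hpo : IsPushout (CommRingCat.ofHom eE) φ ρh (𝟙 _) := by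
    refine ⟨⟨by rw [Category.comp_id, hφρ]⟩, ⟨PushoutCocone.isColimitAux' _ fun s => ?_⟩⟩
    refine ⟨s.inr, ?_, Category.id_comp _, fun {m} _ hm => by rw [← hm]; exact (Category.id_comp m).symm⟩
    change ρh ≫ s.inr = s.inl
    have hA : ∀ a, s.inl (algebraMap A E a) = s.inr (φ a) := fun a => congr($(s.condition) a)
    ext z
    obtain ⟨a, ha⟩ := (j.app_surjective U' hU') (ρ z)
    have hz : z - algebraMap A E a ∈ RingHom.ker ρ := by
      rw [RingHom.mem_ker, map_sub, AlgHom.commutes, sub_eq_zero]; exact ha.symm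
    have hle : RingHom.ker ρ ≤ RingHom.ker s.inl.hom := by
      rw [hρk]
      refine Ideal.map_le_iff_le_comap.mpr fun c hc => ?_
      change s.inl (algebraMap A E c) = 0
      rw [hA, show φ c = 0 from hc, map_zero]
    have := hle hz
    rw [RingHom.mem_ker, map_sub, sub_eq_zero] at this
    change s.inr (ρ z) = s.inl z
    rw [← ha, ← hA]
    exact this.symm
  have hsqc : hD.fromSpec ≫ j = Spec.map φ ≫ hU'.fromSpec := by
    rw [← IsAffineOpen.SpecMap_appLE_fromSpec j hU' hD le_rfl]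
    simp [φ, Scheme.Hom.app_eq_appLE]
  have hsq : IsPullback hD.fromSpec (Spec.map φ) j hU'.fromSpec :=
    (IsOpenImmersion.isPullback (Spec.map φ) hD.fromSpec hU'.fromSpec j hsqc
      (by rw [hD.opensRange_fromSpec, hU'.opensRange_fromSpec])).flip
  have hbig : IsPullback (Spec.map ρh) hD.fromSpec e j := by
    have h2 := isPullback_SpecMap_of_isPushout _ _ _ _ hpo
    have h3 := h2.paste_vert hsq.flip
    simpa [e] using h3
  have hsnd : pullback.snd e j = hbig.isoPullback.inv ≫ hD.fromSpec :=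
    (hbig.isoPullback_inv_snd).symm
  have hfst : pullback.fst e j = hbig.isoPullback.inv ≫ Spec.map ρh :=
    (hbig.isoPullback_inv_fst).symm
  haveI : Etale (Spec.map (CommRingCat.ofHom eE)) :=
    HasRingHomProperty.Spec_iff.mpr (RingHom.etale_algebraMap.mpr ‹_›)
  refine ⟨Spec (CommRingCat.of E), e, f, inferInstance, ?_, ?_, ?_, ?_⟩
  · simp only [f, e, Category.assoc]
    rw [← IsAffineOpen.SpecMap_appLE_fromSpec q hV hW hWV, ← IsAffineOpen.SpecMap_appLE_fromSpec p hV hU' hpV,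
      ← Spec.map_comp_assoc, ← Spec.map_comp_assoc, hg1]
  · show IsOpenImmersion (pullback.snd e j)
    rw [hsnd]; infer_instance
  · show x₀ ∈ Set.range (pullback.snd e j).base
    obtain ⟨z, hz⟩ : x₀ ∈ Set.range hD.fromSpec := by rw [hD.range_fromSpec]; exact hxU
    refine ⟨hbig.isoPullback.hom z, ?_⟩
    change pullback.snd e j (hbig.isoPullback.hom z) = x₀
    rw [← Scheme.Hom.comp_apply, hbig.isoPullback_hom_snd, hz]
  · show pullback.snd e j ≫ f₀ = pullback.fst e j ≫ f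
    rw [hsnd, hfst, Category.assoc, Category.assoc]
    congr 1
    rw [← IsAffineOpen.SpecMap_appLE_fromSpec f₀ hW hD hfW, show f₀.appLE W (j ⁻¹ᵁ U') hfW = g ≫ ρh from hg2.symm,
      Spec.map_comp, Category.assoc]

end Groth.Agent.S14069
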