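import Groth.Statements.S14073
import Groth.Agent.Misc6.FFRDet
import Mathlib.LinearAlgebra.Charpoly.BaseChange
-- import your own Groth.Agent.* helpers here

set_option autoImplicit false
universe u
open FamCyc

namespace Groth.Agent.S14073

/-- Let A be a Noetherian ring, M an A-module with a finite resolution by finite free modules, and φ an
endomorphism of M. Then there is a unique element of A (the determinant of φ) whose image in A_p is
the determinant of the localized endomorphism φ_p of the free A_p-module M_p, for every prime p of A
at which M_p is free. -/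
theorem result (A : Type u) [CommRing A] [IsNoetherianRing A]
    (M : Type u) [AddCommGroup M] [Module A M] (n : ℕ) (hM : FamCyc.HasFiniteFreeResolutionLE A n M)
    (φ : M →ₗ[A] M) :
    ∃! a : A, ∀ (p : Ideal A) [p.IsPrime],
      Module.Free (Localization.AtPrime p) (LocalizedModule p.primeCompl M) →
        algebraMap A (Localization.AtPrime p) a =
          LinearMap.det (LocalizedModule.map p.primeCompl φ) := by
  classical
  rcases subsingleton_or_nontrivial A with hA | hA
  · exact ⟨0, fun p hp _ => absurd (Subsingleton.elim p ⊤) hp.ne_top, fun b _ => Subsingleton.elim _ _⟩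
  haveI := Groth.Misc6.FFRDet.finite_of_le hM
  obtain ⟨χ, hχ, hχp⟩ := Groth.Misc6.FFRDet.exists_charpoly hM φ
  refine ⟨(-1) ^ χ.natDegree * χ.coeff 0, fun p hp hfree => ?_, fun b hb => ?_⟩
  · haveI := Groth.Misc6.FFRDet.finite_localized A p M
    have h := hχp p
    rw [LinearMap.det_eq_sign_charpoly_coeff, map_mul, map_pow, map_neg, map_one,
      ← Polynomial.coeff_map, h, ← LinearMap.charpoly_natDegree (LocalizedModule.map p.primeCompl φ),
      ← h, hχ.natDegree_map]
  · by_contra hne
    let a := (-1 : A) ^ χ.natDegree * χ.coeff 0
    obtain ⟨p, hp, hle⟩ := exists_le_isAssociatedPrime_of_isNoetherianRing A (b - a) (sub_ne_zero.2 hne)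
    haveI := hp.isPrime
    haveI := Groth.Misc6.FFRDet.free_at_ass p hp hM
    haveI := Groth.Misc6.FFRDet.finite_localized A p M
    have h := hχp p
    have e : algebraMap A (Localization.AtPrime p) a =
        LinearMap.det (LocalizedModule.map p.primeCompl φ) := by
      rw [LinearMap.det_eq_sign_charpoly_coeff, map_mul, map_pow, map_neg, map_one,
        ← Polynomial.coeff_map, h, ← LinearMap.charpoly_natDegree (LocalizedModule.map p.primeCompl φ),
        ← h, hχ.natDegree_map]
    rw [← hb p inferInstance, IsLocalization.eq_iff_exists p.primeCompl] at e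
    obtain ⟨c, hc⟩ := e
    refine c.2 (hle ?_)
    rw [Submodule.mem_colon_singleton, Submodule.mem_bot, smul_eq_mul, mul_sub, hc, sub_self]

end Groth.Agent.S14073
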