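import Groth.Statements.S14075
import Groth.Agent.Misc6.Equidim

set_option autoImplicit false
open CategoryTheory AlgebraicGeometry
universe u
open FamCyc

namespace Groth.Agent.S14075

/-- Let f : X ⟶ S be locally of finite type and universally open. Then every point x of X lies on an
irreducible component W of X, given its reduced subscheme structure, such that W ⟶ S is
equidimensional at x. -/
theorem result {X S : Scheme.{u}} (f : X ⟶ S) [LocallyOfFiniteType f]
    [UniversallyOpen f] (x : X) :
    ∃ W : TopologicalSpace.Closeds X, (W : Set X) ∈ irreducibleComponents (X : Type u) ∧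
      ∃ w : ↥((Scheme.IdealSheafData.vanishingIdeal W).subscheme),
        (Scheme.IdealSheafData.vanishingIdeal W).subschemeι.base w = x ∧
        EGA43.IsEquidimAt ((Scheme.IdealSheafData.vanishingIdeal W).subschemeι ≫ f) w := by
  obtain ⟨η, hηs, hη⟩ := Groth.FibreDim.exists_genericPoint_specializes (f.base x)
  obtain ⟨a, hax, hfa, hd⟩ := Groth.Misc6.Equidim.exists_generalization_of_universallyOpen f x hηs
  obtain ⟨ξ, hξa, hξ⟩ := Groth.FibreDim.exists_genericPoint_specializes a
  have hfξ : f.base ξ = η := by
    have h1 : f.base ξ ⤳ η := hfa ▸ hξa.map f.continuous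
    exact (h1.antisymm (Scheme.le_iff_specializes.1
      (Groth.FibreDim.isMax_of_mem_genericPoints hη (Scheme.le_iff_specializes.2 h1)))).eq
  exact Groth.Misc6.Equidim.exists_component_isEquidimAt f hξ (hξa.trans hax) (hfξ ▸ hη)
    (hd.trans (WithBot.coe_le_coe.2 (Groth.Misc6.Equidim.fh_mono f hξa (hfξ.trans hfa.symm))))

end Groth.Agent.S14075
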