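import Groth.Statements.S14077
import Groth.Agent.Misc6.InfDescent.Stable
import Groth.Agent.SubDescent.Closed
import Mathlib.AlgebraicGeometry.Morphisms.LocalFlatDescent

set_option autoImplicit false
open CategoryTheory CategoryTheory.Limits AlgebraicGeometry
universe u
open FamCyc

namespace Groth.Agent.S14077

/-- Let p : X ⟶ S be flat and locally of finite presentation and g : G ⟶ S proper and smooth with
geometrically connected fibres. Let S₀ ⟶ S be the closed subscheme defined by the nilradical, X₀ = X
×_S S₀, and Z₀ a closed subscheme of X₀, locally of finite presentation and flat over S₀. Let W be a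
closed subscheme of X ×_S G, flat and locally of finite presentation over G, whose preimage in (X
×_S G) ×_S S₀ coincides with the preimage of Z₀. Then there is exactly one closed subscheme Z of X,
flat and locally of finite presentation over S, whose preimage in X₀ is Z₀ and whose preimage in X
×_S G is W. (The published statement allows locally closed subschemes and asks W ⟶ G to be flat and
finitely presented only over a schematically dense open subset containing all points of relative
codimension one over Z₀; this row states the case where that open subset is all of W and the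
subschemes are closed.) -/
theorem result {S X G : Scheme.{u}}
    (p : X ⟶ S) [Flat p] [LocallyOfFinitePresentation p]
    (g : G ⟶ S) [IsProper g] [Smooth g] [GeometricallyConnected g]
    (Z₀ : (pullback p S.nilradical.subschemeι).IdealSheafData)
    [Flat (Z₀.subschemeι ≫ pullback.snd p S.nilradical.subschemeι)]
    [LocallyOfFinitePresentation (Z₀.subschemeι ≫ pullback.snd p S.nilradical.subschemeι)]
    (W : (pullback p g).IdealSheafData)
    [Flat (W.subschemeι ≫ pullback.snd p g)] [LocallyOfFinitePresentation (W.subschemeι ≫ pullback.snd p g)]
    (hW : W.comap (pullback.fst (pullback.fst p g ≫ p) S.nilradical.subschemeι) =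
      Z₀.comap (pullback.map (pullback.fst p g ≫ p) S.nilradical.subschemeι p S.nilradical.subschemeι
        (pullback.fst p g) (𝟙 _) (𝟙 S) (Category.comp_id _)
        ((Category.comp_id _).trans (Category.id_comp _).symm))) :
    ∃! Z : X.IdealSheafData, Flat (Z.subschemeι ≫ p) ∧ LocallyOfFinitePresentation (Z.subschemeι ≫ p) ∧
      Z.comap (pullback.fst p S.nilradical.subschemeι) = Z₀ ∧ Z.comap (pullback.fst p g) = W := by
  let π := pullback.fst p g
  let ι₀ := S.nilradical.subschemeι
  let M := pullback.map (π ≫ p) ι₀ p ι₀ π (𝟙 _) (𝟙 S) (Category.comp_id _)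
    ((Category.comp_id _).trans (Category.id_comp _).symm)
  haveI : Flat π := MorphismProperty.pullback_fst _ _ inferInstance
  haveI : Surjective π := MorphismProperty.pullback_fst _ _ inferInstance
  haveI : QuasiCompact π := MorphismProperty.pullback_fst _ _ inferInstance
  have hM : IsPullback (pullback.fst (π ≫ p) ι₀) M π (pullback.fst p ι₀) := by
    refine IsPullback.of_bot ?_ (pullback.lift_fst ..).symm (IsPullback.of_hasPullback p ι₀)
    rw [show M ≫ pullback.snd p ι₀ = pullback.snd (π ≫ p) ι₀ from
      (pullback.lift_snd ..).trans (Category.comp_id _)]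
    exact IsPullback.of_hasPullback _ _
  haveI : Flat M := MorphismProperty.of_isPullback hM inferInstance
  haveI : Surjective M := MorphismProperty.of_isPullback hM inferInstance
  have hstab := Groth.Misc6.InfDescent.stable p g W fun z₁ z₂ h ⟨w, hw⟩ => by
    have h2 : z₂ ≫ π ≫ p = w ≫ ι₀ := by
      rw [← hw, ← Category.assoc, ← h, Category.assoc]
    have key : ∀ z, (hz : z ≫ π ≫ p = w ≫ ι₀) →
        W.comap z = Z₀.comap (pullback.lift (z ≫ π) w (by rw [Category.assoc, hz])) := by
      intro z hz
      let L := pullback.lift z w hz
      have hL : L ≫ M = pullback.lift (z ≫ π) w (by rw [Category.assoc, hz]) := by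
        apply pullback.hom_ext
        · rw [pullback.lift_fst, Category.assoc, show M ≫ pullback.fst p ι₀ = _ from pullback.lift_fst ..]
          rw [← Category.assoc, show L ≫ pullback.fst (π ≫ p) ι₀ = z from pullback.lift_fst ..]
        · rw [pullback.lift_snd, Category.assoc, show M ≫ pullback.snd p ι₀ = _ from
            (pullback.lift_snd ..).trans (Category.comp_id _)]
          exact pullback.lift_snd ..
      rw [← hL, Scheme.IdealSheafData.comap_comp, ← hW, ← Scheme.IdealSheafData.comap_comp]
      congr 1
      exact (pullback.lift_fst ..).symm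
    rw [key z₁ hw, key z₂ h2]
    congr 1
    apply pullback.hom_ext
    · rw [pullback.lift_fst, pullback.lift_fst]; exact h
    · rw [pullback.lift_snd, pullback.lift_snd]
  let Z := W.map π
  have hZW : Z.comap π = W := Groth.SubDescent.comap_map_eq_of_stable π W hstab
  have hZ₀ : Z.comap (pullback.fst p ι₀) = Z₀ := by
    apply Groth.EtaleAlgebra.IdealSheafDescent.comap_injective M
    show (Z.comap (pullback.fst p ι₀)).comap M = Z₀.comap M
    rw [← Scheme.IdealSheafData.comap_comp, ← hM.w, Scheme.IdealSheafData.comap_comp, hZW]
    exact hW
  refine ⟨Z, ⟨?_, ?_, hZ₀, hZW⟩, fun Z' hZ' =>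
    Groth.EtaleAlgebra.IdealSheafDescent.comap_injective π (hZ'.2.2.2.trans hZW.symm)⟩
  all_goals
    have sq0 := (Groth.Misc6.InfDescent.isPullback_comap π Z).flip.paste_horiz
      (IsPullback.of_hasPullback p g).flip
    have hf1 : Flat ((Z.comap π).subschemeι ≫ pullback.snd p g) := hZW.symm ▸ inferInstance
    have hf2 : LocallyOfFinitePresentation ((Z.comap π).subschemeι ≫ pullback.snd p g) :=
      hZW.symm ▸ inferInstance
  · refine Flat.iff_flat_stalkMap _ |>.2 fun z => ?_
    set v := (Z.comapIso π).hom ≫ pullback.snd π Z.subschemeι with hv
    have sqv := Groth.Misc6.InfDescent.isPullback_comap π Z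
    rw [← hv] at sqv
    haveI : Flat v := MorphismProperty.of_isPullback sqv.flip inferInstance
    haveI : Surjective v := MorphismProperty.of_isPullback sqv.flip inferInstance
    obtain ⟨z', rfl⟩ := v.surjective z
    have hflat : Flat (v ≫ Z.subschemeι ≫ p) := by
      rw [reassoc_of% sqv.w, show π ≫ p = pullback.snd p g ≫ g from pullback.condition, ← Category.assoc]
      infer_instance
    exact Groth.AlgSp2.FlatFib.flat_at_of_comp v (Z.subschemeι ≫ p) z' (Flat.stalkMap v z')
      (Flat.stalkMap (v ≫ Z.subschemeι ≫ p) z')
  · exact MorphismProperty.of_isPullback_of_descendsAlong (P := @LocallyOfFinitePresentation)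
      (Q := @Surjective ⊓ @Flat ⊓ @QuasiCompact) sq0 ⟨⟨inferInstance, inferInstance⟩, inferInstance⟩
      inferInstance

end Groth.Agent.S14077
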