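import Groth.Statements.S14079
import Groth.Agent.Misc6.Equidim

set_option autoImplicit false
open CategoryTheory AlgebraicGeometry
universe u
open FamCyc

namespace Groth.Agent.S14079

/-- (iv) ⇒ (iii): let f : X ⟶ S be locally of finite type. Suppose that every point x of X which is a
maximal point of its fibre (no other point of the fibre over f x specializes to x) lies on an
irreducible component W of X, given its reduced subscheme structure, with W ⟶ S equidimensional at
x. Then every point of X lies on such an irreducible component. -/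
theorem result {X S : Scheme.{u}} (f : X ⟶ S) [LocallyOfFiniteType f]
    (h : ∀ x : X, (∀ x' : X, f.base x' = f.base x → x ∈ closure ({x'} : Set X) → x' = x) →
      ∃ W : TopologicalSpace.Closeds X, (W : Set X) ∈ irreducibleComponents (X : Type u) ∧
      ∃ w : ↥((Scheme.IdealSheafData.vanishingIdeal W).subscheme),
        (Scheme.IdealSheafData.vanishingIdeal W).subschemeι.base w = x ∧
        EGA43.IsEquidimAt ((Scheme.IdealSheafData.vanishingIdeal W).subschemeι ≫ f) w)
    (x : X) :
    ∃ W : TopologicalSpace.Closeds X, (W : Set X) ∈ irreducibleComponents (X : Type u) ∧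
      ∃ w : ↥((Scheme.IdealSheafData.vanishingIdeal W).subscheme),
        (Scheme.IdealSheafData.vanishingIdeal W).subschemeι.base w = x ∧
        EGA43.IsEquidimAt ((Scheme.IdealSheafData.vanishingIdeal W).subschemeι ≫ f) w := by
  obtain ⟨a, hax, hfa, hd⟩ := Groth.Misc6.Equidim.exists_fh_eq f x
  -- a maximal point of the fibre above `a`
  obtain ⟨z, hz⟩ : a ∈ Set.range (f.fiberι (f.base x)).base := (f.range_fiberι _).ge hfa
  obtain ⟨ζ, hζz, hζ⟩ := Groth.FibreDim.exists_genericPoint_specializes z
  set x' := (f.fiberι (f.base x)).base ζ with hx'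
  have hfx' : f.base x' = f.base x := Groth.FibreDim.apply_fiberι f _ ζ
  have hx'a : x' ⤳ a := hz ▸ hζz.map (f.fiberι (f.base x)).continuous
  have hmax : ∀ x'' : X, f.base x'' = f.base x' → x' ∈ closure ({x''} : Set X) → x'' = x' := by
    intro x'' he hc
    obtain ⟨w, hw⟩ : x'' ∈ Set.range (f.fiberι (f.base x)).base :=
      (f.range_fiberι _).ge (he.trans hfx')
    have hwζ : w ⤳ ζ := (f.fiberι _).isEmbedding.toIsInducing.specializes_iff.1
      (by rw [hw]; exact specializes_iff_mem_closure.2 hc)
    rw [← hw, hx', (hwζ.antisymm (Scheme.le_iff_specializes.1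
      (Groth.FibreDim.isMax_of_mem_genericPoints hζ (Scheme.le_iff_specializes.2 hwζ)))).eq]
  obtain ⟨W, hW, w, hw, hwe⟩ := h x' hmax
  set ι := (Scheme.IdealSheafData.vanishingIdeal W).subschemeι with hι
  have hrange : Set.range ι.base = (W : Set X) := by
    rw [hι, Scheme.IdealSheafData.range_subschemeι, Scheme.IdealSheafData.coe_support_vanishingIdeal]
  have hη := hW.1.isGenericPoint_genericPoint W.isClosed
  set η := hW.1.genericPoint
  have hx'W : x' ∈ (W : Set X) := hw ▸ hrange.le ⟨w, rfl⟩
  have hηx' : η ⤳ x' := hη.specializes hx'W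
  obtain ⟨ξ, hξ⟩ : η ∈ Set.range ι.base := hrange.ge hη.mem
  have hξmax : IsMax ξ := fun v _ => by
    have h1 : η ⤳ ι.base v := hη.specializes (hrange.le ⟨v, rfl⟩)
    rw [← hξ] at h1
    exact Scheme.le_iff_specializes.2 (ι.isEmbedding.toIsInducing.specializes_iff.1 h1)
  have hξw : ξ ⤳ w := ι.isEmbedding.toIsInducing.specializes_iff.1 (by rw [hξ, hw]; exact hηx')
  have hξc : closure {ξ} ∈ irreducibleComponents ((Scheme.IdealSheafData.vanishingIdeal W).subscheme : Type u) := by
    obtain ⟨g, hg1, hg2⟩ := Groth.FibreDim.exists_genericPoint_specializes ξ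
    rwa [(hg1.antisymm (Scheme.le_iff_specializes.1 (hξmax (Scheme.le_iff_specializes.2 hg1)))).eq] at hg2
  obtain ⟨hS, he⟩ := Groth.Misc6.Equidim.of_isEquidimAt (ι ≫ f) hwe hξc hξw
  rw [Scheme.Hom.comp_apply, hξ] at hS
  refine Groth.Misc6.Equidim.exists_component_isEquidimAt f (hη.def.symm ▸ hW)
    (hηx'.trans (hx'a.trans hax)) hS ?_
  rw [← hd]
  refine le_trans (WithBot.coe_le_coe.2 (Groth.Misc6.Equidim.fh_mono f hx'a (hfx'.trans hfa.symm))) ?_
  rw [← hw, ← hξ, ← Groth.Misc6.Equidim.fh_comp_preimmersion f ι w, ← Groth.Misc6.Equidim.fh_comp_preimmersion f ι ξ, ← he]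
  exact Groth.Misc6.Equidim.fh_le_fibreDimAt _ w

end Groth.Agent.S14079
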