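import Groth.Statements.S14080
import Mathlib
import Groth.Agent.Misc6.PSEnd
-- import your own Groth.Agent.* helpers here

set_option autoImplicit false
universe u
open ArSing

namespace Groth.Agent.S14080

/-- Let k be a field in which 2 is invertible and σ an involutive k-algebra automorphism of the power
series ring k[[t]], with ξ the coefficient of t in σ(t). Then ξ^2 = 1, the k-algebra endomorphism φ
with φ(t) = (t + ξ σ(t))/2 is an automorphism, and φ⁻¹ σ φ is the automorphism t ↦ ξ t. (The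
published statement is over an algebraically closed field of characteristic prime to 2; only the
invertibility of 2 is used, so any field with 2 ≠ 0 is allowed here.) -/
theorem result (k : Type u) [Field k] (h2 : (2 : k) ≠ 0)
    (σ : PowerSeries k ≃ₐ[k] PowerSeries k) (hσ : ∀ f, σ (σ f) = f) :
    (PowerSeries.coeff 1 (σ PowerSeries.X)) ^ 2 = 1 ∧
    ∃ φ : PowerSeries k ≃ₐ[k] PowerSeries k,
      φ PowerSeries.X = PowerSeries.C (2⁻¹ : k) *
        (PowerSeries.X + PowerSeries.C (PowerSeries.coeff 1 (σ PowerSeries.X)) * σ PowerSeries.X) ∧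
      ∀ f, φ.symm (σ (φ f)) = PowerSeries.rescale (PowerSeries.coeff 1 (σ PowerSeries.X)) f := by
  set ξ := PowerSeries.coeff 1 (σ PowerSeries.X) with hξ
  have h0 := Groth.Misc6.psEnd_constantCoeff σ.toAlgHom
  obtain ⟨w, hw⟩ := PowerSeries.X_dvd_iff.2 h0
  have hσ0 : σ PowerSeries.X = PowerSeries.X * w := hw
  have hw1 : PowerSeries.constantCoeff w = ξ := by
    rw [hξ, hσ0, ← PowerSeries.coeff_zero_eq_constantCoeff_apply, PowerSeries.coeff_succ_X_mul]
  have hccw : PowerSeries.constantCoeff (σ w) = ξ := by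
    have hsub : PowerSeries.constantCoeff (σ (w - PowerSeries.C ξ)) = 0 := by
      obtain ⟨z, hz⟩ : PowerSeries.X ∣ w - PowerSeries.C ξ := PowerSeries.X_dvd_iff.2 (by simp [hw1])
      rw [hz, map_mul, hσ0]; simp
    rw [map_sub, ← PowerSeries.algebraMap_eq, AlgEquiv.commutes, map_sub, PowerSeries.algebraMap_eq, PowerSeries.constantCoeff_C, sub_eq_zero] at hsub
    exact hsub
  have hξ2 : ξ ^ 2 = 1 := by
    have e := hσ PowerSeries.X
    conv_lhs at e => rw [hσ0, map_mul, hσ0]
    have := congrArg (PowerSeries.coeff 1) e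
    rw [PowerSeries.coeff_one_X, mul_assoc, PowerSeries.coeff_succ_X_mul, PowerSeries.coeff_zero_eq_constantCoeff_apply, map_mul, hw1, hccw] at this
    rw [sq]; exact this
  refine ⟨hξ2, ?_⟩
  set v := PowerSeries.C (2⁻¹ : k) * (PowerSeries.X + PowerSeries.C ξ * σ PowerSeries.X) with hv
  have hv1 : PowerSeries.coeff 1 v = 1 := by
    rw [hv, PowerSeries.coeff_C_mul, map_add, PowerSeries.coeff_one_X, PowerSeries.coeff_C_mul, ← hξ, ← sq, hξ2,
      one_add_one_eq_two, inv_mul_cancel₀ h2]
  obtain ⟨φ, hφ⟩ := Groth.Misc6.psEnd_exists_equiv v (by simp [hv, hσ0]) (by rw [hv1]; exact one_ne_zero)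
  refine ⟨φ, hφ, fun f => ?_⟩
  have hs : σ v = PowerSeries.C ξ * v := by
    rw [hv, map_mul, map_add, map_mul, hσ, ← PowerSeries.algebraMap_eq, AlgEquiv.commutes, AlgEquiv.commutes]
    have : (algebraMap k (PowerSeries k) ξ) * algebraMap k (PowerSeries k) ξ = 1 := by rw [← map_mul, ← sq, hξ2, map_one]
    linear_combination (-(algebraMap k (PowerSeries k) 2⁻¹ * σ PowerSeries.X)) * this
  have key : φ.symm.toAlgHom.comp (σ.toAlgHom.comp φ.toAlgHom) = PowerSeries.rescaleAlgHom ξ := by
    apply Groth.Misc6.psEnd_ext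
    show φ.symm (σ (φ PowerSeries.X)) = PowerSeries.rescaleAlgHom ξ PowerSeries.X
    rw [hφ, hs, map_mul, ← hφ, AlgEquiv.symm_apply_apply, ← PowerSeries.algebraMap_eq, AlgEquiv.commutes,
      show PowerSeries.rescaleAlgHom ξ PowerSeries.X = PowerSeries.rescale ξ PowerSeries.X from DFunLike.congr_fun (PowerSeries.coe_rescaleAlgHom ξ) _, PowerSeries.rescale_X, PowerSeries.algebraMap_eq]
  have := DFunLike.congr_fun key f
  exact this.trans (DFunLike.congr_fun (PowerSeries.coe_rescaleAlgHom ξ) f)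

end Groth.Agent.S14080
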