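import Groth.Statements.S14081
import Mathlib
import Groth.Agent.Misc6.ArInvol

set_option autoImplicit false
universe u
open ArSing

namespace Groth.Agent.S14081

/-- Over an algebraically closed field k of characteristic prime to 2 and to r+1, with r even, every
non-trivial k-algebra involution σ of A_r = k[[x,y]]/(y^2 - x^(r+1)) is conjugate, by a k-algebra
automorphism φ of A_r, to the involution x ↦ x, y ↦ -y (that is, φ⁻¹σφ fixes the class of x and
negates the class of y). -/
theorem result (k : Type u) [Field k] [IsAlgClosed k] (r : ℕ)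
    (h2 : (2 : k) ≠ 0) (hr : ((r + 1 : ℕ) : k) ≠ 0) (hev : Even r)
    (σ : ArSing.ring k r ≃ₐ[k] ArSing.ring k r) (hσ : ∀ a, σ (σ a) = a) (hne : σ ≠ AlgEquiv.refl) :
    ∃ φ : ArSing.ring k r ≃ₐ[k] ArSing.ring k r,
      φ.symm (σ (φ (ArSing.x k r))) = ArSing.x k r ∧
      φ.symm (σ (φ (ArSing.y k r))) = -ArSing.y k r := by
  rcases Nat.eq_zero_or_pos r with rfl | hpos
  · exact Groth.Misc6.Ar.involution_zero h2 σ hσ hne
  obtain ⟨m, rfl⟩ := hev
  obtain ⟨φ, μ, c, hμ, hc, hμR, hne', hx, hy⟩ := Groth.Misc6.Ar.involution_diag h2 (by omega) σ hσ hne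
  have hμ' := sq_eq_one_iff.1 hμ
  have hc' := sq_eq_one_iff.1 hc
  have hμ1 : μ = 1 := by
    rcases hμ' with h | h
    · exact h
    · rw [h, Odd.neg_one_pow ⟨m, by ring⟩] at hμR
      exact h.trans hμR
  have hc1 : c = -1 := hc'.resolve_left fun h => hne' ⟨hμ1, h⟩
  exact ⟨φ, by rw [hx, hμ1, one_smul], by rw [hy, hc1, neg_one_smul]⟩

end Groth.Agent.S14081
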