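import Groth.Statements.S14082
import Mathlib
import Groth.Agent.Misc6.ArInvol

set_option autoImplicit false
universe u
open ArSing

namespace Groth.Agent.S14082

/-- Over an algebraically closed field k of characteristic prime to 2 and to r+1, with r odd and r ≥ 3,
every non-trivial k-algebra involution σ of A_r = k[[x,y]]/(y^2 - x^(r+1)) is conjugate, by a
k-algebra automorphism φ of A_r, to one of the three involutions (x, y) ↦ (x, -y), (x, y) ↦ (-x, y),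
(x, y) ↦ (-x, -y). -/
theorem result (k : Type u) [Field k] [IsAlgClosed k] (r : ℕ)
    (h2 : (2 : k) ≠ 0) (hr : ((r + 1 : ℕ) : k) ≠ 0) (hodd : Odd r) (h3 : 3 ≤ r)
    (σ : ArSing.ring k r ≃ₐ[k] ArSing.ring k r) (hσ : ∀ a, σ (σ a) = a) (hne : σ ≠ AlgEquiv.refl) :
    ∃ φ : ArSing.ring k r ≃ₐ[k] ArSing.ring k r,
      (φ.symm (σ (φ (ArSing.x k r))) = ArSing.x k r ∧ φ.symm (σ (φ (ArSing.y k r))) = -ArSing.y k r) ∨
      (φ.symm (σ (φ (ArSing.x k r))) = -ArSing.x k r ∧ φ.symm (σ (φ (ArSing.y k r))) = ArSing.y k r) ∨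
      (φ.symm (σ (φ (ArSing.x k r))) = -ArSing.x k r ∧ φ.symm (σ (φ (ArSing.y k r))) = -ArSing.y k r) := by
  obtain ⟨φ, μ, c, hμ, hc, hμR, hne', hx, hy⟩ := Groth.Misc6.Ar.involution_diag h2 (by omega) σ hσ hne
  have hμ' := sq_eq_one_iff.1 hμ
  have hc' := sq_eq_one_iff.1 hc
  refine ⟨φ, ?_⟩
  rcases hμ' with hμ1 | hμ1 <;> rcases hc' with hc1 | hc1
  · exact absurd ⟨hμ1, hc1⟩ hne'
  · exact Or.inl ⟨by rw [hx, hμ1, one_smul], by rw [hy, hc1, neg_one_smul]⟩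
  · exact Or.inr (Or.inl ⟨by rw [hx, hμ1, neg_one_smul], by rw [hy, hc1, one_smul]⟩)
  · exact Or.inr (Or.inr ⟨by rw [hx, hμ1, neg_one_smul], by rw [hy, hc1, neg_one_smul]⟩)

end Groth.Agent.S14082
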