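import Groth.Statements.S14084
import Groth.Agent.ArPlane.Basic
import Groth.Agent.S7925
-- import your own Groth.Agent.* helpers here

set_option autoImplicit false
universe u
open ArSing

namespace Groth.Agent.S14084

section Helpers

open IsLocalRing Groth.ArPlane

/-- The node. -/
noncomputable abbrev nodeEqn (k : Type u) [Field k] : MvPowerSeries (Fin 2) k :=
  MvPowerSeries.X 1 ^ 2 - MvPowerSeries.X 0 ^ 2

variable {k : Type u} [Field k]

theorem node_factor : nodeEqn k =
    (MvPowerSeries.X 0 + MvPowerSeries.X 1) * (MvPowerSeries.X 1 - MvPowerSeries.X 0) := by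
  unfold nodeEqn; ring

/-- The constant term on the node. -/
noncomputable def cc (k : Type u) [Field k] : germ (nodeEqn k) →+* k :=
  Ideal.Quotient.lift _ MvPowerSeries.constantCoeff (fun p hp => by
    obtain ⟨q, rfl⟩ := Ideal.mem_span_singleton'.1 hp
    simp [nodeEqn])

instance : Nontrivial (germ (nodeEqn k)) := (cc k).domain_nontrivial

theorem cc_mk (P : MvPowerSeries (Fin 2) k) :
    cc k (Ideal.Quotient.mk _ P) = MvPowerSeries.constantCoeff P := rfl

theorem isUnit_node_iff (q : germ (nodeEqn k)) : IsUnit q ↔ cc k q ≠ 0 := by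
  refine ⟨fun h => (h.map (cc k)).ne_zero, fun h => ?_⟩
  obtain ⟨P, rfl⟩ := Ideal.Quotient.mk_surjective q
  exact (MvPowerSeries.isUnit_iff_constantCoeff.mpr (isUnit_iff_ne_zero.mpr h)).map _

theorem cc_algebraMap (c : k) : cc k (algebraMap k _ c) = c := by
  rw [IsScalarTower.algebraMap_apply k (MvPowerSeries (Fin 2) k) (germ (nodeEqn k)), Ideal.Quotient.algebraMap_eq,
    cc_mk, MvPowerSeries.algebraMap_apply]
  simp

/-- A branch of the node with one of its two coordinates. -/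
theorem branch (h2 : (2 : k) ≠ 0) (ε : k) (hε : ε * ε = 1) :
    (∀ z : germ (nodeEqn k), Ideal.Quotient.mk _ (MvPowerSeries.X 1 + MvPowerSeries.C ε * MvPowerSeries.X 0) * z = 0 →
      cc k z = 0) ∧
    ∃ P : Ideal (germ (nodeEqn k)), P = Ideal.span
      {Ideal.Quotient.mk _ (MvPowerSeries.X 1 + MvPowerSeries.C ε * MvPowerSeries.X 0)} ∧
      P ∈ (⊥ : Ideal (germ (nodeEqn k))).minimalPrimes := by
  set W : MvPowerSeries (Fin 2) k := MvPowerSeries.X 1 + MvPowerSeries.C ε * MvPowerSeries.X 0 with hW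
  set W' : MvPowerSeries (Fin 2) k := MvPowerSeries.X 1 - MvPowerSeries.C ε * MvPowerSeries.X 0 with hW'
  have hC : (MvPowerSeries.C ε : MvPowerSeries (Fin 2) k) * MvPowerSeries.C ε = 1 := by rw [← map_mul, hε, map_one]
  have hfac : nodeEqn k = W * W' := by
    rw [hW, hW']; unfold nodeEqn; linear_combination (MvPowerSeries.X 0 ^ 2 : MvPowerSeries (Fin 2) k) * hC
  have hp : Prime W := prime_of_dd W (by simp [hW]) ⟨1, by simp [hW, dd_add, dd_mul, dd_X, dd_C]⟩
  refine ⟨fun z hz => ?_, _, rfl, ?_⟩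
  · obtain ⟨Z, rfl⟩ := Ideal.Quotient.mk_surjective z
    rw [← map_mul, Ideal.Quotient.eq_zero_iff_mem, Ideal.mem_span_singleton, hfac] at hz
    obtain ⟨r, hr⟩ := hz
    rw [mul_assoc] at hr
    rw [cc_mk, mul_left_cancel₀ hp.ne_zero hr]
    simp [hW']
  have hle : Ideal.span {nodeEqn k} ≤ Ideal.span {W} :=
    Ideal.span_singleton_le_span_singleton.mpr ⟨W', hfac⟩
  haveI hWP : (Ideal.span {W}).IsPrime := (Ideal.span_singleton_prime hp.ne_zero).mpr hp
  have hmap : Ideal.span {Ideal.Quotient.mk (Ideal.span {nodeEqn k}) W} =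
      (Ideal.span {W}).map (Ideal.Quotient.mk (Ideal.span {nodeEqn k})) := by
    rw [Ideal.map_span, Set.image_singleton]
  haveI hPp : (Ideal.span {Ideal.Quotient.mk (Ideal.span {nodeEqn k}) W}).IsPrime := by
    rw [hmap]
    exact Ideal.map_isPrime_of_surjective Ideal.Quotient.mk_surjective (by rw [Ideal.mk_ker]; exact hle)
  refine ⟨⟨hPp, bot_le⟩, fun q hq hqP => ?_⟩
  haveI := hq.1
  rw [Ideal.span_le, Set.singleton_subset_iff]
  have h0 : Ideal.Quotient.mk (Ideal.span {nodeEqn k}) W * Ideal.Quotient.mk _ W' ∈ q := by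
    rw [← map_mul, ← hfac, Ideal.Quotient.eq_zero_iff_mem.mpr (Ideal.mem_span_singleton_self _)]
    exact zero_mem _
  rcases hq.1.mem_or_mem h0 with h | h
  · exact h
  · exfalso
    have h1 := hqP h
    rw [hmap, Ideal.mem_map_iff_of_surjective _ Ideal.Quotient.mk_surjective] at h1
    obtain ⟨y, hy, hyW⟩ := h1
    have h2' : W' ∈ Ideal.span {W} := by
      have := sub_mem hy (hle (Ideal.Quotient.eq.mp hyW))
      simpa using this
    obtain ⟨r, hr⟩ := Ideal.mem_span_singleton.mp h2'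
    have e1 := congrArg (dd 1) hr
    have e0 := congrArg (dd 0) hr
    simp [hW, hW', dd_sub, dd_add, dd_mul, dd_X, dd_C] at e0 e1
    rw [← e1, one_mul] at e0
    have : (2 : k) * ε = 0 := by linear_combination -e0
    have hε0 : ε ≠ 0 := by rintro rfl; simp at hε
    exact mul_ne_zero h2 hε0 this

variable {R S : Type u} [CommRing R] [IsLocalRing R] [CommRing S] [Algebra k R] [Algebra R S] [Algebra k S]
  [IsScalarTower k R S]

/-- The extension of the maximal ideal. -/
abbrev Mx (R S : Type u) [CommRing R] [IsLocalRing R] [CommRing S] [Algebra R S] : Ideal S :=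
  Ideal.map (algebraMap R S) (maximalIdeal R)

/-- An eigen-coordinate on a branch. -/
theorem eigen [IsLocalRing S] (h2 : (2 : k) ≠ 0) (π : S →ₐ[k] germ (nodeEqn k)) (hπ : Function.Surjective π)
    (hker : RingHom.ker π.toRingHom = Mx R S)
    (σ : S ≃ₐ[R] S) (hσ : ∀ s, σ (σ s) = s)
    (hbr : ∀ P ∈ (Mx R S).minimalPrimes, Ideal.map (σ : S →+* S) P = P)
    (ε : k) (hε : ε * ε = 1) :
    ∃ (ξ : k) (x : S), ξ ^ 2 = 1 ∧ σ x = algebraMap k S ξ * x ∧ ∃ w : germ (nodeEqn k), IsUnit w ∧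
      π x = Ideal.Quotient.mk _ (MvPowerSeries.X 1 + MvPowerSeries.C ε * MvPowerSeries.X 0) * w := by
  obtain ⟨hann, P, hP, hPmin⟩ := branch h2 ε hε
  set u := Ideal.Quotient.mk (Ideal.span {nodeEqn k}) (MvPowerSeries.X 1 + MvPowerSeries.C ε * MvPowerSeries.X 0) with hu
  obtain ⟨a, ha⟩ := hπ u
  have hmin : P.comap π.toRingHom ∈ (Mx R S).minimalPrimes := by
    rw [← hker, RingHom.ker_eq_comap_bot]
    exact Ideal.minimalPrimes_comap_of_surjective hπ hPmin
  have haP : a ∈ P.comap π.toRingHom := by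
    rw [Ideal.mem_comap, hP]
    show π a ∈ _
    rw [ha]; exact Ideal.mem_span_singleton_self _
  have hσa : σ a ∈ P.comap π.toRingHom := by
    rw [← hbr _ hmin]
    exact Ideal.mem_map_of_mem (σ : S →+* S) haP
  rw [Ideal.mem_comap, hP] at hσa
  obtain ⟨c', hc'⟩ := Ideal.mem_span_singleton.mp hσa
  obtain ⟨c, rfl⟩ := hπ c'
  change π (σ a) = u * π c at hc'
  have hM : σ a - a * c ∈ Mx R S := by
    rw [← hker, RingHom.mem_ker]
    show π (σ a - a * c) = 0
    rw [map_sub, map_mul, ha, hc', sub_self]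
  have hσM : ∀ z ∈ Mx R S, σ z ∈ Mx R S := fun z hz => by
    have := Ideal.mem_map_of_mem (σ : S →+* S) hz
    rwa [Ideal.map_map, show (σ : S →+* S).comp (algebraMap R S) = algebraMap R S from σ.toAlgHom.comp_algebraMap] at this
  have hM2 : a * (1 - c * σ c) ∈ Mx R S := by
    have h1 := hσM _ hM
    rw [map_sub, map_mul, hσ] at h1
    have := add_mem h1 (Ideal.mul_mem_right (σ c) _ hM)
    rw [show a * (1 - c * σ c) = a - σ a * σ c + (σ a - a * c) * σ c by ring]
    exact this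
  rw [← hker, RingHom.mem_ker] at hM2
  change π (a * (1 - c * σ c)) = 0 at hM2
  rw [map_mul, ha] at hM2
  have h1 := hann _ hM2
  have hres : ∀ z : S, cc k (π (σ z)) = cc k (π z) := by
    intro z
    set d := algebraMap k S (cc k (π z)) with hd
    have hnu : ¬ IsUnit (π (z - d)) := by
      rw [isUnit_node_iff, not_not, map_sub, AlgHom.commutes, map_sub, cc_algebraMap, sub_self]
    have hnu' : ¬ IsUnit (σ (z - d)) := fun h => hnu ((by simpa using h.map σ.symm : IsUnit (z - d)).map π)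
    have h3 : ¬ IsUnit (π (σ (z - d))) := fun h => by
      haveI : IsLocalHom π.toRingHom := hπ.isLocalHom _
      exact hnu' ((isUnit_map_iff π.toRingHom _).mp h)
    rw [isUnit_node_iff, not_not, map_sub, map_sub, hd, IsScalarTower.algebraMap_apply k R S, AlgEquiv.commutes,
      ← IsScalarTower.algebraMap_apply, AlgHom.commutes, map_sub, cc_algebraMap, sub_eq_zero] at h3
    exact h3
  set ξ := cc k (π c) with hξ
  have hξ2 : ξ ^ 2 = 1 := by
    rw [map_sub, map_one, map_mul, map_sub, map_one, map_mul, hres, sub_eq_zero] at h1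
    rw [pow_two]; exact h1.symm
  have hξS : algebraMap k S ξ * algebraMap k S ξ = 1 := by rw [← map_mul, ← pow_two, hξ2, map_one]
  have hσk : ∀ r : k, σ (algebraMap k S r) = algebraMap k S r := fun r => by
    rw [IsScalarTower.algebraMap_apply k R S, AlgEquiv.commutes]
  refine ⟨ξ, algebraMap k S 2⁻¹ * (a + algebraMap k S ξ * σ a), hξ2, ?_,
    algebraMap k _ 2⁻¹ * (1 + algebraMap k _ ξ * π c), ?_, ?_⟩
  · rw [map_mul σ, map_add σ, map_mul σ, hσ, hσk, hσk]
    linear_combination (-(algebraMap k S 2⁻¹) * σ a) * hξS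
  · rw [isUnit_node_iff, map_mul, map_add, map_mul, map_one, cc_algebraMap, cc_algebraMap, ← hξ, ← pow_two, hξ2,
      one_add_one_eq_two, inv_mul_cancel₀ h2]
    exact one_ne_zero
  · rw [map_mul π, map_add π, map_mul π, ha, hc', AlgHom.commutes, AlgHom.commutes]
    ring

/-- Invariant of the successive approximations. -/
def Inv (σ : S ≃ₐ[R] S) (e₁ e₂ : S) (x₀ y₀ : S) (n : ℕ) (p : S × S × R) : Prop :=
  σ p.1 = e₂ * p.1 ∧ σ p.2.1 = e₁ * p.2.1 ∧ p.1 - x₀ ∈ Mx R S ∧ p.2.1 - y₀ ∈ Mx R S ∧ p.2.2 ∈ maximalIdeal R ∧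
    p.1 * p.2.1 - algebraMap R S p.2.2 ∈ Mx R S ^ (n + 1) ∧ (e₁ * e₂ = -1 → p.2.2 = 0)

theorem step [IsLocalRing S] (h2 : (2 : k) ≠ 0) (σ : S ≃ₐ[R] S) (hσ : ∀ s, σ (σ s) = s) (x₀ y₀ : S)
    (ξ₁ ξ₂ : k) (h₁ : ξ₁ ^ 2 = 1) (h₂ : ξ₂ ^ 2 = 1)
    (hgen : ∀ z : S, ∃ r : R, z - algebraMap R S r ∈ Ideal.span {x₀, y₀} ⊔ Mx R S)
    (n : ℕ) (p : S × S × R) (hp : Inv σ (algebraMap k S ξ₁) (algebraMap k S ξ₂) x₀ y₀ n p) :
    ∃ q : S × S × R, Inv σ (algebraMap k S ξ₁) (algebraMap k S ξ₂) x₀ y₀ (n + 1) q ∧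
      q.1 - p.1 ∈ Mx R S ^ (n + 1) ∧ q.2.1 - p.2.1 ∈ Mx R S ^ (n + 1) ∧
      q.2.2 - p.2.2 ∈ maximalIdeal R ^ (n + 1) := by
  obtain ⟨x, y, r⟩ := p
  obtain ⟨hx, hy, hx0, hy0, hr, he, hr0⟩ := hp
  dsimp only at hx hy hx0 hy0 hr he hr0
  set e₁ := algebraMap k S ξ₁
  set e₂ := algebraMap k S ξ₂
  have he₁ : e₁ * e₁ = 1 := by rw [← map_mul, ← pow_two, h₁, map_one]
  have he₂ : e₂ * e₂ = 1 := by rw [← map_mul, ← pow_two, h₂, map_one]
  have hgen' : ∀ z : S, ∃ (c : R) (a b : S), z - (algebraMap R S c + x * a + y * b) ∈ Mx R S := by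
    intro z
    obtain ⟨c, hc⟩ := hgen z
    obtain ⟨u, hu, v, hv, huv⟩ := Submodule.mem_sup.mp hc
    obtain ⟨a, b, hab⟩ := Ideal.mem_span_pair.mp hu
    refine ⟨c, a, b, ?_⟩
    have : z - (algebraMap R S c + x * a + y * b) = v - (x - x₀) * a - (y - y₀) * b := by
      linear_combination -huv + hab.symm
    rw [this]
    exact sub_mem (sub_mem hv (Ideal.mul_mem_right _ _ hx0)) (Ideal.mul_mem_right _ _ hy0)
  have hdec : ∀ z ∈ Mx R S ^ (n + 1), ∀ d : S, ∃ (c : R) (a b : S), c ∈ maximalIdeal R ^ (n + 1) ∧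
      a ∈ Mx R S ^ (n + 1) ∧ b ∈ Mx R S ^ (n + 1) ∧
      d * z - (algebraMap R S c + x * a + y * b) ∈ Mx R S ^ (n + 1 + 1) := by
    intro z hz
    rw [← Ideal.map_pow] at hz
    induction hz using Submodule.span_induction with
    | mem z hz =>
      intro d
      obtain ⟨m, hm, rfl⟩ := hz
      obtain ⟨c, a, b, h⟩ := hgen' d
      have hm' : algebraMap R S m ∈ Mx R S ^ (n + 1) := by
        rw [← Ideal.map_pow]; exact Ideal.mem_map_of_mem _ hm
      refine ⟨c * m, a * algebraMap R S m, b * algebraMap R S m, Ideal.mul_mem_left _ _ hm,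
        Ideal.mul_mem_left _ _ hm', Ideal.mul_mem_left _ _ hm', ?_⟩
      rw [pow_succ' (Mx R S) (n + 1)]
      have := Ideal.mul_mem_mul h hm'
      rw [map_mul]
      convert this using 1
      ring
    | zero => intro d; exact ⟨0, 0, 0, zero_mem _, zero_mem _, zero_mem _, by simp⟩
    | add z w _ _ ihz ihw =>
      intro d
      obtain ⟨c, a, b, hc, ha, hb, h⟩ := ihz d
      obtain ⟨c', a', b', hc', ha', hb', h'⟩ := ihw d
      refine ⟨c + c', a + a', b + b', add_mem hc hc', add_mem ha ha', add_mem hb hb', ?_⟩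
      convert add_mem h h' using 1
      rw [map_add]; ring
    | smul s z _ ih =>
      intro d
      obtain ⟨c, a, b, hc, ha, hb, h⟩ := ih (d * s)
      refine ⟨c, a, b, hc, ha, hb, ?_⟩
      rwa [smul_eq_mul, ← mul_assoc]
  obtain ⟨c, a, b, hc, ha, hb, h⟩ := hdec _ he 1
  rw [one_mul] at h
  set e := x * y - algebraMap R S r with hee
  have hη : (ξ₁ * ξ₂) ^ 2 = 1 := by rw [mul_pow, h₁, h₂, one_mul]
  set H := algebraMap k S 2⁻¹ with hH
  have hH2 : H + H = 1 := by rw [← map_add, ← two_mul, mul_inv_cancel₀ h2, map_one]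
  have hσk : ∀ r : k, σ (algebraMap k S r) = algebraMap k S r := fun r => by
    rw [IsScalarTower.algebraMap_apply k R S, AlgEquiv.commutes]
  have hσM : ∀ (m : ℕ) (z : S), z ∈ Mx R S ^ m → σ z ∈ Mx R S ^ m := fun m z hz => by
    rw [← Ideal.map_pow] at hz ⊢
    have := Ideal.mem_map_of_mem (σ : S →+* S) hz
    rwa [Ideal.map_map, show (σ : S →+* S).comp (algebraMap R S) = algebraMap R S from σ.toAlgHom.comp_algebraMap] at this
  have hσe : σ e = e₁ * e₂ * e := by
    rw [hee, map_sub, map_mul, hx, hy, AlgEquiv.commutes]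
    rcases sq_eq_one_iff.mp hη with h' | h'
    · have : e₁ * e₂ = 1 := by rw [← map_mul, h', map_one]
      linear_combination (algebraMap R S r) * this
    · have : e₁ * e₂ = -1 := by rw [← map_mul, h', map_neg, map_one]
      rw [hr0 this, map_zero]; ring
  let c' := algebraMap k R (2⁻¹ * (1 + ξ₁ * ξ₂)) * c
  let a' := H * (a + e₁ * σ a)
  let b' := H * (b + e₂ * σ b)
  have hmix : e - (algebraMap R S c' + x * a' + y * b') =
      H * (e - (algebraMap R S c + x * a + y * b)) +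
      H * e₁ * e₂ * σ (e - (algebraMap R S c + x * a + y * b)) := by
    simp only [c', a', b', map_sub, map_add, map_mul, map_one, AlgEquiv.commutes, hx, hy, hσe,
      ← IsScalarTower.algebraMap_apply]
    linear_combination (-e) * hH2 + (x * H * e₁ * σ a - H * e * e₁ * e₁) * he₂ + (y * H * e₂ * σ b - H * e) * he₁
  have hnext : e - (algebraMap R S c' + x * a' + y * b') ∈ Mx R S ^ (n + 1 + 1) := by
    rw [hmix]
    exact add_mem (Ideal.mul_mem_left _ _ h) (Ideal.mul_mem_left _ _ (hσM _ _ h))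
  have ha' : a' ∈ Mx R S ^ (n + 1) :=
    Ideal.mul_mem_left _ _ (add_mem ha (Ideal.mul_mem_left _ _ (hσM _ _ ha)))
  have hb' : b' ∈ Mx R S ^ (n + 1) :=
    Ideal.mul_mem_left _ _ (add_mem hb (Ideal.mul_mem_left _ _ (hσM _ _ hb)))
  have hc' : c' ∈ maximalIdeal R ^ (n + 1) := Ideal.mul_mem_left _ _ hc
  have hpow : ∀ z ∈ Mx R S ^ (n + 1), z ∈ Mx R S := fun z hz => Ideal.pow_le_self (Nat.succ_ne_zero n) hz
  refine ⟨(x - b', y - a', r + c'), ⟨?_, ?_, ?_, ?_, ?_, ?_, ?_⟩, ?_, ?_, ?_⟩ <;> dsimp only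
  · simp only [b', map_sub, map_mul, map_add, hx, hσ, hσk, H, e₂]
    linear_combination (H * σ b) * he₂
  · simp only [a', map_sub, map_mul, map_add, hy, hσ, hσk, H, e₁]
    linear_combination (H * σ a) * he₁
  · rw [sub_right_comm]; exact sub_mem hx0 (hpow _ hb')
  · rw [sub_right_comm]; exact sub_mem hy0 (hpow _ ha')
  · exact add_mem hr (Ideal.pow_le_self (Nat.succ_ne_zero n) hc')
  · have : (x - b') * (y - a') - algebraMap R S (r + c') =
        (e - (algebraMap R S c' + x * a' + y * b')) + a' * b' := by rw [hee, map_add]; ring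
    rw [this]
    refine add_mem hnext (Ideal.pow_le_pow_right (by omega : n + 1 + 1 ≤ (n + 1) + (n + 1)) ?_)
    rw [pow_add]; exact Ideal.mul_mem_mul ha' hb'
  · intro h'
    have hkk : ξ₁ * ξ₂ = -1 ∨ (1 : S) = -1 := by
      rcases sq_eq_one_iff.mp hη with h'' | h''
      · exact Or.inr (by rw [← h', ← map_mul, h'', map_one])
      · exact Or.inl h''
    rcases hkk with h'' | h''
    · simp [c', hr0 h', h'']
    · have h0 : (1 : S) = 0 := by
        have h3 : algebraMap k S (2⁻¹ * 2) = H * (1 + 1) := by rw [map_mul, map_ofNat, one_add_one_eq_two]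
        rw [inv_mul_cancel₀ h2, map_one] at h3
        nth_rw 2 [h''] at h3
        rw [h3]; ring
      exact absurd h0 one_ne_zero
  · simpa using hb'
  · simpa using ha'
  · simpa using hc'

end Helpers

/-- Let k be an algebraically closed field with 2 invertible, R → S a flat local homomorphism of
complete Noetherian local k-algebras whose closed fibre S/m_R S is isomorphic over k to the node
algebra k[[x,y]]/(y^2 - x^2), and σ an R-algebra involution of S whose reduction to the closed fibre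
does not exchange the two branches (it maps each minimal prime ideal over m_R S to itself). Then
there are t in R, signs ξ₁, ξ₂ in k and an R-algebra isomorphism of S with R[[x,y]]/(xy - t)
transporting σ to x ↦ ξ₂ x, y ↦ ξ₁ y; moreover t = 0 when ξ₁ = -ξ₂. -/
theorem result (k R S : Type u) [Field k] [IsAlgClosed k]
    (h2 : (2 : k) ≠ 0)
    [CommRing R] [IsLocalRing R] [IsNoetherianRing R] [IsAdicComplete (IsLocalRing.maximalIdeal R) R]
    [CommRing S] [IsLocalRing S] [IsNoetherianRing S] [IsAdicComplete (IsLocalRing.maximalIdeal S) S]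
    [Algebra k R] [Algebra R S] [Algebra k S] [IsScalarTower k R S]
    [IsLocalHom (algebraMap R S)] [Module.Flat R S]
    (e : (S ⧸ Ideal.map (algebraMap R S) (IsLocalRing.maximalIdeal R)) ≃ₐ[k]
      (MvPowerSeries (Fin 2) k ⧸
        Ideal.span {(MvPowerSeries.X 1 ^ 2 - MvPowerSeries.X 0 ^ 2 : MvPowerSeries (Fin 2) k)}))
    (σ : S ≃ₐ[R] S) (hσ : ∀ s, σ (σ s) = s)
    (hbr : ∀ P ∈ (Ideal.map (algebraMap R S) (IsLocalRing.maximalIdeal R)).minimalPrimes,
      Ideal.map (σ : S →+* S) P = P) :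
    ∃ (t : R) (ξ₁ ξ₂ : k), ξ₁ ^ 2 = 1 ∧ ξ₂ ^ 2 = 1 ∧ (ξ₁ = -ξ₂ → t = 0) ∧
      ∃ f : S ≃ₐ[R] (MvPowerSeries (Fin 2) R ⧸
          Ideal.span {(MvPowerSeries.X 0 * MvPowerSeries.X 1 - MvPowerSeries.C t : MvPowerSeries (Fin 2) R)}),
        f (σ (f.symm (Ideal.Quotient.mk _ (MvPowerSeries.X 0)))) =
          algebraMap k R ξ₂ • Ideal.Quotient.mk _ (MvPowerSeries.X 0) ∧
        f (σ (f.symm (Ideal.Quotient.mk _ (MvPowerSeries.X 1)))) =
          algebraMap k R ξ₁ • Ideal.Quotient.mk _ (MvPowerSeries.X 1) := by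
  classical
  open IsLocalRing Groth.ArPlane in
  let π : S →ₐ[k] germ (nodeEqn k) := e.toAlgHom.comp (Ideal.Quotient.mkₐ k (Mx R S))
  have hπ : Function.Surjective π := e.surjective.comp Ideal.Quotient.mk_surjective
  have hker : RingHom.ker π.toRingHom = Mx R S := by
    ext z
    rw [RingHom.mem_ker]
    show e (Ideal.Quotient.mk _ z) = 0 ↔ _
    rw [map_eq_zero_iff _ e.injective, Ideal.Quotient.eq_zero_iff_mem]
  obtain ⟨ξ₂, x₀, hξ₂, hx₀, wx, hwx, hπx⟩ := eigen h2 π hπ hker σ hσ hbr 1 (by simp)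
  obtain ⟨ξ₁, y₀, hξ₁, hy₀, wy, hwy, hπy⟩ := eigen h2 π hπ hker σ hσ hbr (-1) (by simp)
  haveI hπloc : IsLocalHom π.toRingHom := hπ.isLocalHom _
  have hmS : ∀ z : S, z ∈ maximalIdeal S ↔ cc k (π z) = 0 := fun z => by
    rw [mem_maximalIdeal, mem_nonunits_iff, ← isUnit_map_iff π.toRingHom z]
    show ¬ IsUnit (π z) ↔ _
    rw [isUnit_node_iff, not_not]
  have hMle : Mx R S ≤ maximalIdeal S := fun z hz => by
    rw [← hker, RingHom.mem_ker] at hz
    rw [hmS, show π z = 0 from hz, map_zero]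
  have hmax : ∀ z ∈ maximalIdeal S, z ∈ Ideal.span {x₀, y₀} ⊔ Mx R S := by
    intro z hz
    rw [← hker, ← Ideal.comap_map_of_surjective' π.toRingHom hπ, Ideal.mem_comap, Ideal.map_span,
      Set.image_pair]
    show π z ∈ Ideal.span {π x₀, π y₀}
    rw [hπx, hπy]
    obtain ⟨Z, hZ⟩ := Ideal.Quotient.mk_surjective (π z)
    obtain ⟨A, B, hAB, -, -⟩ := exists_decomp Z (by rw [← cc_mk, hZ]; exact (hmS z).mp hz)
    rw [← hZ, hAB]
    set u := Ideal.Quotient.mk (Ideal.span {nodeEqn k}) (MvPowerSeries.X 1 + MvPowerSeries.C 1 * MvPowerSeries.X 0) with hu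
    set v := Ideal.Quotient.mk (Ideal.span {nodeEqn k}) (MvPowerSeries.X 1 + MvPowerSeries.C (-1) * MvPowerSeries.X 0) with hv
    obtain ⟨wx, rfl⟩ := hwx
    obtain ⟨wy, rfl⟩ := hwy
    rw [Ideal.mem_span_pair]
    have hh : (MvPowerSeries.C (2⁻¹ : k) : MvPowerSeries (Fin 2) k) * 2 = 1 := by
      rw [← map_ofNat MvPowerSeries.C, ← map_mul, inv_mul_cancel₀ h2, map_one]
    refine ⟨Ideal.Quotient.mk (Ideal.span {nodeEqn k}) (MvPowerSeries.C 2⁻¹ * (A + B)) * ↑wx⁻¹,
      Ideal.Quotient.mk (Ideal.span {nodeEqn k}) (MvPowerSeries.C 2⁻¹ * (B - A)) * ↑wy⁻¹, ?_⟩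
    rw [mul_mul_mul_comm, Units.inv_mul, mul_one, mul_mul_mul_comm, Units.inv_mul, mul_one, hu, hv, ← map_mul,
      ← map_mul, ← map_add]
    congr 1
    rw [map_neg, map_one]
    linear_combination (MvPowerSeries.X 0 * A + MvPowerSeries.X 1 * B) * hh
  have hkS : ∀ c : k, algebraMap R S (algebraMap k R c) = algebraMap k S c := fun c =>
    (IsScalarTower.algebraMap_apply k R S c).symm
  have hresid : ∀ z : S, ∃ r : R, z - algebraMap R S r ∈ maximalIdeal S := fun z =>
    ⟨algebraMap k R (cc k (π z)), by rw [hmS, hkS, map_sub, AlgHom.commutes, map_sub, cc_algebraMap, sub_self]⟩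
  have hgen : ∀ z : S, ∃ r : R, z - algebraMap R S r ∈ Ideal.span {x₀, y₀} ⊔ Mx R S := fun z =>
    (hresid z).imp fun r hr => hmax _ hr
  set e₁ := algebraMap k S ξ₁ with he₁
  set e₂ := algebraMap k S ξ₂ with he₂
  have hinit : Inv σ e₁ e₂ x₀ y₀ 0 (x₀, y₀, 0) := by
    refine ⟨hx₀, hy₀, ?_, ?_, ?_, ?_, fun _ => rfl⟩ <;> dsimp only
    · simp
    · simp
    · exact zero_mem _
    rw [zero_add, pow_one, map_zero, sub_zero, ← hker, RingHom.mem_ker]
    show π (x₀ * y₀) = 0
    rw [map_mul, hπx, hπy, mul_mul_mul_comm, ← map_mul, show (MvPowerSeries.X 1 + MvPowerSeries.C (1 : k) * MvPowerSeries.X 0 : MvPowerSeries (Fin 2) k) * (MvPowerSeries.X 1 + MvPowerSeries.C (-1) * MvPowerSeries.X 0) = nodeEqn k by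
        rw [map_neg, map_one]; unfold nodeEqn; ring,
      Ideal.Quotient.eq_zero_iff_mem.mpr (Ideal.mem_span_singleton_self _), zero_mul]
  have hstep := fun n (p : {p // Inv σ e₁ e₂ x₀ y₀ n p}) => step h2 σ hσ x₀ y₀ ξ₁ ξ₂ hξ₁ hξ₂ hgen n p.1 p.2
  let seq : (n : ℕ) → {p // Inv σ e₁ e₂ x₀ y₀ n p} := fun n =>
    Nat.rec ⟨_, hinit⟩ (fun n p => ⟨(hstep n p).choose, (hstep n p).choose_spec.1⟩) n
  have hseq : ∀ n, (seq (n + 1)).1.1 - (seq n).1.1 ∈ Mx R S ^ (n + 1) ∧
      (seq (n + 1)).1.2.1 - (seq n).1.2.1 ∈ Mx R S ^ (n + 1) ∧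
      (seq (n + 1)).1.2.2 - (seq n).1.2.2 ∈ maximalIdeal R ^ (n + 1) := fun n => (hstep n (seq n)).choose_spec.2
  have hMpow : ∀ n, Mx R S ^ n ≤ maximalIdeal S ^ n := fun n => Ideal.pow_right_mono hMle n
  obtain ⟨X', hX'⟩ := Groth.Agent.S7924.exists_limit (maximalIdeal S) (fun n => (seq n).1.1)
    fun n => hMpow _ (hseq n).1
  obtain ⟨Y', hY'⟩ := Groth.Agent.S7924.exists_limit (maximalIdeal S) (fun n => (seq n).1.2.1)
    fun n => hMpow _ (hseq n).2.1
  obtain ⟨t, ht⟩ := Groth.Agent.S7924.exists_limit (maximalIdeal R) (fun n => (seq n).1.2.2)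
    fun n => (hseq n).2.2
  have hzero : ∀ z : S, (∀ n, z ∈ maximalIdeal S ^ n) → z = 0 := fun z hz =>
    IsHausdorff.haus' (I := maximalIdeal S) z fun n => by rw [SModEq.zero, smul_eq_mul, Ideal.mul_top]; exact hz n
  have hσm : ∀ (n : ℕ) (z : S), z ∈ maximalIdeal S ^ n → σ z ∈ maximalIdeal S ^ n := by
    intro n z hz
    have h1 : (maximalIdeal S).map (σ : S →+* S) ≤ maximalIdeal S := Ideal.map_le_iff_le_comap.2 fun w hw => by
      rw [Ideal.mem_comap, mem_maximalIdeal, mem_nonunits_iff]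
      rw [mem_maximalIdeal, mem_nonunits_iff] at hw
      exact fun h => hw (by simpa using h.map σ.symm)
    have := Ideal.mem_map_of_mem (σ : S →+* S) hz
    rw [Ideal.map_pow] at this
    exact Ideal.pow_right_mono h1 n this
  have hσX : σ X' = e₂ * X' := sub_eq_zero.1 (hzero _ fun n => by
    have e0 : σ X' - e₂ * X' = σ (X' - (seq n).1.1) - e₂ * (X' - (seq n).1.1) := by
      rw [map_sub, (seq n).2.1]; ring
    rw [e0]
    exact sub_mem (hσm _ _ (hX' n)) (Ideal.mul_mem_left _ _ (hX' n)))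
  have hσY : σ Y' = e₁ * Y' := sub_eq_zero.1 (hzero _ fun n => by
    have e0 : σ Y' - e₁ * Y' = σ (Y' - (seq n).1.2.1) - e₁ * (Y' - (seq n).1.2.1) := by
      rw [map_sub, (seq n).2.2.1]; ring
    rw [e0]
    exact sub_mem (hσm _ _ (hY' n)) (Ideal.mul_mem_left _ _ (hY' n)))
  have hιpow : ∀ n, ∀ r ∈ maximalIdeal R ^ n, algebraMap R S r ∈ maximalIdeal S ^ n := fun n r hr =>
    hMpow n (by rw [← Ideal.map_pow]; exact Ideal.mem_map_of_mem _ hr)
  have hXY : X' * Y' = algebraMap R S t := sub_eq_zero.1 (hzero _ fun n => by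
    have h1 := hMpow _ (seq n).2.2.2.2.2.2.1
    have e0 : X' * Y' - algebraMap R S t = (X' - (seq n).1.1) * Y' + (seq n).1.1 * (Y' - (seq n).1.2.1) +
        ((seq n).1.1 * (seq n).1.2.1 - algebraMap R S (seq n).1.2.2) - algebraMap R S (t - (seq n).1.2.2) := by
      rw [map_sub]; ring
    rw [e0]
    exact sub_mem (add_mem (add_mem (Ideal.mul_mem_right _ _ (hX' n)) (Ideal.mul_mem_left _ _ (hY' n)))
      (Ideal.pow_le_pow_right (Nat.le_succ n) h1)) (hιpow n _ (ht n)))
  have htm : t ∈ maximalIdeal R := by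
    have h1 := ht 1
    rw [pow_one] at h1
    have := add_mem h1 (seq 1).2.2.2.2.2.1
    simpa using this
  have htzero : ξ₁ = -ξ₂ → t = 0 := by
    intro h
    have hm : e₁ * e₂ = -1 := by rw [he₁, he₂, ← map_mul, h, neg_mul, ← pow_two, hξ₂, map_neg, map_one]
    refine IsHausdorff.haus' (I := maximalIdeal R) t fun n => ?_
    rw [SModEq.zero, smul_eq_mul, Ideal.mul_top]
    have := ht n
    rwa [(seq n).2.2.2.2.2.2.2 hm, sub_zero] at this
  -- closeness to the initial coordinates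
  have hX0 : X' - x₀ ∈ Mx R S := Groth.Agent.S7924.mem_of_forall_pow_sup _ _ fun n => by
    rw [← sub_add_sub_cancel X' (seq n).1.1 x₀]
    exact Submodule.add_mem_sup (hX' n) (seq n).2.2.2.1
  have hY0 : Y' - y₀ ∈ Mx R S := Groth.Agent.S7924.mem_of_forall_pow_sup _ _ fun n => by
    rw [← sub_add_sub_cancel Y' (seq n).1.2.1 y₀]
    exact Submodule.add_mem_sup (hY' n) (seq n).2.2.2.2.1
  have hπX : π X' = π x₀ := by
    rw [← sub_eq_zero, ← map_sub]; rw [← hker, RingHom.mem_ker] at hX0; exact hX0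
  have hπY : π Y' = π y₀ := by
    rw [← sub_eq_zero, ← map_sub]; rw [← hker, RingHom.mem_ker] at hY0; exact hY0
  have hmem : ∀ i, ![X', Y'] i ∈ maximalIdeal S := fun i => by
    rw [hmS]
    fin_cases i
    · show cc k (π X') = 0
      rw [hπX, hπx, map_mul, cc_mk]; simp
    · show cc k (π Y') = 0
      rw [hπY, hπy, map_mul, cc_mk]; simp
  have hsurj := Groth.Agent.S7924.surjective_eval (R := R) ![X', Y'] hmem (fun z hz => by
      obtain ⟨u, hu, v, hv, rfl⟩ := Submodule.mem_sup.mp (hmax z hz)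
      refine add_mem ?_ (Submodule.mem_sup_right hv)
      obtain ⟨a, b, rfl⟩ := Ideal.mem_span_pair.mp hu
      have e0 : a * x₀ + b * y₀ = (a * X' + b * Y') + (-(a * (X' - x₀)) - b * (Y' - y₀)) := by ring
      rw [e0]
      exact Submodule.add_mem_sup
        (add_mem (Ideal.mul_mem_left _ _ (Ideal.subset_span ⟨0, rfl⟩))
          (Ideal.mul_mem_left _ _ (Ideal.subset_span ⟨1, rfl⟩)))
        (sub_mem (neg_mem (Ideal.mul_mem_left _ _ hX0)) (Ideal.mul_mem_left _ _ hY0))) hMle hresid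
  let ev := Groth.Calg6.evalAdic (k := R) (maximalIdeal S) ![X', Y'] hmem
  let rel : MvPowerSeries (Fin 2) R := MvPowerSeries.X 0 * MvPowerSeries.X 1 - MvPowerSeries.C t
  let ψ : (MvPowerSeries (Fin 2) R ⧸ Ideal.span {rel}) →ₐ[R] S := Ideal.Quotient.liftₐ _ ev (fun p hp => by
    obtain ⟨q, rfl⟩ := Ideal.mem_span_singleton'.1 hp
    show ev (q * rel) = 0
    rw [map_mul, map_sub, map_mul, Groth.Calg6.evalAdic_X, Groth.Calg6.evalAdic_X,
      show ev (MvPowerSeries.C t) = algebraMap R S t from ev.commutes t]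
    simp [hXY])
  have hψ : Function.Surjective ψ := fun s => by
    obtain ⟨p, hp⟩ := hsurj s
    exact ⟨Ideal.Quotient.mk _ p, hp⟩
  have hψinj : Function.Injective ψ := by
    let res : R →+* k := ((cc k).comp π.toRingHom).comp (algebraMap R S)
    have hres_surj : Function.Surjective res := fun c => ⟨algebraMap k R c, by
      show cc k (π (algebraMap R S (algebraMap k R c))) = c
      rw [hkS, AlgHom.commutes, cc_algebraMap]⟩
    have hkres : RingHom.ker res = maximalIdeal R := by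
      haveI := RingHom.ker_isMaximal_of_surjective res hres_surj
      exact IsLocalRing.eq_maximalIdeal this
    let relk : MvPowerSeries (Fin 2) k := MvPowerSeries.X 0 * MvPowerSeries.X 1
    let P := MvPowerSeries (Fin 2) R ⧸ Ideal.span {rel}
    let Q := germ relk
    have hrel : MvPowerSeries.map res rel = relk := by
      have h0 : res t = 0 := by rw [← RingHom.mem_ker, hkres]; exact htm
      simp [rel, relk, h0]
    let χ : P →+* Q := Ideal.Quotient.lift _ ((Ideal.Quotient.mk (Ideal.span {relk})).comp (MvPowerSeries.map res))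
      (fun p hp => by
        obtain ⟨q, rfl⟩ := Ideal.mem_span_singleton'.1 hp
        rw [RingHom.comp_apply, map_mul, hrel, Ideal.Quotient.eq_zero_iff_mem]
        exact Ideal.mul_mem_left _ _ (Ideal.mem_span_singleton_self _))
    have hmapsurj : Function.Surjective (MvPowerSeries.map (σ := Fin 2) res) := by
      intro g
      choose c hc using fun n => hres_surj (MvPowerSeries.coeff n g)
      exact ⟨(show MvPowerSeries (Fin 2) R from fun n => c n), MvPowerSeries.ext fun n => by rw [MvPowerSeries.coeff_map]; exact hc n⟩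
    have hχ : Function.Surjective χ := by
      intro q
      obtain ⟨g, rfl⟩ := Ideal.Quotient.mk_surjective q
      obtain ⟨f, rfl⟩ := hmapsurj g
      exact ⟨Ideal.Quotient.mk _ f, rfl⟩
    let M : Ideal P := (maximalIdeal R).map (algebraMap R P)
    have hAP : ∀ a, algebraMap R P a = Ideal.Quotient.mk _ (MvPowerSeries.C a) := fun a => by
      rw [IsScalarTower.algebraMap_apply R (MvPowerSeries (Fin 2) R) P, MvPowerSeries.algebraMap_apply]; rfl
    have hkχ : RingHom.ker χ ≤ M := by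
      intro p hp
      obtain ⟨f, rfl⟩ := Ideal.Quotient.mk_surjective p
      have h1 : Ideal.Quotient.mk (Ideal.span {relk}) (MvPowerSeries.map res f) = 0 := hp
      rw [Ideal.Quotient.eq_zero_iff_mem, Ideal.mem_span_singleton'] at h1
      obtain ⟨g, hg⟩ := h1
      obtain ⟨g, rfl⟩ := hmapsurj g
      have h2a : MvPowerSeries.map res (f - g * rel) = 0 := by rw [map_sub, map_mul, hrel, hg, sub_self]
      have h3' := Groth.Agent.S7925.ker_map_le res (IsNoetherian.noetherian _) _ h2a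
      have h3 := Ideal.mem_map_of_mem (Ideal.Quotient.mk (Ideal.span {rel})) h3'
      rw [map_sub, map_mul, (Ideal.Quotient.eq_zero_iff_mem).2 (Ideal.mem_span_singleton_self rel), mul_zero, sub_zero,
        hkres, Ideal.map_map] at h3
      have e0 : algebraMap R P = (Ideal.Quotient.mk (Ideal.span {rel})).comp MvPowerSeries.C := RingHom.ext hAP
      show _ ∈ Ideal.map (algebraMap R P) _
      rw [e0]
      exact h3
    obtain ⟨θ, hθ, -⟩ := exists_auto
      ![(MvPowerSeries.X 1 + MvPowerSeries.X 0 : MvPowerSeries (Fin 2) k), MvPowerSeries.X 1 - MvPowerSeries.X 0]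
      (fun i => by fin_cases i <;> simp)
      (by simpa [jac, Matrix.det_fin_two, dd_add, dd_sub, dd_X, one_add_one_eq_two] using h2)
    obtain ⟨iso⟩ := germ_equiv θ isUnit_one (F := nodeEqn k) (G := relk) (by
      simp [relk, hθ, nodeEqn]; ring)
    let φ : P →+* Q := (iso : germ (nodeEqn k) →+* Q).comp (π.toRingHom.comp ψ.toRingHom)
    have hφ : Function.Surjective φ := iso.surjective.comp (hπ.comp hψ)
    have hzM : ∀ a ∈ maximalIdeal R, π (algebraMap R S a) = 0 := fun a ha => by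
      have : algebraMap R S a ∈ Mx R S := Ideal.mem_map_of_mem _ ha
      rwa [← hker, RingHom.mem_ker] at this
    have hker' : RingHom.ker χ ≤ RingHom.ker φ := by
      refine hkχ.trans (Ideal.map_le_iff_le_comap.2 fun a ha => ?_)
      rw [Ideal.mem_comap, RingHom.mem_ker]
      show iso (π (ψ (algebraMap R P a))) = 0
      rw [AlgHom.commutes, hzM a ha, map_zero]
    let G : Q →+* Q := RingHom.liftOfSurjective χ hχ ⟨φ, hker'⟩
    have hG : ∀ p, G (χ p) = φ p := fun p => RingHom.liftOfRightInverse_comp_apply _ _ _ _ p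
    have hGinj : Function.Injective G := Groth.Agent.S7925.injective_of_surjective_endo G fun q => by
      obtain ⟨p, rfl⟩ := hφ q
      exact ⟨χ p, hG p⟩
    let N := RingHom.ker ψ.toRingHom
    have hNM : N ≤ M := fun p hp => hkχ (hGinj (by
      rw [map_zero, hG]
      show iso (π (ψ p)) = 0
      rw [show ψ p = 0 from hp, map_zero, map_zero]))
    have hNN : N ≤ M • N := by
      intro p hp
      have hinj := Groth.Misc6.flatInj (R ⧸ maximalIdeal R) (N.restrictScalars R).subtype ψ.toLinearMap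
        Subtype.val_injective (fun y => ⟨fun hy => ⟨⟨y, hy⟩, rfl⟩, fun ⟨z, hz⟩ => hz ▸ z.2⟩) hψ
      have h0 : ((1 : R ⧸ maximalIdeal R) ⊗ₜ[R] p) = 0 := by
        have hpM : p ∈ (maximalIdeal R • ⊤ : Submodule R P) := by rw [Ideal.smul_top_eq_map]; exact hNM hp
        refine (TensorProduct.quotTensorEquivQuotSMul P (maximalIdeal R)).injective ?_
        rw [map_zero, show (1 : R ⧸ maximalIdeal R) = Ideal.Quotient.mk _ 1 from rfl,
          TensorProduct.quotTensorEquivQuotSMul_mk_tmul, one_smul, Submodule.Quotient.mk_eq_zero]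
        exact hpM
      have h1 : (1 : R ⧸ maximalIdeal R) ⊗ₜ[R] (⟨p, hp⟩ : N.restrictScalars R) = 0 := hinj (by
        rw [map_zero]; exact h0)
      have h4 := congrArg (TensorProduct.quotTensorEquivQuotSMul (N.restrictScalars R) (maximalIdeal R)) h1
      rw [map_zero, show (1 : R ⧸ maximalIdeal R) = Ideal.Quotient.mk _ 1 from rfl,
          TensorProduct.quotTensorEquivQuotSMul_mk_tmul, one_smul, Submodule.Quotient.mk_eq_zero] at h4
      have h3 := Submodule.mem_map_of_mem (f := (N.restrictScalars R).subtype) h4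
      rw [Submodule.map_smul'', Submodule.map_top, Submodule.range_subtype] at h3
      have hle : (maximalIdeal R • N.restrictScalars R) ≤ (M • N).restrictScalars R := by
        rw [Ideal.smul_restrictScalars]
      exact hle h3
    have hjac : M ≤ Ideal.jacobson ⊥ := by
      haveI : Nontrivial P := ψ.toRingHom.domain_nontrivial
      haveI : IsLocalRing P := IsLocalRing.of_surjective' (Ideal.Quotient.mk _) Ideal.Quotient.mk_surjective
      refine le_trans (IsLocalRing.le_maximalIdeal ?_) (IsLocalRing.maximalIdeal_le_jacobson _)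
      intro htop
      have h1 : (1 : P) ∈ M := by rw [htop]; trivial
      have h3 := Ideal.mem_map_of_mem ψ.toRingHom h1
      rw [Ideal.map_map, show ψ.toRingHom.comp (algebraMap R P) = algebraMap R S from ψ.comp_algebraMap, map_one] at h3
      exact (maximalIdeal.isMaximal S).ne_top ((Ideal.eq_top_iff_one _).2 (hMle h3))
    have hN0 : N = ⊥ := Submodule.eq_bot_of_le_smul_of_le_jacobson_bot M N (IsNoetherian.noetherian _) hNN hjac
    exact (RingHom.injective_iff_ker_eq_bot ψ.toRingHom).2 hN0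
  let Ψ := AlgEquiv.ofBijective ψ ⟨hψinj, hψ⟩
  have hΨ0 : Ψ (Ideal.Quotient.mk _ (MvPowerSeries.X 0)) = X' := Groth.Calg6.evalAdic_X _ _ hmem 0
  have hΨ1 : Ψ (Ideal.Quotient.mk _ (MvPowerSeries.X 1)) = Y' := Groth.Calg6.evalAdic_X _ _ hmem 1
  refine ⟨t, ξ₁, ξ₂, hξ₁, hξ₂, htzero, Ψ.symm, ?_, ?_⟩
  · rw [AlgEquiv.symm_symm, hΨ0, hσX, AlgEquiv.symm_apply_eq, map_smul, hΨ0, Algebra.smul_def, hkS]
  · rw [AlgEquiv.symm_symm, hΨ1, hσY, AlgEquiv.symm_apply_eq, map_smul, hΨ1, Algebra.smul_def, hkS]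

end Groth.Agent.S14084
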