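import Groth.Statements.S14091
import Mathlib
-- import your own Groth.Agent.* helpers here

set_option autoImplicit false
universe u
open ArSing

namespace Groth.Agent.S14091

open Polynomial in
/-- Over an algebraically closed field k, a finite local k-algebra B whose cotangent space m/m^2 has
dimension at most one over the residue field is isomorphic, as a k-algebra, to k[t]/(t^n) with n =
dim_k B (curvilinear pointed algebras of degree n have a single isomorphism class). -/
theorem result (k B : Type u) [Field k] [IsAlgClosed k]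
    [CommRing B] [IsLocalRing B] [Algebra k B] [Module.Finite k B]
    (hcurv : Module.finrank (IsLocalRing.ResidueField B) (IsLocalRing.CotangentSpace B) ≤ 1) :
    Nonempty (B ≃ₐ[k] (Polynomial k ⧸ Ideal.span {(X : Polynomial k) ^ Module.finrank k B})) := by
  have hfin : IsArtinianRing B := IsArtinianRing.of_finite k B
  obtain ⟨ρ, hρ⟩ := (IsLocalRing.finrank_cotangentSpace_le_one_iff (R := B)).1 hcurv
  have hsurjk : Function.Bijective (algebraMap k (IsLocalRing.ResidueField B)) :=
    IsAlgClosed.algebraMap_bijective_of_isIntegral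
  obtain ⟨N, hN⟩ : IsNilpotent (IsLocalRing.maximalIdeal B) := by
    rw [← IsLocalRing.jacobson_eq_maximalIdeal ⊥ bot_ne_top]; exact IsArtinianRing.isNilpotent_jacobson_bot
  let ev : Polynomial k →ₐ[k] B := Polynomial.aeval ρ
  have hρ' : IsLocalRing.maximalIdeal B = Ideal.span {ρ} := hρ
  have hρN : ρ ^ N = 0 := by
    have := Ideal.pow_mem_pow (hρ' ▸ Ideal.mem_span_singleton_self ρ : ρ ∈ IsLocalRing.maximalIdeal B) N
    rwa [hN] at this
  have step : ∀ (j : ℕ) (b : B), ∃ f : Polynomial k, ρ ^ j ∣ b - ev f := by
    intro j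
    induction j with
    | zero => exact fun b => ⟨0, by simp⟩
    | succ j ih =>
      intro b
      obtain ⟨f, c, hc⟩ := ih b
      obtain ⟨a, ha⟩ := hsurjk.2 (IsLocalRing.residue B c)
      have hmem : c - algebraMap k B a ∈ IsLocalRing.maximalIdeal B := by
        rw [← IsLocalRing.residue_eq_zero_iff, map_sub, ← ha]; exact sub_self _
      rw [hρ', Ideal.mem_span_singleton] at hmem
      obtain ⟨d, hd⟩ := hmem
      refine ⟨f + Polynomial.C a * X ^ j, d, ?_⟩
      simp [ev, pow_succ] at hc ⊢
      linear_combination hc + ρ ^ j * hd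
  have hsurj : Function.Surjective ev := fun b => by
    obtain ⟨f, hf⟩ := step N b
    rw [hρN, zero_dvd_iff, sub_eq_zero] at hf
    exact ⟨f, hf.symm⟩
  have hmem : (X : Polynomial k) ^ N ∈ RingHom.ker ev := by
    show Polynomial.aeval ρ ((X : Polynomial k) ^ N) = 0
    simp [hρN]
  obtain ⟨g, hgen⟩ := (IsPrincipalIdealRing.principal (RingHom.ker ev)).principal
  have hgen' : RingHom.ker ev = Ideal.span {g} := hgen
  rw [hgen', Ideal.mem_span_singleton] at hmem
  obtain ⟨j, -, hj⟩ := (dvd_prime_pow Polynomial.prime_X N).1 hmem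
  have hk : RingHom.ker ev = Ideal.span {(X : Polynomial k) ^ j} :=
    hgen'.trans (Ideal.span_singleton_eq_span_singleton.2 hj)
  let E : (Polynomial k ⧸ Ideal.span {(X : Polynomial k) ^ j}) ≃ₐ[k] B :=
    (Ideal.quotientEquivAlgOfEq k hk.symm).trans (Ideal.quotientKerAlgEquivOfSurjective hsurj)
  have hj' : Module.finrank k B = j := by
    rw [← E.toLinearEquiv.finrank_eq, finrank_quotient_span_eq_natDegree, Polynomial.natDegree_X_pow]
  rw [hj']
  exact ⟨E.symm⟩

end Groth.Agent.S14091
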