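import Groth.Statements.S14087
import Mathlib
import Groth.Agent.S14091
-- import your own Groth.Agent.* helpers here

set_option autoImplicit false
universe u
open ArSing

namespace Groth.Agent.S14087

open Polynomial in
/-- Over an algebraically closed field k, if B = k[t]/(t^n) with n ≥ 1 is flat over a k-subalgebra A ⊆ B
(a finite flat extension of pointed finite algebras with curvilinear top), then A is curvilinear
too: A is isomorphic as a k-algebra to k[t]/(t^m) for some m. -/
theorem result (k : Type u) [Field k] [IsAlgClosed k]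
    (n : ℕ) (hn : 0 < n)
    (A : Subalgebra k (Polynomial k ⧸ Ideal.span {(X : Polynomial k) ^ n}))
    [Module.Flat A (Polynomial k ⧸ Ideal.span {(X : Polynomial k) ^ n})] :
    ∃ m : ℕ, Nonempty (A ≃ₐ[k] (Polynomial k ⧸ Ideal.span {(X : Polynomial k) ^ m})) := by
  set B := Polynomial k ⧸ Ideal.span {(X : Polynomial k) ^ n} with hBdef
  set t : B := Ideal.Quotient.mk _ X with ht
  have htn : t ^ n = 0 := by rw [ht, ← map_pow, Ideal.Quotient.eq_zero_iff_mem]; exact Ideal.mem_span_singleton_self _
  have hBne : Nontrivial B := Ideal.Quotient.nontrivial_iff.2 (by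
    rw [Ne, Ideal.span_singleton_eq_top, isUnit_pow_iff hn.ne']; exact Polynomial.not_isUnit_X)
  have hdec : ∀ b : B, ∃ (c : k) (d : B), b = algebraMap k B c + t * d := by
    intro b
    obtain ⟨f, rfl⟩ := Ideal.Quotient.mk_surjective b
    obtain ⟨g, hg⟩ : X ∣ f - Polynomial.C (f.coeff 0) := Polynomial.X_dvd_iff.2 (by simp)
    refine ⟨f.coeff 0, Ideal.Quotient.mk _ g, ?_⟩
    rw [ht, ← map_mul, ← hg, map_sub]
    exact (add_sub_cancel _ _).symm
  have hnil : ∀ d : B, IsNilpotent (t * d) := fun d => ⟨n, by rw [mul_pow, htn, zero_mul]⟩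
  have hBloc : IsLocalRing B := IsLocalRing.of_isUnit_or_isUnit_one_sub_self fun b => by
    obtain ⟨c, d, rfl⟩ := hdec b
    by_cases hc : c = 0
    · subst hc; right; simpa using (hnil d).isUnit_one_sub
    · left
      exact (hnil d).isUnit_add_left_of_commute ((Ne.isUnit hc).map (algebraMap k B)) (Commute.all _ _)
  have : Module.Finite k B := (Polynomial.monic_X_pow (R := k) n).finite_quotient
  have : Module.Finite k A := Module.Finite.of_injective A.val.toLinearMap Subtype.val_injective
  have hunit : ∀ a : A, IsUnit (a : B) → IsUnit a := by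
    intro a ha
    have hi : Function.Injective (LinearMap.mulLeft k a) := fun x y h =>
      Subtype.ext (ha.mul_left_cancel (by simpa using congrArg Subtype.val h))
    obtain ⟨y, hy⟩ := LinearMap.surjective_of_injective hi 1
    exact IsUnit.of_mul_eq_one y hy
  have hAloc : IsLocalRing A := IsLocalRing.of_isUnit_or_isUnit_one_sub_self fun a => by
    rcases IsLocalRing.isUnit_or_isUnit_one_sub_self (a : B) with h | h
    · exact Or.inl (hunit a h)
    · exact Or.inr (hunit (1 - a) h)
  have hlocal : IsLocalHom (algebraMap A B) := ⟨hunit⟩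
  have : Module.FaithfullyFlat A B := @Module.FaithfullyFlat.of_flat_of_isLocalHom A B _ _ _ _ _ _ hlocal
  have hord : ∀ j ≤ n, ∀ b : B, (∃ d, b = t ^ j * d) ∨ ∃ i < j, ∃ u : Bˣ, b = t ^ i * u := by
    intro j
    induction j with
    | zero => intro _ b; exact Or.inl ⟨b, by simp⟩
    | succ j ih =>
      intro hj b
      rcases ih (by omega) b with ⟨d, rfl⟩ | ⟨i, hi, u, rfl⟩
      · by_cases hu : IsUnit d
        · exact Or.inr ⟨j, by omega, hu.unit, rfl⟩
        · obtain ⟨c, e, rfl⟩ := hdec d
          have hc : c = 0 := by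
            by_contra hc
            exact hu ((hnil e).isUnit_add_left_of_commute ((Ne.isUnit hc).map (algebraMap k B)) (Commute.all _ _))
          subst hc
          exact Or.inl ⟨e, by rw [map_zero, zero_add, pow_succ, mul_assoc]⟩
      · exact Or.inr ⟨i, by omega, u, rfl⟩
  have hprinc : ∃ a : A, (IsLocalRing.maximalIdeal A).map (algebraMap A B) = (Ideal.span {a}).map (algebraMap A B) ∧
      a ∈ IsLocalRing.maximalIdeal A := by
    classical
    by_cases hex : ∃ i, i < n ∧ ∃ a ∈ IsLocalRing.maximalIdeal A, ∃ u : Bˣ, (algebraMap A B a) = t ^ i * u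
    · obtain ⟨hin, a, ha, u, hau⟩ := Nat.find_spec hex
      refine ⟨a, le_antisymm (Ideal.map_le_iff_le_comap.2 fun x hx => ?_)
        (Ideal.map_mono ((Ideal.span_singleton_le_iff_mem _).2 ha)), ha⟩
      rw [Ideal.mem_comap, Ideal.map_span, Set.image_singleton, hau, Ideal.mem_span_singleton]
      rcases hord n le_rfl (algebraMap A B x) with ⟨d, hd⟩ | ⟨i, hi, v, hv⟩
      · rw [hd, htn, zero_mul]; exact dvd_zero _
      · rw [hv, Units.mul_right_dvd]
        exact (pow_dvd_pow t (Nat.find_min' hex ⟨hi, x, hx, v, hv⟩)).mul_right _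
    · refine ⟨0, le_antisymm (Ideal.map_le_iff_le_comap.2 fun x hx => ?_) ?_, zero_mem _⟩
      · rcases hord n le_rfl (algebraMap A B x) with ⟨d, hd⟩ | ⟨i, hi, v, hv⟩
        · rw [Ideal.mem_comap, hd, htn, zero_mul]; exact zero_mem _
        · exact absurd ⟨i, hi, x, hx, v, hv⟩ hex
      · simp
  obtain ⟨a, ha, -⟩ := hprinc
  have hm : IsLocalRing.maximalIdeal A = Ideal.span {a} := by
    have := congrArg (Ideal.comap (algebraMap A B)) ha
    rwa [Ideal.comap_map_eq_self_of_faithfullyFlat, Ideal.comap_map_eq_self_of_faithfullyFlat] at this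
  have hcurv : Module.finrank (IsLocalRing.ResidueField A) (IsLocalRing.CotangentSpace A) ≤ 1 := by
    have : IsNoetherianRing A := IsNoetherianRing.of_finite k A
    exact IsLocalRing.finrank_cotangentSpace_le_one_iff.2 ⟨a, hm⟩
  exact ⟨_, Groth.Agent.S14091.result k A hcurv⟩

end Groth.Agent.S14087
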