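import Groth.Statements.S14088
import Mathlib
-- import your own Groth.Agent.* helpers here

set_option autoImplicit false
universe u
open ArSing

namespace Groth.Agent.S14088

/-- The identity behind the torus-equivariant classes h_i = h_0 + i τ of the coordinate hyperplanes of a
projective space of binary forms, stated in an arbitrary commutative ring: for n ≤ m, (h_0 ⋯
h_(n-1))^2 · h_n ⋯ h_(m-1) equals the sum over s = 0, …, n of (-1)^s s! (n choose s) (m choose s)
τ^s h_0 ⋯ h_(m+n-s-1), where h_i = h + i τ. (The published statement is in the equivariant Chow ring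
of that projective space; only the relations h_i = h_j + (j - i) τ are used, so it holds in any
commutative ring.) -/
theorem result (A : Type u) [CommRing A] (h τ : A) (n m : ℕ) (hnm : n ≤ m) :
    (∏ i ∈ Finset.range n, (h + (i : A) * τ) ^ 2) * ∏ i ∈ Finset.Ico n m, (h + (i : A) * τ) =
      ∑ s ∈ Finset.range (n + 1), (-1 : A) ^ s * (Nat.factorial s : A) * (Nat.choose n s : A) *
        (Nat.choose m s : A) * τ ^ s * ∏ i ∈ Finset.range (m + n - s), (h + (i : A) * τ) := by
  set l : ℕ → A := fun i => h + (i : A) * τ with hl
  set P : ℕ → A := fun N => ∏ i ∈ Finset.range N, l i with hP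
  have hlhs : (∏ i ∈ Finset.range n, (h + (i : A) * τ) ^ 2) * ∏ i ∈ Finset.Ico n m, (h + (i : A) * τ) = P n * P m := by
    rw [Finset.prod_pow, sq, mul_assoc, Finset.prod_range_mul_prod_Ico _ hnm]
  rw [hlhs]
  set c : ℕ → ℕ → A := fun n s => (-1 : A) ^ s * (Nat.factorial s : A) * (Nat.choose n s : A) * (Nat.choose m s : A) * τ ^ s with hc
  show P n * P m = ∑ s ∈ Finset.range (n + 1), c n s * P (m + n - s)
  clear hlhs hnm
  induction n with
  | zero => simp [hP, hc]
  | succ n ih =>
    have h1 : P (n + 1) * P m = P n * P m * l n := by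
      rw [show P (n + 1) = P n * l n from Finset.prod_range_succ l n]; ring
    have h2 : ∀ s ∈ Finset.range (n + 1), c n s * P (m + n - s) * l n =
        c n s * P (m + (n + 1) - s) + (-(c n s) * ((m : A) - (s : A)) * τ) * P (m + n - s) := by
      intro s hs
      rw [Finset.mem_range] at hs
      rw [show m + (n + 1) - s = (m + n - s) + 1 by omega,
        show P (m + n - s + 1) = P (m + n - s) * l (m + n - s) from Finset.prod_range_succ l _]
      simp only [hl]
      rw [Nat.cast_sub (show s ≤ m + n by omega), Nat.cast_add]
      ring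
    rw [h1, ih, Finset.sum_mul, Finset.sum_congr rfl h2, Finset.sum_add_distrib]
    have e0 : ∑ s ∈ Finset.range (n + 1), c n s * P (m + (n + 1) - s) =
        ∑ s ∈ Finset.range (n + 2), c n s * P (m + (n + 1) - s) := by
      rw [Finset.sum_range_succ _ (n + 1)]
      simp [hc, Nat.choose_succ_self]
    rw [e0, Finset.sum_range_succ' _ (n + 1), Finset.sum_range_succ' (fun s => c (n + 1) s * P (m + (n + 1) - s)),
      add_right_comm, ← Finset.sum_add_distrib]
    congr 1
    · refine Finset.sum_congr rfl fun s _ => ?_
      rw [show m + (n + 1) - (s + 1) = m + n - s by omega, ← add_mul]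
      congr 1
      have hm : (Nat.choose m s : A) * ((m : A) - s) = (Nat.choose m (s + 1) : A) * ((s : A) + 1) := by
        rcases le_or_gt s m with hsm | hsm
        · rw [← Nat.cast_sub hsm]
          exact_mod_cast congrArg (Nat.cast : ℕ → A) (Nat.choose_succ_right_eq m s).symm
        · simp [Nat.choose_eq_zero_of_lt hsm, Nat.choose_eq_zero_of_lt (hsm.trans (Nat.lt_succ_self s))]
      simp only [hc, Nat.factorial_succ, Nat.choose_succ_succ, Nat.cast_mul, Nat.cast_add, Nat.cast_one, pow_succ]
      linear_combination (-((-1 : A) ^ s * (Nat.factorial s : A) * (Nat.choose n s : A) * τ ^ s * τ)) * hm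
    · simp [hc]

end Groth.Agent.S14088
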