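import Groth.Statements.S14089
import Groth.Agent.BlowUpFlatPowers.Algebra
import Groth.Agent.BlowUpLCI.BaseChange
import Groth.Agent.BlowUpBasics.AtlasOf
import Groth.Agent.HTopHyper.BlowUpProper

set_option autoImplicit false
set_option linter.style.haveILetI false
universe u
open CategoryTheory AlgebraicGeometry
open BlowUp CategoryTheory.Limits TensorProduct

namespace Groth.Agent.S14089

open CategoryTheory.Limits TensorProduct Groth.BlowUpBasics in
/-- A chart of a blow-up at a point, over an affine open of the base. -/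
theorem exists_chart {X X' : Scheme.{u}} {𝓘 : X.IdealSheafData} {b : X' ⟶ X} (hb : BlowUp.IsBlowUp b 𝓘)
    (x : X') {U : X.Opens} (hU : IsAffineOpen U) (hx : b x ∈ U) :
    ∃ a : Γ(X, U), a ∈ 𝓘.ideal ⟨U, hU⟩ ∧
      ∃ j : Spec (CommRingCat.of (BlowUp.affineAlgebra Γ(X, U) (𝓘.ideal ⟨U, hU⟩) a)) ⟶ X',
        IsOpenImmersion j ∧ x ∈ Set.range j ∧ j ≫ b = chartBase (𝓘.ideal ⟨U, hU⟩) a ≫ hU.fromSpec := by
  have hb' : BlowUp.IsBlowUp (pullback.snd b hU.fromSpec) (𝓘.comap hU.fromSpec) :=
    isBlowUp_of_isPullback hb (IsPullback.of_hasPullback _ _).flip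
  rw [Groth.BlowUpLCI.comap_fromSpec] at hb'
  obtain ⟨T⟩ := nonempty_atlas_of_isBlowUp hb'
  obtain ⟨p, hp⟩ : ∃ p, pullback.fst b hU.fromSpec p = x := by
    change x ∈ Set.range (pullback.fst b hU.fromSpec)
    rw [Scheme.Pullback.range_fst, hU.range_fromSpec]
    exact hx
  obtain ⟨a, y, hy⟩ := T.covers p
  refine ⟨a.1, a.2, T.j a ≫ pullback.fst b hU.fromSpec, inferInstance, ⟨y, ?_⟩, ?_⟩
  · rw [Scheme.Hom.comp_apply, hy, hp]
  · rw [Category.assoc, pullback.condition, ← Category.assoc, T.fac]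

/-- Flatness of the closed subschemes on an affine chart. -/
theorem flat_quotient_of_flat {X S : Scheme.{u}} (f : X ⟶ S) (K : X.IdealSheafData) [Flat (K.subschemeι ≫ f)]
    {W : S.Opens} (hW : IsAffineOpen W) {U : X.Opens} (hU : IsAffineOpen U) (e : U ≤ f ⁻¹ᵁ W) :
    ((Ideal.Quotient.mk (K.ideal ⟨U, hU⟩)).comp (f.appLE W U e).hom).Flat := by
  have hV : IsAffineOpen (K.subschemeι ⁻¹ᵁ U) := hU.preimage K.subschemeι
  have h := (K.subschemeι ≫ f).flat_appLE hW hV (fun z hz => e hz)
  rw [← Scheme.Hom.appLE_comp_appLE K.subschemeι f W U (K.subschemeι ⁻¹ᵁ U) e le_rfl,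
    ← Scheme.Hom.app_eq_appLE, K.subschemeι_app ⟨U, hU⟩] at h
  have h2 := h.comp (RingHom.Flat.of_bijective (K.subschemeObjIso ⟨U, hU⟩).commRingCatIsoToRingEquiv.bijective)
  have : ((K.subschemeObjIso ⟨U, hU⟩).commRingCatIsoToRingEquiv.toRingHom).comp
      (f.appLE W U e ≫ CommRingCat.ofHom (Ideal.Quotient.mk (K.ideal ⟨U, hU⟩)) ≫
        (K.subschemeObjIso ⟨U, hU⟩).inv).hom =
      (Ideal.Quotient.mk (K.ideal ⟨U, hU⟩)).comp (f.appLE W U e).hom := by
    ext r
    exact congr(($((K.subschemeObjIso ⟨U, hU⟩).inv_hom_id)).hom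
      (Ideal.Quotient.mk (K.ideal ⟨U, hU⟩) ((f.appLE W U e).hom r)))
  exact this ▸ h2

/-- Powers of the ideal on a chart have flat quotients. -/
theorem flat_quotient_pow {X S : Scheme.{u}} (f : X ⟶ S) [Flat f] (𝓘 : X.IdealSheafData)
    (hfl : ∀ m : ℕ, 1 ≤ m → Flat ((𝓘 ^ m).subschemeι ≫ f))
    {W : S.Opens} (hW : IsAffineOpen W) {U : X.Opens} (hU : IsAffineOpen U) (e : U ≤ f ⁻¹ᵁ W) (m : ℕ) :
    letI := (f.appLE W U e).hom.toAlgebra
    Module.Flat Γ(S, W) (Γ(X, U) ⧸ 𝓘.ideal ⟨U, hU⟩ ^ m) := by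
  letI := (f.appLE W U e).hom.toAlgebra
  rcases Nat.eq_zero_or_pos m with rfl | hm
  · haveI : Subsingleton (Γ(X, U) ⧸ 𝓘.ideal ⟨U, hU⟩ ^ 0) :=
      Ideal.Quotient.subsingleton_iff.2 (by rw [pow_zero, Ideal.one_eq_top])
    infer_instance
  · haveI := hfl m hm
    have h := flat_quotient_of_flat f (𝓘 ^ m) hW hU e
    rw [Scheme.IdealSheafData.ideal_pow, Pi.pow_apply] at h
    exact RingHom.flat_algebraMap_iff.1 h

/-- Let f : X → S be flat, proper and of finite presentation, 𝓘 a quasi-coherent ideal of finite type on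
X with V(𝓘^m) flat over S for all m ≥ 1, and b : X' → X a blowing up of X in 𝓘. Then X' is flat and
proper over S, and blowing up commutes with every base change T → S: if X_T = X ×_S T and X'_T = X'
×_X X_T, the projection X'_T → X_T is a blowing up of X_T in the inverse image of 𝓘. (The published
statement puts no finiteness condition on the ideal; for S = X the spectrum of an infinite product
of fields and 𝓘 the ideal of finitely supported sequences every V(𝓘^m) is flat, yet the blow-up is a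
non-quasi-compact open subscheme, not proper — so the ideal is taken of finite type here, and finite
presentation of X' over S is not asserted.) -/
theorem result {X X' S T XT XT' : Scheme.{u}}
    (f : X ⟶ S) [Flat f] [IsProper f] [LocallyOfFinitePresentation f]
    (𝓘 : X.IdealSheafData) (hft : BlowUp.IsFiniteTypeIdeal 𝓘)
    (hfl : ∀ m : ℕ, 1 ≤ m → Flat ((𝓘 ^ m).subschemeι ≫ f))
    (b : X' ⟶ X) (hb : BlowUp.IsBlowUp b 𝓘)
    (g : T ⟶ S) (pX : XT ⟶ X) (fT : XT ⟶ T) (hX : IsPullback pX fT f g)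
    (pX' : XT' ⟶ X') (bT : XT' ⟶ XT) (hX' : IsPullback pX' bT b pX) :
    Flat (b ≫ f) ∧ IsProper (b ≫ f) ∧ BlowUp.IsBlowUp bT (𝓘.comap pX) := by
  classical
  refine ⟨?_, ?_, ?_⟩
  · -- flatness
    have hloc : ∀ x : X', ∃ (V : X'.Opens), x ∈ V ∧ Flat (V.ι ≫ b ≫ f) := by
      intro x
      obtain ⟨W, hW, hxW, -⟩ := exists_isAffineOpen_mem_and_subset (x := f (b x)) (U := ⊤) trivial
      obtain ⟨U, hU, hxU, hUW⟩ := exists_isAffineOpen_mem_and_subset (x := b x) (U := f ⁻¹ᵁ W) hxW
      obtain ⟨a, ha, j, hj, hxj, hjb⟩ := exists_chart hb x hU hxU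
      let _ := (f.appLE W U hUW).hom.toAlgebra
      haveI : Module.Flat Γ(S, W) Γ(X, U) := f.flat_appLE hW hU hUW
      have hBflat := Groth.BlowUpFlatPowers.flat_affineAlgebra (R := Γ(S, W)) (𝓘.ideal ⟨U, hU⟩) a ha
        (flat_quotient_pow f 𝓘 hfl hW hU hUW)
      refine ⟨j.opensRange, hxj, ?_⟩
      rw [← MorphismProperty.cancel_left_of_respectsIso @Flat j.isoOpensRange.hom,
        Scheme.Hom.isoOpensRange_hom_ι_assoc, ← Category.assoc, hjb, Category.assoc,
        Groth.BlowUpBasics.chartBase, ← IsAffineOpen.SpecMap_appLE_fromSpec f hW hU hUW,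
        ← Category.assoc, ← Spec.map_comp]
      haveI : Flat (Spec.map (f.appLE W U hUW ≫ CommRingCat.ofHom
          (algebraMap Γ(X, U) (BlowUp.affineAlgebra Γ(X, U) (𝓘.ideal ⟨U, hU⟩) a)))) := by
        rw [Flat.SpecMap_iff]
        exact RingHom.flat_algebraMap_iff.2 hBflat
      infer_instance
    choose V hxV hV using hloc
    rw [IsZariskiLocalAtSource.iff_of_iSup_eq_top (P := @Flat) V
      (eq_top_iff.2 fun x _ => TopologicalSpace.Opens.mem_iSup.2 ⟨x, hxV x⟩)]
    exact hV
  · haveI := Groth.HTopHyper.isProper_of_isBlowUp hb hft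
    infer_instance
  · refine ⟨?_, fun Y g' hC => ?_⟩
    · rw [← Scheme.IdealSheafData.comap_comp]
      refine Groth.BlowUpLCI.isEffCartierIdeal_of_openCover fun p => ?_
      have hp : b (pX' p) = pX (bT p) := by rw [← Scheme.Hom.comp_apply, hX'.w, Scheme.Hom.comp_apply]
      have hp' : f (pX (bT p)) = g (fT (bT p)) := by rw [← Scheme.Hom.comp_apply, hX.w, Scheme.Hom.comp_apply]
      obtain ⟨W, hW, hxW, -⟩ := exists_isAffineOpen_mem_and_subset (x := f (pX (bT p))) (U := ⊤) trivial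
      obtain ⟨W', hW', hxW', hW'W⟩ := exists_isAffineOpen_mem_and_subset (x := fT (bT p)) (U := g ⁻¹ᵁ W)
        (show g (fT (bT p)) ∈ W from hp' ▸ hxW)
      obtain ⟨U, hU, hxU, hUW⟩ := exists_isAffineOpen_mem_and_subset (x := pX (bT p)) (U := f ⁻¹ᵁ W) hxW
      obtain ⟨a, ha, j, hj, hxj, hjb⟩ := exists_chart hb (pX' p) hU (hp ▸ hxU)
      let I := 𝓘.ideal ⟨U, hU⟩
      let _ := (f.appLE W U hUW).hom.toAlgebra
      let _ := (g.appLE W W' hW'W).hom.toAlgebra
      let A' := Γ(X, U) ⊗[Γ(S, W)] Γ(T, W')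
      let q := pullback.map (Spec.map (f.appLE W U hUW)) (Spec.map (g.appLE W W' hW'W)) f g
        hU.fromSpec hW'.fromSpec hW.fromSpec (IsAffineOpen.SpecMap_appLE_fromSpec f hW hU hUW)
        (IsAffineOpen.SpecMap_appLE_fromSpec g hW hW' hW'W)
      let c : Spec (CommRingCat.of A') ⟶ XT :=
        (pullbackSpecIso Γ(S, W) Γ(X, U) Γ(T, W')).inv ≫ q ≫ hX.isoPullback.inv
      have hqo : IsOpenImmersion q := inferInstance
      have hco : IsOpenImmersion c := inferInstance
      let σ := Spec.map (CommRingCat.ofHom (algebraMap Γ(X, U) A'))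
      have hcp : c ≫ pX = σ ≫ hU.fromSpec := by
        simp only [c, q, Category.assoc, IsPullback.isoPullback_inv_fst, pullback.lift_fst]
        exact pullbackSpecIso_inv_fst_assoc _ _ _ _
      have hxc : bT p ∈ Set.range c := by
        rw [show Set.range c = (hX.isoPullback.inv '' Set.range q) by
          rw [← Set.range_comp, show ⇑c = (⇑hX.isoPullback.inv ∘ ⇑q) ∘
            ⇑(pullbackSpecIso Γ(S, W) Γ(X, U) Γ(T, W')).inv from rfl,
            (Scheme.Hom.surjective _).range_comp]]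
        refine ⟨hX.isoPullback.hom (bT p), ?_, by rw [← Scheme.Hom.comp_apply, Iso.hom_inv_id]; rfl⟩
        rw [Scheme.Pullback.range_map]
        rw [IsAffineOpen.range_fromSpec, IsAffineOpen.range_fromSpec]
        refine ⟨?_, ?_⟩
        · rw [Set.mem_preimage, ← Scheme.Hom.comp_apply hX.isoPullback.hom, hX.isoPullback_hom_fst]
          exact hxU
        · rw [Set.mem_preimage, ← Scheme.Hom.comp_apply hX.isoPullback.hom, hX.isoPullback_hom_snd]
          exact hxW'
      let r := pullback.map σ (Groth.BlowUpBasics.chartBase I a) pX b c j hU.fromSpec hcp.symm hjb.symm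
      let k := r ≫ hX'.flip.isoPullback.inv
      have hro : IsOpenImmersion r := inferInstance
      refine ⟨_, k, inferInstance, ?_, ?_⟩
      · rw [show Set.range k = hX'.flip.isoPullback.inv '' Set.range r by
          rw [← Set.range_comp]; rfl]
        refine ⟨hX'.flip.isoPullback.hom p, ?_, by rw [← Scheme.Hom.comp_apply, Iso.hom_inv_id]; rfl⟩
        rw [Scheme.Pullback.range_map]
        refine ⟨?_, ?_⟩
        · rw [Set.mem_preimage, ← Scheme.Hom.comp_apply hX'.flip.isoPullback.hom, hX'.flip.isoPullback_hom_fst]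
          exact hxc
        · rw [Set.mem_preimage, ← Scheme.Hom.comp_apply hX'.flip.isoPullback.hom, hX'.flip.isoPullback_hom_snd]
          exact hxj
      · have hk : k ≫ bT = pullback.fst σ (Groth.BlowUpBasics.chartBase I a) ≫ c := by
          simp only [k, r, Category.assoc, IsPullback.isoPullback_inv_fst, pullback.lift_fst]
        let Bk := BlowUp.affineAlgebra Γ(X, U) I a
        rw [← Scheme.IdealSheafData.comap_comp, reassoc_of% hk, hcp, ← Category.assoc,
          Scheme.IdealSheafData.comap_comp, Groth.BlowUpLCI.comap_fromSpec]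
        change BlowUp.IsEffCartierIdeal ((Groth.BlowUpBasics.sheafOf I).comap
          (pullback.fst (Spec.map (CommRingCat.ofHom (algebraMap Γ(X, U) A')))
            (Spec.map (CommRingCat.ofHom (algebraMap Γ(X, U) Bk))) ≫ σ))
        rw [pullback.condition, ← pullbackSpecIso_hom_snd Γ(X, U) A' Bk, Category.assoc, ← Spec.map_comp,
          ← CommRingCat.ofHom_comp, Scheme.IdealSheafData.comap_comp, Groth.BlowUpBasics.comap_sheafOf_Spec]
        refine Groth.BlowUpBasics.isEffCartierIdeal_comap_of_flat _ ?_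
        have hmap : I.map ((Algebra.TensorProduct.includeRight (R := Γ(X, U)) (A := A') (B := Bk)).toRingHom.comp
            (algebraMap Γ(X, U) Bk)) = Ideal.span {algebraMap Γ(X, U) A' a ⊗ₜ[Γ(X, U)] (1 : Bk)} := by
          rw [← Ideal.map_map, Groth.BlowUpBasics.map_eq_span ha, Ideal.map_span, Set.image_singleton]
          refine congrArg (fun z => Ideal.span {z}) ?_
          show (1 : A') ⊗ₜ[Γ(X, U)] algebraMap Γ(X, U) Bk a = _
          rw [Algebra.algebraMap_eq_smul_one, Algebra.algebraMap_eq_smul_one, ← smul_tmul]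
        refine hmap ▸ Groth.BlowUpBasics.isEffCartierIdeal_sheafOf_span ?_
        exact Groth.BlowUpFlatPowers.tmul_mem_nonZeroDivisors I a ha (flat_quotient_pow f 𝓘 hfl hW hU hUW)
    · rw [← Scheme.IdealSheafData.comap_comp] at hC
      obtain ⟨h₀, hh₀, huniq⟩ := hb.2 Y (g' ≫ pX) hC
      refine ⟨hX'.lift h₀ g' hh₀, hX'.lift_snd _ _ _, fun h' hh' => ?_⟩
      refine hX'.hom_ext ?_ (hh'.trans (hX'.lift_snd _ _ _).symm)
      rw [hX'.lift_fst]
      refine huniq _ ?_
      change (h' ≫ pX') ≫ b = g' ≫ pX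
      simp only at hh'
      rw [Category.assoc, hX'.w, ← Category.assoc, hh']

end Groth.Agent.S14089
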