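import Groth.Statements.S14090
import Groth.Agent.BlowUpBasics.Charts
-- import your own Groth.Agent.* helpers here

set_option autoImplicit false
universe u
open CategoryTheory AlgebraicGeometry
open BlowUp
open CategoryTheory.Limits

namespace Groth.Agent.S14090

open Groth.BlowUpBasics

section
variable {A B : Type u} [CommRing A] [CommRing B] [Algebra A B] {I : Ideal A}

lemma exists_mul_eq (hIB : (Ideal.map (algebraMap A B) I : Set B) ⊆ algebraMap A B '' (I : Set A))
    (x : B) {a : A} (ha : a ∈ I) : ∃ c ∈ I, algebraMap A B c = x * algebraMap A B a := by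
  obtain ⟨c, hc, e⟩ := hIB (Ideal.mul_mem_left _ x (Ideal.mem_map_of_mem _ ha))
  exact ⟨c, hc, e⟩

lemma hom_ext_aux {Y : Scheme.{u}}
    (hIB : (Ideal.map (algebraMap A B) I : Set B) ⊆ algebraMap A B '' (I : Set A))
    {k k' : Y ⟶ Spec (CommRingCat.of B)}
    (w : k ≫ Spec.map (CommRingCat.ofHom (algebraMap A B)) = k' ≫ Spec.map (CommRingCat.ofHom (algebraMap A B)))
    (hC : BlowUp.IsEffCartierIdeal
      ((sheafOf I).comap (k ≫ Spec.map (CommRingCat.ofHom (algebraMap A B))))) : k = k' := by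
  set b := Spec.map (CommRingCat.ofHom (algebraMap A B)) with hb
  have key : ∀ y : Y, ∃ U : Y.affineOpens, y ∈ U.1 ∧ U.2.fromSpec ≫ k = U.2.fromSpec ≫ k' := by
    intro y
    obtain ⟨U, hyU, -, a, ha, hnzd, -⟩ := exists_local_generator (k ≫ b) hC y (O := ⊤) trivial
    refine ⟨U, hyU, ?_⟩
    have e : ∀ k₀ : Y ⟶ Spec (CommRingCat.of B),
        (phi k₀ U.1).comp (algebraMap A B) = phi (k₀ ≫ b) U.1 := by
      intro k₀
      have h1 : Spec.map (CommRingCat.ofHom ((phi k₀ U.1).comp (algebraMap A B))) =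
          Spec.map (CommRingCat.ofHom (phi (k₀ ≫ b) U.1)) := by
        rw [CommRingCat.ofHom_comp, Spec.map_comp, ← fromSpec_comp k₀ U.2, ← fromSpec_comp (k₀ ≫ b) U.2,
          Category.assoc]
      simpa using congrArg CommRingCat.Hom.hom (Spec.map_injective h1)
    rw [fromSpec_comp k U.2, fromSpec_comp k' U.2]
    congr 2
    ext x
    obtain ⟨c, -, hc⟩ := exists_mul_eq hIB x ha
    have h1 := congrArg (phi k U.1) hc
    have h2 := congrArg (phi k' U.1) hc
    rw [map_mul, ← RingHom.comp_apply, ← RingHom.comp_apply (phi k U.1), e] at h1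
    rw [map_mul, ← RingHom.comp_apply, ← RingHom.comp_apply (phi k' U.1), e, ← w] at h2
    exact (mul_cancel_right_mem_nonZeroDivisors hnzd).mp (h1.symm.trans h2)
  choose U hyU hU using key
  exact Scheme.Cover.hom_ext (𝒰 := coverOfAffines U hyU) k k' fun y ↦ hU y

lemma exists_ringHom_aux {R : Type u} [CommRing R] (hinj : Function.Injective (algebraMap A B))
    (hIB : (Ideal.map (algebraMap A B) I : Set B) ⊆ algebraMap A B '' (I : Set A))
    (φ : A →+* R) {a : A} (ha : a ∈ I) (hnzd : φ a ∈ nonZeroDivisors R)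
    (hI : I.map φ = Ideal.span {φ a}) : ∃ ψ : B →+* R, ψ.comp (algebraMap A B) = φ := by
  choose c hc hcx using fun x : B ↦ exists_mul_eq hIB x ha
  choose q hq using fun x : B ↦ Ideal.mem_span_singleton'.mp (hI.le (Ideal.mem_map_of_mem φ (hc x)))
  have cancel : ∀ {p r : R}, p * φ a = r * φ a → p = r :=
    fun h ↦ (mul_cancel_right_mem_nonZeroDivisors hnzd).mp h
  have hlin : ∀ r : A, c (algebraMap A B r) = r * a := fun r ↦ hinj (by rw [hcx, map_mul])
  have hq_alg : ∀ r : A, q (algebraMap A B r) = φ r := fun r ↦ cancel (by rw [hq, hlin, map_mul])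
  refine ⟨{ toFun := q, map_one' := ?_, map_mul' := ?_, map_zero' := ?_, map_add' := ?_ },
    RingHom.ext hq_alg⟩
  · simpa using hq_alg 1
  · intro x y
    apply cancel
    apply cancel
    have e : c (x * y) * a = c x * c y := hinj (by
      rw [map_mul, map_mul, hcx, hcx, hcx]; ring)
    calc q (x * y) * φ a * φ a = φ (c (x * y) * a) := by rw [hq, map_mul]
      _ = φ (c x) * φ (c y) := by rw [e, map_mul]
      _ = q x * q y * φ a * φ a := by rw [← hq, ← hq]; ring
  · simpa using hq_alg 0
  · intro x y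
    apply cancel
    have e : c (x + y) = c x + c y := hinj (by rw [map_add, hcx, hcx, hcx]; ring)
    rw [hq, e, map_add, add_mul, hq, hq]

end

/-- Let A → B be an injective ring homomorphism and I an ideal of A such that the ideal I·B of B is
contained in the image of I (so I is an ideal of B as well) and I·B is generated by one
nonzerodivisor of B (I is free of rank one over B). Then Spec B → Spec A is a blowing up of Spec A
in I. (This is the affine statement behind recovering a pair (X̃, D̃), D̃ an effective Cartier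
divisor finite flat over D, as the blow-up of the pushout X̃ ⨿_D̃ D along D.) -/
theorem result (A B : Type u) [CommRing A] [CommRing B] [Algebra A B]
    (hinj : Function.Injective (algebraMap A B)) (I : Ideal A)
    (hIB : (Ideal.map (algebraMap A B) I : Set B) ⊆ algebraMap A B '' (I : Set A))
    (f : B) (hf : f ∈ nonZeroDivisors B) (hgen : Ideal.map (algebraMap A B) I = Ideal.span {f}) :
    BlowUp.IsBlowUp (Spec.map (CommRingCat.ofHom (algebraMap A B))) (Curv2.idealSheaf A I) := by
  change BlowUp.IsBlowUp _ (sheafOf I)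
  set b := Spec.map (CommRingCat.ofHom (algebraMap A B))
  refine ⟨fun x ↦ ⟨⟨⊤, isAffineOpen_top _⟩, trivial,
    (Scheme.ΓSpecIso (CommRingCat.of B)).inv.hom f, ?_, ?_⟩, fun Y g hg ↦ ?_⟩
  · exact map_mem_nonZeroDivisors_of_flat (RingHom.Flat.of_bijective
      (Scheme.ΓSpecIso (CommRingCat.of B)).symm.commRingCatIsoToRingEquiv.bijective) hf
  · rw [ideal_comap_sheafOf, phi_Spec, ← Ideal.map_map, hgen, Ideal.map_span, Set.image_singleton]
  have key : ∀ y : Y, ∃ U : Y.affineOpens, y ∈ U.1 ∧
      ∃ h : Spec Γ(Y, U.1) ⟶ Spec (CommRingCat.of B), h ≫ b = U.2.fromSpec ≫ g := by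
    intro y
    obtain ⟨U, hyU, -, a, ha, hnzd, hI⟩ := exists_local_generator g hg y (O := ⊤) trivial
    obtain ⟨ψ, hψ⟩ := exists_ringHom_aux hinj hIB (phi g U.1) ha hnzd hI
    refine ⟨U, hyU, Spec.map (CommRingCat.ofHom ψ), ?_⟩
    rw [← Spec.map_comp, ← CommRingCat.ofHom_comp, hψ]
    exact (fromSpec_comp g U.2).symm
  choose U hyU h hh using key
  let 𝒰 : Y.OpenCover := coverOfAffines U hyU
  have hc : ∀ x y : Y, pullback.fst (𝒰.f x) (𝒰.f y) ≫ h x = pullback.snd _ _ ≫ h y := by
    intro x y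
    refine hom_ext_aux hIB ?_ ?_
    · exact (Category.assoc _ _ _).trans ((congrArg _ (hh x)).trans
        ((pullback.condition_assoc g).trans ((congrArg _ (hh y)).symm.trans (Category.assoc _ _ _).symm)))
    · erw [Category.assoc, hh, ← Category.assoc, Scheme.IdealSheafData.comap_comp]
      have h1 : ∀ z : 𝒰.I₀, IsOpenImmersion (𝒰.f z) := fun z ↦ IsAffineOpen.isOpenImmersion_fromSpec (U z).2
      have h2 : IsOpenImmersion (pullback.fst (𝒰.f x) (𝒰.f y) ≫ 𝒰.f x) :=
        @IsOpenImmersion.comp _ _ _ _ _ (MorphismProperty.pullback_fst (P := @IsOpenImmersion) _ _ (h1 y)) (h1 x)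
      exact isEffCartierIdeal_comap_of_flat (pullback.fst (𝒰.f x) (𝒰.f y) ≫ 𝒰.f x) hg
  have hglue : 𝒰.glueMorphisms h hc ≫ b = g := by
    refine Scheme.Cover.hom_ext (𝒰 := 𝒰) _ _ fun x ↦ ?_
    refine (Category.assoc _ _ _).symm.trans ?_
    exact (congrArg (· ≫ b) (Scheme.Cover.ι_glueMorphisms 𝒰 h hc x)).trans (hh x)
  exact ⟨_, hglue, fun k' hk' ↦ hom_ext_aux hIB (hk'.trans hglue.symm) (by rw [hk']; exact hg)⟩

end Groth.Agent.S14090
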