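import Groth.Statements.S14093
import Mathlib
import Groth.Agent.Misc6.ArFixed
open Groth.Misc6.Ar

set_option autoImplicit false
universe u
open ArSing

namespace Groth.Agent.S14093

/-- For an algebraically closed field k of characteristic prime to 2 and to r+1 and the involution σ of
A_r = k[[x,y]]/(y^2 - x^(r+1)) with σ(x) = x, σ(y) = -y: the invariant subalgebra is k[[x]] (the
image of t ↦ x from k[[t]]), the inclusion k[[x]] → A_r is faithfully flat (flat, and the maximal
ideal of k[[t]] does not generate the unit ideal of A_r), and the fixed locus (the closed subscheme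
cut out by all σ(a) - a) is a Cartier divisor of length r + 1, i.e. its ideal is generated by one
nonzerodivisor and the quotient has length r + 1. -/
theorem result (k : Type u) [Field k] [IsAlgClosed k] (r : ℕ)
    (h2 : (2 : k) ≠ 0) (hr : ((r + 1 : ℕ) : k) ≠ 0)
    (σ : ArSing.ring k r ≃ₐ[k] ArSing.ring k r) (hx : σ (ArSing.x k r) = ArSing.x k r)
    (hy : σ (ArSing.y k r) = -ArSing.y k r) :
    (∀ a : ArSing.ring k r, σ a = a ↔ a ∈ (ArSing.xMap k r).range) ∧
    ((ArSing.xMap k r).toRingHom.Flat ∧
      Ideal.map (ArSing.xMap k r) (IsLocalRing.maximalIdeal (PowerSeries k)) ≠ ⊤) ∧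
    (∃ g : ArSing.ring k r, g ∈ nonZeroDivisors (ArSing.ring k r) ∧
      Ideal.span (Set.range fun a : ArSing.ring k r => σ a - a) = Ideal.span {g}) ∧
    Module.length (ArSing.ring k r)
      (ArSing.ring k r ⧸ Ideal.span (Set.range fun a : ArSing.ring k r => σ a - a)) = r + 1 := by
  classical
  have hσX : ∀ a, σ (xMap k r a) = xMap k r a := fun a => by
    have := map_xMap_resc σ.toAlgHom (1 : k) (by simpa using hx) a
    simpa [resc_apply, PowerSeries.rescale_one] using this
  have hσ' : ∀ z, σ z = xMap k r (pa r z) + xMap k r (-pb r z) * ArSing.y k r := fun z => by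
    conv_lhs => rw [eq_normal r z, map_add σ, map_mul σ, hσX, hσX, hy]
    rw [map_neg]; ring
  have hI : Ideal.span (Set.range fun a : ArSing.ring k r => σ a - a) = Ideal.span {ArSing.y k r} := by
    refine le_antisymm (sub_mem_span fun a => ?_) ((Ideal.span_singleton_le_iff_mem _).2 (mem_span_of_neg h2 hy))
    have e : σ a - a = (xMap k r (-pb r a) - xMap k r (pb r a)) * ArSing.y k r := by
      rw [hσ' a]; linear_combination -(eq_normal r a)
    rw [e]
    exact Ideal.mul_mem_left _ _ (Ideal.mem_span_singleton_self _)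
  refine ⟨fun a => ⟨fun ha => ⟨pa r a, ?_⟩, ?_⟩, ⟨?_, ?_⟩, ⟨ArSing.y k r, ?_, hI⟩, ?_⟩
  · have h := congrArg (pb r) ha
    rw [hσ', pb_normal] at h
    have hb : pb r a = 0 := (mul_eq_zero.1 (show 2 * pb r a = 0 by linear_combination -h)).resolve_left (ne_zero_two h2)
    have e := eq_normal r a
    rw [hb, map_zero, zero_mul, add_zero] at e
    exact e.symm
  · rintro ⟨b, rfl⟩; exact hσX b
  · algebraize [(ArSing.xMap k r).toRingHom]
    change Module.Flat (PowerSeries k) (ArSing.ring k r)
    have hm : ∀ (c : PowerSeries k) (z : ArSing.ring k r), c • z = xMap k r c * z := fun c z => rfl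
    exact Module.Flat.of_linearEquiv
      ({ toFun := fun z => (pa r z, pb r z)
         invFun := fun v => xMap k r v.1 + xMap k r v.2 * ArSing.y k r
         map_add' := fun z w => by simp
         map_smul' := fun c z => by
           rw [hm, pa_mul, pb_mul]
           simp
         left_inv := fun z => (eq_normal r z).symm
         right_inv := fun v => Prod.ext (pa_normal r _ _) (pb_normal r _ _) } :
        ArSing.ring k r ≃ₗ[PowerSeries k] PowerSeries k × PowerSeries k)
  · intro h
    have hle : Ideal.map (ArSing.xMap k r) (IsLocalRing.maximalIdeal (PowerSeries k)) ≤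
        IsLocalRing.maximalIdeal (ArSing.ring k r) := by
      rw [PowerSeries.maximalIdeal_eq_span_X, Ideal.map_span, Set.image_singleton, Ideal.span_le]
      simpa [xMap_X] using x_mem r
    exact (IsLocalRing.maximalIdeal.isMaximal _).ne_top (top_le_iff.1 (h ▸ hle))
  · rw [mem_nonZeroDivisors_iff_right]
    intro z hz
    have ha := congrArg (pa r) hz
    have hb := congrArg (pb r) hz
    rw [pa_mul, pa_y, pb_y, map_zero] at ha
    rw [pb_mul, pa_y, pb_y, map_zero] at hb
    refine ext_normal r ?_ ?_ <;> rw [map_zero]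
    · linear_combination hb
    · exact (mul_eq_zero.1 (show pb r z * PowerSeries.X ^ (r + 1) = 0 by linear_combination ha)).resolve_right
        (pow_ne_zero _ PowerSeries.X_ne_zero)
  · rw [hI, show (r : ℕ∞) + 1 = ((r + 1 : ℕ) : ℕ∞) by push_cast; rfl]
    refine length_quot_of (ArSing.xMap k r) _ (r + 1) (fun z => ⟨pa r z, ?_⟩) (fun a => ?_)
    · nth_rewrite 1 [eq_normal r z]
      rw [add_sub_cancel_left]
      exact Ideal.mul_mem_left _ _ (Ideal.mem_span_singleton_self _)
    · rw [Ideal.mem_span_singleton']
      constructor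
      · rintro ⟨w, hw⟩
        have := congrArg (pa r) hw
        rw [pa_mul, pa_y, pb_y, pa_xMap] at this
        exact ⟨pb r w, by linear_combination -this⟩
      · rintro ⟨b, rfl⟩
        refine ⟨xMap k r b * ArSing.y k r, ?_⟩
        rw [mul_assoc, y_sq, ← map_mul, mul_comm]

end Groth.Agent.S14093
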