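import Groth.Statements.S14094
import Mathlib
import Groth.Agent.Misc6.ArFixed
open Groth.Misc6.Ar

set_option autoImplicit false
universe u
open ArSing

namespace Groth.Agent.S14094

/-- K algebraically closed of characteristic prime to 2 and to r+1, r = 2m - 1 with m ≥ 2, σ the
involution x ↦ -x, y ↦ y of A_r = k[[x,y]]/(y^2 - x^(r+1)), and φ : A_(m-1) → A_r the k-algebra map
x ↦ x^2, y ↦ y. Then the invariant subalgebra of σ is the image of φ (so A_r^σ ≅ A_(m-1)), φ is
faithfully flat (flat, and the maximal ideal of A_(m-1) does not generate the unit ideal), and the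
fixed locus of σ is a Cartier divisor of length 2: its ideal, generated by the elements σ(a) - a, is
generated by one nonzerodivisor and has quotient of length 2. -/
theorem result (k : Type u) [Field k] [IsAlgClosed k] (m r : ℕ)
    (hm : 2 ≤ m) (hr : r = 2 * m - 1) (h2 : (2 : k) ≠ 0) (hr1 : ((r + 1 : ℕ) : k) ≠ 0)
    (σ : ArSing.ring k r ≃ₐ[k] ArSing.ring k r) (hx : σ (ArSing.x k r) = -ArSing.x k r)
    (hy : σ (ArSing.y k r) = ArSing.y k r)
    (φ : ArSing.ring k (m - 1) →ₐ[k] ArSing.ring k r) (hφx : φ (ArSing.x k (m - 1)) = ArSing.x k r ^ 2)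
    (hφy : φ (ArSing.y k (m - 1)) = ArSing.y k r) :
    (∀ a : ArSing.ring k r, σ a = a ↔ a ∈ φ.range) ∧
    (φ.toRingHom.Flat ∧ ∀ I : Ideal (ArSing.ring k (m - 1)), I.IsMaximal → Ideal.map φ I ≠ ⊤) ∧
    (∃ g : ArSing.ring k r, g ∈ nonZeroDivisors (ArSing.ring k r) ∧ Ideal.span (Set.range fun a : ArSing.ring k r => σ a - a) = Ideal.span {g}) ∧
    Module.length (ArSing.ring k r) (ArSing.ring k r ⧸ Ideal.span (Set.range fun a : ArSing.ring k r => σ a - a)) = 2 := by
  classical
  subst hr
  have hr2 : 2 * m - 1 + 1 = 2 * m := by omega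
  have hm1 : m - 1 + 1 = m := by omega
  have hσX : ∀ a, σ (xMap k (2 * m - 1) a) = xMap k _ (resc (-1) a) := fun a => by
    exact map_xMap_resc σ.toAlgHom (-1 : k) (by simpa using hx) a
  have hσ' : ∀ z, σ z = xMap k _ (resc (-1) (pa _ z)) + xMap k _ (resc (-1) (pb _ z)) * ArSing.y k _ := fun z => by
    conv_lhs => rw [eq_normal _ z, map_add σ, map_mul σ, hσX, hσX, hy]
  have hφX : ∀ a, φ (xMap k (m - 1) a) = xMap k _ (dbl a) := fun a => map_xMap_dbl φ hφx a
  have hφ' : ∀ z, φ z = xMap k _ (dbl (pa _ z)) + xMap k _ (dbl (pb _ z)) * ArSing.y k _ := fun z => by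
    conv_lhs => rw [eq_normal _ z, map_add φ, map_mul φ, hφX, hφX, hφy]
  have hI : Ideal.span (Set.range fun a : ArSing.ring k (2 * m - 1) => σ a - a) = Ideal.span {ArSing.x k (2 * m - 1)} := by
    refine le_antisymm (sub_mem_span fun a => ?_) ((Ideal.span_singleton_le_iff_mem _).2 (mem_span_of_neg h2 hx))
    have hd : ∀ b : PowerSeries k, PowerSeries.X ^ 1 ∣ resc (-1) b - b := fun b => by
      rw [pow_one, PowerSeries.X_dvd_iff, map_sub, sub_eq_zero, ← PowerSeries.coeff_zero_eq_constantCoeff_apply,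
        coeff_resc, pow_zero, one_mul, PowerSeries.coeff_zero_eq_constantCoeff_apply]
    rw [← pow_one (ArSing.x k _), mem_span_x_pow_iff, map_sub, map_sub, hσ', pa_normal, pb_normal]
    exact ⟨hd _, hd _⟩
  refine ⟨fun a => ⟨fun ha => ?_, ?_⟩, ⟨?_, ?_⟩, ⟨ArSing.x k (2 * m - 1), ?_, hI⟩, ?_⟩
  · have h1 := congrArg (pa _) ha
    have h2' := congrArg (pb _) ha
    rw [hσ', pa_normal] at h1
    rw [hσ', pb_normal] at h2'
    obtain ⟨p, hp⟩ := resc_neg_eq_self h2 h1
    obtain ⟨q, hq⟩ := resc_neg_eq_self h2 h2'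
    refine ⟨xMap k (m - 1) p + xMap k (m - 1) q * ArSing.y k (m - 1), ?_⟩
    show φ _ = a
    rw [hφ', pa_normal, pb_normal, ← hp, ← hq, ← eq_normal]
  · rintro ⟨b, rfl⟩
    show σ (φ b) = φ b
    rw [hσ' (φ b)]
    nth_rewrite 3 [eq_normal _ (φ b)]
    simp only [hφ' b, pa_normal, pb_normal, resc_dbl]
  · algebraize [φ.toRingHom]
    change Module.Flat (ArSing.ring k (m - 1)) (ArSing.ring k (2 * m - 1))
    have hsm : ∀ (c : ArSing.ring k (m - 1)) (z : ArSing.ring k (2 * m - 1)), c • z = φ c * z := fun c z => rfl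
    let g : ArSing.ring k (m - 1) × ArSing.ring k (m - 1) →ₗ[ArSing.ring k (m - 1)] ArSing.ring k (2 * m - 1) :=
      { toFun := fun v => φ v.1 + ArSing.x k _ * φ v.2
        map_add' := fun v w => by simp [mul_add]; ring
        map_smul' := fun c v => by simp [hsm, mul_add]; ring }
    have hg : ∀ v, pa _ (g v) = dbl (pa _ v.1) + PowerSeries.X * dbl (pa _ v.2) ∧
        pb _ (g v) = dbl (pb _ v.1) + PowerSeries.X * dbl (pb _ v.2) := by
      intro v
      show pa _ (φ v.1 + ArSing.x k _ * φ v.2) = _ ∧ pb _ (φ v.1 + ArSing.x k _ * φ v.2) = _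
      rw [map_add, map_add, pa_mul, pb_mul, pa_x, pb_x, hφ', hφ', pa_normal, pa_normal, pb_normal, pb_normal]
      constructor <;> ring
    have hbij : Function.Bijective g := by
      constructor
      · rw [injective_iff_map_eq_zero]
        intro v hv
        obtain ⟨h1, h2'⟩ := hg v
        rw [hv, map_zero] at h1 h2'
        obtain ⟨a1, a2⟩ := even_odd_unique h1.symm
        obtain ⟨b1, b2⟩ := even_odd_unique h2'.symm
        exact Prod.ext (ext_normal _ (by rw [a1, Prod.fst_zero, map_zero]) (by rw [b1, Prod.fst_zero, map_zero]))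
          (ext_normal _ (by rw [a2, Prod.snd_zero, map_zero]) (by rw [b2, Prod.snd_zero, map_zero]))
      · intro z
        obtain ⟨a₀, a₁, ha⟩ := even_odd_decomp (pa _ z)
        obtain ⟨b₀, b₁, hb⟩ := even_odd_decomp (pb _ z)
        refine ⟨(xMap k _ a₀ + xMap k _ b₀ * ArSing.y k _, xMap k _ a₁ + xMap k _ b₁ * ArSing.y k _), ?_⟩
        refine ext_normal _ ?_ ?_
        · rw [(hg _).1, pa_normal, pa_normal, ha]
        · rw [(hg _).2, pb_normal, pb_normal, hb]
    exact Module.Flat.of_linearEquiv (LinearEquiv.ofBijective g hbij).symm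
  · intro I hImax h
    rw [IsLocalRing.eq_maximalIdeal hImax] at h
    have hle : Ideal.map φ (IsLocalRing.maximalIdeal (ArSing.ring k (m - 1))) ≤
        IsLocalRing.maximalIdeal (ArSing.ring k (2 * m - 1)) :=
      Ideal.map_le_iff_le_comap.2 fun z hz => map_mem_maximalIdeal φ hz
    exact (IsLocalRing.maximalIdeal.isMaximal _).ne_top (top_le_iff.1 (h ▸ hle))
  · rw [mem_nonZeroDivisors_iff_right]
    intro z hz
    have ha := congrArg (pa _) hz
    have hb := congrArg (pb _) hz
    rw [pa_mul, pa_x, pb_x, map_zero] at ha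
    rw [pb_mul, pa_x, pb_x, map_zero] at hb
    refine ext_normal _ ?_ ?_ <;> rw [map_zero]
    · exact (mul_eq_zero.1 (show pa _ z * PowerSeries.X = 0 by linear_combination ha)).resolve_right PowerSeries.X_ne_zero
    · exact (mul_eq_zero.1 (show pb _ z * PowerSeries.X = 0 by linear_combination hb)).resolve_right PowerSeries.X_ne_zero
  · rw [hI, show (2 : ℕ∞) = ((2 : ℕ) : ℕ∞) from rfl]
    have hym := y_mem (k := k) (2 * m - 1)
    obtain ⟨U, hU0, hU⟩ : ∃ U : MvPowerSeries (Fin 2) k, MvPowerSeries.constantCoeff U = 0 ∧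
        Ideal.Quotient.mk (Ideal.span {ArSing.eqn k (2 * m - 1)}) U = ArSing.y k (2 * m - 1) :=
      ⟨MvPowerSeries.X 1, MvPowerSeries.constantCoeff_X _, rfl⟩
    let f : PowerSeries k →ₐ[k] ArSing.ring k (2 * m - 1) :=
      (Ideal.Quotient.mkₐ k _).comp (PowerSeries.substAlgHom (PowerSeries.HasSubst.of_constantCoeff_zero hU0))
    have hfX : f PowerSeries.X = ArSing.y k (2 * m - 1) := by
      change Ideal.Quotient.mkₐ k _ (PowerSeries.substAlgHom (PowerSeries.HasSubst.of_constantCoeff_zero hU0) PowerSeries.X) = _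
      rw [PowerSeries.substAlgHom_X]; exact hU
    have hxI : ArSing.x k (2 * m - 1) ∈ Ideal.span {ArSing.x k (2 * m - 1)} := Ideal.mem_span_singleton_self _
    have hy2 : ArSing.y k (2 * m - 1) ^ 2 ∈ Ideal.span {ArSing.x k (2 * m - 1)} := by
      rw [pow_two, y_sq, map_pow, xMap_X]
      exact Ideal.pow_mem_of_mem _ hxI _ (by omega)
    -- `f a ≡ a₀ + a₁ y` modulo `x`
    have hf : ∀ a, f a - (algebraMap k _ (PowerSeries.constantCoeff a) + algebraMap k _ (PowerSeries.coeff 1 a) * ArSing.y k _) ∈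
        Ideal.span {ArSing.x k (2 * m - 1)} := by
      intro a
      obtain ⟨b, hb⟩ : PowerSeries.X ^ 2 ∣ a - (PowerSeries.C (PowerSeries.constantCoeff a) + PowerSeries.C (PowerSeries.coeff 1 a) * PowerSeries.X) := by
        rw [PowerSeries.X_pow_dvd_iff]
        intro i hi
        interval_cases i
        · simp
        · simp [PowerSeries.coeff_C]
      have e := congrArg f hb
      rw [map_sub f, map_add f, map_mul f, map_mul f, map_pow, hfX, ← PowerSeries.algebraMap_eq, AlgHom.commutes,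
        AlgHom.commutes] at e
      rw [e]; exact Ideal.mul_mem_right _ _ hy2
    refine length_quot_of f _ 2 (fun z => ?_) (fun a => ?_)
    · refine ⟨PowerSeries.C (PowerSeries.constantCoeff (pa _ z)) + PowerSeries.C (PowerSeries.constantCoeff (pb _ z)) * PowerSeries.X, ?_⟩
      rw [map_add f, map_mul f, hfX, ← PowerSeries.algebraMap_eq, AlgHom.commutes, AlgHom.commutes,
        ← pow_one (ArSing.x k _), mem_span_x_pow_iff]
      simp only [Algebra.algebraMap_eq_smul_one, map_sub, map_add, map_smul, pa_mul, pb_mul, pa_one, pb_one, pa_y, pb_y]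
      simp [PowerSeries.X_dvd_iff]
    · have h0 := hf a
      rw [← (sub_add_cancel (f a) (algebraMap k _ (PowerSeries.constantCoeff a) + algebraMap k _ (PowerSeries.coeff 1 a) * ArSing.y k _)),
        Ideal.add_mem_iff_right _ h0, ← pow_one (ArSing.x k _), mem_span_x_pow_iff, PowerSeries.X_pow_dvd_iff]
      simp only [Algebra.algebraMap_eq_smul_one, map_add, map_smul, pa_mul, pb_mul, pa_one, pb_one, pa_y, pb_y]
      simp [PowerSeries.X_dvd_iff]
      show _ ↔ PowerSeries.X ^ 2 ∣ a
      rw [PowerSeries.X_pow_dvd_iff]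
      constructor
      · rintro ⟨h1, h2'⟩ i hi
        interval_cases i <;> simp [h1, h2']
      · intro h
        exact ⟨by simpa using h 0 (by omega), h 1 (by omega)⟩

end Groth.Agent.S14094
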