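import Groth.Statements.S14095
import Mathlib
import Groth.Agent.Misc6.ArFixed
open Groth.Misc6.Ar

set_option autoImplicit false
universe u
open ArSing

namespace Groth.Agent.S14095

/-- The trivial-relation criterion for a flat ring map, for a relation of length two. -/
lemma trivialRelation_two {A B : Type*} [CommRing A] [CommRing B] (f : A →+* B) (hf : f.Flat)
    (a b : A) (u v : B) (h : f a * u + f b * v = 0) :
    ∃ (n : ℕ) (c d : Fin n → A) (w : Fin n → B), u = ∑ j, f (c j) * w j ∧ ∀ j, a * c j + b * d j = 0 := by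
  letI := f.toAlgebra
  have : Module.Flat A B := hf
  have hrel : ∑ i : Fin 2, (![a, b] i) • (![u, v] i) = 0 := by
    rw [Fin.sum_univ_two]; exact h
  obtain ⟨n, c, w, hw, hc⟩ := Module.Flat.isTrivialRelation_of_sum_smul_eq_zero (R := A) (M := B) (f := ![a, b]) (x := ![u, v]) hrel
  refine ⟨n, c 0, c 1, w, hw 0, fun j => ?_⟩
  have := hc j
  rwa [Fin.sum_univ_two] at this

/-- K algebraically closed of characteristic prime to 2 and to r+1, r = 2m - 1 with m ≥ 1, σ the
involution x ↦ -x, y ↦ -y of A_r = k[[x,y]]/(y^2 - x^(r+1)), and φ : A_m → A_r the k-algebra map x ↦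
x^2, y ↦ xy. Then the invariant subalgebra of σ is the image of φ and φ is injective (so A_r^σ ≅
A_m), φ is not flat, and the fixed locus of σ is the reduced closed point and is not a Cartier
divisor: the ideal generated by the elements σ(a) - a has quotient of length 1 and is not generated
by one nonzerodivisor. -/
theorem result (k : Type u) [Field k] [IsAlgClosed k] (m r : ℕ)
    (hm : 1 ≤ m) (hr : r = 2 * m - 1) (h2 : (2 : k) ≠ 0) (hr1 : ((r + 1 : ℕ) : k) ≠ 0)
    (σ : ArSing.ring k r ≃ₐ[k] ArSing.ring k r) (hx : σ (ArSing.x k r) = -ArSing.x k r)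
    (hy : σ (ArSing.y k r) = -ArSing.y k r)
    (φ : ArSing.ring k m →ₐ[k] ArSing.ring k r) (hφx : φ (ArSing.x k m) = ArSing.x k r ^ 2)
    (hφy : φ (ArSing.y k m) = ArSing.x k r * ArSing.y k r) :
    (∀ a : ArSing.ring k r, σ a = a ↔ a ∈ φ.range) ∧ Function.Injective φ ∧
    ¬ φ.toRingHom.Flat ∧
    Module.length (ArSing.ring k r) (ArSing.ring k r ⧸ Ideal.span (Set.range fun a : ArSing.ring k r => σ a - a)) = 1 ∧
    ¬ (∃ g : ArSing.ring k r, g ∈ nonZeroDivisors (ArSing.ring k r) ∧ Ideal.span (Set.range fun a : ArSing.ring k r => σ a - a) = Ideal.span {g}) := by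
  classical
  subst hr
  have hσX : ∀ a, σ (xMap k (2 * m - 1) a) = xMap k _ (resc (-1) a) := fun a => by
    exact map_xMap_resc σ.toAlgHom (-1 : k) (by simpa using hx) a
  have hσ' : ∀ z, σ z = xMap k _ (resc (-1) (pa _ z)) + xMap k _ (-resc (-1) (pb _ z)) * ArSing.y k _ := fun z => by
    conv_lhs => rw [eq_normal _ z, map_add σ, map_mul σ, hσX, hσX, hy]
    rw [map_neg]; ring
  have hφX : ∀ a, φ (xMap k m a) = xMap k _ (dbl a) := fun a => map_xMap_dbl φ hφx a
  have hφ' : ∀ z, φ z = xMap k _ (dbl (pa _ z)) + xMap k _ (PowerSeries.X * dbl (pb _ z)) * ArSing.y k _ := fun z => by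
    conv_lhs => rw [eq_normal _ z, map_add φ, map_mul φ, hφX, hφX, hφy]
    rw [map_mul, xMap_X]; ring
  have hI : Ideal.span (Set.range fun a : ArSing.ring k (2 * m - 1) => σ a - a) =
      IsLocalRing.maximalIdeal (ArSing.ring k (2 * m - 1)) := by
    refine le_antisymm (sub_mem_span fun a => ?_) ?_
    · rw [mem_maximalIdeal_iff, map_sub, hσ', pa_normal, map_sub, sub_eq_zero,
        ← PowerSeries.coeff_zero_eq_constantCoeff_apply, coeff_resc, pow_zero, one_mul,
        PowerSeries.coeff_zero_eq_constantCoeff_apply]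
    · rw [maximalIdeal_eq, Ideal.span_le]
      rintro w (rfl | rfl)
      · exact mem_span_of_neg h2 hx
      · exact mem_span_of_neg h2 hy
  refine ⟨fun a => ⟨fun ha => ?_, ?_⟩, ?_, ?_, ?_, ?_⟩
  · have h1 := congrArg (pa _) ha
    have h2' := congrArg (pb _) ha
    rw [hσ', pa_normal] at h1
    rw [hσ', pb_normal, neg_eq_iff_eq_neg] at h2'
    obtain ⟨p, hp⟩ := resc_neg_eq_self h2 h1
    obtain ⟨q, hq⟩ := resc_neg_eq_neg h2 h2'
    refine ⟨xMap k m p + xMap k m q * ArSing.y k m, ?_⟩
    show φ _ = a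
    rw [hφ', pa_normal, pb_normal, ← hp, ← hq, ← eq_normal]
  · rintro ⟨b, rfl⟩
    show σ (φ b) = φ b
    rw [hσ' (φ b), hφ' b, pa_normal, pb_normal, resc_dbl, map_mul (resc (-1 : k)), resc_dbl, resc_X, neg_one_smul, neg_mul, neg_neg]
  · rw [injective_iff_map_eq_zero]
    intro z hz
    have h1 := congrArg (pa _) hz
    have h2' := congrArg (pb _) hz
    rw [hφ', pa_normal, map_zero] at h1
    rw [hφ', pb_normal, map_zero] at h2'
    refine ext_normal _ ?_ ?_ <;> rw [map_zero] <;> apply dbl_injective <;> rw [map_zero]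
    · exact h1
    · exact (mul_eq_zero.1 h2').resolve_left PowerSeries.X_ne_zero
  · intro hflat
    obtain ⟨n, c, d, w, hw, ha⟩ := trivialRelation_two φ.toRingHom hflat (ArSing.x k m) (ArSing.y k m)
      (ArSing.y k (2 * m - 1)) (-ArSing.x k (2 * m - 1))
      (by show φ _ * _ + φ _ * _ = 0; rw [hφx, hφy]; ring)
    have hmem : ∀ j, c j ∈ IsLocalRing.maximalIdeal (ArSing.ring k m) := by
      intro j
      have h := congrArg (pa m) (ha j)
      rw [map_add, pa_mul, pa_mul, pa_x, pb_x, pa_y, pb_y, map_zero] at h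
      rw [mem_maximalIdeal_iff]
      have h' : PowerSeries.X * (pa m (c j) + pb m (d j) * PowerSeries.X ^ m) = 0 := by
        linear_combination h
      have h'' := congrArg PowerSeries.constantCoeff ((mul_eq_zero.1 h').resolve_left PowerSeries.X_ne_zero)
      simpa [zero_pow (show m ≠ 0 by omega)] using h''
    have h0 := congrArg (fun z => PowerSeries.constantCoeff (pb (2 * m - 1) z)) hw
    simp only [pb_y, map_one, map_sum] at h0
    rw [Finset.sum_eq_zero fun j _ => ?_] at h0
    · exact one_ne_zero h0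
    · have := (mem_maximalIdeal_iff m _).1 (hmem j)
      show PowerSeries.constantCoeff (pb _ (φ (c j) * w j)) = 0
      rw [pb_mul, hφ', pa_normal, pb_normal]
      simp [this, PowerSeries.constantCoeff_expand]
  · rw [hI, show (1 : ℕ∞) = ((1 : ℕ) : ℕ∞) from rfl]
    refine length_quot_of (ArSing.xMap k _) _ 1 (fun z => ⟨pa _ z, ?_⟩) (fun a => ?_)
    · rw [mem_maximalIdeal_iff, map_sub, pa_xMap, sub_self, map_zero]
    · rw [mem_maximalIdeal_iff, pa_xMap, pow_one, PowerSeries.X_dvd_iff]
  · rintro ⟨g, -, hg⟩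
    rw [hI] at hg
    have hgm : g ∈ IsLocalRing.maximalIdeal (ArSing.ring k (2 * m - 1)) := hg ▸ Ideal.mem_span_singleton_self g
    have key : ∀ z ∈ IsLocalRing.maximalIdeal (ArSing.ring k (2 * m - 1)), ∃ c : k, L _ z = c • L _ g := by
      intro z hz
      rw [hg, Ideal.mem_span_singleton'] at hz
      obtain ⟨w, rfl⟩ := hz
      refine ⟨PowerSeries.constantCoeff (pa _ w), ?_⟩
      have hw : w - algebraMap k _ (PowerSeries.constantCoeff (pa _ w)) ∈ IsLocalRing.maximalIdeal _ := by
        rw [mem_maximalIdeal_iff, map_sub, Algebra.algebraMap_eq_smul_one, map_smul, pa_one, map_sub]; simp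
      have h := L_mul (2 * m - 1) (by omega) hw hgm
      rwa [sub_mul, L_sub, ← smul_eq, L_smul, sub_eq_zero] at h
    obtain ⟨c, hc⟩ := key _ (x_mem _)
    obtain ⟨d, hd⟩ := key _ (y_mem _)
    rw [L_x, Prod.ext_iff] at hc
    rw [L_y, Prod.ext_iff] at hd
    simp at hc hd
    rcases hc.2 with h | h
    · rw [h] at hc; simp at hc
    · rw [h] at hd; simp at hd

end Groth.Agent.S14095
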