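import Groth.Statements.S14096
import Mathlib
import Groth.Agent.Misc6.ArFixed
import Groth.Agent.Misc6.ArInvol
import Groth.Agent.Misc6.PSEnd
open Groth.Misc6.Ar

set_option autoImplicit false
universe u
open ArSing

namespace Groth.Agent.S14096

/-- For a flat ring map, a relation `f a * b = 0` is trivial. -/
lemma trivialRelation_one {A B : Type*} [CommRing A] [CommRing B] (f : A →+* B) (hf : f.Flat)
    (a : A) (b : B) (h : f a * b = 0) :
    ∃ (n : ℕ) (c : Fin n → A) (w : Fin n → B), b = ∑ j, f (c j) * w j ∧ ∀ j, a * c j = 0 := by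
  letI := f.toAlgebra
  have : Module.Flat A B := hf
  have hrel : ∑ i : Fin 1, (![a] i) • (![b] i) = 0 := by
    rw [Fin.sum_univ_one]; exact h
  obtain ⟨n, c, w, hw, hc⟩ := Module.Flat.isTrivialRelation_of_sum_smul_eq_zero (R := A) (M := B) (f := ![a]) (x := ![b]) hrel
  refine ⟨n, c 0, w, hw 0, fun j => ?_⟩
  have := hc j
  rwa [Fin.sum_univ_one] at this

/-- K algebraically closed of characteristic ≠ 2, σ the involution of the node algebra A_1 =
k[[x,y]]/(y^2 - x^2) exchanging x and y, and φ : A_1 → A_1 the k-algebra map with φ(x + y) = x + y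
and φ(y - x) = (y - x)^2 (in the branch coordinates u = x + y, v = y - x with uv = 0: u ↦ u, v ↦
v^2). Then the invariant subalgebra of σ is the image of φ and φ is injective (so A_1^σ ≅ A_1), and
the fixed locus of σ is the branch v = 0: the ideal generated by the elements σ(a) - a is the ideal
(y - x), a minimal prime ideal generated by a zero-divisor (so not a Cartier divisor). Moreover φ is
not flat. (The published statement asserts that this extension is faithfully flat; it is not: as a
module over the invariant subalgebra B = k[[u,w]]/(uw), w = v^2, A_1 is B ⊕ (B/uB)·v, and B/uB is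
not flat over B — equivalently the fibre length jumps from 1 on the branch w = 0 to 2 at the closed
point.) -/
theorem result (k : Type u) [Field k] [IsAlgClosed k]
    (h2 : (2 : k) ≠ 0)
    (σ : ArSing.ring k 1 ≃ₐ[k] ArSing.ring k 1) (hx : σ (ArSing.x k 1) = ArSing.y k 1)
    (hy : σ (ArSing.y k 1) = ArSing.x k 1)
    (φ : ArSing.ring k 1 →ₐ[k] ArSing.ring k 1) (hφu : φ (ArSing.x k 1 + ArSing.y k 1) = ArSing.x k 1 + ArSing.y k 1)
    (hφv : φ (ArSing.y k 1 - ArSing.x k 1) = (ArSing.y k 1 - ArSing.x k 1) ^ 2) :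
    (∀ a : ArSing.ring k 1, σ a = a ↔ a ∈ φ.range) ∧ Function.Injective φ ∧
    Ideal.span (Set.range fun a : ArSing.ring k 1 => σ a - a) = Ideal.span {ArSing.y k 1 - ArSing.x k 1} ∧
    (ArSing.y k 1 - ArSing.x k 1) ∉ nonZeroDivisors (ArSing.ring k 1) ∧
    Ideal.span {ArSing.y k 1 - ArSing.x k 1} ∈ minimalPrimes (ArSing.ring k 1) ∧
    ¬ φ.toRingHom.Flat := by
  classical
  set u := ArSing.x k 1 + ArSing.y k 1 with hu
  set v := ArSing.y k 1 - ArSing.x k 1 with hv
  have hum : u ∈ IsLocalRing.maximalIdeal (ArSing.ring k 1) := add_mem (x_mem 1) (y_mem 1)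
  have hvm : v ∈ IsLocalRing.maximalIdeal (ArSing.ring k 1) := sub_mem (y_mem 1) (x_mem 1)
  have huv : u * v = 0 := by
    have := y_sq (k := k) 1
    rw [map_pow, xMap_X] at this
    rw [hu, hv]; linear_combination this
  -- series in one variable
  have mkP : ∀ w ∈ IsLocalRing.maximalIdeal (ArSing.ring k 1),
      ∃ P : PowerSeries k →ₐ[k] ArSing.ring k 1, P PowerSeries.X = w := by
    intro w hw
    rw [mem_maximalIdeal_iff] at hw
    obtain ⟨c, hc⟩ := PowerSeries.X_dvd_iff.2 hw
    let W := sx k (pa 1 w) + sx k (pb 1 w) * MvPowerSeries.X 1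
    have hW0 : MvPowerSeries.constantCoeff W = 0 := by simp [W, hc, sx, PowerSeries.substAlgHom_X]
    refine ⟨(Ideal.Quotient.mkₐ k _).comp (PowerSeries.substAlgHom (PowerSeries.HasSubst.of_constantCoeff_zero hW0)), ?_⟩
    rw [AlgHom.comp_apply, PowerSeries.substAlgHom_X]
    exact (eq_normal 1 w).symm
  obtain ⟨Pu, hPu⟩ := mkP u hum
  obtain ⟨Pv, hPv⟩ := mkP v hvm
  -- the two branches
  let bp : ArSing.ring k 1 →ₐ[k] PowerSeries k :=
    { br (1 : k) (by simp) with
      commutes' := fun c => by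
        show pa 1 (algebraMap k _ c) + PowerSeries.C (1 : k) * PowerSeries.X * pb 1 (algebraMap k _ c) = _
        rw [Algebra.algebraMap_eq_smul_one, map_smul, map_smul, pa_one, pb_one]
        simp [PowerSeries.smul_eq_C_mul] }
  let bm : ArSing.ring k 1 →ₐ[k] PowerSeries k :=
    { br (-1 : k) (by simp) with
      commutes' := fun c => by
        show pa 1 (algebraMap k _ c) + PowerSeries.C (-1 : k) * PowerSeries.X * pb 1 (algebraMap k _ c) = _
        rw [Algebra.algebraMap_eq_smul_one, map_smul, map_smul, pa_one, pb_one]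
        simp [PowerSeries.smul_eq_C_mul] }
  have hbp : ∀ z, bp z = br (1 : k) (by simp) z := fun z => rfl
  have hbm : ∀ z, bm z = br (-1 : k) (by simp) z := fun z => rfl
  have h2C : (2 : PowerSeries k) = PowerSeries.C (2 : k) := by rw [map_ofNat]
  have bpu : bp u = (2 : k) • PowerSeries.X := by
    show pa 1 u + PowerSeries.C (1 : k) * PowerSeries.X * pb 1 u = _
    simp [hu, PowerSeries.smul_eq_C_mul, map_ofNat]; ring
  have bmu : bm u = 0 := by
    show pa 1 u + PowerSeries.C (-1 : k) * PowerSeries.X * pb 1 u = _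
    simp [hu]
  have bpv : bp v = 0 := by
    show pa 1 v + PowerSeries.C (1 : k) * PowerSeries.X * pb 1 v = _
    simp [hv]
  have bmv : bm v = (-2 : k) • PowerSeries.X := by
    show pa 1 v + PowerSeries.C (-1 : k) * PowerSeries.X * pb 1 v = _
    simp [hv, PowerSeries.smul_eq_C_mul, map_ofNat]; ring
  have psExt : ∀ {f g : PowerSeries k →ₐ[k] PowerSeries k}, f PowerSeries.X = g PowerSeries.X → f = g :=
    fun h => Groth.Misc6.psEnd_ext h
  have bpPu : ∀ f, bp (Pu f) = resc (2 : k) f := fun f => DFunLike.congr_fun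
    (psExt (f := bp.comp Pu) (g := resc (2 : k)) (by rw [AlgHom.comp_apply, hPu, bpu, resc_X])) f
  have bmPv : ∀ f, bm (Pv f) = resc (-2 : k) f := fun f => DFunLike.congr_fun
    (psExt (f := bm.comp Pv) (g := resc (-2 : k)) (by rw [AlgHom.comp_apply, hPv, bmv, resc_X])) f
  have bmPu : ∀ f, bm (Pu f) = resc (0 : k) f := fun f => DFunLike.congr_fun
    (psExt (f := bm.comp Pu) (g := resc (0 : k)) (by rw [AlgHom.comp_apply, hPu, bmu, resc_X, zero_smul])) f
  have bpPv : ∀ f, bp (Pv f) = resc (0 : k) f := fun f => DFunLike.congr_fun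
    (psExt (f := bp.comp Pv) (g := resc (0 : k)) (by rw [AlgHom.comp_apply, hPv, bpv, resc_X, zero_smul])) f
  have hr0 : ∀ f : PowerSeries k, resc (0 : k) f = PowerSeries.C (PowerSeries.constantCoeff f) := fun f => by
    ext n
    rw [coeff_resc]
    rcases n with _ | n <;> simp [PowerSeries.coeff_C]
  have hrc : ∀ (c : k) (f : PowerSeries k), PowerSeries.constantCoeff (resc c f) = PowerSeries.constantCoeff f := fun c f => by
    rw [← PowerSeries.coeff_zero_eq_constantCoeff_apply, coeff_resc, pow_zero, one_mul, PowerSeries.coeff_zero_eq_constantCoeff_apply]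
  have hrinv : ∀ (c : k), c ≠ 0 → ∀ f : PowerSeries k, resc c (resc c⁻¹ f) = f := fun c hc f => by
    ext n; rw [coeff_resc, coeff_resc, ← mul_assoc, ← mul_pow, mul_inv_cancel₀ hc, one_pow, one_mul]
  have hrinj : ∀ (c : k), c ≠ 0 → Function.Injective (resc c : PowerSeries k → PowerSeries k) := fun c hc f g h => by
    ext n
    have := congrArg (PowerSeries.coeff n) h
    rw [coeff_resc, coeff_resc] at this
    exact mul_left_cancel₀ (pow_ne_zero n hc) this
  have h2n : (-2 : k) ≠ 0 := neg_ne_zero.2 h2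
  have ext2 : ∀ z w, bp z = bp w → bm z = bm w → z = w := fun z w hp hm => by
    rw [← sub_eq_zero]
    exact eq_zero_of_br h2 (by rw [← hbp, map_sub, hp, sub_self]) (by rw [← hbm, map_sub, hm, sub_self])
  -- decomposition along the branches
  have decomp : ∀ z, ∃ f g, PowerSeries.constantCoeff g = 0 ∧ z = Pu f + Pv g := by
    intro z
    set g := resc (-2 : k)⁻¹ (bm z - PowerSeries.C (PowerSeries.constantCoeff (bm z))) with hgdef
    have hg0 : PowerSeries.constantCoeff g = 0 := by simp [hgdef, hrc]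
    have hc : PowerSeries.constantCoeff (bp z) = PowerSeries.constantCoeff (bm z) := by
      show PowerSeries.constantCoeff (pa 1 z + PowerSeries.C (1 : k) * PowerSeries.X * pb 1 z) =
        PowerSeries.constantCoeff (pa 1 z + PowerSeries.C (-1 : k) * PowerSeries.X * pb 1 z)
      simp
    refine ⟨resc (2 : k)⁻¹ (bp z), g, hg0, ext2 _ _ ?_ ?_⟩
    · rw [map_add, bpPu, bpPv, hrinv _ h2, hr0, hg0, map_zero, add_zero]
    · rw [map_add, bmPu, bmPv, hgdef, hrinv _ h2n, hr0, hrc, hc]
      ring
  have uniq : ∀ f g f' g', PowerSeries.constantCoeff g = 0 → PowerSeries.constantCoeff g' = 0 →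
      Pu f + Pv g = Pu f' + Pv g' → f = f' ∧ g = g' := by
    intro f g f' g' hg hg' h
    have hp := congrArg bp h
    have hm := congrArg bm h
    simp only [map_add, bpPu, bpPv, bmPu, bmPv, hr0 g, hr0 g', hg, hg', map_zero, add_zero] at hp hm
    have hf := hrinj _ h2 hp
    subst hf
    exact ⟨rfl, hrinj _ h2n (add_left_cancel hm)⟩
  have hσu : σ u = u := by rw [hu, map_add σ, hx, hy, add_comm]
  have hσv : σ v = -v := by rw [hv, map_sub σ, hx, hy, neg_sub]
  have hσPu : ∀ f, σ (Pu f) = Pu f := fun f => DFunLike.congr_fun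
    (psHom_ext (f := σ.toAlgHom.comp Pu) (g := Pu) (by
      rw [AlgHom.comp_apply, hPu]; exact map_mem_maximalIdeal σ.toAlgHom hum) (by
      rw [AlgHom.comp_apply, hPu]; exact hσu)) f
  have hσPv : ∀ f, σ (Pv f) = Pv (resc (-1 : k) f) := fun f => DFunLike.congr_fun
    (psHom_ext (f := σ.toAlgHom.comp Pv) (g := Pv.comp (resc (-1 : k))) (by
      rw [AlgHom.comp_apply, hPv]; exact map_mem_maximalIdeal σ.toAlgHom hvm) (by
      rw [AlgHom.comp_apply, AlgHom.comp_apply, hPv, resc_X, map_smul, hPv, neg_one_smul]; exact hσv)) f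
  have hφPu : ∀ f, φ (Pu f) = Pu f := fun f => DFunLike.congr_fun
    (psHom_ext (f := φ.comp Pu) (g := Pu) (by
      rw [AlgHom.comp_apply, hPu]; exact map_mem_maximalIdeal φ hum) (by
      rw [AlgHom.comp_apply, hPu]; exact hφu)) f
  have hφPv : ∀ f, φ (Pv f) = Pv (dbl f) := fun f => DFunLike.congr_fun
    (psHom_ext (f := φ.comp Pv) (g := Pv.comp dbl) (by
      rw [AlgHom.comp_apply, hPv]; exact map_mem_maximalIdeal φ hvm) (by
      rw [AlgHom.comp_apply, AlgHom.comp_apply, hPv, PowerSeries.expand_X, map_pow, hPv]; exact hφv)) f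
  have hdvdv : ∀ g : PowerSeries k, PowerSeries.constantCoeff g = 0 → Pv g ∈ Ideal.span {v} := fun g hg => by
    obtain ⟨c, rfl⟩ := PowerSeries.X_dvd_iff.2 hg
    rw [map_mul, hPv]; exact Ideal.mul_mem_right _ _ (Ideal.mem_span_singleton_self _)
  have hker : ∀ z, z ∈ Ideal.span {v} ↔ bp z = 0 := by
    intro z
    constructor
    · rw [Ideal.mem_span_singleton']; rintro ⟨w, rfl⟩; rw [map_mul, bpv, mul_zero]
    · intro hz
      obtain ⟨f, g, hg, rfl⟩ := decomp z
      rw [map_add, bpPu, bpPv, hr0, hg, map_zero, add_zero] at hz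
      have hf : f = 0 := hrinj _ h2 (hz.trans (map_zero _).symm)
      rw [hf, map_zero, zero_add]; exact hdvdv g hg
  refine ⟨fun a => ⟨fun ha => ?_, ?_⟩, ?_, ?_, ?_, ?_, ?_⟩
  · obtain ⟨f, g, hg, rfl⟩ := decomp a
    rw [map_add σ, hσPu, hσPv] at ha
    obtain ⟨-, hg'⟩ := uniq _ _ _ _ (by rw [hrc]; exact hg) hg ha
    obtain ⟨b, rfl⟩ := resc_neg_eq_self h2 hg'
    exact ⟨Pu f + Pv b, show φ (Pu f + Pv b) = _ by rw [map_add φ, hφPu, hφPv]⟩
  · rintro ⟨b, rfl⟩
    obtain ⟨f, g, hg, rfl⟩ := decomp b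
    show σ (φ (Pu f + Pv g)) = φ (Pu f + Pv g)
    rw [map_add φ, map_add σ, hφPu, hφPv, hσPu, hσPv, resc_dbl]
  · rw [injective_iff_map_eq_zero]
    intro z hz
    obtain ⟨f, g, hg, rfl⟩ := decomp z
    rw [map_add φ, hφPu, hφPv] at hz
    obtain ⟨hf, hg'⟩ := uniq f (dbl g) 0 0 (by rw [PowerSeries.constantCoeff_expand]; exact hg) (map_zero _) (by simpa using hz)
    rw [hf, dbl_injective (hg'.trans (map_zero dbl).symm)]; simp
  · refine le_antisymm (sub_mem_span fun a => ?_) ((Ideal.span_singleton_le_iff_mem _).2 (mem_span_of_neg h2 hσv))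
    obtain ⟨f, g, hg, rfl⟩ := decomp a
    rw [map_add σ, hσPu, hσPv, add_sub_add_left_eq_sub, ← map_sub]
    exact hdvdv _ (by rw [map_sub, hrc, sub_self])
  · rw [mem_nonZeroDivisors_iff_right]
    intro h
    have hu0 := congrArg bp (h u huv)
    rw [bpu, map_zero] at hu0
    exact smul_ne_zero h2 PowerSeries.X_ne_zero hu0
  · have hprime : (Ideal.span {v}).IsPrime := by
      have : Ideal.span {v} = RingHom.ker bp.toRingHom := by ext z; rw [hker, RingHom.mem_ker]; rfl
      rw [this]; exact RingHom.ker_isPrime _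
    refine ⟨⟨hprime, bot_le⟩, fun P hP hle => ?_⟩
    rw [Ideal.span_singleton_le_iff_mem]
    refine (hP.1.mem_or_mem (show u * v ∈ P by rw [huv]; exact Ideal.zero_mem _)).resolve_left fun hu' => ?_
    have := (hker u).1 (hle hu')
    rw [bpu] at this
    exact smul_ne_zero h2 PowerSeries.X_ne_zero this
  · intro hflat
    obtain ⟨n, a, w, hw, ha⟩ := trivialRelation_one φ.toRingHom hflat u v
      (by show φ u * v = 0; rw [hφu]; exact huv)
    have h1 := congrArg bm hw
    rw [map_sum, bmv] at h1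
    have h2' := congrArg (PowerSeries.coeff 1) h1
    rw [map_sum, Finset.sum_eq_zero fun j _ => ?_] at h2'
    · simp [h2] at h2'
    · show PowerSeries.coeff 1 (bm (φ (a j) * w j)) = 0
      have hj : u * a j = 0 := ha j
      have hb : bp (a j) = 0 := by
        have := congrArg bp hj
        rw [map_mul, bpu, map_zero] at this
        exact (mul_eq_zero.1 this).resolve_left (smul_ne_zero h2 PowerSeries.X_ne_zero)
      obtain ⟨c, hc⟩ := Ideal.mem_span_singleton'.1 ((hker _).2 hb)
      rw [← hc, map_mul φ, hφv, map_mul bm, map_mul bm, map_pow bm, bmv, smul_pow, PowerSeries.smul_eq_C_mul,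
        show bm (φ c) * (PowerSeries.C ((-2 : k) ^ 2) * PowerSeries.X ^ 2) * bm (w j) =
          PowerSeries.X ^ 2 * (bm (φ c) * PowerSeries.C ((-2 : k) ^ 2) * bm (w j)) by ring,
        PowerSeries.coeff_X_pow_mul', if_neg (by omega)]

end Groth.Agent.S14096
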