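import Groth.Statements.S14097
import Mathlib
-- import your own Groth.Agent.* helpers here

set_option autoImplicit false
universe u
open ArSing

namespace Groth.Agent.S14097

/-- In any commutative ring, if h_0, …, h_(k-1) (k ≥ 2) and τ satisfy h_i^2 + τ h_i = 0, then ∏_(i ≤
k-2) (h_i + h_(i+1) + τ) = Σ_(j ≤ k-1) τ^(k-1-j) e_j(h), e_j the elementary symmetric functions.
(The published statement is the resulting formula for the class of the small diagonal in the Chow
ring of (P^1)^k, where the h_i are the hyperplane classes of the factors and satisfy these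
relations; only the ring identity is asserted here.) -/
theorem result (A : Type u) [CommRing A] (k : ℕ) (hk : 2 ≤ k) (τ : A)
    (h : ℕ → A) (hrel : ∀ i, i < k → h i ^ 2 + τ * h i = 0) :
    ∏ i ∈ Finset.range (k - 1), (h i + h (i + 1) + τ) =
      ∑ j ∈ Finset.range k, τ ^ (k - 1 - j) * (((Finset.range k).val.map h).esymm j) := by
  let e : ℕ → ℕ → A := fun N j => ((Finset.range N).val.map h).esymm j
  have he0 : ∀ N, e N 0 = 1 := fun N => by simp [e, Multiset.esymm]
  have hes : ∀ N j, e (N + 1) (j + 1) = e N (j + 1) + h N * e N j := by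
    intro N j
    simp [e, Multiset.esymm, Finset.range_add_one, Finset.insert_val, Multiset.ndinsert_of_notMem,
      Multiset.powersetCard_cons, Multiset.map_map, Function.comp_def, Multiset.sum_map_mul_left]
  have hbig : ∀ N j, N < j → e N j = 0 := by
    intro N j hj
    simp only [e, Multiset.esymm]
    rw [Multiset.powersetCard_eq_empty]
    · simp
    · simpa using hj
  let S : ℕ → A := fun N => ∑ j ∈ Finset.range N, τ ^ (N - 1 - j) * e N j
  have hS : ∀ N, S (N + 1) = (τ + h N) * S N + e N N := by
    intro N
    simp only [S, Nat.add_sub_cancel]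
    rw [Finset.sum_range_succ' _ N, he0]
    simp only [hes, mul_add, Finset.sum_add_distrib, Nat.sub_zero, mul_one]
    have a : ∑ j ∈ Finset.range N, τ ^ (N - (j + 1)) * (h N * e N j) = h N * ∑ j ∈ Finset.range N, τ ^ (N - 1 - j) * e N j := by
      rw [Finset.mul_sum]
      refine Finset.sum_congr rfl fun j hj => ?_
      rw [show N - (j + 1) = N - 1 - j by omega]; ring
    have b : τ * ∑ j ∈ Finset.range N, τ ^ (N - 1 - j) * e N j + e N N =
        ∑ j ∈ Finset.range N, τ ^ (N - (j + 1)) * e N (j + 1) + τ ^ N := by
      have hlhs : τ * ∑ j ∈ Finset.range N, τ ^ (N - 1 - j) * e N j + e N N =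
          ∑ j ∈ Finset.range (N + 1), τ ^ (N - j) * e N j := by
        rw [Finset.sum_range_succ, Finset.mul_sum, Nat.sub_self, pow_zero, one_mul]
        congr 1
        refine Finset.sum_congr rfl fun j hj => ?_
        rw [Finset.mem_range] at hj
        rw [← mul_assoc, ← pow_succ', show N - 1 - j + 1 = N - j by omega]
      rw [hlhs, Finset.sum_range_succ' _ N, he0, Nat.sub_zero, mul_one]
    rw [a, add_mul]
    linear_combination -b
  have hy : ∀ N, 1 ≤ N → N ≤ k → h (N - 1) * S N = e N N := by
    intro N h1 h2
    obtain ⟨M, rfl⟩ := Nat.exists_eq_add_of_le' h1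
    rw [Nat.add_sub_cancel, hS, hes, hbig M (M + 1) (by omega)]
    linear_combination (S M) * hrel M (by omega)
  have main : ∀ N, 1 ≤ N → N ≤ k → ∏ i ∈ Finset.range (N - 1), (h i + h (i + 1) + τ) = S N := by
    intro N h1
    induction N, h1 using Nat.le_induction with
    | base => intro _; simp [S, e, Multiset.esymm]
    | succ N hN ih =>
      intro hk'
      obtain ⟨M, rfl⟩ := Nat.exists_eq_add_of_le' hN
      have := ih (by omega)
      rw [Nat.add_sub_cancel] at this ⊢
      rw [Finset.prod_range_succ, this, hS (M + 1)]
      have := hy (M + 1) (by omega) (by omega)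
      rw [Nat.add_sub_cancel] at this
      linear_combination this
  exact main k (by omega) le_rfl

end Groth.Agent.S14097
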