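import Groth.Statements.S14099
import Groth.Agent.SpecFerrand.PinchBlowMain

set_option autoImplicit false
universe u
open CategoryTheory AlgebraicGeometry
open BlowUp

namespace Groth.Agent.S14099

/-- Let ι : D̃ → X̃ be a closed immersion whose ideal is effective Cartier, h : D̃ → D finite flat
surjective, all flat over a scheme S, and let (ι, h, b : X̃ → X, j : D → X) be a pushout of schemes
with b affine and j a closed immersion, X carrying the induced morphism to S. Then the closed
subschemes of X defined by the powers I_D^n, n ≥ 1, are flat over S (so blowing up X in I_D commutes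
with base change), b is a blowing up of X in I_D, and the inverse image ideal of I_D along b is the
ideal of D̃: the pair (X̃, D̃) is recovered from (X, D) by blowing up. (The published statement
assumes all three schemes proper, flat and finitely presented over S and D̃ → D only finite flat,
takes for X the pushout built affine-locally from fibre products of rings — for which X̃ → X is
affine and D → X a closed immersion — and also asserts that X is proper and finitely presented over
S; this row assumes only flatness over S and D̃ → D surjective, takes such a pushout as given, and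
does not assert properness or finite presentation of X. The affineness of X̃ → X cannot be dropped:
the affine line with doubled origin, with its two origins pinched to one point, has the affine line
itself as pushout in the category of schemes, and the line is its own blowing up at the origin.) -/
theorem result {S Xt Dt D X : Scheme.{u}}
    (ι : Dt ⟶ Xt) [IsClosedImmersion ι] (hι : BlowUp.IsEffCartierIdeal ι.ker)
    (h : Dt ⟶ D) [IsFinite h] [Flat h] [Surjective h]
    (b : Xt ⟶ X) [IsAffineHom b] (j : D ⟶ X) [IsClosedImmersion j] (hP : IsPushout ι h b j)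
    (sX : X ⟶ S) [Flat (b ≫ sX)] [Flat (j ≫ sX)] [Flat (ι ≫ b ≫ sX)] :
    (∀ n : ℕ, 1 ≤ n → Flat ((j.ker ^ n).subschemeι ≫ sX)) ∧
    BlowUp.IsBlowUp b j.ker ∧ j.ker.comap b = ι.ker := by
  open Groth.SpecFerrand in
  have hc : Glue.Covers ι h := fun y => by
    obtain ⟨U, hU, hyU, -⟩ := exists_isAffineOpen_mem_and_subset (x := j y) (U := ⊤) trivial
    exact ⟨⟨b ⁻¹ᵁ U, j ⁻¹ᵁ U, hU.preimage b, hU.preimage j, by
      rw [← Scheme.Hom.comp_preimage, hP.w, Scheme.Hom.comp_preimage]⟩, hyU⟩
  open Groth.SpecFerrand in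
  obtain ⟨-, -, -, hpb⟩ := Glue.facts_of_isPushout hc hP
  have hcom : j.ker.comap b = ι.ker := Groth.SpecFerrand.Blow.comap_ker_of_isPullback hpb
  have hflatI : Flat (ι.ker.subschemeι ≫ b ≫ sX) := by
    rw [← MorphismProperty.cancel_left_of_respectsIso @Flat ι.toImage]
    change Flat (ι.toImage ≫ ι.imageι ≫ b ≫ sX)
    rw [Scheme.Hom.toImage_imageι_assoc]
    infer_instance
  have hu : ∀ c : Groth.SpecFerrand.SqChart ι h b j,
      j.ker.comap c.u = Groth.BlowUpBasics.sheafOf (RingHom.ker c.p1.hom) ∧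
      ι.ker.comap c.uX = Groth.BlowUpBasics.sheafOf (RingHom.ker c.p.hom) := fun c =>
    ⟨(Groth.SpecFerrand.Blow.comap_ker_of_isPullback c.hY).trans (Groth.SpecFerrand.Blow.ker_Spec_map _),
      (Groth.SpecFerrand.Blow.comap_ker_of_isPullback c.hZ).trans (Groth.SpecFerrand.Blow.ker_Spec_map _)⟩
  refine ⟨fun n hn => ?_, ?_, hcom⟩
  · obtain ⟨m, rfl⟩ : ∃ m, n = m + 1 := ⟨n - 1, by omega⟩
    have hfI := Groth.SpecFerrand.Blow.flat_pow_of_effCartier hι (b ≫ sX) hflatI (m + 1)
    refine Groth.SpecFerrand.Blow.flat_subscheme _ sX fun x => ?_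
    obtain ⟨W, hW, hxW, -⟩ := exists_isAffineOpen_mem_and_subset (x := sX x) (U := ⊤) trivial
    obtain ⟨c, hxc, hcW⟩ := Groth.SpecFerrand.Glue.exists_sqChart_le hc hP (V := sX ⁻¹ᵁ W) (x := x) hxW
    haveI := hW.isOpenImmersion_fromSpec
    obtain ⟨φ, hφ⟩ := Spec.map_surjective (IsOpenImmersion.lift hW.fromSpec (c.u ≫ sX) (by
      rintro _ ⟨Q, rfl⟩; rw [hW.range_fromSpec]; exact hcW ⟨Q, rfl⟩))
    have hcs : c.u ≫ sX = Spec.map φ ≫ hW.fromSpec := by rw [hφ, IsOpenImmersion.lift_fac]
    have eB : Spec.map (φ ≫ c.p1) ≫ hW.fromSpec = c.uY ≫ (j ≫ sX) := by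
      rw [Spec.map_comp, Category.assoc, ← hcs, reassoc_of% c.hY.w]
    have eA : c.uX ≫ (b ≫ sX) = Spec.map (φ ≫ c.p2) ≫ hW.fromSpec := by
      rw [Spec.map_comp, Category.assoc, ← hcs, reassoc_of% c.hX.w]
    have eD : Spec.map (φ ≫ c.p1 ≫ c.q) ≫ hW.fromSpec = c.uZ ≫ (ι ≫ b ≫ sX) := by
      rw [Spec.map_comp, Spec.map_comp, Category.assoc, Category.assoc, ← hcs, reassoc_of% c.hY.w,
        reassoc_of% c.hZY, ← reassoc_of% hP.w]
    refine ⟨_, _, c.u, hW.fromSpec, φ, RingHom.ker c.p1.hom ^ (m + 1), inferInstance, inferInstance, hxc, hcs,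
      Groth.SpecFerrand.Blow.comap_pow c.u j.ker _ (hu c).1 _, ?_⟩
    exact Groth.SpecFerrand.Blow.flat_pinch_quot c.sq φ.hom
      (Groth.SpecFerrand.flat_of_comp_mono (φ ≫ c.p1) hW.fromSpec (eB ▸ inferInstance))
      (Groth.SpecFerrand.flat_of_comp_mono (φ ≫ c.p1 ≫ c.q) hW.fromSpec (eD ▸ inferInstance)) m
      (Groth.SpecFerrand.Blow.flat_chart c.uX hW.fromSpec eA
        (Groth.SpecFerrand.Blow.comap_pow c.uX ι.ker _ (hu c).2 _) hfI)
  · have key : ∀ x : X, ∃ c : Groth.SpecFerrand.SqChart ι h b j, x ∈ c.u.opensRange := fun x => by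
      obtain ⟨c, hc', -⟩ := Groth.SpecFerrand.Glue.exists_sqChart_le hc hP (V := ⊤) (x := x) trivial
      exact ⟨c, hc'⟩
    choose c hxc using key
    refine Groth.BlowUpBasics.isBlowUp_of_cover (fun x => (c x).u.opensRange)
      (.mk <| top_le_iff.mp fun x _ => TopologicalSpace.Opens.mem_iSup.mpr ⟨x, hxc x⟩) fun x => ?_
    have hpq := (c x).isPullback_uZ_j hP.w
    have hq : Function.Injective (c x).q.hom := by
      refine RingHom.FaithfullyFlat.injective (RingHom.FaithfullyFlat.iff_flat_and_comap_surjective.2 ⟨?_, ?_⟩)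
      · exact (HasRingHomProperty.Spec_iff (P := @Flat)).1 (MorphismProperty.of_isPullback hpq.flip inferInstance)
      · exact (MorphismProperty.of_isPullback (P := @Surjective) hpq.flip inferInstance).surj
    have hB : BlowUp.IsBlowUp (Spec.map (c x).p2) (Groth.BlowUpBasics.sheafOf (RingHom.ker (c x).p1.hom)) := by
      refine Groth.SpecFerrand.Blow.isBlowUp_Sp (c x).sq hq ?_
      change BlowUp.IsEffCartierIdeal (Scheme.IdealSheafData.comap _ (Spec.map (c x).p2))
      rw [← (hu (c x)).1, ← Scheme.IdealSheafData.comap_comp, (c x).hX.w, Scheme.IdealSheafData.comap_comp, hcom]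
      exact Groth.BlowUpBasics.isEffCartierIdeal_comap_of_flat _ hι
    have hR : IsPullback ((b ∣_ (c x).u.opensRange) ≫ (c x).u.isoOpensRange.inv) (b ⁻¹ᵁ (c x).u.opensRange).ι
        (c x).u b :=
      (isPullback_morphismRestrict b (c x).u.opensRange).of_iso (Iso.refl _) (c x).u.isoOpensRange.symm
        (Iso.refl _) (Iso.refl _) (by simp) (by simp) (by simp) (by simp)
    let e := hR.isoIsPullback _ _ (c x).hX
    have hsq : IsPullback (b ∣_ (c x).u.opensRange) e.hom (c x).u.isoOpensRange.inv (Spec.map (c x).p2) :=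
      IsPullback.of_vert_isIso ⟨by rw [IsPullback.isoIsPullback_hom_fst]⟩
    have := Groth.BlowUpBasics.isBlowUp_of_isPullback hB hsq
    rwa [← (hu (c x)).1, ← Scheme.IdealSheafData.comap_comp, Scheme.Hom.isoOpensRange_inv_comp] at this

end Groth.Agent.S14099
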