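import Groth.Statements.S1410
import Groth.Agent.Limits.DegreeZero

set_option autoImplicit false
universe u
open FlatMor

namespace Groth.Agent.S1410

open AlgebraicGeometry CategoryTheory Limits in
/-- Let f : X → Y be proper with every fibre of dimension at most 1 and with H^1(X_y, O) = 0 for all y,
and assume O_Y → f_* O_X is surjective (checked on affine opens). Then for every base change f' : X'
→ Y' of f, O_{Y'} → f'_* O_{X'} is surjective on every affine open of Y'. -/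
theorem result {X Y : Scheme.{u}} (f : X ⟶ Y) [IsProper f]
    (hdim : ∀ y : Y, topologicalKrullDim ↑(f.fiber y) ≤ 1) (hH1 : ∀ y : Y, Subsingleton (Coh.HH (f.fiber y) (Coh.structureModule (f.fiber y)) 1))
    (hsurj : ∀ U : Y.Opens, IsAffineOpen U → Function.Surjective (f.app U))
    {X' Y' : Scheme.{u}} (f' : X' ⟶ Y') (g' : X' ⟶ X) (g : Y' ⟶ Y) (hc : IsPullback g' f' f g) :
    ∀ U' : Y'.Opens, IsAffineOpen U' → Function.Surjective (f'.app U') := by
  intro U' hU'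
  haveI : IsProper f' := MorphismProperty.of_isPullback hc ‹IsProper f›
  refine Groth.Limits.FibreVanishing.app_surjective_of_local f' hU' fun y' hy' => ?_
  obtain ⟨V, hV, hyV⟩ := Groth.QCohMod.exists_affine_mem (g y')
  obtain ⟨r, hr, hyr⟩ := hU'.exists_basicOpen_le ⟨y', (show y' ∈ g ⁻¹ᵁ V ⊓ U' from ⟨hyV, hy'⟩)⟩ hy'
  refine ⟨r, hyr, ?_⟩
  let W := Y'.basicOpen r
  have hW : IsAffineOpen W := hU'.basicOpen r
  have hWV : W ≤ g ⁻¹ᵁ V := hr.trans inf_le_left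
  letI : Algebra Γ(Y, V) Γ(Y', W) := (g.appLE V W hWV).hom.toAlgebra
  letI : ((f ⁻¹ᵁ V : X.Opens) : Scheme.{u}).Over (Spec (CommRingCat.of Γ(Y, V))) :=
    ⟨Groth.CohBase.preimageToSpec f⟩
  letI : ((f' ⁻¹ᵁ W : X'.Opens) : Scheme.{u}).Over (Spec (CommRingCat.of Γ(Y', W))) :=
    ⟨Groth.CohBase.preimageToSpec f'⟩
  haveI : IsProper ((f ⁻¹ᵁ V : X.Opens).toScheme ↘ Spec (CommRingCat.of Γ(Y, V))) :=
    MorphismProperty.of_isPullback (Groth.CohBase.isPullback_preimageToSpec f hV) ‹IsProper f›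
  have hd : ∀ P, topologicalKrullDim
      ↥(((f ⁻¹ᵁ V : X.Opens).toScheme ↘ Spec (CommRingCat.of Γ(Y, V))).fiber P) ≤ (1 : ℕ) :=
    fun P => by
      have hP : hV.fromSpec.base P ∈ V := hV.range_fromSpec.le ⟨P, rfl⟩
      have e : hV.primeIdealOf ⟨_, hP⟩ = P := hV.fromSpec.isEmbedding.injective
        (hV.fromSpec_primeIdealOf ⟨_, hP⟩)
      have h := Groth.Limits.FibreVanishing.dim_fiber_preimageToSpec_le f hV _ hP 1 (hdim _)
      rwa [e] at h
  have h1 := Groth.Limits.FibreVanishing.subsingleton_HH_of_fiber_H f hV 1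
    (fun y _ => hdim y) (fun y _ => hH1 y)
  have h0 : Function.Surjective
      (Groth.Limits.FibreVanishing.globalMap Γ(Y, V) (f ⁻¹ᵁ V : X.Opens)) := fun x => by
    obtain ⟨a, ha⟩ := hsurj V hV ((f ⁻¹ᵁ V).topIso.hom x)
    refine ⟨a, ?_⟩
    rw [Groth.Limits.FibreVanishing.globalMap_preimage, ha]
    exact congr($((f ⁻¹ᵁ V).topIso.hom_inv_id) x)
  have hbig : IsPullback ((f' ⁻¹ᵁ W).ι ≫ g') (Groth.CohBase.preimageToSpec f') f
      (hW.fromSpec ≫ g) := (Groth.CohBase.isPullback_preimageToSpec f' hW).paste_horiz hc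
  let gX : ((f' ⁻¹ᵁ W : X'.Opens) : Scheme.{u}) ⟶ (f ⁻¹ᵁ V : X.Opens) :=
    IsOpenImmersion.lift (f ⁻¹ᵁ V).ι ((f' ⁻¹ᵁ W).ι ≫ g') (by
      rw [Scheme.Opens.range_ι]
      rintro _ ⟨x, rfl⟩
      change f (g' ((f' ⁻¹ᵁ W).ι x)) ∈ V
      rw [← Scheme.Hom.comp_apply, hc.w]
      exact hWV x.2)
  have hsq : Groth.CohBase.IsBC (A := Γ(Y, V)) (A' := Γ(Y', W)) gX := by
    rw [← IsAffineOpen.SpecMap_appLE_fromSpec g hV hW hWV,
      ← IsOpenImmersion.lift_fac (f ⁻¹ᵁ V).ι ((f' ⁻¹ᵁ W).ι ≫ g') _] at hbig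
    refine hbig.of_right ?_ (Groth.CohBase.isPullback_preimageToSpec f hV)
    change gX ≫ Groth.CohBase.preimageToSpec f = _
    rw [← cancel_mono hV.fromSpec, Category.assoc, Category.assoc,
      ← (Groth.CohBase.isPullback_preimageToSpec f hV).w, ← Category.assoc]
    exact hbig.w
  intro x
  obtain ⟨a, ha⟩ := Groth.Limits.FibreVanishing.toGlobal_surjective_baseChange hd h1 h0 hsq
    ((f' ⁻¹ᵁ W).topIso.inv x)
  refine ⟨a, ?_⟩
  rw [Groth.Limits.FibreVanishing.globalMap_preimage] at ha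
  exact (f' ⁻¹ᵁ W).topIso.commRingCatIsoToRingEquiv.symm.injective ha

end Groth.Agent.S1410
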