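import Groth.Statements.S14101
import Mathlib
import Groth.Agent.Calg4.SmoothReduced

set_option autoImplicit false
universe u
open CAlg

namespace Groth.Agent.S14101
open scoped TensorProduct

lemma isReduced_quot_of_smooth_int (L : Type u) [CommRing L] [Algebra.Smooth ℤ L] (p : ℕ)
    (hp : p.Prime) : IsReduced (L ⧸ Ideal.span {(p : L)}) := by
  have := Fact.mk hp
  let k := ULift.{u} (ZMod p)
  have : IsReduced (k ⊗[ℤ] L) := Groth.Calg4.isReduced_of_smooth_field k (k ⊗[ℤ] L)
  let I : Ideal ℤ := Ideal.span {(p : ℤ)}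
  let e : (ℤ ⧸ I) ≃ₐ[ℤ] k :=
    AlgEquiv.ofRingEquiv (f := (Int.quotientSpanNatEquivZMod p).trans ULift.ringEquiv.symm)
      fun n => by simp
  let e1 : (L ⧸ I.map (algebraMap ℤ L)) ≃ₐ[L] L ⊗[ℤ] (ℤ ⧸ I) :=
    Algebra.TensorProduct.quotIdealMapEquivTensorQuot L I
  let e2 : L ⊗[ℤ] (ℤ ⧸ I) ≃ₐ[ℤ] k ⊗[ℤ] L :=
    (Algebra.TensorProduct.congr AlgEquiv.refl e).trans (Algebra.TensorProduct.comm ℤ L k)
  have : IsReduced (L ⧸ I.map (algebraMap ℤ L)) :=
    isReduced_of_injective (e1.toRingEquiv.trans e2.toRingEquiv).toRingHom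
      (e1.toRingEquiv.trans e2.toRingEquiv).injective
  have hI : I.map (algebraMap ℤ L) = Ideal.span {(p : L)} := by
    simp [I, Ideal.map_span, Set.image_singleton]
  exact isReduced_of_injective (Ideal.quotEquivOfEq hI.symm).toRingHom
    (Ideal.quotEquivOfEq hI.symm).injective

lemma formallySmooth_int_of_field (K : Type u) [Field K] [CharZero K] [i : Algebra ℤ K]
    [Algebra.EssFiniteType ℤ K] : Algebra.FormallySmooth ℤ K := by
  obtain rfl : i = Ring.toIntAlgebra K := Subsingleton.elim _ _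
  letI : Algebra ℚ K := DivisionRing.toRatAlgebra
  have : IsScalarTower ℤ ℚ K := ⟨fun n q x => by rw [zsmul_eq_mul, mul_smul, Int.cast_smul_eq_zsmul]⟩
  have : Algebra.EssFiniteType ℚ K := Algebra.EssFiniteType.of_comp ℤ ℚ K
  have : Algebra.FormallySmooth ℤ ℚ := Algebra.FormallySmooth.of_isLocalization (nonZeroDivisors ℤ)
  exact Algebra.FormallySmooth.comp ℤ ℚ K

lemma isSmoothAt_int_of_minimalPrime (A : Type u) [CommRing A] [Algebra.FiniteType ℤ A] [IsReduced A]
    (P : Ideal A) [hP' : P.IsPrime] (hP : P ∈ minimalPrimes A)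
    (h0 : ∀ n : ℕ, n ≠ 0 → (n : A) ∉ P) : Algebra.IsSmoothAt ℤ P := by
  let K := Localization.AtPrime P
  have : Ring.KrullDimLE 0 K := Ring.KrullDimLE.of_isLocalization P hP K
  have hK : IsField K := Ring.KrullDimLE.isField_of_isReduced
  letI := hK.toField
  have hc : CharZero K := charZero_of_inj_zero fun n hn => by
    by_contra hne
    refine (IsLocalization.map_units K (⟨(n : A), h0 n hne⟩ : P.primeCompl)).ne_zero ?_
    simpa using hn
  have : Algebra.EssFiniteType ℤ A := inferInstance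
  have : Algebra.EssFiniteType A K := Algebra.EssFiniteType.of_isLocalization K P.primeCompl
  have : Algebra.EssFiniteType ℤ K := Algebra.EssFiniteType.comp ℤ A K
  exact formallySmooth_int_of_field K

theorem exists_bound (A : Type u) [CommRing A] [Algebra.FiniteType ℤ A] [IsReduced A] :
    ∃ B : ℕ, ∀ p : ℕ, p.Prime → B < p → (Ideal.span {(p : A)}).IsRadical := by
  classical
  have hN : IsNoetherianRing A := Algebra.FiniteType.isNoetherianRing ℤ A
  have : Algebra.FinitePresentation ℤ A := Algebra.FinitePresentation.of_finiteType.mp ‹_›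
  have hfin := minimalPrimes.finite_of_isNoetherianRing A
  -- the integers
  have hN0 : ∃ N : ℕ, N ≠ 0 ∧ ∀ P ∈ minimalPrimes A, (∀ n : ℕ, n ≠ 0 → (n : A) ∉ P) ∨ (N : A) ∈ P := by
    let f : Ideal A → ℕ := fun P => if h : ∃ n : ℕ, n ≠ 0 ∧ (n : A) ∈ P then h.choose else 1
    refine ⟨∏ P ∈ hfin.toFinset, f P, ?_, fun P hP => ?_⟩
    · rw [Finset.prod_ne_zero_iff]
      intro P _
      simp only [f]
      by_cases h : ∃ n : ℕ, n ≠ 0 ∧ (n : A) ∈ P
      · rw [dif_pos h]; exact h.choose_spec.1
      · rw [dif_neg h]; exact one_ne_zero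
    · by_cases h : ∃ n : ℕ, n ≠ 0 ∧ (n : A) ∈ P
      · right
        rw [Nat.cast_prod]
        refine P.mem_of_dvd (Finset.dvd_prod_of_mem _ (hfin.mem_toFinset.mpr hP)) ?_
        simp only [f, dif_pos h]
        exact h.choose_spec.2
      · left
        push Not at h
        exact h
  obtain ⟨N, hN0, hNP⟩ := hN0
  -- the element h
  let I : Ideal A := PrimeSpectrum.vanishingIdeal (Algebra.smoothLocus ℤ A)ᶜ
  have hI : ∀ P ∈ {P ∈ minimalPrimes A | ∀ n : ℕ, n ≠ 0 → (n : A) ∉ P}, ¬ I ≤ P := by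
    rintro P ⟨hP, h0⟩ hle
    have := hP.1.1
    have hsm := isSmoothAt_int_of_minimalPrime A P hP h0
    have hmem : (⟨P, hP.1.1⟩ : PrimeSpectrum A) ∈ PrimeSpectrum.zeroLocus (I : Set A) := hle
    rw [PrimeSpectrum.zeroLocus_vanishingIdeal_eq_closure,
      (Algebra.isOpen_smoothLocus (R := ℤ) (A := A)).isClosed_compl.closure_eq] at hmem
    exact hmem hsm
  obtain ⟨h, hhI, hhP⟩ : ∃ h ∈ I, ∀ P ∈ {P ∈ minimalPrimes A | ∀ n : ℕ, n ≠ 0 → (n : A) ∉ P}, h ∉ P := by
    have hfin' : ({P ∈ minimalPrimes A | ∀ n : ℕ, n ≠ 0 → (n : A) ∉ P}).Finite :=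
      hfin.subset fun P hP => hP.1
    by_contra hc
    push Not at hc
    have hsub : (I : Set A) ⊆ ⋃ P ∈ (hfin'.toFinset : Set (Ideal A)), (P : Set A) := by
      intro x hx
      obtain ⟨P, hP, hxP⟩ := hc x hx
      exact Set.mem_biUnion (hfin'.mem_toFinset.mpr hP) hxP
    obtain ⟨P, hP, hle⟩ := (Ideal.subset_union_prime (f := id) ⊥ ⊥
      (fun P hP _ _ => (hfin'.mem_toFinset.mp hP).1.1.1)).mp hsub
    exact hI P (hfin'.mem_toFinset.mp hP) hle
  have hsmooth : Algebra.Smooth ℤ (Localization.Away h) := by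
    rw [← Algebra.basicOpen_subset_smoothLocus_iff_smooth]
    intro Q hQ
    by_contra hQs
    exact hQ (PrimeSpectrum.mem_vanishingIdeal _ _ |>.mp hhI Q hQs)
  -- torsion bound
  let K : ℕ →o Ideal A :=
    ⟨fun n => (Ideal.span {h}).colon {((n.factorial : ℕ) : A)}, fun n m hnm a ha => by
      rw [Submodule.mem_colon_singleton] at ha ⊢
      obtain ⟨c, hc⟩ := Nat.factorial_dvd_factorial hnm
      rw [hc, Nat.cast_mul, smul_eq_mul, ← mul_assoc]
      exact Ideal.mul_mem_right _ _ ha⟩
  obtain ⟨n0, hn0⟩ := (monotone_stabilizes_iff_noetherian (R := A) (M := A)).mpr inferInstance K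
  refine ⟨max n0 N, fun p hp hBp => ?_⟩
  have hpn : n0 < p := (le_max_left _ _).trans_lt hBp
  have hpN : N < p := (le_max_right _ _).trans_lt hBp
  obtain ⟨u, v, huv⟩ : IsCoprime ((n0.factorial : ℕ) : A) (p : A) := by
    have hcop : Nat.Coprime n0.factorial p :=
      (Nat.Coprime.symm ((Nat.Prime.coprime_iff_not_dvd hp).mpr
        fun hd => absurd ((Nat.Prime.dvd_factorial hp).mp hd) (by omega)))
    exact hcop.cast
  obtain ⟨u', v', huv'⟩ : IsCoprime (N : A) (p : A) := by
    have hcop : Nat.Coprime N p :=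
      (Nat.Coprime.symm ((Nat.Prime.coprime_iff_not_dvd hp).mpr
        fun hd => absurd (Nat.le_of_dvd (Nat.pos_of_ne_zero hN0) hd) (by omega)))
    exact hcop.cast
  have key : ∀ a : A, h * a ∈ Ideal.span {(p : A)} → a ∈ Ideal.span {(p : A)} := by
    intro a ha
    rw [Ideal.mem_span_singleton'] at ha
    obtain ⟨b, hb⟩ := ha
    have hb1 : b ∈ K p := by
      change b ∈ (Ideal.span {h}).colon {((p.factorial : ℕ) : A)}
      rw [Submodule.mem_colon_singleton]
      obtain ⟨c, hc⟩ := Nat.dvd_factorial hp.pos le_rfl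
      rw [hc, Nat.cast_mul, smul_eq_mul, ← mul_assoc, hb, mul_assoc]
      exact Ideal.mem_span_singleton'.mpr ⟨a * c, mul_comm _ _⟩
    rw [← hn0 p hpn.le] at hb1
    change b ∈ (Ideal.span {h}).colon {((n0.factorial : ℕ) : A)} at hb1
    rw [Submodule.mem_colon_singleton, smul_eq_mul, Ideal.mem_span_singleton'] at hb1
    obtain ⟨d, hd⟩ := hb1
    let c := u * d + v * a
    have hbc : b = h * c := by
      calc b = b * (u * n0.factorial + v * p) := by rw [huv, mul_one]
        _ = u * (b * n0.factorial) + v * (b * p) := by ring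
        _ = u * (d * h) + v * (h * a) := by rw [← hd, hb]
        _ = h * c := by simp only [c]; ring
    have hy : h * (a - p * c) = 0 := by
      rw [mul_sub, ← hb, hbc]; ring
    have hz : (N : A) * (a - p * c) = 0 := by
      have : (N : A) * (a - p * c) ∈ nilradical A := by
        rw [nilradical_eq_sInf, Ideal.mem_sInf]
        intro Q hQ
        have : Q.IsPrime := hQ
        obtain ⟨P, hP, hPQ⟩ := Ideal.exists_minimalPrimes_le (I := (⊥ : Ideal A)) (J := Q) bot_le
        refine hPQ ?_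
        rcases hNP P hP with h0 | hNmem
        · have hprime := hP.1.1
          exact P.mul_mem_left _ ((hprime.mem_or_mem (hy ▸ P.zero_mem)).resolve_left
            (hhP P ⟨hP, h0⟩))
        · exact P.mul_mem_right _ hNmem
      rwa [nilradical_eq_zero] at this
    rw [Ideal.mem_span_singleton']
    refine ⟨c + v' * (a - p * c), ?_⟩
    calc (c + v' * (a - p * c)) * p
        = p * c + (u' * N + v' * p) * (a - p * c) - u' * (N * (a - p * c)) := by ring
      _ = a := by rw [huv', hz]; ring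
  intro x hx
  let L := Localization.Away h
  have : @Algebra.Smooth ℤ _ L _ (Ring.toIntAlgebra L) := by
    rw [Subsingleton.elim (Ring.toIntAlgebra L) _]; exact hsmooth
  have := @isReduced_quot_of_smooth_int L _ this p hp
  have hxL : algebraMap A L x ∈ Ideal.span {(p : L)} := by
    have hrad : (Ideal.span {(p : L)}).IsRadical := (Ideal.isRadical_iff_quotient_reduced _).mpr ‹_›
    refine hrad ?_
    obtain ⟨k, hk⟩ := hx
    refine ⟨k, ?_⟩
    rw [Ideal.mem_span_singleton'] at hk ⊢
    obtain ⟨c, hc⟩ := hk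
    exact ⟨algebraMap A L c, by rw [← map_pow, ← hc, map_mul, map_natCast]⟩
  rw [Ideal.mem_span_singleton'] at hxL
  obtain ⟨l, hl⟩ := hxL
  obtain ⟨⟨c, ⟨_, i, rfl⟩⟩, hcl⟩ := IsLocalization.surj (Submonoid.powers h) l
  have heq : algebraMap A L (h ^ i * x) = algebraMap A L (c * p) := by
    rw [map_mul, map_mul, ← hl, map_natCast, ← hcl]; ring
  obtain ⟨⟨_, j, rfl⟩, hj⟩ := (IsLocalization.eq_iff_exists (Submonoid.powers h) L).mp heq
  have hmain : ∀ (m : ℕ) (y : A), h ^ m * y ∈ Ideal.span {(p : A)} → y ∈ Ideal.span {(p : A)} := by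
    intro m
    induction m with
    | zero => intro y hy; simpa using hy
    | succ m ih => intro y hy; exact key y (ih _ (by rwa [← mul_assoc, ← pow_succ]))
  refine hmain (j + i) x ?_
  rw [pow_add, mul_assoc]
  simp only at hj
  rw [hj]
  exact Ideal.mem_span_singleton'.mpr ⟨h ^ j * c, by ring⟩

/-- Affine form — let A be a reduced commutative ring of finite type over ℤ. Then for all but finitely
many prime numbers p the reduction A/pA is reduced. (The published statement is for a reduced scheme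
of finite type over ℤ; such a scheme has a finite affine open cover, so the affine form carries the
same content.) -/
theorem result
    (A : Type u) [CommRing A] [Algebra.FiniteType ℤ A] [IsReduced A] :
    {p : ℕ | p.Prime ∧ ¬ IsReduced (A ⧸ Ideal.span {(p : A)})}.Finite := by
  obtain ⟨B, hB⟩ := exists_bound A
  refine (Set.finite_Iic B).subset fun p hp => ?_
  by_contra hc
  exact hp.2 ((Ideal.isRadical_iff_quotient_reduced _).mp (hB p hp.1 (by simpa using hc)))

end Groth.Agent.S14101
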