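import Groth.Statements.S14102
import Mathlib.Algebra.Homology.DerivedCategory.TStructure
import Mathlib.Algebra.Homology.DerivedCategory.FullyFaithful
import Mathlib.Algebra.Homology.DerivedCategory.HomologySequence
import Mathlib.CategoryTheory.Triangulated.TStructure.TruncLEGT
import Mathlib.RingTheory.Filtration
import Mathlib.Data.Int.Interval
import Mathlib.RingTheory.Flat.Basic
import Mathlib.Algebra.Homology.ShortComplex.ModuleCat
import Mathlib.Algebra.Category.ModuleCat.Monoidal.Basic

set_option autoImplicit false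
universe w u
open DCoh

namespace Groth.Agent.S14102

namespace GhostAR

open CategoryTheory Limits Pretriangulated DerivedCategory DerivedCategory.TStructure

variable {C : Type*} [Category* C] [Abelian C] [HasDerivedCategory C]

lemma zero_of_heart {Z W : DerivedCategory C} (q : ℤ) [Z.IsLE q] [Z.IsGE q] [W.IsLE q] [W.IsGE q]
    (f : Z ⟶ W) (hf : (DerivedCategory.homologyFunctor C q).map f = 0) : f = 0 := by
  obtain ⟨A, ⟨eA⟩⟩ := DerivedCategory.exists_iso_singleFunctor_obj_of_isGE_of_isLE Z q
  obtain ⟨B, ⟨eB⟩⟩ := DerivedCategory.exists_iso_singleFunctor_obj_of_isGE_of_isLE W q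
  obtain ⟨φ, hφ⟩ := (DerivedCategory.singleFunctor C q).map_surjective (eA.inv ≫ f ≫ eB.hom)
  have h0 : (DerivedCategory.homologyFunctor C q).map
      ((DerivedCategory.singleFunctor C q).map φ) = 0 := by
    rw [hφ, Functor.map_comp, Functor.map_comp, hf]
    simp
  have hφ0 : φ = 0 := by
    have h := (DerivedCategory.singleFunctorCompHomologyFunctorIso C q).hom.naturality φ
    simp only [Functor.comp_map, h0, zero_comp, Functor.id_map] at h
    exact ((DerivedCategory.singleFunctorCompHomologyFunctorIso C q).app A).cancel_iso_hom_left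
      φ 0 |>.1 (by simpa using h.symm)
  rw [hφ0, Functor.map_zero] at hφ
  have : f = eA.hom ≫ (eA.inv ≫ f ≫ eB.hom) ≫ eB.inv := by simp
  rw [this, ← hφ]; simp

/-- A map out of an object `≤ q` which is zero on `H^q` factors through an object `≤ q - 1`. -/
lemma lift_of_homology_zero {Z Y : DerivedCategory C} (q : ℤ) [Z.IsLE q] (g : Z ⟶ Y)
    (hg : (DerivedCategory.homologyFunctor C q).map g = 0) :
    ∃ (Z' : DerivedCategory C) (_ : Z'.IsLE (q - 1)) (a : Z ⟶ Z') (b : Z' ⟶ Y), a ≫ b = g := by
  let h := g ≫ (t.truncGEπ q).app Y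
  let h₁ := t.descTruncGE h q
  have hh₁ : (t.truncGEπ q).app Z ≫ h₁ = h := t.π_descTruncGE h q
  let h₂ := t.liftTruncLT h₁ q (q + 1) rfl
  have hh₂ : h₂ ≫ (t.truncLTι (q + 1)).app _ = h₁ := t.liftTruncLT_ι h₁ q (q + 1) rfl
  have hepi : Epi ((DerivedCategory.homologyFunctor C q).map ((t.truncGEπ q).app Z)) := by
    refine (DerivedCategory.HomologySequence.epi_homologyMap_mor₂_iff _
      (t.triangleLTGE_distinguished q Z) q (q + 1) rfl).2 ?_
    refine IsZero.eq_of_tgt ?_ _ _
    exact DerivedCategory.isZero_of_isLE ((t.truncLT q).obj Z) (q - 1) (q + 1) (by lia)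
  have hmono : Mono ((DerivedCategory.homologyFunctor C q).map
      ((t.truncLTι (q + 1)).app ((t.truncGE q).obj Y))) := by
    refine (DerivedCategory.HomologySequence.mono_homologyMap_mor₁_iff _
      (t.triangleLTGE_distinguished (q + 1) ((t.truncGE q).obj Y)) (q - 1) q (by lia)).2 ?_
    refine IsZero.eq_of_src ?_ _ _
    exact DerivedCategory.isZero_of_isGE ((t.truncGE (q + 1)).obj ((t.truncGE q).obj Y))
      (q + 1) (q - 1) (by lia)
  have hH : (DerivedCategory.homologyFunctor C q).map h₂ = 0 := by
    have h' : (DerivedCategory.homologyFunctor C q).map h = 0 := by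
      simp only [h, Functor.map_comp, hg, zero_comp]
    rw [← hh₁, ← hh₂, Functor.map_comp, Functor.map_comp] at h'
    have h'' := (cancel_epi ((DerivedCategory.homologyFunctor C q).map ((t.truncGEπ q).app Z))).1
      (h'.trans comp_zero.symm)
    exact (cancel_mono ((DerivedCategory.homologyFunctor C q).map
      ((t.truncLTι (q + 1)).app ((t.truncGE q).obj Y)))).1 (h''.trans zero_comp.symm)
  have hzero : h = 0 := by
    rw [← hh₁, ← hh₂, zero_of_heart q h₂ hH, zero_comp, comp_zero]
  obtain ⟨a, ha⟩ := Triangle.coyoneda_exact₂ _ (t.triangleLTGE_distinguished q Y) g hzero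
  exact ⟨(t.truncLT q).obj Y, t.isLE_truncLT_obj Y q (q - 1), a, _, ha.symm⟩

/-- Ghost lemma: a composite of sufficiently many maps which vanish on homology, out of an object
concentrated in degrees `≤ b`, into objects concentrated in degrees `≥ a`, is zero. -/
lemma comp_zero_of_ghost (a b : ℤ) (X : ℕ → DerivedCategory C)
    (f : ∀ i, X i ⟶ X (i + 1)) (N : ℕ) (hf : ∀ i, i < N → ∀ q : ℤ, (DerivedCategory.homologyFunctor C q).map (f i) = 0)
    (h0 : (X 0).IsLE b) (F : ∀ i, X 0 ⟶ X i) (hF0 : F 0 = 𝟙 _)
    (hF : ∀ i, F (i + 1) = F i ≫ f i) (hN : b - N < a) (hGE : (X N).IsGE a) :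
    F N = 0 := by
  have key : ∀ i : ℕ, i ≤ N → ∃ (Z : DerivedCategory C) (_ : Z.IsLE (b - i)) (u : X 0 ⟶ Z) (v : Z ⟶ X i),
      u ≫ v = F i := by
    intro i
    intro hi
    induction i with
    | zero => exact ⟨X 0, by simpa using h0, 𝟙 _, 𝟙 _, by simp [hF0]⟩
    | succ i ih =>
      obtain ⟨Z, hZ, u, v, huv⟩ := ih (by omega)
      obtain ⟨Z', hZ', u', v', huv'⟩ := lift_of_homology_zero (b - i) (v ≫ f i)
        (by rw [Functor.map_comp, hf i (by omega), comp_zero])
      refine ⟨Z', ?_, u ≫ u', v', ?_⟩
      · have he : b - ((i + 1 : ℕ) : ℤ) = b - (i : ℤ) - 1 := by push_cast; ring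
        rw [he]; exact hZ'
      · rw [Category.assoc, huv', hF, ← huv, Category.assoc]
  obtain ⟨Z, hZ, u, v, huv⟩ := key N le_rfl
  rw [← huv, t.zero_of_isLE_of_isGE v (b - N) a hN hZ hGE, comp_zero]

end GhostAR


namespace PowTensor

open CategoryTheory MonoidalCategory TensorProduct

variable {A : Type u} [CommRing A]

noncomputable def smulMap (I : Ideal A) (M : Type u) [AddCommGroup M] [Module A M] :
    I ⊗[A] M →ₗ[A] M :=
  (TensorProduct.lid A M).toLinearMap ∘ₗ LinearMap.rTensor M I.subtype

@[simp]
lemma smulMap_tmul (I : Ideal A) (M : Type u) [AddCommGroup M] [Module A M] (x : I) (y : M) :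
    smulMap I M (x ⊗ₜ y) = (x : A) • y := rfl

lemma smulMap_injective (I : Ideal A) (M : Type u) [AddCommGroup M] [Module A M] [Module.Flat A M] :
    Function.Injective (smulMap I M) :=
  (TensorProduct.lid A M).injective.comp
    (Module.Flat.rTensor_preserves_injective_linearMap _ Subtype.val_injective)

lemma smulMap_mem (I : Ideal A) (M : Type u) [AddCommGroup M] [Module A M] (z : I ⊗[A] M) :
    smulMap I M z ∈ (I • ⊤ : Submodule A M) := by
  induction z using TensorProduct.induction_on with
  | zero => simp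
  | tmul x y => exact Submodule.smul_mem_smul x.2 trivial
  | add x y hx hy => rw [map_add]; exact add_mem hx hy

lemma le_range_smulMap (I : Ideal A) (M : Type u) [AddCommGroup M] [Module A M] :
    (I • ⊤ : Submodule A M) ≤ LinearMap.range (smulMap I M) := by
  rw [Submodule.smul_le]
  intro r hr y _
  exact ⟨(⟨r, hr⟩ : I) ⊗ₜ y, rfl⟩

lemma smulMap_lTensor (I : Ideal A) {M N : Type u} [AddCommGroup M] [Module A M] [AddCommGroup N]
    [Module A N] (g : M →ₗ[A] N) (z : I ⊗[A] M) :
    smulMap I N (LinearMap.lTensor I g z) = g (smulMap I M z) := by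
  induction z using TensorProduct.induction_on with
  | zero => simp
  | tmul x y => simp [map_smul]
  | add x y hx hy => simp [map_add, hx, hy]

lemma smulMap_rTensor {I I' : Ideal A} (h : I ≤ I') {M : Type u} [AddCommGroup M] [Module A M]
    (z : I ⊗[A] M) :
    smulMap I' M (LinearMap.rTensor M (Submodule.inclusion h) z) = smulMap I M z := by
  induction z using TensorProduct.induction_on with
  | zero => simp
  | tmul x y => simp
  | add x y hx hy => simp [map_add, hx, hy]

variable (J : Ideal A) (K : CochainComplex (ModuleCat.{u} A) ℤ)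

noncomputable abbrev T (k : ℕ) : CochainComplex (ModuleCat.{u} A) ℤ :=
  (((curriedTensor (ModuleCat.{u} A)).obj (ModuleCat.of A ↥(J ^ k))).mapHomologicalComplex
    (ComplexShape.up ℤ)).obj K

noncomputable def P {l k : ℕ} (h : l ≤ k) : T J K k ⟶ T J K l :=
  (NatTrans.mapHomologicalComplex ((curriedTensor (ModuleCat.{u} A)).map
    (ModuleCat.ofHom (Submodule.inclusion (p := J ^ k) (p' := J ^ l) (Ideal.pow_le_pow_right h))))
    (ComplexShape.up ℤ)).app K

lemma P_comp {l j k : ℕ} (h : l ≤ j) (h' : j ≤ k) :
    P J K h' ≫ P J K h = P J K (h.trans h') := by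
  ext q : 1
  apply ModuleCat.hom_ext
  apply TensorProduct.ext'
  intro x y
  rfl

lemma P_refl (k : ℕ) : P J K (le_refl k) = 𝟙 _ := by
  ext q : 1
  apply ModuleCat.hom_ext
  apply TensorProduct.ext'
  intro x y
  rfl

lemma exists_boundary (hJ : ∀ q : ℤ, ∀ x ∈ J, ∀ c : ↑(K.homology q), x • c = 0) (q : ℤ)
    (x : A) (hx : x ∈ J) (z : K.X q) (hz : K.d q (q + 1) z = 0) :
    ∃ w : K.X (q - 1), K.d (q - 1) q w = x • z := by
  let g : ModuleCat.of A A ⟶ K.X q := ModuleCat.ofHom (LinearMap.toSpanSingleton A _ z)
  have hg : g ≫ K.d q (q + 1) = 0 := by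
    apply ModuleCat.hom_ext
    refine LinearMap.ext_ring ?_
    simpa [g] using hz
  let zt : K.cycles q := K.liftCycles g (q + 1) (by simp) hg (1 : A)
  have hzt : K.iCycles q zt = z := by
    have := ConcreteCategory.congr_hom (K.liftCycles_i g (q + 1) (by simp) hg) (1 : A)
    exact this.trans (one_smul A z)
  have hS : (ShortComplex.mk (K.toCycles (q - 1) q) (K.homologyπ q)
      (K.toCycles_comp_homologyπ _ _)).Exact :=
    ShortComplex.exact_of_g_is_cokernel _ (K.homologyIsCokernel (q - 1) q (by simp))
  rw [ShortComplex.moduleCat_exact_iff] at hS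
  obtain ⟨w, hw⟩ := hS (x • zt) (by rw [map_smul]; exact hJ q x hx _)
  refine ⟨w, ?_⟩
  rw [← K.toCycles_i (q - 1) q]
  exact ((congrArg (K.iCycles q) hw).trans (by rw [map_smul, hzt]))

lemma homologyMap_P_eq_zero (hJ : ∀ q : ℤ, ∀ x ∈ J, ∀ c : ↑(K.homology q), x • c = 0)
    [∀ q, Module.Flat A (K.X q)] (q : ℤ) (c : ℕ)
    (hc : ∀ n ≥ c, J ^ n • ⊤ ⊓ LinearMap.ker (K.d q (q + 1)).hom
        = J ^ (n - c) • (J ^ c • ⊤ ⊓ LinearMap.ker (K.d q (q + 1)).hom))
    {l k : ℕ} (hlk : l + c + 1 ≤ k) :
    HomologicalComplex.homologyMap (P J K (show l ≤ k by omega)) q = 0 := by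
  rw [← cancel_epi ((T J K k).homologyπ q), HomologicalComplex.homologyπ_naturality,
    Limits.comp_zero]
  apply ModuleCat.hom_ext
  refine LinearMap.ext fun z => ?_
  let y : K.X q := smulMap (J ^ k) (K.X q) ((T J K k).iCycles q z)
  have hy1 : y ∈ LinearMap.ker (K.d q (q + 1)).hom := by
    rw [LinearMap.mem_ker]
    have h0 : (T J K k).d q (q + 1) ((T J K k).iCycles q z) = 0 :=
      ConcreteCategory.congr_hom ((T J K k).iCycles_d q (q + 1)) z
    have h1 := smulMap_lTensor (J ^ k) (K.d q (q + 1)).hom ((T J K k).iCycles q z)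
    refine h1.symm.trans ?_
    exact (congrArg (smulMap (J ^ k) (K.X (q + 1))) h0).trans (map_zero _)
  have hy2 : y ∈ J ^ (k - c - 1) • LinearMap.range (K.d (q - 1) q).hom := by
    have h1 : y ∈ J ^ (k - c) • LinearMap.ker (K.d q (q + 1)).hom :=
      Submodule.smul_mono le_rfl inf_le_right
        ((hc k (by omega)).le (show y ∈ J ^ k • ⊤ ⊓ LinearMap.ker (K.d q (q + 1)).hom from
          ⟨smulMap_mem _ _ _, hy1⟩))
    rw [show k - c = (k - c - 1) + 1 by omega, pow_succ, Submodule.mul_smul] at h1
    refine Submodule.smul_mono le_rfl ?_ h1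
    rw [Submodule.smul_le]
    intro x hx v hv
    obtain ⟨w, hw⟩ := exists_boundary J K hJ q x hx v hv
    exact ⟨w, hw⟩
  rw [LinearMap.range_eq_map, ← Submodule.map_smul''] at hy2
  obtain ⟨w, hw, hwy⟩ := hy2
  obtain ⟨w', hw'⟩ := le_range_smulMap (J ^ l) (K.X (q - 1))
    (Submodule.smul_mono_left (Ideal.pow_le_pow_right (show l ≤ k - c - 1 by omega)) hw)
  have hkey : (T J K l).d (q - 1) q w' = (P J K (show l ≤ k by omega)).f q ((T J K k).iCycles q z) := by
    apply smulMap_injective (J ^ l) (K.X q)
    refine (smulMap_lTensor (J ^ l) (K.d (q - 1) q).hom w').trans ?_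
    rw [hw', hwy]
    exact (smulMap_rTensor (Ideal.pow_le_pow_right (show l ≤ k by omega)) _).symm
  have hcyc : HomologicalComplex.cyclesMap (P J K (show l ≤ k by omega)) q z =
      (T J K l).toCycles (q - 1) q w' := by
    apply (ModuleCat.mono_iff_injective ((T J K l).iCycles q)).1 inferInstance
    exact (ConcreteCategory.congr_hom
        (HomologicalComplex.cyclesMap_i (P J K (show l ≤ k by omega)) q) z).trans
      (hkey.symm.trans (ConcreteCategory.congr_hom ((T J K l).toCycles_i (q - 1) q) w').symm)
  refine (congrArg ((T J K l).homologyπ q) hcyc).trans ?_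
  exact ConcreteCategory.congr_hom ((T J K l).toCycles_comp_homologyπ (q - 1) q) w'

lemma isZero_T (k : ℕ) (q : ℤ) (h : Limits.IsZero (K.X q)) : Limits.IsZero ((T J K k).X q) :=
  ((curriedTensor (ModuleCat.{u} A)).obj (ModuleCat.of A ↥(J ^ k))).map_isZero h

end PowTensor

open CategoryTheory MonoidalCategory in
/-- Affine form — let A be a Noetherian commutative ring, K a bounded cochain complex of finitely
generated projective A-modules and J an ideal of A that annihilates every cohomology module of K.
Then for some natural number n and every positive integer m, the map J^(n+m) ⊗_A K → J^m ⊗_A K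
induced by the inclusion of ideals is zero in the derived category of A-modules. (The published
statement is for a perfect complex on a noetherian scheme or formal scheme with the derived tensor
product; over an affine scheme a perfect complex is represented by a bounded complex of finitely
generated projective modules, for which the derived tensor product with J^m is the termwise tensor
product used here.) -/
theorem result
    (A : Type u) [CommRing A] [IsNoetherianRing A] [HasDerivedCategory.{w} (ModuleCat.{u} A)]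
    (K : CochainComplex (ModuleCat.{u} A) ℤ) (a b : ℤ)
    (hK : ∀ q : ℤ, q < a ∨ b < q → Limits.IsZero (K.X q))
    (hfin : ∀ q : ℤ, Module.Finite A (K.X q)) (hproj : ∀ q : ℤ, Module.Projective A (K.X q))
    (J : Ideal A) (hJ : ∀ q : ℤ, ∀ x ∈ J, ∀ c : ↑(K.homology q), x • c = 0) :
    ∃ n : ℕ, ∀ m : ℕ, 0 < m →
      DerivedCategory.Q.map
        ((NatTrans.mapHomologicalComplex
          ((curriedTensor (ModuleCat.{u} A)).map
            (ModuleCat.ofHom (Submodule.inclusion (p := J ^ (n + m)) (p' := J ^ m)
              (Ideal.pow_le_pow_right (Nat.le_add_left m n)))))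
          (ComplexShape.up ℤ)).app K) = 0 := by
  have hflat : ∀ q, Module.Flat A (K.X q) := fun q => by
    have := hproj q
    infer_instance
  choose c hc using fun q : ℤ =>
    have := hfin q
    Ideal.exists_pow_inf_eq_pow_smul J (LinearMap.ker (K.d q (q + 1)).hom)
  let s := (Finset.Icc a b).sup c + 1
  let N := (b - a + 1).toNat
  refine ⟨N * s, fun m hm => ?_⟩
  let e : ℕ → ℕ := fun i => (N - i) * s + m
  have he : ∀ i, e (i + 1) ≤ e i := fun i => by
    simp only [e]
    gcongr
    omega
  have he0 : ∀ i, e i ≤ e 0 := fun i => by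
    simp only [e]
    gcongr
    omega
  have hge : ∀ k, (DerivedCategory.Q.obj (PowTensor.T J K k)).IsGE a := by
    intro k
    rw [DerivedCategory.isGE_Q_obj_iff, CochainComplex.isGE_iff]
    intro i hi
    exact ShortComplex.exact_of_isZero_X₂ _ (PowTensor.isZero_T J K k i (hK i (Or.inl hi)))
  have hle : ∀ k, (DerivedCategory.Q.obj (PowTensor.T J K k)).IsLE b := by
    intro k
    rw [DerivedCategory.isLE_Q_obj_iff, CochainComplex.isLE_iff]
    intro i hi
    exact ShortComplex.exact_of_isZero_X₂ _ (PowTensor.isZero_T J K k i (hK i (Or.inr hi)))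
  have h := GhostAR.comp_zero_of_ghost a b (fun i => DerivedCategory.Q.obj (PowTensor.T J K (e i)))
    (fun i => DerivedCategory.Q.map (PowTensor.P J K (he i))) N ?_ (hle _)
    (fun i => DerivedCategory.Q.map (PowTensor.P J K (he0 i)))
    (by simp only [PowTensor.P_refl, CategoryTheory.Functor.map_id])
    (fun i => by rw [← Functor.map_comp, PowTensor.P_comp])
    (by simp only [N]; omega) (hge _)
  · have key : ∀ (l k : ℕ), l = m → k = N * s + m → ∀ hlk : l ≤ k,
        DerivedCategory.Q.map (PowTensor.P J K hlk) = 0 →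
        DerivedCategory.Q.map (PowTensor.P J K (show m ≤ N * s + m by omega)) = 0 := by
      rintro l k rfl rfl hlk h
      exact h
    exact key _ _ (by simp [e]) (by simp [e]) (he0 N) h
  · intro i hi q
    have hes : e i = e (i + 1) + s := by
      simp only [e]
      rw [show N - i = (N - (i + 1)) + 1 by omega]
      ring
    have hH : HomologicalComplex.homologyMap (PowTensor.P J K (he i)) q = 0 := by
      by_cases hq : q ∈ Finset.Icc a b
      · refine PowTensor.homologyMap_P_eq_zero J K hJ q (c q) (hc q) ?_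
        have : c q ≤ (Finset.Icc a b).sup c := Finset.le_sup hq
        simp only [s] at hes
        omega
      · refine Limits.IsZero.eq_of_tgt ?_ _ _
        refine (HomologicalComplex.exactAt_iff_isZero_homology _ _).1 ?_
        refine ShortComplex.exact_of_isZero_X₂ _ (PowTensor.isZero_T J K _ q (hK q ?_))
        simp only [Finset.mem_Icc] at hq
        omega
    rw [← cancel_epi ((DerivedCategory.homologyFunctorFactors (ModuleCat.{u} A) q).inv.app _)]
    exact ((DerivedCategory.homologyFunctorFactors (ModuleCat.{u} A) q).inv.naturality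
      (PowTensor.P J K (he i))).symm.trans (by simp [hH]; rfl)


end Groth.Agent.S14102
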