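import Groth.Statements.S14109
import Groth.Agent.Ega4Algebra2.SchemeFibre
-- import your own Groth.Agent.* helpers here

set_option autoImplicit false
universe u
open CategoryTheory CategoryTheory.Limits AlgebraicGeometry Opposite TopologicalSpace
open CInt

namespace Groth.Agent.S14109

/-- Let f : X → S and g : X' → X be morphisms of locally Noetherian schemes with g surjective, Y a
closed subset of X and Y' its preimage under g. Then the codimension of Y' relative to the composite
X' → S (the infimum over y' ∈ Y' of the Krull dimension of the local ring at y' of the fibre of that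
composite through y') is at most the codimension of Y relative to f (the same infimum over y ∈ Y for
the fibres of f). -/
theorem result {X X' S : Scheme.{u}} [IsLocallyNoetherian X]
    [IsLocallyNoetherian X'] [IsLocallyNoetherian S] (f : X ⟶ S) (g : X' ⟶ X) [Surjective g]
    (Y : Set ↥X) (hY : IsClosed Y) :
    (⨅ y' : (fun x' => g x') ⁻¹' Y, ringKrullDim ↑(CInt.fiberStalk (g ≫ f) y'.1)) ≤
      ⨅ y : Y, ringKrullDim ↑(CInt.fiberStalk f y.1) := by
  refine le_iInf fun y => ?_
  obtain ⟨a, ha⟩ := g.surjective y.1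
  obtain ⟨z, hz⟩ : a ∈ Set.range (g.fiberι y.1) := by rw [g.range_fiberι]; exact ha
  obtain ⟨w, hw, -⟩ := Groth.Limits.exists_maximal_specializes z
  have hgw : g (g.fiberι y.1 w) = y.1 := by
    have : g.fiberι y.1 w ∈ g ⁻¹' {y.1} := by rw [← g.range_fiberι]; exact ⟨w, rfl⟩
    exact this
  have hmem : g.fiberι y.1 w ∈ (fun x' => g x') ⁻¹' Y := by
    show g (g.fiberι y.1 w) ∈ Y
    rw [hgw]; exact y.2
  refine iInf_le_of_le ⟨g.fiberι y.1 w, hmem⟩ ?_
  refine (Groth.Ega4b.ringKrullDim_fiberStalk_comp f g _).1.trans ?_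
  have h0 : ringKrullDim (CInt.fiberStalk g (g.fiberι y.1 w)) = 0 := by
    obtain ⟨e1⟩ := Groth.Ega4b.nonempty_fiberStalk_equiv g (g.fiberι y.1 w)
    obtain ⟨e2⟩ := Groth.Ega4b.nonempty_fiber_stalk_equiv g y.1 w _ rfl
    rw [← ringKrullDim_eq_of_ringEquiv e1, ringKrullDim_eq_of_ringEquiv e2]
    exact Groth.Ega4b.ringKrullDim_stalk_eq_zero_of_maximal hw
  rw [h0, add_zero]
  have key : ∀ b : ↥X, b = y.1 → ringKrullDim (CInt.fiberStalk f b) ≤ ringKrullDim (CInt.fiberStalk f y.1) := by
    rintro b rfl; exact le_rfl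
  exact key _ hgw

end Groth.Agent.S14109
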