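import Groth.Statements.S14113
import Groth.Agent.AffineKD.Main
-- import your own Groth.Agent.* helpers here

set_option autoImplicit false
universe u
open CategoryTheory CategoryTheory.Limits AlgebraicGeometry Opposite TopologicalSpace
attribute [local instance] HasDerivedCategory.standard
open DCoh

namespace Groth.Agent.S14113

/-- Let X be an affine scheme and E a bounded above cochain complex of finite locally free O_X-modules
(a strictly pseudo-coherent complex). Then E is acyclic if and only if the identity of E is null
homotopic. -/
theorem result {X : Scheme.{u}} [IsAffine X]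
    (E : CochainComplex X.Modules ℤ) (b : ℤ) (hEb : ∀ i : ℤ, b < i → IsZero (E.X i))
    (hE : ∀ i : ℤ, FlatMod.IsFinLocFree (E.X i)) :
    E.Acyclic ↔ Nonempty (Homotopy (𝟙 E) 0) := by
  letI : HasDerivedCategory X.Modules := HasDerivedCategory.standard _
  constructor
  · intro hac
    have hqc : ∀ i, Coh.IsQCoh (E.X i) := fun i =>
      Groth.PropsBasic.LocFree.isQuasicoherent_of_isFinLocFree _ (hE i)
    have h0 : DerivedCategory.Q.map (𝟙 E) = DerivedCategory.Q.map (0 : E ⟶ E) := by
      have : QuasiIso (0 : E ⟶ E) := ⟨fun i => by
        rw [quasiIsoAt_iff_isIso_homologyMap]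
        exact isIso_of_isTerminal (IsZero.isTerminal (hac i).isZero_homology)
          (IsZero.isTerminal (hac i).isZero_homology) _⟩
      have : IsIso (DerivedCategory.Q.map (0 : E ⟶ E)) :=
        (DerivedCategory.isIso_Q_map_iff_quasiIso _ _).2 this
      have hz : IsZero (DerivedCategory.Q.obj E) := by
        rw [Functor.map_zero] at this
        exact IsZero.of_epi_zero (DerivedCategory.Q.obj E) (DerivedCategory.Q.obj E)
      exact hz.eq_of_src _ _
    have h1 : (DerivedCategory.Qh (C := X.Modules)).map
        ((HomotopyCategory.quotient X.Modules (ComplexShape.up ℤ)).map (𝟙 E)) =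
        DerivedCategory.Qh.map ((HomotopyCategory.quotient X.Modules (ComplexShape.up ℤ)).map 0) := by
      rw [← cancel_mono ((DerivedCategory.quotientCompQhIso X.Modules).hom.app E)]
      exact ((DerivedCategory.quotientCompQhIso X.Modules).hom.naturality (𝟙 E)).trans
        ((congrArg (_ ≫ ·) h0).trans
          ((DerivedCategory.quotientCompQhIso X.Modules).hom.naturality (0 : E ⟶ E)).symm)
    exact ⟨HomotopyCategory.homotopyOfEq _ _
      ((Groth.Agent.AffineKD.bijective_of_isAffine E E b hEb hE hqc).1 h1)⟩
  · rintro ⟨h⟩ i
    rw [HomologicalComplex.exactAt_iff_isZero_homology, IsZero.iff_id_eq_zero,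
      ← HomologicalComplex.homologyMap_id, h.homologyMap_eq, HomologicalComplex.homologyMap_zero]

end Groth.Agent.S14113
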