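import Groth.Statements.S14116
import Groth.Agent.LocCohZBase.AffineDepth
import Groth.Agent.LocCohZBase.SectionsEdge
import Groth.Agent.Calg8.AcyclicityLemma
import Groth.Agent.KTheory.LocFree
import Groth.Agent.PropsBasic.LocFree
import Groth.Agent.LocFree.FP
import Groth.Agent.QCohMod.SupportPullback

set_option autoImplicit false
universe u
open CategoryTheory CategoryTheory.Limits AlgebraicGeometry Opposite TopologicalSpace
open LocCohZ

namespace Groth.Agent.S14116

/-- Let X be a locally Noetherian scheme, U ⊆ X open with closed complement Y, d a natural number such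
that the depth of O_X along Y is at least d (every local ring O_{X,y}, y ∈ Y, has depth at least d),
and M a finite locally free O_X-module. Then Γ(X, ℋ^d_Y(M)) is isomorphic to H^d_Y(X, M), where
ℋ^d_Y is the d-th right derived functor of the sheaf of sections with support in Y (applied to the
underlying abelian sheaf of M) and H^d_Y(X, M) is cohomology with support in Y. Existence of an
additive isomorphism only; the published statement asserts a canonical functorial isomorphism that
is linear over the global functions Γ(X, O_X) (obtained in its proof as the edge map of the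
local-to-global spectral sequence), and adds that U ↦ H^d_{Y∩U}(U, M), U ⊆ X open, is a sheaf; none
of this is part of this row. (The published statement assumes a flat morphism X → S with
Cohen–Macaulay fibres and relative codimension of Y at least d; these enter only through the depth
bound, which is the hypothesis of this row.) -/
theorem result (X : Scheme.{u}) [IsLocallyNoetherian X]
    (U : X.Opens) (d : ℕ)
    (hdepth : ∀ x : ↥X, x ∉ (U : Set ↥X) → (d : ℕ∞) ≤ LocCoh.depth ↑(X.presheaf.stalk x) ↑(X.presheaf.stalk x))
    (M : X.Modules) (hM : FlatMod.IsFinLocFree M) :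
    Nonempty (↑(((LocCohZ.HZsh (X := X.carrier) U d).obj (Coh.toAb M)).obj.obj (op ⊤)) ≃+ LocCohZ.HZM X M d U) := by
  haveI : M.IsQuasicoherent := Groth.PropsBasic.LocFree.isQuasicoherent_of_isFinLocFree M hM
  have hFT : CohB1.IsFT M := Groth.PropsBasic.LocFree.isFT_of_isFP M (Groth.LocFree.isFP hM)
  have hd : ∀ x : X, x ∉ U → (d : ℕ∞) ≤ LocCoh.depth (X.presheaf.stalk x) (M.presheaf.stalk x) := by
    intro x hx
    haveI := Groth.KTheory.LocFree.free_stalk hM x
    haveI := Groth.QCohMod.finite_stalk M hFT x
    haveI : IsNoetherianRing (X.presheaf.stalk x) := inferInstance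
    let e := (Module.finBasis (X.presheaf.stalk x) (M.presheaf.stalk x)).equivFun
    refine (hdepth x hx).trans ?_
    refine (Groth.Calg8.BE.le_depth_pi (R := X.presheaf.stalk x)
      (Module.finrank (X.presheaf.stalk x) (M.presheaf.stalk x))).trans ?_
    exact (Groth.LocCohBase.idealDepth_congr e).ge
  have hv : ∀ j < d, Groth.LocCohZBase.LocVanish (X := X.carrier) U (Coh.toAb M) j := fun j hj =>
    Groth.LocCohZBase.locVanish_of_affine U _ j fun V hV =>
      (Groth.LocCohZBase.subsingleton_iff_depth_image M U hFT V hV d).2 (fun x _ hx => hd x hx) j hj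
  obtain ⟨e⟩ := Groth.LocCohZBase.nonempty_sections_HZsh_equiv (X := X.carrier) U d (Coh.toAb M) hv
  obtain ⟨e'⟩ := Groth.LocCohZBase.nonempty_HZ_congr (X := X.carrier) (Coh.toAb M) d
    (top_inf_eq U) (inf_le_left : (⊤ : X.Opens) ⊓ U ≤ ⊤) (le_top : U ≤ ⊤)
  exact ⟨e.trans e'⟩

end Groth.Agent.S14116
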