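import Groth.Statements.S14118
import Mathlib

set_option autoImplicit false
universe u v w
open SuperComm

namespace Groth.Agent.S14118

/-- Let R be a commutative ring and M a finitely ℤ-graded R-module with finitely many nonzero graded
pieces, each finite free, presented as a finite family of finite free R-modules M_i with integer
degrees deg i (the piece of degree n being the product of the M_i with deg i = n); an endomorphism φ
of the total module Π_i M_i has degree a when its (i, j) block vanishes unless deg j = deg i + a;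
the supertrace of an endomorphism is the trace of its composite with the grading involution ε = Σ_i
(-1)^{deg i} pr_i. If φ and ψ have degrees a and b, the supertrace of the supercommutator φψ -
(-1)^{ab} ψφ vanishes. (The published statement allows the graded pieces to be finitely generated
projective; this row takes them finite free, where the trace is the ordinary trace of a free
module.) -/
theorem result {R : Type u} [CommRing R] {ι : Type v} [Fintype ι] [DecidableEq ι]
    (deg : ι → ℤ) (M : ι → Type w) [∀ i, AddCommGroup (M i)] [∀ i, Module R (M i)]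
    [∀ i, Module.Free R (M i)] [∀ i, Module.Finite R (M i)]
    (a b : ℤ) (φ ψ : (Π k, M k) →ₗ[R] (Π k, M k))
    (hφ : ∀ i j : ι, deg j ≠ deg i + a → (LinearMap.proj j) ∘ₗ φ ∘ₗ (LinearMap.single R M i) = 0)
    (hψ : ∀ i j : ι, deg j ≠ deg i + b → (LinearMap.proj j) ∘ₗ ψ ∘ₗ (LinearMap.single R M i) = 0) :
    LinearMap.trace R (Π k, M k)
      ((∑ i : ι, (LinearMap.single R M i) ∘ₗ (((-1 : R) ^ (deg i).natAbs) • (LinearMap.proj i : (Π k, M k) →ₗ[R] M i))) ∘ₗ (φ ∘ₗ ψ - ((-1 : R) ^ (a * b).natAbs) • (ψ ∘ₗ φ))) = 0 := by
  classical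
  let s : ι → R := fun i => (-1 : R) ^ (deg i).natAbs
  set ε : (Π k, M k) →ₗ[R] (Π k, M k) :=
    ∑ i : ι, (LinearMap.single R M i) ∘ₗ (s i • (LinearMap.proj i : (Π k, M k) →ₗ[R] M i)) with hε
  have hε_apply : ∀ (z : Π k, M k) (k : ι), ε z k = s k • z k := by
    intro z k
    simp only [hε, LinearMap.coe_sum, Finset.sum_apply, LinearMap.comp_apply,
      LinearMap.smul_apply, LinearMap.proj_apply, LinearMap.coe_single]
    rw [Finset.sum_pi_single]
    simp
  -- sign rules
  have pow_mod : ∀ m n : ℤ, (Even m ↔ Even n) → (-1 : R) ^ m.natAbs = (-1 : R) ^ n.natAbs := by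
    intro m n h
    rcases Int.even_or_odd m with hm | hm
    · rw [(Int.natAbs_even.2 hm).neg_one_pow, (Int.natAbs_even.2 (h.1 hm)).neg_one_pow]
    · have hn : Odd n := Int.not_even_iff_odd.1 fun hn => Int.not_even_iff_odd.2 hm (h.2 hn)
      rw [(Int.natAbs_odd.2 hm).neg_one_pow, (Int.natAbs_odd.2 hn).neg_one_pow]
  have pow_add' : ∀ m n : ℤ, (-1 : R) ^ (m + n).natAbs = (-1 : R) ^ m.natAbs * (-1 : R) ^ n.natAbs := by
    intro m n
    rcases Int.even_or_odd m with hm | hm <;> rcases Int.even_or_odd n with hn | hn
    · rw [(Int.natAbs_even.2 (hm.add hn)).neg_one_pow, (Int.natAbs_even.2 hm).neg_one_pow,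
        (Int.natAbs_even.2 hn).neg_one_pow, one_mul]
    · rw [(Int.natAbs_odd.2 (hm.add_odd hn)).neg_one_pow, (Int.natAbs_even.2 hm).neg_one_pow,
        (Int.natAbs_odd.2 hn).neg_one_pow, one_mul]
    · rw [(Int.natAbs_odd.2 (hm.add_even hn)).neg_one_pow, (Int.natAbs_odd.2 hm).neg_one_pow,
        (Int.natAbs_even.2 hn).neg_one_pow, mul_one]
    · rw [(Int.natAbs_even.2 (hm.add_odd hn)).neg_one_pow, (Int.natAbs_odd.2 hm).neg_one_pow,
        (Int.natAbs_odd.2 hn).neg_one_pow]
      simp
  -- ε anticommutes with φ up to (-1)^a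
  have hcomm : φ ∘ₗ ε = ((-1 : R) ^ a.natAbs) • (ε ∘ₗ φ) := by
    apply LinearMap.pi_ext
    intro i x
    funext k
    have he : ε (Pi.single i x) = s i • Pi.single i x := by
      funext l
      rw [hε_apply, Pi.smul_apply]
      by_cases hl : l = i
      · subst hl; simp
      · simp [Pi.single_eq_of_ne hl]
    simp only [LinearMap.comp_apply, LinearMap.smul_apply, Pi.smul_apply, hε_apply, he, map_smul, smul_smul]
    by_cases hk : deg k = deg i + a
    · congr 1
      simp only [s]
      rw [← pow_add']
      apply pow_mod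
      rw [hk]
      simp only [Int.even_add]
      tauto
    · have h := LinearMap.congr_fun (hφ i k hk) x
      simp only [LinearMap.comp_apply, LinearMap.coe_single, LinearMap.proj_apply,
        LinearMap.zero_apply] at h
      simp [h]
  -- degree a + b
  set T : (Π k, M k) →ₗ[R] (Π k, M k) := ε ∘ₗ φ ∘ₗ ψ with hT
  have hblock : a + b ≠ 0 → LinearMap.trace R _ T = 0 := by
    intro hab
    have hd : ∀ i, (LinearMap.proj i) ∘ₗ T ∘ₗ (LinearMap.single R M i) = 0 := by
      intro i
      ext x
      simp only [hT, LinearMap.comp_apply, LinearMap.proj_apply, hε_apply, LinearMap.zero_apply]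
      rw [← Finset.univ_sum_single (ψ (LinearMap.single R M i x)), map_sum, Finset.sum_apply,
        Finset.sum_eq_zero, smul_zero]
      intro j _
      by_cases hj : deg j = deg i + b
      · have h := LinearMap.congr_fun (hφ j i (by omega)) (ψ (LinearMap.single R M i x) j)
        simpa using h
      · have h := LinearMap.congr_fun (hψ i j hj) x
        simp only [LinearMap.comp_apply, LinearMap.coe_single, LinearMap.proj_apply, LinearMap.zero_apply] at h
        simp [h]
    have hdec : T = ∑ i : ι, (LinearMap.single R M i) ∘ₗ (LinearMap.proj i ∘ₗ T) := by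
      refine LinearMap.ext fun z => ?_
      simp only [LinearMap.coe_sum, Finset.sum_apply, LinearMap.comp_apply, LinearMap.proj_apply,
        LinearMap.coe_single]
      rw [Finset.univ_sum_single]
    rw [hdec, map_sum]
    refine Finset.sum_eq_zero fun i _ => ?_
    rw [LinearMap.trace_comp_comm', LinearMap.comp_assoc, hd, map_zero]
  have h2 : LinearMap.trace R _ (ε ∘ₗ ψ ∘ₗ φ) = ((-1 : R) ^ a.natAbs) * LinearMap.trace R _ T := by
    rw [← LinearMap.comp_assoc, LinearMap.trace_comp_comm', ← LinearMap.comp_assoc, hcomm,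
      LinearMap.smul_comp, map_smul, smul_eq_mul, LinearMap.comp_assoc]
  rw [LinearMap.comp_sub, LinearMap.comp_smul, map_sub, map_smul, h2, smul_eq_mul, ← hT,
    ← mul_assoc, ← pow_add']
  by_cases hab : a + b = 0
  · have : Even (a * b + a) := by
      rw [show b = -a by omega, show a * -a + a = -(a * (a - 1)) by ring]
      exact (Int.even_mul_pred_self a).neg
    rw [(Int.natAbs_even.2 this).neg_one_pow, one_mul, sub_self]
  · rw [hblock hab, mul_zero, sub_zero]

end Groth.Agent.S14118
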