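import Groth.Statements.S14119
import Groth.Agent.Ega4Algebra1.CatenaryDim
import Groth.Agent.Divisors.EffCartier
import Mathlib.RingTheory.Spectrum.Prime.Topology
-- import your own Groth.Agent.* helpers here

set_option autoImplicit false
universe u
open CategoryTheory CategoryTheory.Limits AlgebraicGeometry Opposite TopologicalSpace
open BlowUp

namespace Groth.Agent.S14119

open CategoryTheory AlgebraicGeometry in
lemma dim_eq_height_add_one {R : Type u} [CommRing R] [IsNoetherianRing R] [IsLocalRing R]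
    (hcat : CAlg.IsCatenary R) (N P : PrimeSpectrum R) (hN : ∀ p, N ≤ p) (hP : P ⋖ IsLocalRing.closedPoint R) :
    ringKrullDim R = P.asIdeal.height + 1 := by
  have := Groth.Ega4Algebra1.finiteDimensionalOrder_spec R
  rw [PrimeSpectrum.height_eq_orderHeight]
  have hne : Order.height P ≠ ⊤ := by
    rw [← PrimeSpectrum.height_eq_orderHeight]; exact Ideal.height_ne_top_of_isPrime
  obtain ⟨h, hh⟩ := ENat.ne_top_iff_exists.mp hne
  obtain ⟨s, hslast, hslen⟩ := Order.exists_series_of_height_eq_coe P hh.symm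
  have hshead : s.head = N := by
    by_contra hne
    have := Order.length_le_height (p := s.cons N (lt_of_le_of_ne (hN _) (Ne.symm hne))) (x := P)
      (le_of_eq (by rw [RelSeries.last_cons, hslast]))
    rw [RelSeries.cons_length, ← hh] at this
    norm_cast at this
    omega
  have hsat : ∀ i : Fin s.length, s (Fin.castSucc i) ⋖ s (Fin.succ i) := fun i ↦
    ⟨s.strictMono Fin.castSucc_lt_succ, fun z h1 h2 ↦ by
      have := Order.length_le_height (p := s.insertNth i z h1 h2) (x := P) (le_of_eq (by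
        rw [← hslast]
        have hlt : i.succ.castSucc < Fin.last (s.length + 1) := Fin.castSucc_lt_last _
        change (Fin.castSucc i.succ).insertNth (α := fun _ => PrimeSpectrum R) z s.toFun (Fin.last (s.length + 1)) = _
        rw [Fin.insertNth_apply_above hlt]
        simp [RelSeries.last]
        exact congrArg s.toFun (Fin.ext (by simp))))
      rw [RelSeries.insertNth_length, ← hh] at this
      norm_cast at this
      omega⟩
  let c : LTSeries (PrimeSpectrum R) :=
    { length := s.length + 1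
      toFun := Fin.snoc (α := fun _ => PrimeSpectrum R) s.toFun (IsLocalRing.closedPoint R)
      step := fun i ↦ by
        refine Fin.lastCases ?_ (fun j ↦ ?_) i
        · rw [Fin.snoc_castSucc, Fin.succ_last, Fin.snoc_last]
          exact (show s.toFun (Fin.last _) = P from hslast) ▸ hP.lt
        · rw [Fin.snoc_castSucc, Fin.succ_castSucc, Fin.snoc_castSucc]
          exact s.step j }
  have hchead : c.head = N := by
    show Fin.snoc (α := fun _ => PrimeSpectrum R) s.toFun (IsLocalRing.closedPoint R) (Fin.castSucc 0) = N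
    rw [Fin.snoc_castSucc]
    exact hshead
  have hclast : c.last = IsLocalRing.closedPoint R := by
    show Fin.snoc (α := fun _ => PrimeSpectrum R) s.toFun (IsLocalRing.closedPoint R) (Fin.last (s.length + 1)) = _
    rw [Fin.snoc_last]
  obtain ⟨t, hth, htl, htlast, htsat⟩ := Groth.Ega4Algebra1.exists_saturated_series R N
  have hlen := hcat.2 c t (hchead.trans hth.symm) (hclast.trans htlast.symm)
    (fun i ↦ by
      refine Fin.lastCases ?_ (fun j ↦ ?_) i
      · show Fin.snoc (α := fun _ => PrimeSpectrum R) s.toFun (IsLocalRing.closedPoint R) (Fin.castSucc (Fin.last s.length)) ⋖ Fin.snoc (α := fun _ => PrimeSpectrum R) s.toFun (IsLocalRing.closedPoint R) (Fin.succ (Fin.last s.length))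
        rw [Fin.snoc_castSucc, Fin.succ_last, Fin.snoc_last]
        exact (show s.toFun (Fin.last _) = P from hslast) ▸ hP
      · show Fin.snoc (α := fun _ => PrimeSpectrum R) s.toFun (IsLocalRing.closedPoint R) (Fin.castSucc (Fin.castSucc j)) ⋖ Fin.snoc (α := fun _ => PrimeSpectrum R) s.toFun (IsLocalRing.closedPoint R) (Fin.succ (Fin.castSucc j))
        rw [Fin.snoc_castSucc, Fin.succ_castSucc, Fin.snoc_castSucc]
        exact hsat j)
    htsat
  have hdim : ringKrullDim R = (Order.coheight N : WithBot ℕ∞) := by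
    have : Nonempty (PrimeSpectrum R) := ⟨N⟩
    show Order.krullDim (PrimeSpectrum R) = _
    rw [Order.krullDim_eq_iSup_coheight_of_nonempty]
    exact congrArg _ (le_antisymm (iSup_le fun p ↦ Order.coheight_anti (hN p)) (le_iSup (fun p ↦ Order.coheight p) N))
  rw [hdim, ← htl, ← hh, ← hlen, show c.length = s.length + 1 from rfl, hslen]
  rfl

open CategoryTheory AlgebraicGeometry in
lemma dim_stalk_fromSpec {X : Scheme.{u}} {W : X.Opens} (hW : IsAffineOpen W) (p : PrimeSpectrum Γ(X, W)) :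
    ringKrullDim (X.presheaf.stalk (hW.fromSpec p)) = p.asIdeal.height := by
  have hmem : hW.fromSpec p ∈ W := hW.range_fromSpec.le ⟨p, rfl⟩
  letI : Algebra Γ(X, W) (X.presheaf.stalk (hW.fromSpec p)) :=
    TopCat.Presheaf.algebra_section_stalk X.presheaf ⟨hW.fromSpec p, hmem⟩
  haveI : IsLocalization.AtPrime (X.presheaf.stalk (hW.fromSpec p)) p.asIdeal := hW.isLocalization_stalk' p hmem
  exact IsLocalization.AtPrime.ringKrullDim_eq_height p.asIdeal (X.presheaf.stalk (hW.fromSpec p))

open CategoryTheory AlgebraicGeometry in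
lemma one_le_dim_of_mem_support {X : Scheme.{u}} {𝓘 : X.IdealSheafData} (hY : BlowUp.IsEffCartierIdeal 𝓘)
    {y : X} (hy : y ∈ 𝓘.support) : (1 : WithBot ℕ∞) ≤ ringKrullDim (X.presheaf.stalk y) := by
  obtain ⟨W, hyW, g, hg, hgI⟩ := hY y
  have e : W.2.fromSpec (W.2.primeIdealOf ⟨y, hyW⟩) = y := W.2.fromSpec_primeIdealOf ⟨y, hyW⟩
  rw [← e, dim_stalk_fromSpec W.2]
  have hmem : g ∈ (W.2.primeIdealOf ⟨y, hyW⟩).asIdeal := by
    by_contra hne
    have h1 := (Scheme.IdealSheafData.mem_support_iff_of_mem hyW).mp hy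
    refine (Scheme.mem_zeroLocus_iff X _ y).mp h1 g (hgI.ge (Ideal.mem_span_singleton_self g)) ?_
    have : W.2.primeIdealOf ⟨y, hyW⟩ ∈ W.2.fromSpec ⁻¹ᵁ X.basicOpen g := by
      rw [W.2.fromSpec_preimage_basicOpen]; exact hne
    rw [← e]
    exact this
  have h1 : (1 : ℕ∞) ≤ (W.2.primeIdealOf ⟨y, hyW⟩).asIdeal.height :=
    (Ideal.one_le_height_span_singleton_of_mem_nonZeroDivisors hg).trans
      (Ideal.height_mono ((Ideal.span_singleton_le_iff_mem _).mpr hmem))
  exact_mod_cast h1


/-- Let X be a locally Noetherian scheme, Y an effective Cartier divisor on X (a quasi-coherent ideal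
sheaf which, near every point, is generated on some affine open by one nonzerodivisor; Y is its
support) and Z a closed integral subscheme (a closed immersion i from an integral scheme with
generic point ξ). Assume X irreducible with all local rings catenary (the first of the two printed
sufficient conditions), and assume that the inverse image ideal sheaf of Y on Z is the ideal of an
effective Cartier divisor on Z. Then Y and Z intersect properly: every point ζ of Y ∩ Z that is
maximal under generization inside Y ∩ Z satisfies dim O_{X,ζ} = codim(Y,X) + codim(Z,X), where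
codim(Y,X) is the infimum over y ∈ Y of dim O_{X,y} and codim(Z,X) = dim O_{X,i(ξ)}. (The published
statement also has a second sufficient condition, X biequidimensional, and a fourth equivalent
condition, vanishing of the higher Tor sheaves of O_Y against O_Z; neither is included in this row.) -/
theorem result {X Z : Scheme.{u}}
    [IsLocallyNoetherian X] [IrreducibleSpace ↥X] (hcat : ∀ x : ↥X, CAlg.IsCatenary ↑(X.presheaf.stalk x))
    (𝓘 : X.IdealSheafData) (hY : BlowUp.IsEffCartierIdeal 𝓘)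
    (i : Z ⟶ X) [IsClosedImmersion i] [IsIntegral Z] (hc : BlowUp.IsEffCartierIdeal (𝓘.comap i)) :
    (∀ ζ : ↥X, ζ ∈ (𝓘.support : Set ↥X) ∩ Set.range i.base →
        (∀ ζ' : ↥X, ζ' ∈ (𝓘.support : Set ↥X) ∩ Set.range i.base → ζ' ⤳ ζ → ζ' = ζ) →
        ringKrullDim ↑(X.presheaf.stalk ζ) =
          (⨅ y : (𝓘.support : Set ↥X), ringKrullDim ↑(X.presheaf.stalk y.1)) +
            ringKrullDim ↑(X.presheaf.stalk (i (genericPoint ↥Z)))) := by
  intro ζ hζ hmax
  obtain ⟨W, hζW, t, ht, hWt⟩ := hY ζ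
  set ξ := i (genericPoint Z)
  have hspec : ∀ y ∈ Set.range i.base, ξ ⤳ y := by
    rintro _ ⟨z, rfl⟩
    exact (genericPoint_specializes z).map i.continuous
  have hξW : ξ ∈ W.1 := (hspec ζ hζ.2).mem_open W.1.isOpen hζW
  set Q := W.2.primeIdealOf ⟨ζ, hζW⟩
  set P := W.2.primeIdealOf ⟨ξ, hξW⟩
  have eQ : W.2.fromSpec Q = ζ := W.2.fromSpec_primeIdealOf ⟨ζ, hζW⟩
  have eP : W.2.fromSpec P = ξ := W.2.fromSpec_primeIdealOf ⟨ξ, hξW⟩
  haveI := W.2.isOpenImmersion_fromSpec
  have hle : ∀ p q : PrimeSpectrum Γ(X, W.1), W.2.fromSpec p ⤳ W.2.fromSpec q → p ≤ q := fun p q h ↦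
    (PrimeSpectrum.le_iff_specializes p q).mpr (W.2.fromSpec.isOpenEmbedding.isInducing.specializes_iff.mp h)
  have hmemI : ∀ q : PrimeSpectrum Γ(X, W.1), W.2.fromSpec q ∈ 𝓘.support ↔ t ∈ q.asIdeal := by
    intro q
    have hq : W.2.fromSpec q ∈ W.1 := W.2.range_fromSpec.le ⟨q, rfl⟩
    rw [Scheme.IdealSheafData.mem_support_iff_of_mem hq, hWt, Scheme.zeroLocus_span,
      Scheme.mem_zeroLocus_iff]
    have : W.2.fromSpec q ∈ X.basicOpen t ↔ t ∉ q.asIdeal := by
      show q ∈ W.2.fromSpec ⁻¹ᵁ X.basicOpen t ↔ _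
      rw [W.2.fromSpec_preimage_basicOpen]
      rfl
    simp [this]
  have hPQ : P ≤ Q := hle _ _ (by rw [eP, eQ]; exact hspec ζ hζ.2)
  have htQ : t ∈ Q.asIdeal := (hmemI Q).mp (by rw [eQ]; exact hζ.1)
  have htP : t ∉ P.asIdeal := by
    rw [← hmemI, eP]
    intro h
    refine Groth.Divisors.not_mem_support_of_maximal hc (x := genericPoint Z)
      (fun y hy ↦ (hy.antisymm (genericPoint_specializes y)).eq) ?_
    rw [Scheme.IdealSheafData.support_comap]
    exact h
  have hYZ : ∀ q : PrimeSpectrum Γ(X, W.1), P ≤ q → t ∈ q.asIdeal →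
      W.2.fromSpec q ∈ (𝓘.support : Set X) ∩ Set.range i.base := by
    intro q hPq htq
    refine ⟨(hmemI q).mpr htq, ?_⟩
    have h1 : W.2.fromSpec P ⤳ W.2.fromSpec q :=
      ((PrimeSpectrum.le_iff_specializes P q).mp hPq).map W.2.fromSpec.continuous
    rw [eP] at h1
    exact h1.mem_closed i.isClosedEmbedding.isClosed_range ⟨_, rfl⟩
  have hQmin : Q.asIdeal ∈ (P.asIdeal ⊔ Ideal.span {t}).minimalPrimes := by
    refine ⟨⟨Q.isPrime, sup_le hPQ ((Ideal.span_singleton_le_iff_mem _).mpr htQ)⟩, ?_⟩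
    rintro q ⟨hq, hqle⟩ hqQ
    have hmemq := hYZ ⟨q, hq⟩ (le_sup_left.trans hqle) (hqle (Ideal.mem_sup_right (Ideal.mem_span_singleton_self t)))
    have hqQ' : W.2.fromSpec (⟨q, hq⟩ : PrimeSpectrum Γ(X, W.1)) ⤳ ζ := by
      rw [← eQ]
      exact ((PrimeSpectrum.le_iff_specializes (⟨q, hq⟩ : PrimeSpectrum _) Q).mp hqQ).map W.2.fromSpec.continuous
    have h2 : (⟨q, hq⟩ : PrimeSpectrum Γ(X, W.1)) = Q :=
      W.2.fromSpec.isOpenEmbedding.injective ((hmax _ hmemq hqQ').trans eQ.symm)
    exact (congrArg PrimeSpectrum.asIdeal h2).ge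
  haveI : IsNoetherianRing Γ(X, W.1) := IsLocallyNoetherian.component_noetherian W
  have hcov : P ⋖ Q := Groth.Ega4Algebra1.covBy_of_mem_minimalPrimes _ htP hQmin
  have hNprime : (nilradical Γ(X, W.1)).IsPrime := by
    rw [← PrimeSpectrum.irreducibleSpace_iff_isPrime_nilradical]
    have hpre : IsPreirreducible (Set.univ : Set (PrimeSpectrum Γ(X, W.1))) := by
      have := (PreirreducibleSpace.isPreirreducible_univ (X := X)).preimage W.2.fromSpec.isOpenEmbedding
      simpa using! this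
    exact { toPreirreducibleSpace := ⟨hpre⟩, toNonempty := ⟨Q⟩ }
  letI : Algebra Γ(X, W.1) (X.presheaf.stalk ζ) := TopCat.Presheaf.algebra_section_stalk X.presheaf (⟨ζ, hζW⟩ : W.1)
  haveI hloc : IsLocalization.AtPrime (X.presheaf.stalk ζ) Q.asIdeal := W.2.isLocalization_stalk ⟨ζ, hζW⟩
  set cR := PrimeSpectrum.comap (algebraMap Γ(X, W.1) (X.presheaf.stalk ζ))
  have hcm : cR (IsLocalRing.closedPoint (X.presheaf.stalk ζ)) = Q :=
    PrimeSpectrum.ext (IsLocalization.AtPrime.under_maximalIdeal (X.presheaf.stalk ζ) Q.asIdeal)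
  have hd : ∀ p : PrimeSpectrum Γ(X, W.1), p ≤ Q → Disjoint (Q.asIdeal.primeCompl : Set Γ(X, W.1)) p.asIdeal :=
    fun p hp ↦ Set.disjoint_left.mpr fun a ha hap ↦ ha (hp hap)
  have hex : ∀ p : PrimeSpectrum Γ(X, W.1), p ≤ Q → ∃ p' : PrimeSpectrum (X.presheaf.stalk ζ), cR p' = p := fun p hp ↦
    ⟨⟨p.asIdeal.map (algebraMap _ (X.presheaf.stalk ζ)), IsLocalization.isPrime_of_isPrime_disjoint Q.asIdeal.primeCompl (X.presheaf.stalk ζ) _ p.isPrime (hd p hp)⟩,
      PrimeSpectrum.ext (IsLocalization.under_map_of_isPrime_disjoint Q.asIdeal.primeCompl (X.presheaf.stalk ζ) p.isPrime (hd p hp))⟩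
  have hinj : Function.Injective cR := PrimeSpectrum.localization_comap_injective (X.presheaf.stalk ζ) Q.asIdeal.primeCompl
  have hord : ∀ p q : PrimeSpectrum (X.presheaf.stalk ζ), cR p ≤ cR q → p ≤ q := fun p q h ↦ by
    show p.asIdeal ≤ q.asIdeal
    rw [← IsLocalization.map_under Q.asIdeal.primeCompl (X.presheaf.stalk ζ) p.asIdeal, ← IsLocalization.map_under Q.asIdeal.primeCompl (X.presheaf.stalk ζ) q.asIdeal]
    exact Ideal.map_mono h
  obtain ⟨N, hN⟩ := hex ⟨nilradical _, hNprime⟩ (nilradical_le_prime Q.asIdeal)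
  obtain ⟨P', hP'⟩ := hex P hPQ
  have hP'cov : P' ⋖ IsLocalRing.closedPoint (X.presheaf.stalk ζ) := by
    refine ⟨lt_of_le_of_ne (IsLocalRing.le_maximalIdeal P'.isPrime.ne_top) fun h ↦ ?_, fun q h1 h2 ↦ ?_⟩
    · rw [h, hcm] at hP'
      exact hcov.lt.ne hP'.symm
    · refine hcov.2 (c := cR q) (lt_of_le_of_ne (hP' ▸ Ideal.comap_mono h1.le) fun h ↦ h1.ne (hinj (hP'.trans h)))
        (lt_of_le_of_ne (hcm ▸ Ideal.comap_mono h2.le) fun h ↦ h2.ne (hinj (h.trans hcm.symm)))
  haveI : IsNoetherianRing (X.presheaf.stalk ζ) := IsLocalization.isNoetherianRing Q.asIdeal.primeCompl (X.presheaf.stalk ζ) inferInstance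
  have hdim := dim_eq_height_add_one (hcat ζ) N P'
    (fun p ↦ hord _ _ (hN ▸ (nilradical_le_prime _))) hP'cov
  have hdimξ : ringKrullDim (X.presheaf.stalk ξ) = P'.asIdeal.height := by
    have e : P.asIdeal = P'.asIdeal.under Γ(X, W.1) := (congrArg PrimeSpectrum.asIdeal hP').symm
    have h1 : P.asIdeal.height = P'.asIdeal.height := by
      rw [e, IsLocalization.height_under Q.asIdeal.primeCompl]
    rw [← h1, ← eP]
    exact dim_stalk_fromSpec W.2 P
  have hinf : (⨅ y : (𝓘.support : Set X), ringKrullDim ↑(X.presheaf.stalk y.1)) = 1 := by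
    refine le_antisymm ?_ (le_iInf fun y ↦ one_le_dim_of_mem_support hY y.2)
    obtain ⟨q, hq, hqQ⟩ := Ideal.exists_minimalPrimes_le (I := Ideal.span {t}) (J := Q.asIdeal)
      ((Ideal.span_singleton_le_iff_mem _).mpr htQ)
    have hqp : q.IsPrime := hq.1.1
    refine iInf_le_of_le ⟨W.2.fromSpec (⟨q, hqp⟩ : PrimeSpectrum Γ(X, W.1)),
      (hmemI ⟨q, hqp⟩).mpr (hq.1.2 (Ideal.mem_span_singleton_self t))⟩ ?_
    rw [dim_stalk_fromSpec W.2]
    exact_mod_cast Ideal.height_le_one_of_isPrincipal_of_mem_minimalPrimes _ q hq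
  rw [hdim, hinf, hdimξ, add_comm]

end Groth.Agent.S14119
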