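import Groth.Statements.S14120
import Groth.Agent.SchemeMorphisms.EssDvrSquare
-- import your own Groth.Agent.* helpers here

set_option autoImplicit false
universe u
open CategoryTheory AlgebraicGeometry
open ValCrit

namespace Groth.Agent.S14120

/-- For schemes, let every affine open of the base `S` have excellent coordinate ring, let `g : Y ⟶ S`
be locally of finite type and `f : X ⟶ Y` quasi-compact and locally of finite type. Then the
existence part of the valuative criterion for `f` over discrete valuation rings (every commutative
square `Spec K ⟶ X`, `Spec R ⟶ Y` with `R` a discrete valuation ring and `K` its fraction field has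
a lift `Spec R ⟶ X`) holds as soon as it holds for the squares whose ring `R` is essentially of
finite type over `S`, i.e. `Spec R ⟶ Y ⟶ S` factors through some affine open `U` of `S` by a ring
map `Γ(S, U) ⟶ R` that is essentially of finite type; and conversely. (The published statement is
for algebraic spaces and treats existence and uniqueness together; this row is the existence half
for schemes.) -/
theorem result (S : Scheme.{u})
    (hS : ∀ U : S.affineOpens, EGA4.IsExcellent Γ(S, U.1))
    {X Y : Scheme.{u}} (f : X ⟶ Y) (g : Y ⟶ S)
    [QuasiCompact f] [LocallyOfFiniteType f] [LocallyOfFiniteType g] :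
    (∀ sq : ValuativeCommSq f, IsDiscreteValuationRing sq.R → sq.commSq.HasLift) ↔
    (∀ sq : ValuativeCommSq f, IsDiscreteValuationRing sq.R →
      (∃ (U : S.affineOpens) (φ : Γ(S, U.1) ⟶ CommRingCat.of sq.R),
        Spec.map φ ≫ U.2.fromSpec = sq.i₂ ≫ g ∧ φ.hom.EssFiniteType) →
      sq.commSq.HasLift) := by
  refine ⟨fun H sq hd _ => H sq hd, fun H sq _ => ?_⟩
  haveI : IsLocallyNoetherian S := ⟨fun V => (hS V).1⟩
  haveI : IsLocallyNoetherian Y := LocallyOfFiniteType.isLocallyNoetherian g
  haveI : UniversallyClosed f := by
    refine Groth.ZetaAn.universallyClosed_of_lfp f fun T t ht => ?_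
    rw [isClosedMap_iff_specializingMap]
    intro x s hxs
    rcases eq_or_ne s (Limits.pullback.snd f t x) with rfl | hne
    · exact ⟨x, specializes_rfl, rfl⟩
    obtain ⟨A, _, _, hd, _, _, m, hcl, hm, V, ψ, hψ, hess⟩ :=
      Groth.EssDvr.exists_ess_square hS (t ≫ g) (Limits.pullback.snd f t) x s hxs hne
    let k := (Limits.pullback f t).fromSpecResidueField x
    let sq : ValuativeCommSq f :=
      { R := A
        K := (Limits.pullback f t).residueField x
        i₁ := k ≫ Limits.pullback.fst f t
        i₂ := m ≫ t
        commSq := ⟨by rw [reassoc_of% hm, Category.assoc, Limits.pullback.condition]⟩ }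
    obtain ⟨⟨l, hl₁, hl₂⟩⟩ := (H sq hd ⟨V, ψ, by rw [hψ]; exact (Category.assoc _ _ _).symm, hess⟩).exists_lift
    let l' : Spec (CommRingCat.of A) ⟶ Limits.pullback f t := Limits.pullback.lift l m hl₂
    have hl' : Spec.map (CommRingCat.ofHom (algebraMap A ((Limits.pullback f t).residueField x))) ≫ l' = k := by
      apply Limits.pullback.hom_ext
      · rw [Category.assoc, Limits.pullback.lift_fst]; exact hl₁
      · rw [Category.assoc, Limits.pullback.lift_snd, hm]
    refine ⟨l' (IsLocalRing.closedPoint A), ?_, ?_⟩
    · have h1 := (IsLocalRing.specializes_closedPoint ((Spec.map (CommRingCat.ofHom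
        (algebraMap A ((Limits.pullback f t).residueField x)))) (IsLocalRing.closedPoint _))).map l'.continuous
      rw [← Scheme.Hom.comp_apply, hl', Scheme.fromSpecResidueField_apply] at h1
      exact h1
    · rw [← Scheme.Hom.comp_apply, Limits.pullback.lift_snd, hcl]
  have hf : ValuativeCriterion.Existence f :=
    (le_of_eq UniversallyClosed.eq_valuativeCriterion _ _ f inferInstance).1
  exact hf sq

end Groth.Agent.S14120
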