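import Groth.Statements.S14121
import Groth.Agent.SchemeMorphisms.EssDvrSquare
-- import your own Groth.Agent.* helpers here

set_option autoImplicit false
universe u
open CategoryTheory AlgebraicGeometry
open ValCrit

namespace Groth.Agent.S14121

/-- For schemes, let every affine open of the base `S` have excellent coordinate ring, let `g : Y ⟶ S`
be locally of finite type and `f : X ⟶ Y` quasi-compact and locally of finite type. Then the
uniqueness part of the valuative criterion for `f` over discrete valuation rings (every commutative
square `Spec K ⟶ X`, `Spec R ⟶ Y` with `R` a discrete valuation ring and `K` its fraction field has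
at most one lift `Spec R ⟶ X`) holds as soon as it holds for the squares whose ring `R` is
essentially of finite type over `S`, i.e. `Spec R ⟶ Y ⟶ S` factors through some affine open `U` of
`S` by a ring map `Γ(S, U) ⟶ R` that is essentially of finite type; and conversely. (The published
statement is for algebraic spaces and treats existence and uniqueness together; this row is the
uniqueness half for schemes.) -/
theorem result (S : Scheme.{u})
    (hS : ∀ U : S.affineOpens, EGA4.IsExcellent Γ(S, U.1))
    {X Y : Scheme.{u}} (f : X ⟶ Y) (g : Y ⟶ S)
    [QuasiCompact f] [LocallyOfFiniteType f] [LocallyOfFiniteType g] :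
    (∀ sq : ValuativeCommSq f, IsDiscreteValuationRing sq.R → Subsingleton sq.commSq.LiftStruct) ↔
    (∀ sq : ValuativeCommSq f, IsDiscreteValuationRing sq.R →
      (∃ (U : S.affineOpens) (φ : Γ(S, U.1) ⟶ CommRingCat.of sq.R),
        Spec.map φ ≫ U.2.fromSpec = sq.i₂ ≫ g ∧ φ.hom.EssFiniteType) →
      Subsingleton sq.commSq.LiftStruct) := by
  refine ⟨fun H sq hd _ => H sq hd, fun H sq _ => ?_⟩
  haveI : IsLocallyNoetherian S := ⟨fun V => (hS V).1⟩
  haveI : IsLocallyNoetherian Y := LocallyOfFiniteType.isLocallyNoetherian g
  haveI : IsLocallyNoetherian X := LocallyOfFiniteType.isLocallyNoetherian f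
  haveI : IsSeparated f := by
    constructor
    refine IsClosedImmersion.of_isPreimmersion _
      (Groth.Limits.isClosed_range_of_specializes (Limits.pullback.diagonal f) fun x z hxz => ?_)
    rcases eq_or_ne z (Limits.pullback.diagonal f x) with rfl | hne
    · exact ⟨x, rfl⟩
    obtain ⟨A, _, _, hd, _, _, m, hcl, hm, V, ψ, hψ, hess⟩ :=
      Groth.EssDvr.exists_ess_square hS (Limits.pullback.fst f f ≫ f ≫ g) (Limits.pullback.diagonal f) x z hxz hne
    let sq : ValuativeCommSq f :=
      { R := A
        K := X.residueField x
        i₁ := X.fromSpecResidueField x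
        i₂ := m ≫ Limits.pullback.fst f f ≫ f
        commSq := ⟨by rw [reassoc_of% hm, Limits.pullback.diagonal_fst_assoc]⟩ }
    haveI := H sq hd ⟨V, ψ, by rw [hψ]; simp [sq], hess⟩
    have key : m ≫ Limits.pullback.fst f f = m ≫ Limits.pullback.snd f f :=
      congrArg CommSq.LiftStruct.l (Subsingleton.elim
        (⟨m ≫ Limits.pullback.fst f f, by
          dsimp only [sq]; rw [reassoc_of% hm, Limits.pullback.diagonal_fst, Category.comp_id],
          Category.assoc _ _ _⟩ : sq.commSq.LiftStruct)
        ⟨m ≫ Limits.pullback.snd f f, by
          dsimp only [sq]; rw [reassoc_of% hm, Limits.pullback.diagonal_snd, Category.comp_id],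
          by dsimp only [sq]; rw [Category.assoc, ← Limits.pullback.condition]⟩)
    have hfac : (m ≫ Limits.pullback.fst f f) ≫ Limits.pullback.diagonal f = m := by
      refine Limits.pullback.hom_ext ?_ ?_
      · simp
      · simpa using key
    refine ⟨(m ≫ Limits.pullback.fst f f) (IsLocalRing.closedPoint A), ?_⟩
    rw [← Scheme.Hom.comp_apply, hfac, hcl]
  exact IsSeparated.valuativeCriterion f sq

end Groth.Agent.S14121
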