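import Groth.Statements.S14122
import Mathlib
-- import your own Groth.Agent.* helpers here

set_option autoImplicit false
universe u
open ValCrit

namespace Groth.Agent.S14122

/-- Let `R` be a discrete valuation ring with fraction field `K` and `g ∈ GL_N(K)` an element of finite
order. Then after passing to a finite extension `K'` of `K` and a discrete valuation ring `R'` of
`K'` dominating `R`, the element `g` becomes conjugate in `GL_N(K')` to an element of `GL_N(R')`.
(The published statement is that the classifying stack of `GL_N` over the integers satisfies a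
valuative condition, for discrete valuation rings essentially of finite type over the integers, on
extending finite-order generic automorphisms along nearby modifications; since vector bundles over a
discrete valuation ring are trivial, that condition is this conjugacy statement for such rings, and
this row states it for every discrete valuation ring, as the printed argument gives.) -/
theorem result
    (R : Type u) [CommRing R] [IsDomain R] [IsDiscreteValuationRing R]
    (K : Type u) [Field K] [Algebra R K] [IsFractionRing R K]
    (N : ℕ) (g : GL (Fin N) K) (hg : IsOfFinOrder g) :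
    ∃ (R' : Type u) (_ : CommRing R') (_ : IsDomain R') (_ : IsDiscreteValuationRing R')
      (K' : Type u) (_ : Field K') (_ : Algebra R' K') (_ : IsFractionRing R' K')
      (_ : Algebra R R') (_ : Algebra K K') (_ : Algebra R K')
      (_ : IsScalarTower R R' K') (_ : IsScalarTower R K K')
      (_ : Module.Finite K K') (_ : IsLocalHom (algebraMap R R'))
      (h : GL (Fin N) K') (g' : GL (Fin N) R'),
      h * Matrix.GeneralLinearGroup.map (algebraMap K K') g * h⁻¹ =
        Matrix.GeneralLinearGroup.map (algebraMap R' K') g' := by
  classical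
  obtain ⟨m, hm, hgm⟩ := isOfFinOrder_iff_pow_eq_one.mp hg
  let gl : (Fin N → K) →ₗ[R] (Fin N → K) := ((g : Matrix (Fin N) (Fin N) K).mulVecLin).restrictScalars R
  let gen : Fin m × Fin N → (Fin N → K) := fun p => (gl ^ (p.1 : ℕ)) (Pi.single p.2 1)
  let L : Submodule R (Fin N → K) := Submodule.span R (Set.range gen)
  have hgl : ∀ k, ⇑(gl ^ k) = fun v => ((g ^ k : GL (Fin N) K) : Matrix (Fin N) (Fin N) K).mulVec v := by
    intro k
    induction k with
    | zero => ext v; simp
    | succ k ih =>
      ext v
      rw [pow_succ, Module.End.mul_apply, ih, pow_succ, Units.val_mul, ← Matrix.mulVec_mulVec]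
      rfl
  have hmap : ∀ v ∈ L, gl v ∈ L := by
    intro v hv
    refine (Submodule.span_le (p := L.comap gl)).mpr ?_ hv
    rintro _ ⟨⟨⟨k, hk⟩, j⟩, rfl⟩
    refine Submodule.subset_span ⟨(⟨(k + 1) % m, Nat.mod_lt _ hm⟩, j), ?_⟩
    show (gl ^ ((k + 1) % m)) _ = gl ((gl ^ k) _)
    rw [← Module.End.mul_apply, ← pow_succ', hgl, hgl, ← pow_eq_pow_mod _ hgm]
  have : Module.Finite R L := Module.Finite.span_of_finite R (Set.finite_range _)
  have hstd : ∀ j, Pi.single j (1 : K) ∈ L :=
    fun j => Submodule.subset_span ⟨(⟨0, hm⟩, j), by simp [gen]⟩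
  have : IsLocalizedModule (nonZeroDivisors R) L.subtype := by
    refine ⟨fun r => ?_, fun v => ?_, fun {x y} h => ⟨1, by simpa using Subtype.ext h⟩⟩
    · have hr : (algebraMap R K r) ≠ 0 := IsFractionRing.to_map_ne_zero_of_mem_nonZeroDivisors r.2
      refine (Module.End.isUnit_iff _).mpr ⟨fun a b h => ?_, fun b => ⟨(algebraMap R K r)⁻¹ • b, ?_⟩⟩
      · simp only [Module.algebraMap_end_apply, ← algebraMap_smul K (r : R)] at h
        exact smul_right_injective _ hr h
      · simp only [Module.algebraMap_end_apply, ← algebraMap_smul K (r : R)]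
        exact smul_inv_smul₀ hr b
    · obtain ⟨d, hd⟩ := IsLocalization.exist_integer_multiples_of_finite (nonZeroDivisors R) v
      choose c hc using hd
      refine ⟨(⟨∑ j, c j • Pi.single j (1 : K), Submodule.sum_smul_mem _ _ fun j _ => hstd j⟩, d), ?_⟩
      ext i
      simp only [Submonoid.smul_def, Submodule.subtype_apply, Pi.smul_apply, Finset.sum_apply]
      rw [← hc i]
      simp [Pi.single_apply, Algebra.smul_def]
  let b₀ := Module.Free.chooseBasis R L
  let b' := b₀.ofIsLocalizedModule K (nonZeroDivisors R) L.subtype
  let e := (b'.indexEquiv (Pi.basisFun K (Fin N)))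
  let b := b₀.reindex e
  let bK := b'.reindex e
  let gR : L →ₗ[R] L := gl.restrict hmap
  let gRm := LinearMap.toMatrix b b gR
  have hbK : ∀ i, bK i = (b i : Fin N → K) := fun i => by
    simp [bK, b, b', Module.Basis.ofIsLocalizedModule_apply]
  have hcoord : ∀ (v : L) i, bK.repr (v : Fin N → K) i = algebraMap R K (b.repr v i) := by
    intro v i
    simp only [bK, b, b', Module.Basis.repr_reindex_apply]
    exact Module.Basis.ofIsLocalizedModule_repr_apply K (nonZeroDivisors R) L.subtype b₀ v _
  let P : Matrix (Fin N) (Fin N) K := bK.toMatrix (Pi.basisFun K (Fin N))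
  let Q : Matrix (Fin N) (Fin N) K := (Pi.basisFun K (Fin N)).toMatrix bK
  have hPQ : P * Q = 1 := bK.toMatrix_mul_toMatrix_flip _
  have hQP : Q * P = 1 := (Pi.basisFun K (Fin N)).toMatrix_mul_toMatrix_flip _
  let h : GL (Fin N) K := ⟨P, Q, hPQ, hQP⟩
  have key : gRm.map (algebraMap R K) = P * (g : Matrix (Fin N) (Fin N) K) * Q := by
    have e1 : P * (g : Matrix (Fin N) (Fin N) K) * Q =
        LinearMap.toMatrix bK bK ((g : Matrix (Fin N) (Fin N) K).mulVecLin) := by
      rw [← basis_toMatrix_mul_linearMap_toMatrix_mul_basis_toMatrix bK (Pi.basisFun K (Fin N))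
        bK (Pi.basisFun K (Fin N))]
      simp only [P, Q, LinearMap.toMatrix_eq_toMatrix', ← Matrix.toLin'_apply', LinearMap.toMatrix'_toLin']
    rw [e1]
    ext i j
    rw [show gRm = LinearMap.toMatrix b b gR from rfl, Matrix.map_apply, LinearMap.toMatrix_apply,
      LinearMap.toMatrix_apply, hbK, ← hcoord]
    rfl
  have hdet : IsUnit gRm.det := by
    have h1 : algebraMap R K (gRm.det ^ m) = algebraMap R K 1 := by
      rw [map_pow, RingHom.map_det, map_one]
      change (gRm.map (algebraMap R K)).det ^ m = 1
      rw [key, Matrix.det_mul, Matrix.det_mul, mul_right_comm, ← Matrix.det_mul, hPQ, Matrix.det_one,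
        one_mul, ← Matrix.det_pow, ← Units.val_pow_eq_pow_val, hgm, Units.val_one, Matrix.det_one]
    exact (isUnit_pow_iff hm.ne').mp (IsFractionRing.injective R K h1 ▸ isUnit_one)
  refine ⟨R, inferInstance, inferInstance, inferInstance, K, inferInstance, inferInstance,
    inferInstance, inferInstance, inferInstance, inferInstance, inferInstance, inferInstance,
    inferInstance, inferInstance, h, Matrix.GeneralLinearGroup.mk'' gRm hdet, ?_⟩
  ext1
  simp only [Units.val_mul, Algebra.algebraMap_self]
  change P * ((g : Matrix (Fin N) (Fin N) K).map (RingHom.id K)) * Q = gRm.map (algebraMap R K)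
  rw [key]; simp

end Groth.Agent.S14122
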