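import Groth.Statements.S14123
import Groth.Agent.EtaleAlgebra.AdjoinUniformizer
import Mathlib

set_option autoImplicit false
universe u v
open GmQuot

namespace Groth.Agent.S14123


open Polynomial in
/-- adjoining a root of a uniformizer gives a DVR whose fraction field is finite -/
theorem exists_root_extension (R : Type v) [CommRing R] [IsDomain R] [IsDiscreteValuationRing R]
    (K : Type v) [Field K] [Algebra R K] [IsFractionRing R K] {t : R} (ht : Irreducible t)
    {D : ℕ} (hD : 2 ≤ D) :
    ∃ (R' : Type v) (_ : CommRing R') (_ : IsDomain R') (_ : IsDiscreteValuationRing R')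
      (K' : Type v) (_ : Field K') (_ : Algebra R' K') (_ : IsFractionRing R' K')
      (_ : Algebra R R') (_ : Algebra K K') (_ : Algebra R K')
      (_ : IsScalarTower R R' K') (_ : IsScalarTower R K K')
      (_ : Module.Finite K K') (_ : IsLocalHom (algebraMap R R'))
      (x : R'), Irreducible x ∧ x ^ D = algebraMap R R' t := by
  obtain ⟨hdom, hdvr, hmax, hpow, -⟩ := Groth.EtaleAlgebra.adjoinRoot_uniformizer ht hD
  generalize hf : (X ^ D - C t : R[X]) = f at hdom hdvr hmax hpow
  have hmon : f.Monic := hf ▸ monic_X_pow_sub_C t (by omega)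
  haveI := hmon.finite_adjoinRoot
  have hinjR : Function.Injective (algebraMap R (AdjoinRoot f)) :=
    AdjoinRoot.of.injective_of_degree_ne_zero (by
      rw [← hf, degree_X_pow_sub_C (by omega)]
      exact Nat.cast_ne_zero.2 (by omega))
  have hinj : Function.Injective (algebraMap R (FractionRing (AdjoinRoot f))) := by
    rw [IsScalarTower.algebraMap_eq R (AdjoinRoot f) (FractionRing (AdjoinRoot f))]
    exact (IsFractionRing.injective (AdjoinRoot f) _).comp hinjR
  letI algK : Algebra K (FractionRing (AdjoinRoot f)) := (IsFractionRing.lift (A := R) (K := K) hinj).toAlgebra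
  haveI : IsScalarTower R K (FractionRing (AdjoinRoot f)) :=
    IsScalarTower.of_algebraMap_eq fun r => by
      rw [RingHom.algebraMap_toAlgebra, IsFractionRing.lift_algebraMap]
  haveI : Algebra.IsIntegral R (AdjoinRoot f) := Algebra.IsIntegral.of_finite R _
  haveI : Module.Finite K (FractionRing (AdjoinRoot f)) := by
    let z : FractionRing (AdjoinRoot f) := algebraMap _ _ (AdjoinRoot.root f)
    have hz : IsIntegral K z :=
      IsIntegral.tower_top (R := R) ((Algebra.IsIntegral.isIntegral (AdjoinRoot.root f)).map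
        (IsScalarTower.toAlgHom R (AdjoinRoot f) _))
    haveI := IntermediateField.adjoin.finiteDimensional hz
    have hmem : ∀ b : AdjoinRoot f,
        algebraMap _ (FractionRing (AdjoinRoot f)) b ∈ IntermediateField.adjoin K {z} := by
      intro b
      obtain ⟨P, rfl⟩ := AdjoinRoot.mk_surjective b
      induction P using Polynomial.induction_on' with
      | add p q hp hq => rw [map_add, map_add]; exact add_mem hp hq
      | monomial k a =>
        rw [← C_mul_X_pow_eq_monomial, map_mul, map_pow, AdjoinRoot.mk_C, AdjoinRoot.mk_X, map_mul, map_pow,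
          ← AdjoinRoot.algebraMap_eq, ← IsScalarTower.algebraMap_apply,
          IsScalarTower.algebraMap_apply R K]
        exact mul_mem ((IntermediateField.adjoin K {z}).algebraMap_mem _)
          (pow_mem (IntermediateField.mem_adjoin_simple_self K z) k)
    have htop : IntermediateField.adjoin K {z} = ⊤ := by
      refine eq_top_iff.mpr fun w _ => ?_
      obtain ⟨a, b, -, rfl⟩ := IsFractionRing.div_surjective (AdjoinRoot f) w
      exact div_mem (hmem a) (hmem b)
    exact Module.Finite.equiv ((IntermediateField.equivOfEq htop).trans IntermediateField.topEquiv).toLinearEquiv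
  haveI : IsLocalHom (algebraMap R (AdjoinRoot f)) :=
    RingHom.IsIntegral.isLocalHom (algebraMap_isIntegral_iff.mpr inferInstance) hinjR
  refine ⟨AdjoinRoot f, inferInstance, hdom, hdvr, FractionRing (AdjoinRoot f), inferInstance,
    inferInstance, inferInstance, inferInstance, algK, inferInstance, inferInstance, inferInstance,
    inferInstance, inferInstance, AdjoinRoot.root f, ?_, hpow⟩
  exact (IsDiscreteValuationRing.irreducible_iff_uniformizer _).mpr hmax

/-- the rescaled ring hom -/
theorem exists_rescale {A : Type u} [CommRing A] (𝒜 : ℤ → AddSubgroup A) [GradedRing 𝒜]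
    {R' K' : Type v} [CommRing R'] [Field K'] (ι : R' →+* K') (hι : Function.Injective ι)
    (ψ : A →+* K') (w : K') (hw : w ≠ 0)
    (hint : ∀ (d : ℤ) (a : A), a ∈ 𝒜 d → ∃ r, ι r * w ^ d = ψ a) :
    ∃ g : A →+* R', ∀ (d : ℤ) (a : A), a ∈ 𝒜 d → ι (g a) * w ^ d = ψ a := by
  let F : ∀ i, 𝒜 i →+ K' := fun i =>
    (AddMonoidHom.mulRight ((w ^ i)⁻¹)).comp (ψ.toAddMonoidHom.comp (𝒜 i).subtype)
  have hF : ∀ i (a : 𝒜 i), F i a = ψ a * (w ^ i)⁻¹ := fun i a => rfl
  have hone : F 0 (GradedMonoid.GOne.one (A := fun i => 𝒜 i)) = 1 := by rw [hF]; simp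
  have hmul : ∀ {i j : ℤ} (ai : 𝒜 i) (aj : 𝒜 j),
      F (i + j) (GradedMonoid.GMul.mul (A := fun i => 𝒜 i) ai aj) = F i ai * F j aj := fun {i j} ai aj => by
    rw [hF, hF, hF, SetLike.coe_gMul, map_mul, zpow_add₀ hw, mul_inv]
    ring
  let G : A →+* K' := (DirectSum.toSemiring F hone hmul).comp (DirectSum.decomposeRingEquiv 𝒜).toRingHom
  have hG : ∀ d a, a ∈ 𝒜 d → G a = ψ a * (w ^ d)⁻¹ := by
    intro d a ha
    show DirectSum.toSemiring F hone hmul (DirectSum.decompose 𝒜 a) = _
    rw [show DirectSum.decompose 𝒜 a = DirectSum.of _ d ⟨a, ha⟩ from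
      DirectSum.decompose_of_mem 𝒜 ha, DirectSum.toSemiring_of]
    rfl
  have hrange : ∀ a, G a ∈ ι.range := by
    intro a
    induction a using DirectSum.Decomposition.inductionOn 𝒜 with
    | zero => simp
    | @homogeneous d a =>
      obtain ⟨r, hr⟩ := hint d a a.2
      exact ⟨r, by rw [hG d _ a.2, ← hr, mul_inv_cancel_right₀ (zpow_ne_zero _ hw)]⟩
    | add a b ha hb => rw [map_add]; exact add_mem ha hb
  let E : R' ≃+* ι.range := RingEquiv.ofBijective ι.rangeRestrict
    ⟨fun x y h => hι (congrArg Subtype.val h), ι.rangeRestrict_surjective⟩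
  refine ⟨E.symm.toRingHom.comp (G.codRestrict ι.range hrange), fun d a ha => ?_⟩
  have e : ι (E.symm (G.codRestrict ι.range hrange a)) = G a :=
    congrArg Subtype.val (E.apply_symm_apply _)
  show ι (E.symm (G.codRestrict ι.range hrange a)) * w ^ d = ψ a
  rw [e, hG d a ha, inv_mul_cancel_right₀ (zpow_ne_zero _ hw)]


/-- Let `A = ⊕_{d ∈ ℤ} A_d` be a graded commutative ring whose ideal `I₊` generated by the homogeneous
elements of positive degree is finitely generated, `R` a discrete valuation ring with fraction field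
`K`, and `φ : A → R` a ring map with `φ(I₊) ≠ 0` and `φ(I₊)` inside the maximal ideal. Then after a
finite extension `K'/K` and a discrete valuation ring `R'` of `K'` dominating `R` there are a
nonzero non-unit `ϖ ∈ R'` and a ring map `g : A → R'` with `g(a) ϖ^d = φ(a)` for every homogeneous
`a` of degree `d` (so `g` is `φ` rescaled through the grading by `ϖ`), such that `g(I₊) R' = R'`.
(The published statement is phrased for the quotient stack of `Spec A` by the multiplicative group
and its closed substack cut out by `I₊`, in a setting where `A` is Noetherian, being of finite type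
over a Noetherian base: an `R`-point whose closed point lies in that substack and whose generic
point does not admits, after a finite extension, an elementary modification avoiding the substack;
this row is the graded-ring statement the printed argument proves, assuming only that `I₊` is
finitely generated, which is all that argument uses, and with `ϖ` not required to be a uniformizer.) -/
theorem result
    {A : Type u} [CommRing A] (𝒜 : ℤ → AddSubgroup A) [GradedRing 𝒜]
    (hfg : (Ideal.span {a : A | ∃ d : ℤ, 0 < d ∧ a ∈ 𝒜 d}).FG)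
    (R : Type v) [CommRing R] [IsDomain R] [IsDiscreteValuationRing R]
    (K : Type v) [Field K] [Algebra R K] [IsFractionRing R K]
    (φ : A →+* R)
    (hle : Ideal.map φ (Ideal.span {a : A | ∃ d : ℤ, 0 < d ∧ a ∈ 𝒜 d}) ≤ IsLocalRing.maximalIdeal R)
    (hne : Ideal.map φ (Ideal.span {a : A | ∃ d : ℤ, 0 < d ∧ a ∈ 𝒜 d}) ≠ ⊥) :
    ∃ (R' : Type v) (_ : CommRing R') (_ : IsDomain R') (_ : IsDiscreteValuationRing R')
      (K' : Type v) (_ : Field K') (_ : Algebra R' K') (_ : IsFractionRing R' K')
      (_ : Algebra R R') (_ : Algebra K K') (_ : Algebra R K')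
      (_ : IsScalarTower R R' K') (_ : IsScalarTower R K K')
      (_ : Module.Finite K K') (_ : IsLocalHom (algebraMap R R'))
      (ϖ : R') (g : A →+* R'),
      ϖ ≠ 0 ∧ ϖ ∈ IsLocalRing.maximalIdeal R' ∧
      (∀ (d : ℤ) (a : A), a ∈ 𝒜 d →
        algebraMap R' K' (g a) * algebraMap R' K' ϖ ^ d = algebraMap R K' (φ a)) ∧
      Ideal.map g (Ideal.span {a : A | ∃ d : ℤ, 0 < d ∧ a ∈ 𝒜 d}) = ⊤ := by
  classical
  set S : Set A := {a : A | ∃ d : ℤ, 0 < d ∧ a ∈ 𝒜 d} with hS
  obtain ⟨G₀, hG₀⟩ := hfg
  have hG₀S : ∀ x ∈ G₀, x ∈ Ideal.span S := fun x hx => hG₀ ▸ Ideal.subset_span hx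
  choose Tx hTx hTx' using fun x : G₀ => Submodule.mem_span_finite_of_mem_span (hG₀S x x.2)
  let T : Finset A := Finset.univ.biUnion Tx
  have hTS : ∀ t ∈ T, ∃ n : ℕ, 0 < n ∧ t ∈ 𝒜 n := by
    intro t ht
    obtain ⟨x, -, hx⟩ := Finset.mem_biUnion.mp ht
    obtain ⟨d, hd, htd⟩ := hTx x hx
    exact ⟨d.toNat, by omega, by rwa [Int.toNat_of_nonneg hd.le]⟩
  have hspan : Ideal.span S = Ideal.span (T : Set A) := by
    refine le_antisymm ?_ (Ideal.span_le.mpr fun t ht => ?_)
    · rw [← hG₀]
      refine Ideal.span_le.mpr fun x hx => ?_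
      exact Ideal.span_mono (by exact_mod_cast Finset.subset_biUnion_of_mem Tx (Finset.mem_univ ⟨x, hx⟩))
        (hTx' ⟨x, hx⟩)
    · obtain ⟨n, hn, htn⟩ := hTS t ht
      exact Ideal.subset_span ⟨n, by exact_mod_cast hn, htn⟩
  rw [hspan] at hle hne ⊢
  choose! δ hδ hδmem using hTS
  obtain ⟨π₀, hπ₀⟩ := IsDiscreteValuationRing.exists_irreducible R
  let T' := T.filter fun t => φ t ≠ 0
  have hT' : T'.Nonempty := by
    by_contra h
    apply hne
    rw [Ideal.map_span, Ideal.span_eq_bot]
    rintro _ ⟨t, ht, rfl⟩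
    by_contra h0
    exact h ⟨t, Finset.mem_filter.mpr ⟨ht, h0⟩⟩
  have hdec : ∀ t ∈ T', ∃ o : ℕ, 0 < o ∧ ∃ u : Rˣ, φ t = u * π₀ ^ o := by
    intro t ht
    obtain ⟨htT, ht0⟩ := Finset.mem_filter.mp ht
    obtain ⟨o, u, hou⟩ := IsDiscreteValuationRing.eq_unit_mul_pow_irreducible ht0 hπ₀
    refine ⟨o, Nat.pos_of_ne_zero ?_, u, hou⟩
    rintro rfl
    rw [pow_zero, mul_one] at hou
    exact (IsLocalRing.mem_maximalIdeal _).mp
      (hle (Ideal.mem_map_of_mem φ (Ideal.subset_span htT))) (hou ▸ u.isUnit)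
  choose! o ho u hu using hdec
  let D := 2 * ∏ t ∈ T, δ t
  have hDdvd : ∀ t ∈ T, δ t ∣ D := fun t ht => Dvd.dvd.mul_left (Finset.dvd_prod_of_mem δ ht) 2
  have hDpos : 0 < ∏ t ∈ T, δ t := Finset.prod_pos hδ
  obtain ⟨t₀, ht₀, hmin⟩ := Finset.exists_min_image T' (fun t => o t * (D / δ t)) hT'
  let m := o t₀ * (D / δ t₀)
  have hT'T : ∀ t ∈ T', t ∈ T := fun t ht => (Finset.mem_filter.mp ht).1
  have hm : 0 < m := Nat.mul_pos (ho t₀ ht₀)
    (Nat.div_pos (Nat.le_of_dvd (by omega) (hDdvd t₀ (hT'T t₀ ht₀))) (hδ t₀ (hT'T t₀ ht₀)))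
  have hmle : ∀ t ∈ T', m * δ t ≤ o t * D := fun t ht => by
    calc m * δ t ≤ o t * (D / δ t) * δ t := Nat.mul_le_mul_right _ (hmin t ht)
      _ = o t * D := by rw [mul_assoc, Nat.div_mul_cancel (hDdvd t (hT'T t ht))]
  have hmeq : m * δ t₀ = o t₀ * D := by
    rw [show m = o t₀ * (D / δ t₀) from rfl, mul_assoc, Nat.div_mul_cancel (hDdvd t₀ (hT'T t₀ ht₀))]
  obtain ⟨R', cR', dR', vR', K', fK', aR'K', frK', aRR', aKK', aRK', tow₁, tow₂, fin, loc, x, hx, hxD⟩ :=
    exists_root_extension R K hπ₀ (show 2 ≤ D by omega)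
  let ψ : A →+* K' := (algebraMap R K').comp φ
  have hw : algebraMap R' K' (x ^ m) ≠ 0 :=
    (map_ne_zero_iff _ (IsFractionRing.injective R' K')).mpr (pow_ne_zero _ hx.ne_zero)
  set w := algebraMap R' K' (x ^ m) with hwdef
  have hψt : ∀ t ∈ T', ψ t = algebraMap R' K' (algebraMap R R' (u t) * x ^ (o t * D - m * δ t)) *
      w ^ (δ t : ℤ) := by
    intro t ht
    rw [zpow_natCast, hwdef, ← map_pow, ← map_mul, mul_assoc, ← pow_mul, ← pow_add,
      Nat.sub_add_cancel (hmle t ht), mul_comm (o t) D, pow_mul, hxD, ← map_pow, ← map_mul,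
      ← IsScalarTower.algebraMap_apply]
    exact congrArg (algebraMap R K') (hu t ht)
  have hint : ∀ (n : ℕ) (d : ℤ) (a : A), a ∈ 𝒜 d → d ≤ n → ∃ r, algebraMap R' K' r * w ^ d = ψ a := by
    intro n
    induction n using Nat.strong_induction_on with
    | _ n ih =>
      intro d a ha hdn
      by_cases hd : d ≤ 0
      · refine ⟨algebraMap R R' (φ a) * (x ^ m) ^ (-d).toNat, ?_⟩
        rw [map_mul, map_pow, ← IsScalarTower.algebraMap_apply, mul_assoc, ← zpow_natCast,
          ← zpow_add₀ hw, show ((-d).toNat : ℤ) + d = 0 by omega, zpow_zero, mul_one]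
        rfl
      · have haS : a ∈ Submodule.span A (T : Set A) :=
          show a ∈ Ideal.span (T : Set A) by rw [← hspan]; exact Ideal.subset_span ⟨d, by omega, ha⟩
        obtain ⟨c, -, hc⟩ := Submodule.mem_span_finset.mp haS
        let b : A → A := fun t => (DirectSum.decompose 𝒜 (c t) (d - δ t) : A)
        have hab : a = ∑ t ∈ T, b t * t := by
          conv_lhs => rw [← DirectSum.decompose_of_mem_same 𝒜 ha, ← hc, DirectSum.decompose_sum]
          rw [DFinsupp.finsetSum_apply, AddSubmonoidClass.coe_finsetSum]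
          refine Finset.sum_congr rfl fun t ht => ?_
          rw [smul_eq_mul]
          conv_lhs => rw [show d = (d - δ t) + δ t by ring]
          rw [DirectSum.coe_decompose_mul_add_of_right_mem 𝒜 (hδmem t ht)]
        have hterm : ∀ t ∈ T, ∃ r, algebraMap R' K' r * w ^ d = ψ (b t * t) := by
          intro t ht
          by_cases hφ : φ t = 0
          · exact ⟨0, by simp [ψ, hφ]⟩
          have htT' : t ∈ T' := Finset.mem_filter.mpr ⟨ht, hφ⟩
          have hδt := hδ t ht
          obtain ⟨r, hr⟩ := ih (d - δ t).toNat (by omega) (d - δ t) (b t)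
            (SetLike.coe_mem _) (by omega)
          refine ⟨r * (algebraMap R R' (u t) * x ^ (o t * D - m * δ t)), ?_⟩
          rw [map_mul ψ, hψt t htT', ← hr, map_mul (algebraMap R' K') r,
            show d = (d - δ t) + (δ t : ℤ) by ring, zpow_add₀ hw]
          simp only [add_sub_cancel_right]
          ring
        choose! r hr using hterm
        refine ⟨∑ t ∈ T, r t, ?_⟩
        rw [map_sum, Finset.sum_mul, hab, map_sum]
        exact Finset.sum_congr rfl hr
  obtain ⟨g, hg⟩ := exists_rescale 𝒜 (algebraMap R' K') (IsFractionRing.injective R' K') ψ w hw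
    (fun d a ha => hint d.toNat d a ha (by omega))
  refine ⟨R', cR', dR', vR', K', fK', aR'K', frK', aRR', aKK', aRK', tow₁, tow₂, fin, loc, x ^ m, g,
    pow_ne_zero _ hx.ne_zero, ?_, fun d a ha => hg d a ha, ?_⟩
  · exact (IsLocalRing.mem_maximalIdeal _).mpr fun h => hx.not_isUnit (isUnit_pow_iff hm.ne' |>.mp h)
  · refine Ideal.eq_top_of_isUnit_mem _ (Ideal.mem_map_of_mem g (Ideal.subset_span (hT'T t₀ ht₀))) ?_
    have := (hg (δ t₀) t₀ (hδmem t₀ (hT'T t₀ ht₀))).trans (hψt t₀ ht₀)
    rw [hmeq, Nat.sub_self, pow_zero, mul_one] at this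
    rw [IsFractionRing.injective R' K' (mul_right_cancel₀ (zpow_ne_zero _ hw) this)]
    exact (u t₀).isUnit.map _

end Groth.Agent.S14123
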