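import Groth.Statements.S14128
import Groth.Agent.FrobLCI.MinimalComplex
import Groth.Agent.FrobLCI.HomologyFL

set_option autoImplicit false
universe u
open CategoryTheory CategoryTheory.Limits
open LocAlg

namespace Groth.Agent.S14128

open Groth.FrobLCI Groth.Ega4Algebra1


/-- Let R be a regular local ring of Krull dimension g and M = (M^0 → M^1 → ⋯ → M^g) a perfect complex
over R, here a cochain complex of finitely generated free R-modules indexed by ℕ with M^i = 0 for i
> g, such that every cohomology module H^i(M) has finite length. Then H^i(M) = 0 for all i < g, so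
that M has cohomology at most in degree g. -/
theorem result (R : Type u) [CommRing R]
    [IsRegularLocalRing R] (g : ℕ) (hg : ringKrullDim R = g) (M : CochainComplex (ModuleCat.{u} R) ℕ)
    (hbd : ∀ i, g < i → IsZero (M.X i)) (hfree : ∀ i, Module.Free R (M.X i) ∧ Module.Finite R (M.X i))
    (hfl : ∀ i, IsFiniteLength R (M.homology i)) (i : ℕ) (hi : i < g) :
    IsZero (M.homology i) := by
  classical
  have : ∀ j, Module.Free R (M.X j) := fun j => (hfree j).1
  have : ∀ j, Module.Finite R (M.X j) := fun j => (hfree j).2
  by_contra hne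
  have hex : ∃ l, ¬ IsZero (M.homology l) := ⟨i, hne⟩
  let m := Nat.find hex
  have hm : ¬ IsZero (M.homology m) := Nat.find_spec hex
  have hmg : m < g := (Nat.find_min' hex hne).trans_lt hi
  have claim : ∀ l ≤ m, PdLT R (M.X l ⧸ LinearMap.range (M.d ((ComplexShape.up ℕ).prev l) l).hom) (l + 1) := by
    intro l
    induction l with
    | zero =>
      intro _
      have h0 : LinearMap.range (M.d ((ComplexShape.up ℕ).prev 0) 0).hom = ⊥ := by
        rw [M.shape _ _ (by simp)]
        exact LinearMap.range_zero
      exact (PdLT.one_iff.2 (inferInstance : Module.Projective R (M.X 0))).of_equiv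
        (Submodule.quotEquivOfEqBot _ h0).symm
    | succ l ih =>
      intro hl
      have hexl : LinearMap.ker (M.d l (l + 1)).hom = LinearMap.range (M.d ((ComplexShape.up ℕ).prev l) l).hom :=
        ker_eq_range_of_isZero M rfl (CochainComplex.next ℕ l) (not_not.1 (Nat.find_min hex (by omega)))
      rw [CochainComplex.prev_nat_succ]
      exact (pdLT_coker_step _ _ hexl l).2 (ih (by omega))
  have hne' := cycles_image_ne_bot M (j := (ComplexShape.up ℕ).prev m) rfl rfl hm
  have : Nontrivial (M.X m ⧸ LinearMap.range (M.d ((ComplexShape.up ℕ).prev m) m).hom) := by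
    obtain ⟨z, -, hz⟩ := Submodule.exists_mem_ne_zero_of_ne_bot hne'
    exact ⟨z, 0, hz⟩
  have h0 := depth_eq_zero_of_finiteLength_le _ (isFiniteLength_cycles_image M rfl rfl (hfl m)) hne'
  obtain ⟨e, he, heq, -, -⟩ := exists_depth_eq_add m (claim m le_rfl)
  rw [h0, add_zero, depth_eq_of_isRegularLocalRing R hg, Nat.cast_inj] at heq
  omega

end Groth.Agent.S14128
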