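import Groth.Statements.S14139
import Groth.Agent.VBCurves.MaxSlope

set_option autoImplicit false
universe u
open CategoryTheory CategoryTheory.Limits AlgebraicGeometry
open VBCurve

open Groth.VBCurves

namespace Groth.Agent.S14139

/-- Let C be a smooth proper geometrically connected curve over a field k (proper, smooth and
geometrically connected over k, of dimension one), and 0 → E₁ → E → E₂ → 0 a short exact sequence of
finite locally free O_C-modules of ranks r₁, r, r₂ ≥ 1 whose slopes are all equal: deg E₁ · r = deg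
E · r₁ and deg E₂ · r = deg E · r₂, the degree of a rank-n locally free module being χ − n·χ(O_C).
Then E is semistable (deg G · r ≤ deg E · r' for every finite locally free submodule G of E of rank
r' ≥ 1) if and only if both E₁ and E₂ are semistable in the same sense. -/
theorem result (k : Type u) [Field k] (X : Scheme.{u}) [X.Over (Spec (CommRingCat.of k))]
    [IsProper (X ↘ Spec (CommRingCat.of k))] [Smooth (X ↘ Spec (CommRingCat.of k))]
    [GeometricallyConnected (X ↘ Spec (CommRingCat.of k))] (hdim : topologicalKrullDim ↥X = 1)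
    (T : ShortComplex X.Modules) (hT : T.ShortExact)
    (r₁ r r₂ : ℕ) (hr₁ : 0 < r₁) (hr : 0 < r) (hr₂ : 0 < r₂)
    (hE₁ : FlatMod.IsFinLocFreeOfRank r₁ T.X₁) (hE : FlatMod.IsFinLocFreeOfRank r T.X₂) (hE₂ : FlatMod.IsFinLocFreeOfRank r₂ T.X₃)
    (hμ₁ : Curv2.deg k X T.X₁ r₁ * (r : ℤ) = Curv2.deg k X T.X₂ r * (r₁ : ℤ))
    (hμ₂ : Curv2.deg k X T.X₃ r₂ * (r : ℤ) = Curv2.deg k X T.X₂ r * (r₂ : ℤ)) :
    (∀ (G : X.Modules) (r' : ℕ) (i : G ⟶ T.X₂), Mono i → 0 < r' → FlatMod.IsFinLocFreeOfRank r' G →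
      Curv2.deg k X G r' * (r : ℤ) ≤ Curv2.deg k X T.X₂ r * (r' : ℤ)) ↔
      ((∀ (G : X.Modules) (r' : ℕ) (i : G ⟶ T.X₁), Mono i → 0 < r' → FlatMod.IsFinLocFreeOfRank r' G →
      Curv2.deg k X G r' * (r₁ : ℤ) ≤ Curv2.deg k X T.X₁ r₁ * (r' : ℤ)) ∧
       (∀ (G : X.Modules) (r' : ℕ) (i : G ⟶ T.X₃), Mono i → 0 < r' → FlatMod.IsFinLocFreeOfRank r' G →
      Curv2.deg k X G r' * (r₂ : ℤ) ≤ Curv2.deg k X T.X₃ r₂ * (r' : ℤ))) := by
  have hc := IsVBCurve.of_connected k hdim
  have := hc.integral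
  have f₁ := Groth.LocFree.isFinLocFree_of_rank hE₁
  have f₂ := Groth.LocFree.isFinLocFree_of_rank hE₂
  have hEd := dg_eq k hE
  have e₁ := dg_eq k hE₁
  have e₂ := dg_eq k hE₂
  have hr0 : (0 : ℤ) < r := by exact_mod_cast hr
  have h1' : (0 : ℤ) < r₁ := by exact_mod_cast hr₁
  have h2' : (0 : ℤ) < r₂ := by exact_mod_cast hr₂
  have := hT.mono_f
  constructor
  · intro hss
    refine ⟨fun G r' i hi hr' hG => ?_, fun G r' i hi hr' hG => ?_⟩
    · have h := hss G r' (i ≫ T.f) inferInstance hr' hG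
      refine le_of_mul_le_mul_right ?_ hr0
      nlinarith [mul_le_mul_of_nonneg_right h h1'.le]
    · have := hT.epi_g
      obtain ⟨G', a, b, c, w, hS, hcm⟩ := exists_preimage T.f
        (i ≫ (IsColimit.coconePointUniqueUpToIso (cokernelIsCokernel T.f) hT.gIsCokernel).inv)
      have fG := Groth.LocFree.isFinLocFree_of_rank hG
      have hG' : FlatMod.IsFinLocFree G' :=
        Groth.KTheory.LocFree.isFinLocFree_of_shortExact hS f₁ fG
      have hr'' := rk_add hS f₁ fG
      have hd := dg_add k hS f₁ fG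
      dsimp only at hr'' hd
      rw [rk_eq hE₁, rk_eq hG] at hr''
      rw [← e₁, ← dg_eq k hG] at hd
      have h := hss G' (rk G') c hcm (by omega) (isFinLocFreeOfRank_rk hG')
      change dg k G' * (r : ℤ) ≤ _ at h
      rw [hd, hr''] at h
      push_cast at h
      refine le_of_mul_le_mul_right ?_ hr0
      nlinarith [mul_le_mul_of_nonneg_right h h2'.le]
  · rintro ⟨s₁, s₂⟩
    have b₁ : Bnd k T.X₁ (Curv2.deg k X T.X₂ r) r := fun G i hi hG hG0 => by
      have h := s₁ G (rk G) i hi hG0 (isFinLocFreeOfRank_rk hG)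
      refine le_of_mul_le_mul_right ?_ h1'
      change dg k G * (r₁ : ℤ) ≤ _ at h
      nlinarith [mul_le_mul_of_nonneg_right h hr0.le]
    have b₃ : Bnd k T.X₃ (Curv2.deg k X T.X₂ r) r := fun G i hi hG hG0 => by
      have h := s₂ G (rk G) i hi hG0 (isFinLocFreeOfRank_rk hG)
      refine le_of_mul_le_mul_right ?_ h2'
      change dg k G * (r₂ : ℤ) ≤ _ at h
      nlinarith [mul_le_mul_of_nonneg_right h hr0.le]
    intro G r' i hi hr' hG
    have h := Bnd.ext hc T.f T.g T.zero hT f₁ f₂ b₁ b₃ G i hi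
      (Groth.LocFree.isFinLocFree_of_rank hG) (by rwa [rk_eq hG])
    rwa [rk_eq hG, ← dg_eq k hG] at h

end Groth.Agent.S14139
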