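import Groth.Statements.S1414

set_option autoImplicit false
universe u
open FlatMor

namespace Groth.Agent.S1414

open AlgebraicGeometry CategoryTheory Limits in
/-- Let f : X → Y and g : Y → Z with f ≫ g smooth and g étale. Then f is smooth. -/
theorem result {X Y Z : Scheme.{u}} (f : X ⟶ Y) (g : Y ⟶ Z) [Smooth (f ≫ g)] [Etale g] : Smooth f := by
  have : IsOpenImmersion (pullback.diagonal g) := inferInstance
  let l : X ⟶ pullback (f ≫ g) g := pullback.lift (𝟙 X) f (by simp)
  have hl : IsOpenImmersion l := by
    have : IsPullback f l (pullback.diagonal g) (pullback.map (f ≫ g) g g g f (𝟙 Y) (𝟙 Z) (by simp) (by simp)) :=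
      pullback_lift_diagonal_isPullback f g
    exact MorphismProperty.of_isPullback this inferInstance
  have e : f = l ≫ pullback.snd (f ≫ g) g := (pullback.lift_snd _ _ _).symm
  rw [e]; infer_instance

end Groth.Agent.S1414
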