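import Groth.Statements.S14140
import Groth.Agent.AbvarAmple.PhiSurjCor
import Groth.Agent.AbVarMul.Consequences
import Groth.Agent.Chow.VeryAmplePn

set_option autoImplicit false
universe u
open CategoryTheory CategoryTheory.Limits MonoidalCategory CartesianMonoidalCategory MonObj GrpObj AlgebraicGeometry
open AbVar

namespace Groth.Agent.S14140

/-- Let k be an algebraically closed field, A an abelian variety over k (a proper smooth k-group scheme
with geometrically connected fibres), L an ample invertible O_A-module with an inverse L' (L ⊗ L' ≅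
O_A), and M an invertible O_A-module in Pic⁰(A), meaning that t_x^*M ≅ M for every k-rational point
x of A, where t_x : A → A is the translation by x (the product of the identity and the constant map
x in the group Hom(A, A)). Then there is a k-rational point x of A with M ≅ t_x^*L ⊗ L'. -/
theorem result (k : Type u) [Field k] [IsAlgClosed k]
    (A : Over (Spec (CommRingCat.of k))) [GrpObj A] [IsProper A.hom] [Smooth A.hom] [GeometricallyConnected A.hom]
    (L L' : A.left.Modules) (hLa : CohB1.IsAmple L) (hLL' : Nonempty (CohB1.tensorMod L L' ≅ Coh.structureModule A.left))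
    (M : A.left.Modules) (hM : PicF.IsInvertible M)
    (hM0 : ∀ x : 𝟙_ (Over (Spec (CommRingCat.of k))) ⟶ A, Nonempty ((Scheme.Modules.pullback (𝟙 A * (toUnit A ≫ x)).left).obj M ≅ M)) :
    ∃ x : 𝟙_ (Over (Spec (CommRingCat.of k))) ⟶ A,
      Nonempty (M ≅ CohB1.tensorMod ((Scheme.Modules.pullback (𝟙 A * (toUnit A ≫ x)).left).obj L) L') := by
  open Groth.Abvar Groth.Abvar.PicCalc Groth.AbvarAmple in (
    have := Groth.AbVarMul.geometricallyIntegral_of_smooth (A := A)
    have hL' : PicF.IsInvertible L' := isInvertible_of_tensorMod hLa.1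
      (isInvertible_of_iso (PicLoc.isInvertible_structureModule _) hLL'.some.symm)
    have hinv : cls hLa.1 * cls hL' = 1 := by
      rw [← cls_tensorMod hLa.1 hL', ← nonempty_iso_structure_iff]
      exact hLL'
    obtain ⟨x, hx⟩ := exists_translate_iso hLa.1 (setOf_translate_iso_eq hLa.1 ▸ finite_fixed hLa) hM hM0
    refine ⟨x, ?_⟩
    have ht := PicLoc.isInvertible_pullback (𝟙 A * (toUnit A ≫ x)).left hLa.1
    rw [nonempty_iso_iff hM (isInvertible_tensorMod ht hL'), cls_tensorMod ht hL', ← pull_cls _ hLa.1]
    show _ = opull _ _ * _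
    rw [hx, _root_.mul_comm (cls hLa.1), _root_.mul_assoc, hinv, _root_.mul_one])

end Groth.Agent.S14140
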