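import Groth.Statements.S14141
import Groth.Agent.GrpschAbsch.RigidityGlobal


set_option autoImplicit false
universe u
open CategoryTheory CategoryTheory.Limits AlgebraicGeometry
open AbSch

namespace Groth.Agent.S14141

/-- Let S be a connected Noetherian scheme, f : X → S a proper flat morphism such that for every point s
of S the natural map κ(s) → H^0(X_s, O_{X_s}) on global sections of the fibre is bijective, g : Y →
S a separated morphism and π : X → Y a morphism over S. If for some point s of S the restriction of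
π to the fibre X_s is constant, i.e. factors through the projection X_s → Spec κ(s), then π is
constant over all of S: it factors as f followed by a section S → Y of g. (The published statement
is for arbitrary Noetherian S with the conclusion over the connected component of s; this row
assumes S connected, the reduction made in the first line of the printed proof.) -/
theorem result {X Y S : Scheme.{u}} [IsNoetherian S] [ConnectedSpace ↥S]
    (f : X ⟶ S) [IsProper f] [Flat f]
    (hfib : ∀ s : ↥S, Function.Bijective (algebraMap (S.residueField s) Γ(f.fiber s, ⊤)))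
    (g : Y ⟶ S) [IsSeparated g] (π : X ⟶ Y) (hπ : π ≫ g = f) (s : ↥S)
    (hs : ∃ y : Spec (S.residueField s) ⟶ Y, f.fiberι s ≫ π = f.fiberToSpecResidueField s ≫ y) :
    ∃ σ : S ⟶ Y, σ ≫ g = 𝟙 S ∧ π = f ≫ σ := by
  have hc : ∀ s, Groth.GrpschAbsch.Rigid.ConstFibre f s := fun s c ↦ by
    obtain ⟨a, ha⟩ := (hfib s).2 c
    exact ⟨a, ha⟩
  have hs' : s ∈ Groth.GrpschAbsch.Rigid.collapseSet f π := by
    obtain ⟨y, hy⟩ := hs
    refine ((Set.subsingleton_singleton (a := y (IsLocalRing.closedPoint (S.residueField s))))).anti ?_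
    rintro _ ⟨x, hx, rfl⟩
    obtain ⟨z, rfl⟩ : x ∈ Set.range (f.fiberι s) := (f.range_fiberι s).ge hx
    have h1 := congrArg (fun φ : f.fiber s ⟶ Y ↦ φ z) hy
    simp only [Scheme.Hom.comp_apply] at h1
    rw [h1, Set.mem_singleton_iff]
    exact congrArg y (@Subsingleton.elim _ (inferInstanceAs (Subsingleton ↥(Spec (S.residueField s)))) _ _)
  have hU : Groth.GrpschAbsch.Rigid.collapseSet f π = Set.univ := IsClopen.eq_univ
    ⟨Groth.GrpschAbsch.Rigid.isClosed_collapseSet f π g hπ hc,
      Groth.GrpschAbsch.Rigid.isOpen_collapseSet f π hc⟩ ⟨s, hs'⟩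
  have : Surjective f := ⟨fun t ↦ by
    have : Nonempty ↥(f.fiber t) := by
      by_contra hne
      rw [not_nonempty_iff] at hne
      have := (hfib t).1 (@Subsingleton.elim _ (inferInstanceAs (Subsingleton Γ(f.fiber t, ⊤))) (algebraMap _ _ 1) (algebraMap _ _ 0))
      exact one_ne_zero this
    obtain ⟨z⟩ := this
    exact ⟨f.fiberι t z, (f.range_fiberι t).le ⟨z, rfl⟩⟩⟩
  obtain ⟨σ, hσ⟩ := Groth.GrpschAbsch.Rigid.exists_desc_of_collapse f π (fun t ↦ hU ▸ trivial) hc
  refine ⟨σ, ?_, hσ.symm⟩
  rw [← cancel_epi f, reassoc_of% hσ, hπ, Category.comp_id]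

end Groth.Agent.S14141
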