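import Groth.Statements.S14142
import Groth.Agent.AbVarMul.TorsionCard
import Groth.Agent.AbVarMul.Consequences

set_option autoImplicit false
universe u
open CategoryTheory CategoryTheory.Limits MonoidalCategory CartesianMonoidalCategory MonObj GrpObj AlgebraicGeometry
open AbVar

namespace Groth.Agent.S14142

/-- Let k be an algebraically closed field of characteristic p > 0 and A an abelian variety over k (a
proper smooth k-group scheme with geometrically connected fibres) of dimension g. Then there is an
integer i with 0 ≤ i ≤ g, the p-rank of A, such that for every m ≥ 0 the group A[p^m](k) of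
k-rational points of A killed by p^m is isomorphic to (ℤ/p^m)^i (existence of a group isomorphism;
the group of k-points is written multiplicatively). (The published statement of this part assumes
only that k has characteristic p and does not assume k algebraically closed; it is false without
that assumption — for an elliptic curve over the prime field with exactly p rational points the
rational p-torsion is cyclic of order p while the rational p²-torsion has only p elements — and this
row assumes k algebraically closed, which the printed proof's divisibility argument requires.) -/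
theorem result (k : Type u) [Field k] [IsAlgClosed k] (p : ℕ) [Fact p.Prime] [CharP k p]
    (A : Over (Spec (CommRingCat.of k))) [GrpObj A] [IsProper A.hom] [Smooth A.hom] [GeometricallyConnected A.hom] [IsCommMonObj A]
    (g : ℕ) (hg : topologicalKrullDim ↥A.left = g) :
    ∃ i : ℕ, i ≤ g ∧ ∀ m : ℕ,
      Nonempty (AbDual.torsPts A (p ^ m) (𝟙_ (Over (Spec (CommRingCat.of k)))) ≃* Multiplicative (Fin i → ZMod (p ^ m))) := by
  have hG := Groth.AbVarMul.geometricallyIntegral_of_smooth (A := A)
  have hpk : (p : k) = 0 := CharP.cast_eq_zero k p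
  obtain ⟨i, hi, hcard⟩ := Groth.AbVarMul.natCard_torsPts_char (A := A) hg (Fact.out : p.Prime) hpk
  refine ⟨i, hi, fun m => ?_⟩
  have hp := (Fact.out : p.Prime)
  have hpm : ∀ m : ℕ, Nat.card (AbDual.torsPts A (p ^ m) (𝟙_ (Over (Spec (CommRingCat.of k))))) = (p ^ m) ^ i := by
    intro m
    induction m with
    | zero =>
      rw [pow_zero, one_pow]
      refine Nat.card_eq_one_iff_unique.2 ⟨⟨fun a b => Subtype.ext ?_⟩, ⟨⟨1, one_pow _⟩⟩⟩
      have ha : a.1 ^ 1 = 1 := a.2
      have hb : b.1 ^ 1 = 1 := b.2
      rw [pow_one] at ha hb
      rw [ha, hb]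
    | succ m ih =>
      rw [pow_succ, Groth.AbVarMul.natCard_torsPts_mul (p ^ m) p
        (fun y => Groth.AbVarMul.exists_pow_eq (A := A) (pow_ne_zero m hp.ne_zero) y), ih, hcard, mul_pow]
  obtain ⟨e⟩ : Nonempty (Additive (AbDual.torsPts A (p ^ m) (𝟙_ (Over (Spec (CommRingCat.of k))))) ≃+
      (Fin i → ZMod (p ^ m))) := by
    refine Groth.AbVarMul.nonempty_addEquiv_fun_zmod (pow_pos hp.pos m)
      (fun x => congrArg Additive.ofMul (Subtype.ext x.toMul.2))
      ((Nat.card_congr Additive.toMul).trans (hpm m)) (fun q hq hqm => ?_)
    obtain rfl : q = p := (Nat.prime_dvd_prime_iff_eq hq hp).1 (hq.dvd_of_dvd_pow hqm)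
    rw [← hcard]
    refine Nat.card_congr
      { toFun := fun x => ⟨x.1.toMul.1, congrArg (fun y : Additive (AbDual.torsPts A (q ^ m) (𝟙_ (Over (Spec (CommRingCat.of k))))) => (Additive.toMul y).1) x.2⟩
        invFun := fun a => ⟨Additive.ofMul ⟨a.1, by
            obtain ⟨c, hc⟩ := hqm
            show a.1 ^ (q ^ m) = 1
            rw [hc, pow_mul, show a.1 ^ q = 1 from a.2, one_pow]⟩, congrArg Additive.ofMul (Subtype.ext a.2)⟩
        left_inv := fun x => rfl
        right_inv := fun a => rfl }
  exact ⟨AddEquiv.toMultiplicativeRight e⟩

end Groth.Agent.S14142
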