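import Groth.Statements.S14151
import Groth.Agent.VBCurves.Quot

set_option autoImplicit false
universe u
open CategoryTheory CategoryTheory.Limits AlgebraicGeometry
open VBCurve

open Groth.VBCurves

namespace Groth.Agent.S14151

/-- Let C be a smooth proper geometrically connected curve over a field k (proper, smooth and
geometrically connected over k, of dimension one) and E a finite locally free O_C-module of rank r ≥
1; degrees of rank-n locally free modules are χ − n·χ(O_C) and slopes are compared by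
cross-multiplication. Then: E is semistable in the sense of quotients (μ(E) ≤ μ(F) for every locally
free quotient E ↠ F of rank s ≥ 1) if and only if μ(G) ≤ μ(E) for every finite locally free
submodule G of E of rank r' ≥ 1; and E is stable in the sense of quotients (μ(E) < μ(F) for every
such quotient map which is not an isomorphism) if and only if μ(G) < μ(E) for every such submodule
whose inclusion is not an isomorphism. (The printed lemma says every nonzero subsheaf; for the
strict inequalities the subsheaf and the quotient must be proper, as its proof uses.) -/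
theorem result (k : Type u) [Field k] (X : Scheme.{u}) [X.Over (Spec (CommRingCat.of k))]
    [IsProper (X ↘ Spec (CommRingCat.of k))] [Smooth (X ↘ Spec (CommRingCat.of k))]
    [GeometricallyConnected (X ↘ Spec (CommRingCat.of k))] (hdim : topologicalKrullDim ↥X = 1)
    (r : ℕ) (hr : 0 < r) (E : X.Modules) (hE : FlatMod.IsFinLocFreeOfRank r E) :
    ((∀ (F : X.Modules) (s : ℕ) (p : E ⟶ F), Epi p → 0 < s → FlatMod.IsFinLocFreeOfRank s F →
      Curv2.deg k X E r * (s : ℤ) ≤ Curv2.deg k X F s * (r : ℤ)) ↔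
      (∀ (G : X.Modules) (r' : ℕ) (i : G ⟶ E), Mono i → 0 < r' → FlatMod.IsFinLocFreeOfRank r' G →
      Curv2.deg k X G r' * (r : ℤ) ≤ Curv2.deg k X E r * (r' : ℤ))) ∧
    ((∀ (F : X.Modules) (s : ℕ) (p : E ⟶ F), Epi p → 0 < s → FlatMod.IsFinLocFreeOfRank s F → (¬ IsIso p) →
      Curv2.deg k X E r * (s : ℤ) < Curv2.deg k X F s * (r : ℤ)) ↔
      (∀ (G : X.Modules) (r' : ℕ) (i : G ⟶ E), Mono i → 0 < r' → FlatMod.IsFinLocFreeOfRank r' G → (¬ IsIso i) →
      Curv2.deg k X G r' * (r : ℤ) < Curv2.deg k X E r * (r' : ℤ))) := by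
  have hc := IsVBCurve.of_connected k hdim
  have := hc.integral
  have hE' := Groth.LocFree.isFinLocFree_of_rank hE
  have hd₀ := dg_eq k hE
  have hr₀ := rk_eq hE
  rw [hd₀]
  have hrz : (0 : ℤ) < r := by exact_mod_cast hr
  -- saturations of subbundles
  have sat : ∀ (G : X.Modules) (r' : ℕ) (i : G ⟶ E), Mono i →
      FlatMod.IsFinLocFreeOfRank r' G → ∃ (G' F : X.Modules) (p : E ⟶ F), Epi p ∧
        FlatMod.IsFinLocFree F ∧ r = r' + rk F ∧ Curv2.deg k X G r' ≤ dg k G' ∧
        dg k E = dg k G' + dg k F ∧ (r' = r → ¬ IsIso i → Curv2.deg k X G r' < dg k E) ∧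
        (r' = r → Curv2.deg k X G r' ≤ dg k E) ∧ (IsIso p → rk F = r) := by
    intro G r' i hi hG
    have hG' := Groth.LocFree.isFinLocFree_of_rank hG
    obtain ⟨G', F, s, i', q, w, hS, -, hsm, hGf, hF, hrk⟩ := exists_saturation hc hE' hG' i
    have h1 := rk_add hS hGf hF
    have h2 := dg_add k hS hGf hF
    dsimp only at h1 h2
    rw [hr₀, hrk, rk_eq hG] at h1
    have h3 := (dg_le_of_mono k hc.dim.le hG' hGf s hrk.symm).1
    rw [← dg_eq k hG] at h3
    refine ⟨G', F, q, hS.epi_g, hF, h1, h3, h2, fun he hni => ?_, fun he => ?_, fun hq => ?_⟩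
    · have h4 := dg_le_of_mono k hc.dim.le hG' hE' i (by rw [rk_eq hG, hr₀, he])
      rw [← dg_eq k hG] at h4
      exact lt_of_le_of_ne h4.1 fun h => hni (h4.2.1 h)
    · have h4 := dg_le_of_mono k hc.dim.le hG' hE' i (by rw [rk_eq hG, hr₀, he])
      rw [← dg_eq k hG] at h4
      exact h4.1
    · rw [← rk_eq_of_iso hE' (@asIso _ _ _ _ q hq), hr₀]
  -- kernels of quotient bundles
  have ker : ∀ (F : X.Modules) (s : ℕ) (p : E ⟶ F), Epi p → FlatMod.IsFinLocFreeOfRank s F →
      ∃ (K : X.Modules) (i : K ⟶ E), Mono i ∧ FlatMod.IsFinLocFree K ∧ r = rk K + s ∧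
        dg k E = dg k K + Curv2.deg k X F s ∧ (rk K = 0 → IsIso p) := by
    intro F s p hp hF
    obtain ⟨K, i, hi, -, hK, h1, h2, h3⟩ :=
      kernel_numerics hc hE' (Groth.LocFree.isFinLocFree_of_rank hF) p
    rw [rk_eq hF, hr₀] at h1
    rw [← dg_eq k hF] at h2
    exact ⟨K, i, hi, hK, h1, h2, fun h0 => by have := h3 h0; exact isIso_of_mono_of_epi p⟩
  refine ⟨⟨fun h G r' i hi hr' hG => ?_, fun h F s p hp hs hF => ?_⟩,
    ⟨fun h G r' i hi hr' hG hni => ?_, fun h F s p hp hs hF hnp => ?_⟩⟩
  · obtain ⟨G', F, p, hp, hF, h1, h3, h2, -, hfull, -⟩ := sat G r' i hi hG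
    rcases Nat.eq_zero_or_pos (rk F) with h0 | h0
    · obtain rfl : r' = r := by omega
      exact mul_le_mul_of_nonneg_right (hfull rfl) hrz.le
    · have h4 := h F (rk F) p hp h0 (isFinLocFreeOfRank_rk hF)
      change _ ≤ dg k F * (r : ℤ) at h4
      have h5 := mul_le_mul_of_nonneg_right h3 hrz.le
      subst h1
      push_cast at *
      rw [h2] at h4 ⊢
      linarith
  · obtain ⟨K, i, hi, hK, h1, h2, h3⟩ := ker F s p hp hF
    rcases Nat.eq_zero_or_pos (rk K) with h0 | h0
    · have hK0 := dg_of_rk_zero k hK h0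
      obtain rfl : s = r := by omega
      rw [h2, hK0, zero_add]
    · have h4 := h K (rk K) i hi h0 (isFinLocFreeOfRank_rk hK)
      change dg k K * (r : ℤ) ≤ _ at h4
      subst h1
      push_cast at *
      rw [h2] at h4 ⊢
      linarith
  · obtain ⟨G', F, p, hp, hF, h1, h3, h2, hfull, -, hiso⟩ := sat G r' i hi hG
    rcases Nat.eq_zero_or_pos (rk F) with h0 | h0
    · obtain rfl : r' = r := by omega
      exact mul_lt_mul_of_pos_right (hfull rfl hni) hrz
    · have h4 := h F (rk F) p hp h0 (isFinLocFreeOfRank_rk hF) (fun hq => by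
        have := hiso hq
        omega)
      change _ < dg k F * (r : ℤ) at h4
      have h5 := mul_le_mul_of_nonneg_right h3 hrz.le
      subst h1
      push_cast at *
      rw [h2] at h4 ⊢
      linarith
  · obtain ⟨K, i, hi, hK, h1, h2, h3⟩ := ker F s p hp hF
    have h0 : 0 < rk K := Nat.pos_of_ne_zero fun h0 => hnp (h3 h0)
    have h4 := h K (rk K) i hi h0 (isFinLocFreeOfRank_rk hK) (fun hq => by
      have := rk_eq_of_iso hK (@asIso _ _ _ _ i hq)
      omega)
    change dg k K * (r : ℤ) < _ at h4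
    subst h1
    push_cast at *
    rw [h2] at h4 ⊢
    linarith

end Groth.Agent.S14151
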