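import Groth.Statements.S14155
import Groth.Agent.VBCurves.GenusOneClass

set_option autoImplicit false
universe u
open CategoryTheory CategoryTheory.Limits AlgebraicGeometry
open VBCurve

open Groth.VBCurves

namespace Groth.Agent.S14155

/-- Let k be an algebraically closed field, X a smooth proper integral curve over k (proper and smooth
over k, integral, of dimension one) of genus one, i.e. dim_k H^1(X, O_X) = 1 (an elliptic curve once
a base point is chosen), and F a finite locally free O_X-module of rank r ≥ 1 which is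
indecomposable (nonzero, and in any decomposition F ≅ F₁ ⊕ F₂ one summand is zero), of degree d =
χ(F) − r·χ(O_X). Then F is stable — deg G · r < d · r' for every finite locally free submodule G of
F of rank r' ≥ 1 whose inclusion is not an isomorphism — if and only if gcd(d, r) = 1. (The
published corollary also identifies stability with simplicity in two senses; those equivalences are
not restated.) -/
theorem result (k : Type u) [Field k] [IsAlgClosed k]
    (X : Scheme.{u}) [X.Over (Spec (CommRingCat.of k))] [IsIntegral X]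
    [IsProper (X ↘ Spec (CommRingCat.of k))] [Smooth (X ↘ Spec (CommRingCat.of k))]
    (hdim : topologicalKrullDim ↥X = 1) (hg : Curv2.genus k X = 1)
    (r : ℕ) (hr : 0 < r) (F : X.Modules) (hF : FlatMod.IsFinLocFreeOfRank r F)
    (hind : ¬ IsZero F ∧ ∀ (F₁ F₂ : X.Modules), Nonempty (F ≅ F₁ ⊞ F₂) → IsZero F₁ ∨ IsZero F₂) :
    (∀ (G : X.Modules) (r' : ℕ) (i : G ⟶ F), Mono i → 0 < r' → FlatMod.IsFinLocFreeOfRank r' G → (¬ IsIso i) →
      Curv2.deg k X G r' * (r : ℤ) < Curv2.deg k X F r * (r' : ℤ)) ↔ Int.gcd (Curv2.deg k X F r) (r : ℤ) = 1 := by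
  have hc := IsVBCurve.of_smooth k hdim
  have hK := Groth.CurveBridge.isFunctionField (k := k) (X := X) hdim
  have hreg := Groth.CurveBridge.isRegCurve_of_smooth k X hdim
  obtain ⟨ω, hω⟩ := exists_isDualizing_of_smooth hdim hK
  have hF' := Groth.LocFree.isFinLocFree_of_rank hF
  have hiff := GenusOne.stable_iff_gcd hreg hK hc hω hg hF' hind
  rw [← dg_eq k hF, rk_eq hF] at hiff
  refine Iff.trans ⟨fun h => st_of_not_isIso hF h, fun hst G r' i hi hr' hG hiso => ?_⟩ hiff
  have hG' := Groth.LocFree.isFinLocFree_of_rank hG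
  rcases (rk_le_of_mono i hF').lt_or_eq with hlt | heq
  · have h1 := hst G i hi hG' (by rwa [rk_eq hG]) hlt
    rwa [rk_eq hG, rk_eq hF, ← dg_eq k hG, ← dg_eq k hF] at h1
  · obtain ⟨h1, h2⟩ := dg_le_of_mono k hc.dim.le hG' hF' i heq
    rw [rk_eq hG, rk_eq hF] at heq
    rw [← dg_eq k hG, ← dg_eq k hF] at h1 h2
    subst heq
    exact mul_lt_mul_of_pos_right (lt_of_le_of_ne h1 fun he => hiso (h2.1 he))
      (by exact_mod_cast hr)

end Groth.Agent.S14155
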