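import Groth.Statements.S14159
import Groth.Agent.Abvar.Dual.LamSymm

set_option autoImplicit false
universe u
open CategoryTheory CategoryTheory.Limits MonoidalCategory CartesianMonoidalCategory MonObj AlgebraicGeometry
open AgPol

namespace Groth.Agent.S14159

/-- Let S be a locally Noetherian scheme, A a projective abelian scheme over S of relative dimension g
with commutative group law, (At, φ) a commutative group scheme with data presenting it as the dual
of A for the fppf topology, ξ a Poincaré class on A ×_S At (normalised along the unit section of A)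
and lam : A ⟶ At a polarisation. If L is a module on A whose isomorphism class is the pull back of ξ
along the graph (1, lam) : A ⟶ A ×_S At, then lam · lam (twice lam, in the group of A-valued points
of At) is the homomorphism attached to L through φ. -/
theorem result (S : Scheme.{u}) [IsLocallyNoetherian S] (A At : Over S) [GrpObj A] [IsCommMonObj A]
    [GrpObj At] [IsCommMonObj At] (g : ℕ) (hA : AgPol.IsAbSch A g) (hproj : RelProj.IsProjective A.hom)
    (φ : AgPol.DualMap A At) (hdual : AbDual.IsDualAV Scheme.fppfPrecoverage A At φ)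
    (ξ : PicF.Cl (PicF.XT A.hom At)) (hξ : AbDual.IsPoincareCl A At φ ξ)
    (lam : A ⟶ At) (hpol : AgPol.IsPolarization A At φ lam) (L : A.left.Modules)
    (hL : PicF.cl L = PicF.pullCl (pullback.lift (𝟙 A.left) (lam).left ((Category.id_comp A.hom).trans (Over.w (lam)).symm)) ξ) :
    AgPol.IsLambda A At φ L (lam * lam) := by
  open Groth.Abvar.PicCalc Groth.Abvar.Dual in
  exact by
    have := hA.smooth
    have := hA.proper
    have := hA.geomConnected
    have := geometricallyIntegral_of_smooth A
    obtain ⟨P, rfl, hP, -⟩ := hξ.1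
    let x : PicLoc.PicSet ((Over.pullback At.hom).obj A).left := cls hP
    have hgr : ∀ mu : A ⟶ At, pull (pullback.lift (𝟙 A.left) mu.left ((Category.id_comp A.hom).trans (Over.w mu).symm)) x =
        LamSymm.pairing x mu (𝟙 A) (𝟙 A) := fun mu => by
      show _ = pull (lift (𝟙 A) (𝟙 A)).left (pull (PicF.XTmap A.hom mu) x)
      rw [← pull_comp]
      refine congrArg (pull · x) ?_
      apply pullback.hom_ext
      · refine (pullback.lift_fst _ _ _).trans (Eq.symm ?_)
        exact (Category.assoc _ _ _).trans ((congrArg (_ ≫ ·) ((pullback.lift_fst _ _ _).trans (Category.comp_id _))).trans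
          (congrArg Over.Hom.left (lift_fst (𝟙 A) (𝟙 A))))
      · refine (pullback.lift_snd _ _ _).trans (Eq.symm ?_)
        exact (Category.assoc _ _ _).trans ((congrArg (_ ≫ ·) (pullback.lift_snd _ _ _)).trans
          ((Category.assoc _ _ _).symm.trans ((congrArg (· ≫ mu.left)
            (congrArg Over.Hom.left (lift_snd (𝟙 A) (𝟙 A)))).trans (Category.id_comp _))))
    have hsymm : ∀ mu : A ⟶ At, AgPol.IsPolarization A At φ mu →
        opull (LamSymm.swp A) (LamSymm.graph x mu) = LamSymm.graph x mu := fun mu h => by
      have := h.1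
      exact LamSymm.swp_graph hdual hξ mu fun Ω _ _ t => by
        obtain ⟨L', hL', hl⟩ := h.2 Ω t
        exact ⟨L', hL'.1, hl⟩
    have := hpol.1
    obtain ⟨M, hM, e⟩ := PicGrp.exists_eq_cls (LamSymm.pairing x lam (𝟙 A) (𝟙 A))
    have hcl : PicF.cl L = PicF.cl M := hL.trans (congrArg Subtype.val ((hgr lam).trans e))
    have hLi : PicF.IsInvertible L := by
      obtain ⟨i⟩ := (PicGrp.cl_eq_cl_iff M L).1 hcl.symm
      exact isInvertible_of_iso hM i
    have hcls : cls hLi = LamSymm.pairing x lam (𝟙 A) (𝟙 A) := Subtype.ext (hcl.trans (congrArg Subtype.val e.symm))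
    obtain ⟨N, hN, eN⟩ := PicGrp.exists_eq_cls (LamSymm.graph x lam * LamSymm.graph x lam)
    refine ⟨N, hN, (LamSymm.isLambdaSheaf_iff hLi hN).2 ?_, ?_⟩
    · rw [hcls, LamSymm.lamCls_diag hξ lam (hsymm lam hpol)]
      exact eN.symm
    · refine (congrArg (φ A) (congrArg Subtype.val eN.symm)).trans ?_
      refine (phi_mul hdual (LamSymm.p0_graph hξ lam) (LamSymm.p0_graph hξ lam)).trans ?_
      rw [LamSymm.phi_graph hdual hξ]

end Groth.Agent.S14159
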