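import Groth.Statements.S14160
import Groth.Agent.Abvar.Dual.LamSymm
import Groth.Agent.AbVarMul.Relative

set_option autoImplicit false
universe u
open CategoryTheory CategoryTheory.Limits MonoidalCategory CartesianMonoidalCategory MonObj AlgebraicGeometry
open AgPol

namespace Groth.Agent.S14160

/-- Let S be a locally Noetherian scheme, A a projective abelian scheme over S of relative dimension g
with commutative group law, (At, φ) a commutative group scheme with data presenting it as the dual
of A for the fppf topology, ξ a Poincaré class on A ×_S At, and k ≥ 1. If lam₁, lam₂ : A ⟶ At are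
polarisations such that ξ pulls back to the same class on A along the graphs of lam₁ ^ k and of lam₂
^ k (powers in the group of A-valued points of At), then lam₁ = lam₂. (The published statement
claims uniqueness among all homomorphisms into the dual; on the square E × E of an elliptic curve
with its product principal polarisation lam₀, the homomorphism α(x, y) = lam₀(y, −x) has lam₀ + α ≠
lam₀ while the graphs of k·lam₀ and k·(lam₀ + α) pull the Poincaré class back to isomorphic sheaves,
so this row asks lam₁, lam₂ to be polarisations, which is the case the printed argument covers; k =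
0 is excluded since both pull backs are then along the unit section.) -/
theorem result (S : Scheme.{u}) [IsLocallyNoetherian S] (A At : Over S) [GrpObj A] [IsCommMonObj A]
    [GrpObj At] [IsCommMonObj At] (g : ℕ) (hA : AgPol.IsAbSch A g) (hproj : RelProj.IsProjective A.hom)
    (φ : AgPol.DualMap A At) (hdual : AbDual.IsDualAV Scheme.fppfPrecoverage A At φ)
    (ξ : PicF.Cl (PicF.XT A.hom At)) (hξ : AbDual.IsPoincareCl A At φ ξ) (k : ℕ) (hk : 1 ≤ k)
    (lam₁ lam₂ : A ⟶ At) (h₁ : AgPol.IsPolarization A At φ lam₁) (h₂ : AgPol.IsPolarization A At φ lam₂)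
    (heq : PicF.pullCl (pullback.lift (𝟙 A.left) (lam₁ ^ k).left ((Category.id_comp A.hom).trans (Over.w (lam₁ ^ k)).symm)) ξ = PicF.pullCl (pullback.lift (𝟙 A.left) (lam₂ ^ k).left ((Category.id_comp A.hom).trans (Over.w (lam₂ ^ k)).symm)) ξ) :
    lam₁ = lam₂ := by
  open Groth.Abvar.PicCalc Groth.Abvar.Dual in
  exact by
    have := hA.smooth
    have := hA.proper
    have := hA.geomConnected
    have := geometricallyIntegral_of_smooth A
    obtain ⟨P, rfl, hP, -⟩ := hξ.1
    let x : PicLoc.PicSet ((Over.pullback At.hom).obj A).left := cls hP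
    have hgr : ∀ mu : A ⟶ At, pull (pullback.lift (𝟙 A.left) mu.left ((Category.id_comp A.hom).trans (Over.w mu).symm)) x =
        LamSymm.pairing x mu (𝟙 A) (𝟙 A) := fun mu => by
      show _ = pull (lift (𝟙 A) (𝟙 A)).left (pull (PicF.XTmap A.hom mu) x)
      rw [← pull_comp]
      refine congrArg (pull · x) ?_
      apply pullback.hom_ext
      · refine (pullback.lift_fst _ _ _).trans (Eq.symm ?_)
        exact (Category.assoc _ _ _).trans ((congrArg (_ ≫ ·) ((pullback.lift_fst _ _ _).trans (Category.comp_id _))).trans
          (congrArg Over.Hom.left (lift_fst (𝟙 A) (𝟙 A))))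
      · refine (pullback.lift_snd _ _ _).trans (Eq.symm ?_)
        exact (Category.assoc _ _ _).trans ((congrArg (_ ≫ ·) (pullback.lift_snd _ _ _)).trans
          ((Category.assoc _ _ _).symm.trans ((congrArg (· ≫ mu.left)
            (congrArg Over.Hom.left (lift_snd (𝟙 A) (𝟙 A)))).trans (Category.id_comp _))))
    have hsymm : ∀ mu : A ⟶ At, AgPol.IsPolarization A At φ mu →
        opull (LamSymm.swp A) (LamSymm.graph x mu) = LamSymm.graph x mu := fun mu h => by
      have := h.1
      exact LamSymm.swp_graph hdual hξ mu fun Ω _ _ t => by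
        obtain ⟨L', hL', hl⟩ := h.2 Ω t
        exact ⟨L', hL'.1, hl⟩
    have := h₁.1
    have := h₂.1
    have hk' : ∀ mu : A ⟶ At, AgPol.IsPolarization A At φ mu →
        LamSymm.lamCls (pull (pullback.lift (𝟙 A.left) (mu ^ k).left ((Category.id_comp A.hom).trans (Over.w (mu ^ k)).symm)) x) =
          LamSymm.graph x mu ^ (k + k) := fun mu h => by
      have := h.1
      have hp := LamSymm.graph_pow hdual (x := x) hξ mu k
      rw [hgr, LamSymm.lamCls_diag hξ (mu ^ k) (by rw [hp, map_pow, hsymm mu h]), hp, pow_add]
    have hcls : pull (pullback.lift (𝟙 A.left) (lam₁ ^ k).left ((Category.id_comp A.hom).trans (Over.w (lam₁ ^ k)).symm)) x =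
        pull (pullback.lift (𝟙 A.left) (lam₂ ^ k).left ((Category.id_comp A.hom).trans (Over.w (lam₂ ^ k)).symm)) x :=
      Subtype.ext heq
    have h := (hk' lam₁ h₁).symm.trans ((congrArg LamSymm.lamCls hcls).trans (hk' lam₂ h₂))
    have h' := congrArg (fun c => φ A c.1) h
    simp only [LamSymm.phi_graph_pow hdual (x := x) hξ] at h'
    have := Groth.Abvar.Seesaw.geometricallyConnected_of_integral A.hom
    have : GeometricallyReduced A.hom := GrpschAbsch.FibreFlat.geometricallyReduced_of_smooth A.hom
    have : IsMonHom (lam₁ * lam₂⁻¹) := by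
      rw [Hom.mul_def]
      infer_instance
    refine mul_inv_eq_one.1 (Groth.AbVarMul.eq_one_of_zpow_eq_one_absch (lam₁ * lam₂⁻¹)
      (d := ((k + k : ℕ) : ℤ)) (by omega) ?_)
    rw [zpow_natCast, mul_pow, inv_pow, h', mul_inv_cancel]

end Groth.Agent.S14160
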