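import Groth.Statements.S14163
import Groth.Agent.Abvar.Dual.GraphBC
import Groth.Agent.Abvar.Dual.TrivLocus
import Groth.Agent.AbVarMul.Relative
import Groth.Agent.TorsionDense.Locus

set_option autoImplicit false
universe u
open CategoryTheory CategoryTheory.Limits MonoidalCategory CartesianMonoidalCategory MonObj AlgebraicGeometry
open AgPol

namespace Groth.Agent.S14163

/-- Let S be a locally Noetherian scheme, A a projective abelian scheme over S of relative dimension g
with commutative group law, structure morphism π and unit section ε, (At, φ) a commutative group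
scheme with data presenting it as the dual of A for the fppf topology, ξ a Poincaré class on A ×_S
At, L an invertible module on A which is ample relative to π and whose pull back along ε is trivial,
and k ≥ 1. Then there is a closed subscheme S₀ of S such that a locally Noetherian S-scheme T
factors through S₀ if and only if there is a homomorphism lam : A_T ⟶ At_T of T-group schemes such
that lam ^ (2k) is the homomorphism attached to the pulled-back module L_T through the base-changed
dual data and the class of L_T is the pull back of ξ (moved to A_T ×_T At_T) along the graph of lam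
^ k. (The published statement asks only for a homomorphism lam with L_T isomorphic to the pull back
along the graph of lam ^ k; the closed subscheme the printed argument constructs represents that
condition together with the clause on lam ^ (2k), which holds automatically for a polarisation lam
and can fail for other homomorphisms — on the square of an elliptic curve with its product principal
polarisation lam₀ and α(x, y) = lam₀(y, 0), the pull back along the graph of lam₀ + α is ample and
normalised while its attached homomorphism is not divisible by 2 — so the clause is kept here.) -/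
theorem result (S : Scheme.{u}) [IsLocallyNoetherian S] (A At : Over S) [GrpObj A] [IsCommMonObj A]
    [GrpObj At] [IsCommMonObj At] (g : ℕ) (hA : AgPol.IsAbSch A g) (hproj : RelProj.IsProjective A.hom)
    (φ : AgPol.DualMap A At) (hdual : AbDual.IsDualAV Scheme.fppfPrecoverage A At φ)
    (ξ : PicF.Cl (PicF.XT A.hom At)) (hξ : AbDual.IsPoincareCl A At φ ξ)
    (L : A.left.Modules) (hL : PicF.IsInvertible L) (hample : RelAmple.IsRelAmple A.hom L)
    (hrig : PicF.IsTrivialCl (PicF.cl ((Scheme.Modules.pullback η[A].left).obj L))) (k : ℕ) (hk : 1 ≤ k) :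
    ∃ (S₀ : Scheme.{u}) (i₀ : S₀ ⟶ S), IsClosedImmersion i₀ ∧
      ∀ T : Over S, IsLocallyNoetherian T.left →
        ((∃ h : T.left ⟶ S₀, h ≫ i₀ = T.hom) ↔
          ∃ lam : Red.bc T.hom A ⟶ Red.bc T.hom At, IsMonHom lam ∧
            AgPol.IsLambda (Red.bc T.hom A) (Red.bc T.hom At) (AgPol.bcDual T.hom A At φ) ((Scheme.Modules.pullback (pullback.fst A.hom T.hom)).obj L) (lam ^ (2 * k)) ∧
            PicF.cl ((Scheme.Modules.pullback (pullback.fst A.hom T.hom)).obj L) =
              PicF.pullCl (pullback.lift (𝟙 (Red.bc T.hom A).left) (lam ^ k).left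
                ((Category.id_comp (Red.bc T.hom A).hom).trans (Over.w (lam ^ k)).symm))
              (PicF.pullCl ((AgPol.bcXTIso T.hom A (Red.bc T.hom At)).hom ≫
                PicF.XTmap A.hom (Over.homMk (pullback.fst At.hom T.hom) pullback.condition)) ξ)) := by
  open Groth.Abvar.PicCalc Groth.Abvar.Dual Groth.Abvar.Dual.BaseChange Groth.Abvar.Dual.LamBC in
  exact by
    have := hA.smooth
    have := hA.proper
    have := hA.geomConnected
    have := geometricallyIntegral_of_smooth A
    have : GeometricallyReduced A.hom := GrpschAbsch.FibreFlat.geometricallyReduced_of_smooth A.hom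
    have hinst : ∀ {S' : Scheme.{u}} (t : S' ⟶ S), IsProper (Red.bc t A).hom ∧ Flat (Red.bc t A).hom ∧
        LocallyOfFinitePresentation (Red.bc t A).hom ∧ GeometricallyIntegral (Red.bc t A).hom ∧
        GeometricallyReduced (Red.bc t A).hom ∧ GeometricallyConnected (Red.bc t A).hom := fun t =>
      ⟨inferInstanceAs (IsProper (pullback.snd _ _)), inferInstanceAs (Flat (pullback.snd _ _)),
        inferInstanceAs (LocallyOfFinitePresentation (pullback.snd _ _)),
        inferInstanceAs (GeometricallyIntegral (pullback.snd _ _)),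
        inferInstanceAs (GeometricallyReduced (pullback.snd _ _)),
        inferInstanceAs (GeometricallyConnected (pullback.snd _ _))⟩
    obtain ⟨P, rfl, hP, -⟩ := hξ.1
    let x : PicLoc.PicSet ((Over.pullback At.hom).obj A).left := cls hP
    have hx : AbDual.IsPoincareCl A At φ x.1 := hξ
    have hr : pull (PicF.secT A.hom η[A].left (Over.w η[A]) At) x = 1 := Subtype.ext hξ.2.2
    let l : PicLoc.PicSet A.left := cls hL
    have hl : opull η[A] l = 1 := Subtype.ext hrig
    let n := 2 * k
    let Lam : A ⟶ At := φ A (LamSymm.lamCls l).1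
    have : IsMonHom Lam := isMonHom_lam hdual hl
    let f : A ⟶ A := 𝟙 A ^ n
    have hn : ((n : ℕ) : ℤ) ≠ 0 := by omega
    obtain ⟨_, _, -⟩ : IsFinite f.left ∧ Flat f.left ∧ Surjective f.left := by
      have := Groth.AbVarMul.isogeny_zpow_absch (X := A) hn
      rwa [zpow_natCast] at this
    let N : Over S := Over.mk (pullback.snd f.left η[A].left : pullback f.left η[A].left ⟶ S)
    let iN : N ⟶ A := Over.homMk (pullback.fst f.left η[A].left) (by
      show pullback.fst f.left η[A].left ≫ A.hom = pullback.snd f.left η[A].left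
      rw [← Over.w f, ← Category.assoc, pullback.condition, Category.assoc]
      exact (congrArg (_ ≫ ·) (Over.w η[A])).trans (Category.comp_id _))
    have hiNf : iN ≫ f = 1 := Over.OverMorphism.ext (by
      rw [Hom.one_def, Over.comp_left, Over.comp_left, Over.toUnit_left]
      exact pullback.condition)
    have : IsFinite N.hom := inferInstanceAs (IsFinite (pullback.snd _ _))
    have : Flat N.hom := inferInstanceAs (Flat (pullback.snd _ _))
    let cN : PicLoc.PicSet ((Over.pullback N.hom).obj A).left := pull (PicF.XTmap A.hom iN) (LamSymm.lamCls l)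
    have hcN0 : P0 A N cN := P0.bc iN (p0_lamCls hl)
    have hcNr : pull (PicF.secT A.hom η[A].left (Over.w η[A]) N) cN = 1 := by
      rw [← pull_comp, secT_XTmap, pull_comp, rig_lamCls hl, map_one]
    obtain ⟨Z1, i1, _, hZ1⟩ := TrivLocus.exists_closed_trivLocus (π := pullback.snd A.hom N.hom)
      (PicF.secT A.hom η[A].left (Over.w η[A]) N) (pullback.lift_snd _ _ _) cN hcNr
    obtain ⟨S1, t1, ht1, hS1, -⟩ := Groth.SmoothWeil.exists_weilLocus_essFree N.hom i1
      (Groth.TorsionDense.isEssentiallyFree_of_finite_flat N.hom)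
    have hkill : ∀ T : Over S, (∃ h : T.left ⟶ S1, h ≫ t1 = T.hom) ↔ (fst N T ≫ iN) ≫ Lam = 1 := by
      intro T
      have sq : IsPullback (PicF.XTmap A.hom (fst N T)) (pullback.snd A.hom (N ⊗ T).hom)
          (pullback.snd A.hom N.hom) (fst N T).left :=
        IsPullback.of_right (by
          rw [show PicF.XTmap A.hom (fst N T) ≫ pullback.fst A.hom N.hom =
            pullback.fst A.hom (N ⊗ T).hom from (pullback.lift_fst _ _ _).trans (Category.comp_id _)]
          exact IsPullback.of_hasPullback A.hom (N ⊗ T).hom)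
          (pullback.lift_snd _ _ _) (IsPullback.of_hasPullback A.hom N.hom)
      have e : φ (N ⊗ T) (pull (PicF.XTmap A.hom (fst N T)) cN).1 = (fst N T ≫ iN) ≫ Lam := by
        rw [phi_natural hdual _ hcN0, phi_natural hdual _ (p0_lamCls hl), Category.assoc]
      refine ((hS1 T.left T.hom).trans (hZ1 _ _ _ _ _ sq)).trans ⟨fun h => ?_, fun h => ?_⟩
      · rw [← e, h, phi_one hdual]
      · refine EqOfPhi.eq_of_phi_eq hdual (P0.bc _ hcN0) p0_one ?_ (map_one _) ?_
        · rw [← pull_comp, secT_XTmap, pull_comp, hcNr, map_one]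
        · rw [e, h, phi_one hdual]
    have hFf : ∀ {S' : Scheme.{u}} (t : S' ⟶ S), (Over.pullback t).map f = 𝟙 (Red.bc t A) ^ n := fun t => by
      rw [← CategoryTheory.Functor.map_id (Over.pullback t) A]
      exact ((Over.pullback t).homMonoidHom (X := A) (M := A)).map_pow (𝟙 A) n
    have hex : ∀ T : Over S, (∃ h : T.left ⟶ S1, h ≫ t1 = T.hom) ↔
        ∃ lam : Red.bc T.hom A ⟶ Red.bc T.hom At, IsMonHom lam ∧ lam ^ n = (Over.pullback T.hom).map Lam := by
      intro T
      obtain ⟨_, _, _, _, _, _⟩ := hinst T.hom
      rw [hkill T]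
      constructor
      · intro h
        obtain ⟨_, _, _⟩ : IsFinite (𝟙 (Red.bc T.hom A) ^ n : Red.bc T.hom A ⟶ Red.bc T.hom A).left ∧
            Flat (𝟙 (Red.bc T.hom A) ^ n : Red.bc T.hom A ⟶ Red.bc T.hom A).left ∧
            Surjective (𝟙 (Red.bc T.hom A) ^ n : Red.bc T.hom A ⟶ Red.bc T.hom A).left := by
          have := Groth.AbVarMul.isogeny_zpow_absch (X := Red.bc T.hom A) hn
          rwa [zpow_natCast] at this
        have : IsMonHom (𝟙 (Red.bc T.hom A) ^ n) := by rw [← zpow_natCast]; infer_instance
        have : IsMonHom ((Over.pullback T.hom).map Lam) := inferInstance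
        obtain ⟨g, hg, hfg⟩ := Groth.AbVarMul.exists_factor_of_flat (𝟙 (Red.bc T.hom A) ^ n)
          ((Over.pullback T.hom).map Lam) fun U a ha => by
            have e0 : ovMap T.hom a ≫ ofBC T.hom (𝟙 (Red.bc T.hom A)) = ofBC T.hom a :=
              Over.OverMorphism.ext (congrArg (a.left ≫ ·) (Category.id_comp _))
            have hz : ∀ (Z : Over S) (g : A ⟶ Z), a ≫ (Over.pullback T.hom).map g = toBC T.hom U (ofBC T.hom a ≫ g) :=
              fun Z g => toBC_ext T.hom (by
                rw [toBC_left_fst, Over.comp_left, Over.comp_left, Category.assoc]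
                exact (congrArg (a.left ≫ ·) (pullback.lift_fst _ _ _)).trans (Category.assoc _ _ _).symm)
            rw [← hFf, hz] at ha
            have hab : ofBC T.hom a ≫ f = 1 := toBC_injective T.hom (ha.trans (GraphBC.toBC_one T.hom U).symm)
            let v : ovT T.hom U ⟶ N := Over.homMk (pullback.lift (ofBC T.hom a).left (ovT T.hom U).hom (by
              refine (congrArg Over.Hom.left hab).trans ?_
              rw [Hom.one_def, Over.comp_left, Over.toUnit_left])) (pullback.lift_snd _ _ _)
            have hv : v ≫ iN = ofBC T.hom a := Over.OverMorphism.ext (pullback.lift_fst _ _ _)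
            let w : ovT T.hom U ⟶ T := Over.homMk U.hom rfl
            rw [hz, ← hv, ← lift_fst v w, Category.assoc, Category.assoc, ← Category.assoc (fst N T), h,
              MonObj.comp_one, GraphBC.toBC_one]
        refine ⟨g, hg, ?_⟩
        rw [← hfg, MonObj.pow_comp, Category.id_comp]
      · rintro ⟨lam, _, hlam⟩
        have h0 : (Over.pullback T.hom).map (iN ≫ Lam) = 1 := by
          have h1 : (Over.pullback T.hom).map (iN ≫ f) = 1 := by
            rw [hiNf]; exact ((Over.pullback T.hom).homMonoidHom (X := N) (M := A)).map_one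
          rw [Functor.map_comp, ← hlam,
            show lam ^ n = (Over.pullback T.hom).map f ≫ lam by rw [hFf, MonObj.pow_comp, Category.id_comp],
            ← Category.assoc, ← Functor.map_comp, h1, MonObj.one_comp]
        refine Over.OverMorphism.ext ?_
        have e := congrArg (fun a : Red.bc T.hom N ⟶ Red.bc T.hom At => a.left ≫ pullback.fst At.hom T.hom) h0
        have e' := (pullback.lift_fst _ _ _).symm.trans e
        rw [Category.assoc]
        refine e'.trans ?_
        rw [Hom.one_def, Hom.one_def, Over.comp_left, Over.comp_left, Over.toUnit_left, Over.toUnit_left,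
          Category.assoc, unit_bc_fst, ← Category.assoc]
        refine congrArg (· ≫ η[At].left) ?_
        exact (Over.w (snd N T))
    have hlamEq : ∀ T : Over S, ∀ lam : Red.bc T.hom A ⟶ Red.bc T.hom At,
        AgPol.IsLambda (Red.bc T.hom A) (Red.bc T.hom At) (AgPol.bcDual T.hom A At φ)
            ((Scheme.Modules.pullback (pullback.fst A.hom T.hom)).obj L) (lam ^ n) ↔
          lam ^ n = (Over.pullback T.hom).map Lam := by
      intro T lam
      have hLi := PicLoc.isInvertible_pullback (pullback.fst A.hom T.hom) hL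
      have hcl : cls hLi = pull (pullback.fst A.hom T.hom) l := (pull_cls _ hL).symm
      rw [← bcDual_lamCls hdual T.hom hl, ← hcl]
      constructor
      · rintro ⟨M, hM, hML, e⟩
        rw [← e, ← (LamSymm.isLambdaSheaf_iff hLi hM).1 hML]
        rfl
      · intro e
        obtain ⟨M, hM, eM⟩ := PicGrp.exists_eq_cls (LamSymm.lamCls (A := Red.bc T.hom A) (cls hLi))
        exact ⟨M, hM, (LamSymm.isLambdaSheaf_iff hLi hM).2 eM.symm,
          (congrArg (fun c => AgPol.bcDual T.hom A At φ _ c.1) eM.symm).trans e.symm⟩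
    let G : ∀ (T : Over S) (mu : Red.bc T.hom A ⟶ Red.bc T.hom At), PicLoc.PicSet (Red.bc T.hom A).left :=
      fun T mu => GraphBC.gCls T.hom x mu
    let lbc : ∀ T : Over S, PicLoc.PicSet (Red.bc T.hom A).left := fun T => pull (pullback.fst A.hom T.hom) l
    have hclause : ∀ (T : Over S) (mu : Red.bc T.hom A ⟶ Red.bc T.hom At),
        (PicF.cl ((Scheme.Modules.pullback (pullback.fst A.hom T.hom)).obj L) =
          PicF.pullCl (pullback.lift (𝟙 (Red.bc T.hom A).left) mu.left
            ((Category.id_comp (Red.bc T.hom A).hom).trans (Over.w mu).symm))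
          (PicF.pullCl ((AgPol.bcXTIso T.hom A (Red.bc T.hom At)).hom ≫
            PicF.XTmap A.hom (Over.homMk (pullback.fst At.hom T.hom) pullback.condition)) x.1)) ↔
          lbc T / G T mu = 1 := by
      intro T mu
      rw [div_eq_one]
      have e := GraphBC.gCls_eq T.hom x mu
      exact ⟨fun h => (Subtype.ext h : _).trans e, fun h => congrArg Subtype.val (h.trans e.symm)⟩
    let T1 : Over S := Over.mk t1
    obtain ⟨lam1, _, hlam1⟩ := (hex T1).1 ⟨𝟙 S1, Category.id_comp _⟩
    let c1 : PicLoc.PicSet (Red.bc t1 A).left := lbc T1 / G T1 (lam1 ^ k)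
    have hc1 : pull η[Red.bc t1 A].left c1 = 1 := by
      show pull η[Red.bc t1 A].left (HDiv.hDiv (α := PicLoc.PicSet (Red.bc t1 A).left) (pull (pullback.fst A.hom t1) l) (GraphBC.gCls t1 x (lam1 ^ k))) = 1
      have hmu : η[Red.bc t1 A] ≫ (lam1 ^ k : Red.bc t1 A ⟶ Red.bc t1 At) = η[Red.bc t1 At] := by
        rw [MonObj.comp_pow, IsMonHom.one_hom, MonObj.one_eq_one, one_pow]
      rw [map_div, ← pull_comp, unit_bc_fst, pull_comp, show pull η[A].left l = 1 from hl, map_one,
        GraphBC.gCls_rig t1 hx _ hmu, div_one]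
    obtain ⟨_, _, _, _, _, _⟩ := hinst t1
    obtain ⟨Z2, i2, _, hZ2⟩ := TrivLocus.exists_closed_trivLocus (π := (Red.bc t1 A).hom)
      η[Red.bc t1 A].left (Over.w η[Red.bc t1 A]) c1 hc1
    have hpair : ∀ (T : Over S) (h : T.left ⟶ S1) (hh : h ≫ t1 = T.hom)
        (lam : Red.bc T.hom A ⟶ Red.bc T.hom At) [IsMonHom lam], lam ^ n = (Over.pullback T.hom).map Lam →
        ((∃ h0 : T.left ⟶ Z2, h0 ≫ i2 = h) ↔ lbc T / G T (lam ^ k) = 1) := by
      intro T h hh lam _ hlam
      let m : (Red.bc T.hom A).left ⟶ (Red.bc t1 A).left := pullback.lift (pullback.fst A.hom T.hom)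
        (pullback.snd A.hom T.hom ≫ h) (by rw [Category.assoc, hh]; exact pullback.condition)
      have hm1 : m ≫ pullback.fst A.hom t1 = pullback.fst A.hom T.hom := pullback.lift_fst _ _ _
      have hm2 : m ≫ (Red.bc t1 A).hom = (Red.bc T.hom A).hom ≫ h := pullback.lift_snd _ _ _
      have sq : IsPullback m (Red.bc T.hom A).hom (Red.bc t1 A).hom h :=
        IsPullback.of_right (by rw [hm1, hh]; exact IsPullback.of_hasPullback A.hom T.hom) hm2
          (IsPullback.of_hasPullback A.hom t1)
      let m' : ovT T.hom (Red.bc T.hom A) ⟶ ovT t1 (Red.bc t1 A) := Over.homMk m (by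
        show m ≫ (Red.bc t1 A).hom ≫ t1 = (Red.bc T.hom A).hom ≫ T.hom
        rw [← Category.assoc, hm2, Category.assoc, hh])
      have hbase : ofBC T.hom lam = m' ≫ ofBC t1 lam1 := by
        obtain ⟨_, _, _, _, _, _⟩ := hinst T.hom
        obtain ⟨-, _, _⟩ : IsFinite (𝟙 (Red.bc T.hom A) ^ n : Red.bc T.hom A ⟶ Red.bc T.hom A).left ∧
            Flat (𝟙 (Red.bc T.hom A) ^ n : Red.bc T.hom A ⟶ Red.bc T.hom A).left ∧
            Surjective (𝟙 (Red.bc T.hom A) ^ n : Red.bc T.hom A ⟶ Red.bc T.hom A).left := by
          have := Groth.AbVarMul.isogeny_zpow_absch (X := Red.bc T.hom A) hn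
          rwa [zpow_natCast] at this
        have := Flat.epi_of_flat_of_surjective (𝟙 (Red.bc T.hom A) ^ n : Red.bc T.hom A ⟶ Red.bc T.hom A).left
        refine Over.OverMorphism.ext ((cancel_epi (𝟙 (Red.bc T.hom A) ^ n : Red.bc T.hom A ⟶ Red.bc T.hom A).left).1 ?_)
        have e1 : (𝟙 (Red.bc T.hom A) ^ n) ≫ lam = (Over.pullback T.hom).map Lam := by
          rw [MonObj.pow_comp, Category.id_comp, hlam]
        have e2 : (𝟙 (Red.bc t1 A) ^ n) ≫ lam1 = (Over.pullback t1).map Lam := by
          rw [MonObj.pow_comp, Category.id_comp]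
          exact hlam1
        have hnm : (𝟙 (Red.bc T.hom A) ^ n : Red.bc T.hom A ⟶ Red.bc T.hom A).left ≫ m =
            m ≫ (𝟙 (Red.bc t1 A) ^ n : Red.bc t1 A ⟶ Red.bc t1 A).left := by
          rw [← hFf, ← hFf]
          apply pullback.hom_ext
          · rw [Category.assoc, Category.assoc, hm1]
            erw [pullback.lift_fst, pullback.lift_fst]
            rw [← Category.assoc, hm1]
          · rw [Category.assoc, Category.assoc]
            erw [hm2, pullback.lift_snd]
            rw [← Category.assoc]
            exact (congrArg (· ≫ h) (Over.w ((Over.pullback T.hom).map f))).trans hm2.symm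
        show _ ≫ lam.left ≫ pullback.fst At.hom T.hom = _ ≫ m ≫ lam1.left ≫ pullback.fst At.hom t1
        rw [← Category.assoc, ← Over.comp_left, e1, ← Category.assoc _ m, hnm, Category.assoc,
          ← Category.assoc _ lam1.left, ← Over.comp_left, e2]
        erw [pullback.lift_fst, pullback.lift_fst]
        rw [← Category.assoc, hm1]
      have hG : G T (lam ^ k) = pull m (G T1 (lam1 ^ k)) :=
        GraphBC.pull_gCls_pow t1 m hm1 m' rfl x hbase k
      rw [hZ2 _ h _ m _ sq, map_div, hG]
      rw [show pull m (lbc T1) = lbc T from (pull_comp _ _ l).symm.trans (congrArg (pull · l) hm1)]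
    refine ⟨Z2, i2 ≫ t1, inferInstance, fun T _ => ⟨?_, ?_⟩⟩
    · rintro ⟨h0, hh0⟩
      rw [← Category.assoc] at hh0
      obtain ⟨lam, hm, hlam⟩ := (hex T).1 ⟨_, hh0⟩
      exact ⟨lam, hm, (hlamEq T lam).2 hlam,
        (hclause T (lam ^ k)).2 ((hpair T _ hh0 lam hlam).1 ⟨h0, rfl⟩)⟩
    · rintro ⟨lam, hm, h1, h2⟩
      have hlam := (hlamEq T lam).1 h1
      obtain ⟨h, hh⟩ := (hex T).2 ⟨lam, hm, hlam⟩
      obtain ⟨h0, hh0⟩ := (hpair T h hh lam hlam).2 ((hclause T (lam ^ k)).1 h2)
      exact ⟨h0, by rw [← Category.assoc, hh0, hh]⟩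

end Groth.Agent.S14163
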