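import Groth.Statements.S14164
import Groth.Agent.Quot.FibreGen
import Groth.Agent.AbvarAmple.AmpleVanish
import Groth.Agent.HilbStab.BC.Euler
import Groth.Agent.AmpleFibre.Nhd
import Groth.Agent.Abvar.Dual.PicZero
import Groth.Agent.CohBase.InvNearFibre

set_option autoImplicit false
universe u
open CategoryTheory CategoryTheory.Limits MonoidalCategory CartesianMonoidalCategory MonObj AlgebraicGeometry
open AgPol

namespace Groth.Agent.S14164

/-- Let S be a locally Noetherian scheme, A a projective abelian scheme over S of relative dimension g
with structure morphism π, and L an invertible module on A which is ample relative to π. Then R^i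
π_* L = 0 for every i ≥ 1 (right derived functors of the direct image on modules), and π_* L is a
finite locally free module on S. -/
theorem result (S : Scheme.{u}) [IsLocallyNoetherian S]
    (A : Over S) [GrpObj A] (g : ℕ) (hA : AgPol.IsAbSch A g) (hproj : RelProj.IsProjective A.hom)
    [HasInjectiveResolutions A.left.Modules]
    (L : A.left.Modules) (hL : PicF.IsInvertible L) (hample : RelAmple.IsRelAmple A.hom L) :
    (∀ i : ℕ, 1 ≤ i → IsZero ((Coh.Rpush A.hom i).obj L)) ∧
      FlatMod.IsFinLocFree ((Coh.push A.hom).obj L) := by
  exact by
    have := hA.smooth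
    have := hA.proper
    have := hA.geomConnected
    have : GeometricallyIntegral A.hom := Groth.Abvar.Dual.geometricallyIntegral_of_smooth A
    have hC := Groth.EulerDeg.isCoh_of_isInvertible hL
    have hfl := Groth.CohBase.isFlatOver_of_isInvertible A.hom hL
    have hv : ∀ (y : S) (i : ℕ), 1 ≤ i → Subsingleton (CohIII.fiberH A.hom L y i) := fun y i hi => by
      let k := S.residueField y
      let K := AlgebraicClosure k
      let π := A.hom.fiberToSpecResidueField y
      let g : Spec (CommRingCat.of K) ⟶ S :=
        Spec.map (CommRingCat.ofHom (algebraMap k K)) ≫ S.fromSpecResidueField y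
      let X := Red.bc g A
      have : IsProper X.hom := inferInstanceAs (IsProper (pullback.snd _ _))
      have : GeometricallyIntegral X.hom := inferInstanceAs (GeometricallyIntegral (pullback.snd _ _))
      have : IsProper π := MorphismProperty.pullback_snd (P := @IsProper) _ _ hA.proper
      let h : X.left ⟶ A.hom.fiber y := pullback.lift (pullback.fst _ _)
        (pullback.snd A.hom g ≫ Spec.map (CommRingCat.ofHom (algebraMap k K)))
        (by rw [Category.assoc]; exact pullback.condition)
      have hsq : IsPullback h X.hom π (Spec.map (CommRingCat.ofHom (algebraMap k K))) := by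
        refine IsPullback.of_right ?_ (pullback.lift_snd _ _ _)
          (IsPullback.of_hasPullback A.hom (S.fromSpecResidueField y))
        rw [show h ≫ pullback.fst A.hom (S.fromSpecResidueField y) = pullback.fst A.hom g from
          pullback.lift_fst _ _ _]
        exact IsPullback.of_hasPullback A.hom g
      let : (A.hom.fiber y).Over (Spec (CommRingCat.of k)) := ⟨π⟩
      let : X.left.Over (Spec (CommRingCat.of K)) := ⟨X.hom⟩
      have : (A.hom.fiber y).IsSeparated := CohFin.isSeparated_of_proper (A := k) π
      have : CompactSpace (A.hom.fiber y) := CohFin.compactSpace_of_proper (A := k) π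
      have : IsAffineHom h := MorphismProperty.of_isPullback (P := @IsAffineHom) hsq.flip
        (isAffineHom_of_isAffine _)
      have hamp := Groth.AmpleFibre.isAmple_fibre_of_isRelAmple A.hom hample y
      have : L.IsQuasicoherent := hC.1
      have := Groth.QCohMod.isQCoh_pullback_obj (A.hom.fiberι y) L
      exact (Groth.HilbStab.BC.subsingleton_HH_baseChange_iff (k := k) (K := K) hsq
        (CohIII.fiberMod A.hom L y) i).1
        (Groth.AbvarAmple.subsingleton_HH_pos_of_isAmple (X := X)
          (Groth.Chow.isAmple_pullback_of_isAffineHom h hamp) hi)
    exact ⟨fun i hi => Groth.Quot.isZero_Rpush_of_fibres A.hom hv hC hfl i hi,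
      Groth.Quot.isFinLocFree_push_of_fibres A.hom hv hC hfl⟩

end Groth.Agent.S14164
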