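import Groth.Statements.S14170
import Groth.Agent.Variety2.Reg.Points
import Groth.Agent.Variety2.Reg.IdealTwist
import Groth.Agent.Variety2.Reg.Support
import Groth.Agent.Variety2.Reg.Pn
import Groth.Agent.Variety2.LinearForms
import Groth.Agent.Variety2.ProjBasics
import Groth.Agent.PicAux.EffCartierLine
import Groth.Agent.EulerDeg.CartierDegree
import Groth.Agent.Ega2Proj.TwistGen
import Groth.Agent.QCohMod.Category

set_option autoImplicit false
universe u
open CategoryTheory CategoryTheory.Limits AlgebraicGeometry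
open Variety

namespace Groth.Agent.S14170

/-- Let k be an algebraically closed field of characteristic zero (the published statement is over the
complex numbers; this row allows any algebraically closed field of characteristic zero), N ≥ 0, and
i : X → P^N_k a closed immersion with X finite as a set, say with t points (a zero-dimensional
closed subscheme supported at t distinct points). Suppose μ : X → ℕ is such that for every point x
the maximal ideal of the local ring O_{X,x} satisfies m_x^(μ(x)+1) = 0 (so μ(x) bounds the largest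
exponent with a nonzero power). Then H^1(P^N_k, I_X(j)) = 0 for every integer j ≥ Σ_x μ(x) + t - 1,
where I_X is the ideal sheaf of i viewed as an O-module; and I_X is (Σ_x μ(x) + t)-regular. -/
theorem result (k : Type u) [Field k] [IsAlgClosed k] [CharZero k]
    (N : ℕ) (X : Scheme.{u}) (i : X ⟶ CohB1.ProjSpace N k) [IsClosedImmersion i] [Finite X]
    (μ : X → ℕ) (hμ : ∀ x : X, IsLocalRing.maximalIdeal (X.presheaf.stalk x) ^ (μ x + 1) = ⊥) :
    (∀ j : ℤ, (∑ᶠ x : X, (μ x : ℤ)) + (Nat.card X : ℤ) - 1 ≤ j →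
      Subsingleton (Coh.HH (CohB1.ProjSpace N k)
        (CohB1.tensorMod (ClSub.idealMod i.ker) (Twist.twistProjSpace N k j)) 1)) ∧
    Curv2.IsMRegular k N (ClSub.idealMod i.ker) ((∑ᶠ x : X, (μ x : ℤ)) + (Nat.card X : ℤ)) := by
  classical
  letI : Fintype X := Fintype.ofFinite X
  let P := CohB1.ProjSpace N k
  let toSpec := CohB1.ProjSpace.toSpec N k
  haveI : IsProper toSpec := inferInstanceAs (IsProper (CohB1.ProjSpace.toSpec N k))
  haveI : IsLocallyNoetherian P := Groth.PnCoh.isLocallyNoetherian_projSpace N k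
  haveI : CompactSpace P := QuasiCompact.compactSpace_of_compactSpace toSpec
  haveI : IsNoetherian P := {}
  haveI : LocallyOfFiniteType (i ≫ toSpec) := inferInstance
  haveI : JacobsonSpace X := LocallyOfFiniteType.jacobsonSpace (i ≫ toSpec)
  have hcl : ∀ x : X, IsClosed ({i x} : Set P) := fun x => by
    rw [← Set.image_singleton]
    exact i.isClosedEmbedding.isClosedMap _ (isClosed_discrete _)
  set I := i.ker with hIdef
  have hsupp : (I.support : Set P) = Set.range i := by
    rw [hIdef, Scheme.Hom.support_ker, IsClosed.closure_eq i.isClosedEmbedding.isClosed_range]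
  have hZdim : topologicalKrullDim (Set.range i) ≤ 0 := by
    have : T1Space (Set.range i) := ⟨fun ⟨_, x, rfl⟩ => by
      have e : ({⟨i x, x, rfl⟩} : Set (Set.range i)) = Subtype.val ⁻¹' {i x} := by
        ext z; simp [Subtype.ext_iff]
      rw [e]
      exact (hcl x).preimage continuous_subtype_val⟩
    have : Finite (Set.range i) := (Set.finite_range i).to_subtype
    exact topologicalKrullDim_zero_of_discreteTopology _
  have hQsupp : CohB1.support (ClSub.quotMod I) ⊆ Set.range i :=
    hsupp ▸ Groth.EulerDeg.support_quotMod_subset I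
  have hquot : ∀ (a : ℤ) (q : ℕ), 1 ≤ q →
      Subsingleton (Coh.HH P (Variety2.Reg.fT (ClSub.quotMod I) a) q) := fun a q hq =>
    Groth.Variety2.Reg.subsingleton_HH_of_support_zero _ i.isClosedEmbedding.isClosed_range hZdim
      ((Groth.Variety2.Reg.support_fT_subset _ a).trans hQsupp) hq
  have hO : ∀ (a : ℤ) (q : ℕ), 1 ≤ q → (q = N → -(N : ℤ) ≤ a) →
      Subsingleton (Coh.HH P (Variety2.Reg.fT (Coh.structureModule P) a) q) := fun a q hq h =>
    Groth.Variety2.Reg.subsingleton_of_iso (X := P) k (Groth.PicAux.exists_leftUnitor _).choose.symm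
      (Groth.PnCoh.subsingleton_HH_twist (R := k) (n := N) a q (fun h' => by omega) fun h' => by
        have := h h'.1; omega)
  have hbound : (0 : ℤ) ≤ (∑ᶠ x : X, (μ x : ℤ)) + (Nat.card X : ℤ) := by
    rw [finsum_eq_sum_of_fintype]
    positivity
  have h1 : ∀ j : ℤ, (∑ᶠ x : X, (μ x : ℤ)) + (Nat.card X : ℤ) - 1 ≤ j →
      Subsingleton (Coh.HH P (Variety2.Reg.fT (ClSub.idealMod I) j) 1) := by
    intro j hj
    refine Groth.Variety2.Reg.IdealTwist.subsingleton_one (X := P) I
      (Groth.Variety2.Reg.isInvertible_tw (n := N) (k := k) j) k ?_ (hO j 1 le_rfl fun h => by omega)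
    intro z
    have hzero : ∀ (W : P.Opens), (∀ x : X, i x ∉ W) →
        ∀ s t : Γ(Variety2.Reg.fT (ClSub.quotMod I) j, W), s = t := fun W hW s t => by
      refine TopCat.Presheaf.section_ext (⟨_, (Variety2.Reg.fT (ClSub.quotMod I) j).isSheaf⟩ :
        TopCat.Sheaf AddCommGrpCat P) W s t fun y hy => ?_
      have : Subsingleton ((Variety2.Reg.fT (ClSub.quotMod I) j).presheaf.stalk y) := not_not.1 fun h => by
        obtain ⟨x, rfl⟩ := ((Groth.Variety2.Reg.support_fT_subset _ j).trans hQsupp) h
        exact hW x hy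
      exact Subsingleton.elim _ _
    rcases isEmpty_or_nonempty X with hX | hX
    · exact ⟨0, hzero ⊤ (fun x => isEmptyElim x) _ _⟩
    obtain ⟨j', rfl⟩ : ∃ j' : ℕ, j = j' := ⟨j.toNat, by
      have : 1 ≤ Nat.card X := Nat.card_pos
      have h0 : (0 : ℤ) ≤ ∑ᶠ x : X, (μ x : ℤ) := by rw [finsum_eq_sum_of_fintype]; positivity
      omega⟩
    obtain ⟨u, hu1, huX⟩ := Groth.Variety2.PSpace.exists_linear_avoiding (k := k) (n := N)
      (Finset.univ.image fun x : X => (i x : ProjectiveSpectrum (CohB1.polyGrading N k)))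
    have hu : u ∈ CohB1.polyGrading N k 1 := (MvPolynomial.mem_homogeneousSubmodule _ _).mpr hu1
    let U : P.affineOpens := ⟨Proj.basicOpen _ u, Proj.isAffineOpen_basicOpen _ u hu Nat.one_pos⟩
    have hmem : ∀ x, i x ∈ U.1 := fun x => huX _ (Finset.mem_image_of_mem _ (Finset.mem_univ x))
    let W : P.Opens := ⟨(Set.range i)ᶜ, i.isClosedEmbedding.isClosed_range.isOpen_compl⟩
    let e : Γ(Twist.twistProjSpace N k (j' : ℤ), U.1) :=
      Groth.Ega2Proj.pwSec (N := (j' : ℤ)) hu j' (by simp) fun y hy => hy
    have he : Groth.PicAux.Gen _ U.1 e := Groth.Ega2Proj.gen_pwSec _ _ _ _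
    refine Groth.Variety2.Reg.IdealTwist.exists_lift I
      (Groth.Variety2.Reg.isInvertible_tw (n := N) (k := k) (j' : ℤ)) U W (fun y _ => ?_)
      (hzero W fun x h => h ⟨x, rfl⟩) he (fun a => ?_) z
    · by_cases hy : y ∈ Set.range i
      · obtain ⟨x, rfl⟩ := hy
        exact Or.inl (hmem x)
      · exact Or.inr hy
    obtain ⟨f, hf, hfx⟩ := Groth.Variety2.Reg.exists_fracFun_interpolate hu (fun x : X => i x)
      i.isClosedEmbedding.injective hcl hmem μ j' (by
        rw [finsum_eq_sum_of_fintype, Nat.card_eq_fintype_card] at hj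
        rw [Finset.sum_add_distrib, Finset.sum_const, Finset.card_univ, smul_eq_mul, mul_one]
        zify
        omega) a
    refine ⟨Groth.Ega2Proj.globalSec (Groth.Variety2.Reg.stdGr_nat_iff.mp hf), Groth.Variety2.Reg.fracFun hu hf, ?_, ?_⟩
    · exact Groth.Variety2.Reg.res_globalSec_eq hu hf
    · exact Groth.Variety2.Reg.IdealTwist.mem_ker_of_germ (X := P) i U hmem μ hμ _ hfx
  refine ⟨h1, fun q hq hqN => ?_⟩
  rcases eq_or_lt_of_le hq with rfl | hq2
  · exact h1 _ (by omega)
  · obtain ⟨q, rfl⟩ : ∃ q', q = q' + 1 := ⟨q - 1, by omega⟩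
    exact Groth.Variety2.Reg.IdealTwist.subsingleton_succ (X := P) I
      (Groth.Variety2.Reg.isInvertible_tw (n := N) (k := k) _) k (hquot _ q (by omega))
      (hO _ (q + 1) (by omega) fun h => by omega)

end Groth.Agent.S14170
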