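import Groth.Statements.S14172
import Groth.Agent.Variety2.Reg.PowVanishing
import Groth.Agent.Variety2.Reg.Pn
import Groth.Agent.Ega2Proj.TwistGen
import Groth.Agent.Variety2.ProjBasics

set_option autoImplicit false
universe u
open CategoryTheory CategoryTheory.Limits AlgebraicGeometry
open Variety

namespace Groth.Agent.S14172

/-- Let k be an algebraically closed field of characteristic zero (the published statement is over the
complex numbers; this row allows any algebraically closed field of characteristic zero), I a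
quasi-coherent ideal sheaf on P^n_k, viewed as an O-module, and d an integer such that I(d) = I ⊗
O(d) is generated by its global sections. Then reg(I^p) ≤ d p + e for a suitable integer e and every
p ≥ 1: the p-th power I^p is m-regular whenever m ≥ d p + e. -/
theorem result (k : Type u) [Field k] [IsAlgClosed k] [CharZero k]
    (n : ℕ) (I : (CohB1.ProjSpace n k).IdealSheafData) (d : ℤ)
    (hd : Curv2.IsGloballyGenerated (CohB1.tensorMod (ClSub.idealMod I) (Twist.twistProjSpace n k d))) :
    ∃ e : ℤ, ∀ p : ℕ, 1 ≤ p → ∀ m : ℤ, d * (p : ℤ) + e ≤ m →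
      Curv2.IsMRegular k n (ClSub.idealMod (I ^ p)) m := by
  haveI : IsProper ((CohB1.ProjSpace n k) ↘ Spec (CommRingCat.of k)) :=
    inferInstanceAs (IsProper (CohB1.ProjSpace.toSpec n k))
  let L : (CohB1.ProjSpace n k).Modules := Twist.twistProjSpace n k d
  have hL : PicF.IsInvertible L := Groth.Variety2.Reg.isInvertible_tw d
  have hA : CohB1.IsAmple (Twist.twistProjSpace n k 1) := by
    classical
    refine Groth.Ega2Proj.isAmple_twist_one
      (Finset.univ.image fun i : Fin (n + 1) => (MvPolynomial.X i : MvPolynomial (Fin (n + 1)) k)) ?_ ?_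
    · simp only [Finset.mem_image, Finset.mem_univ, true_and, forall_exists_index, forall_apply_eq_imp_iff]
      exact fun i => Groth.Variety2.Reg.X_mem n k i
    · rw [Finset.coe_image, Finset.coe_univ, Set.image_univ]
      refine (Groth.PnCoh.irrelevant_le_span_X n k).trans (Ideal.span_mono ?_)
      rintro _ ⟨j, rfl⟩
      exact ⟨j.down, rfl⟩
  obtain ⟨d₀, hd₀⟩ := Groth.Variety2.Reg.PowVan.exists_uniform_vanishing (R := k) I hL hd hA
  have hpow : ∀ (a : ℤ) (p : ℕ),
      Nonempty (CohB1.tensorPow (Twist.twistProjSpace n k a) p ≅ Twist.twistProjSpace n k (a * p)) := by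
    intro a p
    induction p with
    | zero =>
      obtain ⟨e⟩ := Groth.Variety2.Reg.nonempty_twist_zero (n := n) (k := k)
      exact ⟨e.symm ≪≫ eqToIso (by rw [Nat.cast_zero, mul_zero])⟩
    | succ p ih =>
      obtain ⟨e⟩ := Groth.Ega2Proj.nonempty_tensor_iso (Groth.Variety2.Reg.gen_one n k) (a * p) a
      exact ⟨PicGrp.tensorModIso ih.some (Iso.refl _) ≪≫ e ≪≫
        eqToIso (by
        show Twist.twistProjSpace n k (a * (p : ℤ) + a) = _
        rw [Nat.cast_succ, mul_add, mul_one])⟩
  refine ⟨(d₀ : ℤ) + n, fun p _ m hm i hi hin => ?_⟩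
  obtain ⟨c, hc⟩ : ∃ c : ℕ, m - (i : ℤ) = d * (p : ℤ) + c :=
    ⟨(m - (i : ℤ) - d * (p : ℤ)).toNat, by omega⟩
  obtain ⟨e₁⟩ := hpow d p
  obtain ⟨e₂⟩ := hpow 1 c
  obtain ⟨e₃⟩ := Groth.Variety2.Reg.nonempty_twist_twist (ClSub.idealMod (I ^ p)) (d * (p : ℤ)) (1 * (c : ℤ))
    (m - i) (by omega)
  exact Groth.Variety2.Reg.subsingleton_of_iso k
    (PicGrp.tensorModIso (PicGrp.tensorModIso (Iso.refl (ClSub.idealMod (I ^ p))) e₁) e₂ ≪≫ e₃)
    (hd₀ p c (by omega) i (by omega))

end Groth.Agent.S14172
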