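import Groth.Statements.S14175
-- import your own Groth.Agent.* helpers here

set_option autoImplicit false
universe u v w
open GalCoh

namespace Groth.Agent.S14175

/-- Let G be a finite cyclic group generated by t, let m be a natural number dividing the order of G,
and let ρ be a linear representation of G on a module V over a commutative ring k such that m·V = 0
and every element of G whose m-th power is the identity acts trivially on V. Then evaluating a
crossed homomorphism at t induces a bijection from the first cohomology of G with values in V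
(crossed homomorphisms f, i.e. f(gh) = ρ(g)f(h) + f(g), modulo the principal ones g ↦ ρ(g)x − x)
onto the coinvariants V_G (the quotient of V by the span of all ρ(g)v − v): the class of f(t) in V_G
vanishes exactly when f is principal, and every class of V_G is the class of f(t) for some crossed
homomorphism f. The bijection depends on the choice of the generator t. -/
theorem result
    {k : Type u} {G : Type v} {V : Type w} [CommRing k] [Group G] [Finite G]
    [AddCommGroup V] [Module k V] (ρ : Representation k G V)
    (t : G) (ht : ∀ g : G, g ∈ Subgroup.zpowers t)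
    (m : ℕ) (hm : m ∣ Nat.card G) (htors : ∀ v : V, m • v = 0)
    (htriv : ∀ g : G, g ^ m = 1 → ∀ v : V, ρ g v = v) :
    (∀ f : G → V, (∀ g h : G, f (g * h) = ρ g (f h) + f g) →
        (Representation.Coinvariants.mk ρ (f t) = 0 ↔ ∃ x : V, ∀ g : G, f g = ρ g x - x)) ∧
    (∀ v : V, ∃ f : G → V, (∀ g h : G, f (g * h) = ρ g (f h) + f g) ∧
        Representation.Coinvariants.mk ρ (f t) = Representation.Coinvariants.mk ρ v) := by
  classical
  set n := Nat.card G
  have hn : 0 < n := Nat.card_pos
  have hord : orderOf t = n := orderOf_eq_card_of_forall_mem_zpowers ht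
  have hpow : ∀ g : G, ∃ i : ℕ, t ^ i = g := fun g => by
    obtain ⟨i, hi⟩ := (mem_powers_iff_mem_zpowers (x := t) (y := g)).mpr (ht g)
    exact ⟨i, hi⟩
  have hker : ∀ w : V, Representation.Coinvariants.mk ρ w = 0 ↔ ∃ x : V, w = ρ t x - x := by
    intro w
    constructor
    · intro hw
      have hmem : w ∈ Representation.Coinvariants.ker ρ := (Submodule.Quotient.mk_eq_zero _).mp hw
      have hle : Representation.Coinvariants.ker ρ ≤ LinearMap.range (ρ t - 1 : V →ₗ[k] V) := by
        refine Submodule.span_le.mpr ?_
        rintro _ ⟨⟨g, x⟩, rfl⟩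
        obtain ⟨i, rfl⟩ := hpow g
        induction i generalizing x with
        | zero => simp
        | succ i ih =>
          show ρ (t ^ (i + 1)) x - x ∈ LinearMap.range (ρ t - 1 : V →ₗ[k] V)
          rw [pow_succ, map_mul, Module.End.mul_apply, ← sub_add_sub_cancel _ (ρ t x) x]
          exact add_mem (ih (ρ t x)) ⟨x, rfl⟩
      obtain ⟨x, hx⟩ := hle hmem
      exact ⟨x, hx.symm⟩
    · rintro ⟨x, rfl⟩
      exact (Submodule.Quotient.mk_eq_zero _).mpr (Submodule.subset_span ⟨(t, x), rfl⟩)
  refine ⟨fun f hf => ⟨fun h => ?_, fun ⟨x, hx⟩ => (hker _).mpr ⟨x, hx t⟩⟩, fun v => ?_⟩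
  · obtain ⟨x, hx⟩ := (hker _).mp h
    refine ⟨x, fun g => ?_⟩
    obtain ⟨i, rfl⟩ := hpow g
    induction i with
    | zero =>
      have h1 := hf 1 1
      rw [one_mul, map_one, Module.End.one_apply] at h1
      rw [pow_zero, map_one, Module.End.one_apply, sub_self]
      exact add_eq_left.mp h1.symm
    | succ i ih =>
      rw [pow_succ, hf, hx, ih, map_sub, map_mul, Module.End.mul_apply]
      abel
  · let S : ℕ → V := fun i => ∑ j ∈ Finset.range i, ρ (t ^ j) v
    have hS : ∀ i j, S (i + j) = S i + ρ (t ^ i) (S j) := by
      intro i j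
      simp only [S, Finset.sum_range_add, map_sum, pow_add, map_mul, Module.End.mul_apply]
    obtain ⟨q, hq⟩ := hm
    have hq0 : S n = 0 := by
      have htq : ∀ w : V, ρ (t ^ q) w = w :=
        htriv _ (by rw [← pow_mul, mul_comm, ← hq]; exact pow_card_eq_one')
      have : ∀ l : ℕ, S (l * q) = l • S q := by
        intro l
        induction l with
        | zero => simp [S]
        | succ l ih =>
          rw [Nat.succ_mul, Nat.add_comm, hS, htq, ih, succ_nsmul']
      rw [hq, this, htors]
    have hmod : ∀ i, S i = S (i % n) := by
      intro i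
      conv_lhs => rw [← Nat.mod_add_div i n]
      induction i / n with
      | zero => simp
      | succ l ih =>
        rw [Nat.mul_succ, ← Nat.add_assoc, hS, hq0, map_zero, add_zero, ih]
    have hwd : ∀ i j, t ^ i = t ^ j → S i = S j := by
      intro i j h
      rw [hmod i, hmod j, ← hord, pow_eq_pow_iff_modEq.mp h]
    choose idx hidx using hpow
    refine ⟨fun g => S (idx g), fun g h => ?_, ?_⟩
    · show S (idx (g * h)) = ρ g (S (idx h)) + S (idx g)
      rw [hwd (idx (g * h)) (idx g + idx h) (by rw [pow_add, hidx, hidx, hidx]), hS, hidx, add_comm]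
    · show Representation.Coinvariants.mk ρ (S (idx t)) = _
      rw [hwd (idx t) 1 (by rw [hidx, pow_one])]
      simp [S]

end Groth.Agent.S14175
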