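import Groth.Statements.S14176
import Mathlib.GroupTheory.FiniteAbelian.Duality
import Mathlib.GroupTheory.SpecificGroups.Cyclic
import Mathlib.RingTheory.RootsOfUnity.EnoughRootsOfUnity
import Mathlib.RingTheory.RootsOfUnity.Complex
import Mathlib.RingTheory.RootsOfUnity.AlgebraicallyClosed
import Mathlib.Analysis.Complex.Polynomial.Basic
import Mathlib.GroupTheory.Abelianization.Defs
import Mathlib.Topology.Algebra.Group.ClosedSubgroup

set_option autoImplicit false
universe u
open Pi1

namespace Groth.Agent.S14176

open W4c1etcurveeff2 in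
/-- Let G be a topological group in which some finite subset generates a dense subgroup, let n ≥ 1, and
let S be the closure of the subgroup generated by all n-th powers and all commutators. Write D for
the group of continuous homomorphisms from G to the discrete cyclic group ℤ/n, that is,
homomorphisms with open kernel (the first cohomology of G with coefficients in the trivial module
ℤ/n), and D^∨ for its ℤ/n-dual, the group of homomorphisms D → ℤ/n. Then: S is carried onto itself
by every group automorphism of G that is a homeomorphism; an element g of G lies in S exactly when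
every element of D kills g, and every element of D^∨ is evaluation at some element of G, so that
evaluation identifies G/S with D^∨; and S is the only closed normal subgroup H of G with G/H
isomorphic to D^∨. (The published statement is for a topologically finitely generated group, calls S
characteristic and does not restrict the competing subgroups H; this row asks the automorphisms to
be homeomorphisms and H to be closed, which is what the argument uses: for the integers with the
p-adic topology times a cyclic group of prime order q ≠ p, the subgroup qℤ × ℤ/q is normal, not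
closed, and has quotient isomorphic to D^∨ ≅ ℤ/q, while S = ℤ × 0.) -/
theorem result
    {G : Type u} [Group G] [TopologicalSpace G] [IsTopologicalGroup G]
    (s : Finset G) (hs : Dense ((Subgroup.closure (s : Set G) : Subgroup G) : Set G))
    (n : ℕ) [NeZero n] (S : Subgroup G) (hS : S = powCommClosure G n) :
    (∀ φ : G ≃* G, Continuous φ → Continuous φ.symm → S.map φ.toMonoidHom = S) ∧
    (∀ g : G, g ∈ S ↔
        ∀ χ : G →* Multiplicative (ZMod n), IsOpen ((χ.ker : Subgroup G) : Set G) → χ g = 1) ∧
    (∀ F : ContChar G n →* Multiplicative (ZMod n), ∃ g : G,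
        ∀ χ : ContChar G n, F χ = (χ.1 : G →* Multiplicative (ZMod n)) g) ∧
    (∀ (H : Subgroup G) [H.Normal], IsClosed (H : Set G) →
        Nonempty (G ⧸ H ≃* (ContChar G n →* Multiplicative (ZMod n))) → H = S) := by
  classical
  subst hS
  set P : Subgroup G := Subgroup.closure (Set.range fun g : G => g ^ n) ⊔ commutator G with hP
  set S := powCommClosure G n with hSdef
  have hPS : P ≤ S := Subgroup.le_topologicalClosure _
  have hSc : IsClosed (S : Set G) := Subgroup.isClosed_topologicalClosure _
  have hpow : ∀ g : G, g ^ n ∈ S := fun g => hPS (Subgroup.mem_sup_left (Subgroup.subset_closure ⟨g, rfl⟩))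
  haveI hN : S.Normal := by
    refine Subgroup.Normal.of_conjugate_fixed fun g => ?_
    ext x
    constructor
    · intro hx
      rw [Subgroup.mem_smul_pointwise_iff_exists] at hx
      obtain ⟨y, hy, rfl⟩ := hx
      have hc : g * y * g⁻¹ * y⁻¹ ∈ S :=
        hPS (Subgroup.mem_sup_right (Subgroup.commutator_mem_commutator (Subgroup.mem_top g) (Subgroup.mem_top y)))
      have := mul_mem hc hy
      rwa [inv_mul_cancel_right] at this
    · intro hx
      rw [Subgroup.mem_smul_pointwise_iff_exists]
      refine ⟨g⁻¹ * x * g, ?_, ?_⟩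
      · have hc : g⁻¹ * x * g⁻¹⁻¹ * x⁻¹ ∈ S :=
          hPS (Subgroup.mem_sup_right (Subgroup.commutator_mem_commutator (Subgroup.mem_top g⁻¹) (Subgroup.mem_top x)))
        have := mul_mem hc hx
        rwa [inv_mul_cancel_right, inv_inv] at this
      · show MulAut.conj g (g⁻¹ * x * g) = x
        simp [mul_assoc]
  letI : CommGroup (G ⧸ S) :=
    { (inferInstance : Group (G ⧸ S)) with
      mul_comm := fun a b => by
        obtain ⟨a, rfl⟩ := QuotientGroup.mk_surjective a
        obtain ⟨b, rfl⟩ := QuotientGroup.mk_surjective b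
        rw [← QuotientGroup.mk_mul, ← QuotientGroup.mk_mul, QuotientGroup.eq]
        have : b⁻¹ * a⁻¹ * b⁻¹⁻¹ * a⁻¹⁻¹ ∈ S :=
          hPS (Subgroup.mem_sup_right (Subgroup.commutator_mem_commutator (Subgroup.mem_top b⁻¹) (Subgroup.mem_top a⁻¹)))
        simpa [mul_assoc] using this }
  have hexp : ∀ q : G ⧸ S, q ^ n = 1 := by
    intro q
    obtain ⟨g, rfl⟩ := QuotientGroup.mk_surjective q
    rw [← QuotientGroup.mk_pow, QuotientGroup.eq_one_iff]
    exact hpow g
  -- the dense finitely generated subgroup has finite image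
  set M : Subgroup (G ⧸ S) := (Subgroup.closure (s : Set G)).map (QuotientGroup.mk' S) with hM
  haveI : Finite M := by
    have hfg : M.FG := ⟨s.image (QuotientGroup.mk' S), by
      rw [hM, MonoidHom.map_closure, Finset.coe_image]⟩
    haveI : Group.FG M := (Group.fg_iff_subgroup_fg M).mpr hfg
    exact CommGroup.finite_of_fg_isMulTorsion M (fun x => isOfFinOrder_iff_pow_eq_one.mpr
      ⟨n, NeZero.pos n, Subtype.ext (by rw [SubmonoidClass.coe_pow]; exact hexp x)⟩)
  haveI : T1Space (G ⧸ S) := by
    haveI : IsClosed (S : Set G) := hSc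
    infer_instance
  have hMtop : ∀ q : G ⧸ S, q ∈ M := by
    intro q
    have hd : DenseRange (QuotientGroup.mk' S) :=
      (QuotientGroup.mk'_surjective S).denseRange
    have hd2 : Dense ((QuotientGroup.mk' S) '' (Subgroup.closure (s : Set G) : Set G)) :=
      hd.dense_image QuotientGroup.continuous_mk hs
    have hcl : IsClosed (M : Set (G ⧸ S)) := (Set.toFinite _).isClosed
    rw [← SetLike.mem_coe, ← hcl.closure_eq]
    exact hd2 q
  haveI : Finite (G ⧸ S) := Finite.of_surjective (fun m : M => (m : G ⧸ S)) fun q => ⟨⟨q, hMtop q⟩, rfl⟩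
  haveI : S.FiniteIndex := Subgroup.finiteIndex_of_finite_quotient
  have hSo : IsOpen (S : Set G) := Subgroup.isOpen_of_isClosed_of_finiteIndex S hSc
  -- characters kill `S`
  have hkill : ∀ χ : G →* Multiplicative (ZMod n), IsOpen ((χ.ker : Subgroup G) : Set G) → S ≤ χ.ker := by
    intro χ hχ
    refine Subgroup.topologicalClosure_minimal _ (sup_le ?_ ?_) (Subgroup.isClosed_of_isOpen _ hχ)
    · rw [Subgroup.closure_le]
      rintro _ ⟨g, rfl⟩
      rw [SetLike.mem_coe, MonoidHom.mem_ker, map_pow]
      exact Multiplicative.toAdd.injective (by rw [toAdd_pow, toAdd_one, nsmul_eq_mul, ZMod.natCast_self, zero_mul])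
    · exact Abelianization.commutator_subset_ker χ
  -- duality
  let μ := rootsOfUnity n ℂ
  have hμ : Nat.card μ = Nat.card (Multiplicative (ZMod n)) := by
    rw [Nat.card_congr (Multiplicative.toAdd), Nat.card_zmod]
    exact HasEnoughRootsOfUnity.natCard_rootsOfUnity ℂ n
  let θ : μ ≃* Multiplicative (ZMod n) := mulEquivOfCyclicCardEq hμ
  have hexpdvd : Monoid.exponent (G ⧸ S) ∣ n := Monoid.exponent_dvd_of_forall_pow_eq_one hexp
  haveI : HasEnoughRootsOfUnity ℂ (Monoid.exponent (G ⧸ S)) := by
    haveI : NeZero (Monoid.exponent (G ⧸ S)) :=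
      ⟨fun h0 => (NeZero.ne n) (Nat.eq_zero_of_zero_dvd (h0 ▸ hexpdvd))⟩
    infer_instance
  let toμ : (G ⧸ S →* ℂˣ) → (G ⧸ S →* Multiplicative (ZMod n)) := fun f =>
    θ.toMonoidHom.comp (f.codRestrict μ fun q => by
      rw [mem_rootsOfUnity, ← map_pow, hexp, map_one])
  have hsep : ∀ q : G ⧸ S, q ≠ 1 → ∃ f : G ⧸ S →* Multiplicative (ZMod n), f q ≠ 1 := by
    intro q hq
    obtain ⟨f, hf⟩ := CommGroup.exists_apply_ne_one_of_hasEnoughRootsOfUnity (G ⧸ S) ℂ hq
    refine ⟨toμ f, fun h => hf ?_⟩
    exact congrArg Subtype.val (θ.injective (h.trans (map_one θ).symm))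
  -- `ContChar` is the dual of the quotient
  have hopen : ∀ f : G ⧸ S →* Multiplicative (ZMod n), f.comp (QuotientGroup.mk' S) ∈ ContChar G n := fun f =>
    Subgroup.isOpen_mono (H₁ := S) (fun x hx => by
      rw [MonoidHom.mem_ker, MonoidHom.comp_apply, QuotientGroup.mk'_apply, (QuotientGroup.eq_one_iff x).mpr hx, map_one]) hSo
  let D : (G ⧸ S →* Multiplicative (ZMod n)) ≃* ContChar G n :=
    { toFun := fun f => ⟨f.comp (QuotientGroup.mk' S), hopen f⟩
      invFun := fun χ => QuotientGroup.lift S χ.1 (hkill χ.1 χ.2)
      left_inv := fun f => MonoidHom.ext fun q => QuotientGroup.induction_on q fun _ => rfl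
      right_inv := fun χ => Subtype.ext (MonoidHom.ext fun _ => rfl)
      map_mul' := fun f g => rfl }
  have hiff : ∀ g : G, g ∈ S ↔ ∀ χ : G →* Multiplicative (ZMod n),
      IsOpen ((χ.ker : Subgroup G) : Set G) → χ g = 1 := by
    refine fun g => ⟨fun hg χ hχ => hkill χ hχ hg, fun h => ?_⟩
    by_contra hg
    obtain ⟨f, hf⟩ := hsep g (fun h1 => hg ((QuotientGroup.eq_one_iff g).mp h1))
    exact hf (h _ (hopen f))
  -- the double dual
  let ev : G ⧸ S →* (ContChar G n →* Multiplicative (ZMod n)) :=
    { toFun := fun q =>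
        { toFun := fun χ => D.symm χ q
          map_one' := by rw [map_one, MonoidHom.one_apply]
          map_mul' := fun χ χ' => by rw [map_mul, MonoidHom.mul_apply] }
      map_one' := MonoidHom.ext fun χ => map_one (D.symm χ)
      map_mul' := fun a b => MonoidHom.ext fun χ => map_mul (D.symm χ) a b }
  have hinj : Function.Injective ev := by
    rw [injective_iff_map_eq_one]
    intro q hq
    by_contra hne
    obtain ⟨f, hf⟩ := hsep q hne
    have := DFunLike.congr_fun hq (D f)
    exact hf (by simpa [ev] using this)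
  have hcardhom : ∀ (A : Type u) [CommGroup A] [Finite A], (∀ a : A, a ^ n = 1) →
      Nat.card (A →* Multiplicative (ZMod n)) = Nat.card A := by
    intro A _ _ hA
    haveI : NeZero (Monoid.exponent A) :=
      ⟨fun h0 => (NeZero.ne n) (Nat.eq_zero_of_zero_dvd (h0 ▸ Monoid.exponent_dvd_of_forall_pow_eq_one hA))⟩
    rw [← Nat.card_congr (CommGroup.monoidHom_mulEquiv_of_hasEnoughRootsOfUnity A ℂ).some.toEquiv]
    refine Nat.card_congr
      { toFun := fun f => (μ.subtype.comp θ.symm.toMonoidHom).comp f
        invFun := fun f => θ.toMonoidHom.comp (f.codRestrict μ fun a => by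
          rw [mem_rootsOfUnity, ← map_pow, hA, map_one])
        left_inv := fun f => MonoidHom.ext fun a => θ.apply_symm_apply _
        right_inv := fun f => MonoidHom.ext fun a => by simp }
  haveI : Finite (G ⧸ S →* Multiplicative (ZMod n)) := Nat.finite_of_card_ne_zero (by
    rw [hcardhom (G ⧸ S) hexp]; exact Nat.card_pos.ne')
  haveI : Finite (ContChar G n) := Finite.of_equiv _ D.toEquiv
  have hcardD : Nat.card (ContChar G n) = Nat.card (G ⧸ S) := by
    rw [← Nat.card_congr D.toEquiv, hcardhom _ hexp]
  have hcardDD : Nat.card (ContChar G n →* Multiplicative (ZMod n)) = Nat.card (G ⧸ S) := by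
    rw [hcardhom (ContChar G n) (fun χ => Subtype.ext (MonoidHom.ext fun g =>
      Multiplicative.toAdd.injective (by
        rw [SubmonoidClass.coe_pow, OneMemClass.coe_one, MonoidHom.pow_apply, MonoidHom.one_apply, toAdd_pow, toAdd_one,
          nsmul_eq_mul, ZMod.natCast_self, zero_mul]))), hcardD]
  haveI : Finite (ContChar G n →* Multiplicative (ZMod n)) :=
    Nat.finite_of_card_ne_zero (by rw [hcardDD]; exact Nat.card_pos.ne')
  have hbij : Function.Bijective ev :=
    hinj.bijective_of_nat_card_le hcardDD.le
  refine ⟨?_, hiff, ?_, ?_⟩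
  · intro φ hφ hφ'
    have key : ∀ ψ : G ≃* G, Continuous ψ → ∀ x ∈ S, ψ x ∈ S := by
      intro ψ hψ x hx
      rw [hiff]
      intro χ hχ
      exact hkill (χ.comp ψ.toMonoidHom) (by exact hχ.preimage hψ) hx
    ext x
    rw [Subgroup.mem_map]
    exact ⟨fun ⟨y, hy, h⟩ => h ▸ key φ hφ y hy,
      fun hx => ⟨φ.symm x, key φ.symm hφ' x hx, φ.apply_symm_apply x⟩⟩
  · intro F
    obtain ⟨q, hq⟩ := hbij.surjective F
    obtain ⟨g, rfl⟩ := QuotientGroup.mk_surjective q
    exact ⟨g, fun χ => (DFunLike.congr_fun hq χ).symm⟩
  · intro H _ hHc hiso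
    obtain ⟨e⟩ := hiso
    let e' : G ⧸ H ≃* G ⧸ S := e.trans (MulEquiv.ofBijective ev hbij).symm
    have hcomm : ∀ a b : G ⧸ H, a * b = b * a := fun a b => e'.injective (by rw [map_mul, map_mul, mul_comm])
    have hSH : S ≤ H := by
      refine Subgroup.topologicalClosure_minimal _ (sup_le ?_ ?_) hHc
      · rw [Subgroup.closure_le]
        rintro _ ⟨g, rfl⟩
        rw [SetLike.mem_coe, ← QuotientGroup.eq_one_iff, QuotientGroup.mk_pow]
        exact e'.injective (by rw [map_pow, hexp, map_one])
      · rw [commutator_def, Subgroup.commutator_le]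
        intro a _ b _
        rw [← QuotientGroup.eq_one_iff]
        simp only [commutatorElement_def, QuotientGroup.mk_mul, QuotientGroup.mk_inv]
        rw [hcomm (a : G ⧸ H) b]
        group
    refine le_antisymm ?_ hSH
    rw [← Subgroup.relIndex_eq_one]
    have h1 := Subgroup.relIndex_mul_index hSH
    have h2 : H.index = S.index := Nat.card_congr e'.toEquiv
    rw [h2] at h1
    exact Nat.eq_of_mul_eq_mul_right (Nat.pos_of_ne_zero Subgroup.FiniteIndex.index_ne_zero) (h1.trans (one_mul _).symm)

end Groth.Agent.S14176
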