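import Groth.Statements.S14177
import Groth.Agent.Purity.Killed
import Mathlib.RingTheory.DedekindDomain.Different
-- import your own Groth.Agent.* helpers here

set_option autoImplicit false
universe u v w
open scoped nonZeroDivisors
open EtAlg

namespace Groth.Agent.S14177
theorem exists_local_root {A : Type u} {K : Type v} {L : Type w} [CommRing A] [IsDedekindDomain A]
    [Field K] [Algebra A K] [IsFractionRing A K]
    [Field L] [Algebra K L] [Algebra A L] [IsScalarTower A K L]
    (n : ℕ) (f : K) (hf : f ≠ 0)
    (I : FractionalIdeal A⁰ K) (hI : FractionalIdeal.spanSingleton A⁰ f = I ^ n)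
    (α : L) (hα : α ^ n = algebraMap K L f) (p : Ideal A) [p.IsPrime] :
    ∃ (β : L) (k : K) (a : A), k ≠ 0 ∧ β = algebraMap K L k * α ∧ a ∉ p ∧ β ^ n = algebraMap A L a := by
  classical
  let φ := algebraMap A K
  have hφ : Function.Injective φ := IsFractionRing.injective A K
  set J := I.num with hJdef
  let d : A := I.den
  have hd : φ d ≠ 0 := (map_ne_zero_iff φ hφ).mpr (nonZeroDivisors.ne_zero I.den.2)
  have hJI : (J : FractionalIdeal A⁰ K) = FractionalIdeal.spanSingleton A⁰ (φ d) * I :=
    (FractionalIdeal.den_mul_self_eq_num' A⁰ K I).symm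
  have hJn : ((J ^ n : Ideal A) : FractionalIdeal A⁰ K) = FractionalIdeal.spanSingleton A⁰ (φ d ^ n * f) := by
    rw [FractionalIdeal.coeIdeal_pow, hJI, mul_pow, ← hI, FractionalIdeal.spanSingleton_pow,
      FractionalIdeal.spanSingleton_mul_spanSingleton]
  haveI : IsDedekindDomain (Localization.AtPrime p) :=
    IsLocalization.isDedekindDomain A p.primeCompl_le_nonZeroDivisors _
  haveI : IsPrincipalIdealRing (Localization.AtPrime p) := IsPrincipalIdealRing.of_finite_maximals
    ((Set.finite_singleton (IsLocalRing.maximalIdeal (Localization.AtPrime p))).subset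
      fun M hM => IsLocalRing.eq_maximalIdeal hM)
  let ψ := algebraMap A (Localization.AtPrime p)
  obtain ⟨y, hy⟩ := (IsPrincipalIdealRing.principal (J.map ψ)).principal
  rw [← Ideal.span] at hy
  obtain ⟨⟨⟨x, hx⟩, t⟩, hxt⟩ := (IsLocalization.mem_map_algebraMap_iff p.primeCompl (Localization.AtPrime p)).mp
    (hy ▸ Ideal.mem_span_singleton_self y : y ∈ J.map ψ)
  have hs : ∀ z ∈ J, ∃ s ∈ p.primeCompl, s * z ∈ Ideal.span {x} := fun z hz => by
    have h1 : ψ z ∈ (Ideal.span {x}).map ψ := by
      have h2 : ψ z ∈ Ideal.span {y} := hy ▸ Ideal.mem_map_of_mem ψ hz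
      rw [Ideal.map_span, Set.image_singleton, Ideal.mem_span_singleton]
      refine dvd_trans ?_ (Ideal.mem_span_singleton.mp h2)
      exact ⟨((IsLocalization.map_units (Localization.AtPrime p) t).unit⁻¹ : (Localization.AtPrime p)ˣ).1,
        by rw [← hxt, mul_assoc, IsUnit.mul_val_inv, mul_one]⟩
    obtain ⟨s, hs, hsz⟩ := (IsLocalization.algebraMap_mem_map_algebraMap_iff p.primeCompl _ _ _).mp h1
    exact ⟨s, hs, hsz⟩
  obtain ⟨G, hG⟩ := IsNoetherian.noetherian J
  have hGJ : ∀ z ∈ G, z ∈ J := fun z hz => hG ▸ Submodule.subset_span hz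
  choose s hsp hsz using hs
  let S := ∏ z ∈ G.attach, s z.1 (hGJ z.1 z.2)
  have hSp : S ∉ p := (prod_mem (fun z _ => hsp z.1 (hGJ z.1 z.2)) : S ∈ p.primeCompl)
  have hSJ : Ideal.span {S} * J ≤ Ideal.span {x} := by
    conv_lhs => rw [← hG]
    show Ideal.span {S} * Ideal.span (G : Set A) ≤ _
    rw [Ideal.span_mul_span, Ideal.span_le]
    rintro _ ⟨_, rfl, z, hz, rfl⟩
    obtain ⟨c, hc⟩ : s z (hGJ z hz) ∣ S := Finset.dvd_prod_of_mem (fun w : {w // w ∈ G} => s w.1 (hGJ w.1 w.2))
      (Finset.mem_attach G ⟨z, hz⟩)
    show S * z ∈ Ideal.span {x}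
    rw [hc, mul_comm _ c, mul_assoc]
    exact Ideal.mul_mem_left _ c (hsz z (hGJ z hz))
  obtain ⟨w, hwJ, hw⟩ := (FractionalIdeal.mem_coeIdeal A⁰).mp
    (hJn.symm ▸ FractionalIdeal.mem_spanSingleton_self A⁰ (φ d ^ n * f) :
      φ d ^ n * f ∈ ((J ^ n : Ideal A) : FractionalIdeal A⁰ K))
  have hx2 : φ (x ^ n) ∈ FractionalIdeal.spanSingleton A⁰ (φ d ^ n * f) := by
    rw [← hJn]
    exact (FractionalIdeal.mem_coeIdeal A⁰).mpr ⟨_, Ideal.pow_mem_pow hx n, rfl⟩
  obtain ⟨b, hb⟩ := (FractionalIdeal.mem_spanSingleton A⁰).mp hx2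
  rw [Algebra.smul_def, ← hw, ← map_mul] at hb
  have hbw : b * w = x ^ n := hφ hb
  have h3 : S ^ n * w ∈ Ideal.span {x ^ n} := by
    rw [← Ideal.span_singleton_pow]
    exact Ideal.pow_right_mono hSJ n ((mul_pow (Ideal.span {S}) J n).symm ▸
      Ideal.mul_mem_mul (Ideal.pow_mem_pow (Ideal.mem_span_singleton_self S) n) hwJ)
  obtain ⟨a, ha⟩ := Ideal.mem_span_singleton'.mp h3
  have hw0 : w ≠ 0 := fun h0 => mul_ne_zero (pow_ne_zero n hd) hf (by rw [← hw, h0, map_zero])
  have hab : a * b = S ^ n := mul_right_cancel₀ hw0 (by rw [mul_assoc, hbw, ha])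
  have hap : a ∉ p := fun h => hSp (Ideal.IsPrime.mem_of_pow_mem ‹_› n (hab ▸ p.mul_mem_right b h))
  rcases eq_or_ne x 0 with hx0 | hx0
  · rcases Nat.eq_zero_or_pos n with rfl | hn
    · exact ⟨α, 1, 1, one_ne_zero, by rw [map_one, one_mul], fun h => ‹p.IsPrime›.ne_top
        ((Ideal.eq_top_iff_one p).mpr h), by rw [pow_zero, map_one]⟩
    · exfalso
      rw [hx0, zero_pow hn.ne', mul_zero] at ha
      exact mul_ne_zero (pow_ne_zero n fun hS0 : S = 0 => hSp (hS0 ▸ p.zero_mem)) hw0 ha.symm
  · refine ⟨algebraMap K L (φ (d * S) / φ x) * α, φ (d * S) / φ x, a, ?_, rfl, hap, ?_⟩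
    · exact div_ne_zero ((map_ne_zero_iff φ hφ).mpr (mul_ne_zero (nonZeroDivisors.ne_zero I.den.2)
        fun hS0 => hSp (hS0 ▸ p.zero_mem))) ((map_ne_zero_iff φ hφ).mpr hx0)
    · rw [mul_pow, hα, ← map_pow, ← map_mul, IsScalarTower.algebraMap_apply A K L]
      refine congrArg _ ?_
      have hφx : φ x ≠ 0 := (map_ne_zero_iff φ hφ).mpr hx0
      have e2 : φ S ^ n * φ w = φ a * φ x ^ n := by rw [← map_pow, ← map_pow, ← map_mul, ← map_mul, ha]
      rw [div_pow, map_mul, mul_pow, div_mul_eq_mul_div, div_eq_iff (pow_ne_zero _ hφx), ← e2, hw]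
      ring


/-- Let A be a Dedekind domain with fraction field K, let n be a natural number invertible in A, let f
be a nonzero element of K whose principal fractional ideal is the n-th power of a fractional ideal I
(the divisor of f is n times a divisor), and let L = K(α) be a field extension of K generated by a
single element α with α^n = f. Then the integral closure of A in L is finite and étale over A. (The
published statement is for the normalisation of an integral smooth curve over a perfect field in
such an extension of its function field; this row states the same for any Dedekind domain, the case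
the local argument covers.) -/
theorem result
    {A : Type u} {K : Type v} {L : Type w} [CommRing A] [IsDedekindDomain A]
    [Field K] [Algebra A K] [IsFractionRing A K]
    [Field L] [Algebra K L] [Algebra A L] [IsScalarTower A K L]
    (n : ℕ) (hn : IsUnit (n : A)) (f : K) (hf : f ≠ 0)
    (I : FractionalIdeal A⁰ K) (hI : FractionalIdeal.spanSingleton A⁰ f = I ^ n)
    (α : L) (hα : α ^ n = algebraMap K L f) (hgen : IntermediateField.adjoin K {α} = ⊤) :
    Algebra.Etale A (integralClosure A L) ∧ Module.Finite A (integralClosure A L) := by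
  classical
  have hn0 : n ≠ 0 := by
    rintro rfl
    rw [Nat.cast_zero, isUnit_zero_iff] at hn
    exact zero_ne_one hn
  have hnK : (n : K) ≠ 0 := by simpa using (hn.map (algebraMap A K)).ne_zero
  have hsep : IsSeparable K α := Polynomial.Separable.of_dvd (Polynomial.separable_X_pow_sub_C f hnK hf)
    (minpoly.dvd K α (by simp [hα]))
  haveI : Algebra.IsSeparable K L := by
    have h := (IntermediateField.isSeparable_adjoin_simple_iff_isSeparable K L).mpr hsep
    rw [hgen] at h
    exact Algebra.IsSeparable.of_algHom K _ (IntermediateField.topEquiv (F := K) (E := L)).symm.toAlgHom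
  haveI : FiniteDimensional K L := by
    have h := IntermediateField.adjoin.finiteDimensional hsep.isIntegral
    rw [hgen] at h
    exact Module.Finite.equiv (IntermediateField.topEquiv (F := K) (E := L)).toLinearEquiv
  let C := integralClosure A L
  haveI hfin : Module.Finite A C := IsIntegralClosure.finite A K L C
  have hAL : Function.Injective (algebraMap A L) := by
    rw [IsScalarTower.algebraMap_eq A K L]
    exact (algebraMap K L).injective.comp (IsFractionRing.injective A K)
  haveI : FaithfulSMul A C := (faithfulSMul_iff_algebraMap_injective A C).mpr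
    fun a b h => hAL (congrArg Subtype.val h)
  haveI : Module.Flat A C := inferInstance
  haveI : Algebra.FinitePresentation A C := Algebra.FinitePresentation.of_finiteType.mp inferInstance
  haveI : Algebra.FormallyUnramified A C := by
    rw [← Algebra.unramifiedLocus_eq_univ_iff]
    refine Set.eq_univ_of_forall fun Q => ?_
    let p := Q.asIdeal.comap (algebraMap A C)
    obtain ⟨β, k, c, hk, hβ, hcp, hβn⟩ := exists_local_root n f hf I hI α hα p
    have hβint : IsIntegral A β := IsIntegral.of_pow (Nat.pos_of_ne_zero hn0) (hβn ▸ isIntegral_algebraMap)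
    let b : C := ⟨β, hβint⟩
    let j : C := (n : C) * b ^ (n - 1)
    have hj : j ∉ Q.asIdeal := fun h => by
      rcases Q.2.mem_or_mem h with h1 | h1
      · exact Q.2.ne_top (Ideal.eq_top_of_isUnit_mem _ h1 (by simpa using hn.map (algebraMap A C)))
      · refine hcp (show algebraMap A C c ∈ Q.asIdeal from ?_)
        rw [show algebraMap A C c = b ^ n from Subtype.ext hβn.symm, ← Nat.sub_add_cancel (Nat.pos_of_ne_zero hn0),
          pow_succ]
        exact Q.asIdeal.mul_mem_right _ h1
    have hbn : b ^ n = algebraMap A C c := Subtype.ext hβn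
    have hjb : j • KaehlerDifferential.D A C b = 0 := by
      have h := congrArg (KaehlerDifferential.D A C) hbn
      rw [Derivation.leibniz_pow, Derivation.map_algebraMap] at h
      rw [show j = (n : C) * b ^ (n - 1) from rfl, mul_smul, Nat.cast_smul_eq_nsmul]
      exact h
    have hgenβ : Algebra.adjoin K {β} = ⊤ := by
      have h1 : IntermediateField.adjoin K {β} = ⊤ := top_le_iff.mp (hgen ▸ IntermediateField.adjoin_le_iff.mpr (by
        intro a ha
        rw [Set.mem_singleton_iff] at ha
        rw [ha]
        have h2 : (algebraMap K L k⁻¹) * β ∈ IntermediateField.adjoin K {β} :=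
          mul_mem (IntermediateField.algebraMap_mem _ _) (IntermediateField.mem_adjoin_simple_self K β)
        have e : algebraMap K L k⁻¹ * β = α := by
          rw [hβ, ← mul_assoc, ← map_mul, inv_mul_cancel₀ hk, map_one, one_mul]
        rwa [e] at h2))
      rw [← IntermediateField.adjoin_simple_toSubalgebra_of_isAlgebraic (Algebra.IsAlgebraic.isAlgebraic β), h1,
        IntermediateField.top_toSubalgebra]
    let G := minpoly K β
    obtain ⟨H, hH⟩ : G ∣ Polynomial.X ^ n - Polynomial.C (algebraMap A K c) :=
      minpoly.dvd K β (by simp [hβn, ← IsScalarTower.algebraMap_apply])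
    obtain ⟨G₀, hG₀⟩ : ∃ G₀ : Polynomial A, G₀.map (algebraMap A K) = G :=
      ⟨minpoly A β, (minpoly.isIntegrallyClosed_eq_field_fractions K L hβint).symm⟩
    obtain ⟨H₀, hH₀⟩ : ∃ H₀ : Polynomial A, H₀.map (algebraMap A K) = H := by
      refine IsIntegrallyClosed.eq_map_mul_C_of_dvd K (Polynomial.monic_X_pow_sub_C c hn0)
        (show H ∣ (Polynomial.X ^ n - Polynomial.C c).map (algebraMap A K) from ⟨G, by
          rw [Polynomial.map_sub, Polynomial.map_pow, Polynomial.map_X, Polynomial.map_C, hH, mul_comm]⟩) |>.imp fun P hP => ?_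
      have hm : H.Monic := (minpoly.monic (Algebra.IsIntegral.isIntegral β)).of_mul_monic_left
        (hH ▸ Polynomial.monic_X_pow_sub_C _ hn0)
      rwa [hm.leadingCoeff, Polynomial.C_1, mul_one] at hP
    have hval : (j : L) = Polynomial.aeval β (Polynomial.derivative G) * Polynomial.aeval β H := by
      have h := congrArg (fun P => Polynomial.aeval β (Polynomial.derivative P)) hH
      simp only [Polynomial.derivative_sub, Polynomial.derivative_X_pow, Polynomial.derivative_C, sub_zero,
        Polynomial.derivative_mul, map_add, map_mul, G, minpoly.aeval, zero_mul, add_zero] at h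
      rw [← h]
      simp [j, b]
    have hmem : ∀ x : C, ∃ P : Polynomial A, (j * x : C) = Polynomial.aeval b P := fun x => by
      have hx : (x : L) ∈ (Algebra.traceForm K L).dualSubmodule (Subalgebra.toSubmodule (Algebra.adjoin A {β})) := by
        rw [LinearMap.BilinForm.mem_dualSubmodule]
        intro y hy
        rw [Submodule.one_eq_range, Algebra.traceForm_apply]
        have hy' : IsIntegral A y := adjoin_le_integralClosure hβint hy
        exact IsIntegrallyClosed.isIntegral_iff.mp (Algebra.isIntegral_trace (IsIntegral.mul x.2 hy'))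
      rw [traceForm_dualSubmodule_adjoin A K hgenβ hβint] at hx
      obtain ⟨z, hz, hzx⟩ := Submodule.mem_smul_pointwise_iff_exists _ _ _ |>.mp hx
      rw [Subalgebra.mem_toSubmodule, Algebra.adjoin_singleton_eq_range_aeval] at hz
      obtain ⟨P, rfl⟩ := hz
      refine ⟨H₀ * P, Subtype.ext ?_⟩
      have hder : Polynomial.aeval β (Polynomial.derivative G) ≠ 0 :=
        (Algebra.IsSeparable.isSeparable K β).aeval_derivative_ne_zero (minpoly.aeval K β)
      rw [show ((Polynomial.aeval b (H₀ * P) : C) : L) = Polynomial.aeval β (H₀ * P) from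
        (Polynomial.aeval_algHom_apply C.val b (H₀ * P)).symm, map_mul, ← Polynomial.aeval_map_algebraMap K β H₀, hH₀]
      show (j : L) * (x : L) = _
      rw [← hzx, smul_eq_mul, hval]
      show Polynomial.aeval β (Polynomial.derivative (minpoly K β)) * Polynomial.aeval β H *
        ((Polynomial.aeval β (Polynomial.derivative (minpoly K β)))⁻¹ * Polynomial.aeval β P) = _
      rw [mul_comm _ (Polynomial.aeval β H), mul_assoc, ← mul_assoc _ (_⁻¹), mul_inv_cancel₀ hder, one_mul]
    have hjjb : ∀ P : Polynomial A, j • KaehlerDifferential.D A C (Polynomial.aeval b P) = 0 := fun P => by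
      rw [Derivation.map_aeval, smul_comm, hjb, smul_zero]
    have hk' : Groth.Purity.Killed A C (j * j) := fun x => by
      obtain ⟨P, hP⟩ := hmem x
      have h1 := hjjb P
      rw [← hP, Derivation.leibniz, smul_add] at h1
      have hjj : j • KaehlerDifferential.D A C j = 0 := by
        have e : j = Polynomial.aeval b (Polynomial.C (n : A) * Polynomial.X ^ (n - 1)) := by simp [j]
        conv_lhs => arg 2; rw [e]
        exact hjjb _
      rw [smul_comm j x, hjj, smul_zero, add_zero, smul_smul] at h1
      exact h1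
    exact Groth.Purity.isUnramifiedAt_of_killed hk' Q.asIdeal fun h => (Q.2.mem_or_mem h).elim hj hj
  exact ⟨Algebra.Etale.of_formallyUnramified_of_flat, hfin⟩

end Groth.Agent.S14177
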