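import Groth.Statements.S14181
-- import your own Groth.Agent.* helpers here

set_option autoImplicit false
universe u
open CategoryTheory
open GalCoh

namespace Groth.Agent.S14181

/-- Let G be a group with a finite normal subgroup P, k a commutative ring and A a k-linear
representation of G such that multiplication by the order of P is a bijection of A. Then the
inflation map on 1-cocycles (crossed homomorphisms) Z¹(G/P, A^P) → Z¹(G, A) has a k-linear left
inverse. (The published statement is for the inertia group of a Galois cover of smooth curves at a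
point, its normal Sylow p-subgroup P and a module of n-torsion with n prime to p; the argument uses
only that the order of P acts invertibly, which is the hypothesis taken here.) -/
theorem result
    {k G : Type u} [CommRing k] [Group G] (A : Rep.{u} k G) (P : Subgroup G) [P.Normal] [Finite P]
    (hP : Function.Bijective fun a : A => (Nat.card P : k) • a) :
    ∃ r : ModuleCat.of k (groupCohomology.cocycles₁ A) ⟶
        ModuleCat.of k (groupCohomology.cocycles₁ (A.quotientToInvariants P)),
      (groupCohomology.mapCocycles₁ (QuotientGroup.mk' P) (Rep.ofHom (A.ρ.quotientToInvariants_lift P)) :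
          ModuleCat.of k (groupCohomology.cocycles₁ (A.quotientToInvariants P)) ⟶
            ModuleCat.of k (groupCohomology.cocycles₁ A)) ≫ r = 𝟙 _ := by
  classical
  have := Fintype.ofFinite P
  let N : k := (Nat.card P : k)
  let u : A ≃ₗ[k] A := LinearEquiv.ofBijective (N • LinearMap.id) hP
  let E : A →ₗ[k] A := u.symm.toLinearMap ∘ₗ ∑ p : P, A.ρ p
  have hu : ∀ a, u a = N • a := fun a => rfl
  have hEapp : ∀ a, u (E a) = ∑ p : P, A.ρ p a := fun a => by simp [E]
  have hequiv : ∀ (g : G) (a : A), E (A.ρ g a) = A.ρ g (E a) := by
    intro g a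
    apply u.injective
    rw [hEapp, hu, ← map_smul, ← hu, hEapp, map_sum]
    refine Fintype.sum_equiv (MulAut.conjNormal g⁻¹).toEquiv _ _ fun p => ?_
    rw [MulEquiv.toEquiv_eq_coe, EquivLike.coe_coe, MulAut.conjNormal_apply, ← Module.End.mul_apply, ← Module.End.mul_apply,
      ← map_mul, ← map_mul]
    congr 2
    group
  have hfix : ∀ (p : P) (a : A), A.ρ p (E a) = E a := by
    intro p a
    apply u.injective
    rw [hu, ← map_smul, ← hu, hEapp, map_sum]
    refine Fintype.sum_equiv (Equiv.mulLeft p) _ _ fun q => ?_
    rw [← Module.End.mul_apply, ← map_mul]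
    rfl
  have hinv : ∀ a : A, (∀ p : P, A.ρ p a = a) → E a = a := by
    intro a ha
    apply u.injective
    rw [hEapp, hu, Finset.sum_congr rfl fun p _ => ha p, Finset.sum_const, Finset.card_univ,
      ← Nat.card_eq_fintype_card, Nat.cast_smul_eq_nsmul k]
  have key : ∀ (f : groupCohomology.cocycles₁ A) (g : G), E (f ((g : G ⧸ P).out)) = E (f g) := by
    intro f g
    obtain ⟨p, hp⟩ := QuotientGroup.mk_out_eq_mul P g
    have hhom : ∀ m : ℕ, E (f (((p ^ m : P) : G))) = m • E (f (p : G)) := by
      intro m
      induction m with
      | zero => rw [pow_zero, Subgroup.coe_one, groupCohomology.cocycles₁_map_one, map_zero, zero_smul]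
      | succ m ih =>
        rw [pow_succ, Subgroup.coe_mul, (groupCohomology.mem_cocycles₁_iff f).mp f.2, map_add, hequiv, hfix, ih,
          succ_nsmul']
    have h0 : E (f (p : G)) = 0 := by
      have h := hhom (Nat.card P)
      rw [pow_card_eq_one', Subgroup.coe_one, groupCohomology.cocycles₁_map_one, map_zero] at h
      refine hP.1 ?_
      show N • E (f (p : G)) = N • (0 : A)
      rw [smul_zero, Nat.cast_smul_eq_nsmul k, ← h]
    rw [hp, (groupCohomology.mem_cocycles₁_iff f).mp f.2, map_add, hequiv, h0, map_zero, zero_add]
  let r : groupCohomology.cocycles₁ A →ₗ[k] groupCohomology.cocycles₁ (A.quotientToInvariants P) :=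
    { toFun := fun f => ⟨fun q => (⟨E (f q.out), fun p => hfix p _⟩ : (A.quotientToInvariants P : Rep k (G ⧸ P))),
        (groupCohomology.mem_cocycles₁_iff _).mpr fun x y => by
          induction x using QuotientGroup.induction_on with | _ x => ?_
          induction y using QuotientGroup.induction_on with | _ y => ?_
          refine Subtype.ext ?_
          show E (f (((x : G ⧸ P) * y).out)) = A.ρ x (E (f (y : G ⧸ P).out)) + E (f (x : G ⧸ P).out)
          rw [← QuotientGroup.mk_mul, key, key, key, (groupCohomology.mem_cocycles₁_iff f).mp f.2, map_add, hequiv]⟩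
      map_add' := fun f f' => Subtype.ext (funext fun q => Subtype.ext (map_add E _ _))
      map_smul' := fun c f => Subtype.ext (funext fun q => Subtype.ext (map_smul E _ _)) }
  refine ⟨ModuleCat.ofHom r, ModuleCat.hom_ext (LinearMap.ext fun φ => Subtype.ext (funext fun q => Subtype.ext ?_))⟩
  induction q using QuotientGroup.induction_on with | _ g => ?_
  show E (((φ : G ⧸ P → _) ((((g : G ⧸ P).out) : G) : G ⧸ P)).1) = _
  rw [QuotientGroup.out_eq', hinv _ ((φ (g : G ⧸ P)).2)]
  rfl

end Groth.Agent.S14181
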