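import Groth.Statements.S14184
import Groth.Agent.MilnorKLambda.Recip.WeilPt

set_option autoImplicit false
universe u
open CategoryTheory AlgebraicGeometry
open LocSym

namespace Groth.Agent.S14184

/-- Let k be an algebraically closed field and X a smooth proper integral curve over k (structure
morphism c, dimension one); points are k-points and ord_x is the valuation at x. Let n ≥ 1, let Z be
a finite set of points, let f₁, f₂ be nonzero rational functions and D₁, D₁′, D₂ divisors (finitely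
supported integer-valued functions on points) with n·D₁ = div(f₁) + D₁′, D₁′ supported on Z, n·D₂ =
div(f₂), f₂ taking the value 1 at every point of Z, and div(f₁) and D₂ with disjoint supports. Let
v₁(x) ∈ kˣ be the value of f₁ at each point of the support of D₂ and v₂(x) ∈ kˣ the value of f₂ at
each point of the support of D₁. Then the quotient of ∏_x v₁(x)^{D₂(x)} by ∏_x v₂(x)^{D₁(x)} is an
n-th root of unity: its n-th power is 1. (This quotient f₁(D₂)/f₂(D₁) is the generalised Weil
pairing of the classes of (D₁, D₁′, f₁) and D₂; the published statement also normalises f₁, f₂ at a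
base point, which is not needed for this assertion.) -/
theorem result
    (k : Type u) [Field k] [IsAlgClosed k] (X : Scheme.{u}) [IsIntegral X]
    (c : X ⟶ Spec (CommRingCat.of k)) [IsProper c] [Smooth c] (hdim : topologicalKrullDim X = 1)
    (n : ℕ) (hn : 1 ≤ n) (Z : Finset (LocSym.Pt c))
    (f₁ f₂ : X.functionField) (hf₁ : f₁ ≠ 0) (hf₂ : f₂ ≠ 0)
    (D₁ D₁' D₂ : LocSym.Pt c →₀ ℤ)
    (hD₁ : ∀ x : LocSym.Pt c, (n : ℤ) * D₁ x = x.ord f₁ + D₁' x) (hD₁' : D₁'.support ⊆ Z)
    (hD₂ : ∀ x : LocSym.Pt c, (n : ℤ) * D₂ x = x.ord f₂)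
    (hf₂Z : ∀ x ∈ Z, LocSym.HasValueAt x f₂ 1)
    (hdisj : ∀ x : LocSym.Pt c, x.ord f₁ = 0 ∨ D₂ x = 0)
    (v₁ v₂ : LocSym.Pt c → kˣ)
    (hv₁ : ∀ x ∈ D₂.support, LocSym.HasValueAt x f₁ (v₁ x : k))
    (hv₂ : ∀ x ∈ D₁.support, LocSym.HasValueAt x f₂ (v₂ x : k)) :
    ((D₂.prod fun x e => v₁ x ^ e) / (D₁.prod fun x e => v₂ x ^ e)) ^ n = 1 := by
  classical
  obtain ⟨B⟩ := MilnorKLambda.Recip.nonempty_bridge c hdim
  letI := B.alg
  set sf := fun x : LocSym.Pt c => MilnorKLambda.Recip.symb (B.e x) f₁ f₂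
  set A : LocSym.Pt c → k := fun x => ((v₁ x : kˣ) : k) ^ ((n : ℤ) * D₂ x)
  set C : LocSym.Pt c → k := fun x => ((v₂ x : kˣ) : k) ^ ((n : ℤ) * D₁ x)
  have key : ∀ x, sf x * C x = A x := fun x => by
    by_cases h2 : D₂ x = 0
    · have ho2 : x.ord f₂ = 0 := by rw [← hD₂ x, h2, mul_zero]
      simp only [sf, A, C, h2, mul_zero, zpow_zero]
      by_cases h1 : D₁ x = 0
      · simp only [h1, mul_zero, zpow_zero, mul_one]
        by_cases hz : D₁' x = 0
        · exact MilnorKLambda.Recip.symb_zero hdim B hf₁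
            (by have := hD₁ x; rw [h1, hz] at this; simpa using this.symm) ho2
        · rw [MilnorKLambda.Recip.symb_right hdim B one_ne_zero hf₁ (hf₂Z x (hD₁' (Finsupp.mem_support_iff.2 hz))),
            one_zpow, inv_one]
      · have hv := hv₂ x (Finsupp.mem_support_iff.2 h1)
        rw [MilnorKLambda.Recip.symb_right hdim B (v₂ x).ne_zero hf₁ hv]
        by_cases hz : D₁' x = 0
        · rw [hD₁ x, hz, add_zero, inv_mul_cancel₀ (zpow_ne_zero _ (v₂ x).ne_zero)]
        · rw [MilnorKLambda.Recip.hasValueAt_unique hdim hv (hf₂Z x (hD₁' (Finsupp.mem_support_iff.2 hz))),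
            one_zpow, one_zpow, inv_one, one_mul]
    · have ho1 : x.ord f₁ = 0 := (hdisj x).resolve_right h2
      have ho2 : x.ord f₂ ≠ 0 := by
        rw [← hD₂ x]; exact mul_ne_zero (by omega) h2
      have hz : D₁' x = 0 := by
        by_contra hz
        exact ho2 (MilnorKLambda.Recip.ord_zero_of_value hdim one_ne_zero
          (hf₂Z x (hD₁' (Finsupp.mem_support_iff.2 hz)))).2
      have h1 : D₁ x = 0 := by
        have h := hD₁ x
        rw [ho1, hz, add_zero] at h
        exact (mul_eq_zero.1 h).resolve_left (by omega)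
      simp only [sf, A, C, h1, mul_zero, zpow_zero, mul_one]
      rw [MilnorKLambda.Recip.symb_left hdim B (v₁ x).ne_zero (hv₁ x (Finsupp.mem_support_iff.2 h2)), ← hD₂ x]
  have hA : (Function.mulSupport A).Finite := D₂.support.finite_toSet.subset fun x hx => by
    rw [Finset.mem_coe, Finsupp.mem_support_iff]
    intro h; exact hx (by simp [A, h])
  have hC : (Function.mulSupport C).Finite := D₁.support.finite_toSet.subset fun x hx => by
    rw [Finset.mem_coe, Finsupp.mem_support_iff]
    intro h; exact hx (by simp [C, h])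
  have hprod : ∏ᶠ x, C x = ∏ᶠ x, A x := by
    calc ∏ᶠ x, C x = (∏ᶠ x, sf x) * ∏ᶠ x, C x := by
          rw [MilnorKLambda.Recip.finprod_symb hdim B hf₁ hf₂, one_mul]
      _ = ∏ᶠ x, sf x * C x := (finprod_mul_distrib (MilnorKLambda.Recip.finite_symb hdim B hf₁) hC).symm
      _ = ∏ᶠ x, A x := finprod_congr key
  refine Units.ext ?_
  rw [Units.val_pow_eq_pow_val, Units.val_div_eq_div_val, Units.val_one, div_pow, div_eq_one_iff_eq (pow_ne_zero _ (Units.ne_zero _))]
  rw [Finsupp.prod, Finsupp.prod, Units.coe_prod, Units.coe_prod, ← Finset.prod_pow, ← Finset.prod_pow]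
  have e : ∀ (v : LocSym.Pt c → kˣ) (D : LocSym.Pt c →₀ ℤ),
      ∏ᶠ x, ((v x : kˣ) : k) ^ ((n : ℤ) * D x) = ∏ x ∈ D.support, ((v x ^ D x : kˣ) : k) ^ n := fun v D => by
    rw [finprod_eq_prod_of_mulSupport_subset _ (s := D.support) fun x hx => by
      rw [Finset.mem_coe, Finsupp.mem_support_iff]
      intro h; exact hx (by simp [h])]
    refine Finset.prod_congr rfl fun x _ => ?_
    rw [Units.val_zpow_eq_zpow_val, ← zpow_natCast, ← zpow_mul, mul_comm]
  rw [← e v₁ D₂, ← e v₂ D₁]
  exact hprod.symm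

end Groth.Agent.S14184
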