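import Groth.Statements.S14188
import Groth.Agent.Flatmor4.GenericDense

set_option autoImplicit false
universe u
open CategoryTheory CategoryTheory.Limits AlgebraicGeometry
open FlatMor

namespace Groth.Agent.S14188

/-- Let T be an integral scheme with generic point η, let Y and Z be schemes flat over T with Z
separated over T, and let ψ : Y_η → Z be a T-morphism from the generic fibre Y_η = Y ×_T Spec
O_{T,η} (equivalently, an η-morphism Y_η → Z_η). Let gr : Y_η → Y ×_T Z be the graph of ψ, the
morphism whose components are the projection Y_η → Y and ψ, and let Γ ⊆ Y ×_T Z be the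
scheme-theoretic image of gr (the schematic closure of the graph). Then ψ extends to a T-morphism φ
: Y → Z, meaning that the composite Y_η → Y → Z is ψ, if and only if the composite of the inclusion
Γ → Y ×_T Z with the first projection is an isomorphism Γ ≅ Y. -/
theorem result (T Y Z : Scheme.{u}) [IsIntegral T]
    (pY : Y ⟶ T) (pZ : Z ⟶ T) [Flat pY] [Flat pZ] [IsSeparated pZ]
    (ψ : pullback pY (T.fromSpecStalk (genericPoint T)) ⟶ Z)
    (hψ : ψ ≫ pZ = pullback.fst pY (T.fromSpecStalk (genericPoint T)) ≫ pY)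
    (gr : pullback pY (T.fromSpecStalk (genericPoint T)) ⟶ pullback pY pZ)
    (hgr₁ : gr ≫ pullback.fst pY pZ = pullback.fst pY (T.fromSpecStalk (genericPoint T)))
    (hgr₂ : gr ≫ pullback.snd pY pZ = ψ) :
    (∃ φ : Y ⟶ Z, φ ≫ pZ = pY ∧ pullback.fst pY (T.fromSpecStalk (genericPoint T)) ≫ φ = ψ) ↔
      IsIso (gr.imageι ≫ pullback.fst pY pZ) := by
  haveI : Flat (T.fromSpecStalk (genericPoint T)) := Groth.PropsBasic2.flat_fromSpecStalk _
  set q := pullback.fst pY (T.fromSpecStalk (genericPoint T))
  constructor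
  · rintro ⟨φ, hφ, hφψ⟩
    let Γφ : Y ⟶ pullback pY pZ := pullback.lift (𝟙 Y) φ (by rw [Category.id_comp, hφ])
    have hfst : Γφ ≫ pullback.fst pY pZ = 𝟙 Y := pullback.lift_fst _ _ _
    haveI : IsClosedImmersion (Γφ ≫ pullback.fst pY pZ) := by rw [hfst]; infer_instance
    haveI : IsClosedImmersion Γφ := IsClosedImmersion.of_comp Γφ (pullback.fst pY pZ)
    have hgr : gr = q ≫ Γφ := by
      apply pullback.hom_ext
      · rw [hgr₁, Category.assoc, hfst, Category.comp_id]
      · rw [hgr₂, Category.assoc, pullback.lift_snd, hφψ]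
    have hker : gr.ker = Γφ.ker := by
      rw [hgr]
      refine congrArg Scheme.IdealSheafData.ofIdeals (funext fun U => ?_)
      ext s
      rw [RingHom.mem_ker, RingHom.mem_ker]
      show q.app _ (Γφ.app U s) = 0 ↔ _
      exact map_eq_zero_iff (q.app _).hom (Groth.Flatmor4.app_injective_of_generic_mem_range pY q
        (fun z hz => Groth.Flatmor4.mem_range_pullback_fst_fromSpecStalk pY _ z hz) _)
    have key : ∀ I : (pullback pY pZ).IdealSheafData, I = Γφ.ker →
        IsIso (I.subschemeι ≫ pullback.fst pY pZ) := by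
      rintro I rfl
      haveI : IsIso (Γφ.toImage ≫ Γφ.ker.subschemeι ≫ pullback.fst pY pZ) := by
        rw [← Category.assoc, Γφ.toImage_imageι, hfst]; infer_instance
      exact IsIso.of_isIso_comp_left Γφ.toImage _
    exact key _ hker
  · intro hiso
    refine ⟨inv (gr.imageι ≫ pullback.fst pY pZ) ≫ gr.imageι ≫ pullback.snd pY pZ, ?_, ?_⟩
    · simp only [Category.assoc, ← pullback.condition]
      rw [IsIso.inv_comp_eq, Category.assoc]
    · have hq : q = gr.toImage ≫ gr.imageι ≫ pullback.fst pY pZ := by
        rw [← Category.assoc, gr.toImage_imageι, hgr₁]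
      rw [hq, Category.assoc, IsIso.hom_inv_id_assoc, ← Category.assoc, gr.toImage_imageι, hgr₂]

end Groth.Agent.S14188
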