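import Groth.Statements.S14189
import Groth.Agent.Flatmor4.GenericDense
import Mathlib.AlgebraicGeometry.Sites.Fpqc

set_option autoImplicit false
universe u
open CategoryTheory CategoryTheory.Limits AlgebraicGeometry
open FlatMor

namespace Groth.Agent.S14189

/-- Let T be an integral scheme with generic point η, let Y and Z be schemes flat over T with Z
separated over T, and let ψ : Y_η → Z be a T-morphism from the generic fibre Y_η = Y ×_T Spec
O_{T,η}. Let g : T' → T be flat, surjective and quasi-compact, and let φ' : Y_{T'} → Z_{T'} be a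
T'-morphism which agrees with ψ over T' ×_T η, in the sense that on Y_{T'} ×_Y Y_η = Y ×_T T' ×_T
Spec O_{T,η} the composite of the first projection with φ' and with Z_{T'} → Z equals the composite
of the second projection with ψ. Then ψ extends to a T-morphism φ : Y → Z, one whose composite with
Y_η → Y is ψ. (The published statement is an equivalence and also records that an extension, when it
exists, is unique; the converse direction, that an extension over T base-changes to such a φ' over
any such T', is immediate, and this row states the existence direction only.) -/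
theorem result (T Y Z T' : Scheme.{u}) [IsIntegral T]
    (pY : Y ⟶ T) (pZ : Z ⟶ T) [Flat pY] [Flat pZ] [IsSeparated pZ]
    (ψ : pullback pY (T.fromSpecStalk (genericPoint T)) ⟶ Z)
    (hψ : ψ ≫ pZ = pullback.fst pY (T.fromSpecStalk (genericPoint T)) ≫ pY)
    (g : T' ⟶ T) [Flat g] [Surjective g] [QuasiCompact g]
    (φ' : pullback pY g ⟶ pullback pZ g) (hφ' : φ' ≫ pullback.snd pZ g = pullback.snd pY g)
    (hagree : pullback.fst (pullback.fst pY g) (pullback.fst pY (T.fromSpecStalk (genericPoint T))) ≫ φ' ≫ pullback.fst pZ g =
      pullback.snd (pullback.fst pY g) (pullback.fst pY (T.fromSpecStalk (genericPoint T))) ≫ ψ) :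
    ∃ φ : Y ⟶ Z, φ ≫ pZ = pY ∧ pullback.fst pY (T.fromSpecStalk (genericPoint T)) ≫ φ = ψ := by
  haveI : Flat (T.fromSpecStalk (genericPoint T)) := Groth.PropsBasic2.flat_fromSpecStalk _
  set π := pullback.fst pY g
  set qY := pullback.fst pY (T.fromSpecStalk (genericPoint T))
  let Φ : pullback pY g ⟶ Z := φ' ≫ pullback.fst pZ g
  have hΦ : Φ ≫ pZ = π ≫ pY := by
    simp only [Φ, Category.assoc]
    rw [pullback.condition, reassoc_of% hφ', ← pullback.condition]
  let a := pullback.fst π π
  let b := pullback.snd π π
  let p := a ≫ π ≫ pY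
  have hab : a ≫ π = b ≫ π := pullback.condition
  haveI : Flat p := by dsimp [p, a]; infer_instance
  have key : a ≫ Φ = b ≫ Φ := by
    let q := pullback.fst p (T.fromSpecStalk (genericPoint T))
    let l : pullback p (T.fromSpecStalk (genericPoint T)) ⟶ pullback pY (T.fromSpecStalk (genericPoint T)) :=
      pullback.lift (q ≫ a ≫ π) (pullback.snd _ _) (by
        simp only [Category.assoc]; exact pullback.condition)
    have hcmp : ∀ c : pullback π π ⟶ pullback pY g, c ≫ π = a ≫ π → q ≫ c ≫ Φ = l ≫ ψ := by
      intro c hc
      let r := pullback.lift (f := π) (g := qY) (q ≫ c) l (by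
        simp only [Category.assoc, hc, l, qY, pullback.lift_fst])
      have := congrArg (r ≫ ·) hagree
      simp only [r] at this
      erw [pullback.lift_fst_assoc, pullback.lift_snd_assoc] at this
      simpa only [Φ, Category.assoc] using this
    let f₁ : Over.mk p ⟶ Over.mk pZ := Over.homMk (a ≫ Φ) (by
      show (a ≫ Φ) ≫ pZ = p
      rw [Category.assoc, hΦ])
    let f₂ : Over.mk p ⟶ Over.mk pZ := Over.homMk (b ≫ Φ) (by
      show (b ≫ Φ) ≫ pZ = p
      rw [Category.assoc, hΦ, ← Category.assoc, ← hab, Category.assoc])
    haveI : IsSeparated (Over.mk pZ).hom := ‹IsSeparated pZ›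
    haveI : IsClosedImmersion (equalizer.ι f₁ f₂).left := inferInstance
    let q' : Over.mk (q ≫ p) ⟶ Over.mk p := Over.homMk q rfl
    let e := equalizer.lift q' (show q' ≫ f₁ = q' ≫ f₂ by
      ext
      show q ≫ a ≫ Φ = q ≫ b ≫ Φ
      rw [hcmp a rfl, hcmp b hab.symm])
    have he : q = e.left ≫ (equalizer.ι f₁ f₂).left := by
      rw [← Over.comp_left, equalizer.lift_ι]; rfl
    haveI : IsIso (equalizer.ι f₁ f₂).left := by
      rw [IsClosedImmersion.isIso_iff_ker_eq_bot, eq_bot_iff]
      intro U s hs
      let U' : (pullback π π).Opens := U.1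
      have h1 : (equalizer.ι f₁ f₂).left.app U s = 0 :=
        RingHom.mem_ker.1 ((equalizer.ι f₁ f₂).left.ideal_ker_le U hs)
      have h3 : q.app U' s = 0 := by
        rw [Scheme.Hom.congr_app he U']
        erw [ConcreteCategory.comp_apply, ConcreteCategory.comp_apply, h1, map_zero, map_zero]
      have h4 := Groth.Flatmor4.app_injective_of_generic_mem_range p q
        (fun z hz => Groth.Flatmor4.mem_range_pullback_fst_fromSpecStalk _ _ z hz) U'
      exact (Submodule.mem_bot _).2 (h4 (h3.trans (map_zero _).symm))
    rw [← cancel_epi (equalizer.ι f₁ f₂).left]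
    exact congrArg CommaMorphism.left (equalizer.condition f₁ f₂)
  have hdesc : ∀ {W : Scheme.{u}} (g₁ g₂ : W ⟶ pullback pY g), g₁ ≫ π = g₂ ≫ π → g₁ ≫ Φ = g₂ ≫ Φ := by
    intro W g₁ g₂ h
    have := congrArg (pullback.lift g₁ g₂ h ≫ ·) key
    simp only [a, b] at this
    erw [pullback.lift_fst_assoc, pullback.lift_snd_assoc] at this
    exact this
  haveI : Flat π := by dsimp [π]; infer_instance
  haveI : Surjective π := by dsimp [π]; infer_instance
  haveI : QuasiCompact π := by dsimp [π]; infer_instance
  refine ⟨EffectiveEpi.desc π Φ hdesc, ?_, ?_⟩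
  · rw [← cancel_epi π, EffectiveEpi.fac_assoc, hΦ]
  · haveI : Flat (pullback.snd π qY) := by infer_instance
    haveI : Surjective (pullback.snd π qY) := by infer_instance
    haveI : QuasiCompact (pullback.snd π qY) := by infer_instance
    rw [← cancel_epi (pullback.snd π qY), ← hagree, ← pullback.condition_assoc, EffectiveEpi.fac]

end Groth.Agent.S14189
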