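import Groth.Statements.S14192
import Mathlib

set_option autoImplicit false
open PowerSeries
open StackCount

namespace Groth.Agent.S14192

/-- Let R = Σ_n r_n X^n be a Laurent polynomial with integer coefficients and q > 1 an integer. In the
ring of formal power series in t over ℚ, the exponential of Σ_{v ≥ 1} R(q^v) t^v / v equals the
finite product Π_n (1 - q^n t)^(-r_n). Stated here with denominators cleared: the exponential series
multiplied by Π_{n : r_n > 0} (1 - q^n t)^(r_n) equals Π_{n : r_n < 0} (1 - q^n t)^(-r_n) (each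
factor 1 - q^n t is a unit, so this is equivalent). -/
theorem result (R : LaurentPolynomial ℤ) (q : ℤ) (hq : 1 < q) :
    (PowerSeries.exp ℚ).subst
        (PowerSeries.mk fun v : ℕ => if v = 0 then (0 : ℚ)
          else (R.coeff.sum fun (n : ℤ) (r : ℤ) => (r : ℚ) * (q : ℚ) ^ (n * (v : ℤ))) / (v : ℚ))
      * ∏ n ∈ R.coeff.support, (1 - PowerSeries.C ((q : ℚ) ^ n) * PowerSeries.X) ^ (R.coeff n).toNat
    = ∏ n ∈ R.coeff.support, (1 - PowerSeries.C ((q : ℚ) ^ n) * PowerSeries.X) ^ (-(R.coeff n)).toNat := by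
  classical
  set L : PowerSeries ℚ := PowerSeries.mk fun v : ℕ => if v = 0 then (0 : ℚ)
          else (R.coeff.sum fun (n : ℤ) (r : ℤ) => (r : ℚ) * (q : ℚ) ^ (n * (v : ℤ))) / (v : ℚ) with hL
  have hL0 : PowerSeries.constantCoeff L = 0 := by simp [hL]
  have hsub : PowerSeries.HasSubst L := PowerSeries.HasSubst.of_constantCoeff_zero' hL0
  set c : ℤ → ℚ := fun n => (q : ℚ) ^ n
  set h : ℤ → PowerSeries ℚ := fun n => -(PowerSeries.C (c n)) * PowerSeries.mk (fun k => c n ^ k) with hh
  have hfac : ∀ n, PowerSeries.derivative ℚ (1 - PowerSeries.C (c n) * PowerSeries.X) =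
      h n * (1 - PowerSeries.C (c n) * PowerSeries.X) := by
    intro n
    have hgeo : PowerSeries.mk (fun k => c n ^ k) * (1 - PowerSeries.C (c n) * PowerSeries.X) = 1 := by
      ext k
      cases k with
      | zero => simp
      | succ k =>
        rw [mul_sub, mul_one, map_sub, ← mul_assoc, PowerSeries.coeff_succ_mul_X,
          PowerSeries.coeff_mul_C, PowerSeries.coeff_mk, PowerSeries.coeff_mk, PowerSeries.coeff_one,
          if_neg (Nat.succ_ne_zero k), pow_succ, sub_self]
    rw [hh, mul_assoc, hgeo, mul_one, map_sub, Derivation.map_one_eq_zero, zero_sub, Derivation.leibniz,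
      PowerSeries.derivative_C, PowerSeries.derivative_X]
    simp
  have hprod : ∀ (e : ℤ → ℕ) (s : Finset ℤ),
      PowerSeries.derivative ℚ (∏ n ∈ s, (1 - PowerSeries.C (c n) * PowerSeries.X) ^ e n) =
        (∑ n ∈ s, (e n : PowerSeries ℚ) * h n) * ∏ n ∈ s, (1 - PowerSeries.C (c n) * PowerSeries.X) ^ e n := by
    intro e s
    induction s using Finset.induction_on with
    | empty => simp
    | insert n s hn ih =>
      rw [Finset.prod_insert hn, Finset.sum_insert hn, Derivation.leibniz, ih]
      have hp : PowerSeries.derivative ℚ ((1 - PowerSeries.C (c n) * PowerSeries.X) ^ e n) =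
          (e n : PowerSeries ℚ) * h n * (1 - PowerSeries.C (c n) * PowerSeries.X) ^ e n := by
        rw [PowerSeries.derivative_pow, hfac n]
        rcases Nat.eq_zero_or_pos (e n) with h0 | h0
        · simp [h0]
        · obtain ⟨m, hm⟩ := Nat.exists_eq_add_of_le' h0
          rw [hm, Nat.add_sub_cancel, pow_succ]
          ring
      rw [hp, smul_eq_mul, smul_eq_mul]
      ring
  have hLd : PowerSeries.derivative ℚ L = -∑ n ∈ R.coeff.support, ((R.coeff n : ℚ)) • h n := by
    ext k
    rw [PowerSeries.coeff_derivative, map_neg, map_sum, hL, PowerSeries.coeff_mk,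
      if_neg (Nat.succ_ne_zero k), Finsupp.sum, ← Finset.sum_neg_distrib]
    push_cast
    rw [div_mul_cancel₀ _ (Nat.cast_add_one_ne_zero k : ((k : ℚ) + 1) ≠ 0)]
    refine Finset.sum_congr rfl fun n _ => ?_
    simp only [hh, PowerSeries.coeff_smul, neg_mul, map_neg, PowerSeries.coeff_C_mul,
      PowerSeries.coeff_mk, smul_eq_mul, mul_neg, neg_neg, c]
    rw [zpow_mul, ← pow_succ', ← zpow_natCast ((q : ℚ) ^ n) (k + 1)]
    push_cast
    ring
  set P1 : PowerSeries ℚ := ∏ n ∈ R.coeff.support, (1 - PowerSeries.C (c n) * PowerSeries.X) ^ (R.coeff n).toNat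
  set P2 : PowerSeries ℚ := ∏ n ∈ R.coeff.support, (1 - PowerSeries.C (c n) * PowerSeries.X) ^ (-(R.coeff n)).toNat
  set E : PowerSeries ℚ := (PowerSeries.exp ℚ).subst L
  have hE : PowerSeries.derivative ℚ E = PowerSeries.derivative ℚ L * E := by
    rw [PowerSeries.derivative_subst hsub, PowerSeries.derivative_exp, mul_comm]
  have hE0 : PowerSeries.constantCoeff E = 1 := by
    have h1 : (PowerSeries.exp ℚ - 1).subst L = E - 1 := by
      rw [← PowerSeries.coe_substAlgHom hsub, map_sub, map_one, PowerSeries.coe_substAlgHom]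
    have h2 : PowerSeries.constantCoeff ((PowerSeries.exp ℚ - 1).subst L) = 0 :=
      PowerSeries.constantCoeff_subst_eq_zero hL0 _ (by simp)
    rw [h1, map_sub, map_one, sub_eq_zero] at h2
    exact h2
  have hP2c : PowerSeries.constantCoeff P2 = 1 := by simp [P2, map_prod]
  have hd : PowerSeries.derivative ℚ (E * P1) = (∑ n ∈ R.coeff.support, ((-(R.coeff n)).toNat : PowerSeries ℚ) * h n) * (E * P1) := by
    rw [Derivation.leibniz, hprod, hE, hLd, smul_eq_mul, smul_eq_mul]
    have hs : ∑ n ∈ R.coeff.support, ((-(R.coeff n)).toNat : PowerSeries ℚ) * h n =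
        (∑ n ∈ R.coeff.support, ((R.coeff n).toNat : PowerSeries ℚ) * h n) +
          -∑ n ∈ R.coeff.support, ((R.coeff n : ℚ)) • h n := by
      rw [← sub_eq_add_neg, ← Finset.sum_sub_distrib]
      refine Finset.sum_congr rfl fun n _ => ?_
      rw [PowerSeries.smul_eq_C_mul, map_intCast, ← sub_mul]
      congr 1
      have := Int.toNat_sub_toNat_neg (R.coeff n)
      rw [← Int.cast_natCast, ← Int.cast_natCast (R.coeff n).toNat, ← Int.cast_sub]
      congr 1
      omega
    rw [hs]; ring
  have hu : P2⁻¹ * P2 = 1 := PowerSeries.inv_mul_cancel _ (by rw [hP2c]; exact one_ne_zero)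
  have key : E * P1 * P2⁻¹ = 1 := by
    refine PowerSeries.derivative.ext ?_ ?_
    · rw [Derivation.leibniz, PowerSeries.derivative_inv', hd, hprod, PowerSeries.derivative_one,
        smul_eq_mul, smul_eq_mul]
      calc _ = (1 - P2⁻¹ * P2) * (∑ n ∈ R.coeff.support, ((-(R.coeff n)).toNat : PowerSeries ℚ) * h n)
              * (E * P1) * P2⁻¹ := by ring
        _ = 0 := by rw [hu, sub_self, zero_mul, zero_mul, zero_mul]
    · simp [map_prod, P1, P2, hE0]
  calc E * P1 = E * P1 * P2⁻¹ * P2 := by rw [mul_assoc (E * P1), hu, mul_one]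
    _ = P2 := by rw [key, one_mul]

end Groth.Agent.S14192
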