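import Groth.Statements.S14193
import Mathlib
-- import your own Groth.Agent.* helpers here

set_option autoImplicit false
open PowerSeries
open StackCount

namespace Groth.Agent.S14193

private theorem indep_pow (e : ℂˣ →₀ ℂ)
    (h : ∀ v : ℕ, Finsupp.linearCombination ℂ (fun β : ℂˣ => (β : ℂ) ^ (v + 1)) e = 0) : e = 0 := by
  classical
  have hli := (linearIndependent_monoidHom (Multiplicative ℕ) ℂ).comp
    (fun β : ℂˣ => powersHom ℂ (β : ℂ)) ((powersHom ℂ).injective.comp Units.val_injective)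
  have := linearIndependent_iff'.1 hli e.support (fun β => e β * β) (by
    funext v
    simp only [Finset.sum_apply, Pi.smul_apply, Function.comp_apply, powersHom_apply, smul_eq_mul,
      Pi.zero_apply]
    rw [← h v.toAdd, Finsupp.linearCombination_apply, Finsupp.sum]
    exact Finset.sum_congr rfl fun β _ => by simp [pow_succ]; ring)
  ext β
  by_contra hne
  simp only [Finsupp.coe_zero, Pi.zero_apply] at hne
  exact hne ((mul_eq_zero.1 (this β (Finsupp.mem_support_iff.2 hne))).resolve_right β.ne_zero)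

/-- The logarithmic derivative is an exponential sum with integer multiplicities. -/
private def LD (P : ℂ⟦X⟧) : Prop :=
  ∃ (Ψ : ℂ⟦X⟧) (c : ℂˣ →₀ ℤ), PowerSeries.X * d⁄dX ℂ P = P * Ψ ∧
    ∀ v : ℕ, coeff (v + 1) Ψ = c.sum fun β m => (m : ℂ) * (β : ℂ) ^ (v + 1)

private theorem ld_C (a : ℂ) : LD (PowerSeries.C a) :=
  ⟨0, 0, by simp, fun v => by simp⟩

private theorem ld_mul {P Q : ℂ⟦X⟧} (hP : LD P) (hQ : LD Q) : LD (P * Q) := by
  obtain ⟨Ψ, c, h1, h2⟩ := hP
  obtain ⟨Ψ', c', h1', h2'⟩ := hQ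
  refine ⟨Ψ + Ψ', c + c', ?_, fun v => ?_⟩
  · rw [Derivation.leibniz, smul_eq_mul, smul_eq_mul]
    linear_combination Q * h1 + P * h1'
  · rw [map_add, h2, h2', Finsupp.sum_add_index']
    · simp
    · intro β m m'
      push_cast
      ring

private theorem ld_X_sub_C (r : ℂ) : LD (PowerSeries.X - PowerSeries.C r) := by
  rcases eq_or_ne r 0 with rfl | hr
  · exact ⟨1, 0, by simp, fun v => by simp⟩
  · refine ⟨-(PowerSeries.mk fun v => if v = 0 then 0 else (r⁻¹) ^ v),
      Finsupp.single (Units.mk0 r⁻¹ (inv_ne_zero hr)) (-1), ?_, fun v => ?_⟩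
    · rw [map_sub, derivative_X, derivative_C, sub_zero, mul_one, sub_mul]
      ext n
      rcases n with _ | n
      · simp
      · rw [map_sub, coeff_succ_X_mul, map_neg, coeff_C_mul, map_neg, coeff_mk, coeff_mk, coeff_X]
        rcases n with _ | n
        · simp [hr]
        · simp only [Nat.succ_ne_zero, if_false, Nat.succ.injEq]
          rw [pow_succ' r⁻¹ (n + 1)]
          field_simp
          ring
    · simp [Finsupp.sum_neg_index]

private theorem ld_poly (P : Polynomial ℂ) : LD (P : ℂ⟦X⟧) := by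
  have hsplit := Polynomial.Splits.eq_prod_roots (IsAlgClosed.splits P)
  rw [hsplit, Polynomial.coe_mul, Polynomial.coe_C]
  refine ld_mul (ld_C _) ?_
  induction P.roots using Multiset.induction with
  | empty => simpa using ld_C 1
  | cons r s ih =>
    rw [Multiset.map_cons, Multiset.prod_cons, Polynomial.coe_mul, Polynomial.coe_sub,
      Polynomial.coe_X, Polynomial.coe_C]
    exact ld_mul (ld_X_sub_C r) ih


/-- Let q > 1 be an integer and let F be an element of the subring of the rational function field ℚ(X)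
generated by X, X^(-1) and the fractions 1/(X^n - 1) for n ≥ 1 (so F(q^v) is defined for every v ≥
1). If the formal power series exp(Σ_{v ≥ 1} F(q^v) t^v / v) in ℚ⟦t⟧ is the expansion of a rational
function, i.e. its product with some non-zero polynomial in t is a polynomial, then F is a Laurent
polynomial with integer coefficients: F · X^a is the image of a polynomial with integer coefficients
for some a. (The published statement also assumes that the series defines a meromorphic function on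
the complex plane; that is implied by rationality and is omitted here.) -/
theorem result (q : ℤ) (hq : 1 < q) (F : RatFunc ℚ)
    (hF : F ∈ Subring.closure
      (({RatFunc.X, (RatFunc.X : RatFunc ℚ)⁻¹} : Set (RatFunc ℚ)) ∪
        Set.range fun n : ℕ => ((RatFunc.X : RatFunc ℚ) ^ (n + 1) - 1)⁻¹))
    (hrat : ∃ P Q : Polynomial ℚ, Q ≠ 0 ∧
      (PowerSeries.exp ℚ).subst
          (PowerSeries.mk fun v : ℕ => if v = 0 then (0 : ℚ)
            else F.eval (RingHom.id ℚ) ((q : ℚ) ^ v) / (v : ℚ))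
        * (Q : PowerSeries ℚ) = (P : PowerSeries ℚ)) :
    ∃ (P : Polynomial ℤ) (a : ℕ),
      F * RatFunc.X ^ a = algebraMap (Polynomial ℚ) (RatFunc ℚ) (P.map (Int.castRingHom ℚ)) := by
  classical
  have hqQ : (1 : ℚ) < (q : ℚ) := by exact_mod_cast hq
  have hx1 : ∀ v : ℕ, (1 : ℚ) < (q : ℚ) ^ (v + 1) := fun v => one_lt_pow₀ hqQ (Nat.succ_ne_zero v)
  obtain ⟨R, D, hD, hFD⟩ : ∃ R D : Polynomial ℚ, (∀ v : ℕ, D.eval ((q : ℚ) ^ (v + 1)) ≠ 0) ∧
      F * algebraMap _ (RatFunc ℚ) D = algebraMap _ _ R := by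
    clear hrat
    induction hF using Subring.closure_induction with
    | mem x hx =>
      rcases hx with (rfl | rfl) | ⟨n, rfl⟩
      · exact ⟨Polynomial.X, 1, fun v => by simp, by simp⟩
      · refine ⟨1, Polynomial.X, fun v => ?_, ?_⟩
        · simpa using (lt_trans zero_lt_one (hx1 v)).ne'
        · rw [RatFunc.algebraMap_X, map_one, inv_mul_cancel₀ RatFunc.X_ne_zero]
      · refine ⟨1, Polynomial.X ^ (n + 1) - 1, fun v => ?_, ?_⟩
        · simpa [sub_eq_zero] using (one_lt_pow₀ (hx1 v) (Nat.succ_ne_zero n)).ne'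
        · rw [map_one, map_sub, map_pow, RatFunc.algebraMap_X, map_one]
          refine inv_mul_cancel₀ fun h => ?_
          have h0 : (Polynomial.X ^ (n + 1) - 1 : Polynomial ℚ) = 0 := by
            apply RatFunc.algebraMap_injective (K := ℚ)
            simpa using h
          exact Polynomial.X_pow_sub_C_ne_zero (Nat.succ_pos n) (1 : ℚ) (by simpa using h0)
    | zero => exact ⟨0, 1, fun v => by simp, by simp⟩
    | one => exact ⟨1, 1, fun v => by simp, by simp⟩
    | add x y _ _ hx hy =>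
      obtain ⟨R, D, h1, h2⟩ := hx
      obtain ⟨R', D', h1', h2'⟩ := hy
      refine ⟨R * D' + R' * D, D * D', fun v => ?_, ?_⟩
      · rw [Polynomial.eval_mul]; exact mul_ne_zero (h1 v) (h1' v)
      · simp only [map_add, map_mul, ← h2, ← h2']; ring
    | neg x _ hx =>
      obtain ⟨R, D, h1, h2⟩ := hx
      exact ⟨-R, D, h1, by simp [← h2]⟩
    | mul x y _ _ hx hy =>
      obtain ⟨R, D, h1, h2⟩ := hx
      obtain ⟨R', D', h1', h2'⟩ := hy
      refine ⟨R * R', D * D', fun v => ?_, ?_⟩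
      · rw [Polynomial.eval_mul]; exact mul_ne_zero (h1 v) (h1' v)
      · simp only [map_mul, ← h2, ← h2']; ring
  have hD0 : D ≠ 0 := fun h => hD 0 (by simp [h])
  have hFeq : F = algebraMap _ (RatFunc ℚ) R / algebraMap _ _ D := by
    rw [eq_div_iff (RatFunc.algebraMap_ne_zero hD0), hFD]
  have hval : ∀ v : ℕ, F.eval (RingHom.id ℚ) ((q : ℚ) ^ (v + 1)) * D.eval ((q : ℚ) ^ (v + 1)) =
      R.eval ((q : ℚ) ^ (v + 1)) := by
    intro v
    have h1 := (RatFunc.num_mul_eq_mul_denom_iff hD0).2 hFeq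
    obtain ⟨s, hs⟩ := (RatFunc.denom_dvd hD0).2 ⟨R, hFeq⟩
    have hden : F.denom.eval ((q : ℚ) ^ (v + 1)) ≠ 0 := fun h => hD v (by simp [hs, h])
    have h2 := congrArg (Polynomial.eval ((q : ℚ) ^ (v + 1))) h1
    simp only [Polynomial.eval_mul] at h2
    simp only [RatFunc.eval, Polynomial.eval₂_id]
    rw [div_mul_eq_mul_div, h2, mul_div_cancel_right₀ _ hden]
  obtain ⟨P, Q, hQ, hPQ⟩ := hrat
  set L : ℚ⟦X⟧ := PowerSeries.mk fun v : ℕ => if v = 0 then (0 : ℚ)
    else F.eval (RingHom.id ℚ) ((q : ℚ) ^ v) / (v : ℚ) with hLdef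
  have hL0 : constantCoeff L = 0 := by simp [hLdef, ← coeff_zero_eq_constantCoeff]
  have hsub : HasSubst L := HasSubst.of_constantCoeff_zero' hL0
  set Z : ℚ⟦X⟧ := (PowerSeries.exp ℚ).subst L with hZdef
  have hdZ : d⁄dX ℚ Z = Z * d⁄dX ℚ L := by
    rw [hZdef, derivative_subst hsub, derivative_exp]
  have hdP := congrArg (d⁄dX ℚ) hPQ
  rw [Derivation.leibniz, smul_eq_mul, smul_eq_mul, hdZ] at hdP
  have hP0 : (P : ℚ⟦X⟧) ≠ 0 := by
    rw [← hPQ]
    refine mul_ne_zero (fun h => ?_) (by simpa using hQ)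
    have h1 := congrArg (substAlgHom (R := ℚ) hsub) (exp_mul_exp_neg_eq_one (A := ℚ))
    rw [map_mul, map_one, coe_substAlgHom hsub, ← hZdef, h, zero_mul] at h1
    exact zero_ne_one h1
  have hkey : d⁄dX ℚ L * P * Q = d⁄dX ℚ (P : ℚ⟦X⟧) * Q - P * d⁄dX ℚ (Q : ℚ⟦X⟧) := by
    linear_combination (Q : ℚ⟦X⟧) * hdP - (d⁄dX ℚ (Q : ℚ⟦X⟧) + Q * d⁄dX ℚ L) * hPQ
  -- pass to ℂ
  let ι : ℚ⟦X⟧ →+* ℂ⟦X⟧ := PowerSeries.map (algebraMap ℚ ℂ)
  have hιd : ∀ f : ℚ⟦X⟧, ι (d⁄dX ℚ f) = d⁄dX ℂ (ι f) := by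
    intro f
    ext n
    simp [ι, coeff_derivative]
  have hιp : ∀ p : Polynomial ℚ, ι (p : ℚ⟦X⟧) = ((p.map (algebraMap ℚ ℂ) : Polynomial ℂ) : ℂ⟦X⟧) :=
    fun p => (Polynomial.polynomial_map_coe).symm
  obtain ⟨ΨP, cP, hΨP, hcP⟩ := ld_poly (P.map (algebraMap ℚ ℂ))
  obtain ⟨ΨQ, cQ, hΨQ, hcQ⟩ := ld_poly (Q.map (algebraMap ℚ ℂ))
  rw [← hιp, ← hιd] at hΨP hΨQ
  have hkeyC := congrArg ι hkey
  simp only [map_mul, map_sub] at hkeyC
  have hιinj : Function.Injective ι :=
    PowerSeries.map_injective _ (algebraMap ℚ ℂ).injective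
  have hne : ι (P : ℚ⟦X⟧) * ι (Q : ℚ⟦X⟧) ≠ 0 :=
    mul_ne_zero ((map_ne_zero_iff ι hιinj).2 hP0)
      ((map_ne_zero_iff ι hιinj).2 (by simpa using hQ))
  have hlog : PowerSeries.X * ι (d⁄dX ℚ L) = ΨP - ΨQ := by
    refine mul_right_cancel₀ hne ?_
    linear_combination PowerSeries.X * hkeyC + ι (Q : ℚ⟦X⟧) * hΨP - ι (P : ℚ⟦X⟧) * hΨQ
  let c : ℂˣ →₀ ℤ := cP - cQ
  have hrep : ∀ v : ℕ, ((F.eval (RingHom.id ℚ) ((q : ℚ) ^ (v + 1)) : ℚ) : ℂ) =
      c.sum fun β m => (m : ℂ) * (β : ℂ) ^ (v + 1) := by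
    intro v
    have h1 := congrArg (coeff (v + 1)) hlog
    rw [coeff_succ_X_mul, map_sub, hcP, hcQ, coeff_map, coeff_derivative] at h1
    rw [Finsupp.sum_sub_index (fun β m m' => by push_cast; ring), ← h1]
    simp only [hLdef, coeff_mk, Nat.succ_ne_zero, if_false, eq_ratCast]
    push_cast
    field_simp
  have hq0 : (q : ℂ) ≠ 0 := by
    simp only [ne_eq, Int.cast_eq_zero]
    omega
  let qu : ℂˣ := Units.mk0 (q : ℂ) hq0
  have hquinj : Function.Injective fun k : ℕ => qu ^ k := by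
    intro a b hab
    have h1 : (q : ℂ) ^ a = (q : ℂ) ^ b := by simpa [qu] using congrArg Units.val hab
    have h2 : q ^ a = q ^ b := by exact_mod_cast h1
    exact pow_right_injective₀ (by omega) (by omega) h2
  let inS : ℂˣ → Prop := fun β => ∃ j : ℤ, β = qu ^ j
  let j : ℂˣ → ℤ := fun β => if h : inS β then h.choose else 0
  have hj : ∀ β, inS β → β = qu ^ j β := fun β h => by
    simp only [j, dif_pos h]
    exact h.choose_spec
  let N : ℕ := ∑ β ∈ c.support, (j β).natAbs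
  let Sin := c.support.filter inS
  let Sout := c.support.filter fun β => ¬ inS β
  let PI : Polynomial ℤ := ∑ β ∈ Sin, Polynomial.C (c β) * Polynomial.X ^ (j β + N).toNat
  refine ⟨PI, N, ?_⟩
  let T : Polynomial ℚ := R * Polynomial.X ^ N - PI.map (Int.castRingHom ℚ) * D
  suffices hT : T = 0 by
    apply mul_right_cancel₀ (RatFunc.algebraMap_ne_zero hD0)
    rw [← map_mul, ← sub_eq_zero.1 hT, map_mul, map_pow, RatFunc.algebraMap_X, ← hFD]
    ring
  let e : ℂˣ →₀ ℂ := (∑ k ∈ T.support, Finsupp.single (qu ^ k) ((T.coeff k : ℚ) : ℂ)) -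
    ∑ β ∈ Sout, ∑ k ∈ D.support,
      Finsupp.single (β * qu ^ (N + k)) ((c β : ℂ) * ((D.coeff k : ℚ) : ℂ))
  have he : e = 0 := by
    refine indep_pow e fun v => ?_
    simp only [e, map_sub, map_sum, Finsupp.linearCombination_single, smul_eq_mul, Units.val_mul,
      Units.val_pow_eq_pow_val]
    rw [sub_eq_zero]
    set x : ℂ := (qu : ℂ) ^ (v + 1) with hx
    have hxq : x = (((q : ℚ) ^ (v + 1) : ℚ) : ℂ) := by simp [hx, qu]
    have lhs : ∑ k ∈ T.support, ((T.coeff k : ℚ) : ℂ) * ((qu : ℂ) ^ k) ^ (v + 1) =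
        ((T.eval ((q : ℚ) ^ (v + 1)) : ℚ) : ℂ) := by
      rw [Polynomial.eval_eq_sum, Polynomial.sum]
      simp only [Rat.cast_sum, Rat.cast_mul, Rat.cast_pow, ← hxq]
      refine Finset.sum_congr rfl fun k _ => ?_
      rw [← pow_mul, mul_comm k, pow_mul]
    have rhs : ∀ β : ℂˣ, ∑ k ∈ D.support, (c β : ℂ) * ((D.coeff k : ℚ) : ℂ) *
          ((β : ℂ) * (qu : ℂ) ^ (N + k)) ^ (v + 1) =
        ((D.eval ((q : ℚ) ^ (v + 1)) : ℚ) : ℂ) * (x ^ N * ((c β : ℂ) * (β : ℂ) ^ (v + 1))) := by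
      intro β
      rw [Polynomial.eval_eq_sum, Polynomial.sum]
      simp only [Rat.cast_sum, Rat.cast_mul, Rat.cast_pow, ← hxq, Finset.sum_mul]
      refine Finset.sum_congr rfl fun k _ => ?_
      have : ((qu : ℂ) ^ (N + k)) ^ (v + 1) = x ^ N * x ^ k := by
        rw [← pow_add, ← pow_mul, hx, ← pow_mul, mul_comm (N + k)]
      rw [mul_pow, this]
      ring
    rw [lhs, Finset.sum_congr rfl fun β _ => rhs β, ← Finset.mul_sum, ← Finset.mul_sum]
    have hin : (((PI.map (Int.castRingHom ℚ)).eval ((q : ℚ) ^ (v + 1)) : ℚ) : ℂ) =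
        x ^ N * ∑ β ∈ Sin, (c β : ℂ) * (β : ℂ) ^ (v + 1) := by
      simp only [PI, Polynomial.map_sum, Polynomial.eval_finsetSum, Rat.cast_sum, Finset.mul_sum]
      refine Finset.sum_congr rfl fun β hβ => ?_
      have hβ' := Finset.mem_filter.1 hβ
      have hge : 0 ≤ j β + N := by
        have h1 : (j β).natAbs ≤ N :=
          Finset.single_le_sum (f := fun β => (j β).natAbs) (fun _ _ => Nat.zero_le _) hβ'.1
        omega
      have hu : (qu ^ (v + 1)) ^ (j β + N).toNat = (qu ^ (v + 1)) ^ N * β ^ (v + 1) := by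
        conv_rhs => rw [hj β hβ'.2]
        simp only [← zpow_natCast, ← zpow_mul, ← zpow_add]
        congr 1
        rw [Int.toNat_of_nonneg hge]
        ring
      have hu' : x ^ (j β + N).toNat = x ^ N * (β : ℂ) ^ (v + 1) := by
        simpa [hx] using congrArg Units.val hu
      simp only [Polynomial.map_mul, Polynomial.map_C, Polynomial.map_pow, Polynomial.map_X,
        Polynomial.eval_mul, Polynomial.eval_C, Polynomial.eval_pow, Polynomial.eval_X,
        Rat.cast_mul, Rat.cast_pow, eq_intCast, Rat.cast_intCast, Polynomial.map_intCast,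
        Polynomial.eval_intCast]
      rw [show ((q : ℂ)) ^ (v + 1) = x by simp [hx, qu], hu']
      ring
    simp only [T, Polynomial.eval_sub, Polynomial.eval_mul, Polynomial.eval_pow, Polynomial.eval_X,
      ← hval, Rat.cast_sub, Rat.cast_mul, Rat.cast_pow, hrep, hin, Rat.cast_intCast]
    rw [Finsupp.sum, ← Finset.sum_filter_add_sum_filter_not c.support inS,
      show ((q : ℂ)) ^ (v + 1) = x by simp [hx, qu]]
    ring
  refine Polynomial.ext fun k => ?_
  have hk := DFunLike.congr_fun he (qu ^ k)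
  simp only [e, Finsupp.coe_sub, Pi.sub_apply, Finsupp.coe_finsetSum, Finset.sum_apply,
    Finsupp.coe_zero, Pi.zero_apply] at hk
  rw [Finset.sum_eq_single k (fun b _ hb => Finsupp.single_eq_of_ne (fun h => hb (hquinj h.symm)))
    (fun hks => by simp [Polynomial.notMem_support_iff.1 hks]), Finsupp.single_eq_same,
    Finset.sum_eq_zero, sub_zero] at hk
  · simpa using hk
  · intro β hβ
    refine Finset.sum_eq_zero fun k' _ => Finsupp.single_eq_of_ne fun h => ?_
    apply (Finset.mem_filter.1 hβ).2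
    refine ⟨(k : ℤ) - (N + k' : ℕ), ?_⟩
    rw [zpow_sub, zpow_natCast, zpow_natCast, _root_.eq_mul_inv_iff_mul_eq]
    exact h.symm

end Groth.Agent.S14193
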