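import Groth.Statements.S14205
import Groth.Agent.CSA.Index
-- import your own Groth.Agent.* helpers here

set_option autoImplicit false
universe u v
open scoped TensorProduct
open Brauer

namespace Groth.Agent.S14205

/-- Let A be a finite-dimensional central simple algebra over a field k with period p: p is the least
positive integer for which the p-fold tensor power of A over k is a full matrix algebra over k. Then
for every r ≥ 1 the r-fold tensor power of A has period p / gcd(p, r) (the order of the r-th
multiple of an element of order p). -/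
theorem result (k : Type u) [Field k] (A : Type v) [Ring A] [Algebra k A]
    [Algebra.IsCentral k A] [IsSimpleRing A] [FiniteDimensional k A] (p : ℕ)
    (hp : CSAGal.IsPeriod k A p) (r : ℕ) (hr : 0 < r) :
    CSAGal.IsPeriod k (CSAGal.tpow k A r) (p / Nat.gcd p r) := by
  obtain ⟨_, _, _⟩ := Groth.CSA.csa_tpow (k := k) (A := A) r
  have key : ∀ e, Curves.Splits k (CSAGal.tpow k (CSAGal.tpow k A r) e) k ↔ p / Nat.gcd p r ∣ e := by
    intro e
    obtain ⟨_, _, _⟩ := Groth.CSA.csa_tpow (k := k) (A := CSAGal.tpow k A r) e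
    rw [Groth.CSA.splits_tpow_iff]
    constructor
    · intro h
      have h' : p ∣ r * e := Groth.CSA.isPeriod_dvd hp ((Groth.CSA.sim_tpow_mul r e).trans h)
      obtain ⟨c, hc⟩ := h'
      have hg : 0 < Nat.gcd p r := Nat.gcd_pos_of_pos_left r hp.1
      have hcop : Nat.Coprime (p / Nat.gcd p r) (r / Nat.gcd p r) := Nat.coprime_div_gcd_div_gcd hg
      refine hcop.dvd_of_dvd_mul_left ?_
      rw [← Nat.mul_div_right_comm (Nat.gcd_dvd_right p r), hc, Nat.mul_div_right_comm (Nat.gcd_dvd_left p r)]
      exact Dvd.intro c rfl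
    · rintro ⟨c, rfl⟩
      refine (Groth.CSA.sim_tpow_mul r _).symm.trans ?_
      have : r * (p / Nat.gcd p r * c) = p * (r / Nat.gcd p r * c) := by
        rw [← mul_assoc, ← mul_assoc, ← Nat.mul_div_assoc _ (Nat.gcd_dvd_left p r),
          ← Nat.mul_div_assoc _ (Nat.gcd_dvd_right p r), mul_comm r p]
      rw [this]
      exact Groth.CSA.sim_tpow_mul_self ((Groth.CSA.splits_tpow_iff p).1 hp.2.1) _
  refine ⟨Nat.div_pos (Nat.gcd_le_left _ hp.1) (Nat.gcd_pos_of_pos_left r hp.1), (key _).2 dvd_rfl, fun e' h1 h2 h => ?_⟩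
  exact absurd (Nat.le_of_dvd h1 ((key e').1 h)) (not_le.2 h2)

end Groth.Agent.S14205
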