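import Groth.Statements.S14211
import Groth.Agent.CSA.Index
import Groth.Agent.CSA.CyclicHom
import Mathlib.Algebra.QuaternionBasis

set_option autoImplicit false
universe u v
open scoped TensorProduct
open Brauer

namespace Groth.Agent.S14211

/-- A central division algebra of dimension four in characteristic not two is a quaternion algebra. -/
theorem exists_quaternion (k : Type u) [Field k] (h2 : (2 : k) ≠ 0) (D : Type v) [DivisionRing D] [Algebra k D]
    [Algebra.IsCentral k D] [FiniteDimensional k D] (hD : Module.finrank k D = 4) :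
    ∃ a b : k, Nonempty (QuaternionAlgebra k a 0 b ≃ₐ[k] D) := by
  obtain ⟨L, hcomm, hsep, hL⟩ := Groth.CSA.exists_separable_selfCentralizing k D
  have hdim := Groth.CSA.finrank_eq_sq_of_selfCentralizing k D L hcomm hL
  have h2L : Module.finrank k L = 2 := Nat.pow_left_injective two_ne_zero (by
    show Module.finrank k L ^ 2 = 2 ^ 2
    rw [← hdim, hD])
  letI : CommRing L := { (inferInstance : Ring L) with mul_comm := fun a b => Subtype.ext (hcomm a a.2 b b.2) }
  letI : Field L := fieldOfFiniteDimensional k L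
  have := hsep
  have : Algebra.IsQuadraticExtension k L := { finrank_eq_two' := h2L }
  have : IsGalois k L := ⟨⟩
  have hcard : Nat.card (L ≃ₐ[k] L) = 2 := by rw [IsGalois.card_aut_eq_finrank, h2L]
  obtain ⟨σ, hσ⟩ : ∃ σ : L ≃ₐ[k] L, σ ≠ 1 := by
    by_contra! h
    have : Subsingleton (L ≃ₐ[k] L) := ⟨fun a b => (h a).trans (h b).symm⟩
    have := Nat.card_of_subsingleton (1 : L ≃ₐ[k] L)
    omega
  have : Fact (Nat.Prime 2) := ⟨Nat.prime_two⟩
  have hgen : ∀ τ : L ≃ₐ[k] L, τ ∈ Subgroup.zpowers σ := fun τ => mem_zpowers_of_prime_card hcard hσ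
  have hσσ : ∀ x, σ (σ x) = x := fun x => by
    have h : σ ^ 2 = 1 := by rw [← hcard]; exact pow_card_eq_one'
    exact AlgEquiv.congr_fun h x
  obtain ⟨x, hx⟩ : ∃ x, σ x ≠ x := by
    by_contra! h
    exact hσ (AlgEquiv.ext h)
  let z : L := x - σ x
  have hz0 : z ≠ 0 := sub_ne_zero.2 (Ne.symm hx)
  have hσz : σ z = -z := by simp [z, hσσ]
  obtain ⟨a, ha⟩ : ∃ a : k, algebraMap k L a = z * z := (IsGalois.mem_range_algebraMap_iff_fixed _).2 fun τ => by
    have hstab : σ ∈ MulAction.stabilizer (L ≃ₐ[k] L) (z * z) := by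
      show σ (z * z) = z * z
      rw [map_mul, hσz, neg_mul_neg]
    exact Subgroup.zpowers_le.2 hstab (hgen τ)
  have hzk : ∀ r : k, algebraMap k L r ≠ z := fun r hr => by
    have h := hσz
    rw [← hr, AlgEquiv.commutes, ← map_neg] at h
    have h' : r = -r := (algebraMap k L).injective h
    have : (2 : k) * r = 0 := by linear_combination h'
    exact hz0 (by rw [← hr, (mul_eq_zero.1 this).resolve_left h2, map_zero])
  obtain ⟨b, ⟨P⟩⟩ := Groth.CSA.CyclicPres.exists_of_embedding hgen L.val hdim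
  have hyy : P.y * P.y = algebraMap k D (b : k) := by rw [← sq, ← h2L, P.pow_eq]
  let q : QuaternionAlgebra.Basis D a 0 (b : k) :=
    { i := P.ι z
      j := P.y
      k := P.ι z * P.y
      i_mul_i := by rw [← map_mul, ← ha, AlgHom.commutes, zero_smul, add_zero, Algebra.algebraMap_eq_smul_one]
      j_mul_j := by rw [hyy, Algebra.algebraMap_eq_smul_one]
      i_mul_j := rfl
      j_mul_i := by
        rw [zero_smul, zero_sub, P.comm, hσz, map_neg, mul_neg, neg_neg] }
  let f := q.liftHom
  have hi : P.ι z ∈ f.range := ⟨⟨0, 1, 0, 0⟩, by simp [f, q, QuaternionAlgebra.Basis.lift]⟩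
  have hj : P.y ∈ f.range := ⟨⟨0, 0, 1, 0⟩, by simp [f, q, QuaternionAlgebra.Basis.lift]⟩
  have hli : LinearIndependent k ![(1 : L), z] := by
    rw [LinearIndependent.pair_iff]
    intro s t h
    by_cases ht : t = 0
    · refine ⟨?_, ht⟩
      simpa [ht] using h
    · exfalso
      refine hzk (-(t⁻¹ * s)) (mul_left_cancel₀ (a := algebraMap k L t) (by simpa using ht) ?_)
      rw [Algebra.smul_def, Algebra.smul_def, mul_one] at h
      rw [← map_mul, mul_neg, ← mul_assoc, mul_inv_cancel₀ ht, one_mul, map_neg]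
      linear_combination -h
  have hLr : ∀ l, P.ι l ∈ f.range := fun l => by
    have htop := hli.span_eq_top_of_card_eq_finrank (by rw [h2L, Fintype.card_fin])
    have hl : l ∈ Submodule.span k (Set.range ![(1 : L), z]) := htop.symm ▸ Submodule.mem_top
    rw [Matrix.range_cons, Matrix.range_cons, Matrix.range_empty, Set.union_empty, Set.singleton_union,
      Submodule.mem_span_pair] at hl
    obtain ⟨s, t, rfl⟩ := hl
    rw [map_add, map_smul, map_smul, map_one]
    exact add_mem (Subalgebra.smul_mem _ (one_mem _) s) (Subalgebra.smul_mem _ hi t)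
  have hsurj : Function.Surjective f := by
    have h : Algebra.adjoin k (Set.range P.ι ∪ {P.y}) ≤ f.range := Algebra.adjoin_le (by
      rintro w (⟨l, rfl⟩ | rfl)
      · exact hLr l
      · exact hj)
    rw [P.gen] at h
    exact fun w => h Algebra.mem_top
  have hinj : Function.Injective f :=
    (LinearMap.injective_iff_surjective_of_finrank_eq_finrank (f := f.toLinearMap)
      (by rw [QuaternionAlgebra.finrank_eq_four, hD])).2 hsurj
  exact ⟨a, b, ⟨AlgEquiv.ofBijective f ⟨hinj, hsurj⟩⟩⟩

/-- Let k be a field in which 2 ≠ 0 and A a finite-dimensional central simple k-algebra. Then A has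
period 2 and index 2 (its Severi–Brauer variety has type (2, 2, 2m)) if and only if A is isomorphic
over k to a matrix algebra M_m(Q), m ≥ 1, over a quaternion algebra Q = (a, b)_k (the k-algebra with
basis 1, i, j, ij, i² = a, j² = b, ij = −ji) which is a division ring; moreover such a quaternion
algebra is unique up to k-isomorphism. -/
theorem result (k : Type u) [Field k] (h2 : (2 : k) ≠ 0)
    (A : Type v) [Ring A] [Algebra k A] [Algebra.IsCentral k A] [IsSimpleRing A]
    [FiniteDimensional k A] :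
    ((CSAGal.IsPeriod k A 2 ∧ CSAGal.IsIndex k A 2) ↔
      ∃ (a b : k) (m : ℕ), 0 < m ∧ (∀ x : QuaternionAlgebra k a 0 b, x ≠ 0 → IsUnit x) ∧
        Nonempty (A ≃ₐ[k] Matrix (Fin m) (Fin m) (QuaternionAlgebra k a 0 b))) ∧
    (∀ (a b a' b' : k) (m m' : ℕ),
      (∀ x : QuaternionAlgebra k a 0 b, x ≠ 0 → IsUnit x) →
      (∀ x : QuaternionAlgebra k a' 0 b', x ≠ 0 → IsUnit x) →
      Nonempty (A ≃ₐ[k] Matrix (Fin m) (Fin m) (QuaternionAlgebra k a 0 b)) →
      Nonempty (A ≃ₐ[k] Matrix (Fin m') (Fin m') (QuaternionAlgebra k a' 0 b')) →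
      Nonempty (QuaternionAlgebra k a 0 b ≃ₐ[k] QuaternionAlgebra k a' 0 b')) := by
  refine ⟨⟨fun h => ?_, ?_⟩, ?_⟩
  · obtain ⟨-, m, D, _, _, hm, hdim, ⟨e⟩⟩ := h.2
    have : NeZero m := ⟨hm.ne'⟩
    have := Groth.CSA.isCentral_of_algEquiv k e
    have := Groth.CSA.isCentral_of_matrix k (n := Fin m) D
    have : FiniteDimensional k D := FiniteDimensional.of_finrank_pos (by rw [hdim]; norm_num)
    obtain ⟨a, b, ⟨f⟩⟩ := exists_quaternion k h2 D (by rw [hdim]; norm_num)
    refine ⟨a, b, m, hm, fun x hx => ?_, ⟨e.trans f.symm.mapMatrix⟩⟩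
    have : IsUnit (f x) := isUnit_iff_ne_zero.2 (by simpa using hx)
    simpa using this.map f.symm
  · rintro ⟨a, b, m, hm, hdiv, ⟨e⟩⟩
    letI : DivisionRing (QuaternionAlgebra k a 0 b) :=
      DivisionRing.ofIsUnitOrEqZero fun x => (em (x = 0)).symm.imp_left (hdiv x)
    have : NeZero m := ⟨hm.ne'⟩
    have := Groth.CSA.isCentral_of_algEquiv k e
    have := Groth.CSA.isCentral_of_matrix k (n := Fin m) (QuaternionAlgebra k a 0 b)
    have hdim : Module.finrank k (QuaternionAlgebra k a 0 b) = 2 ^ 2 := QuaternionAlgebra.finrank_eq_four _ _ _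
    have hsim : Groth.CSA.Sim k A (QuaternionAlgebra k a 0 b) :=
      (Groth.CSA.Sim.of_algEquiv e).trans (Groth.CSA.Sim.matrix hm.ne' _)
    refine ⟨⟨two_pos, (Groth.CSA.splits_tpow_iff 2).2 ?_, fun e' h1 h2' => ?_⟩, Groth.CSA.isIndex_of_sim hsim hdim⟩
    · refine (Groth.CSA.sim_tpow_add (k := k) (A := A) 1 1).trans
        (((Groth.CSA.sim_tpow_one.trans hsim).tensor (Groth.CSA.sim_tpow_one.trans hsim)).trans ?_)
      let Φ := (Algebra.TensorProduct.congr (AlgEquiv.refl (R := k) (A₁ := QuaternionAlgebra k a 0 b))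
          QuaternionAlgebra.starAe).trans
        (AlgEquiv.ofBijective (AlgHom.mulLeftRight k (QuaternionAlgebra k a 0 b))
          (Groth.CSA.mulLeftRight_bijective k (QuaternionAlgebra k a 0 b)))
      exact (Groth.CSA.Sim.of_algEquiv (Φ.trans (LinearMap.toMatrixAlgEquiv (Module.finBasis k _)))).trans
        (Groth.CSA.Sim.matrix (by rw [hdim]; norm_num) k)
    · obtain rfl : e' = 1 := by omega
      rw [Groth.CSA.splits_tpow_iff]
      intro h
      have := Groth.CSA.dvd_of_sim hdim (hsim.symm.trans (Groth.CSA.sim_tpow_one.symm.trans h)) (n := 1)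
        (by rw [Module.finrank_self, one_pow])
      omega
  · intro a b a' b' m m' hd hd' ⟨e⟩ ⟨e'⟩
    letI : DivisionRing (QuaternionAlgebra k a 0 b) :=
      DivisionRing.ofIsUnitOrEqZero fun x => (em (x = 0)).symm.imp_left (hd x)
    letI : DivisionRing (QuaternionAlgebra k a' 0 b') :=
      DivisionRing.ofIsUnitOrEqZero fun x => (em (x = 0)).symm.imp_left (hd' x)
    have : Nontrivial A := IsSimpleRing.instNontrivial
    have : NeZero m := ⟨fun h => by subst h; exact zero_ne_one (e.injective (Subsingleton.elim (e 0) (e 1)))⟩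
    have : NeZero m' := ⟨fun h => by subst h; exact zero_ne_one (e'.injective (Subsingleton.elim (e' 0) (e' 1)))⟩
    exact (Groth.CSA.matrix_divisionRing_unique k (QuaternionAlgebra k a 0 b) (QuaternionAlgebra k a' 0 b')
      (e.symm.trans e')).2

end Groth.Agent.S14211
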