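import Groth.Statements.S14254
import Groth.Agent.FrobLCI.PerfectMap
import Groth.Agent.Misc7.Perfection.UnivHomeoPerfect

set_option autoImplicit false
universe u
open CategoryTheory AlgebraicGeometry
open FrobAlg

namespace Groth.Agent.S14254

open Groth.PropsBasic.UH in
/-- A `p`-radical map has the three properties of a universal homeomorphism. -/
theorem props_of_isPRadical (p : ℕ) [Fact p.Prime] {K L : Type u} [CommRing K] [CommRing L] [CharP L p]
    (f : K →+* L) [IsPRadical f p] :
    f.IsIntegral ∧ UI f ∧ Function.Surjective (PrimeSpectrum.comap f) := by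
  have hp := (Fact.out : p.Prime)
  have hint : f.IsIntegral := fun x => by
    obtain ⟨n, y, hy⟩ := IsPRadical.pow_mem f p x
    exact ⟨Polynomial.X ^ p ^ n - Polynomial.C y,
      Polynomial.monic_X_pow_sub_C _ (pow_ne_zero n hp.ne_zero),
      by rw [Polynomial.eval₂_sub, Polynomial.eval₂_X_pow, Polynomial.eval₂_C, hy, sub_self]⟩
  refine ⟨hint, ?_, comap_surjective_of_isIntegral hint fun x hx => ?_⟩
  · intro F _ g₁ g₂ e
    have : CharP F p := (CharP.charP_iff_prime_eq_zero hp).mpr (by rw [← map_natCast g₁, CharP.cast_eq_zero, map_zero])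
    ext x
    obtain ⟨n, y, hy⟩ := IsPRadical.pow_mem f p x
    apply iterateFrobenius_inj F p n
    rw [iterateFrobenius_def, iterateFrobenius_def, ← map_pow, ← map_pow, ← hy]
    exact RingHom.congr_fun e y
  · obtain ⟨m, hm⟩ := mem_pNilradical.mp (IsPRadical.ker_le f p hx)
    exact ⟨p ^ m, hm⟩

/-- Let p be a prime, φ : A → B a map of commutative rings of characteristic p, i : A → A' and j : B →
B' perfect closures (A' and B' are perfect rings of characteristic p, every element of A' resp. B'
has a p^n-th power in the image of i resp. j, and the kernels of i and j consist of nilpotent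
elements), and φ' : A' → B' the induced map, φ' ∘ i = j ∘ φ. Then Spec φ : Spec B ⟶ Spec A is a
universal homeomorphism if and only if φ' is bijective. (The published statement is for an arbitrary
morphism of schemes over the prime field and its perfection; this row is the case of affine schemes,
the perfection of Spec A being Spec of the perfect closure of A.) -/
theorem result (p : ℕ) [Fact p.Prime]
    {A B A' B' : Type u} [CommRing A] [CommRing B] [CommRing A'] [CommRing B']
    [CharP A p] [CharP B p] [CharP A' p] [CharP B' p] [PerfectRing A' p] [PerfectRing B' p]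
    (φ : A →+* B) (i : A →+* A') (j : B →+* B') [IsPerfectClosure i p] [IsPerfectClosure j p]
    (φ' : A' →+* B') (hφ : φ'.comp i = j.comp φ) :
    FlatMor.IsUnivHomeo (Spec.map (CommRingCat.ofHom φ)) ↔ Function.Bijective φ' := by
  have hp := (Fact.out : p.Prime)
  obtain ⟨hii, hiu, his⟩ := props_of_isPRadical p i
  obtain ⟨hji, hju, hjs⟩ := props_of_isPRadical p j
  constructor
  · intro h
    obtain ⟨h1, h2, h3⟩ := (Groth.PropsBasic.UH.spec_isUnivHomeo_iff φ).mp h
    have hi' : φ'.IsIntegral := (Groth.FrobLCI.PerfectMap.isIntegral_iff p φ i j φ' hφ).mp h1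
    have hu' : Groth.PropsBasic.UH.UI φ' := Groth.PropsBasic.UH.UI.of_comp i φ' (hφ ▸ h2.comp hju)
    have hinj : Function.Injective φ' := by
      rw [injective_iff_map_eq_zero]
      intro a ha
      obtain ⟨n, x, hx⟩ := IsPRadical.pow_mem i p a
      have h0 : j (φ x) = 0 := by
        rw [← RingHom.comp_apply j, ← hφ, RingHom.comp_apply, hx, map_pow, ha, zero_pow (pow_ne_zero n hp.ne_zero)]
      obtain ⟨m, hm⟩ := mem_pNilradical.mp (IsPRadical.ker_le j p (RingHom.mem_ker.mpr h0))
      have hx0 : IsNilpotent x := by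
        rw [← mem_nilradical, nilradical_eq_sInf, Ideal.mem_sInf]
        intro P hP
        have : P.IsPrime := hP
        obtain ⟨Q, hQ⟩ := h3 ⟨P, hP⟩
        have hQ' : P = Q.asIdeal.comap φ := (congrArg PrimeSpectrum.asIdeal hQ).symm
        rw [hQ', Ideal.mem_comap]
        exact Q.isPrime.mem_of_pow_mem _ (hm ▸ Q.asIdeal.zero_mem)
      obtain ⟨k, hk⟩ := hx0
      apply (bijective_iterateFrobenius A' p (n + k)).1
      rw [map_zero, iterateFrobenius_def, pow_add, pow_mul, ← hx, ← map_pow,
        pow_eq_zero_of_le (Nat.lt_pow_self hp.one_lt).le hk, map_zero]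
    exact ⟨hinj, Groth.Misc7.Perfection.surjective_of_perfect φ' p (CharP.cast_eq_zero A' p)
      (PerfectRing.bijective_frobenius (R := A') (p := p)) (PerfectRing.bijective_frobenius (R := B') (p := p))
      hinj hi' hu'⟩
  · intro h
    have hrad : IsPRadical φ p := by
      refine ⟨fun b => ?_, fun a ha => ?_⟩
      · obtain ⟨a', ha'⟩ := h.2 (j b)
        obtain ⟨n, a, ha⟩ := IsPRadical.pow_mem i p a'
        have h0 : j (φ a - b ^ p ^ n) = 0 := by
          rw [map_sub, ← RingHom.comp_apply j, ← hφ, RingHom.comp_apply, ha, map_pow, ha', map_pow, sub_self]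
        obtain ⟨m, hm⟩ := mem_pNilradical.mp (IsPRadical.ker_le j p (RingHom.mem_ker.mpr h0))
        refine ⟨n + m, a ^ p ^ m, ?_⟩
        rw [sub_pow_char_pow, sub_eq_zero] at hm
        rw [map_pow, hm, ← pow_mul, ← pow_add]
      · have h1 : φ' (i a) = 0 := by
          rw [← RingHom.comp_apply, hφ, RingHom.comp_apply, RingHom.mem_ker.mp ha, map_zero]
        exact IsPRadical.ker_le i p (RingHom.mem_ker.mpr (h.1 (h1.trans (map_zero φ').symm)))
    exact (Groth.PropsBasic.UH.spec_isUnivHomeo_iff φ).mpr (props_of_isPRadical p φ)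

end Groth.Agent.S14254
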