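import Groth.Statements.S14257
import Groth.Agent.FrobLCI.PerfectEtale

set_option autoImplicit false
universe u
open TensorProduct
open FrobAlg

namespace Groth.Agent.S14257

/-- Let p be a prime, A a commutative ring of characteristic p, B an etale A-algebra of characteristic
p, A → A' and B → B' perfect closures (A', B' perfect rings of characteristic p, every element of A'
resp. B' has a p^n-th power in the image of A resp. B, and the structure maps have kernels
consisting of nilpotent elements), B' viewed as an A-algebra through B, and φ' : A' → B' a map of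
A-algebras. Then the natural map A' ⊗_A B → B', a ⊗ b ↦ φ'(a) b, is bijective. (The published
statement is for an etale morphism X → Y of schemes over the prime field, where X_perf → X ×_Y
Y_perf is an isomorphism; this row is the affine case.) -/
theorem result (p : ℕ) [Fact p.Prime]
    (A B A' B' : Type u) [CommRing A] [CommRing B] [CommRing A'] [CommRing B']
    [CharP A p] [CharP B p] [CharP A' p] [CharP B' p] [PerfectRing A' p] [PerfectRing B' p]
    [Algebra A B] [Algebra.Etale A B] [Algebra A A'] [Algebra B B'] [Algebra A B'] [IsScalarTower A B B']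
    [IsPerfectClosure (algebraMap A A') p] [IsPerfectClosure (algebraMap B B') p]
    (φ' : A' →ₐ[A] B') :
    Function.Bijective (Algebra.TensorProduct.lift φ' (IsScalarTower.toAlgHom A B B')
      (fun a b => Commute.all (φ' a) (IsScalarTower.toAlgHom A B B' b))) := by
  set μ := Algebra.TensorProduct.lift φ' (IsScalarTower.toAlgHom A B B')
    (fun a b => Commute.all (φ' a) (IsScalarTower.toAlgHom A B B' b)) with hμ
  have hp := (Fact.out : p.Prime)
  have : Nontrivial B' := CharP.nontrivial_of_char_ne_one (R := B') hp.ne_one
  have : Nontrivial (A' ⊗[A] B) := μ.toRingHom.domain_nontrivial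
  have : CharP (A' ⊗[A] B) p := (CharP.charP_iff_prime_eq_zero hp).mpr (by
    rw [← map_natCast (algebraMap A' (A' ⊗[A] B)), CharP.cast_eq_zero, map_zero])
  have : PerfectRing (A' ⊗[A] B) p := Groth.FrobLCI.PerfectEtale.perfectRing_of_etale p A' _
  refine ⟨(injective_iff_map_eq_zero μ).mpr fun z hz => ?_, fun y => ?_⟩
  · obtain ⟨n, b, hb⟩ := Groth.FrobLCI.PerfectEtale.exists_pow_mem_range p A A' B z
    have h0 : algebraMap B B' b = 0 := by
      have h1 := congrArg μ hb
      rw [map_pow, hz, zero_pow (pow_ne_zero n hp.ne_zero), hμ, Algebra.TensorProduct.lift_tmul, map_one,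
        one_mul] at h1
      exact h1
    obtain ⟨m, hm⟩ := (mem_pNilradical).mp (IsPRadical.ker_le (algebraMap B B') p (RingHom.mem_ker.mpr h0))
    apply (bijective_iterateFrobenius (A' ⊗[A] B) p (n + m)).1
    rw [iterateFrobenius_def, iterateFrobenius_def, pow_add, pow_mul, ← hb, Algebra.TensorProduct.tmul_pow,
      hm, TensorProduct.tmul_zero, zero_pow (mul_ne_zero (pow_ne_zero n hp.ne_zero) (pow_ne_zero m hp.ne_zero))]
  · obtain ⟨n, b, hb⟩ := IsPRadical.pow_mem (algebraMap B B') p y
    obtain ⟨c, hc⟩ := (bijective_iterateFrobenius (A' ⊗[A] B) p n).2 ((1 : A') ⊗ₜ[A] b)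
    refine ⟨c, (bijective_iterateFrobenius B' p n).1 ?_⟩
    rw [iterateFrobenius_def] at hc
    rw [iterateFrobenius_def, iterateFrobenius_def, ← map_pow, hc, hμ, Algebra.TensorProduct.lift_tmul, map_one,
      one_mul]
    exact hb

end Groth.Agent.S14257
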