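import Groth.Statements.S14260
import Groth.Agent.FrobLCI.PerfectMap

set_option autoImplicit false
universe u
open FrobAlg

namespace Groth.Agent.S14260

/-- Let p be a prime, φ : A → B a faithfully flat map of commutative rings of characteristic p, i : A →
A' and j : B → B' perfect closures (A', B' perfect rings of characteristic p, every element of A'
resp. B' has a p^n-th power in the image of i resp. j, the kernels of i and j consist of nilpotent
elements), and φ' : A' → B' the induced map, φ' ∘ i = j ∘ φ. Then φ' is faithfully flat. (The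
published statement is that the perfection of a faithfully flat morphism of schemes over the prime
field is faithfully flat; this row is its affine case, to which the published proof reduces.) -/
theorem result (p : ℕ) [Fact p.Prime]
    {A B A' B' : Type u} [CommRing A] [CommRing B] [CommRing A'] [CommRing B']
    [CharP A p] [CharP B p] [CharP A' p] [CharP B' p] [PerfectRing A' p] [PerfectRing B' p]
    (φ : A →+* B) (hflat : φ.FaithfullyFlat) (i : A →+* A') (j : B →+* B') [IsPerfectClosure i p]
    [IsPerfectClosure j p] (φ' : A' →+* B') (hφ : φ'.comp i = j.comp φ) : φ'.FaithfullyFlat := by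
  rw [RingHom.FaithfullyFlat.iff_flat_and_comap_surjective] at hflat ⊢
  refine ⟨Groth.FrobLCI.PerfectMap.flat p φ hflat.1 i j φ' hφ, ?_⟩
  have homeo : ∀ {K L : Type u} [CommRing K] [CommRing L] (f : K →+* L) [IsPRadical f p],
      IsHomeomorph (PrimeSpectrum.comap f) := by
    intro K L _ _ f _
    refine PrimeSpectrum.isHomeomorph_comap f (fun x => ?_) fun x hx => ?_
    · obtain ⟨n, y, hy⟩ := IsPRadical.pow_mem f p x
      exact ⟨p ^ n, pow_pos (Fact.out : p.Prime).pos n, y, hy⟩
    · obtain ⟨m, hm⟩ := mem_pNilradical.mp (IsPRadical.ker_le f p hx)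
      exact ⟨p ^ m, hm⟩
  have hcomp : PrimeSpectrum.comap i ∘ PrimeSpectrum.comap φ' = PrimeSpectrum.comap φ ∘ PrimeSpectrum.comap j := by
    funext Q
    show PrimeSpectrum.comap i (PrimeSpectrum.comap φ' Q) = PrimeSpectrum.comap φ (PrimeSpectrum.comap j Q)
    rw [← PrimeSpectrum.comap_comp_apply, ← PrimeSpectrum.comap_comp_apply, hφ]
  intro P
  obtain ⟨Q, hQ⟩ := hflat.2 (PrimeSpectrum.comap i P)
  obtain ⟨Q', rfl⟩ := (homeo j).surjective Q
  exact ⟨Q', (homeo i).injective ((congrFun hcomp Q').trans hQ)⟩

end Groth.Agent.S14260
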