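import Groth.Statements.S14261
import Mathlib.FieldTheory.IsPerfectClosure
import Mathlib.CategoryTheory.Presentable.Finite
import Mathlib.RingTheory.FinitePresentation

set_option autoImplicit false
set_option linter.style.haveILetI false
universe u
open CategoryTheory
open FrobAlg

namespace Groth.Agent.S14261

open CategoryTheory.Limits

variable (p : ℕ) [Fact p.Prime]

theorem exists_lift {K L M : Type u} [CommRing K] [CharP K p] [CommRing L] [CharP L p] [CommRing M] (i : K →+* L) [IsPRadical i p]
    (j : K →+* M) (hM0 : (p : M) = 0) (hM : Function.Bijective fun y : M => y ^ p) :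
    ∃ g : L →+* M, g.comp i = j := by
  rcases subsingleton_or_nontrivial M with h | h
  · exact ⟨{ toFun := fun _ => 0, map_one' := Subsingleton.elim _ _, map_mul' := fun _ _ => Subsingleton.elim _ _,
             map_zero' := rfl, map_add' := fun _ _ => Subsingleton.elim _ _ }, RingHom.ext fun _ => Subsingleton.elim _ _⟩
  · haveI : CharP M p := (CharP.charP_iff_prime_eq_zero (Fact.out : p.Prime)).2 hM0
    haveI : PerfectRing M p := ⟨hM⟩
    exact ⟨PerfectRing.lift i j p, PerfectRing.lift_comp i j p⟩

theorem lift_unique {K L M : Type u} [CommRing K] [CharP K p] [CommRing L] [CharP L p] [CommRing M] (i : K →+* L) [IsPRadical i p]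
    (hM0 : (p : M) = 0) (hM : Function.Bijective fun y : M => y ^ p) {f g : L →+* M} (h : f.comp i = g.comp i) :
    f = g := by
  rcases subsingleton_or_nontrivial M with hs | hs
  · exact RingHom.ext fun _ => Subsingleton.elim _ _
  · haveI : CharP M p := (CharP.charP_iff_prime_eq_zero (Fact.out : p.Prime)).2 hM0
    haveI : PerfectRing M p := ⟨hM⟩
    exact IsPRadical.injective_comp_of_perfect M i p h

theorem eq_zero_of_pow {M : Type u} [CommRing M] (hM : Function.Bijective fun y : M => y ^ p) :
    ∀ (n : ℕ) {x : M}, x ^ p ^ n = 0 → x = 0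
  | 0, x, h => by rwa [pow_zero, pow_one] at h
  | n + 1, x, h => by
    rw [pow_succ', pow_mul] at h
    have h1 := eq_zero_of_pow hM n h
    exact hM.1 (show x ^ p = (0 : M) ^ p by rw [h1, zero_pow (Fact.out : p.Prime).ne_zero])

variable (B : CommRingCat.{u}) [CharP B p] [PerfectRing B p]

/-- perfect algebras -/
abbrev Obj := ObjectProperty.FullSubcategory fun Y : Under B =>
  (p : Y.right) = 0 ∧ Function.Bijective fun y : Y.right => y ^ p

variable {p B}

theorem hom_ext' {X Z : Obj p B} {f g : X ⟶ Z} (h : ∀ x : X.obj.right, f.hom.right.hom x = g.hom.right.hom x) :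
    f = g := by
  apply ObjectProperty.hom_ext
  apply CategoryTheory.Under.UnderMorphism.ext
  exact CommRingCat.hom_ext (RingHom.ext h)

/-- a morphism from a ring map over `B` -/
noncomputable def mkHom {X Z : Obj p B} (f : X.obj.right ⟶ Z.obj.right)
    (h : ∀ b, f.hom (X.obj.hom.hom b) = Z.obj.hom.hom b) : X ⟶ Z :=
  ObjectProperty.homMk (Under.homMk f (CommRingCat.hom_ext (RingHom.ext h)))

theorem mkHom_apply {X Z : Obj p B} (f : X.obj.right ⟶ Z.obj.right) (h) (x : X.obj.right) :
    (mkHom f h).hom.right.hom x = f.hom x := rfl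

theorem comm_apply {X Z : Obj p B} (f : X ⟶ Z) (b : B) : f.hom.right.hom (X.obj.hom.hom b) = Z.obj.hom.hom b :=
  congrArg (fun φ => φ.hom b) (Under.w f.hom)

theorem comp_apply' {X Y Z : Obj p B} (f : X ⟶ Y) (g : Y ⟶ Z) (x : X.obj.right) :
    (f ≫ g).hom.right.hom x = g.hom.right.hom (f.hom.right.hom x) := rfl

theorem id_apply' (X : Obj p B) (x : X.obj.right) : (𝟙 X : X ⟶ X).hom.right.hom x = x := rfl

variable (A : Obj p B)

/-- elements with a `p`-power in the subalgebra generated by `s` -/
noncomputable def closureSub [CharP A.obj.right p] (s : Finset A.obj.right) : Subring A.obj.right where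
  carrier := {x | ∃ n, x ^ p ^ n ∈ Subring.closure (Set.range A.obj.hom.hom ∪ (s : Set A.obj.right))}
  one_mem' := ⟨0, by simp [Subring.one_mem]⟩
  zero_mem' := ⟨0, by simp [Subring.zero_mem]⟩
  mul_mem' := by
    rintro x y ⟨n, hn⟩ ⟨m, hm⟩
    refine ⟨n + m, ?_⟩
    rw [mul_pow, pow_add, pow_mul, mul_comm (p ^ n) (p ^ m), pow_mul]
    exact Subring.mul_mem _ (Subring.pow_mem _ hn _) (Subring.pow_mem _ hm _)
  add_mem' := by
    rintro x y ⟨n, hn⟩ ⟨m, hm⟩
    refine ⟨n + m, ?_⟩
    rw [add_pow_char_pow, pow_add, pow_mul, mul_comm (p ^ n) (p ^ m), pow_mul]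
    exact Subring.add_mem _ (Subring.pow_mem _ hn _) (Subring.pow_mem _ hm _)
  neg_mem' := by
    rintro x ⟨n, hn⟩
    refine ⟨n, ?_⟩
    rw [neg_pow]
    exact Subring.mul_mem _ (Subring.pow_mem _ (Subring.neg_mem _ (Subring.one_mem _)) _) hn

theorem base_mem [CharP A.obj.right p] (s : Finset A.obj.right) (b : B) : A.obj.hom.hom b ∈ closureSub A s :=
  ⟨0, by rw [pow_zero, pow_one]; exact Subring.subset_closure (Or.inl ⟨b, rfl⟩)⟩

theorem self_mem [CharP A.obj.right p] {s : Finset A.obj.right} {x : A.obj.right} (h : x ∈ s) : x ∈ closureSub A s :=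
  ⟨0, by rw [pow_zero, pow_one]; exact Subring.subset_closure (Or.inr h)⟩

theorem closureSub_mono [CharP A.obj.right p] {s t : Finset A.obj.right} (h : s ⊆ t) : closureSub A s ≤ closureSub A t :=
  fun _ ⟨n, hn⟩ => ⟨n, Subring.closure_mono (Set.union_subset_union_right _ (Finset.coe_subset.2 h)) hn⟩

theorem closureSub_root [CharP A.obj.right p] (s : Finset A.obj.right) (x : A.obj.right)
    (h : x ^ p ∈ closureSub A s) : x ∈ closureSub A s := by
  obtain ⟨n, hn⟩ := h
  exact ⟨n + 1, by rwa [pow_succ', pow_mul]⟩

section Family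

variable {J : Type u} [Preorder J] (S : J → Subring A.obj.right) (hS : Monotone S)
  (hb : ∀ j b, A.obj.hom.hom b ∈ S j) (hroot : ∀ j x, x ^ p ∈ S j → x ∈ S j)

/-- a perfect subalgebra -/
noncomputable def subObj (j : J) : Obj p B :=
  ⟨Under.mk (CommRingCat.ofHom (R := B) (S := S j) (A.obj.hom.hom.codRestrict (S j) (hb j))), by
    refine ⟨Subtype.ext A.property.1, fun x y h => Subtype.ext (A.property.2.1 (congrArg Subtype.val h)), fun y => ?_⟩
    obtain ⟨x, hx⟩ := A.property.2.2 (Subtype.val (p := fun a => a ∈ S j) y)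
    exact ⟨(⟨x, hroot j x (by rw [show x ^ p = _ from hx]; exact (y : S j).2)⟩ : S j), Subtype.ext hx⟩⟩

include hS in
theorem inclusion_mem {i j : J} (h : i ⟶ j) {x : A.obj.right} (hx : x ∈ S i) : x ∈ S j := hS (leOfHom h) hx

/-- the diagram of a monotone family of perfect subalgebras -/
noncomputable def subFunctor : J ⥤ Obj p B where
  obj := subObj A S hb hroot
  map {i j} h := mkHom (X := subObj A S hb hroot i) (Z := subObj A S hb hroot j)
    (CommRingCat.ofHom (Subring.inclusion (hS (leOfHom h)))) (fun _ => Subtype.ext rfl)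
  map_id _ := hom_ext' fun _ => Subtype.ext rfl
  map_comp _ _ := hom_ext' fun _ => Subtype.ext rfl

/-- the cocone -/
noncomputable def subCocone : Cocone (subFunctor A S hS hb hroot) where
  pt := A
  ι := { app := fun j => mkHom (X := subObj A S hb hroot j) (Z := A) (CommRingCat.ofHom (S j).subtype) (fun _ => rfl)
         naturality := fun _ _ _ => hom_ext' fun _ => rfl }

variable [IsDirectedOrder J] (hcov : ∀ x y : A.obj.right, ∃ j, x ∈ S j ∧ y ∈ S j)

include hS hb hroot hcov in
theorem exists_all [Nonempty J] [IsFinitelyPresentable.{u} A] : ∃ j, ∀ x, x ∈ S j := by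
  classical
  have leg : ∀ (c : Cocone (subFunctor A S hS hb hroot)) (i j : J) (x : A.obj.right)
      (hi : x ∈ S i) (hj : x ∈ S j), (c.ι.app i).hom.right.hom ⟨x, hi⟩ = (c.ι.app j).hom.right.hom ⟨x, hj⟩ := by
    intro c i j x hi hj
    obtain ⟨k, hik, hjk⟩ := exists_ge_ge i j
    rw [← c.w (homOfLE hik), ← c.w (homOfLE hjk)]
    rfl
  choose J1 hJ1 using fun x => hcov x x
  have hex : ∀ c : Cocone (subFunctor A S hS hb hroot), ∃ g : A ⟶ c.pt, ∀ (j : J) (x : A.obj.right) (hx : x ∈ S j),
      g.hom.right.hom x = (c.ι.app j).hom.right.hom ⟨x, hx⟩ := fun c => by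
    refine ⟨mkHom (CommRingCat.ofHom
      { toFun := fun x => (c.ι.app (J1 x)).hom.right.hom ⟨x, (hJ1 x).1⟩
        map_one' := map_one (c.ι.app (J1 1)).hom.right.hom
        map_zero' := map_zero (c.ι.app (J1 0)).hom.right.hom
        map_mul' := fun x y => by
          obtain ⟨k, hx, hy⟩ := hcov x y
          rw [leg c _ k x _ hx, leg c _ k y _ hy, leg c _ k (x * y) _ ((S k).mul_mem hx hy)]
          exact map_mul (c.ι.app k).hom.right.hom (show ↥(S k) from ⟨x, hx⟩) (show ↥(S k) from ⟨y, hy⟩)
        map_add' := fun x y => by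
          obtain ⟨k, hx, hy⟩ := hcov x y
          rw [leg c _ k x _ hx, leg c _ k y _ hy, leg c _ k (x + y) _ ((S k).add_mem hx hy)]
          exact map_add (c.ι.app k).hom.right.hom (show ↥(S k) from ⟨x, hx⟩) (show ↥(S k) from ⟨y, hy⟩) }) (fun b => comm_apply (c.ι.app (J1 (A.obj.hom.hom b))) b), fun j x hx => leg c _ j x _ hx⟩
  let hc : IsColimit (subCocone A S hS hb hroot) :=
    { desc := fun c => (hex c).choose
      fac := fun c j => hom_ext' fun x => (hex c).choose_spec j _ (Subtype.prop (p := fun a => a ∈ S j) x)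
      uniq := fun c m hm => hom_ext' fun x => by
        refine Eq.trans ?_ ((hex c).choose_spec (J1 x) x (hJ1 x).1).symm
        rw [← hm (J1 x)]
        rfl }
  obtain ⟨j, q, hq⟩ := IsFinitelyPresentable.exists_hom_of_isColimit hc (X := A) (𝟙 A)
  refine ⟨j, fun x => ?_⟩
  obtain ⟨y, hy⟩ : ∃ y : S j, (y : A.obj.right) = x :=
    ⟨(show ↥(S j) from q.hom.right.hom x), congrArg (fun φ : A ⟶ A => φ.hom.right.hom x) hq⟩
  rw [← hy]
  exact y.2

end Family

theorem exists_gens [IsFinitelyPresentable.{u} A] [CharP A.obj.right p] :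
    ∃ s : Finset A.obj.right, ∀ x, x ∈ closureSub A s := by
  classical
  exact exists_all A (closureSub A) (fun _ _ h => closureSub_mono A h) (base_mem A) (closureSub_root A)
    fun x y => ⟨{x, y}, self_mem A (by simp), self_mem A (by simp)⟩

section Model

variable {P0 : Type u} [CommRing P0] [Algebra B P0] (e : P0 →+* A.obj.right)
  (he : ∀ b, e (algebraMap B P0 b) = A.obj.hom.hom b) [CharP A.obj.right p]

/-- relations -/
noncomputable abbrev rel (R : Finset (RingHom.ker e)) : Ideal P0 :=
  Ideal.span ((fun r : RingHom.ker e => (r : P0)) '' (R : Set (RingHom.ker e)))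

theorem rel_le (R : Finset (RingHom.ker e)) : rel A e R ≤ RingHom.ker e := by
  rw [rel, Ideal.span_le]
  rintro _ ⟨r, _, rfl⟩
  exact r.2

theorem rel_mono {R R' : Finset (RingHom.ker e)} (h : R ⊆ R') : rel A e R ≤ rel A e R' :=
  Ideal.span_mono (Set.image_mono (Finset.coe_subset.2 h))

include he in
theorem charP_quot (R : Finset (RingHom.ker e)) : CharP (P0 ⧸ rel A e R) p := by
  haveI : Nontrivial A.obj.right := CharP.nontrivial_of_char_ne_one (v := p) (Fact.out : p.Prime).ne_one
  haveI : Nontrivial (P0 ⧸ rel A e R) := (Ideal.Quotient.lift (rel A e R) e (rel_le A e R)).domain_nontrivial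
  refine (CharP.charP_iff_prime_eq_zero (Fact.out : p.Prime)).2 ?_
  rw [← map_natCast (Ideal.Quotient.mk (rel A e R)), ← map_natCast (algebraMap B P0), CharP.cast_eq_zero,
    map_zero, map_zero]

/-- the perfect model -/
noncomputable def modelObj (R : Finset (RingHom.ker e)) : Obj p B :=
  haveI := charP_quot A e he R
  ⟨Under.mk (CommRingCat.ofHom (R := B) (S := PerfectClosure (P0 ⧸ rel A e R) p)
      ((PerfectClosure.of _ p).comp ((Ideal.Quotient.mk (rel A e R)).comp (algebraMap B P0)))),
    CharP.cast_eq_zero (PerfectClosure (P0 ⧸ rel A e R) p) p, (PerfectRing.bijective_frobenius : Function.Bijective (frobenius (PerfectClosure (P0 ⧸ rel A e R) p) p))⟩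

/-- the map into the model -/
noncomputable def toModel (R : Finset (RingHom.ker e)) : P0 ⧸ rel A e R →+* (modelObj A e he R).obj.right :=
  haveI := charP_quot A e he R
  PerfectClosure.of _ p

instance toModel_isPRadical (R : Finset (RingHom.ker e)) : IsPRadical (toModel A e he R) p :=
  haveI := charP_quot A e he R
  PerfectClosure.isPRadical (P0 ⧸ rel A e R) p

instance modelObj_charP (R : Finset (RingHom.ker e)) : CharP (modelObj A e he R).obj.right p :=
  haveI := charP_quot A e he R
  (inferInstance : CharP (PerfectClosure (P0 ⧸ rel A e R) p) p)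

theorem model_hom (R : Finset (RingHom.ker e)) (b : B) :
    (modelObj A e he R).obj.hom.hom b = toModel A e he R (Ideal.Quotient.mk _ (algebraMap B P0 b)) := rfl

theorem model_ext {R : Finset (RingHom.ker e)} {Z : Obj p B} {f g : modelObj A e he R ⟶ Z}
    (h : ∀ x : P0, f.hom.right.hom (toModel A e he R (Ideal.Quotient.mk _ x)) =
      g.hom.right.hom (toModel A e he R (Ideal.Quotient.mk _ x))) : f = g := by
  haveI := charP_quot A e he R
  refine hom_ext' (RingHom.congr_fun (lift_unique p (toModel A e he R) Z.property.1 Z.property.2 ?_))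
  exact Ideal.Quotient.ringHom_ext (RingHom.ext h)

theorem exists_modelHom (R : Finset (RingHom.ker e)) (Z : Obj p B) (j : P0 →+* Z.obj.right)
    (hj : rel A e R ≤ RingHom.ker j) (hb : ∀ b, j (algebraMap B P0 b) = Z.obj.hom.hom b) :
    ∃ f : modelObj A e he R ⟶ Z, ∀ x : P0, f.hom.right.hom (toModel A e he R (Ideal.Quotient.mk _ x)) = j x := by
  haveI := charP_quot A e he R
  obtain ⟨g, hg⟩ := exists_lift p (toModel A e he R) (Ideal.Quotient.lift _ j hj) Z.property.1 Z.property.2
  have hg' : ∀ x : P0, g (toModel A e he R (Ideal.Quotient.mk _ x)) = j x := fun x =>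
    RingHom.congr_fun hg (Ideal.Quotient.mk _ x)
  exact ⟨mkHom (CommRingCat.ofHom g) fun b => (congrArg g (model_hom A e he R b)).trans ((hg' _).trans (hb b)), hg'⟩

theorem exists_model_map {R R' : Finset (RingHom.ker e)} (h : R ⊆ R') :
    ∃ f : modelObj A e he R ⟶ modelObj A e he R', ∀ x : P0,
      f.hom.right.hom (toModel A e he R (Ideal.Quotient.mk _ x)) = toModel A e he R' (Ideal.Quotient.mk _ x) :=
  exists_modelHom A e he R _ ((toModel A e he R').comp (Ideal.Quotient.mk _))
    (fun x hx => by
      rw [RingHom.mem_ker, RingHom.comp_apply, Ideal.Quotient.eq_zero_iff_mem.2 (rel_mono A e h hx), map_zero])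
    (fun b => (model_hom A e he R' b).symm)

/-- the diagram of models -/
noncomputable def modelFunctor : Finset (RingHom.ker e) ⥤ Obj p B where
  obj := modelObj A e he
  map h := (exists_model_map A e he (leOfHom h)).choose
  map_id R := model_ext A e he fun x => (exists_model_map A e he (leOfHom (𝟙 R))).choose_spec x
  map_comp {R R' R''} h h' := model_ext A e he fun x => by
    show _ = ((exists_model_map A e he (leOfHom h')).choose).hom.right.hom
      (((exists_model_map A e he (leOfHom h)).choose).hom.right.hom _)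
    rw [(exists_model_map A e he (leOfHom h)).choose_spec, (exists_model_map A e he (leOfHom h')).choose_spec]
    exact (exists_model_map A e he (leOfHom (h ≫ h'))).choose_spec x

include he in
theorem exists_model [IsFinitelyPresentable.{u} A] (hgen : ∀ a : A.obj.right, ∃ n x, e x = a ^ p ^ n)
    {ι : Type u} [Finite ι] (v : ι → P0) (hv : ∀ {S : Type u} [CommRing S] (f g : P0 →+* S),
      f.comp (algebraMap B P0) = g.comp (algebraMap B P0) → (∀ i, f (v i) = g (v i)) → f = g) :
    ∃ R : Finset (RingHom.ker e), ∃ (k : P0 ⧸ rel A e R →+* A.obj.right),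
      (∀ x, k (Ideal.Quotient.mk _ x) = e x) ∧ IsPRadical k p := by
  classical
  let π : ∀ R, modelObj A e he R ⟶ A := fun R => (exists_modelHom A e he R A e (rel_le A e R) he).choose
  have hπ : ∀ R (x : P0), (π R).hom.right.hom (toModel A e he R (Ideal.Quotient.mk _ x)) = e x := fun R =>
    (exists_modelHom A e he R A e (rel_le A e R) he).choose_spec
  have hmap : ∀ {R R' : Finset (RingHom.ker e)} (h : R ⟶ R') (x : P0),
      ((modelFunctor A e he).map h).hom.right.hom (toModel A e he R (Ideal.Quotient.mk _ x)) =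
        toModel A e he R' (Ideal.Quotient.mk _ x) := fun h x => (exists_model_map A e he (leOfHom h)).choose_spec x
  have hnat : ∀ {R R' : Finset (RingHom.ker e)} (h : R ⟶ R'), (modelFunctor A e he).map h ≫ π R' = π R := fun h =>
    model_ext A e he fun x => by
      show (π _).hom.right.hom (((modelFunctor A e he).map h).hom.right.hom _) = _
      rw [hmap, hπ, hπ]
  let c : Cocone (modelFunctor A e he) :=
    { pt := A, ι := { app := π, naturality := fun R R' h => (hnat h).trans (Category.comp_id _).symm } }
  -- the universal property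
  let ē : P0 ⧸ RingHom.ker e →+* A.obj.right := RingHom.kerLift e
  haveI : CharP (P0 ⧸ RingHom.ker e) p := RingHom.charP ē (RingHom.kerLift_injective e) p
  haveI : IsPRadical ē p := by
    refine ⟨fun a => ?_, fun x hx => ?_⟩
    · obtain ⟨n, x, hx⟩ := hgen a
      exact ⟨n, Ideal.Quotient.mk _ x, hx⟩
    · rw [show x = 0 from RingHom.kerLift_injective e (by rw [RingHom.mem_ker.1 hx, map_zero])]
      exact Submodule.zero_mem _
  have hex : ∀ Z : Cocone (modelFunctor A e he), ∃ g : A ⟶ Z.pt, ∀ R (x : P0),
      g.hom.right.hom (e x) = (Z.ι.app R).hom.right.hom (toModel A e he R (Ideal.Quotient.mk _ x)) := by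
    intro Z
    let j : P0 →+* Z.pt.obj.right :=
      (Z.ι.app ∅).hom.right.hom.comp ((toModel A e he ∅).comp (Ideal.Quotient.mk _))
    have hj : ∀ R (x : P0), (Z.ι.app R).hom.right.hom (toModel A e he R (Ideal.Quotient.mk _ x)) = j x := by
      intro R x
      have h := congrArg (fun φ : modelObj A e he ∅ ⟶ Z.pt => φ.hom.right.hom (toModel A e he ∅ (Ideal.Quotient.mk _ x)))
        (Z.w (homOfLE (Finset.empty_subset R)))
      refine Eq.trans ?_ h
      show _ = (Z.ι.app R).hom.right.hom (((modelFunctor A e he).map _).hom.right.hom _)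
      rw [hmap]
    have hker : RingHom.ker e ≤ RingHom.ker j := fun x hx => by
      have hmem : x ∈ rel A e {⟨x, hx⟩} := Ideal.subset_span ⟨⟨x, hx⟩, Finset.mem_singleton_self _, rfl⟩
      rw [RingHom.mem_ker, ← hj {⟨x, hx⟩} x, Ideal.Quotient.eq_zero_iff_mem.2 hmem]
      exact (congrArg _ (map_zero (toModel A e he _))).trans (map_zero _)
    obtain ⟨g, hg⟩ := exists_lift p ē (Ideal.Quotient.lift _ j hker) Z.pt.property.1 Z.pt.property.2
    have hg' : ∀ x : P0, g (e x) = j x := fun x => RingHom.congr_fun hg (Ideal.Quotient.mk _ x)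
    refine ⟨mkHom (CommRingCat.ofHom g) fun b => ?_, fun R x => (hg' x).trans (hj R x).symm⟩
    refine (congrArg g (he b).symm).trans ((hg' _).trans ?_)
    exact (congrArg (Z.ι.app ∅).hom.right.hom (model_hom A e he ∅ b).symm).trans (comm_apply (Z.ι.app ∅) b)
  let hc : IsColimit c :=
    { desc := fun Z => (hex Z).choose
      fac := fun Z R => model_ext A e he fun x => by
        show (hex Z).choose.hom.right.hom ((π R).hom.right.hom _) = _
        rw [hπ]
        exact (hex Z).choose_spec R x
      uniq := fun Z m hm => hom_ext' (RingHom.congr_fun (lift_unique p ē Z.pt.property.1 Z.pt.property.2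
        (Ideal.Quotient.ringHom_ext (RingHom.ext fun x => by
          show m.hom.right.hom (e x) = (hex Z).choose.hom.right.hom (e x)
          rw [(hex Z).choose_spec ∅ x, ← hm ∅, ← hπ ∅ x]
          rfl)))) }
  obtain ⟨R, σ₀, hσ₀⟩ := IsFinitelyPresentable.exists_hom_of_isColimit hc (X := A) (𝟙 A)
  obtain ⟨σ, hσ⟩ : ∃ σ : A ⟶ modelObj A e he R, σ ≫ π R = 𝟙 A := ⟨σ₀, hσ₀⟩
  have hσ' : ∀ a, (π R).hom.right.hom (σ.hom.right.hom a) = a := fun a =>
    congrArg (fun φ : A ⟶ A => φ.hom.right.hom a) hσ
  -- the finitely many differences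
  let d : ι → (modelObj A e he R).obj.right := fun i =>
    σ.hom.right.hom (e (v i)) - toModel A e he R (Ideal.Quotient.mk _ (v i))
  have hd : ∀ i, ∃ g : RingHom.ker e, ∃ N, toModel A e he R (Ideal.Quotient.mk _ (g : P0)) = d i ^ p ^ N := by
    intro i
    obtain ⟨N, y, hy⟩ := IsPRadical.pow_mem (toModel A e he R) p (d i)
    obtain ⟨g, rfl⟩ := Ideal.Quotient.mk_surjective y
    refine ⟨⟨g, ?_⟩, N, hy⟩
    rw [RingHom.mem_ker, ← hπ R g, hy, map_pow,
      show (π R).hom.right.hom (d i) = 0 by rw [map_sub, hσ', hπ, sub_self], zero_pow (pow_ne_zero N (Fact.out : p.Prime).ne_zero)]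
  choose g N hg using hd
  haveI : Fintype ι := Fintype.ofFinite ι
  let R' := R ∪ Finset.univ.image g
  let τ : modelObj A e he R ⟶ modelObj A e he R' := (modelFunctor A e he).map (homOfLE (Finset.subset_union_left : R ⊆ R'))
  have hτ : ∀ x : P0, τ.hom.right.hom (toModel A e he R (Ideal.Quotient.mk _ x)) =
      toModel A e he R' (Ideal.Quotient.mk _ x) := hmap _
  have hinv : π R' ≫ σ ≫ τ = 𝟙 (modelObj A e he R') := by
    refine model_ext A e he fun x => ?_
    show τ.hom.right.hom (σ.hom.right.hom ((π R').hom.right.hom _)) = _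
    rw [hπ]
    refine RingHom.congr_fun (hv ((τ.hom.right.hom.comp σ.hom.right.hom).comp e)
      ((toModel A e he R').comp (Ideal.Quotient.mk _)) (RingHom.ext fun b => ?_) fun i => ?_) x
    · show τ.hom.right.hom (σ.hom.right.hom (e (algebraMap B P0 b))) = _
      rw [he, comm_apply σ]
      exact (comm_apply τ b).trans (model_hom A e he R' b)
    · show τ.hom.right.hom (σ.hom.right.hom (e (v i))) = toModel A e he R' (Ideal.Quotient.mk _ (v i))
      have h0 : τ.hom.right.hom (d i) = 0 := by
        refine eq_zero_of_pow p (modelObj A e he R').property.2 (N i) ?_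
        rw [← map_pow, ← hg i, hτ, Ideal.Quotient.eq_zero_iff_mem.2, map_zero]
        exact Ideal.subset_span ⟨g i, by simp [R'], rfl⟩
      rw [map_sub, sub_eq_zero, hτ] at h0
      exact h0
  have hinj : Function.Injective (π R').hom.right.hom := Function.LeftInverse.injective
    (g := fun a => τ.hom.right.hom (σ.hom.right.hom a)) fun y =>
      congrArg (fun φ : modelObj A e he R' ⟶ modelObj A e he R' => φ.hom.right.hom y) hinv
  have hsurj : Function.Surjective (π R').hom.right.hom := fun a => ⟨τ.hom.right.hom (σ.hom.right.hom a), by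
    have := congrArg (fun φ : modelObj A e he R ⟶ A => φ.hom.right.hom (σ.hom.right.hom a))
      (hnat (homOfLE (Finset.subset_union_left : R ⊆ R')))
    exact this.trans (hσ' a)⟩
  refine ⟨R', (π R').hom.right.hom.comp (toModel A e he R'), hπ R', ⟨fun a => ?_, fun x hx => ?_⟩⟩
  · obtain ⟨y, rfl⟩ := hsurj a
    obtain ⟨n, z, hz⟩ := IsPRadical.pow_mem (toModel A e he R') p y
    exact ⟨n, z, by rw [RingHom.comp_apply, hz, map_pow]⟩
  · refine IsPRadical.ker_le (toModel A e he R') p (RingHom.mem_ker.2 (hinj ?_))
    rw [map_zero]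
    exact RingHom.mem_ker.1 hx

end Model

/-- Let p be a prime, B a perfect ring of characteristic p and A a perfect B-algebra (p = 0 in A and the
p-th power map of A is bijective). Suppose A is a finitely presentable object of the category of
perfect B-algebras (the full subcategory of B-algebras on the perfect ones): B-algebra maps from A
into a filtered colimit of perfect B-algebras factor through some term of the system, uniquely after
passing to a later term. Then A is perfectly finitely presented over B: there are a finitely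
presented B-algebra A₀ and a B-algebra homomorphism k : A₀ → A which exhibits A as a perfect closure
of A₀ (every element of A has some p^n-th power in the image of k, and every element of the kernel
of k is nilpotent). (The published statement is the equivalence, for morphisms of quasi-compact
quasi-separated perfect schemes, of perfect finite presentation with a compactness condition ranging
over cofiltered systems of perfect schemes with affine transition maps; this row is the case of
affine schemes with the compactness condition tested on affine systems only, which is all the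
published argument uses.) -/
theorem result (p : ℕ) [Fact p.Prime] (B : CommRingCat.{u})
    [CharP B p] [PerfectRing B p]
    (A : ObjectProperty.FullSubcategory fun Y : Under B => (p : Y.right) = 0 ∧ Function.Bijective fun y : Y.right => y ^ p)
    [IsFinitelyPresentable.{u} A] :
    ∃ (A₀ : Type u) (_ : CommRing A₀) (_ : Algebra B A₀) (_ : Algebra.FinitePresentation B A₀)
      (k : A₀ →+* A.obj.right), k.comp (algebraMap B A₀) = A.obj.hom.hom ∧ IsPRadical k p := by
  rcases subsingleton_or_nontrivial A.obj.right with hs | hs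
  · refine ⟨B ⧸ (⊤ : Ideal B), inferInstance, inferInstance,
      Algebra.FinitePresentation.quotient ⟨{1}, by simp⟩,
      { toFun := fun _ => 0, map_one' := Subsingleton.elim _ _, map_mul' := fun _ _ => Subsingleton.elim _ _,
        map_zero' := rfl, map_add' := fun _ _ => Subsingleton.elim _ _ },
      RingHom.ext fun _ => Subsingleton.elim _ _, ⟨fun x => ⟨0, 0, Subsingleton.elim _ _⟩, fun x _ => ?_⟩⟩
    rw [Subsingleton.elim x 0]
    exact Submodule.zero_mem _
  haveI : CharP A.obj.right p := (CharP.charP_iff_prime_eq_zero (Fact.out : p.Prime)).2 A.property.1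
  obtain ⟨s, hs'⟩ := exists_gens A
  let e : MvPolynomial {x // x ∈ s} B →+* A.obj.right := MvPolynomial.eval₂Hom A.obj.hom.hom Subtype.val
  have he : ∀ b, e (algebraMap B (MvPolynomial {x // x ∈ s} B) b) = A.obj.hom.hom b := fun b =>
    MvPolynomial.eval₂Hom_C _ _ b
  have hgen : ∀ a : A.obj.right, ∃ n x, e x = a ^ p ^ n := fun a => by
    obtain ⟨n, hn⟩ := hs' a
    refine ⟨n, ?_⟩
    have hle : Subring.closure (Set.range A.obj.hom.hom ∪ (s : Set A.obj.right)) ≤ e.range := by
      rw [Subring.closure_le]
      rintro x (⟨b, rfl⟩ | hx)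
      · exact ⟨MvPolynomial.C b, MvPolynomial.eval₂Hom_C _ _ b⟩
      · exact ⟨MvPolynomial.X ⟨x, hx⟩, MvPolynomial.eval₂Hom_X' _ _ _⟩
    exact RingHom.mem_range.1 (hle hn)
  obtain ⟨R, k, hk, hk'⟩ := exists_model A e he hgen (MvPolynomial.X) (fun f g hfg hX =>
    MvPolynomial.ringHom_ext (fun b => RingHom.congr_fun hfg b) hX)
  exact ⟨MvPolynomial {x // x ∈ s} B ⧸ rel A e R, inferInstance, inferInstance,
    Algebra.FinitePresentation.quotient (Submodule.fg_span (R.finite_toSet.image _)), k,
    RingHom.ext fun b => (hk _).trans (he b), hk'⟩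

end Groth.Agent.S14261
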