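import Groth.Statements.S14269
import Groth.Agent.Pi1Vdim.Connected
import Groth.Agent.Pi1PBC.Basic
import Groth.Agent.Calg6.LimitFlatComplete

set_option backward.isDefEq.respectTransparency false
set_option backward.defeqAttrib.useBackward true
set_option linter.style.haveILetI false

set_option autoImplicit false
universe u
open Pi1

namespace Groth.Agent.S14269

open AlgebraicGeometry CategoryTheory CategoryTheory.Limits in
/-- Let A be a Noetherian local ring of virtual dimension at least 2, the virtual dimension being
expressed through a presentation of the adic completion of A as a quotient S/I of a complete regular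
local ring S of Krull dimension d by an ideal I generated by a finite set of at most d - 2 elements.
Then the restriction functor from finite etale covers of Spec A to finite etale covers of the
punctured spectrum is fully faithful, and the punctured spectrum is connected. (The published
statement also records the surjectivity of the induced map on etale fundamental groups, which is the
usual reformulation of full faithfulness and is not restated here.) -/
theorem result (A : Type u) [CommRing A] [IsNoetherianRing A] [IsLocalRing A]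
    (S : Type u) [CommRing S] [IsRegularLocalRing S] [IsAdicComplete (IsLocalRing.maximalIdeal S) S]
    (d : ℕ) (hd : ringKrullDim S = d) (s : Finset S) (hs : s.card + 2 ≤ d)
    (e : AdicCompletion (IsLocalRing.maximalIdeal A) A ≃+* S ⧸ Ideal.span (s : Set S)) :
    ((FEt.restrict (FEt.puncturedSpec A).ι).Full ∧ (FEt.restrict (FEt.puncturedSpec A).ι).Faithful) ∧
      ConnectedSpace ↥(FEt.puncturedSpec A : Scheme.{u}) := by
  have hQloc : IsLocalRing (S ⧸ Ideal.span (s : Set S)) := e.isLocalRing
  letI : Algebra A (S ⧸ Ideal.span (s : Set S)) :=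
    (e.toRingHom.comp (algebraMap A (AdicCompletion (IsLocalRing.maximalIdeal A) A))).toAlgebra
  haveI : Module.FaithfullyFlat A (S ⧸ Ideal.span (s : Set S)) := by
    refine RingHom.faithfullyFlat_algebraMap_iff.1 (RingHom.FaithfullyFlat.stableUnderComposition _ _
      (RingHom.faithfullyFlat_algebraMap_iff.2 ?_) (RingHom.FaithfullyFlat.of_bijective e.bijective))
    exact Groth.Calg6.LimitFlat.faithfullyFlat_completion A
  have hmap : (IsLocalRing.maximalIdeal A).map (algebraMap A (S ⧸ Ideal.span (s : Set S))) =
      IsLocalRing.maximalIdeal _ := by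
    rw [RingHom.algebraMap_toAlgebra, ← Ideal.map_map, ← AdicCompletion.maximalIdeal_eq_map]
    exact IsLocalRing.eq_maximalIdeal (Ideal.map_isMaximal_of_equiv e)
  have hsur : ∀ y : S ⧸ Ideal.span (s : Set S), ∃ a : A,
      y - algebraMap A _ a ∈ IsLocalRing.maximalIdeal _ := by
    intro y
    obtain ⟨a, ha⟩ := Ideal.Quotient.mk_surjective
      (AdicCompletion.evalOneₐ (IsLocalRing.maximalIdeal A) (e.symm y))
    refine ⟨a, ?_⟩
    have h1 : e.symm y - algebraMap A _ a ∈
        RingHom.ker (AdicCompletion.evalOneₐ (IsLocalRing.maximalIdeal A)).toRingHom := by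
      rw [RingHom.mem_ker, map_sub, sub_eq_zero]
      exact ha.symm.trans ((AdicCompletion.evalOneₐ (IsLocalRing.maximalIdeal A)).commutes a).symm
    rw [show RingHom.ker (AdicCompletion.evalOneₐ (IsLocalRing.maximalIdeal A)).toRingHom =
      (IsLocalRing.maximalIdeal A).map (algebraMap A (AdicCompletion (IsLocalRing.maximalIdeal A) A)) from
      AdicCompletion.ker_evalOneₐ_eq_map _ (IsLocalRing.maximalIdeal A).fg_of_isNoetherianRing] at h1
    have h2 := Ideal.mem_map_of_mem e.toRingHom h1
    rw [Ideal.map_map, show e.toRingHom.comp (algebraMap A _) = algebraMap A (S ⧸ Ideal.span (s : Set S)) from rfl,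
      hmap] at h2
    simpa [RingHom.algebraMap_toAlgebra] using h2
  have hA : ∀ (B : Type u) [CommRing B] [Algebra A B] [Module.Finite A B] [Algebra.Etale A B],
      Groth.HensPair.ClopenBij (Subtype.val : Groth.Pi1Vdim.punc A B → PrimeSpectrum B) := fun B _ _ _ _ =>
    Groth.Pi1Vdim.clopenBij_descend hmap hsur B (Groth.Pi1Vdim.clopenBij_quotient S d s hd hs _)
  refine ⟨Groth.Pi1PBC.fullyFaithful_of_clopenBij _ fun W => ?_, ?_⟩
  · haveI : IsFinite W.hom := W.prop.1
    haveI : Etale W.hom := W.prop.2
    let w : W.left ⟶ Spec (CommRingCat.of A) := W.hom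
    haveI : IsFinite w := W.prop.1
    haveI : Etale w := W.prop.2
    haveI : IsAffine W.left := isAffine_of_isAffineHom w
    let φ := Spec.preimage (W.left.isoSpec.inv ≫ w)
    have hφ : Spec.map φ = W.left.isoSpec.inv ≫ w := Spec.map_preimage _
    letI : Algebra A Γ(W.left, ⊤) := φ.hom.toAlgebra
    haveI : Module.Finite A Γ(W.left, ⊤) := by
      have : IsFinite (Spec.map φ) := hφ ▸ inferInstance
      exact (IsFinite.SpecMap_iff φ).1 this
    haveI : Algebra.Etale A Γ(W.left, ⊤) := by
      have : Etale (Spec.map φ) := hφ ▸ inferInstance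
      exact RingHom.etale_algebraMap.1 ((HasRingHomProperty.Spec_iff (P := @Etale)).1 this)
    let ψ : PrimeSpectrum Γ(W.left, ⊤) ≃ₜ W.left := Scheme.homeoOfIso W.left.isoSpec.symm
    refine Groth.HensPair.ClopenBij.of_range_eq
      (q := ψ ∘ (Subtype.val : Groth.Pi1Vdim.punc A Γ(W.left, ⊤) → _))
      (ψ.isEmbedding.comp Topology.IsEmbedding.subtypeVal)
      (pullback.fst W.hom (FEt.puncturedSpec A).ι).isOpenEmbedding.isEmbedding ?_
      ((Groth.HensPair.ClopenBij.comp_homeomorph ψ).2 (hA _))
    rw [Set.range_comp, Subtype.range_val]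
    refine Eq.trans ?_ (Scheme.Pullback.range_fst W.hom (FEt.puncturedSpec A).ι).symm
    rw [Scheme.Opens.range_ι]
    ext z
    obtain ⟨q, rfl⟩ := ψ.surjective z
    rw [ψ.injective.mem_set_image]
    have he : w (ψ q) = PrimeSpectrum.comap φ.hom q := by
      change w (W.left.isoSpec.inv q) = _
      rw [← Scheme.Hom.comp_apply, ← hφ]
      rfl
    change _ ↔ w (ψ q) ∈ ({IsLocalRing.closedPoint A}ᶜ : Set (PrimeSpectrum A))
    rw [he]
    rfl
  · haveI : Nonempty ↥(FEt.puncturedSpec A : Scheme.{u}) := by
      obtain ⟨x, hx⟩ := (Groth.Pi1Vdim.isConnected_local S d s hd hs (S ⧸ Ideal.span (s : Set S))).1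
      refine ⟨⟨PrimeSpectrum.comap (algebraMap A _) x, fun h => hx ?_⟩⟩
      have h' : (IsLocalRing.maximalIdeal A).map (algebraMap A (S ⧸ Ideal.span (s : Set S))) ≤ x.asIdeal :=
        Ideal.map_le_iff_le_comap.2 (congrArg PrimeSpectrum.asIdeal h).ge
      rw [hmap] at h'
      exact PrimeSpectrum.ext ((IsLocalRing.maximalIdeal.isMaximal _).eq_of_le x.isPrime.ne_top h').symm
    haveI : PreconnectedSpace ↥(FEt.puncturedSpec A : Scheme.{u}) := by
      refine preconnectedSpace_iff_clopen.2 fun V hV => ?_
      have hC : Groth.HensPair.ClopenBij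
          ((FEt.puncturedSpec A).ι.base : ↥(FEt.puncturedSpec A : Scheme.{u}) → ↥(Spec (CommRingCat.of A))) :=
        (hA A).of_range_eq (q' := (FEt.puncturedSpec A).ι.base) Topology.IsEmbedding.subtypeVal
          (FEt.puncturedSpec A).ι.isOpenEmbedding.isEmbedding
          (by rw [Subtype.range_val, Scheme.Opens.range_ι]; rfl)
      obtain ⟨C, ⟨hC', hCV⟩, -⟩ := hC V hV
      by_cases h : IsLocalRing.closedPoint A ∈ C
      · right
        rw [← hCV]
        exact Set.eq_univ_of_forall fun y => (IsLocalRing.specializes_closedPoint y.1).mem_open hC'.2 h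
      · left
        rw [← hCV]
        exact Set.eq_empty_of_forall_notMem fun y hy =>
          h ((IsLocalRing.specializes_closedPoint y.1).mem_closed hC'.1 hy)
    exact ⟨inferInstance⟩

end Groth.Agent.S14269
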