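import Groth.Statements.S14271
import Groth.Agent.GrpschAbsch.SchDense

set_option autoImplicit false
universe u
open FlatPur

namespace Groth.Agent.S14271

open AlgebraicGeometry CategoryTheory CategoryTheory.Limits in
/-- A section vanishing on `U` vanishes, if every local ring outside `U` has depth at least one. -/
theorem section_eq_zero (X : Scheme.{u}) (U : X.Opens)
    (hZ : ∀ z : X, z ∉ U → ∃ a ∈ IsLocalRing.maximalIdeal (X.presheaf.stalk z),
      IsSMulRegular (X.presheaf.stalk z) a)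
    (V : X.Opens) (s : Γ(X, V))
    (hs : ∀ (x : X) (hx : x ∈ V), x ∈ U → X.presheaf.germ V x hx s = 0) : s = 0 := by
  apply TopCat.Presheaf.section_ext X.sheaf
  intro x hx
  erw [map_zero]
  obtain ⟨_, ⟨W, hW, rfl⟩, hxW, hWV⟩ :=
    X.isBasis_affineOpens.exists_subset_of_mem_open hx V.isOpen
  replace hW : IsAffineOpen W := hW
  replace hWV : W ≤ V := hWV
  set t : Γ(X, W) := X.presheaf.map (homOfLE hWV).op s with ht
  suffices h : t = 0 by
    change X.presheaf.germ V x hx s = 0
    rw [← TopCat.Presheaf.germ_res_apply X.presheaf (homOfLE hWV) x hxW s, ← ht, h, map_zero]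
  by_contra h0
  let A : Ideal Γ(X, W) := LinearMap.ker (LinearMap.toSpanSingleton Γ(X, W) Γ(X, W) t)
  have hA : ∀ r, r ∈ A ↔ r * t = 0 := fun r => by simp [A]
  have hAtop : A ≠ ⊤ := fun e => h0 (by simpa using (hA 1).1 (e ▸ Submodule.mem_top))
  obtain ⟨m, hm, hAm⟩ := Ideal.exists_le_maximal A hAtop
  obtain ⟨p, hp, -⟩ := Ideal.exists_minimalPrimes_le hAm
  have hpp : p.IsPrime := hp.1.1
  let y : PrimeSpectrum Γ(X, W) := ⟨p, hpp⟩
  have hyW : hW.fromSpec y ∈ W := by
    have := Set.mem_range_self (f := hW.fromSpec) y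
    rwa [hW.range_fromSpec] at this
  let L := X.presheaf.stalk (hW.fromSpec y)
  let _ : Algebra Γ(X, W) L :=
    TopCat.Presheaf.algebra_section_stalk X.presheaf (⟨hW.fromSpec y, hyW⟩ : W)
  have : IsLocalization.AtPrime L p := hW.isLocalization_stalk' y hyW
  have hne : algebraMap Γ(X, W) L t ≠ 0 := fun e => by
    obtain ⟨⟨c, hc⟩, hct⟩ := (IsLocalization.map_eq_zero_iff p.primeCompl L t).1 e
    exact hc (hp.1.2 ((hA c).2 hct))
  have hzU : hW.fromSpec y ∉ U := fun hzU => hne (by
    change X.presheaf.germ W _ hyW t = 0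
    rw [ht, TopCat.Presheaf.germ_res_apply]
    exact hs _ (hWV hyW) hzU)
  obtain ⟨a, ha, hreg⟩ := hZ _ hzU
  let B : Ideal L := LinearMap.ker (LinearMap.toSpanSingleton L L (algebraMap Γ(X, W) L t))
  have hB : ∀ r, r ∈ B ↔ r * algebraMap Γ(X, W) L t = 0 := fun r => by simp [B]
  have hrad : a ∈ B.radical := by
    rw [Ideal.radical_eq_sInf, Ideal.mem_sInf]
    rintro Q ⟨hBQ, hQ⟩
    have h1 : A ≤ Q.comap (algebraMap Γ(X, W) L) := fun r hr =>
      Ideal.mem_comap.2 (hBQ ((hB _).2 (by rw [← map_mul, (hA r).1 hr, map_zero])))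
    have h2 : Q.comap (algebraMap Γ(X, W) L) ≤ p := by
      intro r hr
      by_contra hrp
      exact hQ.ne_top (Ideal.eq_top_of_isUnit_mem _ hr
        (IsLocalization.map_units L (⟨r, hrp⟩ : p.primeCompl)))
    have h3 : p ≤ Q.comap (algebraMap Γ(X, W) L) := hp.2 ⟨inferInstance, h1⟩ h2
    have hmap : IsLocalRing.maximalIdeal L = p.map (algebraMap Γ(X, W) L) :=
      (IsLocalization.AtPrime.map_eq_maximalIdeal p L).symm
    exact (hmap.trans_le (Ideal.map_le_iff_le_comap.2 h3)) ha
  obtain ⟨n, hn⟩ := hrad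
  exact hne ((hreg.pow n) (by simpa [smul_eq_mul] using (hB _).1 hn))

open AlgebraicGeometry CategoryTheory CategoryTheory.Limits in
/-- Let X be a scheme and U an open subscheme whose inclusion is quasi-compact, such that for every
point z of X outside U the maximal ideal of O_{X,z} contains an element that is regular (a
nonzerodivisor) on that local ring. Then for every separated X-scheme Y the restriction map from
X-sections of Y to U-sections of Y is injective: two sections of Y -> X that agree on U are equal. -/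
theorem result (X : Scheme.{u}) (U : X.Opens) [QuasiCompact U.ι]
    (hZ : ∀ z : X, z ∉ U → ∃ a ∈ IsLocalRing.maximalIdeal (X.presheaf.stalk z), IsSMulRegular (X.presheaf.stalk z) a)
    (Y : Scheme.{u}) (f : Y ⟶ X) [IsSeparated f] (s₁ s₂ : X ⟶ Y) (h₁ : s₁ ≫ f = 𝟙 X) (h₂ : s₂ ≫ f = 𝟙 X)
    (hU : U.ι ≫ s₁ = U.ι ≫ s₂) : s₁ = s₂ := by
  have : IsSchemeTheoreticallyDominant U.ι := by
    refine Groth.GrpschAbsch.isSchemeTheoreticallyDominant_ι U fun V a b hab => ?_
    refine sub_eq_zero.1 (section_eq_zero X U hZ V (a - b) fun x hx hxU => ?_)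
    have := congrArg (X.presheaf.germ (V ⊓ U) x ⟨hx, hxU⟩).hom hab
    rw [map_sub, sub_eq_zero]
    simpa [TopCat.Presheaf.germ_res_apply] using this
  exact Groth.GrpschAbsch.ext_of_isSchemeTheoreticallyDominant f (h₁.trans h₂.symm) U.ι hU

end Groth.Agent.S14271
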