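import Groth.Statements.S14275
import Mathlib

set_option autoImplicit false
universe u
open CAlg

namespace Groth.Agent.S14275
section
variable {A : Type u} [CommRing A] {M N : Type u} [AddCommGroup M] [Module A M] [AddCommGroup N] [Module A N]
  (a x : A)

theorem mem_pow_smul_top {n : ℕ} {m : M} :
    m ∈ ((Ideal.span {a}) ^ n • ⊤ : Submodule A M) ↔ ∃ z, a ^ n • z = m := by
  rw [Ideal.span_singleton_pow, Submodule.ideal_span_singleton_smul, Submodule.mem_smul_pointwise_iff_exists]
  simp

variable {a x} (hx : ∀ z : M, x • z = 0 → z = 0) (q : M →ₗ[A] N) (hq : ∀ m, q m = 0 ↔ ∃ z, x • z = m)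
  {B : ℕ} (hB : ∀ y : N, (∃ m : ℕ, a ^ m • y = 0) → a ^ B • y = 0)

include hx hq hB in
theorem artinRees {n : ℕ} {z : M} (h : x • z ∈ ((Ideal.span {a}) ^ (n + B) • ⊤ : Submodule A M)) :
    z ∈ ((Ideal.span {a}) ^ n • ⊤ : Submodule A M) := by
  obtain ⟨w, hw⟩ := (mem_pow_smul_top a).1 h
  have h1 : a ^ B • q w = 0 := hB _ ⟨n + B, by rw [← map_smul, hw]; exact (hq _).2 ⟨z, rfl⟩⟩
  rw [← map_smul, hq] at h1
  obtain ⟨v, hv⟩ := h1
  refine (mem_pow_smul_top a).2 ⟨v, ?_⟩
  rw [← sub_eq_zero]
  apply hx
  rw [smul_sub, smul_comm x, hv, smul_smul, ← pow_add, hw, sub_self]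

include hx hq hB in
theorem smul_injective {d : AdicCompletion (Ideal.span {a}) M} (hd : x • d = 0) : d = 0 := by
  ext n
  obtain ⟨f, rfl⟩ := AdicCompletion.mk_surjective _ _ d
  have h := congrArg (fun c => c.val (n + B)) hd
  simp only [AdicCompletion.val_smul_apply, AdicCompletion.mk_apply_coe, Submodule.mkQ_apply, AdicCompletion.val_zero_apply,
    ← Submodule.Quotient.mk_smul, Submodule.Quotient.mk_eq_zero] at h
  rw [AdicCompletion.mk_apply_coe, Submodule.mkQ_apply, AdicCompletion.val_zero_apply,
    ← AdicCompletion.AdicCauchySequence.mk_eq_mk (Nat.le_add_right n B), Submodule.Quotient.mk_eq_zero]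
  exact artinRees hx q hq hB h

include hx hq hB in
theorem exists_smul_of_map_eq_zero (hsurj : Function.Surjective q) {c : AdicCompletion (Ideal.span {a}) M}
    (hc : AdicCompletion.map (Ideal.span {a}) q c = 0) : ∃ d, x • d = c := by
  obtain ⟨f, rfl⟩ := AdicCompletion.mk_surjective _ _ c
  have hy : ∀ n, ∃ y : M, f n - x • y ∈ ((Ideal.span {a}) ^ n • ⊤ : Submodule A M) := by
    intro n
    have h := congrArg (fun c => c.val n) hc
    simp only [AdicCompletion.map_val_apply, AdicCompletion.mk_apply_coe, Submodule.mkQ_apply, AdicCompletion.val_zero_apply] at h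
    have h2 : q (f n) ∈ ((Ideal.span {a}) ^ n • ⊤ : Submodule A N) := (Submodule.Quotient.mk_eq_zero _).1 h
    obtain ⟨w, hw⟩ := (mem_pow_smul_top a).1 h2
    obtain ⟨m, rfl⟩ := hsurj w
    obtain ⟨y, hy⟩ := (hq (f n - a ^ n • m)).1 (by rw [map_sub, map_smul, hw, sub_self])
    exact ⟨y, by rw [hy, sub_sub_cancel]; exact (mem_pow_smul_top a).2 ⟨m, rfl⟩⟩
  choose y hy using hy
  have hcauchy : ∀ n, y (n + B) ≡ y (n + 1 + B) [SMOD ((Ideal.span {a}) ^ n • ⊤ : Submodule A M)] := by
    intro n
    rw [SModEq.sub_mem]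
    refine artinRees hx q hq hB ?_
    have h1 := hy (n + B)
    have h2 := hy (n + 1 + B)
    have h3 : f (n + 1 + B) - f (n + B) ∈ ((Ideal.span {a}) ^ (n + B) • ⊤ : Submodule A M) :=
      (Submodule.Quotient.eq _).1 (AdicCompletion.AdicCauchySequence.mk_eq_mk (show n + B ≤ n + 1 + B by omega) f)
    have h2' := Submodule.smul_mono_left (Ideal.pow_le_pow_right (I := Ideal.span {a}) (show n + B ≤ n + 1 + B by omega)) h2
    have := add_mem (sub_mem h2' h1) (neg_mem h3)
    convert this using 1
    rw [smul_sub]; abel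
  refine ⟨AdicCompletion.mk _ _ (AdicCompletion.AdicCauchySequence.mk _ _ (fun n => y (n + B)) hcauchy), ?_⟩
  ext n
  simp only [AdicCompletion.val_smul_apply, AdicCompletion.mk_apply_coe, Submodule.mkQ_apply, AdicCompletion.AdicCauchySequence.mk_coe,
    ← Submodule.Quotient.mk_smul, Submodule.Quotient.eq]
  have h1 := neg_mem (Submodule.smul_mono_left (Ideal.pow_le_pow_right (I := Ideal.span {a}) (Nat.le_add_right n B)) (hy (n + B)))
  have h3 : f (n + B) - f n ∈ ((Ideal.span {a}) ^ n • ⊤ : Submodule A M) :=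
    (Submodule.Quotient.eq _).1 (AdicCompletion.AdicCauchySequence.mk_eq_mk (Nat.le_add_right n B) f)
  have := add_mem h1 h3
  convert this using 1
  abel

end

open RingTheory.Sequence in
theorem main (A : Type u) [CommRing A] (a : A) (rs : List A) :
    IsWeaklyRegular A rs →
    (∀ i ≤ rs.length, ∃ N : ℕ, ∀ x : A ⧸ Ideal.ofList (rs.take i), (∃ m : ℕ, a ^ m • x = 0) → a ^ N • x = 0) →
    IsWeaklyRegular (AdicCompletion (Ideal.span {a}) A)
        (rs.map (algebraMap A (AdicCompletion (Ideal.span {a}) A))) ∧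
      Function.Surjective (AdicCompletion.map (Ideal.span {a}) (Ideal.ofList rs).mkQ) ∧
      LinearMap.ker (AdicCompletion.map (Ideal.span {a}) (Ideal.ofList rs).mkQ) =
        (Ideal.ofList rs).map (algebraMap A (AdicCompletion (Ideal.span {a}) A)) := by
  let C := AdicCompletion (Ideal.span {a}) A
  induction rs using List.reverseRecOn with
  | nil =>
    intro _ _
    refine ⟨by simp, AdicCompletion.map_surjective _ (Submodule.mkQ_surjective _), ?_⟩
    have hinj : Function.Injective (AdicCompletion.map (Ideal.span {a}) (Ideal.ofList ([] : List A)).mkQ) := by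
      let e := (Submodule.quotEquivOfEqBot (Ideal.ofList ([] : List A)) Ideal.ofList_nil)
      refine Function.LeftInverse.injective (g := AdicCompletion.map (Ideal.span {a}) e.toLinearMap) fun z => ?_
      rw [AdicCompletion.map_comp_apply]
      have : e.toLinearMap ∘ₗ (Ideal.ofList ([] : List A)).mkQ = LinearMap.id := by ext; rfl
      rw [this, AdicCompletion.map_id]; rfl
    rw [LinearMap.ker_eq_bot.2 hinj, Ideal.ofList_nil, Ideal.map_bot]
    rfl
  | append_singleton rs x ih =>
    intro hreg hbd
    rw [isWeaklyRegular_append_iff, isWeaklyRegular_singleton_iff] at hreg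
    obtain ⟨ih1, ih2, ih3⟩ := ih hreg.1 fun i hi => by
      have := hbd i (by simp; omega)
      rwa [List.take_append_of_le_length hi] at this
    obtain ⟨B, hB⟩ : ∃ N : ℕ, ∀ y : A ⧸ Ideal.ofList (rs ++ [x]), (∃ m : ℕ, a ^ m • y = 0) → a ^ N • y = 0 := by
      have := hbd (rs ++ [x]).length le_rfl
      rwa [List.take_length] at this
    set I := Ideal.ofList rs with hI
    set J := Ideal.ofList (rs ++ [x]) with hJ
    have hJ' : J = I ⊔ Ideal.span {x} := by rw [hJ, Ideal.ofList_append, Ideal.ofList_singleton]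
    let q : (A ⧸ I) →ₗ[A] (A ⧸ J) := Submodule.factor (hJ'.ge.trans' le_sup_left)
    have hqs : Function.Surjective q := Submodule.factor_surjective _
    have hq : ∀ y, q y = 0 ↔ ∃ z, x • z = y := by
      intro y
      obtain ⟨b, rfl⟩ := Submodule.Quotient.mk_surjective _ y
      show (Submodule.Quotient.mk b : A ⧸ J) = 0 ↔ _
      rw [Submodule.Quotient.mk_eq_zero, hJ', Submodule.mem_sup]
      constructor
      · rintro ⟨u, hu, v, hv, rfl⟩
        obtain ⟨c, rfl⟩ := Ideal.mem_span_singleton'.1 hv
        refine ⟨Submodule.Quotient.mk c, ?_⟩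
        rw [← Submodule.Quotient.mk_smul, Submodule.Quotient.eq, smul_eq_mul, mul_comm c]
        simpa using hu
      · rintro ⟨z, hz⟩
        obtain ⟨c, rfl⟩ := Submodule.Quotient.mk_surjective _ z
        rw [← Submodule.Quotient.mk_smul, Submodule.Quotient.eq, smul_eq_mul] at hz
        exact ⟨-(x * c - b), neg_mem hz, x * c, Ideal.mem_span_singleton'.2 ⟨c, mul_comm _ _⟩, by ring⟩
    have hxr : ∀ z : A ⧸ I, x • z = 0 → z = 0 := by
      intro z hz
      obtain ⟨c, rfl⟩ := Submodule.Quotient.mk_surjective _ z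
      have h2 : (Submodule.Quotient.mk c : A ⧸ I • (⊤ : Submodule A A)) = 0 := by
        refine hreg.2.right_eq_zero_of_smul ?_
        rw [← Submodule.Quotient.mk_smul, Submodule.Quotient.mk_eq_zero, smul_eq_mul, smul_eq_mul, Ideal.mul_top]
        exact (Submodule.Quotient.mk_eq_zero I).1 (by rw [← hz]; rfl)
      rw [Submodule.Quotient.mk_eq_zero] at h2 ⊢
      rwa [smul_eq_mul, Ideal.mul_top] at h2
    set π := AdicCompletion.map (Ideal.span {a}) I.mkQ with hπ
    set π' := AdicCompletion.map (Ideal.span {a}) J.mkQ with hπ'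
    have hcomp : ∀ z, π' z = AdicCompletion.map (Ideal.span {a}) q (π z) := fun z => by
      rw [hπ, AdicCompletion.map_comp_apply, hπ']
      congr 2
    have hsmul : ∀ z : AdicCompletion (Ideal.span {a}) A, π (algebraMap A C x • z) = x • π z := fun z => by
      rw [algebraMap_smul, ← LinearMap.map_smul_of_tower]
    refine ⟨?_, AdicCompletion.map_surjective _ (Submodule.mkQ_surjective _), ?_⟩
    · rw [List.map_append, List.map_singleton, isWeaklyRegular_append_iff, isWeaklyRegular_singleton_iff]
      refine ⟨ih1, isSMulRegular_iff_right_eq_zero_of_smul.2 fun y hy => ?_⟩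
      obtain ⟨z, rfl⟩ := Submodule.Quotient.mk_surjective _ y
      rw [← Submodule.Quotient.mk_smul, Submodule.Quotient.mk_eq_zero, smul_eq_mul, Ideal.mul_top, ← Ideal.map_ofList, ← hI, ← ih3] at hy
      rw [Submodule.Quotient.mk_eq_zero, smul_eq_mul, Ideal.mul_top, ← Ideal.map_ofList, ← hI, ← ih3]
      refine LinearMap.mem_ker.2 ?_
      refine smul_injective hxr q hq hB ?_
      rw [← hsmul]
      exact hy
    · refine Eq.trans ?_ (congrArg (Ideal.map (algebraMap A C)) hJ'.symm)
      rw [Ideal.map_sup, show Ideal.map (algebraMap A C) (Ideal.span {x}) = Ideal.span {algebraMap A C x} by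
        rw [Ideal.map_span, Set.image_singleton], ← ih3]
      ext z
      refine LinearMap.mem_ker.trans ?_
      constructor
      · intro hz
        rw [hcomp] at hz
        obtain ⟨d, hd⟩ := exists_smul_of_map_eq_zero hxr q hq hB hqs hz
        obtain ⟨e, rfl⟩ := ih2 d
        refine Submodule.mem_sup.2 ⟨z - algebraMap A C x • e, ?_, algebraMap A C x • e, Ideal.mem_span_singleton'.2 ⟨e, mul_comm _ _⟩, sub_add_cancel _ _⟩
        refine LinearMap.mem_ker.2 ?_
        rw [map_sub, hsmul, hd, sub_self]
      · intro hz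
        obtain ⟨u, hu, v, hv, rfl⟩ := Submodule.mem_sup.1 hz
        obtain ⟨e, rfl⟩ := Ideal.mem_span_singleton'.1 hv
        rw [map_add, hcomp, hcomp, LinearMap.mem_ker.1 hu, map_zero, zero_add, mul_comm]
        rw [show algebraMap A C x * e = algebraMap A C x • e from rfl, hsmul, LinearMap.map_smul_of_tower]
        obtain ⟨f, hf⟩ := AdicCompletion.mk_surjective (Ideal.span {a}) _ (π e)
        rw [← hf, AdicCompletion.map_mk]
        ext n
        simp only [AdicCompletion.val_smul_apply, AdicCompletion.mk_apply_coe, Submodule.mkQ_apply, AdicCompletion.val_zero_apply,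
          ← Submodule.Quotient.mk_smul]
        rw [show (AdicCompletion.AdicCauchySequence.map (Ideal.span {a}) q f) n = q (f n) from rfl, ← map_smul, (hq _).2 ⟨f n, rfl⟩]
        rfl


open RingTheory.Sequence in
/-- Let A be a commutative ring, a an element of A with a-adic completion A^, and a_1, ..., a_n a weakly
regular sequence on A such that for each i = 0, ..., n the quotient A/(a_1, ..., a_i) has bounded
a-power torsion (some fixed power of a kills every element killed by a power of a). Then the images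
of a_1, ..., a_n form a weakly regular sequence on A^, and the canonical map from A^ to the a-adic
completion of A/(a_1, ..., a_n) is surjective with kernel the ideal generated by the images of a_1,
..., a_n. -/
theorem result (A : Type u) [CommRing A] (a : A) (rs : List A)
    (hreg : IsWeaklyRegular A rs)
    (hbd : ∀ i ≤ rs.length, ∃ N : ℕ, ∀ x : A ⧸ Ideal.ofList (rs.take i), (∃ m : ℕ, a ^ m • x = 0) → a ^ N • x = 0) :
    IsWeaklyRegular (AdicCompletion (Ideal.span {a}) A)
        (rs.map (algebraMap A (AdicCompletion (Ideal.span {a}) A))) ∧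
      Function.Surjective (AdicCompletion.map (Ideal.span {a}) (Ideal.ofList rs).mkQ) ∧
      LinearMap.ker (AdicCompletion.map (Ideal.span {a}) (Ideal.ofList rs).mkQ) =
        (Ideal.ofList rs).map (algebraMap A (AdicCompletion (Ideal.span {a}) A)) := by
  exact main A a rs hreg hbd

end Groth.Agent.S14275
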