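import Groth.Statements.S14276
import Groth.Agent.SmoothSlice.Sections
import Groth.Agent.AlgSpBasic.Topology
import Groth.Agent.H1Proper.FpqcLocal
set_option backward.isDefEq.respectTransparency false
set_option backward.isDefEq.respectTransparency.types false

set_option autoImplicit false
universe u
open CategoryTheory AlgebraicGeometry
open NonAbH1

namespace Groth.Agent.S14276

/-- Let X be a scheme and G a group scheme over X which is smooth over X. Then every G-torsor for the
fppf topology is locally trivial for the étale topology on X. Here a torsor is an X-scheme with an
action of G which is a pseudo-torsor and acquires sections on the members of some fppf covering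
family of X, and the conclusion says that it acquires sections on the members of some étale covering
family of X. (The published statement is about torsors in the sense of fppf sheaves; this row states
it for torsors that are schemes.) -/
theorem result {X : Scheme.{u}}
    (G : Over X) [GrpObj G] [Smooth G.hom] (P : Over X) (a : AlgGrp.Action G P)
    (h : NonAbH1.IsTorsorFor Scheme.fppfPrecoverage a) :
    NonAbH1.IsLocallyTrivialFor Scheme.etalePrecoverage P := by
  haveI : Smooth P.hom := Groth.NeronArea.property_of_isLocallyTrivial a h.1 @Smooth h.2 inferInstance
  haveI := Groth.NeronArea.surjective_of_isLocallyTrivial h.2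
  choose x hx using fun s : X => P.hom.surjective s
  choose W j w he hw using fun s : X => Groth.SmoothSlice.exists_etale_section P.hom (x s)
  refine ⟨Presieve.ofArrows W (fun s => j s ≫ P.hom), ?_, ?_⟩
  · show Presieve.ofArrows W (fun s => j s ≫ P.hom) ∈ Scheme.precoverage @Etale X
    rw [Scheme.ofArrows_mem_precoverage_iff]
    exact ⟨fun s => ⟨s, w s, (hw s).trans (hx s)⟩, he⟩
  · rintro Z _ ⟨s⟩
    exact ⟨j s, rfl⟩

end Groth.Agent.S14276
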