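import Groth.Statements.S14277
import Groth.Agent.StackCount.H1Torsor
-- import your own Groth.Agent.* helpers here

set_option autoImplicit false
universe u
open CategoryTheory AlgebraicGeometry
open NonAbH1

set_option backward.isDefEq.respectTransparency false
set_option backward.isDefEq.respectTransparency.types false

open Groth.StackCount

namespace Groth.Agent.S14277

/-- Let k be a finite field and G a group scheme finite and étale over Spec k. Then the set of
isomorphism classes of G-torsors over Spec k is finite, and the sum over these classes ξ of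
1/#Aut(ξ) equals 1, where Aut(ξ) is the (finite) group of G-equivariant automorphisms over k of a
torsor in the class ξ. A torsor is a k-scheme with an action of G which is a pseudo-torsor and
acquires sections on the members of some fppf covering family of Spec k; for such G these are the
nonempty finite étale pseudo-torsors, and the étale topology gives the same classes. The term of a
class whose automorphism group were infinite would count as 0 by the convention Nat.card = 0. -/
theorem result
    (k : Type u) [Field k] [Finite k]
    (G : Over (Spec (CommRingCat.of k))) [GrpObj G] [IsFinite G.hom] [Etale G.hom] :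
    Finite (NonAbH1.H1Sch G Scheme.fppfPrecoverage) ∧
      ∑ᶠ ξ : NonAbH1.H1Sch G Scheme.fppfPrecoverage,
        ((Nat.card (NonAbH1.EquivIso (Quot.out ξ).act (Quot.out ξ).act) : ℚ))⁻¹ = 1 := by
  classical
  have : IsGalois k (AlgebraicClosure k) := ⟨⟩
  have hsm : Smooth G.hom := inferInstance
  have := finite_pts_of_isFinite (k := k) (kb := AlgebraicClosure k) (G := G)
  have hlft := fun A => lft_fppf (k' := k) (aX := AlgSt.trivAction G) hsm A
  have hpt := fun A => exists_kpt_fppf (k' := k) (aX := AlgSt.trivAction G) (AlgebraicClosure k) A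
  have h := isEssFinite_BG hlft hpt
  have hc := ptCount_BG_eq_one (kb := AlgebraicClosure k) hlft hpt (fun E hd hg => singleton_mem_fppf E hd hg) h
  let C := StkCnt.pts (AlgSt.BG Scheme.fppfPrecoverage G) k
  let ψ : NonAbH1.H1Sch G Scheme.fppfPrecoverage → StkCnt.IsoCl C :=
    Quot.lift (fun P => StkCnt.IsoCl.mk (toObj P)) fun P Q ⟨e⟩ => by
      have := isIso_fibHom ((homEquivIso P Q).symm e)
      exact Quotient.sound ⟨asIso ((homEquivIso P Q).symm e)⟩
  have hψ : Function.Bijective ψ := by
    constructor
    · rintro ⟨P⟩ ⟨Q⟩ hPQ
      obtain ⟨i⟩ := Quotient.exact hPQ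
      exact Quot.sound ⟨homEquivIso P Q i.hom⟩
    · rintro ⟨A⟩
      exact ⟨Quot.mk _ (ofObj A), Quotient.sound (toObj_ofObj A)⟩
  have := h.finite_isoCl
  refine ⟨Finite.of_injective ψ hψ.1, ?_⟩
  have : Fintype (StkCnt.IsoCl C) := Fintype.ofFinite _
  rw [← hc, StkCnt.ptCount, StkCnt.count_eq_sum h, ← finsum_eq_sum_of_fintype,
    ← finsum_comp_equiv (Equiv.ofBijective ψ hψ)]
  refine finsum_congr fun ξ => ?_
  have hξ : ψ ξ = StkCnt.IsoCl.mk (toObj (Quot.out ξ)) := congrArg ψ (Quot.out_eq ξ).symm
  show _ = ((StkCnt.autCard C (ψ ξ) : ℕ) : ℚ)⁻¹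
  rw [hξ, StkCnt.autCard_mk]
  refine congrArg (fun n : ℕ => ((n : ℚ))⁻¹) (Nat.card_congr ((homEquivIso _ _).symm.trans ?_))
  exact
    { toFun := fun f => haveI := isIso_fibHom f; asIso f
      invFun := fun i => i.hom
      left_inv := fun f => rfl
      right_inv := fun i => Iso.ext rfl }

end Groth.Agent.S14277
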