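import Groth.Statements.S14284
import Groth.Agent.CategoryFibred.XTrace
import Groth.Agent.CategoryFibred.SpSeqPages

set_option autoImplicit false
universe u
open CategoryTheory CategoryTheory.Limits
open SpSeq

namespace Groth.Agent.S14284
open Groth.CatFib

/-- For an E_2 spectral sequence (E, Φ) of complex vector spaces carrying a compatible endomorphism Φ,
encoded as a cohomological spectral sequence of ℂ[X]-modules (X acting as Φ), and an integer r ≥ 2,
say that a page satisfies the boundedness condition for (N, a, b, c, d) when it is concentrated in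
the first quadrant, its terms are finite-dimensional over ℂ and vanish for q > N, every eigenvalue μ
of Φ on the (p, q) term has |μ| ≤ a(q)c(p), and the (p, q) term has dimension at most b(q)d(p). If
a, c ≥ 0, Σ_p c(p)d(p) converges and the page E_r satisfies the condition, then so does E_{r+1}, and
the alternating sums of traces agree: Σ_{p,q} (−1)^{p+q} tr(Φ | E_{r+1}^{p,q}) = Σ_{p,q} (−1)^{p+q}
tr(Φ | E_r^{p,q}) (both absolutely convergent). Traces, dimensions and eigenvalues refer to the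
underlying complex vector spaces and the endomorphism 'multiplication by X'. -/
theorem result
    (E : E₂CohomologicalSpectralSequence (ModuleCat.{u} (Polynomial ℂ))) (r : ℤ) (hr : 2 ≤ r)
    (N : ℕ) (a c : ℕ → ℝ) (b d : ℕ → ℕ) (ha : ∀ q, 0 ≤ a q) (hc : ∀ p, 0 ≤ c p)
    (hsum : Summable fun p : ℕ => c p * (d p : ℝ))
    (h : (∀ pq : ℤ × ℤ, pq.1 < 0 ∨ pq.2 < 0 → IsZero ((E.page r hr).X pq)) ∧
      (∀ pq : ℤ × ℤ, Module.Finite ℂ ((ModuleCat.restrictScalars (algebraMap ℂ (Polynomial ℂ))).obj ((E.page r hr).X pq))) ∧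
      (∀ p q : ℕ, N < q → IsZero ((E.page r hr).X ((p : ℤ), (q : ℤ)))) ∧
      (∀ (p q : ℕ) (μ : ℂ), Module.End.HasEigenvalue
          ((ModuleCat.restrictScalars (algebraMap ℂ (Polynomial ℂ))).map ((Polynomial.X : Polynomial ℂ) • 𝟙 ((E.page r hr).X ((p : ℤ), (q : ℤ))))).hom μ →
        ‖μ‖ ≤ a q * c p) ∧
      (∀ p q : ℕ, Module.finrank ℂ ((ModuleCat.restrictScalars (algebraMap ℂ (Polynomial ℂ))).obj ((E.page r hr).X ((p : ℤ), (q : ℤ)))) ≤ b q * d p)) :
    ((∀ pq : ℤ × ℤ, pq.1 < 0 ∨ pq.2 < 0 → IsZero ((E.page (r + 1) (Int.le_add_one hr)).X pq)) ∧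
      (∀ pq : ℤ × ℤ, Module.Finite ℂ ((ModuleCat.restrictScalars (algebraMap ℂ (Polynomial ℂ))).obj ((E.page (r + 1) (Int.le_add_one hr)).X pq))) ∧
      (∀ p q : ℕ, N < q → IsZero ((E.page (r + 1) (Int.le_add_one hr)).X ((p : ℤ), (q : ℤ)))) ∧
      (∀ (p q : ℕ) (μ : ℂ), Module.End.HasEigenvalue
          ((ModuleCat.restrictScalars (algebraMap ℂ (Polynomial ℂ))).map ((Polynomial.X : Polynomial ℂ) • 𝟙 ((E.page (r + 1) (Int.le_add_one hr)).X ((p : ℤ), (q : ℤ))))).hom μ →
        ‖μ‖ ≤ a q * c p) ∧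
      (∀ p q : ℕ, Module.finrank ℂ ((ModuleCat.restrictScalars (algebraMap ℂ (Polynomial ℂ))).obj ((E.page (r + 1) (Int.le_add_one hr)).X ((p : ℤ), (q : ℤ)))) ≤ b q * d p)) ∧
      ∑' pq : ℕ × ℕ, (-1 : ℂ) ^ (pq.1 + pq.2) * LinearMap.trace ℂ _
          ((ModuleCat.restrictScalars (algebraMap ℂ (Polynomial ℂ))).map ((Polynomial.X : Polynomial ℂ) • 𝟙 ((E.page (r + 1) (Int.le_add_one hr)).X ((pq.1 : ℤ), (pq.2 : ℤ))))).hom =
        ∑' pq : ℕ × ℕ, (-1 : ℂ) ^ (pq.1 + pq.2) * LinearMap.trace ℂ _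
          ((ModuleCat.restrictScalars (algebraMap ℂ (Polynomial ℂ))).map ((Polynomial.X : Polynomial ℂ) • 𝟙 ((E.page r hr).X ((pq.1 : ℤ), (pq.2 : ℤ))))).hom := by
  obtain ⟨h₁, h₂, h₃, h₄, h₅⟩ := h
  let K := E.page r hr
  let Y : ℤ × ℤ → ModuleCat.{u} (Polynomial ℂ) := fun pq => (E.page (r + 1) (Int.le_add_one hr)).X pq
  have hX : XTrace.Bd N a c b d K.X := ⟨h₁, h₂, h₃, h₄, h₅⟩
  have hH : XTrace.Bd N a c b d (fun pq => K.homology pq) :=
    (hX.of_mono (Y := fun pq => K.cycles pq) fun pq => K.iCycles pq).of_epi fun pq => K.homologyπ pq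
  have hY : XTrace.Bd N a c b d Y := hH.of_iso fun pq => E.iso r (r + 1) pq rfl hr
  refine ⟨⟨hY.quad, hY.fd, hY.high, hY.eig, hY.dim_le⟩, ?_⟩
  refine hY.tsum_str.symm.trans (Eq.trans ?_ hX.tsum_str)
  let s : ℤ × ℤ := (r, 1 - r)
  let I : ℤ × ℤ → ModuleCat.{u} (Polynomial ℂ) := fun pq => Abelian.coimage (K.d pq (pq + s))
  have hI : XTrace.Bd N a c b d I := hX.of_epi fun pq => cokernel.π (kernel.ι (K.d pq (pq + s)))
  have euler : ∀ pq, XTrace.str K.X pq = XTrace.str Y pq + (XTrace.str I pq - XTrace.str I (pq - s)) := by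
    intro pq
    have out : ∀ j, j = pq + s → XTrace.ctr (K.d pq j) = XTrace.tr (I pq) := by
      rintro _ rfl
      rfl
    have inc : ∀ i, i = pq - s → XTrace.ctr (K.d i pq) = XTrace.tr (I (pq - s)) := by
      rintro _ rfl
      have key : ∀ j, j = pq → XTrace.ctr (K.d (pq - s) pq) = XTrace.ctr (K.d (pq - s) j) := by
        rintro _ rfl
        rfl
      exact key _ (sub_add_cancel pq s)
    have e : XTrace.tr (K.X pq) = XTrace.tr (Y pq) + XTrace.tr (I pq) + XTrace.tr (I (pq - s)) := by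
      rw [← XTrace.tr_iso (E.iso r (r + 1) pq rfl hr) (hH.fd pq), ← out _ (SpSeqPages.next_eq r pq),
        ← inc _ (SpSeqPages.prev_eq r pq)]
      exact XTrace.tr_homology (K.sc pq) (hX.fd _) (hX.fd _)
    have hsign : ((-1 : ℂ) ^ (pq.1 + pq.2)) = -((-1 : ℂ) ^ ((pq - s).1 + (pq - s).2)) := by
      have : pq.1 + pq.2 = (pq - s).1 + (pq - s).2 + 1 := by
        simp only [s, Prod.fst_sub, Prod.snd_sub]
        omega
      rw [this, zpow_add_one₀ (by norm_num : (-1 : ℂ) ≠ 0)]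
      ring
    unfold XTrace.str
    rw [e]
    linear_combination XTrace.tr (I (pq - s)) * hsign
  have sY := hY.summable_str ha hc hsum
  have sI := hI.summable_str ha hc hsum
  have sI' : Summable fun pq => XTrace.str I (pq - s) := sI.comp_injective (Equiv.subRight s).injective
  have esum : ∑' pq, XTrace.str I (pq - s) = ∑' pq, XTrace.str I pq := (Equiv.subRight s).tsum_eq (XTrace.str I)
  rw [tsum_congr euler, sY.tsum_add (sI.sub sI'), sI.tsum_sub sI', esum, sub_self, add_zero]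

end Groth.Agent.S14284
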