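import Groth.Statements.S14283
import Groth.Agent.CategoryFibred.XTrace
import Groth.Agent.CategoryFibred.SpSeqPages
import Groth.Agent.S14284

set_option autoImplicit false
universe u
open CategoryTheory CategoryTheory.Limits
open SpSeq

namespace Groth.Agent.S14283
open Groth.CatFib

/-- For an E_2 spectral sequence (E, Φ) of complex vector spaces carrying an endomorphism Φ compatible
with all its structure maps — here encoded as a cohomological spectral sequence in the category of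
ℂ[X]-modules (X acting as Φ) — which is concentrated in the first quadrant (E_2^{p,q} = 0 if p < 0
or q < 0) and abuts to F^n (n ∈ ℤ) through abutment data whose filtrations are finite, assume that
the E_2^{p,q} are finite-dimensional over ℂ, vanish for q > N, that every eigenvalue μ of Φ on
E_2^{p,q} has |μ| ≤ a(q)c(p) and dim E_2^{p,q} ≤ b(q)d(p) for functions a, c ≥ 0 (real) and b, d
(natural numbers), and that Σ_p c(p)d(p) converges. Then the series Σ_{n ≥ 0} (−1)^n tr(Φ | F^n)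
converges absolutely and its sum equals Σ_{p,q ≥ 0} (−1)^{p+q} tr(Φ | E_2^{p,q}). Traces, dimensions
and eigenvalues are taken on the underlying complex vector spaces (restriction of scalars along ℂ →
ℂ[X]) for the endomorphism 'multiplication by X'. -/
theorem result
    (E : E₂CohomologicalSpectralSequence (ModuleCat.{u} (Polynomial ℂ)))
    (H : ℤ → ModuleCat.{u} (Polynomial ℂ)) (abut : SpSeq.Abutment E H) (hfin : ∀ n, abut.IsFinite n)
    (hquad : ∀ pq : ℤ × ℤ, pq.1 < 0 ∨ pq.2 < 0 → IsZero ((E.page 2 le_rfl).X pq))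
    (hfd : ∀ pq : ℤ × ℤ, Module.Finite ℂ ((ModuleCat.restrictScalars (algebraMap ℂ (Polynomial ℂ))).obj ((E.page 2 le_rfl).X pq)))
    (N : ℕ) (a c : ℕ → ℝ) (b d : ℕ → ℕ) (ha : ∀ q, 0 ≤ a q) (hc : ∀ p, 0 ≤ c p)
    (h1 : ∀ p q : ℕ, N < q → IsZero ((E.page 2 le_rfl).X ((p : ℤ), (q : ℤ))))
    (h2 : ∀ (p q : ℕ) (μ : ℂ), Module.End.HasEigenvalue
        ((ModuleCat.restrictScalars (algebraMap ℂ (Polynomial ℂ))).map
          ((Polynomial.X : Polynomial ℂ) • 𝟙 ((E.page 2 le_rfl).X ((p : ℤ), (q : ℤ))))).hom μ → ‖μ‖ ≤ a q * c p)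
    (h3 : ∀ p q : ℕ, Module.finrank ℂ
        ((ModuleCat.restrictScalars (algebraMap ℂ (Polynomial ℂ))).obj ((E.page 2 le_rfl).X ((p : ℤ), (q : ℤ)))) ≤ b q * d p)
    (hsum : Summable fun p : ℕ => c p * (d p : ℝ)) :
    Summable (fun n : ℕ => ‖LinearMap.trace ℂ _
        ((ModuleCat.restrictScalars (algebraMap ℂ (Polynomial ℂ))).map ((Polynomial.X : Polynomial ℂ) • 𝟙 (H n))).hom‖) ∧
    ∑' n : ℕ, (-1 : ℂ) ^ n * LinearMap.trace ℂ _
        ((ModuleCat.restrictScalars (algebraMap ℂ (Polynomial ℂ))).map ((Polynomial.X : Polynomial ℂ) • 𝟙 (H n))).hom =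
      ∑' pq : ℕ × ℕ, (-1 : ℂ) ^ (pq.1 + pq.2) * LinearMap.trace ℂ _
        ((ModuleCat.restrictScalars (algebraMap ℂ (Polynomial ℂ))).map
          ((Polynomial.X : Polynomial ℂ) • 𝟙 ((E.page 2 le_rfl).X ((pq.1 : ℤ), (pq.2 : ℤ))))).hom := by
  have pages : ∀ (r : ℤ) (hr : 2 ≤ r), XTrace.Bd N a c b d (E.page r hr).X ∧
      ∑' pq : ℕ × ℕ, (-1 : ℂ) ^ (pq.1 + pq.2) * XTrace.tr ((E.page r hr).X ((pq.1 : ℤ), (pq.2 : ℤ))) =
        ∑' pq : ℕ × ℕ, (-1 : ℂ) ^ (pq.1 + pq.2) * XTrace.tr ((E.page 2 le_rfl).X ((pq.1 : ℤ), (pq.2 : ℤ))) := by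
    intro r hr
    induction r, hr using Int.le_induction with
    | base => exact ⟨⟨hquad, hfd, h1, h2, h3⟩, rfl⟩
    | succ r hr ih =>
      obtain ⟨hB, e⟩ := ih
      obtain ⟨⟨g₁, g₂, g₃, g₄, g₅⟩, e'⟩ :=
        Groth.Agent.S14284.result E r hr N a c b d ha hc hsum ⟨hB.quad, hB.fd, hB.high, hB.eig, hB.dim_le⟩
      exact ⟨⟨g₁, g₂, g₃, g₄, g₅⟩, e'.trans e⟩
  have hR : (2 : ℤ) ≤ (N : ℤ) + 2 := by omega
  obtain ⟨hB, htot⟩ := pages ((N : ℤ) + 2) hR
  have zero : ∀ (r : ℤ) (hr : 2 ≤ r) (pq : ℤ × ℤ), pq.1 < 0 ∨ pq.2 < 0 ∨ (N : ℤ) < pq.2 →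
      IsZero ((E.page r hr).X pq) := by
    rintro r hr ⟨p, q⟩ h
    rcases lt_or_ge p 0 with hp | hp
    · exact (pages r hr).1.quad _ (Or.inl hp)
    rcases lt_or_ge q 0 with hq | hq
    · exact (pages r hr).1.quad _ (Or.inr hq)
    obtain ⟨p, rfl⟩ := Int.eq_ofNat_of_zero_le hp
    obtain ⟨q, rfl⟩ := Int.eq_ofNat_of_zero_le hq
    exact (pages r hr).1.high p q (by dsimp only at h; omega)
  have stat : ∀ pq, SpSeq.StationaryAt E pq ((N : ℤ) + 2) := by
    intro pq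
    refine ⟨hR, fun r h₀ hr => ⟨?_, ?_⟩⟩
    · rcases le_or_gt 0 pq.2 with hq | hq
      · exact (zero r h₀ _ (Or.inr (Or.inr (by simp only [Prod.snd_sub]; omega)))).eq_zero_of_src _
      · exact (zero r h₀ pq (Or.inr (Or.inl hq))).eq_zero_of_tgt _
    · rcases le_or_gt pq.2 (N : ℤ) with hq | hq
      · exact (zero r h₀ _ (Or.inr (Or.inl (by simp only [Prod.snd_add]; omega)))).eq_zero_of_tgt _
      · exact (zero r h₀ pq (Or.inr (Or.inr hq))).eq_zero_of_src _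
  have piece : ∀ n p : ℤ, XTrace.Fd (SpSeq.grPiece (abut.fil n) (abut.anti n) p) ∧
      XTrace.tr (SpSeq.grPiece (abut.fil n) (abut.anti n) p) =
        XTrace.tr ((E.page ((N : ℤ) + 2) hR).X (p, n - p)) := by
    intro n p
    have key : ∀ m : ℤ, m = p + (n - p) → XTrace.Fd (SpSeq.grPiece (abut.fil m) (abut.anti m) p) ∧
      XTrace.tr (SpSeq.grPiece (abut.fil m) (abut.anti m) p) =
        XTrace.tr ((E.page ((N : ℤ) + 2) hR).X (p, n - p)) := by
      rintro _ rfl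
      let e := SpSeqPages.statIso E (p, n - p) _ _ (stat (p, n - p)) (abut.stat (p, n - p)) ≪≫ abut.β (p, n - p)
      exact ⟨XTrace.fd_epi e.hom (hB.fd _), (XTrace.tr_iso e (hB.fd _)).symm⟩
    exact key n (by omega)
  have trH : ∀ n : ℕ, XTrace.tr (H n) = ∑ pq ∈ Finset.antidiagonal n,
      XTrace.tr ((E.page ((N : ℤ) + 2) hR).X ((pq.1 : ℤ), (pq.2 : ℤ))) := by
    intro n
    obtain ⟨hlow, hup⟩ := hfin n
    have htop : abut.fil n 0 = ⊤ := SpSeqPages.eq_top_of_isZero_grPiece (abut.anti n) 0 hlow fun p hp =>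
      SpSeqPages.isZero_grPiece abut 2 le_rfl n p (hquad _ (Or.inl hp))
    have hbot : abut.fil n ((n : ℤ) + 1) = ⊥ := SpSeqPages.eq_bot_of_isZero_grPiece (abut.anti n) _ hup fun p hp =>
      SpSeqPages.isZero_grPiece abut 2 le_rfl n p (hquad _ (Or.inr (show (n : ℤ) - p < 0 by omega)))
    have step : ∀ k : ℕ, XTrace.Fd (abut.fil n ((n : ℤ) + 1 - k) : ModuleCat.{u} (Polynomial ℂ)) ∧
        XTrace.tr (abut.fil n ((n : ℤ) + 1 - k) : ModuleCat.{u} (Polynomial ℂ)) =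
          ∑ i ∈ Finset.range k, XTrace.tr ((E.page ((N : ℤ) + 2) hR).X ((n : ℤ) - i, (i : ℤ))) := by
      intro k
      induction k with
      | zero =>
        rw [Nat.cast_zero, sub_zero, hbot, Finset.range_zero, Finset.sum_empty]
        have hz : IsZero ((⊥ : Subobject (H n)) : ModuleCat.{u} (Polynomial ℂ)) :=
          SpSeqPages.isZero_of_eq_bot _ rfl
        exact ⟨XTrace.fd_zero hz, XTrace.tr_zero hz⟩
      | succ k ih =>
        obtain ⟨hp₁, hp₂⟩ := piece n ((n : ℤ) - k)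
        rw [Finset.sum_range_succ, ← ih.2]
        have e₀ : (n : ℤ) + 1 - (k + 1 : ℕ) = n - k := by push_cast; ring
        have e₁ : (n : ℤ) + 1 - k = n - k + 1 := by ring
        rw [e₁] at ih ⊢
        rw [e₀]
        have hse : (ShortComplex.mk _ _ (cokernel.condition ((abut.fil n ((n : ℤ) - k + 1)).ofLE
            (abut.fil n ((n : ℤ) - k)) (abut.anti n (Int.le_add_one le_rfl))))).ShortExact :=
          { exact := ShortComplex.exact_of_g_is_cokernel _ (cokernelIsCokernel _) }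
        obtain ⟨hf, ht⟩ := XTrace.ses hse ih.1 hp₁
        refine ⟨hf, ht.trans (congrArg₂ (· + ·) rfl (hp₂.trans ?_))⟩
        rw [sub_sub_cancel]
    obtain ⟨hf, ht⟩ := step (n + 1)
    rw [show (n : ℤ) + 1 - (n + 1 : ℕ) = 0 by push_cast; ring, htop] at hf ht
    rw [← XTrace.tr_iso (asIso (⊤ : Subobject (H n)).arrow) hf, ht, ← Finset.Nat.sum_antidiagonal_swap,
      Finset.Nat.sum_antidiagonal_eq_sum_range_succ_mk]
    refine Finset.sum_congr rfl fun i hi => ?_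
    rw [Finset.mem_range] at hi
    simp only [Prod.swap_prod_mk]
    rw [Nat.cast_sub (by omega)]
  have hbound : Summable fun x : ℕ × ℕ =>
      ‖(-1 : ℂ) ^ (x.1 + x.2) * XTrace.tr ((E.page ((N : ℤ) + 2) hR).X ((x.1 : ℤ), (x.2 : ℤ)))‖ := by
    refine (XTrace.summable_maj (b := b) (N := N) ha hc hsum).of_nonneg_of_le (fun _ => norm_nonneg _) fun pq => ?_
    refine le_of_eq_of_le ?_ (hB.norm_tr_le ha hc pq.1 pq.2)
    simp
  refine ⟨?_, ?_⟩
  · have hs : Summable fun n : ℕ => ∑ x ∈ Finset.antidiagonal n,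
        ‖(-1 : ℂ) ^ (x.1 + x.2) * XTrace.tr ((E.page ((N : ℤ) + 2) hR).X ((x.1 : ℤ), (x.2 : ℤ)))‖ :=
      ((Finset.HasAntidiagonal.sigmaAntidiagonalEquivProd.hasSum_iff.2 hbound.hasSum).sigma fun n => hasSum_fintype _).summable.congr
        fun n => Finset.sum_coe_sort (Finset.antidiagonal n) fun x : ℕ × ℕ =>
          ‖(-1 : ℂ) ^ (x.1 + x.2) * XTrace.tr ((E.page ((N : ℤ) + 2) hR).X ((x.1 : ℤ), (x.2 : ℤ)))‖
    refine hs.of_nonneg_of_le (fun _ => norm_nonneg _) fun n => ?_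
    refine (congrArg (‖·‖) (trH n)).trans_le ((norm_sum_le _ _).trans (le_of_eq ?_))
    refine Finset.sum_congr rfl fun x _ => ?_
    simp
  · refine Eq.trans ?_ htot
    have hb : Summable fun x : ℕ × ℕ =>
        (-1 : ℂ) ^ (x.1 + x.2) * XTrace.tr ((E.page ((N : ℤ) + 2) hR).X ((x.1 : ℤ), (x.2 : ℤ))) := hbound.of_norm
    have hσ := (Finset.HasAntidiagonal.sigmaAntidiagonalEquivProd.hasSum_iff.2 hb.hasSum).sigma
      fun n => hasSum_fintype _
    rw [← hσ.tsum_eq]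
    refine tsum_congr fun n => ?_
    refine (congrArg ((-1 : ℂ) ^ n * ·) (trH n)).trans ?_
    rw [Finset.mul_sum]
    refine Eq.trans ?_ (Finset.sum_coe_sort (Finset.antidiagonal n) fun x : ℕ × ℕ =>
      (-1 : ℂ) ^ (x.1 + x.2) * XTrace.tr ((E.page ((N : ℤ) + 2) hR).X ((x.1 : ℤ), (x.2 : ℤ)))).symm
    refine Finset.sum_congr rfl fun x hx => ?_
    rw [Finset.mem_antidiagonal] at hx
    rw [← hx]

end Groth.Agent.S14283
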