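import Groth.Statements.S14285
import Groth.Agent.S11468
import Groth.Agent.LocCohBase.Nonvanishing
import Mathlib.AlgebraicGeometry.Noetherian
-- import your own Groth.Agent.* helpers here

set_option autoImplicit false
universe u
open CategoryTheory AlgebraicGeometry
open EllLift

namespace Groth.Agent.S14285

open CategoryTheory CategoryTheory.Limits AlgebraicGeometry Groth.Agent.S11468

variable {R : Type u} [CommRing R] [IsLocalRing R] {X : Scheme.{u}} (g : X ⟶ Spec (CommRingCat.of R))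

/-- the structure ring of the `n`-th infinitesimal fibre -/
abbrev Q (R : Type u) [CommRing R] [IsLocalRing R] (n : ℕ) : Type u := R ⧸ IsLocalRing.maximalIdeal R ^ (n + 1)

variable [Flat g] {X₀ : Scheme.{u}} (i : X₀ ⟶ X) (f₀ : X₀ ⟶ Spec (CommRingCat.of (R ⧸ IsLocalRing.maximalIdeal R)))
  (hsq : IsPullback i f₀ g (Spec.map (CommRingCat.ofHom (Ideal.Quotient.mk (IsLocalRing.maximalIdeal R)))))
  (h0 : Function.Bijective ((Scheme.ΓSpecIso (CommRingCat.of (R ⧸ IsLocalRing.maximalIdeal R))).inv ≫ f₀.appTop))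

include hsq h0 in
theorem bijective_level [IsNoetherianRing R] (n : ℕ) :
    Function.Bijective ((Scheme.ΓSpecIso (CommRingCat.of (Q R n))).inv ≫
      (pullback.snd g (Spec.map (CommRingCat.ofHom (Ideal.Quotient.mk (IsLocalRing.maximalIdeal R ^ (n + 1)))))).appTop) := by
  have : Nontrivial (Q R n) := Ideal.Quotient.nontrivial_iff.mpr fun h =>
    (IsLocalRing.maximalIdeal.isMaximal R).ne_top (top_le_iff.1 (h.ge.trans (Ideal.pow_le_self n.succ_ne_zero)))
  have : IsLocalRing (Q R n) := IsLocalRing.of_surjective' _ Ideal.Quotient.mk_surjective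
  have : IsArtinianRing (Q R n) := Groth.LocCohBase.isArtinianRing_quotient_pow (n + 1)
  let q := Ideal.Quotient.mk (IsLocalRing.maximalIdeal R ^ (n + 1))
  have hmax : (IsLocalRing.maximalIdeal (Q R n)).comap q = IsLocalRing.maximalIdeal R :=
    IsLocalRing.eq_maximalIdeal (Ideal.comap_isMaximal_of_surjective q Ideal.Quotient.mk_surjective)
  let σ : (R ⧸ IsLocalRing.maximalIdeal R) →+* (Q R n ⧸ IsLocalRing.maximalIdeal (Q R n)) :=
    Ideal.Quotient.lift _ ((Ideal.Quotient.mk _).comp q) fun a ha =>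
      Ideal.Quotient.eq_zero_iff_mem.2 (by rw [← Ideal.mem_comap, hmax]; exact ha)
  have hσ : Function.Bijective σ := by
    refine ⟨?_, fun z => ?_⟩
    · letI := Ideal.Quotient.field (IsLocalRing.maximalIdeal R)
      exact RingHom.injective σ
    · obtain ⟨y, rfl⟩ := Ideal.Quotient.mk_surjective z
      obtain ⟨r, rfl⟩ := Ideal.Quotient.mk_surjective y
      exact ⟨Ideal.Quotient.mk _ r, rfl⟩
  have : IsIso (CommRingCat.ofHom σ) := (ConcreteCategory.isIso_iff_bijective _).2 hσ
  let fn := pullback.snd g (Spec.map (CommRingCat.ofHom q))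
  let a : Spec (CommRingCat.of (R ⧸ IsLocalRing.maximalIdeal R)) ⟶
      Spec (CommRingCat.of (Q R n ⧸ IsLocalRing.maximalIdeal (Q R n))) := inv (Spec.map (CommRingCat.ofHom σ))
  let b := Spec.map (CommRingCat.ofHom (Ideal.Quotient.mk (IsLocalRing.maximalIdeal (Q R n))))
  have hab : a ≫ b ≫ Spec.map (CommRingCat.ofHom q) =
      Spec.map (CommRingCat.ofHom (Ideal.Quotient.mk (IsLocalRing.maximalIdeal R))) := by
    rw [IsIso.inv_comp_eq, ← Spec.map_comp, ← Spec.map_comp]
    rfl
  have H : IsPullback i (f₀ ≫ a) g (b ≫ Spec.map (CommRingCat.ofHom q)) := by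
    refine IsPullback.of_iso hsq (Iso.refl _) (Iso.refl _) (asIso a) (Iso.refl _) (by simp) (by simp) (by simp) ?_
    simp [hab]
  let l : X₀ ⟶ pullback g (Spec.map (CommRingCat.ofHom q)) :=
    pullback.lift i (f₀ ≫ a ≫ b) (by rw [hsq.w, ← hab]; simp)
  have H2 : IsPullback l (f₀ ≫ a) fn b :=
    IsPullback.of_right (by rw [pullback.lift_fst]; exact H) (by rw [pullback.lift_snd, Category.assoc])
      (IsPullback.of_hasPullback g _)
  refine Groth.Agent.S11468.result (Q R n) _ X₀ fn l (f₀ ≫ a) H2 ?_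
  have e : (Scheme.ΓSpecIso (CommRingCat.of (Q R n ⧸ IsLocalRing.maximalIdeal (Q R n)))).inv ≫ (f₀ ≫ a).appTop =
      inv (CommRingCat.ofHom σ) ≫ (Scheme.ΓSpecIso (CommRingCat.of (R ⧸ IsLocalRing.maximalIdeal R))).inv ≫ f₀.appTop := by
    have ha : a = Spec.map (inv (CommRingCat.ofHom σ)) := by
      refine IsIso.inv_eq_of_hom_inv_id ?_
      rw [← Spec.map_comp, IsIso.inv_hom_id, Spec.map_id]
    rw [Scheme.Hom.comp_appTop, ha, ← Category.assoc, ← Scheme.ΓSpecIso_inv_naturality, Category.assoc]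
  rw [e]
  exact h0.comp (ConcreteCategory.bijective_of_isIso (inv (CommRingCat.ofHom σ)))

omit [IsLocalRing R] [Flat g] in
theorem app_α {I : Ideal R} {Y : Scheme.{u}} (j : Y ⟶ X) (f : Y ⟶ Spec (CommRingCat.of (R ⧸ I)))
    (w : j ≫ g = f ≫ Spec.map (CommRingCat.ofHom (Ideal.Quotient.mk I))) (r : R) :
    j.app ⊤ ((α g ⊤).hom r) = ((Scheme.ΓSpecIso (CommRingCat.of (R ⧸ I))).inv ≫ f.appTop) (Ideal.Quotient.mk I r) := by
  have e : α g ⊤ ≫ j.app ⊤ = CommRingCat.ofHom (Ideal.Quotient.mk I) ≫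
      (Scheme.ΓSpecIso (CommRingCat.of (R ⧸ I))).inv ≫ f.appTop := by
    have hα : α g ⊤ = (Scheme.ΓSpecIso (CommRingCat.of R)).inv ≫ g.appTop := by simp [α]
    rw [hα, Category.assoc, ← Category.assoc (CommRingCat.ofHom _), Scheme.ΓSpecIso_inv_naturality,
      Category.assoc, show g.appTop ≫ j.app ⊤ = (j ≫ g).appTop from (Scheme.Hom.comp_appTop j g).symm, w,
      Scheme.Hom.comp_appTop]
    rfl
  exact congr(($e).hom r)

omit [IsLocalRing R] [Flat g] in
/-- a section that is a multiple of the ideal on all affine opens vanishes on the closed subscheme -/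
theorem app_eq_zero {I : Ideal R} {Y : Scheme.{u}} (j : Y ⟶ X) (f : Y ⟶ Spec (CommRingCat.of (R ⧸ I)))
    (w : j ≫ g = f ≫ Spec.map (CommRingCat.ofHom (Ideal.Quotient.mk I))) (t : Γ(X, ⊤))
    (ht : ∀ U : X.affineOpens, X.presheaf.map (homOfLE (le_top : U.1 ≤ ⊤)).op t ∈ I.map (α g U.1).hom) :
    j.app ⊤ t = 0 := by
  refine TopCat.Sheaf.eq_of_locally_eq' Y.sheaf (fun U : X.affineOpens => j ⁻¹ᵁ U.1) ⊤
    (fun U => homOfLE le_top) ?_ _ _ fun U => ?_
  · intro x _
    obtain ⟨U, hU, hxU, -⟩ := exists_isAffineOpen_mem_and_subset (x := j x) (U := ⊤) trivial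
    exact TopologicalSpace.Opens.mem_iSup.2 ⟨⟨U, hU⟩, hxU⟩
  show Y.presheaf.map _ _ = Y.presheaf.map _ 0
  rw [map_zero]
  refine Eq.trans (ConcreteCategory.congr_hom (j.naturality (homOfLE (le_top : U.1 ≤ ⊤)).op) t).symm ?_
  show j.app U.1 (X.presheaf.map (homOfLE (le_top : U.1 ≤ ⊤)).op t) = 0
  have htU := ht U
  revert htU
  generalize X.presheaf.map (homOfLE (le_top : U.1 ≤ ⊤)).op t = z
  intro htU
  induction htU using Submodule.span_induction with
  | mem z hz =>
    obtain ⟨c, hc, rfl⟩ := hz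
    have := (congrArg (j.app U.1).hom (α_res g (le_top : U.1 ≤ ⊤) c)).symm.trans
      (ConcreteCategory.congr_hom (j.naturality (homOfLE (le_top : U.1 ≤ ⊤)).op) ((α g ⊤).hom c))
    refine this.trans ?_
    have h0 : j.app ⊤ ((α g ⊤).hom c) = 0 :=
      (app_α g j f w c).trans ((congrArg _ (Ideal.Quotient.eq_zero_iff_mem.2 hc)).trans (map_zero _))
    exact (congrArg (Y.presheaf.map _).hom h0).trans (map_zero _)
  | zero => exact map_zero _
  | add x y _ _ hx hy => rw [map_add, hx, hy, add_zero]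
  | smul r x _ hx => rw [smul_eq_mul, map_mul, hx, mul_zero]

omit [Flat g] in
/-- sections in all powers of the maximal ideal of the base vanish -/
theorem eq_zero_of_forall_mem [IsNoetherianRing R] [IsProper g] (t : Γ(X, ⊤))
    (ht : ∀ (n : ℕ) (U : X.affineOpens),
      X.presheaf.map (homOfLE (le_top : U.1 ≤ ⊤)).op t ∈ (IsLocalRing.maximalIdeal R ^ n).map (α g U.1).hom) :
    t = 0 := by
  have : IsNoetherianRing (CommRingCat.of R) := ‹_›
  have : IsLocallyNoetherian X := LocallyOfFiniteType.isLocallyNoetherian g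
  have key : ∀ x : X, g x = IsLocalRing.closedPoint R →
      ∃ W : X.Opens, x ∈ W ∧ X.presheaf.map (homOfLE (le_top : W ≤ ⊤)).op t = 0 := by
    intro x hx
    obtain ⟨U, hU, hxU, -⟩ := exists_isAffineOpen_mem_and_subset (x := x) (U := ⊤) trivial
    let alg : Algebra Γ(X, U) (X.presheaf.stalk x) := TopCat.Presheaf.algebra_section_stalk X.presheaf ⟨x, hxU⟩
    have := hU.isLocalization_stalk ⟨x, hxU⟩
    have hcomap : ((hU.primeIdealOf ⟨x, hxU⟩).asIdeal).comap (α g U).hom = IsLocalRing.maximalIdeal R := by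
      have h1 : Spec.map (α g U) (hU.primeIdealOf ⟨x, hxU⟩) = IsLocalRing.closedPoint R := by
        rw [← fromSpec_comp g hU]
        exact (congrArg g (hU.fromSpec_primeIdealOf ⟨x, hxU⟩)).trans hx
      exact congrArg PrimeSpectrum.asIdeal h1
    have hmem : ∀ n, X.presheaf.germ U x hxU (X.presheaf.map (homOfLE (le_top : U ≤ ⊤)).op t) ∈
        IsLocalRing.maximalIdeal (X.presheaf.stalk x) ^ n := fun n => by
      have h1 := Ideal.mem_map_of_mem (algebraMap Γ(X, U) (X.presheaf.stalk x)) (ht n ⟨U, hU⟩)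
      rw [Ideal.map_pow, Ideal.map_pow] at h1
      refine Ideal.pow_right_mono ?_ n h1
      rw [← IsLocalization.AtPrime.map_eq_maximalIdeal (hU.primeIdealOf ⟨x, hxU⟩).asIdeal (X.presheaf.stalk x)]
      exact Ideal.map_mono (Ideal.map_le_iff_le_comap.2 hcomap.ge)
    have h0 : X.presheaf.germ U x hxU (X.presheaf.map (homOfLE (le_top : U ≤ ⊤)).op t) = 0 := by
      have h2 := Ideal.iInf_pow_eq_bot_of_isLocalRing (IsLocalRing.maximalIdeal (X.presheaf.stalk x))
        (IsLocalRing.maximalIdeal.isMaximal _).ne_top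
      rw [← Ideal.mem_bot, ← h2, Ideal.mem_iInf]
      exact hmem
    obtain ⟨W, hxW, iU, iV, hW⟩ := X.presheaf.germ_eq x hxU hxU _ 0 (h0.trans (map_zero _).symm)
    refine ⟨W, hxW, ?_⟩
    rw [map_zero] at hW
    refine Eq.trans ?_ hW
    exact (res_res X (homOfLE (le_top : U ≤ ⊤)) iU _ t).symm
  choose W hW hWt using key
  let O : X.Opens := ⨆ (x : {x : X // g x = IsLocalRing.closedPoint R}), W x.1 x.2
  have hO : O = ⊤ := by
    refine top_le_iff.1 fun x _ => ?_
    by_contra hxO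
    have hc : IsClosed (g '' (O : Set X)ᶜ) := g.isClosedMap _ O.2.isClosed_compl
    obtain ⟨y, hy, hyc⟩ : IsLocalRing.closedPoint R ∈ g '' (O : Set X)ᶜ :=
      (IsLocalRing.specializes_closedPoint (g x)).mem_closed hc ⟨x, hxO, rfl⟩
    exact hy (TopologicalSpace.Opens.mem_iSup.2 ⟨⟨y, hyc⟩, hW y hyc⟩)
  refine TopCat.Sheaf.eq_of_locally_eq' X.sheaf (fun x : {x : X // g x = IsLocalRing.closedPoint R} => W x.1 x.2) ⊤
    (fun _ => homOfLE le_top) hO.ge _ _ fun x => ?_
  exact (hWt x.1 x.2).trans (map_zero _).symm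

/-- Let R be a complete Noetherian local ring with maximal ideal m and residue field k = R/m, g : X →
Spec R a proper and flat morphism, and i : X₀ → X the fibre of g over the closed point, i.e. a
pullback of g along Spec k → Spec R, with structure map f₀ : X₀ → Spec k. If the induced ring map k
→ Γ(X₀, O_{X₀}) is bijective, then so is R → Γ(X, O_X). -/
theorem result (R : Type u) [CommRing R]
    [IsLocalRing R] [IsNoetherianRing R] [IsAdicComplete (IsLocalRing.maximalIdeal R) R]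
    (X X₀ : Scheme.{u}) (g : X ⟶ Spec (CommRingCat.of R)) [IsProper g] [Flat g]
    (i : X₀ ⟶ X) (f₀ : X₀ ⟶ Spec (CommRingCat.of (R ⧸ IsLocalRing.maximalIdeal R)))
    (hsq : IsPullback i f₀ g
      (Spec.map (CommRingCat.ofHom (Ideal.Quotient.mk (IsLocalRing.maximalIdeal R)))))
    (h0 : Function.Bijective ((Scheme.ΓSpecIso (CommRingCat.of (R ⧸ IsLocalRing.maximalIdeal R))).inv ≫
      f₀.appTop)) :
    Function.Bijective ((Scheme.ΓSpecIso (CommRingCat.of R)).inv ≫ g.appTop) := by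
  have hα : α g ⊤ = (Scheme.ΓSpecIso (CommRingCat.of R)).inv ≫ g.appTop := by simp [α]
  rw [← hα]
  let q := fun n : ℕ => Ideal.Quotient.mk (IsLocalRing.maximalIdeal R ^ (n + 1))
  let fn := fun n : ℕ => pullback.snd g (Spec.map (CommRingCat.ofHom (q n)))
  let j := fun n : ℕ => pullback.fst g (Spec.map (CommRingCat.ofHom (q n)))
  have w : ∀ n, j n ≫ g = fn n ≫ Spec.map (CommRingCat.ofHom (q n)) := fun n => pullback.condition
  have hbij := fun n => bijective_level g i f₀ hsq h0 n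
  -- vanishing on the infinitesimal fibre
  have hzero : ∀ n c, (j n).app ⊤ ((α g ⊤).hom c) = 0 → c ∈ IsLocalRing.maximalIdeal R ^ (n + 1) :=
    fun n c h => Ideal.Quotient.eq_zero_iff_mem.1
      ((hbij n).1 (((app_α g (j n) (fn n) (w n) c).symm.trans h).trans (map_zero _).symm))
  refine ⟨fun c d h => ?_, fun s => ?_⟩
  · rw [← sub_eq_zero, ← Ideal.mem_bot, ← Ideal.iInf_pow_eq_bot_of_isLocalRing _
      (IsLocalRing.maximalIdeal.isMaximal R).ne_top, Ideal.mem_iInf]
    intro n
    refine Ideal.pow_le_pow_right n.le_succ (hzero n _ ?_)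
    rw [map_sub, sub_eq_zero.2 h, map_zero]
  choose c hc using fun n => (((hbij n).comp ⟨fun a b h => h, fun z => ⟨z, rfl⟩⟩).2 ((j n).app ⊤ s))
  choose d hd using fun n => Ideal.Quotient.mk_surjective (c n)
  have hmem : ∀ n (U : X.affineOpens), X.presheaf.map (homOfLE (le_top : U.1 ≤ ⊤)).op (s - (α g ⊤).hom (d n)) ∈
      (IsLocalRing.maximalIdeal R ^ (n + 1)).map (α g U.1).hom := by
    intro n U
    refine mem_of_app_eq_zero _ g (j n) (fn n) (IsPullback.of_hasPullback _ _) U.2 _ ?_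
    have h : (j n).app ⊤ (s - (α g ⊤).hom (d n)) = 0 := by
      rw [map_sub]
      refine sub_eq_zero.2 ?_
      exact ((hc n).symm.trans (congrArg _ (hd n).symm)).trans (app_α g (j n) (fn n) (w n) (d n)).symm
    exact (ConcreteCategory.congr_hom ((j n).naturality (homOfLE (le_top : U.1 ≤ ⊤)).op) _).trans
      ((congrArg ((pullback g _).presheaf.map _).hom h).trans (map_zero _))
  have hcauchy : ∀ {m n : ℕ}, m ≤ n → d m - d n ∈ IsLocalRing.maximalIdeal R ^ (m + 1) := fun {m n} hmn => by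
    refine hzero m _ (app_eq_zero g (j m) (fn m) (w m) _ fun U => ?_)
    have h := sub_mem (Ideal.map_mono (Ideal.pow_le_pow_right (Nat.succ_le_succ hmn)) (hmem n U)) (hmem m U)
    rw [← map_sub] at h
    rw [map_sub]
    convert h using 2
    ring
  obtain ⟨L, hL⟩ := IsPrecomplete.prec (inferInstance : IsPrecomplete (IsLocalRing.maximalIdeal R) R) (f := d)
    fun {m n} hmn => by
      rw [SModEq.sub_mem, smul_eq_mul, Ideal.mul_top]
      exact Ideal.pow_le_pow_right m.le_succ (hcauchy hmn)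
  refine ⟨L, (sub_eq_zero.1 (eq_zero_of_forall_mem g (s - (α g ⊤).hom L) fun n U => ?_)).symm⟩
  have h1 : d n - L ∈ IsLocalRing.maximalIdeal R ^ n := by
    have := hL n
    rwa [SModEq.sub_mem, smul_eq_mul, Ideal.mul_top] at this
  have h2 := add_mem (Ideal.map_mono (Ideal.pow_le_pow_right n.le_succ) (hmem n U))
    (Ideal.mem_map_of_mem (α g U.1).hom h1)
  rw [show s - (α g ⊤).hom L = s - (α g ⊤).hom (d n) + (α g ⊤).hom (d n - L) by rw [map_sub]; ring,
    map_add, α_res]
  exact h2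

end Groth.Agent.S14285

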