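import Groth.Statements.S14286
import Groth.Agent.EtaleAlgebra.HensDomain
import Mathlib
-- import your own Groth.Agent.* helpers here

set_option autoImplicit false
universe u
open EllLift

namespace Groth.Agent.S14286

section Helpers

open IsLocalRing WeierstrassCurve

/-- An infinitesimal automorphism of a smooth Weierstrass cubic is trivial. -/
theorem inf_trivial {R Q : Type u} [CommRing R] [CommRing Q] (φ : R →+* Q)
    (hφ : ∀ c, IsUnit (φ c) ∨ φ c = 0) (W : WeierstrassCurve R) (hΔ : IsUnit W.Δ)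
    (N : Ideal Q) (hN : ∀ a ∈ N, ∀ b ∈ N, a * b = 0)
    (D : VariableChange Q) (hu : (D.u : Q) - 1 ∈ N) (hr : D.r ∈ N) (hs : D.s ∈ N) (ht : D.t ∈ N)
    (h : D • W.map φ = W.map φ) : D = 1 := by
  rcases subsingleton_or_nontrivial Q with hQ | hQ
  · ext <;> exact Subsingleton.elim _ _
  set ν := (D.u : Q) - 1 with hν
  have hU : (D.u : Q) = 1 + ν := by rw [hν]; ring
  have z1 := hN _ hs _ hs
  have z2 := hN _ hr _ hs
  have z3 := hN _ hr _ hr
  have z4 := hN _ hs _ ht
  have z5 := hN _ ht _ ht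
  have z6 := hN _ hr _ ht
  have zν := hN _ hu _ hu
  have hinv : (D.u : Q) * ↑D.u⁻¹ = 1 := Units.mul_inv _
  set a1 := φ W.a₁ with ha1
  set a2 := φ W.a₂ with ha2
  set a3 := φ W.a₃ with ha3
  set a4 := φ W.a₄ with ha4
  set a6 := φ W.a₆ with ha6
  set iu : Q := ↑D.u⁻¹
  have e1 : iu * (a1 + 2 * D.s) = a1 := congrArg WeierstrassCurve.a₁ h
  have e2 : iu ^ 2 * (a2 - D.s * a1 + 3 * D.r - D.s ^ 2) = a2 := congrArg WeierstrassCurve.a₂ h
  have e3 : iu ^ 3 * (a3 + D.r * a1 + 2 * D.t) = a3 := congrArg WeierstrassCurve.a₃ h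
  have e4 : iu ^ 4 * (a4 - D.s * a3 + 2 * D.r * a2 - (D.t + D.r * D.s) * a1 + 3 * D.r ^ 2
      - 2 * D.s * D.t) = a4 := congrArg WeierstrassCurve.a₄ h
  have e6 : iu ^ 6 * (a6 + D.r * a4 + D.r ^ 2 * a2 + D.r ^ 3 - D.t * a3 - D.t ^ 2
      - D.r * D.t * a1) = a6 := congrArg WeierstrassCurve.a₆ h
  have p : ∀ (n : ℕ) (x y : Q), iu ^ n * x = y → x = (D.u : Q) ^ n * y := fun n x y hxy => by
    rw [← hxy, ← mul_assoc, ← mul_pow, hinv, one_pow, one_mul]
  have pn : ∀ n : ℕ, (D.u : Q) ^ n = 1 + n * ν := fun n => by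
    rw [hU]
    induction n with
    | zero => simp
    | succ n ih => rw [pow_succ, ih]; all_goals (push_cast; linear_combination (n : Q) * zν)
  have f1 := p 1 (a1 + 2 * D.s) a1 (by rw [pow_one]; exact e1)
  have f2 := p 2 _ _ e2
  have f3 := p 3 _ _ e3
  have f4 := p 4 _ _ e4
  have f6 := p 6 _ _ e6
  rw [pn] at f1 f2 f3 f4 f6
  push_cast at f1 f2 f3 f4 f6
  have g1 : 2 * D.s = ν * a1 := by linear_combination f1
  have g2 : -(D.s * a1) + 3 * D.r = 2 * ν * a2 := by linear_combination f2 + z1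
  have g3 : D.r * a1 + 2 * D.t = 3 * ν * a3 := by linear_combination f3
  have g4 : -(D.s * a3) + 2 * D.r * a2 - D.t * a1 = 4 * ν * a4 := by
    linear_combination f4 + a1 * z2 - 3 * z3 + 2 * z4
  have g6 : D.r * a4 - D.t * a3 = 6 * ν * a6 := by
    linear_combination f6 - (a2 + D.r) * z3 + z5 + a1 * z6
  have hΔ' : IsUnit (W.map φ).Δ := by rw [map_Δ]; exact hΔ.map φ
  have gΔ : 12 * ν * (W.map φ).Δ = 0 := by
    have e := congrArg WeierstrassCurve.Δ h
    rw [variableChange_Δ] at e
    have f := p 12 _ _ e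
    rw [pn] at f
    push_cast at f
    linear_combination -f
  have cancel : ∀ x y : Q, IsUnit y → x * y = 0 → x = 0 := fun x y hy hxy => hy.mul_left_eq_zero.mp hxy
  suffices hall : ν = 0 ∧ D.r = 0 ∧ D.s = 0 ∧ D.t = 0 by
    obtain ⟨hν0, hr0, hs0, ht0⟩ := hall
    refine VariableChange.ext (Units.ext ?_) hr0 hs0 ht0
    rw [hU, hν0, add_zero]; rfl
  have hΔe : (W.map φ).Δ = -(a1 ^ 2 + 4 * a2) ^ 2 * (W.map φ).b₈ - 8 * (2 * a4 + a1 * a3) ^ 3 -
      27 * (a3 ^ 2 + 4 * a6) ^ 2 + 9 * (a1 ^ 2 + 4 * a2) * (2 * a4 + a1 * a3) * (a3 ^ 2 + 4 * a6) := rfl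
  rcases hφ 2 with h2 | h2 <;> rw [map_ofNat] at h2
  · rcases hφ 3 with h3 | h3 <;> rw [map_ofNat] at h3
    · have hν0 : ν = 0 := by
        refine cancel _ ((2 * 2 * 3) * (W.map φ).Δ) (((h2.mul h2).mul h3).mul hΔ') ?_
        linear_combination gΔ
      have hs0 : D.s = 0 := cancel _ _ h2 (by linear_combination g1 + a1 * hν0)
      have hr0 : D.r = 0 := cancel _ _ h3 (by linear_combination g2 + a1 * hs0 + 2 * a2 * hν0)
      exact ⟨hν0, hr0, hs0, cancel _ _ h2 (by linear_combination g3 - a1 * hr0 + 3 * a3 * hν0)⟩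
    · -- characteristic three
      have b2eq : φ W.b₂ = a1 ^ 2 + 4 * a2 := by
        simp [WeierstrassCurve.b₂, ha1, ha2, map_ofNat]
      have b4eq : φ W.b₄ = 2 * a4 + a1 * a3 := by
        simp [WeierstrassCurve.b₄, ha1, ha3, ha4, map_ofNat]
      have k1 : ν * (a1 ^ 2 + 4 * a2) = 0 := by
        linear_combination (-2 : Q) * g2 + (-a1) * g1 + 2 * D.r * h3
      have k2 : D.r * (a1 ^ 2 + 4 * a2) = ν * (a1 * a3 + 8 * a4) + 3 * (ν * a1 * a3) := by
        linear_combination 2 * g4 + a3 * g1 + a1 * g3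
      rcases hφ W.b₂ with hb | hb <;> rw [b2eq] at hb
      · have hν0 := cancel _ _ hb k1
        have hr0 : D.r = 0 := cancel _ _ hb (by rw [k2, hν0]; ring)
        have hs0 : D.s = 0 := cancel _ _ h2 (by linear_combination g1 + a1 * hν0)
        exact ⟨hν0, hr0, hs0, cancel _ _ h2 (by linear_combination g3 - a1 * hr0 + 3 * a3 * hν0)⟩
      · have hb4 : IsUnit (2 * a4 + a1 * a3) := by
          rcases hφ W.b₄ with hb4 | hb4 <;> rw [b4eq] at hb4
          · exact hb4
          · exfalso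
            refine hΔ'.ne_zero ?_
            rw [hΔe, hb, hb4]
            linear_combination (-9 : Q) * (a3 ^ 2 + 4 * a6) ^ 2 * h3
        have hν0 : ν = 0 := cancel _ _ hb4 (by
          linear_combination -k2 + D.r * hb - (2 * a4 * ν + ν * a1 * a3) * h3)
        have hr0 : D.r = 0 := cancel _ _ hb4 (by
          linear_combination 2 * g6 + a3 * g3 + (12 * a6 + 3 * a3 * a3) * hν0)
        have hs0 : D.s = 0 := cancel _ _ h2 (by linear_combination g1 + a1 * hν0)
        exact ⟨hν0, hr0, hs0, cancel _ _ h2 (by linear_combination g3 - a1 * hr0 + 3 * a3 * hν0)⟩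
  · -- characteristic two
    rcases hφ W.a₁ with hb | hb <;> rw [← ha1] at hb
    · have hν0 : ν = 0 := cancel _ _ hb (by linear_combination -g1 + D.s * h2)
      have hr0 : D.r = 0 := cancel _ _ hb (by linear_combination g3 - D.t * h2 + 3 * a3 * hν0)
      have hs0 : D.s = 0 := cancel _ _ hb (by linear_combination -g2 + 3 * hr0 - 2 * a2 * hν0)
      exact ⟨hν0, hr0, hs0, cancel _ _ hb (by
        linear_combination -g4 - a3 * hs0 + 2 * a2 * hr0 - 4 * a4 * hν0)⟩
    · have ha : IsUnit a3 := by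
        rcases hφ W.a₃ with ha | ha <;> rw [← ha3] at ha
        · exact ha
        · exfalso
          refine hΔ'.ne_zero ?_
          rw [hΔe, hb, ha]
          linear_combination (-8 * a2 ^ 2 * (W.map φ).b₈ - 32 * a4 ^ 3 - 216 * a6 ^ 2 + 144 * a2 * a4 * a6) * h2
      have hν0 : ν = 0 := cancel _ _ ha (by
        linear_combination -g3 + D.r * hb + D.t * h2 - a3 * ν * h2)
      have hr0 : D.r = 0 := by linear_combination g2 + D.s * hb + 2 * a2 * hν0 - D.r * h2
      have hs0 : D.s = 0 := cancel _ _ ha (by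
        linear_combination -g4 + 2 * a2 * hr0 - D.t * hb - 4 * a4 * hν0)
      exact ⟨hν0, hr0, hs0, cancel _ _ ha (by linear_combination -g6 + a4 * hr0 - 6 * a6 * hν0)⟩

theorem mem_of_monic {R Ω : Type u} [CommRing R] [CommRing Ω] [Algebra R Ω]
    {x : Ω} (p : Polynomial (integralClosure R Ω)) (hp : p.Monic) (h : Polynomial.aeval x p = 0) :
    x ∈ integralClosure R Ω :=
  isIntegral_trans (R := R) (A := integralClosure R Ω) x ⟨p, hp, h⟩

theorem descend (R : Type u) [CommRing R] [IsNoetherianRing R] [IsLocalRing R] [HenselianLocalRing R]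
    [IsAlgClosed (ResidueField R)] (T : Type u) [CommRing T] [IsDomain T] [Algebra R T] [Module.Finite R T]
    (hinj : Function.Injective (algebraMap R T))
    (W₁ W₂ : WeierstrassCurve R) [W₁.IsElliptic] [W₂.IsElliptic] (C : VariableChange T)
    (hgen : Algebra.adjoin R ({(C.u : T), (↑C.u⁻¹ : T), C.r, C.s, C.t} : Set T) = ⊤)
    (hC : C • W₁.map (algebraMap R T) = W₂.map (algebraMap R T)) :
    ∃ C : VariableChange R, C • W₁ = W₂ := by
  haveI : IsLocalRing T := Groth.EtaleAlgebra.isLocalRing_of_finite_domain R T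
  haveI : Algebra.IsIntegral R T := Algebra.IsIntegral.of_finite R T
  haveI : IsLocalHom (algebraMap R T) := Groth.EtaleAlgebra.isLocalHom_of_isIntegral R T
  have hres : ∀ z : T, ∃ c : R, z - algebraMap R T c ∈ maximalIdeal T := by
    intro z
    haveI : Algebra.IsIntegral R (ResidueField T) := Algebra.IsIntegral.trans T
    haveI : Algebra.IsIntegral (ResidueField R) (ResidueField T) := Algebra.IsIntegral.tower_top R
    obtain ⟨c, hc⟩ := (IsAlgClosed.algebraMap_bijective_of_isIntegral (k := ResidueField R) (K := ResidueField T)).2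
      (residue T z)
    obtain ⟨c, rfl⟩ := residue_surjective c
    refine ⟨c, ?_⟩
    rw [← residue_eq_zero_iff, map_sub, ← hc]
    exact sub_self _
  set J := (maximalIdeal R).map (algebraMap R T) ⊔ maximalIdeal T ^ 2 with hJ
  have hmT : (maximalIdeal R).map (algebraMap R T) ≤ maximalIdeal T :=
    ((IsLocalRing.local_hom_TFAE (algebraMap R T)).out 0 2).mp (inferInstance : IsLocalHom (algebraMap R T))
  have hJle : J ≤ maximalIdeal T := sup_le hmT (Ideal.pow_le_self two_ne_zero)
  set π := Ideal.Quotient.mk J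
  set φ := π.comp (algebraMap R T)
  have hφ : ∀ c, IsUnit (φ c) ∨ φ c = 0 := by
    intro c
    by_cases hc : IsUnit c
    · exact Or.inl (hc.map φ)
    · exact Or.inr (Ideal.Quotient.eq_zero_iff_mem.mpr (Ideal.mem_sup_left (Ideal.mem_map_of_mem _ hc)))
  choose c hc using hres
  have hcu : IsUnit (c C.u) := by
    refine (isUnit_map_iff (algebraMap R T) _).mp ?_
    by_contra hn
    have := add_mem (hc C.u) hn
    rw [sub_add_cancel] at this
    exact this C.u.isUnit
  let C0 : VariableChange R := ⟨hcu.unit, c C.r, c C.s, c C.t⟩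
  -- the constant change works modulo the maximal ideal
  have hbar : (C.map (residue T)) = (C0.map (algebraMap R T)).map (residue T) := by
    ext
    · exact (Ideal.Quotient.eq.mpr (hc C.u))
    · exact (Ideal.Quotient.eq.mpr (hc C.r))
    · exact (Ideal.Quotient.eq.mpr (hc C.s))
    · exact (Ideal.Quotient.eq.mpr (hc C.t))
  have hC0 : (C0 • W₁).map φ = W₂.map φ := by
    have h1 : (C0 • W₁).map ((residue T).comp (algebraMap R T)) = W₂.map ((residue T).comp (algebraMap R T)) := by
      rw [← WeierstrassCurve.map_map, ← WeierstrassCurve.map_map, ← map_variableChange (φ := algebraMap R T),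
        ← map_variableChange (φ := residue T), ← hbar, map_variableChange, hC]
    have key : ∀ a b : R, (residue T) (algebraMap R T a) = residue T (algebraMap R T b) → φ a = φ b := by
      intro a b hab
      rw [← sub_eq_zero, ← map_sub]
      rw [← sub_eq_zero, ← map_sub, ← map_sub, residue_eq_zero_iff] at hab
      refine Ideal.Quotient.eq_zero_iff_mem.mpr (Ideal.mem_sup_left (Ideal.mem_map_of_mem _ ?_))
      exact fun hu => hab (hu.map _)
    ext
    · exact key _ _ (congrArg WeierstrassCurve.a₁ h1)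
    · exact key _ _ (congrArg WeierstrassCurve.a₂ h1)
    · exact key _ _ (congrArg WeierstrassCurve.a₃ h1)
    · exact key _ _ (congrArg WeierstrassCurve.a₄ h1)
    · exact key _ _ (congrArg WeierstrassCurve.a₆ h1)
  have hCQ : C.map π • W₁.map φ = W₂.map φ := by
    rw [show φ = π.comp (algebraMap R T) from rfl, ← WeierstrassCurve.map_map, ← WeierstrassCurve.map_map,
      map_variableChange, hC]
  have hC0Q : C0.map φ • W₁.map φ = W₂.map φ := by rw [map_variableChange, hC0]
  set D := C.map π * (C0.map φ)⁻¹ with hD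
  have hDW : D • W₂.map φ = W₂.map φ := by
    conv_lhs => rw [← hC0Q]
    rw [hD, mul_smul, inv_smul_smul, hCQ]
  set N := (maximalIdeal T).map π with hN
  have hN2 : ∀ a ∈ N, ∀ b ∈ N, a * b = 0 := by
    intro a ha b hb
    have := Ideal.mul_mem_mul ha hb
    rw [← pow_two, hN, ← Ideal.map_pow] at this
    rw [(Ideal.map_eq_bot_iff_le_ker π).mpr (by rw [Ideal.mk_ker]; exact le_sup_right)] at this
    exact (Ideal.mem_bot).mp this
  let χ : T ⧸ J →+* ResidueField T := Ideal.Quotient.factor hJle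
  have hmemN : ∀ z : T ⧸ J, χ z = 0 → z ∈ N := by
    intro z hz
    obtain ⟨z, rfl⟩ := Ideal.Quotient.mk_surjective z
    exact Ideal.mem_map_of_mem _ (Ideal.Quotient.eq_zero_iff_mem.mp hz)
  have hDχ : D.map χ = 1 := by
    have e1 : (C.map π).map χ = C.map (residue T) := by
      rw [VariableChange.map_map]; rfl
    have e2 : (C0.map φ).map χ = (C0.map (algebraMap R T)).map (residue T) := by
      rw [VariableChange.map_map, VariableChange.map_map]; rfl
    show VariableChange.mapHom χ D = 1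
    rw [hD, map_mul, map_inv]
    show (C.map π).map χ * ((C0.map φ).map χ)⁻¹ = 1
    rw [e1, e2, hbar, mul_inv_cancel]
  have hD1 : D = 1 := by
    refine inf_trivial φ hφ W₂ W₂.isUnit_Δ N hN2 D ?_ ?_ ?_ ?_ hDW <;> refine hmemN _ ?_
    · rw [map_sub, map_one, sub_eq_zero]; exact congrArg (fun C : VariableChange _ => (C.u : ResidueField T)) hDχ
    · exact congrArg VariableChange.r hDχ
    · exact congrArg VariableChange.s hDχ
    · exact congrArg VariableChange.t hDχ
  have hCC : C.map π = C0.map φ := by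
    rw [← one_mul (C0.map φ), ← hD1, hD, inv_mul_cancel_right]
  have hsurj : ∀ z : T, ∃ r : R, π z = φ r := by
    intro z
    have hz : z ∈ Algebra.adjoin R ({(C.u : T), (↑C.u⁻¹ : T), C.r, C.s, C.t} : Set T) := hgen ▸ Algebra.mem_top
    induction hz using Algebra.adjoin_induction with
    | mem y hy =>
      rcases hy with rfl | rfl | rfl | rfl | rfl
      · exact ⟨_, congrArg (fun C : VariableChange _ => (C.u : T ⧸ J)) hCC⟩
      · exact ⟨(↑hcu.unit⁻¹ : R), congrArg (fun C : VariableChange _ => (↑C.u⁻¹ : T ⧸ J)) hCC⟩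
      · exact ⟨_, congrArg VariableChange.r hCC⟩
      · exact ⟨_, congrArg VariableChange.s hCC⟩
      · exact ⟨_, congrArg VariableChange.t hCC⟩
    | algebraMap r => exact ⟨r, rfl⟩
    | add a b _ _ ha hb =>
      obtain ⟨p, hp⟩ := ha; obtain ⟨q, hq⟩ := hb
      exact ⟨p + q, by rw [map_add, map_add, hp, hq]⟩
    | mul a b _ _ ha hb =>
      obtain ⟨p, hp⟩ := ha; obtain ⟨q, hq⟩ := hb
      exact ⟨p * q, by rw [map_mul, map_mul, hp, hq]⟩
  have hmm : (maximalIdeal T).FG := by
    haveI : Algebra.FiniteType R T := inferInstance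
    have h1 : maximalIdeal T = J := by
      refine le_antisymm (fun z hz => ?_) hJle
      obtain ⟨r, hr⟩ := hsurj z
      have hd : z - algebraMap R T r ∈ J := Ideal.Quotient.eq.mp hr
      have hrm : algebraMap R T r ∈ maximalIdeal T := by simpa using sub_mem hz (hJle hd)
      have : algebraMap R T r ∈ J := Ideal.mem_sup_left (Ideal.mem_map_of_mem _ (fun hu => hrm (hu.map _)))
      simpa using add_mem hd this
    exact (isNoetherianRing_iff_ideal_fg T).mp (IsNoetherianRing.of_finite R T) _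
  have hm : maximalIdeal T = (maximalIdeal R).map (algebraMap R T) := by
    refine le_antisymm ?_ hmT
    refine Submodule.le_of_le_smul_of_le_jacobson_bot hmm (maximalIdeal_le_jacobson _) ?_
    intro z hz
    rw [smul_eq_mul, ← pow_two]
    obtain ⟨r, hr⟩ := hsurj z
    have hd : z - algebraMap R T r ∈ J := Ideal.Quotient.eq.mp hr
    have hrm : algebraMap R T r ∈ maximalIdeal T := by simpa using sub_mem hz (hJle hd)
    have : algebraMap R T r ∈ J := Ideal.mem_sup_left (Ideal.mem_map_of_mem _ (fun hu => hrm (hu.map _)))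
    simpa [hJ] using add_mem hd this
  have htop : (⊤ : Submodule R T) ≤ LinearMap.range (Algebra.linearMap R T) := by
    refine Submodule.le_of_le_smul_of_le_jacobson_bot Module.Finite.fg_top (maximalIdeal_le_jacobson _) ?_
    intro z _
    have hc' := hc z
    rw [hm] at hc'
    have h2 : z - algebraMap R T (c z) ∈ (maximalIdeal R • ⊤ : Submodule R T) := by
      rw [Ideal.smul_top_eq_map]; exact hc'
    have : z = algebraMap R T (c z) + (z - algebraMap R T (c z)) := by ring
    rw [this]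
    exact add_mem (Submodule.mem_sup_left ⟨c z, rfl⟩) (Submodule.mem_sup_right h2)
  have hbij : Function.Bijective (algebraMap R T) := ⟨hinj, fun z => htop (x := z) trivial⟩
  let e : R ≃+* T := RingEquiv.ofBijective (algebraMap R T) hbij
  refine ⟨C.map (e.symm : T →+* R), ?_⟩
  have h1 := congrArg (fun W : WeierstrassCurve T => W.map (e.symm : T →+* R)) hC
  simp only [← map_variableChange, WeierstrassCurve.map_map] at h1
  have he : (e.symm : T →+* R).comp (algebraMap R T) = RingHom.id R := RingHom.ext fun r => e.symm_apply_apply r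
  rwa [he, WeierstrassCurve.map_id, WeierstrassCurve.map_id] at h1

end Helpers

/-- Let R be a complete Noetherian local domain with algebraically closed residue field, and let W₁, W₂
be Weierstrass cubics over R whose discriminants are units (elliptic curves over R; over a local
ring every elliptic curve has such an equation and isomorphisms of elliptic curves are the
admissible changes of variables). If W₁ and W₂ have the same j-invariant, then some change of
variables over R carries W₁ to W₂. (The published statement does not require R to be a domain. That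
hypothesis is needed: over the dual numbers k[e], e² = 0, of an algebraically closed field k of
characteristic neither 2 nor 3, the cubics y² = x³ + x + e and y² = x³ + x both have j = 1728 and no
change of variables relates them.) -/
theorem result (R : Type u) [CommRing R] [IsDomain R]
    [IsNoetherianRing R] [IsLocalRing R] [IsAdicComplete (IsLocalRing.maximalIdeal R) R]
    [IsAlgClosed (IsLocalRing.ResidueField R)]
    (W₁ W₂ : WeierstrassCurve R) [W₁.IsElliptic] [W₂.IsElliptic] (hj : W₁.j = W₂.j) :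
    ∃ C : WeierstrassCurve.VariableChange R, C • W₁ = W₂ := by
  classical
  open IsLocalRing WeierstrassCurve in
  haveI : HenselianRing R (maximalIdeal R) := IsAdicComplete.henselianRing R _
  haveI : HenselianLocalRing R := Groth.Hensel1.henselianLocalRing_of_henselianRing
  let Ω := AlgebraicClosure (FractionRing R)
  let ι := algebraMap R Ω
  have hι : Function.Injective ι := by
    show Function.Injective (algebraMap R Ω)
    rw [IsScalarTower.algebraMap_eq R (FractionRing R) Ω]
    exact (algebraMap (FractionRing R) Ω).injective.comp (IsFractionRing.injective R (FractionRing R))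
  obtain ⟨C, hC⟩ := WeierstrassCurve.exists_variableChange_of_j_eq (W₁.map ι) (W₂.map ι)
    (by rw [map_j, map_j, hj])
  set T0 := integralClosure R Ω with hT0
  have hA : ∀ r : R, ι r ∈ T0 := fun r => T0.algebraMap_mem r
  set U : Ω := (C.u : Ω) with hU
  set Ui : Ω := ((C.u⁻¹ : Ωˣ) : Ω) with hUi
  have hΔ : Ui ^ 12 * ι W₁.Δ = ι W₂.Δ := by
    have := congrArg WeierstrassCurve.Δ hC
    rwa [variableChange_Δ, map_Δ, map_Δ] at this
  have hUUi : U * Ui = 1 := Units.mul_inv _
  have hroot : ∀ (x : Ω) (n : ℕ), 0 < n → x ^ n ∈ T0 → x ∈ T0 := fun x n hn hx =>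
    IsIntegral.of_pow hn hx
  have hΔ₁ := W₁.isUnit_Δ
  have hΔ₂ := W₂.isUnit_Δ
  have hUi' : Ui ∈ T0 := hroot _ 12 (by norm_num) (by
    have e : Ui ^ 12 = ι W₂.Δ * ι (↑hΔ₁.unit⁻¹ : R) := by
      rw [← hΔ, mul_assoc, ← map_mul, IsUnit.mul_val_inv, map_one, mul_one]
    rw [e]; exact mul_mem (hA _) (hA _))
  have hU' : U ∈ T0 := hroot _ 12 (by norm_num) (by
    have e : U ^ 12 = ι W₁.Δ * ι (↑hΔ₂.unit⁻¹ : R) := by
      calc U ^ 12 = U ^ 12 * (ι W₂.Δ * ι (↑hΔ₂.unit⁻¹ : R)) := by
            rw [← map_mul, IsUnit.mul_val_inv, map_one, mul_one]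
        _ = (U * Ui) ^ 12 * ι W₁.Δ * ι (↑hΔ₂.unit⁻¹ : R) := by rw [← hΔ]; ring
        _ = _ := by rw [hUUi, one_pow, one_mul]
    rw [e]; exact mul_mem (hA _) (hA _))
  have k6 : ι W₁.b₆ + 2 * C.r * ι W₁.b₄ + C.r ^ 2 * ι W₁.b₂ + 4 * C.r ^ 3 = U ^ 6 * ι W₂.b₆ := by
    have := congrArg WeierstrassCurve.b₆ hC
    simp only [variableChange_b₆, map_b₆, map_b₄, map_b₂] at this
    rw [← this, ← mul_assoc, ← mul_pow, hUUi, one_pow, one_mul]
  have k8 : ι W₁.b₈ + 3 * C.r * ι W₁.b₆ + 3 * C.r ^ 2 * ι W₁.b₄ + C.r ^ 3 * ι W₁.b₂ + 3 * C.r ^ 4 =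
      U ^ 8 * ι W₂.b₈ := by
    have := congrArg WeierstrassCurve.b₈ hC
    simp only [variableChange_b₈, map_b₈, map_b₆, map_b₄, map_b₂] at this
    rw [← this, ← mul_assoc, ← mul_pow, hUUi, one_pow, one_mul]
  let el : ∀ x ∈ T0, T0 := fun x hx => ⟨x, hx⟩
  have hr : C.r ∈ T0 := by
    refine mem_of_monic (Polynomial.X ^ 4 +
      (- Polynomial.C (el _ (hA W₁.b₄)) * Polynomial.X ^ 2 +
        Polynomial.C (el _ (add_mem (mul_mem (neg_mem (ofNat_mem T0 2) : (-2 : Ω) ∈ T0) (hA W₁.b₆))
          (neg_mem (mul_mem (pow_mem hU' 6) (hA W₂.b₆))))) * Polynomial.X +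
        Polynomial.C (el _ (add_mem (neg_mem (hA W₁.b₈)) (mul_mem (pow_mem hU' 8) (hA W₂.b₈)))))) ?_ ?_
    · refine Polynomial.monic_X_pow_add (lt_of_le_of_lt ?_ (by norm_num : (2 : WithBot ℕ) < 4))
      compute_degree
    · simp only [el, map_add, map_mul, map_pow, map_neg, Polynomial.aeval_X, Polynomial.aeval_C]
      show C.r ^ 4 + (-(ι W₁.b₄) * C.r ^ 2 + ((-2 : Ω) * ι W₁.b₆ + -(U ^ 6 * ι W₂.b₆)) * C.r +
        (-(ι W₁.b₈) + U ^ 8 * ι W₂.b₈)) = 0
      linear_combination C.r * k6 - k8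
  have k2 : ι W₁.a₂ - C.s * ι W₁.a₁ + 3 * C.r - C.s ^ 2 = U ^ 2 * ι W₂.a₂ := by
    have := congrArg WeierstrassCurve.a₂ hC
    simp only [variableChange_a₂, map_a₂, map_a₁] at this
    rw [← this, ← mul_assoc, ← mul_pow, hUUi, one_pow, one_mul]
  have hs : C.s ∈ T0 := by
    refine mem_of_monic (Polynomial.X ^ 2 + (Polynomial.C (el _ (hA W₁.a₁)) * Polynomial.X +
      Polynomial.C (el _ (sub_mem (mul_mem (pow_mem hU' 2) (hA W₂.a₂))
        (add_mem (hA W₁.a₂) (mul_mem (ofNat_mem T0 3 : (3 : Ω) ∈ T0) hr)))))) ?_ ?_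
    · refine Polynomial.monic_X_pow_add (lt_of_le_of_lt ?_ (by norm_num : (1 : WithBot ℕ) < 2))
      compute_degree
    · simp only [el, map_add, map_mul, map_pow, Polynomial.aeval_X, Polynomial.aeval_C]
      show C.s ^ 2 + (ι W₁.a₁ * C.s + (U ^ 2 * ι W₂.a₂ - (ι W₁.a₂ + 3 * C.r))) = 0
      linear_combination -k2
  have ka : ι W₁.a₆ + C.r * ι W₁.a₄ + C.r ^ 2 * ι W₁.a₂ + C.r ^ 3 - C.t * ι W₁.a₃ - C.t ^ 2
      - C.r * C.t * ι W₁.a₁ = U ^ 6 * ι W₂.a₆ := by
    have := congrArg WeierstrassCurve.a₆ hC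
    simp only [variableChange_a₆, map_a₁, map_a₂, map_a₃, map_a₄, map_a₆] at this
    rw [← this, ← mul_assoc, ← mul_pow, hUUi, one_pow, one_mul]
  have ht : C.t ∈ T0 := by
    refine mem_of_monic (Polynomial.X ^ 2 + (Polynomial.C (el _ (add_mem (hA W₁.a₃) (mul_mem hr (hA W₁.a₁)))) * Polynomial.X +
      Polynomial.C (el _ (sub_mem (mul_mem (pow_mem hU' 6) (hA W₂.a₆))
        (add_mem (add_mem (add_mem (hA W₁.a₆) (mul_mem hr (hA W₁.a₄))) (mul_mem (pow_mem hr 2) (hA W₁.a₂))) (pow_mem hr 3)))))) ?_ ?_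
    · refine Polynomial.monic_X_pow_add (lt_of_le_of_lt ?_ (by norm_num : (1 : WithBot ℕ) < 2))
      compute_degree
    · simp only [el, map_add, map_mul, map_pow, Polynomial.aeval_X, Polynomial.aeval_C]
      show C.t ^ 2 + ((ι W₁.a₃ + C.r * ι W₁.a₁) * C.t +
        (U ^ 6 * ι W₂.a₆ - (ι W₁.a₆ + C.r * ι W₁.a₄ + C.r ^ 2 * ι W₁.a₂ + C.r ^ 3))) = 0
      linear_combination -ka
  set T := Algebra.adjoin R ({U, Ui, C.r, C.s, C.t} : Set Ω) with hT
  haveI : Module.Finite R T := Module.Finite.iff_fg.2 (fg_adjoin_of_finite (Set.toFinite _) (by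
    rintro x (rfl | rfl | rfl | rfl | rfl)
    exacts [hU', hUi', hr, hs, ht]))
  have hmem : ∀ x ∈ ({U, Ui, C.r, C.s, C.t} : Set Ω), x ∈ T := fun x hx => Algebra.subset_adjoin hx
  let CT : VariableChange T :=
    { u := ⟨⟨U, hmem _ (by simp)⟩, ⟨Ui, hmem _ (by simp)⟩, Subtype.ext hUUi, Subtype.ext (Units.inv_mul _)⟩
      r := ⟨C.r, hmem _ (by simp)⟩
      s := ⟨C.s, hmem _ (by simp)⟩
      t := ⟨C.t, hmem _ (by simp)⟩ }
  refine descend R T (fun a b h => hι (congrArg Subtype.val h)) W₁ W₂ CT ?_ ?_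
  · apply Subalgebra.map_injective (f := T.val) Subtype.val_injective
    rw [AlgHom.map_adjoin, Algebra.map_top, Subalgebra.range_val]
    simp only [Set.image_insert_eq, Set.image_singleton]
    exact hT.symm
  · apply WeierstrassCurve.map_injective (f := T.val.toRingHom) Subtype.val_injective
    dsimp only
    rw [← map_variableChange, WeierstrassCurve.map_map, WeierstrassCurve.map_map]
    exact hC

end Groth.Agent.S14286
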