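import Groth.Statements.S14294
import Groth.Agent.Misc7.PtDeg2

set_option autoImplicit false
universe u v
open PtDeg

namespace Groth.Agent.S14294

/-- Let A and G be abelian groups, written additively, and f : A → G a map which is pointed of degree 2,
that is f(x+y+z) + f(x) + f(y) + f(z) = f(x+y) + f(x+z) + f(y+z) for all x, y, z in A. If an integer
n satisfies n·x = 0 for every x in A, then 2n·f(x) = 0 for every x in A, and if moreover n is odd
then n·f(x) = 0 for every x in A. -/
theorem result {A : Type u} {G : Type v} [AddCommGroup A] [AddCommGroup G]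
    (f : A → G) (hf : ∀ x y z : A, f (x + y + z) + f x + f y + f z = f (x + y) + f (x + z) + f (y + z))
    (n : ℤ) (hn : ∀ x : A, n • x = 0) :
    (∀ x : A, (2 * n) • f x = 0) ∧ (Odd n → ∀ x : A, n • f x = 0) := by
  have key : ∀ x : A, n • f x - n • f (-x) = 0 ∧ n • (f x + f (-x)) = 0 := by
    intro x
    refine ⟨?_, Groth.Misc7.PtDeg2.zsmul_add_neg_eq_zero f hf n x (hn x)⟩
    have h1 := Groth.Misc7.PtDeg2.map_zsmul_eq hf n x
    have h2 := Groth.Misc7.PtDeg2.map_zsmul_eq hf n (-x)
    rw [hn, Groth.Misc7.PtDeg2.map_zero' hf] at h1 h2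
    rw [neg_neg] at h2
    obtain ⟨a, ha⟩ := Groth.Misc7.PtDeg2.two_dvd_mul_succ n
    obtain ⟨b, hb⟩ := Groth.Misc7.PtDeg2.two_dvd_mul_pred n
    rw [ha, hb] at h1 h2
    simp only [Int.mul_ediv_cancel_left _ (two_ne_zero : (2:ℤ) ≠ 0)] at h1 h2
    have hn' : n = a - b := by linarith
    subst hn'
    calc (a - b) • f x - (a - b) • f (-x)
        = (a • f x + b • f (-x)) - (a • f (-x) + b • f x) := by module
      _ = 0 := by rw [← h1, ← h2, sub_self]
  refine ⟨fun x => ?_, fun ho x => ?_⟩
  · calc (2 * n) • f x = (n • f x - n • f (-x)) + n • (f x + f (-x)) := by module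
      _ = 0 := by rw [(key x).1, (key x).2, add_zero]
  · obtain ⟨m, rfl⟩ := ho
    have h1 := Groth.Misc7.PtDeg2.map_zsmul_eq hf (2 * m + 1) x
    rw [hn, Groth.Misc7.PtDeg2.map_zero' hf,
      show (2 * m + 1) * (2 * m + 1 + 1) = 2 * ((2 * m + 1) * (m + 1)) by ring,
      show (2 * m + 1) * (2 * m + 1 - 1) = 2 * ((2 * m + 1) * m) by ring] at h1
    simp only [Int.mul_ediv_cancel_left _ (two_ne_zero : (2:ℤ) ≠ 0)] at h1
    calc (2 * m + 1) • f x
        = (((2 * m + 1) * (m + 1)) • f x + ((2 * m + 1) * m) • f (-x))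
            - m • ((2 * m + 1) • (f x + f (-x))) := by module
      _ = 0 := by rw [← h1, (key x).2, smul_zero, sub_zero]

end Groth.Agent.S14294
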