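import Groth.Statements.S14296
import Groth.Agent.Misc7.PtDeg2

set_option autoImplicit false
universe u v
open PtDeg

namespace Groth.Agent.S14296

/-- Let G and H be abelian groups, written additively, n an integer such that 2n²·x = 0 for every x in
G, and d : G → H a quadratic map, meaning that d is pointed of degree 2 (d(x+y+z) + d(x) + d(y) +
d(z) = d(x+y) + d(x+z) + d(y+z) for all x, y, z) and even (d(−x) = d(x) for all x). Then d(2n·x) = 0
for every x in G. -/
theorem result {G : Type u} {H : Type v} [AddCommGroup G] [AddCommGroup H]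
    (n : ℤ) (hn : ∀ x : G, (2 * n ^ 2) • x = 0)
    (d : G → H) (hd : ∀ x y z : G, d (x + y + z) + d x + d y + d z = d (x + y) + d (x + z) + d (y + z))
    (heven : ∀ x : G, d (-x) = d x) (x : G) :
    d ((2 * n) • x) = 0 := by
  have h := Groth.Misc7.PtDeg2.map_zsmul_eq hd (2 * n) x
  rw [heven, show 2 * n * (2 * n + 1) = 2 * (n * (2 * n + 1)) by ring,
    show 2 * n * (2 * n - 1) = 2 * (n * (2 * n - 1)) by ring] at h
  simp only [Int.mul_ediv_cancel_left _ (two_ne_zero : (2:ℤ) ≠ 0)] at h
  have h2 := Groth.Misc7.PtDeg2.zsmul_add_neg_eq_zero d hd (2 * n ^ 2) x (hn x)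
  rw [heven] at h2
  rw [h, ← h2]
  module

end Groth.Agent.S14296
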