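import Groth.Statements.S14309
import Mathlib
-- import your own Groth.Agent.* helpers here

set_option autoImplicit false
universe u v w x y
open CAlg

namespace Groth.Agent.S14309

/-- Let R be a commutative ring; A, B, C commutative R-algebras; i : A → B and j : A → C jointly
injective R-algebra maps; c a non-zero-divisor of B; u : C → B/(c) a ring map with u ∘ j equal to i
followed by reduction modulo c; ζ in A with i ζ = c and j ζ = 0; η : R[X_σ, Z] → A an R-algebra map
with η(Z) = ζ; a : R[Y_τ] → B a surjective R-algebra map; η_Z : R[X_σ, Z] → R[Y_τ] a surjective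
R-algebra map with a ∘ η_Z = i ∘ η. Fix c̃ in R[Y_τ] with a(c̃) = c, a family (p_h) generating the
kernel of the composite R[X_σ] → R[X_σ, Z] → A → C, a family (q'_h) generating the kernel of a
together with lifts q_h along η_Z, a family (v_h) generating the kernel of η_Z, and elements g'_h of
R[Y_τ] with η_Z(p_h) + g'_h c̃ in the ideal (q'_h), together with lifts g_h along η_Z. Then the
kernel of η is the ideal generated by the elements Z q_h, Z v_h and p_h + Z g_h. (The published
statement is for the rings of cycle classes, with coefficients ℤ[1/6], of a smooth quotient stack, a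
smooth closed substack whose normal bundle has top Chern class c a non-zero-divisor, and the open
complement; this row states the ring-theoretic content for any such square of commutative rings in
which A embeds in B × C.) -/
theorem result
    {R : Type u} [CommRing R] {A : Type v} {B : Type w} {C : Type x}
    [CommRing A] [CommRing B] [CommRing C] [Algebra R A] [Algebra R B] [Algebra R C]
    (i : A →ₐ[R] B) (j : A →ₐ[R] C)
    (hinj : ∀ t : A, i t = 0 → j t = 0 → t = 0)
    (c : B) (hc : c ∈ nonZeroDivisors B) (u : C →+* B ⧸ Ideal.span ({c} : Set B))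
    (hu : ∀ t : A, u (j t) = Ideal.Quotient.mk (Ideal.span ({c} : Set B)) (i t))
    (ζ : A) (hiζ : i ζ = c) (hjζ : j ζ = 0)
    {σ τ ιp ιq ιv : Type y}
    (η : MvPolynomial (Option σ) R →ₐ[R] A) (hη : η (MvPolynomial.X none) = ζ)
    (a : MvPolynomial τ R →ₐ[R] B) (ha : Function.Surjective a)
    (ηZ : MvPolynomial (Option σ) R →ₐ[R] MvPolynomial τ R)
    (hcomm : ∀ t, a (ηZ t) = i (η t)) (hηZ : Function.Surjective ηZ)
    (cZ : MvPolynomial τ R) (hcZ : a cZ = c)
    (p : ιp → MvPolynomial σ R)
    (hp : Ideal.span (Set.range p) =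
      RingHom.ker ((j.comp η).comp (MvPolynomial.rename (Option.some : σ → Option σ))))
    (q' : ιq → MvPolynomial τ R) (hq' : Ideal.span (Set.range q') = RingHom.ker a)
    (q : ιq → MvPolynomial (Option σ) R) (hq : ∀ h, ηZ (q h) = q' h)
    (v : ιv → MvPolynomial (Option σ) R) (hv : Ideal.span (Set.range v) = RingHom.ker ηZ)
    (g' : ιp → MvPolynomial τ R)
    (hg' : ∀ h, ηZ (MvPolynomial.rename (Option.some : σ → Option σ) (p h)) + g' h * cZ ∈
      Ideal.span (Set.range q'))
    (g : ιp → MvPolynomial (Option σ) R) (hg : ∀ h, ηZ (g h) = g' h) :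
    RingHom.ker η = Ideal.span
      (Set.range (fun h : ιq => MvPolynomial.X none * q h) ∪
        Set.range (fun h : ιv => MvPolynomial.X none * v h) ∪
        Set.range (fun h : ιp =>
          MvPolynomial.rename (Option.some : σ → Option σ) (p h) + MvPolynomial.X none * g h)) := by
  classical
  let Z : MvPolynomial (Option σ) R := MvPolynomial.X none
  let ren := MvPolynomial.rename (R := R) (Option.some : σ → Option σ)
  let J := Ideal.span
      (Set.range (fun h : ιq => Z * q h) ∪ Set.range (fun h : ιv => Z * v h) ∪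
        Set.range (fun h : ιp => ren (p h) + Z * g h))
  show RingHom.ker η = J
  have hZi : a (ηZ Z) = c := by rw [hcomm, hη, hiζ]
  have hZt : ∀ t, a (ηZ t) = 0 → η (Z * t) = 0 := fun t ht =>
    hinj _ (by rw [← hcomm, map_mul, map_mul, ht, mul_zero]) (by rw [map_mul, hη, map_mul, hjζ, zero_mul])
  have hJle : J ≤ RingHom.ker η := by
    refine Ideal.span_le.2 ?_
    rintro _ ((⟨h, rfl⟩ | ⟨h, rfl⟩) | ⟨h, rfl⟩)
    · refine hZt _ ?_
      rw [hq]
      exact (hq'.le (Ideal.subset_span ⟨h, rfl⟩) : q' h ∈ RingHom.ker a)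
    · refine hZt _ ?_
      rw [(hv.le (Ideal.subset_span ⟨h, rfl⟩) : v h ∈ RingHom.ker ηZ), map_zero]
    · refine hinj _ ?_ ?_
      · have hk : ηZ (ren (p h)) + g' h * cZ ∈ RingHom.ker a := hq' ▸ hg' h
        rw [RingHom.mem_ker, map_add, map_mul, hcZ] at hk
        rw [← hcomm, map_add, map_add, map_mul, map_mul, hZi, hg, mul_comm]
        exact hk
      · have hk : p h ∈ RingHom.ker ((j.comp η).comp ren) := hp.le (Ideal.subset_span ⟨h, rfl⟩)
        have hk' : j (η (ren (p h))) = 0 := hk
        show j (η (ren (p h) + Z * g h)) = 0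
        rw [map_add, map_add, map_mul, map_mul, hη, hjζ, zero_mul, add_zero, hk']
  refine le_antisymm (fun f hf => ?_) hJle
  let e0 : MvPolynomial (Option σ) R →ₐ[R] MvPolynomial σ R :=
    MvPolynomial.aeval (fun o => Option.elim o 0 MvPolynomial.X)
  have hdiff : f - ren (e0 f) ∈ Ideal.span {Z} := by
    rw [← Ideal.Quotient.eq]
    have : (Ideal.Quotient.mkₐ R (Ideal.span {Z})) = (Ideal.Quotient.mkₐ R (Ideal.span {Z})).comp (ren.comp e0) := by
      refine MvPolynomial.algHom_ext fun o => ?_
      cases o with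
      | none => simpa [ren, e0, Z] using Ideal.Quotient.eq_zero_iff_mem.2 (Ideal.mem_span_singleton_self Z)
      | some s => simp [ren, e0]
    exact AlgHom.congr_fun this f
  have h0 : e0 f ∈ Ideal.span (Set.range p) := by
    rw [hp]
    show j (η (ren (e0 f))) = 0
    obtain ⟨t, ht⟩ := Ideal.mem_span_singleton'.1 hdiff
    have := congrArg (fun x => j (η x)) ht
    simp only [map_mul, map_sub, (hf : η f = 0), map_zero, Z, hη, hjζ, mul_zero, zero_sub] at this
    have hf0 : η f = 0 := hf
    rw [hf0, map_zero, zero_sub] at this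
    exact neg_eq_zero.1 this.symm
  have hP : (Ideal.span (Set.range p)).map ren ≤ J ⊔ Ideal.span {Z} := by
    rw [Ideal.map_span, Ideal.span_le]
    rintro _ ⟨_, ⟨h, rfl⟩, rfl⟩
    have h1 : ren (p h) + Z * g h ∈ J ⊔ Ideal.span {Z} := le_sup_left (a := J) (Ideal.subset_span (Or.inr ⟨h, rfl⟩))
    have h2 : Z * g h ∈ J ⊔ Ideal.span {Z} := le_sup_right (a := J) (Ideal.mem_span_singleton'.2 ⟨g h, mul_comm _ _⟩)
    show ren (p h) ∈ J ⊔ Ideal.span {Z}
    simpa using sub_mem h1 h2
  have hmem : f ∈ J ⊔ Ideal.span {Z} := by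
    have := add_mem (le_sup_right (a := J) hdiff) (hP (Ideal.mem_map_of_mem ren h0))
    simpa using this
  obtain ⟨y, hy, z, hz, rfl⟩ := Submodule.mem_sup.1 hmem
  obtain ⟨t, rfl⟩ := Ideal.mem_span_singleton'.1 hz
  refine add_mem hy ?_
  have h1 : η (t * Z) = 0 := by
    have hy0 : η y = 0 := hJle hy
    have h6 : η (y + t * Z) = 0 := RingHom.mem_ker.1 hf
    rwa [map_add, hy0, zero_add] at h6
  have h2 : a (ηZ t) = 0 := by
    have h3 : a (ηZ t) * c = 0 := by rw [← hZi, ← map_mul, ← map_mul, hcomm, h1, map_zero]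
    exact (mem_nonZeroDivisors_iff.1 hc).2 _ h3
  have h3 : t ∈ Ideal.span (Set.range q) ⊔ Ideal.span (Set.range v) := by
    rw [hv]
    have h4 : ηZ t ∈ (Ideal.span (Set.range q)).map ηZ := by
      rw [Ideal.map_span, ← Set.range_comp, show (⇑ηZ ∘ q) = q' from funext hq, hq']
      exact h2
    obtain ⟨w, hw, hwt⟩ := (Ideal.mem_map_iff_of_surjective ηZ hηZ).1 h4
    exact Submodule.mem_sup.2 ⟨w, hw, t - w, by show ηZ (t - w) = 0; rw [map_sub, hwt, sub_self], add_sub_cancel _ _⟩
  have h5 : (Ideal.span (Set.range q) ⊔ Ideal.span (Set.range v)) ≤ Submodule.comap (LinearMap.mulRight (MvPolynomial (Option σ) R) Z) J := by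
    refine sup_le (Ideal.span_le.2 ?_) (Ideal.span_le.2 ?_)
    · rintro _ ⟨h, rfl⟩
      exact Ideal.subset_span (Or.inl (Or.inl ⟨h, mul_comm _ _⟩))
    · rintro _ ⟨h, rfl⟩
      exact Ideal.subset_span (Or.inl (Or.inr ⟨h, mul_comm _ _⟩))
  exact h5 h3

end Groth.Agent.S14309
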