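import Groth.Statements.S14310
import Groth.Agent.ArPlane.Basic
-- import your own Groth.Agent.* helpers here

set_option autoImplicit false
universe u
open ArSing

namespace Groth.Agent.S14310

section Helpers

open MvPolynomial Groth.ArPlane

variable {k : Type u} [Field k]

theorem isMaximal_of_lt {g : MvPolynomial (Fin 2) k} (hg : Irreducible g)
    (q : Ideal (MvPolynomial (Fin 2) k)) [q.IsPrime] (h : Ideal.span {g} < q) : q.IsMaximal := by
  by_contra hq
  obtain ⟨M, hM, hqM⟩ := Ideal.exists_le_maximal q (Ideal.IsPrime.ne_top inferInstance)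
  have hlt : q < M := lt_of_le_of_ne hqM fun h' => hq (h' ▸ hM)
  have hp : (Ideal.span {g}).IsPrime := (Ideal.span_singleton_prime hg.ne_zero).mpr hg.prime
  have h0 : (⊥ : Ideal (MvPolynomial (Fin 2) k)) < Ideal.span {g} :=
    bot_lt_iff_ne_bot.mpr (by simpa [Ideal.span_singleton_eq_bot] using hg.ne_zero)
  let c : Fin 4 → PrimeSpectrum (MvPolynomial (Fin 2) k) :=
    ![⟨⊥, Ideal.isPrime_bot⟩, ⟨_, hp⟩, ⟨q, inferInstance⟩, ⟨M, hM.isPrime⟩]
  have hc : StrictMono c := by
    refine Fin.strictMono_iff_lt_succ.mpr fun i => ?_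
    fin_cases i
    · exact h0
    · exact h
    · exact hlt
  have := Order.LTSeries.length_le_krullDim (LTSeries.mk 3 c hc)
  rw [← ringKrullDim, MvPolynomial.ringKrullDim_of_isNoetherianRing, ringKrullDim_eq_zero_of_field,
    Nat.card_eq_fintype_card, Fintype.card_fin, zero_add] at this
  norm_cast at this

theorem exists_pderiv_ne_zero [IsAlgClosed k] {g : MvPolynomial (Fin 2) k} (hg : Irreducible g) :
    ∃ i, pderiv i g ≠ 0 := by
  classical
  by_contra h
  push Not at h
  have hd : ∀ d ∈ g.support, ∀ i, ((d i : ℕ) : k) = 0 := by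
    intro d hd i
    by_cases hdi : d i = 0
    · simp [hdi]
    obtain ⟨d', rfl⟩ : ∃ d', d = d' + Finsupp.single i 1 :=
      ⟨d - Finsupp.single i 1, (tsub_add_cancel_of_le (Finsupp.single_le_iff.mpr (by omega))).symm⟩
    have h1 : coeff d' (pderiv i g) = coeff (d' + Finsupp.single i 1) g * ((d' i : k) + 1) := by
      have h2 := MvPowerSeries.coeff_pderiv (R := k) (i := i) (g : MvPowerSeries (Fin 2) k) d'
      rw [MvPowerSeries.pderiv_coe, MvPolynomial.coeff_coe, MvPolynomial.coeff_coe] at h2
      exact_mod_cast h2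
    rw [h i, coeff_zero] at h1
    have := (mul_eq_zero.mp h1.symm).resolve_left (mem_support_iff.mp hd)
    simpa using this
  obtain ⟨p, hp⟩ := CharP.exists k
  rcases CharP.char_is_prime_or_zero k p with hpp | rfl
  · haveI := Fact.mk hpp
    choose rt hrt using fun c : k => IsAlgClosed.exists_pow_nat_eq c hpp.pos
    let r : MvPolynomial (Fin 2) k :=
      ∑ d ∈ g.support, monomial (d.mapRange (· / p) (Nat.zero_div p)) (rt (coeff d g))
    have hr : r ^ p = g := by
      rw [sum_pow_char]
      conv_rhs => rw [g.as_sum]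
      refine Finset.sum_congr rfl fun d hd' => ?_
      have hh : p • (d.mapRange (· / p) (Nat.zero_div p)) = d := by
        ext i
        simp [Nat.mul_div_cancel' ((CharP.cast_eq_zero_iff k p _).mp (hd d hd' i))]
      rw [monomial_pow, hrt, hh]
    exact (hg.prime.irreducible.not_isUnit) (by
      have := hr ▸ hg
      exact absurd this (not_irreducible_pow hpp.ne_one))
  · haveI := CharP.charP_to_charZero k
    refine hg.not_isUnit ?_
    have hC : g = C (coeff 0 g) := by
      ext d
      rw [coeff_C]
      split_ifs with h0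
      · rw [← h0]
      · by_contra hne
        exact h0 (Finsupp.ext fun i => (by exact_mod_cast (hd d (mem_support_iff.mpr hne) i) : d i = 0)).symm
    rw [hC]
    refine (isUnit_iff_ne_zero.mpr fun h0 => hg.ne_zero ?_).map C
    rw [hC, h0, map_zero]

theorem exists_irreducible_dvd_eval {f : MvPolynomial (Fin 2) k} (hf : f ≠ 0) (a : Fin 2 → k)
    (h : eval a f = 0) : ∃ g, Irreducible g ∧ g ∣ f ∧ eval a g = 0 := by
  revert h hf
  induction f using UniqueFactorizationMonoid.induction_on_prime with
  | h₁ => intro hf; exact absurd rfl hf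
  | h₂ x hx =>
    intro _ h
    exact absurd h (hx.map (eval a)).ne_zero
  | h₃ x p _ hp ih =>
    intro hf h
    rw [map_mul, mul_eq_zero] at h
    rcases h with h | h
    · exact ⟨p, hp.irreducible, dvd_mul_right _ _, h⟩
    · obtain ⟨g, hg, hgd, hga⟩ := ih (right_ne_zero_of_mul hf) h
      exact ⟨g, hg, hgd.trans (dvd_mul_left _ _), hga⟩

theorem eq_of_mem_W (a : Fin 2 → k) {W : MvPowerSeries (Fin 2) k} (hW0 : MvPowerSeries.constantCoeff W = 0)
    (hW : Prime W) {g : MvPolynomial (Fin 2) k} (hg : Irreducible g) (hgW : W ∣ tay a g)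
    (r : MvPolynomial (Fin 2) k) (hrW : W ∣ tay a r) : g ∣ r := by
  by_contra hr
  haveI : (Ideal.span {W}).IsPrime := (Ideal.span_singleton_prime hW.ne_zero).mpr hW
  let q := (Ideal.span {W}).comap (tay a)
  haveI : q.IsPrime := Ideal.IsPrime.comap _
  have hgq : g ∈ q := Ideal.mem_comap.mpr (Ideal.mem_span_singleton.mpr hgW)
  have hlt : Ideal.span {g} < q := lt_of_le_of_ne ((Ideal.span_singleton_le_iff_mem _).mpr hgq)
    fun h => hr (Ideal.mem_span_singleton.mp (h ▸ Ideal.mem_comap.mpr (Ideal.mem_span_singleton.mpr hrW)))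
  have hmax := isMaximal_of_lt hg q hlt
  have hle : q ≤ RingHom.ker (eval a) := by
    intro x hx
    obtain ⟨y, hy⟩ := Ideal.mem_span_singleton.mp (Ideal.mem_comap.mp hx)
    rw [RingHom.mem_ker, ← constantCoeff_tay, hy, map_mul, hW0, zero_mul]
  have hq : q = RingHom.ker (eval a) := hmax.eq_of_le (RingHom.ker_ne_top _) hle
  have hX : ∀ i : Fin 2, W ∣ (MvPowerSeries.X i : MvPowerSeries (Fin 2) k) := fun i => by
    have h1 : X i - C (a i) ∈ q := by rw [hq, RingHom.mem_ker]; simp
    simpa using Ideal.mem_span_singleton.mp (Ideal.mem_comap.mp h1)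
  obtain ⟨A, hA⟩ := hX 0
  obtain ⟨B, hB⟩ := hX 1
  have e00 := congrArg (dd 0) hA
  have e01 := congrArg (dd 1) hA
  have e10 := congrArg (dd 0) hB
  have e11 := congrArg (dd 1) hB
  simp only [dd_X, dd_mul, hW0, zero_mul, zero_add] at e00 e01 e10 e11
  simp at e00 e01 e10 e11
  rcases e01 with h | h
  · simp [h] at e00
  · simp [h] at e11

end Helpers

/-- Let k be an algebraically closed field, f a polynomial in two variables x = X_0, y = X_1 over k, and
a a point of k². The quotient of the power series ring k[[x,y]] by the polynomial f recentred at a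
(which is the completed local ring at a of the plane curve f = 0) is isomorphic as a k-algebra to
k[[x,y]]/(y^2) if and only if f = g^2 h for polynomials g and h with h(a) ≠ 0, g(a) = 0 and some
first partial derivative of g non-zero at a. (The published statement asks for the component through
a to be the square of a smooth plane curve; only smoothness at a matters and is what is stated here
— for the square of a nodal cubic the completed local ring at a smooth point of the cubic is still
k[[x,y]]/(y^2). No hypothesis on the characteristic of k is imposed; the published setting assumes a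
characteristic different from 2, 3, 5 and 7, which the argument does not use.) -/
theorem result
    {k : Type u} [Field k] [IsAlgClosed k] (f : MvPolynomial (Fin 2) k) (a : Fin 2 → k) :
    Nonempty ((MvPowerSeries (Fin 2) k ⧸ Ideal.span
        ({(MvPolynomial.aeval (fun i : Fin 2 => MvPolynomial.X i + MvPolynomial.C (a i)) f).toMvPowerSeries} :
          Set (MvPowerSeries (Fin 2) k))) ≃ₐ[k]
      (MvPowerSeries (Fin 2) k ⧸ Ideal.span ({MvPowerSeries.X 1 ^ 2} : Set (MvPowerSeries (Fin 2) k)))) ↔
    ∃ g h : MvPolynomial (Fin 2) k, f = g ^ 2 * h ∧ MvPolynomial.eval a h ≠ 0 ∧ MvPolynomial.eval a g = 0 ∧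
      ∃ i : Fin 2, MvPolynomial.eval a (MvPolynomial.pderiv i g) ≠ 0 := by
  classical
  open Groth.ArPlane in
  constructor
  · rintro ⟨e⟩
    obtain ⟨u, W, hu, hW0, hWd, hF⟩ := exists_sq_of_equiv (tay a f) e
    have hW := prime_of_dd W hW0 hWd
    have hf : f ≠ 0 := fun h => by
      rw [h, map_zero] at hF
      exact (mul_ne_zero hu.ne_zero (pow_ne_zero 2 hW.ne_zero)) hF.symm
    have hfa : MvPolynomial.eval a f = 0 := by rw [← constantCoeff_tay, hF]; simp [hW0]
    obtain ⟨g, hg, ⟨f1, rfl⟩, hga⟩ := exists_irreducible_dvd_eval hf a hfa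
    have hg1 : MvPowerSeries.constantCoeff (tay a g) = 0 := by rw [constantCoeff_tay, hga]
    have hdvd : tay a g ∣ W ^ 2 := by
      rw [← hu.dvd_mul_left, ← hF, map_mul]
      exact dvd_mul_right _ _
    obtain ⟨n, hn, hass⟩ := (dvd_prime_pow hW 2).mp hdvd
    obtain ⟨v, hv⟩ := hass.symm
    have hn1 : n = 1 := by
      interval_cases n
      · rw [← hv] at hg1
        simp only [pow_zero, one_mul] at hg1
        exact absurd hg1 (MvPowerSeries.isUnit_iff_constantCoeff.mp v.isUnit).ne_zero
      · rfl
      · exfalso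
        obtain ⟨i, hi⟩ := exists_pderiv_ne_zero hg
        have h1 : W ∣ tay a g := ⟨W * v, by rw [← hv]; ring⟩
        have h2 : W ∣ tay a (MvPolynomial.pderiv i g) := by
          rw [tay_pderiv, ← hv, Derivation.leibniz, Derivation.leibniz_pow]
          simp only [smul_eq_mul, nsmul_eq_mul, Nat.add_one_sub_one, pow_one]
          exact dvd_add ⟨W * MvPowerSeries.pderiv k i (v : MvPowerSeries (Fin 2) k), by ring⟩
            ⟨(v : MvPowerSeries (Fin 2) k) * (2 * MvPowerSeries.pderiv k i W), by ring⟩
        obtain ⟨r, hr⟩ := eq_of_mem_W a hW0 hW hg h1 _ h2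
        have hr0 : r ≠ 0 := fun h => hi (by rw [hr, h, mul_zero])
        have hdeg : (MvPolynomial.pderiv i g).totalDegree < g.totalDegree := by
          have hg0 : 0 < g.totalDegree := by
            by_contra h
            have := MvPolynomial.totalDegree_eq_zero_iff_eq_C.mp (Nat.eq_zero_of_not_pos h)
            apply hi
            rw [this, MvPolynomial.pderiv_C]
          refine lt_of_le_of_lt ?_ (Nat.sub_lt hg0 one_pos)
          refine Finset.sup_le fun d hd => ?_
          have h2 := MvPowerSeries.coeff_pderiv (R := k) (i := i) (g : MvPowerSeries (Fin 2) k) d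
          rw [MvPowerSeries.pderiv_coe, MvPolynomial.coeff_coe, MvPolynomial.coeff_coe] at h2
          have hd' : d + Finsupp.single i 1 ∈ g.support := by
            rw [MvPolynomial.mem_support_iff]
            intro h0
            rw [h0, zero_mul] at h2
            exact MvPolynomial.mem_support_iff.mp hd h2
          have h3 := MvPolynomial.le_totalDegree hd'
          rw [Finsupp.sum_add_index' (by simp) (by simp), Finsupp.sum_single_index rfl] at h3
          omega
        rw [hr, MvPolynomial.totalDegree_mul_of_isDomain hg.ne_zero hr0] at hdeg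
        omega
    subst hn1
    rw [pow_one] at hv
    have hf1 : tay a f1 = ↑v⁻¹ * (u * W) := by
      rw [map_mul, ← hv] at hF
      refine mul_left_cancel₀ (mul_ne_zero hW.ne_zero v.ne_zero) ?_
      rw [hF]
      calc u * W ^ 2 = ((v : MvPowerSeries (Fin 2) k) * ↑v⁻¹) * (u * W ^ 2) := by simp
        _ = _ := by ring
    obtain ⟨h, rfl⟩ := eq_of_mem_W a hW0 hW hg ⟨v, hv.symm⟩ f1 ⟨↑v⁻¹ * u, by rw [hf1]; ring⟩
    refine ⟨g, h, by ring, ?_, hga, ?_⟩
    · rw [← constantCoeff_tay]
      rw [map_mul, ← hv] at hf1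
      have h2 : W * ((v : MvPowerSeries (Fin 2) k) * tay a h) = W * (↑v⁻¹ * u) := by linear_combination hf1
      have h3 : IsUnit ((v : MvPowerSeries (Fin 2) k) * tay a h) :=
        (mul_left_cancel₀ hW.ne_zero h2) ▸ (v⁻¹).isUnit.mul hu
      exact (MvPowerSeries.isUnit_iff_constantCoeff.mp (isUnit_of_mul_isUnit_right h3)).ne_zero
    · obtain ⟨i, hi⟩ := hWd
      refine ⟨i, ?_⟩
      rw [← dd_tay, ← hv, dd_mul, hW0, zero_mul, zero_add]
      exact mul_ne_zero (MvPowerSeries.isUnit_iff_constantCoeff.mp v.isUnit).ne_zero hi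
  · rintro ⟨g, h, rfl, hh, hg, i, hi⟩
    have hG0 : MvPowerSeries.constantCoeff (tay a g) = 0 := by rw [constantCoeff_tay, hg]
    obtain ⟨j, -, hj⟩ := exists_other (tay a g) ⟨i, by rw [dd_tay]; exact hi⟩
    obtain ⟨θ, hθ, -⟩ := exists_auto ![MvPowerSeries.X j, tay a g]
      (fun l => by fin_cases l <;> simp [hG0]) hj
    have hu : IsUnit (tay a h) := MvPowerSeries.isUnit_iff_constantCoeff.mpr
      (isUnit_iff_ne_zero.mpr (by rw [constantCoeff_tay]; exact hh))
    refine germ_equiv θ (F := tay a (g ^ 2 * h)) (G := MvPowerSeries.X 1 ^ 2) (hu.unit⁻¹).isUnit ?_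
    rw [map_pow, hθ]
    simp [mul_assoc]

end Groth.Agent.S14310
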