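import Groth.Statements.S14311
import Groth.Agent.ArPlane.Basic
-- import your own Groth.Agent.* helpers here

set_option autoImplicit false
universe u
open ArSing

namespace Groth.Agent.S14311

section Helpers

open MvPowerSeries Groth.ArPlane

variable {k : Type u} [Field k]

local notation "PS" => MvPowerSeries (Fin 2) k

theorem algebraMap_eq_C (c : k) : algebraMap k (MvPowerSeries (Fin 2) k) c = C c := by
  simp [MvPowerSeries.algebraMap_apply]

theorem cc_auto (θ : PS ≃ₐ[k] PS) (h : ∀ i, constantCoeff (θ (X i)) = 0) (P : PS) :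
    constantCoeff (θ P) = constantCoeff P := by
  obtain ⟨A, B, hd, -, -⟩ := exists_decomp (P - C (constantCoeff P)) (by simp)
  rw [sub_eq_iff_eq_add'] at hd
  conv_lhs => rw [hd]
  simp [← algebraMap_eq_C, h]
  simp [algebraMap_eq_C]

theorem cc_of_equiv {F G : PS} (hF : constantCoeff F = 0) (e : germ F ≃ₐ[k] germ G) (P U : PS)
    (hP : constantCoeff P = 0) (hU : Ideal.Quotient.mk _ U = e (Ideal.Quotient.mk _ P)) :
    constantCoeff U = 0 := by
  by_contra hne
  have hu : IsUnit (e (Ideal.Quotient.mk _ P)) := hU ▸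
    (MvPowerSeries.isUnit_iff_constantCoeff.mpr (isUnit_iff_ne_zero.mpr hne)).map _
  have hu' : IsUnit (Ideal.Quotient.mk (Ideal.span {F}) P) := by simpa using hu.map e.symm
  obtain ⟨z, hz⟩ := hu'.exists_right_inv
  obtain ⟨Z, rfl⟩ := Ideal.Quotient.mk_surjective z
  rw [← map_mul, ← map_one (Ideal.Quotient.mk (Ideal.span {F})), Ideal.Quotient.eq,
    Ideal.mem_span_singleton] at hz
  obtain ⟨r, hr⟩ := hz
  simpa [hF, hP] using congrArg constantCoeff hr

theorem exists_coords {F G : PS} (hF : constantCoeff F = 0) (hG : constantCoeff G = 0)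
    (hFd : ∀ i, dd i F = 0) (e : germ F ≃ₐ[k] germ G) :
    ∃ U : Fin 2 → PS, (∀ i, constantCoeff (U i) = 0) ∧
      (∀ i, Ideal.Quotient.mk _ (U i) = e.symm (Ideal.Quotient.mk _ (X i))) ∧ (jac U).det ≠ 0 := by
  choose U hU using fun i : Fin 2 => Ideal.Quotient.mk_surjective (e.symm (Ideal.Quotient.mk _ (X i)))
  have hU0 : ∀ i, constantCoeff (U i) = 0 := fun i => cc_of_equiv hG e.symm _ _ (constantCoeff_X i) (hU i)
  choose V hV using fun i : Fin 2 => Ideal.Quotient.mk_surjective (e (Ideal.Quotient.mk _ (X i)))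
  have hV0 : ∀ i, constantCoeff (V i) = 0 := fun i => cc_of_equiv hF e _ _ (constantCoeff_X i) (hV i)
  have : ∀ j, ∃ Z0 Z1 : PS, ∀ i, (if i = j then (1:k) else 0) =
      constantCoeff Z0 * dd i (U 0) + constantCoeff Z1 * dd i (U 1) := by
    intro j
    obtain ⟨A, B, hd, -, -⟩ := exists_decomp (V j) (hV0 j)
    obtain ⟨A', hA'⟩ := Ideal.Quotient.mk_surjective (e.symm (Ideal.Quotient.mk _ A))
    obtain ⟨B', hB'⟩ := Ideal.Quotient.mk_surjective (e.symm (Ideal.Quotient.mk _ B))
    have h1 : Ideal.Quotient.mk (Ideal.span {F}) (X j) = Ideal.Quotient.mk _ (U 0 * A' + U 1 * B') := by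
      rw [← e.symm_apply_apply (Ideal.Quotient.mk _ (X j)), ← hV j, hd]
      simp only [map_add, map_mul, hU, hA', hB']
    obtain ⟨r, hr⟩ := Ideal.mem_span_singleton.mp (Ideal.Quotient.eq.mp h1)
    refine ⟨A', B', fun i => ?_⟩
    have h2 := congrArg (dd i) hr
    simp [dd_sub, dd_add, dd_mul, dd_X, hF, hFd, hU0, sub_eq_zero] at h2
    exact h2
  choose Z0 Z1 hZ using this
  refine ⟨U, hU0, hU, fun hdet => ?_⟩
  have h00 := hZ 0 0
  have h10 := hZ 0 1
  have h01 := hZ 1 0
  have h11 := hZ 1 1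
  simp at h00 h10 h01 h11
  simp [jac, Matrix.det_fin_two] at hdet
  have key : (1:k) = (constantCoeff (Z0 0) * constantCoeff (Z1 1) - constantCoeff (Z1 0) * constantCoeff (Z0 1)) *
      (dd 0 (U 0) * dd 1 (U 1) - dd 1 (U 0) * dd 0 (U 1)) := by
    linear_combination h00 * (constantCoeff (Z0 1) * dd 1 (U 0) + constantCoeff (Z1 1) * dd 1 (U 1)) + h11
      - h01 * (constantCoeff (Z0 0) * dd 1 (U 0) + constantCoeff (Z1 0) * dd 1 (U 1))
  rw [hdet, mul_zero] at key
  exact one_ne_zero key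

/-- Second derivative at the origin. -/
noncomputable def qq (i j : Fin 2) (P : MvPowerSeries (Fin 2) k) : k := dd i (pderiv k j P)

theorem qq_mul_self (i j : Fin 2) (U : PS) (hU : constantCoeff U = 0) :
    qq i j (U * U) = 2 * (dd i U * dd j U) := by
  simp [qq, dd, hU]
  ring

theorem not_equiv (h2 : (2:k) ≠ 0) (F : PS) (hF : constantCoeff F = 0) (hFd : ∀ i, dd i F = 0)
    (hFq : ∀ i j, qq i j F = 0) :
    IsEmpty (germ F ≃ₐ[k] germ ((X 1 : PS) ^ 2)) ∧ ∀ n, IsEmpty (germ F ≃ₐ[k] germ (ArSing.eqn k n)) := by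
  have hmul : ∀ r, (∀ i, dd i (F * r) = 0) ∧ ∀ i j, qq i j (F * r) = 0 := by
    intro r
    refine ⟨fun i => by simp [dd_mul, hF, hFd], fun i j => ?_⟩
    have a := hFd i
    have b := hFd j
    have c := hFq i j
    simp only [qq, dd] at a b c ⊢
    simp [hF, a, b, c]
  refine ⟨⟨fun e => ?_⟩, fun n => ⟨fun e => ?_⟩⟩
  · obtain ⟨U, hU0, hU, hdet⟩ := exists_coords hF (by simp) hFd e
    have hmem : F ∣ U 1 * U 1 := by
      rw [← Ideal.mem_span_singleton, ← Ideal.Quotient.eq_zero_iff_mem, map_mul, hU, ← map_mul,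
        ← map_mul, ← pow_two, Ideal.Quotient.eq_zero_iff_mem.mpr (Ideal.mem_span_singleton_self _), map_zero]
    obtain ⟨r, hr⟩ := hmem
    have h : ∀ i, dd i (U 1) = 0 := fun i => by
      have h1 := congrArg (qq i i) hr
      rw [qq_mul_self i i _ (hU0 1), (hmul r).2] at h1
      simpa [h2] using h1
    exact hdet (by simp [jac, Matrix.det_fin_two, h])
  · obtain ⟨U, hU0, hU, hdet⟩ := exists_coords hF (by simp [ArSing.eqn]) hFd e
    have hmem : F ∣ U 1 * U 1 - U 0 ^ (n + 1) := by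
      rw [← Ideal.mem_span_singleton, ← Ideal.Quotient.eq_zero_iff_mem, map_sub, map_mul, map_pow, hU, hU,
        ← map_mul, ← map_pow, ← map_sub, ← map_mul, ← map_pow, ← map_sub, ← pow_two]
      show e.symm (Ideal.Quotient.mk (Ideal.span {ArSing.eqn k n}) (ArSing.eqn k n)) = 0
      rw [Ideal.Quotient.eq_zero_iff_mem.mpr (Ideal.mem_span_singleton_self _), map_zero]
    obtain ⟨r, hr⟩ := hmem
    have hq : ∀ i j, 2 * (dd i (U 1) * dd j (U 1)) = qq i j (U 0 ^ (n + 1)) := fun i j => by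
      have h1 := congrArg (qq i j) hr
      rw [(hmul r).2] at h1
      simp only [qq, map_sub, dd_sub] at h1
      rw [← qq_mul_self i j _ (hU0 1)]
      exact sub_eq_zero.mp h1
    rcases n with _ | _ | n
    · have h : ∀ i, dd i (U 0) = 0 := fun i => by
        have h1 := congrArg (dd i) hr
        rw [(hmul r).1] at h1
        simpa [dd_sub, dd_mul, hU0] using h1
      exact hdet (by simp [jac, Matrix.det_fin_two, h])
    · have h : ∀ i j, dd i (U 1) * dd j (U 1) = dd i (U 0) * dd j (U 0) := fun i j => by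
        have h1 := hq i j
        rw [show U 0 ^ (0 + 1 + 1) = U 0 * U 0 by ring, qq_mul_self i j _ (hU0 0)] at h1
        exact mul_left_cancel₀ h2 h1
      refine hdet ?_
      have hsq : (jac U).det ^ 2 = 0 := by
        rw [jac, Matrix.det_fin_two]
        simp only [Matrix.of_apply]
        linear_combination (dd 0 (U 0)) ^ 2 * h 1 1 + (dd 1 (U 0)) ^ 2 * h 0 0
          - 2 * dd 0 (U 0) * dd 1 (U 0) * h 0 1
      exact eq_zero_of_pow_eq_zero hsq
    · have hz : ∀ i j, qq i j (U 0 ^ (n + 1 + 1 + 1)) = 0 := fun i j => by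
        rw [show U 0 ^ (n + 1 + 1 + 1) = U 0 * (U 0 * (U 0 * U 0 ^ n)) by ring]
        simp [qq, dd, hU0]
      have h : ∀ i, dd i (U 1) = 0 := fun i => by
        have h1 := hq i i
        rw [hz] at h1
        simpa [h2] using h1
      exact hdet (by simp [jac, Matrix.det_fin_two, h])

/-- The equations `y² - x^(n+1)` and `y²`. -/
def IsModel (G : MvPowerSeries (Fin 2) k) : Prop :=
  G = MvPowerSeries.X 1 ^ 2 ∨ ∃ n, G = ArSing.eqn k n

theorem model_of_linear (F : PS) (hF : constantCoeff F = 0) (h : ∃ i, dd i F ≠ 0) :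
    Nonempty (germ F ≃ₐ[k] germ (ArSing.eqn k 0)) := by
  obtain ⟨j, hj, -⟩ := exists_other F h
  obtain ⟨θ, hθ, -⟩ := exists_auto ![X j * X j - F, X j] (fun l => by fin_cases l <;> simp [hF]) (by
    simp [jac, Matrix.det_fin_two, dd_sub, dd_mul, sub_eq_zero, neg_add_eq_zero] at hj ⊢
    exact hj)
  refine germ_equiv θ isUnit_one ?_
  simp [ArSing.eqn, hθ]
  ring

theorem sqrt_powerSeries [IsAlgClosed k] (h2 : (2:k) ≠ 0) (v : PowerSeries k) (hv : IsUnit v) :
    ∃ w : PowerSeries k, IsUnit w ∧ w ^ 2 = v := by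
  obtain ⟨s, hs⟩ := IsAlgClosed.exists_pow_nat_eq (PowerSeries.constantCoeff v) two_pos
  have hs0 : s ≠ 0 := by
    rintro rfl
    exact (PowerSeries.isUnit_iff_constantCoeff.mp hv).ne_zero (by simpa using hs.symm)
  haveI : HenselianRing (PowerSeries k) (Ideal.span {PowerSeries.X}) :=
    IsAdicComplete.henselianRing _ _
  have h1 : ((Polynomial.X ^ 2 - Polynomial.C v).eval (PowerSeries.C s)) ∈
      Ideal.span ({PowerSeries.X} : Set (PowerSeries k)) := by
    rw [Ideal.mem_span_singleton, PowerSeries.X_dvd_iff]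
    simp [hs]
  have h3 : IsUnit (Ideal.Quotient.mk (Ideal.span ({PowerSeries.X} : Set (PowerSeries k)))
      ((Polynomial.X ^ 2 - Polynomial.C v).derivative.eval (PowerSeries.C s))) := by
    rw [show Polynomial.eval (PowerSeries.C s) (Polynomial.derivative (Polynomial.X ^ 2 - Polynomial.C v :
        Polynomial (PowerSeries k))) = PowerSeries.C (2 * s) by
      simp [map_ofNat, one_add_one_eq_two]]
    exact (((mul_ne_zero h2 hs0).isUnit).map PowerSeries.C).map _
  obtain ⟨w, hw, -⟩ := HenselianRing.is_henselian _ (Polynomial.monic_X_pow_sub_C v two_ne_zero) _ h1 h3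
  have hw2 : w ^ 2 = v := by simpa [sub_eq_zero] using hw
  exact ⟨w, (isUnit_pow_iff two_ne_zero).mp (hw2 ▸ hv), hw2⟩

theorem model_of_A [IsAlgClosed k] (h2 : (2:k) ≠ 0) (A B D : PS) (hA : constantCoeff A ≠ 0) :
    ∃ G : PS, IsModel G ∧
      Nonempty (germ (X 0 * X 0 * A + X 0 * X 1 * B + X 1 * X 1 * D) ≃ₐ[k] germ G) := by
  set F := X 0 * X 0 * A + X 0 * X 1 * B + X 1 * X 1 * D with hFdef
  set E := Groth.Funfld2.Plane.equivMv k
  let sy : PowerSeries k →ₐ[k] PS := E.symm.toAlgHom.comp (Groth.Funfld2.Plane.inT k)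
  have hE0 : E (X 0) = PowerSeries.X := by
    simp [E, Groth.Funfld2.Plane.equivMv, MvPowerSeries.finSuccEquiv_X_zero, PowerSeries.mapAlgHom_apply]
  have hE1 : E (X 1) = PowerSeries.C PowerSeries.X := by
    have h1 : MvPowerSeries.finSuccEquiv k 1 (MvPowerSeries.X (0 : Fin 1).succ) =
        PowerSeries.C (MvPowerSeries.X 0) := MvPowerSeries.finSuccEquiv_X_succ _
    simp [E, Groth.Funfld2.Plane.equivMv, PowerSeries.mapAlgHom_apply, PowerSeries.X]
    rw [show (1 : Fin 2) = (0 : Fin 1).succ from rfl, h1]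
    simp
  have hsy : ∀ c, E (sy c) = PowerSeries.C c := fun c => E.apply_symm_apply _
  have hsyX : sy PowerSeries.X = X 1 := E.injective (by rw [hsy, hE1])
  have hsy0 : ∀ c, constantCoeff (sy c) = PowerSeries.constantCoeff c := by
    intro c
    conv_lhs => rw [PowerSeries.eq_X_mul_shift_add_const c]
    rw [map_add, map_mul, hsyX, ← PowerSeries.algebraMap_eq, AlgHom.commutes, algebraMap_eq_C]
    simp
  let ψ := PowerSeries.map (IsLocalRing.residue (PowerSeries k))
  have hX : IsLocalRing.residue (PowerSeries k) PowerSeries.X = 0 := by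
    rw [IsLocalRing.residue_eq_zero_iff, PowerSeries.maximalIdeal_eq_span_X]
    exact Ideal.mem_span_singleton_self _
  have hψ : ψ (E F) = PowerSeries.X ^ 2 * ψ (E A) := by
    simp [ψ, hFdef, map_add, map_mul, hE0, hE1, hX, pow_two]
  have hAu : IsUnit (ψ (E A)) :=
    ((MvPowerSeries.isUnit_iff_constantCoeff.mpr (isUnit_iff_ne_zero.mpr hA)).map E).map ψ
  have hord : (ψ (E F)).order = 2 := by
    rw [hψ, PowerSeries.order_mul, PowerSeries.order_X_pow, PowerSeries.order_zero_of_unit hAu]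
    rfl
  have hne : ψ (E F) ≠ 0 := fun h => by rw [h, PowerSeries.order_zero] at hord; simp at hord
  haveI : IsAdicComplete (IsLocalRing.maximalIdeal (PowerSeries k)) (PowerSeries k) := by
    rw [PowerSeries.maximalIdeal_eq_span_X]; infer_instance
  obtain ⟨q, r, hr⟩ := PowerSeries.exists_isWeierstrassDivision (PowerSeries.X ^ 2) (g := E F) hne
  have hdeg : r.degree ≤ 1 := by
    have h1 := hr.degree_lt
    rw [show ((E F).map (Ideal.Quotient.mk (IsLocalRing.maximalIdeal (PowerSeries k)))).order = 2 from hord] at h1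
    exact Order.le_of_lt_succ h1
  obtain ⟨r1, r0, rfl⟩ : ∃ r1 r0, r = Polynomial.C r1 * Polynomial.X + Polynomial.C r0 :=
    ⟨_, _, Polynomial.eq_X_add_C_of_degree_le_one hdeg⟩
  have heq := hr.eq_mul_add
  rw [Polynomial.coe_add, Polynomial.coe_mul, Polynomial.coe_C, Polynomial.coe_C, Polynomial.coe_X] at heq
  have hcoef : ∀ n, PowerSeries.coeff n (PowerSeries.X ^ 2 : PowerSeries (IsLocalRing.ResidueField (PowerSeries k))) =
      PowerSeries.coeff n (PowerSeries.X ^ 2 * (ψ (E A) * ψ q) +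
        (PowerSeries.C (IsLocalRing.residue _ r1) * PowerSeries.X ^ 1 +
        PowerSeries.C (IsLocalRing.residue _ r0))) := by
    intro n
    have h := congrArg ψ heq
    rw [map_pow, map_add, map_mul, hψ, map_add, map_mul] at h
    simp only [ψ, PowerSeries.map_X, PowerSeries.map_C] at h
    rw [pow_one, ← mul_assoc]
    exact congrArg _ h
  have hr0 : PowerSeries.constantCoeff r0 = 0 := by
    have h := hcoef 0
    simp [PowerSeries.coeff_X_pow, PowerSeries.coeff_X_pow_mul', PowerSeries.coeff_C_mul, PowerSeries.coeff_C] at h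
    have h' : r0 ∈ IsLocalRing.maximalIdeal _ := (IsLocalRing.residue_eq_zero_iff _).mp h.symm
    rwa [PowerSeries.maximalIdeal_eq_span_X, Ideal.mem_span_singleton, PowerSeries.X_dvd_iff] at h'
  have hr1 : PowerSeries.constantCoeff r1 = 0 := by
    have h := hcoef 1
    simp [PowerSeries.coeff_X_pow, PowerSeries.coeff_X_pow_mul', PowerSeries.coeff_C_mul, PowerSeries.coeff_C] at h
    have h' : r1 ∈ IsLocalRing.maximalIdeal _ := (IsLocalRing.residue_eq_zero_iff _).mp h.symm
    rwa [PowerSeries.maximalIdeal_eq_span_X, Ideal.mem_span_singleton, PowerSeries.X_dvd_iff] at h'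
  have hq : IsUnit q := by
    have h := hcoef 2
    rw [map_add, map_add, PowerSeries.coeff_X_pow_mul', if_pos le_rfl, Nat.sub_self,
      PowerSeries.coeff_zero_eq_constantCoeff_apply, map_mul] at h
    refine PowerSeries.isUnit_iff_constantCoeff.mpr (isUnit_of_map_unit (IsLocalRing.residue _) _ ?_)
    refine isUnit_iff_ne_zero.mpr fun h0 => ?_
    simp [PowerSeries.coeff_X_pow, PowerSeries.coeff_C, ψ] at h
    rw [← PowerSeries.coeff_zero_eq_constantCoeff_apply, ← PowerSeries.coeff_zero_eq_constantCoeff_apply,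
      PowerSeries.coeff_map, PowerSeries.coeff_map, PowerSeries.coeff_zero_eq_constantCoeff_apply q, h0, mul_zero] at h
    exact one_ne_zero h
  have hq' : IsUnit (E.symm q) := hq.map E.symm
  set hh := PowerSeries.C (2⁻¹ : k) * r1 with hhdef
  set c := r0 + hh ^ 2 with hcdef
  have hkey : F * E.symm q = (X 0 - sy hh) ^ 2 - sy c := by
    apply E.injective
    rw [map_mul E, AlgEquiv.apply_symm_apply, map_sub E, map_pow E, map_sub E, hsy, hsy, hE0, hcdef, map_add PowerSeries.C, map_pow PowerSeries.C]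
    have h2' : r1 = hh + hh := by
      rw [hhdef, ← add_mul, ← map_add, ← two_mul, mul_inv_cancel₀ h2, map_one, one_mul]
    rw [h2', map_add PowerSeries.C] at heq
    simp only [hFdef, map_add E] at heq ⊢
    linear_combination -heq
  have hc0 : PowerSeries.constantCoeff c = 0 := by simp [hcdef, hhdef, hr0, hr1]
  have hdet : ∀ w : PowerSeries k, IsUnit w →
      (jac ![(X 1 : PS), (X 0 - sy hh) * sy w]).det ≠ 0 := by
    intro w hw
    have h0 : constantCoeff (sy hh) = 0 := by rw [hsy0, hhdef, map_mul, hr1, mul_zero]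
    have h1 : dd 0 (sy hh) = 0 := by
      obtain ⟨h', hh'⟩ : PowerSeries.X ∣ hh := PowerSeries.X_dvd_iff.mpr (by rw [hhdef, map_mul, hr1, mul_zero])
      rw [hh', map_mul, hsyX]
      simp [dd_mul, dd_X, hsy0]
    simpa [jac, Matrix.det_fin_two, dd_sub, dd_mul, dd_X, h0, h1, hsy0] using
      (PowerSeries.isUnit_iff_constantCoeff.mp hw).ne_zero
  have htup : ∀ w : PowerSeries k, ∀ i, constantCoeff (![(X 1 : PS), (X 0 - sy hh) * sy w] i) = 0 := by
    intro w i
    fin_cases i <;> simp [hsy0, hhdef, hr1]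
  by_cases hc : c = 0
  · obtain ⟨θ, hθ, -⟩ := exists_auto _ (htup 1) (hdet 1 isUnit_one)
    refine ⟨_, Or.inl rfl, germ_equiv θ hq' ?_⟩
    rw [hkey, hc, map_zero, sub_zero, map_pow, hθ]
    simp
  · obtain ⟨m, v, hcv⟩ := IsDiscreteValuationRing.eq_unit_mul_pow_irreducible hc PowerSeries.X_irreducible
    rcases m with _ | n
    · exfalso
      rw [pow_zero, mul_one] at hcv
      exact (PowerSeries.isUnit_iff_constantCoeff.mp (hcv ▸ v.isUnit)).ne_zero hc0
    obtain ⟨w, hw, hw2⟩ := sqrt_powerSeries h2 ((v⁻¹ : (PowerSeries k)ˣ) : PowerSeries k) (v⁻¹).isUnit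
    obtain ⟨θ, hθ, -⟩ := exists_auto _ (htup w) (hdet w hw)
    refine ⟨_, Or.inr ⟨n, rfl⟩, germ_equiv θ (hq'.mul ((v⁻¹).isUnit.map sy)) ?_⟩
    rw [← mul_assoc, hkey, ArSing.eqn, map_sub, map_pow, map_pow, hθ, hθ]
    simp only [Matrix.cons_val_zero, Matrix.cons_val_one]
    have h1 : sy c * sy ((v⁻¹ : (PowerSeries k)ˣ) : PowerSeries k) = X 1 ^ (n + 1) := by
      rw [← map_mul, hcv, mul_comm, ← mul_assoc, Units.inv_mul, one_mul, map_pow, hsyX]
    rw [mul_pow, ← map_pow sy w, hw2, sub_mul, h1]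

theorem model_of_quad [IsAlgClosed k] (h2 : (2:k) ≠ 0) (F : PS) (hF : constantCoeff F = 0)
    (hFd : ∀ i, dd i F = 0) (h : ∃ i j, qq i j F ≠ 0) :
    ∃ G : PS, IsModel G ∧ Nonempty (germ F ≃ₐ[k] germ G) := by
  obtain ⟨A, B, D, rfl⟩ := exists_decomp₂ F hF hFd
  by_cases hA : constantCoeff A ≠ 0
  · exact model_of_A h2 A B D hA
  push Not at hA
  by_cases hD : constantCoeff D ≠ 0
  · obtain ⟨θ, hθ, -⟩ := exists_auto ![(X 1 : PS), X 0] (fun i => by fin_cases i <;> simp)
      (by simp [jac, Matrix.det_fin_two, dd_X])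
    obtain ⟨G, hG, ⟨e⟩⟩ := model_of_A h2 (θ D) (θ B) (θ A)
      (by rw [cc_auto θ (fun i => by rw [hθ]; fin_cases i <;> simp)]; exact hD)
    obtain ⟨e'⟩ := germ_equiv θ isUnit_one (F := X 0 * X 0 * θ D + X 0 * X 1 * θ B + X 1 * X 1 * θ A)
      (G := X 0 * X 0 * A + X 0 * X 1 * B + X 1 * X 1 * D) (by simp [hθ]; ring)
    exact ⟨G, hG, ⟨e'.symm.trans e⟩⟩
  push Not at hD
  have hB : constantCoeff B ≠ 0 := by
    obtain ⟨i, j, hij⟩ := h
    intro hB
    apply hij
    simp [qq, dd, hA, hB, hD]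
  obtain ⟨θ, hθ, -⟩ := exists_auto ![(X 0 : PS), X 1 + X 0] (fun i => by fin_cases i <;> simp)
    (by simp [jac, Matrix.det_fin_two, dd_X, dd_add])
  have hc := cc_auto θ (fun i => by rw [hθ]; fin_cases i <;> simp)
  obtain ⟨G, hG, ⟨e⟩⟩ := model_of_A h2 (θ A + θ B + θ D) (θ B + 2 * θ D) (θ D)
    (by simp [hc, hA, hD, hB])
  obtain ⟨e'⟩ := germ_equiv θ isUnit_one
    (F := X 0 * X 0 * (θ A + θ B + θ D) + X 0 * X 1 * (θ B + 2 * θ D) + X 1 * X 1 * θ D)
    (G := X 0 * X 0 * A + X 0 * X 1 * B + X 1 * X 1 * D) (by simp [hθ]; ring)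
  exact ⟨G, hG, ⟨e'.symm.trans e⟩⟩

end Helpers

/-- Let k be an algebraically closed field in which 2 ≠ 0, f a polynomial in x = X_0, y = X_1 over k and
a a zero of f in k². Then the gradient and all second partial derivatives of f vanish at a if and
only if the completed local ring k[[x,y]]/(f recentred at a) of the plane curve f = 0 at a is
isomorphic as a k-algebra neither to k[[x,y]]/(y^2 - x^(n+1)) for any natural number n nor to
k[[x,y]]/(y^2). (Here n = 0, a smooth point, is allowed; with n ≥ 1 only, as in the published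
definition of an A-singularity, the equivalence fails at smooth points of the curve. Only 2 ≠ 0 is
assumed of the characteristic; the published setting assumes a characteristic different from 2, 3, 5
and 7.) -/
theorem result
    {k : Type u} [Field k] [IsAlgClosed k] (h2 : (2 : k) ≠ 0) (f : MvPolynomial (Fin 2) k) (a : Fin 2 → k)
    (hfa : MvPolynomial.eval a f = 0) :
    ((∀ i : Fin 2, MvPolynomial.eval a (MvPolynomial.pderiv i f) = 0) ∧
      ∀ i j : Fin 2, MvPolynomial.eval a (MvPolynomial.pderiv i (MvPolynomial.pderiv j f)) = 0) ↔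
    ¬ ((∃ n : ℕ, Nonempty ((MvPowerSeries (Fin 2) k ⧸ Ideal.span
        ({(MvPolynomial.aeval (fun i : Fin 2 => MvPolynomial.X i + MvPolynomial.C (a i)) f).toMvPowerSeries} :
          Set (MvPowerSeries (Fin 2) k))) ≃ₐ[k] ArSing.ring k n)) ∨
        Nonempty ((MvPowerSeries (Fin 2) k ⧸ Ideal.span
        ({(MvPolynomial.aeval (fun i : Fin 2 => MvPolynomial.X i + MvPolynomial.C (a i)) f).toMvPowerSeries} :
          Set (MvPowerSeries (Fin 2) k))) ≃ₐ[k]
          (MvPowerSeries (Fin 2) k ⧸ Ideal.span ({MvPowerSeries.X 1 ^ 2} : Set (MvPowerSeries (Fin 2) k))))) := by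
  have hF : MvPowerSeries.constantCoeff (Groth.ArPlane.tay a f) = 0 := by
    rw [Groth.ArPlane.constantCoeff_tay, hfa]
  have hq : ∀ i j, qq i j (Groth.ArPlane.tay a f) =
      MvPolynomial.eval a (MvPolynomial.pderiv i (MvPolynomial.pderiv j f)) := fun i j => by
    rw [qq, ← Groth.ArPlane.tay_pderiv, Groth.ArPlane.dd_tay]
  constructor
  · rintro ⟨h1, h3⟩
    obtain ⟨he, hn⟩ := not_equiv h2 (Groth.ArPlane.tay a f) hF
      (fun i => by rw [Groth.ArPlane.dd_tay]; exact h1 i) (fun i j => by rw [hq]; exact h3 i j)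
    rintro (⟨n, e⟩ | e)
    · obtain ⟨e⟩ := e; exact (hn n).false e
    · obtain ⟨e⟩ := e; exact he.false e
  · intro h
    by_contra hne
    apply h
    by_cases hd : ∀ i, Groth.ArPlane.dd i (Groth.ArPlane.tay a f) = 0
    · have h3 : ∃ i j, qq i j (Groth.ArPlane.tay a f) ≠ 0 := by
        by_contra hall
        push Not at hall
        exact hne ⟨fun i => by rw [← Groth.ArPlane.dd_tay]; exact hd i, fun i j => by rw [← hq]; exact hall i j⟩
      obtain ⟨G, hG, he⟩ := model_of_quad h2 _ hF hd h3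
      rcases hG with rfl | ⟨n, rfl⟩
      · exact Or.inr he
      · exact Or.inl ⟨n, he⟩
    · push Not at hd
      exact Or.inl ⟨0, model_of_linear _ hF hd⟩

end Groth.Agent.S14311
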