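import Mathlib
import Groth.Statements.S14312
import Groth.Agent.Misc6.PlaneSingular

set_option autoImplicit false
universe u
open Curves

namespace Groth.Agent.S14312

/-- Over an algebraically closed field k, a reduced plane quartic — the zero locus in the projective
plane of a square-free homogeneous polynomial f of degree 4 in three variables — has at most 6
singular points, a singular point being a point of the projective plane at which f and its three
first partial derivatives vanish. (No hypothesis on the characteristic of k is imposed here. The
further assertions describing the quartics with exactly 5 or exactly 6 singular points are not part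
of this row.) -/
theorem result
    {k : Type u} [Field k] [IsAlgClosed k] (f : MvPolynomial (Fin 3) k)
    (hf : f.IsHomogeneous 4) (hred : Squarefree f) :
    ∃ s : Finset (Projectivization k (Fin 3 → k)), s.card ≤ 6 ∧
      ∀ p : Projectivization k (Fin 3 → k),
        MvPolynomial.eval p.rep f = 0 →
          (∀ i : Fin 3, MvPolynomial.eval p.rep (MvPolynomial.pderiv i f) = 0) → p ∈ s := by
  classical
  have hf0 : f ≠ 0 := fun h => not_squarefree_zero (h ▸ hred)
  obtain ⟨c, hc⟩ := Groth.Misc6.PlaneSingular.exists_combination_relPrime hf0 hred
  set g : MvPolynomial (Fin 3) k := ∑ i, MvPolynomial.C (c i) * MvPolynomial.pderiv i f with hg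
  have hgh : g.IsHomogeneous 3 := MvPolynomial.IsHomogeneous.sum _ _ _ fun i _ => by
    simpa using (MvPolynomial.isHomogeneous_C _ (c i)).mul (hf.pderiv (i := i))
  have hg0 : g ≠ 0 := by
    intro h
    rw [h, isRelPrime_zero_right] at hc
    have h1 := (MvPolynomial.isUnit_iff_totalDegree_of_isReduced).1 hc
    rw [hf.totalDegree hf0] at h1
    exact absurd h1.2 (by norm_num)
  let S : Set (Projectivization k (Fin 3 → k)) := {p | MvPolynomial.eval p.rep f = 0 ∧
    ∀ i : Fin 3, MvPolynomial.eval p.rep (MvPolynomial.pderiv i f) = 0}
  have key : ∀ e : Fin 7 → Projectivization k (Fin 3 → k), Function.Injective e → (∀ i, e i ∈ S) → False := by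
    intro e he heS
    refine Groth.Misc6.PlaneSingular.card_le_six hf hgh hc hg0 (fun i => (e i).rep)
      (fun i => (e i).rep_nonzero) (fun i j hij hmem => ?_) (fun i => (heS i).1) (fun i l => (heS i).2 l)
      (fun i => by simp [hg, (heS i).2])
    obtain ⟨a, ha⟩ := Submodule.mem_span_singleton.1 hmem
    refine hij (he ?_)
    rw [← Projectivization.mk_rep (e i), ← Projectivization.mk_rep (e j), Projectivization.mk_eq_mk_iff']
    exact ⟨a, ha⟩
  have hfin : S.Finite := by
    by_contra h
    have emb := Set.Infinite.natEmbedding S h
    exact key (fun i => (emb (i : ℕ)).1)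
      (fun i j hij => Fin.ext (emb.injective (Subtype.ext hij))) (fun i => (emb (i : ℕ)).2)
  refine ⟨hfin.toFinset, ?_, fun p h1 h2 => hfin.mem_toFinset.2 ⟨h1, h2⟩⟩
  by_contra h
  obtain ⟨t, ht, htc⟩ := Finset.exists_subset_card_eq (n := 7) (s := hfin.toFinset) (by omega)
  exact key (fun i => ((Fintype.equivFinOfCardEq (α := t) (by simp [htc])).symm i).1)
    (Subtype.val_injective.comp (Equiv.injective _))
    (fun i => hfin.mem_toFinset.1 (ht ((Fintype.equivFinOfCardEq (α := t) (by simp [htc])).symm i).2))

end Groth.Agent.S14312
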