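import Groth.Statements.S1433

set_option autoImplicit false
universe u
open FlatMor

namespace Groth.Agent.S1433

open AlgebraicGeometry CategoryTheory Limits in
/-- If the canonical morphism X → Spec Γ(X, O_X) has a retraction, then X is affine. -/
theorem result (X : Scheme.{u}) (r : Spec Γ(X, ⊤) ⟶ X) (h : X.toSpecΓ ≫ r = 𝟙 X) : IsAffine X := by
  have h' : r ≫ X.toSpecΓ = 𝟙 _ := by
    apply ext_of_isAffine
    have h0 := congr(Scheme.Hom.appTop $h)
    simp only [Scheme.Hom.comp_appTop, Scheme.Hom.id_appTop] at h0 ⊢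
    have : IsIso X.toSpecΓ.appTop := by rw [Scheme.toSpecΓ_appTop]; infer_instance
    have h2 : r.appTop = inv X.toSpecΓ.appTop := IsIso.eq_inv_of_inv_hom_id (by simpa using h0) |> id
    rw [h2]; simp
  exact ⟨⟨r, h, h'⟩⟩

end Groth.Agent.S1433
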