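import Groth.Statements.S14330
import Groth.Agent.S5091
import Groth.Agent.Calg4.FlatDepth
import Groth.Agent.RefRank.Extend
import Groth.Agent.PicAux.Sections
-- import your own Groth.Agent.* helpers here

set_option autoImplicit false
universe u
open CategoryTheory CategoryTheory.Limits AlgebraicGeometry Opposite
open GrpSch

namespace Groth.Agent.S14330

section Helpers
open CategoryTheory.Limits TopologicalSpace Groth.PicAux

/-- Injectivity of restriction passes from functions to invertible modules. -/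
theorem res_injective {X : Scheme.{u}} {U : X.Opens} (hU : CInt.IsSchematicallyDense U) (L : X.Modules)
    (hL : PicF.IsInvertible L) (W : X.Opens) :
    Function.Injective (Groth.PicAux.res L (inf_le_left : W ⊓ U ≤ W)) := by
  intro a b hab
  choose V g hxV hg using (isInvertible_iff_exists_gen L).mp hL
  refine res_ext (fun x : W => W ⊓ V x.1) (fun x => inf_le_left) (fun x hx => ?_) fun x => ?_
  · exact Opens.mem_iSup.mpr ⟨⟨x, hx⟩, hx, hxV x⟩
  · obtain ⟨r, hr⟩ := (hg x.1).exists_coeff (inf_le_right : W ⊓ V x.1 ≤ V x.1) (Groth.PicAux.res L inf_le_left a)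
    obtain ⟨r', hr'⟩ := (hg x.1).exists_coeff (inf_le_right : W ⊓ V x.1 ≤ V x.1) (Groth.PicAux.res L inf_le_left b)
    rw [hr, hr']
    congr 1
    refine hU _ ((hg x.1).smul_inj ((inf_le_left : (W ⊓ V x.1) ⊓ U ≤ _).trans inf_le_right) ?_)
    have e1 := congrArg (Groth.PicAux.res L (inf_le_left : (W ⊓ V x.1) ⊓ U ≤ W ⊓ V x.1)) hr
    have e2 := congrArg (Groth.PicAux.res L (inf_le_left : (W ⊓ V x.1) ⊓ U ≤ W ⊓ V x.1)) hr'
    simp only [res_res, Groth.PicAux.res_smul] at e1 e2
    have h := congrArg (Groth.PicAux.res L (inf_le_inf_right U inf_le_left : (W ⊓ V x.1) ⊓ U ≤ W ⊓ U)) hab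
    simp only [res_res] at h
    exact e1.symm.trans (h.trans e2)

/-- Bijectivity of restriction passes from functions to invertible modules. -/
theorem res_bijective {X : Scheme.{u}} {U : X.Opens} (hU : CInt.IsSchematicallyDense U)
    (hO : ∀ W : X.Opens, IsAffineOpen W → Function.Bijective (X.presheaf.map (homOfLE (inf_le_left : W ⊓ U ≤ W)).op))
    (L : X.Modules) (hL : PicF.IsInvertible L) (W : X.Opens) :
    Function.Bijective (Groth.PicAux.res L (inf_le_left : W ⊓ U ≤ W)) := by
  refine ⟨res_injective hU L hL W, fun t => ?_⟩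
  choose V g hxV hg using (isInvertible_iff_exists_gen L).mp hL
  have : ∀ x : W, ∃ A : X.Opens, IsAffineOpen A ∧ x.1 ∈ A ∧ A ≤ W ⊓ V x.1 := fun x => by
    obtain ⟨_, ⟨A, hA, rfl⟩, hxA, hAW⟩ :=
      X.isBasis_affineOpens.exists_subset_of_mem_open (show x.1 ∈ ((W ⊓ V x.1 : X.Opens) : Set X) from ⟨x.2, hxV x.1⟩) (W ⊓ V x.1).2
    exact ⟨A, hA, hxA, hAW⟩
  choose A hA hxA hAW using this
  have hAW' : ∀ x, A x ≤ W := fun x => (hAW x).trans inf_le_left
  have hAV : ∀ x, A x ≤ V x.1 := fun x => (hAW x).trans inf_le_right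
  choose r hr using fun x : W => (hg x.1).exists_coeff (inf_le_left.trans (hAV x) : A x ⊓ U ≤ V x.1)
    (Groth.PicAux.res L (inf_le_inf_right U (hAW' x)) t)
  choose R hR using fun x : W => (hO (A x) (hA x)).2 (r x)
  let s : ∀ x : W, Γ(L, A x) := fun x => R x • Groth.PicAux.res L (hAV x) (g x.1)
  have hs : ∀ x, Groth.PicAux.res L (inf_le_left : A x ⊓ U ≤ A x) (s x) =
      Groth.PicAux.res L (inf_le_inf_right U (hAW' x)) t := fun x => by
    simp only [s, Groth.PicAux.res_smul, res_res, hr x]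
    congr 1
    exact hR x
  obtain ⟨y, hy, -⟩ := res_glue A hAW' (fun x hx => Opens.mem_iSup.mpr ⟨⟨x, hx⟩, hxA ⟨x, hx⟩⟩) s
    fun i j => by
      refine res_injective hU L hL _ ?_
      have e1 := congrArg (Groth.PicAux.res L (inf_le_inf_right U inf_le_left : A i ⊓ A j ⊓ U ≤ A i ⊓ U)) (hs i)
      have e2 := congrArg (Groth.PicAux.res L (inf_le_inf_right U inf_le_right : A i ⊓ A j ⊓ U ≤ A j ⊓ U)) (hs j)
      simp only [res_res] at e1 e2 ⊢
      exact e1.trans e2.symm
  refine ⟨y, res_ext (fun x => A x ⊓ U) (fun x => inf_le_inf_right U (hAW' x))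
    (fun p hp => Opens.mem_iSup.mpr ⟨⟨p, hp.1⟩, hxA ⟨p, hp.1⟩, hp.2⟩) fun x => ?_⟩
  rw [← hs x, ← hy x]
  simp only [res_res]

theorem depth_le_stalk {S A : Scheme.{u}} [IsLocallyNoetherian S] [IsLocallyNoetherian A] (f : A ⟶ S) [Flat f] (y : A) :
    LocCoh.depth (S.presheaf.stalk (f y)) (S.presheaf.stalk (f y)) ≤ LocCoh.depth (A.presheaf.stalk y) (A.presheaf.stalk y) := by
  algebraize [(f.stalkMap y).hom]
  haveI : IsLocalHom (algebraMap (S.presheaf.stalk (f y)) (A.presheaf.stalk y)) :=
    inferInstanceAs (IsLocalHom (f.stalkMap y).hom)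
  haveI : Module.Flat (S.presheaf.stalk (f y)) (A.presheaf.stalk y) := Flat.stalkMap f y
  exact Groth.Calg4.le_depth_of_flat

end Helpers

/-- Let S be a locally Noetherian scheme, f : A → S a smooth morphism, L an invertible O_A-module and V
an open subscheme of S; for an open W of S consider the restriction of sections of L from f⁻¹(W) to
f⁻¹(W) ∩ f⁻¹(V), that is the component over W of the natural map f_*L → j_*j^*(f_*L), j : V → S the
inclusion. If V is schematically dense in S, all these restrictions are injective. If V is a big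
open of S, meaning that the local ring of S at every point outside V has depth at least 2, all these
restrictions are bijective. (The published statement is for a semi-stable group scheme A; its proof
uses only the smoothness of A over S and the local freeness of L, which are the hypotheses kept
here.) -/
theorem result {S A : Scheme.{u}} [IsLocallyNoetherian S]
    (f : A ⟶ S) [Smooth f] (L : A.Modules) (hL : PicF.IsInvertible L) (V : S.Opens) :
    (CInt.IsSchematicallyDense V →
      ∀ W : S.Opens, Function.Injective (L.val.map (homOfLE (inf_le_left : f ⁻¹ᵁ W ⊓ f ⁻¹ᵁ V ≤ f ⁻¹ᵁ W)).op)) ∧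
    ((∀ x : S, x ∉ V → 2 ≤ LocCoh.depth (S.presheaf.stalk x) (S.presheaf.stalk x)) →
      ∀ W : S.Opens, Function.Bijective (L.val.map (homOfLE (inf_le_left : f ⁻¹ᵁ W ⊓ f ⁻¹ᵁ V ≤ f ⁻¹ᵁ W)).op)) := by
  haveI : IsLocallyNoetherian A := LocallyOfFiniteType.isLocallyNoetherian f
  have hd1 : CInt.IsSchematicallyDense V → CInt.IsSchematicallyDense (f ⁻¹ᵁ V) := fun hV => by
    rw [Groth.Agent.S5091.result] at hV ⊢
    exact fun y hy => (hV (f y) hy).trans (depth_le_stalk f y)
  refine ⟨fun hV W => ?_, fun hd W => ?_⟩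
  · exact res_injective (hd1 hV) L hL (f ⁻¹ᵁ W)
  · have hd2 : ∀ y : A, y ∉ f ⁻¹ᵁ V → (2 : ℕ∞) ≤ LocCoh.depth (A.presheaf.stalk y) (A.presheaf.stalk y) :=
      fun y hy => (hd (f y) hy).trans (depth_le_stalk f y)
    have hdense : CInt.IsSchematicallyDense (f ⁻¹ᵁ V) :=
      (Groth.Agent.S5091.result A _).mpr fun y hy => le_trans (by norm_num) (hd2 y hy)
    refine res_bijective hdense (fun W' hW' => ?_) L hL (f ⁻¹ᵁ W)
    exact Groth.Misc7.DepthTwo.bijective_restrict (U := f ⁻¹ᵁ V)
      (fun z hz => Groth.RefRank.exists_isWeaklyRegular_pair (hd2 z hz)) hW' rfl _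

end Groth.Agent.S14330
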