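import Groth.Statements.S14334
import Groth.Agent.CohTwo.CI.Cohom
import Groth.Agent.Misc3Stein.Connected
import Groth.Agent.PnCoh.GlobalFun

set_option autoImplicit false
universe u
open CategoryTheory CategoryTheory.Limits AlgebraicGeometry
open Coherent

namespace Groth.Agent.S14334

/-- Let k be a field, r ≤ n, and G_1, …, G_r homogeneous forms of positive degrees in the homogeneous
coordinates of P = P^n_k whose common zero scheme X = V(G_1, …, G_r), with its closed immersion ι :
X → P, has dimension n − r, so that X is a global complete intersection in P. Assume n − r ≥ 1. Then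
X is geometrically connected over k: for every field K and every morphism Spec K → Spec k, the base
change X ×_{Spec k} Spec K is a connected (in particular nonempty) topological space; in particular
X itself is connected. The structure morphism of X is written as ι followed by the structure
morphism of P. -/
theorem result (k : Type u) [Field k] (n r : ℕ) (hr : r ≤ n) (a : Fin r → ℕ) (ha : ∀ j, 1 ≤ a j) (G : ∀ j : Fin r, LefPen.Form n k (a j)) (hdim : topologicalKrullDim ↥(LefPen.ciIdeal G).subscheme = ((n - r : ℕ) : WithBot ℕ∞)) (h1 : 1 ≤ n - r) : GeometricallyConnected ((LefPen.ciIdeal G).subschemeι ≫ CohB1.ProjSpace.toSpec n k) := by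
  have hG := Groth.CohTwo.CI.good_of_dim hr G hdim.le
  let I := LefPen.ciIdeal G
  let ι := I.subschemeι
  haveI : IsProper (ι ≫ CohB1.ProjSpace.toSpec n k) := inferInstance
  have hsurj : Function.Surjective (ι.app ⊤) := by
    obtain ⟨φ⟩ := Groth.PnCoh.nonempty_twist_zero_iso (CohB1.polyGrading n k)
    have h0 := (Groth.CohTwo.CI.main r hr a ha G hG).2 h1 0
    haveI := Groth.PicAux.isIso_pullUnit ι
    intro t
    let ψ := (Scheme.Modules.pullback ι).map φ.hom ≫ Groth.PicAux.pullUnit ι
    haveI : IsIso φ.hom := inferInstance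
    haveI : IsIso ψ := by
      change IsIso ((Scheme.Modules.pullback ι).map φ.hom ≫ Groth.PicAux.pullUnit ι)
      exact @IsIso.comp_isIso _ _ _ _ _ _ _ ((Scheme.Modules.pullback ι).map_isIso φ.hom) (Groth.PicAux.isIso_pullUnit ι)
    obtain ⟨t', ht'⟩ := (ConcreteCategory.bijective_of_isIso (ψ.app (ι ⁻¹ᵁ ⊤))).2 t
    obtain ⟨s, hs⟩ := h0 t'
    dsimp only at hs
    refine ⟨φ.hom.app ⊤ s, ?_⟩
    have e1 := Groth.PicAux.pullSec_map ι φ.hom s
    have e2 : (Groth.PicAux.pullUnit ι).app (ι ⁻¹ᵁ ⊤)
        (Groth.PicAux.pullSec ι (Coh.structureModule (CohB1.ProjSpace n k)) (φ.hom.app ⊤ s)) =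
        ι.app ⊤ (φ.hom.app ⊤ s) :=
      congr(($(Groth.PicAux.unit_pullUnit ι)).app ⊤ (φ.hom.app ⊤ s))
    refine e2.symm.trans ?_
    rw [← ht', ← hs]
    exact congrArg _ e1.symm
  have htop : IsIso ((ι ≫ CohB1.ProjSpace.toSpec n k).appTop) := by
    have hP := Groth.PnCoh.isIso_appTop_toSpec n k
    rw [ConcreteCategory.isIso_iff_bijective]
    refine ⟨?_, ?_⟩
    · obtain ⟨x, hx⟩ := Groth.CohTwo.CI.exists_mem_all ha hr G
      obtain ⟨z, -⟩ := Groth.Calg6.ProperStalk.exists_point I
        ((Groth.CohTwo.CI.mem_support_ciIdeal G x).2 hx)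
      haveI : Nonempty (⊤ : I.subscheme.Opens) := ⟨⟨z, trivial⟩⟩
      haveI : Nontrivial Γ(I.subscheme, ⊤) := inferInstance
      let e := (Scheme.ΓSpecIso (CommRingCat.of k)).commRingCatIsoToRingEquiv
      have hinj := (((ι ≫ CohB1.ProjSpace.toSpec n k).appTop).hom.comp
        e.symm.toRingHom).injective
      intro u v huv
      refine e.injective (hinj ?_)
      change (ι ≫ CohB1.ProjSpace.toSpec n k).appTop.hom (e.symm (e u)) =
        (ι ≫ CohB1.ProjSpace.toSpec n k).appTop.hom (e.symm (e v))
      rw [RingEquiv.symm_apply_apply, RingEquiv.symm_apply_apply]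
      exact huv
    · intro t
      obtain ⟨b, hb⟩ := hsurj t
      obtain ⟨c, hc⟩ := (ConcreteCategory.bijective_of_isIso
        (CohB1.ProjSpace.toSpec n k).appTop).2 b
      refine ⟨c, ?_⟩
      rw [Scheme.Hom.comp_appTop, CommRingCat.comp_apply, hc]
      exact hb
  refine Misc3Stein.geometricallyConnected_of_isIso_app _ fun U _ => ?_
  by_cases hU : (U : Set (Spec (CommRingCat.of k))).Nonempty
  · obtain ⟨u, hu⟩ := hU
    have : U = ⊤ := TopologicalSpace.Opens.ext (Set.eq_univ_of_forall fun v =>
      (Subsingleton.elim (α := PrimeSpectrum k) u v) ▸ hu)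
    subst this
    exact htop
  · have : U = ⊥ := TopologicalSpace.Opens.ext (Set.not_nonempty_iff_eq_empty.1 hU)
    subst this
    rw [ConcreteCategory.isIso_iff_bijective]
    haveI h1 : Subsingleton Γ(Spec (CommRingCat.of k), ⊥) :=
      CommRingCat.subsingleton_of_isTerminal
        ((Spec (CommRingCat.of k)).sheaf.isTerminalOfEqEmpty rfl)
    haveI h2 : Subsingleton Γ(I.subscheme, (ι ≫ CohB1.ProjSpace.toSpec n k) ⁻¹ᵁ ⊥) :=
      CommRingCat.subsingleton_of_isTerminal (I.subscheme.sheaf.isTerminalOfEqEmpty rfl)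
    exact ⟨fun _ _ _ => Subsingleton.elim _ _, fun t => ⟨0, Subsingleton.elim _ _⟩⟩

end Groth.Agent.S14334
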