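import Groth.Statements.S14335
import Groth.Agent.CohTwo.CI.Regular

set_option autoImplicit false
universe u
open CategoryTheory CategoryTheory.Limits AlgebraicGeometry
open Coherent

namespace Groth.Agent.S14335

/-- Let k be a field, r ≤ n, and G_1, …, G_r homogeneous forms of positive degrees in the homogeneous
coordinates of P = P^n_k whose common zero scheme X = V(G_1, …, G_r), with its closed immersion ι :
X → P, has dimension n − r, so that X is a global complete intersection in P. Then X is
equidimensional: every irreducible component of X, with the subspace topology, has dimension exactly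
n − r. -/
theorem result (k : Type u) [Field k] (n r : ℕ) (hr : r ≤ n) (a : Fin r → ℕ) (ha : ∀ j, 1 ≤ a j) (G : ∀ j : Fin r, LefPen.Form n k (a j)) (hdim : topologicalKrullDim ↥(LefPen.ciIdeal G).subscheme = ((n - r : ℕ) : WithBot ℕ∞)) (Z : Set ↥(LefPen.ciIdeal G).subscheme) (hZ : Z ∈ irreducibleComponents ↥(LefPen.ciIdeal G).subscheme) : topologicalKrullDim ↥Z = ((n - r : ℕ) : WithBot ℕ∞) := by
  have hG := Groth.CohTwo.CI.good_of_dim hr G hdim.le
  let X := (LefPen.ciIdeal G).subscheme
  have hcl : IsClosed Z := isClosed_of_mem_irreducibleComponents Z hZ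
  have hirr : IsIrreducible Z := hZ.1
  obtain ⟨z, hz⟩ := QuasiSober.sober hirr hcl
  have hZeq : Z = closure {z} := hz.def.symm
  rw [hZeq, Groth.Variety2.Dim.dim_closure_singleton, Groth.CohTwo.CI.height_subscheme]
  have hmem : ∀ w : X, ∀ j, (G j).1 ∈ ((LefPen.ciIdeal G).subschemeι w :
      ProjectiveSpectrum (CohB1.polyGrading n k)).asHomogeneousIdeal := fun w =>
    (Groth.CohTwo.CI.mem_support_ciIdeal G _).1
      ((Scheme.IdealSheafData.range_subschemeι _).le ⟨w, rfl⟩)
  have h1 := hG _ (hmem z)
  have h2 := Groth.CohTwo.CI.le_ht_of_maximal ha G (hmem z) fun w hw hwG => by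
    obtain ⟨w', hw'⟩ := Groth.Calg6.ProperStalk.exists_point _
      ((Groth.CohTwo.CI.mem_support_ciIdeal G w).2 hwG)
    have hs : w' ⤳ z := (LefPen.ciIdeal G).subschemeι.isClosedEmbedding.isEmbedding.specializes_iff.1
      (by rw [hw']; exact hw)
    have hle : Z ⊆ closure {w'} := by rw [hZeq]; exact hs.closure_subset
    have heq : Z = closure {w'} :=
      Set.Subset.antisymm hle (hZ.2 isIrreducible_singleton.closure hle)
    have hs' : z ⤳ w' := specializes_iff_mem_closure.2 (by
      rw [← hZeq, heq]; exact subset_closure rfl)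
    exact hw'.symm.trans (congrArg _ (hs.antisymm hs').eq)
  obtain ⟨m, hm⟩ := Groth.Variety2.PSpace.exists_ht_eq ((LefPen.ciIdeal G).subschemeι z :
    ProjectiveSpectrum (CohB1.polyGrading n k))
  rw [hm] at h1 h2 ⊢
  have h1 : m + r ≤ n := by exact_mod_cast h1
  have h2 : n ≤ m + r := by exact_mod_cast h2
  rw [show m = n - r by omega]
  rfl

end Groth.Agent.S14335
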