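import Groth.Statements.S14339
import Groth.Agent.CliffIndex.PlanePencil
import Groth.Agent.PlaneCurve.Curve
import Groth.Agent.CurveBridge.BarImm
import Groth.Agent.CurveBridge.DoubleCover
-- import your own Groth.Agent.* helpers here

set_option autoImplicit false
set_option backward.isDefEq.respectTransparency.types false
universe u
open CategoryTheory CategoryTheory.Limits AlgebraicGeometry
open Curves

namespace Groth.Agent.S14339

open Groth.CurveBridge Groth.Chow
open scoped Groth.CurveBridge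

/-- Let k be a field, d ≥ 4, and f a nonzero homogeneous form of degree d in the homogeneous coordinates
of P^2_k whose plane curve X = V_+(f) is smooth over k. Then X is not hyperelliptic: there is no
morphism φ : X → P^1_k over k which is finite and flat of constant rank 2 (a double cover of the
projective line). -/
theorem result (k : Type u) [Field k] (d : ℕ) (hd : 4 ≤ d) (f : LefPen.Form 2 k d) (hf : f ≠ 0) [Smooth ((LefPen.hypIdeal f).subschemeι ≫ CohB1.ProjSpace.toSpec 2 k)] : ¬ ∃ φ : (LefPen.hypIdeal f).subscheme ⟶ CohB1.ProjSpace 1 k, φ ≫ CohB1.ProjSpace.toSpec 1 k = (LefPen.hypIdeal f).subschemeι ≫ CohB1.ProjSpace.toSpec 2 k ∧ IsFinite φ ∧ Flat φ ∧ ∀ y : ↥(CohB1.ProjSpace 1 k), Scheme.Hom.finrank φ y = 2 := by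
  rintro ⟨φ, hover, hfin, hflat, hrk⟩
  haveI := hfin
  haveI := hflat
  letI inst : ((LefPen.hypIdeal f).subscheme).Over (Spec (CommRingCat.of k)) :=
    ⟨(LefPen.hypIdeal f).subschemeι ≫ CohB1.ProjSpace.toSpec 2 k⟩
  have hinst : (LefPen.hypIdeal f).subscheme ↘ (Spec (CommRingCat.of k)) =
      (LefPen.hypIdeal f).subschemeι ≫ CohB1.ProjSpace.toSpec 2 k := rfl
  haveI : Smooth ((LefPen.hypIdeal f).subscheme ↘ Spec (CommRingCat.of k)) :=
    ‹Smooth ((LefPen.hypIdeal f).subschemeι ≫ CohB1.ProjSpace.toSpec 2 k)›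
  haveI := Groth.PlaneCurve.isProper_curve f hinst
  haveI := Groth.PlaneCurve.connected f hinst (by omega) hf
  haveI := Groth.CurveBridge.isIntegral_of_smooth k (LefPen.hypIdeal f).subscheme
  have hdim := Groth.PlaneCurve.dim_eq_one f hinst (by omega) hf
  have hX0 := Groth.PlaneCurve.h0_structure f hinst (by omega) hf
  have hgen : Curv2.genus k (LefPen.hypIdeal f).subscheme = (d - 1) * (d - 2) / 2 := Groth.PlaneCurve.h1_structure f hinst hf
  have h := Groth.CurveBridge.isRegCurve_of_smooth k (LefPen.hypIdeal f).subscheme hdim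
  have hK := Groth.CurveBridge.isFunctionField_field k (LefPen.hypIdeal f).subscheme hdim hX0
  have hF := Groth.CurveBridge.isFF k (LefPen.hypIdeal f).subscheme hdim
  -- the pencil
  obtain ⟨-, hres⟩ := DoubleCover.residueDegree_of_rank h φ hrk
  obtain ⟨t, L, ψ, D, μ, hL, -, hψ, hμ, hD, htr, ht2, -, -, -⟩ :=
    DoubleCover.exists_pencil h φ hover (by rw [hres]; norm_num)
  rw [hres] at ht2
  obtain ⟨n0, nd, -⟩ := numerics_of_divEmb h hK hL hψ
  have hLd : Curv2.deg k (LefPen.hypIdeal f).subscheme L 1 = 2 := by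
    rw [nd, hD, Groth.FunFld1.deg_add, hF.deg_div, add_zero, hF.deg_poleDiv_eq htr, ht2]; rfl
  have hL0 : 2 ≤ Module.finrank k (Coh.HH (LefPen.hypIdeal f).subscheme L 0) := by
    rw [n0, hD, hF.ell_add_div _ hμ]
    haveI := hF.finiteDimensional_L (Groth.FunFld1.zeroDiv k t⁻¹)
    let g : Polynomial.degreeLT k 2 →ₗ[k] (LefPen.hypIdeal f).subscheme.functionField :=
      (Polynomial.aeval t).toLinearMap.comp (Polynomial.degreeLT k 2).subtype
    have hinj : Function.Injective g := fun a b hab =>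
      Subtype.ext (transcendental_iff_injective.mp htr hab)
    have hle : LinearMap.range g ≤ FunFld.L (Groth.FunFld1.zeroDiv k t⁻¹) := by
      rintro _ ⟨⟨q, hq⟩, rfl⟩
      have h1 := (Groth.FunFld1.mem_L_adjoin_iff hF htr (DoubleModel.aeval_mem q) 1).mpr ⟨q, ?_, rfl⟩
      · rwa [one_nsmul] at h1
      · rw [Polynomial.mem_degreeLT] at hq
        rcases eq_or_ne q 0 with rfl | hq0
        · simp
        · rw [Polynomial.degree_eq_natDegree hq0, Nat.cast_lt] at hq; omega
    have h2 := Submodule.finrank_mono hle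
    rwa [LinearMap.finrank_range_of_inj hinj, (Polynomial.degreeLTEquiv k _).finrank_eq,
      Module.finrank_fin_fun] at h2
  -- the hyperplane class
  let H := Groth.PlaneCurve.hyperplane f
  have hH : PicF.IsInvertible H :=
    Groth.PicAux.isInvertible_pullback _ (ToPn.twist_isInvertible (R := k) (n := 2))
  have hH0 : Module.finrank k (Coh.HH (LefPen.hypIdeal f).subscheme H 0) = 3 :=
    Groth.PlaneCurve.h0_hyperplane f hinst (by omega) hf
  have hH1 : Module.finrank k (Coh.HH (LefPen.hypIdeal f).subscheme H 1) = (d - 2).choose (d - 4) :=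
    Groth.PlaneCurve.h1_hyperplane f hinst (by omega) hf
  have hHd : Curv2.deg k (LefPen.hypIdeal f).subscheme H 1 = d := by
    have hr := riemann_roch h hK hH
    rw [hH0, hH1, hgen] at hr
    obtain ⟨m, rfl⟩ := Nat.exists_eq_add_of_le hd
    rw [show 4 + m - 2 = m + 2 by omega, show 4 + m - 4 = m by omega,
      show 4 + m - 1 = m + 3 by omega,
      Nat.choose_symm_of_eq_add (show m + 2 = m + 2 by rfl), Nat.choose_two_right,
      show m + 2 - 1 = m + 1 by omega] at hr
    rw [show (m + 3) * (m + 2) / 2 = (m + 2) * (m + 1) / 2 + (m + 2) by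
      rw [show (m + 3) * (m + 2) = (m + 2) * (m + 1) + (m + 2) * 2 by ring,
        Nat.add_mul_div_right _ _ two_pos]] at hr
    push_cast at hr ⊢
    omega
  -- over the closure
  haveI := isIntegral_bar k (LefPen.hypIdeal f).subscheme hX0
  have hb := isRegCurve_bar k (LefPen.hypIdeal f).subscheme hdim
  have hKb := Groth.CurveBridge.isFunctionField (k := AlgebraicClosure k) (X := Xb k (LefPen.hypIdeal f).subscheme) hb.dim
  obtain ⟨Hb, sb, rb, hHb, hUb, ⟨eb⟩, -, hr', hci⟩ :=
    BarImm.exists_bar_map k (LefPen.hypIdeal f).subscheme 2 (LefPen.hypIdeal f).subschemeι rfl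
  haveI := hci.mpr inferInstance
  obtain ⟨φH, A, hφH, a0, ad, -⟩ := exists_divEmb (k := AlgebraicClosure k) hb hKb hHb
  haveI := (Groth.EulerDeg.isCoh_of_isInvertible hH).1
  haveI := (Groth.EulerDeg.isCoh_of_isInvertible hL).1
  let eH : Hb ≅ (Scheme.Modules.pullback (proj k (LefPen.hypIdeal f).subscheme)).obj H :=
    eb.symm ≪≫ ((Scheme.Modules.pullbackComp (proj k (LefPen.hypIdeal f).subscheme) (LefPen.hypIdeal f).subschemeι).app _).symm
  rw [Groth.EulerDeg.finrank_congr eH 0, finrank_bc k (LefPen.hypIdeal f).subscheme H 0, hH0] at a0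
  rw [Groth.EulerDeg.deg_congr (AlgebraicClosure k) eH 1, deg_bc k (LefPen.hypIdeal f).subscheme H 1, hHd] at ad
  have hLb : PicF.IsInvertible ((Scheme.Modules.pullback (proj k (LefPen.hypIdeal f).subscheme)).obj L) :=
    Groth.PicAux.isInvertible_pullback _ hL
  obtain ⟨φL, B, -, b0, bd, -⟩ := exists_divEmb (k := AlgebraicClosure k) hb hKb hLb
  rw [finrank_bc k (LefPen.hypIdeal f).subscheme L 0] at b0
  rw [deg_bc k (LefPen.hypIdeal f).subscheme L 1, hLd] at bd
  have hgb : FunFld.genus (AlgebraicClosure k) (Xb k (LefPen.hypIdeal f).subscheme).functionField = (d - 1) * (d - 2) / 2 := by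
    rw [← genus_eq hb hKb, genus_bc, hgen]
  obtain ⟨m, rfl⟩ := Nat.exists_eq_add_of_le hd
  have hbig : m + 3 ≤ (4 + m - 1) * (4 + m - 2) / 2 := by
    rw [show 4 + m - 1 = m + 3 by omega, show 4 + m - 2 = m + 2 by omega,
      Nat.le_div_iff_mul_le two_pos]
    exact Nat.mul_le_mul_left _ (by omega)
  have key := Groth.CliffIndex.genus_le_of_sep_of_pencil hKb (by omega) (H := A) (E := B) a0.symm
    (by omega) (fun P Q => sep_of_isClosedImmersion hb sb hKb hφH hHb hr' hUb P Q) bd.symm (b0 ▸ hL0)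
  omega

end Groth.Agent.S14339
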