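import Groth.Statements.S1434

set_option autoImplicit false
universe u
open FlatMor

namespace Groth.Agent.S1434

open AlgebraicGeometry CategoryTheory Limits in
/-- Part (1), for a closed subscheme: let Z ⊂ X be the closed subscheme cut out by an ideal sheaf I and
Z' the one cut out by I², its first order infinitesimal neighbourhood. Given a first order
thickening T → T', a morphism a : T → Z and a morphism b : T' → X compatible with them, there is a
unique morphism T' → Z' through which b factors (compatibility with a is then automatic). -/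
theorem result {X T T' : Scheme.{u}} (I : X.IdealSheafData) (t : T ⟶ T') (ht : MoreMor.IsFirstOrderThickening t)
    (a : T ⟶ I.subscheme) (b : T' ⟶ X) (w : a ≫ I.subschemeι = t ≫ b) :
    ∃! a' : T' ⟶ (I ^ 2).subscheme, a' ≫ (I ^ 2).subschemeι = b := by
  obtain ⟨⟨htc, -⟩, ht2⟩ := ht
  have hle : (I ^ 2).subschemeι.ker ≤ b.ker := by
    rw [Scheme.IdealSheafData.ker_subschemeι]
    refine Scheme.IdealSheafData.le_ofIdeals_iff.mpr fun U => ?_
    rw [Scheme.IdealSheafData.ideal_pow, Pi.pow_apply, pow_two, Ideal.mul_le]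
    intro x hx y hy
    -- sections of `I` pull back to sections of the kernel of `t`
    have hI : ∀ z ∈ I.ideal U, t.app (b ⁻¹ᵁ U.1) (b.app U.1 z) = 0 := by
      intro z hz
      have h0 : I.subschemeι.app U.1 z = 0 := by
        rw [← RingHom.mem_ker, ← Scheme.Hom.ker_apply, Scheme.IdealSheafData.ker_subschemeι]
        exact hz
      have h1 := congr($(Scheme.Hom.congr_app w U.1) z)
      simp only [Scheme.Hom.comp_app] at h1
      exact ((ConcreteCategory.bijective_of_isIso
        (T.presheaf.map (eqToHom (show (a ≫ I.subschemeι) ⁻¹ᵁ U.1 = (t ≫ b) ⁻¹ᵁ U.1 by rw [w])).op)).1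
        ((h1.symm.trans ((congrArg (a.app _).hom h0).trans (map_zero _))).trans (map_zero _).symm))
    rw [RingHom.mem_ker, map_mul]
    apply T'.IsSheaf.section_ext
    intro p hp
    obtain ⟨_, ⟨W, hW, rfl⟩, hpW, hWle⟩ := T'.isBasis_affineOpens.exists_subset_of_mem_open hp (b ⁻¹ᵁ U.1).2
    refine ⟨W, hWle, hpW, ?_⟩
    have hk : ∀ z ∈ I.ideal U,
        T'.presheaf.map (homOfLE hWle).op (b.app U.1 z) ∈ t.ker.ideal ⟨W, hW⟩ := by
      intro z hz
      rw [Scheme.Hom.ker_apply, RingHom.mem_ker]
      exact (congr($(t.naturality (homOfLE hWle).op) (b.app U.1 z))).trans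
        ((congrArg (T.presheaf.map _).hom (hI z hz)).trans (map_zero _))
    have hbot : t.ker.ideal ⟨W, hW⟩ * t.ker.ideal ⟨W, hW⟩ = ⊥ := by
      rw [← Pi.mul_apply (f := t.ker.ideal), ← Scheme.IdealSheafData.ideal_mul, ht2]
      simp
    have h := Ideal.mul_mem_mul (hk x hx) (hk y hy)
    rw [hbot, Ideal.mem_bot, ← map_mul] at h
    rw [map_zero]
    exact h
  refine ⟨IsClosedImmersion.lift _ b hle, IsClosedImmersion.lift_fac _ b hle, fun a' ha' => ?_⟩
  rw [← cancel_mono (I ^ 2).subschemeι, ha', IsClosedImmersion.lift_fac]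

end Groth.Agent.S1434
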