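import Groth.Statements.S14341
import Groth.Agent.CurveBridge.RatPoints

set_option autoImplicit false
universe u
open CategoryTheory CategoryTheory.Limits AlgebraicGeometry
open Curves Groth.CurveBridge

namespace Groth.Agent.S14341

/-- Let k be a field and X a smooth proper geometrically connected curve over k (of dimension one) of
genus dim_k H^1(X, O_X) = 1, with a k-rational point O (a closed point with residue field k); for a
k-rational point P write I_P for the ideal sheaf of the reduced point P, an invertible ideal with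
inverse O_X(P). Then for every invertible O_X-module L of degree 0 there is exactly one k-rational
point P with L ⊗ I_P ≅ I_O, that is L ≅ O_X(P − O): the map P ↦ O_X(P − O) is a bijection from X(k)
onto the isomorphism classes of invertible modules of degree zero. -/
theorem result (k : Type u) [Field k] (X : Scheme.{u}) [X.Over (Spec (CommRingCat.of k))] [IsProper (X ↘ Spec (CommRingCat.of k))] [Smooth (X ↘ Spec (CommRingCat.of k))] [GeometricallyConnected (X ↘ Spec (CommRingCat.of k))] (hX : topologicalKrullDim X = 1) (hg : Curv2.genus k X = 1) (O : X) (hOc : IsClosed ({O} : Set X)) (hO : Function.Bijective (Curv2.resMap k X O)) (L : X.Modules) (hL : PicF.IsInvertible L) (hdeg : Curv2.deg k X L 1 = 0) : ∃! P : {x : X // IsClosed ({x} : Set X) ∧ Function.Bijective (Curv2.resMap k X x)}, Nonempty (CohB1.tensorMod L (ClSub.idealMod (Scheme.IdealSheafData.vanishingIdeal ⟨{P.1}, P.2.1⟩)) ≅ ClSub.idealMod (Scheme.IdealSheafData.vanishingIdeal ⟨{O}, hOc⟩)) := by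
  haveI := connectedSpace_of_geometrically X k
  haveI := isIntegral_of_smooth k X
  have h : IsRegCurve X := isRegCurve_of_smooth k X hX
  have hK := isFunctionField_field k X hX (h0_of_geometrically k X hX)
  have hF := isFF k X hX
  have hgF : FunFld.genus k X.functionField = 1 := (genus_eq h hK).symm.trans hg
  obtain ⟨φ, D, hφ, -, hdD, -⟩ := exists_divEmb h hK hL
  have hD0 : D.deg = 0 := by rw [← hdD, hdeg]
  obtain ⟨hIO, χ₀, hχ₀⟩ := exists_divEmb_pointIdeal (k := k) h ⟨O, hOc⟩
  have hP0 := (bijective_resMap_iff h ⟨O, hOc⟩).mp hO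
  set P₀ := placeAt (k := k) h ⟨O, hOc⟩
  have key : ∀ x : Pt X, Nonempty (CohB1.tensorMod L (ClSub.idealMod
      (Scheme.IdealSheafData.vanishingIdeal ⟨{x.1}, x.2⟩)) ≅
        ClSub.idealMod (Scheme.IdealSheafData.vanishingIdeal ⟨{O}, hOc⟩)) ↔
      ∃ μ : X.functionField, μ ≠ 0 ∧
        Finsupp.single (placeAt (k := k) h x) 1 = D + Finsupp.single P₀ 1 + FunFld.div k μ := by
    intro x
    obtain ⟨hLx, χ, hχ⟩ := exists_divEmb_twist_point h hK hL hφ x
    constructor
    · rintro ⟨e⟩
      obtain ⟨μ, hμ, he⟩ := linEquiv_of_iso h hK hLx hIO hχ hχ₀ e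
      refine ⟨μ, hμ, ?_⟩
      calc Finsupp.single (placeAt (k := k) h x) 1
          = (D + Finsupp.single P₀ 1 + FunFld.div k μ) -
              (D - Finsupp.single (placeAt (k := k) h x) 1 + FunFld.div k μ - -Finsupp.single P₀ 1) := by abel
        _ = _ := by rw [← he, sub_self, sub_zero]
    · rintro ⟨μ, hμ, he⟩
      exact nonempty_iso_of_linEquiv h hK hLx hIO hχ hχ₀ hμ (by rw [he]; abel)
  have hE : (D + Finsupp.single P₀ (1 : ℤ)).deg = 1 := by
    rw [Groth.FunFld1.deg_add, hD0, Groth.FunFld1.deg_single, hP0]; rfl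
  have hell := Groth.FunFld1.ell_eq_of_deg_ge hK (D := D + Finsupp.single P₀ (1 : ℤ))
    (by rw [hE, hgF]; norm_num)
  rw [hE, hgF] at hell
  obtain ⟨μ, hμ, hpos⟩ := hF.exists_effective_of_ne_bot (D := D + Finsupp.single P₀ (1 : ℤ))
    fun hb => by
      unfold FunFld.ell at hell
      rw [hb, finrank_bot] at hell
      norm_num at hell
  obtain ⟨Q, hQ1, hQ⟩ := Groth.FunFld1.effective_deg_one hF hpos
    (by rw [Groth.FunFld1.deg_add, hF.deg_div, add_zero, hE])
  obtain ⟨x, rfl⟩ := placeAt_surjective (k := k) h Q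
  refine ⟨⟨x.1, x.2, (bijective_resMap_iff h x).mpr hQ1⟩, (key x).mpr ⟨μ, hμ, hQ.symm⟩, ?_⟩
  rintro ⟨y, hy, hyb⟩ hiso
  obtain ⟨ν, hν, he⟩ := (key ⟨y, hy⟩).mp hiso
  have hy1 := (bijective_resMap_iff h ⟨y, hy⟩).mp hyb
  have := Groth.FunFld1.eq_of_sub_eq_div hK (by rw [hgF]; norm_num) hy1 hQ1
    (mul_ne_zero hν (inv_ne_zero hμ)) (by
      rw [he, ← hQ, hF.div_mul hν (inv_ne_zero hμ), hF.div_inv]; abel)
  exact Subtype.ext (congrArg Subtype.val (placeAt_injective h this) :)

end Groth.Agent.S14341
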