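import Groth.Statements.S14345
import Groth.Agent.Misc7.DetVanish

set_option autoImplicit false
universe u v
open TensorProduct
open QuotLF

namespace Groth.Agent.S14345

/-- Let R be a commutative ring, M a finitely generated R-module and k ≥ 0. If for an R-algebra A the
module A ⊗_R M admits a quotient that is finite projective of constant rank k (an A-valued point of
the Quot scheme of rank-k locally free quotients of M), then every Fitting ideal Fit_j(M) with j < k
extends to the zero ideal of A; that is, the structure map of the Quot scheme of rank-k locally free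
quotients factors through the closed subscheme cut out by Fit_{k-1}(M). -/
theorem result (R : Type u) [CommRing R]
    (M : Type v) [AddCommGroup M] [Module R M] [Module.Finite R M] (k : ℕ)
    (A : Type u) [CommRing A] [Algebra R A] (N : Module.Grassmannian A (A ⊗[R] M) k)
    (j : ℕ) (hj : j < k) :
    (Fitt.ideal R M j).map (algebraMap R A) = ⊥ := by
  classical
  rw [eq_bot_iff, Fitt.ideal, Ideal.map_span, Ideal.span_le]
  rintro _ ⟨_, ⟨n, x, a, hx, ha, rfl⟩, rfl⟩
  change algebraMap R A a.det = 0
  rw [RingHom.map_det]
  let y : Fin n → (A ⊗[R] M) ⧸ N.toSubmodule := fun i => N.toSubmodule.mkQ (1 ⊗ₜ[R] x i)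
  let π : (Fin n → A) →ₗ[A] (A ⊗[R] M) ⧸ N.toSubmodule := Fintype.linearCombination A y
  have hπ : Function.Surjective π := by
    rw [← LinearMap.range_eq_top, Fintype.range_linearCombination]
    have : Submodule.span A (Set.range fun i => (1 : A) ⊗ₜ[R] x i) = ⊤ := by
      rw [eq_top_iff]
      intro z _
      induction z using TensorProduct.induction_on with
      | zero => exact zero_mem _
      | tmul c m =>
        have hm : m ∈ Submodule.span R (Set.range x) := by rw [hx]; trivial
        obtain ⟨f, rfl⟩ := (Submodule.mem_span_range_iff_exists_fun R).1 hm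
        rw [TensorProduct.tmul_sum]
        refine sum_mem fun i _ => ?_
        have : c ⊗ₜ[R] (f i • x i) = (f i • c) • ((1 : A) ⊗ₜ[R] x i) := by
          rw [TensorProduct.smul_tmul', smul_eq_mul, mul_one, TensorProduct.smul_tmul]
        rw [this]
        exact Submodule.smul_mem _ _ (Submodule.subset_span ⟨i, rfl⟩)
      | add z w hz hw => exact add_mem (hz trivial) (hw trivial)
    have hr : Set.range y = N.toSubmodule.mkQ '' Set.range (fun i => (1 : A) ⊗ₜ[R] x i) := by
      rw [← Set.range_comp]; rfl
    rw [hr, ← Submodule.map_span, this, Submodule.map_top, Submodule.range_mkQ]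
  refine Groth.Misc7.DetVanish.det_eq_zero_of_rows k N.rankAtStalk_eq π hπ _
    (Finset.univ.filter fun i : Fin n => (i : ℕ) < n - j) (fun i hi => ?_) ?_
  · rw [Fintype.linearCombination_apply]
    calc (∑ l, algebraMap R A (a i l) • y l)
        = N.toSubmodule.mkQ ((1 : A) ⊗ₜ[R] ∑ l, a i l • x l) := by
          rw [TensorProduct.tmul_sum, map_sum]
          refine Finset.sum_congr rfl fun l _ => ?_
          rw [TensorProduct.tmul_smul, ← algebraMap_smul A (a i l), map_smul]
      _ = 0 := by rw [ha i (Finset.mem_filter.1 hi).2, TensorProduct.tmul_zero, map_zero]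
  · have : (Finset.univ.filter fun i : Fin n => (i : ℕ) < n - j).card = n - j := by
      rw [Fin.card_filter_val_lt]; omega
    rw [this]
    omega

end Groth.Agent.S14345
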