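import Groth.Statements.S14347
import Groth.Agent.Misc3Fitt.Basic
import Mathlib

set_option autoImplicit false
universe u
open QuotLF

namespace Groth.Agent.S14347

open Groth.Misc3Fitt

theorem minors_transpose {R : Type u} [CommRing R] {r c : ℕ} (z : Fin c → Fin r → R) (s : ℕ) :
    minors (Submodule.span R (Set.range z)) s =
      minors (Submodule.span R (Set.range fun i => fun j => z j i)) s := by
  rw [minors_span_eq, minors_span_eq]
  refine le_antisymm (Ideal.span_le.2 ?_) (Ideal.span_le.2 ?_)
  · rintro _ ⟨w, e, hw, rfl⟩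
    choose f hf using hw
    obtain rfl : (fun b => z (f b)) = w := funext hf
    refine Ideal.subset_span ⟨fun b => fun j => z j (e b), f, fun b => ⟨e b, rfl⟩, ?_⟩
    simp only [minor]
    exact (Matrix.det_transpose (Matrix.of fun b a => z (f b) (e a))).symm
  · rintro _ ⟨w, e, hw, rfl⟩
    choose f hf using hw
    obtain rfl : (fun b => fun j => z j (f b)) = w := funext hf
    refine Ideal.subset_span ⟨fun b => z (e b), f, fun b => ⟨e b, rfl⟩, ?_⟩
    simp only [minor]
    exact (Matrix.det_transpose (Matrix.of fun b a => z (e a) (f b))).symm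

theorem minors_span_eq_bot {R : Type u} [CommRing R] {r c : ℕ} (z : Fin c → Fin r → R) (s : ℕ)
    (h : c < s) : minors (Submodule.span R (Set.range z)) s = ⊥ := by
  rw [minors_span_eq, eq_bot_iff]
  refine Ideal.span_le.2 ?_
  rintro _ ⟨w, e, hw, rfl⟩
  choose f hf using hw
  obtain ⟨a, b, hne, hab⟩ := Fintype.exists_ne_map_eq_of_card_lt f (by simpa using h)
  rw [SetLike.mem_coe, Ideal.mem_bot, minor]
  refine Matrix.det_zero_of_row_eq hne (funext fun k => ?_)
  simp [← hf a, ← hf b, hab]


/-- Let R be a commutative ring and σ : R^m → R^n an injective linear map with cokernel M, so that M has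
a length-one resolution by finite free modules and rank δ = n − m; let K be the cokernel of the dual
map (R^n)^∨ → (R^m)^∨, which is the module Ext¹_R(M, R). Then the Fitting ideals satisfy Fit_{δ +
j}(M) = Fit_j(K) for all j ≥ 0, and Fit_i(M) = 0 for i < δ (the degeneracy loci of M and of K agree
after the shift by δ). -/
theorem result (R : Type u) [CommRing R] (m n : ℕ)
    (σ : (Fin m → R) →ₗ[R] (Fin n → R)) (hσ : Function.Injective σ) :
    (∀ j : ℕ, Fitt.ideal R ((Fin n → R) ⧸ LinearMap.range σ) (n - m + j) =
        Fitt.ideal R (Module.Dual R (Fin m → R) ⧸ LinearMap.range σ.dualMap) j) ∧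
      ∀ i : ℕ, i < n - m → Fitt.ideal R ((Fin n → R) ⧸ LinearMap.range σ) i = ⊥ := by
  rcases subsingleton_or_nontrivial R with hR | hR
  · exact ⟨fun j => Subsingleton.elim _ _, fun i _ => Subsingleton.elim _ _⟩
  have hmn : m ≤ n := le_of_fin_injective R σ hσ
  let z : Fin m → Fin n → R := fun a => σ (Pi.single a 1)
  let gM : Fin n → (Fin n → R) ⧸ LinearMap.range σ := fun i => Submodule.Quotient.mk (Pi.single i 1)
  have hz : Fintype.linearCombination R z = σ :=
    LinearMap.pi_ext' fun a => LinearMap.ext_ring (by simp [z])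
  have hgM : Fintype.linearCombination R gM = (LinearMap.range σ).mkQ :=
    LinearMap.pi_ext' fun i => LinearMap.ext_ring (by simp [gM])
  have hspanM : Submodule.span R (Set.range gM) = ⊤ := by
    rw [← Fintype.range_linearCombination, hgM, Submodule.range_mkQ]
  let gE : Fin m → Module.Dual R (Fin m → R) ⧸ LinearMap.range σ.dualMap :=
    fun a => Submodule.Quotient.mk (LinearMap.proj a)
  let p : (Fin m → R) →ₗ[R] Module.Dual R (Fin m → R) :=
    Fintype.linearCombination R fun j => LinearMap.proj j
  have hp : ∀ v w, p v w = ∑ j, v j * w j := fun v w => by simp [p, Fintype.linearCombination_apply]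
  have hgE : Fintype.linearCombination R gE = (LinearMap.range σ.dualMap).mkQ ∘ₗ p :=
    LinearMap.pi_ext' fun j => LinearMap.ext_ring (by simp [gE, p])
  have hps : Function.Surjective p := fun x => ⟨fun j => x (Pi.single j 1),
    LinearMap.pi_ext' fun j => LinearMap.ext_ring (by simp [hp, Pi.single_apply])⟩
  have hspanE : Submodule.span R (Set.range gE) = ⊤ := by
    rw [← Fintype.range_linearCombination, hgE, LinearMap.range_eq_top]
    exact (Submodule.mkQ_surjective _).comp hps
  have hrelM : rel (R := R) gM = Submodule.span R (Set.range z) := by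
    rw [rel, hgM, ← Fintype.range_linearCombination, hz, Submodule.ker_mkQ]
  have hrelE : rel (R := R) gE = Submodule.span R (Set.range fun i => fun j => z j i) := by
    rw [← Fintype.range_linearCombination]
    ext v
    rw [rel, hgE, LinearMap.mem_ker, LinearMap.comp_apply, Submodule.mkQ_apply,
      Submodule.Quotient.mk_eq_zero, LinearMap.mem_range, LinearMap.mem_range]
    constructor
    · rintro ⟨ψ, hψ⟩
      refine ⟨fun i => ψ (Pi.single i 1), funext fun j => ?_⟩
      have h1 := LinearMap.congr_fun hψ (Pi.single j 1)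
      rw [LinearMap.dualMap_apply, hp] at h1
      rw [show v j = ψ (z j) by simpa [z, Pi.single_apply] using h1.symm]
      conv_rhs => rw [pi_eq_sum_univ' (z j), map_sum]
      simp [Fintype.linearCombination_apply, Finset.sum_apply, mul_comm]
    · rintro ⟨w, rfl⟩
      refine ⟨Fintype.linearCombination R w, LinearMap.pi_ext' fun j => LinearMap.ext_ring ?_⟩
      simp [z, hp, Fintype.linearCombination_apply, Finset.sum_apply, Pi.single_apply, mul_comm]
  refine ⟨fun j => ?_, fun i hi => ?_⟩
  · rw [ideal_eq_fitt gM hspanM, ideal_eq_fitt gE hspanE, fitt, fitt, hrelM, hrelE,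
      show n - (n - m + j) = m - j by omega]
    exact minors_transpose z _
  · rw [ideal_eq_fitt gM hspanM, fitt, hrelM]
    exact minors_span_eq_bot z _ (by omega)

end Groth.Agent.S14347
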