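import Groth.Statements.S14351
import Mathlib

set_option autoImplicit false
universe u
open CAlg

namespace Groth.Agent.S14351

/-- For ring maps A → B → C with C faithfully flat over B and C faithfully flat over A, the ring B is
faithfully flat over A. -/
theorem result (A B C : Type u) [CommRing A] [CommRing B]
    [CommRing C] [Algebra A B] [Algebra B C] [Algebra A C] [IsScalarTower A B C]
    [Module.FaithfullyFlat B C] [Module.FaithfullyFlat A C] : Module.FaithfullyFlat A B := by
  haveI : Module.Flat A B := by
    rw [Module.Flat.iff_lTensor_preserves_injective_linearMap]
    intro N N' _ _ _ _ g hg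
    have h1 : Function.Injective ((TensorProduct.AlgebraTensorModule.lTensor B B g).lTensor C) := by
      intro a b hab
      apply (TensorProduct.AlgebraTensorModule.cancelBaseChange A B B C N).injective
      apply Module.Flat.lTensor_preserves_injective_linearMap (M := C) g hg
      have e := LinearMap.congr_fun (TensorProduct.AlgebraTensorModule.lTensor_comp_cancelBaseChange (R := A) (A := B) (B := B) (M := C) g)
      have ea := e a
      have eb := e b
      simp only [LinearMap.comp_apply, LinearEquiv.coe_coe] at ea eb
      exact ea.trans (Eq.trans (congrArg _ hab) eb.symm)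
    exact (Module.FaithfullyFlat.lTensor_injective_iff_injective B C _).1 h1
  refine Module.FaithfullyFlat.of_comap_surjective ?_
  intro p
  obtain ⟨q, hq⟩ := PrimeSpectrum.comap_surjective_of_faithfullyFlat (A := A) (B := C) p
  refine ⟨PrimeSpectrum.comap (algebraMap B C) q, ?_⟩
  rw [← hq, IsScalarTower.algebraMap_eq A B C, PrimeSpectrum.comap_comp]; rfl

end Groth.Agent.S14351
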