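import Groth.Statements.S14352
import Groth.Agent.GrpschAbsch.GrpEtaleRel
import Groth.Agent.EtaleBase.Rigidity
import Mathlib.AlgebraicGeometry.Morphisms.LocalFlatDescent
import Mathlib.RingTheory.Unramified.Field
import Mathlib.RingTheory.Jacobson.Ring

set_option autoImplicit false
universe u
open Mor

namespace Groth.Agent.S14352

open CategoryTheory CategoryTheory.Limits AlgebraicGeometry

/-- Formally unramified schemes locally of finite type over a field are reduced. -/
theorem isReduced_of_formallyUnramified {Z : Scheme.{u}} (K : Type u) [Field K]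
    (π : Z ⟶ Spec (CommRingCat.of K)) [FormallyUnramified π] [LocallyOfFiniteType π] : IsReduced Z := by
  have hW : ∀ W : Z.affineOpens, _root_.IsReduced Γ(Z, W.1) := fun W => by
    have e : W.1 ≤ π ⁻¹ᵁ ⊤ := le_top
    have h1 := π.formallyUnramified_appLE (isAffineOpen_top _) W.2 e
    have h2 := HasRingHomProperty.appLE (P := @LocallyOfFiniteType) π inferInstance
      ⟨⊤, isAffineOpen_top _⟩ W e
    let ψ : K →+* Γ(Z, W.1) := (π.appLE ⊤ W.1 e).hom.comp (Scheme.ΓSpecIso (CommRingCat.of K)).inv.hom
    let _ : Algebra K Γ(Z, W.1) := ψ.toAlgebra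
    have he : Function.Surjective (Scheme.ΓSpecIso (CommRingCat.of K)).inv.hom :=
      (ConcreteCategory.bijective_of_isIso (Scheme.ΓSpecIso (CommRingCat.of K)).inv).2
    have : Algebra.FiniteType K Γ(Z, W.1) := h2.comp (RingHom.FiniteType.of_surjective _ he)
    have : Algebra.FormallyUnramified K Γ(Z, W.1) := RingHom.formallyUnramified_algebraMap.mp
      ((RingHom.FormallyUnramified.of_surjective he).comp h1)
    exact Algebra.FormallyUnramified.isReduced_of_field K Γ(Z, W.1)
  have : ∀ z : Z, _root_.IsReduced (Z.presheaf.stalk z) := fun z => by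
    obtain ⟨_, ⟨W, hWaff, rfl⟩, hzW, -⟩ :=
      Z.isBasis_affineOpens.exists_subset_of_mem_open (Set.mem_univ z) isOpen_univ
    let _ : Algebra Γ(Z, W) (Z.presheaf.stalk z) := (Z.presheaf.germ W z hzW).hom.toAlgebra
    have := hW ⟨W, hWaff⟩
    have := hWaff.isLocalization_stalk ⟨z, hzW⟩
    exact isReduced_localizationPreserves (hWaff.primeIdealOf ⟨z, hzW⟩).asIdeal.primeCompl (Z.presheaf.stalk z) (hW ⟨W, hWaff⟩)
  exact isReduced_of_isReduced_stalk Z

set_option backward.isDefEq.respectTransparency false in
/-- Reduced discrete schemes locally of finite type over an algebraically closed field are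
unramified. -/
theorem formallyUnramified_of_isReduced {Z : Scheme.{u}} (K : Type u) [Field K] [IsAlgClosed K]
    (π : Z ⟶ Spec (CommRingCat.of K)) [LocallyOfFiniteType π] [IsReduced Z] [DiscreteTopology Z] :
    FormallyUnramified π := by
  have hcov : ∀ z : Z, ∃ W : Z.Opens, z ∈ W ∧ IsAffineOpen W ∧ (W : Set Z) ⊆ {z} := fun z => by
    obtain ⟨_, ⟨W, hW, rfl⟩, hzW, hWz⟩ :=
      Z.isBasis_affineOpens.exists_subset_of_mem_open (Set.mem_singleton z) (isOpen_discrete {z})
    exact ⟨W, hzW, hW, hWz⟩
  choose W hzW hW hWz using hcov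
  refine (IsZariskiLocalAtSource.iff_of_openCover (P := @FormallyUnramified)
    (Z.openCoverOfIsOpenCover W (eq_top_iff.mpr fun z _ =>
      TopologicalSpace.Opens.mem_iSup.mpr ⟨z, hzW z⟩))).mpr fun z => ?_
  show FormallyUnramified ((W z).ι ≫ π)
  have : IsAffine (W z).toScheme := hW z
  have : Subsingleton (W z).toScheme :=
    ⟨fun a b => Subtype.ext ((hWz z a.2).trans (hWz z b.2).symm)⟩
  obtain ⟨ψ, hψ⟩ := Spec.map_surjective ((W z).toScheme.isoSpec.inv ≫ (W z).ι ≫ π)
  have hft : ψ.hom.FiniteType := by
    rw [← HasRingHomProperty.Spec_iff (P := @LocallyOfFiniteType), hψ]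
    infer_instance
  let R := Γ((W z).toScheme, ⊤)
  let _ : Algebra K R := ψ.hom.toAlgebra
  have : Algebra.FiniteType K R := hft
  have : IsReduced (W z).toScheme := isReduced_of_isOpenImmersion (W z).ι
  have : Subsingleton (PrimeSpectrum R) := (Scheme.homeoOfIso (W z).toScheme.isoSpec).symm.injective.subsingleton
  have : Nonempty (W z).toScheme := ⟨⟨z, hzW z⟩⟩
  have : Nontrivial R := PrimeSpectrum.nontrivial (R := R) ((W z).toScheme.isoSpec.hom ⟨z, hzW z⟩)
  have hfield : IsField R := by
    obtain ⟨m, hm⟩ := Ideal.exists_maximal R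
    have : IsLocalRing R := IsLocalRing.of_unique_max_ideal ⟨m, hm, fun m' hm' =>
      congrArg PrimeSpectrum.asIdeal (Subsingleton.elim (⟨m', hm'.isPrime⟩ : PrimeSpectrum R) ⟨m, hm.isPrime⟩)⟩
    rw [IsLocalRing.isField_iff_maximalIdeal_eq, eq_bot_iff]
    intro x hx
    have : x ∈ nilradical R := by
      rw [nilradical_eq_sInf, Ideal.mem_sInf]
      intro P hP
      have hP' : P = IsLocalRing.maximalIdeal R := congrArg PrimeSpectrum.asIdeal
        (Subsingleton.elim (⟨P, hP⟩ : PrimeSpectrum R) ⟨IsLocalRing.maximalIdeal R, inferInstance⟩)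
      rw [hP']
      exact hx
    exact (Ideal.mem_bot).mpr (IsNilpotent.eq_zero (mem_nilradical.mp this))
  let := hfield.toField
  have : Module.Finite K R := finite_of_finite_type_of_isJacobsonRing K R
  have : IsIso ψ := (ConcreteCategory.isIso_iff_bijective ψ).mpr
    (IsAlgClosed.algebraMap_bijective_of_isIntegral (k := K) (K := R))
  have : IsIso (Spec.map ψ) := inferInstance
  have : FormallyUnramified ((W z).toScheme.isoSpec.inv ≫ (W z).ι ≫ π) := hψ ▸ inferInstance
  rwa [MorphismProperty.cancel_left_of_respectsIso @FormallyUnramified] at this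

set_option backward.isDefEq.respectTransparency false in
open CategoryTheory CategoryTheory.Limits AlgebraicGeometry in
/-- A morphism of schemes f : X → S which is locally of finite presentation is unramified (formally
unramified) if and only if all its geometric fibres are reduced with discrete underlying space: for
every algebraically closed field K and every S-point Spec K → S, the fibre product X ×_S Spec K is a
reduced scheme whose topological space is discrete. -/
theorem result {X S : Scheme.{u}} (f : X ⟶ S)
    [LocallyOfFinitePresentation f] :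
    FormallyUnramified f ↔
      ∀ (K : Type u) [Field K] [IsAlgClosed K] (s : Spec (CommRingCat.of K) ⟶ S),
        IsReduced (pullback f s) ∧ DiscreteTopology ↥(pullback f s) := by
  refine ⟨fun hf K _ _ s => ?_, fun h => ?_⟩
  · have : FormallyUnramified (pullback.snd f s) := MorphismProperty.pullback_snd _ _ hf
    have : LocallyQuasiFinite (pullback.snd f s) :=
      Groth.EtaleBase.locallyQuasiFinite_of_formallyUnramified _
    refine ⟨isReduced_of_formallyUnramified K (pullback.snd f s), discreteTopology_iff_isOpen_singleton.mpr ?_⟩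
    intro z
    have hd := ((pullback.snd f s).isDiscrete_preimage_singleton ((pullback.snd f s) z)).to_subtype
    have huniv : (pullback.snd f s) ⁻¹' {(pullback.snd f s) z} = Set.univ :=
      Set.eq_univ_of_forall fun w => Subsingleton.elim _ _
    let e : ↥(pullback f s) ≃ₜ ↥((pullback.snd f s) ⁻¹' {(pullback.snd f s) z}) :=
      (Homeomorph.Set.univ _).symm.trans (Homeomorph.setCongr huniv.symm)
    have : DiscreteTopology ↥(pullback f s) := e.symm.discreteTopology
    exact isOpen_discrete _
  · refine Groth.GrpschAbsch.formallyUnramified_of_unramified_fiber f fun y => ?_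
    let K := AlgebraicClosure (S.residueField y)
    let c : Spec (CommRingCat.of K) ⟶ Spec (S.residueField y) :=
      Spec.map (CommRingCat.ofHom (algebraMap (S.residueField y) K))
    obtain ⟨h1, h2⟩ := h K (c ≫ S.fromSpecResidueField y)
    have hu : FormallyUnramified (pullback.snd f (c ≫ S.fromSpecResidueField y)) :=
      formallyUnramified_of_isReduced K _
    have hu' : FormallyUnramified (pullback.snd (pullback.snd f (S.fromSpecResidueField y)) c) := by
      rw [← pullbackLeftPullbackSndIso_hom_snd f (S.fromSpecResidueField y) c,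
        MorphismProperty.cancel_left_of_respectsIso @FormallyUnramified]
      exact hu
    have hc1 : Surjective c := ⟨fun p => ⟨default, Subsingleton.elim _ _⟩⟩
    have hc2 : Flat c := (HasRingHomProperty.Spec_iff (P := @Flat)).mpr
      (RingHom.flat_algebraMap_iff.mpr inferInstance)
    exact MorphismProperty.of_pullback_snd_of_descendsAlong (P := @FormallyUnramified)
      (Q := @Surjective ⊓ @Flat ⊓ @QuasiCompact) (f := f.fiberToSpecResidueField y) (g := c)
      ⟨⟨hc1, hc2⟩, inferInstance⟩ hu'

end Groth.Agent.S14352
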