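import Groth.Statements.S14353
import Mathlib

set_option autoImplicit false
universe u
open CategoryTheory CategoryTheory.Limits CategoryTheory.MonoidalCategory
open CAlg

namespace Groth.Agent.S14353

open TensorProduct Opposite

section Lift

variable {R : Type u} [CommRing R] (B C : ℕ → Type u) [∀ n, AddCommGroup (B n)] [∀ n, Module R (B n)]
  [∀ n, AddCommGroup (C n)] [∀ n, Module R (C n)] [∀ n, IsArtinian R (B n)]

/-- Compatible families lift along surjections of systems of Artinian modules. -/
theorem exists_compatible_lift (t : ∀ n, B (n + 1) →ₗ[R] B n) (t' : ∀ n, C (n + 1) →ₗ[R] C n)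
    (v : ∀ n, B n →ₗ[R] C n) (hv : ∀ n, Function.Surjective (v n))
    (hc : ∀ n x, v n (t n x) = t' n (v (n + 1) x)) (c : ∀ n, C n)
    (hcc : ∀ n, t' n (c (n + 1)) = c n) :
    ∃ b : ∀ n, B n, (∀ n, t n (b (n + 1)) = b n) ∧ ∀ n, v n (b n) = c n := by
  classical
  let T : ∀ n d, B (n + d) →ₗ[R] B n := fun n d =>
    Nat.rec (motive := fun d => B (n + d) →ₗ[R] B n) LinearMap.id (fun d f => f.comp (t (n + d))) d
  -- the images of the fibres
  let S : ∀ n, ℕ → Set (B n) := fun n d => T n d '' {x | v (n + d) x = c (n + d)}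
  have hS : ∀ n d, S n (d + 1) ⊆ S n d := by
    rintro n d _ ⟨x, hx, rfl⟩
    refine ⟨t (n + d) x, ?_, rfl⟩
    show v (n + d) (t (n + d) x) = c (n + d)
    exact (hc (n + d) x).trans ((congrArg (t' (n + d)) hx).trans (hcc (n + d)))
  have hS' : ∀ n, Antitone (S n) := fun n => antitone_nat_of_succ_le (hS n)
  let K : ∀ n, ℕ →o (Submodule R (B n))ᵒᵈ := fun n =>
    ⟨fun d => OrderDual.toDual ((LinearMap.ker (v (n + d))).map (T n d)),
      monotone_nat_of_le_succ fun d => by
        rintro _ ⟨x, hx, rfl⟩
        refine ⟨t (n + d) x, ?_, rfl⟩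
        rw [SetLike.mem_coe, LinearMap.mem_ker] at hx ⊢
        exact (hc (n + d) x).trans ((congrArg (t' (n + d)) hx).trans (map_zero _))⟩
  choose s hs using fun n => IsArtinian.monotone_stabilizes (K n)
  have hstab : ∀ n d, s n ≤ d → S n d = S n (s n) := by
    intro n d hd
    refine Set.Subset.antisymm (hS' n hd) ?_
    rintro _ ⟨x, hx, rfl⟩
    obtain ⟨y, hy⟩ := hv (n + d) (c (n + d))
    obtain ⟨x', hx', hxy⟩ := hS' n hd ⟨y, hy, rfl⟩
    have h1 : T n (s n) x - T n (s n) x' ∈ (LinearMap.ker (v (n + s n))).map (T n (s n)) :=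
      ⟨x - x', by rw [SetLike.mem_coe, LinearMap.mem_ker, map_sub, hx, hx', sub_self], map_sub _ _ _⟩
    rw [show (LinearMap.ker (v (n + s n))).map (T n (s n)) = (LinearMap.ker (v (n + d))).map (T n d)
      from congrArg OrderDual.ofDual (hs n d hd)] at h1
    obtain ⟨w, hw, hwe⟩ := h1
    exact ⟨y + w, by
      show v (n + d) (y + w) = c (n + d)
      rw [map_add, hy, LinearMap.mem_ker.1 hw, add_zero], by
      rw [map_add, hwe, ← hxy]; abel⟩
  have hT : ∀ d n x, t n (T (n + 1) d x) = T n (d + 1) ((Nat.add_right_comm n 1 d) ▸ x) := by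
    intro d
    induction d with
    | zero => intro n x; rfl
    | succ d ih =>
      intro n x
      refine (ih n (t (n + 1 + d) x)).trans (congrArg (T n (d + 1)) ?_)
      have key : ∀ (a b : ℕ) (h : a = b) (h' : a + 1 = b + 1) (z : B (a + 1)),
          (h ▸ t a z : B b) = t b (h' ▸ z) := by
        intro a b h h' z
        subst h
        rfl
      exact key _ _ (Nat.add_right_comm n 1 d) _ x
  have hstep : ∀ n y, y ∈ S n (s n) → ∃ y', y' ∈ S (n + 1) (s (n + 1)) ∧ t n y' = y := by
    intro n y hy
    obtain ⟨d, hd1, hd2⟩ : ∃ d, s n ≤ d + 1 ∧ s (n + 1) ≤ d := ⟨max (s n) (s (n + 1)), by omega, by omega⟩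
    rw [← hstab n (d + 1) hd1] at hy
    obtain ⟨x, hx, rfl⟩ := hy
    have key : ∀ (a b : ℕ) (h : a = b) (z : B b), v b z = c b → v a (h ▸ z) = c a := by
      intro a b h z hz
      subst h
      exact hz
    refine ⟨T (n + 1) d ((Nat.add_right_comm n 1 d).symm ▸ x), ?_, ?_⟩
    · rw [← hstab (n + 1) d hd2]
      exact ⟨_, key _ _ (Nat.add_right_comm n 1 d) x hx, rfl⟩
    · rw [hT]
      congr 1
      have key2 : ∀ (a b : ℕ) (h : a = b) (z : B b), (h ▸ (h.symm ▸ z : B a) : B b) = z := by
        intro a b h z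
        subst h
        rfl
      exact key2 _ _ _ x
  have h0 : ∀ n, (S n (s n)).Nonempty := fun n => by
    obtain ⟨y, hy⟩ := hv (n + s n) (c (n + s n))
    exact ⟨_, y, hy, rfl⟩
  choose g hg using fun n (y : S n (s n)) => hstep n y.1 y.2
  let bb : ∀ n, S n (s n) := fun n => Nat.rec (motive := fun n => S n (s n))
    ⟨_, (h0 0).choose_spec⟩ (fun n y => ⟨g n y, (hg n y).1⟩) n
  refine ⟨fun n => (bb n).1, fun n => (hg n (bb n)).2, fun n => ?_⟩
  obtain ⟨x, hx, hxe⟩ := hS' n (Nat.zero_le _) (bb n).2
  show v n (bb n).1 = c n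
  rw [← hxe]
  exact hx

end Lift

section Main


variable {R : Type u} [CommRing R]

/-- An element of a limit of modules from a compatible family. -/
theorem exists_limit_mk (F : ℕᵒᵖ ⥤ ModuleCat.{u} R) (b : ∀ n, F.obj (op n))
    (hb : ∀ n, (F.map (homOfLE n.le_succ).op).hom (b (n + 1)) = b n) :
    ∃ x : (limit F : ModuleCat.{u} R), ∀ n, (limit.π F (op n)).hom x = b n := by
  have hb' : ∀ i j (h : i ≤ j), (F.map (homOfLE h).op).hom (b j) = b i := by
    intro i j h
    induction j, h using Nat.le_induction with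
    | base =>
      rw [show homOfLE (le_refl i) = 𝟙 i from rfl, op_id, CategoryTheory.Functor.map_id]
      rfl
    | succ j hj ih =>
      rw [← ih, ← hb j, ← homOfLE_comp hj j.le_succ, op_comp, Functor.map_comp]
      rfl
  let c : Cone F :=
    { pt := ModuleCat.of R R
      π :=
        { app := fun i => ModuleCat.ofHom (LinearMap.toSpanSingleton R (F.obj i) (b i.unop))
          naturality := fun i j f => by
            refine ModuleCat.hom_ext (LinearMap.ext_ring ?_)
            refine ((one_smul R _).trans ?_).trans ((congrArg (F.map f).hom (one_smul R (b i.unop))).symm)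
            exact (hb' j.unop i.unop (leOfHom f.unop)).symm } }
  exact ⟨(limit.lift F c).hom (1 : R), fun n =>
    (congr($(limit.lift_π c (op n)) (1 : R))).trans (one_smul R _)⟩

variable (N : Type u) [AddCommGroup N] [Module R N] {n : ℕ} (a : (Fin n → R) →ₗ[R] N)

/-- `(m_j) ↦ ∑ m_j ⊗ a(e_j)`. -/
noncomputable def comb (M : Type u) [AddCommGroup M] [Module R M] :
    (Fin n → M) →ₗ[R] M ⊗[R] N :=
  (a.lTensor M).comp (piScalarRight R R M (Fin n)).symm.toLinearMap

theorem piScalarRight_nat {M M' : Type u} [AddCommGroup M] [Module R M] [AddCommGroup M']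
    [Module R M'] (f : M →ₗ[R] M') (x : Fin n → M) :
    (piScalarRight R R M' (Fin n)).symm (fun j => f (x j)) =
      f.rTensor (Fin n → R) ((piScalarRight R R M (Fin n)).symm x) := by
  apply (piScalarRight R R M' (Fin n)).injective
  rw [LinearEquiv.apply_symm_apply]
  obtain ⟨z, rfl⟩ := (piScalarRight R R M (Fin n)).surjective x
  rw [LinearEquiv.symm_apply_apply]
  induction z using TensorProduct.induction_on with
  | zero => ext j; simp
  | add u v hu hv => rw [map_add, map_add, map_add, ← hu, ← hv]; ext j; simp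
  | tmul m g => ext j; simp

theorem comb_nat {M M' : Type u} [AddCommGroup M] [Module R M] [AddCommGroup M']
    [Module R M'] (f : M →ₗ[R] M') (x : Fin n → M) :
    comb N a M' (fun j => f (x j)) = f.rTensor N (comb N a M x) := by
  simp only [comb, LinearMap.comp_apply, LinearEquiv.coe_coe, piScalarRight_nat]
  rw [← LinearMap.comp_apply, ← LinearMap.comp_apply, LinearMap.lTensor_comp_rTensor,
    LinearMap.rTensor_comp_lTensor]

theorem comb_surjective (ha : Function.Surjective a) (M : Type u) [AddCommGroup M] [Module R M] :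
    Function.Surjective (comb N a M) :=
  (LinearMap.lTensor_surjective M ha).comp (piScalarRight R R M (Fin n)).symm.surjective

/-- The map on families given by relations. -/
noncomputable def rel {m : ℕ} (b : (Fin m → R) →ₗ[R] (Fin n → R)) (M : Type u) [AddCommGroup M]
    [Module R M] : (Fin m → M) →ₗ[R] (Fin n → M) :=
  (piScalarRight R R M (Fin n)).toLinearMap.comp
    ((b.lTensor M).comp (piScalarRight R R M (Fin m)).symm.toLinearMap)

theorem rel_nat {m : ℕ} (b : (Fin m → R) →ₗ[R] (Fin n → R)) {M M' : Type u} [AddCommGroup M]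
    [Module R M] [AddCommGroup M'] [Module R M'] (f : M →ₗ[R] M') (x : Fin m → M) :
    rel b M' (fun j => f (x j)) = fun j => f (rel b M x j) := by
  apply (piScalarRight R R M' (Fin n)).symm.injective
  rw [piScalarRight_nat f (rel b M x)]
  simp only [rel, LinearMap.comp_apply, LinearEquiv.coe_coe, LinearEquiv.symm_apply_apply,
    piScalarRight_nat]
  rw [← LinearMap.comp_apply, ← LinearMap.comp_apply, LinearMap.lTensor_comp_rTensor,
    LinearMap.rTensor_comp_lTensor]

theorem exact_rel_comb {m : ℕ} (b : (Fin m → R) →ₗ[R] (Fin n → R)) (ha : Function.Surjective a)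
    (hba : Function.Exact b a) (M : Type u) [AddCommGroup M] [Module R M] :
    Function.Exact (rel b M) (comb N a M) := by
  intro x
  refine ((lTensor_exact M hba ha) ((piScalarRight R R M (Fin n)).symm x)).trans ⟨?_, ?_⟩
  · rintro ⟨w, hw⟩
    exact ⟨piScalarRight R R M (Fin m) w, by
      simp only [rel, LinearMap.comp_apply, LinearEquiv.coe_coe, LinearEquiv.symm_apply_apply, hw,
        LinearEquiv.apply_symm_apply]⟩
  · rintro ⟨y, rfl⟩
    exact ⟨(piScalarRight R R M (Fin m)).symm y, by
      simp only [rel, LinearMap.comp_apply, LinearEquiv.coe_coe, LinearEquiv.symm_apply_apply]⟩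

end Main


/-- For a commutative ring R, an inverse system (M_n)_{n ∈ ℕ} of R-modules of finite length and a
finitely presented R-module N, the canonical comparison map (lim_n M_n) ⊗_R N ⟶ lim_n (M_n ⊗_R N) is
an isomorphism. (The published statement takes N = R/I for a finitely generated ideal I; the
argument covers every finitely presented N, which is the form stated here.) -/
theorem result (R : Type u) [CommRing R]
    (M : ℕᵒᵖ ⥤ ModuleCat.{u} R) (hM : ∀ n : ℕᵒᵖ, IsFiniteLength R (M.obj n))
    (N : Type u) [AddCommGroup N] [Module R N] [Module.FinitePresentation R N] :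
    IsIso (limit.post M (tensorRight (ModuleCat.of R N))) := by
  haveI : ∀ k, IsArtinian R (M.obj (op k)) := fun k => (isFiniteLength_iff_isNoetherian_isArtinian.1 (hM (op k))).2
  obtain ⟨n, a, ha⟩ := Module.Finite.exists_fin' R N
  obtain ⟨m, b, hb⟩ := (Submodule.fg_iff_exists_fin_linearMap (N := LinearMap.ker a)).1
    (Module.FinitePresentation.fg_ker a ha)
  have hba : Function.Exact b a := LinearMap.exact_iff.2 hb.symm
  let L : ModuleCat.{u} R := limit M
  let G := tensorRight (ModuleCat.of R N)
  let t : ∀ k, M.obj (op (k + 1)) →ₗ[R] M.obj (op k) := fun k => (M.map (homOfLE k.le_succ).op).hom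
  let π : ∀ k, L →ₗ[R] M.obj (op k) := fun k => (limit.π M (op k)).hom
  have hpost : ∀ (z : L ⊗[R] N) k, (limit.π (M ⋙ G) (op k)).hom ((limit.post M G).hom z) =
      (π k).rTensor N z := fun z k => congr($(limit.post_π M G (op k)) z)
  refine (ConcreteCategory.isIso_iff_bijective _).2 ⟨?_, ?_⟩
  · refine (injective_iff_map_eq_zero (limit.post M G).hom).2 fun z hz => ?_
    obtain ⟨x, rfl⟩ := comb_surjective N a ha L z
    have hx : ∀ k, (fun j => π k (x j)) ∈ LinearMap.range (rel b (M.obj (op k))) := fun k => by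
      refine ((exact_rel_comb N a b ha hba _) _).1 ?_
      rw [comb_nat, ← hpost, hz, map_zero]
    obtain ⟨w, hw, hw'⟩ := exists_compatible_lift (fun k => Fin m → M.obj (op k))
      (fun k => LinearMap.range (rel b (M.obj (op k))))
      (fun k => (t k).compLeft (Fin m))
      (fun k => ((t k).compLeft (Fin n)).restrict (fun y hy => by
        obtain ⟨y, rfl⟩ := hy
        exact ⟨(t k).compLeft (Fin m) y, rel_nat b (t k) y⟩))
      (fun k => (rel b (M.obj (op k))).rangeRestrict)
      (fun k => LinearMap.surjective_rangeRestrict _)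
      (fun k y => Subtype.ext (rel_nat b (t k) y)) (fun k => ⟨_, hx k⟩)
      (fun k => Subtype.ext (funext fun j =>
        congr($(limit.w M (homOfLE k.le_succ).op) (x j))))
    choose y hy using fun i : Fin m =>
      exists_limit_mk M (fun k => w k i) fun k => congrFun (hw k) i
    have hxy : rel b L y = x := funext fun j => Concrete.limit_ext _ _ _ fun k => by
      obtain ⟨k⟩ := k
      have h1 := congrFun (rel_nat b (π k) y) j
      have h2 : (fun i => π k (y i)) = w k := funext fun i => hy i k
      rw [h2] at h1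
      exact h1.symm.trans (congrFun (congrArg Subtype.val (hw' k)) j)
    rw [← hxy]
    exact ((exact_rel_comb N a b ha hba L) _).2 ⟨y, rfl⟩
  · intro c
    obtain ⟨w, hw, hw'⟩ := exists_compatible_lift (fun k => Fin n → M.obj (op k))
      (fun k => M.obj (op k) ⊗[R] N) (fun k => (t k).compLeft (Fin n))
      (fun k => (t k).rTensor N) (fun k => comb N a _) (fun k => comb_surjective N a ha _)
      (fun k y => comb_nat N a (t k) y) (fun k => (limit.π (M ⋙ G) (op k)).hom c)
      (fun k => congr($(limit.w (M ⋙ G) (homOfLE k.le_succ).op) c))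
    choose y hy using fun i : Fin n =>
      exists_limit_mk M (fun k => w k i) fun k => congrFun (hw k) i
    refine ⟨comb N a L y, Concrete.limit_ext _ _ _ fun k => ?_⟩
    obtain ⟨k⟩ := k
    refine (hpost _ k).trans ?_
    rw [← comb_nat, ← hw' k]
    exact congrArg (comb N a _) (funext fun i => hy i k)

end Groth.Agent.S14353
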