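import Groth.Statements.S14355
import Groth.Agent.CategoryFibred.SpSeqPages

set_option autoImplicit false
universe v u
open CategoryTheory CategoryTheory.Limits
open SpSeqMor

namespace Groth.Agent.S14355
open Groth.CatFib SpSeq

/-- Let φ : E ⟶ E' be a morphism of E_2-cohomological spectral sequences in an abelian category, with
abutments H and H' whose filtrations are finite in each degree, and f a morphism of abutment data
over φ. Fix integers l and a₀. If E_2^{i, l-i} = 0 for i < a₀, E'_2^{i, l-i} = 0 for i > a₀ and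
φ_2^{a₀, l-a₀} = 0, then f^l : H^l ⟶ H'^l is zero. (The published statement prints the two vanishing
hypotheses at positions (i, l); the argument works on the line of total degree l, at positions (i, l
- i), which is the form stated here.) -/
theorem result (C : Type u) [Category.{v} C] [Abelian C]
    (E E' : E₂CohomologicalSpectralSequence C) (φ : E ⟶ E') (H H' : ℤ → C)
    (a : SpSeq.Abutment E H) (a' : SpSeq.Abutment E' H')
    (ha : ∀ n : ℤ, a.IsFinite n) (ha' : ∀ n : ℤ, a'.IsFinite n)
    (f : SpSeqMor.AbutHom φ a a') (l a₀ : ℤ)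
    (hE : ∀ i : ℤ, i < a₀ → IsZero ((E.page 2 le_rfl).X (i, l - i)))
    (hE' : ∀ i : ℤ, a₀ < i → IsZero ((E'.page 2 le_rfl).X (i, l - i)))
    (hφ : (φ.hom 2 le_rfl).f (a₀, l - a₀) = 0) :
    f.hom l = 0 := by
  have hgr : ∀ (pq : ℤ × ℤ), (φ.hom 2 le_rfl).f pq = 0 → ∀ m, pq.1 + pq.2 = m → (f.fil m).gr pq.1 = 0 := by
    rintro pq h0 m rfl
    apply (cancel_epi (a.β pq).hom).1
    have hk : a.rk pq + ((a'.rk pq - a.rk pq).toNat : ℤ) = a'.rk pq + ((a.rk pq - a'.rk pq).toNat : ℤ) := by omega
    refine (f.comm pq _ _ hk).trans ?_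
    rw [SpSeqPages.hom_eq_zero_up φ 2 le_rfl pq h0 _ (SpSeqMor.page_le (a'.stat pq).1 _) (SpSeqMor.page_le (a'.stat pq).1 _)]
    exact (by simp : _ = (0 : _ ⟶ _)).trans comp_zero.symm
  have top : (a.filObj l).fil a₀ = ⊤ :=
    SpSeqPages.eq_top_of_isZero_grPiece (a.anti l) _ (ha l).1 fun i hi => SpSeqPages.isZero_grPiece a 2 le_rfl l i (hE i hi)
  have bot : (a'.filObj l).fil (a₀ + 1) = ⊥ :=
    SpSeqPages.eq_bot_of_isZero_grPiece (a'.anti l) _ (ha' l).2 fun i hi => SpSeqPages.isZero_grPiece a' 2 le_rfl l i (hE' i (by omega))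
  have g0 : (f.fil l).gr a₀ = 0 := hgr (a₀, l - a₀) hφ l (by omega)
  have l0 : (f.fil l).lift a₀ = 0 := by
    have w : cokernel.π ((a.filObj l).stepLE (Int.le_add_one (le_refl a₀))) ≫ (f.fil l).gr a₀ =
        (f.fil l).lift a₀ ≫ cokernel.π ((a'.filObj l).stepLE (Int.le_add_one (le_refl a₀))) := cokernel.π_desc _ _ _
    have w : 0 = (f.fil l).lift a₀ ≫ cokernel.π ((a'.filObj l).stepLE (Int.le_add_one (le_refl a₀))) :=
      ((congrArg (cokernel.π _ ≫ ·) g0).trans comp_zero).symm.trans w
    have z : (a'.filObj l).stepLE (Int.le_add_one (le_refl a₀)) = 0 := (SpSeqPages.isZero_of_eq_bot _ bot).eq_of_src _ _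
    have : Mono (cokernel.π ((a'.filObj l).stepLE (Int.le_add_one (le_refl a₀)))) := by
      have : IsIso (cokernel.π ((a'.filObj l).stepLE (Int.le_add_one (le_refl a₀)))) := by
        rw [show cokernel.π ((a'.filObj l).stepLE (Int.le_add_one (le_refl a₀))) = (cokernelIsoOfEq z ≪≫ cokernelZeroIsoTarget).inv by
          simp [← cancel_mono (cokernelIsoOfEq z).hom]]
        infer_instance
      infer_instance
    exact zero_of_comp_mono _ w.symm
  have : IsIso ((a.filObj l).fil a₀).arrow := Subobject.isIso_arrow_iff_eq_top _ |>.2 top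
  apply (cancel_epi ((a.filObj l).fil a₀).arrow).1
  have := (f.fil l).lift_arrow a₀
  rw [l0, zero_comp] at this
  exact this.symm.trans comp_zero.symm

end Groth.Agent.S14355
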