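import Groth.Statements.S14357
import Mathlib

set_option autoImplicit false
universe u
open AlgebraicGeometry
open Proj

namespace Groth.Agent.S14357

/-- For a field k the projective line over k is not an affine scheme. (The projective line is taken here
as Proj of the polynomial ring in two variables over k with its standard grading; the book builds it
by gluing two affine lines and identifies the two constructions later.) -/
theorem result (k : Type u) [Field k] :
    ¬ IsAffine (CohB1.ProjSpace 1 k) := by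
  intro haff
  let 𝒜 := CohB1.polyGrading 1 k
  have hdeg0 : Function.Surjective (algebraMap k (𝒜 0)) := by
    rintro ⟨p, hp⟩
    have hp' : p.IsHomogeneous 0 := hp
    obtain ⟨c, rfl⟩ : ∃ c, p = MvPolynomial.C c :=
      ⟨p.coeff 0, MvPolynomial.totalDegree_eq_zero_iff_eq_C.1 (Nat.le_zero.1 hp'.totalDegree_le)⟩
    exact ⟨c, Subtype.ext rfl⟩
  haveI : IsScalarTower k (𝒜 0) (MvPolynomial (Fin (1+1)) k) := IsScalarTower.of_algebraMap_eq (R := k) (S := 𝒜 0) fun _ => rfl
  haveI : Algebra.FiniteType (𝒜 0) (MvPolynomial (Fin (1+1)) k) := Algebra.FiniteType.of_restrictScalars_finiteType k _ _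
  haveI : IsProper (Proj.toSpecZero 𝒜) := inferInstance
  haveI : IsClosedImmersion (Spec.map (CommRingCat.ofHom (algebraMap k (𝒜 0)))) :=
    IsClosedImmersion.spec_of_surjective _ hdeg0
  let q := CohB1.ProjSpace.toSpec 1 k
  haveI : IsProper q :=
    (show IsProper (CategoryTheory.CategoryStruct.comp (Proj.toSpecZero 𝒜) (Spec.map (CommRingCat.ofHom (algebraMap k (𝒜 0))))) from inferInstance)
  haveI : IsFinite q := (IsFinite.iff_isProper_and_isAffineHom).2 ⟨inferInstance, inferInstance⟩
  haveI : JacobsonSpace (CohB1.ProjSpace 1 k) := LocallyOfFiniteType.jacobsonSpace q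
  have hfin : (Set.univ : Set (CohB1.ProjSpace 1 k)).Finite := by
    refine (q.finite_preimage_singleton (IsLocalRing.closedPoint k)).subset fun z _ => ?_
    exact Subsingleton.elim (α := PrimeSpectrum k) _ _
  have hall : ∀ z : CohB1.ProjSpace 1 k, IsClosed ({z} : Set (CohB1.ProjSpace 1 k)) := by
    intro z
    have hC : IsClosed (closedPoints (CohB1.ProjSpace 1 k)) := by
      rw [← Set.biUnion_of_singleton (closedPoints (CohB1.ProjSpace 1 k))]
      exact (hfin.subset (Set.subset_univ _)).isClosed_biUnion fun w hw => hw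
    have h := closure_closedPoints (X := CohB1.ProjSpace 1 k)
    rw [hC.closure_eq] at h
    exact (h.ge (Set.mem_univ z) : z ∈ closedPoints (CohB1.ProjSpace 1 k))
  let X0 : MvPolynomial (Fin (1+1)) k := MvPolynomial.X 0
  let X1 : MvPolynomial (Fin (1+1)) k := MvPolynomial.X 1
  have h1 : X1 ∈ 𝒜 1 := MvPolynomial.isHomogeneous_X k 1
  have hX1 : X1 ∈ (HomogeneousIdeal.irrelevant 𝒜).toIdeal :=
    HomogeneousIdeal.mem_irrelevant_of_mem 𝒜 one_pos h1
  let J : HomogeneousIdeal 𝒜 := ⟨Ideal.span {X0}, Ideal.homogeneous_span 𝒜 _ fun x hx =>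
    ⟨1, (Set.mem_singleton_iff.1 hx).symm ▸ MvPolynomial.isHomogeneous_X k 0⟩⟩
  have hJ : J.toIdeal.IsPrime :=
    (Ideal.span_singleton_prime (MvPolynomial.X_ne_zero 0)).2 MvPolynomial.X_prime
  have hnot : X1 ∉ J.toIdeal := by
    intro h
    obtain ⟨c, hc⟩ := Ideal.mem_span_singleton.1 h
    have := congrArg (MvPolynomial.eval (fun i : Fin (1+1) => if i = 0 then (0 : k) else 1)) hc
    simp [X0, X1] at this
  let y : ProjectiveSpectrum 𝒜 := ⟨J, hJ, fun h => hnot (h hX1)⟩
  let η : ProjectiveSpectrum 𝒜 := ⟨⊥, Ideal.isPrime_bot, fun h => MvPolynomial.X_ne_zero 1 (h hX1 : X1 ∈ (⊥ : Ideal _))⟩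
  have hsp : y ∈ closure ({η} : Set (ProjectiveSpectrum 𝒜)) := by
    rw [← ProjectiveSpectrum.le_iff_mem_closure]
    exact bot_le (α := HomogeneousIdeal 𝒜)
  have hcl : closure ({η} : Set (ProjectiveSpectrum 𝒜)) = {η} := (hall η).closure_eq
  rw [hcl, Set.mem_singleton_iff] at hsp
  have hb : X0 ∈ J.toIdeal := Ideal.subset_span rfl
  have e : J.toIdeal = (⊥ : Ideal (MvPolynomial (Fin (1+1)) k)) :=
    congrArg (fun z : ProjectiveSpectrum 𝒜 => z.asHomogeneousIdeal.toIdeal) hsp
  have : X0 ∈ (⊥ : Ideal (MvPolynomial (Fin (1+1)) k)) := e ▸ hb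
  exact MvPolynomial.X_ne_zero 0 this

end Groth.Agent.S14357
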