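import Groth.Statements.S14358
import Mathlib

set_option autoImplicit false
universe u
open CAlg

namespace Groth.Agent.S14358

/-- Let A be a Noetherian integral domain with fraction field K and let r ∈ K. Then r belongs to A if
and only if, for every nonzero g ∈ A and every associated prime p of the A-module A/(g), the element
r belongs to the local ring A_p inside K, i.e. s r = a in K for some a ∈ A and some s ∈ A outside p. -/
theorem result (A K : Type u)
    [CommRing A] [IsDomain A] [IsNoetherianRing A] [Field K] [Algebra A K] [IsFractionRing A K]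
    (r : K) :
    r ∈ Set.range (algebraMap A K) ↔
      ∀ g : A, g ≠ 0 → ∀ p ∈ associatedPrimes A (A ⧸ Ideal.span {g}),
        ∃ a s : A, s ∉ p ∧ algebraMap A K s * r = algebraMap A K a := by
  constructor
  · rintro ⟨a, rfl⟩ g - p hp
    exact ⟨a, 1, (Ideal.ne_top_iff_one p).1 hp.isPrime.ne_top, by simp⟩
  · intro h
    obtain ⟨a, b, hb, rfl⟩ := IsFractionRing.div_surjective (A := A) r
    have hb0 : b ≠ 0 := nonZeroDivisors.ne_zero hb
    have hbK : algebraMap A K b ≠ 0 := fun h' => hb0 (IsFractionRing.injective A K (by simpa using h'))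
    by_cases ha : a ∈ Ideal.span {b}
    · obtain ⟨c, rfl⟩ := Ideal.mem_span_singleton.1 ha
      exact ⟨c, by rw [map_mul, mul_div_cancel_left₀ _ hbK]⟩
    exfalso
    obtain ⟨p, hp, hle⟩ := exists_le_isAssociatedPrime_of_isNoetherianRing A (Ideal.Quotient.mk (Ideal.span {b}) a)
      (fun h' => ha (Ideal.Quotient.eq_zero_iff_mem.1 h'))
    obtain ⟨a', s, hs, he⟩ := h b hb0 p hp
    refine hs (hle ?_)
    rw [Submodule.mem_colon_singleton, Submodule.mem_bot]
    refine Ideal.Quotient.eq_zero_iff_mem.2 (Ideal.mem_span_singleton.2 ⟨a', IsFractionRing.injective A K ?_⟩)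
    show algebraMap A K (s * a) = algebraMap A K (b * a')
    rw [map_mul, map_mul, ← he]
    field_simp

end Groth.Agent.S14358
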