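import Groth.Statements.S14360
import Mathlib

set_option autoImplicit false
universe u
open AlgebraicGeometry
open Variety

namespace Groth.Agent.S14360

open CategoryTheory Scheme

theorem homOfLE_isoImage_inv_ι {X : Scheme.{u}} (W D : X.Opens) (P : D.toScheme.Opens)
    (hl : W ≤ D.ι ''ᵁ P) :
    X.homOfLE hl ≫ (D.ι.isoImage P).inv ≫ P.ι = X.homOfLE (hl.trans (D.ι_image_le P)) := by
  rw [Scheme.Opens.isoImage_ι_inv_ι, Scheme.homOfLE_homOfLE]

theorem exists_le {X Y : Scheme.{u}} [PreirreducibleSpace X] [Nonempty Y] (f : X.PartialMap Y)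
    [IsDominant f.hom] (g : Y.PartialMap X)
    (h : (f.comp g).equiv (PartialMap.id X)) :
    ∃ (W : X.Opens) (_ : Dense (W : Set X)) (hW : W ≤ f.domain) (a : W.toScheme ⟶ g.domain.toScheme),
      a ≫ g.domain.ι = X.homOfLE hW ≫ f.hom ∧ a ≫ g.hom = W.ι := by
  obtain ⟨W, hW, hWl, hWr, e⟩ := h
  let hWl' : W ≤ f.domain.ι ''ᵁ (f.hom ⁻¹ᵁ g.domain) := hWl
  refine ⟨W, hW, hWl'.trans (Opens.ι_image_le _ _),
    X.homOfLE hWl' ≫ (f.domain.ι.isoImage _).inv ≫ f.hom ∣_ g.domain, ?_, ?_⟩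
  · rw [← homOfLE_isoImage_inv_ι W f.domain (f.hom ⁻¹ᵁ g.domain) hWl']
    simp only [Category.assoc, morphismRestrict_ι]
  · simp only [Category.assoc]
    have e' : X.homOfLE hWl ≫ (f.comp g).hom = X.homOfLE hWr ≫ ((⊤ : X.Opens).ι ≫ 𝟙 X) := e
    rw [Category.comp_id] at e'
    exact e'.trans (Scheme.homOfLE_ι X (V := ⊤) hWr)

theorem comp_equiv_id {X Y : Scheme.{u}} [PreirreducibleSpace X] [Nonempty Y] (e : X.PartialIso Y)
    [IsDominant e.toPartialMap.hom] :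
    (e.toPartialMap.comp e.symm.toPartialMap).equiv (PartialMap.id X) := by
  refine ⟨(e.toPartialMap.comp e.symm.toPartialMap).domain,
    (e.toPartialMap.comp e.symm.toPartialMap).dense_domain, le_rfl, le_top, ?_⟩
  show X.homOfLE le_rfl ≫ (e.toPartialMap.comp e.symm.toPartialMap).hom = X.homOfLE le_top ≫ (⊤ : X.Opens).ι ≫ 𝟙 X
  rw [Scheme.homOfLE_rfl, Category.id_comp, Category.comp_id, Scheme.homOfLE_ι]
  change (e.toPartialMap.domain.ι.isoImage (e.toPartialMap.hom ⁻¹ᵁ e.symm.toPartialMap.domain)).inv ≫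
    e.toPartialMap.hom ∣_ e.symm.toPartialMap.domain ≫ e.symm.toPartialMap.hom =
    (e.toPartialMap.domain.ι ''ᵁ (e.toPartialMap.hom ⁻¹ᵁ e.symm.toPartialMap.domain)).ι
  rw [← cancel_epi ((e.toPartialMap.domain.ι.isoImage (e.toPartialMap.hom ⁻¹ᵁ e.symm.toPartialMap.domain)).hom),
    Iso.hom_inv_id_assoc]
  have h := morphismRestrict_ι (e.iso.hom ≫ e.target.ι) e.target
  have h' : (e.iso.hom ≫ e.target.ι) ∣_ e.target =
      ((e.iso.hom ≫ e.target.ι) ⁻¹ᵁ e.target).ι ≫ e.iso.hom := by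
    rw [← cancel_mono e.target.ι, h, Category.assoc]
  change (e.iso.hom ≫ e.target.ι) ∣_ e.target ≫ e.iso.inv ≫ e.source.ι = _
  rw [h', Category.assoc, Iso.hom_inv_id_assoc, Scheme.Hom.isoImage_hom_ι]
  rfl

theorem exists_partialIso {X Y : Scheme.{u}} [IsIntegral X] [IsIntegral Y] (f : X.PartialMap Y)
    (g : Y.PartialMap X) [IsDominant f.hom] [IsDominant g.hom]
    (h₁ : (f.comp g).equiv (PartialMap.id X)) (h₂ : (g.comp f).equiv (PartialMap.id Y)) :
    Nonempty (X.PartialIso Y) := by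
  obtain ⟨W, hW, hWf, a, ha, ha'⟩ := exists_le f g h₁
  obtain ⟨V, hV, hVg, b, hb, hb'⟩ := exists_le g f h₂
  let U : X.Opens := W.ι ''ᵁ ((a ≫ g.domain.ι) ⁻¹ᵁ V)
  let U' : Y.Opens := V.ι ''ᵁ ((b ≫ f.domain.ι) ⁻¹ᵁ W)
  have hUW : U ≤ W := Opens.ι_image_le _ _
  have hUV : U' ≤ V := Opens.ι_image_le _ _
  let p : (U : Scheme) ⟶ Y := X.homOfLE (hUW.trans hWf) ≫ f.hom
  let q : (U' : Scheme) ⟶ X := Y.homOfLE (hUV.trans hVg) ≫ g.hom
  have hp : ∀ x : U, ∃ (y : g.domain), g.hom y = x.1 ∧ g.domain.ι y = p x ∧ y.1 ∈ V := by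
    intro x
    obtain ⟨x₀, hx₀, hx₀'⟩ := x.2
    refine ⟨a x₀, ?_, ?_, hx₀⟩
    · rw [← Scheme.Hom.comp_apply, ha']; exact hx₀'
    · rw [← Scheme.Hom.comp_apply, ha]
      show f.hom _ = f.hom _
      congr 1
      apply Subtype.ext
      show (X.homOfLE hWf x₀).1 = (X.homOfLE (hUW.trans hWf) x).1
      rw [Scheme.homOfLE_apply, Scheme.homOfLE_apply]
      exact hx₀'
  have hq : ∀ x : U', ∃ (y : f.domain), f.hom y = x.1 ∧ f.domain.ι y = q x ∧ y.1 ∈ W := by
    intro x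
    obtain ⟨x₀, hx₀, hx₀'⟩ := x.2
    refine ⟨b x₀, ?_, ?_, hx₀⟩
    · rw [← Scheme.Hom.comp_apply, hb']; exact hx₀'
    · rw [← Scheme.Hom.comp_apply, hb]
      show g.hom _ = g.hom _
      congr 1
      apply Subtype.ext
      show (Y.homOfLE hVg x₀).1 = (Y.homOfLE (hUV.trans hVg) x).1
      rw [Scheme.homOfLE_apply, Scheme.homOfLE_apply]
      exact hx₀'
  have hpU : Set.range p ⊆ Set.range U'.ι := by
    rintro _ ⟨x, rfl⟩
    obtain ⟨y, hy1, hy2, hy3⟩ := hp x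
    rw [Scheme.Opens.range_ι]
    refine ⟨⟨y.1, hy3⟩, ?_, hy2⟩
    show (b ≫ f.domain.ι) _ ∈ W
    rw [hb]
    have : Y.homOfLE hVg ⟨y.1, hy3⟩ = y := Subtype.ext (Scheme.homOfLE_apply _ _)
    show g.hom (Y.homOfLE hVg ⟨y.1, hy3⟩) ∈ W
    rw [this, hy1]
    exact hUW x.2
  have hqU : Set.range q ⊆ Set.range U.ι := by
    rintro _ ⟨x, rfl⟩
    obtain ⟨y, hy1, hy2, hy3⟩ := hq x
    rw [Scheme.Opens.range_ι]
    refine ⟨⟨y.1, hy3⟩, ?_, hy2⟩
    show (a ≫ g.domain.ι) _ ∈ V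
    rw [ha]
    have : X.homOfLE hWf ⟨y.1, hy3⟩ = y := Subtype.ext (Scheme.homOfLE_apply _ _)
    show f.hom (X.homOfLE hWf ⟨y.1, hy3⟩) ∈ V
    rw [this, hy1]
    exact hUV x.2
  have h3 : ∀ (T : Scheme.{u}) (i : T ⟶ U), (∀ (j : T ⟶ U'), j ≫ U'.ι = i ≫ p → j ≫ q = i ≫ U.ι) := by
    intro T i j hj
    have e : j ≫ Y.homOfLE (hUV.trans hVg) = i ≫ X.homOfLE hUW ≫ a := by
      rw [← cancel_mono g.domain.ι, Category.assoc, Scheme.homOfLE_ι, hj, Category.assoc, Category.assoc,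
        ha, Scheme.homOfLE_homOfLE_assoc]
    show j ≫ _ ≫ g.hom = _
    rw [reassoc_of% e, ha', Scheme.homOfLE_ι]
  have h4 : ∀ (T : Scheme.{u}) (i : T ⟶ U'), (∀ (j : T ⟶ U), j ≫ U.ι = i ≫ q → j ≫ p = i ≫ U'.ι) := by
    intro T i j hj
    have e : j ≫ X.homOfLE (hUW.trans hWf) = i ≫ Y.homOfLE hUV ≫ b := by
      rw [← cancel_mono f.domain.ι, Category.assoc, Scheme.homOfLE_ι, hj, Category.assoc, Category.assoc,
        hb, Scheme.homOfLE_homOfLE_assoc]
    show j ≫ _ ≫ f.hom = _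
    rw [reassoc_of% e, hb', Scheme.homOfLE_ι]
  let φ : (U : Scheme) ⟶ U' := IsOpenImmersion.lift U'.ι p hpU
  let ψ : (U' : Scheme) ⟶ U := IsOpenImmersion.lift U.ι q hqU
  have hne : (U : Set X).Nonempty := by
    have hf : IsDominant (a ≫ g.domain.ι) := by
      rw [ha]; exact PartialMap.isDominant_restrict_hom f W hW hWf
    obtain ⟨_, hy, x, rfl⟩ := (a ≫ g.domain.ι).denseRange.inter_open_nonempty _ V.2 hV.nonempty
    exact ⟨W.ι x, x, hy, rfl⟩
  have hne' : (U' : Set Y).Nonempty := by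
    obtain ⟨x, hx⟩ := hne
    exact ⟨(φ ⟨x, hx⟩).1, (φ ⟨x, hx⟩).2⟩
  exact ⟨⟨U, U.2.dense hne, U', U'.2.dense hne',
    ⟨φ, ψ, by
      rw [← cancel_mono U.ι, Category.assoc, IsOpenImmersion.lift_fac, Category.id_comp]
      simpa using h3 _ (𝟙 _) φ (by simp [φ]),
    by
      rw [← cancel_mono U'.ι, Category.assoc, IsOpenImmersion.lift_fac, Category.id_comp]
      simpa using h4 _ (𝟙 _) ψ (by simp [ψ])⟩⟩⟩

/-- Let X and Y be integral schemes. Then X and Y have isomorphic dense open subschemes if and only if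
they are birational in the sense of rational maps, i.e. there exist dominant rational maps f : X ⤏ Y
and g : Y ⤏ X such that the composites g ∘ f and f ∘ g are the identity rational maps of X and of Y. -/
theorem result (X Y : Scheme.{u})
    [IsIntegral X] [IsIntegral Y] :
    Scheme.Birational X Y ↔
      ∃ (f : X ⤏ Y) (g : Y ⤏ X) (_ : f.IsDominant) (_ : g.IsDominant),
        f.comp g = Scheme.RationalMap.id X ∧ g.comp f = Scheme.RationalMap.id Y := by
  constructor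
  · rintro ⟨e⟩
    haveI : IsDominant e.target.ι := Opens.isDominant_ι e.dense_target
    haveI : IsDominant e.source.ι := Opens.isDominant_ι e.dense_source
    haveI : IsDominant e.toPartialMap.hom := by show IsDominant (e.iso.hom ≫ e.target.ι); infer_instance
    haveI : IsDominant e.symm.toPartialMap.hom := by show IsDominant (e.iso.inv ≫ e.source.ι); infer_instance
    refine ⟨e.toRationalMap, e.symm.toRationalMap, inferInstance, inferInstance, ?_, ?_⟩
    · rw [Scheme.RationalMap.toRationalMap_comp]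
      exact PartialMap.toRationalMap_eq_iff.2 (comp_equiv_id e)
    · rw [Scheme.RationalMap.toRationalMap_comp]
      exact PartialMap.toRationalMap_eq_iff.2 (comp_equiv_id e.symm)
  · rintro ⟨f, g, _, _, h₁, h₂⟩
    rw [← g.toRationalMap_representative, Scheme.RationalMap.comp_def] at h₁
    rw [← f.toRationalMap_representative, Scheme.RationalMap.comp_def] at h₂
    exact exists_partialIso f.representative g.representative
      (PartialMap.toRationalMap_eq_iff.1 h₁) (PartialMap.toRationalMap_eq_iff.1 h₂)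

end Groth.Agent.S14360
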