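import Groth.Statements.S14361
import Mathlib
-- import your own Groth.Agent.* helpers here

set_option autoImplicit false
universe u
open AlgebraicGeometry
open SchImage

namespace Groth.Agent.S14361

open CategoryTheory Limits AlgebraicGeometry TopologicalSpace Opposite
set_option backward.isDefEq.respectTransparency false

/-- Let π : X → Y be a morphism of schemes with X reduced. Then the scheme-theoretic image of π is
computed affine-locally: on every affine open U of Y, the ideal of the kernel ideal sheaf of π (the
largest quasi-coherent ideal sheaf contained in the componentwise kernels) equals the ideal of those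
sections over U which pull back to zero on π⁻¹(U). (The published statement allows, as an
alternative to X being reduced, that π be quasi-compact; this row is the reduced case and assumes no
quasi-compactness.) -/
theorem result (X Y : Scheme.{u}) [IsReduced X]
    (π : X ⟶ Y) (U : Y.affineOpens) :
    π.ker.ideal U = RingHom.ker (π.app U).hom := by
  have key : ∀ {V : X.Opens} (t g : Γ(X, V)),
      X.presheaf.map (homOfLE (X.basicOpen_le g)).op t = 0 → g * t = 0 := by
    intro V t g h
    rw [← basicOpen_eq_bot_iff, X.basicOpen_mul, inf_comm]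
    have h' : V ⊓ X.basicOpen g = X.basicOpen g := inf_eq_right.mpr (X.basicOpen_le g)
    have := X.basicOpen_res t (homOfLE (X.basicOpen_le g)).op
    rw [h, Scheme.basicOpen_zero] at this
    rw [inf_comm]; exact this.symm
  let I : Y.IdealSheafData := ⟨fun U => RingHom.ker (π.app U).hom, ?_, _, rfl⟩
  · exact congr($(Scheme.IdealSheafData.ofIdeals_ideal I).ideal U)
  intro V s
  apply le_antisymm
  · refine Ideal.map_le_iff_le_comap.mpr fun x hx ↦ ?_
    have e := congrArg (fun φ : Γ(Y, V) ⟶ Γ(X, π ⁻¹ᵁ Y.basicOpen s) => φ.hom x)
      (π.naturality (homOfLE (Y.basicOpen_le s)).op)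
    simp only [CommRingCat.hom_comp, RingHom.comp_apply] at e
    change (π.app (Y.basicOpen s)).hom ((Y.presheaf.map _).hom x) = 0
    rw [e, show (π.app V).hom x = 0 from hx, map_zero]
  · intro x hx
    have := V.2.isLocalization_basicOpen s
    obtain ⟨x, ⟨_, n, rfl⟩, rfl⟩ := IsLocalization.exists_mk'_eq (.powers s) x
    refine (IsLocalization.mk'_mem_map_algebraMap_iff _ _ _ _ _).mpr
      ⟨s, ⟨1, pow_one s⟩, ?_⟩
    replace hx : (π.app (Y.basicOpen s)).hom (algebraMap Γ(Y, V) _ x) = 0 := by
      change (π.app (Y.basicOpen s)).hom _ = 0 at hx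
      rw [← IsLocalization.mk'_spec' (M := .powers s), map_mul, hx, mul_zero]
    rw [RingHom.mem_ker, map_mul]
    apply key
    have hle : X.basicOpen ((π.app V).hom s) ≤ π ⁻¹ᵁ Y.basicOpen s :=
      (π.preimage_basicOpen s).ge
    have e := congrArg (fun φ : Γ(Y, V) ⟶ Γ(X, π ⁻¹ᵁ Y.basicOpen s) => φ.hom x)
      (π.naturality (homOfLE (Y.basicOpen_le s)).op)
    simp only [CommRingCat.hom_comp, RingHom.comp_apply] at e
    rw [RingHom.algebraMap_toAlgebra] at hx
    rw [hx] at e
    have := congrArg (fun y => (X.presheaf.map (homOfLE hle).op).hom y) e.symm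
    simp only [map_zero] at this
    rw [← CommRingCat.comp_apply, ← Functor.map_comp] at this
    exact this

end Groth.Agent.S14361
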