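import Groth.Statements.S14362
import Mathlib
import Groth.Agent.S14361
-- import your own Groth.Agent.* helpers here

set_option autoImplicit false
universe u
open AlgebraicGeometry
open SchImage

namespace Groth.Agent.S14362

open CategoryTheory Limits AlgebraicGeometry TopologicalSpace Opposite
set_option backward.isDefEq.respectTransparency false

/-- Let π : X → Y be a morphism of schemes with X reduced. Then the closed subset underlying the
scheme-theoretic image of π, i.e. the support of its kernel ideal sheaf, is the closure of the image
of π. (The published statement allows, as an alternative to X being reduced, that π be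
quasi-compact; this row is the reduced case and assumes no quasi-compactness.) -/
theorem result (X Y : Scheme.{u}) [IsReduced X]
    (π : X ⟶ Y) :
    (π.ker.support : Set Y) = closure (Set.range π) := by
  refine Set.Subset.antisymm ?_ ((π.ker.support.isClosed.closure_subset_iff).mpr π.range_subset_ker_support)
  intro y hy
  by_contra hy'
  obtain ⟨_, ⟨U, hU, rfl⟩, hyU, -⟩ :=
    Y.isBasis_affineOpens.exists_subset_of_mem_open (Set.mem_univ y) isOpen_univ
  obtain ⟨a, ha, hya⟩ := IsAffineOpen.exists_basicOpen_le hU
    (V := ⟨_, isClosed_closure.isOpen_compl⟩) ⟨y, hy'⟩ hyU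
  have hker : a ∈ π.ker.ideal ⟨U, hU⟩ := by
    rw [Groth.Agent.S14361.result X Y π ⟨U, hU⟩, RingHom.mem_ker, ← basicOpen_eq_bot_iff,
      ← π.preimage_basicOpen]
    ext x
    simp only [Opens.coe_bot, Set.mem_empty_iff_false, iff_false]
    exact fun hx => ha hx (subset_closure (Set.mem_range_self x))
  have hz : y ∈ Y.zeroLocus (U := U) (π.ker.ideal ⟨U, hU⟩ : Set Γ(Y, U)) :=
    ((π.ker.coe_support_inter ⟨U, hU⟩).le ⟨hy, hyU⟩).1
  exact (Scheme.mem_zeroLocus_iff _ _ _).mp hz a hker hya

end Groth.Agent.S14362
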