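import Groth.Statements.S14363
import Mathlib

set_option autoImplicit false
universe u
open CAlg

namespace Groth.Agent.S14363

/-- Let A be a Noetherian ring and 0 → M' → M → M'' → 0 a short exact sequence of A-modules. If a prime
p of A is an associated prime of M'' and is not in the support of M', then p is an associated prime
of M. -/
theorem result (A : Type u) [CommRing A] [IsNoetherianRing A]
    (M' M M'' : Type u) [AddCommGroup M'] [Module A M'] [AddCommGroup M] [Module A M]
    [AddCommGroup M''] [Module A M'']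
    (f : M' →ₗ[A] M) (g : M →ₗ[A] M'') (hf : Function.Injective f) (hg : Function.Surjective g)
    (hfg : Function.Exact f g)
    (p : PrimeSpectrum A) (hp : p.asIdeal ∈ associatedPrimes A M'') (hsupp : p ∉ Module.support A M') :
    p.asIdeal ∈ associatedPrimes A M := by
  classical
  rw [AssociatedPrimes.mem_iff, isAssociatedPrime_iff] at hp ⊢
  obtain ⟨hP, z, hz⟩ := hp
  have hz' : ∀ r, r ∈ p.asIdeal ↔ r • z = 0 := fun r => by rw [hz]; simp
  refine ⟨hP, ?_⟩
  obtain ⟨m, rfl⟩ := hg z
  obtain ⟨t, ht⟩ := IsNoetherian.noetherian p.asIdeal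
  rw [Module.notMem_support_iff'] at hsupp
  have h1 : ∀ r ∈ t, ∃ s ∉ p.asIdeal, s • r • m = 0 := by
    intro r hr
    obtain ⟨y, hy⟩ := (hfg (r • m)).1 (by rw [map_smul]; exact (hz' r).1 (ht ▸ Submodule.subset_span hr))
    obtain ⟨s, hs, hsy⟩ := hsupp y
    exact ⟨s, hs, by rw [← hy, ← map_smul, hsy, map_zero]⟩
  choose s hs hsm using h1
  set S := ∏ r ∈ t.attach, s r.1 r.2
  have hS : S ∉ p.asIdeal := fun h => by
    obtain ⟨r, -, hr⟩ := hP.prod_mem_iff.1 h
    exact hs _ _ hr
  refine ⟨S • m, Submodule.ext fun r => ?_⟩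
  rw [Submodule.mem_colon_singleton, Submodule.mem_bot]
  constructor
  · intro hr
    rw [← ht] at hr
    induction hr using Submodule.span_induction with
    | mem x hx =>
      rw [smul_comm]
      show (∏ r ∈ t.attach, s r.1 r.2) • x • m = 0
      rw [← Finset.mul_prod_erase _ _ (Finset.mem_attach t ⟨x, hx⟩), mul_comm, mul_smul, hsm, smul_zero]
    | zero => simp
    | add a b _ _ ha hb => rw [add_smul, ha, hb, add_zero]
    | smul a b _ hb => rw [smul_assoc, hb, smul_zero]
  · intro h
    have := congrArg g h
    rw [← mul_smul, map_smul, map_zero, ← hz'] at this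
    exact (hP.mem_or_mem this).resolve_right hS

end Groth.Agent.S14363
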