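import Groth.Statements.S14369
import Mathlib
import Groth.Agent.Variety2.IrrFibres

set_option autoImplicit false
universe u
open CategoryTheory CategoryTheory.Limits AlgebraicGeometry
open Variety

namespace Groth.Agent.S14369

/-- Let k be an algebraically closed field, X and Y schemes of finite type over k with Y irreducible,
and f : X → Y a k-morphism whose underlying continuous map is closed. Suppose that for some natural
number d the fibre of f over every closed point y of Y (the subspace of points mapping to y) is
irreducible of dimension d. Then X is irreducible and dim X = d + dim Y. (The published statement is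
for varieties, i.e. reduced separated schemes; this row assumes neither.) -/
theorem result (k : Type u) [Field k] [IsAlgClosed k]
    {X Y : Scheme.{u}} (qX : X ⟶ Spec (CommRingCat.of k)) (qY : Y ⟶ Spec (CommRingCat.of k))
    [LocallyOfFiniteType qX] [QuasiCompact qX] [LocallyOfFiniteType qY] [QuasiCompact qY]
    (f : X ⟶ Y) (hf : f ≫ qY = qX) [IrreducibleSpace ↥Y] (hcl : IsClosedMap f.base) (d : ℕ)
    (hirr : ∀ y : ↥Y, IsClosed ({y} : Set ↥Y) → IsIrreducible (f.base ⁻¹' {y}))
    (hdim : ∀ y : ↥Y, IsClosed ({y} : Set ↥Y) → topologicalKrullDim ↥(f.base ⁻¹' {y}) = d) :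
    IrreducibleSpace ↥X ∧ topologicalKrullDim ↥X = d + topologicalKrullDim ↥Y := by
  open Groth.Variety2.Dim in
  have := noetherianSpace_of qX
  open Groth.Variety2.Dim in
  have key := fun {ξ : X} (h : ∀ z, z ⤳ ξ → z = ξ) => component_spec qX qY f hf d hirr hdim h
  open Groth.Variety2.Dim in
  obtain ⟨ξ, hξ, hξη⟩ := exists_dominant_maximal qX qY f fun y hy => (hirr y hy).nonempty
  have hsurj : ∀ y : Y, ∃ x, ξ ⤳ x ∧ f x = y := by
    intro y
    obtain ⟨x, hx, rfl⟩ : y ∈ f.base '' closure {ξ} :=
      (genericPoint_specializes y).mem_closed (hcl _ isClosed_closure) ⟨ξ, subset_closure rfl, hξη⟩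
    exact ⟨x, specializes_iff_mem_closure.2 hx, rfl⟩
  have hall : ∀ x, ξ ⤳ x := by
    intro x
    refine specializes_iff_mem_closure.2 ?_
    by_contra hx
    obtain ⟨p, hp, hpc⟩ := exists_isClosed_singleton_mem qX isClosed_closure.isOpen_compl.isLocallyClosed ⟨x, hx⟩
    have hy := isClosed_image_singleton qX qY f hf hpc
    obtain ⟨z, hz, hzy⟩ := hsurj (f p)
    exact hp (specializes_iff_mem_closure.1 ((key hξ).1 z hz (hzy.symm ▸ hy) p hzy.symm))
  have hirrX : IrreducibleSpace X := by
    rw [irreducibleSpace_def]
    have : closure {ξ} = Set.univ := Set.eq_univ_of_forall fun x => specializes_iff_mem_closure.1 (hall x)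
    change IsIrreducible (Set.univ : Set _)
    exact this ▸ isIrreducible_singleton.closure
  refine ⟨hirrX, ?_⟩
  have hgen : genericPoint X = ξ := (hξ _ (genericPoint_specializes ξ))
  rw [dim_eq_height_genericPoint, dim_eq_height_genericPoint, hgen, (key hξ).2, hξη]
  rfl

end Groth.Agent.S14369
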