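import Groth.Statements.S14370
import Mathlib
import Groth.Agent.Variety2.IrrFibres

set_option autoImplicit false
universe u
open CategoryTheory CategoryTheory.Limits AlgebraicGeometry
open Variety

namespace Groth.Agent.S14370

/-- Let k be an algebraically closed field, X and Y schemes of finite type over k with Y irreducible,
and f : X → Y a k-morphism. Suppose that X is pure-dimensional (every irreducible component of X has
dimension dim X) and that for some natural number d the fibre of f over every closed point y of Y
(the subspace of points mapping to y) is irreducible of dimension d. Then X is irreducible and dim X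
= d + dim Y. (The published statement is for varieties, i.e. reduced separated schemes; this row
assumes neither.) -/
theorem result (k : Type u) [Field k] [IsAlgClosed k]
    {X Y : Scheme.{u}} (qX : X ⟶ Spec (CommRingCat.of k)) (qY : Y ⟶ Spec (CommRingCat.of k))
    [LocallyOfFiniteType qX] [QuasiCompact qX] [LocallyOfFiniteType qY] [QuasiCompact qY]
    (f : X ⟶ Y) (hf : f ≫ qY = qX) [IrreducibleSpace ↥Y]
    (hpure : ∀ Z ∈ irreducibleComponents (↥X), topologicalKrullDim ↥Z = topologicalKrullDim ↥X) (d : ℕ)
    (hirr : ∀ y : ↥Y, IsClosed ({y} : Set ↥Y) → IsIrreducible (f.base ⁻¹' {y}))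
    (hdim : ∀ y : ↥Y, IsClosed ({y} : Set ↥Y) → topologicalKrullDim ↥(f.base ⁻¹' {y}) = d) :
    IrreducibleSpace ↥X ∧ topologicalKrullDim ↥X = d + topologicalKrullDim ↥Y := by
  open Groth.Variety2.Dim in
  have := noetherianSpace_of qX
  open Groth.Variety2.Dim in
  have key := fun {ξ : X} (h : ∀ z, z ⤳ ξ → z = ξ) => component_spec qX qY f hf d hirr hdim h
  open Groth.Variety2.Dim in
  obtain ⟨ξ, hξ, hξη⟩ := exists_dominant_maximal qX qY f fun y hy => (hirr y hy).nonempty
  obtain ⟨Z, hZ, ξ', hg, hmax, hξ'⟩ := exists_component_generic ξ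
  obtain rfl := hξ ξ' hξ'
  have hdimX : topologicalKrullDim X = ((d + Order.height (genericPoint Y) : ℕ∞) : WithBot ℕ∞) := by
    rw [← hpure Z hZ, ← (hg : closure {ξ'} = Z), dim_closure_singleton, (key hmax).2, hξη]
  have hall : ∀ x, ξ' ⤳ x := by
    intro x
    obtain ⟨Z', hZ', ζ, hζ, hζmax, hζx⟩ := exists_component_generic x
    have h1 := hpure Z' hZ'
    rw [hdimX, ← (hζ : closure {ζ} = Z'), dim_closure_singleton, (key hζmax).2, WithBot.coe_inj] at h1
    replace h1 := ENat.add_right_injective_of_ne_top (ENat.coe_ne_top d) h1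
    have hζη : f ζ = genericPoint Y := by
      by_contra hne
      exact (height_toNat_lt qY (lt_iff.2 ⟨genericPoint_specializes (f ζ), hne⟩)).ne h1
    have := eq_of_irreducible_fibres qX qY f hf ⊤ ⟨genericPoint Y, trivial⟩ (fun y _ hy => hirr y hy) hζmax hmax hζη hξη
    exact this ▸ hζx
  have hirrX : IrreducibleSpace X := by
    rw [irreducibleSpace_def]
    have : closure {ξ'} = Set.univ := Set.eq_univ_of_forall fun x => specializes_iff_mem_closure.1 (hall x)
    change IsIrreducible (Set.univ : Set _)
    exact this ▸ isIrreducible_singleton.closure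
  refine ⟨hirrX, ?_⟩
  rw [hdimX, dim_eq_height_genericPoint]
  rfl

end Groth.Agent.S14370
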