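import Groth.Statements.S14373
import Groth.Agent.Misc6.GeneralMember

set_option autoImplicit false
universe u
open Fano

namespace Groth.Agent.S14373

/-- Over an algebraically closed field k of arbitrary characteristic, let d ≥ 2 and let U be a linear
subspace of k^(n+1) with 2 · dim U ≤ n + 1 (an r-plane P(U) in P^n with r ≤ (n − 1)/2). Let W be the
linear space of degree-d forms in n + 1 variables vanishing on U (hypersurfaces of degree d
containing P(U)). Then a general member G of W defines a smooth hypersurface: for G outside the zero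
set of some nonzero polynomial function on W, at every nonzero vector where G vanishes some partial
derivative of G is nonzero. -/
theorem result (k : Type u) [Field k] [IsAlgClosed k]
    (n d : ℕ) (hd : 2 ≤ d) (U : Submodule k (Fin (n + 1) → k)) (hU : 2 * Module.finrank k ↥U ≤ n + 1)
    (W : Submodule k (LefPen.Form n k d)) (hW : ∀ G : LefPen.Form n k d, G ∈ W ↔ ∀ u ∈ U, MvPolynomial.eval u G.1 = 0) :
    LefPen.IsGeneric k {G : ↥W | ∀ v : Fin (n + 1) → k, v ≠ 0 → MvPolynomial.eval v G.1.1 = 0 →
      ∃ i : Fin (n + 1), MvPolynomial.eval v (MvPolynomial.pderiv i G.1.1) ≠ 0} := by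
  classical
  set p := Module.finrank k ↥U with hp
  obtain ⟨U', hUU'⟩ := Submodule.exists_isCompl U
  have hdim : p + Module.finrank k ↥U' = n + 1 := by
    rw [hp, Submodule.finrank_add_eq_of_isCompl hUU', Module.finrank_fin_fun]
  let b : Module.Basis (Fin (n + 1)) k (Fin (n + 1) → k) :=
    ((((Module.finBasis k ↥U).prod (Module.finBasis k ↥U')).map
      (Submodule.prodEquivOfIsCompl U U' hUU')).reindex finSumFinEquiv).reindex (finCongr hdim)
  have hbU : ∀ i : Fin (n + 1), i.1 < p → b i ∈ U := by
    intro i hi
    have he : finSumFinEquiv.symm ((finCongr hdim).symm i) =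
        Sum.inl (⟨i.1, hi⟩ : Fin (Module.finrank k ↥U)) := by
      rw [Equiv.symm_apply_eq]
      apply Fin.ext
      simp [finSumFinEquiv_apply_left]
    simp only [b, Module.Basis.reindex_apply]
    rw [he]
    simp
  let g : (Fin (n + 1) → k) ≃ₗ[k] (Fin (n + 1) → k) := b.equivFun.symm
  have hgU : ∀ y : Fin (n + 1) → k, (∀ i : Fin (n + 1), p ≤ i.1 → y i = 0) → g y ∈ U := by
    intro y hy
    simp only [g, Module.Basis.equivFun_symm_apply]
    refine Submodule.sum_mem _ fun i _ => ?_
    by_cases hi : i.1 < p
    · exact Submodule.smul_mem _ _ (hbU i hi)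
    · rw [hy i (by omega), zero_smul]
      exact Submodule.zero_mem _
  have hUg : ∀ u ∈ U, ∀ i : Fin (n + 1), p ≤ i.1 → g.symm u i = 0 := by
    intro u hu i hi
    have he : ∃ l, finSumFinEquiv.symm ((finCongr hdim).symm i) = Sum.inr l := by
      rcases h : finSumFinEquiv.symm ((finCongr hdim).symm i) with l | l
      · exfalso
        rw [Equiv.symm_apply_eq] at h
        have := congrArg Fin.val h
        simp [finSumFinEquiv_apply_left] at this
        have := l.2
        omega
      · exact ⟨l, rfl⟩
    obtain ⟨l, hl⟩ := he
    have hu' : (Submodule.prodEquivOfIsCompl U U' hUU').symm u = (⟨u, hu⟩, 0) :=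
      Submodule.prodEquivOfIsCompl_symm_apply_left U U' hUU' ⟨u, hu⟩
    simp only [g, b, LinearEquiv.symm_symm, Module.Basis.equivFun_apply, Module.Basis.repr_reindex_apply]
    rw [hl]
    simp [hu']
  let lf : Fin (n + 1) → MvPolynomial (Fin (n + 1)) k := fun i =>
    ∑ j, MvPolynomial.C (g (Pi.single j 1) i) * MvPolynomial.X j
  have heval : ∀ y f, MvPolynomial.eval y (MvPolynomial.bind₁ lf f) = MvPolynomial.eval (g y) f := by
    intro y f
    change MvPolynomial.aeval y (MvPolynomial.aeval lf f) = _
    rw [MvPolynomial.comp_aeval_apply, MvPolynomial.aeval_eq_eval]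
    congr 2
    funext i
    conv_rhs => rw [pi_eq_sum_univ' y]
    simp [lf, map_sum, map_smul, mul_comm]
  let E := Groth.Misc6.GeneralMember.expos n d p
  let coefs : ↥W →ₗ[k] (↥E → k) :=
    { toFun := fun G e => MvPolynomial.coeff e.1 (MvPolynomial.bind₁ lf G.1.1)
      map_add' := fun G H => by funext e; simp
      map_smul' := fun t G => by funext e; simp }
  have hshape : ∀ G : ↥W, MvPolynomial.bind₁ lf G.1.1 =
      ∑ e : ↥E, MvPolynomial.monomial e.1 (coefs G e) := by
    intro G
    have hhom : (MvPolynomial.bind₁ lf G.1.1).IsHomogeneous d := by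
      have := MvPolynomial.IsHomogeneous.aeval (S := k) G.1.2 lf (n := 1) fun i =>
        MvPolynomial.IsHomogeneous.sum _ _ _ fun j _ =>
          (MvPolynomial.isHomogeneous_X k j).C_mul _
      rwa [one_mul] at this
    ext x
    by_cases hx : x ∈ E
    · rw [MvPolynomial.coeff_sum, Finset.sum_eq_single (⟨x, hx⟩ : ↥E)]
      · simp [coefs]
      · intro e _ hne
        rw [MvPolynomial.coeff_monomial, if_neg fun h => hne (Subtype.ext h)]
      · simp
    · rw [MvPolynomial.coeff_sum, Finset.sum_eq_zero fun e _ => by
        rw [MvPolynomial.coeff_monomial, if_neg fun h => hx (by rw [← h]; exact e.2)]]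
      by_cases hdeg : x.degree = d
      · rw [Groth.Misc6.GeneralMember.mem_expos] at hx
        push Not at hx
        have hxs := hx hdeg
        let P : Fin (n + 1) → MvPolynomial (Fin (n + 1)) k := fun i =>
          if i.1 < p then MvPolynomial.X i else 0
        have hz : MvPolynomial.aeval P (MvPolynomial.bind₁ lf G.1.1) = 0 :=
          MvPolynomial.funext fun y => by
            rw [map_zero]
            change MvPolynomial.aeval y (MvPolynomial.aeval P _) = 0
            rw [MvPolynomial.comp_aeval_apply, MvPolynomial.aeval_eq_eval, heval]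
            exact (hW G.1).1 G.2 _ (hgU _ fun i hi => by
              simp [P, show ¬ i.1 < p by omega])
        have h1 := congrArg (MvPolynomial.coeff x) hz
        rw [(MvPolynomial.bind₁ lf G.1.1).as_sum, map_sum, MvPolynomial.coeff_sum,
          Finset.sum_eq_single x] at h1
        · rw [MvPolynomial.aeval_monomial, Finsupp.prod,
            Finset.prod_congr rfl (fun i hi => by
              rw [show P i = MvPolynomial.X i from if_pos (by
                by_contra hlt
                exact Finsupp.mem_support_iff.1 hi (hxs i (by omega)))]),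
            MvPolynomial.prod_X_pow_eq_monomial, MvPolynomial.algebraMap_eq,
            MvPolynomial.C_mul_monomial, mul_one, MvPolynomial.coeff_monomial, if_pos rfl] at h1
          simpa using h1
        · intro e _ hne
          rw [MvPolynomial.aeval_monomial, Finsupp.prod]
          by_cases hs : ∀ i ∈ e.support, i.1 < p
          · rw [Finset.prod_congr rfl (fun i hi => by
              rw [show P i = MvPolynomial.X i from if_pos (hs i hi)]),
              MvPolynomial.prod_X_pow_eq_monomial, MvPolynomial.algebraMap_eq,
              MvPolynomial.C_mul_monomial, MvPolynomial.coeff_monomial, if_neg hne]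
          · push Not at hs
            obtain ⟨i, hi, hpi⟩ := hs
            rw [Finset.prod_eq_zero hi (by
              rw [show P i = 0 from if_neg (by omega), zero_pow (Finsupp.mem_support_iff.1 hi)]),
              mul_zero, MvPolynomial.coeff_zero]
        · intro hxn
          rw [MvPolynomial.notMem_support_iff.1 hxn]
          simp
      · exact hhom.coeff_eq_zero hdeg
  obtain ⟨P, hP, hPv⟩ := Groth.Misc6.GeneralMember.exists_poly (n := n) k d hd p hU
  refine ⟨fun G => MvPolynomial.eval (coefs G) P, ?_, ?_, ?_⟩
  · let crd : ↥E → ↥W → k := fun e G => coefs G e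
    have hmem : MvPolynomial.aeval crd P ∈ Algebra.adjoin k
        (Set.range (fun l : Module.Dual k ↥W => (l : ↥W → k))) := by
      have h1 : MvPolynomial.aeval crd P ∈ Algebra.adjoin k (Set.range crd) := by
        rw [Algebra.adjoin_range_eq_range_aeval]
        exact AlgHom.mem_range_self _ _
      refine Algebra.adjoin_le ?_ h1
      rintro _ ⟨e, rfl⟩
      exact Algebra.subset_adjoin ⟨(LinearMap.proj e).comp coefs, rfl⟩
    have : MvPolynomial.aeval crd P = fun G => MvPolynomial.eval (coefs G) P := by
      funext G
      change (Pi.evalAlgHom k (fun _ : ↥W => k) G) (MvPolynomial.aeval crd P) = _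
      rw [MvPolynomial.comp_aeval_apply, MvPolynomial.aeval_eq_eval]
      rfl
    rw [← this]
    exact hmem
  · obtain ⟨c, hc⟩ : ∃ c, MvPolynomial.eval c P ≠ 0 := by
      by_contra! hne
      exact hP (MvPolynomial.funext fun c => by rw [hne c, map_zero])
    let li : Fin (n + 1) → MvPolynomial (Fin (n + 1)) k := fun i =>
      ∑ j, MvPolynomial.C (g.symm (Pi.single j 1) i) * MvPolynomial.X j
    let G0 := MvPolynomial.bind₁ li (∑ e : ↥E, MvPolynomial.monomial e.1 (c e))
    have hevi : ∀ z f, MvPolynomial.eval z (MvPolynomial.bind₁ li f) =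
        MvPolynomial.eval (g.symm z) f := by
      intro z f
      change MvPolynomial.aeval z (MvPolynomial.aeval li f) = _
      rw [MvPolynomial.comp_aeval_apply, MvPolynomial.aeval_eq_eval]
      congr 2
      funext i
      conv_rhs => rw [pi_eq_sum_univ' z]
      simp [li, map_sum, map_smul, mul_comm]
    have hG0 : G0.IsHomogeneous d := by
      have h' : (∑ e : ↥E, MvPolynomial.monomial e.1 (c e)).IsHomogeneous d :=
        MvPolynomial.IsHomogeneous.sum _ _ _ fun e _ => MvPolynomial.isHomogeneous_monomial _
          (Groth.Misc6.GeneralMember.mem_expos.1 e.2).1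
      have := MvPolynomial.IsHomogeneous.aeval (S := k) h' li (n := 1) fun i =>
        MvPolynomial.IsHomogeneous.sum _ _ _ fun j _ =>
          (MvPolynomial.isHomogeneous_X k j).C_mul _
      rwa [one_mul] at this
    have hG0W : (⟨G0, hG0⟩ : LefPen.Form n k d) ∈ W := by
      rw [hW]
      intro u hu
      change MvPolynomial.eval u G0 = 0
      rw [hevi, map_sum]
      refine Finset.sum_eq_zero fun e _ => ?_
      obtain ⟨i, hi, hei⟩ := (Groth.Misc6.GeneralMember.mem_expos.1 e.2).2
      rw [MvPolynomial.eval_monomial, Finsupp.prod,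
        Finset.prod_eq_zero (Finsupp.mem_support_iff.2 hei)
          (by rw [hUg u hu i hi, zero_pow hei]), mul_zero]
    refine ⟨⟨⟨G0, hG0⟩, hG0W⟩, ?_⟩
    intro h
    apply hc
    refine Eq.trans (congrArg (fun z => MvPolynomial.eval z P) ?_) h
    funext e
    change c e = MvPolynomial.coeff e.1 (MvPolynomial.bind₁ lf G0)
    rw [show MvPolynomial.bind₁ lf G0 = ∑ e : ↥E, MvPolynomial.monomial e.1 (c e) from
      MvPolynomial.funext fun y => by rw [heval, hevi, LinearEquiv.symm_apply_apply],
      MvPolynomial.coeff_sum, Finset.sum_eq_single e]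
    · simp
    · intro e' _ hne
      rw [MvPolynomial.coeff_monomial, if_neg fun h' => hne (Subtype.ext h')]
    · simp
  · intro G hne v hv hv0
    by_contra hbad
    push Not at hbad
    refine hne (hPv (coefs G) (g.symm v) (fun h => hv (by simpa using congrArg g h)) ?_ fun j => ?_)
    · rw [← hshape, heval, LinearEquiv.apply_symm_apply]
      exact hv0
    · rw [← hshape, Groth.Agent.S14372.pderiv_bind₁, map_sum]
      refine Finset.sum_eq_zero fun i _ => ?_
      rw [map_mul, heval, LinearEquiv.apply_symm_apply, hbad i, zero_mul]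

end Groth.Agent.S14373
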