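import Groth.Statements.S14374
import Groth.Agent.Misc6.Discriminant

set_option autoImplicit false
universe u
open Fano

namespace Groth.Agent.S14374

/-- Over an algebraically closed field k of arbitrary characteristic, let n ≥ 1 and d ≥ 2, and call a
degree-d form G in n + 1 variables singular when there is a nonzero vector v with G(v) = 0 and all
partial derivatives ∂G/∂x_i(v) = 0 (the hypersurface G = 0 in P^n has a singular point, or G = 0).
Then the singular forms are exactly the zero set of one irreducible polynomial function Δ on the
vector space of degree-d forms: the locus of singular hypersurfaces is an irreducible hypersurface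
in the parameter space. (The published statement concerns the reduced hypersurfaces in the
projective space of degree-d forms, where the singular ones form an irreducible closed subset of
codimension one, and allows every positive degree; for d = 1 no hyperplane is singular, so this row
assumes d ≥ 2, and it is stated on the affine space of all forms.) -/
theorem result (k : Type u) [Field k] [IsAlgClosed k]
    (n d : ℕ) (hn : 1 ≤ n) (hd : 2 ≤ d) :
    ∃ Δ : ↥(Algebra.adjoin k (Set.range (fun l : Module.Dual k (LefPen.Form n k d) => (l : LefPen.Form n k d → k)))),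
      Irreducible Δ ∧ ∀ G : LefPen.Form n k d,
        (∃ v : Fin (n + 1) → k, v ≠ 0 ∧ MvPolynomial.eval v G.1 = 0 ∧
          ∀ i : Fin (n + 1), MvPolynomial.eval v (MvPolynomial.pderiv i G.1) = 0) ↔ Δ.1 G = 0 := by
  classical
  obtain ⟨Δ0, hirr, hΔ0⟩ := Groth.Misc6.Discriminant.exists_discriminant (k := k) (n := n) hd
  let crd : Groth.Misc6.Discriminant.Exps n d → LefPen.Form n k d → k :=
    fun e G => MvPolynomial.coeff e.1 G.1
  let A := Algebra.adjoin k (Set.range (fun l : Module.Dual k (LefPen.Form n k d) => (l : LefPen.Form n k d → k)))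
  let b : LefPen.Form n k d →ₗ[k] (Groth.Misc6.Discriminant.Exps n d → k) :=
    { toFun := fun G e => MvPolynomial.coeff e.1 G.1
      map_add' := fun G H => funext fun e => MvPolynomial.coeff_add _ _ _
      map_smul' := fun t G => funext fun e => MvPolynomial.coeff_smul _ _ _ }
  let Φ : MvPolynomial (Groth.Misc6.Discriminant.Exps n d) k →ₐ[k] ↥A :=
    MvPolynomial.aeval fun e => ⟨crd e, Algebra.subset_adjoin ⟨(LinearMap.proj e).comp b, rfl⟩⟩
  have hΦ : ∀ f G, (Φ f).1 G = MvPolynomial.eval (b G) f := by
    intro f G
    change ((Pi.evalAlgHom k (fun _ : LefPen.Form n k d => k) G).comp A.val) (Φ f) = _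
    simp only [Φ]
    rw [MvPolynomial.comp_aeval_apply, MvPolynomial.aeval_eq_eval]
    rfl
  have hbform : ∀ c, ∃ G : LefPen.Form n k d, b G = c := fun c =>
    ⟨⟨Groth.Misc6.Discriminant.form c, Groth.Misc6.Discriminant.isHomogeneous_form c⟩,
      funext fun e => Groth.Misc6.Discriminant.coeff_form c e⟩
  have hinj : Function.Injective Φ := (injective_iff_map_eq_zero _).2 fun f hf =>
    MvPolynomial.funext fun c => by
      obtain ⟨G, rfl⟩ := hbform c
      rw [map_zero, ← hΦ, hf]
      rfl
  have hsurj : Function.Surjective Φ := by
    have hle : A ≤ (A.val.comp Φ).range := by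
      refine Algebra.adjoin_le ?_
      rintro _ ⟨l, rfl⟩
      choose G hG using fun e : Groth.Misc6.Discriminant.Exps n d => hbform (Pi.single e 1)
      refine ⟨∑ e, MvPolynomial.C (l (G e)) * MvPolynomial.X e, funext fun H => ?_⟩
      change (Φ _).1 H = l H
      rw [hΦ]
      have hH : H = ∑ e, b H e • G e := by
        refine Subtype.ext ?_
        rw [← Groth.Misc6.Discriminant.form_coeff H.2, Submodule.coe_sum,
          Groth.Misc6.Discriminant.form]
        refine Finset.sum_congr rfl fun e _ => ?_
        have hGe : (G e).1 = MvPolynomial.monomial e.1 1 := by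
          rw [← Groth.Misc6.Discriminant.form_coeff (G e).2, Groth.Misc6.Discriminant.form,
            Finset.sum_eq_single e]
          · rw [show MvPolynomial.coeff e.1 (G e).1 = 1 from (congrFun (hG e) e).trans (Pi.single_eq_same e 1)]
          · intro e' _ hne
            rw [show MvPolynomial.coeff e'.1 (G e).1 = 0 from
              (congrFun (hG e) e').trans (Pi.single_eq_of_ne hne 1), map_zero]
          · simp
        rw [Submodule.coe_smul, hGe, MvPolynomial.smul_monomial, smul_eq_mul, mul_one]
        rfl
      conv_rhs => rw [hH]
      simp [mul_comm]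
    intro g
    obtain ⟨f, hf⟩ := hle g.2
    exact ⟨f, Subtype.ext hf⟩
  let E := AlgEquiv.ofBijective Φ ⟨hinj, hsurj⟩
  refine ⟨E Δ0, (MulEquiv.irreducible_iff E.toMulEquiv).2 hirr, fun G => ?_⟩
  change _ ↔ (Φ Δ0).1 G = 0
  rw [hΦ, ← hΔ0, show Groth.Misc6.Discriminant.form (b G) = G.1 from
    Groth.Misc6.Discriminant.form_coeff G.2]

end Groth.Agent.S14374
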