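import Groth.Statements.S14375
import Groth.Agent.VarietyBC.Fibre
import Mathlib

set_option autoImplicit false
universe u
open CategoryTheory CategoryTheory.Limits AlgebraicGeometry
open Variety

namespace Groth.Agent.S14375

/-- Let k be an algebraically closed field, F an irreducible scheme of finite type over k, and f : X → Y
a k-morphism of schemes of finite type over k with Y irreducible which is locally trivial with fibre
F: every point of Y has an open neighbourhood V such that f⁻¹(V) is isomorphic over V to V ×_k F.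
Then X is irreducible. (The published statement is for varieties, i.e. reduced separated schemes;
this row assumes neither.) -/
theorem result (k : Type u) [Field k] [IsAlgClosed k]
    {X Y F : Scheme.{u}} (qX : X ⟶ Spec (CommRingCat.of k)) (qY : Y ⟶ Spec (CommRingCat.of k))
    (qF : F ⟶ Spec (CommRingCat.of k))
    [LocallyOfFiniteType qX] [QuasiCompact qX] [LocallyOfFiniteType qY] [QuasiCompact qY]
    [LocallyOfFiniteType qF] [QuasiCompact qF] [IrreducibleSpace ↥F] [IrreducibleSpace ↥Y]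
    (f : X ⟶ Y) (hf : f ≫ qY = qX)
    (htriv : ∀ y : ↥Y, ∃ V : Y.Opens, y ∈ V ∧
      ∃ e : (↑(f ⁻¹ᵁ V) : Scheme.{u}) ≅ pullback (V.ι ≫ qY) qF, e.hom ≫ pullback.fst (V.ι ≫ qY) qF = f ∣_ V) :
    IrreducibleSpace ↥X := by
  letI : F.Over (Spec (CommRingCat.of k)) := ⟨qF⟩
  have hsc : Groth.VarietyBC.SepClosedAt k F (genericPoint F) := by
    letI := Curv2.resAlgebra k F (genericPoint F)
    intro a ha
    have hint : IsIntegral k a := ha.isIntegral
    exact minpoly.mem_range_of_degree_eq_one k a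
      (IsAlgClosed.degree_eq_one_of_irreducible k (minpoly.irreducible hint))
  have hgi : GeometricallyIrreducible qF := Groth.VarietyBC.geometricallyIrreducible_of_sepClosedAt (X := F) hsc
  have huo : UniversallyOpen qF := inferInstance
  have hsurjF : Surjective qF :=
    ⟨fun s => ⟨Classical.arbitrary F, Subsingleton.elim (α := PrimeSpectrum k) _ _⟩⟩
  -- each trivialising open has irreducible preimage surjecting onto it
  have key : ∀ y : Y, ∃ V : Y.Opens, y ∈ V ∧ IsIrreducible ((f ⁻¹ᵁ V : X.Opens) : Set X) ∧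
      ∀ z ∈ V, ∃ x, f x = z := by
    intro y
    obtain ⟨V, hyV, e, he⟩ := htriv y
    have : IrreducibleSpace ↥(V : Scheme) := by
      refine (isIrreducible_iff_irreducibleSpace (s := (V : Set Y))).1 ?_
      exact (IrreducibleSpace.isIrreducible_univ Y).isPreirreducible.open_subset V.isOpen (Set.subset_univ _) |>
        fun h => ⟨⟨y, hyV⟩, h⟩
    have hirr : IrreducibleSpace ↥(pullback (V.ι ≫ qY) qF) := inferInstance
    have : IrreducibleSpace ↥(↑(f ⁻¹ᵁ V) : Scheme.{u}) := e.hom.homeomorph.irreducibleSpace_iff.2 hirr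
    refine ⟨V, hyV, isIrreducible_iff_irreducibleSpace.2 this, fun z hz => ?_⟩
    obtain ⟨w, hw⟩ := (pullback.fst (V.ι ≫ qY) qF).surjective ⟨z, hz⟩
    obtain ⟨v, rfl⟩ := e.hom.surjective w
    refine ⟨(f ⁻¹ᵁ V).ι v, ?_⟩
    rw [← Scheme.Hom.comp_apply, ← morphismRestrict_ι, ← he, Scheme.Hom.comp_apply, Scheme.Hom.comp_apply, hw]
    rfl
  have : Nonempty X := by
    obtain ⟨V, hy, -, hs⟩ := key (Classical.arbitrary Y)
    exact ⟨(hs _ hy).choose⟩
  refine @IrreducibleSpace.mk _ _ ⟨fun u v hu hv hnu hnv => ?_⟩ this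
  obtain ⟨a, -, hau⟩ := hnu
  obtain ⟨b, -, hbv⟩ := hnv
  obtain ⟨V, haV, hVi, hVs⟩ := key (f a)
  obtain ⟨W, hbW, hWi, -⟩ := key (f b)
  obtain ⟨z, -, hzV, hzW⟩ := (IrreducibleSpace.isIrreducible_univ Y).2 V W V.isOpen W.isOpen
    ⟨f a, trivial, haV⟩ ⟨f b, trivial, hbW⟩
  obtain ⟨x, hx⟩ := hVs z hzV
  obtain ⟨x1, hx1V, hx1u, hx1W⟩ := hVi.2 u (f ⁻¹ᵁ W : X.Opens) hu (f ⁻¹ᵁ W).isOpen ⟨a, haV, hau⟩
    ⟨x, by rw [SetLike.mem_coe, Scheme.Hom.mem_preimage, hx]; exact hzV, by rw [SetLike.mem_coe, Scheme.Hom.mem_preimage, hx]; exact hzW⟩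
  obtain ⟨x2, -, hx2u, hx2v⟩ := hWi.2 u v hu hv ⟨x1, hx1W, hx1u⟩ ⟨b, hbW, hbv⟩
  exact ⟨x2, trivial, hx2u, hx2v⟩

end Groth.Agent.S14375
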