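import Groth.Statements.S14376
import Groth.Agent.VectorBundles.Elimination
import Groth.Agent.SGA7.Forms
import Mathlib.RingTheory.MvPolynomial.IrreducibleQuadratic
import Mathlib.RingTheory.Polynomial.UniqueFactorization

set_option autoImplicit false
universe u
open Fano

namespace Groth.Agent.S14376

open MvPolynomial Groth.VectorBundles.Elim

variable {k : Type u} [Field k]

/-- Factors of a nonzero homogeneous polynomial are homogeneous. -/
theorem exists_isHomogeneous_of_mul {σ : Type*} {G H : MvPolynomial σ k} {d : ℕ}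
    (h : (G * H).IsHomogeneous d) (hGH : G * H ≠ 0) :
    ∃ i j, i + j = d ∧ G.IsHomogeneous i ∧ H.IsHomogeneous j := by
  classical
  let φ : MvPolynomial σ k →+* Polynomial (MvPolynomial σ k) :=
    eval₂Hom (Polynomial.C.comp C) fun i => Polynomial.C (X i) * Polynomial.X
  have hφ : ∀ (P : MvPolynomial σ k) (j : ℕ), (φ P).coeff j = homogeneousComponent j P := by
    intro P j
    induction P using MvPolynomial.induction_on' with
    | monomial a c =>
      have h1 : φ (monomial a c) = Polynomial.C (monomial a c) * Polynomial.X ^ a.degree := by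
        simp only [φ, eval₂Hom_monomial, RingHom.comp_apply, Finsupp.prod, mul_pow,
          Finset.prod_mul_distrib, Finset.prod_pow_eq_pow_sum, ← map_pow, ← map_prod]
        rw [← mul_assoc, ← map_mul, monomial_eq, Finsupp.degree_apply, Finsupp.prod]
      rw [h1, Polynomial.coeff_C_mul_X_pow,
        homogeneousComponent_of_mem (isHomogeneous_monomial c rfl)]
    | add p q hp hq => rw [map_add, Polynomial.coeff_add, hp, hq, map_add]
  have hne : ∀ P : MvPolynomial σ k, P ≠ 0 → φ P ≠ 0 := by
    intro P hP h0
    refine hP ?_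
    rw [← sum_homogeneousComponent P]
    exact Finset.sum_eq_zero fun i _ => by rw [← hφ, h0, Polynomial.coeff_zero]
  have hG := hne G (left_ne_zero_of_mul hGH)
  have hH := hne H (right_ne_zero_of_mul hGH)
  have hFC : φ (G * H) = Polynomial.C (G * H) * Polynomial.X ^ d := by
    ext1 j
    rw [hφ, Polynomial.coeff_C_mul_X_pow, homogeneousComponent_of_mem h]
  have h1 := Polynomial.natDegree_mul hG hH
  have h2 := Polynomial.natTrailingDegree_mul hG hH
  rw [← map_mul, hFC, Polynomial.natDegree_C_mul_X_pow d _ hGH] at h1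
  rw [← map_mul, hFC, Polynomial.natTrailingDegree_mul_X_pow
    (Polynomial.C_ne_zero.2 hGH), Polynomial.natTrailingDegree_C, zero_add] at h2
  have h3 := Polynomial.natTrailingDegree_le_natDegree (φ G)
  have h4 := Polynomial.natTrailingDegree_le_natDegree (φ H)
  have key : ∀ P : MvPolynomial σ k, (φ P).natTrailingDegree = (φ P).natDegree →
      P.IsHomogeneous (φ P).natDegree := by
    intro P hP a ha
    have hc : (φ P).coeff a.degree ≠ 0 := by
      rw [hφ]
      intro h0
      have := congrArg (coeff a) h0
      rw [coeff_homogeneousComponent, if_pos rfl, coeff_zero] at this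
      exact ha this
    have hle := Polynomial.le_natDegree_of_ne_zero hc
    have hge := Polynomial.natTrailingDegree_le_of_ne_zero hc
    rw [Pi.one_def, ← Finsupp.degree_eq_weight_one]
    omega
  exact ⟨_, _, h1.symm, key G (by omega), key H (by omega)⟩

variable [IsAlgClosed k] {n d : ℕ}

/-- Forms of degree `d` which are not a square of a form of degree `e` times another form. -/
def noSquare (n d e : ℕ) : Set (LefPen.Form n k d) :=
  {F | ∀ G : LefPen.Form n k e, G ≠ 0 → ∀ H : LefPen.Form n k (d - 2 * e), F.1 ≠ G.1 * G.1 * H.1}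

omit [IsAlgClosed k] in
theorem isPolyFun_coeff_prod {V : Type u} [AddCommGroup V] [Module k V] {σ α : Type*}
    (s : Finset α) (P : α → V → MvPolynomial σ k)
    (hP : ∀ i ∈ s, ∀ a, LefPen.IsPolyFun k (fun v => coeff a (P i v))) (a : σ →₀ ℕ) :
    LefPen.IsPolyFun k (fun v => coeff a (∏ i ∈ s, P i v)) := by
  classical
  induction s using Finset.induction_on generalizing a with
  | empty => simp only [Finset.prod_empty]; exact isPolyFun_const _
  | insert b s hb ih =>
    simp only [Finset.prod_insert hb, coeff_mul]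
    exact isPolyFun_sum _ fun p _ => isPolyFun_mul (hP b (Finset.mem_insert_self b s) _)
      (ih (fun i hi => hP i (Finset.mem_insert_of_mem hi)) _)

theorem isZOpen_noSquare (n d e : ℕ) (he : 2 * e ≤ d) :
    LefPen.IsZOpen k (noSquare (k := k) n d e) := by
  classical
  let A := {a : Fin (n + 1) →₀ ℕ | a.degree = e}
  let C' := {a : Fin (n + 1) →₀ ℕ | a.degree = d - 2 * e}
  let I := {a : Fin (n + 1) →₀ ℕ | a.degree = d}
  have : Finite A := Groth.SGA7.Forms.finite_exps n e
  have : Finite C' := Groth.SGA7.Forms.finite_exps n (d - 2 * e)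
  have : Finite I := Groth.SGA7.Forms.finite_exps n d
  let _ := Fintype.ofFinite A
  let _ := Fintype.ofFinite C'
  let Gt : MvPolynomial (Fin (n + 1)) (MvPolynomial A k) := ∑ a : A, monomial a.1 (X a)
  let B : LefPen.Form n k d → Matrix I (C' ⊕ Unit) (MvPolynomial A k) := fun F i j =>
    Sum.elim (fun c : C' => coeff i.1 (Gt * Gt * monomial c.1 1)) (fun _ => C (coeff i.1 F.1)) j
  let δ : C' ⊕ Unit → ℕ := Sum.elim (fun _ => 2) fun _ => 0
  have hGt : ∀ b, (coeff b Gt).IsHomogeneous 1 := by
    intro b
    simp only [Gt, coeff_sum, coeff_monomial]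
    refine IsHomogeneous.sum _ _ _ fun a _ => ?_
    split_ifs
    · exact isHomogeneous_X k a
    · exact isHomogeneous_zero _ _ _
  have hGG : ∀ b, (coeff b (Gt * Gt)).IsHomogeneous 2 := by
    intro b
    rw [coeff_mul]
    exact IsHomogeneous.sum _ _ _ fun p _ => (hGt _).mul (hGt _)
  have hB : ∀ F i j, (B F i j).IsHomogeneous (δ j) := by
    rintro F i (c | _)
    · simp only [B, δ, Sum.elim_inl, coeff_mul_monomial', mul_one]
      split_ifs
      · exact hGG _
      · exact isHomogeneous_zero _ _ _
    · exact isHomogeneous_C _ _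
  let Φ : ((C' ⊕ Unit) → I) → LefPen.Form n k d → MvPolynomial A k :=
    fun f F => ((B F).submatrix f id).det
  have key := isZOpen_forall_exists_eval_ne_zero (k := k) (V := LefPen.Form n k d)
    (fun _ => ∑ j, δ j) Φ ?_ ?_
  rotate_left
  · intro f F
    simp only [Φ, Matrix.det_apply', Matrix.submatrix_apply, id_eq]
    refine IsHomogeneous.sum _ _ _ fun s _ => ?_
    rw [← map_intCast (C : k →+* MvPolynomial A k)]
    exact IsHomogeneous.C_mul (IsHomogeneous.prod _ _ _ fun j _ => hB F _ j) _
  · intro f a
    simp only [Φ, Matrix.det_apply', Matrix.submatrix_apply, id_eq, coeff_sum,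
      ← map_intCast (C : k →+* MvPolynomial A k), coeff_C_mul]
    refine isPolyFun_sum _ fun s _ => isPolyFun_mul (isPolyFun_const _)
      (isPolyFun_coeff_prod _ _ (fun j _ a' => ?_) a)
    cases j with
    | inl c =>
      simp only [B, Sum.elim_inl]
      exact isPolyFun_const _
    | inr u =>
      simp only [B, Sum.elim_inr, coeff_C]
      by_cases ha : (0 : A →₀ ℕ) = a'
      · simp only [if_pos ha]
        exact Groth.SGA7.Forms.isPolyFun_linear
          ((lcoeff k ((f (s (Sum.inr u))).1 : Fin (n + 1) →₀ ℕ)).comp (CohB1.polyGrading n k d).subtype)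
      · simp only [if_neg ha]
        exact isPolyFun_const _
  convert key using 1
  let G : (A → k) → LefPen.Form n k e := fun x =>
    ⟨∑ a : A, monomial a.1 (x a), IsHomogeneous.sum _ _ _ fun a _ => isHomogeneous_monomial _ a.2⟩
  have hGval : ∀ x : A → k, MvPolynomial.map (eval x) Gt = (G x).1 := by
    intro x
    simp [Gt, G, map_sum, map_monomial]
  have hsum : ∀ (x : A → k) (v : C' ⊕ Unit → k) (F : LefPen.Form n k d) (i : I),
      ∑ j, eval x (B F i j) * v j = coeff i.1 ((G x).1 * (G x).1 *
        ∑ c : C', monomial c.1 (v (Sum.inl c)) + C (v (Sum.inr ())) * F.1) := by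
    intro x v F i
    rw [Fintype.sum_sum_type, coeff_add, coeff_C_mul, Finset.mul_sum, coeff_sum]
    refine congrArg₂ (· + ·) (Finset.sum_congr rfl fun c _ => ?_) (by simp [B, mul_comm])
    simp only [B, Sum.elim_inl]
    rw [← coeff_map, map_mul, map_mul, hGval, map_monomial, map_one, mul_comm _ (v (Sum.inl c)),
      ← coeff_C_mul, mul_left_comm, C_mul_monomial, mul_one]
  ext F
  constructor
  · intro hF x hx
    obtain ⟨f, hf⟩ := exists_det_submatrix_ne_zero
      (Matrix.of fun (i : I) (j : C' ⊕ Unit) => eval x (B F i j)) fun v hv => by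
      simp only [Matrix.of_apply, hsum] at hv
      set H := ∑ c : C', monomial c.1 (v (Sum.inl c)) with hH
      have hHhom : H.IsHomogeneous (d - 2 * e) :=
        IsHomogeneous.sum _ _ _ fun c _ => isHomogeneous_monomial _ c.2
      have heq : (G x).1 * (G x).1 * H + C (v (Sum.inr ())) * F.1 = 0 := by
        ext a
        by_cases ha : a.degree = d
        · exact hv ⟨a, ha⟩
        · have hh : ((G x).1 * (G x).1 * H + C (v (Sum.inr ())) * F.1).IsHomogeneous d := by
            refine IsHomogeneous.add ?_ (IsHomogeneous.C_mul F.2 _)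
            have := (IsHomogeneous.mul (IsHomogeneous.mul (G x).2 (G x).2) hHhom)
            rwa [show e + e + (d - 2 * e) = d by omega] at this
          rw [coeff_zero]
          exact hh.coeff_eq_zero ha
      have hG0 : G x ≠ 0 := by
        intro h0
        refine hx (funext fun a => ?_)
        have := congrArg (fun P : LefPen.Form n k e => coeff a.1 P.1) h0
        simpa [G, coeff_sum, coeff_monomial, Subtype.coe_inj] using this
      have ht : v (Sum.inr ()) = 0 := by
        by_contra ht
        refine hF (G x) hG0 ⟨C (-(v (Sum.inr ()))⁻¹) * H, IsHomogeneous.C_mul hHhom _⟩ ?_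
        have h' : C (v (Sum.inr ())) * F.1 = -((G x).1 * (G x).1 * H) :=
          eq_neg_of_add_eq_zero_right heq
        calc F.1 = C (v (Sum.inr ()))⁻¹ * (C (v (Sum.inr ())) * F.1) := by
              rw [← mul_assoc, ← map_mul, inv_mul_cancel₀ ht, map_one, one_mul]
          _ = _ := by simp only [h', map_neg]; ring
      have hG1 : (G x).1 ≠ 0 := fun h0 => hG0 (Subtype.ext h0)
      rw [ht, map_zero, zero_mul, add_zero, mul_eq_zero] at heq
      have hH0 : H = 0 := heq.resolve_left (mul_ne_zero hG1 hG1)
      funext j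
      rcases j with c | u
      · have := congrArg (coeff c.1) hH0
        simpa [hH, coeff_sum, coeff_monomial, Subtype.coe_inj] using this
      · exact ht
    refine ⟨f, ?_⟩
    simp only [Φ, RingHom.map_det]
    exact hf
  · intro hF G' hG' H' hFGH
    let x : A → k := fun a => coeff a.1 G'.1
    have hrec : ∀ {m : ℕ} [Fintype {a : Fin (n + 1) →₀ ℕ | a.degree = m}]
        (P : LefPen.Form n k m),
        ∑ a : {a : Fin (n + 1) →₀ ℕ | a.degree = m}, monomial a.1 (coeff a.1 P.1) = P.1 := by
      intro m _ P
      ext a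
      simp only [coeff_sum, coeff_monomial]
      by_cases ha : a.degree = m
      · rw [Finset.sum_eq_single ⟨a, ha⟩]
        · simp
        · intro b _ hb
          rw [if_neg fun h => hb (Subtype.ext h)]
        · simp
      · rw [Finset.sum_eq_zero fun b _ => if_neg fun h => ha (by rw [← h]; exact b.2)]
        exact (IsHomogeneous.coeff_eq_zero P.2 ha).symm
    have hx : x ≠ 0 := fun h0 => hG' <| Subtype.ext <| by
      rw [← hrec G']
      exact Finset.sum_eq_zero fun a _ => by
        rw [show coeff a.1 G'.1 = 0 from congrFun h0 a, monomial_zero]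
    obtain ⟨f, hf⟩ := hF x hx
    refine hf ?_
    simp only [Φ, RingHom.map_det]
    refine Matrix.exists_mulVec_eq_zero_iff.1
      ⟨Sum.elim (fun c : C' => coeff c.1 H'.1) (fun _ => -1), ?_, ?_⟩
    · exact fun h0 => by simpa using congrFun h0 (Sum.inr ())
    · funext j
      simp only [Matrix.mulVec, dotProduct, RingHom.mapMatrix_apply, Matrix.map_apply,
        Matrix.submatrix_apply, id_eq, Pi.zero_apply, hsum, Sum.elim_inl, Sum.elim_inr]
      rw [show (G x).1 = G'.1 from hrec G', hrec H', ← hFGH, map_neg, map_one, neg_one_mul,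
        add_neg_cancel, coeff_zero]

omit [IsAlgClosed k] in
/-- Nonzero squarefree forms are those without a square factor. -/
theorem squarefree_iff (F : LefPen.Form n k d) :
    Squarefree F.1 ↔ F ≠ 0 ∧ ∀ e : Fin (d / 2), F ∈ noSquare (k := k) n d (e.1 + 1) := by
  constructor
  · intro hF
    refine ⟨fun h0 => hF.ne_zero (by simp [h0]), fun e G hG H hFGH => ?_⟩
    have hu := hF G.1 ⟨H.1, hFGH⟩
    rw [isUnit_iff_totalDegree_of_isReduced] at hu
    have := IsHomogeneous.totalDegree G.2 fun h0 => hG (Subtype.ext h0)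
    omega
  · rintro ⟨h0, hF⟩ G ⟨H, hGH⟩
    have hne : F.1 ≠ 0 := fun h => h0 (Subtype.ext h)
    have hhom : (G * G * H).IsHomogeneous d := hGH ▸ F.2
    obtain ⟨i, j, hij, hG2, hH⟩ := exists_isHomogeneous_of_mul hhom (hGH ▸ hne)
    have hGG : G * G ≠ 0 := left_ne_zero_of_mul (hGH ▸ hne)
    obtain ⟨e, e', hee, hG, hG'⟩ := exists_isHomogeneous_of_mul hG2 hGG
    have hG0 : G ≠ 0 := left_ne_zero_of_mul hGG
    have he : e = e' := hG.inj_right hG' hG0
    rcases Nat.eq_zero_or_pos e with rfl | hepos
    · have hc : G = C (coeff 0 G) := totalDegree_eq_zero_iff_eq_C.1 (hG.totalDegree hG0)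
      rw [hc]
      refine (Ne.isUnit fun h => hG0 ?_).map C
      rw [hc, h, map_zero]
    · obtain ⟨e, rfl⟩ : ∃ m, e = m + 1 := ⟨e - 1, by omega⟩
      refine absurd hGH (hF ⟨e, by omega⟩ ⟨G, hG⟩ (fun h => hG0 congr(($h).1))
        ⟨H, ?_⟩)
      rwa [show d - 2 * (e + 1) = j by omega]

/-- Over an algebraically closed field k, let n ≥ 1 and d ≥ 1. In the vector space of degree-d forms in
n + 1 variables, the forms F that are squarefree (equivalently, nonzero with (F) a radical ideal:
the reduced hypersurfaces of degree d in P^n) form a Zariski-open subset, and this subset is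
nonempty. (The published statement allows projective space of every dimension n; for n = 0 and d ≥ 2
there is no squarefree form of degree d, so this row assumes n ≥ 1.) -/
theorem result (k : Type u) [Field k] [IsAlgClosed k]
    (n d : ℕ) (hn : 1 ≤ n) (hd : 1 ≤ d) :
    LefPen.IsZOpen k {F : LefPen.Form n k d | Squarefree F.1} ∧
      ({F : LefPen.Form n k d | Squarefree F.1}).Nonempty := by
  classical
  have hset : {F : LefPen.Form n k d | Squarefree F.1} =
      {F : LefPen.Form n k d | F ≠ 0} ∩ ⋂ e : Fin (d / 2), noSquare (k := k) n d (e.1 + 1) := by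
    ext F
    simp only [Set.mem_inter_iff, Set.mem_iInter]
    exact squarefree_iff F
  refine ⟨?_, ?_⟩
  · rw [hset]
    refine isZOpen_inter ?_ (isZOpen_iInter fun e => isZOpen_noSquare n d _ (by omega))
    intro F hF
    obtain ⟨a, ha⟩ := MvPolynomial.ne_zero_iff.1 fun h => hF (Subtype.ext h)
    exact ⟨fun G => coeff a G.1, Groth.SGA7.Forms.isPolyFun_linear
      ((lcoeff k a).comp (CohB1.polyGrading n k d).subtype), ha,
      fun G hG h0 => hG (by simp [h0])⟩
  · obtain ⟨n, rfl⟩ : ∃ m, n = m + 1 := ⟨n - 1, by omega⟩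
    let c : Fin d → k := fun i => Infinite.natEmbedding k i.1
    have hc : Function.Injective c := fun i j h =>
      Fin.ext ((Infinite.natEmbedding k).injective h)
    let ℓ : Fin d → MvPolynomial (Fin (n + 1 + 1)) k := fun i => X 0 - C (c i) * X 1
    have hhom : ∀ i, (ℓ i).IsHomogeneous 1 := fun i =>
      (isHomogeneous_X k 0).sub (IsHomogeneous.C_mul (isHomogeneous_X k 1) _)
    have hcoeff : ∀ i, coeff (Finsupp.single 0 1) (ℓ i) = 1 := fun i => by
      simp [ℓ, coeff_X, Finsupp.single_eq_single_iff]
    have hne : ∀ i, ℓ i ≠ 0 := fun i h => by simpa [h] using hcoeff i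
    have hirr : ∀ i, Irreducible (ℓ i) := fun i =>
      irreducible_of_totalDegree_eq_one ((hhom i).totalDegree (hne i))
        fun x hx => isUnit_of_dvd_one (hcoeff i ▸ hx _)
    refine ⟨⟨∏ i, ℓ i, ?_⟩, ?_⟩
    · have := IsHomogeneous.prod Finset.univ ℓ (fun _ => 1) fun i _ => hhom i
      simpa using this
    · suffices h : ∀ s : Finset (Fin d), Squarefree (∏ i ∈ s, ℓ i) from h Finset.univ
      intro s
      induction s using Finset.induction_on with
      | empty => simp
      | insert i s hi ih =>
        rw [Finset.prod_insert hi, squarefree_mul_iff]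
        refine ⟨IsRelPrime.prod_right fun j hj => ?_, (hirr i).squarefree, ih⟩
        rw [(hirr i).isRelPrime_iff_not_dvd]
        rintro ⟨q, hq⟩
        let p : Fin (n + 1 + 1) → k := Pi.single 0 (c i) + Pi.single 1 1
        have := congrArg (eval p) hq
        simp [ℓ, p, sub_eq_zero] at this
        exact hi (hc this ▸ hj)

end Groth.Agent.S14376
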