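import Groth.Statements.S14377
import Groth.Agent.Agf.NilpotentCone

set_option autoImplicit false
universe u
open Variety

namespace Groth.Agent.S14377

/-- Over an algebraically closed field k, let n ≥ 1 and let I be the ideal of the polynomial ring
k[x_ij] in the n² entries of the generic n × n matrix generated by the coefficients of t^0, …,
t^(n−1) in its characteristic polynomial, so that the zero locus of I in the affine space of n × n
matrices is the set of nilpotent matrices. Then the spectrum of k[x_ij]/I is irreducible and
k[x_ij]/I has Krull dimension n² − n: the nilpotent matrices form an irreducible closed subvariety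
of dimension n² − n of the space of all n × n matrices. -/
theorem result (k : Type u) [Field k] [IsAlgClosed k]
    (n : ℕ) (hn : 1 ≤ n) (I : Ideal (MvPolynomial (Fin n × Fin n) k))
    (hI : I = Ideal.span (Set.range (fun i : Fin n =>
      (Matrix.charpoly (Matrix.mvPolynomialX (Fin n) (Fin n) k)).coeff (i : ℕ)))) :
    IrreducibleSpace (PrimeSpectrum (MvPolynomial (Fin n × Fin n) k ⧸ I)) ∧
      ringKrullDim (MvPolynomial (Fin n × Fin n) k ⧸ I) = ((n ^ 2 - n : ℕ) : WithBot ℕ∞) := by
  subst hI
  refine ⟨?_, Groth.Agf.NilpotentCone.ringKrullDim_quotient k n⟩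
  let J := Groth.Agf.NilpotentCone.coneIdeal k n
  haveI : J.radical.IsPrime := Groth.Agf.NilpotentCone.isPrime_radical k n hn
  have hirr : IsIrreducible (PrimeSpectrum.zeroLocus (⊥ : Ideal (MvPolynomial (Fin n × Fin n) k ⧸ J)) :
      Set (PrimeSpectrum (MvPolynomial (Fin n × Fin n) k ⧸ J))) := by
    rw [PrimeSpectrum.isIrreducible_zeroLocus_iff]
    rw [show (⊥ : Ideal (MvPolynomial (Fin n × Fin n) k ⧸ J)) = J.map (Ideal.Quotient.mk J) from
      (Ideal.map_quotient_self J).symm, ← Ideal.map_radical_of_surjective Ideal.Quotient.mk_surjective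
      (by rw [Ideal.mk_ker])]
    exact Ideal.map_isPrime_of_surjective Ideal.Quotient.mk_surjective (by rw [Ideal.mk_ker]; exact Ideal.le_radical)
  rw [PrimeSpectrum.zeroLocus_bot] at hirr
  exact irreducibleSpace_def _ |>.2 hirr

end Groth.Agent.S14377
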