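import Groth.Statements.S14378
import Mathlib
import Groth.Agent.Variety2.IrrFibres

set_option autoImplicit false
universe u
open CategoryTheory CategoryTheory.Limits AlgebraicGeometry
open Variety

namespace Groth.Agent.S14378

/-- Let k be an algebraically closed field, X and Y schemes of finite type over k with Y irreducible,
and f : X → Y a k-morphism such that for some natural number d the fibre of f over every closed
point of Y (the subspace of points mapping to it) is irreducible of dimension d. Then (i) exactly
one irreducible component of X has dense image in Y, and (ii) each irreducible component Z of X is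
made up of whole fibres — if Z meets the fibre over a closed point then it contains it — and dim Z =
d + dim f(Z)‾, the dimension of the closure of its image. (The published assertions are for
varieties, i.e. reduced separated schemes; this row assumes neither.) -/
theorem result (k : Type u) [Field k] [IsAlgClosed k]
    {X Y : Scheme.{u}} (qX : X ⟶ Spec (CommRingCat.of k)) (qY : Y ⟶ Spec (CommRingCat.of k))
    [LocallyOfFiniteType qX] [QuasiCompact qX] [LocallyOfFiniteType qY] [QuasiCompact qY]
    (f : X ⟶ Y) (hf : f ≫ qY = qX) [IrreducibleSpace ↥Y] (d : ℕ)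
    (hirr : ∀ y : ↥Y, IsClosed ({y} : Set ↥Y) → IsIrreducible (f.base ⁻¹' {y}))
    (hdim : ∀ y : ↥Y, IsClosed ({y} : Set ↥Y) → topologicalKrullDim ↥(f.base ⁻¹' {y}) = d) :
    (∃! Z : Set ↥X, Z ∈ irreducibleComponents ↥X ∧ Dense (f.base '' Z)) ∧
      ∀ Z ∈ irreducibleComponents ↥X,
        (∀ y : ↥Y, IsClosed ({y} : Set ↥Y) → (f.base ⁻¹' {y} ∩ Z).Nonempty → f.base ⁻¹' {y} ⊆ Z) ∧
        topologicalKrullDim ↥Z = d + topologicalKrullDim ↥(closure (f.base '' Z)) := by
  open Groth.Variety2.Dim in
  have := noetherianSpace_of qX
  open Groth.Variety2.Dim in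
  have key := fun {ξ : X} (h : ∀ z, z ⤳ ξ → z = ξ) => component_spec qX qY f hf d hirr hdim h
  open Groth.Variety2.Dim in
  constructor
  · obtain ⟨ξ, hξ, hξη⟩ := exists_dominant_maximal qX qY f fun y hy => (hirr y hy).nonempty
    obtain ⟨Z, hZ, ξ', hg, hmax, hξ'⟩ := exists_component_generic ξ
    obtain rfl := hξ ξ' hξ'
    refine ⟨Z, ⟨hZ, ?_⟩, ?_⟩
    · refine dense_iff_closure_eq.2 (Set.eq_univ_of_forall fun y => ?_)
      have h1 : genericPoint Y ∈ f.base '' Z := ⟨ξ', hg.mem, hξη⟩
      exact closure_mono (Set.singleton_subset_iff.2 h1) (genericPoint_specializes y).mem_closure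
    · rintro Z' ⟨hZ', hd⟩
      obtain ⟨ζ, hζ, hζmax⟩ := exists_generic_of_component hZ'
      have hζη : f ζ = genericPoint Y := by
        refine (((genericPoint_specializes (f ζ)).antisymm ?_).eq).symm
        refine specializes_iff_mem_closure.2 (closure_minimal ?_ isClosed_closure (hd (genericPoint Y)))
        rintro _ ⟨x, hx, rfl⟩
        exact specializes_iff_mem_closure.1 ((hζ.specializes hx).map f.continuous)
      have := eq_of_irreducible_fibres qX qY f hf ⊤ ⟨genericPoint Y, trivial⟩ (fun y _ hy => hirr y hy) hζmax hmax hζη hξη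
      rw [← (hζ : closure {ζ} = Z'), ← (hg : closure {ξ'} = Z), this]
  · intro Z hZ
    obtain ⟨ξ, hg, hmax⟩ := exists_generic_of_component hZ
    refine ⟨?_, ?_⟩
    · rintro y hy ⟨x, hx, hxZ⟩ p hp
      have hx : f x = y := hx
      have hp : f p = y := hp
      refine Eq.subset (hg : closure {ξ} = Z) (specializes_iff_mem_closure.1 ?_)
      exact (key hmax).1 x (hg.specializes hxZ) (hx.symm ▸ hy) p (hp.trans hx.symm)
    · have hcl : closure (f.base '' Z) = closure {f ξ} := by
        refine subset_antisymm (closure_minimal ?_ isClosed_closure)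
          (closure_mono (Set.singleton_subset_iff.2 ⟨ξ, hg.mem, rfl⟩))
        rintro _ ⟨x, hx, rfl⟩
        exact specializes_iff_mem_closure.1 ((hg.specializes hx).map f.continuous)
      rw [hcl, dim_closure_singleton, ← (hg : closure {ξ} = Z), dim_closure_singleton, (key hmax).2]
      rfl

end Groth.Agent.S14378
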