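import Groth.Statements.S14379
import Mathlib
import Groth.Agent.Calg6.RelNoetherNorm

set_option autoImplicit false
open scoped TensorProduct
universe u
open CAlg

namespace Groth.Agent.S14379
open scoped TensorProduct
open Groth.Calg6.RelNN

/-- Let V be a discrete valuation ring with residue field k and fraction field K, let R be a flat
V-algebra of finite type such that both fibre rings k ⊗_V R and K ⊗_V R have Krull dimension at most
d, let x_1, …, x_d be elements of R and let N ≥ 1 be an integer. Then there are elements y_1, …, y_d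
of the subring of R generated by the N-th powers of elements of R such that, setting f_i = x_i +
y_i, the fibre ring k ⊗_V R is finite over the polynomial ring k[T_1, …, T_d] via T_i ↦ 1 ⊗ f_i and
K ⊗_V R is finite over K[T_1, …, T_d] via T_i ↦ 1 ⊗ f_i; in other words the morphism (f_1, …, f_d)
to affine d-space over V is finite on both fibres. -/
theorem result (V : Type u) [CommRing V] [IsDomain V]
    [IsDiscreteValuationRing V] (R : Type u) [CommRing R] [Algebra V R] [Module.Flat V R]
    [Algebra.FiniteType V R] (d : ℕ)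
    (hs : ringKrullDim (IsLocalRing.ResidueField V ⊗[V] R) ≤ d)
    (hη : ringKrullDim (FractionRing V ⊗[V] R) ≤ d)
    (x : Fin d → R) (N : ℕ) (hN : 1 ≤ N) :
    ∃ y : Fin d → R, (∀ i, y i ∈ Subring.closure (Set.range fun r : R => r ^ N)) ∧
      (MvPolynomial.aeval (fun i => (1 : IsLocalRing.ResidueField V) ⊗ₜ[V] (x i + y i)) :
          MvPolynomial (Fin d) (IsLocalRing.ResidueField V) →ₐ[IsLocalRing.ResidueField V]
            IsLocalRing.ResidueField V ⊗[V] R).toRingHom.Finite ∧
      (MvPolynomial.aeval (fun i => (1 : FractionRing V) ⊗ₜ[V] (x i + y i)) :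
          MvPolynomial (Fin d) (FractionRing V) →ₐ[FractionRing V] FractionRing V ⊗[V] R).toRingHom.Finite := by
  obtain ⟨g, hg₁, hg₂⟩ :=
    exists_good (IsLocalRing.ResidueField V) (FractionRing V) (V := V) (R := R) d hs hη
  obtain ⟨M₁, hM₁⟩ := exists_good_perturb hg₁ fun i => (1 : IsLocalRing.ResidueField V) ⊗ₜ[V] x i
  obtain ⟨M₂, hM₂⟩ := exists_good_perturb hg₂ fun i => (1 : FractionRing V) ⊗ₜ[V] x i
  have hM : ∀ M, M ≤ N * M := fun M => Nat.le_mul_of_pos_left M hN
  let M := max M₁ M₂
  refine ⟨fun i => g i ^ (N * M), fun i => Subring.subset_closure ⟨g i ^ M, ?_⟩, ?_, ?_⟩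
  · show (g i ^ M) ^ N = g i ^ (N * M)
    rw [← pow_mul, mul_comm]
  · have h := hM₁ (N * M) ((le_max_left _ _).trans (hM M))
    simpa only [Good, TensorProduct.tmul_add, Algebra.TensorProduct.tmul_pow, one_pow] using h
  · have h := hM₂ (N * M) ((le_max_right _ _).trans (hM M))
    simpa only [Good, TensorProduct.tmul_add, Algebra.TensorProduct.tmul_pow, one_pow] using h

end Groth.Agent.S14379
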