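import Groth.Statements.S1438

set_option autoImplicit false
universe u
open FlatMor

namespace Groth.Agent.S1438

open AlgebraicGeometry CategoryTheory Limits in
/-- A separated scheme with an open covering by n + 1 affine opens has affine stratification number at
most n: it admits an affine stratification with index set {0, …, n}. -/
theorem result (X : Scheme.{u}) [X.IsSeparated] (n : ℕ) (U : Fin (n + 1) → X.Opens)
    (hU : ∀ i, IsAffineOpen (U i)) (hcov : ⨆ i, U i = ⊤) :
    MoreMor.HasAffineStratification X n := by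
  classical
  have hx : ∀ x : X, (Finset.univ.filter fun i => x ∈ U i).Nonempty := by
    intro x
    obtain ⟨i, hi⟩ := TopologicalSpace.Opens.mem_iSup.mp (hcov.ge (Set.mem_univ x))
    exact ⟨i, by simp [hi]⟩
  let s : X → Fin (n + 1) := fun x => (Finset.univ.filter fun i => x ∈ U i).max' (hx x)
  have hs : ∀ x i, x ∈ U i → i ≤ s x := fun x i hi => Finset.le_max' _ _ (by simp [hi])
  have hs' : ∀ x, x ∈ U (s x) := fun x => by simpa using Finset.max'_mem _ (hx x)
  refine ⟨s, fun i => ?_, fun i => ?_⟩
  · have : {x : X | s x ≤ i}ᶜ = ⋃ j ∈ {j | i < j}, (U j : Set X) := by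
      ext x
      simp only [Set.mem_compl_iff, Set.mem_setOf_eq, not_le, Set.mem_iUnion, SetLike.mem_coe, exists_prop]
      exact ⟨fun h => ⟨s x, h, hs' x⟩, fun ⟨j, h, hj⟩ => h.trans_le (hs x j hj)⟩
    rw [← isOpen_compl_iff, this]
    exact isOpen_biUnion fun j _ => (U j).2
  · let T : TopologicalSpace.Closeds (U i).toScheme :=
      ⟨(U i).ι ⁻¹' (⋃ j ∈ {j | i < j}, (U j : Set X))ᶜ,
        ((isOpen_biUnion fun j _ => (U j).2).isClosed_compl).preimage (U i).ι.continuous⟩
    let I := Scheme.IdealSheafData.vanishingIdeal T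
    have : IsAffine (U i).toScheme := hU i
    have : IsAffine I.subscheme := isAffine_of_isAffineHom I.subschemeι
    have : IsAffineHom (I.subschemeι ≫ (U i).ι) :=
      MorphismProperty.of_postcomp (W := @IsAffineHom) (W' := @IsSeparated)
        _ X.toSpecΓ inferInstance inferInstance
    refine ⟨I.subscheme, I.subschemeι ≫ (U i).ι, inferInstance, ‹_›, ‹_›, ?_⟩
    rw [Scheme.Hom.comp_base, TopCat.coe_comp, Set.range_comp, Scheme.IdealSheafData.range_subschemeι]
    rw [Scheme.IdealSheafData.coe_support_vanishingIdeal]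
    ext x
    simp only [Set.mem_image, Set.mem_setOf_eq]
    constructor
    · rintro ⟨y, hy, rfl⟩
      have hy' : ¬ ∃ j, i < j ∧ (U i).ι y ∈ U j := by simpa [T] using hy
      refine le_antisymm ?_ (hs _ _ (by exact y.2))
      by_contra hlt
      exact hy' ⟨_, not_le.mp hlt, hs' _⟩
    · rintro rfl
      refine ⟨⟨x, hs' x⟩, ?_, rfl⟩
      show (U (s x)).ι ⟨x, hs' x⟩ ∈ (⋃ j ∈ {j | s x < j}, (U j : Set X))ᶜ
      simp only [Set.mem_compl_iff, Set.mem_iUnion, Set.mem_setOf_eq, SetLike.mem_coe, not_exists]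
      exact fun j hj hm => (hs x j hm).not_gt hj

end Groth.Agent.S1438
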