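import Groth.Statements.S14382
import Groth.Agent.EtaleDeep.Cons.PushFinite
import Groth.Agent.EtaleDeep.Cons.PullLC
import Groth.Agent.EtaleDeep.Cons.NoetherianTorsion
import Groth.Agent.DescentBase.HpullReduce
import Groth.Agent.EtaleBase.Limit.HpullFunctorial
import Groth.Agent.EtaleBase.PushEpi
import Groth.Agent.EtaleBase.ExtAdj

set_option autoImplicit false
open CategoryTheory CategoryTheory.Limits AlgebraicGeometry Opposite
universe u
open EtCoh

namespace Groth.Agent.S14382

set_option backward.isDefEq.respectTransparency.types false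
set_option linter.style.haveILetI false

open CategoryTheory.Abelian Groth.EtaleBase Groth.EtaleBase.EtLimit Groth.DescentBase.HpullReduce

attribute [local instance] Groth.EtaleBase.pull_preservesFiniteLimits

/-- A space in which some finite set meets every nonempty clopen has finitely many components. -/
theorem finite_components {T : Type*} [TopologicalSpace T] (S : Set T) (hS : S.Finite)
    (h : ∀ A : Set T, IsClopen A → A.Nonempty → (A ∩ S).Nonempty) :
    Finite (_root_.ConnectedComponents T) := by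
  haveI := hS.to_subtype
  haveI hc : Finite {A : Set T // IsClopen A} := by
    refine Finite.of_injective (fun A => {s : S | s.1 ∈ A.1}) fun A B e => Subtype.ext ?_
    have key : ∀ A B : {A : Set T // IsClopen A}, {s : S | s.1 ∈ A.1} = {s : S | s.1 ∈ B.1} → A.1 ⊆ B.1 := by
      intro A B e x hx
      by_contra hxB
      obtain ⟨s, ⟨hsA, hsB⟩, hsS⟩ := h _ (A.2.diff B.2) ⟨x, hx, hxB⟩
      exact hsB ((Set.ext_iff.1 e ⟨s, hsS⟩).1 hsA)
    exact (key A B e).antisymm (key B A e.symm)
  have hcomp : ∀ x : T, IsClopen (connectedComponent x) := by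
    intro x
    let A : Set T := ⋂ B : {B : {A : Set T // IsClopen A} // x ∈ B.1}, B.1.1
    have hA : IsClopen A := isClopen_iInter_of_finite fun B => B.1.2
    have hxA : x ∈ A := Set.mem_iInter.2 fun B => B.2
    have hpre : IsPreconnected A := by
      rw [isPreconnected_iff_subset_of_fully_disjoint_closed hA.1]
      intro u v hu hv huv hd
      have hu' : IsClopen (A ∩ u) := ⟨hA.1.inter hu, by
        have : A ∩ u = A ∩ vᶜ := by
          ext y
          exact ⟨fun ⟨h1, h2⟩ => ⟨h1, fun h3 => hd.le_bot ⟨h2, h3⟩⟩,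
            fun ⟨h1, h2⟩ => ⟨h1, (huv h1).resolve_right h2⟩⟩
        rw [this]
        exact hA.2.inter hv.isOpen_compl⟩
      by_cases hxu : x ∈ u
      · exact Or.inl fun y hy => (Set.mem_iInter.1 hy ⟨⟨A ∩ u, hu'⟩, hxA, hxu⟩).2
      · refine Or.inr fun y hy => (huv hy).resolve_left fun hyu => ?_
        exact (Set.mem_iInter.1 hy ⟨⟨A \ (A ∩ u), hA.diff hu'⟩, hxA, fun h => hxu h.2⟩).2 ⟨hy, hyu⟩
    rw [(connectedComponent_subset_iInter_isClopen.trans ?_).antisymm
      (hpre.subset_connectedComponent hxA)]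
    · exact hA
    · exact Set.iInter_mono' fun B => ⟨⟨B.1.1, B.1.2, B.2⟩, subset_rfl⟩
  refine Finite.of_injective (fun c : _root_.ConnectedComponents T =>
    (⟨ConnectedComponents.mk ⁻¹' {c}, ?_⟩ : {A : Set T // IsClopen A})) fun c d e => ?_
  · obtain ⟨x, rfl⟩ := ConnectedComponents.surjective_coe c
    rw [connectedComponents_preimage_singleton]
    exact hcomp x
  · exact Set.singleton_injective
      (ConnectedComponents.surjective_coe.preimage_injective (congrArg Subtype.val e))

/-- Finite etale morphisms preserve the finiteness of the set of connected components. -/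
theorem finite_components_of_finite_etale {X Y : Scheme.{u}} (f : X ⟶ Y) [IsFinite f] [Etale f]
    (hconn : Finite (_root_.ConnectedComponents ↥Y)) : Finite (_root_.ConnectedComponents ↥X) := by
  choose y hy using (ConnectedComponents.surjective_coe : Function.Surjective (ConnectedComponents.mk (α := Y)))
  refine finite_components (⋃ c, f.base ⁻¹' {y c})
    (Set.finite_iUnion fun c => f.finite_preimage_singleton _) fun A hA ⟨a, ha⟩ => ?_
  have himg : IsClopen (f.base '' A) := ⟨f.isClosedMap A hA.1, f.isOpenMap A hA.2⟩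
  have hc : y (ConnectedComponents.mk (f.base a)) ∈ f.base '' A :=
    himg.connectedComponent_subset ⟨a, ha, rfl⟩ (ConnectedComponents.coe_eq_coe'.1 (hy _))
  obtain ⟨b, hb, hb'⟩ := hc
  exact ⟨b, hb, Set.mem_iUnion.2 ⟨_, hb'⟩⟩

/-- A class upstairs comes from the direct image. -/
theorem exists_push_class {X Y : Scheme.{u}} (f : X ⟶ Y) [IsFinite f] (F : EtCoh.Ab X) (q : ℕ)
    (ζ : EtCoh.H X F q) :
    ∃ ξ : EtCoh.H Y ((EtCoh.push f).obj F) q,
      pushH ((EtCoh.pullPushAdj f).counit.app F) q (EtCore.Hpull f _ q ξ) = ζ := by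
  haveI := push_preservesFiniteColimits f
  haveI : (EtCoh.pull f).Additive := Functor.additive_of_preserves_binary_products _
  obtain ⟨ξ, hξ⟩ := (ExtAdj.adjExt_bijective_of_exact (EtCoh.pullPushAdj f) (EtCoh.const Y ℤ) F q).2
    ((Ext.mk₀ (EtCore.pullConst f ℤ).hom).comp ζ (zero_add q))
  refine ⟨ξ, ?_⟩
  show ((Ext.mk₀ (EtCore.pullConst f ℤ).inv).comp (ξ.mapExactFunctor (EtCoh.pull f)) (zero_add q)).comp
    (Ext.mk₀ ((EtCoh.pullPushAdj f).counit.app F)) (add_zero q) = ζ
  rw [Ext.comp_assoc_of_third_deg_zero]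
  refine (congrArg (fun t => (Ext.mk₀ (EtCore.pullConst f ℤ).inv).comp t (zero_add q)) hξ).trans ?_
  rw [Ext.mk₀_comp_mk₀_assoc, Iso.inv_hom_id]
  exact Ext.mk₀_id_comp _

/-- A class killed along a composite is killed by the iterated pullback. -/
theorem Hpull_Hpull_eq_zero {A B C : Scheme.{u}} (a : A ⟶ B) (b : B ⟶ C) (G : EtCoh.Ab C) (q : ℕ)
    (x : EtCoh.H C G q) (hx : EtCore.Hpull (a ≫ b) G q x = 0) :
    EtCore.Hpull a _ q (EtCore.Hpull b G q x) = 0 := by
  rw [Hpull_comp a b G q x, hx]
  exact Ext.zero_comp _ _ _ _ _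

/-- Inverse images preserve being killed by an integer. -/
theorem killedBy_pull {X Y : Scheme.{u}} (f : X ⟶ Y) (n : ℕ) (F : EtCoh.Ab Y) (hk : EtCoh.KilledBy n F) :
    EtCoh.KilledBy n ((EtCoh.pull f).obj F) := by
  haveI : (EtCoh.pull f).Additive := Functor.additive_of_preserves_binary_products _
  have h0 : n • 𝟙 F = 0 := by
    ext U s
    exact hk U.unop s
  refine Groth.EtaleDeep.Cons.killedBy_of_nsmul_id ?_
  rw [← CategoryTheory.Functor.map_id, ← Functor.map_nsmul, h0, Functor.map_zero]


/-- Let P be a set of prime numbers and f : X → Y a finite étale surjective morphism of schemes, where Y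
is quasi-compact and quasi-separated with finitely many connected components. Then X is
quasi-compact and quasi-separated with finitely many connected components, and Y is a K(π,1) for
P-torsion coefficients if and only if X is; here a scheme Z is called a K(π,1) for P-torsion
coefficients when for every finite locally constant abelian sheaf F on the small étale site of Z
killed by some n ≥ 1 all of whose prime factors lie in P, every q > 0 and every class ζ in H^q(Z_ét,
F) there is a finite étale surjective g : Z' → Z with g^*ζ = 0. (Exactness of pullback of abelian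
sheaves, which always holds, is carried as an instance hypothesis.) -/
theorem result (P : Set ℕ) {X Y : Scheme.{u}} (f : X ⟶ Y)
    [IsFinite f] [Etale f] [Surjective f] [CompactSpace ↥Y] [QuasiSeparatedSpace ↥Y]
    (hconn : Finite (_root_.ConnectedComponents ↥Y)) :
    (CompactSpace ↥X ∧ QuasiSeparatedSpace ↥X ∧ Finite (_root_.ConnectedComponents ↥X)) ∧
    ((∀ (F : EtCoh.Ab Y), EtCoh.IsFiniteLocallyConstant F →
        (∃ n : ℕ, 0 < n ∧ (∀ p : ℕ, p.Prime → p ∣ n → p ∈ P) ∧ EtCoh.KilledBy n F) →
        ∀ q : ℕ, 0 < q → ∀ ζ : EtCoh.H Y F q,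
          ∃ (Y' : Scheme.{u}) (g : Y' ⟶ Y), IsFinite g ∧ Etale g ∧ Surjective g ∧
            ∀ [PreservesFiniteLimits (EtCoh.pull g)], EtCore.Hpull g F q ζ = 0) ↔
     (∀ (F : EtCoh.Ab X), EtCoh.IsFiniteLocallyConstant F →
        (∃ n : ℕ, 0 < n ∧ (∀ p : ℕ, p.Prime → p ∣ n → p ∈ P) ∧ EtCoh.KilledBy n F) →
        ∀ q : ℕ, 0 < q → ∀ ζ : EtCoh.H X F q,
          ∃ (X' : Scheme.{u}) (g : X' ⟶ X), IsFinite g ∧ Etale g ∧ Surjective g ∧
            ∀ [PreservesFiniteLimits (EtCoh.pull g)], EtCore.Hpull g F q ζ = 0)) := by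
  haveI : CompactSpace ↥X := QuasiCompact.compactSpace_of_compactSpace f
  haveI : QuasiSeparatedSpace ↥X := quasiSeparatedSpace_of_quasiSeparated f
  refine ⟨⟨inferInstance, inferInstance, finite_components_of_finite_etale f hconn⟩,
    fun hY F hF ⟨n, hn, hP, hk⟩ q hq ζ => ?_, fun hX F hF ⟨n, hn, hP, hk⟩ q hq ζ => ?_⟩
  · haveI : EtCoh.BCCont f := inferInstance
    obtain ⟨ξ, hξ⟩ := exists_push_class f F q ζ
    obtain ⟨Y', g, hg₁, hg₂, hg₃, hg⟩ := hY _ (Groth.EtaleDeep.Cons.isFLC_push f hF)
      ⟨n, hn, hP, fun U s => hk _ s⟩ q hq ξ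
    refine ⟨pullback f g, pullback.fst f g, MorphismProperty.pullback_fst _ _ hg₁,
      MorphismProperty.pullback_fst _ _ hg₂, MorphismProperty.pullback_fst _ _ hg₃, ?_⟩
    intro hlim
    have h0 : EtCore.Hpull (pullback.fst f g ≫ f) _ q ξ = 0 := by
      rw [pullback.condition]
      rw [← Hpull_comp_inv (pullback.snd f g) g, hg, map_zero]
      exact Ext.zero_comp _ _ _ _ _
    rw [← hξ, Hpull_pushH]
    exact (congrArg _ (Hpull_Hpull_eq_zero (pullback.fst f g) f _ q ξ h0)).trans (map_zero _)
  · obtain ⟨X', g, hg₁, hg₂, hg₃, hg⟩ := hX _ (Groth.EtaleDeep.Cons.isFLC_pull f hF)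
      ⟨n, hn, hP, killedBy_pull f n F hk⟩ q hq (EtCore.Hpull f F q ζ)
    refine ⟨X', g ≫ f, inferInstance, inferInstance, inferInstance, ?_⟩
    intro hlim
    rw [← Hpull_comp_inv g f, hg]
    exact Ext.zero_comp _ _ _ _ _

end Groth.Agent.S14382
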