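import Groth.Statements.S14384
import Mathlib.RingTheory.Kaehler.Basic
import Mathlib.RingTheory.DiscreteValuationRing.Basic
import Mathlib.Tactic.Ring
-- import your own Groth.Agent.* helpers here

set_option autoImplicit false
universe u
open CAlg

namespace Groth.Agent.S14384

/-- Let V be a discrete valuation ring of characteristic zero with uniformizer ϖ, whose residue field is
perfect of characteristic p > 0, let R be a V-algebra of finite type, x'_1, …, x'_d elements of R
defining a morphism f' from Spec R to affine d-space over V, and n ≥ 0 such that p^n Ω_{f'} vanishes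
along the closed fibre, written inside Ω_{R/V} as p^n Ω_{R/V} ⊆ ϖ p^n Ω_{R/V} + Σ_i R dx'_i. If y_1,
…, y_d lie in the subring of R generated by the p^(n+1)-th powers of elements of R, then the
morphism f = f' + (y_1, …, y_d) has the same property: p^n Ω_{R/V} ⊆ ϖ p^n Ω_{R/V} + Σ_i R d(x'_i +
y_i). -/
theorem result (V : Type u) [CommRing V] [IsDomain V] [IsDiscreteValuationRing V] [CharZero V]
    (ϖ : V) (hϖ : Irreducible ϖ) (p : ℕ) [Fact p.Prime] [CharP (IsLocalRing.ResidueField V) p]
    [PerfectField (IsLocalRing.ResidueField V)]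
    (R : Type u) [CommRing R] [Algebra V R] [Algebra.FiniteType V R] (d n : ℕ) (x' : Fin d → R)
    (hx' : Ideal.span {((p : R)) ^ n} • (⊤ : Submodule R (Ω[R⁄V])) ≤
      Ideal.span {algebraMap V R ϖ * (p : R) ^ n} • (⊤ : Submodule R (Ω[R⁄V])) ⊔
        Submodule.span R (Set.range fun i => KaehlerDifferential.D V R (x' i)))
    (y : Fin d → R) (hy : ∀ i, y i ∈ Subring.closure (Set.range fun r : R => r ^ (p ^ (n + 1)))) :
    Ideal.span {((p : R)) ^ n} • (⊤ : Submodule R (Ω[R⁄V])) ≤
      Ideal.span {algebraMap V R ϖ * (p : R) ^ n} • (⊤ : Submodule R (Ω[R⁄V])) ⊔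
        Submodule.span R (Set.range fun i => KaehlerDifferential.D V R (x' i + y i)) := by
  have hpmem : (p : V) ∈ IsLocalRing.maximalIdeal V := by
    rw [← IsLocalRing.residue_eq_zero_iff, map_natCast]
    exact CharP.cast_eq_zero _ p
  rw [(IsDiscreteValuationRing.irreducible_iff_uniformizer ϖ).mp hϖ,
    Ideal.mem_span_singleton'] at hpmem
  obtain ⟨v, hv⟩ := hpmem
  set N := Ideal.span {algebraMap V R ϖ * (p : R) ^ n} • (⊤ : Submodule R (Ω[R⁄V])) with hN
  have hpow : ∀ r : R, KaehlerDifferential.D V R (r ^ (p ^ (n + 1))) ∈ N := by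
    intro r
    rw [Derivation.leibniz_pow, ← Nat.cast_smul_eq_nsmul R, smul_smul]
    refine Submodule.smul_mem_smul ?_ Submodule.mem_top
    rw [Ideal.mem_span_singleton]
    refine Dvd.dvd.mul_right ?_ _
    refine ⟨algebraMap V R v, ?_⟩
    have hp : (p : R) = algebraMap V R v * algebraMap V R ϖ := by
      rw [← map_mul, hv, map_natCast]
    push_cast
    rw [pow_succ]
    nth_rewrite 2 [hp]
    ring
  have hy' : ∀ i, KaehlerDifferential.D V R (y i) ∈ N := by
    intro i
    refine Subring.closure_induction (p := fun a _ => KaehlerDifferential.D V R a ∈ N) ?_ ?_ ?_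
      ?_ ?_ ?_ (hy i)
    · rintro x ⟨r, rfl⟩
      exact hpow r
    · simp
    · simp
    · intro a b _ _ ha hb
      rw [map_add]
      exact add_mem ha hb
    · intro a _ ha
      rw [map_neg]
      exact neg_mem ha
    · intro a b _ _ ha hb
      rw [Derivation.leibniz]
      exact add_mem (Submodule.smul_mem _ _ hb) (Submodule.smul_mem _ _ ha)
  refine hx'.trans (sup_le le_sup_left (Submodule.span_le.mpr ?_))
  rintro _ ⟨i, rfl⟩
  have he : KaehlerDifferential.D V R (x' i) =
      - KaehlerDifferential.D V R (y i) + KaehlerDifferential.D V R (x' i + y i) := by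
    rw [map_add]; abel
  change KaehlerDifferential.D V R (x' i) ∈ _
  rw [he]
  exact Submodule.add_mem_sup (neg_mem (hy' i)) (Submodule.subset_span ⟨i, rfl⟩)

end Groth.Agent.S14384
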