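import Groth.Statements.S14386
import Groth.Agent.Calg6.Node

set_option autoImplicit false
universe u
open CAlg

namespace Groth.Agent.S14386

set_option maxHeartbeats 4000000 in
/-- Let V be a discrete valuation ring of characteristic zero with uniformizer ϖ and perfect residue
field k, let Q = V[x, y]/(xy − ϖ) be the coordinate ring of the standard semistable node over V and
P its closed point x = y = 0 of the closed fibre, let h ∈ Q with h ∉ (x, y), so that B = Q[1/h] is
the ring of an open neighbourhood of P, and let f ∈ B define a morphism to the affine line over V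
which is étale on the generic fibre: B[1/ϖ] is étale over V[T] via T ↦ f. Then df vanishes
identically on one of the two components x = 0, y = 0 of the closed fibre of Spec B: the
differential of the image of f in Ω_{(B/xB)/V} is zero or the differential of the image of f in
Ω_{(B/yB)/V} is zero. If moreover k has characteristic zero, then f contracts that component and the
morphism is not quasi-finite: V[T] → B, T ↦ f, is not a quasi-finite ring map. -/
theorem result (V : Type u) [CommRing V] [IsDomain V] [IsDiscreteValuationRing V] [CharZero V]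
    [PerfectField (IsLocalRing.ResidueField V)] (ϖ : V) (hϖ : Irreducible ϖ)
    (h : (MvPolynomial (Fin 2) V ⧸ Ideal.span {(MvPolynomial.X 0 * MvPolynomial.X 1 - MvPolynomial.C ϖ : MvPolynomial (Fin 2) V)}))
    (hh : h ∉ Ideal.span ({(Ideal.Quotient.mk (Ideal.span {(MvPolynomial.X 0 * MvPolynomial.X 1 - MvPolynomial.C ϖ : MvPolynomial (Fin 2) V)}) (MvPolynomial.X 0 : MvPolynomial (Fin 2) V)), (Ideal.Quotient.mk (Ideal.span {(MvPolynomial.X 0 * MvPolynomial.X 1 - MvPolynomial.C ϖ : MvPolynomial (Fin 2) V)}) (MvPolynomial.X 1 : MvPolynomial (Fin 2) V))} : Set (MvPolynomial (Fin 2) V ⧸ Ideal.span {(MvPolynomial.X 0 * MvPolynomial.X 1 - MvPolynomial.C ϖ : MvPolynomial (Fin 2) V)})))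
    (f : Localization.Away h)
    (hf : ((algebraMap (Localization.Away h)
        (Localization.Away (algebraMap V (Localization.Away h) ϖ))).comp
          (Polynomial.aeval f : Polynomial V →ₐ[V] Localization.Away h).toRingHom).Etale) :
    (KaehlerDifferential.D V (Localization.Away h ⧸ Ideal.span
        ({algebraMap (MvPolynomial (Fin 2) V ⧸ Ideal.span {(MvPolynomial.X 0 * MvPolynomial.X 1 - MvPolynomial.C ϖ : MvPolynomial (Fin 2) V)}) (Localization.Away h) (Ideal.Quotient.mk (Ideal.span {(MvPolynomial.X 0 * MvPolynomial.X 1 - MvPolynomial.C ϖ : MvPolynomial (Fin 2) V)}) (MvPolynomial.X 0 : MvPolynomial (Fin 2) V))} : Set (Localization.Away h)))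
        (Ideal.Quotient.mk _ f) = 0 ∨
     KaehlerDifferential.D V (Localization.Away h ⧸ Ideal.span
        ({algebraMap (MvPolynomial (Fin 2) V ⧸ Ideal.span {(MvPolynomial.X 0 * MvPolynomial.X 1 - MvPolynomial.C ϖ : MvPolynomial (Fin 2) V)}) (Localization.Away h) (Ideal.Quotient.mk (Ideal.span {(MvPolynomial.X 0 * MvPolynomial.X 1 - MvPolynomial.C ϖ : MvPolynomial (Fin 2) V)}) (MvPolynomial.X 1 : MvPolynomial (Fin 2) V))} : Set (Localization.Away h)))
        (Ideal.Quotient.mk _ f) = 0) ∧
    (CharZero (IsLocalRing.ResidueField V) →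
      ¬ (Polynomial.aeval f : Polynomial V →ₐ[V] Localization.Away h).toRingHom.QuasiFinite) := by
  have hm : IsLocalRing.maximalIdeal V = Ideal.span {ϖ} := hϖ.maximalIdeal_eq
  have h01 : (0 : Fin 2) ≠ 1 := by decide
  obtain ⟨i, j, hij, hbr⟩ := Groth.Calg6.Node.exists_branch hm hϖ.ne_zero h hh f hf
  obtain ⟨D, hD⟩ := Groth.Calg6.Node.exists_derivation h h01
  have hDf := hbr D hD
  obtain ⟨D', hD', hD'f⟩ : ∃ D' : Derivation V (Localization.Away h) (Localization.Away h),
      (∀ p, D' (algebraMap (Groth.Calg6.Node.Q V ϖ) _ (Groth.Calg6.Node.mk V ϖ p)) =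
        algebraMap (Groth.Calg6.Node.Q V ϖ) _ (Groth.Calg6.Node.mk V ϖ (Groth.Calg6.Node.euler i j p))) ∧
      D' f ∈ Ideal.span {Groth.Calg6.Node.t h i} := by
    rcases Groth.Calg6.Node.cases_index h01 i with rfl | rfl
    · obtain rfl : j = 1 := by omega
      exact ⟨D, hD, hDf⟩
    · obtain rfl : j = 0 := by omega
      refine ⟨-D, fun p => ?_, by rw [Derivation.neg_apply]; exact Submodule.neg_mem _ hDf⟩
      rw [Derivation.neg_apply, hD, ← map_neg, ← map_neg]
      congr 2
      simp [Groth.Calg6.Node.euler]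
  obtain ⟨p, r, hr, hfr, hder⟩ := Groth.Calg6.Node.branch_polys h f hij D' hD' hD'f hh hm
  have hd := Groth.Calg6.Node.d_eq_zero h f hij p r hr hfr hder hm
  refine ⟨?_, fun _ => Groth.Calg6.Node.not_quasiFinite hm h hh f hij p r hr hfr hder⟩
  rcases Groth.Calg6.Node.cases_index h01 i with rfl | rfl
  · exact Or.inl hd
  · exact Or.inr hd

end Groth.Agent.S14386
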