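import Groth.Statements.S14388
import Groth.Agent.KTheory.TwoStep

set_option autoImplicit false
open CategoryTheory CategoryTheory.Limits
universe w v u
open CohDer

namespace Groth.Agent.S14388

/-- Let A be an abelian category, D(A) its derived category with the canonical t-structure and
truncation functors τ_{≥a}, τ_{<b}, and write τ_[a,b] = τ_{≥a} ∘ τ_{<b+1}, so that τ_[q,q] K is
H^q(K) placed in degree q. Let f : K → K' be a morphism in D(A) and q an integer such that the
induced maps H^(q-1)(K) → H^(q-1)(K') and H^q(K) → H^q(K') are both zero. Then there is a unique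
morphism L : τ_[q,q] K → τ_[q-1,q-1] K' such that τ_[q-1,q](f) : τ_[q-1,q] K → τ_[q-1,q] K' is the
composite of the canonical projection τ_[q-1,q] K → τ_[q,q] K, the morphism L, and the canonical
inclusion τ_[q-1,q-1] K' → τ_[q-1,q] K'. (Under τ_[n,n] ≅ H^n(−)[−n] the morphism L corresponds to a
morphism L_f[−q] : H^q(K)[−q] → H^(q-1)(K')[1−q].) -/
theorem result {C : Type u} [Category.{v} C] [Abelian C]
    [HasDerivedCategory.{w} C] {K K' : DerivedCategory C} (f : K ⟶ K') (q : ℤ)
    (h₁ : (DerivedCategory.homologyFunctor C (q - 1)).map f = 0)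
    (h₂ : (DerivedCategory.homologyFunctor C q).map f = 0) :
    ∃! L : ((DerivedCategory.TStructure.t (C := C)).truncGELT q (q + 1)).obj K ⟶
        ((DerivedCategory.TStructure.t (C := C)).truncGELT (q - 1) q).obj K',
      ((DerivedCategory.TStructure.t (C := C)).truncGELT (q - 1) (q + 1)).map f =
        ((DerivedCategory.TStructure.t (C := C)).natTransTruncGEOfLE (q - 1) q (sub_one_lt q).le).app
            (((DerivedCategory.TStructure.t (C := C)).truncLT (q + 1)).obj K) ≫ L ≫
          ((DerivedCategory.TStructure.t (C := C)).truncGE (q - 1)).map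
            (((DerivedCategory.TStructure.t (C := C)).natTransTruncLTOfLE q (q + 1) (lt_add_one q).le).app K') := by
  open Groth.Agent.TwoStep DerivedCategory.TStructure CategoryTheory.Pretriangulated in
  let X := (t.truncLT (q + 1)).obj K
  let X' := (t.truncLT (q + 1)).obj K'
  have hX : X.IsLE q := inferInstanceAs (t.IsLE ((t.truncLT (q + 1)).obj K) q)
  have hX' : X'.IsLE q := inferInstanceAs (t.IsLE ((t.truncLT (q + 1)).obj K') q)
  let u : (t.truncGE (q - 1)).obj X ⟶ (t.truncGE (q - 1)).obj X' := (t.truncGE (q - 1)).map ((t.truncLT (q + 1)).map f)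
  have hu : ∀ n, q - 1 ≤ n → n ≤ q → (DerivedCategory.homologyFunctor C n).map f = 0 →
      (DerivedCategory.homologyFunctor C n).map u = 0 := fun n hn hn' h => by
    have hmono : Mono ((DerivedCategory.homologyFunctor C n).map ((t.truncLTι (q + 1)).app K')) :=
      (DerivedCategory.HomologySequence.mono_homologyMap_mor₁_iff _ (t.triangleLTGE_distinguished (q + 1) K') (n - 1) n).2
        ((DerivedCategory.isZero_of_isGE ((t.truncGE (q + 1)).obj K') (q + 1) (n - 1) (by omega)).eq_of_src _ _)
    have : ((t.truncLT (q - 1)).obj X).IsLE (q - 2) := t.isLE_truncLT_obj X (q - 1) (q - 2)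
    have hepi : Epi ((DerivedCategory.homologyFunctor C n).map ((t.truncGEπ (q - 1)).app X)) :=
      (DerivedCategory.HomologySequence.epi_homologyMap_mor₂_iff _ (t.triangleLTGE_distinguished (q - 1) X) n (n + 1)).2
        ((DerivedCategory.isZero_of_isLE ((t.truncLT (q - 1)).obj X) (q - 2) (n + 1) (by omega)).eq_of_tgt _ _)
    have h0 : (DerivedCategory.homologyFunctor C n).map ((t.truncLT (q + 1)).map f) = 0 := by
      refine (cancel_mono ((DerivedCategory.homologyFunctor C n).map ((t.truncLTι (q + 1)).app K'))).1 ?_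
      have hnat := congrArg (DerivedCategory.homologyFunctor C n).map ((t.truncLTι (q + 1)).naturality f)
      rw [Functor.map_comp, Functor.map_comp, Functor.id_map, h, comp_zero] at hnat
      exact hnat.trans zero_comp.symm
    refine (cancel_epi ((DerivedCategory.homologyFunctor C n).map ((t.truncGEπ (q - 1)).app X))).1 ?_
    have hnat := congrArg (DerivedCategory.homologyFunctor C n).map ((t.truncGEπ (q - 1)).naturality ((t.truncLT (q + 1)).map f))
    rw [Functor.map_comp, Functor.map_comp, Functor.id_map, h0, zero_comp] at hnat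
    exact hnat.symm.trans comp_zero.symm
  obtain ⟨L, hL, huniq⟩ := existsUnique_fac q u (hu _ (by omega) (by omega) h₁) (hu _ (by omega) (by omega) h₂)
  have := t.isIso_truncGE_map_truncGEπ_app q (q - 1) (by omega) X
  let m : (t.truncGE q).obj X ⟶ (t.truncGE q).obj ((t.truncGE (q - 1)).obj X) :=
    (t.truncGE q).map ((t.truncGEπ (q - 1)).app X)
  let a : (t.truncGE q).obj X ≅ (t.truncGE q).obj ((t.truncGE (q - 1)).obj X) := @asIso _ _ _ _ m this
  have ha : (t.natTransTruncGEOfLE (q - 1) q (sub_one_lt q).le).app X ≫ a.hom =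
      (t.truncGEπ q).app ((t.truncGE (q - 1)).obj X) := by
    apply t.from_truncGE_obj_ext
    rw [← Category.assoc, t.π_natTransTruncGEOfLE_app]
    exact t.truncGEπ_naturality q ((t.truncGEπ (q - 1)).app X)
  let j := (t.natTransTruncLTOfLE q (q + 1) (lt_add_one q).le).app K'
  have := t.isIso_truncLT_map_truncLTι_app q (q + 1) (by omega) K'
  let m₀ : (t.truncLT q).obj X' ⟶ (t.truncLT q).obj K' := (t.truncLT q).map ((t.truncLTι (q + 1)).app K')
  have : IsIso m₀ := this
  have hm₀ : m₀ ≫ j = (t.truncLTι q).app X' := by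
    refine t.to_truncLT_obj_ext ?_
    rw [Category.assoc, t.natTransTruncLTOfLE_ι_app]
    exact (t.truncLTι q).naturality _
  let ι' := (t.truncGE (q - 1)).map ((t.truncLTι q).app X')
  let b₀ : (t.truncGE (q - 1)).obj ((t.truncLT q).obj X') ≅ (t.truncLT q).obj ((t.truncGE (q - 1)).obj X') :=
    (asIso ((t.truncLTι q).app ((t.truncGE (q - 1)).obj ((t.truncLT q).obj X')))).symm ≪≫ asIso ((t.truncLT q).map ι')
  let b : (t.truncGE (q - 1)).obj ((t.truncLT q).obj K') ≅ (t.truncLT q).obj ((t.truncGE (q - 1)).obj X') :=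
    ((t.truncGE (q - 1)).mapIso (asIso m₀)).symm ≪≫ b₀
  have hb : b.hom ≫ (t.truncLTι q).app ((t.truncGE (q - 1)).obj X') = (t.truncGE (q - 1)).map j := by
    have h0 : b₀.hom ≫ (t.truncLTι q).app ((t.truncGE (q - 1)).obj X') = ι' := by
      refine (cancel_epi ((t.truncLTι q).app ((t.truncGE (q - 1)).obj ((t.truncLT q).obj X')))).1 ?_
      refine Eq.trans ?_ ((t.truncLTι q).naturality ι')
      simp [b₀]
    rw [← cancel_epi ((t.truncGE (q - 1)).mapIso (asIso m₀)).hom]
    simp only [b, Iso.trans_hom, Iso.symm_hom, Category.assoc, Iso.hom_inv_id_assoc]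
    rw [h0]
    simp only [ι', Functor.mapIso_hom, asIso_hom, ← Functor.map_comp, hm₀]
  refine ⟨a.hom ≫ L ≫ b.inv, ?_, fun L' hL' => ?_⟩
  · change u = (t.natTransTruncGEOfLE (q - 1) q (sub_one_lt q).le).app X ≫
      (a.hom ≫ L ≫ b.inv) ≫ (t.truncGE (q - 1)).map j
    rw [← hb, Category.assoc, Category.assoc, Iso.inv_hom_id_assoc, reassoc_of% ha]
    exact hL
  · replace hL' : u = (t.natTransTruncGEOfLE (q - 1) q (sub_one_lt q).le).app X ≫
        L' ≫ (t.truncGE (q - 1)).map j := hL'
    have := huniq (a.inv ≫ L' ≫ b.hom) (by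
      dsimp only
      rw [← ha]
      simp only [Category.assoc, Iso.hom_inv_id_assoc, hb]
      exact hL')
    rw [← this]
    simp

end Groth.Agent.S14388
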