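import Groth.Statements.S14397
import Mathlib

set_option autoImplicit false
universe u
open DualGr

namespace Groth.Agent.S14397

/-- Let (V, E) with endpoint map E → V × V be a finite multigraph (loops and parallel edges allowed; the
order of the two endpoints is an auxiliary orientation), and let D_1, …, D_n be finite sets of edges
such that every edge lies outside at least one D_i. For each i let Γ_i be the multigraph obtained by
contracting the edges of D_i, and let H₁(Γ, ℤ) → H₁(Γ_i, ℤ) be the map of cycle lattices (integer
edge vectors with zero boundary) given by restriction to the surviving edges. Then the map H₁(Γ, ℤ)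
→ ⊕_i H₁(Γ_i, ℤ) has torsion-free cokernel. (The published statement is about the connected labelled
dual graph of the closed fibre of a nodal curve, smooth outside a normal crossing divisor with
components D_1, …, D_n, over a Noetherian regular strictly local base; Γ_i is the dual graph of the
fibre over the generic point of D_i, the lattices are identified with the character groups of the
toric parts of the Picard schemes of these fibres, and the map is the generization map of character
groups; this row states the assertion about cycle lattices, for any finite multigraph, which is what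
the argument establishes.) -/
theorem result
    {V E : Type u} [Fintype V] [Fintype E] [DecidableEq V] [DecidableEq E]
    (ends : E → V × V) {n : ℕ} (D : Fin n → Finset E) (hcover : ∀ e : E, ∃ i : Fin n, e ∉ D i) :
    IsAddTorsionFree (((i : Fin n) → ↥(DualGr.cycleLattice (DualGr.ctrEnds ends (D i)))) ⧸
      LinearMap.range (LinearMap.pi fun i : Fin n => DualGr.genMap ends (D i))) := by
  constructor
  intro c hc x y hxy
  simp only at hxy
  have main : ∀ z : ((i : Fin n) → ↥(DualGr.cycleLattice (DualGr.ctrEnds ends (D i)))) ⧸
      LinearMap.range (LinearMap.pi fun i : Fin n => DualGr.genMap ends (D i)), c • z = 0 → z = 0 := by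
    intro z hz
    obtain ⟨w, rfl⟩ := Submodule.Quotient.mk_surjective _ z
    rw [← Submodule.Quotient.mk_smul, Submodule.Quotient.mk_eq_zero] at hz
    obtain ⟨γ, hγ⟩ := hz
    choose i hi using hcover
    let δ : E → ℤ := fun e => (w (i e)).1 ⟨e, hi e⟩
    have hδ : ∀ e, γ.1 e = (c : ℤ) * δ e := by
      intro e
      have h1 := congrFun (congrArg Subtype.val (congrFun hγ (i e))) ⟨e, hi e⟩
      change γ.1 e = _ at h1
      rw [h1]
      simp [δ, nsmul_eq_mul]
    have hγ' : γ.1 = (c : ℤ) • δ := funext fun e => by simpa using hδ e
    have hc' : (c : ℤ) ≠ 0 := by exact_mod_cast hc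
    have hmem : δ ∈ DualGr.cycleLattice ends := by
      have h2 : DualGr.boundaryHom ends γ.1 = 0 := γ.2
      rw [hγ', map_smul] at h2
      exact (smul_eq_zero.1 h2).resolve_left hc'
    refine (Submodule.Quotient.mk_eq_zero _).2 ⟨⟨δ, hmem⟩, ?_⟩
    have hcγ : (c : ℤ) • (⟨δ, hmem⟩ : DualGr.cycleLattice ends) = γ := Subtype.ext hγ'.symm
    rw [← hcγ, map_smul] at hγ
    funext j
    apply Subtype.ext
    funext e
    have h3 := congrFun (congrArg Subtype.val (congrFun hγ j)) e
    simp only [Pi.smul_apply, SetLike.val_smul, nsmul_eq_mul, smul_eq_mul] at h3
    exact mul_left_cancel₀ hc' h3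
  exact sub_eq_zero.1 (main _ (by rw [smul_sub, hxy, sub_self]))

end Groth.Agent.S14397
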