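import Groth.Statements.S14404
import Groth.Agent.Flatmor4.FlatDim

set_option autoImplicit false
universe u
open CategoryTheory AlgebraicGeometry
open FlatMor

namespace Groth.Agent.S14404

/-- Let k be a field, X and Y irreducible schemes of finite type over k and f : X ⟶ Y a flat k-morphism.
Then dim Y ≤ dim X, and for every point y of Y every irreducible component Z of the scheme-theoretic
fibre of f over y has dim Z + dim Y = dim X; that is, every non-empty fibre has all its irreducible
components of dimension dim X − dim Y. -/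
theorem result (k : Type u) [Field k]
    {X Y : Scheme.{u}} (qX : X ⟶ Spec (CommRingCat.of k)) (qY : Y ⟶ Spec (CommRingCat.of k))
    [LocallyOfFiniteType qX] [QuasiCompact qX] [LocallyOfFiniteType qY] [QuasiCompact qY]
    [IrreducibleSpace X] [IrreducibleSpace Y] (f : X ⟶ Y) (hf : f ≫ qY = qX) [Flat f] :
    topologicalKrullDim Y ≤ topologicalKrullDim X ∧
      ∀ (y : Y), ∀ Z ∈ irreducibleComponents (f.fiber y : Type u),
        topologicalKrullDim Z + topologicalKrullDim Y = topologicalKrullDim X := by
  haveI : LocallyOfFiniteType (f ≫ qY) := hf ▸ inferInstance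
  haveI : LocallyOfFiniteType f := locallyOfFiniteType_of_comp f qY
  haveI : IsLocallyNoetherian Y := LocallyOfFiniteType.isLocallyNoetherian qY
  haveI : LocallyOfFinitePresentation f := inferInstance
  have hη : IsMax (genericPoint X) := fun w _ => genericPoint_specializes w
  have hfη : f (genericPoint X) = genericPoint Y :=
    Groth.FibreDim.eq_genericPoint_of_isMax (Groth.Flatmor4.isMax_image f hη)
  obtain ⟨t, -, ht⟩ := Groth.FibreDim.exists_relTrdeg_eq_height f (genericPoint X)
  have hX := Groth.Flatmor4.height_eq_height_add qY f (genericPoint X)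
  rw [ht, hfη] at hX
  obtain ⟨d, -, hd⟩ := Groth.Variety2.Dim.exists_trdegAt_eq_height qY (genericPoint Y)
  rw [hd] at hX
  rw [Groth.Flatmor4.dim_eq_height_genericPoint, Groth.Flatmor4.dim_eq_height_genericPoint, hd, hX]
  refine ⟨by norm_cast; omega, ?_⟩
  rw [Groth.Flatmor4.forall_fibre_component_dim_iff f (fun e => e + (((d : ℕ∞) : WithBot ℕ∞)) = _),
    ← Groth.Flatmor4.forall_isMax_asFiber_iff f
      (fun e : ℕ∞ => (e : WithBot ℕ∞) + ((d : ℕ∞) : WithBot ℕ∞) = ((d + t : ℕ∞) : WithBot ℕ∞))]
  intro η hηm
  rw [show η = genericPoint X from Groth.FibreDim.eq_genericPoint_of_isMax hηm, ht]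
  norm_cast
  omega

end Groth.Agent.S14404
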