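import Groth.Statements.S14405
import Mathlib

set_option autoImplicit false
open Polynomial
open HilbNum

namespace Groth.Agent.S14405

/-- Let φ be a function from the integers to the rationals and Q a nonzero polynomial with rational
coefficients of degree d such that φ(m) - φ(m-1) = Q(m) for every integer m. Then there is a
polynomial P with rational coefficients, of degree d + 1, such that φ(m) = P(m) for every integer m.
(The explicit form of P in the binomial basis is not part of this statement.) -/
theorem result (φ : ℤ → ℚ) (d : ℕ) (Q : ℚ[X]) (hQ : Q ≠ 0)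
    (hd : Q.natDegree = d) (h : ∀ m : ℤ, φ m - φ (m - 1) = Q.eval (m : ℚ)) :
    ∃ P : ℚ[X], P.natDegree = d + 1 ∧ ∀ m : ℤ, φ m = P.eval (m : ℚ) := by
  classical
  let S : ℕ → ℚ[X] := fun p => ((Polynomial.bernoulli (p + 1) - Polynomial.C (_root_.bernoulli (p + 1))) *
    Polynomial.C ((p + 1 : ℚ)⁻¹)).comp (Polynomial.X + Polynomial.C 1)
  have hS : ∀ (p : ℕ) (m : ℚ), (S p).eval m - (S p).eval (m - 1) = m ^ p := by
    intro p m
    simp only [S, Polynomial.eval_comp, Polynomial.eval_add, Polynomial.eval_X, Polynomial.eval_C,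
      Polynomial.eval_mul, Polynomial.eval_sub]
    rw [sub_add_cancel, show m + 1 = 1 + m from add_comm m 1, Polynomial.bernoulli_eval_one_add]
    have hne : ((p : ℚ) + 1) ≠ 0 := by positivity
    push_cast
    field_simp
    simp
  have hdeg : ∀ p, (S p).natDegree = p + 1 := by
    intro p
    simp only [S, Polynomial.natDegree_comp, Polynomial.natDegree_X_add_C, mul_one]
    rw [Polynomial.natDegree_mul_C (by positivity), Polynomial.natDegree_sub_C,
      Polynomial.natDegree_eq_of_le_of_coeff_ne_zero (n := p + 1)]
    · rw [Polynomial.natDegree_le_iff_coeff_eq_zero]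
      intro N hN
      rw [Polynomial.coeff_bernoulli, if_neg (by omega)]
    · simp [Polynomial.coeff_bernoulli]
  let P₀ : ℚ[X] := ∑ p ∈ Finset.range (d + 1), Polynomial.C (Q.coeff p) * S p
  have hP₀ : ∀ m : ℚ, P₀.eval m - P₀.eval (m - 1) = Q.eval m := by
    intro m
    have hlt : Q.natDegree < d + 1 := by omega
    rw [Polynomial.eval_eq_sum_range' hlt m]
    simp only [P₀, Polynomial.eval_finset_sum, ← Finset.sum_sub_distrib, Polynomial.eval_mul,
      Polynomial.eval_C, ← mul_sub, hS]
  have hcoef : Q.coeff d ≠ 0 := by rw [← hd]; exact Polynomial.leadingCoeff_ne_zero.2 hQ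
  have hP₀deg : P₀.natDegree = d + 1 := by
    simp only [P₀, Finset.sum_range_succ]
    rw [Polynomial.natDegree_add_eq_right_of_natDegree_lt, Polynomial.natDegree_C_mul hcoef, hdeg]
    rw [Polynomial.natDegree_C_mul hcoef, hdeg]
    refine Nat.lt_succ_of_le (Polynomial.natDegree_sum_le_of_forall_le _ _ fun p hp => ?_)
    refine (Polynomial.natDegree_C_mul_le _ _).trans ?_
    rw [hdeg]; have := Finset.mem_range.1 hp; omega
  refine ⟨P₀ + Polynomial.C (φ 0 - P₀.eval 0), ?_, ?_⟩
  · rw [Polynomial.natDegree_add_C, hP₀deg]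
  · intro m
    simp only [Polynomial.eval_add, Polynomial.eval_C]
    induction m using Int.induction_on with
    | zero => simp
    | succ i ih =>
      have h1 := h ((i:ℤ) + 1)
      have h2 := hP₀ ((i:ℚ) + 1)
      rw [add_sub_cancel_right] at h1 h2
      push_cast at h1 ih ⊢
      linarith
    | pred i ih =>
      have h1 := h (-(i:ℤ))
      have h2 := hP₀ (-(i:ℚ))
      push_cast at h1 ih ⊢
      linarith

end Groth.Agent.S14405
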