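import Groth.Statements.S14408
import Groth.Agent.HilbStab.Degree
import Groth.Agent.Variety2.Reg.Pn
import Groth.Agent.PnCoh.Cohomology
import Groth.Agent.PnCoh.GeneralTwist
import Groth.Agent.Ega2Proj.TwistPow
import Groth.Agent.Variety2.ProjBasics
import Groth.Agent.QCohMod.Tensor
import Mathlib

set_option autoImplicit false
universe u
open CategoryTheory CategoryTheory.Limits AlgebraicGeometry
open HilbNum

namespace Groth.Agent.S14408

/-- Powers of `O(1)` are the twisting sheaves. -/
lemma nonempty_pow_twist (k : Type u) [Field k] (n : ℕ) : ∀ l : ℕ,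
    Nonempty (CohB1.tensorPow (Twist.twistProjSpace n k 1) l ≅ Twist.twistProjSpace n k (l : ℤ))
  | 0 => ⟨Groth.Variety2.Reg.nonempty_twist_zero.some.symm⟩
  | l + 1 => by
    obtain ⟨e⟩ := nonempty_pow_twist k n l
    obtain ⟨e'⟩ := Groth.Ega2Proj.nonempty_tensor_iso (Groth.Variety2.Reg.gen_one n k) (l : ℤ) 1
    exact ⟨PicGrp.tensorModIso e (Iso.refl _) ≪≫ e' ≪≫
      eqToIso (congrArg (Twist.twistProjSpace n k) (by push_cast; ring))⟩

/-- Let k be an algebraically closed field, n a positive integer, F a nonzero coherent O-module on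
projective n-space P over k (quasi-coherent of finite type), and P_F a polynomial with rational
coefficients such that P_F(m) = χ(F(m)) = Σ_{j ≤ n} (-1)^j dim_k H^j(P, F ⊗ O(m)) for every integer
m. Then the degree of P_F equals the dimension of the support of F (the closed set of points where
the stalk of F is nonzero, with the subspace topology). The existence of such a polynomial is not
part of this statement; it enters through the hypothesis on P_F. -/
theorem result (k : Type u) [Field k] [IsAlgClosed k] (n : ℕ) (hn : 0 < n)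
    (F : (CohB1.ProjSpace n k).Modules) (hF : Coh.IsCoh F) (hF0 : ¬ IsZero F) (P : Polynomial ℚ)
    (hP : ∀ m : ℤ,
      ((Finset.range (n + 1)).sum fun j => (-1 : ℚ) ^ j *
        (Module.finrank k (Coh.HH (CohB1.ProjSpace n k) (CohB1.tensorMod F (Twist.twistProjSpace n k m)) j) : ℚ)) =
      P.eval (m : ℚ)) :
    topologicalKrullDim ↥(CohB1.support F) = (P.natDegree : WithBot ℕ∞) := by
  have := Groth.Variety2.isProper_projSpace_toSpec n k
  have : CompactSpace (Proj (CohB1.polyGrading n k)) := by
    have hu : UniversallyClosed (CohB1.ProjSpace.toSpec n k) := this.toUniversallyClosed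
    have hq : QuasiCompact (CohB1.ProjSpace.toSpec n k) := inferInstance
    exact @QuasiCompact.compactSpace_of_compactSpace _ _ (CohB1.ProjSpace.toSpec n k) hq inferInstance
  let X := CohB1.ProjSpace n k
  let L := Twist.twistProjSpace n k 1
  have hL : CohB1.IsAmple L :=
    Groth.PnCoh.isAmple_twist_of_cover Nat.one_pos
      (Groth.Ega2Proj.iSup_basicOpen_eq_top_of_span (Groth.Variety2.Reg.gen_one n k))
  have : IsProper (X ↘ Spec (CommRingCat.of k)) := inferInstanceAs (IsProper (CohB1.ProjSpace.toSpec n k))
  refine Groth.HilbStab.natDegree_eq_dim k hL hF hF0 fun m => ?_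
  have := hF.1
  obtain ⟨e⟩ := nonempty_pow_twist k n m
  rw [show ShStab.twist X L F m = CohB1.tensorMod F (CohB1.tensorPow L m) from rfl,
    EulerDeg.euler_congr k (PicGrp.tensorModIso (Iso.refl F) e)]
  have : (CohB1.tensorMod F (Twist.twistProjSpace n k (m : ℤ))).IsQuasicoherent :=
    Groth.QCohMod.isQCoh_tensorMod
  rw [Curv2.euler, finsum_eq_sum_of_support_subset (s := Finset.range (n + 1))]
  · have h := hP (m : ℤ)
    simp only [Int.cast_natCast] at h
    rw [← h]
    push_cast
    rfl
  · intro q hq
    rw [Finset.coe_range, Set.mem_Iio]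
    by_contra hle
    have := Groth.PnCoh.subsingleton_HH_of_lt n k (CohB1.tensorMod F (Twist.twistProjSpace n k (m : ℤ)))
      (q := q) (by omega)
    exact hq (by simp [Module.finrank_zero_of_subsingleton])

end Groth.Agent.S14408
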