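import Groth.Statements.S14410
import Groth.Agent.SiteCohomology.Flasque

set_option autoImplicit false
universe u
open CategoryTheory TopologicalSpace
open CohTop

namespace Groth.Agent.S14410

/-- Let X be a topological space and 0 → F₁ → F₂ → F₃ → 0 a short exact sequence of sheaves of abelian
groups on X. If F₁ and F₃ are flasque (every restriction map is surjective), then F₂ is flasque.
(The published statement is for O_X-modules on a ringed space and is an equivalence; this row states
the implication from the outer terms to the middle term, for the underlying abelian sheaves.) -/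
theorem result (X : TopCat.{u})
    (S : ShortComplex (TopCat.Sheaf AddCommGrpCat.{u} X)) (hS : S.ShortExact)
    [S.X₁.IsFlasque] [S.X₃.IsFlasque] : S.X₂.IsFlasque := by
  refine (Groth.SiteCohomology.isFlasque_iff_surjective S.X₂).2 fun U V f s => ?_
  obtain ⟨t, ht⟩ := (Groth.SiteCohomology.isFlasque_iff_surjective S.X₃).1 inferInstance f (S.g.hom.app (Opposite.op V) s)
  obtain ⟨t', rfl⟩ := Groth.SiteCohomology.surjective_sections_of_flasque hS U t
  have h0 : S.g.hom.app (Opposite.op V) (s - S.X₂.obj.map f.op t') = 0 := by
    rw [map_sub, ← ht, sub_eq_zero]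
    exact (ConcreteCategory.congr_hom (S.g.hom.naturality f.op) t').symm
  obtain ⟨a, ha⟩ := TopCat.Sheaf.sections_exact_of_left_exact hS.1 hS.2 _ h0
  obtain ⟨b, hb⟩ := (Groth.SiteCohomology.isFlasque_iff_surjective S.X₁).1 inferInstance f a
  refine ⟨S.f.hom.app (Opposite.op U) b + t', ?_⟩
  rw [map_add]
  have e := ConcreteCategory.congr_hom (S.f.hom.naturality f.op) b
  rw [← eq_sub_iff_add_eq, ← ha, ← hb]
  exact e.symm

end Groth.Agent.S14410
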