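import Groth.Statements.S14412
import Mathlib
-- import your own Groth.Agent.* helpers here

set_option autoImplicit false
set_option backward.isDefEq.respectTransparency false
universe u
open CategoryTheory
open CAlg

namespace Groth.Agent.S14412

open CategoryTheory.Abelian (Ext)

/-- The localisation functor. -/
noncomputable abbrev locF {R : Type u} [CommRing R] (S : Submonoid R) :
    ModuleCat.{u} R ⥤ ModuleCat.{u} (Localization S) :=
  ModuleCat.localizedModuleFunctor.{u} S

theorem locF_map_smul {R : Type u} [CommRing R] (S : Submonoid R) {M N : ModuleCat.{u} R} (r : R)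
    (f : M ⟶ N) :
    (locF S).map (r • f) = algebraMap R (Localization S) r • (locF S).map f := by
  ext x
  change IsLocalizedModule.mapExtendScalars S (M.localizedModuleMkLinearMap S)
      (N.localizedModuleMkLinearMap S) (Localization S) (r • f.hom) x =
    algebraMap R (Localization S) r • IsLocalizedModule.mapExtendScalars S
      (M.localizedModuleMkLinearMap S) (N.localizedModuleMkLinearMap S) (Localization S) f.hom x
  rw [map_smul, LinearMap.smul_apply, algebraMap_smul]

theorem locF_ext_smul {R : Type u} [CommRing R] (S : Submonoid R) {M N : ModuleCat.{u} R} (r : R)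
    {i : ℕ} (e : Ext M N i) :
    (r • e).mapExactFunctor (locF S) =
      algebraMap R (Localization S) r • e.mapExactFunctor (locF S) := by
  have h : r • e = (Ext.mk₀ (r • 𝟙 M)).comp e (zero_add i) := by
    rw [Ext.mk₀_smul, Ext.smul_comp, Ext.mk₀_id_comp]
  rw [h, Ext.mapExactFunctor_comp, Ext.mapExactFunctor_mk₀, locF_map_smul,
    CategoryTheory.Functor.map_id, Ext.mk₀_smul, Ext.smul_comp, Ext.mk₀_id_comp]

theorem torsion_map_zero {R : Type u} [CommRing R] (S : Submonoid R) {M N : ModuleCat.{u} R}
    {i : ℕ} (e : Ext M N i) (h : ∃ s : S, (s : R) • e = 0) :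
    (locF S).mapExtAddHom M N i e = 0 := by
  obtain ⟨s, hs⟩ := h
  have h1 := locF_ext_smul S (s : R) e
  rw [hs] at h1
  have h2 : algebraMap R (Localization S) (s : R) • e.mapExactFunctor (locF S) = 0 := by
    rw [← h1]
    exact map_zero ((locF S).mapExtAddHom M N i)
  exact (IsUnit.smul_eq_zero (IsLocalization.map_units (Localization S) s)).mp h2

theorem ext_zero_case {R : Type u} [CommRing R] (S : Submonoid R) (M N : ModuleCat.{u} R)
    [Module.FinitePresentation R M] :
    (∀ y : Ext ((locF S).obj M) ((locF S).obj N) 0, ∃ (e : Ext M N 0) (s : S),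
        algebraMap R (Localization S) (s : R) • y = (locF S).mapExtAddHom M N 0 e) ∧
      ∀ e : Ext M N 0, (locF S).mapExtAddHom M N 0 e = 0 → ∃ s : S, (s : R) • e = 0 := by
  let Φ := IsLocalizedModule.mapExtendScalars S (M.localizedModuleMkLinearMap S)
    (N.localizedModuleMkLinearMap S) (Localization S)
  have hΦ : IsLocalizedModule S Φ := inferInstance
  refine ⟨fun y => ?_, fun e he => ?_⟩
  · obtain ⟨g, rfl⟩ := (Ext.mk₀_bijective _ _).2 y
    obtain ⟨⟨φ, s⟩, hs⟩ := IsLocalizedModule.surj S Φ g.hom
    refine ⟨Ext.mk₀ (ModuleCat.ofHom φ), s, ?_⟩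
    rw [Functor.mapExtAddHom_apply, Ext.mapExactFunctor_mk₀, ← Ext.mk₀_smul]
    congr 1
    ext x
    change algebraMap R (Localization S) (s : R) • g.hom x = Φ φ x
    let z : N.localizedModule S := g.hom x
    exact (algebraMap_smul (Localization S) (s : R) z).trans (LinearMap.congr_fun hs x)
  · obtain ⟨φ, rfl⟩ := (Ext.mk₀_bijective _ _).2 e
    rw [Functor.mapExtAddHom_apply, Ext.mapExactFunctor_mk₀] at he
    have h0 : (locF S).map φ = 0 := (Ext.mk₀_bijective _ _).1 (by simpa using he)
    have h1 : Φ φ.hom = 0 := congrArg ModuleCat.Hom.hom h0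
    obtain ⟨s, hs⟩ := (IsLocalizedModule.eq_zero_iff S Φ).mp h1
    refine ⟨s, ?_⟩
    rw [← Ext.mk₀_smul, show (s : R) • φ = 0 from ModuleCat.hom_ext hs, Ext.mk₀_zero]

theorem ext_main {R : Type u} [CommRing R] [IsNoetherianRing R] (S : Submonoid R)
    (N : ModuleCat.{u} R) : ∀ (i : ℕ) (M : ModuleCat.{u} R) [Module.Finite R M],
    (∀ y : Ext ((locF S).obj M) ((locF S).obj N) i, ∃ (e : Ext M N i) (s : S),
        algebraMap R (Localization S) (s : R) • y = (locF S).mapExtAddHom M N i e) ∧
      ∀ e : Ext M N i, (locF S).mapExtAddHom M N i e = 0 → ∃ s : S, (s : R) • e = 0 := by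
  intro i
  induction i with
  | zero =>
    intro M _
    have := Module.finitePresentation_of_finite R M
    exact ext_zero_case S M N
  | succ n ih =>
    intro M _
    obtain ⟨k, π, hπ⟩ := Module.Finite.exists_fin' R M
    let T : ShortComplex (ModuleCat.{u} R) := ShortComplex.mk
      (X₁ := ModuleCat.of R (LinearMap.ker π)) (X₂ := ModuleCat.of R (Fin k → R)) (X₃ := M)
      (ModuleCat.ofHom (LinearMap.ker π).subtype) (ModuleCat.ofHom π)
      (ModuleCat.hom_ext (LinearMap.ext fun x => x.2))
    have hT : T.ShortExact :=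
      { exact := (ShortComplex.ShortExact.moduleCat_exact_iff_function_exact T).mpr
          (LinearMap.exact_subtype_ker_map π)
        mono_f := (ModuleCat.mono_iff_injective _).mpr (LinearMap.ker π).subtype_injective
        epi_g := (ModuleCat.epi_iff_surjective _).mpr hπ }
    have hT' := hT.map_of_exact (locF S)
    have : Module.Finite R T.X₁ := inferInstanceAs (Module.Finite R (LinearMap.ker π))
    have : Module.Finite R T.X₂ := inferInstanceAs (Module.Finite R (Fin k → R))
    have hp : Projective T.X₂ := (IsProjective.iff_projective (R := R) (Fin k → R)).mp inferInstance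
    have hp' : Projective (T.map (locF S)).X₂ := by
      have : Module.Projective R T.X₂ := inferInstanceAs (Module.Projective R (Fin k → R))
      have hl : IsLocalizedModule S (T.X₂.localizedModuleMkLinearMap S) :=
        ModuleCat.localizedModule_isLocalizedModule T.X₂ S
      have h : Module.Projective (Localization S) (T.X₂.localizedModule S) :=
        Module.projective_of_isLocalizedModule S (T.X₂.localizedModuleMkLinearMap S) (Rₛ := Localization S)
      exact (IsProjective.iff_projective (R := Localization S) (T.X₂.localizedModule S)).mp h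
    have hδ : ∀ a : Ext T.X₁ N n, (locF S).mapExtAddHom M N (n + 1)
        (hT.extClass.comp a (add_comm 1 n)) =
        hT'.extClass.comp ((locF S).mapExtAddHom T.X₁ N n a) (add_comm 1 n) := fun a => by
      rw [Functor.mapExtAddHom_apply, Functor.mapExtAddHom_apply, Ext.mapExactFunctor_comp,
        Ext.mapExactFunctor_extClass]
    refine ⟨fun y => ?_, fun e he => ?_⟩
    · obtain ⟨b, rfl⟩ := Ext.contravariant_sequence_exact₃ hT' _ y
        (Ext.eq_zero_of_projective _) (add_comm 1 n)
      obtain ⟨a, s, hs⟩ := (ih T.X₁).1 b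
      refine ⟨hT.extClass.comp a (add_comm 1 n), s, ?_⟩
      rw [hδ, ← hs, Ext.comp_smul]
    · obtain ⟨a, rfl⟩ := Ext.contravariant_sequence_exact₃ hT N e
        (Ext.eq_zero_of_projective _) (add_comm 1 n)
      rw [hδ] at he
      obtain ⟨b, hb⟩ := Ext.contravariant_sequence_exact₁ hT' _ _ (add_comm 1 n) he
      obtain ⟨c, s, hc⟩ := (ih T.X₂).1 b
      have h0 : (locF S).mapExtAddHom T.X₁ N n
          ((s : R) • a - (Ext.mk₀ T.f).comp c (zero_add n)) = 0 := by
        rw [map_sub, Functor.mapExtAddHom_apply, Functor.mapExtAddHom_apply,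
          Ext.mapExactFunctor_comp, Ext.mapExactFunctor_mk₀, locF_ext_smul]
        change algebraMap R (Localization S) (s : R) • (locF S).mapExtAddHom T.X₁ N n a -
          (Ext.mk₀ ((locF S).map T.f)).comp ((locF S).mapExtAddHom T.X₂ N n c) (zero_add n) = 0
        have hb' : (Ext.mk₀ ((locF S).map T.f)).comp b (zero_add n) =
            (locF S).mapExtAddHom T.X₁ N n a := hb
        rw [← hc, Ext.comp_smul, ← hb', sub_self]
      obtain ⟨t, ht⟩ := (ih T.X₁).2 _ h0
      refine ⟨t * s, ?_⟩
      rw [smul_sub, sub_eq_zero] at ht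
      rw [Submonoid.coe_mul, mul_smul, ← Ext.comp_smul, ← Ext.comp_smul, ht, Ext.comp_smul,
        hT.extClass_comp_assoc, smul_zero]

/-- Let R be a Noetherian commutative ring, S a multiplicative subset of R, and M, N finitely generated
R-modules. For i ≥ 0 consider the map Ext^i_R(M, N) → Ext^i_{S⁻¹R}(S⁻¹M, S⁻¹N) induced on Ext groups
(computed in the categories of modules) by the exact localization functor M ↦ S⁻¹M. Then this map
exhibits its target as the localization S⁻¹ Ext^i_R(M, N): every element of the target, after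
multiplication by some s ∈ S, is the image of an element of Ext^i_R(M, N), and an element of
Ext^i_R(M, N) maps to zero if and only if it is annihilated by some element of S. (Equivalently, the
induced map identifies S⁻¹Ext^i_R(M, N) with Ext^i_{S⁻¹R}(S⁻¹M, S⁻¹N).) -/
theorem result (R : Type u) [CommRing R] [IsNoetherianRing R]
    (S : Submonoid R) (M N : ModuleCat.{u} R) [Module.Finite R M] [Module.Finite R N] (i : ℕ) :
    (∀ y : Abelian.Ext ((ModuleCat.localizedModuleFunctor.{u} S).obj M) ((ModuleCat.localizedModuleFunctor.{u} S).obj N) i,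
        ∃ (e : Abelian.Ext M N i) (s : S),
          algebraMap R (Localization S) (s : R) • y = (ModuleCat.localizedModuleFunctor.{u} S).mapExtAddHom M N i e) ∧
      (∀ e : Abelian.Ext M N i,
        (ModuleCat.localizedModuleFunctor.{u} S).mapExtAddHom M N i e = 0 ↔ ∃ s : S, (s : R) • e = 0) := by
  obtain ⟨h1, h2⟩ := ext_main S N i M
  exact ⟨h1, fun e => ⟨h2 e, torsion_map_zero S e⟩⟩

end Groth.Agent.S14412
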