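import Groth.Statements.S14413
import Mathlib

set_option autoImplicit false
universe u
open CategoryTheory CategoryTheory.Limits
open CAlg

namespace Groth.Agent.S14413
private theorem exists_res {C : Type*} [Category C] [Abelian C] [EnoughProjectives C] :
    ∀ (d : ℕ) (M : C), HasProjectiveDimensionLE M d →
      ∃ P : ProjectiveResolution M, ∀ i : ℕ, d < i → IsZero (P.complex.X i) := by
  intro d
  induction d with
  | zero =>
    intro M hM
    haveI : Projective M := (projective_iff_hasProjectiveDimensionLE_zero M).2 hM
    refine ⟨ProjectiveResolution.self M, fun i hi => ?_⟩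
    show IsZero (((ChainComplex.single₀ C).obj M).X i)
    exact HomologicalComplex.isZero_single_obj_X _ _ _ _ (by omega)
  | succ d ih =>
    intro M hM
    let p : Projective.over M ⟶ M := Projective.π M
    let S : ShortComplex C := ShortComplex.mk (kernel.ι p) p (kernel.condition p)
    have hS : S.ShortExact :=
      { exact := ShortComplex.exact_of_f_is_kernel _ (kernelIsKernel p)
        mono_f := by dsimp [S]; infer_instance
        epi_g := by dsimp [S]; infer_instance }
    have hK : HasProjectiveDimensionLE (kernel p) d :=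
      (hS.hasProjectiveDimensionLT_X₃_iff d (by dsimp [S]; infer_instance)).1 hM
    obtain ⟨Q, hQ⟩ := ih (kernel p) hK
    let q : Q.complex.X 0 ⟶ kernel p := Q.π.f 0
    haveI hqe : Epi q := inferInstanceAs (Epi (Q.π.f 0))
    have hq0 : Q.complex.d 1 0 ≫ q = 0 := Q.complex_d_comp_π_f_zero
    let f : Q.complex.X 0 ⟶ Projective.over M := q ≫ kernel.ι p
    have hf : Q.complex.d 1 0 ≫ f = 0 := by
      show Q.complex.d 1 0 ≫ q ≫ kernel.ι p = 0
      rw [← Category.assoc, hq0, zero_comp]
    have hfp : f ≫ p = 0 := by
      show (q ≫ kernel.ι p) ≫ p = 0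
      rw [Category.assoc, kernel.condition, comp_zero]
    let K : ChainComplex C ℕ := Q.complex.augment f hf
    have hproj : ∀ n, Projective (K.X n) := by
      rintro (_ | n)
      · show Projective (Projective.over M); infer_instance
      · show Projective (Q.complex.X n); infer_instance
    have hd : K.d 1 0 = f := ChainComplex.augment_d_one_zero _ _ _
    let π : K ⟶ (ChainComplex.single₀ C).obj M := (ChainComplex.toSingle₀Equiv _ _).symm ⟨p, by
      rw [hd]; exact hfp⟩
    have hex0 : (ShortComplex.mk (K.d 1 0) p (by
        rw [hd]; exact hfp)).Exact := by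
      let α : ShortComplex.mk (K.d 1 0) p (by
        rw [hd]; exact hfp) ⟶
          ShortComplex.mk (kernel.ι p) p (kernel.condition p) :=
        { τ₁ := q, τ₂ := 𝟙 _, τ₃ := 𝟙 _
          comm₁₂ := (by show q ≫ kernel.ι p = K.d 1 0 ≫ 𝟙 _; rw [hd]; erw [Category.comp_id])
          comm₂₃ := (by show 𝟙 _ ≫ p = p ≫ 𝟙 _; simp) }
      haveI : Epi α.τ₁ := by exact hqe
      haveI : IsIso α.τ₂ := by show IsIso (𝟙 (Projective.over M)); infer_instance
      haveI : Mono α.τ₃ := by show Mono (𝟙 M); infer_instance
      exact (ShortComplex.exact_iff_of_epi_of_isIso_of_mono α).2 hS.exact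
    have hexS : ∀ n, K.ExactAt (n + 1) := by
      intro n
      rw [HomologicalComplex.exactAt_iff' _ (n + 1 + 1) (n + 1) n (by simp) (by simp)]
      cases n with
      | zero =>
        let β : ShortComplex.mk (Q.complex.d 1 0) q hq0 ⟶ K.sc' 2 1 0 :=
          { τ₁ := 𝟙 _, τ₂ := 𝟙 _, τ₃ := kernel.ι p
            comm₁₂ := (by show 𝟙 _ ≫ K.d 2 1 = Q.complex.d 1 0 ≫ 𝟙 _; erw [Category.id_comp, Category.comp_id]; rfl)
            comm₂₃ := (by show 𝟙 _ ≫ K.d 1 0 = q ≫ kernel.ι p; rw [hd]; erw [Category.id_comp]) }
        haveI : Epi β.τ₁ := by show Epi (𝟙 (Q.complex.X 1)); infer_instance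
        haveI : IsIso β.τ₂ := by show IsIso (𝟙 (Q.complex.X 0)); infer_instance
        haveI : Mono β.τ₃ := by show Mono (kernel.ι p); infer_instance
        exact (ShortComplex.exact_iff_of_epi_of_isIso_of_mono β).1 Q.exact₀
      | succ n => exact Q.exact_succ n
    refine ⟨{ complex := K, projective := hproj, π := π, quasiIso := ⟨fun n => ?_⟩ }, fun i hi => ?_⟩
    · cases n
      · rw [ChainComplex.quasiIsoAt₀_iff, ShortComplex.quasiIso_iff_of_zeros']
        · refine (ShortComplex.exact_and_epi_g_iff_of_iso ?_).2 ⟨hex0, hS.epi_g⟩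
          exact ShortComplex.isoMk (Iso.refl _) (Iso.refl _) (Iso.refl _) (by dsimp; erw [Category.id_comp, Category.comp_id]; rfl) (by dsimp; erw [Category.id_comp, Category.comp_id]; exact (ChainComplex.toSingle₀Equiv_symm_apply_f_zero (C := K) p (by rw [hd]; exact hfp)).symm)
        all_goals rfl
      · rw [quasiIsoAt_iff_exactAt']
        · exact hexS _
        · apply ChainComplex.exactAt_succ_single_obj
    · obtain ⟨j, rfl⟩ : ∃ j, i = j + 1 := ⟨i - 1, by omega⟩
      exact hQ j (by omega)


/-- Let R be a commutative ring, M an R-module and d ≥ 0. Then M has projective dimension at most d in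
the sense that Ext^i_R(M, N) = 0 for every i > d and every R-module N (Mathlib's Ext-vanishing
definition) if and only if M has a projective resolution of length at most d, i.e. a projective
resolution P whose terms P_i are zero for all i > d (the definition of pd_R(M) ≤ d by resolutions). -/
theorem result (R : Type u) [CommRing R]
    (M : ModuleCat.{u} R) (d : ℕ) :
    HasProjectiveDimensionLE M d ↔
      ∃ P : ProjectiveResolution M, ∀ i : ℕ, d < i → IsZero (P.complex.X i) := by
  constructor
  · exact exists_res d M
  · rintro ⟨P, hP⟩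
    show HasProjectiveDimensionLT M (d + 1)
    refine HasProjectiveDimensionLT.mk fun i hi Y e => ?_
    obtain ⟨x, rfl⟩ := P.extEquivCohomologyClass.symm.surjective e
    obtain ⟨z, rfl⟩ := x.mk_surjective
    have : z = 0 := by
      refine CochainComplex.HomComplex.Cocycle.ext (CochainComplex.HomComplex.Cochain.ext _ _ fun p q hpq => ?_)
      by_cases hq : q = 0
      · subst hq
        obtain rfl : p = -(i : ℤ) := by omega
        exact ((hP i (by omega)).of_iso (P.cochainComplexXIso (-(i : ℤ)) i (by simp))).eq_of_src _ _
      · exact (HomologicalComplex.isZero_single_obj_X _ _ _ _ hq).eq_of_tgt _ _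
    rw [this, CochainComplex.HomComplex.CohomologyClass.mk_zero, ProjectiveResolution.extEquivCohomologyClass_symm_zero]

end Groth.Agent.S14413
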