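import Groth.Statements.S14416
import Mathlib
-- import your own Groth.Agent.* helpers here

set_option autoImplicit false
universe u
open scoped TensorProduct
open CAlg

namespace Groth.Agent.S14416

/-- Let B → A be a ring map with A a finitely generated B-module such that for every prime ideal p of B
the fibre κ(p) ⊗_B A has dimension at most one over the residue field κ(p). Then B → A is
surjective. In scheme language: a finite morphism whose degree at every point of the target is 0 or
1 is a closed immersion. (The published statement assumes the two schemes Noetherian; that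
hypothesis plays no role and is dropped here.) -/
theorem result
    (B A : Type u) [CommRing B] [CommRing A] [Algebra B A] [Module.Finite B A]
    (h : ∀ p : PrimeSpectrum B,
      Module.finrank p.asIdeal.ResidueField (p.asIdeal.ResidueField ⊗[B] A) ≤ 1) :
    Function.Surjective (algebraMap B A) := by
  let φ : B →ₗ[B] A := Algebra.linearMap B A
  show Function.Surjective φ
  rw [← LinearMap.range_eq_top, ← Submodule.Quotient.subsingleton_iff, ← Module.support_eq_empty_iff (R := B),
    Set.eq_empty_iff_forall_notMem]
  intro p hp
  set κ := p.asIdeal.ResidueField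
  obtain ⟨x, y, hxy⟩ := (Module.mem_support_iff_nontrivial_residueField_tensorProduct p).1 hp
  apply hxy
  have hφsurj : Function.Surjective ((LinearMap.range φ).mkQ.lTensor κ) :=
    LinearMap.lTensor_surjective κ (Submodule.mkQ_surjective _)
  have key : ∀ z : κ ⊗[B] A, (LinearMap.range φ).mkQ.lTensor κ z = 0 := by
    intro z
    rcases subsingleton_or_nontrivial (κ ⊗[B] A) with hs | hn
    · rw [Subsingleton.elim z 0, map_zero]
    · haveI : Module.Finite κ (κ ⊗[B] A) := Module.Finite.base_change B κ A
      have hv : (1 : κ ⊗[B] A) ≠ 0 := one_ne_zero
      have h1 : Module.finrank κ (κ ⊗[B] A) = 1 :=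
        le_antisymm (h p) (Module.finrank_pos)
      obtain ⟨c, rfl⟩ := exists_smul_eq_of_finrank_eq_one h1 hv z
      rw [Algebra.TensorProduct.one_def, TensorProduct.smul_tmul', LinearMap.lTensor_tmul]
      have : (LinearMap.range φ).mkQ (1 : A) = 0 := by
        rw [Submodule.mkQ_apply, Submodule.Quotient.mk_eq_zero]
        exact ⟨1, map_one (algebraMap B A)⟩
      rw [this, TensorProduct.tmul_zero]
  obtain ⟨a, rfl⟩ := hφsurj x
  obtain ⟨b, rfl⟩ := hφsurj y
  rw [key, key]

end Groth.Agent.S14416
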