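import Groth.Statements.S14417
import Mathlib
import Groth.Agent.Variety2.GenSmooth

set_option autoImplicit false
universe u
open CategoryTheory AlgebraicGeometry
open Variety

namespace Groth.Agent.S14417

theorem isIso_ι_appLE {X : Scheme.{u}} (V : X.Opens) (e : ⊤ ≤ V.ι ⁻¹ᵁ V) :
    IsIso (V.ι.appLE V ⊤ e) := by
  rw [Scheme.Opens.ι_appLE]
  have hg : V ≤ V.ι ''ᵁ ⊤ := by simp
  have hg' : V.ι ''ᵁ ⊤ ≤ V := by simp
  have : IsIso (homOfLE hg') := ⟨⟨homOfLE hg, Subsingleton.elim _ _, Subsingleton.elim _ _⟩⟩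
  change IsIso (X.presheaf.map (homOfLE hg').op)
  infer_instance

/-- The relative dimension of a standard smooth algebra of domains is the transcendence degree. -/
theorem trdeg_eq_of_isStandardSmooth (R S : Type u) [CommRing R] [CommRing S] [IsDomain R]
    [IsDomain S] [Algebra R S] (m : ℕ) [Algebra.IsStandardSmoothOfRelativeDimension m R S] :
    Algebra.trdeg R S = m ∧ Function.Injective (algebraMap R S) := by
  obtain ⟨g, hg⟩ := Algebra.IsStandardSmoothOfRelativeDimension.exists_etale_mvPolynomial m R S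
  let P := MvPolynomial (Fin m) R
  let := g.toRingHom.toAlgebra
  have : IsScalarTower R P S := IsScalarTower.of_algebraMap_eq' g.comp_algebraMap.symm
  have : Algebra.Etale P S := hg
  have hinj : Function.Injective (algebraMap P S) := by
    rw [injective_iff_map_eq_zero]
    intro a ha
    by_contra hne
    have hreg : IsSMulRegular P a := (isRegular_of_ne_zero hne).left.isSMulRegular
    have h1 := hreg.of_flat (S := S)
    have h2 : a • (1 : S) = a • (0 : S) := by rw [Algebra.smul_def, ha, zero_mul, smul_zero]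
    exact one_ne_zero (h1 h2)
  have : FaithfulSMul P S := (faithfulSMul_iff_algebraMap_injective _ _).2 hinj
  have hRS : Function.Injective (algebraMap R S) := by
    rw [IsScalarTower.algebraMap_eq R P S]
    exact hinj.comp (MvPolynomial.C_injective _ _)
  refine ⟨?_, hRS⟩
  let K := FractionRing P
  let S' := Localization (Algebra.algebraMapSubmonoid S (nonZeroDivisors P))
  have hS' : Function.Injective (algebraMap S S') := by
    refine IsLocalization.injective (M := Algebra.algebraMapSubmonoid S (nonZeroDivisors P)) S' ?_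
    rintro _ ⟨a, ha, rfl⟩
    exact mem_nonZeroDivisors_of_ne_zero ((map_ne_zero_iff _ hinj).2 (nonZeroDivisors.ne_zero ha))
  let : Algebra K S' := localizationAlgebra (nonZeroDivisors P) S
  have : IsScalarTower P K S' := IsScalarTower.of_algebraMap_eq fun a => by
    rw [IsScalarTower.algebraMap_apply P S S']
    exact (IsLocalization.map_eq _ _).symm
  have : IsLocalization ((nonZeroDivisors P).map (algebraMap P S)) S' :=
    inferInstanceAs (IsLocalization (Algebra.algebraMapSubmonoid S (nonZeroDivisors P)) S')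
  have : Algebra.FormallyEtale K S' :=
    Algebra.FormallyEtale.localization_map (S := S) (nonZeroDivisors P)
  have : Algebra.EssFiniteType P S' := Algebra.EssFiniteType.comp P S S'
  have : Algebra.EssFiniteType K S' := Algebra.EssFiniteType.of_comp P K S'
  have : Module.Finite K S' := Algebra.FormallyUnramified.finite_of_free K S'
  have : Algebra.IsAlgebraic P S := ⟨fun s => by
    have h1 : IsAlgebraic K (algebraMap S S' s) := Algebra.IsAlgebraic.isAlgebraic _
    rw [← IsFractionRing.isAlgebraic_iff P K S'] at h1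
    exact (isAlgebraic_algebraMap_iff hS').1 h1⟩
  have : FaithfulSMul R P := (faithfulSMul_iff_algebraMap_injective _ _).2 (MvPolynomial.C_injective _ _)
  rw [← trdeg_add_eq R P (A := S), trdeg_eq_zero (R := P) (A := S), add_zero, MvPolynomial.trdeg_of_isDomain]
  simp

theorem isAlgebraic_stalk {X : Scheme.{u}} [IsIntegral X] {V : X.Opens} (hV : IsAffineOpen V) {x : X}
    (hx : x ∈ V) (hfield : IsField (X.presheaf.stalk x)) :
    letI := (X.presheaf.germ V x hx).hom.toAlgebra
    Algebra.IsAlgebraic Γ(X, V) (X.presheaf.stalk x) := by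
  have : Nonempty V.toScheme := ⟨⟨x, hx⟩⟩
  let := (X.presheaf.germ V x hx).hom.toAlgebra
  let := hfield.toField
  have : IsLocalization.AtPrime (X.presheaf.stalk x) (hV.primeIdealOf ⟨x, hx⟩).asIdeal :=
    hV.isLocalization_stalk ⟨x, hx⟩
  refine ⟨fun z => ?_⟩
  obtain ⟨a, s, hs, rfl⟩ := IsLocalization.exists_mk'_eq (hV.primeIdealOf ⟨x, hx⟩).asIdeal.primeCompl z
  have hs : IsUnit (algebraMap Γ(X, V) (X.presheaf.stalk x) s.1) := IsLocalization.map_units _ s
  have : IsLocalization.mk' (X.presheaf.stalk x) a s =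
      algebraMap _ _ a * (algebraMap Γ(X, V) (X.presheaf.stalk x) s.1)⁻¹ :=
    (eq_mul_inv_iff_mul_eq₀ hs.ne_zero).2 (IsLocalization.mk'_spec _ a s)
  rw [this]
  exact (isAlgebraic_algebraMap a).mul (isAlgebraic_algebraMap s.1).inv

/-- Generic smoothness on the source: let π : X → Y be a dominant morphism of finite type between
integral Noetherian schemes, sending the generic point of X to that of Y, such that the function
field K(Y) (equivalently K(X)) has characteristic zero, and let n be the transcendence degree of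
K(X) over K(Y). Then there is a nonempty (equivalently dense) open subscheme U of X on which π
restricts to a smooth morphism U → Y of relative dimension n. -/
theorem result
    (X Y : Scheme.{u}) [IsIntegral X] [IsIntegral Y] [IsNoetherian X] [IsNoetherian Y]
    (π : X ⟶ Y) [LocallyOfFiniteType π] [QuasiCompact π]
    (hdom : π.base (genericPoint X) = genericPoint Y) [CharZero Y.functionField]
    (n : ℕ) (hn : @Algebra.trdeg (Y.presheaf.stalk (π.base (genericPoint X))) X.functionField _ _
      (π.stalkMap (genericPoint X)).hom.toAlgebra = n) :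
    ∃ U : X.Opens, (U : Set X).Nonempty ∧ SmoothOfRelativeDimension n (U.ι ≫ π) := by
  let ξ := genericPoint X
  have := Groth.Variety2.locallyOfFinitePresentation_of_noetherian π
  let U₁ := π.smoothLocus
  have hξ : ξ ∈ U₁ := Groth.Variety2.genericPoint_mem_smoothLocus π hdom
  have : Smooth (U₁.ι ≫ π) := Groth.Variety2.smooth_of_le_smoothLocus π _ le_rfl
  obtain ⟨U, hU, V', hV', hξV', e', hsm⟩ := Smooth.exists_isStandardSmooth (U₁.ι ≫ π) ⟨ξ, hξ⟩
  let V := U₁.ι ''ᵁ V'
  have hV : IsAffineOpen V := hV'.image_of_isOpenImmersion U₁.ι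
  have hξV : ξ ∈ V := ⟨⟨ξ, hξ⟩, hξV', rfl⟩
  have hVU : V ≤ π ⁻¹ᵁ U := by
    rintro _ ⟨z, hz, rfl⟩
    exact e' hz
  have hsm' : (π.appLE U V hVU).hom.IsStandardSmooth := by
    have heq : π.appLE U V hVU ≫ U₁.ι.appLE V V' (U₁.ι.preimage_image_eq V').ge =
        (U₁.ι ≫ π).appLE U V' e' := Scheme.Hom.appLE_comp_appLE _ _ _ _ _ _ _
    have : IsIso (U₁.ι.appLE V V' (U₁.ι.preimage_image_eq V').ge) := by
      rw [← Scheme.Hom.appIso_hom' U₁.ι V']
      infer_instance
    rw [← RingHom.isStandardSmooth_respectsIso.cancel_right_isIso _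
      (U₁.ι.appLE V V' (U₁.ι.preimage_image_eq V').ge), ← CommRingCat.hom_comp, heq]
    exact hsm
  have : Nonempty U.toScheme := ⟨⟨π ξ, hVU hξV⟩⟩
  have : Nonempty V.toScheme := ⟨⟨ξ, hξV⟩⟩
  let := (π.appLE U V hVU).hom.toAlgebra
  have : Algebra.IsStandardSmooth Γ(Y, U) Γ(X, V) := hsm'
  obtain ⟨ι, σ, _, _, ⟨P⟩⟩ := Algebra.IsStandardSmooth.out (R := Γ(Y, U)) (S := Γ(X, V))
  have hdimP : Algebra.IsStandardSmoothOfRelativeDimension P.dimension Γ(Y, U) Γ(X, V) :=
    ⟨⟨_, _, _, inferInstance, P, rfl⟩⟩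
  obtain ⟨htr, hinj⟩ := trdeg_eq_of_isStandardSmooth Γ(Y, U) Γ(X, V) P.dimension
  have hfY : IsField (Y.presheaf.stalk (π ξ)) := Groth.Variety2.isField_stalk hdom
  have hfX : IsField (X.presheaf.stalk ξ) := Groth.Variety2.isField_stalk rfl
  let := hfY.toField
  let : Field (X.presheaf.stalk ξ) := hfX.toField
  let := (Y.presheaf.germ U (π ξ) (hVU hξV)).hom.toAlgebra
  let := (X.presheaf.germ V ξ hξV).hom.toAlgebra
  let := (π.stalkMap ξ).hom.toAlgebra
  let := ((π.stalkMap ξ).hom.comp (Y.presheaf.germ U (π ξ) (hVU hξV)).hom).toAlgebra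
  have : IsScalarTower Γ(Y, U) (Y.presheaf.stalk (π ξ)) (X.presheaf.stalk ξ) :=
    IsScalarTower.of_algebraMap_eq fun _ => rfl
  have : IsScalarTower Γ(Y, U) Γ(X, V) (X.presheaf.stalk ξ) :=
    IsScalarTower.of_algebraMap_eq' (congrArg CommRingCat.Hom.hom
      (show Y.presheaf.germ U (π ξ) (hVU hξV) ≫ π.stalkMap ξ = π.appLE U V hVU ≫ X.presheaf.germ V ξ hξV by
        refine (π.germ_stalkMap U ξ (hVU hξV)).trans ?_
        rw [Scheme.Hom.appLE, Category.assoc, TopCat.Presheaf.germ_res]))
  have : FaithfulSMul Γ(Y, U) (Y.presheaf.stalk (π ξ)) :=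
    (faithfulSMul_iff_algebraMap_injective _ _).2 (germ_injective_of_isIntegral Y (π ξ) (hVU hξV))
  have : FaithfulSMul Γ(X, V) (X.presheaf.stalk ξ) :=
    (faithfulSMul_iff_algebraMap_injective _ _).2 (germ_injective_of_isIntegral X ξ hξV)
  have : FaithfulSMul (Y.presheaf.stalk (π ξ)) (X.presheaf.stalk ξ) :=
    (faithfulSMul_iff_algebraMap_injective _ _).2 (π.stalkMap ξ).hom.injective
  have : FaithfulSMul Γ(Y, U) Γ(X, V) := (faithfulSMul_iff_algebraMap_injective _ _).2 hinj
  have := isAlgebraic_stalk hU (hVU hξV) hfY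
  have := isAlgebraic_stalk hV hξV hfX
  have h1 := trdeg_add_eq Γ(Y, U) (Y.presheaf.stalk (π ξ)) (A := X.presheaf.stalk ξ)
  have h2 := trdeg_add_eq Γ(Y, U) Γ(X, V) (A := X.presheaf.stalk ξ)
  rw [trdeg_eq_zero (R := Γ(Y, U)) (A := Y.presheaf.stalk (π ξ)), zero_add] at h1
  rw [trdeg_eq_zero (R := Γ(X, V)), add_zero, htr, ← h1] at h2
  have hmn : P.dimension = n := Nat.cast_injective.eq_iff.1 (h2.trans hn)
  rw [hmn] at hdimP
  have : IsAffine V.toScheme := hV
  refine ⟨V, ⟨ξ, hξV⟩, ⟨fun x => ⟨U, hU, ⊤, isAffineOpen_top (V : Scheme.{u}), trivial, ?_, ?_⟩⟩⟩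
  · exact fun z _ => hVU z.2
  · rw [← Scheme.Hom.appLE_comp_appLE V.ι π U V ⊤ hVU (fun z _ => z.2)]
    have := isIso_ι_appLE V (fun z _ => z.2)
    rw [CommRingCat.hom_comp, RingHom.isStandardSmoothOfRelativeDimension_respectsIso.cancel_right_isIso]
    exact hdimP

end Groth.Agent.S14417
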