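import Groth.Statements.S14418
import Mathlib.Algebra.Homology.ShortComplex.ModuleCat
import Mathlib.RingTheory.Nakayama
-- import your own Groth.Agent.* helpers here

set_option autoImplicit false
universe u
open CategoryTheory
open CAlg

namespace Groth.Agent.S14418

/-- Let B → A be a local homomorphism of Noetherian local rings, n the maximal ideal of B, and T an
additive functor from B-modules to A-modules which is B-linear (T applied to multiplication by b ∈ B
is multiplication by the image of b in A), carries finitely generated B-modules to finitely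
generated A-modules, and is half-exact on finitely generated modules (every short exact sequence of
finitely generated B-modules goes to a sequence exact at its middle term). If T(B/n) = 0 then T(N) =
0 for every finitely generated B-module N. (The published statement takes T defined on finitely
generated modules only; here T is defined on all B-modules while every hypothesis and the conclusion
concern finitely generated modules.) -/
theorem result {B A : Type u} [CommRing B] [CommRing A]
    [IsNoetherianRing B] [IsLocalRing B] [IsNoetherianRing A] [IsLocalRing A] [Algebra B A]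
    [IsLocalHom (algebraMap B A)] (T : ModuleCat.{u} B ⥤ ModuleCat.{u} A) [T.Additive]
    (hlin : ∀ (N : ModuleCat.{u} B) (b : B),
      T.map (ModuleCat.ofHom (b • (LinearMap.id : N →ₗ[B] N))) =
        ModuleCat.ofHom (algebraMap B A b • (LinearMap.id : T.obj N →ₗ[A] T.obj N)))
    (hfin : ∀ N : ModuleCat.{u} B, Module.Finite B N → Module.Finite A (T.obj N))
    (hex : ∀ S : ShortComplex (ModuleCat.{u} B), S.ShortExact → Module.Finite B S.X₁ →
      Module.Finite B S.X₂ → Module.Finite B S.X₃ → (S.map T).Exact)
    (h0 : Limits.IsZero (T.obj (ModuleCat.of B (B ⧸ IsLocalRing.maximalIdeal B))))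
    (N : ModuleCat.{u} B) [Module.Finite B N] : Limits.IsZero (T.obj N) := by
  suffices key : ∀ K : Submodule B N, Limits.IsZero (T.obj (ModuleCat.of B (N ⧸ K))) by
    exact (key ⊥).of_iso (T.mapIso (Submodule.quotEquivOfEqBot ⊥ rfl).toModuleIso.symm)
  intro K
  induction K using IsNoetherian.induction with
  | hgt K ih =>
  let M := N ⧸ K
  let P (X : Type u) [AddCommGroup X] [Module B X] : Prop := Limits.IsZero (T.obj (ModuleCat.of B X))
  have piso : ∀ {X Y : Type u} [AddCommGroup X] [Module B X] [AddCommGroup Y] [Module B Y]
      (_ : X ≃ₗ[B] Y), P X → P Y := fun e h => h.of_iso (T.mapIso e.toModuleIso.symm)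
  -- proper quotients
  have hquot : ∀ L : Submodule B M, L ≠ ⊥ → P (M ⧸ L) := by
    intro L hL
    have hlt : K < L.comap K.mkQ := by
      refine lt_of_le_of_ne (fun x hx => by
        rw [Submodule.mem_comap, Submodule.mkQ_apply, (Submodule.Quotient.mk_eq_zero K).mpr hx]
        exact L.zero_mem) fun he => hL ?_
      rw [← Submodule.map_comap_eq_of_surjective K.mkQ_surjective L, ← he, Submodule.mkQ_map_self]
    exact piso (LinearMap.quotKerEquivOfSurjective (L.mkQ ∘ₗ K.mkQ) (L.mkQ_surjective.comp K.mkQ_surjective))
      (piso (Submodule.quotEquivOfEq _ _ (by rw [LinearMap.ker_comp, Submodule.ker_mkQ])) (ih _ hlt))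
  -- half exactness
  have hmid : ∀ L : Submodule B M, P L → P (M ⧸ L) → P M := by
    intro L h1 h2
    exact (hex _ (ShortComplex.ShortExact.mk' (S := ShortComplex.mk (ModuleCat.ofHom L.subtype) (ModuleCat.ofHom L.mkQ)
        (by ext x; exact (Submodule.Quotient.mk_eq_zero L).mpr x.2))
      ((ShortComplex.moduleCat_exact_iff_range_eq_ker _).mpr (by
        show LinearMap.range L.subtype = LinearMap.ker L.mkQ
        rw [Submodule.range_subtype, Submodule.ker_mkQ]))
      ((ModuleCat.mono_iff_injective _).mpr L.injective_subtype)
      ((ModuleCat.epi_iff_surjective _).mpr L.mkQ_surjective))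
      (show Module.Finite B L from inferInstance) (show Module.Finite B M from inferInstance)
      (show Module.Finite B (M ⧸ L) from inferInstance)).isZero_of_both_zeros
        (h1.eq_of_src _ _) (h2.eq_of_tgt _ _)
  show P M
  let 𝔫 := IsLocalRing.maximalIdeal B
  by_cases hkill : ∀ b ∈ 𝔫, ∀ x : M, b • x = 0
  · rcases subsingleton_or_nontrivial M with hM | hM
    · have : Limits.IsZero (ModuleCat.of B M) := ModuleCat.isZero_of_subsingleton _
      exact T.map_isZero this
    obtain ⟨x, hx⟩ := exists_ne (0 : M)
    let f : B →ₗ[B] M := LinearMap.toSpanSingleton B M x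
    have hker : LinearMap.ker f = 𝔫 := by
      refine le_antisymm (IsLocalRing.le_maximalIdeal fun h => hx ?_) fun b hb => by simp [f, hkill b hb x]
      have := h.ge (Submodule.mem_top (x := (1 : B)))
      simpa [f] using this
    refine hmid (LinearMap.range f) (piso ((Submodule.quotEquivOfEq _ _ hker.symm).trans f.quotKerEquivRange) h0)
      (hquot _ fun h => hx ?_)
    have : f 1 = 0 := LinearMap.congr_fun (LinearMap.range_eq_bot.mp h) 1
    simpa [f] using this
  · push Not at hkill
    obtain ⟨b, hb, x, hx⟩ := hkill
    let g : M →ₗ[B] M := b • LinearMap.id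
    have hrange : LinearMap.range g ≠ ⊥ := fun h =>
      hx (by simpa [g] using LinearMap.congr_fun (LinearMap.range_eq_bot.mp h) x)
    by_cases hinj : LinearMap.ker g = ⊥
    · -- multiplication by b becomes surjective
      have hS : (ShortComplex.mk (ModuleCat.ofHom g) (ModuleCat.ofHom (LinearMap.range g).mkQ)
          (ModuleCat.hom_ext (LinearMap.ext fun (z : M) => (Submodule.Quotient.mk_eq_zero _).mpr ⟨z, rfl⟩))).ShortExact :=
        ShortComplex.ShortExact.mk' ((ShortComplex.moduleCat_exact_iff_range_eq_ker _).mpr (Submodule.ker_mkQ _).symm)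
          ((ModuleCat.mono_iff_injective _).mpr (LinearMap.ker_eq_bot.mp hinj))
          ((ModuleCat.epi_iff_surjective _).mpr (Submodule.mkQ_surjective _))
      have hepi := (hex _ hS (show Module.Finite B M from inferInstance) (show Module.Finite B M from inferInstance)
        (show Module.Finite B (M ⧸ LinearMap.range g) from inferInstance)).epi_f ((hquot _ hrange).eq_of_tgt _ _)
      have hfinA : Module.Finite A (T.obj (ModuleCat.of B M)) := hfin _ (show Module.Finite B M from inferInstance)
      have : (⊤ : Submodule A (T.obj (ModuleCat.of B M))) = ⊥ := by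
        refine Submodule.eq_bot_of_le_smul_of_le_jacobson_bot (Ideal.span {algebraMap B A b}) _ hfinA.fg_top
          (fun y _ => ?_) ?_
        · obtain ⟨z, hz⟩ := (ModuleCat.epi_iff_surjective _).mp hepi y
          rw [← hz]
          show (T.map (ModuleCat.ofHom g)).hom z ∈ _
          rw [show T.map (ModuleCat.ofHom g) = _ from hlin (ModuleCat.of B M) b]
          exact Submodule.smul_mem_smul (Ideal.mem_span_singleton_self _) Submodule.mem_top
        · rw [IsLocalRing.jacobson_eq_maximalIdeal ⊥ bot_ne_top, Ideal.span_singleton_le_iff_mem]
          exact map_nonunit (algebraMap B A) b hb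
      have hsub : Subsingleton (T.obj (ModuleCat.of B M)) :=
        ⟨fun y z => by
          have hy : y ∈ (⊥ : Submodule A _) := this ▸ Submodule.mem_top
          have hz : z ∈ (⊥ : Submodule A _) := this ▸ Submodule.mem_top
          rw [(Submodule.mem_bot A).mp hy, (Submodule.mem_bot A).mp hz]⟩
      exact ModuleCat.isZero_of_subsingleton _
    · exact hmid (LinearMap.range g) (piso g.quotKerEquivRange (hquot _ hinj)) (hquot _ hrange)

end Groth.Agent.S14418
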