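import Groth.Statements.S14419
import Groth.Agent.PicAux.SeesawReduced
import Groth.Agent.GrpschAbsch.H0General
-- import your own Groth.Agent.* helpers here

set_option autoImplicit false
universe u
open CategoryTheory CategoryTheory.Limits AlgebraicGeometry
open PicF

namespace Groth.Agent.S14419

/-- Let π : X → Y be a proper flat morphism between locally Noetherian schemes, all of whose fibres are
nonempty, geometrically connected and geometrically reduced, with Y reduced, and let L be an
invertible O_X-module whose restriction to every fibre X_y (y any point of Y) is trivial. Then π_*L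
is an invertible O_Y-module and the natural map π^*π_*L → L (the counit of the adjunction between
pullback and pushforward) is an isomorphism. (The published statement allows empty fibres, where it
fails (X empty, Y a point: the direct image is zero); this row requires every fibre nonempty, i.e. π
surjective.) -/
theorem result {X Y : Scheme.{u}} (f : X ⟶ Y)
    [IsLocallyNoetherian X] [IsLocallyNoetherian Y] [IsReduced Y] [Flat f] [IsProper f]
    [GeometricallyConnected f] [GeometricallyReduced f]
    (L : X.Modules) (hL : PicF.IsInvertible L)
    (htriv : ∀ y : Y, Nonempty ((Scheme.Modules.pullback (f.fiberι y)).obj L ≅ Coh.structureModule (f.fiber y))) :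
    PicF.IsInvertible ((Scheme.Modules.pushforward f).obj L) ∧
      IsIso ((Scheme.Modules.pullbackPushforwardAdjunction f).counit.app L) := by
  refine Groth.PicAux.Seesaw.pushforward_counit_of_fibre_trivial f (fun y => ?_) hL htriv
  have : IsProper (f.fiberToSpecResidueField y) := MorphismProperty.pullback_snd _ _ ‹_›
  have : Flat (f.fiberToSpecResidueField y) := MorphismProperty.pullback_snd _ _ ‹_›
  have : GeometricallyConnected (f.fiberToSpecResidueField y) := MorphismProperty.pullback_snd _ _ ‹_›
  have : GeometricallyReduced (f.fiberToSpecResidueField y) := MorphismProperty.pullback_snd _ _ ‹_›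
  have : LocallyOfFinitePresentation (f.fiberToSpecResidueField y) :=
    MorphismProperty.pullback_snd (P := @LocallyOfFinitePresentation) _ _ inferInstance
  obtain ⟨z⟩ : Nonempty ↥(f.fiber y) := inferInstance
  have : Nonempty (⊤ : (f.fiber y).Opens) := ⟨⟨z, trivial⟩⟩
  have hb := Groth.GrpschAbsch.H0General.appTop_bijective (f.fiberToSpecResidueField y)
  have hs : Function.Surjective (algebraMap (Y.residueField y) Γ(f.fiber y, ⊤)) :=
    hb.2.comp (ConcreteCategory.bijective_of_isIso (Scheme.ΓSpecIso (Y.residueField y)).inv).2
  exact ⟨inferInstance, hs⟩

end Groth.Agent.S14419
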