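import Groth.Statements.S14421
import Mathlib.Algebra.Homology.ShortComplex.ModuleCat
import Mathlib.CategoryTheory.Abelian.Refinements
import Mathlib.Algebra.Category.ModuleCat.Abelian
import Mathlib.Algebra.Homology.Refinements

set_option autoImplicit false
universe u v
open CategoryTheory
open HomAlg

namespace Groth.Agent.S14421

/-- Let φ : K → J be a morphism of cochain complexes of modules over a ring which is surjective in
degree p − 1. Then the map induced on cohomology in degree p is surjective if and only if the map
induced on cocycles in degree p is surjective. (Stated for cochain complexes indexed by the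
integers; the published statement is for three-term complexes in degrees p − 1, p, p + 1, which
embed as such complexes.) -/
theorem result {R : Type u} [Ring R]
    (K J : CochainComplex (ModuleCat.{v} R) ℤ) (φ : K ⟶ J) (p : ℤ) [Epi (φ.f (p - 1))] :
    Epi (HomologicalComplex.homologyMap φ p) ↔ Epi (HomologicalComplex.cyclesMap φ p) := by
  constructor
  · intro h
    let S := CategoryTheory.ShortComplex.mk (J.toCycles (p - 1) p) (J.homologyπ p) (J.toCycles_comp_homologyπ _ _)
    have hS : S.Exact := CategoryTheory.ShortComplex.exact_of_g_is_cokernel _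
      (J.homologyIsCokernel (p - 1) p (by simp))
    have : Epi (K.homologyπ p ≫ HomologicalComplex.homologyMap φ p) := epi_comp _ _
    rw [epi_iff_surjective_up_to_refinements]
    intro X y
    obtain ⟨X₁, π₁, _, x, hx⟩ := surjective_up_to_refinements_of_epi
      (K.homologyπ p ≫ HomologicalComplex.homologyMap φ p) (y ≫ J.homologyπ p)
    rw [HomologicalComplex.homologyπ_naturality] at hx
    obtain ⟨X₂, π₂, _, j, hj⟩ := hS.exact_up_to_refinements (π₁ ≫ y - x ≫ HomologicalComplex.cyclesMap φ p)
      (show (π₁ ≫ y - x ≫ HomologicalComplex.cyclesMap φ p) ≫ J.homologyπ p = 0 by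
        rw [Preadditive.sub_comp, Category.assoc, Category.assoc, hx, sub_self])
    obtain ⟨X₃, π₃, _, k, hk⟩ := surjective_up_to_refinements_of_epi (φ.f (p - 1)) j
    refine ⟨X₃, π₃ ≫ π₂ ≫ π₁, inferInstance, π₃ ≫ π₂ ≫ x + k ≫ K.toCycles (p - 1) p, ?_⟩
    change π₂ ≫ _ = j ≫ J.toCycles (p - 1) p at hj
    rw [Preadditive.comp_sub, sub_eq_iff_eq_add] at hj
    have hn : K.toCycles (p - 1) p ≫ HomologicalComplex.cyclesMap φ p = φ.f (p - 1) ≫ J.toCycles (p - 1) p := by
      rw [← cancel_mono (J.iCycles p)]
      simp
    simp only [Category.assoc, hj, Preadditive.comp_add, Preadditive.add_comp, hn, reassoc_of% hk]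
    abel
  · intro h
    have : Epi (K.homologyπ p ≫ HomologicalComplex.homologyMap φ p) := by
      rw [HomologicalComplex.homologyπ_naturality]
      infer_instance
    exact epi_of_epi (K.homologyπ p) _

end Groth.Agent.S14421
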