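import Groth.Statements.S14423
import Mathlib
import Groth.Agent.Calg7.Derived.Tor
-- import your own Groth.Agent.* helpers here

set_option autoImplicit false
universe u
open CategoryTheory
open CAlg

namespace Groth.Agent.S14423

open CategoryTheory CategoryTheory.Limits MonoidalCategory Groth.Calg7.Tor MvPolynomial
open scoped TensorProduct

section
variable {k : Type u} [Field k] {σ : Type} {M : Type u} [AddCommGroup M]
  [Module (MvPolynomial σ k) M] (ℳ : ℕ → AddSubgroup M)
  [SetLike.GradedSMul (homogeneousSubmodule σ k) ℳ] [DirectSum.Decomposition ℳ]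

/-- component in degree `d` -/
noncomputable def comp' (d : ℕ) : M →+ M :=
  AddMonoidHom.mk' (fun m => (DirectSum.decompose ℳ m d : M)) fun a b => by
    rw [DirectSum.decompose_add]; rfl

lemma comp'_smul (c : MvPolynomial σ k) {v : M} {e : ℕ} (hv : v ∈ ℳ e) (d : ℕ) :
    ∃ i, comp' ℳ d (c • v) = (if e ≤ d then homogeneousComponent i c else 0) • v ∧ (e ≤ d → i + e = d) := by
  classical
  refine ⟨d - e, ?_, fun h => Nat.sub_add_cancel h⟩
  conv_lhs => rw [← sum_homogeneousComponent c, Finset.sum_smul, map_sum]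
  have hmem : ∀ i, homogeneousComponent i c • v ∈ ℳ (i + e) := fun i =>
    SetLike.GradedSMul.smul_mem (A := homogeneousSubmodule σ k) (B := ℳ)
      (homogeneousComponent_mem i c) hv
  have hzero : ∀ i, i + e ≠ d → comp' ℳ d (homogeneousComponent i c • v) = 0 := fun i hi =>
    DirectSum.decompose_of_mem_ne ℳ (hmem i) hi
  split_ifs with h
  · rw [Finset.sum_eq_single (d - e) (fun i _ hi => hzero i (by omega))]
    · exact DirectSum.decompose_of_mem_same ℳ (by simpa [Nat.sub_add_cancel h] using hmem (d - e))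
    · intro hn
      have : homogeneousComponent (d - e) c = 0 :=
        homogeneousComponent_eq_zero _ _ (by simp only [Finset.mem_range, not_lt] at hn; omega)
      rw [this, zero_smul, map_zero]
  · rw [zero_smul]
    exact Finset.sum_eq_zero fun i _ => hzero i (by omega)

lemma exists_min_gens [Module.Finite (MvPolynomial σ k) M] :
    ∃ (s : Finset M), (∀ v ∈ s, SetLike.IsHomogeneousElem ℳ v) ∧
      Submodule.span (MvPolynomial σ k) (s : Set M) = ⊤ ∧
      ∀ c : s → MvPolynomial σ k, ∑ v, c v • (v : M) = 0 → ∀ v, constantCoeff (c v) = 0 := by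
  classical
  let P : ℕ → Prop := fun n => ∃ s : Finset M, s.card = n ∧ (∀ v ∈ s, SetLike.IsHomogeneousElem ℳ v) ∧
    Submodule.span (MvPolynomial σ k) (s : Set M) = ⊤
  have hP : ∃ n, P n := by
    obtain ⟨t, ht⟩ := Module.Finite.fg_top (R := MvPolynomial σ k) (M := M)
    refine ⟨_, t.biUnion (fun m => (DirectSum.decompose ℳ m).support.image
      (fun i => (DirectSum.decompose ℳ m i : M))), rfl, ?_, ?_⟩
    · intro v hv
      simp only [Finset.mem_biUnion, Finset.mem_image] at hv
      obtain ⟨m, -, i, -, rfl⟩ := hv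
      exact ⟨i, (DirectSum.decompose ℳ m i).2⟩
    · rw [eq_top_iff, ← ht, Submodule.span_le]
      intro m hm
      rw [SetLike.mem_coe, ← DirectSum.sum_support_decompose ℳ m]
      exact Submodule.sum_mem _ fun i hi => Submodule.subset_span
        (Finset.mem_biUnion.2 ⟨m, hm, Finset.mem_image_of_mem _ hi⟩)
  obtain ⟨s, hcard, hhom, hspan⟩ := Nat.find_spec hP
  refine ⟨s, hhom, hspan, fun c hc v₀ => ?_⟩
  by_contra h0
  obtain ⟨d, hd⟩ := hhom v₀ v₀.2
  have hsum : ∀ v : s, ∃ a : MvPolynomial σ k, comp' ℳ d (c v • (v : M)) = a • (v : M) ∧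
      (v = v₀ → a = MvPolynomial.C (constantCoeff (c v₀))) := by
    intro v
    by_cases hv : v = v₀
    · subst hv
      obtain ⟨i, hi, hie⟩ := comp'_smul ℳ (c v) hd d
      obtain rfl : i = 0 := by have := hie le_rfl; omega
      exact ⟨_, hi, fun _ => by rw [if_pos le_rfl, homogeneousComponent_zero]; rfl⟩
    · obtain ⟨e, he⟩ := hhom v v.2
      obtain ⟨i, hi, -⟩ := comp'_smul ℳ (c v) he d
      exact ⟨_, hi, fun h => absurd h hv⟩
  choose a ha ha₀ using hsum
  have h1 : ∑ v, a v • (v : M) = 0 := by
    simp only [← ha, ← map_sum, hc, map_zero]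
  rw [← Finset.add_sum_erase _ _ (Finset.mem_univ v₀), ha₀ v₀ rfl] at h1
  have hmem : (v₀ : M) ∈ Submodule.span (MvPolynomial σ k) ((s.erase v₀ : Finset M) : Set M) := by
    have e : (v₀ : M) = (MvPolynomial.C (constantCoeff (c v₀))⁻¹ : MvPolynomial σ k) •
        ((MvPolynomial.C (constantCoeff (c v₀)) : MvPolynomial σ k) • (v₀ : M)) := by
      rw [smul_smul, ← map_mul, inv_mul_cancel₀ h0, map_one, one_smul]
    suffices (MvPolynomial.C (constantCoeff (c v₀)) : MvPolynomial σ k) • (v₀ : M) ∈
        Submodule.span (MvPolynomial σ k) ((s.erase v₀ : Finset M) : Set M) by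
      have := Submodule.smul_mem _ (MvPolynomial.C (constantCoeff (c v₀))⁻¹ : MvPolynomial σ k) this
      rwa [← e] at this
    rw [eq_neg_of_add_eq_zero_left h1]
    refine (Submodule.neg_mem _ (Submodule.sum_mem _ fun v hv => ?_))
    refine Submodule.smul_mem _ _ (Submodule.subset_span ?_)
    simp only [Finset.coe_erase, Set.mem_diff, Finset.mem_coe, Set.mem_singleton_iff]
    exact ⟨v.2, fun h => (Finset.mem_erase.1 hv).1 (Subtype.ext h)⟩
  have hlt : (s.erase v₀).card < Nat.find hP := hcard ▸ Finset.card_erase_lt_of_mem v₀.2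
  refine Nat.find_min hP hlt ⟨_, rfl, fun v hv => hhom v (Finset.mem_of_mem_erase hv), ?_⟩
  rw [eq_top_iff, ← hspan, Submodule.span_le]
  intro v hv
  by_cases h : v = v₀
  · exact h ▸ hmem
  · exact Submodule.subset_span (Finset.mem_erase.2 ⟨h, hv⟩)

end

/-- Graded freeness criterion: let k be a field, S = k[x_0, …, x_n] with its standard grading by degree,
and M a finitely generated graded S-module. If Tor_1^S(M, k) = 0, where k = S/S_+ (S modulo the
ideal of polynomials with zero constant term) and Tor_1^S(M, ·) is the first left derived functor of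
M ⊗_S ·, then M is free with a basis of homogeneous elements, i.e. M is isomorphic as a graded
module to a finite direct sum of shifted copies S(−d_i). (Here the module is graded in non-negative
degrees; the published statement allows any integer degrees.) -/
theorem result (k : Type u) [Field k] (n : ℕ)
    (M : Type u) [AddCommGroup M] [Module (MvPolynomial (Fin (n + 1)) k) M]
    [Module.Finite (MvPolynomial (Fin (n + 1)) k) M]
    (ℳ : ℕ → AddSubgroup M)
    [SetLike.GradedSMul (MvPolynomial.homogeneousSubmodule (Fin (n + 1)) k) ℳ]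
    [DirectSum.Decomposition ℳ]
    (h : Limits.IsZero (((Tor (ModuleCat.{u} (MvPolynomial (Fin (n + 1)) k)) 1).obj
      (ModuleCat.of (MvPolynomial (Fin (n + 1)) k) M)).obj
      (ModuleCat.of (MvPolynomial (Fin (n + 1)) k)
        (MvPolynomial (Fin (n + 1)) k ⧸
          RingHom.ker (MvPolynomial.constantCoeff : MvPolynomial (Fin (n + 1)) k →+* k))))) :
    ∃ (ι : Type u) (b : Module.Basis ι (MvPolynomial (Fin (n + 1)) k) M),
      ∀ i, SetLike.IsHomogeneousElem ℳ (b i) := by
  classical
  obtain ⟨s, hhom, hspan, hmin⟩ := exists_min_gens (σ := Fin (n + 1)) (k := k) ℳ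
  let π : (s → MvPolynomial (Fin (n + 1)) k) →ₗ[MvPolynomial (Fin (n + 1)) k] M :=
    Fintype.linearCombination (MvPolynomial (Fin (n + 1)) k) (fun v : s => (v : M))
  have hπ : Function.Surjective π := by
    rw [← LinearMap.range_eq_top, Fintype.range_linearCombination, Subtype.range_coe_subtype]
    exact hspan
  set m := RingHom.ker (MvPolynomial.constantCoeff : MvPolynomial (Fin (n + 1)) k →+* k) with hm
  let S : ShortComplex (ModuleCat.{u} (MvPolynomial (Fin (n + 1)) k)) :=
    ShortComplex.mk
      (ModuleCat.ofHom (X := ↥(LinearMap.ker π)) (Y := s → MvPolynomial (Fin (n + 1)) k)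
        (Submodule.subtype _))
      (ModuleCat.ofHom (X := s → MvPolynomial (Fin (n + 1)) k) (Y := M) π)
      (ModuleCat.hom_ext (LinearMap.ext fun a => a.2))
  have hS : S.ShortExact :=
    { exact := (ShortComplex.ShortExact.moduleCat_exact_iff_function_exact _).2
        (LinearMap.exact_subtype_ker_map π)
      mono_f := (ModuleCat.mono_iff_injective _).2 Subtype.val_injective
      epi_g := (ModuleCat.epi_iff_surjective _).2 hπ }
  let Q := ModuleCat.of (MvPolynomial (Fin (n + 1)) k) (MvPolynomial (Fin (n + 1)) k ⧸ m)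
  haveI : Mono (mapL 0 S.f Q) := (exactL₁ hS Q 0).mono_g (h.eq_of_src _ _)
  have hzero : S.f.hom.rTensor (MvPolynomial (Fin (n + 1)) k ⧸ m) = 0 := by
    refine TensorProduct.ext' fun a q => ?_
    have hc := hmin a.1 ((Fintype.linearCombination_apply _ _ _).symm.trans a.2)
    rw [LinearMap.rTensor_tmul, LinearMap.zero_apply]
    change (a.1 : s → MvPolynomial (Fin (n + 1)) k) ⊗ₜ[MvPolynomial (Fin (n + 1)) k] q = 0
    rw [pi_eq_sum_univ' a.1, TensorProduct.sum_tmul]
    refine Finset.sum_eq_zero fun v _ => ?_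
    obtain ⟨q, rfl⟩ := Submodule.Quotient.mk_surjective _ q
    rw [TensorProduct.smul_tmul, ← Submodule.Quotient.mk_smul, smul_eq_mul,
      (Submodule.Quotient.mk_eq_zero _).2 (m.mul_mem_right q (hc v)), TensorProduct.tmul_zero]
  haveI : Subsingleton ((LinearMap.ker π) ⊗[MvPolynomial (Fin (n + 1)) k]
      (MvPolynomial (Fin (n + 1)) k ⧸ m)) := by
    have h0 : mapL 0 S.f Q = 0 := by
      haveI := ((zeroIso S.X₂).app Q).isIso_hom
      apply (cancel_mono ((zeroIso S.X₂).app Q).hom).1
      have : (S.f ▷ Q) = 0 := ModuleCat.hom_ext hzero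
      rw [Iso.app_hom, mapL_zeroIso, this, comp_zero, zero_comp]
    have hz : IsZero (T 0 S.X₁ Q) := IsZero.of_mono_eq_zero (mapL 0 S.f Q) h0
    exact ModuleCat.subsingleton_of_isZero (hz.of_iso ((zeroIso S.X₁).app Q).symm)
  have hfg : (LinearMap.ker π).FG := IsNoetherian.noetherian _
  have hle : LinearMap.ker π ≤ m • LinearMap.ker π := by
    intro a ha
    have e : Submodule.Quotient.mk (⟨a, ha⟩ : LinearMap.ker π) =
        (0 : LinearMap.ker π ⧸ m • (⊤ : Submodule (MvPolynomial (Fin (n + 1)) k) (LinearMap.ker π))) :=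
      (TensorProduct.tensorQuotEquivQuotSMul (LinearMap.ker π) m).symm.injective
        (Subsingleton.elim _ _)
    exact (Submodule.mem_smul_top_iff m _ _).1 ((Submodule.Quotient.mk_eq_zero _).1 e)
  obtain ⟨r, hr1, hr0⟩ :=
    Submodule.exists_sub_one_mem_and_smul_eq_zero_of_fg_of_le_smul m _ hfg hle
  have hr : r ≠ 0 := by
    rintro rfl
    rw [hm, RingHom.mem_ker] at hr1
    simp at hr1
  have hinj : Function.Injective π := by
    rw [← LinearMap.ker_eq_bot, Submodule.eq_bot_iff]
    intro a ha
    funext v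
    exact (mul_eq_zero.1 (congrFun (hr0 a ha) v)).resolve_left hr
  refine ⟨s, (Pi.basisFun (MvPolynomial (Fin (n + 1)) k) s).map (LinearEquiv.ofBijective π ⟨hinj, hπ⟩),
    fun v => ?_⟩
  rw [Module.Basis.map_apply, Pi.basisFun_apply]
  change SetLike.IsHomogeneousElem ℳ (π (Pi.single v 1))
  rw [Fintype.linearCombination_apply_single, one_smul]
  exact hhom v v.2

end Groth.Agent.S14423
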