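import Groth.Statements.S14425
import Groth.Agent.LocCohTransform.DepthIneq

set_option autoImplicit false
universe u
open LocCoh

namespace Groth.Agent.S14425

/-- Let (R, m) be a Noetherian local ring, M a nonzero finitely generated R-module and x_1, …, x_n
elements of m generating the ideal a. Then depth(a, M) = n if and only if x_1, …, x_n is an
M-regular sequence (each x_i a non-zero-divisor on M/(x_1, …, x_{i-1})M; the condition (x)M ≠ M is
automatic here). -/
theorem result {R : Type u} [CommRing R] [IsNoetherianRing R] [IsLocalRing R]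
    {M : Type u} [AddCommGroup M] [Module R M] [Module.Finite R M] [Nontrivial M]
    (xs : List R) (hxs : ∀ x ∈ xs, x ∈ IsLocalRing.maximalIdeal R) :
    LocCoh.idealDepth (Ideal.span {x | x ∈ xs}) M = xs.length ↔ RingTheory.Sequence.IsWeaklyRegular M xs := by
  have hle : Ideal.span {x | x ∈ xs} ≤ IsLocalRing.maximalIdeal R := Ideal.span_le.2 hxs
  have hIM := Groth.LocCohBase.smul_maximalIdeal_ne_top M
    (ne_top_of_le_ne_top (IsLocalRing.maximalIdeal.isMaximal R).ne_top hle)
  constructor
  · intro h
    exact Groth.LocCohTransform.isWeaklyRegular_of_length_le_idealDepth xs M hxs h.ge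
  · intro h
    refine le_antisymm ?_ ?_
    · exact (Groth.KoszulCone.depth_main xs (ModuleCat.of R M) ‹_› ‹_› hxs).1
    · exact (Groth.LocCohBase.le_idealDepth_iff_exists _ hIM xs.length).2
        ⟨xs, rfl, h, fun r hr => Ideal.subset_span hr⟩

end Groth.Agent.S14425
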