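import Groth.Statements.S14428
import Groth.Agent.Calg8.PointForms

set_option autoImplicit false
universe u
open CAlgX

namespace Groth.Agent.S14428

open MvPolynomial in
theorem exists_multiple_mem (k : Type u) [Field k] (n : ℕ) (hn : 3 ≤ n)
    (Λ Λ' : Finset (Fin 3 → k)) (hcard' : Λ'.card = n) (h0 : ∀ v ∈ Λ, v ≠ 0) (h0' : ∀ v ∈ Λ', v ≠ 0)
    (hdist' : ∀ v ∈ Λ', ∀ w ∈ Λ', v ≠ w → LinearIndependent k ![v, w])
    (hline' : ¬ ∃ ℓ : (Fin 3 → k) →ₗ[k] k, ℓ ≠ 0 ∧ ∀ v ∈ Λ', ℓ v = 0)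
    (heq : (MvPolynomial.homogeneousSubmodule (Fin 3) k (n - 1) ⊓ ⨅ v ∈ Λ, LinearMap.ker (MvPolynomial.aeval v).toLinearMap) = (MvPolynomial.homogeneousSubmodule (Fin 3) k (n - 1) ⊓ ⨅ v ∈ Λ', LinearMap.ker (MvPolynomial.aeval v).toLinearMap)) :
    ∀ v ∈ Λ, ∃ w ∈ Λ', ∃ c : k, v = c • w := by
  classical
  intro v hv
  by_contra! hno
  have hvw : ∀ w ∈ Λ', v ∉ Submodule.span k {w} := fun w hw hm => by
    obtain ⟨c, hc⟩ := Submodule.mem_span_singleton.1 hm
    exact hno w hw c hc.symm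
  -- a line through two points of `Λ'` avoiding `v`
  obtain ⟨w₁, hw₁⟩ : Λ'.Nonempty := Finset.card_pos.1 (by omega)
  obtain ⟨w₂, hw₂, hne, hv12⟩ : ∃ w₂ ∈ Λ', w₂ ≠ w₁ ∧ v ∉ Submodule.span k {w₁, w₂} := by
    by_contra! hall
    have hlt : Submodule.span k ({w₁, v} : Set (Fin 3 → k)) ≠ ⊤ := by
      intro htop
      have h1 := finrank_span_le_card (R := k) ({w₁, v} : Set (Fin 3 → k))
      rw [htop, finrank_top, Module.finrank_fintype_fun_eq_card, Fintype.card_fin] at h1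
      have h2 : ({w₁, v} : Set (Fin 3 → k)).toFinset.card ≤ 2 := by
        rw [Set.toFinset_insert, Set.toFinset_singleton]
        exact Finset.card_le_two
      omega
    obtain ⟨ℓ, hℓ, hℓ0⟩ := (Submodule.span k ({w₁, v} : Set (Fin 3 → k))).exists_le_ker_of_lt_top (lt_top_iff_ne_top.2 hlt)
    refine hline' ⟨ℓ, hℓ, fun w hw => ?_⟩
    have hv0 : ℓ v = 0 := hℓ0 (Submodule.subset_span (Or.inr rfl))
    have h10 : ℓ w₁ = 0 := hℓ0 (Submodule.subset_span (Or.inl rfl))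
    rcases eq_or_ne w w₁ with rfl | h
    · exact h10
    obtain ⟨a, b, hab⟩ := Submodule.mem_span_pair.1 (hall w hw h)
    have hb : b ≠ 0 := by
      rintro rfl
      rw [zero_smul, add_zero] at hab
      exact hno w₁ hw₁ a hab.symm
    have hℓw := congrArg ℓ hab
    rw [map_add, map_smul, map_smul, h10, hv0, smul_zero, zero_add, smul_eq_mul] at hℓw
    exact (mul_eq_zero.1 hℓw).resolve_left hb
  obtain ⟨f₁, hf₁, hf₁0, hf₁v⟩ : ∃ f : MvPolynomial (Fin 3) k, f.IsHomogeneous 1 ∧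
      (eval w₁ f = 0 ∧ eval w₂ f = 0) ∧ eval v f ≠ 0 := by
    obtain ⟨ℓ, hℓ, hmap⟩ := Submodule.exists_dual_map_eq_bot_of_notMem hv12 inferInstance
    have hmem : ∀ x ∈ ({w₁, w₂} : Set (Fin 3 → k)), ℓ x = 0 := fun x hx => by
      rw [← Submodule.mem_bot k, ← hmap]
      exact Submodule.mem_map_of_mem (Submodule.subset_span hx)
    refine ⟨Groth.Calg8.PointForms.linForm ℓ, Groth.Calg8.PointForms.isHomogeneous_linForm ℓ, ?_⟩
    simp only [Groth.Calg8.PointForms.eval_linForm]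
    exact ⟨⟨hmem _ (Or.inl rfl), hmem _ (Or.inr rfl)⟩, hℓ⟩
  obtain ⟨g, hg, hg0, hgv⟩ := Groth.Calg8.PointForms.exists_form_separating ((Λ'.erase w₁).erase w₂) v
    fun w hw => hvw w (Finset.mem_of_mem_erase (Finset.mem_of_mem_erase hw))
  have hcard2 : ((Λ'.erase w₁).erase w₂).card = n - 2 := by
    rw [Finset.card_erase_of_mem (Finset.mem_erase.2 ⟨hne, hw₂⟩), Finset.card_erase_of_mem hw₁, hcard']
    omega
  have hmemΛ' : f₁ * g ∈ MvPolynomial.homogeneousSubmodule (Fin 3) k (n - 1) ⊓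
      ⨅ v ∈ Λ', LinearMap.ker (MvPolynomial.aeval v).toLinearMap := by
    refine ⟨?_, ?_⟩
    · have := hf₁.mul hg
      rwa [hcard2, show 1 + (n - 2) = n - 1 by omega] at this
    · simp only [SetLike.mem_coe, Submodule.mem_iInf, LinearMap.mem_ker, AlgHom.toLinearMap_apply, aeval_eq_eval]
      intro w hw
      rw [map_mul]
      rcases eq_or_ne w w₁ with rfl | h1
      · rw [hf₁0.1, zero_mul]
      rcases eq_or_ne w w₂ with rfl | h2
      · rw [hf₁0.2, zero_mul]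
      · rw [hg0 w (Finset.mem_erase.2 ⟨h2, Finset.mem_erase.2 ⟨h1, hw⟩⟩), mul_zero]
  rw [← heq] at hmemΛ'
  have := hmemΛ'.2
  simp only [SetLike.mem_coe, Submodule.mem_iInf, LinearMap.mem_ker, AlgHom.toLinearMap_apply, aeval_eq_eval] at this
  have h := this v hv
  rw [map_mul] at h
  exact (mul_ne_zero hf₁v hgv) h

/-- Let k be a field, n ≥ 3, and let Λ and Λ' be two sets of n nonzero, pairwise linearly independent
vectors of k^3 (n distinct k-rational points of the projective plane each), neither lying on a line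
(no nonzero linear form vanishes on all of Λ, resp. Λ'). If the spaces of homogeneous forms of
degree n − 1 vanishing on Λ and on Λ' coincide, then Λ and Λ' define the same set of points of the
plane: the assignment Λ ↦ H^0(P^2, I_Λ(n − 1)), with values in a Grassmannian, is injective on
non-collinear sets. (The published statement is over an algebraically closed field; this row allows
any field and k-rational points, which is all its argument uses.) -/
theorem result (k : Type u) [Field k] (n : ℕ) (hn : 3 ≤ n)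
    (Λ Λ' : Finset (Fin 3 → k)) (hcard : Λ.card = n) (hcard' : Λ'.card = n)
    (h0 : ∀ v ∈ Λ, v ≠ 0) (h0' : ∀ v ∈ Λ', v ≠ 0)
    (hdist : ∀ v ∈ Λ, ∀ w ∈ Λ, v ≠ w → LinearIndependent k ![v, w])
    (hdist' : ∀ v ∈ Λ', ∀ w ∈ Λ', v ≠ w → LinearIndependent k ![v, w])
    (hline : ¬ ∃ ℓ : (Fin 3 → k) →ₗ[k] k, ℓ ≠ 0 ∧ ∀ v ∈ Λ, ℓ v = 0)
    (hline' : ¬ ∃ ℓ : (Fin 3 → k) →ₗ[k] k, ℓ ≠ 0 ∧ ∀ v ∈ Λ', ℓ v = 0)
    (heq : (MvPolynomial.homogeneousSubmodule (Fin 3) k (n - 1) ⊓ ⨅ v ∈ Λ, LinearMap.ker (MvPolynomial.aeval v).toLinearMap) = (MvPolynomial.homogeneousSubmodule (Fin 3) k (n - 1) ⊓ ⨅ v ∈ Λ', LinearMap.ker (MvPolynomial.aeval v).toLinearMap)) :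
    (∀ v ∈ Λ, ∃ w ∈ Λ', ∃ c : k, v = c • w) ∧ (∀ w ∈ Λ', ∃ v ∈ Λ, ∃ c : k, w = c • v) := by
  exact ⟨exists_multiple_mem k n hn Λ Λ' hcard' h0 h0' hdist' hline' heq,
    exists_multiple_mem k n hn Λ' Λ hcard h0' h0 hdist hline heq.symm⟩

end Groth.Agent.S14428
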