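import Groth.Statements.S3746
import Groth.Agent.KTheory.LFResRegular

set_option autoImplicit false
universe v u
open CategoryTheory CategoryTheory.Limits AlgebraicGeometry
attribute [local instance] HasDerivedCategory.standard
open KRR

namespace Groth.Agent.S3746

/-- Let X be a Noetherian scheme all of whose local rings are regular, on which every coherent module is
a quotient of a finite locally free module (the source assumes an ample invertible module, which it
uses only through this property). Then the homomorphism δ : K₀(finite locally free O_X-modules) ⟶
K₀(coherent O_X-modules) induced by the inclusion (recorded by the argument h) is bijective. -/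
theorem result (X : Scheme.{u}) [IsNoetherian X]
    (hreg : ∀ x : X, IsRegularLocalRing (X.presheaf.stalk x)) (hX : KRR.HasEnoughLocFree X)
    (h : ∀ M : X.Modules, FlatMod.IsFinLocFree M → Coh.IsCoh M) :
    Function.Bijective (SGA6.mapSub (𝟭 X.Modules) (KRR.vbP X) (fun M : X.Modules => Coh.IsCoh M) h) := by
  refine Groth.KTheory.LFRes.mapSub_bijective_of_eq hX ?_ h
  funext A
  refine propext ⟨?_, Groth.KTheory.LFRes.finRes_of_regular hX hreg A⟩
  rintro ⟨n, hn⟩
  exact (Groth.KTheory.LFRes.setup hX).res_le hn

end Groth.Agent.S3746
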