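import Groth.Statements.S14431
import Mathlib
import Groth.Agent.Variety2.ZeroScheme
import Groth.Agent.Variety2.BertiniRing

set_option autoImplicit false
universe u
open CategoryTheory CategoryTheory.Limits AlgebraicGeometry
open Variety

namespace Groth.Agent.S14431

/-- Let k be an algebraically closed field of characteristic zero, X an integral k-scheme of finite type
which is smooth over k, L an invertible O_X-module and s_0, …, s_m global sections of L (morphisms
O_X → L) generating L, i.e. their zero schemes have empty intersection (the sum of their zero ideal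
sheaves is the unit ideal). Then the members of the linear system spanned by the s_i corresponding
to a nonempty Zariski-open set of parameters are smooth: there is a nonzero polynomial p in m + 1
variables over k such that for every c ∈ k^{m+1} with p(c) ≠ 0 the zero scheme of the section Σ c_i
s_i is smooth over k (equivalently, the corresponding divisor is reduced with smooth support). (The
published statement is for varieties, which are separated; this row does not assume X separated.) -/
theorem result (k : Type u) [Field k] [IsAlgClosed k] [CharZero k]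
    (X : Scheme.{u}) [X.Over (Spec (CommRingCat.of k))] [IsIntegral X]
    [Smooth (X ↘ Spec (CommRingCat.of k))] [QuasiCompact (X ↘ Spec (CommRingCat.of k))]
    (L : X.Modules) (hL : FlatMod.IsFinLocFreeOfRank 1 L) (m : ℕ)
    (s : Fin (m + 1) → (Coh.structureModule X ⟶ L))
    (hgen : ⨆ i : Fin (m + 1), PicF2.zeroScheme L (s i) = ⊤) :
    ∃ p : MvPolynomial (Fin (m + 1)) k, p ≠ 0 ∧ ∀ c : Fin (m + 1) → k, MvPolynomial.eval c p ≠ 0 →
      Smooth ((PicF2.zeroScheme L (∑ i : Fin (m + 1), Formal.smulMod k (Coh.structureModule X) (c i) ≫ s i)).subschemeι ≫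
        (X ↘ Spec (CommRingCat.of k))) := by
  classical
  open Groth.Variety2 Groth.PicAux in
  have hinv : PicF.IsInvertible L := Zero.isInvertible_of_rank_one hL
  open Groth.Variety2 Groth.PicAux in
  have hcov : ∀ x : X, ∃ W : X.affineOpens, x ∈ W.1 ∧ ∃ e : Γ(L, W.1), Gen L W.1 e := by
    intro x
    obtain ⟨V, e, hxV, he⟩ := (isInvertible_iff_exists_gen L).1 hinv x
    obtain ⟨W, hW, hxW, hWV⟩ := exists_isAffineOpen_mem_and_subset (U := V) hxV
    exact ⟨⟨W, hW⟩, hxW, _, he.res hWV⟩
  choose W hxW e he using hcov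
  have : CompactSpace X := QuasiCompact.compactSpace_of_compactSpace (X ↘ Spec (CommRingCat.of k))
  obtain ⟨T, hT⟩ := isCompact_univ.elim_finite_subcover (fun x => ((W x).1 : Set X))
    (fun x => (W x).1.2) (fun x _ => Set.mem_iUnion.2 ⟨x, hxW x⟩)
  let φ : ∀ x, CommRingCat.of k ⟶ Γ(X, (W x).1) := fun x =>
    (Scheme.ΓSpecIso (CommRingCat.of k)).inv ≫ (X ↘ Spec (CommRingCat.of k)).appLE ⊤ (W x).1 le_top
  have hφspec : ∀ x, Spec.map (φ x) = (W x).2.fromSpec ≫ (X ↘ Spec (CommRingCat.of k)) := by
    intro x
    have h0 := IsAffineOpen.SpecMap_appLE_fromSpec (X ↘ Spec (CommRingCat.of k))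
      (isAffineOpen_top _) (W x).2 le_top
    rw [IsAffineOpen.fromSpec_top, Scheme.isoSpec_Spec_inv] at h0
    rw [← h0, Spec.map_comp]
  have hφsm : ∀ x, (φ x).hom.Smooth := fun x =>
    (RingHom.Smooth.respectsIso.cancel_left_isIso (Scheme.ΓSpecIso (CommRingCat.of k)).inv
      ((X ↘ Spec (CommRingCat.of k)).appLE ⊤ (W x).1 le_top)).2
      ((X ↘ Spec (CommRingCat.of k)).smooth_appLE (isAffineOpen_top _) (W x).2 le_top)
  choose a ha using fun x (i : Fin (m + 1)) =>
    (he x).exists_coeff le_rfl (Groth.Variety2.Zero.val L (s i) (W x).1)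
  simp only [Groth.PicAux.res_self] at ha
  have hspan : ∀ x, Ideal.span (Set.range (a x)) = ⊤ := by
    intro x
    have h1 := congrArg (fun I : X.IdealSheafData => I.ideal (W x)) hgen
    simp only [Scheme.IdealSheafData.ideal_iSup, iSup_apply, Scheme.IdealSheafData.ideal_top,
      Pi.top_apply] at h1
    rw [Ideal.span, Submodule.span_range_eq_iSup, ← h1]
    exact iSup_congr fun i =>
      (Groth.Variety2.Zero.zeroScheme_ideal_eq_span hinv (s i) (W x) (he x) (ha x i)).symm
  have hloc : ∀ x, ∃ p : MvPolynomial (Fin (m + 1)) k, p ≠ 0 ∧ ∀ c, MvPolynomial.eval c p ≠ 0 →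
      (CommRingCat.Hom.hom (φ x ≫ CommRingCat.ofHom (Ideal.Quotient.mk
        (Ideal.span {∑ i, (φ x).hom (c i) * a x i})))).Smooth := by
    intro x
    let := (φ x).hom.toAlgebra
    have : Algebra.Smooth k Γ(X, (W x).1) := hφsm x
    obtain ⟨p, hp, hsm⟩ := Groth.Variety2.Bertini.exists_smooth_member k Γ(X, (W x).1) (a x) (hspan x)
    exact ⟨p, hp, fun c hc => RingHom.smooth_algebraMap.2 (hsm c hc)⟩
  choose p hp hsm using hloc
  refine ⟨∏ x ∈ T, p x, Finset.prod_ne_zero_iff.2 fun x _ => hp x, fun c hc => ?_⟩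
  rw [map_prod] at hc
  set t : Coh.structureModule X ⟶ L :=
    ∑ i : Fin (m + 1), Formal.smulMod k (Coh.structureModule X) (c i) ≫ s i
  set I := PicF2.zeroScheme L t
  let g : I.subscheme ⟶ Spec (CommRingCat.of k) := I.subschemeι ≫ (X ↘ Spec (CommRingCat.of k))
  have : LocallyOfFinitePresentation g :=
    Groth.Variety2.locallyOfFinitePresentation_of_noetherian g
  change Smooth g
  rw [← Scheme.Hom.smoothLocus_eq_top_iff, eq_top_iff]
  intro z _
  obtain ⟨x, hxT, hzx⟩ := Set.mem_iUnion₂.1 (hT (Set.mem_univ (I.subschemeι z)))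
  have : IsOpenImmersion (I.subschemeCover.f (W x)) := I.subschemeCover.map_prop _
  obtain ⟨w, hw⟩ : z ∈ (I.subschemeCover.f (W x)).opensRange := by
    rw [Scheme.IdealSheafData.opensRange_subschemeCover_map]; exact hzx
  have hideal : I.ideal (W x) = Ideal.span {∑ i, (φ x).hom (c i) * a x i} := by
    refine Groth.Variety2.Zero.zeroScheme_ideal_eq_span hinv t (W x) (he x) ?_
    rw [Groth.Variety2.Zero.val_sum, Finset.sum_smul]
    refine Finset.sum_congr rfl fun i _ => ?_
    rw [mul_smul, ← ha x i]
    exact (s i).app_smul ((φ x).hom (c i)) _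
  have hs : Smooth (I.subschemeCover.f (W x) ≫ g) := by
    have hc' : I.subschemeCover.f (W x) ≫ g =
        Spec.map (φ x ≫ CommRingCat.ofHom (Ideal.Quotient.mk (I.ideal (W x)))) := by
      rw [Spec.map_comp, hφspec x]
      simp only [g, ← Category.assoc, Scheme.IdealSheafData.subschemeCover_map_subschemeι,
        Scheme.IdealSheafData.glueDataObjι]
      simp only [Category.assoc]
      rfl
    rw [hc']
    refine (HasRingHomProperty.Spec_iff (P := @Smooth)).2 ?_
    rw [hideal]
    exact hsm x c (Finset.prod_ne_zero_iff.1 hc x hxT)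
  have h2 : w ∈ (I.subschemeCover.f (W x) ≫ g).smoothLocus := by
    rw [Scheme.Hom.smoothLocus_eq_top]; trivial
  rw [← Scheme.Hom.preimage_smoothLocus_eq] at h2
  exact hw ▸ h2

end Groth.Agent.S14431
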