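import Groth.Statements.S14434
import Mathlib
import Groth.Agent.Calg7.Derived.Tor
-- import your own Groth.Agent.* helpers here

set_option autoImplicit false
universe u
open CAlg

namespace Groth.Agent.S14434

open TensorProduct in
/-- multiplication by a regular element -/
theorem shortExact {R : Type u} [CommRing R] (x : R) (hx : IsSMulRegular R x) :
    (CategoryTheory.ShortComplex.mk (ModuleCat.ofHom (LinearMap.mulLeft R x))
      (ModuleCat.ofHom (Ideal.span {x}).mkQ) (by
        ext; simp [Ideal.Quotient.eq_zero_iff_mem])).ShortExact where
  exact := (CategoryTheory.ShortComplex.ShortExact.moduleCat_exact_iff_function_exact _).2 fun y => by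
    simp [Ideal.Quotient.eq_zero_iff_mem, Ideal.mem_span_singleton', eq_comm, mul_comm x]
  mono_f := (ModuleCat.mono_iff_injective _).2 hx
  epi_g := (ModuleCat.epi_iff_surjective _).2 (Submodule.mkQ_surjective _)

open scoped TensorProduct

/-- Let R be a commutative ring, M an R-module and x ∈ R a non-zero-divisor on R and on M. Then
Tor_i^R(M, R/(x)) = 0 for all i ≥ 1 (Tor computed as the left derived functors of the tensor product
on R-modules). -/
theorem result {R : Type u} [CommRing R] (M : Type u) [AddCommGroup M] [Module R M]
    (x : R) (hxR : IsSMulRegular R x) (hxM : IsSMulRegular M x) (i : ℕ) (hi : 1 ≤ i) :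
    Subsingleton (DRing.Tor R i M (R ⧸ Ideal.span {x})) := by
  have hS := shortExact x hxR
  have hR : ∀ j, CategoryTheory.Limits.IsZero (Groth.Calg7.Tor.T (j + 1) (ModuleCat.of R M) (ModuleCat.of R R)) :=
    fun j => Groth.Calg7.Tor.isZero_of_flat_right _ _ j
  obtain ⟨j, rfl⟩ := Nat.exists_eq_succ_of_ne_zero (show i ≠ 0 by omega)
  refine Groth.Calg7.Tor.subsingleton_of_isZero ?_
  cases j with
  | zero =>
    refine (Groth.Calg7.Tor.isZero_one_iff _ hS (hR 0)).2 ?_
    change Function.Injective ((LinearMap.mulLeft R x).lTensor M)
    have e : ∀ z : M ⊗[R] R, TensorProduct.rid R M ((LinearMap.mulLeft R x).lTensor M z) =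
        x • TensorProduct.rid R M z := fun z => by
      induction z using TensorProduct.induction_on with
      | zero => simp
      | tmul m r => simp [mul_smul]
      | add a b ha hb => simp only [map_add, ha, hb, smul_add]
    intro a b hab
    apply (TensorProduct.rid R M).injective
    apply hxM
    change x • TensorProduct.rid R M a = x • TensorProduct.rid R M b
    rw [← e, ← e, hab]
  | succ k => exact Groth.Calg7.Tor.isZero_R₃ _ hS (k + 1) (hR (k + 1)) (hR k)

end Groth.Agent.S14434
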