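import Groth.Statements.S14435
import Groth.Agent.LocCohTransform.Independence
import Groth.Agent.LocCohBase.Torsion

set_option autoImplicit false
universe u
open LocCoh

namespace Groth.Agent.S14435

/-- Let (A, m) be a Noetherian local ring, φ : A → B a finite homomorphism of commutative rings, a ⊆ m
an ideal and M a finitely generated B-module. Then depth(a, M), computed over A, equals depth(aB,
M), computed over B (depths by regular sequences, ⊤ when aM = M). -/
theorem result {A B : Type u} [CommRing A] [IsNoetherianRing A] [IsLocalRing A]
    [CommRing B] [Algebra A B] [Module.Finite A B] (a : Ideal A) (ha : a ≤ IsLocalRing.maximalIdeal A)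
    (M : Type u) [AddCommGroup M] [Module B M] [Module A M] [IsScalarTower A B M] [Module.Finite B M] :
    LocCoh.idealDepth a M = LocCoh.idealDepth (a.map (algebraMap A B)) M := by
  have : IsNoetherianRing B := isNoetherian_of_tower A (isNoetherian_of_isNoetherianRing_of_finite A B)
  have : Module.Finite A M := Module.Finite.trans B M
  have key : ∀ n : ℕ, (n : ℕ∞) ≤ LocCoh.idealDepth a M ↔
      (n : ℕ∞) ≤ LocCoh.idealDepth (a.map (algebraMap A B)) M := fun n => by
    rw [Groth.LocCohBase.le_idealDepth_iff_localCohomology,
      Groth.LocCohBase.le_idealDepth_iff_localCohomology]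
    refine forall₂_congr fun i _ => ?_
    obtain ⟨φ, -⟩ := Groth.LocCohTransform.exists_restrict_addEquiv (R' := B) (I := a) M i
    exact φ.toEquiv.subsingleton_congr.symm
  exact le_antisymm (Groth.LocCohBase.le_iff_forall_nat_le.2 fun n => (key n).1)
    (Groth.LocCohBase.le_iff_forall_nat_le.2 fun n => (key n).2)

end Groth.Agent.S14435
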