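import Groth.Statements.S14436
import Mathlib
-- import your own Groth.Agent.* helpers here

set_option autoImplicit false
universe u
open CAlg

namespace Groth.Agent.S14436

/-- Let L/K be a finitely generated field extension which is separable in the sense that it has a
transcendence basis a_1, …, a_n over which L is a (finite) separable extension of K(a_1, …, a_n).
Then dim_L Ω_{L/K} = n, the transcendence degree of L over K. -/
theorem result (K L : Type u) [Field K] [Field L] [Algebra K L]
    (hfg : ∃ s : Finset L, IntermediateField.adjoin K (s : Set L) = ⊤)
    (n : ℕ) (a : Fin n → L) (ha : IsTranscendenceBasis K a)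
    (hsep : Algebra.IsSeparable ↥(IntermediateField.adjoin K (Set.range a)) L) :
    Module.finrank L (Ω[L⁄K]) = n := by
  classical
  have hx : AlgebraicIndependent K a := ha.1
  let P := MvPolynomial (Fin n) K
  let F := ↥(IntermediateField.adjoin K (Set.range a))
  let e : FractionRing P ≃ₐ[K] F := hx.aevalEquivField
  letI algPF : Algebra P F := (e.toRingEquiv.toRingHom.comp (algebraMap P (FractionRing P))).toAlgebra
  haveI : IsFractionRing P F := IsLocalization.isLocalization_of_algEquiv _
    ({ e.toRingEquiv with commutes' := fun _ => rfl } : FractionRing P ≃ₐ[P] F)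
  letI algPL : Algebra P L := ((algebraMap F L).comp (algebraMap P F)).toAlgebra
  haveI : IsScalarTower P F L := IsScalarTower.of_algebraMap_eq' rfl
  haveI : IsScalarTower K P L := IsScalarTower.of_algebraMap_eq fun c => by
    show algebraMap K L c = algebraMap F L (e (algebraMap P (FractionRing P) (algebraMap K P c)))
    rw [← IsScalarTower.algebraMap_apply K P (FractionRing P), AlgEquiv.commutes,
      ← IsScalarTower.algebraMap_apply K F L]
  haveI : Algebra.FormallyEtale F L := Algebra.FormallyEtale.of_isSeparable F L
  haveI : Algebra.FormallyEtale P F := Algebra.FormallyEtale.of_isLocalization (nonZeroDivisors P)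
  haveI : Algebra.FormallyEtale P L := Algebra.FormallyEtale.comp P F L
  let bL := (Algebra.TensorProduct.basis L (KaehlerDifferential.mvPolynomialBasis K (Fin n))).map
    (KaehlerDifferential.tensorKaehlerEquivOfFormallyEtale K P L)
  rw [Module.finrank_eq_card_basis bL, Fintype.card_fin]

end Groth.Agent.S14436
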