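import Groth.Statements.S14438
import Groth.Agent.Calg4.LengthSum

set_option autoImplicit false
universe u
open CAlg

namespace Groth.Agent.S14438

/-- Let (A, m) be a local ring, B a commutative A-algebra which is free of finite rank d as an A-module,
and assume that for every maximal ideal n of B containing mB the induced map of residue fields A/m →
B/n is bijective (as for the points of a fibre of a finite flat morphism of varieties over an
algebraically closed field). Then the multiplicities of the points of the fibre add up to the
degree: the sum over all such n of the length of the B_n-module (B/mB)_n equals d. -/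
theorem result (A B : Type u) [CommRing A] [IsLocalRing A] [CommRing B] [Algebra A B]
    [Module.Free A B] [Module.Finite A B] (d : ℕ) (hd : Module.finrank A B = d)
    (hres : ∀ (n : Ideal B) [n.IsMaximal] (h : Ideal.map (algebraMap A B) (IsLocalRing.maximalIdeal A) ≤ n),
      Function.Bijective (Ideal.quotientMap n (algebraMap A B) (Ideal.map_le_iff_le_comap.mp h))) :
    finsum (fun n : {n : MaximalSpectrum B // Ideal.map (algebraMap A B) (IsLocalRing.maximalIdeal A) ≤ n.asIdeal} =>
      Module.length (Localization.AtPrime n.1.asIdeal)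
        (LocalizedModule n.1.asIdeal.primeCompl (B ⧸ Ideal.map (algebraMap A B) (IsLocalRing.maximalIdeal A)))) = (d : ℕ∞) := by
  classical
  let M := Ideal.map (algebraMap A B) (IsLocalRing.maximalIdeal A)
  let k := IsLocalRing.ResidueField A
  have hlen : Module.length A (B ⧸ M) = (d : ℕ∞) := by
    rw [((Algebra.TensorProduct.quotIdealMapEquivTensorQuot B (IsLocalRing.maximalIdeal A)).toLinearEquiv.restrictScalars A).length_eq,
      (TensorProduct.comm A B (A ⧸ IsLocalRing.maximalIdeal A)).length_eq]
    change Module.length A (TensorProduct A k B) = _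
    rw [Module.length_eq_of_surjective (S := A) (R := k) (M := TensorProduct A k B) Ideal.Quotient.mk_surjective,
      Module.length_eq_finrank k, Module.finrank_baseChange, hd]
  have hfl : IsFiniteLength B (B ⧸ M) := by
    have h : IsFiniteLength A (B ⧸ M) := by
      rw [← Module.length_ne_top_iff, hlen]; exact ENat.natCast_ne_top d
    rw [isFiniteLength_iff_isNoetherian_isArtinian] at h ⊢
    exact h.imp (fun h' => isNoetherian_of_tower A h') (fun h' => isArtinian_of_tower A h')
  have hsum := Groth.Calg4.length_eq_finsum A B (B ⧸ M) hfl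
  rw [hlen] at hsum
  rw [hsum]
  let f : MaximalSpectrum B → ℕ∞ := fun n =>
    Module.length (Localization.AtPrime n.asIdeal) (LocalizedModule n.asIdeal.primeCompl (B ⧸ M))
  have hone : ∀ n : MaximalSpectrum B, M ≤ n.asIdeal → Module.length A (B ⧸ n.asIdeal) = 1 := by
    intro n hn
    let e : (A ⧸ IsLocalRing.maximalIdeal A) ≃ₗ[A] (B ⧸ n.asIdeal) := LinearEquiv.ofBijective
      ({ toFun := Ideal.quotientMap n.asIdeal (algebraMap A B) (Ideal.map_le_iff_le_comap.mp hn)
         map_add' := map_add _
         map_smul' := fun a x => by
           obtain ⟨x, rfl⟩ := Ideal.Quotient.mk_surjective x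
           rw [Algebra.smul_def, map_mul]
           rw [RingHom.id_apply, Algebra.smul_def]
           rfl } : (A ⧸ IsLocalRing.maximalIdeal A) →ₗ[A] (B ⧸ n.asIdeal)) (hres n.asIdeal hn)
    have : IsSimpleModule A (A ⧸ IsLocalRing.maximalIdeal A) :=
      isSimpleModule_iff_isCoatom.mpr (Ideal.isMaximal_def.mp inferInstance)
    rw [← e.length_eq]
    exact Module.length_eq_one A _
  have hzero : ∀ n : MaximalSpectrum B, ¬ M ≤ n.asIdeal → f n = 0 := by
    intro n hn
    rw [Module.length_eq_zero_iff, LocalizedModule.subsingleton_iff]
    obtain ⟨s, hs, hsn⟩ := SetLike.not_le_iff_exists.mp hn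
    refine fun x => ⟨s, hsn, ?_⟩
    obtain ⟨y, rfl⟩ := Ideal.Quotient.mk_surjective x
    rw [Algebra.smul_def, Ideal.Quotient.algebraMap_eq, Ideal.Quotient.eq_zero_iff_mem.mpr hs, zero_mul]
  refine Eq.trans ?_ (finsum_subtype_eq_finsum_cond (f := f) (fun n : MaximalSpectrum B => M ≤ n.asIdeal)).symm |>.symm
  refine finsum_congr fun n => ?_
  by_cases hn : M ≤ n.asIdeal
  · rw [finsum_eq_if, if_pos hn, hone n hn, one_mul]
  · rw [finsum_eq_if, if_neg hn]
    exact (show Module.length A (B ⧸ n.asIdeal) * f n = 0 by rw [hzero n hn, mul_zero])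

end Groth.Agent.S14438
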