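import Groth.Statements.S3551
import Groth.Agent.ProjTilde.Finite

set_option autoImplicit false
universe u
open CategoryTheory CategoryTheory.Limits AlgebraicGeometry
open EGA2
open Groth.ProjTilde

namespace Groth.Agent.S3551

/-- Let S be a graded ring whose irrelevant ideal S_+ is generated by finitely many elements of degree
one, and X = Proj S. Then every quasi-coherent O_X-module of finite type is isomorphic to N~ for
some finitely generated graded S-module N (graded in nonnegative degrees). -/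
theorem result {R A : Type u} [CommRing R] [CommRing A] [Algebra R A] (𝒜 : ℕ → Submodule R A) [GradedAlgebra 𝒜]
    (s : Finset A) (hs1 : ∀ f ∈ s, f ∈ 𝒜 1)
    (hs : (HomogeneousIdeal.irrelevant 𝒜).toIdeal = Ideal.span (s : Set A))
    (F : (Proj 𝒜).Modules) (hF : Coh.IsQCoh F) (hFT : CohB1.IsFT F) :
    ∃ (N : Type u) (_ : AddCommGroup N) (_ : Module R N) (_ : Module A N) (_ : IsScalarTower R A N)
      (𝒩 : ℕ → Submodule R N) (_ : DirectSum.Decomposition 𝒩) (_ : SetLike.GradedSMul 𝒜 𝒩),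
      Module.Finite A N ∧ Nonempty (GrTilde.tilde 𝒜 𝒩 0 ≅ F) := by
  classical
  have : F.IsQuasicoherent := hF
  have hfin : ∀ f : s, Module.Finite Γ(Proj 𝒜, Proj.basicOpen 𝒜 (f : A))
      Γ(F, Proj.basicOpen 𝒜 (f : A)) := fun f ↦ QCohMod.finite_sections F hFT
    (Proj.isAffineOpen_basicOpen 𝒜 _ (hs1 f f.2) Nat.one_pos)
  choose G hG using fun f ↦ (hfin f).fg_top
  choose n m hm hc using fun (f : s) (g : G f) ↦ exists_coef_eq (hs1 := hs1) hF f g.1
  let T : Set (gammaStar hs1 F) := Set.range fun p : Σ f : s, G f ↦ m p.1 p.2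
  have hT : ∀ t ∈ T, ∃ d, t ∈ gammaGrading hs1 F d := by
    rintro _ ⟨p, rfl⟩
    exact ⟨_, hm p.1 p.2⟩
  let : DirectSum.Decomposition (subGrading (gammaGrading hs1 F) (Submodule.span A T)) :=
    (subGrading_isInternal (𝒜 := 𝒜) _ hT).chooseDecomposition
  let D := subData (gammaGrading hs1 F) (gammaData hs1 F) (Submodule.span A T)
  have : IsIso (toHom D hs) := isIso_toHom D hs hF
    (fun f v ↦ exists_mem_span_c_eq _ (gammaData hs1 F) _ f (hG f) (fun g hg ↦
      ⟨n f ⟨g, hg⟩, m f ⟨g, hg⟩, Submodule.subset_span (Set.mem_range_self (⟨f, ⟨g, hg⟩⟩ : Σ f : s, G f)), hm f ⟨g, hg⟩,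
        hc f ⟨g, hg⟩⟩) v)
    (fun f k x hx h0 ↦ by
      obtain ⟨N, hN⟩ := exists_pow_smul_eq_zero_of_coef hF f k x.1 hx h0
      exact ⟨N, Subtype.ext hN⟩)
  exact ⟨Submodule.span A T, _, _, _, inferInstance,
    subGrading (gammaGrading hs1 F) (Submodule.span A T), inferInstance, inferInstance,
    Module.Finite.iff_fg.2 (Submodule.fg_span (Set.finite_range _)), ⟨asIso (toHom D hs)⟩⟩

end Groth.Agent.S3551
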