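import Groth.Statements.S14439
import Groth.Agent.Variety2.Reg.FreeSheaf
import Groth.Agent.Variety2.Reg.IntGr
import Groth.Agent.GrSyz.Length
import Groth.Agent.S3551
import Groth.Agent.PnCoh.Cohomology

set_option autoImplicit false
universe u
open CategoryTheory CategoryTheory.Limits AlgebraicGeometry
open Variety

open Groth.Variety2.Reg

namespace Groth.Agent.S14439

lemma assemble {X : Scheme.{u}} {F M : X.Modules} {rk : ℕ → ℕ} (T : ∀ i, Fin (rk i) → X.Modules)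
    (O : ℕ → ℤ → X.Modules) {deg : ∀ i, Fin (rk i) → ℤ} (hT : ∀ i b, T i b = O i (-deg i b))
    (D : ∀ i, (∐ T (i + 1)) ⟶ ∐ T i) (hD : ∀ i, D (i + 1) ≫ D i = 0)
    (hex : ∀ i, (ShortComplex.mk (D (i + 1)) (D i) (hD i)).Exact) (A : (∐ T 0) ⟶ M) (w : D 0 ≫ A = 0)
    (hw : (ShortComplex.mk (D 0) A w).Exact) (hA : Epi A) (e : M ≅ F) {N : ℕ}
    (hlen : ∀ i, N < i → rk i = 0) :
    ∃ (C : ChainComplex X.Modules ℕ) (π : C.X 0 ⟶ F) (w : C.d 1 0 ≫ π = 0),
      (∀ i : ℕ, N < i → IsZero (C.X i)) ∧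
      (∀ i : ℕ, ∃ (m : ℕ) (d : Fin m → ℤ), Nonempty (C.X i ≅ ∐ fun j : Fin m => O i (d j))) ∧
      (∀ i : ℕ, 1 ≤ i → IsZero (C.homology i)) ∧ Epi π ∧ (ShortComplex.mk (C.d 1 0) π w).Exact := by
  let C := ChainComplex.of (fun i => ∐ T i) D hD
  have hd : ∀ i, C.d (i + 1) i = D i := fun i => by simp [C]
  refine ⟨C, A ≫ e.hom, by rw [hd 0, ← Category.assoc, w, zero_comp], fun i hi => ?_, fun i => ?_,
    fun i hi => ?_, epi_comp' hA inferInstance, ?_⟩
  · have : IsEmpty (Fin (rk i)) := by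
      rw [hlen i hi]
      infer_instance
    exact (IsZero.iff_id_eq_zero _).mpr (Sigma.hom_ext _ _ fun b => isEmptyElim b)
  · exact ⟨rk i, fun b => -deg i b, ⟨Sigma.mapIso fun b => eqToIso (hT i b)⟩⟩
  · obtain ⟨i, rfl⟩ : ∃ j, i = j + 1 := ⟨i - 1, by omega⟩
    rw [← HomologicalComplex.exactAt_iff_isZero_homology,
      HomologicalComplex.exactAt_iff' _ (i + 2) (i + 1) i (by simp) (by simp)]
    refine ShortComplex.exact_of_iso ?_ (hex i)
    exact ShortComplex.isoMk (Iso.refl _) (Iso.refl _) (Iso.refl _)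
      (by
        change 𝟙 (∐ T (i + 1 + 1)) ≫ C.d (i + 1 + 1) (i + 1) = D (i + 1) ≫ 𝟙 (∐ T (i + 1))
        rw [hd, Category.id_comp, Category.comp_id])
      (by
        change 𝟙 (∐ T (i + 1)) ≫ C.d (i + 1) i = D i ≫ 𝟙 (∐ T i)
        rw [hd, Category.id_comp, Category.comp_id])
  · refine ShortComplex.exact_of_iso ?_ hw
    exact ShortComplex.isoMk (Iso.refl _) (Iso.refl _) e (by
        change 𝟙 (∐ T (0 + 1)) ≫ C.d (0 + 1) 0 = D 0 ≫ 𝟙 (∐ T 0)
        rw [hd, Category.id_comp, Category.comp_id]) (by simp)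

/-- Let k be an algebraically closed field, n ≥ 0 and F a coherent sheaf on P^n_k. Then F has a locally
free resolution 0 → E_{n+1} → ⋯ → E_1 → E_0 → F → 0 of length at most n + 1 in which every E_i is a
finite direct sum of twisting sheaves O(d): there are a chain complex C of O-modules with C_i = 0
for i > n + 1, each C_i isomorphic to a finite coproduct of twisting sheaves, exact in positive
degrees, and an epimorphism C_0 → F whose kernel is the image of C_1 → C_0. -/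
theorem result (k : Type u) [Field k] [IsAlgClosed k] (n : ℕ)
    (F : (CohB1.ProjSpace n k).Modules) (hF : Coh.IsCoh F) :
    ∃ (C : ChainComplex (CohB1.ProjSpace n k).Modules ℕ) (π : C.X 0 ⟶ F) (w : C.d 1 0 ≫ π = 0),
      (∀ i : ℕ, n + 1 < i → IsZero (C.X i)) ∧
      (∀ i : ℕ, ∃ (m : ℕ) (d : Fin m → ℤ), Nonempty (C.X i ≅ ∐ fun j : Fin m => Twist.twistProjSpace n k (d j))) ∧
      (∀ i : ℕ, 1 ≤ i → IsZero (C.homology i)) ∧ Epi π ∧ (ShortComplex.mk (C.d 1 0) π w).Exact := by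
  classical
  let s : Finset (MvPolynomial (Fin (n + 1)) k) := Finset.univ.image MvPolynomial.X
  have hs1 : ∀ f ∈ s, f ∈ CohB1.polyGrading n k 1 := fun f hf => by
    obtain ⟨i, -, rfl⟩ := Finset.mem_image.mp hf
    exact MvPolynomial.isHomogeneous_X k i
  have hs : (HomogeneousIdeal.irrelevant (CohB1.polyGrading n k)).toIdeal = Ideal.span (s : Set _) := by
    refine le_antisymm ((Groth.PnCoh.irrelevant_le_span_X n k).trans (Ideal.span_mono ?_))
      (Ideal.span_le.mpr fun f hf => HomogeneousIdeal.mem_irrelevant_of_mem _ Nat.one_pos (hs1 f hf))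
    rintro _ ⟨i, rfl⟩
    exact Finset.mem_image.mpr ⟨i.down, Finset.mem_univ _, rfl⟩
  obtain ⟨N, _, _, _, _, 𝒩, _, _, hfin, ⟨e⟩⟩ := Groth.Agent.S3551.result (CohB1.polyGrading n k) s hs1 hs F hF.1 hF.2
  let : DirectSum.Decomposition (zP 𝒩) := (zP_isInternal 𝒩).chooseDecomposition
  have : SetLike.GradedSMul (GrSyz.stdGr k (Fin (n + 1))) (zP 𝒩) := zP_gradedSMul 𝒩
  have : SetLike.GradedSMul (CohB1.polyGrading n k) (fun i : ℕ => zP 𝒩 (i : ℤ)) :=
    inferInstanceAs (SetLike.GradedSMul (CohB1.polyGrading n k) 𝒩)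
  obtain ⟨R, hR⟩ := Groth.GrSyzLib.exists_minimal (k := k) (σ := Fin (n + 1)) N (zP 𝒩)
  have hlen : R.HasLengthLE (n + 1) :=
    (Groth.GrSyzLib.hasLengthLE_iff R hR (n + 1)).mpr (Groth.GrSyzLib.pdLT_polynomial N)
  obtain ⟨w, hw⟩ := exact_shD_shAug R
  exact assemble (X := Proj (CohB1.polyGrading n k)) (fun b c => Twist.twist (CohB1.polyGrading n k) (-R.deg b c))
    (fun b c => Twist.twist (CohB1.polyGrading n k) c) (fun b c => rfl)
    (shD R) (shD_comp R) (exact_shD R) (shAug R) w hw (epi_shAug R) e hlen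

end Groth.Agent.S14439
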