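import Groth.Statements.S1444
import Groth.Agent.Limits.TopDegreeFibre
import Groth.Agent.QCohMod.Category

set_option autoImplicit false
universe u
open FlatMor

namespace Groth.Agent.S1444

open AlgebraicGeometry CategoryTheory Limits in
/-- Let f : X → Y be proper with Y affine, all fibres of f of dimension at most 1, and H¹(X_y, O_{X_y})
= 0 for every point y of Y. Then H¹(X, F) = 0 for every quasi-coherent O_X-module F which is
globally generated (a quotient of a direct sum of copies of the structure sheaf). -/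
theorem result {X Y : Scheme.{u}} (f : X ⟶ Y) [IsProper f] [IsAffine Y]
    (hdim : ∀ y : Y, topologicalKrullDim ↑(f.fiber y) ≤ 1) (hH1 : ∀ y : Y, Subsingleton (Coh.HH (f.fiber y) (Coh.structureModule (f.fiber y)) 1))
    (F : X.Modules) (hF : Coh.IsQCoh F) (ι : Type u) (e : (∐ fun _ : ι => Coh.structureModule X) ⟶ F) [Epi e] :
    Subsingleton (Coh.HH X F 1) := by
  haveI : F.IsQuasicoherent := hF
  let q : X ⟶ Spec (CommRingCat.of Γ(Y, ⊤)) := f ≫ Y.isoSpec.hom
  letI : X.Over (Spec (CommRingCat.of Γ(Y, ⊤))) := ⟨q⟩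
  haveI : IsProper (X ↘ Spec (CommRingCat.of Γ(Y, ⊤))) := inferInstanceAs (IsProper q)
  have hd : ∀ P, topologicalKrullDim ↥((X ↘ Spec (CommRingCat.of Γ(Y, ⊤))).fiber P) ≤ (1 : ℕ) :=
    fun P => (Groth.FibreDim.dim_fiber_baseChange f Y.isoSpec.inv q (𝟙 X)
      (IsPullback.of_horiz_isIso ⟨by simp [q]⟩) P).le.trans (hdim _)
  have hO : Coh.IsCoh (Coh.structureModule X) := (Groth.QCohMod.isCoh_iff _).mpr
    ⟨inferInstance, fun U _ => inferInstanceAs (Module.Finite Γ(X, U) Γ(X, U))⟩
  have h0 : Subsingleton (Coh.HH X (Coh.structureModule X) 1) := by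
    refine subsingleton_of_forall_eq 0 fun h => ?_
    by_contra hne
    obtain ⟨P, hP, hle⟩ := Ideal.exists_le_maximal (Ideal.torsionOf Γ(Y, ⊤) _ h)
      (by rwa [Ne, Ideal.torsionOf_eq_top_iff])
    have hV := isAffineOpen_top Y
    let y : Y := hV.fromSpec.base ⟨P, hP.isPrime⟩
    have hy : y ∈ (⊤ : Y.Opens) := trivial
    letI : Algebra Γ(Y, ⊤) (Y.residueField y) := (Y.evaluation ⊤ y hy).hom.toAlgebra
    letI : (f.fiber y).Over (Spec (CommRingCat.of (Y.residueField y))) :=
      ⟨f.fiberToSpecResidueField y⟩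
    have hsq : Groth.CohBase.IsBC (A := Γ(Y, ⊤)) (A' := Y.residueField y) (f.fiberι y) := by
      have h₁ : IsPullback (f.fiberι y) (f.fiberToSpecResidueField y) f
          (Y.fromSpecResidueField y) := IsPullback.of_hasPullback f (Y.fromSpecResidueField y)
      refine h₁.of_iso (Iso.refl _) (Iso.refl _) (Iso.refl _) Y.isoSpec (by simp) (by simp; rfl)
        (by simp [q]; rfl) ?_
      simp only [Iso.refl_hom, Category.id_comp]
      rw [← Groth.CohBase.SpecMap_evaluation_fromSpec hV y hy, IsAffineOpen.fromSpec_top,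
        Category.assoc, Iso.inv_hom_id, Category.comp_id]
      rfl
    obtain ⟨e⟩ := Groth.PicAux.pullback_structure_iso (f.fiberι y)
    haveI := hH1 y
    obtain ⟨s, hs, hsh⟩ := Groth.Limits.FibreVanishing.exists_smul_eq_zero_of_fibre 1 hd _ hO
      (Y.residueField y) hsq
      (Groth.CohC3.hmap_bijective_of_isIso (A := Y.residueField y) e.hom 1).1.subsingleton h
    have hys := (Y.evaluation_ne_zero_iff_mem_basicOpen y hy s).1 hs
    have hPs : (⟨P, hP.isPrime⟩ : PrimeSpectrum Γ(Y, ⊤)) ∈ PrimeSpectrum.basicOpen s :=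
      (hV.fromSpec_preimage_basicOpen s).le hys
    exact hPs (hle ((Ideal.mem_torsionOf_iff _ _).2 hsh))
  haveI : X.IsSeparated := Groth.CohFin.isSeparated_of_proper (X ↘ Spec (CommRingCat.of Γ(Y, ⊤)))
  haveI hfree := Groth.Limits.FibreVanishing.subsingleton_HH_free (A := Γ(Y, ⊤)) 1 hd h0 ι
  haveI : (∐ fun _ : ι => Coh.structureModule X).IsQuasicoherent := Groth.QCohMod.isQCoh_sigma _
  let S : ShortComplex X.Modules := ShortComplex.mk (kernel.ι e) e (kernel.condition e)
  have hS : S.ShortExact :=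
    ShortComplex.ShortExact.mk' (ShortComplex.exact_of_f_is_kernel S (kernelIsKernel e))
      inferInstance inferInstance
  haveI : (kernel e).IsQuasicoherent := Groth.QCohMod.isQCoh_kernel _
  haveI := Groth.Limits.FibreVanishing.subsingleton_HH_of_dim_fiber_le (A := Γ(Y, ⊤)) 1 hd
    (kernel e) 2 (by omega)
  refine subsingleton_of_forall_eq 0 fun x => ?_
  obtain ⟨x', hx'⟩ := Groth.CohC3.exists_of_hdelta_eq_zero (A := Γ(Y, ⊤)) hS x (Subsingleton.elim _ _)
  rw [← hx', hfree.elim x' 0]
  exact map_zero _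

end Groth.Agent.S1444
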