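import Groth.Statements.S14442
import Mathlib

set_option autoImplicit false
universe u
open GrNak

namespace Groth.Agent.S14442

/-- Let R be a commutative ℕ-graded ring with irrelevant ideal R_+ = ⊕_{i>0} R_i, M an ℕ-graded R-module
and N a graded submodule of M (closed under taking homogeneous components). If M = R_+ M + N then N
= M. (The published statement is for finitely generated ℤ-graded modules over a graded quotient of a
polynomial ring, whose degrees are then bounded below; stated here for non-negatively graded modules
over any ℕ-graded commutative ring, where the same lowest-degree argument applies without finite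
generation.) -/
theorem result {R : Type u} [CommRing R] {σ : Type u} [SetLike σ R] [AddSubmonoidClass σ R]
    (𝒜 : ℕ → σ) [GradedRing 𝒜]
    {M : Type u} [AddCommGroup M] [Module R M] {τ : Type u} [SetLike τ M] [AddSubmonoidClass τ M]
    (ℳ : ℕ → τ) [DirectSum.Decomposition ℳ] [SetLike.GradedSMul 𝒜 ℳ]
    (N : Submodule R M) (hN : ∀ x ∈ N, ∀ i : ℕ, (DirectSum.decompose ℳ x i : M) ∈ N)
    (h : (HomogeneousIdeal.irrelevant 𝒜).toIdeal • (⊤ : Submodule R M) ⊔ N = ⊤) :
    N = ⊤ := by
  classical
  have key : ∀ n : ℕ, ∀ x ∈ ℳ n, x ∈ N := by
    intro n
    induction n using Nat.strong_induction_on with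
    | _ n IH =>
      intro x hx
      have hcomp : ∀ z ∈ (HomogeneousIdeal.irrelevant 𝒜).toIdeal • (⊤ : Submodule R M),
          (DirectSum.decompose ℳ z n : M) ∈ N := by
        intro z hz
        induction hz using Submodule.smul_induction_on' with
        | smul r hr m _ =>
          rw [← DirectSum.sum_support_decompose 𝒜 r, ← DirectSum.sum_support_decompose ℳ m,
            Finset.sum_smul]
          let π : M →+ M := AddMonoidHom.mk' (fun z => (DirectSum.decompose ℳ z n : M))
            (fun a b => by rw [DirectSum.decompose_add, DirectSum.add_apply, AddMemClass.coe_add])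
          change π _ ∈ N
          simp only [Finset.smul_sum, map_sum]
          refine Submodule.sum_mem _ fun i _ => Submodule.sum_mem _ fun j _ => ?_
          change (DirectSum.decompose ℳ _ n : M) ∈ N
          have hmem : (DirectSum.decompose 𝒜 r i : R) • (DirectSum.decompose ℳ m j : M) ∈ ℳ (i + j) :=
            SetLike.GradedSMul.smul_mem (DirectSum.decompose 𝒜 r i).2 (DirectSum.decompose ℳ m j).2
          by_cases hij : i + j = n
          · subst hij
            rw [DirectSum.decompose_of_mem_same ℳ hmem]
            rcases Nat.eq_zero_or_pos i with hi | hi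
            · subst hi
              have : (DirectSum.decompose 𝒜 r 0 : R) = 0 := by
                simpa [HomogeneousIdeal.mem_irrelevant_iff, GradedRing.proj_apply] using hr
              rw [this, zero_smul]; exact N.zero_mem
            · exact N.smul_mem _ (IH j (by omega) _ (DirectSum.decompose ℳ m j).2)
          · rw [DirectSum.decompose_of_mem_ne ℳ hmem hij]; exact N.zero_mem
        | add y z _ _ hy hz =>
          rw [DirectSum.decompose_add, DirectSum.add_apply, AddMemClass.coe_add]
          exact N.add_mem hy hz
      have hx' : x ∈ (HomogeneousIdeal.irrelevant 𝒜).toIdeal • (⊤ : Submodule R M) ⊔ N := by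
        rw [h]; trivial
      obtain ⟨a, ha, b, hb, hab⟩ := Submodule.mem_sup.1 hx'
      rw [← DirectSum.decompose_of_mem_same ℳ hx, ← hab, DirectSum.decompose_add, DirectSum.add_apply,
        AddMemClass.coe_add]
      exact N.add_mem (hcomp a ha) (hN b hb n)
  rw [eq_top_iff]
  intro x _
  rw [← DirectSum.sum_support_decompose ℳ x]
  exact N.sum_mem fun i _ => key i _ (DirectSum.decompose ℳ x i).2

end Groth.Agent.S14442
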