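import Groth.Statements.S14447
import Mathlib.CategoryTheory.Limits.Constructions.FiniteProductsOfBinaryProducts
import Mathlib.CategoryTheory.Limits.Preserves.Shapes.BinaryProducts
import Mathlib.CategoryTheory.Limits.Types.Products
import Mathlib.CategoryTheory.Limits.Preserves.Shapes.Terminal

set_option autoImplicit false
universe w v u
open AlgGrp

namespace Groth.Agent.S14447

open CategoryTheory CategoryTheory.Limits in
/-- Let C be a category with finite products and with all coproducts indexed by sets, and assume that
for every set I and every object U the canonical arrow ∐_{i∈I} U → (∐_{i∈I} pt) × U, whose i-th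
component pairs U → pt → ∐_{i∈I} pt (i-th coprojection) with the identity of U, is an isomorphism.
Then the discrete-object functor from sets to C, I ↦ ∐_{i∈I} pt, preserves finite products. (Sets
are the types of one fixed universe, the one indexing the coproducts. The published statement asks
only for the coproducts of copies of one object; this row assumes that C has all coproducts indexed
by sets, which Mathlib's discrete-object functor sigmaConst requires.) -/
theorem result {C : Type u} [Category.{v} C]
    [HasFiniteProducts C] [HasCoproducts.{w} C]
    (h : ∀ (I : Type w) (U : C), IsIso (Sigma.desc fun i : I =>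
      prod.lift (terminal.from U ≫ Sigma.ι (fun _ : I => ⊤_ C) i) (𝟙 U))) :
    PreservesFiniteProducts (sigmaConst.{w}.obj (⊤_ C)) := by
  let F := sigmaConst.{w}.obj (⊤_ C)
  have : PreservesLimitsOfShape (Discrete WalkingPair) F := by
    suffices h' : ∀ I J : Type w, PreservesLimit (pair I J) F from
      ⟨fun {K} => preservesLimit_of_iso_diagram _ (diagramIsoPair K).symm⟩
    intro I J
    let ψ : F.obj (I × J) ⟶ ∐ fun _ : I => F.obj J :=
      Sigma.desc fun x => Sigma.ι (fun _ : J => ⊤_ C) x.2 ≫ Sigma.ι (fun _ : I => F.obj J) x.1
    have : IsIso ψ := ⟨Sigma.desc fun i => Sigma.desc fun j => Sigma.ι (fun _ : I × J => ⊤_ C) (i, j),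
      by refine Sigma.hom_ext _ _ fun x => ?_; simp [ψ]; exact (Category.comp_id _).symm,
      by refine Sigma.hom_ext _ _ fun i => Sigma.hom_ext _ _ fun j => ?_; simp [ψ]⟩
    have := h I (F.obj J)
    let φ : F.obj (I × J) ⟶ F.obj I ⨯ F.obj J :=
      prod.lift (F.map (↾(Prod.fst : I × J → I))) (F.map (↾(Prod.snd : I × J → J)))
    have hφ : φ = ψ ≫ Sigma.desc fun i : I =>
        prod.lift (terminal.from (F.obj J) ≫ Sigma.ι (fun _ : I => ⊤_ C) i) (𝟙 (F.obj J)) := by
      refine Sigma.hom_ext _ _ fun x => ?_
      apply prod.hom_ext
      · simp [φ, ψ, F, sigmaConst]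
        rw [prod.lift_fst, prod.lift_fst, show terminal.from (⊤_ C) = 𝟙 _ from terminal.hom_ext _ _,
          Category.id_comp]
      · simp [φ, ψ, F, sigmaConst]
        rw [prod.lift_snd, prod.lift_snd]
    have : IsIso φ := by rw [hφ]; infer_instance
    have : IsIso (prodComparison F I J) := by
      have e : prodComparison F I J = F.map (Types.binaryProductIso I J).hom ≫ φ := by
        apply prod.hom_ext
        · rw [prodComparison_fst, Category.assoc, prod.lift_fst, ← F.map_comp,
            Types.binaryProductIso_hom_comp_fst]
        · rw [prodComparison_snd, Category.assoc, prod.lift_snd, ← F.map_comp,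
            Types.binaryProductIso_hom_comp_snd]
      rw [e]; infer_instance
    exact PreservesLimitPair.of_iso_prod_comparison F I J
  have : PreservesLimit (Functor.empty.{0} (Type w)) F :=
    preservesTerminal_of_iso F (F.mapIso Types.terminalIso ≪≫ coproductUniqueIso (fun _ : PUnit.{w + 1} => ⊤_ C))
  have : PreservesLimitsOfShape (Discrete PEmpty.{1}) F :=
    preservesLimitsOfShape_pempty_of_preservesTerminal F
  exact PreservesFiniteProducts.of_preserves_binary_and_terminal _

end Groth.Agent.S14447
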