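import Groth.Statements.S14457
import Mathlib

set_option autoImplicit false
universe u
open CAlg

namespace Groth.Agent.S14457

open Polynomial in
/-- Let A be a commutative ring, a an element of A and n ≥ 1 an integer. The A-algebra A[T]/(T^n − a) is
etale exactly when either n = 1 or the product n·a is a unit of A. (The exponent n is a positive
integer here; for n = 0 the quotient is (A/(1 − a))[T] and the equivalence fails.) -/
theorem result (A : Type u) [CommRing A] (a : A) (n : ℕ) (hn : 1 ≤ n) :
    Algebra.Etale A (AdjoinRoot ((X : A[X]) ^ n - C a)) ↔ n = 1 ∨ IsUnit ((n : A) * a) := by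
  have hmon : ((X : A[X]) ^ n - C a).Monic := monic_X_pow_sub_C a (by omega)
  constructor
  · intro he
    rcases eq_or_ne n 1 with h1 | h1
    · exact Or.inl h1
    refine Or.inr (by_contra fun hu => ?_)
    obtain ⟨m, hm, hmem⟩ := exists_max_ideal_of_mem_nonunits hu
    haveI := hm
    letI := Ideal.Quotient.field m
    let K := AlgebraicClosure (A ⧸ m)
    letI : Algebra A K := ((algebraMap (A ⧸ m) K).comp (Ideal.Quotient.mk m)).toAlgebra
    obtain ⟨r, hr⟩ := IsAlgClosed.exists_pow_nat_eq (algebraMap A K a) (by omega : 0 < n)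
    have hna : (n : K) * algebraMap A K a = 0 := by
      rw [← map_natCast (algebraMap A K), ← map_mul]
      show algebraMap (A ⧸ m) K (Ideal.Quotient.mk m ((n : A) * a)) = 0
      rw [Ideal.Quotient.eq_zero_iff_mem.mpr hmem, map_zero]
    have hder : (n : K) * r ^ (n - 1) = 0 := by
      rcases mul_eq_zero.mp hna with h | h
      · rw [h, zero_mul]
      · rw [h] at hr
        rw [eq_zero_of_pow_eq_zero hr, zero_pow (by omega), mul_zero]
    letI : Algebra A (DualNumber K) := TrivSqZeroExt.algebra' A K K
    let e : DualNumber K := DualNumber.eps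
    have hroot : ∀ s : K, Polynomial.aeval (algebraMap K (DualNumber K) r + s • e)
        ((X : A[X]) ^ n - C a) = 0 := by
      intro s
      refine TrivSqZeroExt.ext ?_ ?_
      · simp [TrivSqZeroExt.fst_pow, hr, e, TrivSqZeroExt.algebraMap_eq_inl']
      · simp [TrivSqZeroExt.snd_pow, e, TrivSqZeroExt.algebraMap_eq_inl', ← mul_assoc, hder]
    have hext := Algebra.FormallyUnramified.ext' (R := A) (TrivSqZeroExt.fstHom A K K).toRingHom ?_
      (AdjoinRoot.liftAlgHom _ (Algebra.ofId A (DualNumber K)) _ (hroot 0))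
      (AdjoinRoot.liftAlgHom _ (Algebra.ofId A (DualNumber K)) _ (hroot 1)) ?_
    · have h2 := congrArg (fun z : DualNumber K => z.snd)
        (DFunLike.congr_fun hext (AdjoinRoot.root _))
      simp [e] at h2
    · refine ⟨2, ?_⟩
      rw [pow_two]
      refine le_antisymm (Ideal.mul_le.mpr fun x hx y hy => ?_) bot_le
      have hx' : x.fst = 0 := hx
      have hy' : y.fst = 0 := hy
      exact (Submodule.mem_bot _).mpr (TrivSqZeroExt.ext (by simp [hx']) (by simp [hx', hy']))
    · intro x
      exact DFunLike.congr_fun (f := (TrivSqZeroExt.fstHom A K K).comp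
          (AdjoinRoot.liftAlgHom _ (Algebra.ofId A (DualNumber K)) _ (hroot 0)))
        (g := (TrivSqZeroExt.fstHom A K K).comp
          (AdjoinRoot.liftAlgHom _ (Algebra.ofId A (DualNumber K)) _ (hroot 1)))
        (AdjoinRoot.algHom_ext (by simp [e, TrivSqZeroExt.algebraMap_eq_inl'])) x
  · intro h
    have hcond : ∃ p₁ p₂ j, derivative ((X : A[X]) ^ n - C a) * p₁ + ((X : A[X]) ^ n - C a) * p₂ =
        (1 : A[X]) ^ j := by
      rcases h with rfl | h
      · exact ⟨1, 0, 0, by simp⟩
      · obtain ⟨w, hw⟩ := h.exists_left_inv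
        refine ⟨C w * X, -(C ((n : A) * w)), 0, ?_⟩
        have hX : (X : A[X]) ^ (n - 1) * X = X ^ n := by rw [← pow_succ]; congr 1; omega
        have hC : (C w : A[X]) * (C (n : A) * C a) = 1 := by rw [← map_mul, ← map_mul, hw, map_one]
        rw [derivative_sub, derivative_X_pow, derivative_C, sub_zero, pow_zero, map_mul]
        linear_combination (C (n : A) * C w) * hX + hC
    let P : StandardEtalePair A := ⟨(X : A[X]) ^ n - C a, hmon, 1, hcond⟩
    have hmap : P.HasMap (AdjoinRoot.root ((X : A[X]) ^ n - C a)) :=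
      ⟨by rw [AdjoinRoot.aeval_eq]; exact AdjoinRoot.mk_self, by simp [P]⟩
    let F := P.lift _ hmap
    let G : AdjoinRoot ((X : A[X]) ^ n - C a) →ₐ[A] P.Ring :=
      AdjoinRoot.liftAlgHom _ (Algebra.ofId A P.Ring) P.X P.hasMap_X.1
    have h1 : G.comp F = AlgHom.id A _ := P.hom_ext (by simp [F, G])
    have h2 : F.comp G = AlgHom.id A _ := AdjoinRoot.algHom_ext (by simp [F, G])
    exact Algebra.Etale.of_equiv (AlgEquiv.ofAlgHom F G h2 h1)

end Groth.Agent.S14457
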