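import Groth.Statements.S14458
import Mathlib
-- import your own Groth.Agent.* helpers here

set_option autoImplicit false
universe u
open CAlg

namespace Groth.Agent.S14458

open TensorProduct in
/-- Let R be an Artinian local ring with residue field k and M an R-module, not necessarily finitely
generated. If M ⊗_R k = 0 then M = 0. -/
theorem result {R : Type u} [CommRing R]
    [IsArtinianRing R] [IsLocalRing R] (M : Type u) [AddCommGroup M] [Module R M]
    (h : Subsingleton ((IsLocalRing.ResidueField R) ⊗[R] M)) : Subsingleton M := by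
  set m := IsLocalRing.maximalIdeal R
  have e : ((R ⧸ m) ⊗[R] M) ≃ₗ[R] M ⧸ (m • (⊤ : Submodule R M)) :=
    TensorProduct.quotTensorEquivQuotSMul M m
  haveI : Subsingleton ((R ⧸ m) ⊗[R] M) := h
  have htop : m • (⊤ : Submodule R M) = ⊤ :=
    Submodule.Quotient.subsingleton_iff.1 e.symm.toEquiv.subsingleton
  obtain ⟨n, hn⟩ : IsNilpotent m := by
    rw [show m = (⊥ : Ideal R).jacobson from (IsLocalRing.jacobson_eq_maximalIdeal _ bot_ne_top).symm]
    exact IsArtinianRing.isNilpotent_jacobson_bot
  have hpow : ∀ j, m ^ j • (⊤ : Submodule R M) = ⊤ := by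
    intro j
    induction j with
    | zero => simp
    | succ j ih => rw [pow_succ, Submodule.mul_smul, htop, ih]
  have := hpow n
  rw [hn, Submodule.zero_eq_bot, Submodule.bot_smul] at this
  exact subsingleton_of_forall_eq 0 fun x => by
    have hx : x ∈ (⊤ : Submodule R M) := trivial
    rw [← this] at hx; exact hx

end Groth.Agent.S14458
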