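import Groth.Statements.S14460
import Groth.Agent.Pi1FEt.Points

set_option autoImplicit false
set_option backward.isDefEq.respectTransparency false
universe u
open CategoryTheory CategoryTheory.Limits AlgebraicGeometry
open Pi1

namespace Groth.Agent.S14460

/-- Let Y → X be finite étale with Y nonempty and all geometric fibres of the same cardinality n, and
let a finite group G act on Y over X without fixed points (no point of Y with values in a field is
fixed by a non-identity element). Then G has at most n elements, and it has exactly n elements if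
and only if the morphism from the disjoint union of copies of Y indexed by G to Y ×_X Y, given on
the copy indexed by g by the identity and g, is an isomorphism. (For Y empty the bound fails, since
every finite group acts without fixed points on the empty cover, whose fibres have cardinality 0;
this row assumes Y nonempty.) -/
theorem result {X : Scheme.{u}} (Y : FEt.Cat X)
    [Nonempty ↥Y.left] (n : ℕ)
    (hn : ∀ (Ω : Type u) [Field Ω] [IsSepClosed Ω] (ξ : Spec (CommRingCat.of Ω) ⟶ X), Nat.card (FEt.fiberObj ξ Y) = n)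
    (G : Type u) [Group G] [Finite G] (ρ : G →* Aut Y)
    (hfree : ∀ g : G, g ≠ 1 → ∀ (K : Type u) [Field K] (y : Spec (CommRingCat.of K) ⟶ Y.left),
      y ≫ (ρ g).hom.left ≠ y) :
    Nat.card G ≤ n ∧
      (Nat.card G = n ↔ IsIso (Limits.Sigma.desc fun g : G =>
        pullback.lift (𝟙 Y.left) (ρ g).hom.left
          ((Category.id_comp Y.hom).trans (Over.w (ρ g).hom.hom).symm) : (∐ fun _ : G => Y.left) ⟶ pullback Y.hom Y.hom)) := by
  haveI : IsFinite Y.hom := Y.prop.1
  haveI : Etale Y.hom := Y.prop.2
  let w : ∀ g : G, 𝟙 Y.left ≫ Y.hom = (ρ g).hom.left ≫ Y.hom := fun g =>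
    (Category.id_comp Y.hom).trans (Over.w (ρ g).hom.hom).symm
  let s : G → (Y.left ⟶ pullback Y.hom Y.hom) := fun g => pullback.lift (𝟙 Y.left) (ρ g).hom.left (w g)
  have hs : ∀ g, s g ≫ pullback.fst Y.hom Y.hom = 𝟙 _ := fun g => pullback.lift_fst _ _ _
  have hinj : ∀ (Ω : Type u) [Field Ω] [IsAlgClosed Ω] (η : Spec (CommRingCat.of Ω) ⟶ Y.left),
      Function.Injective (Groth.Pi1FEt.pointsMap (pullback.fst Y.hom Y.hom) s hs η) := by
    intro Ω _ _ η g h hgh
    have h1 : η ≫ (ρ g).hom.left = η ≫ (ρ h).hom.left := by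
      have hs2 : ∀ g, s g ≫ pullback.snd Y.hom Y.hom = (ρ g).hom.left := fun g => pullback.lift_snd _ _ _
      have h0 : η ≫ s g = η ≫ s h := congrArg Subtype.val hgh
      rw [← hs2, ← hs2, ← Category.assoc, h0, Category.assoc]
    by_contra hne
    refine hfree (g * h⁻¹) (fun he => hne (mul_inv_eq_one.1 he)) Ω (η ≫ (ρ h).hom.left) ?_
    have hm : (ρ h).hom ≫ (ρ (g * h⁻¹)).hom = (ρ g).hom := by
      rw [← Iso.trans_hom, ← Aut.Aut_mul_def, ← map_mul, inv_mul_cancel_right]
    rw [Category.assoc]
    exact (congrArg (fun a => η ≫ a.left) hm).trans h1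
  have hdeg : ∀ t, (pullback.fst Y.hom Y.hom).finrank t = n := by
    intro t
    obtain ⟨Ω, _, _, ξ, hξ⟩ := Groth.Pi1FEt.exists_geomPoint (Y.hom t)
    rw [Scheme.Hom.finrank_pullback_fst, ← hn Ω ξ, Groth.Pi1FEt.natCard_fiberObj]
    exact (congrArg (Scheme.Hom.finrank Y.hom) hξ).symm
  obtain ⟨-, h2, h3⟩ := Groth.Pi1FEt.natCard_le_and_isIso_iff _ s hs hinj hdeg
  exact ⟨h2, h3⟩

end Groth.Agent.S14460
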