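import Groth.Statements.S14461
import Groth.Agent.Pi1FEt.FullClopen
import Groth.Agent.PropsBasic2.LocNoeth

set_option autoImplicit false
universe u
open CategoryTheory CategoryTheory.Limits AlgebraicGeometry
open Pi1

namespace Groth.Agent.S14461

/-- Let X be a Noetherian scheme and X₀ → X a closed immersion such that, for every finite étale Y → X,
the projection Y ×_X X₀ → Y induces a bijection on connected components. Then restriction of finite
étale covers from X to X₀ is full and faithful. -/
theorem result {X X₀ : Scheme.{u}} [IsNoetherian X]
    (i : X₀ ⟶ X) [IsClosedImmersion i]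
    (h : ∀ Y : FEt.Cat X, Function.Bijective (pullback.fst Y.hom i).continuous.connectedComponentsMap) :
    (FEt.restrict i).Full ∧ (FEt.restrict i).Faithful := by
  refine ⟨Groth.Pi1FEt.restrict_full_of_clopen i
      (fun A C hC hs => Groth.Pi1FEt.eq_univ_of_components _ (h A).2 hC hs) (fun A C₀ hC₀ => ?_),
    Groth.Pi1Etale.restrict_faithful_of_clopen i
      (fun A C hC hs => Groth.Pi1FEt.eq_univ_of_components _ (h A).2 hC hs)⟩
  have : IsFinite A.hom := A.prop.1
  have : IsFinite A.hom := A.prop.1
  have : IsLocallyNoetherian A.left := 
    @LocallyOfFiniteType.isLocallyNoetherian A.left X A.hom (inferInstance : LocallyOfFiniteType A.hom)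
      (inferInstance : IsLocallyNoetherian X)
  have : CompactSpace A.left := 
    @QuasiCompact.compactSpace_of_compactSpace A.left X A.hom (inferInstance : QuasiCompact A.hom) (inferInstance : CompactSpace X)
  have : IsNoetherian A.left := {}
  exact @Groth.Pi1FEt.exists_clopen_of_components _ _ _ _
    (Groth.PropsBasic2.locallyConnectedSpace fun x => ⟨Set.univ, Filter.univ_mem, @TopologicalSpace.NoetherianSpace.set A.left _ (inferInstance : TopologicalSpace.NoetherianSpace A.left) _⟩)
    _ _ (h A).1 _ hC₀

end Groth.Agent.S14461
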