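import Groth.Statements.S14462
import Groth.Agent.S0257
-- import your own Groth.Agent.* helpers here

set_option autoImplicit false
universe u
open CategoryTheory AlgebraicGeometry
open Unram

namespace Groth.Agent.S14462

/-- Let f : X → Y be finite and flat with Y locally Noetherian, and let U ⊆ Y be open with every point
of the complement having a local ring of Krull dimension at least 2. If f is étale over U, then f is
étale. -/
theorem result {X Y : Scheme.{u}} [IsLocallyNoetherian Y]
    (f : X ⟶ Y) [IsFinite f] [Flat f] (U : Y.Opens)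
    (hU : ∀ y : Y, y ∉ U → (2 : WithBot ℕ∞) ≤ ringKrullDim (Y.presheaf.stalk y))
    [Etale (f ∣_ U)] : Etale f := by
  haveI : IsLocallyNoetherian X := LocallyOfFiniteType.isLocallyNoetherian f
  have hdim : ∀ x : X, ringKrullDim (Y.presheaf.stalk (f x)) ≤ ringKrullDim (X.presheaf.stalk x) := fun x => by
    have hflat := Flat.stalkMap f x
    algebraize [(f.stalkMap x).hom]
    haveI : IsLocalHom (algebraMap (Y.presheaf.stalk (f x)) (X.presheaf.stalk x)) := f.toLRSHom.prop x
    haveI : (IsLocalRing.maximalIdeal (X.presheaf.stalk x)).LiesOver (IsLocalRing.maximalIdeal (Y.presheaf.stalk (f x))) :=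
      ⟨(IsLocalRing.maximalIdeal_comap (algebraMap (Y.presheaf.stalk (f x)) (X.presheaf.stalk x))).symm⟩
    rw [← IsLocalRing.maximalIdeal_height_eq_ringKrullDim, ← IsLocalRing.maximalIdeal_height_eq_ringKrullDim,
      Ideal.height_eq_height_add_of_liesOver_of_hasGoingDown (IsLocalRing.maximalIdeal (Y.presheaf.stalk (f x)))
        (IsLocalRing.maximalIdeal (X.presheaf.stalk x)), WithBot.coe_le_coe]
    exact le_self_add
  have hU' : ∀ x : X, f x ∈ U → ∃ V : X.Opens, x ∈ V ∧ Etale (V.ι ≫ f) := fun x hx => by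
    refine ⟨f ⁻¹ᵁ U, hx, ?_⟩
    rw [← morphismRestrict_ι f U]
    infer_instance
  have hloc : ∀ x : X, ∃ V : X.Opens, x ∈ V ∧ Etale (V.ι ≫ f) := fun x => by
    by_cases hx : f x ∈ U
    · exact hU' x hx
    refine Groth.Agent.S0257.result f x (Scheme.Hom.quasiFiniteAt f x) ((le_trans (by decide) (hU _ hx)).trans (hdim x)) fun x' _ h1 => ?_
    have hx' : f x' ∈ U := by
      by_contra h
      exact absurd (((hU _ h).trans (hdim x')).trans_eq h1) (by decide)
    obtain ⟨V, hV, _⟩ := hU' x' hx'
    have h := FormallyUnramified.stalkMap (V.ι ≫ f) ⟨x', hV⟩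
    rw [Scheme.Hom.stalkMap_comp] at h
    haveI : IsIso (V.ι.stalkMap ⟨x', hV⟩) := (IsOpenImmersion.iff_isIso_stalkMap.mp inferInstance).2 _
    exact (RingHom.FormallyUnramified.respectsIso.cancel_right_isIso _ (V.ι.stalkMap ⟨x', hV⟩)).mp h
  choose V hxV hV using hloc
  exact (IsZariskiLocalAtSource.iff_of_iSup_eq_top (P := @Etale) V
    (TopologicalSpace.Opens.ext (Set.eq_univ_of_forall fun x => by
      simp only [TopologicalSpace.Opens.coe_iSup, Set.mem_iUnion]
      exact ⟨x, hxV x⟩))).mpr hV

end Groth.Agent.S14462
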