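import Groth.Statements.S14472
import Groth.Agent.Curves1.PolDesc.Curve

set_option autoImplicit false
universe u
open CategoryTheory CategoryTheory.Limits AlgebraicGeometry
open Curves

namespace Groth.Agent.S14472

/-- Let p : S' → S be flat, surjective and locally of finite presentation (an fppf cover), and let D be
a descent datum relative to p, in functor-of-points form, on an S'-scheme C → S' which is proper and
smooth with geometrically connected fibres of dimension one and genus g ≠ 1 (g the dimension of H¹
of the structure sheaf of each fibre over its residue field). Then D is effective: D is isomorphic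
to the canonical descent datum of some scheme over S. (This is the effectivity half of the statement
that families of smooth genus-g curves, g ≠ 1, form a stack for the fppf topology; the other half,
that isomorphisms between two families form a sheaf, is not restated.) -/
theorem result {S' S : Scheme.{u}} (p : S' ⟶ S)
    [Flat p] [Surjective p] [LocallyOfFinitePresentation p] (D : Desc.SchDD p)
    [IsProper D.obj.hom] [Smooth D.obj.hom] [GeometricallyConnected D.obj.hom]
    (hdim : ∀ s : S', topologicalKrullDim ↥(D.obj.hom.fiber s) = 1) (g : ℕ) (hg : g ≠ 1)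
    (hgen : ∀ s : S', letI : (D.obj.hom.fiber s).Over (Spec (S'.residueField s)) := ⟨D.obj.hom.fiberToSpecResidueField s⟩
      Curv2.genus (S'.residueField s) (D.obj.hom.fiber s) = g) :
    ∃ W : Over S, Nonempty ((Desc.toDD p).obj W ≅ D) := by
  haveI : Groth.Pi1Desc.IsCover p := inferInstance
  rcases Nat.eq_zero_or_pos g with rfl | hpos
  · exact Groth.Curves1.PolDesc.exists_iso_of_genus_zero D hdim hgen
  have key : ∀ s : S', IrreducibleSpace ↥(D.obj.hom.fiber s) ∧
      CohIII.fiberRank D.obj.hom (Coh.structureModule D.obj.left) 0 s = 1 ∧
      CohIII.fiberRank D.obj.hom (Coh.structureModule D.obj.left) 1 s = g := fun s => by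
    letI : (D.obj.hom.fiber s).Over (Spec (CommRingCat.of (S'.residueField s))) :=
      ⟨D.obj.hom.fiberToSpecResidueField s⟩
    haveI : IsProper ((D.obj.hom.fiber s) ↘ Spec (CommRingCat.of (S'.residueField s))) :=
      MorphismProperty.pullback_snd (P := @IsProper) _ _ ‹_›
    haveI : Smooth ((D.obj.hom.fiber s) ↘ Spec (CommRingCat.of (S'.residueField s))) :=
      MorphismProperty.pullback_snd (P := @Smooth) _ _ ‹_›
    haveI : GeometricallyConnected ((D.obj.hom.fiber s) ↘ Spec (CommRingCat.of (S'.residueField s))) :=
      MorphismProperty.pullback_snd (P := @GeometricallyConnected) _ _ ‹_›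
    haveI := Groth.PicAux.isIso_pullUnit (D.obj.hom.fiberι s)
    have hr : ∀ i, CohIII.fiberRank D.obj.hom (Coh.structureModule D.obj.left) i s =
        Module.finrank (S'.residueField s)
          (Coh.HH (D.obj.hom.fiber s) (Coh.structureModule (D.obj.hom.fiber s)) i) := fun i =>
      (Groth.EulerDeg.hEquiv (S'.residueField s)
        (asIso (Groth.PicAux.pullUnit (D.obj.hom.fiberι s))) i).finrank_eq
    have h0 := Groth.CurveBridge.h0_of_geometrically (S'.residueField s) (D.obj.hom.fiber s) (hdim s)
    haveI := Groth.Curves1.PolDesc.isIntegral_fibre D.obj.hom s (hdim s) h0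
    exact ⟨inferInstance, (hr 0).trans h0, (hr 1).trans (hgen s)⟩
  refine Groth.Curves1.PolDesc.exists_iso_of_two_le D (fun s => (key s).1) hdim (fun s => ?_)
  rw [(key s).2.1, (key s).2.2]
  omega

end Groth.Agent.S14472
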